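import Groth.Statements.S0079
import Mathlib.AlgebraicGeometry.Morphisms.FlatDescent

set_option autoImplicit false
open CategoryTheory CategoryTheory.Limits AlgebraicGeometry Opposite
universe u
open EtBase

namespace Groth.Agent.S0079

/-- Quasi-compactness of a morphism descends along a quasi-compact flat surjective base change: if the
base change of a morphism g along a quasi-compact, flat, surjective morphism to its target is
quasi-compact, then g is quasi-compact. (Stated for a single quasi-compact faithfully flat cover;
combined with Zariski-locality on the target this gives the fpqc-local form.) -/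
theorem result :
    MorphismProperty.DescendsAlong @QuasiCompact (@Surjective ⊓ @Flat ⊓ @QuasiCompact : MorphismProperty Scheme.{u}) := by
  refine IsZariskiLocalAtTarget.descendsAlong_inf_quasiCompact _ _ ?_ ?_
  · rw [inf_comm]
    exact inf_le_inf le_rfl (IsLocalIso.le_of_isZariskiLocalAtSource _)
  intro R S Y φ g ⟨hs, hfl⟩ hfst
  have : CompactSpace ↥(pullback (Spec.map φ) g : Scheme.{u}) := by
    rwa [← quasiCompact_iff_compactSpace (pullback.fst (Spec.map φ) g)]
  rw [quasiCompact_iff_compactSpace g]
  have : Surjective (Spec.map φ) := hs
  have hsurj : Function.Surjective (pullback.snd (Spec.map φ) g).base :=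
    (inferInstance : Surjective (pullback.snd (Spec.map φ) g)).surj
  exact hsurj.compactSpace (pullback.snd (Spec.map φ) g).continuous

end Groth.Agent.S0079
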