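import Groth.Statements.S0346
import Mathlib.CategoryTheory.Limits.Constructions.Over.Connected
import Mathlib.AlgebraicGeometry.Morphisms.QuasiSeparated
import Mathlib.AlgebraicGeometry.Morphisms.ClosedImmersion
import Mathlib.CategoryTheory.Monoidal.Cartesian.Grp

set_option autoImplicit false
universe u v
open CategoryTheory MonoidalCategory CartesianMonoidalCategory MonObj GrpObj AlgebraicGeometry
open GrpSch

namespace Groth.Agent.S0346

open CategoryTheory.Limits in
lemma isPullback_diag {C : Type*} [Category C] [CartesianMonoidalCategory C] (G : C) [GrpObj G] :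
    IsPullback (lift (𝟙 G) (𝟙 G)) (toUnit G) (fst G G / snd G G) η[G] := by
  have w : lift (𝟙 G) (𝟙 G) ≫ (fst G G / snd G G) = toUnit G ≫ η[G] := by
    rw [GrpObj.comp_div, lift_fst, lift_snd, div_self', Hom.one_def]
  refine IsPullback.of_isLimit' ⟨w⟩ (PullbackCone.IsLimit.mk w (fun s => s.fst ≫ fst G G) ?_ ?_ ?_)
  · intro s
    have h := s.condition
    rw [GrpObj.comp_div] at h
    have h1 : s.snd ≫ η[G] = 1 := by
      rw [Hom.one_def]; congr 1; exact toUnit_unique _ _
    rw [h1, div_eq_one] at h
    apply CartesianMonoidalCategory.hom_ext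
    · simp
    · simp [h]
  · intro s; exact toUnit_unique _ _
  · intro s m hm _
    rw [← hm]; simp


/-- A group scheme over any base scheme is separated over the base exactly when its unit section is a
closed immersion, and quasi-separated exactly when the unit section is quasi-compact. -/
theorem result (S : Scheme.{u}) (G : Over S) [GrpObj G] : (IsSeparated G.hom ↔ IsClosedImmersion η[G].left) ∧ (QuasiSeparated G.hom ↔ QuasiCompact η[G].left) := by
  have hpb := ((isPullback_diag G).map (Over.forget S)).flip
  simp only [Over.forget_map, Over.forget_obj] at hpb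
  have hdiag : (lift (𝟙 G) (𝟙 G)).left = Limits.pullback.diagonal G.hom := by
    rw [Over.lift_left]; rfl
  have hw : η[G].left ≫ G.hom = 𝟙 S := Over.w η[G]
  constructor
  · constructor
    · intro hsep
      haveI : IsClosedImmersion (η[G].left ≫ G.hom) := by
        rw [hw]; exact inferInstanceAs (IsClosedImmersion (𝟙 S))
      exact IsClosedImmersion.of_comp η[G].left G.hom
    · intro hci
      have h1 : IsClosedImmersion (lift (𝟙 G) (𝟙 G)).left :=
        MorphismProperty.of_isPullback (P := @IsClosedImmersion) hpb hci
      exact ⟨hdiag ▸ h1⟩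
  · constructor
    · intro hsep
      haveI : QuasiCompact (η[G].left ≫ G.hom) := by
        rw [hw]; exact inferInstanceAs (QuasiCompact (𝟙 S))
      exact QuasiCompact.of_comp η[G].left G.hom
    · intro hci
      have h1 : QuasiCompact (lift (𝟙 G) (𝟙 G)).left :=
        MorphismProperty.of_isPullback (P := @QuasiCompact) hpb hci
      exact ⟨hdiag ▸ h1⟩

end Groth.Agent.S0346
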