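import Groth.Statements.S4516
import Mathlib.RingTheory.Derivation.Basic

set_option autoImplicit false
universe u
open EGA41

namespace Groth.Agent.S4516

theorem D_eq_zero (p : ℕ) [Fact p.Prime] {A B : Type u} [CommRing A] [CommRing B] [Algebra A B]
    [CharP B p] (x : B) (hx : x ∈ EGA41.pPowerSubalgebra p A B) :
    KaehlerDifferential.D A B x = 0 := by
  unfold EGA41.pPowerSubalgebra at hx
  induction hx using Algebra.adjoin_induction with
  | mem x hx =>
    obtain ⟨b, rfl⟩ := hx
    rw [Derivation.leibniz_pow, ← Nat.cast_smul_eq_nsmul B, CharP.cast_eq_zero B p, zero_smul]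
  | algebraMap r => simp
  | add x y _ _ hx hy => rw [map_add, hx, hy, add_zero]
  | mul x y _ _ hx hy => rw [Derivation.leibniz, hx, hy]; simp

theorem aux (p : ℕ) [Fact p.Prime] {A B : Type u}
    [CommRing A] [CommRing B] [Algebra A B] [CharP B p] (A' : Subalgebra A B)
    (hA' : A' ≤ EGA41.pPowerSubalgebra p A B) :
    Function.Bijective (KaehlerDifferential.map A A' B B) := by
  refine ⟨?_, KaehlerDifferential.map_surjective A A' B⟩
  rw [← LinearMap.ker_eq_bot, ← KaehlerDifferential.range_mapBaseChange, LinearMap.range_eq_bot]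
  have hmap : KaehlerDifferential.map A A A' B = 0 := by
    apply Derivation.liftKaehlerDifferential_unique
    ext a'
    show KaehlerDifferential.map A A A' B (KaehlerDifferential.D A A' a') =
      (0 : Ω[A'⁄A] →ₗ[A'] Ω[B⁄A]) (KaehlerDifferential.D A A' a')
    rw [KaehlerDifferential.map_D, LinearMap.zero_apply]
    exact D_eq_zero p _ (hA' a'.2)
  ext x
  simp [hmap]


/-- Let p be a prime, B an A-algebra of characteristic p and A' an A-subalgebra of B contained in
A[B^p]. Then the canonical map between Ω_{B/A} and Ω_{B/A'} is bijective (every A-derivation of B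
vanishes on A[B^p]). -/
theorem result (p : ℕ) [Fact p.Prime] {A B : Type u}
    [CommRing A] [CommRing B] [Algebra A B] [CharP B p] (A' : Subalgebra A B)
    (hA' : A' ≤ EGA41.pPowerSubalgebra p A B) :
    Function.Bijective (KaehlerDifferential.map A A' B B) := by
  exact aux p A' hA'

end Groth.Agent.S4516
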