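import Groth.Statements.S2466
import Groth.Agent.H44.PBasisDer
import Groth.Agent.S4516
import Mathlib.RingTheory.Kaehler.Basic

set_option autoImplicit false
universe u
open EGA41

namespace Groth.Agent.S2466

/-- Let p be a prime, B an A-algebra of characteristic p and (x_α) a p-basis of B over A. Then the
family of differentials (d_{B/A} x_α) is a basis of the B-module Ω_{B/A}. -/
theorem result (p : ℕ) [Fact p.Prime] {A B : Type u} [CommRing A] [CommRing B] [Algebra A B] [CharP B p]
    {ι : Type u} (x : ι → B) (hx : EGA41.IsPBasis p A x) :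
    ∃ b : Module.Basis ι B (Ω[B⁄A]), ∀ i, b i = KaehlerDifferential.D A B (x i) := by
  classical
  have hp : p.Prime := Fact.out
  have hpB : (p : B) = 0 := CharP.cast_eq_zero B p
  let a : ι → EGA41.pPowerSubalgebra p A B :=
    fun i => ⟨x i ^ p, Groth.Agent.H44.PBasis.pow_mem_pPowerSubalgebra p (x i)⟩
  have ha : ∀ i, algebraMap (EGA41.pPowerSubalgebra p A B) B (a i) = x i ^ p := fun i => rfl
  have hli : LinearIndependent (EGA41.pPowerSubalgebra p A B)
      (Groth.Agent.H44.PBasis.redMono p x) := hx.1
  have hsp : Submodule.span (EGA41.pPowerSubalgebra p A B)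
      (Set.range (Groth.Agent.H44.PBasis.redMono p x)) = ⊤ := hx.2
  -- universal property for `A`-derivations
  have UPA : ∀ (L : Type u) [AddCommGroup L] [Module B L] [Module A L] [IsScalarTower A B L]
      (y : ι → L), (∃ D₁ : Derivation A B L, ∀ i, D₁ (x i) = y i) ∧
        ∀ D₁ D₂ : Derivation A B L, (∀ i, D₁ (x i) = D₂ (x i)) → D₁ = D₂ := by
    intro L _ _ _ _ y
    have hC : ∀ (D₁ : Derivation A B L) (c : EGA41.pPowerSubalgebra p A B),
        D₁ (c : B) = 0 := by
      intro D₁ c
      rw [← Derivation.liftKaehlerDifferential_comp_D D₁,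
        Groth.Agent.S4516.D_eq_zero p _ c.2, map_zero]
    constructor
    · obtain ⟨D', ⟨h0, hxy⟩, -⟩ := Groth.Agent.H44.PBasis.existsUnique_derivation hp.pos hpB x a
        ha hli hsp (0 : EGA41.pPowerSubalgebra p A B →+ L) (by simp) (by simp) y
      have h0' : ∀ r : A, D' (algebraMap A B r) = 0 := fun r =>
        h0 ⟨algebraMap A B r, Subalgebra.algebraMap_mem _ r⟩
      let lin : B →ₗ[A] L :=
        { toFun := fun b => D' b
          map_add' := fun b c => map_add D' b c
          map_smul' := fun r b => by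
            simp only [RingHom.id_apply]
            rw [Algebra.smul_def, D'.leibniz, h0' r, smul_zero, add_zero, algebraMap_smul] }
      exact ⟨Derivation.mk' lin (fun b c => D'.leibniz b c), fun i => hxy i⟩
    · intro D₁ D₂ h12
      obtain ⟨D', -, huniq⟩ := Groth.Agent.H44.PBasis.existsUnique_derivation hp.pos hpB x a
        ha hli hsp (0 : EGA41.pPowerSubalgebra p A B →+ L) (by simp) (by simp)
        (fun i => D₂ (x i))
      have e1 : D₁.restrictScalars ℤ = D' := huniq _ ⟨fun r => hC D₁ r, fun i => h12 i⟩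
      have e2 : D₂.restrictScalars ℤ = D' := huniq _ ⟨fun r => hC D₂ r, fun i => rfl⟩
      ext b
      have := Derivation.congr_fun (e1.trans e2.symm) b
      simpa using this
  obtain ⟨⟨D₁, hD₁⟩, -⟩ := UPA (ι →₀ B) (fun i => Finsupp.single i 1)
  obtain ⟨-, huniqΩ⟩ := UPA (Ω[B⁄A]) (fun i => KaehlerDifferential.D A B (x i))
  let φ : Ω[B⁄A] →ₗ[B] (ι →₀ B) := D₁.liftKaehlerDifferential
  let ψ : (ι →₀ B) →ₗ[B] Ω[B⁄A] :=
    Finsupp.linearCombination B (fun i => KaehlerDifferential.D A B (x i))
  have hφd : ∀ b, φ (KaehlerDifferential.D A B b) = D₁ b :=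
    fun b => Derivation.liftKaehlerDifferential_comp_D D₁ b
  have h1 : φ.comp ψ = LinearMap.id := by
    refine Finsupp.lhom_ext fun i b => ?_
    simp only [LinearMap.comp_apply, LinearMap.id_apply, ψ, Finsupp.linearCombination_single,
      map_smul, hφd, hD₁, Finsupp.smul_single_one]
  have h2 : ψ.comp φ = LinearMap.id := by
    apply Derivation.liftKaehlerDifferential_unique
    apply huniqΩ
    intro i
    show ψ (φ (KaehlerDifferential.D A B (x i))) = KaehlerDifferential.D A B (x i)
    rw [hφd, hD₁]
    simp only [ψ, Finsupp.linearCombination_single, one_smul]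
  refine ⟨Module.Basis.ofRepr (LinearEquiv.ofLinear φ ψ h1 h2), fun i => ?_⟩
  show ψ (Finsupp.single i 1) = KaehlerDifferential.D A B (x i)
  simp only [ψ, Finsupp.linearCombination_single, one_smul]

end Groth.Agent.S2466
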