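import Groth.Statements.S4541
import Groth.Agent.H44.PBasis
import Mathlib.RingTheory.Smooth.Basic
import Mathlib.FieldTheory.Perfect
import Mathlib.Algebra.CharP.Lemmas
import Mathlib.Algebra.CharP.Reduced

set_option autoImplicit false
universe u
open EGA41

namespace Groth.Agent.S4541

open Groth.Agent.H44.PBasis in
theorem exists_pow_eq (p : ℕ) [Fact p.Prime] {A B : Type u} [CommRing A] [CharP A p]
    [PerfectRing A p] [CommRing B] [Algebra A B] [CharP B p]
    (c : B) (hc : c ∈ EGA41.pPowerSubalgebra p A B) : ∃ b : B, b ^ p = c := by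
  unfold EGA41.pPowerSubalgebra at hc
  induction hc using Algebra.adjoin_induction with
  | mem y hy =>
    obtain ⟨b, rfl⟩ := hy
    exact ⟨b, rfl⟩
  | algebraMap a =>
    obtain ⟨α, hα⟩ := (PerfectRing.bijective_frobenius (R := A) (p := p)).2 a
    refine ⟨algebraMap A B α, ?_⟩
    rw [← map_pow]
    exact congrArg (algebraMap A B) hα
  | add y z _ _ hy hz =>
    obtain ⟨b₁, rfl⟩ := hy
    obtain ⟨b₂, rfl⟩ := hz
    exact ⟨b₁ + b₂, add_pow_char b₁ b₂ p⟩
  | mul y z _ _ hy hz =>
    obtain ⟨b₁, rfl⟩ := hy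
    obtain ⟨b₂, rfl⟩ := hz
    exact ⟨b₁ * b₂, mul_pow b₁ b₂ p⟩

open Groth.Agent.H44.PBasis in
theorem direct (p : ℕ) [Fact p.Prime] {A B : Type u} [CommRing A] [CharP A p]
    [PerfectRing A p] [CommRing B] [Algebra A B] [CharP B p] [IsReduced B]
    {ι : Type u} (x : ι → B) (hx : EGA41.IsPBasis p A x)
    {E E' : Type u} [CommRing E] [CommRing E'] [Algebra A E] [Algebra A E'] (π : E →ₐ[A] E')
    (hπ : Function.Surjective π) (hker : RingHom.ker π ^ p = ⊥)
    (v : B →ₐ[A] E') (z : ι → E) (hz : ∀ i, π (z i) = v (x i)) :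
    ∃! w : B →ₐ[A] E, π.comp w = v ∧ ∀ i, w (x i) = z i := by
  classical
  have hp : p.Prime := Fact.out
  have hpE : (p : E) = 0 := by
    rw [← map_natCast (algebraMap A E), CharP.cast_eq_zero A p, map_zero]
  have hadd : ∀ u w : E, (u + w) ^ p = u ^ p + w ^ p := fun u w => by
    rw [add_pow_prime_eq' hp, hpE, zero_mul, add_zero]
  have hfrob : ∀ b₁ b₂ : B, b₁ ^ p = b₂ ^ p → b₁ = b₂ := fun b₁ b₂ h => by
    have h0 : (b₁ - b₂) ^ p = 0 := by rw [sub_pow_char, h, sub_self]
    exact sub_eq_zero.mp (IsReduced.eq_zero _ ⟨p, h0⟩)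
  have hpowE : ∀ e₁ e₂ : E, π e₁ = π e₂ → e₁ ^ p = e₂ ^ p := by
    intro e₁ e₂ h
    have hk : e₁ - e₂ ∈ RingHom.ker π := by rw [RingHom.mem_ker, map_sub, h, sub_self]
    have hk0 : (e₁ - e₂) ^ p = 0 := by
      have := Ideal.pow_mem_pow hk p
      rwa [hker, Ideal.mem_bot] at this
    have he : e₂ + (e₁ - e₂) = e₁ := by ring
    calc e₁ ^ p = (e₂ + (e₁ - e₂)) ^ p := by rw [he]
      _ = e₂ ^ p + (e₁ - e₂) ^ p := hadd _ _
      _ = e₂ ^ p := by rw [hk0, add_zero]
  choose β hβ using fun c : EGA41.pPowerSubalgebra p A B => exists_pow_eq p (c : B) c.2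
  choose lift hlift using hπ
  let g₀ : EGA41.pPowerSubalgebra p A B → E := fun c => lift (v (β c)) ^ p
  have hstar : ∀ (e : E) (b : B) (c : EGA41.pPowerSubalgebra p A B), (c : B) = b ^ p →
      π e = v b → g₀ c = e ^ p := by
    intro e b c hc he
    have hb : β c = b := hfrob _ _ (by rw [hβ c, hc])
    show lift (v (β c)) ^ p = e ^ p
    rw [hb]
    exact hpowE _ _ (by rw [hlift, he])
  let g : EGA41.pPowerSubalgebra p A B →+* E :=
    { toFun := g₀
      map_one' := (hstar 1 1 1 (by simp) (by simp)).trans (one_pow p)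
      map_mul' := fun c₁ c₂ =>
        (hstar (lift (v (β c₁)) * lift (v (β c₂))) (β c₁ * β c₂) (c₁ * c₂)
          (by simp [mul_pow, hβ]) (by rw [map_mul, hlift, hlift, map_mul])).trans (mul_pow _ _ _)
      map_zero' := (hstar 0 0 0 (by simp [hp.ne_zero]) (by simp)).trans (zero_pow hp.ne_zero)
      map_add' := fun c₁ c₂ =>
        (hstar (lift (v (β c₁)) + lift (v (β c₂))) (β c₁ + β c₂) (c₁ + c₂)
          (by simp [add_pow_char, hβ]) (by rw [map_add, hlift, hlift, map_add])).trans (hadd _ _) }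
  have hgg : ∀ c, g c = g₀ c := fun c => rfl
  have hgA : ∀ s : A, g (algebraMap A (EGA41.pPowerSubalgebra p A B) s) = algebraMap A E s := by
    intro s
    obtain ⟨α, hα⟩ := (PerfectRing.bijective_frobenius (R := A) (p := p)).2 s
    have hα' : α ^ p = s := hα
    have h := hstar (algebraMap A E α) (algebraMap A B α)
      (algebraMap A (EGA41.pPowerSubalgebra p A B) s) (by
        show algebraMap A B s = _
        rw [← map_pow, hα']) (by rw [AlgHom.commutes, AlgHom.commutes])
    rw [hgg, h, ← map_pow, hα']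
  let a' : ι → EGA41.pPowerSubalgebra p A B :=
    fun i => ⟨x i ^ p, pow_mem_pPowerSubalgebra p (x i)⟩
  have hli : LinearIndependent (EGA41.pPowerSubalgebra p A B) (redMono p x) := hx.1
  have hsp : Submodule.span (EGA41.pPowerSubalgebra p A B) (Set.range (redMono p x)) = ⊤ := hx.2
  have hz' : ∀ i, z i ^ p = g (a' i) := fun i => (hstar (z i) (x i) (a' i) rfl (hz i)).symm
  obtain ⟨w₀, ⟨hw1, hw2⟩, hwuniq⟩ := existsUnique_ringHom hp.pos x a' (fun i => rfl) hli hsp g z hz'
  have hw1' : ∀ c, w₀ (algebraMap (EGA41.pPowerSubalgebra p A B) B c) = g c :=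
    fun c => RingHom.congr_fun hw1 c
  let w : B →ₐ[A] E :=
    { w₀ with
      commutes' := fun s =>
        (hw1' (algebraMap A (EGA41.pPowerSubalgebra p A B) s)).trans (hgA s) }
  have hww : ∀ b, w b = w₀ b := fun b => rfl
  let gv : EGA41.pPowerSubalgebra p A B →+* E' :=
    v.toRingHom.comp (algebraMap (EGA41.pPowerSubalgebra p A B) B)
  have hgv : ∀ c, gv c = v (c : B) := fun c => rfl
  have hzv : ∀ i, v (x i) ^ p = gv (a' i) := fun i => by
    rw [hgv, ← map_pow]
  obtain ⟨u, -, huuniq⟩ := existsUnique_ringHom hp.pos x a' (fun i => rfl) hli hsp gv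
    (fun i => v (x i)) hzv
  have hπg : ∀ c, π (g c) = v (c : B) := fun c => by
    rw [hgg]
    show π (lift (v (β c)) ^ p) = v (c : B)
    rw [map_pow, hlift, ← map_pow, hβ]
  have e1 : (π.comp w).toRingHom = u := huuniq _ ⟨RingHom.ext fun c => by
      show π (w₀ (algebraMap (EGA41.pPowerSubalgebra p A B) B c)) = gv c
      rw [hw1', hπg, hgv], fun i => by
      show π (w₀ (x i)) = v (x i)
      rw [hw2, hz]⟩
  have e2 : v.toRingHom = u := huuniq _ ⟨rfl, fun i => rfl⟩
  have hπw : π.comp w = v := by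
    ext b
    have := RingHom.congr_fun (e1.trans e2.symm) b
    simpa using this
  refine ⟨w, ⟨hπw, fun i => hw2 i⟩, ?_⟩
  rintro w' ⟨hw'1, hw'2⟩
  have hπw' : ∀ b, π (w' b) = v b := fun b => by
    have := congrArg (fun h => h b) hw'1
    simpa using this
  have hw'w : w'.toRingHom = w₀ := hwuniq _ ⟨RingHom.ext fun c => by
      show w' (c : B) = g c
      have hc := hβ c
      rw [hgg, hstar (w' (β c)) (β c) c hc.symm (hπw' _), ← map_pow, hc], fun i => hw'2 i⟩
  ext b
  exact RingHom.congr_fun hw'w b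

theorem main (p : ℕ) [Fact p.Prime] {A B : Type u} [CommRing A] [CharP A p]
    [PerfectRing A p] [CommRing B] [Algebra A B] [CharP B p] [IsReduced B]
    {ι : Type u} (x : ι → B) (hx : EGA41.IsPBasis p A x) (n : ℕ) :
    ∀ (E E' : Type u) [CommRing E] [CommRing E'] [Algebra A E] [Algebra A E'] (π : E →ₐ[A] E')
      (_ : Function.Surjective π) (_ : RingHom.ker π ^ n = ⊥)
      (v : B →ₐ[A] E') (z : ι → E) (_ : ∀ i, π (z i) = v (x i)),
      ∃! w : B →ₐ[A] E, π.comp w = v ∧ ∀ i, w (x i) = z i := by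
  have hp : p.Prime := Fact.out
  induction n with
  | zero =>
    intro E E' _ _ _ _ π hπ hker v z hz
    refine direct p x hx π hπ ?_ v z hz
    rw [← le_bot_iff, ← hker]
    exact Ideal.pow_le_pow_right (Nat.zero_le p)
  | succ n ih =>
    intro E E' _ _ _ _ π hπ hker v z hz
    by_cases hnp : n + 1 ≤ p
    · refine direct p x hx π hπ ?_ v z hz
      rw [← le_bot_iff, ← hker]
      exact Ideal.pow_le_pow_right hnp
    · rw [not_le] at hnp
      have hp2 := hp.two_le
      have hn2 : 2 ≤ n := by omega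
      have hKn : RingHom.ker π ^ n ≤ RingHom.ker π := Ideal.pow_le_self (by omega)
      let π₁ : E →ₐ[A] E ⧸ RingHom.ker π ^ n := Ideal.Quotient.mkₐ A (RingHom.ker π ^ n)
      let π₂ : (E ⧸ RingHom.ker π ^ n) →ₐ[A] E' :=
        Ideal.Quotient.liftₐ (RingHom.ker π ^ n) π (fun e he => (RingHom.mem_ker).mp (hKn he))
      have hπ₂ : ∀ e, π₂ (π₁ e) = π e := fun e => rfl
      have hπ₂s : Function.Surjective π₂ := fun e' => by
        obtain ⟨e, rfl⟩ := hπ e'
        exact ⟨π₁ e, hπ₂ e⟩
      have hker₂ : RingHom.ker π₂ ^ n = ⊥ := by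
        have hle : RingHom.ker π₂ ≤
            (RingHom.ker π).map (Ideal.Quotient.mk (RingHom.ker π ^ n)) := by
          intro q hq
          obtain ⟨e, rfl⟩ := Ideal.Quotient.mk_surjective q
          have he : π e = 0 := (RingHom.mem_ker).mp hq
          exact Ideal.mem_map_of_mem _ ((RingHom.mem_ker).mpr he)
        rw [← le_bot_iff]
        calc RingHom.ker π₂ ^ n
            ≤ ((RingHom.ker π).map (Ideal.Quotient.mk (RingHom.ker π ^ n))) ^ n :=
              Ideal.pow_right_mono hle n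
          _ = (RingHom.ker π ^ n).map (Ideal.Quotient.mk (RingHom.ker π ^ n)) :=
              (Ideal.map_pow _ _ _).symm
          _ = ⊥ := Ideal.map_quotient_self _
      have hker₁ : RingHom.ker π₁ ^ p = ⊥ := by
        have h1 : RingHom.ker π₁ = RingHom.ker π ^ n := Ideal.ext fun e => by
          rw [RingHom.mem_ker]
          exact Ideal.Quotient.eq_zero_iff_mem
        rw [h1, ← pow_mul, ← le_bot_iff, ← hker]
        exact Ideal.pow_le_pow_right (by nlinarith)
      obtain ⟨w', ⟨hw'1, hw'2⟩, hw'uniq⟩ := ih (E ⧸ RingHom.ker π ^ n) E' π₂ hπ₂s hker₂ v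
        (fun i => π₁ (z i)) (fun i => by rw [hπ₂]; exact hz i)
      obtain ⟨w, ⟨hw1, hw2⟩, hwuniq⟩ := direct p x hx π₁
        (Ideal.Quotient.mkₐ_surjective A _) hker₁ w' z (fun i => (hw'2 i).symm)
      have hcomp : π = π₂.comp π₁ := by
        ext e
        rfl
      refine ⟨w, ⟨?_, hw2⟩, ?_⟩
      · rw [hcomp, AlgHom.comp_assoc, hw1, hw'1]
      · rintro w₂ ⟨h1, h2⟩
        apply hwuniq
        refine ⟨hw'uniq _ ⟨?_, fun i => ?_⟩, h2⟩
        · rw [← AlgHom.comp_assoc, ← hcomp, h1]
        · show π₁ (w₂ (x i)) = π₁ (z i)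
          rw [h2]


/-- Let p be a prime, A a perfect ring of characteristic p and B a reduced A-algebra of characteristic p
which admits a p-basis (x_α) over A. Then B is a formally smooth A-algebra (discrete topologies);
more precisely, for every A-algebra E, every nilpotent ideal R of E, every A-algebra homomorphism v
: B → E/R and every family (z_α) of elements of E lifting the v(x_α), there is a unique A-algebra
homomorphism w : B → E lifting v with w(x_α) = z_α for all α. (The published statement assumes,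
instead of A perfect and B reduced, that the canonical map A^(p) ⊗_A B → B^(p), a ⊗ b ↦ a b^p with
Frobenius-twisted structures, is injective; when A is perfect that condition says exactly that B is
reduced, which is the case stated here. The published statement also treats admissible topological
E; only discrete E is stated.) -/
theorem result (p : ℕ) [Fact p.Prime] {A B : Type u} [CommRing A] [CharP A p]
    [PerfectRing A p] [CommRing B] [Algebra A B] [CharP B p] [IsReduced B]
    {ι : Type u} (x : ι → B) (hx : EGA41.IsPBasis p A x) :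
    Algebra.FormallySmooth A B ∧
    ∀ (E : Type u) [CommRing E] [Algebra A E] (R : Ideal E), IsNilpotent R →
      ∀ (v : B →ₐ[A] E ⧸ R) (z : ι → E), (∀ i, Ideal.Quotient.mk R (z i) = v (x i)) →
        ∃! w : B →ₐ[A] E, (Ideal.Quotient.mkₐ A R).comp w = v ∧ ∀ i, w (x i) = z i := by
  have key : ∀ (E : Type u) [CommRing E] [Algebra A E] (R : Ideal E), IsNilpotent R →
      ∀ (v : B →ₐ[A] E ⧸ R) (z : ι → E), (∀ i, Ideal.Quotient.mk R (z i) = v (x i)) →
        ∃! w : B →ₐ[A] E, (Ideal.Quotient.mkₐ A R).comp w = v ∧ ∀ i, w (x i) = z i := by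
    intro E _ _ R hR v z hz
    obtain ⟨n, hn⟩ := hR
    have hker : RingHom.ker (Ideal.Quotient.mkₐ A R) ^ n = ⊥ := by
      have h1 : RingHom.ker (Ideal.Quotient.mkₐ A R) = R := Ideal.ext fun e => by
        rw [RingHom.mem_ker]
        exact Ideal.Quotient.eq_zero_iff_mem
      rw [h1, hn, Ideal.zero_eq_bot]
    exact main p x hx n E (E ⧸ R) (Ideal.Quotient.mkₐ A R) (Ideal.Quotient.mkₐ_surjective A R)
      hker v z hz
  refine ⟨?_, key⟩
  apply Algebra.FormallySmooth.of_comp_surjective
  intro E _ _ I hI v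
  choose z hz using fun i => Ideal.Quotient.mk_surjective (v (x i))
  obtain ⟨w, ⟨hw, -⟩, -⟩ := key E I ⟨2, by rw [hI, Ideal.zero_eq_bot]⟩ v z hz
  exact ⟨w, hw⟩

end Groth.Agent.S4541
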