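import Groth.Statements.S9412
import Mathlib

set_option autoImplicit false
universe u
open EGA4

namespace Groth.Agent.S9412


open scoped TensorProduct

theorem isNormalRing_of_isLocalization {R : Type u} [CommRing R] (N : Submonoid R) (R' : Type u)
    [CommRing R'] [Algebra R R'] [IsLocalization N R'] (h : EGA4.IsNormalRing R) :
    EGA4.IsNormalRing R' := by
  intro q hq
  haveI hloc : IsLocalization.AtPrime (Localization.AtPrime q) (q.comap (algebraMap R R')) :=
    IsLocalization.isLocalization_isLocalization_atPrime_isLocalization N
      (Localization.AtPrime q) q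
  let e : Localization.AtPrime (q.comap (algebraMap R R')) ≃ₐ[R] Localization.AtPrime q :=
    IsLocalization.algEquiv (q.comap (algebraMap R R')).primeCompl _ _
  obtain ⟨hd, hic⟩ := h (q.comap (algebraMap R R'))
  exact ⟨e.symm.toMulEquiv.isDomain _, IsIntegrallyClosed.of_equiv e.toRingEquiv⟩

theorem isLocalization_tensor (k : Type u) [Field k] (A : Type u) [CommRing A]
    [Algebra k A] (M : Submonoid A) (B : Type u) [CommRing B] [Algebra A B] [IsLocalization M B]
    [Algebra k B] [IsScalarTower k A B] (k' : Type u) [Field k'] [Algebra k k'] :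
    letI : Algebra (k' ⊗[k] A) (k' ⊗[k] B) :=
      (Algebra.TensorProduct.map (AlgHom.id k' k') (IsScalarTower.toAlgHom k A B)).toRingHom.toAlgebra
    IsLocalization (M.map (Algebra.TensorProduct.includeRight (R := k) (A := k') (B := A)))
      (k' ⊗[k] B) := by
  letI : Algebra (k' ⊗[k] A) (k' ⊗[k] B) :=
    (Algebra.TensorProduct.map (AlgHom.id k' k') (IsScalarTower.toAlgHom k A B)).toRingHom.toAlgebra
  haveI : IsScalarTower k' (k' ⊗[k] A) (k' ⊗[k] B) := by
    refine IsScalarTower.of_algebraMap_eq' ?_
    ext x
    simp [RingHom.algebraMap_toAlgebra, Algebra.TensorProduct.algebraMap_apply]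
  refine IsLocalization.tensorProduct_tensorProduct_right k k' M B ?_
  ext a
  simp [RingHom.algebraMap_toAlgebra]


/-- A localization of a geometrically normal algebra over a field k is geometrically normal over k. -/
theorem result (k : Type u) [Field k] (A : Type u) [CommRing A]
    [Algebra k A] (M : Submonoid A) (B : Type u) [CommRing B] [Algebra A B] [IsLocalization M B]
    [Algebra k B] [IsScalarTower k A B] (h : EGA4.IsGeomNormal k A) :
    EGA4.IsGeomNormal k B := by
  intro k' _ _ hfin
  letI : Algebra (k' ⊗[k] A) (k' ⊗[k] B) :=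
    (Algebra.TensorProduct.map (AlgHom.id k' k') (IsScalarTower.toAlgHom k A B)).toRingHom.toAlgebra
  haveI := isLocalization_tensor k A M B k'
  exact isNormalRing_of_isLocalization
    (M.map (Algebra.TensorProduct.includeRight (R := k) (A := k') (B := A))) _ (h k' hfin)

end Groth.Agent.S9412
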