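import Groth.Statements.S1182
import Groth.Agent.H47.SmoothNormal
import Groth.Agent.H13.FlatNormal

set_option autoImplicit false
universe u
open Desc

namespace Groth.Agent.S1182

/-- Let A → B be a smooth ring map. If A is a normal ring (all local rings integrally closed domains)
then so is B; and if moreover A → B is faithfully flat and B is normal, then A is normal. So
normality can be checked smooth-locally. -/
theorem result (A B : Type u) [CommRing A] [CommRing B] [Algebra A B] [Algebra.Smooth A B] :
    (EGA4.IsNormalRing A → EGA4.IsNormalRing B) ∧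
    (Module.FaithfullyFlat A B → EGA4.IsNormalRing B → EGA4.IsNormalRing A) := by
  refine ⟨fun hA P _ => ?_, fun hff hB p _ => ?_⟩
  · haveI : (P.comap (algebraMap A B)).IsPrime := Ideal.comap_isPrime _ _
    obtain ⟨hd, hic⟩ := hA (P.comap (algebraMap A B))
    exact Groth.Agent.H47.EtaleNormal.isDomain_isIntegrallyClosed_atPrime_of_smooth_of_under A B P
      (P.comap (algebraMap A B)) rfl
  · haveI := hff
    obtain ⟨⟨P, hP⟩, hPp⟩ := PrimeSpectrum.comap_surjective_of_faithfullyFlat (A := A) (B := B)
      ⟨p, inferInstance⟩
    have hp : p = P.comap (algebraMap A B) := (congrArg PrimeSpectrum.asIdeal hPp).symm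
    haveI := hP
    obtain ⟨hd, hic⟩ := hB P
    have hflat : (Localization.localRingHom p P (algebraMap A B) hp).Flat :=
      RingHom.Flat.localRingHom (f := algebraMap A B)
        (RingHom.flat_algebraMap_iff.mpr inferInstance) P p hp
    exact Groth.Agent.H13.isDomain_isIntegrallyClosed_of_flat_of_isLocalHom
      (Localization.localRingHom p P (algebraMap A B) hp) hflat

end Groth.Agent.S1182
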