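import Groth.Statements.S15048
import Groth.Agent.H1.FinHopf.Deligne

set_option autoImplicit false
universe u v
open Hopf

namespace Groth.Agent.S15048

/-- Let R be a commutative ring and A a commutative and cocommutative Hopf algebra over R which is
finitely generated and projective as an R-module and has rank n at every prime of R (a commutative
finite locally free group scheme G = Spec A over Spec R of constant order n). Then n kills G: in the
convolution group of R-algebra endomorphisms of A the n-th power of the identity is the neutral
element, the counit followed by the unit; equivalently every point g of G with values in an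
R-algebra satisfies gⁿ = 1. (The published setting has a Noetherian base ring; the argument is the
same for any commutative base ring, which is allowed here.) -/
theorem result (R : Type u) [CommRing R] (A : Type v) [CommRing A] [HopfAlgebra R A]
    [Coalgebra.IsCocomm R A] [Module.Finite R A] [Module.Projective R A] (n : ℕ)
    (hn : ∀ p : PrimeSpectrum R, Module.rankAtStalk A p = n) :
    (WithConv.toConv (AlgHom.id R A)) ^ n = 1 := by
  classical
  have hpsi : ∀ x : A, Groth.Agent.H1.FinHopf.psi R A n x =
      algebraMap R A (Coalgebra.counit (R := R) x) := by
    intro x
    apply Module.eq_of_localization_maximal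
      (fun P _ => TensorProduct R (Localization.AtPrime P) A)
      (fun P _ => TensorProduct.mk R (Localization.AtPrime P) A 1)
    intro P hP
    show TensorProduct.tmul R (1 : Localization.AtPrime P) (Groth.Agent.H1.FinHopf.psi R A n x) =
      TensorProduct.tmul R (1 : Localization.AtPrime P) (algebraMap R A (Coalgebra.counit (R := R) x))
    apply Groth.Agent.H1.FinHopf.inc_psi_eq (Localization.AtPrime P) n
    haveI : Module.Free (Localization.AtPrime P) (TensorProduct R (Localization.AtPrime P) A) :=
      Module.free_of_flat_of_isLocalRing
    have hcard : Fintype.card (Module.Free.ChooseBasisIndex (Localization.AtPrime P)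
        (TensorProduct R (Localization.AtPrime P) A)) = n := by
      rw [← Module.finrank_eq_card_chooseBasisIndex]
      have h1 := Module.rankAtStalk_eq_finrank_tensorProduct (R := R) (M := A)
        (⟨P, hP.isPrime⟩ : PrimeSpectrum R)
      rw [hn] at h1
      exact h1.symm
    have h2 := Groth.Agent.H1.FinHopf.convPow_card_eq_one
      (Module.Free.chooseBasis (Localization.AtPrime P) (TensorProduct R (Localization.AtPrime P) A))
      (WithConv.toConv (AlgHom.id (Localization.AtPrime P) (TensorProduct R (Localization.AtPrime P) A)))
    rw [hcard] at h2
    exact h2
  apply WithConv.ofConv_injective
  apply AlgHom.ext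
  intro x
  exact hpsi x

end Groth.Agent.S15048
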