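import Groth.Statements.S16071
import Mathlib.Tactic.Ring
import Mathlib.Algebra.CharP.Invertible
import Mathlib.Data.Nat.Prime.Factorial
import Mathlib.LinearAlgebra.Dual.Basis
import Mathlib.LinearAlgebra.TensorProduct.Basis

set_option autoImplicit false
set_option linter.unusedSectionVars false
universe u
open CartDual

namespace Groth.Agent.S16071

open TensorProduct

section General
variable (R : Type u) [CommRing R] (A : Type u) [AddCommGroup A] [Module R A]

theorem D_ext {x y : CartDual.D R A} (h : ∀ a, x a = y a) : x = y := by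
  apply WithConv.ext
  apply LinearMap.ext
  intro a
  exact h a

end General

section
variable (p : ℕ) [hp : Fact p.Prime] (R : Type u) [CommRing R] [CharP R p] [Nontrivial R]

theorem one_lt : 1 < p := hp.out.one_lt

theorem D_ext_pow {y z : CartDual.D R (AlphaP.A p R)}
    (h : ∀ i, i < p → y (AlphaP.x p R ^ i) = z (AlphaP.x p R ^ i)) : y = z := by
  apply WithConv.ext
  apply (AlphaP.basis p R).ext
  intro i
  rw [AlphaP.basis_apply]
  exact h i i.2

/-- The linear form dual to `x`. -/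
noncomputable def ξ : CartDual.D R (AlphaP.A p R) :=
  WithConv.toConv ((AlphaP.basis p R).coord ⟨1, one_lt p⟩)

theorem ξ_x_pow (i : ℕ) (hi : i < p) :
    ξ p R (AlphaP.x p R ^ i) = if i = 1 then 1 else 0 := by
  have h : AlphaP.x p R ^ i = AlphaP.basis p R ⟨i, hi⟩ := by rw [AlphaP.basis_apply]
  rw [h]
  change (AlphaP.basis p R).coord ⟨1, one_lt p⟩ (AlphaP.basis p R ⟨i, hi⟩) = _
  rw [Module.Basis.coord_apply, Module.Basis.repr_self, Finsupp.single_apply]
  simp only [Fin.mk.injEq]

theorem counit_x_pow (i : ℕ) :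
    Coalgebra.counit (R := R) (AlphaP.x p R ^ i) = if i = 0 then 1 else 0 := by
  rw [← Bialgebra.counitAlgHom_apply, map_pow, Bialgebra.counitAlgHom_apply, AlphaP.counit_x,
    zero_pow_eq]

theorem comul_x_pow (n : ℕ) :
    Coalgebra.comul (R := R) (AlphaP.x p R ^ n) =
      (AlphaP.x p R ⊗ₜ[R] 1 + 1 ⊗ₜ[R] AlphaP.x p R) ^ n := by
  rw [← Bialgebra.comulAlgHom_apply, map_pow, Bialgebra.comulAlgHom_apply, AlphaP.comul_x]

theorem Λ_term (η ζ : CartDual.D R (AlphaP.A p R)) (m k c : ℕ) :
    LinearMap.mul' R R (TensorProduct.map η.ofConv ζ.ofConv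
      ((AlphaP.x p R ⊗ₜ[R] (1 : AlphaP.A p R)) ^ m * ((1 : AlphaP.A p R) ⊗ₜ[R] AlphaP.x p R) ^ k *
        (c : AlphaP.A p R ⊗[R] AlphaP.A p R))) =
      (c : R) * (η (AlphaP.x p R ^ m) * ζ (AlphaP.x p R ^ k)) := by
  rw [Algebra.TensorProduct.tmul_pow, Algebra.TensorProduct.tmul_pow, one_pow, one_pow,
    Algebra.TensorProduct.tmul_mul_tmul, mul_one, one_mul, mul_comm, ← nsmul_eq_mul, map_nsmul,
    map_nsmul, TensorProduct.map_tmul, LinearMap.mul'_apply, nsmul_eq_mul]

theorem conv_apply_x_pow (η ζ : CartDual.D R (AlphaP.A p R)) (n : ℕ) :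
    (η * ζ) (AlphaP.x p R ^ n) =
      ∑ m ∈ Finset.range (n + 1),
        (n.choose m : R) * (η (AlphaP.x p R ^ m) * ζ (AlphaP.x p R ^ (n - m))) := by
  rw [LinearMap.convMul_apply, comul_x_pow, add_pow, map_sum, map_sum]
  refine Finset.sum_congr rfl fun m _ => ?_
  exact Λ_term p R η ζ m (n - m) (n.choose m)

theorem conv_ξ_apply_zero (η : CartDual.D R (AlphaP.A p R)) :
    (η * ξ p R) (AlphaP.x p R ^ 0) = 0 := by
  rw [conv_apply_x_pow]
  simp only [zero_add, Finset.range_one, Finset.sum_singleton, Nat.choose_self, Nat.cast_one, one_mul,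
    Nat.sub_self]
  rw [ξ_x_pow p R 0 (hp.out.pos)]
  simp

theorem conv_ξ_apply_succ (η : CartDual.D R (AlphaP.A p R)) (i : ℕ) (hi : i + 1 < p) :
    (η * ξ p R) (AlphaP.x p R ^ (i + 1)) = ((i + 1 : ℕ) : R) * η (AlphaP.x p R ^ i) := by
  rw [conv_apply_x_pow, Finset.sum_eq_single i]
  · rw [Nat.choose_succ_self_right, Nat.add_sub_cancel_left, ξ_x_pow p R 1 (one_lt p), if_pos rfl,
      mul_one]
  · intro m hm hmi
    have hm' : m ≤ i + 1 := Nat.lt_succ_iff.mp (Finset.mem_range.mp hm)
    rw [ξ_x_pow p R (i + 1 - m) (by omega), if_neg (by omega), mul_zero, mul_zero]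
  · intro h
    exact absurd (Finset.mem_range.mpr (by omega)) h

theorem ξ_pow_apply (k : ℕ) : ∀ i, i < p →
    (ξ p R ^ k) (AlphaP.x p R ^ i) = if i = k then (k.factorial : R) else 0 := by
  induction k with
  | zero =>
    intro i _
    rw [pow_zero, LinearMap.convOne_apply, counit_x_pow, Nat.factorial_zero, Nat.cast_one]
    rfl
  | succ k ih =>
    intro i hi
    rw [pow_succ]
    cases i with
    | zero =>
      rw [conv_ξ_apply_zero, if_neg (by omega)]
    | succ j =>
      rw [conv_ξ_apply_succ p R _ j hi, ih j (by omega)]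
      by_cases hjk : j = k
      · subst hjk
        rw [if_pos rfl, if_pos rfl, Nat.factorial_succ, Nat.cast_mul]
      · rw [if_neg hjk, if_neg (by omega), mul_zero]

theorem ξ_pow_p : ξ p R ^ p = 0 := by
  apply D_ext_pow
  intro i hi
  rw [ξ_pow_apply p R p i hi, if_neg (by omega)]
  rfl

/-- The algebra map `A → D(A)`, `x ↦ ξ`. -/
noncomputable def ψ : AlphaP.A p R →ₐ[R] CartDual.D R (AlphaP.A p R) :=
  AlphaP.lift p R (ξ p R) (ξ_pow_p p R)

theorem ψ_x : ψ p R (AlphaP.x p R) = ξ p R := AlphaP.lift_x _ _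

theorem ψ_x_pow (k : ℕ) : ψ p R (AlphaP.x p R ^ k) = ξ p R ^ k := by
  rw [map_pow, ψ_x]

theorem ξ_one : ξ p R (1 : AlphaP.A p R) = 0 := by
  have := ξ_x_pow p R 0 hp.out.pos
  rw [pow_zero] at this
  rw [this, if_neg (by omega)]

theorem ψ_counit :
    (Bialgebra.counitAlgHom R (CartDual.D R (AlphaP.A p R))).comp (ψ p R) =
      Bialgebra.counitAlgHom R (AlphaP.A p R) := by
  apply AlphaP.algHom_ext
  rw [AlgHom.comp_apply, ψ_x]
  simp only [Bialgebra.counitAlgHom_apply, CartDual.coalgebra_counit_apply, AlphaP.counit_x]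
  exact ξ_one p R

theorem comul_ξ : Coalgebra.comul (R := R) (ξ p R) =
    ξ p R ⊗ₜ[R] (1 : CartDual.D R (AlphaP.A p R)) + (1 : CartDual.D R (AlphaP.A p R)) ⊗ₜ[R] ξ p R := by
  apply (CartDual.ev₂ R (AlphaP.A p R)).injective
  apply ((AlphaP.basis p R).tensorProduct (AlphaP.basis p R)).ext
  rintro ⟨i, j⟩
  rw [Module.Basis.tensorProduct_apply, AlphaP.basis_apply, AlphaP.basis_apply,
    CartDual.ev₂_coalgebra_comul_tmul, map_add, LinearMap.add_apply, CartDual.ev₂_tmul,
    CartDual.ev₂_tmul, LinearMap.convOne_apply, LinearMap.convOne_apply, counit_x_pow, counit_x_pow,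
    ξ_x_pow p R i i.2, ξ_x_pow p R j j.2, ← pow_add]
  by_cases hij : (i : ℕ) + j < p
  · rw [ξ_x_pow p R _ hij]
    simp only [Algebra.algebraMap_self, RingHom.id_apply]
    have hi := i.2
    have hj := j.2
    split_ifs <;> first | omega | simp
  · rw [AlphaP.x_pow_of_le p R (not_lt.mp hij)]
    have h2 := one_lt p
    have : ξ p R (0 : AlphaP.A p R) = 0 := map_zero (ξ p R).ofConv
    rw [this]
    simp only [Algebra.algebraMap_self, RingHom.id_apply]
    split_ifs <;> first | omega | simp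

theorem ψ_comul :
    (Algebra.TensorProduct.map (ψ p R) (ψ p R)).comp (Bialgebra.comulAlgHom R (AlphaP.A p R)) =
      (Bialgebra.comulAlgHom R (CartDual.D R (AlphaP.A p R))).comp (ψ p R) := by
  apply AlphaP.algHom_ext
  rw [AlgHom.comp_apply, AlgHom.comp_apply, ψ_x]
  simp only [Bialgebra.comulAlgHom_apply, AlphaP.comul_x, comul_ξ]
  rw [map_add, Algebra.TensorProduct.map_tmul, Algebra.TensorProduct.map_tmul, ψ_x, map_one]

/-- `ψ` as a bialgebra map. -/
noncomputable def ψc : AlphaP.A p R →ₐc[R] CartDual.D R (AlphaP.A p R) :=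
  BialgHom.ofAlgHom (ψ p R) (ψ_counit p R) (ψ_comul p R)

theorem isUnit_factorial (k : ℕ) (hk : k < p) : IsUnit ((k.factorial : ℕ) : R) := by
  rw [CharP.isUnit_natCast_iff hp.out]
  intro h
  exact absurd ((Nat.Prime.dvd_factorial hp.out).mp h) (not_le.mpr hk)

/-- The target basis: unit multiples of the dual basis. -/
noncomputable def b' : Module.Basis (Fin p) R (CartDual.D R (AlphaP.A p R)) :=
  ((AlphaP.basis p R).dualBasis.unitsSMul
    (fun i => (isUnit_factorial p R i i.2).unit)).map (CartDual.toDual R (AlphaP.A p R)).symm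

theorem b'_apply (i : Fin p) : b' p R i = ξ p R ^ (i : ℕ) := by
  apply D_ext_pow
  intro j hj
  rw [ξ_pow_apply p R i j hj]
  have h : AlphaP.x p R ^ j = AlphaP.basis p R ⟨j, hj⟩ := by rw [AlphaP.basis_apply]
  rw [h]
  change ((AlphaP.basis p R).dualBasis.unitsSMul
    (fun i => (isUnit_factorial p R i i.2).unit) i) (AlphaP.basis p R ⟨j, hj⟩) = _
  rw [Module.Basis.unitsSMul_apply, LinearMap.smul_apply, Module.Basis.dualBasis_apply_self]
  by_cases hji : j = (i : ℕ)
  · have : (⟨j, hj⟩ : Fin p) = i := Fin.ext hji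
    rw [if_pos this, if_pos hji]
    simp [Units.smul_def]
  · have : ¬ ((⟨j, hj⟩ : Fin p) = i) := fun h => hji (by rw [← h])
    rw [if_neg this, if_neg hji, smul_zero]

theorem ψ_bijective : Function.Bijective (ψ p R) := by
  have h : (ψ p R).toLinearMap =
      ((AlphaP.basis p R).equiv (b' p R) (Equiv.refl _)).toLinearMap := by
    apply (AlphaP.basis p R).ext
    intro i
    rw [LinearEquiv.coe_coe, Module.Basis.equiv_apply, Equiv.refl_apply, b'_apply,
      AlgHom.toLinearMap_apply, AlphaP.basis_apply, ψ_x_pow]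
  have h' : ⇑(ψ p R) = ⇑((AlphaP.basis p R).equiv (b' p R) (Equiv.refl _)) := by
    funext a
    exact LinearMap.congr_fun h a
  rw [h']
  exact LinearEquiv.bijective _

end


/-- Let p be a prime, R a commutative ring of characteristic p and A = R[X]/(X^p) the Hopf algebra of
α_p over Spec R, with X primitive. Then the Cartier dual of α_p is again α_p: there is a bialgebra
isomorphism e from the dual Hopf algebra Hom_R(A, R), with the transposed structure maps, to A,
whose inverse sends X to the linear form dual to X with respect to the basis 1, X, …, X^{p-1} of A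
(so e⁻¹(X) takes the value 1 on X and 0 on the other powers X^i, i < p). (Any commutative base ring
of characteristic p is allowed.) -/
theorem result (p : ℕ) [Fact p.Prime] (R : Type u) [CommRing R] [CharP R p] :
    ∃ e : CartDual.D R (AlphaP.A p R) ≃ₐc[R] AlphaP.A p R,
      ∀ i : ℕ, i < p → (e.symm (AlphaP.x p R)) (AlphaP.x p R ^ i) = if i = 1 then 1 else 0 := by
  have : Nontrivial R := CharP.nontrivial_of_char_ne_one (R := R) (v := p) (Fact.out : p.Prime).ne_one
  let E : AlphaP.A p R ≃ₐc[R] CartDual.D R (AlphaP.A p R) :=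
    BialgEquiv.ofBijective (ψc p R) (ψ_bijective p R)
  refine ⟨E.symm, fun i hi => ?_⟩
  change (ψ p R (AlphaP.x p R)) (AlphaP.x p R ^ i) = _
  rw [ψ_x, ξ_x_pow p R i hi]

end Groth.Agent.S16071
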