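import Groth.Statements.S15889

set_option autoImplicit false
universe u
open Versch

namespace Groth.Agent.S15889


section helpers
open TensorProduct
variable (p : ℕ) [Fact p.Prime] (R : Type u) [CommRing R] [CharP R p]
  (A : Type u) [CommRing A] [HopfAlgebra R A]

theorem relFrob_tmul [CharP A p] (b : A) (t : FrobAlg.Twist p R) :
    FrobAlg.relFrob p R A (b ⊗ₜ t) = b ^ p * algebraMap R A ((FrobAlg.toTwist p R).symm t) := by
  simp [FrobAlg.relFrob, FrobAlg.frobHom, FrobAlg.inclHom, Algebra.TensorProduct.lift_tmul]
  rfl

variable {R A}

theorem exists_dualBasis [Module.Finite R A] [Module.Projective R A] :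
    ∃ (n : ℕ) (e : Fin n → A) (e' : Fin n → CartDual.D R A),
      ∀ a : A, a = ∑ i, e i * algebraMap R A (e' i a) := by
  classical
  obtain ⟨n, f, g, -, -, hfg⟩ := Module.Finite.exists_comp_eq_id_of_projective R A
  refine ⟨n, fun i => f (fun j => if i = j then 1 else 0),
    fun i => WithConv.toConv (LinearMap.proj i ∘ₗ g), fun a => ?_⟩
  have h1 : f (g a) = a := by
    rw [← LinearMap.comp_apply, hfg]
    rfl
  rw [LinearMap.pi_apply_eq_sum_univ] at h1
  conv_lhs => rw [← h1]
  apply Finset.sum_congr rfl
  intro i _
  rw [Algebra.smul_def, mul_comm]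
  rfl

variable [Coalgebra.IsCocomm R A]

noncomputable def phi : CartDual.D R A →* WithConv (A →ₗ[R] A) where
  toFun x := WithConv.toConv ((Algebra.ofId R A).toLinearMap ∘ₗ x.ofConv)
  map_one' := by
    apply WithConv.ofConv_injective
    ext a
    simp [LinearMap.convOne_def]
  map_mul' x y := by
    apply WithConv.ofConv_injective
    exact LinearMap.algHom_comp_convMul_distrib (Algebra.ofId R A) x y

theorem phi_apply (x : CartDual.D R A) (a : A) :
    (phi x).ofConv a = algebraMap R A (x a) := rfl

theorem charP_conv [CharP A p] : CharP (WithConv (A →ₗ[R] A)) p := by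
  apply charP_of_injective_algebraMap (R := A) _ p
  intro s s' h
  have h1 := congrArg (fun t : WithConv (A →ₗ[R] A) => t.ofConv 1) h
  simpa [LinearMap.convAlgebraMap_apply] using h1

theorem powConv_apply [CharP A p] (n : ℕ) (e : Fin n → A) (e' : Fin n → CartDual.D R A)
    (hdual : ∀ a : A, a = ∑ i, e i * algebraMap R A (e' i a)) (a : A) :
    SGA3b.powConv R A p a = ∑ i, e i ^ p * algebraMap R A ((e' i ^ p) a) := by
  have := charP_conv (R := R) (A := A) p
  have hid : (WithConv.toConv (LinearMap.id : A →ₗ[R] A)) = ∑ i, e i • phi (e' i) := by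
    apply WithConv.ofConv_injective
    rw [WithConv.ofConv_toConv, WithConv.ofConv_sum]
    ext b
    simp only [LinearMap.id_apply, LinearMap.sum_apply, WithConv.ofConv_smul, LinearMap.smul_apply,
      phi_apply, smul_eq_mul]
    exact hdual b
  have hpow : (WithConv.toConv (LinearMap.id : A →ₗ[R] A)) ^ p =
      ∑ i, e i ^ p • phi (e' i ^ p) := by
    rw [hid, sum_pow_char]
    apply Finset.sum_congr rfl
    intro i _
    rw [smul_pow, map_pow]
  have h1 : WithConv.toConv (SGA3b.powConv R A p).toLinearMap =
      (WithConv.toConv (LinearMap.id : A →ₗ[R] A)) ^ p := by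
    have := AlgHom.toLinearMap_convPow (WithConv.toConv (AlgHom.id R A)) p
    simp [SGA3b.powConv] at this ⊢
  have h2 : (SGA3b.powConv R A p).toLinearMap = (∑ i, e i ^ p • phi (e' i ^ p)).ofConv := by
    rw [← hpow, ← h1]
  have h3 := LinearMap.congr_fun h2 a
  rw [WithConv.ofConv_sum, LinearMap.sum_apply] at h3
  simp only [WithConv.ofConv_smul, LinearMap.smul_apply, phi_apply, smul_eq_mul] at h3
  exact h3

end helpers

/-- Let p be a prime, R a commutative ring of characteristic p and A a commutative and cocommutative
Hopf algebra over R which is finitely generated and projective as an R-module, of characteristic p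
(a finite locally free commutative group scheme G = Spec A over S = Spec R). Let v : A → A ⊗_R
R^(Frob) be the comorphism of the Verschiebung V : G^(p) → G, i.e. the ring map whose transpose
under the canonical pairing is the relative Frobenius of the dual Hopf algebra. Then the composite
of the relative Frobenius comorphism A^(p) → A with v is the p-th convolution power of the identity
of A: V ∘ F = [p] is multiplication by p on G. (The published notes work over a Noetherian base
ring; the row allows any commutative base ring of characteristic p.) -/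
theorem result (p : ℕ) [Fact p.Prime] (R : Type u) [CommRing R] [CharP R p]
    (A : Type u) [CommRing A] [HopfAlgebra R A] [Coalgebra.IsCocomm R A] [Module.Finite R A] [Module.Projective R A]
    [CharP A p] (v : A →+* FrobAlg.BaseChange p R A) (hv : Versch.IsVerschiebung p R A v) :
    (FrobAlg.relFrob p R A).comp v = (SGA3b.powConv R A p).toRingHom := by
  classical
  rw [Versch.isVerschiebung_iff] at hv
  obtain ⟨n, e, e', hdual⟩ := exists_dualBasis (R := R) (A := A)
  have keyA : ∀ z : FrobAlg.BaseChange p R A, FrobAlg.relFrob p R A z =
      ∑ i, e i ^ p * algebraMap R A ((FrobAlg.toTwist p R).symm (Versch.evTw p R A (e' i) z)) := by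
    intro z
    induction z using TensorProduct.induction_on with
    | zero => simp
    | tmul b t =>
      rw [relFrob_tmul]
      conv_lhs => rw [hdual b, sum_pow_char, Finset.sum_mul]
      apply Finset.sum_congr rfl
      intro i _
      rw [Versch.evTw_tmul', map_mul, RingEquiv.symm_apply_apply, map_mul, map_pow, mul_pow]
      ring
    | add z z' hz hz' =>
      rw [map_add, hz, hz', ← Finset.sum_add_distrib]
      apply Finset.sum_congr rfl
      intro i _
      rw [map_add, map_add, map_add, mul_add]
  apply RingHom.ext
  intro a
  change FrobAlg.relFrob p R A (v a) = SGA3b.powConv R A p a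
  rw [keyA, powConv_apply p n e e' hdual]
  apply Finset.sum_congr rfl
  intro i _
  rw [hv, RingEquiv.symm_apply_apply]

end Groth.Agent.S15889
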