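import Groth.Statements.S15891
import Groth.Agent.S15889

set_option autoImplicit false
universe u
open scoped TensorProduct
open Versch

namespace Groth.Agent.S15891


section helpers
open TensorProduct

section bc
variable {R : Type u} [CommRing R] {A : Type u} [CommRing A] [HopfAlgebra R A]
  (S : Type u) [CommRing S] [Algebra R S]

noncomputable def bc (f : A →ₐ[R] A) : S ⊗[R] A →ₐ[S] S ⊗[R] A :=
  Algebra.TensorProduct.map (AlgHom.id S S) f

theorem bc_tmul (f : A →ₐ[R] A) (s : S) (a : A) : bc S f (s ⊗ₜ a) = s ⊗ₜ f a := by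
  simp [bc]

theorem algHom_convMul_apply_repr (f g : WithConv (A →ₐ[R] A)) (a : A) :
    (f * g).ofConv a = ∑ i ∈ (Coalgebra.Repr.arbitrary R a).index,
      f.ofConv ((Coalgebra.Repr.arbitrary R a).left i) *
        g.ofConv ((Coalgebra.Repr.arbitrary R a).right i) := by
  have h := AlgHom.convMul_apply f g a
  rw [← (Coalgebra.Repr.arbitrary R a).eq, map_sum] at h
  simpa using h

theorem bc_mul (f g : WithConv (A →ₐ[R] A)) :
    WithConv.toConv (bc S f.ofConv) * WithConv.toConv (bc S g.ofConv) =
      WithConv.toConv (bc S (f * g).ofConv) := by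
  apply WithConv.ofConv_injective
  apply Algebra.TensorProduct.ext'
  intro s a
  have hs : (s ⊗ₜ[R] a : S ⊗[R] A) = s • ((1 : S) ⊗ₜ[R] a) := by
    rw [TensorProduct.smul_tmul', smul_eq_mul, mul_one]
  rw [hs, map_smul, map_smul]
  congr 1
  have hL : (WithConv.toConv (bc S f.ofConv) * WithConv.toConv (bc S g.ofConv)).ofConv
      ((1 : S) ⊗ₜ[R] a) = (1 : S) ⊗ₜ[R] ((f * g).ofConv a) := by
    rw [algHom_convMul_apply_repr f g a]
    have h := AlgHom.convMul_apply (WithConv.toConv (bc S f.ofConv))
      (WithConv.toConv (bc S g.ofConv)) ((1 : S) ⊗ₜ[R] a)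
    refine h.trans ?_
    rw [TensorProduct.comul_tmul, ← (Coalgebra.Repr.arbitrary R a).eq]
    simp [TensorProduct.tmul_sum, bc_tmul]
  rw [WithConv.ofConv_toConv, bc_tmul]
  exact hL

theorem bc_one : (1 : WithConv (S ⊗[R] A →ₐ[S] S ⊗[R] A)) =
    WithConv.toConv (bc S (1 : WithConv (A →ₐ[R] A)).ofConv) := by
  apply WithConv.ofConv_injective
  apply Algebra.TensorProduct.ext'
  intro s a
  have hs : (s ⊗ₜ[R] a : S ⊗[R] A) = s • ((1 : S) ⊗ₜ[R] a) := by
    rw [TensorProduct.smul_tmul', smul_eq_mul, mul_one]
  rw [hs, map_smul, map_smul]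
  congr 1
  rw [WithConv.ofConv_toConv, bc_tmul]
  simp [Algebra.algebraMap_eq_smul_one, Algebra.TensorProduct.one_def]

theorem bc_pow (f : WithConv (A →ₐ[R] A)) (n : ℕ) :
    WithConv.toConv (bc S f.ofConv) ^ n = WithConv.toConv (bc S (f ^ n).ofConv) := by
  induction n with
  | zero => rw [pow_zero, pow_zero, bc_one]
  | succ n ih => rw [pow_succ, pow_succ, ih, bc_mul]

theorem powConv_baseChange (n : ℕ) (s : S) (a : A) :
    SGA3b.powConv S (S ⊗[R] A) n (s ⊗ₜ a) = s ⊗ₜ SGA3b.powConv R A n a := by
  have h1 : bc S (AlgHom.id R A) = AlgHom.id S (S ⊗[R] A) := by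
    simp [bc]
  have h2 := bc_pow S (WithConv.toConv (AlgHom.id R A)) n
  rw [WithConv.ofConv_toConv, h1] at h2
  unfold SGA3b.powConv
  rw [h2, WithConv.ofConv_toConv, bc_tmul]

end bc

variable (p : ℕ) [Fact p.Prime] (R : Type u) [CommRing R] [CharP R p]
  (A : Type u) [CommRing A] [HopfAlgebra R A]

theorem pow_p_eq [CharP A p] (z : FrobAlg.BaseChange p R A) :
    z ^ p = FrobAlg.relFrob p R A z ⊗ₜ[R] (1 : FrobAlg.Twist p R) := by
  have hp0 : ((p : ℕ) : FrobAlg.BaseChange p R A) = 0 := by
    have h : ((p : ℕ) : FrobAlg.BaseChange p R A) =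
        algebraMap R (FrobAlg.BaseChange p R A) ((p : ℕ) : R) := by rw [map_natCast]
    rw [h, CharP.cast_eq_zero, map_zero]
  induction z using TensorProduct.induction_on with
  | zero => rw [zero_pow (Fact.out : p.Prime).ne_zero, map_zero, TensorProduct.zero_tmul]
  | tmul b t =>
    rw [Algebra.TensorProduct.tmul_pow, Groth.Agent.S15889.relFrob_tmul]
    have ht : t ^ p = algebraMap R (FrobAlg.Twist p R) ((FrobAlg.toTwist p R).symm t) := by
      rw [FrobAlg.algebraMap_twist, map_pow, RingEquiv.apply_symm_apply]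
    rw [ht]
    calc (b ^ p) ⊗ₜ[R] (algebraMap R (FrobAlg.Twist p R) ((FrobAlg.toTwist p R).symm t))
        = (b ^ p) ⊗ₜ[R] (((FrobAlg.toTwist p R).symm t) • (1 : FrobAlg.Twist p R)) := by
          rw [← Algebra.algebraMap_eq_smul_one]
      _ = (((FrobAlg.toTwist p R).symm t) • (b ^ p)) ⊗ₜ[R] (1 : FrobAlg.Twist p R) := by
          rw [TensorProduct.smul_tmul]
      _ = (b ^ p * algebraMap R A ((FrobAlg.toTwist p R).symm t)) ⊗ₜ[R] (1 : FrobAlg.Twist p R) := by
          rw [Algebra.smul_def, mul_comm]
  | add z z' hz hz' =>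
    obtain ⟨r, hr⟩ := exists_add_pow_prime_eq (Fact.out : p.Prime) z z'
    rw [hr, hp0, zero_mul, zero_mul, zero_mul, add_zero, hz, hz', map_add, TensorProduct.add_tmul]

variable [Coalgebra.IsCocomm R A] [Module.Finite R A] [Module.Projective R A]

theorem v_algebraMap (v : A →+* FrobAlg.BaseChange p R A) (hv : Versch.IsVerschiebung p R A v)
    (r : R) : v (algebraMap R A r) = (1 : A) ⊗ₜ[R] FrobAlg.toTwist p R r := by
  rw [Versch.isVerschiebung_iff] at hv
  apply Versch.evTw_injective p R A
  intro x
  rw [hv, Versch.evTw_tmul']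
  have h1 : (x ^ p) (algebraMap R A r) = r * (x ^ p) 1 := by
    rw [Algebra.algebraMap_eq_smul_one, CartDual.coe_apply, map_smul, smul_eq_mul]
  have h2 : (x ^ p) 1 = (x 1) ^ p := by
    have h := map_pow (Bialgebra.counitAlgHom R (CartDual.D R A)) x p
    exact h
  rw [h1, h2, map_mul, mul_comm]

end helpers

/-- Let p be a prime, R a commutative ring of characteristic p and A a commutative and cocommutative
Hopf algebra over R which is finitely generated and projective as an R-module, of characteristic p
(a finite locally free commutative group scheme G = Spec A over S = Spec R), and let v : A → A^(p) =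
A ⊗_R R^(Frob) be the comorphism of the Verschiebung V : G^(p) → G (the ring map whose transpose
under the canonical pairing is the relative Frobenius of the dual Hopf algebra). Then F ∘ V = [p] is
multiplication by p on the S-group G^(p): the ring endomorphism v ∘ F* of A^(p), where F* : A^(p) →
A is the relative Frobenius comorphism, transported along the symmetry A ⊗_R R^(Frob) ≅ R^(Frob) ⊗_R
A, is the p-th convolution power of the identity of the Hopf algebra R^(Frob) ⊗_R A over R^(Frob)
(the base change of A along the Frobenius of R). (The published notes work over a Noetherian base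
ring; the row allows any commutative base ring of characteristic p.) -/
theorem result (p : ℕ) [Fact p.Prime] (R : Type u) [CommRing R] [CharP R p]
    (A : Type u) [CommRing A] [HopfAlgebra R A] [Coalgebra.IsCocomm R A] [Module.Finite R A] [Module.Projective R A]
    [CharP A p] (v : A →+* FrobAlg.BaseChange p R A) (hv : Versch.IsVerschiebung p R A v) :
    ((Algebra.TensorProduct.comm R A (FrobAlg.Twist p R)).toRingEquiv.toRingHom.comp
        ((v.comp (FrobAlg.relFrob p R A)).comp
          (Algebra.TensorProduct.comm R A (FrobAlg.Twist p R)).symm.toRingEquiv.toRingHom)) =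
      (SGA3b.powConv (FrobAlg.Twist p R) (FrobAlg.Twist p R ⊗[R] A) p).toRingHom := by
  have h89 := Groth.Agent.S15889.result p R A v hv
  apply RingHom.ext
  intro z
  induction z using TensorProduct.induction_on with
  | zero => simp
  | tmul t a =>
    change (Algebra.TensorProduct.comm R A (FrobAlg.Twist p R))
      (v (FrobAlg.relFrob p R A ((Algebra.TensorProduct.comm R A (FrobAlg.Twist p R)).symm (t ⊗ₜ a)))) =
      SGA3b.powConv (FrobAlg.Twist p R) (FrobAlg.Twist p R ⊗[R] A) p (t ⊗ₜ a)
    rw [powConv_baseChange, Algebra.TensorProduct.comm_symm_tmul,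
      Groth.Agent.S15889.relFrob_tmul, map_mul, map_pow, v_algebraMap p R A v hv, pow_p_eq,
      RingEquiv.apply_symm_apply, Algebra.TensorProduct.tmul_mul_tmul, mul_one, one_mul,
      Algebra.TensorProduct.comm_tmul]
    congr 1
    exact RingHom.congr_fun h89 a
  | add z z' hz hz' => rw [map_add, map_add, hz, hz']

end Groth.Agent.S15891
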