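import Groth.Statements.S4103
import Mathlib
import Groth.Agent.H83.TkGeneral

set_option autoImplicit false
universe u
open CategoryTheory MonoidalCategory CartesianMonoidalCategory MonObj GrpObj AlgebraicGeometry CategoryTheory.Limits
open SGA3

namespace Groth.Agent.S4103

open scoped TensorProduct

theorem map_eq' {k : Type u} [Field k] {A : Type u} [CommRing A] [HopfAlgebra k A]
    (B : Subalgebra k A) (w : B ⊗[k] B) :
    Groth.Agent.H1.FinHopf.incl₂ B w =
      TensorProduct.map B.val.toLinearMap B.val.toLinearMap w := by
  induction w using TensorProduct.induction_on with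
  | zero => simp
  | tmul a b => rfl
  | add x y hx hy => rw [map_add, map_add, hx, hy]

/-- Let A be a commutative Hopf algebra over a field k and B a sub-Hopf-algebra of A (a subalgebra
stable under comultiplication and antipode). Then A is faithfully flat as a B-module. -/
theorem result (k : Type u) [Field k] (A : Type u) [CommRing A] [HopfAlgebra k A]
    (B : Subalgebra k A) (hB : SGA3.IsHopfSubalgebra k A B) : Module.FaithfullyFlat ↥B A := by
  have hS : ∀ b ∈ B, Coalgebra.comul (R := k) b ∈ (Groth.Agent.H1.FinHopf.incl₂ B).range := by
    intro b hb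
    obtain ⟨w, hw⟩ := hB.1 b hb
    exact ⟨w, (map_eq' B w).trans hw⟩
  exact Groth.Agent.H83.Tk.hopfSub_faithfullyFlat k A B hS hB.2

end Groth.Agent.S4103
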