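import Groth.Statements.S14637
import Mathlib

set_option autoImplicit false
universe u
open CategoryTheory MonoidalCategory CartesianMonoidalCategory MonObj GrpObj AlgebraicGeometry CategoryTheory.Limits
open AlgGrp

namespace Groth.Agent.S14637
open LaurentPolynomial TensorProduct

section Units

/-- Units of a Laurent polynomial ring over a domain are monomials. -/
theorem isUnit_laurent {R : Type*} [CommRing R] [IsDomain R] (f : R[T;T⁻¹]) (hf : IsUnit f) :
    ∃ (r : R) (n : ℤ), IsUnit r ∧ f = C r * T n := by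
  obtain ⟨g, hfg⟩ := hf.exists_right_inv
  obtain ⟨n, p, hp⟩ := LaurentPolynomial.exists_T_pow f
  obtain ⟨m, q, hq⟩ := LaurentPolynomial.exists_T_pow g
  have hpq : p * q = Polynomial.X ^ (n + m) := by
    apply Polynomial.toLaurent_injective
    rw [map_mul, hp, hq, Polynomial.toLaurent_X_pow]
    calc f * T n * (g * T m) = (f * g) * (T n * T m) := by ring
      _ = T ((n + m : ℕ) : ℤ) := by rw [hfg, _root_.one_mul, ← T_add, Nat.cast_add]
  obtain ⟨i, -, hassoc⟩ := (dvd_prime_pow Polynomial.prime_X _).mp (Dvd.intro q hpq)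
  obtain ⟨u, hu⟩ := hassoc.symm
  obtain ⟨a, ha, hau⟩ := Polynomial.isUnit_iff.mp u.isUnit
  refine ⟨a, (i : ℤ) - n, ha, ?_⟩
  have h1 : f * T n = T i * C a := by
    rw [← hp, ← hu, ← hau, map_mul, Polynomial.toLaurent_X_pow, Polynomial.toLaurent_C]
  calc f = f * T n * T (-(n : ℤ)) := by rw [mul_T_assoc, add_neg_cancel, T_zero, _root_.mul_one]
    _ = T i * C a * T (-(n : ℤ)) := by rw [h1]
    _ = C a * T ((i : ℤ) - n) := by rw [mul_comm (T (i : ℤ)) (C a), mul_T_assoc, sub_eq_add_neg]

theorem isUnit_tensor {k : Type u} [Field k]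
    (v : LaurentPolynomial k ⊗[k] LaurentPolynomial k) (hv : IsUnit v) :
    ∃ (c : k) (a b : ℤ), v = (C c * T a) ⊗ₜ[k] (T b) := by
  let Ψ := AddMonoidAlgebra.scalarTensorEquiv k (LaurentPolynomial k) (M := ℤ)
  obtain ⟨r, b, hr, hΨ⟩ := isUnit_laurent (Ψ v) (hv.map Ψ)
  obtain ⟨c, a, hc, hr'⟩ := isUnit_laurent r hr
  refine ⟨c, a, b, ?_⟩
  calc v = Ψ.symm (Ψ v) := (Ψ.symm_apply_apply v).symm
    _ = Ψ.symm (AddMonoidAlgebra.single b r) := by rw [hΨ, ← single_eq_C_mul_T]
    _ = r ⊗ₜ[k] AddMonoidAlgebra.single b 1 :=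
        AddMonoidAlgebra.scalarTensorEquiv_symm_single ..
    _ = (C c * T a) ⊗ₜ[k] T b := by rw [hr']; rfl

theorem map_T_eq_one {R : Type*} [CommRing R] {A : Type*} [CommRing A]
    (f : LaurentPolynomial R →+* A) (h : f (T 1) = 1) (n : ℤ) : f (T n) = 1 := by
  induction n using Int.induction_on with
  | zero => rw [T_zero, map_one]
  | succ i ih => rw [T_add, map_mul, ih, h, _root_.one_mul]
  | pred i ih =>
    have h2 : f (T (-(i : ℤ) - 1)) * f (T 1) = f (T (-(i : ℤ))) := by
      rw [← map_mul, ← T_add]; congr 2; ring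
    rw [h, _root_.mul_one] at h2
    rw [h2, ih]

theorem T_one_eq {k : Type*} [Field k] (c : k) (b : ℤ)
    (h : (T 1 : LaurentPolynomial k) = C c * T b) : b = 1 ∧ c = 1 := by
  rw [← single_eq_C_mul_T] at h
  have h' : (AddMonoidAlgebra.single (1 : ℤ) (1 : k)) = AddMonoidAlgebra.single b c := h
  rcases AddMonoidAlgebra.single_inj.mp h' with ⟨h1, h2⟩ | ⟨h1, -⟩
  · exact ⟨h1.symm, h2.symm⟩
  · exact absurd h1 one_ne_zero

end Units

section Geometry

variable {k : Type u} [Field k] (G : Over (Spec (CommRingCat.of k)))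
  (e : G.left ≅ Spec (CommRingCat.of (LaurentPolynomial k)))

/-- The ring homomorphism `k[T,T⁻¹] → Γ(X)` attached to a point `x : X ⟶ G`. -/
noncomputable def phi {X : Over (Spec (CommRingCat.of k))} (x : X ⟶ G) :
    CommRingCat.of (LaurentPolynomial k) ⟶ Γ(X.left, ⊤) :=
  (Scheme.ΓSpecIso (CommRingCat.of (LaurentPolynomial k))).inv ≫ (x.left ≫ e.hom).appTop

theorem phi_comp {X Y : Over (Spec (CommRingCat.of k))} (f : Y ⟶ X) (x : X ⟶ G) :
    phi G e (f ≫ x) = phi G e x ≫ f.left.appTop := by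
  simp only [phi, Over.comp_left, Category.assoc, Scheme.Hom.comp_appTop]

theorem phi_comp_apply {X Y : Over (Spec (CommRingCat.of k))} (f : Y ⟶ X) (x : X ⟶ G)
    (t : LaurentPolynomial k) :
    f.left.appTop.hom ((phi G e x).hom t) = (phi G e (f ≫ x)).hom t := by
  rw [phi_comp]; rfl

/-- The structure map `k → Γ(X)`. -/
noncomputable def kap (X : Over (Spec (CommRingCat.of k))) :
    CommRingCat.of k ⟶ Γ(X.left, ⊤) :=
  (Scheme.ΓSpecIso (CommRingCat.of k)).inv ≫ X.hom.appTop

theorem phi_algebraMap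
    (he : e.hom ≫ Spec.map (CommRingCat.ofHom (algebraMap k (LaurentPolynomial k))) = G.hom)
    {X : Over (Spec (CommRingCat.of k))} (x : X ⟶ G) :
    CommRingCat.ofHom (algebraMap k (LaurentPolynomial k)) ≫ phi G e x = kap X := by
  unfold phi kap
  rw [← Category.assoc, Scheme.ΓSpecIso_inv_naturality, Category.assoc,
    ← Scheme.Hom.comp_appTop, Category.assoc, he, Over.w x]

theorem phi_C
    (he : e.hom ≫ Spec.map (CommRingCat.ofHom (algebraMap k (LaurentPolynomial k))) = G.hom)
    {X : Over (Spec (CommRingCat.of k))} (x : X ⟶ G) (c : k) :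
    (phi G e x).hom (C c) = (kap X).hom c :=
  congrArg (fun f => f.hom c) (phi_algebraMap G e he x)

theorem phi_id_injective : Function.Injective (phi G e (𝟙 G)).hom := by
  have h : phi G e (𝟙 G) ≫ (e.inv.appTop ≫
      (Scheme.ΓSpecIso (CommRingCat.of (LaurentPolynomial k))).hom) = 𝟙 _ := by
    unfold phi
    rw [Over.id_left, Category.id_comp, Category.assoc, ← Category.assoc e.hom.appTop,
      ← Scheme.Hom.comp_appTop, e.inv_hom_id, Scheme.Hom.id_appTop, Category.id_comp,
      Iso.inv_hom_id]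
  have hx : ∀ z, (e.inv.appTop ≫
      (Scheme.ΓSpecIso (CommRingCat.of (LaurentPolynomial k))).hom).hom
        ((phi G e (𝟙 G)).hom z) = z := fun z => congrArg (fun f => f.hom z) h
  intro x y hxy
  rw [← hx x, ← hx y, hxy]

theorem exists_psi
    (he : e.hom ≫ Spec.map (CommRingCat.ofHom (algebraMap k (LaurentPolynomial k))) = G.hom) :
    ∃ (ψc : CommRingCat.of (LaurentPolynomial k ⊗[k] LaurentPolynomial k) ⟶ Γ((G ⊗ G).left, ⊤))
      (ψi : Γ((G ⊗ G).left, ⊤) ⟶ CommRingCat.of (LaurentPolynomial k ⊗[k] LaurentPolynomial k)),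
      ψi ≫ ψc = 𝟙 _ ∧
      CommRingCat.ofHom (Algebra.TensorProduct.includeLeftRingHom :
          LaurentPolynomial k →+* LaurentPolynomial k ⊗[k] LaurentPolynomial k) ≫ ψc =
        phi G e (fst G G) ∧
      CommRingCat.ofHom (RingHomClass.toRingHom (Algebra.TensorProduct.includeRight :
          LaurentPolynomial k →ₐ[k] LaurentPolynomial k ⊗[k] LaurentPolynomial k)) ≫ ψc =
        phi G e (snd G G) := by
  have hPB : IsPullback (pullback.fst G.hom G.hom ≫ e.hom) (pullback.snd G.hom G.hom ≫ e.hom)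
      (Spec.map (CommRingCat.ofHom (algebraMap k (LaurentPolynomial k))))
      (Spec.map (CommRingCat.ofHom (algebraMap k (LaurentPolynomial k)))) := by
    refine IsPullback.of_iso (IsPullback.of_hasPullback G.hom G.hom) (Iso.refl _) e e
      (Iso.refl _) ?_ ?_ ?_ ?_
    · simp
    · simp
    · simp [he]
    · simp [he]
  let Φ : (G ⊗ G).left ≅
      Spec (CommRingCat.of (LaurentPolynomial k ⊗[k] LaurentPolynomial k)) :=
    hPB.isoPullback ≪≫ pullbackSpecIso k (LaurentPolynomial k) (LaurentPolynomial k)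
  have hΦ1 : Φ.hom ≫ Spec.map (CommRingCat.ofHom (Algebra.TensorProduct.includeLeftRingHom :
      LaurentPolynomial k →+* LaurentPolynomial k ⊗[k] LaurentPolynomial k)) =
      (fst G G).left ≫ e.hom := by
    simp only [Φ, Iso.trans_hom, Category.assoc, pullbackSpecIso_hom_fst,
      IsPullback.isoPullback_hom_fst]
    rfl
  have hΦ2 : Φ.hom ≫ Spec.map (CommRingCat.ofHom (RingHomClass.toRingHom
      (Algebra.TensorProduct.includeRight :
        LaurentPolynomial k →ₐ[k] LaurentPolynomial k ⊗[k] LaurentPolynomial k))) =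
      (snd G G).left ≫ e.hom := by
    simp only [Φ, Iso.trans_hom, Category.assoc, pullbackSpecIso_hom_snd,
      IsPullback.isoPullback_hom_snd]
    rfl
  refine ⟨(Scheme.ΓSpecIso _).inv ≫ Φ.hom.appTop, Φ.inv.appTop ≫ (Scheme.ΓSpecIso _).hom,
    ?_, ?_, ?_⟩
  · rw [Category.assoc, Iso.hom_inv_id_assoc, ← Scheme.Hom.comp_appTop, Φ.hom_inv_id,
      Scheme.Hom.id_appTop]
  · unfold phi
    rw [← Category.assoc, Scheme.ΓSpecIso_inv_naturality, Category.assoc,
      ← Scheme.Hom.comp_appTop, hΦ1]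
  · unfold phi
    rw [← Category.assoc, Scheme.ΓSpecIso_inv_naturality, Category.assoc,
      ← Scheme.Hom.comp_appTop, hΦ2]

end Geometry

/-- Over a field k, the only structure of algebraic group on the punctured affine line Spec k[T, T⁻¹]
with unit element the point T = 1 is the multiplicative group. Precisely: let G be a k-group scheme
and e an isomorphism of k-schemes from the underlying scheme of G to Spec k[T, T⁻¹] under which the
unit section has T-coordinate 1; then for every k-scheme S and all S-valued points g, h of G, the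
T-coordinate of g · h (the pull-back of the global function T along the point composed with e) is
the product of the T-coordinates of g and of h. -/
theorem result (k : Type u) [Field k]
    (G : Over (Spec (CommRingCat.of k))) [GrpObj G]
    (e : G.left ≅ Spec (CommRingCat.of (LaurentPolynomial k)))
    (he : e.hom ≫ Spec.map (CommRingCat.ofHom (algebraMap k (LaurentPolynomial k))) = G.hom)
    (hunit : ((η[G]).left ≫ e.hom).appTop.hom ((Scheme.ΓSpecIso (CommRingCat.of (LaurentPolynomial k))).inv.hom (LaurentPolynomial.T 1)) = 1)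
    (S : Over (Spec (CommRingCat.of k))) (g h : S ⟶ G) :
    ((g * h).left ≫ e.hom).appTop.hom ((Scheme.ΓSpecIso (CommRingCat.of (LaurentPolynomial k))).inv.hom (LaurentPolynomial.T 1)) =
      (g.left ≫ e.hom).appTop.hom ((Scheme.ΓSpecIso (CommRingCat.of (LaurentPolynomial k))).inv.hom (LaurentPolynomial.T 1)) * (h.left ≫ e.hom).appTop.hom ((Scheme.ΓSpecIso (CommRingCat.of (LaurentPolynomial k))).inv.hom (LaurentPolynomial.T 1)) := by
  show (phi G e (g * h)).hom (T 1) = (phi G e g).hom (T 1) * (phi G e h).hom (T 1)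
  have hη1 : (phi G e η[G]).hom (T 1) = 1 := hunit
  have hη : ∀ n : ℤ, (phi G e η[G]).hom (T n) = 1 := map_T_eq_one _ hη1
  -- the universal case
  obtain ⟨ψc, ψi, h1, h2, h3⟩ := exists_psi G e he
  have hu : IsUnit ((phi G e μ[G]).hom (T 1)) := (isUnit_T 1).map (phi G e μ[G]).hom
  have hv : IsUnit (ψi.hom ((phi G e μ[G]).hom (T 1))) := hu.map ψi.hom
  obtain ⟨c, a, b, hcab⟩ := isUnit_tensor _ hv
  have key : (phi G e μ[G]).hom (T 1) =
      (phi G e (fst G G)).hom (C c * T a) * (phi G e (snd G G)).hom (T b) := by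
    have e1 : (phi G e μ[G]).hom (T 1) = ψc.hom (ψi.hom ((phi G e μ[G]).hom (T 1))) :=
      (congrArg (fun f => f.hom ((phi G e μ[G]).hom (T 1))) h1).symm
    have e2 : ((C c * T a) ⊗ₜ[k] (T b) : LaurentPolynomial k ⊗[k] LaurentPolynomial k) =
        ((C c * T a) ⊗ₜ[k] 1) * (1 ⊗ₜ[k] T b) := by
      rw [Algebra.TensorProduct.tmul_mul_tmul, _root_.mul_one, _root_.one_mul]
    rw [e1, hcab, e2, map_mul]
    congr 1
    · exact congrArg (fun f => f.hom (C c * T a)) h2
    · exact congrArg (fun f => f.hom (T b)) h3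
  -- restrict along the two unit sections
  have hj₁μ : lift (toUnit G ≫ η[G]) (𝟙 G) ≫ μ[G] = 𝟙 G := by
    have := _root_.one_mul (𝟙 G : G ⟶ G)
    rwa [Hom.mul_def, Hom.one_def] at this
  have hj₂μ : lift (𝟙 G) (toUnit G ≫ η[G]) ≫ μ[G] = 𝟙 G := by
    have := _root_.mul_one (𝟙 G : G ⟶ G)
    rwa [Hom.mul_def, Hom.one_def] at this
  have hunitC : ∀ n : ℤ, (phi G e (toUnit G ≫ η[G])).hom (C c * T n) =
      (phi G e (𝟙 G)).hom (C c) := by
    intro n
    rw [map_mul, phi_C G e he, ← phi_comp_apply, hη n, map_one, _root_.mul_one, phi_C G e he]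
  have k1 : (phi G e (𝟙 G)).hom (T 1) = (phi G e (𝟙 G)).hom (C c * T b) := by
    have := congrArg (lift (toUnit G ≫ η[G]) (𝟙 G)).left.appTop.hom key
    rw [map_mul, phi_comp_apply, phi_comp_apply, phi_comp_apply, hj₁μ, lift_fst, lift_snd,
      hunitC] at this
    rw [this, map_mul]
  have k2 : (phi G e (𝟙 G)).hom (T 1) = (phi G e (𝟙 G)).hom (C c * T a) := by
    have := congrArg (lift (𝟙 G) (toUnit G ≫ η[G])).left.appTop.hom key
    rw [map_mul, phi_comp_apply, phi_comp_apply, phi_comp_apply, hj₂μ, lift_fst, lift_snd,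
      ← phi_comp_apply _ _ (toUnit G) η[G], hη b, map_one, _root_.mul_one] at this
    exact this
  obtain ⟨hb, hc⟩ := T_one_eq c b (phi_id_injective G e k1)
  obtain ⟨ha, -⟩ := T_one_eq c a (phi_id_injective G e k2)
  subst hb ha hc
  rw [map_one, _root_.one_mul] at key
  -- the general case
  have hgh : g * h = lift g h ≫ μ[G] := Hom.mul_def g h
  rw [hgh, ← phi_comp_apply, key, map_mul, phi_comp_apply, phi_comp_apply, lift_fst, lift_snd]

end Groth.Agent.S14637
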