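import Groth.Statements.S4628
import Mathlib

set_option autoImplicit false
open CategoryTheory AlgebraicGeometry
universe u
open FBase

namespace Groth.Agent.S4628

section Aux
open CategoryTheory.Limits
open TensorProduct in
theorem L1 {k A B : Type u} [Field k] [CommRing A] [CommRing B] [Algebra k A] [Algebra k B]
    [GeometricallyReduced (Spec.map (CommRingCat.ofHom (algebraMap k A)))] [_root_.IsReduced B] :
    _root_.IsReduced (A ⊗[k] B) := by
  apply IsReduced.tensorProduct_of_flat_of_forall_fg
  intro B' hB'
  have : Algebra.FiniteType k B' := ⟨B'.fg_top.mpr hB'⟩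
  have : IsNoetherianRing B' := Algebra.FiniteType.isNoetherianRing k B'
  have : _root_.IsReduced B' := isReduced_of_injective B'.val Subtype.val_injective
  have : IsLocallyNoetherian (Spec (CommRingCat.of B')) := inferInstance
  have : AlgebraicGeometry.IsReduced (Spec (CommRingCat.of B')) := inferInstance
  have : Flat (Spec.map (CommRingCat.ofHom (algebraMap k A))) := inferInstance
  have h1 : AlgebraicGeometry.IsReduced (pullback (Spec.map (CommRingCat.ofHom (algebraMap k A)))
      (Spec.map (CommRingCat.ofHom (algebraMap k B')))) := inferInstance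
  have h2 : AlgebraicGeometry.IsReduced (Spec (CommRingCat.of (A ⊗[k] B'))) :=
    isReduced_of_isOpenImmersion (pullbackSpecIso k A B').inv
  exact (affine_isReduced_iff _).mp h2

theorem geomReduced_comp_openImmersion {U X Y : Scheme.{u}} (j : U ⟶ X) [IsOpenImmersion j]
    (f : X ⟶ Y) [GeometricallyReduced f] : GeometricallyReduced (j ≫ f) := by
  constructor
  intro K _ y Z fst snd hZ
  have hw : (fst ≫ j) ≫ f = snd ≫ y := by rw [Category.assoc]; exact hZ.w
  let p : Z ⟶ pullback f y := pullback.lift (fst ≫ j) snd hw
  have hp1 : p ≫ pullback.fst f y = fst ≫ j := pullback.lift_fst _ _ _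
  have hp2 : p ≫ pullback.snd f y = snd := pullback.lift_snd _ _ _
  have hleft : IsPullback p fst (pullback.fst f y) j := by
    refine IsPullback.of_right ?_ hp1 (IsPullback.of_hasPullback f y).flip
    rw [hp2]
    exact hZ.flip
  have : IsOpenImmersion p :=
    MorphismProperty.of_isPullback (P := @IsOpenImmersion) hleft.flip inferInstance
  have : AlgebraicGeometry.IsReduced (pullback f y) :=
    GeometricallyReduced.geometrically_isReduced _ _ _ (.of_hasPullback _ _)
  exact isReduced_of_isOpenImmersion p

theorem L2 {k : Type u} [Field k] (A B : CommRingCat.{u})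
    (a : Spec A ⟶ Spec (CommRingCat.of k)) (b : Spec B ⟶ Spec (CommRingCat.of k))
    [GeometricallyReduced a] [AlgebraicGeometry.IsReduced (Spec B)] :
    AlgebraicGeometry.IsReduced (pullback a b) := by
  obtain ⟨φ, rfl⟩ : ∃ φ, Spec.map φ = a := ⟨Spec.preimage a, Spec.map_preimage a⟩
  obtain ⟨ψ, rfl⟩ : ∃ ψ, Spec.map ψ = b := ⟨Spec.preimage b, Spec.map_preimage b⟩
  let : Algebra k A := φ.hom.toAlgebra
  let : Algebra k B := ψ.hom.toAlgebra
  have : GeometricallyReduced (Spec.map (CommRingCat.ofHom (algebraMap k A))) := ‹_›
  have : _root_.IsReduced B := (affine_isReduced_iff _).mp ‹_›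
  have := L1 (k := k) (A := A) (B := B)
  exact isReduced_of_isOpenImmersion (pullbackSpecIso k A B).hom
end Aux


open CategoryTheory.Limits in
/-- Let X be a scheme over a field k which is geometrically reduced (X ⊗_k K is reduced for every
extension field K of k), and let S be any reduced scheme over k. Then the product X ×_k S is
reduced. (No Noetherian or finiteness assumption on S.) -/
theorem result {k : Type u} [Field k] {X S : Scheme.{u}}
    (f : X ⟶ Spec (CommRingCat.of k)) (g : S ⟶ Spec (CommRingCat.of k)) [GeometricallyReduced f]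
    [AlgebraicGeometry.IsReduced S] : AlgebraicGeometry.IsReduced (pullback f g) := by
  let 𝒰 := Scheme.Pullback.openCoverOfLeftRight X.affineCover S.affineCover f g
  have : ∀ i, AlgebraicGeometry.IsReduced (𝒰.X i) := by
    rintro ⟨i, j⟩
    have h1 := geomReduced_comp_openImmersion (X.affineCover.f i) f
    have h2 : AlgebraicGeometry.IsReduced (S.affineCover.X j) :=
      isReduced_of_isOpenImmersion (S.affineCover.f j)
    exact @L2 _ _ _ _ (X.affineCover.f i ≫ f) (S.affineCover.f j ≫ g) h1 h2
  exact IsReduced.of_openCover _ 𝒰

end Groth.Agent.S4628
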