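import Groth.Statements.S5376
import Groth.Agent.H40.Comod
import Groth.Agent.H93.Comod4
import Mathlib.RingTheory.Jacobson.Ring
import Mathlib.FieldTheory.IsAlgClosed.Basic
import Mathlib.LinearAlgebra.Dual.Lemmas

set_option autoImplicit false
universe u
open CategoryTheory CategoryTheory.Limits MonoidalCategory CartesianMonoidalCategory MonObj GrpObj AlgebraicGeometry
open SGA3

namespace Groth.Agent.S5376

open TensorProduct

/-- Over an algebraically closed field, every maximal ideal of a finitely generated algebra is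
contained in the kernel of a `k`-point. -/
theorem exists_point_of_isMaximal (k : Type u) [Field k] [IsAlgClosed k] (R : Type u) [CommRing R]
    [Algebra k R] [Algebra.FiniteType k R] (𝔫 : Ideal R) (h𝔫 : 𝔫.IsMaximal) :
    ∃ x : R →ₐ[k] k, ∀ f ∈ 𝔫, x f = 0 := by
  let _ := Ideal.Quotient.field 𝔫
  have hft : Algebra.FiniteType k (R ⧸ 𝔫) :=
    Algebra.FiniteType.of_surjective (Ideal.Quotient.mkₐ k 𝔫) (Ideal.Quotient.mkₐ_surjective k 𝔫)
  have hfin : Module.Finite k (R ⧸ 𝔫) := finite_of_finite_type_of_isJacobsonRing k (R ⧸ 𝔫)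
  have hint : Algebra.IsIntegral k (R ⧸ 𝔫) := Algebra.IsIntegral.of_finite k _
  have hbij : Function.Bijective (algebraMap k (R ⧸ 𝔫)) :=
    IsAlgClosed.algebraMap_bijective_of_isIntegral
  let e : k ≃ₐ[k] (R ⧸ 𝔫) := AlgEquiv.ofBijective (Algebra.ofId k (R ⧸ 𝔫)) hbij
  refine ⟨(e.symm : (R ⧸ 𝔫) →ₐ[k] k).comp (Ideal.Quotient.mkₐ k 𝔫), ?_⟩
  intro f hf
  have h0 : Ideal.Quotient.mkₐ k 𝔫 f = 0 := by
    rw [Ideal.Quotient.mkₐ_eq_mk]
    exact Ideal.Quotient.eq_zero_iff_mem.mpr hf
  simp only [AlgHom.comp_apply, h0, map_zero]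

/-- In a reduced finitely generated algebra over an algebraically closed field, an element killed
by all points is zero. -/
theorem eq_zero_of_forall_point (k : Type u) [Field k] [IsAlgClosed k] (A : Type u) [CommRing A]
    [Algebra k A] [Algebra.FiniteType k A] [IsReduced A] (d : A)
    (h : ∀ g : A →ₐ[k] k, g d = 0) : d = 0 := by
  by_contra hd
  have hJ : IsJacobsonRing A := isJacobsonRing_of_finiteType (A := k) (B := A)
  have hjac : (⊥ : Ideal A).jacobson = ⊥ := hJ.out Ideal.isRadical_bot
  have hmem : d ∉ (⊥ : Ideal A).jacobson := by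
    rw [hjac]
    exact hd
  rw [Ideal.jacobson, Submodule.mem_sInf] at hmem
  push Not at hmem
  obtain ⟨𝔫, ⟨_, h𝔫max⟩, hd𝔫⟩ := hmem
  obtain ⟨x, hx⟩ := exists_point_of_isMaximal k A 𝔫 h𝔫max
  have hker : 𝔫 = RingHom.ker (x : A →+* k) :=
    h𝔫max.eq_of_le (RingHom.ker_ne_top _) (fun f hf => hx f hf)
  apply hd𝔫
  rw [hker]
  exact h x

section

variable {k : Type u} [Field k] {A : Type u} [CommRing A] [Bialgebra k A]
variable {V : Type u} [AddCommGroup V] [Module k V]

theorem contr_lTensor (φ : A →ₗ[k] k) (f : A →ₗ[k] A) (t : V ⊗[k] A) :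
    H40.contr V φ (f.lTensor V t) = H40.contr V (φ ∘ₗ f) t := by
  induction t using TensorProduct.induction_on with
  | zero => simp
  | tmul m c => simp
  | add y z hy hz => simp only [map_add, hy, hz]

theorem contr_rTensor {X : Type u} [AddCommGroup X] [Module k X] (φ : A →ₗ[k] k) (f : X →ₗ[k] V)
    (t : X ⊗[k] A) : H40.contr V φ (f.rTensor A t) = f (H40.contr X φ t) := by
  induction t using TensorProduct.induction_on with
  | zero => simp
  | tmul m c => simp
  | add y z hy hz => simp only [map_add, hy, hz]

theorem apply_lid_rTensor (lam : V →ₗ[k] k) (φ : A →ₗ[k] k) (t : V ⊗[k] A) :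
    φ ((TensorProduct.lid k A) (lam.rTensor A t)) = lam (H40.contr V φ t) := by
  induction t using TensorProduct.induction_on with
  | zero => simp
  | tmul m c => simp [mul_comm]
  | add y z hy hz => simp only [map_add, hy, hz]

end


/-- Let k be an algebraically closed field, A a finitely generated commutative Hopf algebra over k which
is reduced (a reduced affine algebraic k-group G), V a finite-dimensional A-comodule and v a vector
of V. Let E be the k-subspace of V spanned by the vectors g·v for g running over the k-points of G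
(algebra maps A → k). Then E is a subcomodule of V containing v, and it is the smallest one. -/
theorem result (k : Type u) [Field k] [IsAlgClosed k] (A : Type u) [CommRing A] [HopfAlgebra k A]
    [Algebra.FiniteType k A] [IsReduced A] (V : Type u) [AddCommGroup V] [Module k V] [HopfRep.Comod k A V]
    [Module.Finite k V] (v : V) :
    letI E : Submodule k V := Submodule.span k (Set.range fun g : A →ₐ[k] k => HopfRep.Comod.act k A V g v)
    HopfRep.IsSubcomod (k := k) (A := A) E ∧ v ∈ E ∧
      ∀ W : Submodule k V, HopfRep.IsSubcomod (k := k) (A := A) W → v ∈ W → E ≤ W := by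
  set E : Submodule k V := Submodule.span k
    (Set.range fun g : A →ₐ[k] k => HopfRep.Comod.act k A V g v) with hEdef
  classical
  -- `Ψ ψ = contr V ψ (ρ v)` always lies in `E`
  have hact : ∀ g : A →ₐ[k] k, HopfRep.Comod.act k A V g v =
      H40.contr V g.toLinearMap (HopfRep.Comod.coact (k := k) (A := A) v) := fun g => rfl
  have stepA : ∀ ψ : A →ₗ[k] k,
      H40.contr V ψ (HopfRep.Comod.coact (k := k) (A := A) v) ∈ E := by
    intro ψ
    by_contra hnot
    obtain ⟨lam, hlam, hE⟩ := Submodule.exists_dual_map_eq_bot_of_notMem hnot inferInstance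
    have hc : (TensorProduct.lid k A) (lam.rTensor A (HopfRep.Comod.coact (k := k) (A := A) v)) = 0 := by
      apply eq_zero_of_forall_point k A
      intro g
      have h1 := apply_lid_rTensor (V := V) lam g.toLinearMap
        (HopfRep.Comod.coact (k := k) (A := A) v)
      have h2 : lam (H40.contr V g.toLinearMap (HopfRep.Comod.coact (k := k) (A := A) v)) ∈
          E.map lam := ⟨_, Submodule.subset_span ⟨g, hact g⟩, rfl⟩
      rw [hE, Submodule.mem_bot] at h2
      change g.toLinearMap _ = 0
      rw [h1, h2]
    apply hlam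
    rw [← apply_lid_rTensor (V := V) lam ψ, hc, map_zero]
  have stepB : ∀ (φ : A →ₗ[k] k) (x : V), x ∈ E →
      H40.contr V φ (HopfRep.Comod.coact (k := k) (A := A) x) ∈ E := by
    intro φ x hx
    refine Submodule.span_induction
      (p := fun x _ => H40.contr V φ (HopfRep.Comod.coact (k := k) (A := A) x) ∈ E)
      ?_ ?_ ?_ ?_ hx
    · rintro _ ⟨g, rfl⟩
      change H40.contr V φ (HopfRep.Comod.coact (k := k) (A := A)
        (HopfRep.Comod.act k A V g v)) ∈ E
      rw [hact g, H40.coact_contr_coact, contr_lTensor]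
      exact stepA _
    · rw [map_zero, map_zero]
      exact E.zero_mem
    · intro x y _ _ hx hy
      rw [map_add, map_add]
      exact E.add_mem hx hy
    · intro c x _ hx
      rw [map_smul, map_smul]
      exact E.smul_mem c hx
  refine ⟨?_, ?_, ?_⟩
  · intro x hx
    rw [H40.mem_range_rTensor_iff_coeff (Module.Basis.ofVectorSpace k A)]
    intro i
    rw [TensorProduct.equivFinsuppOfBasisRight_apply]
    exact stepB ((Module.Basis.ofVectorSpace k A).coord i) x hx
  · have h1 := H40.contr_counit_coact (k := k) (C := A) v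
    have h2 := stepA (CoalgebraStruct.counit (R := k) (A := A))
    rw [h1] at h2
    exact h2
  · intro W hW hvW
    refine Submodule.span_le.mpr ?_
    rintro _ ⟨g, rfl⟩
    obtain ⟨t, ht⟩ := hW v hvW
    change HopfRep.Comod.act k A V g v ∈ W
    rw [hact g, ← ht, contr_rTensor]
    exact (H40.contr W g.toLinearMap t).2

end Groth.Agent.S5376
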