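import Groth.Statements.S4407
import Mathlib
import Groth.Agent.H8.QCohQcqs

set_option linter.style.haveILetI false

set_option autoImplicit false
universe u
open CategoryTheory CategoryTheory.Limits AlgebraicGeometry
open EGA2

namespace Groth.Agent.S4407

open Opposite TopologicalSpace

/-- A morphism of `𝒪_X`-modules which is locally surjective on sections is an epimorphism. -/
lemma epi_of_locally {X : Scheme.{u}} {M N : X.Modules} (p : M ⟶ N)
    (h : ∀ (U : X.Opens) (t : Γ(N, U)) (x : X), x ∈ U → ∃ (V : X.Opens) (hV : V ≤ U),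
      x ∈ V ∧ ∃ s : Γ(M, V), p.app V s = N.presheaf.map (homOfLE hV).op t) : Epi p := by
  have h1 : Epi ((SheafOfModules.toSheaf X.ringCatSheaf).map p) := by
    refine (TopCat.Sheaf.isLocallySurjective_iff_epi (X := X.toTopCat) (C := AddCommGrpCat.{u})
      ((SheafOfModules.toSheaf X.ringCatSheaf).map p)).mp ?_
    rw [TopCat.Presheaf.isLocallySurjective_iff]
    intro U t x hx
    obtain ⟨V, hV, hxV, s, hs⟩ := h U t x hx
    exact ⟨V, hV, ⟨s, hs⟩, hxV⟩
  exact (SheafOfModules.toSheaf X.ringCatSheaf).epi_of_epi_map h1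

/-- The section of a sheaf of modules on a scheme given by a section over the whole space. -/
noncomputable def secOfTop {X : Scheme.{u}} (M : SheafOfModules.{u} X.ringCatSheaf)
    (t : M.val.obj (op ⊤)) : M.sections :=
  PresheafOfModules.sectionsMk
    (fun U => M.val.map (homOfLE (le_top : U.unop ≤ ⊤)).op t) (by
      intro U V f
      rw [← PresheafOfModules.map_comp_apply]
      rfl)

/-- (a) ⇒ (e): let X be a quasi-affine scheme. Then every quasi-coherent O_X-module is generated by its
global sections (it is a quotient of a free O_X-module on some index set). -/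
theorem result (X : Scheme.{u}) [X.IsQuasiAffine] (F : X.Modules)
    (hF : Coh.IsQCoh F) : Curv2.IsGloballyGenerated F := by
  haveI : F.IsQuasicoherent := hF
  let ι : Type u := F.val.obj (op ⊤)
  let sec : ι → (F : SheafOfModules.{u} X.ringCatSheaf).sections := fun t => secOfTop F t
  let Fr : X.Modules := SheafOfModules.free ι
  let p : Fr ⟶ F := (SheafOfModules.freeHomEquiv _).symm sec
  refine ⟨ι, p, ?_⟩
  apply epi_of_locally
  intro U t x hxU
  obtain ⟨_, ⟨r, hr, rfl⟩, hxr, hrU⟩ :=
    (Opens.isBasis_iff_nbhd.mp (Scheme.IsQuasiAffine.isBasis_basicOpen X)) hxU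
  refine ⟨X.basicOpen r, hrU, hxr, ?_⟩
  obtain ⟨n, s, hs⟩ := Groth.Agent.H8.exists_smul_eq_res_of_qcqs F (W := ⊤)
    isCompact_univ isQuasiSeparated_univ r (F.presheaf.map (homOfLE hrU).op t)
  have hu : IsUnit (X.presheaf.map (homOfLE (X.basicOpen_le r)).op r) :=
    X.toRingedSpace.isUnit_res_basicOpen r
  obtain ⟨v, hv⟩ := hu.pow n
  let e : Γ(Fr, X.basicOpen r) :=
    (SheafOfModules.freeSection (R := X.ringCatSheaf) (s : ι)).eval (op (X.basicOpen r))
  have hp : Scheme.Modules.Hom.app p (X.basicOpen r) e =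
      F.presheaf.map (homOfLE (X.basicOpen_le r)).op s := by
    have h2 := SheafOfModules.sectionsMap_freeHomEquiv_symm_freeSection
      (M := (F : SheafOfModules.{u} X.ringCatSheaf)) sec (s : ι)
    have h3 := congrArg (fun z => z.eval (op (X.basicOpen r))) h2
    exact h3
  refine ⟨((v⁻¹ : (Γ(X, X.basicOpen r))ˣ) : Γ(X, X.basicOpen r)) • e, ?_⟩
  have h4 : Scheme.Modules.Hom.app p (X.basicOpen r)
      (((v⁻¹ : (Γ(X, X.basicOpen r))ˣ) : Γ(X, X.basicOpen r)) • e) =
      ((v⁻¹ : (Γ(X, X.basicOpen r))ˣ) : Γ(X, X.basicOpen r)) •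
        Scheme.Modules.Hom.app p (X.basicOpen r) e :=
    Scheme.Modules.Hom.app_smul p _ e
  refine h4.trans ?_
  rw [hp, hs, ← hv, ← mul_smul, Units.inv_mul, one_smul]

end Groth.Agent.S4407
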