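import Groth.Statements.S9263
import Mathlib.Algebra.Homology.HomotopyCategory.MappingCocone
import Mathlib.Algebra.Homology.HomotopyCategory.Pretriangulated

set_option autoImplicit false
universe u
attribute [local instance] HasDerivedCategory.standard
open CategoryTheory
open DerCA

namespace Groth.Agent.S9263

open Limits Pretriangulated in
/-- If `φ` becomes an isomorphism in the homotopy category, its mapping cocone is contractible. -/
theorem cocone_contractible {C : Type*} [Category C] [Preadditive C] [HasBinaryBiproducts C]
    [HasZeroObject C] {K L : CochainComplex C ℤ} (φ : K ⟶ L)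
    (h : IsIso ((HomotopyCategory.quotient C (ComplexShape.up ℤ)).map φ)) :
    Nonempty (Homotopy (𝟙 (CochainComplex.mappingCocone φ)) 0) := by
  have hz : IsZero ((HomotopyCategory.quotient C (ComplexShape.up ℤ)).obj
      (CochainComplex.mappingCone φ)) :=
    Triangle.isZero₃_of_isIso₁ _ (HomotopyCategory.mappingCone_triangleh_distinguished φ) h
  obtain ⟨H⟩ := (HomotopyCategory.isZero_quotient_obj_iff _).1 hz
  refine ⟨(Homotopy.ofEq ?_).trans ((H.shift (-1)).trans (Homotopy.ofEq ?_))⟩
  · exact (CategoryTheory.Functor.map_id _ _).symm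
  · exact CategoryTheory.Functor.map_zero _ _ _

/-- Localising at a submonoid of units is bijective. -/
theorem mkLinearMap_bijective_of_units {R : Type u} [CommRing R] (S : Submonoid R)
    (hS : ∀ s ∈ S, IsUnit s) (M : Type u) [AddCommGroup M] [Module R M] :
    Function.Bijective (LocalizedModule.mkLinearMap S M) := by
  constructor
  · intro x y hxy
    obtain ⟨c, hc⟩ := (IsLocalizedModule.eq_iff_exists S (LocalizedModule.mkLinearMap S M)).1 hxy
    rw [Submonoid.smul_def, Submonoid.smul_def] at hc
    exact (hS c c.2).smul_left_cancel.1 hc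
  · intro y
    obtain ⟨⟨m, s⟩, hms⟩ := IsLocalizedModule.surj S (LocalizedModule.mkLinearMap S M) y
    obtain ⟨u, hu⟩ := hS s s.2
    refine ⟨(↑u⁻¹ : R) • m, ?_⟩
    rw [map_smul, ← hms]
    change (↑u⁻¹ : R) • ((s : R) • y) = y
    rw [← hu, smul_smul, Units.inv_mul, one_smul]

/-- Let R be a ring, f_1, ..., f_r elements of R such that some f_i is a unit, and M an R-module. Then
the extended alternating Cech complex of M with respect to f_1, ..., f_r is homotopy equivalent to
zero: its identity map is null-homotopic. -/
theorem result (R : Type u) [CommRing R] (fs : List R)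
    (hf : ∃ f ∈ fs, IsUnit f) (M : ModuleCat.{u} R) :
    Nonempty (Homotopy (𝟙 (DerCA.extCech M fs)) 0) := by
  induction fs with
  | nil => simp at hf
  | cons f fs ih =>
    change Nonempty (Homotopy (𝟙 (CochainComplex.mappingCocone
      (locCxUnit (Submonoid.powers f) (extCech M fs)))) 0)
    apply cocone_contractible
    by_cases hfu : IsUnit f
    · have hS : ∀ s ∈ Submonoid.powers f, IsUnit s := by
        rintro s ⟨n, rfl⟩
        exact hfu.pow n
      have hcomp : ∀ n : ℤ, IsIso ((locCxUnit (Submonoid.powers f) (extCech M fs)).f n) := by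
        intro n
        rw [ConcreteCategory.isIso_iff_bijective]
        exact mkLinearMap_bijective_of_units _ hS _
      have : IsIso (locCxUnit (Submonoid.powers f) (extCech M fs)) :=
        HomologicalComplex.Hom.isIso_of_components _
      infer_instance
    · have hfs : ∃ g ∈ fs, IsUnit g := by
        obtain ⟨g, hg, hu⟩ := hf
        rcases List.mem_cons.1 hg with rfl | hg
        · exact absurd hu hfu
        · exact ⟨g, hg, hu⟩
      obtain ⟨H⟩ := ih hfs
      have hK : Limits.IsZero ((HomotopyCategory.quotient _ _).obj (extCech M fs)) :=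
        (HomotopyCategory.isZero_quotient_obj_iff _).2 ⟨H⟩
      have hL : Limits.IsZero ((HomotopyCategory.quotient _ _).obj
          ((locCx (Submonoid.powers f)).obj (extCech M fs))) := by
        rw [HomotopyCategory.isZero_quotient_obj_iff]
        have H' := (locFunctor (Submonoid.powers f)).mapHomotopy H
        exact ⟨(Homotopy.ofEq (by simp)).trans (H'.trans (Homotopy.ofEq (by simp)))⟩
      exact ⟨⟨hL.to_ _, hK.eq_of_src _ _, hL.eq_of_src _ _⟩⟩

end Groth.Agent.S9263
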