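import Groth.Statements.S9264
import Mathlib.Algebra.Homology.ShortComplex.HomologicalComplex
import Mathlib.CategoryTheory.Limits.Preserves.Shapes.Zero
import Mathlib.Algebra.Homology.Single

set_option autoImplicit false
universe u
attribute [local instance] HasDerivedCategory.standard
open CategoryTheory
open DerCA

namespace Groth.Agent.S9264

/-- the terms of the extended Cech complex vanish outside `[0, length]`. -/
theorem isZero_X (R : Type u) [CommRing R] (fs : List R) (M : ModuleCat.{u} R) :
    ∀ q : ℤ, (q < 0 ∨ (fs.length : ℤ) < q) → Limits.IsZero ((DerCA.extCech M fs).X q) := by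
  induction fs with
  | nil =>
    intro q hq
    have hq0 : q ≠ 0 := by
      rcases hq with h | h
      · omega
      · simp at h; omega
    exact HomologicalComplex.isZero_single_obj_X (ComplexShape.up ℤ) 0 M q hq0
  | cons f fs ih =>
    intro q hq
    have h1 : Limits.IsZero ((DerCA.extCech M fs).X q) := by
      apply ih
      rcases hq with h | h
      · exact Or.inl h
      · right
        simp only [List.length_cons, Nat.cast_add, Nat.cast_one] at h
        omega
    have h2 : Limits.IsZero ((DerCA.extCech M fs).X (q - 1)) := by
      apply ih
      rcases hq with h | h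
      · left; omega
      · right
        simp only [List.length_cons, Nat.cast_add, Nat.cast_one] at h
        omega
    have h3 : Limits.IsZero (((DerCA.locCx (Submonoid.powers f)).obj (DerCA.extCech M fs)).X (q - 1)) :=
      Functor.map_isZero (DerCA.locFunctor (Submonoid.powers f)) h2
    refine Limits.IsZero.of_iso ?_
      (DerCA.mappingCoconeXIso (DerCA.locCxUnit (Submonoid.powers f) (DerCA.extCech M fs)) q)
    rw [Limits.biprod_isZero_iff]
    exact ⟨h1, h3⟩

/-- The cohomology of the extended alternating Cech complex of a module M with respect to f_1, ..., f_r
vanishes in degrees outside [0, r]. -/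
theorem result (R : Type u) [CommRing R] (fs : List R)
    (M : ModuleCat.{u} R) (q : ℤ) (hq : q < 0 ∨ (fs.length : ℤ) < q) :
    Limits.IsZero (DerCA.extCechH fs M q) := by
  have h := isZero_X R fs M q hq
  exact (HomologicalComplex.exactAt_iff_isZero_homology _ _).mp
    (HomologicalComplex.ExactAt.of_isZero h)

end Groth.Agent.S9264
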