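import Groth.Statements.S0010
-- import your own Groth.Agent.* helpers here
import Groth.Agent.H45.AffineCoverVanishing

set_option autoImplicit false
universe u
open Coherent

namespace Groth.Agent.S0010

open AlgebraicGeometry in
/-- Let X be a scheme in which the intersection of any two affine opens is affine (equivalently, X has
affine diagonal; e.g. X separated), covered by t affine opens. Then H^n(X, F) = 0 for every
quasi-coherent F and every n ≥ t. -/
theorem result (X : Scheme.{u}) (t : ℕ) (U : Fin t → X.Opens)
    (hU : ∀ i, IsAffineOpen (U i)) (hcov : ⨆ i, U i = ⊤)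
    (hd : ∀ V W : X.Opens, IsAffineOpen V → IsAffineOpen W → IsAffineOpen (V ⊓ W))
    (M : X.Modules) [Coh.IsQCoh M] (n : ℕ) (hn : t ≤ n) :
    Subsingleton (Coh.HH X M n) := by
  have h := Groth.Agent.H45.AffineVanishing.subsingleton_HU_iSup_of_isAffineOpen M hd t U hU n hn
  rw [hcov] at h
  exact (Groth.Agent.H45.AffineVanishing.HTerminalAddEquiv
    (_root_.Opens.grothendieckTopology X.carrier)
    (CategoryTheory.Limits.isTerminalTop : CategoryTheory.Limits.IsTerminal
      (⊤ : TopologicalSpace.Opens X.carrier)) (Coh.toAb M) n).symm.subsingleton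

end Groth.Agent.S0010
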