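import Groth.Statements.S9705
import Mathlib.AlgebraicGeometry.ProjectiveSpectrum.Proper
import Mathlib.AlgebraicGeometry.ZariskisMainTheorem

set_option autoImplicit false
universe u
open CategoryTheory CategoryTheory.Limits AlgebraicGeometry
open Mor

namespace Groth.Agent.S9705


section ProjSpaceProper
variable (n : ℕ) (R : Type u) [CommRing R]

instance isScalarTower_polyGrading :
    IsScalarTower R (CohB1.polyGrading n R 0) (MvPolynomial (Fin (n + 1)) R) :=
  IsScalarTower.of_algebraMap_eq (R := R) (S := ↥(CohB1.polyGrading n R 0))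
    (A := MvPolynomial (Fin (n + 1)) R) (fun _ => rfl)

instance finiteType_polyGrading :
    Algebra.FiniteType (CohB1.polyGrading n R 0) (MvPolynomial (Fin (n + 1)) R) :=
  Algebra.FiniteType.of_restrictScalars_finiteType R _ _

theorem algebraMap_polyGrading_zero_surjective :
    Function.Surjective (algebraMap R (CohB1.polyGrading n R 0)) := by
  rintro ⟨p, hp⟩
  have hp' : p ∈ MvPolynomial.homogeneousSubmodule (Fin (n + 1)) R 0 := hp
  rw [MvPolynomial.homogeneousSubmodule_zero] at hp'
  obtain ⟨r, hr⟩ := Submodule.mem_one.mp hp'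
  exact ⟨r, Subtype.ext hr⟩

instance isProper_projSpace_toSpec : IsProper (CohB1.ProjSpace.toSpec n R) := by
  haveI : IsClosedImmersion
      (Spec.map (CommRingCat.ofHom (algebraMap R (CohB1.polyGrading n R 0)))) :=
    IsClosedImmersion.spec_of_surjective _ (algebraMap_polyGrading_zero_surjective n R)
  exact inferInstanceAs (IsProper (Proj.toSpecZero (CohB1.polyGrading n R) ≫
    Spec.map (CommRingCat.ofHom (algebraMap R (CohB1.polyGrading n R 0)))))

instance isProper_toBase (S : Scheme.{u}) : IsProper (CohB1.ProjSpaceOver.toBase n S) :=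
  inferInstanceAs (IsProper (pullback.snd (CohB1.ProjSpace.toSpec n (ULift.{u} ℤ))
    (specULiftZIsTerminal.from S)))

end ProjSpaceProper


/-- Over a quasi-compact quasi-separated scheme S, a morphism f : X ⟶ S is H-projective if and only if
it is H-quasi-projective and proper. -/
theorem result {X S : Scheme.{u}} [CompactSpace ↥S]
    [QuasiSeparatedSpace ↥S] (f : X ⟶ S) :
    RelProj.IsHProjective f ↔ RelProj.IsHQuasiProjective f ∧ IsProper f := by
  constructor
  · rintro ⟨n, i, hi, rfl⟩
    exact ⟨⟨n, i, inferInstance, inferInstance, rfl⟩, inferInstance⟩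
  · rintro ⟨⟨n, i, hi, hqc, rfl⟩, hp⟩
    haveI : IsProper i := IsProper.of_comp i (CohB1.ProjSpaceOver.toBase n S)
    exact ⟨n, i, (IsClosedImmersion.iff_isProper_and_mono i).mpr ⟨inferInstance, inferInstance⟩, rfl⟩

end Groth.Agent.S9705
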