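import Groth.Statements.S0019
import Groth.Agent.H8.FinType
import Groth.Agent.H8.Coh
import Groth.Agent.H8.QCohPush
import Mathlib.AlgebraicGeometry.Morphisms.Finite

set_option autoImplicit false
universe u
open Coherent

namespace Groth.Agent.S0019

open AlgebraicGeometry in
/-- If f : X → Y is a finite morphism of schemes with Y locally Noetherian and F is a coherent
O_X-module, then the direct image f_*F is a coherent O_Y-module. -/
theorem result {X Y : Scheme.{u}} (f : X ⟶ Y) [IsFinite f] [IsLocallyNoetherian Y]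
    (M : X.Modules) (hM : Coh.IsCoh M) : Coh.IsCoh ((Coh.push f).obj M) := by
  haveI : M.IsQuasicoherent := hM.1
  haveI hq : ((Scheme.Modules.pushforward f).obj M).IsQuasicoherent :=
    Groth.Agent.H8.isQuasicoherent_pushforward f M
  refine ⟨hq, ?_⟩
  apply Groth.Agent.H8.isFiniteType_of_forall_affine_finite
  intro V
  have hW : IsAffineOpen (f ⁻¹ᵁ (V : Y.Opens)) := V.2.preimage f
  have h1 : Module.Finite Γ(X, f ⁻¹ᵁ (V : Y.Opens)) Γ(M, f ⁻¹ᵁ (V : Y.Opens)) :=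
    Groth.Agent.H8.finite_sections_of_isCoh M hM hW
  have h2 : (f.app (V : Y.Opens)).hom.Finite := IsFinite.finite_app f (V : Y.Opens) V.2
  letI : Algebra Γ(Y, (V : Y.Opens)) Γ(X, f ⁻¹ᵁ (V : Y.Opens)) :=
    (f.app (V : Y.Opens)).hom.toAlgebra
  haveI : Module.Finite Γ(Y, (V : Y.Opens)) Γ(X, f ⁻¹ᵁ (V : Y.Opens)) := h2
  letI : Module Γ(Y, (V : Y.Opens)) Γ(M, f ⁻¹ᵁ (V : Y.Opens)) :=
    (show Module Γ(Y, (V : Y.Opens))
      Γ((Scheme.Modules.pushforward f).obj M, (V : Y.Opens)) from inferInstance)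
  haveI : IsScalarTower Γ(Y, (V : Y.Opens)) Γ(X, f ⁻¹ᵁ (V : Y.Opens))
      Γ(M, f ⁻¹ᵁ (V : Y.Opens)) :=
    IsScalarTower.of_algebraMap_smul (fun r m => rfl)
  exact Module.Finite.trans Γ(X, f ⁻¹ᵁ (V : Y.Opens)) Γ(M, f ⁻¹ᵁ (V : Y.Opens))

end Groth.Agent.S0019
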