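import Groth.Statements.S5777
import Mathlib
import Groth.Agent.H2.LocalCriterionMain

set_option autoImplicit false
universe u
open EGA41

namespace Groth.Agent.S5777

open TensorProduct Function

/-- `f` kills `Q ⊗ K` when it kills `Q`. -/
theorem smul_tensor_eq_zero {R : Type u} [CommRing R] {Q K : Type u} [AddCommGroup Q] [Module R Q]
    [AddCommGroup K] [Module R K] (f : R) (hfQ : ∀ q : Q, f • q = 0) (t : Q ⊗[R] K) :
    f • t = 0 := by
  induction t using TensorProduct.induction_on with
  | zero => simp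
  | tmul q k => rw [TensorProduct.smul_tmul', hfQ, TensorProduct.zero_tmul]
  | add x y hx hy => rw [smul_add, hx, hy, add_zero]

/-- The `Tor₁`-vanishing step: `Tor₁(N, M) = 0`, `N/fN = Q` and `f` regular on `N ⊗ M` give
`Tor₁(Q, M) = 0`. -/
theorem T_step {R : Type u} [CommRing R] {M K F : Type u} [AddCommGroup M] [Module R M]
    [AddCommGroup K] [Module R K] [AddCommGroup F] [Module R F]
    {ι : K →ₗ[R] F} {π : F →ₗ[R] M} (hex : Function.Exact ι π) (hπ : Surjective π)
    {N Q : Type u} [AddCommGroup N] [Module R N] [AddCommGroup Q] [Module R Q]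
    (f : R) (β : N →ₗ[R] Q) (hβ : Surjective β)
    (hker : ∀ n, β n = 0 → ∃ n', n = f • n')
    (hfQ : ∀ q : Q, f • q = 0)
    (hT : Injective (ι.lTensor N))
    (hreg : IsSMulRegular (N ⊗[R] M) f) :
    Injective (ι.lTensor Q) := by
  rw [injective_iff_map_eq_zero]
  intro x hx
  obtain ⟨x', rfl⟩ := LinearMap.rTensor_surjective K hβ x
  have hex2 : Function.Exact (f • (LinearMap.id : N →ₗ[R] N)) β := by
    intro n
    constructor
    · intro hn
      obtain ⟨n', rfl⟩ := hker n hn
      exact ⟨n', by simp⟩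
    · rintro ⟨n', rfl⟩
      simp [hfQ]
  have hw0 : β.rTensor F (ι.lTensor N x') = 0 := by
    have : β.rTensor F (ι.lTensor N x') = ι.lTensor Q (β.rTensor K x') := by
      rw [← LinearMap.comp_apply, ← LinearMap.comp_apply, LinearMap.rTensor_comp_lTensor,
        LinearMap.lTensor_comp_rTensor]
    rw [this, hx]
  obtain ⟨y, hy⟩ := (rTensor_exact F hex2 hβ (ι.lTensor N x')).mp hw0
  have hy' : f • y = ι.lTensor N x' := by
    rw [← hy, LinearMap.rTensor_smul, LinearMap.rTensor_id, LinearMap.smul_apply,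
      LinearMap.id_apply]
  have hπι : π.lTensor N (ι.lTensor N x') = 0 := by
    rw [← LinearMap.comp_apply, ← LinearMap.lTensor_comp, hex.linearMap_comp_eq_zero,
      LinearMap.lTensor_zero, LinearMap.zero_apply]
  have hy0 : π.lTensor N y = 0 := by
    apply hreg
    show f • π.lTensor N y = f • 0
    rw [← map_smul, hy', hπι, smul_zero]
  obtain ⟨z, rfl⟩ := (lTensor_exact N hex hπ y).mp hy0
  have hxz : x' = f • z := by
    apply hT
    rw [map_smul, hy']
  rw [hxz, map_smul]
  exact smul_tensor_eq_zero f hfQ _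

/-- `Tor₁(A/J_k, M) = 0` for all `k`, if `fs` is `M`-weakly regular. -/
theorem T_quot {A : Type u} [CommRing A] {M K F : Type u} [AddCommGroup M] [Module A M]
    [AddCommGroup K] [Module A K] [AddCommGroup F] [Module A F]
    {ι : K →ₗ[A] F} {π : F →ₗ[A] M} (hex : Function.Exact ι π) (hπ : Surjective π)
    (hι : Injective ι)
    (fs : List A) (hreg : RingTheory.Sequence.IsWeaklyRegular M fs) :
    ∀ k, k ≤ fs.length → Injective (ι.lTensor (A ⧸ Ideal.ofList (fs.take k))) := by
  intro k
  induction k with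
  | zero =>
    intro _
    have h0 : Ideal.ofList (fs.take 0) = ⊥ := by simp
    haveI : Module.Flat A (A ⧸ Ideal.ofList (fs.take 0)) :=
      Module.Flat.of_linearEquiv (Submodule.quotEquivOfEqBot (Ideal.ofList (fs.take 0)) h0)
    exact Module.Flat.lTensor_preserves_injective_linearMap ι hι
  | succ k ih =>
    intro hk
    have hk' : k < fs.length := hk
    have hJ : Ideal.ofList (fs.take (k + 1)) =
        Ideal.ofList (fs.take k) ⊔ Ideal.span {fs[k]} := by
      rw [List.take_succ_eq_append_getElem hk', Ideal.ofList_append, Ideal.ofList_singleton]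
    have hle : Ideal.ofList (fs.take k) ≤ Ideal.ofList (fs.take (k + 1)) := by
      rw [hJ]; exact le_sup_left
    let β : (A ⧸ Ideal.ofList (fs.take k)) →ₗ[A] (A ⧸ Ideal.ofList (fs.take (k + 1))) :=
      Submodule.mapQ (Ideal.ofList (fs.take k)) (Ideal.ofList (fs.take (k + 1)))
        LinearMap.id hle
    have hβ : ∀ a : A, β (Submodule.Quotient.mk a) = Submodule.Quotient.mk a := fun a => rfl
    refine T_step hex hπ fs[k] β ?_ ?_ ?_ (ih hk'.le) ?_
    · intro q
      obtain ⟨a, rfl⟩ := Submodule.Quotient.mk_surjective _ q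
      exact ⟨Submodule.Quotient.mk a, hβ a⟩
    · intro n hn
      obtain ⟨a, rfl⟩ := Submodule.Quotient.mk_surjective _ n
      have ha : a ∈ Ideal.ofList (fs.take (k + 1)) := by
        rw [hβ, Submodule.Quotient.mk_eq_zero] at hn
        exact hn
      rw [hJ] at ha
      obtain ⟨j, hj, c, hc, rfl⟩ := Submodule.mem_sup.mp ha
      obtain ⟨c', rfl⟩ := Ideal.mem_span_singleton'.mp hc
      refine ⟨Submodule.Quotient.mk c', ?_⟩
      rw [← Submodule.Quotient.mk_smul, smul_eq_mul, Submodule.Quotient.eq]
      have : j + c' * fs[k] - fs[k] * c' = j := by ring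
      rw [this]; exact hj
    · intro q
      obtain ⟨a, rfl⟩ := Submodule.Quotient.mk_surjective _ q
      rw [← Submodule.Quotient.mk_smul, Submodule.Quotient.mk_eq_zero, hJ, smul_eq_mul]
      exact Ideal.mul_mem_right _ _ (Ideal.mem_sup_right (Ideal.mem_span_singleton_self _))
    · exact ((TensorProduct.quotTensorEquivQuotSMul M
        (Ideal.ofList (fs.take k))).isSMulRegular_congr fs[k]).mpr (hreg.regular_mod_prev k hk')

/-- The `A ⧸ J`-linear identification `(A ⧸ J) ⊗ M ≃ M ⧸ J M`. -/
noncomputable def quotEquiv {A : Type u} [CommRing A] (M : Type u) [AddCommGroup M] [Module A M]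
    (J : Ideal A) : ((A ⧸ J) ⊗[A] M) ≃ₗ[A ⧸ J] (M ⧸ (J • (⊤ : Submodule A M))) :=
  haveI : IsScalarTower A (A ⧸ J) (M ⧸ (J • (⊤ : Submodule A M))) :=
    (Module.isTorsionBySet_quotient_ideal_smul M J).isScalarTower
  (TensorProduct.quotTensorEquivQuotSMul M J).extendScalarsOfSurjective
    Ideal.Quotient.mk_surjective

theorem flat_of_regular_aux (A B : Type u) [CommRing A] [CommRing B]
    [IsLocalRing A] [IsLocalRing B] [IsNoetherianRing A] [IsNoetherianRing B] [Algebra A B]
    [IsLocalHom (algebraMap A B)] (M : Type u) [AddCommGroup M] [Module B M] [Module A M]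
    [IsScalarTower A B M] [Module.Finite B M] (fs : List A)
    (hfs : ∀ f ∈ fs, f ∈ IsLocalRing.maximalIdeal A)
    (hflat : Module.Flat (A ⧸ Ideal.ofList fs) (M ⧸ (Ideal.ofList fs • (⊤ : Submodule A M))))
    (hreg : RingTheory.Sequence.IsWeaklyRegular M fs)
    {K : Type u} [AddCommGroup K] [Module A K]
    (ι : K →ₗ[A] (M →₀ A)) (π : (M →₀ A) →ₗ[A] M) (hex : Function.Exact ι π)
    (hπ : Surjective π) (hι : Injective ι) : Module.Flat A M := by
  have hT := T_quot hex hπ hι fs hreg fs.length le_rfl
  rw [List.take_length] at hT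
  have h1 : Injective ((Ideal.ofList fs).subtype.lTensor M) :=
    Groth.Agent.H2.lTensor_subtype_injective_of_T hex hπ (A' := A) (Ideal.ofList fs) hT
  have h1' : Injective (LinearMap.rTensor M (Submodule.subtype (Ideal.ofList fs))) :=
    (LinearMap.lTensor_inj_iff_rTensor_inj _ _).mp h1
  have hle : Ideal.ofList fs ≤ IsLocalRing.maximalIdeal A := Ideal.span_le.mpr (fun x hx => hfs x hx)
  have hne : Ideal.ofList fs ≠ ⊤ := fun h =>
    (IsLocalRing.maximalIdeal.isMaximal A).ne_top (top_le_iff.mp (h ▸ hle))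
  haveI : Module.Flat (A ⧸ Ideal.ofList fs) ((A ⧸ Ideal.ofList fs) ⊗[A] M) :=
    Module.Flat.of_linearEquiv (quotEquiv M (Ideal.ofList fs))
  exact Groth.Agent.H2.flat_of_local_criterion (S := B) (Ideal.ofList fs) hne h1'

theorem flat_of_regular (A B : Type u) [CommRing A] [CommRing B]
    [IsLocalRing A] [IsLocalRing B] [IsNoetherianRing A] [IsNoetherianRing B] [Algebra A B]
    [IsLocalHom (algebraMap A B)] (M : Type u) [AddCommGroup M] [Module B M] [Module A M]
    [IsScalarTower A B M] [Module.Finite B M] (fs : List A)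
    (hfs : ∀ f ∈ fs, f ∈ IsLocalRing.maximalIdeal A)
    (hflat : Module.Flat (A ⧸ Ideal.ofList fs) (M ⧸ (Ideal.ofList fs • (⊤ : Submodule A M))))
    (hreg : RingTheory.Sequence.IsWeaklyRegular M fs) : Module.Flat A M := by
  obtain ⟨π, hπ⟩ : ∃ π : (M →₀ A) →ₗ[A] M, Surjective π :=
    ⟨Finsupp.linearCombination A id, fun m => ⟨Finsupp.single m 1, by simp⟩⟩
  exact flat_of_regular_aux A B M fs hfs hflat hreg (K := ↥(LinearMap.ker π))
    (LinearMap.ker π).subtype π (LinearMap.exact_subtype_ker_map π) hπ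
    (Submodule.injective_subtype _)

/-- Let φ : A → B be a local homomorphism of Noetherian local rings, M a finitely generated B-module and
(f_i)_{1 ≤ i ≤ n} an A-regular sequence of elements of the maximal ideal of A, generating the ideal
J. Then M is flat over A if and only if M/JM is flat over A/J and (f_i) is an M-regular sequence. -/
theorem result (A B : Type u) [CommRing A] [CommRing B]
    [IsLocalRing A] [IsLocalRing B] [IsNoetherianRing A] [IsNoetherianRing B] [Algebra A B]
    [IsLocalHom (algebraMap A B)] (M : Type u) [AddCommGroup M] [Module B M] [Module A M]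
    [IsScalarTower A B M] [Module.Finite B M] (fs : List A) (hfs : ∀ f ∈ fs, f ∈ IsLocalRing.maximalIdeal A)
    (hA : RingTheory.Sequence.IsWeaklyRegular A fs) :
    Module.Flat A M ↔
      Module.Flat (A ⧸ Ideal.ofList fs) (M ⧸ (Ideal.ofList fs • (⊤ : Submodule A M))) ∧
        RingTheory.Sequence.IsWeaklyRegular M fs := by
  constructor
  · intro hM
    refine ⟨?_, ?_⟩
    · exact Module.Flat.of_linearEquiv (quotEquiv M (Ideal.ofList fs)).symm
    · exact (LinearEquiv.isWeaklyRegular_congr (TensorProduct.rid A M) fs).mp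
        (hA.isWeaklyRegular_lTensor (M₂ := M))
  · rintro ⟨h1, h2⟩
    exact flat_of_regular A B M fs hfs h1 h2

end Groth.Agent.S5777
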