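import Groth.Statements.S5782
import Mathlib
import Groth.Agent.S5777

set_option autoImplicit false
universe u
open CategoryTheory
open EGA41

namespace Groth.Agent.S5782

open TensorProduct Function

/-- Reduction modulo an element which is regular on `A` and on `E` does not increase the projective
dimension (tensor product form). -/
theorem key (A : Type u) [CommRing A] (a : A) (hA : IsSMulRegular A a) (n : ℕ) :
    ∀ (M : ModuleCat.{u} A), IsSMulRegular M a → HasProjectiveDimensionLE M n →
      HasProjectiveDimensionLE
        (ModuleCat.of (A ⧸ Ideal.span {a}) ((A ⧸ Ideal.span {a}) ⊗[A] M)) n := by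
  induction n with
  | zero =>
    intro M _ hM
    simp only [HasProjectiveDimensionLE, zero_add] at hM ⊢
    rw [← projective_iff_hasProjectiveDimensionLT_one] at hM ⊢
    have hM' : Module.Projective A M := (IsProjective.iff_projective (R := A) M).mpr hM
    exact (IsProjective.iff_projective (R := A ⧸ Ideal.span {a})
      ((A ⧸ Ideal.span {a}) ⊗[A] M)).mp inferInstance
  | succ n ih =>
    intro M hreg hM
    have S_exact := M.shortExact_projectiveShortComplex
    have hK : HasProjectiveDimensionLT M.projectiveShortComplex.X₁ (n + 1) :=
      (S_exact.hasProjectiveDimensionLT_X₃_iff n inferInstance).mp hM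
    have hinj := S_exact.moduleCat_injective_f
    have hsurj := S_exact.moduleCat_surjective_g
    have hex := (ShortComplex.ShortExact.moduleCat_exact_iff_function_exact _).mp S_exact.exact
    -- `a` is regular on the free module and on the syzygy
    have hF : IsSMulRegular M.projectiveShortComplex.X₂ a :=
      ((TensorProduct.rid A M.projectiveShortComplex.X₂).isSMulRegular_congr a).mp
        (IsSMulRegular.lTensor (M := M.projectiveShortComplex.X₂) hA)
    have hKreg : IsSMulRegular M.projectiveShortComplex.X₁ a :=
      hF.of_injective M.projectiveShortComplex.f.hom hinj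
    have hK' := ih _ hKreg hK
    let B := A ⧸ Ideal.span {a}
    let f' := M.projectiveShortComplex.f.hom.baseChange B
    let g' := M.projectiveShortComplex.g.hom.baseChange B
    have hex' : Function.Exact f' g' := by
      have := lTensor_exact B hex hsurj
      simpa only [f', g', LinearMap.baseChange_eq_ltensor] using this
    have hsurj' : Function.Surjective g' := by
      have := LinearMap.lTensor_surjective B hsurj
      simpa only [g', LinearMap.baseChange_eq_ltensor] using this
    have hinj' : Function.Injective f' := by
      have hfexact : Function.Exact (LinearMap.lsmul A A a) (Submodule.mkQ (Ideal.span {a})) := by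
        intro y
        rw [Submodule.mkQ_apply, Submodule.Quotient.mk_eq_zero]
        constructor
        · intro hy
          obtain ⟨c, rfl⟩ := Ideal.mem_span_singleton'.mp hy
          exact ⟨c, by simp [mul_comm]⟩
        · rintro ⟨c, rfl⟩
          exact Ideal.mem_span_singleton'.mpr ⟨c, by simp [mul_comm]⟩
      have hfinj : Injective ((LinearMap.lsmul A A a).rTensor M) := by
        have h1 : IsSMulRegular (A ⊗[A] M) a :=
          ((TensorProduct.lid A M).isSMulRegular_congr a).mpr hreg
        have h2 : ∀ t : A ⊗[A] M, (LinearMap.lsmul A A a).rTensor M t = a • t := by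
          intro t
          induction t using TensorProduct.induction_on with
          | zero => simp
          | tmul x m => simp [TensorProduct.smul_tmul']
          | add x y hx hy => rw [map_add, hx, hy, smul_add]
        intro x y hxy
        rw [h2, h2] at hxy
        exact h1 hxy
      have hginj : Injective (M.projectiveShortComplex.f.hom.lTensor A) :=
        Module.Flat.lTensor_preserves_injective_linearMap _ hinj
      have := lTensor_injective_of_exact_of_exact_of_rTensor_injective hfexact
        (Submodule.mkQ_surjective _) hex hsurj hfinj hginj
      simpa only [f', LinearMap.baseChange_eq_ltensor] using this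
    let S' := ModuleCat.shortComplexOfCompEqZero f' g' hex'.linearMap_comp_eq_zero
    have S'_exact : S'.ShortExact := ModuleCat.shortComplex_shortExact S' hex' hinj' hsurj'
    have hP : Projective S'.X₂ :=
      (IsProjective.iff_projective (R := B) (B ⊗[A] M.projectiveShortComplex.X₂)).mp inferInstance
    exact S'_exact.hasProjectiveDimensionLT_X₃ (n + 1) hK' inferInstance

/-- Let A be a Noetherian local ring with maximal ideal m, E a finitely generated A-module of finite
projective dimension, and a ∈ m an element which is A-regular and E-regular. Then E/aE, as a module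
over A/aA, has finite projective dimension at most the projective dimension of E over A. -/
theorem result (A : Type u) [CommRing A] [IsLocalRing A]
    [IsNoetherianRing A] (E : Type u) [AddCommGroup E] [Module A E] [Module.Finite A E]
    (hfin : projectiveDimension (ModuleCat.of A E) ≠ ⊤) (a : A) (ha : a ∈ IsLocalRing.maximalIdeal A)
    (hA : IsSMulRegular A a) (hE : IsSMulRegular E a) :
    projectiveDimension (ModuleCat.of (A ⧸ Ideal.span {a}) (E ⧸ (Ideal.span {a} • (⊤ : Submodule A E)))) ≤
      projectiveDimension (ModuleCat.of A E) := by
  suffices ∀ c : WithBot ℕ∞, projectiveDimension (ModuleCat.of A E) ≤ c →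
      projectiveDimension (ModuleCat.of (A ⧸ Ideal.span {a})
        (E ⧸ (Ideal.span {a} • (⊤ : Submodule A E)))) ≤ c from this _ le_rfl
  intro c
  induction c with
  | bot =>
    intro h
    rw [le_bot_iff, projectiveDimension_eq_bot_iff, ModuleCat.isZero_iff_subsingleton] at h ⊢
    have : Subsingleton E := h
    show Subsingleton (E ⧸ (Ideal.span {a} • (⊤ : Submodule A E)))
    infer_instance
  | coe c =>
    induction c with
    | top => intro _; exact le_top
    | coe n =>
      intro h
      have h' : projectiveDimension (ModuleCat.of A E) ≤ (n : ℕ) := by exact_mod_cast h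
      rw [projectiveDimension_le_iff] at h'
      have h1 := key A a hA n (ModuleCat.of A E) hE h'
      have h2 : HasProjectiveDimensionLE (ModuleCat.of (A ⧸ Ideal.span {a})
          (E ⧸ (Ideal.span {a} • (⊤ : Submodule A E)))) n :=
        ModuleCat.hasProjectiveDimensionLE_of_linearEquiv
          (M := ModuleCat.of (A ⧸ Ideal.span {a}) ((A ⧸ Ideal.span {a}) ⊗[A] E))
          (N := ModuleCat.of (A ⧸ Ideal.span {a}) (E ⧸ (Ideal.span {a} • (⊤ : Submodule A E))))
          (Groth.Agent.S5777.quotEquiv E (Ideal.span {a})) n
      rw [← projectiveDimension_le_iff] at h2
      exact_mod_cast h2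

end Groth.Agent.S5782
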