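import Groth.Statements.S5788
import Mathlib

set_option autoImplicit false
universe u
open CategoryTheory
open EGA41

namespace Groth.Agent.S5788

open Abelian

/-- Baer's criterion in terms of `Ext¹`. -/
theorem injective_of_ext_one (A : Type u) [CommRing A] (M : ModuleCat.{u} A)
    (h : ∀ I : Ideal A, Subsingleton (Ext (ModuleCat.of A (A ⧸ I)) M 1)) : Injective M := by
  have hB : Module.Baer A M := by
    intro I g
    let S : ShortComplex (ModuleCat.{u} A) :=
      ModuleCat.shortComplexOfCompEqZero I.subtype I.mkQ
        (LinearMap.exact_subtype_mkQ I).linearMap_comp_eq_zero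
    have hS : S.ShortExact := ModuleCat.shortComplex_shortExact S
      (LinearMap.exact_subtype_mkQ I) (Submodule.injective_subtype I) (Submodule.mkQ_surjective I)
    obtain ⟨x₂, hx₂⟩ := Ext.contravariant_sequence_exact₁ hS M (Ext.mk₀ (ModuleCat.ofHom g))
      (n₁ := 1) (by norm_num) (@Subsingleton.elim _ (h I) _ _)
    obtain ⟨g', rfl⟩ := (Ext.mk₀_bijective _ _).2 x₂
    rw [Ext.mk₀_comp_mk₀] at hx₂
    have hcomp : S.f ≫ g' = ModuleCat.ofHom g := (Ext.mk₀_bijective _ _).1 hx₂
    refine ⟨g'.hom, fun x hx => ?_⟩
    have := congrArg (fun φ => φ.hom ⟨x, hx⟩) hcomp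
    simpa [S] using this
  exact (Module.injective_iff_injective_object A M).mp (Module.Baer.iff_injective.mp hB)

theorem key (A : Type u) [CommRing A] (n : ℕ) : ∀ (M : ModuleCat.{u} A),
    (∀ I : Ideal A, Subsingleton (Ext (ModuleCat.of A (A ⧸ I)) M (n + 1))) →
    HasInjectiveDimensionLT M (n + 1) := by
  induction n with
  | zero =>
    intro M h
    haveI := injective_of_ext_one A M h
    infer_instance
  | succ n ih =>
    intro M h
    let ⟨I, _, f, _⟩ := EnoughInjectives.presentation M
    have injf : Function.Injective f.hom := (ModuleCat.mono_iff_injective f).mp ‹_›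
    let S : ShortComplex (ModuleCat.{u} A) :=
      ModuleCat.shortComplexOfCompEqZero _ _ f.hom.exact_map_mkQ_range.linearMap_comp_eq_zero
    have hS : S.ShortExact := ModuleCat.shortComplex_shortExact S f.hom.exact_map_mkQ_range injf
      (Submodule.mkQ_surjective _)
    haveI : Injective S.X₂ := ‹Injective I›
    have hQ : HasInjectiveDimensionLT S.X₃ (n + 1) := by
      apply ih
      intro J
      refine ⟨fun x y => ?_⟩
      suffices hz : ∀ z : Ext (ModuleCat.of A (A ⧸ J)) S.X₃ (n + 1), z = 0 by rw [hz x, hz y]
      intro z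
      obtain ⟨x₂, rfl⟩ := Ext.covariant_sequence_exact₃ _ hS z (n₁ := n + 1 + 1) rfl
        (@Subsingleton.elim _ (h J) _ _)
      rw [Ext.eq_zero_of_injective x₂, Ext.zero_comp]
    exact (hS.hasInjectiveDimensionLT_X₃_iff n inferInstance).mp hQ

/-- Let A be a ring, M an A-module and n ≥ 0. Then M has injective dimension at most n if and only if
Ext^(n+1)_A(N, M) = 0 for every monogenous A-module N, i.e. for every N of the form A/I with I an
ideal of A. -/
theorem result (A : Type u) [CommRing A] (M : Type u)
    [AddCommGroup M] [Module A M] (n : ℕ) :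
    HasInjectiveDimensionLT (ModuleCat.of A M) (n + 1) ↔
      ∀ I : Ideal A, Subsingleton (Abelian.Ext (ModuleCat.of A (A ⧸ I)) (ModuleCat.of A M) (n + 1)) := by
  constructor
  · intro h I
    exact HasInjectiveDimensionLT.subsingleton (ModuleCat.of A M) (n + 1) (n + 1) le_rfl _
  · exact key A n (ModuleCat.of A M)

end Groth.Agent.S5788
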