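import Groth.Statements.S0563
import Mathlib
import Groth.Agent.H60.GlDim
import Groth.Agent.H23.RegularSeq

set_option autoImplicit false
universe u
open CategoryTheory
open CAlg

namespace Groth.Agent.S0563

open Function

/-- If `xs` is a weakly regular sequence on `A`, then `A ⧸ (x₁, …, x_k)` has projective dimension
at most `k`. -/
theorem pd_quot_regular {A : Type u} [CommRing A] (xs : List A)
    (hreg : RingTheory.Sequence.IsWeaklyRegular A xs) :
    ∀ k, k ≤ xs.length →
      HasProjectiveDimensionLT (ModuleCat.of A (A ⧸ Ideal.ofList (xs.take k))) (k + 1) := by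
  intro k
  induction k with
  | zero =>
    intro _
    have h0 : Ideal.ofList (xs.take 0) = ⊥ := by simp
    have e : (A ⧸ Ideal.ofList (xs.take 0)) ≃ₗ[A] A := Submodule.quotEquivOfEqBot _ h0
    haveI : Module.Projective A (A ⧸ Ideal.ofList (xs.take 0)) :=
      Module.Projective.of_equiv e.symm
    haveI : Projective (ModuleCat.of A (A ⧸ Ideal.ofList (xs.take 0))) :=
      (IsProjective.iff_projective (R := A) _).mp inferInstance
    rw [zero_add]
    infer_instance
  | succ k ih =>
    intro hk
    have hk' : k < xs.length := hk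
    have hJ : Ideal.ofList (xs.take (k + 1)) =
        Ideal.ofList (xs.take k) ⊔ Ideal.span {xs[k]} := by
      rw [List.take_succ_eq_append_getElem hk', Ideal.ofList_append, Ideal.ofList_singleton]
    have hle : Ideal.ofList (xs.take k) ≤ Ideal.ofList (xs.take (k + 1)) := by
      rw [hJ]; exact le_sup_left
    let β : (A ⧸ Ideal.ofList (xs.take k)) →ₗ[A] (A ⧸ Ideal.ofList (xs.take (k + 1))) :=
      Submodule.mapQ (Ideal.ofList (xs.take k)) (Ideal.ofList (xs.take (k + 1)))
        LinearMap.id hle
    have hβ : ∀ a : A, β (Submodule.Quotient.mk a) = Submodule.Quotient.mk a := fun a => rfl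
    have hβsurj : Surjective β := by
      intro q
      obtain ⟨a, rfl⟩ := Submodule.Quotient.mk_surjective _ q
      exact ⟨Submodule.Quotient.mk a, hβ a⟩
    let φ : (A ⧸ Ideal.ofList (xs.take k)) →ₗ[A] (A ⧸ Ideal.ofList (xs.take k)) :=
      LinearMap.lsmul A _ xs[k]
    have hφ : ∀ y, φ y = xs[k] • y := fun y => rfl
    have hregk : IsSMulRegular (A ⧸ Ideal.ofList (xs.take k)) xs[k] := by
      have e' : (A ⧸ (Ideal.ofList (xs.take k) • (⊤ : Submodule A A))) ≃ₗ[A]
          (A ⧸ Ideal.ofList (xs.take k)) :=
        Submodule.quotEquivOfEq _ _ (by rw [Ideal.smul_eq_mul, Ideal.mul_top])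
      exact (e'.isSMulRegular_congr xs[k]).mp (hreg.regular_mod_prev k hk')
    have hφinj : Injective φ := fun a b h => hregk (by simpa [hφ] using h)
    have hexact : Function.Exact φ β := by
      intro n
      constructor
      · intro hn
        obtain ⟨a, rfl⟩ := Submodule.Quotient.mk_surjective _ n
        have ha : a ∈ Ideal.ofList (xs.take (k + 1)) := by
          rw [hβ, Submodule.Quotient.mk_eq_zero] at hn
          exact hn
        rw [hJ] at ha
        obtain ⟨j, hj, c, hc, rfl⟩ := Submodule.mem_sup.mp ha
        obtain ⟨c', rfl⟩ := Ideal.mem_span_singleton'.mp hc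
        refine ⟨Submodule.Quotient.mk c', ?_⟩
        rw [hφ, ← Submodule.Quotient.mk_smul, smul_eq_mul]
        symm
        rw [Submodule.Quotient.eq]
        have : j + c' * xs[k] - xs[k] * c' = j := by ring
        rw [this]; exact hj
      · rintro ⟨n', rfl⟩
        obtain ⟨a, rfl⟩ := Submodule.Quotient.mk_surjective _ n'
        rw [hφ, ← Submodule.Quotient.mk_smul, hβ, Submodule.Quotient.mk_eq_zero, hJ, smul_eq_mul]
        exact Ideal.mul_mem_right _ _ (Ideal.mem_sup_right (Ideal.mem_span_singleton_self _))
    let S : ShortComplex (ModuleCat.{u} A) :=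
      ModuleCat.shortComplexOfCompEqZero φ β hexact.linearMap_comp_eq_zero
    have hS : S.ShortExact := ModuleCat.shortComplex_shortExact S hexact hφinj hβsurj
    have h1 : HasProjectiveDimensionLT S.X₁ (k + 1) := ih hk'.le
    have h2 : HasProjectiveDimensionLT S.X₂ (k + 1 + 1) :=
      hasProjectiveDimensionLT_of_ge S.X₂ (k + 1) (k + 1 + 1) (by omega)
    exact hS.hasProjectiveDimensionLT_X₃ (k + 1) h1 h2

/-- The residue field of a regular local ring of dimension `d` has projective dimension `≤ d`. -/
theorem pd_residueField (R : Type u) [CommRing R] [IsRegularLocalRing R] (d : ℕ)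
    (hd : ringKrullDim R = d) :
    HasProjectiveDimensionLT (ModuleCat.of R (IsLocalRing.ResidueField R)) (d + 1) := by
  classical
  have hfg : (IsLocalRing.maximalIdeal R).FG := (isNoetherianRing_iff_ideal_fg R).mp inferInstance _
  obtain ⟨s, hcard, hspan⟩ := Submodule.FG.exists_span_finset_card_eq_spanFinrank hfg
  have hsd : s.card = d := by
    have h1 : ((IsLocalRing.maximalIdeal R).spanFinrank : WithBot ℕ∞) = (d : WithBot ℕ∞) := by
      rw [← hd]; exact IsRegularLocalRing.spanFinrank_maximalIdeal
    have h2 : (IsLocalRing.maximalIdeal R).spanFinrank = d := by exact_mod_cast h1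
    rw [hcard, h2]
  let e : Fin d ≃ s := (finCongr hsd.symm).trans s.equivFin.symm
  let x : Fin d → R := fun i => (e i : R)
  have hrange : Set.range x = (s : Set R) := by
    ext r
    constructor
    · rintro ⟨i, rfl⟩; exact (e i).2
    · intro hr
      exact ⟨e.symm ⟨r, hr⟩, by simp [x]⟩
  have hx : Ideal.span (Set.range x) = IsLocalRing.maximalIdeal R := by
    rw [hrange]; exact hspan
  have hW := Groth.Agent.H23.weaklyRegular_generators d R hd x hx
  have hpd := pd_quot_regular (List.ofFn x) hW (List.ofFn x).length le_rfl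
  rw [List.take_length, List.length_ofFn] at hpd
  have hI : Ideal.ofList (List.ofFn x) = IsLocalRing.maximalIdeal R := by
    have h0 : {r | r ∈ List.ofFn x} = Set.range x := by
      ext z; exact List.mem_ofFn
    show Ideal.span {r | r ∈ List.ofFn x} = _
    rw [h0, hx]
  let e2 : (R ⧸ Ideal.ofList (List.ofFn x)) ≃ₗ[R] (IsLocalRing.ResidueField R) :=
    Submodule.quotEquivOfEq _ _ hI
  exact ModuleCat.hasProjectiveDimensionLE_of_linearEquiv
    (M := ModuleCat.of R (R ⧸ Ideal.ofList (List.ofFn x)))
    (N := ModuleCat.of R (IsLocalRing.ResidueField R)) e2 d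

/-- Over a regular local ring R of Krull dimension d, every R-module has projective dimension at most d
(encoded as `HasProjectiveDimensionLT _ (d + 1)`). -/
theorem result (R : Type u) [CommRing R]
    [IsRegularLocalRing R] (d : ℕ) (hd : ringKrullDim R = d) (M : Type u) [AddCommGroup M]
    [Module R M] : HasProjectiveDimensionLT (ModuleCat.of R M) (d + 1) := by
  exact Groth.Agent.H60.GlDim.glDim_le d (pd_residueField R d hd) M

end Groth.Agent.S0563
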