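import Groth.Statements.S5786
import Groth.Agent.H82.TorPD
import Groth.Agent.H82.TorBC
import Groth.Agent.S5805

set_option autoImplicit false
universe u
open CategoryTheory
open EGA41

namespace Groth.Agent.S5786

/-- Let φ : A → B be a local homomorphism of Noetherian local rings making B a flat A-module. Then the
global (cohomological) dimension of A is at most that of B: if every B-module has projective
dimension at most n, then so does every A-module. -/
theorem result (A B : Type u) [CommRing A] [CommRing B] [IsLocalRing A]
    [IsLocalRing B] [IsNoetherianRing A] [IsNoetherianRing B] [Algebra A B] [IsLocalHom (algebraMap A B)]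
    [Module.Flat A B] (n : ℕ)
    (hB : ∀ (N : Type u) [AddCommGroup N] [Module B N], HasProjectiveDimensionLT (ModuleCat.of B N) (n + 1))
    (M : Type u) [AddCommGroup M] [Module A M] : HasProjectiveDimensionLT (ModuleCat.of A M) (n + 1) := by
  apply Groth.Agent.S5805.result A n
  apply Groth.Agent.H82.TorPD.hasProjectiveDimensionLT_of_isZero_tor n (IsLocalRing.ResidueField A)
  haveI : Module.FaithfullyFlat A B := Module.FaithfullyFlat.of_flat_of_isLocalHom
  obtain ⟨e⟩ := Groth.Agent.H82.TorBC.nonempty_tor_baseChange A B (IsLocalRing.ResidueField A)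
    (IsLocalRing.ResidueField A) (n + 1)
  have hz := Groth.Agent.H82.TorPD.isZero_tor_of_hasProjectiveDimensionLT
    (ModuleCat.of B (TensorProduct A B (IsLocalRing.ResidueField A))) n
    (ModuleCat.of B (TensorProduct A B (IsLocalRing.ResidueField A))) (hB _) (n + 1)
    (Nat.lt_succ_self n)
  haveI hs : Subsingleton (((CategoryTheory.Tor (ModuleCat.{u} B) (n + 1)).obj
      (ModuleCat.of B (TensorProduct A B (IsLocalRing.ResidueField A)))).obj
      (ModuleCat.of B (TensorProduct A B (IsLocalRing.ResidueField A)))) :=
    ModuleCat.subsingleton_of_isZero hz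
  haveI : Subsingleton (TensorProduct A B (((CategoryTheory.Tor (ModuleCat.{u} A) (n + 1)).obj
      (ModuleCat.of A (IsLocalRing.ResidueField A))).obj
      (ModuleCat.of A (IsLocalRing.ResidueField A)))) := e.toEquiv.subsingleton
  haveI := Module.FaithfullyFlat.lTensor_reflects_triviality A B
    (((CategoryTheory.Tor (ModuleCat.{u} A) (n + 1)).obj
      (ModuleCat.of A (IsLocalRing.ResidueField A))).obj
      (ModuleCat.of A (IsLocalRing.ResidueField A)))
  exact ModuleCat.isZero_of_subsingleton _

end Groth.Agent.S5786
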