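import Groth.Statements.S0564
import Mathlib
import Groth.Agent.H71.SerreRegular
import Groth.Agent.S0563
import Groth.Agent.S2600

set_option autoImplicit false
universe u
open CAlg

namespace Groth.Agent.S0564

/-- The localization of a regular local ring at any prime ideal is a regular local ring. -/
theorem result (R : Type u) [CommRing R]
    [IsRegularLocalRing R] (p : Ideal R) [p.IsPrime] :
    IsRegularLocalRing (Localization.AtPrime p) := by
  classical
  have hreg := (isRegularLocalRing_iff R).mp inferInstance
  have hpd : CategoryTheory.HasProjectiveDimensionLT (ModuleCat.of R (R ⧸ p))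
      ((IsLocalRing.maximalIdeal R).spanFinrank + 1) :=
    Groth.Agent.S0563.result R _ hreg.symm (R ⧸ p)
  have hle := Groth.Agent.S2600.result R (Localization.AtPrime p) (R ⧸ p)
  have h1 : CategoryTheory.projectiveDimension (ModuleCat.of R (R ⧸ p)) ≤
      ((IsLocalRing.maximalIdeal R).spanFinrank : ℕ) :=
    (CategoryTheory.projectiveDimension_le_iff _ _).mpr hpd
  have h2 : CategoryTheory.HasProjectiveDimensionLE (ModuleCat.of (Localization.AtPrime p)
      (TensorProduct R (Localization.AtPrime p) (R ⧸ p)))
      ((IsLocalRing.maximalIdeal R).spanFinrank) :=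
    (CategoryTheory.projectiveDimension_le_iff _ _).mp (hle.trans h1)
  let e : ((Localization.AtPrime p) ⧸ p.map (algebraMap R (Localization.AtPrime p)))
      ≃ₗ[Localization.AtPrime p] TensorProduct R (Localization.AtPrime p) (R ⧸ p) :=
    (Algebra.TensorProduct.quotIdealMapEquivTensorQuot (Localization.AtPrime p) p).toLinearEquiv
  let e2 : ((Localization.AtPrime p) ⧸ p.map (algebraMap R (Localization.AtPrime p)))
      ≃ₗ[Localization.AtPrime p]
      ((Localization.AtPrime p) ⧸ IsLocalRing.maximalIdeal (Localization.AtPrime p)) :=
    Submodule.quotEquivOfEq _ _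
      (IsLocalization.AtPrime.map_eq_maximalIdeal p (Localization.AtPrime p))
  have h3 : Groth.Agent.H71.SR.FinPD (Localization.AtPrime p)
      (IsLocalRing.ResidueField (Localization.AtPrime p)) :=
    Groth.Agent.H71.SR.FinPD.of_linearEquiv (e.symm.trans e2) ⟨_, h2⟩
  exact Groth.Agent.H71.SR.regular_of_finPD _ h3

end Groth.Agent.S0564
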