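import Groth.Statements.S9246
import Mathlib
import Groth.Agent.H71.FlatRegular

set_option autoImplicit false
universe u
open CAlg

namespace Groth.Agent.S9246

/-- Let A → B be an étale ring map and q a prime of B lying over the prime p of A. Then A_p is a regular
local ring if and only if B_q is a regular local ring. -/
theorem result (A B : Type u) [CommRing A] [CommRing B]
    [Algebra A B] [Algebra.Etale A B] (q : Ideal B) [q.IsPrime] :
    IsRegularLocalRing (Localization.AtPrime (Ideal.comap (algebraMap A B) q)) ↔
      IsRegularLocalRing (Localization.AtPrime q) := by
  haveI : q.LiesOver (q.comap (algebraMap A B)) := ⟨rfl⟩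
  letI := Localization.AtPrime.algebraOfLiesOver (q.comap (algebraMap A B)) q
  haveI : IsLocalHom (algebraMap (Localization.AtPrime (q.comap (algebraMap A B)))
      (Localization.AtPrime q)) := Localization.isLocalHom_localRingHom _ _ _ _
  haveI : Module.Flat A B := inferInstance
  constructor
  · intro hA
    haveI : Algebra.EssFiniteType A (Localization.AtPrime q) :=
      Algebra.EssFiniteType.comp A B (Localization.AtPrime q)
    haveI : Algebra.EssFiniteType (Localization.AtPrime (q.comap (algebraMap A B)))
        (Localization.AtPrime q) :=
      Algebra.EssFiniteType.of_comp A (Localization.AtPrime (q.comap (algebraMap A B)))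
        (Localization.AtPrime q)
    haveI : IsNoetherianRing (Localization.AtPrime q) :=
      Algebra.EssFiniteType.isNoetherianRing (Localization.AtPrime (q.comap (algebraMap A B)))
        (Localization.AtPrime q)
    haveI : Algebra.FormallyUnramified B (Localization.AtPrime q) :=
      Algebra.FormallyUnramified.of_isLocalization q.primeCompl
    haveI : Algebra.FormallyUnramified A (Localization.AtPrime q) :=
      Algebra.FormallyUnramified.comp A B (Localization.AtPrime q)
    haveI : Algebra.FormallyUnramified (Localization.AtPrime (q.comap (algebraMap A B)))
        (Localization.AtPrime q) :=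
      Algebra.FormallyUnramified.of_restrictScalars A
        (Localization.AtPrime (q.comap (algebraMap A B))) (Localization.AtPrime q)
    exact Groth.Agent.H71.FR.regular_of_flat_of_map_maximalIdeal
      (Localization.AtPrime (q.comap (algebraMap A B))) (Localization.AtPrime q)
      Algebra.FormallyUnramified.map_maximalIdeal
  · intro hB
    haveI : Module.FaithfullyFlat (Localization.AtPrime (q.comap (algebraMap A B)))
        (Localization.AtPrime q) := Module.FaithfullyFlat.of_flat_of_isLocalHom
    haveI : IsNoetherianRing (Localization.AtPrime (q.comap (algebraMap A B))) :=
      Groth.Agent.H1.isNoetherianRing_of_faithfullyFlat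
        (Localization.AtPrime (q.comap (algebraMap A B))) (Localization.AtPrime q)
    exact Groth.Agent.S0565.result (Localization.AtPrime (q.comap (algebraMap A B)))
      (Localization.AtPrime q)

end Groth.Agent.S9246
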