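import Groth.Statements.S5792
import Groth.Agent.H29.TopDim

set_option autoImplicit false
universe u
open TopDim

namespace Groth.Agent.S5792

/-- For every topological space X one has dim(X) = sup_{x ∈ X} dim_x(X), the supremum of the local
combinatorial dimensions. -/
theorem result (X : Type u) [TopologicalSpace X] :
    topologicalKrullDim X = ⨆ x : X, FlatMor.localDim X x := by
  apply le_antisymm
  · unfold topologicalKrullDim Order.krullDim
    apply iSup_le
    intro p
    obtain ⟨x, hx⟩ := (p.head).isIrreducible.nonempty
    refine le_trans ?_ (le_iSup _ x)
    unfold FlatMor.localDim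
    apply le_iInf
    rintro ⟨U, hxU⟩
    exact Groth.Agent.H29.length_le_dim_open p x hx U U.isOpen hxU
  · apply iSup_le
    intro x
    refine le_trans (iInf_le _ ⟨⊤, trivial⟩) ?_
    exact topologicalKrullDim_subspace_le X _

end Groth.Agent.S5792
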