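import Groth.Statements.S9175
import Groth.Agent.H9.FibDimRing

set_option linter.style.haveILetI false

set_option autoImplicit false
universe u
open CAlg

namespace Groth.Agent.S9175


open TensorProduct MvPolynomial TopologicalSpace Groth.Agent.H9.FibDim

/-- Version of the statement with `S'` a localization of `S` away from `g`, quasi-finite at the prime. -/
theorem step1 (R S : Type u) [CommRing R] [CommRing S]
    [Algebra R S] [Algebra.FiniteType R S] (p : Ideal R) [p.IsPrime] (q : Ideal S) [q.IsPrime] [q.LiesOver p]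
    (Q : PrimeSpectrum (p.Fiber S))
    (hQ : Q.asIdeal.comap (Algebra.TensorProduct.includeRight.toRingHom) = q) (n : ℕ)
    (hdim : FlatMor.localDim (PrimeSpectrum (p.Fiber S)) Q = (n : WithBot ℕ∞)) :
    ∃ g : S, g ∉ q ∧ ringKrullDim (p.Fiber (Localization.Away g)) = (n : WithBot ℕ∞) := by
  obtain ⟨h, hhQ, hh⟩ := exists_basicOpen_dim_eq (p.Fiber S) Q
  obtain ⟨r, hr, g, hg⟩ := Ideal.Fiber.exists_smul_eq_one_tmul p h
  have hunit : IsUnit (algebraMap R (p.Fiber S) r) := by
    rw [IsScalarTower.algebraMap_apply R p.ResidueField (p.Fiber S)]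
    apply IsUnit.map
    rw [isUnit_iff_ne_zero]
    exact fun h0 => hr (Ideal.algebraMap_residueField_eq_zero.mp h0)
  have hbo : PrimeSpectrum.basicOpen ((1 : p.ResidueField) ⊗ₜ[R] g) = PrimeSpectrum.basicOpen h := by
    have htop : PrimeSpectrum.basicOpen (algebraMap R (p.Fiber S) r) = ⊤ := by
      ext x
      simp only [PrimeSpectrum.mem_basicOpen, Opens.coe_top, Set.mem_univ, iff_true, SetLike.mem_coe]
      exact fun hx => x.2.ne_top (Ideal.eq_top_of_isUnit_mem _ hx hunit)
    rw [← hg, Algebra.smul_def, PrimeSpectrum.basicOpen_mul, htop, top_inf_eq]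
  refine ⟨g, ?_, ?_⟩
  · intro hgq
    apply hhQ
    have h1 : (1 : p.ResidueField) ⊗ₜ[R] g ∈ Q.asIdeal := by
      rw [← hQ] at hgq
      exact hgq
    have h2 : Q ∉ PrimeSpectrum.basicOpen ((1 : p.ResidueField) ⊗ₜ[R] g) := fun h3 => h3 h1
    rw [hbo] at h2
    by_contra h4
    exact h2 h4
  · let e := IsLocalization.Away.tensorProductEquivTMulRight R p.ResidueField g (Localization.Away g)
    rw [ringKrullDim_eq_of_ringEquiv e.toRingEquiv, ← dim_basicOpen_eq, hbo, hh, hdim]



/-- quasi-finite version on a localization `S'` of `S`. -/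
theorem step2 (R S' : Type u) [CommRing R] [CommRing S'] [Algebra R S'] [Algebra.FiniteType R S']
    (p : Ideal R) [p.IsPrime] (q' : Ideal S') [q'.IsPrime] (hq' : q'.under R = p) (n : ℕ)
    (hdim : ringKrullDim (p.Fiber S') = (n : WithBot ℕ∞)) :
    ∃ φ : MvPolynomial (Fin n) R →ₐ[R] S', ∃ r : S', r ∉ q' ∧
      letI := φ.toRingHom.toAlgebra
      Algebra.QuasiFinite (MvPolynomial (Fin n) R) (Localization.Away r) := by
  obtain ⟨φ, ψ, hψ, hψφ⟩ := exists_algHom_finite_fiber p S' n hdim
  letI algB : Algebra (MvPolynomial (Fin n) R) S' := φ.toRingHom.toAlgebra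
  haveI : IsScalarTower R (MvPolynomial (Fin n) R) S' :=
    IsScalarTower.of_algebraMap_eq (fun a => (φ.commutes a).symm)
  haveI : Algebra.FiniteType (MvPolynomial (Fin n) R) S' :=
    Algebra.FiniteType.of_restrictScalars_finiteType R _ _
  haveI : Algebra.QuasiFiniteAt (MvPolynomial (Fin n) R) q' :=
    quasiFiniteAt_of_finite p n S' ψ hψ hψφ q' hq'
  obtain ⟨r, hr, hqf⟩ := exists_quasiFinite_away (B := MvPolynomial (Fin n) R) q'
  exact ⟨φ, r, hr, hqf⟩



theorem result' (R S : Type u) [CommRing R] [CommRing S]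
    [Algebra R S] [Algebra.FiniteType R S] (p : Ideal R) [p.IsPrime] (q : Ideal S) [q.IsPrime] [q.LiesOver p]
    (Q : PrimeSpectrum (p.Fiber S))
    (hQ : Q.asIdeal.comap (Algebra.TensorProduct.includeRight.toRingHom) = q) (n : ℕ)
    (hdim : FlatMor.localDim (PrimeSpectrum (p.Fiber S)) Q = (n : WithBot ℕ∞)) :
    ∃ g : S, g ∉ q ∧ ∃ φ : MvPolynomial (Fin n) R →ₐ[R] Localization.Away g,
      φ.toRingHom.FiniteType ∧ φ.toRingHom.QuasiFinite := by
  obtain ⟨g, hgq, hdimg⟩ := step1 R S p q Q hQ n hdim
  set S' := Localization.Away g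
  have hdisj : Disjoint (Submonoid.powers g : Set S) (q : Set S) :=
    (Ideal.disjoint_powers_iff_notMem_of_isPrime _).mpr hgq
  let q' : Ideal S' := q.map (algebraMap S S')
  haveI hq'prime : q'.IsPrime :=
    IsLocalization.isPrime_of_isPrime_disjoint (Submonoid.powers g) S' q inferInstance hdisj
  have hq'S : q'.under S = q :=
    IsLocalization.under_map_of_isPrime_disjoint (Submonoid.powers g) S' inferInstance hdisj
  have hq'R : q'.under R = p := by
    rw [← Ideal.under_under (B := S), hq'S]
    exact (Ideal.LiesOver.over (p := p) (P := q)).symm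
  haveI : Algebra.FiniteType R S' := Algebra.FiniteType.trans (S := S) inferInstance inferInstance
  obtain ⟨φ, r, hr, hqf⟩ := step2 R S' p q' hq'R n hdimg
  letI algB : Algebra (MvPolynomial (Fin n) R) S' := φ.toRingHom.toAlgebra
  haveI : IsScalarTower R (MvPolynomial (Fin n) R) S' :=
    IsScalarTower.of_algebraMap_eq (fun a => (φ.commutes a).symm)
  obtain ⟨s, m, hsm⟩ := IsLocalization.exists_mk'_eq (Submonoid.powers g) r
  have hunit : IsUnit (algebraMap S S' (m : S)) := IsLocalization.map_units S' m
  have hspec : r * algebraMap S S' (m : S) = algebraMap S S' s := by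
    rw [← hsm, IsLocalization.mk'_spec]
  have hassoc : Associated (algebraMap S S' s) r := by
    refine Associated.symm ⟨hunit.unit, ?_⟩
    rw [IsUnit.unit_spec, hspec]
  have hsq : s ∉ q := by
    intro hs
    have h1 : algebraMap S S' s ∈ q' := Ideal.mem_map_of_mem _ hs
    rw [← hspec] at h1
    rcases hq'prime.mem_or_mem h1 with h2 | h2
    · exact hr h2
    · exact hq'prime.ne_top (Ideal.eq_top_of_isUnit_mem _ h2 hunit)
  haveI : IsLocalization.Away (g * s) (Localization.Away r) :=
    IsLocalization.Away.mul_of_associated g s r hassoc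
  let e : Localization.Away (g * s) ≃ₐ[S] Localization.Away r :=
    IsLocalization.algEquiv (Submonoid.powers (g * s)) _ _
  refine ⟨g * s, fun h => (Ideal.IsPrime.mem_or_mem inferInstance h).elim hgq hsq, ?_⟩
  let φ' : MvPolynomial (Fin n) R →ₐ[R] Localization.Away (g * s) :=
    (e.symm.toAlgHom.restrictScalars R).comp ((IsScalarTower.toAlgHom R S' (Localization.Away r)).comp φ)
  refine ⟨φ', ?_, ?_⟩
  · haveI : Algebra.FiniteType R (Localization.Away (g * s)) :=
      Algebra.FiniteType.trans (S := S) inferInstance inferInstance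
    have h1 : (algebraMap R (Localization.Away (g * s))).FiniteType :=
      RingHom.finiteType_algebraMap.mpr inferInstance
    have h2 : φ'.toRingHom.comp (algebraMap R (MvPolynomial (Fin n) R)) =
        algebraMap R (Localization.Away (g * s)) := φ'.comp_algebraMap
    rw [← h2] at h1
    exact RingHom.FiniteType.of_comp_finiteType h1
  · have h1 : (algebraMap (MvPolynomial (Fin n) R) (Localization.Away r)).QuasiFinite :=
      RingHom.quasiFinite_algebraMap.mpr hqf
    have h2 : (e.symm : Localization.Away r →+* Localization.Away (g * s)).QuasiFinite :=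
      RingHom.QuasiFinite.of_finite (RingHom.Finite.of_surjective _ e.symm.surjective)
    have h3 : φ'.toRingHom = (e.symm : Localization.Away r →+* Localization.Away (g * s)).comp
        (algebraMap (MvPolynomial (Fin n) R) (Localization.Away r)) := by
      ext x <;> rfl
    rw [h3]
    exact h2.comp h1


/-- Let R → S be of finite type, q a prime of S over p, and Q the prime of the fibre ring κ(p) ⊗ S
pulling back to q. If Spec(κ(p) ⊗ S) has local dimension n at Q (the relative dimension of S over R
at q is n), then some S_g with g ∉ q admits an R-algebra map from the polynomial ring R[t_1, …, t_n]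
which is of finite type and quasi-finite. -/
theorem result (R S : Type u) [CommRing R] [CommRing S]
    [Algebra R S] [Algebra.FiniteType R S] (p : Ideal R) [p.IsPrime] (q : Ideal S) [q.IsPrime] [q.LiesOver p]
    (Q : PrimeSpectrum (p.Fiber S))
    (hQ : Q.asIdeal.comap (Algebra.TensorProduct.includeRight.toRingHom) = q) (n : ℕ)
    (hdim : FlatMor.localDim (PrimeSpectrum (p.Fiber S)) Q = (n : WithBot ℕ∞)) :
    ∃ g : S, g ∉ q ∧ ∃ φ : MvPolynomial (Fin n) R →ₐ[R] Localization.Away g,
      φ.toRingHom.FiniteType ∧ φ.toRingHom.QuasiFinite := by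
  exact result' R S p q Q hQ n hdim

end Groth.Agent.S9175
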