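import Groth.Statements.S9124
import Groth.Agent.H46.Catenary
import Mathlib.RingTheory.Localization.Ideal
import Mathlib.RingTheory.Spectrum.Prime.Topology

set_option autoImplicit false
universe u
open CAlg

namespace Groth.Agent.S9124

/-- A localization of a catenary ring is catenary. -/
theorem result (A : Type u) [CommRing A] (S : Submonoid A)
    (B : Type u) [CommRing B] [Algebra A B] [IsLocalization S B]
    (hA : CAlg.IsCatenary A) : CAlg.IsCatenary B := by
  refine Groth.Agent.H46.isCatenary_of_embedding (PrimeSpectrum.comap (algebraMap A B)) ?_ ?_ hA
  · intro x y
    constructor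
    · intro hxy
      have h1 : Ideal.comap (algebraMap A B) x.asIdeal ≤ Ideal.comap (algebraMap A B) y.asIdeal :=
        hxy
      have h2 := Ideal.map_mono (f := algebraMap A B) h1
      rw [IsLocalization.map_under S B, IsLocalization.map_under S B] at h2
      exact h2
    · intro hxy
      exact Ideal.comap_mono (f := algebraMap A B) hxy
  · intro x y r _ hry
    have hmem : r ∈ Set.range (PrimeSpectrum.comap (algebraMap A B)) := by
      rw [PrimeSpectrum.localization_comap_range B S]
      have hy : PrimeSpectrum.comap (algebraMap A B) y ∈
          Set.range (PrimeSpectrum.comap (algebraMap A B)) := ⟨y, rfl⟩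
      rw [PrimeSpectrum.localization_comap_range B S] at hy
      exact Set.disjoint_of_subset_right hry hy
    exact hmem

end Groth.Agent.S9124
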