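import Groth.Statements.S9126
import Groth.Agent.S9124
import Mathlib.RingTheory.EssentialFiniteness
import Mathlib.RingTheory.Localization.Submodule

set_option autoImplicit false
universe u
open CAlg

namespace Groth.Agent.S9126

/-- An algebra essentially of finite type over a Noetherian universally catenary ring is universally
catenary. -/
theorem result (A : Type u) [CommRing A] (B : Type u) [CommRing B]
    [Algebra A B] [Algebra.EssFiniteType A B]
    (hA : CAlg.IsUniversallyCatenary A) : CAlg.IsUniversallyCatenary B := by
  obtain ⟨hnoeth, hcat⟩ := hA
  refine ⟨Algebra.EssFiniteType.isNoetherianRing A B, ?_⟩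
  intro T _ _ hT
  let _ : Algebra A T := ((algebraMap B T).comp (algebraMap A B)).toAlgebra
  have : IsScalarTower A B T := IsScalarTower.of_algebraMap_eq' rfl
  have : Algebra.EssFiniteType A T := Algebra.EssFiniteType.comp A B T
  have h1 : CAlg.IsCatenary (Algebra.EssFiniteType.subalgebra A T) := hcat _ inferInstance
  exact Groth.Agent.S9124.result (Algebra.EssFiniteType.subalgebra A T)
    (Algebra.EssFiniteType.submonoid A T) T h1

end Groth.Agent.S9126
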