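import Groth.Statements.S2141
import Groth.Agent.H9.LocalDimField
import Groth.Agent.H54.AffineTrdeg

set_option linter.style.haveILetI false

set_option autoImplicit false
universe u
open CAlg

namespace Groth.Agent.S2141


open Groth.Agent.H9.FibDim Groth.Agent.H9.LocalDimField

/-- a chain of primes above `I` descends to the quotient. -/
theorem exists_ltSeries_quotient {A : Type*} [CommRing A] (I : Ideal A) (l : LTSeries (PrimeSpectrum A))
    (h : I ≤ l.head.asIdeal) : ∃ L : LTSeries (PrimeSpectrum (A ⧸ I)), L.length = l.length ∧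
      L.last.asIdeal = l.last.asIdeal.map (Ideal.Quotient.mk I) := by
  have hsurj : Function.Surjective (Ideal.Quotient.mk I) := Ideal.Quotient.mk_surjective
  have hI : ∀ i, I ≤ (l i).asIdeal := fun i => h.trans (l.head_le i)
  have hker : ∀ i, RingHom.ker (Ideal.Quotient.mk I) ≤ (l i).asIdeal := fun i => by
    rw [Ideal.mk_ker]; exact hI i
  let f : Fin (l.length + 1) → PrimeSpectrum (A ⧸ I) := fun i =>
    ⟨(l i).asIdeal.map (Ideal.Quotient.mk I), Ideal.map_isPrime_of_surjective hsurj (hker i)⟩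
  have hcomap : ∀ i, (f i).asIdeal.comap (Ideal.Quotient.mk I) = (l i).asIdeal := fun i => by
    show Ideal.comap _ (Ideal.map _ _) = _
    rw [Ideal.comap_map_of_surjective _ hsurj, ← RingHom.ker_eq_comap_bot]
    exact sup_eq_left.mpr (hker i)
  have hf : StrictMono f := by
    intro i j hij
    have hlt : l i < l j := l.strictMono hij
    have hle : f i ≤ f j := Ideal.map_mono hlt.le
    refine lt_of_le_of_ne hle fun heq => hlt.ne ?_
    apply PrimeSpectrum.ext
    rw [← hcomap i, ← hcomap j, heq]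
  exact ⟨LTSeries.mk l.length f hf, rfl, rfl⟩

/-- (HQ) the height of a prime is attained modulo some minimal prime. -/
theorem exists_minimalPrime_height_le {A : Type*} [CommRing A] (p : Ideal A) [hp : p.IsPrime]
    [p.FiniteHeight] : ∃ q0 : Ideal A, q0 ∈ minimalPrimes A ∧ q0 ≤ p ∧
      p.height ≤ (p.map (Ideal.Quotient.mk q0)).height := by
  obtain ⟨l, hlast, hlen⟩ := p.exists_ltSeries_length_eq_height
  obtain ⟨q0, hq0min, hq0le⟩ := Ideal.exists_minimalPrimes_le (I := ⊥) (J := l.head.asIdeal) bot_le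
  have hq0p : q0 ≤ p := by
    have : l.head ≤ l.last := l.head_le _
    have h2 : l.head.asIdeal ≤ l.last.asIdeal := this
    rw [hlast] at h2
    exact hq0le.trans h2
  refine ⟨q0, hq0min, hq0p, ?_⟩
  obtain ⟨L, hLlen, hLlast⟩ := exists_ltSeries_quotient q0 l hq0le
  have h1 := Order.length_le_height_last (p := L)
  rw [← PrimeSpectrum.height_eq_orderHeight, hLlast, hlast, hLlen] at h1
  rw [← hlen]
  exact h1


theorem dim_quot_eq (k : Type u) [Field k] (A : Type u) [CommRing A] [Algebra k A]
    [Algebra.FiniteType k A] (q0 p : Ideal A) [q0.IsPrime] [p.IsPrime] (hle : q0 ≤ p) :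
    ringKrullDim (A ⧸ q0) =
      ((p.map (Ideal.Quotient.mk q0)).height : WithBot ℕ∞) + ringKrullDim (A ⧸ p) := by
  have hsurj : Function.Surjective (Ideal.Quotient.mk q0) := Ideal.Quotient.mk_surjective
  haveI hP : (p.map (Ideal.Quotient.mk q0)).IsPrime :=
    Ideal.map_isPrime_of_surjective hsurj (by rw [Ideal.mk_ker]; exact hle)
  have h1 := Groth.Agent.H54.height_add_ringKrullDim_quotient k (A ⧸ q0)
    ⟨p.map (Ideal.Quotient.mk q0), hP⟩
  rw [← h1]
  congr 1
  exact ringKrullDim_eq_of_ringEquiv (DoubleQuot.quotQuotEquivQuotOfLE hle)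

theorem dim_quot_eq_trdeg (k : Type u) [Field k] (A : Type u) [CommRing A] [Algebra k A]
    [Algebra.FiniteType k A] (p : Ideal A) [p.IsPrime] (r : ℕ)
    (hr : Algebra.trdeg k p.ResidueField = r) : ringKrullDim (A ⧸ p) = (r : WithBot ℕ∞) := by
  obtain ⟨n, hn1, hn2⟩ := Groth.Agent.H54.exists_ringKrullDim_eq_trdeg k (A ⧸ p)
  have h := Groth.Agent.H54.trdeg_eq_trdeg_of_isFractionRing k (A ⧸ p) p.ResidueField
  rw [hr, hn1] at h
  have : r = n := by exact_mod_cast h
  rw [hn2, this]

theorem result' {k S : Type u} [Field k] [CommRing S] [Algebra k S] [Algebra.FiniteType k S]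
    (p : Ideal S) [p.IsPrime] (r : ℕ) (hr : Algebra.trdeg k p.ResidueField = r) :
    FlatMor.localDim (PrimeSpectrum S) ⟨p, inferInstance⟩ = ringKrullDim (Localization.AtPrime p) + (r : WithBot ℕ∞) := by
  haveI : IsNoetherianRing S := Algebra.FiniteType.isNoetherianRing k S
  rw [localDim_eq_iSup k S, IsLocalization.AtPrime.ringKrullDim_eq_height p]
  have hr' := dim_quot_eq_trdeg k S p r hr
  apply le_antisymm
  · apply iSup_le
    rintro ⟨q0, hq0, hle⟩
    haveI := q0.2
    have hle' : q0.asIdeal ≤ p := hle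
    rw [dim_quot_eq k S q0.asIdeal p hle', hr']
    have hsurj : Function.Surjective (Ideal.Quotient.mk q0.asIdeal) := Ideal.Quotient.mk_surjective
    haveI hP : (p.map (Ideal.Quotient.mk q0.asIdeal)).IsPrime :=
      Ideal.map_isPrime_of_surjective hsurj (by rw [Ideal.mk_ker]; exact hle')
    have h2 := height_le_height_comap_of_surjective _ hsurj (p.map (Ideal.Quotient.mk q0.asIdeal))
    have hcomap : (p.map (Ideal.Quotient.mk q0.asIdeal)).comap (Ideal.Quotient.mk q0.asIdeal) = p := by
      rw [Ideal.comap_map_of_surjective _ hsurj, ← RingHom.ker_eq_comap_bot, Ideal.mk_ker]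
      exact sup_eq_left.mpr hle'
    rw [hcomap] at h2
    gcongr
    exact_mod_cast h2
  · obtain ⟨q0, hq0min, hq0p, hht⟩ := exists_minimalPrime_height_le p
    haveI : q0.IsPrime := hq0min.1.1
    refine le_trans ?_ (le_iSup (fun q0 : {q0 : PrimeSpectrum S // q0.asIdeal ∈ minimalPrimes S ∧
      q0 ≤ ⟨p, inferInstance⟩} => ringKrullDim (S ⧸ q0.1.asIdeal)) ⟨⟨q0, inferInstance⟩, hq0min, hq0p⟩)
    show _ ≤ ringKrullDim (S ⧸ q0)
    rw [dim_quot_eq k S q0 p hq0p, hr']
    gcongr
    exact_mod_cast hht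


/-- Let `S` be of finite type over a field `k` and `𝔭` a prime of `S` whose residue field has
transcendence degree `r` over `k`. Then the local dimension of `Spec S` at `𝔭` equals `dim S_𝔭 + r`. -/
theorem result {k S : Type u} [Field k] [CommRing S] [Algebra k S] [Algebra.FiniteType k S]
    (p : Ideal S) [p.IsPrime] (r : ℕ) (hr : Algebra.trdeg k p.ResidueField = r) :
    FlatMor.localDim (PrimeSpectrum S) ⟨p, inferInstance⟩ = ringKrullDim (Localization.AtPrime p) + (r : WithBot ℕ∞) := by
  exact result' (k := k) p r hr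

end Groth.Agent.S2141
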