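import Groth.Statements.S3447
import Mathlib

set_option autoImplicit false
open CategoryTheory AlgebraicGeometry
universe u
open EGA43

namespace Groth.Agent.S3447

open IsLocalRing Limits in
theorem dim_le {A B : Type u} [CommRing A] [CommRing B] [IsLocalRing A] [IsLocalRing B]
    [IsNoetherianRing A] [IsNoetherianRing B] (φ : A →+* B) [IsLocalHom φ] :
    ringKrullDim B ≤ ringKrullDim A + ringKrullDim (B ⧸ (maximalIdeal A).map φ) := by
  algebraize [φ]
  have : (maximalIdeal B).LiesOver (maximalIdeal A) :=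
    ⟨by rw [Ideal.under_def]; exact (IsLocalRing.maximalIdeal_comap φ).symm⟩
  have h := Ideal.height_le_height_add_of_liesOver (maximalIdeal A) (maximalIdeal B)
  have hne : (maximalIdeal A).map (algebraMap A B) ≠ ⊤ :=
    (IsLocalRing.map_maximalIdeal_lt_top φ).ne
  have h2 : (((maximalIdeal B).map (Ideal.Quotient.mk ((maximalIdeal A).map (algebraMap A B)))).height
      : WithBot ℕ∞) ≤ ringKrullDim (B ⧸ (maximalIdeal A).map (algebraMap A B)) := by
    apply Ideal.height_le_ringKrullDim_of_ne_top
    intro htop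
    have hle : (maximalIdeal A).map (algebraMap A B) ≤ maximalIdeal B :=
      IsLocalRing.map_maximalIdeal_le φ
    have := Ideal.comap_map_of_surjective (Ideal.Quotient.mk ((maximalIdeal A).map (algebraMap A B)))
      Ideal.Quotient.mk_surjective (maximalIdeal B)
    rw [htop, Ideal.comap_top, ← RingHom.ker_eq_comap_bot, Ideal.mk_ker, sup_eq_left.mpr hle] at this
    exact (maximalIdeal.isMaximal B).ne_top this.symm
  rw [← IsLocalRing.maximalIdeal_height_eq_ringKrullDim (R := B),
    ← IsLocalRing.maximalIdeal_height_eq_ringKrullDim (R := A)]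
  calc ((maximalIdeal B).height : WithBot ℕ∞)
      ≤ (((maximalIdeal A).height + ((maximalIdeal B).map
          (Ideal.Quotient.mk ((maximalIdeal A).map (algebraMap A B)))).height : ℕ∞) : WithBot ℕ∞) := by
        exact_mod_cast h
    _ = ((maximalIdeal A).height : WithBot ℕ∞) + (((maximalIdeal B).map
          (Ideal.Quotient.mk ((maximalIdeal A).map (algebraMap A B)))).height : WithBot ℕ∞) := by
        push_cast; rfl
    _ ≤ _ := by gcongr; exact h2

set_option linter.style.haveILetI false in
open IsLocalRing Limits in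
theorem main {X Y : Scheme.{u}} [IsLocallyNoetherian Y] (f : X ⟶ Y) [LocallyOfFiniteType f]
    (y : Y) (z : f.fiber y) :
    ringKrullDim (X.presheaf.stalk (f.fiberι y z)) ≤
      ringKrullDim (Y.presheaf.stalk y) + ringKrullDim ((f.fiber y).presheaf.stalk z) := by
  obtain ⟨x, hx⟩ : ∃ x, x = f.fiberι y z := ⟨_, rfl⟩
  rw [← hx]
  have hy : f x = y := by
    have : x ∈ Set.range (f.fiberι y) := ⟨z, hx.symm⟩
    rw [Scheme.Hom.range_fiberι] at this
    exact this
  subst hy
  haveI : IsLocallyNoetherian X := LocallyOfFiniteType.isLocallyNoetherian f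
  let φ : Y.presheaf.stalk (f x) ⟶ X.presheaf.stalk x := f.stalkMap x
  let I : Ideal (X.presheaf.stalk x) := (maximalIdeal (Y.presheaf.stalk (f x))).map φ.hom
  have hI : I ≠ ⊤ := (IsLocalRing.map_maximalIdeal_lt_top φ.hom).ne
  let C : CommRingCat := CommRingCat.of (X.presheaf.stalk x ⧸ I)
  haveI : Nontrivial C := Ideal.Quotient.nontrivial_iff.mpr hI
  haveI : IsLocalRing C := IsLocalRing.of_surjective' (Ideal.Quotient.mk I) Ideal.Quotient.mk_surjective
  let q : X.presheaf.stalk x ⟶ C := CommRingCat.ofHom (Ideal.Quotient.mk I)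
  haveI : IsLocalHom q.hom := IsLocalHom.of_surjective _ Ideal.Quotient.mk_surjective
  let ψ : Y.residueField (f x) ⟶ C := CommRingCat.ofHom
    (Ideal.Quotient.lift (maximalIdeal (Y.presheaf.stalk (f x))) (q.hom.comp φ.hom) (by
      intro a ha
      exact Ideal.Quotient.eq_zero_iff_mem.mpr (Ideal.mem_map_of_mem _ ha)))
  have hψ : Y.residue (f x) ≫ ψ = φ ≫ q := by
    ext a
    rfl
  have hcompat : (Spec.map q ≫ X.fromSpecStalk x) ≫ f =
      Spec.map ψ ≫ Y.fromSpecResidueField (f x) := by
    have h1 : Spec.map ψ ≫ Y.fromSpecResidueField (f x) =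
        Spec.map (Y.residue (f x) ≫ ψ) ≫ Y.fromSpecStalk (f x) := by
      rw [Scheme.fromSpecResidueField, Spec.map_comp_assoc]
    have h2 : (Spec.map q ≫ X.fromSpecStalk x) ≫ f =
        Spec.map (f.stalkMap x ≫ q) ≫ Y.fromSpecStalk (f x) := by
      rw [Category.assoc, ← Scheme.SpecMap_stalkMap_fromSpecStalk, Spec.map_comp_assoc]
    rw [h1, h2, hψ]
  let g : Spec C ⟶ f.fiber (f x) :=
    pullback.lift (Spec.map q ≫ X.fromSpecStalk x) (Spec.map ψ) hcompat
  have hg : g ≫ f.fiberι (f x) = Spec.map q ≫ X.fromSpecStalk x := pullback.lift_fst _ _ _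
  have hgc : g (closedPoint C) = z := by
    apply (f.fiberι (f x)).isEmbedding.injective
    rw [← hx]
    change (g ≫ f.fiberι (f x)) (closedPoint C) = x
    rw [hg]
    change X.fromSpecStalk x (Spec.map q (closedPoint C)) = x
    rw [Spec_closedPoint, Scheme.fromSpecStalk_closedPoint]
  have hsurj0 : Function.Surjective
      (Scheme.stalkClosedPointTo (Spec.map q ≫ X.fromSpecStalk x)).hom := by
    have h := (SpecToEquivOfLocalRing X C).right_inv ⟨x, q, inferInstance⟩
    obtain ⟨h₁, h₂⟩ := SpecToEquivOfLocalRing_eq_iff.mp h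
    have h₃ : Scheme.stalkClosedPointTo (Spec.map q ≫ X.fromSpecStalk x) =
        (X.presheaf.stalkCongr (.of_eq h₁)).hom ≫ q := h₂
    rw [h₃]
    exact (Ideal.Quotient.mk_surjective (I := I)).comp
      (ConcreteCategory.bijective_of_isIso (X.presheaf.stalkCongr _).hom).2
  have key : ∀ (h : Spec C ⟶ X), h = Spec.map q ≫ X.fromSpecStalk x →
      Function.Surjective (Scheme.stalkClosedPointTo h).hom := by
    rintro _ rfl
    exact hsurj0
  have hsurj1 := key _ hg
  rw [Scheme.stalkClosedPointTo_comp] at hsurj1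
  have hsurj2 : Function.Surjective (Scheme.stalkClosedPointTo g).hom :=
    Function.Surjective.of_comp (g := ((f.fiberι (f x)).stalkMap _).hom) hsurj1
  have hdim : ringKrullDim C ≤ ringKrullDim ((f.fiber (f x)).presheaf.stalk z) := by
    have := ringKrullDim_le_of_surjective _ hsurj2
    rwa [hgc] at this
  refine (dim_le φ.hom).trans ?_
  gcongr

/-- Let Y be locally Noetherian, f : X ⟶ Y of finite type and x a point of X with y = f x. Then dim
O_{X,x} ≤ dim O_{Y,y} + dim O_{X_y,x}, where X_y is the fibre through x. -/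
theorem result {X Y : Scheme.{u}} [IsLocallyNoetherian Y] (f : X ⟶ Y)
    [LocallyOfFiniteType f] [QuasiCompact f] (x : X) :
    ringKrullDim (X.presheaf.stalk x) ≤
      ringKrullDim (Y.presheaf.stalk (f.base x)) + ringKrullDim ((f.fiber (f.base x)).presheaf.stalk (f.asFiber x)) := by
  have h := main f (f.base x) (f.asFiber x)
  have e : f.fiberι (f.base x) (f.asFiber x) = x := f.fiberι_asFiber x
  rw [e] at h
  exact h

end Groth.Agent.S3447
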