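import Groth.Statements.S4702
import Groth.Agent.H9.DimFormulaRel
import Groth.Agent.H9.DimFormulaEq
import Groth.Agent.H9.FibreGeneric
import Groth.Agent.H9.FibDimTarget
import Groth.Agent.H9.SchemeDimStalk

set_option linter.style.haveILetI false

set_option autoImplicit false
universe u
open EGA4

namespace Groth.Agent.S4702

open AlgebraicGeometry CategoryTheory Groth.Agent.H9.FibreFormula
  Groth.Agent.H9.DimFormulaScheme Groth.Agent.H54 Groth.Agent.H9.FibreGeneric
  Groth.Agent.H9.DimFormulaRel Groth.Agent.H9.FibDim Groth.Agent.H9.DimFormulaEq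

/-- The dimension of a subset with quasi-sober subspace topology is bounded by any bound for the
transcendence degrees of the residue fields at its points. -/
theorem topologicalKrullDim_subset_le_of_forall_tdeg_le {k : Type u} [Field k] {X : Scheme.{u}}
    (s : X ⟶ Spec (CommRingCat.of k)) [LocallyOfFiniteType s] (T : Set X) [QuasiSober T] (n : ℕ)
    (h : ∀ x : X, x ∈ T → tdeg s x ≤ n) : topologicalKrullDim T ≤ n := by
  classical
  let g : TopologicalSpace.IrreducibleCloseds T → ℕ :=
    fun Z => tdeg s (Z.isIrreducible.genericPoint).1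
  have hgen : ∀ Z : TopologicalSpace.IrreducibleCloseds T,
      closure ({Z.isIrreducible.genericPoint} : Set T) = (Z : Set T) :=
    fun Z => Z.isIrreducible.closure_genericPoint Z.isClosed
  have hg : StrictMono g := by
    intro Z Z' hlt
    have hsub : (Z : Set T) ⊆ (Z' : Set T) := hlt.le
    have hmem : Z.isIrreducible.genericPoint ∈ (Z' : Set T) :=
      hsub ((hgen Z).subset (subset_closure rfl))
    have hsp : Z'.isIrreducible.genericPoint ⤳ Z.isIrreducible.genericPoint :=
      specializes_iff_mem_closure.mpr ((hgen Z').symm.subset hmem)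
    have hne : Z'.isIrreducible.genericPoint ≠ Z.isIrreducible.genericPoint := by
      intro heq
      apply hlt.ne
      apply TopologicalSpace.IrreducibleCloseds.ext
      exact (hgen Z).symm.trans
        ((congrArg (fun y => closure ({y} : Set T)) heq.symm).trans (hgen Z'))
    exact tdeg_lt_of_specializes s (hsp.map continuous_subtype_val)
      (fun h => hne (Subtype.ext h))
  unfold topologicalKrullDim
  rw [Order.krullDim]
  apply iSup_le
  intro p
  have h1 := LTSeries.head_add_length_le_nat (p.map g hg)
  have h2 : g p.last ≤ n :=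
    h (p.last.isIrreducible.genericPoint).1 (p.last.isIrreducible.genericPoint).2
  rw [LTSeries.last_map] at h1
  have h3 : p.length ≤ n := by
    have : (p.map g hg).length = p.length := rfl
    omega
  exact_mod_cast h3

/-- The dimension of an irreducible component of a scheme locally of finite type over a field is
the transcendence degree of the residue field at its generic point. -/
theorem dim_irreducibleComponent_eq_tdeg {k : Type u} [Field k] {F : Scheme.{u}}
    (s : F ⟶ Spec (CommRingCat.of k)) [LocallyOfFiniteType s] (Z : Set F)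
    (hZ : Z ∈ irreducibleComponents F) :
    ∃ ζ : F, closure {ζ} = Z ∧ topologicalKrullDim ↥Z = ((tdeg s ζ : ℕ) : WithBot ℕ∞) := by
  have hZcl : IsClosed Z := isClosed_of_mem_irreducibleComponents Z hZ
  have hgen : closure {hZ.1.genericPoint} = Z := hZ.1.closure_genericPoint hZcl
  refine ⟨hZ.1.genericPoint, hgen, le_antisymm ?_ ?_⟩
  · haveI : QuasiSober ↥Z := hZcl.isClosedEmbedding_subtypeVal.quasiSober
    apply topologicalKrullDim_subset_le_of_forall_tdeg_le s Z
    intro x hx
    apply tdeg_le_of_specializes
    rw [specializes_iff_mem_closure, hgen]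
    exact hx
  · obtain ⟨U, hζU, hU⟩ := exists_open_generic s hZ.1.genericPoint
    have hUZ : (U : Set F) ⊆ Z := by
      intro y hy
      obtain ⟨ξ, h1, h2⟩ := hU y hy
      have hξ : ξ = hZ.1.genericPoint := by
        apply eq_of_specializes_generic _ h2
        rw [hgen]; exact hZ
      rw [hξ] at h1
      rw [← hgen]
      exact specializes_iff_mem_closure.mp h1
    exact (tdeg_le_topologicalKrullDim s _ U hζU).trans (dim_mono_subset hUZ)

theorem result' {X Y : Scheme.{u}} (f : X ⟶ Y) [IsLocallyNoetherian Y]
    [IrreducibleSpace Y] [IrreducibleSpace X] (hY : topologicalKrullDim Y = 1)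
    [LocallyOfFiniteType f]
    (hf : DenseRange f.base) (y : Y)
    (Z : Set ↥(f.fiber y)) (hZ : Z ∈ irreducibleComponents ↥(f.fiber y)) :
    topologicalKrullDim Z = topologicalKrullDim ↥(f.fiber (genericPoint Y)) := by
  haveI : IsDominant f := ⟨hf⟩
  obtain ⟨E, hE⟩ := exists_trdeg_eq_nat f (genericPoint X)
  obtain ⟨hG, -⟩ := dim_generic_fiber_eq f E hE
  rw [hG]
  obtain ⟨ζ', hcl, hdim⟩ := dim_irreducibleComponent_eq_tdeg (fiberQ f y) Z hZ
  rw [hdim]
  have hfζ : f.base ((f.fiberι y).base ζ') = y := fiberι_mem f y ζ'
  have hn := trdeg_fiber_eq f y ζ'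
  have hirr : closure {ζ'} ∈ irreducibleComponents ↥(f.fiber y) := by rw [hcl]; exact hZ
  apply le_antisymm
  · -- tdeg ζ' ≤ E
    have hsp : genericPoint X ⤳ (f.fiberι y).base ζ' :=
      (genericPoint_spec X).specializes (Set.mem_univ _)
    obtain ⟨-, k2, k3⟩ := rel_ineq f ((f.fiberι y).base ζ') (genericPoint X) hsp
      (tdeg (fiberQ f y) ζ') E hn hE
    have hnE : tdeg (fiberQ f y) ζ' ≤ E := by
      by_cases hfe : f.base (genericPoint X) = f.base ((f.fiberι y).base ζ')
      · exact k3 hfe
      · have hneq : genericPoint X ≠ (f.fiberι y).base ζ' := fun h => hfe (by rw [← h])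
        have key := k2 hneq
        have hle1 : ringKrullDim (Y.presheaf.stalk (f.base ((f.fiberι y).base ζ'))) ≤ 1 := by
          rw [← hY]; exact ringKrullDim_stalk_le Y _
        have h1 : ((tdeg (fiberQ f y) ζ' : ℕ) : WithBot ℕ∞) + 1 ≤ 1 + (E : WithBot ℕ∞) :=
          key.trans (by gcongr)
        have h2 : tdeg (fiberQ f y) ζ' + 1 ≤ 1 + E := by exact_mod_cast h1
        omega
    exact_mod_cast hnE
  · -- E ≤ tdeg ζ'
    have h1 := dim_generic_fiber_le_fibreDimAt f ((f.fiberι y).base ζ')
    rw [hG, ← localDim_fiber f y ζ'] at h1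
    have hco : Order.coheight ζ' = ((0 : ℕ) : ℕ∞) := by
      rw [Nat.cast_zero, Order.coheight_eq_zero]
      exact isMax_of_generic hirr
    rw [localDim_eq (fiberQ f y) ζ' 0 hco, add_zero] at h1
    exact h1


open AlgebraicGeometry CategoryTheory in
/-- Let Y be an irreducible locally Noetherian scheme of dimension 1, X an irreducible scheme and f : X
→ Y a dominant morphism of finite type. Then for every point y in the image of f, every irreducible
component of the fibre of f at y has dimension equal to the dimension of the generic fibre. -/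
theorem result {X Y : Scheme.{u}} (f : X ⟶ Y) [IsLocallyNoetherian Y]
    [IrreducibleSpace Y] [IrreducibleSpace X] (hY : topologicalKrullDim Y = 1) [LocallyOfFiniteType f]
    [QuasiCompact f] (hf : DenseRange f.base) (y : Y) (hy : y ∈ Set.range f.base)
    (Z : Set ↥(f.fiber y)) (hZ : Z ∈ irreducibleComponents ↥(f.fiber y)) :
    topologicalKrullDim Z = topologicalKrullDim ↥(f.fiber (genericPoint Y)) := by
  exact result' f hY hf y Z hZ

end Groth.Agent.S4702
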