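import Groth.Statements.S1554
import Groth.Agent.H9.DimFormulaRel
import Groth.Agent.H9.FibreGeneric
import Groth.Agent.H9.FibDimTop

set_option linter.style.haveILetI false

set_option autoImplicit false
universe u
open CategoryTheory CategoryTheory.Limits AlgebraicGeometry
open Variety

namespace Groth.Agent.S1554

open AlgebraicGeometry CategoryTheory Groth.Agent.H9.FibreFormula
  Groth.Agent.H9.DimFormulaScheme Groth.Agent.H54 Groth.Agent.H9.FibreGeneric
  Groth.Agent.H9.DimFormulaRel Groth.Agent.H9.FibDim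

/-- Chevalley's semicontinuity along a specialization. -/
theorem fibreDimAt_le_of_specializes {X Y : Scheme.{u}} (f : X ⟶ Y) [LocallyOfFiniteType f]
    {ξ x : X} (h : ξ ⤳ x) : FlatMor.fibreDimAt f ξ ≤ FlatMor.fibreDimAt f x := by
  induction hx : FlatMor.fibreDimAt f x using WithBot.recBotCoe with
  | bot =>
    exfalso
    rw [fibreDimAt_eq_tfd] at hx
    exact localDim_ne_bot _ _ hx
  | coe c =>
    induction c using ENat.recTopCoe with
    | top => exact le_top
    | coe m =>
      have hopen := isOpen_setOf_fibreDimAt_le f m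
      have hxm : x ∈ {x' : X | FlatMor.fibreDimAt f x' ≤ (m : WithBot ℕ∞)} := by
        change FlatMor.fibreDimAt f x ≤ _
        rw [hx]; rfl
      exact h.mem_open hopen hxm

/-- Main inequality: over a Noetherian local ring of dimension at most one. -/
theorem fibreDimAt_le_of_generic {X Y : Scheme.{u}} (f : X ⟶ Y) [LocallyOfFiniteType f]
    (x : X) [IsNoetherianRing (Y.presheaf.stalk (f.base x))]
    (hdimY : ringKrullDim (Y.presheaf.stalk (f.base x)) ≤ 1) (d : ℕ)
    (hgen : ∀ ξ : X, closure {ξ} ∈ irreducibleComponents (X : Type u) → ξ ⤳ x →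
      FlatMor.fibreDimAt f ξ = d) :
    FlatMor.fibreDimAt f x ≤ d := by
  obtain ⟨ζ, n, hζx, hfζ, hn, hle⟩ := exists_fibre_generization f x
  obtain ⟨ξ, hξζ, hξ⟩ := exists_generic_specializes ζ
  have hξx : ξ ⤳ x := hξζ.trans hζx
  have hd := hgen ξ hξ hξx
  obtain ⟨E, hE⟩ := exists_trdeg_eq_nat f ξ
  have hmax : ∀ x' : X, x' ⤳ ξ → x' = ξ := fun x' hx' => eq_of_specializes_generic hξ hx'
  have hdE : (d : WithBot ℕ∞) = (E : WithBot ℕ∞) := by
    rw [← hd, fibreDimAt_eq_trdeg_of_forall f ξ hmax E hE]
  haveI : IsNoetherianRing (Y.presheaf.stalk (f.base ζ)) := by rw [hfζ]; infer_instance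
  obtain ⟨-, k2, k3⟩ := rel_ineq f ζ ξ hξζ n E hn hE
  have hnE : n ≤ E := by
    by_cases hfe : f.base ξ = f.base ζ
    · exact k3 hfe
    · have hneq : ξ ≠ ζ := fun h => hfe (by rw [h])
      have key := k2 hneq
      rw [hfζ] at key
      have h1 : (n : WithBot ℕ∞) + 1 ≤ 1 + (E : WithBot ℕ∞) :=
        key.trans (by gcongr)
      have h2 : n + 1 ≤ 1 + E := by exact_mod_cast h1
      omega
  rw [hdE]
  exact hle.trans (by exact_mod_cast hnE)

theorem result' {X Y : Scheme.{u}} (f : X ⟶ Y) [LocallyOfFiniteType f]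
    (x : X) [IsNoetherianRing (Y.presheaf.stalk (f.base x))]
    (hdimY : ringKrullDim (Y.presheaf.stalk (f.base x)) ≤ 1) (d : ℕ)
    (hgen : ∀ Z ∈ irreducibleComponents (X : Type u), x ∈ Z → ∀ η : X, IsGenericPoint η Z →
      FlatMor.fibreDimAt f η = d) :
    FlatMor.fibreDimAt f x = d := by
  have hgen' : ∀ ξ : X, closure {ξ} ∈ irreducibleComponents (X : Type u) → ξ ⤳ x →
      FlatMor.fibreDimAt f ξ = d := fun ξ hξ hξx =>
    hgen (closure {ξ}) hξ (specializes_iff_mem_closure.mp hξx) ξ isGenericPoint_closure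
  apply le_antisymm (fibreDimAt_le_of_generic f x hdimY d hgen')
  obtain ⟨ξ, hξx, hξ⟩ := exists_generic_specializes x
  rw [← hgen' ξ hξ hξx]
  exact fibreDimAt_le_of_specializes f hξx


/-- Let f : X → Y be locally of finite type, x a point with image y such that the local ring of Y at y
is Noetherian of dimension at most one, and d a natural number such that the local fibre dimension
is d at the generic points of the irreducible components of X passing through x. Then the local
dimension at x of the fibre over y equals d. -/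
theorem result {X Y : Scheme.{u}} (f : X ⟶ Y) [LocallyOfFiniteType f]
    (x : X) [IsNoetherianRing (Y.presheaf.stalk (f.base x))] (hdimY : ringKrullDim (Y.presheaf.stalk (f.base x)) ≤ 1) (d : ℕ)
    (hgen : ∀ Z ∈ irreducibleComponents (X : Type u), x ∈ Z → ∀ η : X, IsGenericPoint η Z → FlatMor.fibreDimAt f η = d) :
    FlatMor.fibreDimAt f x = d := by
  exact result' f x hdimY d hgen

end Groth.Agent.S1554
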