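import Groth.Statements.S3449
import Mathlib
import Groth.Agent.H9.JacobsonDim
import Groth.Agent.H9.DimFormulaGen
import Groth.Agent.H9.SchemeDimStalk

set_option linter.style.haveILetI false

set_option autoImplicit false
open CategoryTheory AlgebraicGeometry
universe u
open EGA43

namespace Groth.Agent.S3449

open Groth.Agent.H54 Groth.Agent.H9.JacobsonDim Groth.Agent.H9.DimFormulaGen
  Groth.Agent.H9.DimFormulaEq Groth.Agent.H9.FibDim Groth.Agent.H71.DimFun

/-- At a closed point of the source of a morphism locally of finite type the residue field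
extension is algebraic. -/
theorem trdeg_eq_zero_of_isClosed {Z S : Scheme.{u}} (r : Z ⟶ S) [LocallyOfFiniteType r] (z : Z)
    (hz : IsClosed ({z} : Set Z)) :
    @Algebra.trdeg (S.residueField (r.base z)) (Z.residueField z) _ _
      (r.residueFieldMap z).hom.toAlgebra = ((0 : ℕ) : Cardinal.{u}) := by
  have hcl : IsClosed ({r.asFiber z} : Set (r.fiber (r.base z))) := by
    have : ({r.asFiber z} : Set (r.fiber (r.base z))) = (r.fiberι (r.base z)).base ⁻¹' {z} := by
      ext a
      simp only [Set.mem_singleton_iff, Set.mem_preimage]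
      constructor
      · rintro rfl
        exact r.fiberι_asFiber z
      · intro h
        apply (r.fiberι (r.base z)).isEmbedding.injective
        rw [h, r.fiberι_asFiber]
    rw [this]
    exact hz.preimage (r.fiberι (r.base z)).continuous
  have h0 := tdeg_eq_zero_of_isClosed (fiberQ r (r.base z)) (r.asFiber z) hcl
  have h1 := trdeg_fiber_eq r (r.base z) (r.asFiber z)
  rw [h0] at h1
  exact (trdeg_congr_point r (r.fiberι_asFiber z)).symm.trans h1

/-- Coheights in the spectrum of a Noetherian local ring are finite. -/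
theorem exists_coheight_eq_nat {R : Type*} [CommRing R] [IsNoetherianRing R] [IsLocalRing R]
    (q : PrimeSpectrum R) : ∃ c : ℕ, Order.coheight q = (c : ℕ∞) := by
  have hfin : Order.coheight q ≠ ⊤ := by
    intro h
    have h1 := Order.coheight_le_krullDim q
    rw [h] at h1
    have h2 : ringKrullDim R ≠ ⊤ := ringKrullDim_ne_top
    exact h2 (top_le_iff.mp h1)
  exact ⟨_, (ENat.natCast_toNat hfin).symm⟩

/-- Dimension of an irreducible scheme locally of finite type over a Jacobson, universally
catenary base with equidimensional components. -/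
theorem dim_eq_of_jacobson {S : Scheme.{u}} [IsLocallyNoetherian S] [JacobsonSpace S]
    (h2 : ∀ s : S, CAlg.IsUniversallyCatenary (S.presheaf.stalk s))
    (h3 : ∀ S' ∈ irreducibleComponents (S : Type u), ∀ s ∈ S', IsClosed ({s} : Set S) →
      topologicalKrullDim (↥S' : Type u) = topologicalKrullDim ↥{t : S | t ∈ S' ∧ t ⤳ s})
    {Z : Scheme.{u}} (r : Z ⟶ S) [LocallyOfFiniteType r] [IrreducibleSpace Z] (E : ℕ)
    (hE : @Algebra.trdeg (S.residueField (r.base (genericPoint Z)))
      (Z.residueField (genericPoint Z)) _ _
        (r.residueFieldMap (genericPoint Z)).hom.toAlgebra = (E : Cardinal.{u}))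
    (s₀ : S) (hs₀ : IsClosed ({s₀} : Set S)) (q₀ : PrimeSpectrum (S.presheaf.stalk s₀))
    (hq₀ : S.fromSpecStalk s₀ q₀ = r.base (genericPoint Z)) (c : ℕ)
    (hc : Order.coheight q₀ = (c : ℕ∞)) :
    topologicalKrullDim Z = ((c + E : ℕ) : WithBot ℕ∞) := by
  haveI : JacobsonSpace Z := LocallyOfFiniteType.jacobsonSpace r
  have hclosed : ∀ z : Z, IsClosed ({z} : Set Z) →
      ringKrullDim (Z.presheaf.stalk z) = ((c + E : ℕ) : WithBot ℕ∞) := by
    intro z hz
    have hs : IsClosed ({r.base z} : Set S) := r.closePoints_subset_preimage_closedPoints hz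
    have hsp : r.base (genericPoint Z) ⤳ r.base z :=
      ((genericPoint_spec Z).specializes (Set.mem_univ z)).map r.continuous
    obtain ⟨w, hw⟩ := exists_of_specializes S hsp
    have hG := stalk_add_trdeg_eq_coheight r z (h2 _) 0 E (trdeg_eq_zero_of_isClosed r z hz) hE w hw
    have hK := coheight_eq_of_closed S h2 h3 _ (r.base z) s₀ hs hs₀ w q₀ hw hq₀
    rw [hK, hc] at hG
    rw [Nat.cast_zero, add_zero] at hG
    rw [hG]
    push_cast
    rfl
  rw [topologicalKrullDim_eq_iSup_stalk]
  apply le_antisymm
  · apply iSup_le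
    intro z
    obtain ⟨z', hzz', hz'⟩ := exists_closedPoint_specializes z
    rw [← hclosed z' hz', ringKrullDim_stalk_eq_coheight, ringKrullDim_stalk_eq_coheight]
    exact WithBot.coe_le_coe.mpr (Order.coheight_anti (Scheme.le_iff_specializes.mpr hzz'))
  · obtain ⟨z', -, hz'⟩ := exists_closedPoint_specializes (genericPoint Z)
    rw [← hclosed z' hz']
    exact le_iSup (fun z : Z => ringKrullDim (Z.presheaf.stalk z)) z'

/-- Additivity of residue-field transcendence degrees along a composition. -/
theorem trdeg_residueFieldMap_comp {X Y S : Scheme.{u}} (f : X ⟶ Y) (q : Y ⟶ S) (x : X) :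
    @Algebra.trdeg (S.residueField (q.base (f.base x))) (Y.residueField (f.base x)) _ _
        (q.residueFieldMap (f.base x)).hom.toAlgebra +
      @Algebra.trdeg (Y.residueField (f.base x)) (X.residueField x) _ _
        (f.residueFieldMap x).hom.toAlgebra =
    @Algebra.trdeg (S.residueField ((f ≫ q).base x)) (X.residueField x) _ _
        ((f ≫ q).residueFieldMap x).hom.toAlgebra := by
  letI i1 : Algebra (S.residueField (q.base (f.base x))) (Y.residueField (f.base x)) :=
    (q.residueFieldMap (f.base x)).hom.toAlgebra
  letI i2 : Algebra (Y.residueField (f.base x)) (X.residueField x) :=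
    (f.residueFieldMap x).hom.toAlgebra
  letI i3 : Algebra (S.residueField (q.base (f.base x))) (X.residueField x) :=
    ((f ≫ q).residueFieldMap x).hom.toAlgebra
  haveI : IsScalarTower (S.residueField (q.base (f.base x))) (Y.residueField (f.base x))
      (X.residueField x) := IsScalarTower.of_algebraMap_eq fun a => by
    change ((f ≫ q).residueFieldMap x).hom a = _
    rw [Scheme.residueFieldMap_comp]
    rfl
  haveI : FaithfulSMul (S.residueField (q.base (f.base x))) (Y.residueField (f.base x)) :=
    (faithfulSMul_iff_algebraMap_injective _ _).mpr (RingHom.injective _)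
  haveI : FaithfulSMul (Y.residueField (f.base x)) (X.residueField x) :=
    (faithfulSMul_iff_algebraMap_injective _ _).mpr (RingHom.injective _)
  exact trdeg_add_eq _ _

theorem result' {X Y S : Scheme.{u}} [IsLocallyNoetherian S]
    [JacobsonSpace S] (h2 : ∀ s : S, CAlg.IsUniversallyCatenary (S.presheaf.stalk s))
    (h3 : ∀ S' ∈ irreducibleComponents (S : Type u), ∀ s ∈ S', IsClosed ({s} : Set S) →
      topologicalKrullDim (↥S' : Type u) = topologicalKrullDim ↥{t : S | t ∈ S' ∧ t ⤳ s})
    (p : X ⟶ S) (q : Y ⟶ S) [LocallyOfFiniteType p] [LocallyOfFiniteType q] (f : X ⟶ Y) (hf : f ≫ q = p)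
    [IrreducibleSpace X] [IrreducibleSpace Y] [IsDominant f] :
    topologicalKrullDim (X : Type u) =
      topologicalKrullDim (Y : Type u) + topologicalKrullDim ↥(f.fiber (genericPoint Y)) := by
  subst hf
  haveI : LocallyOfFiniteType f := locallyOfFiniteType_of_comp f q
  obtain ⟨EY, hEY⟩ := Groth.Agent.H9.DimFormulaScheme.exists_trdeg_eq_nat q (f.base (genericPoint X))
  obtain ⟨Ef, hEf⟩ := Groth.Agent.H9.DimFormulaScheme.exists_trdeg_eq_nat f (genericPoint X)
  have hEX : @Algebra.trdeg (S.residueField ((f ≫ q).base (genericPoint X)))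
      (X.residueField (genericPoint X)) _ _
      ((f ≫ q).residueFieldMap (genericPoint X)).hom.toAlgebra = ((EY + Ef : ℕ) : Cardinal.{u}) := by
    rw [← trdeg_residueFieldMap_comp, hEY, hEf]
    push_cast
    rfl
  haveI : JacobsonSpace X := LocallyOfFiniteType.jacobsonSpace (f ≫ q)
  obtain ⟨x₀, hx₀sp, hx₀⟩ := exists_closedPoint_specializes (genericPoint X)
  have hs₀ : IsClosed ({(f ≫ q).base x₀} : Set S) :=
    (f ≫ q).closePoints_subset_preimage_closedPoints hx₀
  obtain ⟨q₀, hq₀⟩ := exists_of_specializes S (hx₀sp.map (f ≫ q).continuous)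
  haveI := (h2 ((f ≫ q).base x₀)).1
  obtain ⟨c, hc⟩ := exists_coheight_eq_nat q₀
  have hX := dim_eq_of_jacobson h2 h3 (f ≫ q) (EY + Ef) hEX _ hs₀ q₀ hq₀ c hc
  have hη : f.base (genericPoint X) = genericPoint Y := map_genericPoint f
  have hY := dim_eq_of_jacobson h2 h3 q EY
    (by rw [← trdeg_congr_point q hη]; exact hEY) _ hs₀ q₀
    (by rw [hq₀, ← hη]; rfl) c hc
  have hF := (dim_generic_fiber_eq f Ef hEf).1
  rw [hX, hY, hF]
  push_cast
  ring


/-- Let S be a locally Noetherian scheme which is Jacobson, whose local rings are universally catenary,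
and whose irreducible components S' are equidimensional in the sense that for every closed point s
of S' the dimension of S' equals the dimension of S' at s (the Krull dimension of the set of
generizations of s inside S'). Let X and Y be S-schemes, each locally of finite type over the base
S, and let f : X ⟶ Y be a morphism over S, with X irreducible and f dominant; let η be the generic
point of Y and e the dimension of the fibre over η. Then dim X = dim Y + e. -/
theorem result {X Y S : Scheme.{u}} [IsLocallyNoetherian S]
    [JacobsonSpace S] (h2 : ∀ s : S, CAlg.IsUniversallyCatenary (S.presheaf.stalk s))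
    (h3 : ∀ S' ∈ irreducibleComponents (S : Type u), ∀ s ∈ S', IsClosed ({s} : Set S) →
      topologicalKrullDim (↥S' : Type u) = topologicalKrullDim ↥{t : S | t ∈ S' ∧ t ⤳ s})
    (p : X ⟶ S) (q : Y ⟶ S) [LocallyOfFiniteType p] [LocallyOfFiniteType q] (f : X ⟶ Y) (hf : f ≫ q = p)
    [IrreducibleSpace X] [IrreducibleSpace Y] [IsDominant f] :
    topologicalKrullDim (X : Type u) =
      topologicalKrullDim (Y : Type u) + topologicalKrullDim ↥(f.fiber (genericPoint Y)) := by
  exact result' h2 h3 p q f hf

end Groth.Agent.S3449
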