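import Groth.Statements.S14588
import Groth.Agent.H63.GrpReduced
import Groth.Agent.S2535
import Mathlib.AlgebraicGeometry.Group.Smooth

set_option autoImplicit false
universe u
open CategoryTheory MonoidalCategory CartesianMonoidalCategory MonObj GrpObj AlgebraicGeometry CategoryTheory.Limits
open AlgGrp

namespace Groth.Agent.S14588

/-- Let k be a field with algebraic closure K and G a k-group scheme locally of finite type. If the
local ring of G_K at its unit point is reduced, then G is smooth over k. -/
theorem result (k : Type u) [Field k]
    (G : Over (Spec (CommRingCat.of k))) [GrpObj G] [LocallyOfFiniteType G.hom]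
    (t : ↥((𝟙_ (Over (Spec (CommRingCat.of (AlgebraicClosure k))))).left))
    (h : _root_.IsReduced ↑((Red.bc (Spec.map (CommRingCat.ofHom (algebraMap k (AlgebraicClosure k)))) G).left.presheaf.stalk ((η[Red.bc (Spec.map (CommRingCat.ofHom (algebraMap k (AlgebraicClosure k)))) G]).left.base t))) :
    Smooth G.hom := by
  haveI : LocallyOfFiniteType
      (Red.bc (Spec.map (CommRingCat.ofHom (algebraMap k (AlgebraicClosure k)))) G).hom :=
    inferInstanceAs (LocallyOfFiniteType (Limits.pullback.snd G.hom
      (Spec.map (CommRingCat.ofHom (algebraMap k (AlgebraicClosure k))))))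
  have hred := Groth.Agent.H63.GrpReduced.isReduced_of_isReduced_stalk_unit
    (Red.bc (Spec.map (CommRingCat.ofHom (algebraMap k (AlgebraicClosure k)))) G) t h
  haveI : IsReduced (FBase.bc G.hom (AlgebraicClosure k)) := hred
  haveI : GeometricallyReduced G.hom := Groth.Agent.S2535.result (Ω := AlgebraicClosure k) G.hom
  haveI : GrpObj (Over.mk G.hom) := inferInstanceAs (GrpObj G)
  exact smooth_of_grpObj G.hom

end Groth.Agent.S14588
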