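import Groth.Statements.S15595
import Mathlib
import Groth.Agent.S0565

set_option autoImplicit false
universe u
open TensorProduct
attribute [local instance] RingHom.ker_isPrime
open CAlg

namespace Groth.Agent.S15595

section Aux
open TensorProduct

theorem core2 (A B : Type u) [CommRing A] [IsLocalRing A] [IsNoetherianRing A] [CommRing B]
    [Algebra A B] [Module.Flat A B] (P : Ideal B) [P.IsPrime]
    [IsNoetherianRing (Localization.AtPrime P)]
    (hP : P = (IsLocalRing.maximalIdeal A).map (algebraMap A B)) :
    IsRegularLocalRing A ↔ IsRegularLocalRing (Localization.AtPrime P) := by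
  have hmax : IsLocalRing.maximalIdeal (Localization.AtPrime P) =
      (IsLocalRing.maximalIdeal A).map (algebraMap A (Localization.AtPrime P)) := by
    have h0 : P.map (algebraMap B (Localization.AtPrime P)) =
        ((IsLocalRing.maximalIdeal A).map (algebraMap A B)).map
          (algebraMap B (Localization.AtPrime P)) :=
      congrArg (Ideal.map (algebraMap B (Localization.AtPrime P))) hP
    rw [← IsLocalization.AtPrime.map_eq_maximalIdeal P (Localization.AtPrime P), h0, Ideal.map_map,
      ← IsScalarTower.algebraMap_eq]
  have hmem : ∀ a : A, a ∈ IsLocalRing.maximalIdeal A →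
      algebraMap A (Localization.AtPrime P) a ∈ IsLocalRing.maximalIdeal (Localization.AtPrime P) := by
    intro a ha
    rw [hmax]; exact Ideal.mem_map_of_mem _ ha
  haveI hloc : IsLocalHom (algebraMap A (Localization.AtPrime P)) := by
    constructor
    intro a ha
    by_contra hna
    have h1 : a ∈ IsLocalRing.maximalIdeal A := (IsLocalRing.mem_maximalIdeal a).mpr hna
    exact (IsLocalRing.mem_maximalIdeal _).mp (hmem a h1) ha
  haveI hlies : (IsLocalRing.maximalIdeal (Localization.AtPrime P)).LiesOver
      (IsLocalRing.maximalIdeal A) := by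
    constructor
    ext a
    rw [Ideal.under_def, Ideal.mem_comap]
    constructor
    · exact hmem a
    · intro h
      rw [IsLocalRing.mem_maximalIdeal, mem_nonunits_iff] at h ⊢
      intro hu
      exact h (hu.map _)
  have hkey : ∀ (I : Ideal (Localization.AtPrime P)),
      I = IsLocalRing.maximalIdeal (Localization.AtPrime P) →
      ((IsLocalRing.maximalIdeal (Localization.AtPrime P)).map (Ideal.Quotient.mk I)).height = 0 := by
    rintro I rfl
    rw [Ideal.map_quotient_self]
    exact Ideal.height_bot
  have hdim : ringKrullDim (Localization.AtPrime P) = ringKrullDim A := by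
    rw [← IsLocalRing.maximalIdeal_height_eq_ringKrullDim,
      ← IsLocalRing.maximalIdeal_height_eq_ringKrullDim,
      Ideal.height_eq_height_add_of_liesOver_of_hasGoingDown (IsLocalRing.maximalIdeal A)
        (IsLocalRing.maximalIdeal (Localization.AtPrime P)), hkey _ hmax.symm, add_zero]
  constructor
  · intro hreg
    apply IsRegularLocalRing.of_spanFinrank_maximalIdeal_le
    rw [hdim, ← (isRegularLocalRing_iff A).mp hreg, hmax]
    have := Ideal.spanFinrank_map_le_of_fg (algebraMap A (Localization.AtPrime P))
      (I := IsLocalRing.maximalIdeal A) (IsNoetherian.noetherian _)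
    exact_mod_cast this
  · intro hreg
    exact Groth.Agent.S0565.result A (Localization.AtPrime P)

attribute [local instance] Algebra.TensorProduct.rightAlgebra

theorem flat_right (k K A : Type u) [Field k] [Field K] [Algebra k K] [CommRing A] [Algebra k A] :
    Module.Flat A (K ⊗[k] A) := by
  have hsm : ∀ (a : A) (x : K) (b : A), a • (x ⊗ₜ[k] b) = x ⊗ₜ[k] (a * b) := by
    intro a x b
    rw [Algebra.smul_def]
    show ((1 : K) ⊗ₜ[k] a) * (x ⊗ₜ[k] b) = _
    rw [Algebra.TensorProduct.tmul_mul_tmul, one_mul]
  let e : K ⊗[k] A ≃ₗ[A] A ⊗[k] K :=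
    { (TensorProduct.comm k K A) with
      map_smul' := by
        intro a z
        induction z using TensorProduct.induction_on with
        | zero => simp
        | tmul x b =>
          show TensorProduct.comm k K A (a • (x ⊗ₜ[k] b)) =
            a • TensorProduct.comm k K A (x ⊗ₜ[k] b)
          rw [hsm, TensorProduct.comm_tmul, TensorProduct.comm_tmul, TensorProduct.smul_tmul',
            smul_eq_mul]
        | add z w hz hw =>
          show TensorProduct.comm k K A (a • (z + w)) = a • TensorProduct.comm k K A (z + w)
          rw [smul_add, map_add, map_add, smul_add]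
          exact congrArg₂ (· + ·) hz hw }
  exact Module.Flat.of_linearEquiv e

theorem ker_eq (k K A : Type u) [Field k] [Field K] [Algebra k K] [CommRing A] [Algebra k A]
    [IsLocalRing A] (π : A →ₐ[k] k) (hπ : RingHom.ker π = IsLocalRing.maximalIdeal A) :
    RingHom.ker ((Algebra.TensorProduct.rid k K K).toAlgHom.comp
      (Algebra.TensorProduct.map (AlgHom.id K K) π)) =
      (IsLocalRing.maximalIdeal A).map (algebraMap A (K ⊗[k] A)) := by
  have hsurj : Function.Surjective π := fun c => ⟨algebraMap k A c, by simp⟩
  have h1 := Algebra.TensorProduct.lTensor_ker (A := K) (R := k) π hsurj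
  rw [hπ] at h1
  apply le_antisymm
  · intro z hz
    rw [RingHom.mem_ker] at hz
    have hz1 : (Algebra.TensorProduct.rid k K K)
        ((Algebra.TensorProduct.map (AlgHom.id K K) π) z) = 0 := hz
    have hz2 : (Algebra.TensorProduct.map (AlgHom.id K K) π) z = 0 :=
      (Algebra.TensorProduct.rid k K K).injective (hz1.trans (map_zero _).symm)
    have hz3 : (Algebra.TensorProduct.map (AlgHom.id k K) π) z = 0 := hz2
    have hz4 : z ∈ RingHom.ker (Algebra.TensorProduct.map (AlgHom.id k K) π) :=
      RingHom.mem_ker.mpr hz3
    rw [h1] at hz4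
    refine (Ideal.map_le_iff_le_comap.mpr ?_) hz4
    intro a ha
    show algebraMap A (K ⊗[k] A) a ∈
      (IsLocalRing.maximalIdeal A).map (algebraMap A (K ⊗[k] A))
    exact Ideal.mem_map_of_mem _ ha
  · rw [Ideal.map_le_iff_le_comap]
    intro a ha
    rw [Ideal.mem_comap, RingHom.mem_ker]
    show (Algebra.TensorProduct.rid k K K)
      ((Algebra.TensorProduct.map (AlgHom.id K K) π) ((1 : K) ⊗ₜ[k] a)) = 0
    rw [Algebra.TensorProduct.map_tmul]
    have : π a = 0 := by rw [← RingHom.mem_ker, hπ]; exact ha
    rw [this, TensorProduct.tmul_zero, map_zero]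

theorem main (k K A : Type u) [Field k] [Field K]
    [Algebra k K] [CommRing A] [Algebra k A] [IsLocalRing A] [IsNoetherianRing A]
    (π : A →ₐ[k] k) (hπ : RingHom.ker π = IsLocalRing.maximalIdeal A)
    [IsNoetherianRing (Localization.AtPrime (RingHom.ker
      ((Algebra.TensorProduct.rid k K K).toAlgHom.comp (Algebra.TensorProduct.map (AlgHom.id K K) π))))] :
    IsRegularLocalRing A ↔ IsRegularLocalRing (Localization.AtPrime (RingHom.ker
      ((Algebra.TensorProduct.rid k K K).toAlgHom.comp (Algebra.TensorProduct.map (AlgHom.id K K) π)))) := by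
  haveI := flat_right k K A
  exact core2 A (K ⊗[k] A) _ (ker_eq k K A π hπ)

end Aux

/-- Let k ⊆ K be a field extension and A a Noetherian local k-algebra with residue field k, recorded by
a k-algebra map π : A → k whose kernel is the maximal ideal. Let π_K : K ⊗_k A → K be the induced
K-algebra map, m' its kernel, and A' the localization of K ⊗_k A at m'. Assume A' is Noetherian.
Then A is a regular local ring if and only if A' is a regular local ring. -/
theorem result (k K A : Type u) [Field k] [Field K]
    [Algebra k K] [CommRing A] [Algebra k A] [IsLocalRing A] [IsNoetherianRing A]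
    (π : A →ₐ[k] k) (hπ : RingHom.ker π = IsLocalRing.maximalIdeal A)
    [IsNoetherianRing (Localization.AtPrime (RingHom.ker
      ((Algebra.TensorProduct.rid k K K).toAlgHom.comp (Algebra.TensorProduct.map (AlgHom.id K K) π))))] :
    IsRegularLocalRing A ↔ IsRegularLocalRing (Localization.AtPrime (RingHom.ker
      ((Algebra.TensorProduct.rid k K K).toAlgHom.comp (Algebra.TensorProduct.map (AlgHom.id K K) π)))) := by
  exact main k K A π hπ

end Groth.Agent.S15595
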