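import Groth.Statements.S13598
import Mathlib.Algebra.Polynomial.Lifts
import Mathlib.RingTheory.LocalRing.RingHom.Basic

set_option autoImplicit false
universe u
open Hensel

namespace Groth.Agent.S13598

open Polynomial in
/-- A nontrivial quotient of a henselian local ring is a henselian local ring. -/
theorem henselian_quotient {R : Type u} [CommRing R] [HenselianLocalRing R] (J : Ideal R)
    [IsLocalRing (R ⧸ J)] : HenselianLocalRing (R ⧸ J) := by
  have hloc : IsLocalHom (Ideal.Quotient.mk J) :=
    IsLocalHom.of_surjective _ Ideal.Quotient.mk_surjective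
  refine { is_henselian := ?_ }
  intro f hf a₀ h₁ h₂
  have hlifts : f ∈ lifts (Ideal.Quotient.mk J) := by
    rw [lifts_iff_coeff_lifts]
    intro n
    exact Ideal.Quotient.mk_surjective _
  obtain ⟨F, hF, -, hFm⟩ := lifts_and_natDegree_eq_and_monic hlifts hf
  obtain ⟨b₀, rfl⟩ := Ideal.Quotient.mk_surjective a₀
  have e1 : Ideal.Quotient.mk J (F.eval b₀) = f.eval (Ideal.Quotient.mk J b₀) := by
    rw [← hF, eval_map, eval₂_at_apply]
  have e2 : Ideal.Quotient.mk J (F.derivative.eval b₀) =
      f.derivative.eval (Ideal.Quotient.mk J b₀) := by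
    rw [← hF, derivative_map, eval_map, eval₂_at_apply]
  have hb1 : F.eval b₀ ∈ IsLocalRing.maximalIdeal R := by
    rw [IsLocalRing.mem_maximalIdeal, mem_nonunits_iff]
    intro hu
    have : IsUnit (f.eval (Ideal.Quotient.mk J b₀)) := e1 ▸ hu.map _
    exact (IsLocalRing.mem_maximalIdeal _).mp h₁ this
  have hb2 : IsUnit (F.derivative.eval b₀) := by
    apply hloc.map_nonunit
    rw [e2]
    exact h₂
  obtain ⟨b, hb, hbb⟩ := HenselianLocalRing.is_henselian F hFm b₀ hb1 hb2
  refine ⟨Ideal.Quotient.mk J b, ?_, ?_⟩
  · rw [IsRoot.def, ← hF, eval_map, eval₂_at_apply, hb, map_zero]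
  · rw [← map_sub, IsLocalRing.mem_maximalIdeal, mem_nonunits_iff]
    intro hu
    exact (IsLocalRing.mem_maximalIdeal _).mp hbb (hloc.map_nonunit _ hu)

/-- For a local ring A, a henselization A ⟶ S of A (S a henselian local ring, the structure map local,
and initial among local homomorphisms from A to henselian local rings) and an ideal I of A inside
the maximal ideal, the quotient S/IS with its induced algebra structure over A/I is a henselization
of A/I. (The local-ring and local-homomorphism instances on the quotients hold automatically; they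
are taken as hypotheses only so that the conclusion can be stated.) -/
theorem result {A S : Type u} [CommRing A] [IsLocalRing A] [CommRing S]
    [IsLocalRing S] [Algebra A S] [IsLocalHom (algebraMap A S)] [Hensel.IsHenselization A S]
    (I : Ideal A) (hI : I ≤ IsLocalRing.maximalIdeal A)
    [IsLocalRing (A ⧸ I)] [IsLocalRing (S ⧸ I.map (algebraMap A S))]
    [IsLocalHom (algebraMap (A ⧸ I) (S ⧸ I.map (algebraMap A S)))] :
    Hensel.IsHenselization (A ⧸ I) (S ⧸ I.map (algebraMap A S)) := by
  have hS : HenselianLocalRing S := Hensel.IsHenselization.henselian (R := A) (S := S)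
  refine { henselian := henselian_quotient _, universal := ?_ }
  intro T _ _ f hf
  have hlocI : IsLocalHom (Ideal.Quotient.mk I) :=
    IsLocalHom.of_surjective _ Ideal.Quotient.mk_surjective
  have hcomp : IsLocalHom (f.comp (Ideal.Quotient.mk I)) := RingHom.isLocalHom_comp _ _
  obtain ⟨g, hg, hguniq⟩ := Hensel.IsHenselization.universal (R := A) (S := S) T
    (f.comp (Ideal.Quotient.mk I)) hcomp
  have hgJ : ∀ s ∈ I.map (algebraMap A S), g s = 0 := by
    intro s hs
    have : I.map (algebraMap A S) ≤ RingHom.ker g := by
      rw [Ideal.map_le_iff_le_comap]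
      intro a ha
      rw [Ideal.mem_comap, RingHom.mem_ker]
      have := congrArg (fun k => k a) hg
      simp only [RingHom.comp_apply] at this
      rw [this, Ideal.Quotient.eq_zero_iff_mem.mpr ha, map_zero]
    exact this hs
  refine ⟨Ideal.Quotient.lift _ g hgJ, ?_, ?_⟩
  · apply Ideal.Quotient.ringHom_ext
    ext a
    have := congrArg (fun k => k a) hg
    simp only [RingHom.comp_apply] at this
    change (Ideal.Quotient.lift _ g hgJ) (Ideal.Quotient.mk _ (algebraMap A S a)) =
      f (Ideal.Quotient.mk I a)
    rw [Ideal.Quotient.lift_mk]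
    exact this
  · intro h hh
    apply Ideal.Quotient.ringHom_ext
    have : h.comp (Ideal.Quotient.mk (I.map (algebraMap A S))) = g := by
      apply hguniq
      ext a
      have := congrArg (fun k => k (Ideal.Quotient.mk I a)) hh
      exact this
    rw [this]
    ext s
    simp

end Groth.Agent.S13598
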