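import Groth.Statements.S9407
import Mathlib

set_option autoImplicit false
universe u
open CAlg

namespace Groth.Agent.S9407

open Polynomial TensorProduct

lemma natDegree_eq_zero_of_isIntegral {D : Type*} [CommRing D] [IsDomain D] (q : D[X])
    (hq : IsIntegral D q) : q.natDegree = 0 := by
  obtain ⟨f, hf, hfq⟩ := hq
  have h1 : f.comp q = 0 := hfq
  have h2 := Polynomial.natDegree_comp (p := f) (q := q)
  rw [h1, Polynomial.natDegree_zero] at h2
  rcases Nat.mul_eq_zero.mp h2.symm with h3 | h3
  · exfalso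
    have h4 : f = 1 := hf.natDegree_eq_zero.mp h3
    rw [h4, Polynomial.one_comp] at h1
    exact one_ne_zero h1
  · exact h3

lemma coeff_one_eq_zero_of_isIntegral {R : Type*} [CommRing R] [IsReduced R] (p : R[X])
    (hp : IsIntegral R p) : p.coeff 1 = 0 := by
  have h : p.coeff 1 ∈ nilradical R := by
    rw [nilradical_eq_sInf, Ideal.mem_sInf]
    intro P hP
    haveI : P.IsPrime := hP
    let φ : R[X] →ₐ[R] (R ⧸ P)[X] := Polynomial.mapAlg R (R ⧸ P)
    have h1 : IsIntegral R (φ p) := hp.map φ
    have h2 : IsIntegral (R ⧸ P) (φ p) := h1.tower_top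
    have h3 := natDegree_eq_zero_of_isIntegral _ h2
    have h4 : (φ p).coeff 1 = 0 := Polynomial.coeff_eq_zero_of_natDegree_lt (by omega)
    have h5 : φ p = p.map (algebraMap R (R ⧸ P)) := Polynomial.mapAlg_eq_map _ p
    rw [h5, Polynomial.coeff_map, Ideal.Quotient.algebraMap_eq] at h4
    exact Ideal.Quotient.eq_zero_iff_mem.mp h4
  rwa [nilradical_eq_zero, Ideal.zero_eq_bot, Ideal.mem_bot] at h

/-- Reducedness ascends along smooth ring maps: if R is reduced and S is smooth over R then S is
reduced. -/
theorem result (R : Type u) [CommRing R] (S : Type u) [CommRing S]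
    [Algebra R S] [Algebra.Smooth R S] [IsReduced R] : IsReduced S := by
  constructor
  intro s hs
  have hz : IsNilpotent (s ⊗ₜ[R] (Polynomial.X : R[X])) := by
    obtain ⟨n, hn⟩ := hs
    exact ⟨n, by rw [Algebra.TensorProduct.tmul_pow, hn, zero_tmul]⟩
  have hzint : IsIntegral S (s ⊗ₜ[R] (Polynomial.X : R[X])) := by
    obtain ⟨n, hn⟩ := hz
    refine IsIntegral.of_pow (Nat.succ_pos n) ?_
    rw [pow_succ, hn, zero_mul]
    exact isIntegral_zero
  obtain ⟨w, hw⟩ := (TensorProduct.toIntegralClosure_bijective_of_smooth (R := R) (S := S)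
    (B := R[X])).2 ⟨s ⊗ₜ[R] (Polynomial.X : R[X]), hzint⟩
  have hzero : ∀ w : S ⊗[R] integralClosure R R[X],
      (LinearMap.lTensor S (Polynomial.lcoeff R 1))
        (Algebra.TensorProduct.map (AlgHom.id S S) (integralClosure R R[X]).val w) = 0 := by
    intro w
    induction w with
    | zero => simp
    | add x y hx hy => rw [map_add, map_add, hx, hy, add_zero]
    | tmul a b =>
      rw [Algebra.TensorProduct.map_tmul, LinearMap.lTensor_tmul]
      have hb : (Polynomial.lcoeff R 1) ((integralClosure R R[X]).val b) = 0 :=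
        coeff_one_eq_zero_of_isIntegral _ b.2
      rw [hb, tmul_zero]
  have hval : Algebra.TensorProduct.map (AlgHom.id S S) (integralClosure R R[X]).val w =
      s ⊗ₜ[R] (Polynomial.X : R[X]) := congrArg Subtype.val hw
  have h1 := hzero w
  rw [hval, LinearMap.lTensor_tmul] at h1
  have h2 : (Polynomial.lcoeff R 1) (Polynomial.X : R[X]) = 1 := by simp
  rw [h2] at h1
  have h3 := congrArg (TensorProduct.rid R S) h1
  simpa using h3

end Groth.Agent.S9407
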