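import Groth.Statements.S0515
import Groth.Agent.H47.Hens5
import Groth.Agent.H47.NormalColimit
import Groth.Agent.H13.FlatNormal

set_option autoImplicit false
universe u
open Hensel

namespace Groth.Agent.S0515

open CategoryTheory Groth.Agent.H47.Hens Groth.Agent.H47.Hens.EtPt in
theorem normal_H (R : Type u) [CommRing R] (p : Ideal R) [p.IsPrime] [IsDomain R]
    [IsIntegrallyClosed R] : IsDomain (H R p) ∧ IsIntegrallyClosed (H R p) := by
  haveI : ∀ X : EtPt R p, (RingHom.ker X.χ.toRingHom).IsPrime := fun X => RingHom.ker_isPrime _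
  refine Groth.Agent.H47.EtaleNormal.isDomain_isIntegrallyClosed_of_filtered (R := R)
    (H := H R p) (J := EtPt R p) (fun X => X.A) (fun X => RingHom.ker X.χ.toRingHom)
    (fun X => ι R p X) (exists_rep_finset R p) ?_ ?_
  · intro X a ha
    have h0 : ι R p X a = ι R p X 0 := by rw [ha, map_zero]
    obtain ⟨Z, u, v, huv⟩ := (ι_eq_iff R p a 0).mp h0
    exact ⟨Z, u.f, fun x => ι_map R p u x, by rw [huv, map_zero]⟩
  · intro X a ha
    apply isUnit_of_ε_ne_zero
    rw [ε_ι]
    exact fun h => ha (RingHom.mem_ker.mpr h)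


/-- A local ring is an integrally closed domain exactly when its henselization is. -/
theorem result (R : Type u) [CommRing R] [IsLocalRing R] (S : Type u) [CommRing S] [IsLocalRing S]
    [Algebra R S] [IsLocalHom (algebraMap R S)] [Hensel.IsHenselization R S] :
    (IsDomain R ∧ IsIntegrallyClosed R) ↔ (IsDomain S ∧ IsIntegrallyClosed S) := by
  obtain ⟨e⟩ := Groth.Agent.H47.Hens.exists_algEquiv R S
  constructor
  · rintro ⟨h1, h2⟩
    obtain ⟨h3, h4⟩ := normal_H R (IsLocalRing.maximalIdeal R)
    exact ⟨e.symm.toRingEquiv.toMulEquiv.isDomain (Groth.Agent.H47.Hens.Hloc R),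
      IsIntegrallyClosed.of_equiv e.toRingEquiv⟩
  · rintro ⟨h1, h2⟩
    haveI := Groth.Agent.H47.Hens.faithfullyFlat R S
    exact Groth.Agent.H13.isDomain_isIntegrallyClosed_of_faithfullyFlat R S

end Groth.Agent.S0515
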