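import Groth.Statements.S1972
import Groth.Agent.H47.HensK3

set_option autoImplicit false
universe u
open EtAlg

namespace Groth.Agent.S1972

open CategoryTheory Groth.Agent.H47.Hens Groth.Agent.H47.Hens.EtPt in
theorem nilradical_H (R : Type u) [CommRing R] (p : Ideal R) [p.IsPrime] :
    nilradical (H R p) = (nilradical R).map (algebraMap R (H R p)) := by
  apply le_antisymm
  · intro x hx
    obtain ⟨n, hn⟩ := mem_nilradical.mp hx
    obtain ⟨X, a, rfl⟩ := exists_rep R p x
    have h0 : ι R p X (a ^ n) = ι R p X 0 := by rw [map_pow, hn, map_zero]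
    obtain ⟨Z, u, v, huv⟩ := (ι_eq_iff R p _ _).mp h0
    rw [map_zero, map_pow] at huv
    have hb : u.f a ∈ nilradical Z.A := mem_nilradical.mpr ⟨n, huv⟩
    have hb' := Groth.Agent.H47.HensK.nilradical_le_map_of_smooth R Z.A hb
    rw [← ι_map R p u]
    have := Ideal.mem_map_of_mem (ιₐ R p Z).toRingHom hb'
    have hc : (ιₐ R p Z).toRingHom.comp (algebraMap R Z.A) = algebraMap R (H R p) :=
      RingHom.ext fun r => ι_algebraMap R p Z r
    rw [Ideal.map_map, hc] at this
    exact this
  · rw [Ideal.map_le_iff_le_comap]
    intro r hr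
    exact mem_nilradical.mpr ((mem_nilradical.mp hr).map _)


/-- Let R be a local ring and S a henselization or a strict henselization of R. Then the nilradical of S
is the extension of the nilradical of R. -/
theorem result (R S : Type u) [CommRing R] [IsLocalRing R] [CommRing S] [IsLocalRing S]
    [Algebra R S] [IsLocalHom (algebraMap R S)]
    (h : Hensel.IsHenselization R S ∨ Hensel.IsStrictHenselization R S) :
    (nilradical R).map (algebraMap R S) = nilradical S := by
  rcases h with h | h
  · haveI := h
    obtain ⟨e⟩ := Groth.Agent.H47.Hens.exists_algEquiv R S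
    exact Groth.Agent.H47.HensK.nilradical_eq_map_of_algEquiv e
      (nilradical_H R (IsLocalRing.maximalIdeal R))
  · haveI := h
    obtain ⟨e⟩ := Groth.Agent.H47.HensK.exists_algEquiv_Hsh R S
    exact Groth.Agent.H47.HensK.nilradical_eq_map_of_algEquiv e
      (Groth.Agent.H47.HensK.nilradical_H R (Groth.Agent.H47.HensK.Ksep R))

end Groth.Agent.S1972
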