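import Groth.Statements.S0082
import Groth.Agent.H1.AffineDescent

set_option autoImplicit false
open CategoryTheory CategoryTheory.Limits AlgebraicGeometry Opposite
universe u
open EtBase

namespace Groth.Agent.S0082

/-- If the base change of a morphism of schemes along a quasi-compact, flat, surjective morphism is
affine, then the morphism itself is affine. (Stated for a single quasi-compact flat surjective base
change; together with Zariski-locality on the target this is fpqc descent for affineness.) -/
theorem result :
    MorphismProperty.DescendsAlong @IsAffineHom (@Surjective ⊓ @Flat ⊓ @QuasiCompact : MorphismProperty Scheme.{u}) := by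
  refine IsZariskiLocalAtTarget.descendsAlong_inf_quasiCompact _ _ ?_ ?_
  · rw [inf_comm]
    exact inf_le_inf le_rfl (IsLocalIso.le_of_isZariskiLocalAtSource _)
  intro R S Y φ g ⟨hs, hfl⟩ hfst
  have : Surjective (Spec.map φ) := hs
  have : Flat (Spec.map φ) := hfl
  have : IsAffineHom (pullback.fst (Spec.map φ) g) := hfst
  have : IsAffine (pullback (Spec.map φ) g : Scheme.{u}) :=
    isAffine_of_isAffineHom (pullback.fst (Spec.map φ) g)
  have : IsAffine Y := Groth.Agent.H1.isAffine_of_isPullback_of_flat_of_surjective
    (IsPullback.of_hasPullback (Spec.map φ) g).flip
  change IsAffineHom g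
  infer_instance

end Groth.Agent.S0082
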