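import Groth.Statements.S4625
import Mathlib
import Groth.Agent.H23.GeomDescent

set_option autoImplicit false
open CategoryTheory AlgebraicGeometry
universe u
open FBase

namespace Groth.Agent.S4625


/-- Let X be a scheme over a field k and K an extension field of k. Then X is geometrically connected
over k if and only if X ⊗_k K, with its structure of K-scheme, is geometrically connected over K. -/
theorem result {k K : Type u} [Field k] [Field K] [Algebra k K]
    {X : Scheme.{u}} (f : X ⟶ Spec (CommRingCat.of k)) :
    GeometricallyConnected f ↔ GeometricallyConnected (FBase.bcStr f K) := by
  constructor
  · intro h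
    exact MorphismProperty.pullback_snd (P := @GeometricallyConnected) f _ h
  · intro h
    rw [GeometricallyConnected.eq_geometrically] at h ⊢
    have : Surjective (Spec.map (CommRingCat.ofHom (algebraMap k K))) :=
      ⟨fun x => ⟨default, Subsingleton.elim _ _⟩⟩
    exact H23.geometrically_descends
      (fun p hp h => H23.connectedSpace_of_surjective p hp h) f _ h

end Groth.Agent.S4625
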