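import Groth.Statements.S0389
import Groth.Agent.H11.GenFree3

set_option autoImplicit false
universe u
open FlatMor

namespace Groth.Agent.S0389

open TensorProduct in
/-- Generic freeness: over a domain, for a finite type algebra and a finite module over it, after
inverting one nonzero element of the base the algebra and the module become free over the base, the
algebra becomes finitely presented over the base and the module finitely presented over the algebra. -/
theorem result {R S M : Type u} [CommRing R] [IsDomain R] [CommRing S] [Algebra R S] [Algebra.FiniteType R S] [AddCommGroup M] [Module S M] [Module R M] [IsScalarTower R S M] [Module.Finite S M] :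
    ∃ f : R, f ≠ 0 ∧ Module.Free (Localization.Away f) (Localization.Away f ⊗[R] M) ∧
      Module.Free (Localization.Away f) (Localization.Away f ⊗[R] S) ∧
      Algebra.FinitePresentation (Localization.Away f) (Localization.Away f ⊗[R] S) ∧
      Module.FinitePresentation (Localization.Away (algebraMap R S f)) (LocalizedModule (Submonoid.powers (algebraMap R S f)) M) := by
  classical
  obtain ⟨n, φ, hφ⟩ := Algebra.FiniteType.iff_quotient_mvPolynomial''.mp
    (inferInstance : Algebra.FiniteType R S)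
  obtain ⟨m, x, hx⟩ := Module.Finite.exists_fin (R := S) (M := M)
  obtain ⟨f₀, hf₀, hM⟩ := Groth.Agent.H11.exists_gfree (R := R) (S := S) (M := M)
  obtain ⟨f₁, hf₁, hS⟩ := Groth.Agent.H11.exists_gfree (R := R) (S := S) (M := S)
  obtain ⟨G₂, f₂, hf₂, hG₂, h₂⟩ := Groth.Agent.H11.exists_pow_smul_mem_span
    (Module.Basis.singleton (Fin 1) (MvPolynomial (Fin n) R)) (RingHom.ker φ)
  let L : Submodule (MvPolynomial (Fin n) R) (Fin m → MvPolynomial (Fin n) R) :=
    { carrier := {l | ∑ i, φ (l i) • x i = 0}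
      zero_mem' := by simp
      add_mem' := by
        intro a b ha hb
        simp only [Set.mem_setOf_eq] at ha hb ⊢
        simp only [Pi.add_apply, map_add, add_smul, Finset.sum_add_distrib, ha, hb, add_zero]
      smul_mem' := by
        intro c a ha
        simp only [Set.mem_setOf_eq] at ha ⊢
        simp only [Pi.smul_apply, smul_eq_mul, map_mul, mul_smul, ← Finset.smul_sum, ha,
          smul_zero] }
  obtain ⟨G₃, f₃, hf₃, hG₃, h₃⟩ := Groth.Agent.H11.exists_pow_smul_mem_span
    (Pi.basisFun (MvPolynomial (Fin n) R) (Fin m)) L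
  have d₀ : f₀ ∣ f₀ * f₁ * f₂ * f₃ := ⟨f₁ * f₂ * f₃, by ring⟩
  have d₁ : f₁ ∣ f₀ * f₁ * f₂ * f₃ := ⟨f₀ * f₂ * f₃, by ring⟩
  have d₂ : f₂ ∣ f₀ * f₁ * f₂ * f₃ := ⟨f₀ * f₁ * f₃, by ring⟩
  have d₃ : f₃ ∣ f₀ * f₁ * f₂ * f₃ := ⟨f₀ * f₁ * f₂, by ring⟩
  refine ⟨f₀ * f₁ * f₂ * f₃,
    mul_ne_zero (mul_ne_zero (mul_ne_zero hf₀ hf₁) hf₂) hf₃, ?_, ?_, ?_, ?_⟩
  · haveI : IsLocalizedModule (Submonoid.powers (f₀ * f₁ * f₂ * f₃))
        (TensorProduct.mk R (Localization.Away (f₀ * f₁ * f₂ * f₃)) M 1) :=
      (isLocalizedModule_iff_isBaseChange (Submonoid.powers (f₀ * f₁ * f₂ * f₃))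
        (Localization.Away (f₀ * f₁ * f₂ * f₃)) _).mpr
        (TensorProduct.isBaseChange R M (Localization.Away (f₀ * f₁ * f₂ * f₃)))
    exact (hM.of_dvd d₀).free_of_isLocalizedModule
      (TensorProduct.mk R (Localization.Away (f₀ * f₁ * f₂ * f₃)) M 1)
  · haveI : IsLocalizedModule (Submonoid.powers (f₀ * f₁ * f₂ * f₃))
        (TensorProduct.mk R (Localization.Away (f₀ * f₁ * f₂ * f₃)) S 1) :=
      (isLocalizedModule_iff_isBaseChange (Submonoid.powers (f₀ * f₁ * f₂ * f₃))
        (Localization.Away (f₀ * f₁ * f₂ * f₃)) _).mpr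
        (TensorProduct.isBaseChange R S (Localization.Away (f₀ * f₁ * f₂ * f₃)))
    exact (hS.of_dvd d₁).free_of_isLocalizedModule
      (TensorProduct.mk R (Localization.Away (f₀ * f₁ * f₂ * f₃)) S 1)
  · exact Groth.Agent.H11.finitePresentation_away φ hφ G₂ hG₂ _
      (fun l hl => Groth.Agent.H11.pow_smul_mem_of_dvd _ d₂ (h₂ l hl))
  · refine Groth.Agent.H11.module_fp_away φ hφ x hx G₃ (fun g hg => hG₃ hg) _
      (fun l hl => Groth.Agent.H11.pow_smul_mem_of_dvd _ d₃ (h₃ l hl))

end Groth.Agent.S0389
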