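import Groth.Statements.S12067
import Groth.Agent.S7960

set_option autoImplicit false
universe u
open TensorProduct
open SGA3t2b

namespace Groth.Agent.S12067

open Groth.Agent Groth.Agent.S7960

section

variable (k : Type u) (A : Type u) [Field k] [CommRing A] [HopfAlgebra k A]
variable {V : Type u} [AddCommGroup V] [Module k V] [HopfRep.Comod k A V]

theorem range_rTensor_mono {W U : Submodule k V} (h : W ≤ U) :
    LinearMap.range (W.subtype.rTensor A) ≤ LinearMap.range (U.subtype.rTensor A) := by
  have e : W.subtype = U.subtype ∘ₗ Submodule.inclusion h := by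
    ext x; rfl
  rw [e, LinearMap.rTensor_comp]
  exact LinearMap.range_comp_le_range _ _

theorem tmul_one_mem {U : Submodule k V} {u : V} (hu : u ∈ U) :
    u ⊗ₜ[k] (1 : A) ∈ LinearMap.range (U.subtype.rTensor A) :=
  ⟨(⟨u, hu⟩ : U) ⊗ₜ[k] (1 : A), by simp⟩

/-- any subspace between `W` and `next W` is a subcomodule -/
theorem isSubcomod_of_between {W U : Submodule k V}
    (hW : HopfRep.IsSubcomod (k := k) (A := A) W) (h1 : W ≤ U) (h2 : U ≤ next k A W) :
    HopfRep.IsSubcomod (k := k) (A := A) U := by
  intro u hu
  have h3 := (mem_next_iff k A hW u).mp (h2 hu)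
  have h4 := range_rTensor_mono k A h1 h3
  have h5 := tmul_one_mem k A hu
  have := Submodule.add_mem _ h4 h5
  simpa using this

variable [Module.Finite k V]

/-- one-dimensional step -/
noncomputable def step (W : Submodule k V) : Submodule k V := by
  classical
  exact if h : ∃ v, v ∈ next k A W ∧ v ∉ W then W ⊔ Submodule.span k {h.choose} else W

theorem step_spec (hU : HopfRep.IsUnipotent k A) {W : Submodule k V}
    (hW : HopfRep.IsSubcomod (k := k) (A := A) W) (hne : W ≠ ⊤) :
    ∃ v, v ∈ next k A W ∧ v ∉ W ∧ step k A W = W ⊔ Submodule.span k {v} := by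
  have hlt := lt_next k A hU hW hne
  have h : ∃ v, v ∈ next k A W ∧ v ∉ W := by
    obtain ⟨v, hv, hv'⟩ := SetLike.exists_of_lt hlt
    exact ⟨v, hv, hv'⟩
  refine ⟨h.choose, h.choose_spec.1, h.choose_spec.2, ?_⟩
  unfold step
  exact dif_pos h

theorem le_step (W : Submodule k V) : W ≤ step k A W := by
  unfold step
  split_ifs
  · exact le_sup_left
  · exact le_rfl

theorem step_le_next {W : Submodule k V} (hW : HopfRep.IsSubcomod (k := k) (A := A) W) :
    step k A W ≤ next k A W := by
  unfold step
  split_ifs with h
  · refine sup_le (le_next k A hW) ?_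
    rw [Submodule.span_singleton_le_iff_mem]
    exact h.choose_spec.1
  · exact le_next k A hW

theorem finrank_step (hU : HopfRep.IsUnipotent k A) {W : Submodule k V}
    (hW : HopfRep.IsSubcomod (k := k) (A := A) W) (hne : W ≠ ⊤) :
    Module.finrank k ↥(step k A W) = Module.finrank k ↥W + 1 := by
  obtain ⟨v, hv, hvW, he⟩ := step_spec k A hU hW hne
  rw [he]
  have hv0 : v ≠ 0 := fun h0 => hvW (h0 ▸ W.zero_mem)
  have hinf : W ⊓ Submodule.span k {v} = ⊥ := by
    rw [eq_bot_iff]
    rintro x ⟨hx1, hx2⟩
    obtain ⟨c, rfl⟩ := Submodule.mem_span_singleton.mp hx2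
    by_cases hc : c = 0
    · simp [hc]
    · exfalso
      apply hvW
      have := W.smul_mem c⁻¹ hx1
      rwa [smul_smul, inv_mul_cancel₀ hc, one_smul] at this
  have h1 := Submodule.finrank_sup_add_finrank_inf_eq W (Submodule.span k {v})
  rw [hinf, finrank_bot, finrank_span_singleton hv0] at h1
  omega

/-- the fine flag -/
noncomputable def fflag : ℕ → Submodule k V
  | 0 => ⊥
  | n + 1 => step k A (fflag n)

theorem isSubcomod_fflag (i : ℕ) :
    HopfRep.IsSubcomod (k := k) (A := A) (fflag k A (V := V) i) := by
  induction i with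
  | zero => exact H40.isSubcomod_bot
  | succ n ih => exact isSubcomod_of_between k A ih (le_step k A _) (step_le_next k A ih)

theorem finrank_fflag (hU : HopfRep.IsUnipotent k A) (i : ℕ) (hi : i ≤ Module.finrank k V) :
    Module.finrank k ↥(fflag k A (V := V) i) = i := by
  induction i with
  | zero => exact finrank_bot k V
  | succ n ih =>
    have hn := ih (by omega)
    have hne : fflag k A (V := V) n ≠ ⊤ := by
      intro htop
      rw [htop, finrank_top] at hn
      omega
    change Module.finrank k ↥(step k A (fflag k A (V := V) n)) = n + 1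
    rw [finrank_step k A hU (isSubcomod_fflag k A n) hne, hn]

end


/-- In Hopf-algebra form, let k be a field and A a finitely generated commutative Hopf algebra over k
(an affine algebraic group G) which is unipotent: every nonzero finite-dimensional comodule has a
nonzero fixed vector. Then every finite-dimensional comodule V (a finite-dimensional representation
of G), of dimension n, has a flag of subcomodules 0 = V_0 ⊂ V_1 ⊂ ⋯ ⊂ V_n = V with one-dimensional
successive quotients on which G acts trivially: for v ∈ V_(i+1) the coaction of v is congruent to v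
⊗ 1 modulo V_i ⊗ A. -/
theorem result (k : Type u) [Field k] (A : Type u) [CommRing A]
    [HopfAlgebra k A] [Algebra.FiniteType k A] (hU : HopfRep.IsUnipotent k A)
    (V : Type u) [AddCommGroup V] [Module k V] [HopfRep.Comod k A V] [Module.Finite k V] :
    ∃ F : Fin (Module.finrank k V + 1) → Submodule k V,
      F 0 = ⊥ ∧ F (Fin.last _) = ⊤ ∧
      (∀ i : Fin (Module.finrank k V + 1), HopfRep.IsSubcomod (k := k) (A := A) (F i)) ∧
      ∀ i : Fin (Module.finrank k V), F i.castSucc ≤ F i.succ ∧
        Module.finrank k ↥(F i.succ) = Module.finrank k ↥(F i.castSucc) + 1 ∧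
        ∀ v ∈ F i.succ, HopfRep.Comod.coact (k := k) (A := A) v - v ⊗ₜ[k] (1 : A) ∈
          LinearMap.range ((F i.castSucc).subtype.rTensor A) := by
  refine ⟨fun i => fflag k A (V := V) i.val, rfl, ?_, fun i => isSubcomod_fflag k A i.val, ?_⟩
  · have h := finrank_fflag k A hU (V := V) (Module.finrank k V) le_rfl
    exact Submodule.eq_top_of_finrank_eq h
  · intro i
    have hi : i.val < Module.finrank k V := i.isLt
    have hn := finrank_fflag k A hU (V := V) i.val (by omega)
    have hne : fflag k A (V := V) i.val ≠ ⊤ := by
      intro htop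
      rw [htop, finrank_top] at hn
      omega
    refine ⟨le_step k A _, ?_, ?_⟩
    · exact finrank_step k A hU (isSubcomod_fflag k A i.val) hne
    · intro v hv
      exact (mem_next_iff k A (isSubcomod_fflag k A i.val) v).mp
        (step_le_next k A (isSubcomod_fflag k A i.val) hv)

end Groth.Agent.S12067
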