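import Groth.Statements.S13371
import Groth.Agent.H43.LocalIsoGen

set_option autoImplicit false
universe u
open GaDual

namespace Groth.Agent.S13371
open CategoryTheory CategoryTheory.Limits AlgebraicGeometry MonObj CartesianMonoidalCategory
open Groth.Agent.H93.GaGmLaw Groth.Agent.H43.LocalIsoGen

section Helpers

variable {S : Scheme.{u}}

/-- A point of `𝔾_m` is determined by its coordinate function. -/
theorem gm_ext {X : Over S} (a b : X ⟶ Red.Gm S) (h : Red.gmFn a = Red.gmFn b) : a = b := by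
  apply Over.OverMorphism.ext
  apply Limits.pullback.hom_ext
  · refine ext_to_Spec (R := Lau.{u}) ?_
    apply CommRingCat.hom_ext
    apply lau_hom_ext
    apply Units.ext
    exact h
  · exact (Over.w a).trans (Over.w b).symm

/-- The coordinate function of a point of `𝔾_m` is a unit. -/
theorem isUnit_gmFn {X : Over S} (t : X ⟶ Red.Gm S) : IsUnit (Red.gmFn t) := by
  have h : IsUnit (MonoidAlgebra.single (Multiplicative.ofAdd (1 : ℤ)) (1 : ULift.{u} ℤ) :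
      Lau.{u}) := (gU.{u}).isUnit
  unfold Red.gmFn Red.gmCoord
  exact (h.map _).map _

/-- Naturality of the coordinate function. -/
theorem gmFn_comp {X Y : Over S} (a : X ⟶ Y) (t : Y ⟶ Red.Gm S) :
    Red.gmFn (a ≫ t) = a.left.appTop.hom (Red.gmFn t) := by
  unfold Red.gmFn
  rw [Over.comp_left, Category.assoc, Scheme.Hom.comp_appTop]
  rfl

noncomputable abbrev tS (S : Scheme.{u}) : S ⟶ Spec (CommRingCat.of (ULift.{u} ℤ)) :=
  Limits.IsTerminal.from specULiftZIsTerminal S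

noncomputable abbrev GG (S : Scheme.{u}) : Scheme.{u} := (Red.Ga S).left

noncomputable abbrev sndG (S : Scheme.{u}) : GG S ⟶ S := (Red.Ga S).hom

noncomputable abbrev fstG (S : Scheme.{u}) : GG S ⟶ Spec (CommRingCat.of Sym.{u}) :=
  Limits.pullback.fst _ _

theorem unit_fixed_local [IsReduced S] (s : S ⟶ GG S) (hs : s ≫ sndG S = 𝟙 S)
    (u : Γ(GG S, ⊤)) (hu : IsUnit u) (U : S.Opens) (hU : IsAffineOpen U) :
    ((sndG S) ⁻¹ᵁ U).ι.appTop.hom ((sndG S).appTop.hom (s.appTop.hom u)) =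
      ((sndG S) ⁻¹ᵁ U).ι.appTop.hom u := by
  have hP : IsPullback (sndG S) (fstG S) (tS S) (Red.GaZ.{u}).hom :=
    (IsPullback.of_hasPullback (Red.GaZ.{u}).hom (tS S)).flip
  obtain ⟨ψc, ψi, h1, h2, h3, -⟩ := exists_local_iso_gen Sym.{u} (sndG S) (fstG S) (tS S)
    (Red.GaZ.{u}).hom hP U Γ(S, U) hU.isoSpec (Polynomial Γ(S, U)) Polynomial.C
    (gaHom.{u} Polynomial.X) (isPushout_sym Γ(S, U))
  have hu' : IsUnit (((sndG S) ⁻¹ᵁ U).ι.appTop.hom u) := hu.map _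
  have hp : IsUnit (ψi.hom (((sndG S) ⁻¹ᵁ U).ι.appTop.hom u)) := hu'.map ψi.hom
  obtain ⟨c, hc⟩ : ∃ c : Γ(S, U), ψi.hom (((sndG S) ⁻¹ᵁ U).ι.appTop.hom u) = Polynomial.C c := by
    rw [Polynomial.isUnit_iff_coeff_isUnit_isNilpotent] at hp
    refine ⟨(ψi.hom (((sndG S) ⁻¹ᵁ U).ι.appTop.hom u)).coeff 0, ?_⟩
    ext n
    rw [Polynomial.coeff_C]
    split_ifs with hn
    · rw [hn]
    · exact (hp.2 n hn).eq_zero
  have hu1 : ((sndG S) ⁻¹ᵁ U).ι.appTop.hom u = ψc.hom (Polynomial.C c) := by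
    rw [← hc]
    exact (congrArg (fun φ => φ.hom (((sndG S) ⁻¹ᵁ U).ι.appTop.hom u)) h1).symm
  have hu2 : ψc.hom (Polynomial.C c) = ((sndG S) ∣_ U).appTop.hom
      (hU.isoSpec.hom.appTop.hom ((Scheme.ΓSpecIso Γ(S, U)).inv.hom c)) := by
    have e := congrArg (fun φ => φ.hom c) h3
    rw [Scheme.Hom.comp_appTop] at e
    exact e
  have sqU := isPullback_morphismRestrict (sndG S) U
  let sU : (U : Scheme.{u}) ⟶ ((sndG S) ⁻¹ᵁ U : Scheme.{u}) :=
    sqU.lift (𝟙 _) (U.ι ≫ s)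
      (by rw [Category.id_comp, Category.assoc, hs, Category.comp_id])
  have hsU1 : sU ≫ ((sndG S) ∣_ U) = 𝟙 _ := sqU.lift_fst _ _ _
  have hsU2 : sU ≫ ((sndG S) ⁻¹ᵁ U).ι = U.ι ≫ s := sqU.lift_snd _ _ _
  have k1 : ∀ x : Γ(S, ⊤), ((sndG S) ⁻¹ᵁ U).ι.appTop.hom ((sndG S).appTop.hom x) =
      ((sndG S) ∣_ U).appTop.hom (U.ι.appTop.hom x) := by
    intro x
    have e : (sndG S).appTop ≫ ((sndG S) ⁻¹ᵁ U).ι.appTop =
        U.ι.appTop ≫ ((sndG S) ∣_ U).appTop := by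
      rw [← Scheme.Hom.comp_appTop, ← Scheme.Hom.comp_appTop, sqU.w]
    exact congrArg (fun φ => φ.hom x) e
  have k2 : ∀ x : Γ(GG S, ⊤), U.ι.appTop.hom (s.appTop.hom x) =
      sU.appTop.hom (((sndG S) ⁻¹ᵁ U).ι.appTop.hom x) := by
    intro x
    have e : s.appTop ≫ U.ι.appTop = ((sndG S) ⁻¹ᵁ U).ι.appTop ≫ sU.appTop := by
      rw [← Scheme.Hom.comp_appTop, ← Scheme.Hom.comp_appTop, hsU2]
    exact congrArg (fun φ => φ.hom x) e
  have k3 : ∀ r : Γ((U : Scheme.{u}), ⊤), sU.appTop.hom (((sndG S) ∣_ U).appTop.hom r) = r := by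
    intro r
    have e : ((sndG S) ∣_ U).appTop ≫ sU.appTop = 𝟙 _ := by
      rw [← Scheme.Hom.comp_appTop, hsU1, Scheme.Hom.id_appTop]
    exact congrArg (fun φ => φ.hom r) e
  rw [k1, k2, hu1, hu2, k3]

theorem unit_fixed [IsReduced S] (s : S ⟶ GG S) (hs : s ≫ sndG S = 𝟙 S)
    (u : Γ(GG S, ⊤)) (hu : IsUnit u) : (sndG S).appTop.hom (s.appTop.hom u) = u := by
  let Idx := {U : S.Opens // IsAffineOpen U}
  have hcov : (⊤ : (GG S).Opens) ≤ ⨆ i : Idx, ((sndG S) ⁻¹ᵁ i.1).ι ''ᵁ ⊤ := by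
    intro y _
    obtain ⟨W, (hW : IsAffineOpen W), hyW, -⟩ :=
      TopologicalSpace.Opens.isBasis_iff_nbhd.mp S.isBasis_affineOpens
        (show (sndG S).base y ∈ (⊤ : S.Opens) from trivial)
    refine TopologicalSpace.Opens.mem_iSup.mpr ⟨⟨W, hW⟩, ?_⟩
    rw [Scheme.Opens.ι_image_top]
    exact hyW
  apply (GG S).sheaf.eq_of_locally_eq' (fun i : Idx => ((sndG S) ⁻¹ᵁ i.1).ι ''ᵁ ⊤) ⊤
    (fun i => homOfLE le_top) hcov
  intro i
  have := unit_fixed_local s hs u hu i.1 i.2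
  rw [Scheme.Opens.ι_appTop] at this
  exact this

theorem main [IsReduced S] (φ : Red.Ga S ⟶ Red.Gm S) [hφ : IsMonHom φ] : φ = 1 := by
  have h1 : η[Red.Ga S] ≫ φ = η[Red.Gm S] := hφ.one_hom
  have hone : (1 : Red.Ga S ⟶ Red.Gm S) = (toUnit (Red.Ga S) ≫ η[Red.Ga S]) ≫ φ := by
    rw [Category.assoc, h1]
    rfl
  rw [hone]
  apply gm_ext
  rw [gmFn_comp]
  have hz : (toUnit (Red.Ga S) ≫ η[Red.Ga S]).left = sndG S ≫ η[Red.Ga S].left := rfl
  rw [hz, Scheme.Hom.comp_appTop]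
  exact (unit_fixed (S := S) (η[Red.Ga S].left : S ⟶ GG S) (Over.w η[Red.Ga S]) (Red.gmFn φ)
    (isUnit_gmFn φ)).symm

end Helpers

open CategoryTheory AlgebraicGeometry MonObj CartesianMonoidalCategory in
/-- If S is a reduced scheme, every homomorphism of S-group schemes from the additive group to the
multiplicative group over S is the trivial homomorphism. -/
theorem result (S : Scheme.{u}) [IsReduced S] (φ : Red.Ga S ⟶ Red.Gm S)
    [IsMonHom φ] : φ = 1 := by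
  exact main φ

end Groth.Agent.S13371
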