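import Groth.Statements.S13404
import Mathlib
import Groth.Agent.S0505

set_option autoImplicit false
universe u v
open Hopf

namespace Groth.Agent.S13404


open TensorProduct

theorem henselian_of_ringEquiv {R S : Type*} [CommRing R] [CommRing S] [HenselianLocalRing R]
    (φ : R ≃+* S) : HenselianLocalRing S := by
  haveI : IsLocalRing S := φ.isLocalRing
  have hunit : ∀ x : S, IsUnit (φ.symm x) ↔ IsUnit x := fun x =>
    ⟨fun h => by simpa using h.map φ, fun h => h.map φ.symm⟩
  have hmem : ∀ x : S, x ∈ IsLocalRing.maximalIdeal S ↔ φ.symm x ∈ IsLocalRing.maximalIdeal R := by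
    intro x
    rw [IsLocalRing.mem_maximalIdeal, IsLocalRing.mem_maximalIdeal, mem_nonunits_iff,
      mem_nonunits_iff, hunit]
  refine ⟨fun f hf a₀ h₁ h₂ => ?_⟩
  have hev : ∀ (p : Polynomial S) (s : S),
      (p.map (φ.symm : S →+* R)).eval (φ.symm s) = φ.symm (p.eval s) := by
    intro p s
    exact Polynomial.eval_map_apply (f := (φ.symm : S →+* R)) s
  obtain ⟨b, hb, hbb⟩ := HenselianLocalRing.is_henselian (f.map (φ.symm : S →+* R)) (hf.map _)
    (φ.symm a₀) (by rw [hev]; exact (hmem _).1 h₁)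
    (by rw [Polynomial.derivative_map, hev]; exact h₂.map φ.symm)
  refine ⟨φ b, ?_, ?_⟩
  · have h3 := hev f (φ b)
    have hb' : (f.map (φ.symm : S →+* R)).eval b = 0 := hb
    rw [φ.symm_apply_apply, hb'] at h3
    exact (map_eq_zero_iff φ.symm φ.symm.injective).1 h3.symm
  · rw [hmem, map_sub, φ.symm_apply_apply]; exact hbb

theorem henselian_of_finite_univ (R : Type u) [CommRing R] [HenselianLocalRing R]
    (S : Type v) [CommRing S] [IsLocalRing S] [Algebra R S] [Module.Finite R S] :
    HenselianLocalRing S := by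
  haveI : HenselianLocalRing (ULift.{v} R) :=
    henselian_of_ringEquiv (ULift.ringEquiv.symm : R ≃+* ULift.{v} R)
  haveI : IsLocalRing (ULift.{u} S) := (ULift.ringEquiv.symm : S ≃+* ULift.{u} S).isLocalRing
  let ψ : ULift.{v} R →+* ULift.{u} S :=
    ((ULift.ringEquiv.symm : S ≃+* ULift.{u} S) : S →+* ULift.{u} S).comp
      ((algebraMap R S).comp ((ULift.ringEquiv : ULift.{v} R ≃+* R) : ULift.{v} R →+* R))
  have hψ : ψ.Finite := by
    refine RingHom.Finite.comp (RingHom.Finite.of_surjective _ (RingEquiv.surjective _)) ?_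
    refine RingHom.Finite.comp (RingHom.finite_algebraMap.2 inferInstance) ?_
    exact RingHom.Finite.of_surjective _ (RingEquiv.surjective _)
  have hfin : @Module.Finite (ULift.{v} R) (ULift.{u} S) _ _ ψ.toAlgebra.toModule := hψ
  haveI : HenselianLocalRing (ULift.{u} S) :=
    @Groth.Agent.S0505.result (ULift.{v} R) _ _ (ULift.{u} S) _ _ ψ.toAlgebra hfin
  exact henselian_of_ringEquiv (ULift.ringEquiv : ULift.{u} S ≃+* S)

theorem sub_smul_one_mem {R : Type*} [CommRing R] {B : Type*} [CommRing B] [Algebra R B]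
    (ε₀ : B →ₐ[R] R) (M : Ideal (B ⊗[R] B))
    (hl : ∀ x : B, ε₀ x = 0 → x ⊗ₜ[R] (1 : B) ∈ M)
    (hr : ∀ x : B, ε₀ x = 0 → (1 : B) ⊗ₜ[R] x ∈ M) (c : B ⊗[R] B) :
    c - (Algebra.TensorProduct.productMap ε₀ ε₀ c) • (1 : B ⊗[R] B) ∈ M := by
  induction c using TensorProduct.induction_on with
  | zero => simp
  | tmul a b =>
    have ha : ε₀ (a - (ε₀ a) • (1 : B)) = 0 := by simp
    have hb : ε₀ (b - (ε₀ b) • (1 : B)) = 0 := by simp
    have h1 := M.mul_mem_right ((1 : B) ⊗ₜ[R] b) (hl _ ha)
    have h2 := M.mul_mem_left (((ε₀ a) • (1 : B)) ⊗ₜ[R] (1 : B)) (hr _ hb)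
    have key : a ⊗ₜ[R] b - (Algebra.TensorProduct.productMap ε₀ ε₀ (a ⊗ₜ[R] b)) • (1 : B ⊗[R] B)
        = (a - (ε₀ a) • (1 : B)) ⊗ₜ[R] (1 : B) * ((1 : B) ⊗ₜ[R] b)
          + ((ε₀ a) • (1 : B)) ⊗ₜ[R] (1 : B) * ((1 : B) ⊗ₜ[R] (b - (ε₀ b) • (1 : B))) := by
      have hαβ : ((ε₀ a) • (1 : B)) ⊗ₜ[R] ((ε₀ b) • (1 : B)) = (ε₀ a * ε₀ b) • (1 : B ⊗[R] B) := by
        rw [← TensorProduct.smul_tmul', TensorProduct.tmul_smul, smul_smul,
          Algebra.TensorProduct.one_def]
      rw [Algebra.TensorProduct.tmul_mul_tmul, Algebra.TensorProduct.tmul_mul_tmul,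
        Algebra.TensorProduct.productMap_apply_tmul]
      simp only [mul_one, one_mul]
      rw [TensorProduct.sub_tmul, TensorProduct.tmul_sub, hαβ]
      abel
    rw [key]; exact M.add_mem h1 h2
  | add x y hx hy =>
    have key : x + y - (Algebra.TensorProduct.productMap ε₀ ε₀ (x + y)) • (1 : B ⊗[R] B)
        = (x - (Algebra.TensorProduct.productMap ε₀ ε₀ x) • (1 : B ⊗[R] B))
          + (y - (Algebra.TensorProduct.productMap ε₀ ε₀ y) • (1 : B ⊗[R] B)) := by
      rw [map_add, add_smul]; abel
    rw [key]; exact M.add_mem hx hy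

theorem tmul_one_mem_of_maximal {R B : Type*} [CommRing R] [CommRing B] [Algebra R B]
    [IsLocalRing B] [Module.Finite R B]
    (M : Ideal (B ⊗[R] B)) [M.IsMaximal] (x : B) (hx : x ∈ IsLocalRing.maximalIdeal B) :
    x ⊗ₜ[R] (1 : B) ∈ M := by
  haveI : Algebra.IsIntegral B (B ⊗[R] B) := Algebra.IsIntegral.of_finite B (B ⊗[R] B)
  have hmax := Ideal.isMaximal_comap_of_isIntegral_of_isMaximal (R := B) M
  have h := IsLocalRing.eq_maximalIdeal hmax
  have hx' : x ∈ M.comap (algebraMap B (B ⊗[R] B)) := by rw [h]; exact hx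
  simpa [Algebra.TensorProduct.algebraMap_apply] using hx'

theorem one_tmul_mem_of_maximal {R B : Type*} [CommRing R] [CommRing B] [Algebra R B]
    [IsLocalRing B] [Module.Finite R B]
    (M : Ideal (B ⊗[R] B)) [M.IsMaximal] (x : B) (hx : x ∈ IsLocalRing.maximalIdeal B) :
    (1 : B) ⊗ₜ[R] x ∈ M := by
  haveI : (M.comap (Algebra.TensorProduct.comm R B B)).IsMaximal :=
    Ideal.comap_isMaximal_of_surjective _ (Algebra.TensorProduct.comm R B B).surjective
  have h := tmul_one_mem_of_maximal (M.comap (Algebra.TensorProduct.comm R B B)) x hx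
  rw [Ideal.mem_comap, Algebra.TensorProduct.comm_tmul] at h
  exact h

theorem idem_eq_zero {R B : Type*} [CommRing R] [Nontrivial R] [CommRing B] [Algebra R B]
    [IsLocalRing B] [Module.Finite R B] (ε₀ : B →ₐ[R] R) (F : B ⊗[R] B)
    (hF : IsIdempotentElem F) (hρ : Algebra.TensorProduct.productMap ε₀ ε₀ F = 0) : F = 0 := by
  have hker : ∀ x : B, ε₀ x = 0 → x ∈ IsLocalRing.maximalIdeal B := by
    intro x hx
    rw [IsLocalRing.mem_maximalIdeal, mem_nonunits_iff]
    intro hxu
    have := hxu.map ε₀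
    rw [hx] at this
    exact not_isUnit_zero this
  have hu : IsUnit (1 - F) := by
    by_contra hnu
    obtain ⟨M, hM, hFM⟩ := exists_max_ideal_of_mem_nonunits hnu
    haveI := hM
    have key := sub_smul_one_mem ε₀ M (fun x hx => tmul_one_mem_of_maximal M x (hker x hx))
      (fun x hx => one_tmul_mem_of_maximal M x (hker x hx)) (1 - F)
    rw [map_sub, map_one, hρ, sub_zero, one_smul] at key
    have hFmem : F ∈ M := by
      have : F = -(1 - F - 1) := by ring
      rw [this]; exact M.neg_mem key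
    have h1 : (1 : B ⊗[R] B) ∈ M := by
      have : (1 : B ⊗[R] B) = (1 - F) + F := by ring
      rw [this]; exact M.add_mem hFM hFmem
    exact hM.ne_top ((Ideal.eq_top_iff_one M).2 h1)
  have h0 : (1 - F) * F = 0 := by
    have := hF.eq
    linear_combination -this
  exact (hu.mul_right_eq_zero).1 h0

theorem prod_counit {R A : Type*} [CommRing R] [CommRing A] [Bialgebra R A] (a : A) :
    Algebra.TensorProduct.productMap (Bialgebra.counitAlgHom R A) (Bialgebra.counitAlgHom R A)
      (Coalgebra.comul (R := R) a) = Coalgebra.counit (R := R) a := by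
  have key : ∀ z : A ⊗[R] A,
      Algebra.TensorProduct.productMap (Bialgebra.counitAlgHom R A) (Bialgebra.counitAlgHom R A) z
        = TensorProduct.lid R R ((Coalgebra.counit (R := R) (A := A)).lTensor R
            ((Coalgebra.counit (R := R) (A := A)).rTensor A z)) := by
    intro z
    induction z using TensorProduct.induction_on with
    | zero => simp
    | tmul x y => simp
    | add x y hx hy => rw [map_add, map_add, map_add, map_add, hx, hy]
  rw [key, Coalgebra.rTensor_counit_comul]
  simp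

section hopf

variable {R : Type u} [CommRing R] {A : Type v} [CommRing A] [HopfAlgebra R A]
  (J : Ideal A) (hJ : ∀ x ∈ J, Bialgebra.counitAlgHom R A x = 0)

noncomputable def eps0 : A ⧸ J →ₐ[R] R := Ideal.Quotient.liftₐ J (Bialgebra.counitAlgHom R A) hJ

theorem eps0_mk (a : A) : eps0 J hJ (Ideal.Quotient.mkₐ R J a) = Bialgebra.counitAlgHom R A a := rfl

theorem rho_Phi (z : A ⊗[R] A) :
    Algebra.TensorProduct.productMap (eps0 J hJ) (eps0 J hJ)
        (Algebra.TensorProduct.map (Ideal.Quotient.mkₐ R J) (Ideal.Quotient.mkₐ R J) z)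
      = Algebra.TensorProduct.productMap (Bialgebra.counitAlgHom R A) (Bialgebra.counitAlgHom R A)
          z := by
  induction z using TensorProduct.induction_on with
  | zero => simp
  | tmul a b =>
    rw [Algebra.TensorProduct.map_tmul, Algebra.TensorProduct.productMap_apply_tmul,
      Algebra.TensorProduct.productMap_apply_tmul, eps0_mk, eps0_mk]
  | add x y hx hy => rw [map_add, map_add, map_add, hx, hy]

variable (e : A)

include hJ in
theorem Phi_comul_e [Nontrivial R] [Module.Finite R A] [IsLocalRing (A ⧸ J)]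
    (he : IsIdempotentElem e) (hε : Bialgebra.counitAlgHom R A e = 1) :
    Algebra.TensorProduct.map (Ideal.Quotient.mkₐ R J) (Ideal.Quotient.mkₐ R J)
      (Bialgebra.comulAlgHom R A e) = 1 := by
  haveI : Module.Finite R (A ⧸ J) :=
    Module.Finite.of_surjective (Ideal.Quotient.mkₐ R J).toLinearMap
      (Ideal.Quotient.mkₐ_surjective R J)
  have hEid : IsIdempotentElem (Algebra.TensorProduct.map (Ideal.Quotient.mkₐ R J)
      (Ideal.Quotient.mkₐ R J) (Bialgebra.comulAlgHom R A e)) :=
    (he.map (Bialgebra.comulAlgHom R A)).map _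
  have hρ : Algebra.TensorProduct.productMap (eps0 J hJ) (eps0 J hJ)
      (1 - Algebra.TensorProduct.map (Ideal.Quotient.mkₐ R J)
      (Ideal.Quotient.mkₐ R J) (Bialgebra.comulAlgHom R A e)) = 0 := by
    rw [map_sub, map_one, rho_Phi, Bialgebra.comulAlgHom_apply, prod_counit,
      ← Bialgebra.counitAlgHom_apply, hε, sub_self]
  have := idem_eq_zero (eps0 J hJ) _ hEid.one_sub hρ
  exact (sub_eq_zero.1 this).symm

theorem mem_eq_mul (h2 : ∀ x ∈ J, e * x = 0) (x : A) (hx : x ∈ J) : x = x * (1 - e) := by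
  linear_combination (h2 x hx)

theorem counit_zero (hε : Bialgebra.counitAlgHom R A e = 1) (h2 : ∀ x ∈ J, e * x = 0) :
    ∀ x ∈ J, Bialgebra.counitAlgHom R A x = 0 := by
  intro x hx
  rw [mem_eq_mul J e h2 x hx, map_mul, map_sub, map_one, hε, sub_self, mul_zero]

theorem hopfIdeal [Nontrivial R] [Module.Finite R A] [IsLocalRing (A ⧸ J)]
    (he : IsIdempotentElem e) (hε : Bialgebra.counitAlgHom R A e = 1)
    (h2 : ∀ x ∈ J, e * x = 0) : J.IsHopfIdeal R := by
  have hJ := counit_zero J e hε h2
  haveI : (J.restrictScalars R).IsCoideal := by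
    refine Submodule.IsCoideal.mk ?_ ?_
    · intro x hx
      exact hJ x hx
    · intro x hx
      have hmk : (Submodule.restrictScalars R J).mkQ = (Ideal.Quotient.mkₐ R J).toLinearMap := rfl
      rw [hmk]
      change Algebra.TensorProduct.map (Ideal.Quotient.mkₐ R J) (Ideal.Quotient.mkₐ R J)
          (Bialgebra.comulAlgHom R A x) = 0
      rw [mem_eq_mul J e h2 x hx, map_mul, map_mul, map_sub, map_sub, map_one, map_one,
        Phi_comul_e J hJ e he hε, sub_self, mul_zero]
  refine Ideal.IsHopfIdeal.mk ?_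
  intro x hx
  change HopfAlgebra.antipodeAlgHom R A x ∈ J
  -- the image of `S e` in the local ring `A ⧸ J` is an idempotent with counit one, hence one
  have hf : IsIdempotentElem (Ideal.Quotient.mkₐ R J (HopfAlgebra.antipodeAlgHom R A e)) :=
    (he.map (HopfAlgebra.antipodeAlgHom R A)).map _
  have hf1 : Ideal.Quotient.mkₐ R J (HopfAlgebra.antipodeAlgHom R A e) = 1 := by
    rcases IsLocalRing.isUnit_or_isUnit_one_sub_self
      (Ideal.Quotient.mkₐ R J (HopfAlgebra.antipodeAlgHom R A e)) with hu | hu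
    · have := hf.eq
      exact hu.mul_left_cancel (by rw [this, mul_one])
    · exfalso
      have h0 : (1 - Ideal.Quotient.mkₐ R J (HopfAlgebra.antipodeAlgHom R A e)) *
          Ideal.Quotient.mkₐ R J (HopfAlgebra.antipodeAlgHom R A e) = 0 := by
        have := hf.eq
        linear_combination -this
      have hz := (hu.mul_right_eq_zero).1 h0
      have h3 := congrArg (eps0 J hJ) hz
      rw [eps0_mk, map_zero] at h3
      have h4 : Bialgebra.counitAlgHom R A (HopfAlgebra.antipodeAlgHom R A e) = 1 := by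
        rw [← hε]
        exact HopfAlgebra.counit_antipode (R := R) e
      rw [h4] at h3
      exact one_ne_zero h3
  have hmem : 1 - HopfAlgebra.antipodeAlgHom R A e ∈ J := by
    rw [← Ideal.Quotient.eq_zero_iff_mem]
    have : Ideal.Quotient.mk J (1 - HopfAlgebra.antipodeAlgHom R A e)
        = 1 - Ideal.Quotient.mkₐ R J (HopfAlgebra.antipodeAlgHom R A e) := by
      rw [map_sub, map_one]; rfl
    rw [this, hf1, sub_self]
  rw [mem_eq_mul J e h2 x hx, map_mul, map_sub, map_one]
  exact J.mul_mem_left _ hmem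

include hJ in
theorem res_surj [IsLocalRing R] [IsLocalRing (A ⧸ J)] :
    Function.Surjective (⇑(IsLocalRing.residue (A ⧸ J)) ∘ ⇑(algebraMap R (A ⧸ J))) := by
  intro y
  obtain ⟨b, rfl⟩ := IsLocalRing.residue_surjective y
  refine ⟨eps0 J hJ b, ?_⟩
  show IsLocalRing.residue _ (algebraMap R _ (eps0 J hJ b)) = IsLocalRing.residue _ b
  rw [← sub_eq_zero, ← map_sub, IsLocalRing.residue_eq_zero_iff, IsLocalRing.mem_maximalIdeal,
    mem_nonunits_iff]
  intro hxu
  have := hxu.map (eps0 J hJ)
  rw [map_sub, AlgHom.commutes, Algebra.algebraMap_self_apply, sub_self] at this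
  exact not_isUnit_zero this

theorem flat_quot [Module.Flat R A] (h1 : 1 - e ∈ J) (h2 : ∀ x ∈ J, e * x = 0) :
    Module.Flat R (A ⧸ J) := by
  let i : A ⧸ J →ₗ[R] A :=
    (J.liftQ (LinearMap.mulLeft A e) (fun x hx => LinearMap.mem_ker.2 (h2 x hx))).restrictScalars R
  refine Module.Flat.of_retract i (Ideal.Quotient.mkₐ R J).toLinearMap ?_
  apply LinearMap.ext
  intro b
  obtain ⟨a, rfl⟩ := Ideal.Quotient.mk_surjective b
  show Ideal.Quotient.mk J (e * a) = Ideal.Quotient.mk J a
  rw [← sub_eq_zero, ← map_sub, Ideal.Quotient.eq_zero_iff_mem]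
  have : e * a - a = -(a * (1 - e)) := by ring
  rw [this]; exact J.neg_mem (J.mul_mem_left _ h1)

end hopf

/-- Let R be a henselian local ring and G = Spec A a finite flat group scheme over R (A a commutative
Hopf algebra over R, finite and flat as an R-module; G need not be commutative). Let e be an
idempotent of A on which the counit takes the value 1 and such that A/(1 - e) is a local ring, so
that Spec A/(1 - e) is the connected component G⁰ of G containing the unit section. Then the ideal
(1 - e) is a Hopf ideal (G⁰ is a closed subgroup scheme of G), A/(1 - e) is a henselian local ring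
with the same residue field as R (the composite R → A/(1 - e) → residue field is surjective), and
A/(1 - e) is flat over R. (The published statement also asserts that G⁰ is normal in G; this row
does not state normality.) -/
theorem result (R : Type u) [CommRing R] [HenselianLocalRing R]
    (A : Type v) [CommRing A] [HopfAlgebra R A] [Module.Finite R A] [Module.Flat R A]
    (e : A) (he : IsIdempotentElem e) (hε : Bialgebra.counitAlgHom R A e = 1)
    [IsLocalRing (A ⧸ Ideal.span ({1 - e} : Set A))] :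
    (Ideal.span ({1 - e} : Set A)).IsHopfIdeal R ∧ HenselianLocalRing (A ⧸ Ideal.span ({1 - e} : Set A)) ∧
      Function.Surjective (⇑(IsLocalRing.residue (A ⧸ Ideal.span ({1 - e} : Set A))) ∘ ⇑(algebraMap R (A ⧸ Ideal.span ({1 - e} : Set A)))) ∧
      Module.Flat R (A ⧸ Ideal.span ({1 - e} : Set A)) := by
  have h1 : 1 - e ∈ Ideal.span ({1 - e} : Set A) := Ideal.subset_span rfl
  have h2 : ∀ x ∈ Ideal.span ({1 - e} : Set A), e * x = 0 := by
    intro x hx
    obtain ⟨c, rfl⟩ := Ideal.mem_span_singleton'.1 hx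
    have := he.eq
    linear_combination (-c) * this
  have hJ := counit_zero _ e hε h2
  haveI : Module.Finite R (A ⧸ Ideal.span ({1 - e} : Set A)) :=
    Module.Finite.of_surjective (Ideal.Quotient.mkₐ R _).toLinearMap
      (Ideal.Quotient.mkₐ_surjective R _)
  exact ⟨hopfIdeal _ e he hε h2, henselian_of_finite_univ R _, res_surj _ hJ, flat_quot _ e h1 h2⟩

end Groth.Agent.S13404
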