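import Groth.Statements.S15578
import Mathlib
import Groth.Agent.S13404

set_option autoImplicit false
universe u v
open RInv

namespace Groth.Agent.S15578


theorem henselian_of_integral (S : Type u) [CommRing S] [HenselianLocalRing S]
    (T : Type v) [CommRing T] [IsLocalRing T] [Algebra S T] [Algebra.IsIntegral S T] :
    HenselianLocalRing T := by
  classical
  refine ⟨fun f hf a₀ h₁ h₂ => ?_⟩
  have hsfin : ((↑(f.coeffs) : Set T) ∪ {a₀}).Finite :=
    (Finset.finite_toSet _).union (Set.finite_singleton _)
  let T' : Subalgebra S T := Algebra.adjoin S ((↑(f.coeffs) : Set T) ∪ {a₀})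
  haveI : Module.Finite S T' :=
    Module.Finite.iff_fg.2 (fg_adjoin_of_finite hsfin fun x _ => Algebra.IsIntegral.isIntegral x)
  haveI : Algebra.IsIntegral T' T := Algebra.IsIntegral.tower_top (R := S)
  have hmaxc : ((IsLocalRing.maximalIdeal T).comap (algebraMap T' T)).IsMaximal :=
    Ideal.isMaximal_comap_of_isIntegral_of_isMaximal (R := T') _
  haveI : IsLocalRing T' := by
    refine IsLocalRing.of_unique_max_ideal ⟨_, hmaxc, fun M hM => ?_⟩
    haveI := hM
    obtain ⟨Q, hQ, hQM⟩ := Ideal.exists_ideal_over_maximal_of_isIntegral (S := T) M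
      (by rw [(RingHom.injective_iff_ker_eq_bot _).1
            (show Function.Injective (algebraMap T' T) from Subtype.val_injective)]
          exact bot_le)
    rw [← hQM, IsLocalRing.eq_maximalIdeal hQ]
  have hmT' : IsLocalRing.maximalIdeal T' =
      (IsLocalRing.maximalIdeal T).comap (algebraMap T' T) :=
    (IsLocalRing.eq_maximalIdeal hmaxc).symm
  haveI : HenselianLocalRing T' := Groth.Agent.S13404.henselian_of_finite_univ S T'
  have hlift : f ∈ Polynomial.lifts (algebraMap T' T) := by
    rw [Polynomial.lifts_iff_coeff_lifts]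
    intro k
    by_cases hk : f.coeff k = 0
    · exact ⟨0, by rw [map_zero, hk]⟩
    · exact ⟨⟨f.coeff k, Algebra.subset_adjoin
        (Or.inl (Finset.mem_coe.2 (Polynomial.coeff_mem_coeffs hk)))⟩, rfl⟩
  obtain ⟨g, hg, -, hgm⟩ := Polynomial.lifts_and_degree_eq_and_monic hlift hf
  let b₀ : T' := ⟨a₀, Algebra.subset_adjoin (Or.inr rfl)⟩
  have hev : ∀ (p : Polynomial T') (x : T'),
      (p.map (algebraMap T' T)).eval (algebraMap T' T x) = algebraMap T' T (p.eval x) :=
    fun p x => Polynomial.eval_map_apply (f := algebraMap T' T) x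
  have hb₀ : algebraMap T' T b₀ = a₀ := rfl
  obtain ⟨b, hb, hbb⟩ := HenselianLocalRing.is_henselian g hgm b₀
    (by rw [hmT', Ideal.mem_comap, ← hev, hg, hb₀]; exact h₁)
    (by
      rw [← IsLocalRing.notMem_maximalIdeal, hmT', Ideal.mem_comap, ← hev,
        ← Polynomial.derivative_map, hg, hb₀, IsLocalRing.notMem_maximalIdeal]
      exact h₂)
  refine ⟨algebraMap T' T b, ?_, ?_⟩
  · have h3 := hev g b
    have hb' : g.eval b = 0 := hb
    rw [hg, hb', map_zero] at h3
    exact h3
  · have h4 : b - b₀ ∈ (IsLocalRing.maximalIdeal T).comap (algebraMap T' T) := hmT' ▸ hbb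
    rw [Ideal.mem_comap, map_sub, hb₀] at h4
    exact h4

theorem isSepClosed_residue_of_integral (S : Type u) [CommRing S] [IsLocalRing S]
    [IsSepClosed (IsLocalRing.ResidueField S)]
    (T : Type v) [CommRing T] [IsLocalRing T] [Algebra S T] [Algebra.IsIntegral S T] :
    IsSepClosed (IsLocalRing.ResidueField T) := by
  have hcomap : (IsLocalRing.maximalIdeal T).comap (algebraMap S T) = IsLocalRing.maximalIdeal S :=
    IsLocalRing.eq_maximalIdeal (Ideal.isMaximal_comap_of_isIntegral_of_isMaximal (R := S) _)
  haveI : IsLocalHom (algebraMap S T) := by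
    refine ⟨fun s hs => ?_⟩
    by_contra hns
    have : s ∈ IsLocalRing.maximalIdeal S := (IsLocalRing.mem_maximalIdeal s).2 hns
    rw [← hcomap, Ideal.mem_comap] at this
    exact (IsLocalRing.mem_maximalIdeal _).1 this hs
  haveI : Algebra.IsAlgebraic (IsLocalRing.ResidueField S) (IsLocalRing.ResidueField T) := by
    refine ⟨fun y => ?_⟩
    obtain ⟨x, rfl⟩ := IsLocalRing.residue_surjective y
    obtain ⟨p, hpm, hp⟩ := Algebra.IsIntegral.isIntegral (R := S) x
    refine IsIntegral.isAlgebraic ⟨p.map (IsLocalRing.residue S), hpm.map _, ?_⟩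
    rw [Polynomial.eval₂_map]
    have hcomp : (algebraMap (IsLocalRing.ResidueField S) (IsLocalRing.ResidueField T)).comp
        (IsLocalRing.residue S) = (IsLocalRing.residue T).comp (algebraMap S T) :=
      RingHom.ext fun s => rfl
    rw [hcomp, ← Polynomial.hom_eval₂, hp, map_zero]
  exact Algebra.IsAlgebraic.isSepClosed (F := IsLocalRing.ResidueField S)
    (E := IsLocalRing.ResidueField T)

theorem isLocalRing_quot {R : Type*} [CommRing R] (I P : Ideal R) (hP : P.IsMaximal) (hIP : I ≤ P)
    (huniq : ∀ M : Ideal R, M.IsMaximal → I ≤ M → M = P) : IsLocalRing (R ⧸ I) := by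
  haveI : Nontrivial (R ⧸ I) :=
    Ideal.Quotient.nontrivial_iff.2 (fun h => hP.ne_top (top_le_iff.1 (h ▸ hIP)))
  obtain ⟨M₀, hM₀⟩ := Ideal.exists_maximal (R ⧸ I)
  have key : ∀ M : Ideal (R ⧸ I), M.IsMaximal → M.comap (Ideal.Quotient.mk I) = P := by
    intro M hM
    haveI := hM
    have h1 : (M.comap (Ideal.Quotient.mk I)).IsMaximal :=
      Ideal.comap_isMaximal_of_surjective _ Ideal.Quotient.mk_surjective
    refine huniq _ h1 ?_
    intro x hx
    rw [Ideal.mem_comap, Ideal.Quotient.eq_zero_iff_mem.2 hx]
    exact M.zero_mem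
  refine IsLocalRing.of_unique_max_ideal ⟨M₀, hM₀, fun M hM => ?_⟩
  apply Ideal.comap_injective_of_surjective (Ideal.Quotient.mk I) Ideal.Quotient.mk_surjective
  rw [key M hM, key M₀ hM₀]

/-- Let `R` be a commutative ring with an involution `lam` whose fixed ring `S` is strictly henselian
(henselian local with separably closed residue field). Then `R` is isomorphic to a product of
finitely many strictly henselian local rings (existence of a ring isomorphism with such a product). -/
theorem result (S : Type u) (R : Type v) [CommRing S] [CommRing R]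
    [Algebra S R] (lam : R ≃+* R) (hlam : Function.Involutive lam) (hS : RInv.IsFixedRing S R lam)
    [HenselianLocalRing S] [IsSepClosed (IsLocalRing.ResidueField S)] :
    ∃ (ι : Type) (_ : Fintype ι) (T : ι → Type v) (_ : ∀ i, CommRing (T i))
      (_ : ∀ i, HenselianLocalRing (T i)),
      (∀ i, IsSepClosed (IsLocalRing.ResidueField (T i))) ∧ Nonempty (R ≃+* (∀ i, T i)) := by
  classical
  obtain ⟨hinj, hfix⟩ := hS
  have hfixed : ∀ r : R, lam r = r → ∃ s : S, algebraMap S R s = r := fun r hr => (hfix r).1 hr
  haveI hint : Algebra.IsIntegral S R := by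
    refine ⟨fun r => ?_⟩
    obtain ⟨tS, htS⟩ := hfixed (r + lam r) (by rw [map_add, hlam r, add_comm])
    obtain ⟨dS, hdS⟩ := hfixed (r * lam r) (by rw [map_mul, hlam r, mul_comm])
    refine ⟨Polynomial.X ^ 2 + (Polynomial.C (-tS) * Polynomial.X + Polynomial.C dS),
      Polynomial.monic_X_pow_add (lt_of_le_of_lt Polynomial.degree_linear_le (by norm_num)), ?_⟩
    simp only [Polynomial.eval₂_add, Polynomial.eval₂_pow, Polynomial.eval₂_X,
      Polynomial.eval₂_mul, Polynomial.eval₂_C, Polynomial.eval₂_neg, Polynomial.C_neg, map_neg, htS, hdS]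
    ring
  haveI : Nontrivial R := hinj.nontrivial
  obtain ⟨n, hn⟩ := Ideal.exists_maximal R
  haveI := hn
  have hn' : (n.comap lam).IsMaximal := Ideal.comap_isMaximal_of_surjective _ lam.surjective
  have hmS : ∀ M : Ideal R, M.IsMaximal →
      M.comap (algebraMap S R) = IsLocalRing.maximalIdeal S := by
    intro M hM
    haveI := hM
    exact IsLocalRing.eq_maximalIdeal
      (Ideal.isMaximal_comap_of_isIntegral_of_isMaximal (R := S) M)
  have hchar : ∀ M : Ideal R, M.IsMaximal → M = n ∨ M = n.comap lam := by
    intro M hM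
    by_contra hcon
    push_neg at hcon
    have h1 : ¬ M ≤ n := fun h => hcon.1 (hM.eq_of_le hn.ne_top h)
    have h2 : ¬ M ≤ n.comap lam := fun h => hcon.2 (hM.eq_of_le hn'.ne_top h)
    have h3 : ¬ ((M : Set R) ⊆ (n : Set R) ∪ ((n.comap lam : Ideal R) : Set R)) := by
      rw [Ideal.subset_union]; push_neg; exact ⟨h1, h2⟩
    obtain ⟨x, hxM, hx⟩ := Set.not_subset.1 h3
    rw [Set.mem_union, not_or] at hx
    obtain ⟨hx1, hx2⟩ := hx
    have hx2' : lam x ∉ n := fun h => hx2 (Ideal.mem_comap.2 h)
    obtain ⟨s, hs⟩ := hfixed (x * lam x) (by rw [map_mul, hlam x, mul_comm])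
    have hsM : s ∈ M.comap (algebraMap S R) := by
      rw [Ideal.mem_comap, hs]; exact M.mul_mem_right _ hxM
    rw [hmS M hM, ← hmS n hn, Ideal.mem_comap, hs] at hsM
    exact (hn.isPrime.mem_or_mem hsM).elim hx1 hx2'
  by_cases hnn : n.comap lam = n
  · haveI : IsLocalRing R := IsLocalRing.of_unique_max_ideal
      ⟨n, hn, fun M hM => (hchar M hM).elim id (fun h => h.trans hnn)⟩
    haveI := henselian_of_integral S R
    haveI := isSepClosed_residue_of_integral S R
    exact ⟨Unit, inferInstance, fun _ => R, fun _ => inferInstance, fun _ => inferInstance,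
      fun _ => inferInstance, ⟨(RingEquiv.piUnique (fun _ : Unit => R)).symm⟩⟩
  · have hcop : n ⊔ n.comap lam = ⊤ := hn.coprime_of_ne hn' (Ne.symm hnn)
    obtain ⟨a₁, ha₁, x, hx, hax⟩ := Submodule.mem_sup.1 ((Ideal.eq_top_iff_one _).1 hcop)
    have hlx : lam x ∈ n := hx
    have h1x : 1 - x ∈ n := by
      have : 1 - x = a₁ := by rw [← hax]; ring
      rw [this]; exact ha₁
    obtain ⟨tS, htS⟩ := hfixed (x + lam x) (by rw [map_add, hlam x, add_comm])
    obtain ⟨dS, hdS⟩ := hfixed (x * lam x) (by rw [map_mul, hlam x, mul_comm])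
    have hdm : dS ∈ IsLocalRing.maximalIdeal S := by
      rw [← hmS n hn, Ideal.mem_comap, hdS]; exact n.mul_mem_left _ hlx
    have htm : tS - 1 ∈ IsLocalRing.maximalIdeal S := by
      rw [← hmS n hn, Ideal.mem_comap, map_sub, map_one, htS]
      have : x + lam x - 1 = lam x - (1 - x) := by ring
      rw [this]; exact n.sub_mem hlx h1x
    have htu : IsUnit tS := by
      rw [← IsLocalRing.notMem_maximalIdeal]
      intro h
      have h1 : (1 : S) ∈ IsLocalRing.maximalIdeal S := by
        have : (1 : S) = tS - (tS - 1) := by ring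
        rw [this]; exact Ideal.sub_mem _ h htm
      exact (IsLocalRing.maximalIdeal.isMaximal S).ne_top ((Ideal.eq_top_iff_one _).2 h1)
    obtain ⟨a, haroot, ham⟩ := HenselianLocalRing.is_henselian
      (Polynomial.X ^ 2 + (Polynomial.C (-tS) * Polynomial.X + Polynomial.C dS))
      (Polynomial.monic_X_pow_add (lt_of_le_of_lt Polynomial.degree_linear_le (by norm_num)))
      (0 : S) (by simpa using hdm) (by simpa using htu)
    rw [sub_zero] at ham
    have haeq : a ^ 2 + (-tS * a + dS) = 0 := by simpa [Polynomial.IsRoot] using haroot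
    have huu : IsUnit (tS - 2 * a) := by
      rw [← IsLocalRing.notMem_maximalIdeal]
      intro h
      have : tS ∈ IsLocalRing.maximalIdeal S := by
        have e1 : tS = (tS - 2 * a) + 2 * a := by ring
        rw [e1]; exact Ideal.add_mem _ h (Ideal.mul_mem_left _ _ ham)
      exact (IsLocalRing.notMem_maximalIdeal.2 htu) this
    obtain ⟨ui, hui⟩ := (huu.map (algebraMap S R)).exists_right_inv
    have hυ : algebraMap S R (tS - 2 * a) = x + lam x - 2 * algebraMap S R a := by
      rw [map_sub, map_mul, htS, map_ofNat]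
    have hαeq : (algebraMap S R a) ^ 2 - (x + lam x) * algebraMap S R a + x * lam x = 0 := by
      have := congrArg (algebraMap S R) haeq
      rw [map_zero, map_add, map_add, map_pow, map_mul, map_neg, htS, hdS] at this
      linear_combination this
    have hαn : algebraMap S R a ∈ n := by
      have := ham; rw [← hmS n hn, Ideal.mem_comap] at this; exact this
    have hαn' : algebraMap S R a ∈ n.comap lam := by
      have := ham; rw [← hmS _ hn', Ideal.mem_comap] at this; exact this
    generalize algebraMap S R a = α at hυ hαeq hαn hαn'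
    generalize algebraMap S R (tS - 2 * a) = υ at hυ hui
    have h0 : (x - α) * (x - α - υ) = 0 := by
      rw [hυ]; linear_combination (-1 : R) * hαeq
    have he : ((x - α) * ui) * ((x - α) * ui) = (x - α) * ui := by
      linear_combination (ui ^ 2) * h0 + (ui * (x - α)) * hui
    have hen' : (x - α) * ui ∈ n.comap lam :=
      Ideal.mul_mem_right _ _ (Ideal.sub_mem _ hx hαn')
    have h1e : 1 - (x - α) * ui = ui * (lam x - α) := by
      linear_combination (-1 : R) * hui + ui * hυ
    have h1en : 1 - (x - α) * ui ∈ n := by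
      rw [h1e]; exact n.mul_mem_left _ (n.sub_mem hlx hαn)
    generalize (x - α) * ui = e at he hen' h1en
    let f : Bool → Ideal R := fun b => cond b (Ideal.span {e}) (Ideal.span {1 - e})
    have hf : Pairwise (Function.onFun IsCoprime f) := by
      have hc : IsCoprime (Ideal.span ({e} : Set R)) (Ideal.span ({1 - e} : Set R)) :=
        (Ideal.isCoprime_span_singleton_iff _ _).2 ⟨1, 1, by ring⟩
      intro b c hbc
      cases b <;> cases c
      · exact absurd rfl hbc
      · exact hc.symm
      · exact hc
      · exact absurd rfl hbc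
    have hbot : (⨅ b, f b) = ⊥ := by
      rw [eq_bot_iff]
      intro y hy
      rw [Ideal.mem_iInf] at hy
      obtain ⟨c, hc⟩ := Ideal.mem_span_singleton'.1 (hy true)
      obtain ⟨c', hc'⟩ := Ideal.mem_span_singleton'.1 (hy false)
      rw [Ideal.mem_bot]
      linear_combination (-(1 - e)) * hc + (-e) * hc' - (c + c') * he
    let φ : R ≃+* (∀ b, R ⧸ f b) :=
      ((RingEquiv.quotientBot R).symm.trans (Ideal.quotEquivOfEq hbot.symm)).trans
        (Ideal.quotientInfRingEquivPiQuotient f hf)
    have hloc : ∀ b, IsLocalRing (R ⧸ f b) := by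
      intro b
      cases b
      · refine isLocalRing_quot _ n hn ((Ideal.span_singleton_le_iff_mem _).2 h1en) ?_
        intro M hM hle
        rcases hchar M hM with h | h
        · exact h
        · exfalso
          have h1 : 1 - e ∈ M := hle (Ideal.subset_span rfl)
          have h2 : e ∈ M := h ▸ hen'
          exact hM.ne_top ((Ideal.eq_top_iff_one _).2
            (by have := M.add_mem h1 h2; simpa using this))
      · refine isLocalRing_quot _ (n.comap lam) hn'
          ((Ideal.span_singleton_le_iff_mem _).2 hen') ?_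
        intro M hM hle
        rcases hchar M hM with h | h
        · exfalso
          have h1 : e ∈ M := hle (Ideal.subset_span rfl)
          have h2 : 1 - e ∈ M := h ▸ h1en
          exact hM.ne_top ((Ideal.eq_top_iff_one _).2
            (by have := M.add_mem h2 h1; simpa using this))
        · exact h
    haveI hint' : ∀ b, Algebra.IsIntegral S (R ⧸ f b) := fun b => ⟨fun y => by
      obtain ⟨r, rfl⟩ := Ideal.Quotient.mk_surjective y
      exact (Algebra.IsIntegral.isIntegral (R := S) r).map (Ideal.Quotient.mkₐ S (f b))⟩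
    have hhens : ∀ b, HenselianLocalRing (R ⧸ f b) := fun b => by
      haveI := hloc b
      exact henselian_of_integral S (R ⧸ f b)
    refine ⟨Bool, inferInstance, fun b => R ⧸ f b, fun b => inferInstance, hhens, fun b => ?_,
      ⟨φ⟩⟩
    haveI := hloc b
    exact isSepClosed_residue_of_integral S (R ⧸ f b)

end Groth.Agent.S15578
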