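import Groth.Statements.S13417
import Mathlib
import Groth.Agent.S15578
import Groth.Agent.S0499
import Groth.Agent.H47.NormalColimit
import Groth.Agent.H54.IntegralDim

set_option autoImplicit false
universe u
open scoped TensorProduct
open HLoc2

namespace Groth.Agent.S13417


theorem isLocalRing_of_finite_domain (R : Type u) [CommRing R] [HenselianLocalRing R]
    (S : Type u) [CommRing S] [IsDomain S] [Algebra R S] [Module.Finite R S] : IsLocalRing S := by
  classical
  obtain ⟨ι, _, A, _, hA, ⟨φ⟩⟩ := Groth.Agent.S0499.result R S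
  have hne : Nonempty ι := by
    by_contra hι
    rw [not_nonempty_iff] at hι
    have h1 : φ (1 : S) = φ 0 := Subsingleton.elim _ _
    exact one_ne_zero (φ.injective h1)
  have hsub : Subsingleton ι := by
    constructor
    intro i j
    by_contra hij
    have hz : (Pi.single i (1 : A i) : ∀ k, A k) * Pi.single j 1 = 0 := by
      funext k
      rw [Pi.mul_apply, Pi.zero_apply]
      by_cases hk : k = i
      · subst hk; rw [Pi.single_eq_of_ne hij, mul_zero]
      · rw [Pi.single_eq_of_ne hk, zero_mul]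
    have h1 : φ.symm (Pi.single i 1) * φ.symm (Pi.single j 1) = 0 := by
      rw [← map_mul, hz, map_zero]
    haveI := hA i
    haveI := hA j
    rcases mul_eq_zero.mp h1 with h2 | h2
    · have h3 : (Pi.single i (1 : A i) : ∀ k, A k) = 0 := by
        have := congrArg φ h2
        rwa [RingEquiv.apply_symm_apply, map_zero] at this
      have h4 := congrFun h3 i
      rw [Pi.single_eq_same, Pi.zero_apply] at h4
      exact one_ne_zero h4
    · have h3 : (Pi.single j (1 : A j) : ∀ k, A k) = 0 := by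
        have := congrArg φ h2
        rwa [RingEquiv.apply_symm_apply, map_zero] at this
      have h4 := congrFun h3 j
      rw [Pi.single_eq_same, Pi.zero_apply] at h4
      exact one_ne_zero h4
  haveI : Inhabited ι := ⟨hne.some⟩
  haveI : Unique ι := Unique.mk' ι
  haveI := hA default
  exact RingEquiv.isLocalRing (φ.trans (RingEquiv.piUnique A)).symm

/-- A domain integral over a henselian local ring is local. -/
theorem isLocalRing_of_integral_domain (S : Type u) [CommRing S] [HenselianLocalRing S]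
    (T : Type u) [CommRing T] [IsDomain T] [Algebra S T] [Algebra.IsIntegral S T] :
    IsLocalRing T := by
  refine IsLocalRing.of_isUnit_or_isUnit_one_sub_self (fun x => ?_)
  let T' : Subalgebra S T := Algebra.adjoin S ({x} : Set T)
  haveI : Module.Finite S T' :=
    Module.Finite.iff_fg.2 (fg_adjoin_of_finite (Set.finite_singleton x)
      fun y _ => Algebra.IsIntegral.isIntegral y)
  haveI : IsLocalRing T' := isLocalRing_of_finite_domain S T'
  have hx : x ∈ T' := Algebra.self_mem_adjoin_singleton S x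
  rcases IsLocalRing.isUnit_or_isUnit_one_sub_self (⟨x, hx⟩ : T') with h | h
  · left
    exact h.map T'.val
  · right
    have h2 := h.map T'.val
    rw [map_sub, map_one] at h2
    exact h2

section tensor

variable (k : Type u) [Field k] (R₀ : Type u) [CommRing R₀] [Algebra k R₀]
  (K : Type u) [Field K] [Algebra k K]

theorem algebraMap_injective_tensor :
    Function.Injective (algebraMap R₀ (R₀ ⊗[k] K)) := by
  have h := Algebra.TensorProduct.includeLeft_injective (R := k) (S := k) (A := R₀) (B := K)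
    (algebraMap k K).injective
  have h1 : ∀ c : R₀, algebraMap R₀ (R₀ ⊗[k] K) c = c ⊗ₜ[k] (1 : K) := fun c => by
    rw [Algebra.TensorProduct.algebraMap_apply]; rfl
  intro a b hab
  apply h
  show a ⊗ₜ[k] (1 : K) = b ⊗ₜ[k] (1 : K)
  rw [← h1, ← h1, hab]

/-- The map `R₀ ⊗ E → R₀ ⊗ K`. -/
noncomputable def iota (E : IntermediateField k K) : R₀ ⊗[k] E →+* R₀ ⊗[k] K :=
  (Algebra.TensorProduct.map (AlgHom.id k R₀) E.val).toRingHom

theorem iota_tmul (E : IntermediateField k K) (r : R₀) (z : E) :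
    iota k R₀ K E (r ⊗ₜ[k] z) = r ⊗ₜ[k] (z : K) := rfl

theorem iota_injective (E : IntermediateField k K) : Function.Injective (iota k R₀ K E) := by
  have h1 : Function.Injective (E.val.toLinearMap.lTensor R₀) :=
    Module.Flat.lTensor_preserves_injective_linearMap (M := R₀) E.val.toLinearMap
      (fun x y h => Subtype.ext h)
  have h2 : ∀ a, iota k R₀ K E a = E.val.toLinearMap.lTensor R₀ a := by
    intro a
    induction a using TensorProduct.induction_on with
    | zero => rw [map_zero, map_zero]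
    | tmul r z => rw [iota_tmul, LinearMap.lTensor_tmul]; rfl
    | add x y hx hy => rw [map_add, map_add, hx, hy]
  intro a b hab
  apply h1
  rw [← h2, ← h2, hab]

theorem range_mono {E E' : IntermediateField k K} (h : E ≤ E') (a : R₀ ⊗[k] E) :
    ∃ b : R₀ ⊗[k] E', iota k R₀ K E' b = iota k R₀ K E a := by
  induction a using TensorProduct.induction_on with
  | zero => exact ⟨0, by rw [map_zero, map_zero]⟩
  | tmul r z => exact ⟨r ⊗ₜ[k] (⟨z.1, h z.2⟩ : E'), by rw [iota_tmul, iota_tmul]⟩
  | add x y hx hy =>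
    obtain ⟨bx, hbx⟩ := hx
    obtain ⟨b_y, hby⟩ := hy
    exact ⟨bx + b_y, by rw [map_add, map_add, hbx, hby]⟩

theorem exists_rep [Algebra.IsIntegral k K] (x : R₀ ⊗[k] K) :
    ∃ E : IntermediateField k K, FiniteDimensional k E ∧ ∃ a, iota k R₀ K E a = x := by
  induction x using TensorProduct.induction_on with
  | zero =>
    exact ⟨IntermediateField.adjoin k ({(0 : K)} : Set K),
      IntermediateField.adjoin.finiteDimensional isIntegral_zero, 0, map_zero _⟩
  | tmul r z =>
    refine ⟨IntermediateField.adjoin k ({z} : Set K),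
      IntermediateField.adjoin.finiteDimensional (Algebra.IsIntegral.isIntegral z),
      r ⊗ₜ[k] (⟨z, IntermediateField.mem_adjoin_simple_self k z⟩ :
        IntermediateField.adjoin k ({z} : Set K)), ?_⟩
    rw [iota_tmul]
  | add x y hx hy =>
    obtain ⟨E₁, hE₁, a₁, h₁⟩ := hx
    obtain ⟨E₂, hE₂, a₂, h₂⟩ := hy
    haveI := hE₁
    haveI := hE₂
    obtain ⟨b₁, hb₁⟩ := range_mono k R₀ K (le_sup_left : E₁ ≤ E₁ ⊔ E₂) a₁
    obtain ⟨b₂, hb₂⟩ := range_mono k R₀ K (le_sup_right : E₂ ≤ E₁ ⊔ E₂) a₂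
    exact ⟨E₁ ⊔ E₂, IntermediateField.finiteDimensional_sup E₁ E₂, b₁ + b₂,
      by rw [map_add, hb₁, hb₂, h₁, h₂]⟩

theorem exists_rep_finset [Algebra.IsIntegral k K] (s : Finset (R₀ ⊗[k] K)) :
    ∃ E : IntermediateField k K, FiniteDimensional k E ∧
      ∀ x ∈ s, ∃ a, iota k R₀ K E a = x := by
  classical
  refine Finset.induction_on s ?_ ?_
  · obtain ⟨E, hE, -⟩ := exists_rep k R₀ K 0
    exact ⟨E, hE, fun x hx => by simp at hx⟩
  · intro x s _ ih
    obtain ⟨E₁, hE₁, h₁⟩ := ih
    obtain ⟨E₂, hE₂, a₂, h₂⟩ := exists_rep k R₀ K x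
    haveI := hE₁
    haveI := hE₂
    refine ⟨E₁ ⊔ E₂, IntermediateField.finiteDimensional_sup E₁ E₂, fun y hy => ?_⟩
    rcases Finset.mem_insert.mp hy with h | h
    · obtain ⟨b, hb⟩ := range_mono k R₀ K (le_sup_right : E₂ ≤ E₁ ⊔ E₂) a₂
      exact ⟨b, by rw [hb, h₂, h]⟩
    · obtain ⟨a₁, ha₁⟩ := h₁ y h
      obtain ⟨b, hb⟩ := range_mono k R₀ K (le_sup_left : E₁ ≤ E₁ ⊔ E₂) a₁
      exact ⟨b, by rw [hb, ha₁]⟩

theorem etale_tensor [Algebra.IsSeparable k K] (E : IntermediateField k K)
    [FiniteDimensional k E] : Algebra.Etale R₀ (R₀ ⊗[k] E) := by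
  haveI : Algebra.IsSeparable k E := Algebra.isSeparable_tower_bot_of_isSeparable k E K
  haveI : Algebra.FormallyEtale k E := Algebra.FormallyEtale.of_isSeparable k E
  haveI : Algebra.FinitePresentation k E :=
    Algebra.FinitePresentation.of_finiteType.mp inferInstance
  haveI : Algebra.Etale k E := {}
  infer_instance

theorem normal_tensor [IsDomain R₀] [IsIntegrallyClosed R₀] [Algebra.IsSeparable k K]
    [Algebra.IsIntegral k K] [IsLocalRing (R₀ ⊗[k] K)] :
    IsIntegrallyClosed (R₀ ⊗[k] K) := by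
  let J := {E : IntermediateField k K // FiniteDimensional k E}
  haveI : ∀ j : J, FiniteDimensional k j.1 := fun j => j.2
  haveI : ∀ j : J, Algebra.Etale R₀ (R₀ ⊗[k] j.1) := fun j => etale_tensor k R₀ K j.1
  let q : ∀ j : J, Ideal (R₀ ⊗[k] j.1) := fun j =>
    (IsLocalRing.maximalIdeal (R₀ ⊗[k] K)).comap (iota k R₀ K j.1)
  haveI : ∀ j, (q j).IsPrime := fun j => Ideal.comap_isPrime _ _
  refine (Groth.Agent.H47.EtaleNormal.isDomain_isIntegrallyClosed_of_filtered
    (R := R₀) (H := R₀ ⊗[k] K) (J := J) (fun j => R₀ ⊗[k] j.1) q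
    (fun j => iota k R₀ K j.1) ?_ ?_ ?_).2
  · intro s
    obtain ⟨E, hE, h⟩ := exists_rep_finset k R₀ K s
    exact ⟨⟨E, hE⟩, h⟩
  · intro j a ha
    refine ⟨j, AlgHom.id R₀ _, fun x => rfl, ?_⟩
    have h0 : a = 0 := iota_injective k R₀ K j.1 (by rw [ha, map_zero])
    rw [h0, map_zero]
  · intro j a ha
    have h2 : iota k R₀ K j.1 a ∉ IsLocalRing.maximalIdeal (R₀ ⊗[k] K) := fun h => ha h
    exact IsLocalRing.notMem_maximalIdeal.mp h2

theorem residue_surj [IsLocalRing R₀] [Algebra.IsIntegral R₀ (R₀ ⊗[k] K)]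
    [IsLocalRing (R₀ ⊗[k] K)]
    (hres : Function.Surjective (fun a : k => IsLocalRing.residue R₀ (algebraMap k R₀ a))) :
    Function.Surjective (fun a : K => IsLocalRing.residue (R₀ ⊗[k] K)
      ((Algebra.TensorProduct.includeRight : K →ₐ[k] R₀ ⊗[k] K) a)) := by
  have hmax : (IsLocalRing.maximalIdeal (R₀ ⊗[k] K)).comap (algebraMap R₀ (R₀ ⊗[k] K)) =
      IsLocalRing.maximalIdeal R₀ :=
    IsLocalRing.eq_maximalIdeal (Ideal.isMaximal_comap_of_isIntegral_of_isMaximal (R := R₀) _)
  have hmem : ∀ m ∈ IsLocalRing.maximalIdeal R₀,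
      (m ⊗ₜ[k] (1 : K)) ∈ IsLocalRing.maximalIdeal (R₀ ⊗[k] K) := by
    intro m hm
    rw [← hmax] at hm
    have h1 : algebraMap R₀ (R₀ ⊗[k] K) m ∈ IsLocalRing.maximalIdeal (R₀ ⊗[k] K) := hm
    rw [Algebra.TensorProduct.algebraMap_apply] at h1
    exact h1
  have key : ∀ x : R₀ ⊗[k] K, ∃ a : K,
      IsLocalRing.residue (R₀ ⊗[k] K) ((1 : R₀) ⊗ₜ[k] a) =
        IsLocalRing.residue (R₀ ⊗[k] K) x := by
    intro x
    induction x using TensorProduct.induction_on with
    | zero => exact ⟨0, by rw [TensorProduct.tmul_zero]⟩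
    | tmul r z =>
      obtain ⟨c, hc⟩ := hres (IsLocalRing.residue R₀ r)
      have hm : r - algebraMap k R₀ c ∈ IsLocalRing.maximalIdeal R₀ := by
        have h1 : IsLocalRing.residue R₀ (algebraMap k R₀ c) = IsLocalRing.residue R₀ r := hc
        have h2 := (Ideal.Quotient.eq (I := IsLocalRing.maximalIdeal R₀)).mp h1
        have h3 := (IsLocalRing.maximalIdeal R₀).neg_mem h2
        rwa [neg_sub] at h3
      refine ⟨c • z, ?_⟩
      symm
      apply (Ideal.Quotient.eq (I := IsLocalRing.maximalIdeal (R₀ ⊗[k] K))).mpr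
      have h4 : r ⊗ₜ[k] z - (1 : R₀) ⊗ₜ[k] (c • z) =
          ((r - algebraMap k R₀ c) ⊗ₜ[k] (1 : K)) * ((1 : R₀) ⊗ₜ[k] z) := by
        rw [Algebra.TensorProduct.tmul_mul_tmul, mul_one, one_mul, TensorProduct.sub_tmul,
          Algebra.algebraMap_eq_smul_one, TensorProduct.smul_tmul]
      rw [h4]
      exact Ideal.mul_mem_right _ _ (hmem _ hm)
    | add x y hx hy =>
      obtain ⟨a, ha⟩ := hx
      obtain ⟨b, hb⟩ := hy
      exact ⟨a + b, by rw [TensorProduct.tmul_add, map_add, map_add, ha, hb]⟩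
  intro y
  obtain ⟨x, rfl⟩ := IsLocalRing.residue_surjective y
  obtain ⟨a, ha⟩ := key x
  exact ⟨a, ha⟩

end tensor

theorem main_general (k : Type u) [Field k] (R₀ : Type u) [CommRing R₀] [IsDomain R₀]
    [HenselianLocalRing R₀] [Algebra k R₀] [IsIntegrallyClosed R₀]
    (K : Type u) [Field K] [Algebra k K] [Algebra.IsSeparable k K] [Algebra.IsIntegral k K]
    (hdim : ringKrullDim R₀ = 2)
    (hres : Function.Surjective (fun a : k => IsLocalRing.residue R₀ (algebraMap k R₀ a)))
    [IsDomain (R₀ ⊗[k] K)] :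
    ∃ _ : HenselianLocalRing (R₀ ⊗[k] K),
      IsIntegrallyClosed (R₀ ⊗[k] K) ∧
      ringKrullDim (R₀ ⊗[k] K) = 2 ∧
      Function.Surjective (fun a : K =>
        IsLocalRing.residue (R₀ ⊗[k] K)
          ((Algebra.TensorProduct.includeRight : K →ₐ[k] R₀ ⊗[k] K) a)) := by
  haveI hint : Algebra.IsIntegral R₀ (R₀ ⊗[k] K) := inferInstance
  have hinj : Function.Injective (algebraMap R₀ (R₀ ⊗[k] K)) :=
    algebraMap_injective_tensor k R₀ K
  haveI hloc : IsLocalRing (R₀ ⊗[k] K) :=
    isLocalRing_of_integral_domain R₀ (R₀ ⊗[k] K)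
  have hH : HenselianLocalRing (R₀ ⊗[k] K) :=
    Groth.Agent.S15578.henselian_of_integral R₀ (R₀ ⊗[k] K)
  refine ⟨hH, normal_tensor k R₀ K,
    (Groth.Agent.H54.ringKrullDim_eq_of_isIntegral_of_injective hinj).trans hdim, ?_⟩
  exact residue_surj k R₀ K hres

/-- Let `k` be a field with separable closure `kˢ` and `R₀` a commutative local `k`-algebra which is
excellent, henselian, integrally closed, of Krull dimension two, with residue field `k`, and
geometrically integral (`R₀ ⊗_k kˢ` is a domain). Then `R₀ ⊗_k kˢ` is a henselian local ring which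
is integrally closed, of Krull dimension two, and whose residue field is `kˢ` (the composite `kˢ →
R₀ ⊗_k kˢ →` residue field is surjective). (The published statement also asserts that `R₀ ⊗_k kˢ` is
excellent; that assertion is not restated here.) -/
theorem result
    (k : Type u) [Field k] (R₀ : Type u) [CommRing R₀] [IsDomain R₀] [HenselianLocalRing R₀] [Algebra k R₀]
    [IsIntegrallyClosed R₀] (hexc : EGA4.IsExcellent R₀) (hdim : ringKrullDim R₀ = 2)
    (hres : Function.Surjective (fun a : k => IsLocalRing.residue R₀ (algebraMap k R₀ a)))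
    [IsDomain (R₀ ⊗[k] SeparableClosure k)] :
    ∃ _ : HenselianLocalRing (R₀ ⊗[k] SeparableClosure k),
      IsIntegrallyClosed (R₀ ⊗[k] SeparableClosure k) ∧
      ringKrullDim (R₀ ⊗[k] SeparableClosure k) = 2 ∧
      Function.Surjective (fun a : SeparableClosure k =>
        IsLocalRing.residue (R₀ ⊗[k] SeparableClosure k)
          ((Algebra.TensorProduct.includeRight : SeparableClosure k →ₐ[k] R₀ ⊗[k] SeparableClosure k) a)) := by
  haveI hKint : Algebra.IsIntegral k (SeparableClosure k) :=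
    ⟨fun x => (Algebra.IsSeparable.isSeparable k x).isIntegral⟩
  exact main_general k R₀ (SeparableClosure k) hdim hres

end Groth.Agent.S13417
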