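-- Statement S2004: glueing pair iff torsion bijective.
import Groth.Statements.S2004
import Groth.Agent.H10.Glue

set_option autoImplicit false
universe u
open TensorProduct
open EtAlg

namespace Groth.Agent.S2004

/-- Let R -> R' induce bijections R/f^n R -> R'/f^n R' for all n > 0. Then (R -> R', f) is a glueing
pair if and only if R -> R' maps the f-power torsion of R bijectively onto the f-power torsion of R'
(stated as: injective on f-power torsion elements, and every f-power torsion element of R' is the
image of one of R). -/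
theorem result (R R' : Type u) [CommRing R] [CommRing R'] [Algebra R R'] (f : R)
    (hq : EtGlue.QuotPowBijective R R' f) :
    EtGlue.IsGlueingPair R R' f ↔
      ((∀ x : R, (∃ n : ℕ, f ^ n * x = 0) → algebraMap R R' x = 0 → x = 0) ∧
       (∀ x' : R', (∃ n : ℕ, algebraMap R R' f ^ n * x' = 0) →
          ∃ x : R, (∃ n : ℕ, f ^ n * x = 0) ∧ algebraMap R R' x = x')) := by
  have hloc0 : ∀ x : R, algebraMap R (Localization.Away f) x = 0 ↔ ∃ n : ℕ, f ^ n * x = 0 := by
    intro x
    rw [IsLocalization.map_eq_zero_iff (Submonoid.powers f)]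
    constructor
    · rintro ⟨m, hm⟩
      obtain ⟨n, hn⟩ := (Submonoid.mem_powers_iff _ _).mp m.2
      exact ⟨n, by rw [hn]; exact hm⟩
    · rintro ⟨n, hn⟩
      exact ⟨⟨f ^ n, n, rfl⟩, hn⟩
  constructor
  · intro h
    refine ⟨fun x hx h0 => ?_, fun x' hx' => ?_⟩
    · apply h.2.1
      simp only [Prod.mk.injEq, h0, map_zero, true_and]
      exact (hloc0 x).mpr hx
    · obtain ⟨n, hn⟩ := hx'
      obtain ⟨x, hx, hxx'⟩ := Groth.Agent.H10.Glue.exists_torsion_lift h n x' hn
      exact ⟨x, ⟨n, hx⟩, hxx'⟩
  · rintro ⟨h1, h2⟩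
    set g := algebraMap R R' with hg
    have hθ : ∀ r : R, Localization.awayMap g f (algebraMap R (Localization.Away f) r) =
        algebraMap R' (Localization.Away (g f)) (g r) := fun r => IsLocalization.map_eq _ r
    refine ⟨hq, fun a b hab => ?_, fun x y hxy => ?_, fun z => ?_⟩
    · simp only [Prod.mk.injEq] at hab
      have : a - b = 0 := h1 (a - b) ((hloc0 _).mp (by rw [map_sub, hab.2, sub_self]))
        (by rw [map_sub, hab.1, sub_self])
      exact sub_eq_zero.mp this
    · obtain ⟨k, r, hr⟩ := IsLocalization.Away.surj f y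
      have h3 : algebraMap R' (Localization.Away (g f)) (x * g f ^ k) =
          algebraMap R' (Localization.Away (g f)) (g r) := by
        rw [map_mul, hxy, ← hθ, ← hr, map_mul, map_pow, map_pow, hθ]
      obtain ⟨j, hj⟩ := IsLocalization.Away.exists_of_eq (g f) h3
      have h4 : g (f ^ j * r) = g f ^ (j + k) * x := by
        rw [map_mul, map_pow, ← hj, pow_add]; ring
      obtain ⟨r₂, hr₂⟩ := Groth.Agent.H10.Glue.dvd_of_map_dvd hq (j + k) _ _ h4
      have hy : algebraMap R (Localization.Away f) r₂ = y := by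
        have hu : IsUnit (algebraMap R (Localization.Away f) f ^ (j + k)) :=
          (IsLocalization.Away.algebraMap_isUnit f).pow _
        apply hu.mul_right_cancel
        rw [← map_pow, ← map_mul, mul_comm r₂, ← hr₂, map_mul, map_pow, pow_add, ← hr, map_mul,
          map_pow, map_pow]
        ring
      have ht : g f ^ (j + k) * (x - g r₂) = 0 := by
        rw [mul_sub, ← h4, ← map_pow, ← map_mul, ← hr₂, sub_self]
      obtain ⟨r₃, hr₃, hr₃x⟩ := h2 _ ⟨_, ht⟩
      refine ⟨r₂ + r₃, by rw [map_add, hr₃x]; ring, ?_⟩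
      rw [map_add, (hloc0 r₃).mpr hr₃, add_zero, hy]
    · obtain ⟨k, x', hx'⟩ := IsLocalization.Away.surj (g f) z
      obtain ⟨r, s, hrs⟩ := Groth.Agent.H10.Glue.exists_add hq k x'
      obtain ⟨w, hw⟩ := ((IsLocalization.Away.algebraMap_isUnit (S := Localization.Away f) f).pow k)
      refine ⟨s, -(algebraMap R (Localization.Away f) r * ↑w⁻¹), ?_⟩
      have hu : IsUnit (algebraMap R' (Localization.Away (g f)) (g f) ^ k) :=
        (IsLocalization.Away.algebraMap_isUnit (g f)).pow _
      apply hu.mul_right_cancel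
      rw [hx', hrs, map_neg, sub_neg_eq_add, add_mul, map_mul, hθ, mul_assoc]
      have h5 : Localization.awayMap g f (↑w⁻¹) *
          algebraMap R' (Localization.Away (g f)) (g f) ^ k = 1 := by
        rw [← hθ, ← map_pow, ← map_mul, ← hw, Units.inv_mul, map_one]
      rw [h5, mul_one, map_add, map_mul, map_pow]
      ring

end Groth.Agent.S2004
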