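import Groth.Statements.S2023
import Groth.Agent.H10.LiftSmooth
import Groth.Agent.H10.SmoothRetract

set_option autoImplicit false
universe u
open Smoothing

namespace Groth.Agent.S2023

/-- Let `I` be an ideal of square zero in `R` and `Λ` an `R`-algebra with `Λ/IΛ` ind-smooth over `R/I`.
Any `R`-algebra map `A → Λ` with `A` finitely presented factors through a quotient `B/J`, where `B`
is a smooth `R`-algebra and `J` is a finitely generated ideal contained in `IB`. -/
theorem result {R Λ A : Type u} [CommRing R] [CommRing Λ] [Algebra R Λ] (I : Ideal R)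
    (hI : I ^ 2 = ⊥) (h : Smoothing.IndSmooth (R ⧸ I) (Λ ⧸ I.map (algebraMap R Λ)))
    [CommRing A] [Algebra R A] [Algebra.FinitePresentation R A] (φ : A →ₐ[R] Λ) :
    ∃ (B : Type u) (_ : CommRing B) (_ : Algebra R B), Algebra.Smooth R B ∧
      ∃ J : Ideal B, J ≤ I.map (algebraMap R B) ∧ J.FG ∧
        ∃ (g : A →ₐ[R] B ⧸ J) (k : (B ⧸ J) →ₐ[R] Λ), k.comp g = φ := by
  classical
  -- notation
  let IΛ : Ideal Λ := I.map (algebraMap R Λ)
  have hsq : IΛ ^ 2 = ⊥ := by
    show (I.map (algebraMap R Λ)) ^ 2 = ⊥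
    rw [← Ideal.map_pow, hI, Ideal.map_bot]
  -- step 1: reduce mod I and factor through a smooth algebra
  let φ₀ : TensorProduct R (R ⧸ I) A →ₐ[R ⧸ I] Λ ⧸ IΛ :=
    Algebra.TensorProduct.lift (Algebra.ofId (R ⧸ I) (Λ ⧸ IΛ))
      ((Ideal.Quotient.mkₐ R IΛ).comp φ) (fun _ _ => Commute.all _ _)
  obtain ⟨Bb, _, _, hBb, g₀, h₀, hgh⟩ := h (TensorProduct R (R ⧸ I) A) inferInstance φ₀
  -- step 2: replace by a standard smooth algebra
  obtain ⟨Bs, _, _, _, _, -, ⟨r⟩, hBs⟩ :=
    Groth.Agent.H10.SmoothRetract.exists_smooth_retract_isStandardSmooth (R := R ⧸ I) (A := Bb)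
  let _ : Algebra R Bb := ((algebraMap (R ⧸ I) Bb).comp (algebraMap R (R ⧸ I))).toAlgebra
  have : IsScalarTower R (R ⧸ I) Bb := .of_algebraMap_eq fun _ => rfl
  let _ : Algebra R Bs := ((algebraMap (R ⧸ I) Bs).comp (algebraMap R (R ⧸ I))).toAlgebra
  have : IsScalarTower R (R ⧸ I) Bs := .of_algebraMap_eq fun _ => rfl
  have : IsScalarTower R Bb Bs := .of_algebraMap_eq fun x =>
    IsScalarTower.algebraMap_apply (R ⧸ I) Bb Bs _
  let θ : A →ₐ[R] Bs := (IsScalarTower.toAlgHom R Bb Bs).comp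
    ((g₀.restrictScalars R).comp Algebra.TensorProduct.includeRight)
  let κ : Bs →ₐ[R] Λ ⧸ IΛ := (h₀.restrictScalars R).comp (r.restrictScalars R)
  have hκθ : ∀ a, κ (θ a) = Ideal.Quotient.mk IΛ (φ a) := by
    intro a
    show h₀ (r (algebraMap Bb Bs (g₀ (TensorProduct.tmul R (1 : R ⧸ I) a)))) = _
    rw [r.commutes]
    show (h₀.comp g₀) (TensorProduct.tmul R (1 : R ⧸ I) a) = _
    rw [hgh]
    show Algebra.TensorProduct.lift _ _ _ _ = _
    rw [Algebra.TensorProduct.lift_tmul, map_one, one_mul]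
    rfl
  -- step 3: lift the standard smooth algebra
  obtain ⟨B, _, _, hB, π, hπsurj, hπker⟩ :=
    Groth.Agent.H10.LiftSmooth.exists_lift_isStandardSmooth I Bs
  -- step 4: lift the map to Λ
  obtain ⟨ψ, hψ⟩ := Algebra.FormallySmooth.comp_surjective (R := R) (A := B) IΛ hsq (κ.comp π)
  have hψ' : ∀ b, Ideal.Quotient.mk IΛ (ψ b) = κ (π b) := fun b => AlgHom.congr_fun hψ b
  -- generators of A
  obtain ⟨m, f, hfsurj, hffg⟩ := (inferInstance : Algebra.FinitePresentation R A).out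
  choose b hb using fun i : Fin m => hπsurj (θ (f (MvPolynomial.X i)))
  have hd : ∀ i, ψ (b i) - φ (f (MvPolynomial.X i)) ∈ IΛ := by
    intro i
    rw [← Ideal.Quotient.eq, hψ', hb, hκθ]
  choose N fΛ gΛ hsum using fun i => Submodule.mem_span_set'.mp (hd i)
  let ε : (i : Fin m) → Fin (N i) → R := fun i t => (gΛ i t).2.choose
  have hεI : ∀ i t, ε i t ∈ I := fun i t => (gΛ i t).2.choose_spec.1
  have hεΛ : ∀ i t, algebraMap R Λ (ε i t) = (gΛ i t : Λ) := fun i t => (gΛ i t).2.choose_spec.2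
  -- the polynomial algebra
  let T := Σ i : Fin m, Fin (N i)
  let _ : Algebra B Λ := ψ.toRingHom.toAlgebra
  have : IsScalarTower R B Λ := .of_algebraMap_eq fun r => (ψ.commutes r).symm
  let ψ₂ : MvPolynomial T B →ₐ[R] Λ :=
    (MvPolynomial.aeval (fun x : T => fΛ x.1 x.2) : MvPolynomial T B →ₐ[B] Λ).restrictScalars R
  have hψ₂C : ∀ x : B, ψ₂ (MvPolynomial.C x) = ψ x := fun x => MvPolynomial.aeval_C _ x
  have hψ₂X : ∀ x : T, ψ₂ (MvPolynomial.X x) = fΛ x.1 x.2 := fun x => MvPolynomial.aeval_X _ x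
  let b' : Fin m → MvPolynomial T B := fun i =>
    MvPolynomial.C (b i) - ∑ t, MvPolynomial.C (algebraMap R B (ε i t)) * MvPolynomial.X ⟨i, t⟩
  have hψ₂b' : ∀ i, ψ₂ (b' i) = φ (f (MvPolynomial.X i)) := by
    intro i
    show ψ₂ (MvPolynomial.C (b i) - ∑ t, MvPolynomial.C (algebraMap R B (ε i t)) *
      MvPolynomial.X (⟨i, t⟩ : T)) = _
    rw [map_sub, map_sum, hψ₂C]
    have : ∀ t, ψ₂ (MvPolynomial.C (algebraMap R B (ε i t)) * MvPolynomial.X (⟨i, t⟩ : T)) =
        fΛ i t • (gΛ i t : Λ) := by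
      intro t
      rw [map_mul, hψ₂C, hψ₂X, AlgHom.commutes, hεΛ, smul_eq_mul, mul_comm]
    simp only [this]
    rw [hsum i]
    ring
  have hsmooth : Algebra.Smooth R (MvPolynomial T B) :=
    { formallySmooth := Algebra.FormallySmooth.comp R B _
      finitePresentation := inferInstance }
  let IB₂ : Ideal (MvPolynomial T B) := I.map (algebraMap R (MvPolynomial T B))
  let J : Ideal (MvPolynomial T B) :=
    (RingHom.ker f.toRingHom).map (MvPolynomial.aeval b' : MvPolynomial (Fin m) R →ₐ[R] _)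
  have hcomp1 : ψ₂.comp (MvPolynomial.aeval b') = φ.comp f := by
    apply MvPolynomial.algHom_ext
    intro i
    show ψ₂ (MvPolynomial.aeval b' (MvPolynomial.X i)) = φ (f (MvPolynomial.X i))
    rw [MvPolynomial.aeval_X, hψ₂b']
  have hcomp2 : π.comp (MvPolynomial.aeval b) = θ.comp f := by
    apply MvPolynomial.algHom_ext
    intro i
    show π (MvPolynomial.aeval b (MvPolynomial.X i)) = θ (f (MvPolynomial.X i))
    rw [MvPolynomial.aeval_X, hb]
  have hJψ : ∀ a ∈ J, ψ₂ a = 0 := by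
    have hle : J ≤ RingHom.ker ψ₂.toRingHom := by
      rw [Ideal.map_le_iff_le_comap]
      intro q hq
      show ψ₂ (MvPolynomial.aeval b' q) = 0
      have := AlgHom.congr_fun hcomp1 q
      rw [AlgHom.comp_apply] at this
      rw [this]
      show φ (f q) = 0
      have hq' : f q = 0 := hq
      rw [hq', map_zero]
    exact fun a ha => hle ha
  have hJI : J ≤ IB₂ := by
    rw [Ideal.map_le_iff_le_comap]
    intro q hq
    show MvPolynomial.aeval b' q ∈ IB₂
    have hq' : f q = 0 := hq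
    let Q : MvPolynomial T B →ₐ[R] MvPolynomial T B ⧸ IB₂ := Ideal.Quotient.mkₐ R IB₂
    have hQ1 : ∀ i, Q (b' i) = Q (MvPolynomial.C (b i)) := by
      intro i
      show Ideal.Quotient.mk IB₂ _ = Ideal.Quotient.mk IB₂ _
      rw [Ideal.Quotient.eq]
      show MvPolynomial.C (b i) - ∑ t, MvPolynomial.C (algebraMap R B (ε i t)) *
        MvPolynomial.X (⟨i, t⟩ : T) - MvPolynomial.C (b i) ∈ IB₂
      rw [sub_sub_cancel_left]
      refine neg_mem (Ideal.sum_mem _ (fun t _ => Ideal.mul_mem_right _ _ ?_))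
      have : (MvPolynomial.C (algebraMap R B (ε i t)) : MvPolynomial T B) =
          algebraMap R (MvPolynomial T B) (ε i t) := by
        rw [IsScalarTower.algebraMap_apply R B (MvPolynomial T B), MvPolynomial.algebraMap_eq]
      rw [this]
      exact Ideal.mem_map_of_mem _ (hεI i t)
    have hQ2 : Q.comp (MvPolynomial.aeval b') =
        (Q.comp (IsScalarTower.toAlgHom R B (MvPolynomial T B))).comp (MvPolynomial.aeval b) := by
      apply MvPolynomial.algHom_ext
      intro i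
      show Q (MvPolynomial.aeval b' (MvPolynomial.X i)) =
        Q (algebraMap B (MvPolynomial T B) (MvPolynomial.aeval b (MvPolynomial.X i)))
      rw [MvPolynomial.aeval_X, MvPolynomial.aeval_X, hQ1, MvPolynomial.algebraMap_eq]
    have h1 : MvPolynomial.aeval b q ∈ I.map (algebraMap R B) := by
      apply hπker
      rw [RingHom.mem_ker]
      have := AlgHom.congr_fun hcomp2 q
      rw [AlgHom.comp_apply, AlgHom.comp_apply, hq', map_zero] at this
      exact this
    have h2 : algebraMap B (MvPolynomial T B) (MvPolynomial.aeval b q) ∈ IB₂ := by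
      have := Ideal.mem_map_of_mem (algebraMap B (MvPolynomial T B)) h1
      rw [Ideal.map_map, ← IsScalarTower.algebraMap_eq] at this
      exact this
    have h3 := AlgHom.congr_fun hQ2 q
    rw [AlgHom.comp_apply, AlgHom.comp_apply, AlgHom.comp_apply] at h3
    have h4 : Q (MvPolynomial.aeval b' q) = 0 := by
      rw [h3]
      exact Ideal.Quotient.eq_zero_iff_mem.mpr h2
    exact Ideal.Quotient.eq_zero_iff_mem.mp h4
  refine ⟨MvPolynomial T B, inferInstance, inferInstance, hsmooth, J, hJI,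
    Ideal.FG.map hffg _, ?_⟩
  let e := Ideal.quotientKerAlgEquivOfSurjective hfsurj
  have hkill : ∀ a ∈ RingHom.ker f.toRingHom,
      ((Ideal.Quotient.mkₐ R J).comp (MvPolynomial.aeval b')) a = 0 := by
    intro a ha
    show Ideal.Quotient.mk J (MvPolynomial.aeval b' a) = 0
    exact Ideal.Quotient.eq_zero_iff_mem.mpr (Ideal.mem_map_of_mem _ ha)
  let g' : (MvPolynomial (Fin m) R ⧸ RingHom.ker f.toRingHom) →ₐ[R] MvPolynomial T B ⧸ J :=
    Ideal.Quotient.liftₐ _ ((Ideal.Quotient.mkₐ R J).comp (MvPolynomial.aeval b')) hkill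
  let k : (MvPolynomial T B ⧸ J) →ₐ[R] Λ := Ideal.Quotient.liftₐ J ψ₂ hJψ
  refine ⟨g'.comp e.symm.toAlgHom, k, ?_⟩
  apply AlgHom.ext
  intro a
  obtain ⟨q, rfl⟩ := hfsurj a
  have he : e.symm (f q) = Ideal.Quotient.mk _ q := by
    rw [AlgEquiv.symm_apply_eq]
    rfl
  show k (g' (e.symm (f q))) = φ (f q)
  rw [he]
  show k (Ideal.Quotient.mk J (MvPolynomial.aeval b' q)) = _
  show ψ₂ (MvPolynomial.aeval b' q) = _
  exact AlgHom.congr_fun hcomp1 q

end Groth.Agent.S2023
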