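import Groth.Statements.S2033
-- import your own Groth.Agent.* helpers here
import Groth.Agent.H44.LocTrick2

set_option autoImplicit false
universe u
open Smoothing

namespace Groth.Agent.S2033

open Groth.Agent.H44.LocTrick Groth.Agent.H44.LocTrick2

open TensorProduct in
attribute [local instance] Algebra.TensorProduct.rightAlgebra in
/-- Stronger form of the statement: the factorization comes with an element `c ∈ C` such that
`C[1/c]` is smooth over `R` and `c` maps outside `𝔮`. -/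
theorem core {R A Λ Rₚ Λq : Type u} [CommRing R] [CommRing A]
    [Algebra R A] [Algebra.FinitePresentation R A] [CommRing Λ] [Algebra R Λ] (φ : A →ₐ[R] Λ)
    (𝔮 : Ideal Λ) [𝔮.IsPrime]
    [CommRing Rₚ] [Algebra R Rₚ] [IsLocalization.AtPrime Rₚ (𝔮.comap (algebraMap R Λ))]
    [CommRing Λq] [Algebra Λ Λq] [IsLocalization.AtPrime Λq 𝔮] [Algebra R Λq] [IsScalarTower R Λ Λq]
    [Algebra Rₚ Λq] [IsScalarTower R Rₚ Λq]
    (hres : Smoothing.Resolvable Rₚ
      (Algebra.TensorProduct.lift (Algebra.ofId Rₚ Λq) ((IsScalarTower.toAlgHom R Λ Λq).comp φ)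
        (fun _ _ => Commute.all _ _) : Rₚ ⊗[R] A →ₐ[Rₚ] Λq) (𝔮.map (algebraMap Λ Λq))) :
    ∃ (C : Type u) (_ : CommRing C) (_ : Algebra R C), Algebra.FinitePresentation R C ∧
      ∃ (g : A →ₐ[R] C) (h : C →ₐ[R] Λ), h.comp g = φ ∧
        ∃ c : C, Algebra.Smooth R (Localization.Away c) ∧ h c ∉ 𝔮 := by
  classical
  obtain ⟨B, _, _, hBfp, g, h, hcomp, -, hnot⟩ := hres
  haveI : IsLocalRing Λq := IsLocalization.AtPrime.isLocalRing Λq 𝔮
  have hmax : 𝔮.map (algebraMap Λ Λq) = IsLocalRing.maximalIdeal Λq :=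
    IsLocalization.AtPrime.map_eq_maximalIdeal 𝔮 Λq
  rw [hmax] at hnot
  obtain ⟨b, hbJ, hbq⟩ : ∃ b ∈ Smoothing.singularIdeal Rₚ B,
      h b ∉ IsLocalRing.maximalIdeal Λq := by
    by_contra hcon
    push_neg at hcon
    apply hnot
    unfold Smoothing.singRad
    rw [Ideal.IsPrime.radical_le_iff (IsLocalRing.maximalIdeal.isMaximal Λq).isPrime]
    exact Ideal.map_le_iff_le_comap.mpr fun b hb => hcon b hb
  have hbu : IsUnit (h b) := IsLocalRing.notMem_maximalIdeal.mp hbq
  haveI hBbsm : Algebra.Smooth Rₚ (Localization.Away b) := (mem_singularIdeal_iff b).mp hbJ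
  let hb' : Localization.Away b →ₐ[Rₚ] Λq :=
    IsLocalization.liftAlgHom (M := Submonoid.powers b) (f := h)
      (by rintro ⟨_, k, rfl⟩; rw [map_pow]; exact hbu.pow k)
  have hb'alg : ∀ x, hb' (algebraMap B _ x) = h x := fun x => IsLocalization.lift_eq _ _
  -- algebra structures
  letI algAΛ : Algebra A Λ := φ.toRingHom.toAlgebra
  haveI : IsScalarTower R A Λ := IsScalarTower.of_algebraMap_eq fun r => (φ.commutes r).symm
  letI algA'E : Algebra (Rₚ ⊗[R] A) (Localization.Away b) :=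
    ((algebraMap B (Localization.Away b)).comp g.toRingHom).toAlgebra
  haveI : IsScalarTower Rₚ (Rₚ ⊗[R] A) (Localization.Away b) := by
    refine IsScalarTower.of_algebraMap_eq fun r => ?_
    show algebraMap Rₚ (Localization.Away b) r = algebraMap B (Localization.Away b) (g (algebraMap Rₚ _ r))
    rw [g.commutes, ← IsScalarTower.algebraMap_apply]
  haveI : Algebra.FinitePresentation (Rₚ ⊗[R] A) (Localization.Away b) :=
    Algebra.FinitePresentation.of_restrict_scalars_finitePresentation Rₚ (Rₚ ⊗[R] A) _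
  letI algAE : Algebra A (Localization.Away b) :=
    ((algebraMap (Rₚ ⊗[R] A) (Localization.Away b)).comp (algebraMap A (Rₚ ⊗[R] A))).toAlgebra
  haveI : IsScalarTower A (Rₚ ⊗[R] A) (Localization.Away b) :=
    IsScalarTower.of_algebraMap_eq fun _ => rfl
  letI algRE : Algebra R (Localization.Away b) :=
    ((algebraMap Rₚ (Localization.Away b)).comp (algebraMap R Rₚ)).toAlgebra
  haveI : IsScalarTower R Rₚ (Localization.Away b) := IsScalarTower.of_algebraMap_eq fun _ => rfl
  haveI : IsScalarTower R A (Localization.Away b) := by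
    refine IsScalarTower.of_algebraMap_eq fun r => ?_
    show algebraMap Rₚ (Localization.Away b) (algebraMap R Rₚ r) =
      algebraMap B (Localization.Away b) (g ((1 : Rₚ) ⊗ₜ[R] (algebraMap R A r)))
    have : ((1 : Rₚ) ⊗ₜ[R] (algebraMap R A r) : Rₚ ⊗[R] A) = algebraMap Rₚ (Rₚ ⊗[R] A) (algebraMap R Rₚ r) := by
      rw [Algebra.TensorProduct.algebraMap_apply, Algebra.algebraMap_eq_smul_one r,
        Algebra.algebraMap_eq_smul_one (A := Rₚ) r, TensorProduct.tmul_smul, TensorProduct.smul_tmul']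
      rfl
    rw [this, g.commutes, ← IsScalarTower.algebraMap_apply Rₚ B (Localization.Away b)]
  letI algAΛq : Algebra A Λq := ((algebraMap Λ Λq).comp (algebraMap A Λ)).toAlgebra
  haveI : IsScalarTower A Λ Λq := IsScalarTower.of_algebraMap_eq fun _ => rfl
  let θ : Localization.Away b →ₐ[A] Λq :=
    { hb'.toRingHom with
      commutes' := fun a => by
        show hb' (algebraMap B (Localization.Away b) (g ((1 : Rₚ) ⊗ₜ[R] a))) = algebraMap Λ Λq (φ a)
        rw [hb'alg, ← AlgHom.comp_apply, hcomp]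
        simp }
  have hSN : ∀ s ∈ (𝔮.comap (algebraMap R Λ)).primeCompl,
      algebraMap A Λ (algebraMap R A s) ∈ 𝔮.primeCompl := by
    intro s hs
    rw [← IsScalarTower.algebraMap_apply R A Λ]
    exact hs
  obtain ⟨C, _, _, _, _, hCfp, t, hh, htN, hsm⟩ :=
    delocalize_abstract (R := R) (A := A) (Λ := Λ) (Rₛ := Rₚ) (A' := Rₚ ⊗[R] A)
      (E := Localization.Away b) (ΛN := Λq) (𝔮.comap (algebraMap R Λ)).primeCompl 𝔮.primeCompl θ hSN
  refine ⟨C, inferInstance, inferInstance, Algebra.FinitePresentation.trans R A C,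
    IsScalarTower.toAlgHom R A C, hh.restrictScalars R, ?_, t, hsm, htN⟩
  ext a
  show hh (algebraMap A C a) = φ a
  rw [hh.commutes]
  rfl

open TensorProduct in
/-- Let `R` be Noetherian, `A → Λ` an `R`-algebra map with `A` finitely presented, `𝔮 ⊆ Λ` a prime
minimal over the radical of the extended singular ideal of `A`, and `𝔭` its contraction to `R`. If
the localized problem `R_𝔭 → R_𝔭 ⊗ A → Λ_𝔮` can be resolved at `𝔮Λ_𝔮`, then `A → Λ` factors through
a finitely presented `R`-algebra `C` whose singular ideal over `R` does not extend into `𝔮`. -/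
theorem result {R A Λ Rₚ Λq : Type u} [CommRing R] [IsNoetherianRing R] [CommRing A]
    [Algebra R A] [Algebra.FinitePresentation R A] [CommRing Λ] [Algebra R Λ] (φ : A →ₐ[R] Λ)
    (𝔮 : Ideal Λ) [𝔮.IsPrime] (hmin : 𝔮 ∈ (Smoothing.singRad R φ).minimalPrimes)
    [CommRing Rₚ] [Algebra R Rₚ] [IsLocalization.AtPrime Rₚ (𝔮.comap (algebraMap R Λ))]
    [CommRing Λq] [Algebra Λ Λq] [IsLocalization.AtPrime Λq 𝔮] [Algebra R Λq] [IsScalarTower R Λ Λq]
    [Algebra Rₚ Λq] [IsScalarTower R Rₚ Λq]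
    (hres : Smoothing.Resolvable Rₚ
      (Algebra.TensorProduct.lift (Algebra.ofId Rₚ Λq) ((IsScalarTower.toAlgHom R Λ Λq).comp φ)
        (fun _ _ => Commute.all _ _) : Rₚ ⊗[R] A →ₐ[Rₚ] Λq) (𝔮.map (algebraMap Λ Λq))) :
    ∃ (C : Type u) (_ : CommRing C) (_ : Algebra R C), Algebra.FinitePresentation R C ∧
      ∃ (g : A →ₐ[R] C) (h : C →ₐ[R] Λ), h.comp g = φ ∧
        ¬ (Smoothing.singularIdeal R C).map h ≤ 𝔮 := by
  obtain ⟨C, _, _, hfp, g, h, hc, c, hsm, hcq⟩ := core φ 𝔮 hres
  refine ⟨C, inferInstance, inferInstance, hfp, g, h, hc, fun hle => hcq (hle ?_)⟩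
  exact Ideal.mem_map_of_mem _ ((mem_singularIdeal_iff c).mpr hsm)

end Groth.Agent.S2033
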