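import Groth.Statements.S2034
-- import your own Groth.Agent.* helpers here
import Groth.Agent.H44.GlueTrick
import Groth.Agent.S2033

set_option autoImplicit false
universe u
open Smoothing

namespace Groth.Agent.S2034

open Groth.Agent.H44.LocTrick Groth.Agent.H44.GlueTrick

/-- Gluing step (Stacks 07F5): from a factorization `A → C → Λ` with `C[1/c]` smooth, `h c ∉ 𝔮`,
generators `a i` of the singular ideal of `A` and `λ₀ ∉ 𝔮` with `λ₀ φ(a i)^N = 0`, the problem can
be resolved. -/
theorem glue {R A Λ : Type u} [CommRing R] [CommRing A] [Algebra R A]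
    [Algebra.FinitePresentation R A] [CommRing Λ] [Algebra R Λ] (φ : A →ₐ[R] Λ)
    (𝔮 : Ideal Λ) [𝔮.IsPrime]
    (C : Type u) [CommRing C] [Algebra R C] [Algebra.FinitePresentation R C]
    (g : A →ₐ[R] C) (h : C →ₐ[R] Λ) (hcomp : h.comp g = φ) (c : C)
    (hsm : Algebra.Smooth R (Localization.Away c)) (hcq : h c ∉ 𝔮)
    (r : ℕ) (a : Fin r → A) (hspan : Ideal.span (Set.range a) = Smoothing.singularIdeal R A)
    (lam : Λ) (hlam : lam ∉ 𝔮) (N : ℕ) (hN : ∀ i, lam * φ (a i) ^ N = 0) :
    Smoothing.Resolvable R φ 𝔮 := by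
  classical
  letI algAC : Algebra A C := g.toRingHom.toAlgebra
  haveI : IsScalarTower R A C := IsScalarTower.of_algebraMap_eq fun x => (g.commutes x).symm
  letI algAΛ : Algebra A Λ := φ.toRingHom.toAlgebra
  haveI : IsScalarTower R A Λ := IsScalarTower.of_algebraMap_eq fun x => (φ.commutes x).symm
  let hA : C →ₐ[A] Λ :=
    { h.toRingHom with
      commutes' := fun x => by
        show h (g x) = φ x
        rw [← hcomp]; rfl }
  have hAh : ∀ x, hA x = h x := fun _ => rfl
  haveI : Algebra.FiniteType A C := Algebra.FiniteType.of_restrictScalars_finiteType R A C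
  haveI : Algebra.FinitePresentation A C :=
    Algebra.FinitePresentation.of_restrict_scalars_finitePresentation R A C
  obtain ⟨n, f, hf⟩ := Algebra.FiniteType.iff_quotient_mvPolynomial''.mp
    (inferInstance : Algebra.FiniteType A C)
  let π' : MvPolynomial (Fin n ⊕ Fin r) A →ₐ[A] C :=
    MvPolynomial.aeval (Sum.elim (fun i => f (MvPolynomial.X i)) (fun _ => 0))
  have hπ' : Function.Surjective π' := by
    intro x
    obtain ⟨p, rfl⟩ := hf x
    refine ⟨MvPolynomial.rename Sum.inl p, ?_⟩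
    show MvPolynomial.aeval _ (MvPolynomial.rename Sum.inl p) = f p
    rw [MvPolynomial.aeval_rename]
    have := MvPolynomial.aeval_unique f
    exact (DFunLike.congr_fun this p).symm
  let ψ : MvPolynomial (Fin n ⊕ Fin r) A →ₐ[A] Λ :=
    MvPolynomial.aeval (Sum.elim (fun i => hA (f (MvPolynomial.X i))) (fun i => φ (a i) ^ N))
  have key : ∀ k, lam * ψ k = lam * hA (π' k) := by
    intro k
    induction k using MvPolynomial.induction_on with
    | C x => rw [MvPolynomial.aeval_C, MvPolynomial.aeval_C, AlgHom.commutes]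
    | add p q hp hq => rw [map_add, map_add, map_add, mul_add, mul_add, hp, hq]
    | mul_X p i hp =>
      rw [map_mul, map_mul, map_mul, ← mul_assoc, ← mul_assoc, hp]
      cases i with
      | inl i =>
        congr 1
        show MvPolynomial.aeval _ (MvPolynomial.X (Sum.inl i)) =
          hA (MvPolynomial.aeval _ (MvPolynomial.X (Sum.inl i)))
        rw [MvPolynomial.aeval_X, MvPolynomial.aeval_X]
        rfl
      | inr i =>
        have h1 : ψ (MvPolynomial.X (Sum.inr i)) = φ (a i) ^ N := by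
          show MvPolynomial.aeval _ (MvPolynomial.X (Sum.inr i)) = _
          rw [MvPolynomial.aeval_X]; rfl
        have h2 : π' (MvPolynomial.X (Sum.inr i)) = 0 := by
          show MvPolynomial.aeval _ (MvPolynomial.X (Sum.inr i)) = _
          rw [MvPolynomial.aeval_X]; rfl
        rw [h1, h2, map_zero, mul_zero, mul_comm lam, mul_assoc, hN i, mul_zero]
  -- the algebra `B`
  let hB₀ : Polynomial (MvPolynomial (Fin n ⊕ Fin r) A) →ₐ[A] Λ := Polynomial.aevalTower ψ lam
  have hB₀XC : ∀ k, hB₀ (Polynomial.X * Polynomial.C k) = lam * hA (π' k) := by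
    intro k
    rw [map_mul, Polynomial.aevalTower_X, Polynomial.aevalTower_C, key]
  have hB₀I : ∀ q ∈ glueIdeal π', hB₀ q = 0 := by
    refine glueIdeal_le π' (hB₀ : Polynomial (MvPolynomial (Fin n ⊕ Fin r) A) →+* Λ)
      fun k hk => ?_
    show hB₀ (Polynomial.X * Polynomial.C k) = 0
    rw [hB₀XC, hk, map_zero, mul_zero]
  let hB : (Polynomial (MvPolynomial (Fin n ⊕ Fin r) A) ⧸ glueIdeal π') →ₐ[A] Λ :=
    Ideal.Quotient.liftₐ (glueIdeal π') hB₀ hB₀I
  have hBmk : ∀ q, hB (Ideal.Quotient.mk _ q) = hB₀ q := fun q => rfl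
  haveI : Algebra.FinitePresentation A (Polynomial (MvPolynomial (Fin n ⊕ Fin r) A)) :=
    Algebra.FinitePresentation.trans A (MvPolynomial (Fin n ⊕ Fin r) A) _
  haveI hBfpA : Algebra.FinitePresentation A
      (Polynomial (MvPolynomial (Fin n ⊕ Fin r) A) ⧸ glueIdeal π') :=
    Algebra.FinitePresentation.quotient
      (glueIdeal_fg π' (Algebra.FinitePresentation.ker_fG_of_surjective π' hπ'))
  haveI hBfp : Algebra.FinitePresentation R
      (Polynomial (MvPolynomial (Fin n ⊕ Fin r) A) ⧸ glueIdeal π') :=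
    Algebra.FinitePresentation.trans R A _
  haveI : Algebra.FinitePresentation R (MvPolynomial (Fin n ⊕ Fin r) A) :=
    Algebra.FinitePresentation.trans R A _
  haveI : Algebra.FinitePresentation R (Polynomial C) :=
    Algebra.FinitePresentation.trans R C _
  refine ⟨Polynomial (MvPolynomial (Fin n ⊕ Fin r) A) ⧸ glueIdeal π', inferInstance, inferInstance,
    hBfp, IsScalarTower.toAlgHom R A _, hB.restrictScalars R, ?_, ?_, ?_⟩
  · ext x
    show hB (algebraMap A _ x) = φ x
    rw [hB.commutes]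
    rfl
  · -- the singular radical grows
    unfold Smoothing.singRad
    rw [Ideal.radical_le_radical_iff, ← hspan, Ideal.map_span, Ideal.span_le]
    rintro _ ⟨_, ⟨i, rfl⟩, rfl⟩
    refine ⟨N + 1, ?_⟩
    set u : MvPolynomial (Fin n ⊕ Fin r) A :=
      MvPolynomial.C (a i) * MvPolynomial.X (Sum.inr i) with hu
    have hπu : π' u = 0 := by
      rw [hu, map_mul]
      have h2 : π' (MvPolynomial.X (Sum.inr i)) = 0 := by
        show MvPolynomial.aeval _ (MvPolynomial.X (Sum.inr i)) = _
        rw [MvPolynomial.aeval_X]; rfl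
      rw [h2, mul_zero]
    have hψu : ψ u = φ (a i) ^ (N + 1) := by
      rw [hu, map_mul]
      have h1 : ψ (MvPolynomial.X (Sum.inr i)) = φ (a i) ^ N := by
        show MvPolynomial.aeval _ (MvPolynomial.X (Sum.inr i)) = _
        rw [MvPolynomial.aeval_X]; rfl
      rw [h1, MvPolynomial.aeval_C, pow_succ']
      rfl
    have huH : u ∈ Smoothing.singularIdeal R (MvPolynomial (Fin n ⊕ Fin r) A) := by
      rw [hu]
      refine Ideal.mul_mem_right _ _ ?_
      have hai : a i ∈ Smoothing.singularIdeal R A := by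
        rw [← hspan]; exact Ideal.subset_span ⟨i, rfl⟩
      exact algebraMap_mem_singularIdeal (P := MvPolynomial (Fin n ⊕ Fin r) A) (a i) hai
    haveI : Algebra.Smooth R (Localization.Away u) := (mem_singularIdeal_iff u).mp huH
    obtain ⟨e⟩ := glue_away_ker_equiv π' u hπu
    have hmem : Ideal.Quotient.mk (glueIdeal π') (Polynomial.C u) ∈ Smoothing.singularIdeal R
        (Polynomial (MvPolynomial (Fin n ⊕ Fin r) A) ⧸ glueIdeal π') := by
      rw [mem_singularIdeal_iff]
      exact Algebra.Smooth.of_equiv (e.symm.restrictScalars R)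
    have := Ideal.mem_map_of_mem (hB.restrictScalars R) hmem
    convert this using 1
    show φ (a i) ^ (N + 1) = hB (Ideal.Quotient.mk _ (Polynomial.C u))
    rw [hBmk, Polynomial.aevalTower_C, hψu]
  · -- not contained in `𝔮`
    intro hle
    obtain ⟨p, hp⟩ := hπ' c
    have hcH : c ∈ Smoothing.singularIdeal R C := (mem_singularIdeal_iff c).mpr hsm
    have hvH : (Polynomial.X * Polynomial.C (π' p) : Polynomial C) ∈
        Smoothing.singularIdeal R (Polynomial C) := by
      rw [hp]
      refine Ideal.mul_mem_left _ _ ?_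
      exact algebraMap_mem_singularIdeal (P := Polynomial C) c hcH
    haveI : Algebra.Smooth R (Localization.Away (Polynomial.X * Polynomial.C (π' p) : Polynomial C)) :=
      (mem_singularIdeal_iff _).mp hvH
    obtain ⟨e⟩ := glue_away_z_equiv π' hπ' p
    have hmem : Ideal.Quotient.mk (glueIdeal π') (Polynomial.X * Polynomial.C p) ∈
        Smoothing.singularIdeal R
          (Polynomial (MvPolynomial (Fin n ⊕ Fin r) A) ⧸ glueIdeal π') := by
      rw [mem_singularIdeal_iff]
      exact Algebra.Smooth.of_equiv (e.symm.restrictScalars R)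
    have h1 := hle (Ideal.le_radical (Ideal.mem_map_of_mem (hB.restrictScalars R) hmem))
    have h2 : (hB.restrictScalars R) (Ideal.Quotient.mk (glueIdeal π')
        (Polynomial.X * Polynomial.C p)) = lam * h c := by
      show hB (Ideal.Quotient.mk _ (Polynomial.X * Polynomial.C p)) = _
      rw [hBmk, hB₀XC, hp, hAh]
    rw [h2] at h1
    rcases Ideal.IsPrime.mem_or_mem inferInstance h1 with h3 | h3
    · exact hlam h3
    · exact hcq h3

open TensorProduct in
/-- Let `R` be a Noetherian ring, `A` a finitely presented `R`-algebra, `R → A → Λ` ring maps and `𝔮 ⊆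
Λ` a prime minimal over the radical of the extended singular ideal of `R → A`; let `𝔭` be the prime
of `R` under `𝔮` and suppose the localized problem `R_𝔭 → R_𝔭 ⊗_R A → Λ_𝔮 ⊇ 𝔮Λ_𝔮` can be resolved.
If moreover `Λ_𝔮` has Krull dimension zero, then the problem `R → A → Λ ⊇ 𝔮` itself can be resolved. -/
theorem result {R A Λ Rₚ Λq : Type u} [CommRing R] [IsNoetherianRing R] [CommRing A]
    [Algebra R A] [Algebra.FinitePresentation R A] [CommRing Λ] [Algebra R Λ] (φ : A →ₐ[R] Λ)
    (𝔮 : Ideal Λ) [𝔮.IsPrime] (hmin : 𝔮 ∈ (Smoothing.singRad R φ).minimalPrimes)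
    [CommRing Rₚ] [Algebra R Rₚ] [IsLocalization.AtPrime Rₚ (𝔮.comap (algebraMap R Λ))]
    [CommRing Λq] [Algebra Λ Λq] [IsLocalization.AtPrime Λq 𝔮] [Algebra R Λq] [IsScalarTower R Λ Λq]
    [Algebra Rₚ Λq] [IsScalarTower R Rₚ Λq] (hdim : ringKrullDim Λq = 0)
    (hres : Smoothing.Resolvable Rₚ
      (Algebra.TensorProduct.lift (Algebra.ofId Rₚ Λq) ((IsScalarTower.toAlgHom R Λ Λq).comp φ)
        (fun _ _ => Commute.all _ _) : Rₚ ⊗[R] A →ₐ[Rₚ] Λq) (𝔮.map (algebraMap Λ Λq))) :
    Smoothing.Resolvable R φ 𝔮 := by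
  classical
  obtain ⟨C, _, _, hfp, g, h, hc, c, hsm, hcq⟩ := Groth.Agent.S2033.core φ 𝔮 hres
  haveI : IsNoetherianRing A := Algebra.FiniteType.isNoetherianRing R A
  obtain ⟨r, a, hspan⟩ := Submodule.fg_iff_exists_fin_generating_family.mp
    (IsNoetherian.noetherian (Smoothing.singularIdeal R A))
  haveI : IsLocalRing Λq := IsLocalization.AtPrime.isLocalRing Λq 𝔮
  haveI : Ring.KrullDimLE 0 Λq := ringKrullDimZero_iff_ringKrullDim_eq_zero.mpr hdim
  have hmax : 𝔮.map (algebraMap Λ Λq) = IsLocalRing.maximalIdeal Λq :=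
    IsLocalization.AtPrime.map_eq_maximalIdeal 𝔮 Λq
  have hai : ∀ i, ∃ (Ni : ℕ) (m : 𝔮.primeCompl), (m : Λ) * φ (a i) ^ Ni = 0 := by
    intro i
    have h1 : a i ∈ Smoothing.singularIdeal R A := by
      rw [← hspan]; exact Submodule.subset_span ⟨i, rfl⟩
    have h2 : φ (a i) ∈ 𝔮 :=
      hmin.1.2 (Ideal.le_radical (Ideal.mem_map_of_mem φ h1))
    have h3 : algebraMap Λ Λq (φ (a i)) ∈ IsLocalRing.maximalIdeal Λq := by
      rw [← hmax]; exact Ideal.mem_map_of_mem _ h2
    obtain ⟨Ni, hNi⟩ := Ring.KrullDimLE.isNilpotent_iff_mem_maximalIdeal.mpr h3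
    rw [← map_pow] at hNi
    obtain ⟨m, hm⟩ := (IsLocalization.map_eq_zero_iff 𝔮.primeCompl Λq _).mp hNi
    exact ⟨Ni, m, hm⟩
  choose Ni m hm using hai
  have hlamq : (∏ i, (m i : Λ)) ∉ 𝔮 := by
    have : (∏ i, (m i : Λ)) ∈ 𝔮.primeCompl := Submonoid.prod_mem _ fun i _ => (m i).2
    exact this
  refine glue φ 𝔮 C g h hc c hsm hcq r a hspan (∏ i, (m i : Λ)) hlamq (∑ i, Ni i) fun i => ?_
  obtain ⟨W, hW⟩ : (m i : Λ) ∣ ∏ j, (m j : Λ) := Finset.dvd_prod_of_mem _ (Finset.mem_univ i)
  have hle : Ni i ≤ ∑ j, Ni j := Finset.single_le_sum (fun _ _ => Nat.zero_le _) (Finset.mem_univ i)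
  obtain ⟨k, hk⟩ := Nat.exists_eq_add_of_le hle
  rw [hW, hk, pow_add]
  calc (m i : Λ) * W * (φ (a i) ^ Ni i * φ (a i) ^ k)
      = ((m i : Λ) * φ (a i) ^ Ni i) * (W * φ (a i) ^ k) := by ring
    _ = 0 := by rw [hm i, zero_mul]

end Groth.Agent.S2034
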