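import Groth.Statements.S19959
-- import your own Groth.Agent.* helpers here
import Groth.Agent.S2024
import Groth.Agent.S2028

set_option autoImplicit false
universe u
open Smoothing

namespace Groth.Agent.S19959

theorem smul_ann_of_ann_sq {R M : Type u} [CommRing R] [AddCommGroup M] [Module R M] (π : R)
    (hM : ∀ x : M, π ^ 2 • x = 0 → π • x = 0) :
    ∀ (k : ℕ) (x : M), π ^ (k + 1) • x = 0 → π • x = 0 := by
  intro k
  induction k with
  | zero => intro x h; simpa using h
  | succ k ih =>
    intro x h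
    apply ih
    have h1 : π ^ 2 • (π ^ k • x) = 0 := by
      rw [← mul_smul, ← pow_add]
      have : 2 + k = k + 1 + 1 := by omega
      rw [this]; exact h
    have h2 := hM _ h1
    rw [← mul_smul, ← pow_succ'] at h2
    exact h2

theorem isSmoothAt_congr {R D : Type u} [CommRing R] [CommRing D] [Algebra R D] (P P' : Ideal D)
    [P.IsPrime] [P'.IsPrime] (h : P = P') (hs : Algebra.IsSmoothAt R P) : Algebra.IsSmoothAt R P' := by
  subst h
  exact hs

theorem core {R Λ A C : Type u} [CommRing R] [IsNoetherianRing R] [CommRing Λ]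
    [Algebra R Λ] (π e : R) (he : e = (π ^ 4) ^ 2) (hR : ∀ r : R, π ^ 2 * r = 0 → π * r = 0)
    (hΛ : ∀ x : Λ, π ^ 2 • x = 0 → π • x = 0) [CommRing A] [Algebra R A]
    [Algebra.FinitePresentation R A] (φ : A →ₐ[R] Λ)
    (hπ : Smoothing.IsStrictlyStandard R A (algebraMap R A π))
    [CommRing C] [Algebra R C] [Algebra (R ⧸ Ideal.span {e}) C] [IsScalarTower R (R ⧸ Ideal.span {e}) C]
    [Algebra.FinitePresentation (R ⧸ Ideal.span {e}) C]
    (γ : A →ₐ[R] C) (g : C →ₐ[R] Λ ⧸ Ideal.span {algebraMap R Λ e})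
    (hfac : ∀ a : A, g (γ a) = Ideal.Quotient.mk (Ideal.span {algebraMap R Λ e}) (φ a)) :
    ∃ (B : Type u) (_ : CommRing B) (_ : Algebra R B), Algebra.FinitePresentation R B ∧
      ∃ (α : A →ₐ[R] B) (β : B →ₐ[R] Λ), β.comp α = φ ∧
        (∀ (Q : Ideal B) [Q.IsPrime], algebraMap R B π ∉ Q → Algebra.IsSmoothAt R Q) ∧
        (Smoothing.singularIdeal (R ⧸ Ideal.span {e}) C).map g ≤
          ((Smoothing.singularIdeal R B).map β).radical.map
            (Ideal.Quotient.mk (Ideal.span {algebraMap R Λ e})) := by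
  subst he
  have hR4 : ∀ r : R, (π ^ 4) ^ 2 * r = 0 → π ^ 4 * r = 0 := by
    intro r h
    have h1 : π ^ (7 + 1) • r = 0 := by
      rw [smul_eq_mul]; rw [← h]; ring
    have h2 := smul_ann_of_ann_sq (M := R) π (fun x hx => by
      rw [smul_eq_mul] at hx ⊢; exact hR x hx) 7 r h1
    rw [smul_eq_mul] at h2
    calc π ^ 4 * r = π ^ 3 * (π * r) := by ring
      _ = 0 := by rw [h2, mul_zero]
  have hΛ4 : ∀ x : Λ, (π ^ 4) ^ 2 • x = 0 → π ^ 4 • x = 0 := by
    intro x h
    have h1 : π ^ (7 + 1) • x = 0 := by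
      have : π ^ (7 + 1) = (π ^ 4) ^ 2 := by ring
      rw [this]; exact h
    have h2 := smul_ann_of_ann_sq (M := Λ) π hΛ 7 x h1
    have : π ^ 4 • x = π ^ 3 • (π • x) := by rw [← mul_smul, ← pow_succ]
    rw [this, h2, smul_zero]
  obtain ⟨D, _, _, hDfp, δ, ψ, hcompat, hsmD, hsmC⟩ := Groth.Agent.S2024.result (π ^ 4) hR4 hΛ4 g
  haveI := hDfp
  have hψ : ∀ (a : A) (d : D),
      Ideal.Quotient.mk (Ideal.span {algebraMap R D (π ^ 4)}) d = (ψ.comp γ) a →
      δ d - φ a ∈ Ideal.span {algebraMap R Λ (π ^ 4)} :=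
    fun a d h => hcompat (γ a) d (φ a) h (hfac a).symm
  obtain ⟨B, _, _, _, _, hBfp, α, β, hβα, hβδ, -, hRB⟩ :=
    Groth.Agent.S2028.result π hR hΛ φ δ hπ (ψ.comp γ) hψ
  have hπD : algebraMap R D π ∈ Smoothing.singularIdeal R D := by
    unfold Smoothing.singularIdeal
    rw [PrimeSpectrum.mem_vanishingIdeal]
    intro x hx
    by_contra hnot
    apply hx
    show Algebra.IsSmoothAt R x.asIdeal
    apply hsmD x.asIdeal
    intro h4
    rw [map_pow] at h4
    exact hnot (x.isPrime.mem_of_pow_mem _ h4)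
  have hπB : algebraMap R B π ∈ Smoothing.singularIdeal R B := by
    have := hRB (Ideal.mem_map_of_mem (algebraMap D B) hπD)
    rwa [← IsScalarTower.algebraMap_apply R D B] at this
  have hπΛ : algebraMap R Λ π ∈ ((Smoothing.singularIdeal R B).map β).radical := by
    apply Ideal.le_radical
    have := Ideal.mem_map_of_mem β hπB
    rwa [AlgHom.commutes] at this
  refine ⟨B, inferInstance, inferInstance, hBfp, α, β, hβα, ?_, ?_⟩
  · intro Q _ hQ
    by_contra hns
    apply hQ
    have hmem : (⟨Q, inferInstance⟩ : PrimeSpectrum B) ∈ (Algebra.smoothLocus R B)ᶜ := hns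
    exact (PrimeSpectrum.mem_vanishingIdeal _ _).mp hπB ⟨Q, inferInstance⟩ hmem
  · rw [Ideal.map_le_iff_le_comap]
    intro c hc
    show g c ∈ Ideal.map _ _
    obtain ⟨l, hl⟩ := Ideal.Quotient.mk_surjective (g c)
    rw [← hl]
    apply Ideal.mem_map_of_mem
    obtain ⟨d, hd⟩ := Ideal.Quotient.mk_surjective (ψ c)
    have h1 := hcompat c d l hd hl
    have h2 : δ d - l ∈ ((Smoothing.singularIdeal R B).map β).radical := by
      have hle : Ideal.span {algebraMap R Λ (π ^ 4)} ≤
          ((Smoothing.singularIdeal R B).map β).radical := by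
        rw [Ideal.span_le, Set.singleton_subset_iff, SetLike.mem_coe, map_pow]
        exact Ideal.pow_mem_of_mem _ hπΛ 4 (by norm_num)
      exact hle h1
    have hdD : d ∈ Smoothing.singularIdeal R D := by
      unfold Smoothing.singularIdeal
      rw [PrimeSpectrum.mem_vanishingIdeal]
      intro x hx
      have h4 : algebraMap R D (π ^ 4) ∈ x.asIdeal := by
        by_contra hn
        exact hx (hsmD x.asIdeal hn)
      have hJ : Ideal.span {algebraMap R D (π ^ 4)} ≤ x.asIdeal := by
        rw [Ideal.span_le, Set.singleton_subset_iff]; exact h4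
      have hker : RingHom.ker (Ideal.Quotient.mk (Ideal.span {algebraMap R D (π ^ 4)})) ≤
          x.asIdeal := by rw [Ideal.mk_ker]; exact hJ
      haveI hQprime : (x.asIdeal.map
          (Ideal.Quotient.mk (Ideal.span {algebraMap R D (π ^ 4)}))).IsPrime :=
        Ideal.map_isPrime_of_surjective Ideal.Quotient.mk_surjective hker
      have hcomap : (x.asIdeal.map (Ideal.Quotient.mk (Ideal.span {algebraMap R D (π ^ 4)}))).comap
          (Ideal.Quotient.mk (Ideal.span {algebraMap R D (π ^ 4)})) = x.asIdeal := by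
        rw [Ideal.comap_map_of_surjective _ Ideal.Quotient.mk_surjective, ← RingHom.ker_eq_comap_bot]
        exact sup_eq_left.mpr hker
      by_contra hdn
      apply hx
      show Algebra.IsSmoothAt R x.asIdeal
      refine isSmoothAt_congr _ _ hcomap (hsmC _ ?_)
      by_contra hns
      apply hdn
      have hmem : (⟨(x.asIdeal.map (Ideal.Quotient.mk
          (Ideal.span {algebraMap R D (π ^ 4)}))).comap ψ, inferInstance⟩ :
          PrimeSpectrum C) ∈ (Algebra.smoothLocus (R ⧸ Ideal.span {(π ^ 4) ^ 2}) C)ᶜ := hns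
      have hcmem := (PrimeSpectrum.mem_vanishingIdeal _ _).mp hc _ hmem
      have : ψ c ∈ x.asIdeal.map (Ideal.Quotient.mk (Ideal.span {algebraMap R D (π ^ 4)})) := hcmem
      rw [← hd] at this
      rw [← hcomap]
      exact this
    have h3 : δ d ∈ ((Smoothing.singularIdeal R B).map β).radical := by
      apply Ideal.le_radical
      have := Ideal.mem_map_of_mem β (hRB (Ideal.mem_map_of_mem (algebraMap D B) hdD))
      rw [← hβδ]
      exact this
    have : l = δ d - (δ d - l) := by ring
    rw [this]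
    exact Ideal.sub_mem _ h3 h2

/-- Let R be Noetherian, Λ an R-algebra and π ∈ R with the annihilators of π and π² equal both in R and
in Λ. Let A → Λ be an R-algebra map with A finitely presented and π strictly standard in A over R,
and let A → C → Λ/π⁸Λ be a factorization of the induced map A → Λ/π⁸Λ with C a finitely presented
R/π⁸R-algebra. Then there is a factorization A → B → Λ with B finitely presented over R such that R
→ B is smooth at every prime of B not containing π (equivalently, B being finitely presented, R_π →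
B_π is smooth) and such that the extension to Λ/π⁸Λ of the singular ideal of C over R/π⁸R (the
radical ideal of the non-smooth locus) is contained in the image in Λ/π⁸Λ of the radical of the
extension to Λ of the singular ideal of B over R. -/
theorem result {R Λ A C : Type u} [CommRing R] [IsNoetherianRing R] [CommRing Λ]
    [Algebra R Λ] (π : R) (hR : ∀ r : R, π ^ 2 * r = 0 → π * r = 0)
    (hΛ : ∀ x : Λ, π ^ 2 • x = 0 → π • x = 0) [CommRing A] [Algebra R A]
    [Algebra.FinitePresentation R A] (φ : A →ₐ[R] Λ)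
    (hπ : Smoothing.IsStrictlyStandard R A (algebraMap R A π))
    [CommRing C] [Algebra R C] [Algebra (R ⧸ Ideal.span {π ^ 8}) C] [IsScalarTower R (R ⧸ Ideal.span {π ^ 8}) C]
    [Algebra.FinitePresentation (R ⧸ Ideal.span {π ^ 8}) C]
    (γ : A →ₐ[R] C) (g : C →ₐ[R] Λ ⧸ Ideal.span {algebraMap R Λ (π ^ 8)})
    (hfac : ∀ a : A, g (γ a) = Ideal.Quotient.mk (Ideal.span {algebraMap R Λ (π ^ 8)}) (φ a)) :
    ∃ (B : Type u) (_ : CommRing B) (_ : Algebra R B), Algebra.FinitePresentation R B ∧
      ∃ (α : A →ₐ[R] B) (β : B →ₐ[R] Λ), β.comp α = φ ∧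
        (∀ (Q : Ideal B) [Q.IsPrime], algebraMap R B π ∉ Q → Algebra.IsSmoothAt R Q) ∧
        (Smoothing.singularIdeal (R ⧸ Ideal.span {π ^ 8}) C).map g ≤
          ((Smoothing.singularIdeal R B).map β).radical.map (Ideal.Quotient.mk (Ideal.span {algebraMap R Λ (π ^ 8)})) := by
  exact core π (π ^ 8) (by ring) hR hΛ φ hπ γ g hfac

end Groth.Agent.S19959
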