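import Groth.Statements.S6822
-- import your own Groth.Agent.* helpers here
import Groth.Agent.H44.ResStep
import Groth.Agent.H44.ResStep2
import Groth.Agent.S19959
import Groth.Agent.S6829

set_option autoImplicit false
universe u
open Smoothing

namespace Groth.Agent.S6822

open Groth.Agent.H44.LocTrick Groth.Agent.H44.ResStep Groth.Agent.H44.ResStep2

/-- One step of lifting a resolution modulo `π⁸` (abstract reduction `R₁ → R₂`). -/
theorem step {R₁ A₁ Λ₁ R₂ A₂ Λ₂ : Type u} [CommRing R₁] [IsNoetherianRing R₁] [CommRing A₁]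
    [Algebra R₁ A₁] [Algebra.FinitePresentation R₁ A₁] [CommRing Λ₁] [Algebra R₁ Λ₁]
    (φ₁ : A₁ →ₐ[R₁] Λ₁) (𝔮₁ : Ideal Λ₁) [𝔮₁.IsPrime]
    (π : R₁) (hR : ∀ r : R₁, π ^ 2 * r = 0 → π * r = 0)
    (hΛ : ∀ x : Λ₁, π ^ 2 • x = 0 → π • x = 0)
    (hstd : Smoothing.IsStrictlyStandard R₁ A₁ (algebraMap R₁ A₁ π))
    [CommRing R₂] [CommRing A₂] [Algebra R₂ A₂] [Algebra.FinitePresentation R₂ A₂] [CommRing Λ₂]
    [Algebra R₂ Λ₂] (φ₂ : A₂ →ₐ[R₂] Λ₂) (𝔮₂ : Ideal Λ₂) [𝔮₂.IsPrime]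
    (ρ : R₁ →+* R₂) (α : A₁ →+* A₂) (lam : Λ₁ →+* Λ₂)
    (hρ : Function.Surjective ρ) (hα : Function.Surjective α) (hlam : Function.Surjective lam)
    (hkρ : RingHom.ker ρ = Ideal.span {π ^ 8})
    (hkα : RingHom.ker α ≤ (RingHom.ker ρ).map (algebraMap R₁ A₁))
    (hklam : RingHom.ker lam = Ideal.span {algebraMap R₁ Λ₁ (π ^ 8)})
    (hαc : ∀ r, α (algebraMap R₁ A₁ r) = algebraMap R₂ A₂ (ρ r))
    (hlamc : ∀ r, lam (algebraMap R₁ Λ₁ r) = algebraMap R₂ Λ₂ (ρ r))
    (hφ : ∀ a, lam (φ₁ a) = φ₂ (α a))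
    (hq : 𝔮₁.map lam ≤ 𝔮₂)
    (hres : Smoothing.Resolvable R₂ φ₂ 𝔮₂) : Smoothing.Resolvable R₁ φ₁ 𝔮₁ := by
  classical
  obtain ⟨C, _, _, hCfp, g₂, h₂, hcomp, hle, hnot⟩ := hres
  letI algR₁C : Algebra R₁ C := ((algebraMap R₂ C).comp ρ).toAlgebra
  let ρbar : R₁ ⧸ Ideal.span {π ^ 8} →+* R₂ :=
    Ideal.Quotient.lift _ ρ (fun x hx => by rw [← hkρ] at hx; exact RingHom.mem_ker.mp hx)
  have hρbar_mk : ∀ x, ρbar (Ideal.Quotient.mk _ x) = ρ x := fun x => rfl
  have hρbar_bij : Function.Bijective ρbar := by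
    constructor
    · rw [injective_iff_map_eq_zero]
      intro x hx
      obtain ⟨y, rfl⟩ := Ideal.Quotient.mk_surjective x
      rw [hρbar_mk] at hx
      rw [Ideal.Quotient.eq_zero_iff_mem, ← hkρ]
      exact RingHom.mem_ker.mpr hx
    · intro y
      obtain ⟨x, rfl⟩ := hρ y
      exact ⟨Ideal.Quotient.mk _ x, rfl⟩
  letI algRbarR₂ : Algebra (R₁ ⧸ Ideal.span {π ^ 8}) R₂ := ρbar.toAlgebra
  letI algRbarC : Algebra (R₁ ⧸ Ideal.span {π ^ 8}) C := ((algebraMap R₂ C).comp ρbar).toAlgebra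
  haveI : IsScalarTower (R₁ ⧸ Ideal.span {π ^ 8}) R₂ C := IsScalarTower.of_algebraMap_eq fun _ => rfl
  haveI : IsScalarTower R₁ (R₁ ⧸ Ideal.span {π ^ 8}) C := IsScalarTower.of_algebraMap_eq fun _ => rfl
  haveI : Algebra.FinitePresentation (R₁ ⧸ Ideal.span {π ^ 8}) R₂ :=
    Algebra.FinitePresentation.equiv
      (AlgEquiv.ofBijective (Algebra.ofId (R₁ ⧸ Ideal.span {π ^ 8}) R₂) hρbar_bij)
  haveI : Algebra.FinitePresentation (R₁ ⧸ Ideal.span {π ^ 8}) C :=
    Algebra.FinitePresentation.trans (R₁ ⧸ Ideal.span {π ^ 8}) R₂ C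
  -- the target
  let lambar : Λ₁ ⧸ Ideal.span {algebraMap R₁ Λ₁ (π ^ 8)} →+* Λ₂ :=
    Ideal.Quotient.lift _ lam (fun x hx => by rw [← hklam] at hx; exact RingHom.mem_ker.mp hx)
  have hlambar_mk : ∀ x, lambar (Ideal.Quotient.mk _ x) = lam x := fun x => rfl
  have hlambar_bij : Function.Bijective lambar := by
    constructor
    · rw [injective_iff_map_eq_zero]
      intro x hx
      obtain ⟨y, rfl⟩ := Ideal.Quotient.mk_surjective x
      rw [hlambar_mk] at hx
      rw [Ideal.Quotient.eq_zero_iff_mem, ← hklam]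
      exact RingHom.mem_ker.mpr hx
    · intro y
      obtain ⟨x, rfl⟩ := hlam y
      exact ⟨Ideal.Quotient.mk _ x, rfl⟩
  let eΛ : Λ₁ ⧸ Ideal.span {algebraMap R₁ Λ₁ (π ^ 8)} ≃+* Λ₂ := RingEquiv.ofBijective lambar hlambar_bij
  have heΛ : ∀ x, eΛ x = lambar x := fun _ => rfl
  have heΛsymm : ∀ x, eΛ.symm (lam x) = Ideal.Quotient.mk _ x := by
    intro x
    rw [RingEquiv.symm_apply_eq, heΛ, hlambar_mk]
  let γ : A₁ →ₐ[R₁] C :=
    { (g₂ : A₂ →+* C).comp α with
      commutes' := fun r => by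
        show g₂ (α (algebraMap R₁ A₁ r)) = algebraMap R₂ C (ρ r)
        rw [hαc, g₂.commutes] }
  have hγ : ∀ a, γ a = g₂ (α a) := fun _ => rfl
  let g : C →ₐ[R₁] Λ₁ ⧸ Ideal.span {algebraMap R₁ Λ₁ (π ^ 8)} :=
    { (eΛ.symm : Λ₂ →+* _).comp (h₂ : C →+* Λ₂) with
      commutes' := fun r => by
        show eΛ.symm (h₂ (algebraMap R₂ C (ρ r))) = algebraMap R₁ _ r
        rw [h₂.commutes, ← hlamc, heΛsymm]
        rfl }
  have hg : ∀ c, g c = eΛ.symm (h₂ c) := fun _ => rfl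
  have hfac : ∀ a : A₁, g (γ a) =
      Ideal.Quotient.mk (Ideal.span {algebraMap R₁ Λ₁ (π ^ 8)}) (φ₁ a) := by
    intro a
    rw [hg, hγ, ← AlgHom.comp_apply, hcomp, ← hφ, heΛsymm]
  obtain ⟨B, _, _, hBfp, α', β, hβα, hsmB, hincl⟩ :=
    Groth.Agent.S19959.result π hR hΛ φ₁ hstd γ g hfac
  rw [singularIdeal_eq_of_bijective (S := R₁ ⧸ Ideal.span {π ^ 8}) (S' := R₂) (X := C) hρbar_bij]
    at hincl
  have hπB : algebraMap R₁ B π ∈ Smoothing.singularIdeal R₁ B := by
    unfold Smoothing.singularIdeal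
    rw [PrimeSpectrum.mem_vanishingIdeal]
    intro x hx
    by_contra hnot'
    exact hx (hsmB x.asIdeal hnot')
  have hπ𝔯 : algebraMap R₁ Λ₁ π ∈ ((Smoothing.singularIdeal R₁ B).map β).radical := by
    apply Ideal.le_radical
    have := Ideal.mem_map_of_mem β hπB
    rwa [AlgHom.commutes] at this
  have hker𝔯 : RingHom.ker lam ≤ ((Smoothing.singularIdeal R₁ B).map β).radical := by
    rw [hklam, Ideal.span_le, Set.singleton_subset_iff, SetLike.mem_coe, map_pow]
    exact Ideal.pow_mem_of_mem _ hπ𝔯 8 (by norm_num)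
  have key : ∀ c ∈ Smoothing.singularIdeal R₂ C,
      h₂ c ∈ (((Smoothing.singularIdeal R₁ B).map β).radical).map lam := by
    intro c hc
    have h1 : g c ∈ _ := hincl (Ideal.mem_map_of_mem g hc)
    have h2 := Ideal.mem_map_of_mem lambar h1
    rw [Ideal.map_map] at h2
    have h3 : lambar.comp (Ideal.Quotient.mk (Ideal.span {algebraMap R₁ Λ₁ (π ^ 8)})) = lam :=
      RingHom.ext fun x => rfl
    rw [h3] at h2
    have h4 : lambar (g c) = h₂ c := by
      rw [hg, ← heΛ, RingEquiv.apply_symm_apply]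
    rwa [h4] at h2
  have hcomap : (((Smoothing.singularIdeal R₁ B).map β).radical.map lam).comap lam =
      ((Smoothing.singularIdeal R₁ B).map β).radical := by
    rw [Ideal.comap_map_of_surjective lam hlam, ← RingHom.ker_eq_comap_bot]
    exact sup_eq_left.mpr hker𝔯
  refine ⟨B, inferInstance, inferInstance, hBfp, α', β, hβα, ?_, ?_⟩
  · unfold Smoothing.singRad
    rw [Ideal.radical_le_radical_iff, Ideal.map_le_iff_le_comap]
    intro a ha
    show φ₁ a ∈ ((Smoothing.singularIdeal R₁ B).map β).radical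
    have h1 : α a ∈ Smoothing.singularIdeal R₂ A₂ :=
      map_mem_singularIdeal_of_reduction ρ α hρ hα hαc hkα a ha
    have h2 : φ₂ (α a) ∈ Smoothing.singRad R₂ φ₂ := Ideal.le_radical (Ideal.mem_map_of_mem φ₂ h1)
    have h3 : φ₂ (α a) ∈ Smoothing.singRad R₂ h₂ := hle h2
    have h4 : (Smoothing.singularIdeal R₂ C).map h₂ ≤
        (((Smoothing.singularIdeal R₁ B).map β).radical).map lam := by
      rw [Ideal.map_le_iff_le_comap]
      intro c hc
      exact key c hc
    obtain ⟨n, hn⟩ := Ideal.radical_mono h4 h3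
    rw [← hφ, ← map_pow] at hn
    have h5 : φ₁ a ^ n ∈ ((Smoothing.singularIdeal R₁ B).map β).radical := by
      rw [← hcomap]; exact hn
    have h6 : φ₁ a ∈ (((Smoothing.singularIdeal R₁ B).map β).radical).radical := ⟨n, h5⟩
    rwa [Ideal.radical_idem] at h6
  · intro hcon
    apply hnot
    unfold Smoothing.singRad at hcon ⊢
    rw [Ideal.IsPrime.radical_le_iff inferInstance, Ideal.map_le_iff_le_comap]
    intro c hc
    exact hq (Ideal.map_mono hcon (key c hc))

section Quot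

variable {R A Λ : Type u} [CommRing R] [CommRing A] [Algebra R A] [CommRing Λ] [Algebra R Λ]

/-- The induced map on quotients as an `R/J`-algebra map. -/
noncomputable def quotAlgHom (φ : A →ₐ[R] Λ) (J : Ideal R) :
    (A ⧸ J.map (algebraMap R A)) →ₐ[R ⧸ J] (Λ ⧸ J.map (algebraMap R Λ)) :=
  { Ideal.quotientMap (J.map (algebraMap R Λ)) (φ : A →+* Λ)
      (Ideal.map_le_iff_le_comap.mpr fun r hr => by
        show φ (algebraMap R A r) ∈ Ideal.map (algebraMap R Λ) J
        rw [φ.commutes]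
        exact Ideal.mem_map_of_mem _ hr) with
    commutes' := fun x => by
      obtain ⟨r, rfl⟩ := Ideal.Quotient.mk_surjective x
      show Ideal.Quotient.mk _ (φ (algebraMap R A r)) = Ideal.Quotient.mk _ (algebraMap R Λ r)
      rw [φ.commutes] }

theorem quotAlgHom_mk (φ : A →ₐ[R] Λ) (J : Ideal R) (a : A) :
    quotAlgHom φ J (Ideal.Quotient.mk _ a) = Ideal.Quotient.mk _ (φ a) := rfl

theorem std_quot [Algebra.FinitePresentation R A] (J : Ideal R) (a : A)
    (ha : Smoothing.IsStrictlyStandard R A a) :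
    Smoothing.IsStrictlyStandard (R ⧸ J) (A ⧸ J.map (algebraMap R A)) (Ideal.Quotient.mk _ a) := by
  have h1 := (Groth.Agent.S6829.result (R' := R ⧸ J) a).2 ha
  have h2 := isStrictlyStandard_of_algEquiv (tensorQuotEquiv (A := A) J) _ h1
  rwa [tensorQuotEquiv_one_tmul] at h2

/-- the ideal generated by the eighth powers of the earlier elements -/
noncomputable def Iset {n : ℕ} (π : Fin n → R) (i : Fin n) : Ideal R :=
  Ideal.span ((fun j => π j ^ 8) '' {j | j < i})

theorem Iset_castSucc {n : ℕ} (π : Fin (n + 1) → R) (i : Fin n) :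
    Iset (fun j : Fin n => π (Fin.castSucc j)) i = Iset π (Fin.castSucc i) := by
  unfold Iset
  congr 1
  ext x
  simp only [Set.mem_image, Set.mem_setOf_eq]
  constructor
  · rintro ⟨j, hj, rfl⟩
    exact ⟨Fin.castSucc j, Fin.castSucc_lt_castSucc_iff.mpr hj, rfl⟩
  · rintro ⟨j, hj, rfl⟩
    have hjn : (j : ℕ) < n := lt_of_lt_of_le (Fin.lt_def.mp hj) (by simp)
    refine ⟨⟨j, hjn⟩, ?_, ?_⟩
    · rw [Fin.lt_def] at hj ⊢
      simpa using hj
    · rfl

theorem Iset_last_eq {n : ℕ} (π : Fin (n + 1) → R) :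
    Iset π (Fin.last n) = Ideal.span (Set.range fun j : Fin n => π (Fin.castSucc j) ^ 8) := by
  unfold Iset
  congr 1
  ext x
  simp only [Set.mem_image, Set.mem_setOf_eq, Set.mem_range]
  constructor
  · rintro ⟨j, hj, rfl⟩
    have hjn : (j : ℕ) < n := by
      have := Fin.lt_def.mp hj
      simpa using this
    exact ⟨⟨j, hjn⟩, rfl⟩
  · rintro ⟨j, rfl⟩
    exact ⟨Fin.castSucc j, Fin.castSucc_lt_last j, rfl⟩

theorem span_range_eq_sup {n : ℕ} (π : Fin (n + 1) → R) :
    Ideal.span (Set.range fun i => π i ^ 8) =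
      Iset π (Fin.last n) ⊔ Ideal.span {π (Fin.last n) ^ 8} := by
  unfold Iset
  rw [← Ideal.span_union]
  congr 1
  ext x
  simp only [Set.mem_range, Set.mem_union, Set.mem_image, Set.mem_setOf_eq, Set.mem_singleton_iff]
  constructor
  · rintro ⟨i, rfl⟩
    rcases lt_or_eq_of_le (Fin.le_last i) with h | h
    · exact Or.inl ⟨i, h, rfl⟩
    · exact Or.inr (by rw [h])
  · rintro (⟨i, _, rfl⟩ | rfl)
    · exact ⟨i, rfl⟩
    · exact ⟨Fin.last n, rfl⟩

end Quot

theorem aux {R A Λ : Type u} [CommRing R] [IsNoetherianRing R] [CommRing A] [Algebra R A]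
    [Algebra.FinitePresentation R A] [CommRing Λ] [Algebra R Λ] (φ : A →ₐ[R] Λ) (𝔮 : Ideal Λ)
    [𝔮.IsPrime] : ∀ (n : ℕ) (π : Fin (n + 1) → R)
    (_ : ∀ i, algebraMap R Λ (π i) ∈ 𝔮)
    (_ : ∀ i, ∀ y : R, π i ^ 2 * y ∈ Iset π i → π i * y ∈ Iset π i)
    (_ : ∀ i, ∀ y : Λ, algebraMap R Λ (π i) ^ 2 * y ∈ (Iset π i).map (algebraMap R Λ) →
      algebraMap R Λ (π i) * y ∈ (Iset π i).map (algebraMap R Λ))
    (_ : ∀ i, Smoothing.IsStrictlyStandard R A (algebraMap R A (π i)))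
    (K : Ideal R) (_ : K = Ideal.span (Set.range fun i => π i ^ 8))
    (_ : Smoothing.Resolvable (R ⧸ K) (quotAlgHom φ K)
      (𝔮.map (Ideal.Quotient.mk (K.map (algebraMap R Λ))))),
    Smoothing.Resolvable R φ 𝔮 := by
  intro n
  induction n with
  | zero =>
    intro π hπ𝔮 hR hΛ hstd K hK hres
    have hK0 : K = Ideal.span {π 0 ^ 8} := by
      rw [hK]
      congr 1
      ext x
      simp only [Set.mem_range, Set.mem_singleton_iff]
      constructor
      · rintro ⟨i, rfl⟩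
        have hi : i = 0 := Fin.ext (by have := i.2; simp only [Fin.val_zero]; omega)
        rw [hi]
      · rintro rfl
        exact ⟨0, rfl⟩
    have hI0 : Iset π 0 = ⊥ := by
      unfold Iset
      have : {j : Fin (0 + 1) | j < 0} = ∅ := by
        ext j
        simp only [Set.mem_setOf_eq, Set.mem_empty_iff_false, iff_false]
        exact Fin.not_lt_zero j
      rw [this, Set.image_empty, Ideal.span_empty]
    have hKq : K.map (algebraMap R Λ) ≤ 𝔮 := by
      rw [hK0, Ideal.map_span, Ideal.span_le]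
      rintro _ ⟨_, rfl, rfl⟩
      rw [SetLike.mem_coe, map_pow]
      exact Ideal.pow_mem_of_mem _ (hπ𝔮 0) 8 (by norm_num)
    haveI : (𝔮.map (Ideal.Quotient.mk (K.map (algebraMap R Λ)))).IsPrime :=
      Ideal.map_isPrime_of_surjective Ideal.Quotient.mk_surjective
        (by rw [Ideal.mk_ker]; exact hKq)
    haveI : Algebra.FinitePresentation (R ⧸ K) (A ⧸ K.map (algebraMap R A)) :=
      finitePresentation_quot K
    have hR0 : ∀ r : R, π 0 ^ 2 * r = 0 → π 0 * r = 0 := by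
      intro r hr
      have := hR 0 r (by rw [hr]; exact Ideal.zero_mem _)
      rwa [hI0, Ideal.mem_bot] at this
    have hΛ0 : ∀ x : Λ, π 0 ^ 2 • x = 0 → π 0 • x = 0 := by
      intro x hx
      rw [Algebra.smul_def, map_pow] at hx
      have := hΛ 0 x (by rw [hx]; exact Ideal.zero_mem _)
      rw [hI0, Ideal.map_bot, Ideal.mem_bot] at this
      rw [Algebra.smul_def]
      exact this
    refine step φ 𝔮 (π 0) hR0 hΛ0 (hstd 0) (quotAlgHom φ K)
      (𝔮.map (Ideal.Quotient.mk (K.map (algebraMap R Λ))))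
      (Ideal.Quotient.mk K) (Ideal.Quotient.mk (K.map (algebraMap R A)))
      (Ideal.Quotient.mk (K.map (algebraMap R Λ)))
      Ideal.Quotient.mk_surjective Ideal.Quotient.mk_surjective Ideal.Quotient.mk_surjective
      ?_ ?_ ?_ (fun _ => rfl) (fun _ => rfl) (fun _ => rfl) le_rfl hres
    · rw [Ideal.mk_ker, hK0]
    · rw [Ideal.mk_ker, Ideal.mk_ker]
    · rw [Ideal.mk_ker, hK0, Ideal.map_span, Set.image_singleton]
  | succ n ih =>
    intro π hπ𝔮 hR hΛ hstd K hK hres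
    set I : Ideal R := Iset π (Fin.last (n + 1)) with hI
    have hKI : K = I ⊔ Ideal.span {π (Fin.last (n + 1)) ^ 8} := by
      rw [hK, span_range_eq_sup]
    have hIK : I ≤ K := by rw [hKI]; exact le_sup_left
    have hKq : K.map (algebraMap R Λ) ≤ 𝔮 := by
      rw [hK, Ideal.map_span, Ideal.span_le]
      rintro _ ⟨_, ⟨i, rfl⟩, rfl⟩
      rw [SetLike.mem_coe, map_pow]
      exact Ideal.pow_mem_of_mem _ (hπ𝔮 i) 8 (by norm_num)
    have hIq : I.map (algebraMap R Λ) ≤ 𝔮 := (Ideal.map_mono hIK).trans hKq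
    haveI : (𝔮.map (Ideal.Quotient.mk (K.map (algebraMap R Λ)))).IsPrime :=
      Ideal.map_isPrime_of_surjective Ideal.Quotient.mk_surjective
        (by rw [Ideal.mk_ker]; exact hKq)
    haveI : (𝔮.map (Ideal.Quotient.mk (I.map (algebraMap R Λ)))).IsPrime :=
      Ideal.map_isPrime_of_surjective Ideal.Quotient.mk_surjective
        (by rw [Ideal.mk_ker]; exact hIq)
    haveI : Algebra.FinitePresentation (R ⧸ K) (A ⧸ K.map (algebraMap R A)) :=
      finitePresentation_quot K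
    haveI : Algebra.FinitePresentation (R ⧸ I) (A ⧸ I.map (algebraMap R A)) :=
      finitePresentation_quot I
    -- the step from `K` to `I`
    have hres₁ : Smoothing.Resolvable (R ⧸ I) (quotAlgHom φ I)
        (𝔮.map (Ideal.Quotient.mk (I.map (algebraMap R Λ)))) := by
      have hR₁ : ∀ r : R ⧸ I, Ideal.Quotient.mk I (π (Fin.last (n + 1))) ^ 2 * r = 0 →
          Ideal.Quotient.mk I (π (Fin.last (n + 1))) * r = 0 := by
        intro r hr
        obtain ⟨y, rfl⟩ := Ideal.Quotient.mk_surjective r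
        rw [← map_pow, ← map_mul, Ideal.Quotient.eq_zero_iff_mem] at hr
        rw [← map_mul, Ideal.Quotient.eq_zero_iff_mem]
        exact hR _ y hr
      have hsm : ∀ (k : ℕ) (y : Λ), Ideal.Quotient.mk I (π (Fin.last (n + 1))) ^ k •
          (Ideal.Quotient.mk (I.map (algebraMap R Λ)) y) =
          Ideal.Quotient.mk (I.map (algebraMap R Λ))
            (algebraMap R Λ (π (Fin.last (n + 1))) ^ k * y) := by
        intro k y
        rw [Algebra.smul_def, map_pow, map_mul, map_pow]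
        rfl
      have hΛ₁ : ∀ x : Λ ⧸ I.map (algebraMap R Λ),
          Ideal.Quotient.mk I (π (Fin.last (n + 1))) ^ 2 • x = 0 →
          Ideal.Quotient.mk I (π (Fin.last (n + 1))) • x = 0 := by
        intro x hx
        obtain ⟨y, rfl⟩ := Ideal.Quotient.mk_surjective x
        rw [hsm, Ideal.Quotient.eq_zero_iff_mem] at hx
        have h1 := hsm 1 y
        rw [pow_one, pow_one] at h1
        rw [h1, Ideal.Quotient.eq_zero_iff_mem]
        exact hΛ _ y hx
      have hstd₁ : Smoothing.IsStrictlyStandard (R ⧸ I) (A ⧸ I.map (algebraMap R A))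
          (algebraMap (R ⧸ I) (A ⧸ I.map (algebraMap R A))
            (Ideal.Quotient.mk I (π (Fin.last (n + 1))))) :=
        std_quot I _ (hstd (Fin.last (n + 1)))
      refine step (quotAlgHom φ I) (𝔮.map (Ideal.Quotient.mk (I.map (algebraMap R Λ))))
        (Ideal.Quotient.mk I (π (Fin.last (n + 1)))) hR₁ hΛ₁ hstd₁ (quotAlgHom φ K)
        (𝔮.map (Ideal.Quotient.mk (K.map (algebraMap R Λ))))
        (Ideal.Quotient.factor hIK) (Ideal.Quotient.factor (Ideal.map_mono hIK))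
        (Ideal.Quotient.factor (Ideal.map_mono hIK))
        (Ideal.Quotient.factor_surjective _) (Ideal.Quotient.factor_surjective _)
        (Ideal.Quotient.factor_surjective _) ?_ ?_ ?_ ?_ ?_ ?_ ?_ hres
      · rw [Ideal.Quotient.factor_ker, hKI, Ideal.map_sup, Ideal.map_quotient_self, bot_sup_eq,
          Ideal.map_span, Set.image_singleton, map_pow]
      · rw [Ideal.Quotient.factor_ker, Ideal.Quotient.factor_ker, Ideal.map_map, Ideal.map_map]
        exact le_of_eq rfl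
      · rw [Ideal.Quotient.factor_ker, Ideal.map_map, hKI, Ideal.map_sup]
        have h1 : I.map ((Ideal.Quotient.mk (I.map (algebraMap R Λ))).comp (algebraMap R Λ)) = ⊥ := by
          rw [← Ideal.map_map, Ideal.map_quotient_self]
        rw [h1, bot_sup_eq, Ideal.map_span, Set.image_singleton]
        rfl
      · intro r
        obtain ⟨y, rfl⟩ := Ideal.Quotient.mk_surjective r
        rfl
      · intro r
        obtain ⟨y, rfl⟩ := Ideal.Quotient.mk_surjective r
        rfl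
      · intro a
        obtain ⟨y, rfl⟩ := Ideal.Quotient.mk_surjective a
        rfl
      · rw [Ideal.map_map, Ideal.Quotient.factor_comp_mk]
    -- the induction hypothesis
    refine ih (fun j : Fin (n + 1) => π (Fin.castSucc j)) (fun i => hπ𝔮 _) ?_ ?_ (fun i => hstd _) I
      (Iset_last_eq π) hres₁
    · intro i y hy
      rw [Iset_castSucc] at hy ⊢
      exact hR _ y hy
    · intro i y hy
      rw [Iset_castSucc] at hy ⊢
      exact hΛ _ y hy

/-- Let R be Noetherian, A a finitely presented R-algebra, φ : A → Λ an R-algebra map and 𝔮 ⊆ Λ a prime.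
Let r ≥ 1 and π₁, …, π_r ∈ R map into 𝔮, and assume: for each i the annihilators of π_i and of π_i²
agree in R/(π₁⁸, …, π_{i−1}⁸) and in Λ/(π₁⁸, …, π_{i−1}⁸)Λ, and each π_i maps to a strictly standard
element of A over R. Write K = (π₁⁸, …, π_r⁸). If the reduced problem R/K → A/KA → Λ/KΛ ⊇ 𝔮/KΛ can
be resolved (for the map A/KA → Λ/KΛ induced by φ), then R → A → Λ ⊇ 𝔮 can be resolved. -/
theorem result {R A Λ : Type u} [CommRing R] [IsNoetherianRing R]
    [CommRing A] [Algebra R A] [Algebra.FinitePresentation R A] [CommRing Λ] [Algebra R Λ]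
    (φ : A →ₐ[R] Λ) (𝔮 : Ideal Λ) [𝔮.IsPrime] {r : ℕ} (hr : 0 < r) (π : Fin r → R)
    (hπ𝔮 : ∀ i, algebraMap R Λ (π i) ∈ 𝔮)
    (hR : ∀ i : Fin r, ∀ x : R ⧸ Ideal.span (Set.range fun j : {j : Fin r // (j : ℕ) < (i : ℕ)} => π j ^ 8),
      Ideal.Quotient.mk _ (π i) ^ 2 * x = 0 → Ideal.Quotient.mk _ (π i) * x = 0)
    (hΛ : ∀ i : Fin r, ∀ x : Λ ⧸ Ideal.span (Set.range fun j : {j : Fin r // (j : ℕ) < (i : ℕ)} =>
        algebraMap R Λ (π j) ^ 8),
      Ideal.Quotient.mk _ (algebraMap R Λ (π i)) ^ 2 * x = 0 → Ideal.Quotient.mk _ (algebraMap R Λ (π i)) * x = 0)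
    (hstd : ∀ i, Smoothing.IsStrictlyStandard R A (algebraMap R A (π i)))
    (K : Ideal R) (hK : K = Ideal.span (Set.range fun i => π i ^ 8))
    (φK : (A ⧸ K.map (algebraMap R A)) →ₐ[R ⧸ K] (Λ ⧸ K.map (algebraMap R Λ)))
    (hφK : ∀ a : A, φK (Ideal.Quotient.mk _ a) = Ideal.Quotient.mk _ (φ a))
    (hres : Smoothing.Resolvable (R ⧸ K) φK (𝔮.map (Ideal.Quotient.mk (K.map (algebraMap R Λ))))) :
    Smoothing.Resolvable R φ 𝔮 := by
  classical
  obtain ⟨n, rfl⟩ : ∃ n, r = n + 1 := ⟨r - 1, by omega⟩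
  have hφK' : φK = quotAlgHom φ K := by
    apply AlgHom.ext
    intro x
    obtain ⟨a, rfl⟩ := Ideal.Quotient.mk_surjective x
    rw [hφK, quotAlgHom_mk]
  rw [hφK'] at hres
  have hrange : ∀ i : Fin (n + 1), Ideal.span (Set.range fun j : {j : Fin (n + 1) // (j : ℕ) < (i : ℕ)} => π j ^ 8) =
      Iset π i := by
    intro i
    unfold Iset
    congr 1
    ext x
    simp only [Set.mem_range, Set.mem_image, Set.mem_setOf_eq, Subtype.exists]
    constructor
    · rintro ⟨j, hj, rfl⟩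
      exact ⟨j, Fin.lt_def.mpr hj, rfl⟩
    · rintro ⟨j, hj, rfl⟩
      exact ⟨j, Fin.lt_def.mp hj, rfl⟩
  have hrangeΛ : ∀ i : Fin (n + 1), Ideal.span (Set.range fun j : {j : Fin (n + 1) // (j : ℕ) < (i : ℕ)} =>
      algebraMap R Λ (π j) ^ 8) = (Iset π i).map (algebraMap R Λ) := by
    intro i
    rw [← hrange i, Ideal.map_span]
    congr 1
    ext x
    simp only [Set.mem_range, Set.mem_image, Subtype.exists]
    constructor
    · rintro ⟨j, hj, rfl⟩
      exact ⟨_, ⟨j, hj, rfl⟩, by rw [map_pow]⟩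
    · rintro ⟨_, ⟨j, hj, rfl⟩, rfl⟩
      exact ⟨j, hj, by rw [map_pow]⟩
  refine aux φ 𝔮 n π hπ𝔮 ?_ ?_ hstd K hK hres
  · intro i y hy
    rw [← hrange i] at hy ⊢
    have := hR i (Ideal.Quotient.mk _ y) (by
      rw [← map_pow, ← map_mul, Ideal.Quotient.eq_zero_iff_mem]; exact hy)
    rwa [← map_mul, Ideal.Quotient.eq_zero_iff_mem] at this
  · intro i y hy
    rw [← hrangeΛ i] at hy ⊢
    have := hΛ i (Ideal.Quotient.mk _ y) (by
      rw [← map_pow, ← map_mul, Ideal.Quotient.eq_zero_iff_mem]; exact hy)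
    rwa [← map_mul, Ideal.Quotient.eq_zero_iff_mem] at this

end Groth.Agent.S6822
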