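import Groth.Statements.S7140
import Mathlib
-- import your own Groth.Agent.* helpers here

set_option autoImplicit false
universe u
open EtAlg

namespace Groth.Agent.S7140

section Univ

open Polynomial

variable (p : ℕ) [hp : Fact p.Prime]

/-- the universal ring `ℤ[ζ]`. -/
abbrev A0 : Type := AdjoinRoot (cyclotomic p ℤ)

instance : IsDomain (A0 p) :=
  AdjoinRoot.isDomain_of_prime
    (UniqueFactorizationMonoid.irreducible_iff_prime.mp
      (Polynomial.cyclotomic.irreducible hp.out.pos))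

lemma degree_ne : (cyclotomic p ℤ).degree ≠ 0 := by
  rw [degree_cyclotomic]
  have : 0 < Nat.totient p := Nat.totient_pos.mpr hp.out.pos
  exact_mod_cast this.ne'

instance : NeZero ((p : ℕ) : A0 p) := by
  constructor
  have hinj := AdjoinRoot.of.injective_of_degree_ne_zero (degree_ne p)
  have : ((p : ℕ) : A0 p) = AdjoinRoot.of (cyclotomic p ℤ) (p : ℤ) := by simp
  rw [this]
  intro h
  have h2 := hinj (h.trans (map_zero _).symm)
  exact hp.out.ne_zero (by exact_mod_cast h2)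

lemma isPrimitiveRoot_root : IsPrimitiveRoot (AdjoinRoot.root (cyclotomic p ℤ)) p := by
  rw [← Polynomial.isRoot_cyclotomic_iff]
  have := AdjoinRoot.isRoot_root (cyclotomic p ℤ)
  rwa [map_cyclotomic] at this

lemma prod_formula0 :
    (X ^ p - 1 : (A0 p)[X]) =
      ∏ i ∈ Finset.range p, (X - C ((AdjoinRoot.root (cyclotomic p ℤ)) ^ i)) := by
  have := X_pow_sub_C_eq_prod (isPrimitiveRoot_root p) hp.out.pos (one_pow p : (1 : A0 p) ^ p = 1)
  simpa using this

variable {A : Type u} [CommRing A] (ζ : A) (hζ : aeval ζ (cyclotomic p ℤ) = 0)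

/-- the canonical map `ℤ[ζ] → A`. -/
noncomputable def phi : A0 p →+* A :=
  AdjoinRoot.lift (Int.castRingHom A) ζ (by
    rw [← hζ, aeval_def]
    rfl)

lemma phi_root : phi p ζ hζ (AdjoinRoot.root (cyclotomic p ℤ)) = ζ := by
  unfold phi
  exact AdjoinRoot.lift_root _

include hζ in
lemma prod_formula : (X ^ p - 1 : A[X]) = ∏ i ∈ Finset.range p, (X - C (ζ ^ i)) := by
  have := congrArg (Polynomial.map (phi p ζ hζ)) (prod_formula0 p)
  simpa [Polynomial.map_prod, phi_root] using this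

end Univ

section ZLemma

open Polynomial

variable (p : ℕ) [hp : Fact p.Prime]

lemma zmod_prod : ∏ k ∈ Finset.range p, (X + ((k : ℕ) : (ZMod p)[X])) = (X ^ p - X : (ZMod p)[X]) := by
  -- the right side splits with roots all elements of `ZMod p`
  have hroots : (X ^ p - X : (ZMod p)[X]).roots = Finset.univ.val := by
    have := FiniteField.roots_X_pow_card_sub_X (ZMod p)
    rwa [ZMod.card] at this
  have hdeg : (X ^ p - X : (ZMod p)[X]).natDegree = p :=
    FiniteField.X_pow_card_sub_X_natDegree_eq (ZMod p) hp.out.one_lt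
  have hmonic : (X ^ p - X : (ZMod p)[X]).Monic := by
    apply monic_X_pow_sub
    rw [degree_X]
    exact_mod_cast hp.out.one_lt
  have hsplit := prod_multiset_X_sub_C_of_monic_of_roots_card_eq hmonic (by
    rw [hroots, hdeg]
    simp)
  rw [← hsplit, hroots]
  -- reindex
  have h1 : (Multiset.map (fun a : ZMod p => X - C a) Finset.univ.val).prod =
      ∏ a : ZMod p, (X - C a) := rfl
  rw [h1]
  have h2 : ∏ a : ZMod p, (X - C a : (ZMod p)[X]) = ∏ a : ZMod p, (X + C a) := by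
    refine Fintype.prod_equiv (Equiv.neg (ZMod p)) _ _ (fun a => ?_)
    simp [sub_eq_add_neg]
  rw [h2]
  refine Finset.prod_bij (fun k _ => ((k : ℕ) : ZMod p)) (fun _ _ => Finset.mem_univ _) ?_ ?_
    (fun _ _ => by simp)
  · intro a ha b hb hab
    rw [Finset.mem_range] at ha hb
    have := congrArg ZMod.val hab
    rwa [ZMod.val_cast_of_lt ha, ZMod.val_cast_of_lt hb] at this
  · intro a _
    exact ⟨a.val, Finset.mem_range.mpr (ZMod.val_lt a), ZMod.natCast_zmod_val a⟩

lemma zlemma : ∃ Q : ℤ[X],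
    ∏ k ∈ Finset.range p, (X + ((k : ℕ) : ℤ[X])) = X ^ p - X + C (p : ℤ) * Q := by
  have h : (∏ k ∈ Finset.range p, (X + ((k : ℕ) : ℤ[X])) - (X ^ p - X)).map
      (Int.castRingHom (ZMod p)) = 0 := by
    rw [Polynomial.map_sub, Polynomial.map_prod]
    simp only [Polynomial.map_add, Polynomial.map_sub, Polynomial.map_pow, map_X,
      Polynomial.map_natCast]
    rw [zmod_prod, sub_self]
  have hdvd : C (p : ℤ) ∣ (∏ k ∈ Finset.range p, (X + ((k : ℕ) : ℤ[X])) - (X ^ p - X)) := by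
    rw [Polynomial.C_dvd_iff_dvd_coeff]
    intro n
    have := congrArg (fun f => f.coeff n) h
    simp only [coeff_map, eq_intCast, coeff_zero] at this
    exact (ZMod.intCast_zmod_eq_zero_iff_dvd _ p).mp this
  obtain ⟨Q, hQ⟩ := hdvd
  exact ⟨Q, by rw [← hQ]; ring⟩

end ZLemma

section Gen

open Polynomial

variable (p : ℕ) [hp : Fact p.Prime] {A : Type u} [CommRing A] (ζ : A)

/-- `ε_k = 1 + ζ + … + ζ^{k-1}` -/
noncomputable def eps (k : ℕ) : A := ∑ j ∈ Finset.range k, ζ ^ j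

lemma w_mul_eps (k : ℕ) : (1 - ζ) * eps ζ k = 1 - ζ ^ k := mul_neg_geom_sum ζ k

/-- the Kummer–Artin–Schreier polynomial -/
noncomputable def Pdef : A[X] := ∏ k ∈ Finset.range p, (X + C (eps ζ k))

lemma claim1 (hζ : aeval ζ (cyclotomic p ℤ) = 0) :
    C ((1 - ζ) ^ p) * Pdef p ζ = (1 + C (1 - ζ) * X) ^ p - 1 := by
  have h := prod_formula p ζ hζ
  have h2 := congrArg (fun f => f.comp (1 + C (1 - ζ) * X)) h
  simp only [sub_comp, pow_comp, X_comp, one_comp, prod_comp, C_comp] at h2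
  rw [h2]
  have : ∀ i ∈ Finset.range p, (1 + C (1 - ζ) * X - C (ζ ^ i) : A[X]) =
      C (1 - ζ) * (X + C (eps ζ i)) := by
    intro i _
    rw [mul_add, ← C_mul, w_mul_eps]
    simp only [C_sub, C_1]
    ring
  rw [Finset.prod_congr rfl this, Finset.prod_mul_distrib, Finset.prod_const, Finset.card_range,
    ← C_pow]
  rfl

lemma sum_pow_eq_zero (hζ : aeval ζ (cyclotomic p ℤ) = 0) :
    ∑ j ∈ Finset.range p, ζ ^ j = 0 := by
  have := hζ
  rw [cyclotomic_prime ℤ p] at this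
  simpa using this

lemma one_sub_pow_mem (j : ℕ) : 1 - ζ ^ j ∈ Ideal.span {1 - ζ} := by
  rw [← w_mul_eps]
  exact Ideal.mul_mem_right _ _ (Ideal.subset_span rfl)

lemma p_mem (hζ : aeval ζ (cyclotomic p ℤ) = 0) : (p : A) ∈ Ideal.span {1 - ζ} := by
  have : (p : A) = ∑ j ∈ Finset.range p, (1 - ζ ^ j) := by
    simp [Finset.sum_sub_distrib, sum_pow_eq_zero p ζ hζ]
  rw [this]
  exact Ideal.sum_mem _ (fun j _ => one_sub_pow_mem ζ j)

lemma eps_sub_mem (k : ℕ) : eps ζ k - (k : A) ∈ Ideal.span {1 - ζ} := by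
  have : eps ζ k - (k : A) = ∑ j ∈ Finset.range k, -(1 - ζ ^ j) := by
    simp [eps, Finset.sum_sub_distrib]
  rw [this]
  exact Ideal.sum_mem _ (fun j _ => Ideal.neg_mem_iff _ |>.mpr (one_sub_pow_mem ζ j))

lemma Pdef_sub_mem (hζ : aeval ζ (cyclotomic p ℤ) = 0) :
    Pdef p ζ - (X ^ p - X) ∈ Ideal.map (C : A →+* A[X]) (Ideal.span {1 - ζ}) := by
  rw [← Ideal.Quotient.eq]
  obtain ⟨Q, hQ⟩ := zlemma p
  have hQ' := congrArg (Polynomial.map (Int.castRingHom A)) hQ
  simp only [Polynomial.map_prod, Polynomial.map_add, Polynomial.map_sub, Polynomial.map_pow,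
    map_X, Polynomial.map_natCast, Polynomial.map_mul, map_C, eq_intCast, Int.cast_natCast] at hQ'
  calc Ideal.Quotient.mk _ (Pdef p ζ)
      = ∏ k ∈ Finset.range p, Ideal.Quotient.mk
          (Ideal.map (C : A →+* A[X]) (Ideal.span {1 - ζ})) (X + C (eps ζ k)) := by
        rw [Pdef, map_prod]
    _ = ∏ k ∈ Finset.range p, Ideal.Quotient.mk
          (Ideal.map (C : A →+* A[X]) (Ideal.span {1 - ζ})) (X + ((k : ℕ) : A[X])) := by
        refine Finset.prod_congr rfl (fun k _ => ?_)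
        rw [Ideal.Quotient.eq]
        have : X + C (eps ζ k) - (X + ((k : ℕ) : A[X])) = C (eps ζ k - (k : A)) := by
          simp [C_sub]
        rw [this]
        exact Ideal.mem_map_of_mem _ (eps_sub_mem ζ k)
    _ = Ideal.Quotient.mk _ (X ^ p - X + C (p : A) * Q.map (Int.castRingHom A)) := by
        rw [← map_prod, hQ']
        simp
    _ = Ideal.Quotient.mk _ (X ^ p - X) := by
        rw [Ideal.Quotient.eq, add_sub_cancel_left]
        exact Ideal.mul_mem_right _ _ (Ideal.mem_map_of_mem _ (p_mem p ζ hζ))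

lemma coeff_mem (hζ : aeval ζ (cyclotomic p ℤ) = 0) (n : ℕ) :
    (Pdef p ζ - (X ^ p - X)).coeff n ∈ Ideal.span {1 - ζ} :=
  Ideal.mem_map_C_iff.mp (Pdef_sub_mem p ζ hζ) n

lemma Pdef_monic : (Pdef p ζ).Monic :=
  monic_prod_of_monic _ _ (fun k _ => monic_X_add_C _)

lemma Pdef_natDegree [Nontrivial A] : (Pdef p ζ).natDegree = p := by
  unfold Pdef
  rw [natDegree_prod_of_monic _ _ (fun k _ => monic_X_add_C _)]
  simp

lemma Pdef_coeff_zero : (Pdef p ζ).coeff 0 = 0 := by
  rw [coeff_zero_eq_eval_zero, Pdef, eval_prod]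
  refine Finset.prod_eq_zero (Finset.mem_range.mpr hp.out.pos) ?_
  simp [eps]

lemma claim2 (hζ : aeval ζ (cyclotomic p ℤ) = 0) :
    ∃ a : ℕ → A, (∀ i, a i ∈ Ideal.span {1 - ζ}) ∧
      Pdef p ζ = X ^ p - X + (Finset.Ioo 0 p).sum (fun i => C (a i) * X ^ i) := by
  refine ⟨fun i => (Pdef p ζ - (X ^ p - X)).coeff i, fun i => coeff_mem p ζ hζ i, ?_⟩
  rcases subsingleton_or_nontrivial A with hA | hA
  · exact Subsingleton.elim _ _
  set D := Pdef p ζ - (X ^ p - X) with hD
  have hmon : (X ^ p - X : A[X]).Monic := by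
    apply monic_X_pow_sub
    rw [degree_X]
    exact_mod_cast hp.out.one_lt
  have hdegX : (X ^ p - X : A[X]).natDegree = p := by
    rw [natDegree_sub_eq_left_of_natDegree_lt]
    · exact natDegree_X_pow p
    · rw [natDegree_X_pow, natDegree_X]
      exact hp.out.one_lt
  have hDdeg : D.natDegree < p := by
    by_cases hD0 : D = 0
    · rw [hD0, natDegree_zero]
      exact hp.out.pos
    · rw [natDegree_lt_iff_degree_lt hD0]
      have h1 : (Pdef p ζ).degree = (X ^ p - X : A[X]).degree := by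
        rw [degree_eq_natDegree (Pdef_monic p ζ).ne_zero, degree_eq_natDegree hmon.ne_zero,
          Pdef_natDegree, hdegX]
      have h2 := degree_sub_lt h1 (Pdef_monic p ζ).ne_zero
        ((Pdef_monic p ζ).leadingCoeff.trans hmon.leadingCoeff.symm)
      rw [degree_eq_natDegree (Pdef_monic p ζ).ne_zero, Pdef_natDegree] at h2
      exact h2
  have hD0 : D.coeff 0 = 0 := by
    rw [hD, coeff_sub, Pdef_coeff_zero]
    simp [hp.out.ne_zero.symm]
  have hsum : D = (Finset.Ioo 0 p).sum (fun i => C (D.coeff i) * X ^ i) := by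
    conv_lhs => rw [as_sum_range' D p hDdeg]
    rw [Finset.range_eq_Ico, Finset.sum_eq_sum_Ico_succ_bot hp.out.pos, hD0]
    simp only [monomial_zero_right, zero_add, C_mul_X_pow_eq_monomial]
    rfl
  rw [← hsum, hD]
  ring

end Gen

section Add

open Polynomial

variable (p : ℕ) [hp : Fact p.Prime] {A : Type u} [CommRing A] (ζ : A)

lemma Eeq (hζ : aeval ζ (cyclotomic p ℤ) = 0) {S : Type*} [CommRing S] [Algebra A S] (z : S) :
    algebraMap A S ((1 - ζ) ^ p) * aeval z (Pdef p ζ) =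
      (1 + algebraMap A S (1 - ζ) * z) ^ p - 1 := by
  have := congrArg (aeval z) (claim1 p ζ hζ)
  simpa using this

lemma mul_diff_eq_zero (hζ : aeval ζ (cyclotomic p ℤ) = 0) {S : Type*} [CommRing S] [Algebra A S]
    (z₁ z₂ : S) :
    algebraMap A S ((1 - ζ) ^ p) *
      (aeval (z₁ + z₂ + algebraMap A S (1 - ζ) * z₁ * z₂) (Pdef p ζ) -
        (aeval z₁ (Pdef p ζ) + aeval z₂ (Pdef p ζ) +
          algebraMap A S ((1 - ζ) ^ p) * aeval z₁ (Pdef p ζ) * aeval z₂ (Pdef p ζ))) = 0 := by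
  have h1 := Eeq p ζ hζ z₁
  have h2 := Eeq p ζ hζ z₂
  have h3 := Eeq p ζ hζ (z₁ + z₂ + algebraMap A S (1 - ζ) * z₁ * z₂)
  have hab : (1 + algebraMap A S (1 - ζ) * (z₁ + z₂ + algebraMap A S (1 - ζ) * z₁ * z₂)) ^ p =
      (1 + algebraMap A S (1 - ζ) * z₁) ^ p * (1 + algebraMap A S (1 - ζ) * z₂) ^ p := by
    rw [← mul_pow]
    congr 1
    ring
  rw [hab] at h3
  generalize (1 + algebraMap A S (1 - ζ) * z₁) ^ p = α at h1 h3
  generalize (1 + algebraMap A S (1 - ζ) * z₂) ^ p = β at h2 h3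
  generalize aeval z₁ (Pdef p ζ) = P₁ at h1 ⊢
  generalize aeval z₂ (Pdef p ζ) = P₂ at h2 ⊢
  generalize aeval (z₁ + z₂ + algebraMap A S (1 - ζ) * z₁ * z₂) (Pdef p ζ) = P₃ at h3 ⊢
  generalize algebraMap A S ((1 - ζ) ^ p) = W at h1 h2 h3 ⊢
  linear_combination h3 - h1 - h2 - (W * P₂) * h1 - (α - 1) * h2

/-- the universal case -/
lemma claim3_univ :
    aeval ((MvPolynomial.X 0 : MvPolynomial (Fin 2) (A0 p)) + MvPolynomial.X 1 +
        algebraMap (A0 p) (MvPolynomial (Fin 2) (A0 p)) (1 - AdjoinRoot.root (cyclotomic p ℤ)) *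
          MvPolynomial.X 0 * MvPolynomial.X 1)
      (Pdef p (AdjoinRoot.root (cyclotomic p ℤ))) =
    aeval (MvPolynomial.X 0 : MvPolynomial (Fin 2) (A0 p))
        (Pdef p (AdjoinRoot.root (cyclotomic p ℤ))) +
      aeval (MvPolynomial.X 1 : MvPolynomial (Fin 2) (A0 p))
        (Pdef p (AdjoinRoot.root (cyclotomic p ℤ))) +
      algebraMap (A0 p) (MvPolynomial (Fin 2) (A0 p))
          ((1 - AdjoinRoot.root (cyclotomic p ℤ)) ^ p) *
        aeval (MvPolynomial.X 0 : MvPolynomial (Fin 2) (A0 p))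
          (Pdef p (AdjoinRoot.root (cyclotomic p ℤ))) *
        aeval (MvPolynomial.X 1 : MvPolynomial (Fin 2) (A0 p))
          (Pdef p (AdjoinRoot.root (cyclotomic p ℤ))) := by
  have hroot : aeval (AdjoinRoot.root (cyclotomic p ℤ)) (cyclotomic p ℤ) = 0 := by
    rw [aeval_def]
    exact AdjoinRoot.eval₂_root _
  have h := mul_diff_eq_zero p (AdjoinRoot.root (cyclotomic p ℤ)) hroot
    (MvPolynomial.X 0 : MvPolynomial (Fin 2) (A0 p)) (MvPolynomial.X 1)
  have hW : algebraMap (A0 p) (MvPolynomial (Fin 2) (A0 p))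
      ((1 - AdjoinRoot.root (cyclotomic p ℤ)) ^ p) ≠ 0 := by
    rw [MvPolynomial.algebraMap_eq, Ne, MvPolynomial.C_eq_zero]
    apply pow_ne_zero
    rw [sub_ne_zero]
    exact ((isPrimitiveRoot_root p).ne_one hp.out.one_lt).symm
  rcases mul_eq_zero.mp h with h0 | h0
  · exact absurd h0 hW
  · exact sub_eq_zero.mp h0

end Add

section Transfer

open Polynomial

variable (p : ℕ) [hp : Fact p.Prime] {A : Type u} [CommRing A] (ζ : A)
  (hζ : aeval ζ (cyclotomic p ℤ) = 0)

lemma Pdef_map : (Pdef p (AdjoinRoot.root (cyclotomic p ℤ))).map (phi p ζ hζ) = Pdef p ζ := by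
  simp only [Pdef, eps, Polynomial.map_prod, Polynomial.map_add, map_X, map_C, map_sum, map_pow,
    Polynomial.map_sum, Polynomial.map_pow, phi_root]

variable {S : Type u} [CommRing S] [Algebra A S] (z₁ z₂ : S)

/-- the specialization map from the universal case -/
noncomputable def psi : MvPolynomial (Fin 2) (A0 p) →+* S :=
  MvPolynomial.eval₂Hom ((algebraMap A S).comp (phi p ζ hζ)) ![z₁, z₂]

lemma psi_algebraMap (c : A0 p) :
    psi p ζ hζ z₁ z₂ (algebraMap (A0 p) (MvPolynomial (Fin 2) (A0 p)) c) =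
      algebraMap A S (phi p ζ hζ c) := by
  simp [psi, MvPolynomial.algebraMap_eq]

lemma psi_aeval (q : (A0 p)[X]) (z : MvPolynomial (Fin 2) (A0 p)) :
    psi p ζ hζ z₁ z₂ (aeval z q) = aeval (psi p ζ hζ z₁ z₂ z) (q.map (phi p ζ hζ)) := by
  rw [aeval_def, Polynomial.hom_eval₂, aeval_def, Polynomial.eval₂_map]
  congr 1
  exact RingHom.ext fun c => psi_algebraMap p ζ hζ z₁ z₂ c

include hζ in
lemma claim3 :
    aeval (z₁ + z₂ + algebraMap A S (1 - ζ) * z₁ * z₂) (Pdef p ζ) =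
      aeval z₁ (Pdef p ζ) + aeval z₂ (Pdef p ζ) +
        algebraMap A S ((1 - ζ) ^ p) * aeval z₁ (Pdef p ζ) * aeval z₂ (Pdef p ζ) := by
  have h := congrArg (psi p ζ hζ z₁ z₂) (claim3_univ p)
  simp only [map_add, map_mul, psi_aeval, psi_algebraMap, Pdef_map, map_sub, map_one, map_pow,
    phi_root] at h
  have hx0 : psi p ζ hζ z₁ z₂ (MvPolynomial.X 0) = z₁ := by simp [psi]
  have hx1 : psi p ζ hζ z₁ z₂ (MvPolynomial.X 1) = z₂ := by simp [psi]
  rw [hx0, hx1] at h
  simpa using h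

end Transfer

open Polynomial in
/-- Let p be a prime and A a ring with an element ζ satisfying 1 + ζ + ... + ζ^(p-1) = 0 (so that A is
an algebra over the ring of integers of the p-th cyclotomic field); set w = 1 - ζ. Then the
polynomial ((1 + wz)^p - 1)/w^p makes sense in A[z]: there is P in A[z] with w^p·P = (1 + wz)^p - 1,
of the form z^p - z + Σ_{0<i<p} a_i z^i with all a_i in the ideal (w), and P(z₁ + z₂ + w z₁ z₂) =
P(z₁) + P(z₂) + w^p P(z₁)P(z₂) for all z₁, z₂ in any A-algebra. (The published statement asks only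
for a primitive p-th root of unity; this row asks that ζ be a root of the p-th cyclotomic
polynomial, the case its proof treats. With ζ only of multiplicative order p the published statement
fails, for example for ζ = (1, e^{2πi/p}) in ℂ × ℂ.) -/
theorem result (p : ℕ) (hp : p.Prime) (A : Type u) [CommRing A] (ζ : A)
    (hζ : aeval ζ (cyclotomic p ℤ) = 0) :
    ∃ P : A[X], C ((1 - ζ) ^ p) * P = (1 + C (1 - ζ) * X) ^ p - 1 ∧
      (∃ a : ℕ → A, (∀ i, a i ∈ Ideal.span {1 - ζ}) ∧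
        P = X ^ p - X + (Finset.Ioo 0 p).sum (fun i => C (a i) * X ^ i)) ∧
      ∀ (S : Type u) [CommRing S] [Algebra A S] (z₁ z₂ : S),
        aeval (z₁ + z₂ + algebraMap A S (1 - ζ) * z₁ * z₂) P =
          aeval z₁ P + aeval z₂ P + algebraMap A S ((1 - ζ) ^ p) * aeval z₁ P * aeval z₂ P := by
  haveI : Fact p.Prime := ⟨hp⟩
  exact ⟨Pdef p ζ, claim1 p ζ hζ, claim2 p ζ hζ, fun S _ _ z₁ z₂ => claim3 p ζ hζ z₁ z₂⟩

end Groth.Agent.S7140
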