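import Mathlib
import Groth.Statements.S9819
import Groth.Agent.H22.FTExt

set_option autoImplicit false
set_option linter.style.haveILetI false
universe u
open CategoryTheory CategoryTheory.Limits AlgebraicGeometry TopologicalSpace Opposite
open Props

namespace Groth.Agent.S9819

open Groth.Agent.H22 Groth.Agent.H22.SubSh Groth.Agent.H8 in
/-- On a quasi-compact quasi-separated scheme, every local section of a quasi-coherent module over an
affine open lies in some quasi-coherent submodule of finite type; hence the module is the directed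
union of its quasi-coherent submodules of finite type. -/
theorem result {X : Scheme.{u}} [CompactSpace X]
    [QuasiSeparatedSpace X] (F : X.Modules) [Coh.IsQCoh F] (U : X.affineOpens)
    (s : F.val.obj (op (U : X.Opens))) :
    ∃ (G : X.Modules) (i : G ⟶ F), Mono i ∧ Coh.IsQCoh G ∧ CohB1.IsFT G ∧
      ∃ g : G.val.obj (op (U : X.Opens)), (i.val.app (op (U : X.Opens))).hom g = s := by
  haveI : F.IsQuasicoherent := ‹Coh.IsQCoh F›
  obtain ⟨s', hs'⟩ : ∃ s' : Γ(F, U.1), s' = s := ⟨s, rfl⟩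
  obtain ⟨S, hSfin, hS⟩ := (isCompact_and_isOpen_iff_finite_and_eq_biUnion_affineOpens
    (X := X) (U := Set.univ)).mp ⟨isCompact_univ, isOpen_univ⟩
  have hcompU : ∀ A : X.Opens, IsAffineOpen A →
      IsCompact ((A ⊓ U.1 : X.Opens) : Set X) := fun A hA =>
    QuasiSeparatedSpace.inter_isCompact _ _ A.2 hA.isCompact U.1.2 U.2.isCompact
  have hbot : IsCompact (((⊥ : X.Opens) ⊓ U.1 : X.Opens) : Set X) := by
    have h1 : (((⊥ : X.Opens) ⊓ U.1 : X.Opens) : Set X) = ∅ := by simp
    rw [h1]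
    exact isCompact_empty
  obtain ⟨K₁, hK₁, -, -, hfg₁, hs₁⟩ := (top F).exists_shrink QC_top ⊥ (ftOn_bot _) U.1 U.2
    hbot hcompU (fun _ : PUnit.{u + 1} => s') (fun _ => trivial)
  have hft₁ : K₁.FTOn U.1 := K₁.ftOn_of_fg hK₁ U.2 hfg₁
  obtain ⟨K', hK', hle', hge', hft'⟩ :=
    exists_ft_of_list hSfin.toFinset.toList K₁ hK₁ U.1 U.2.isCompact hft₁
  have htop : U.1 ⊔ listSup hSfin.toFinset.toList = ⊤ := by
    rw [eq_top_iff]
    intro p _
    have hp : p ∈ (Set.univ : Set X) := trivial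
    rw [hS] at hp
    obtain ⟨V, hV, hpV⟩ := Set.mem_iUnion₂.mp hp
    exact Opens.mem_sup.mpr (Or.inr
      (le_listSup (Finset.mem_toList.mpr (hSfin.mem_toFinset.mpr hV)) hpV))
  rw [htop] at hft'
  refine ⟨K'.toModules, K'.ι, inferInstance, K'.isQuasicoherent_toModules hK',
    K'.isFiniteType_toModules hK' hft', ?_⟩
  have hmem : K'.mem U.1 s' := hge' U.1 le_rfl s' (hs₁ PUnit.unit)
  refine ⟨K'.ofSub ⟨s', hmem⟩, ?_⟩
  rw [← hs']
  rfl

end Groth.Agent.S9819
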