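-- Statement S2006: finiteness descends along (R', R_f).
import Groth.Statements.S2006
import Groth.Agent.H10.Glue
import Mathlib.RingTheory.Localization.Finiteness
import Mathlib.RingTheory.Localization.Module

set_option autoImplicit false
universe u
open TensorProduct
open EtAlg

namespace Groth.Agent.S2006

/-- Let R -> R' induce bijections R/f^n R -> R'/f^n R' for all n > 0 and let M be an R-module. Then M is
finitely generated if and only if R' ⊗_R M is finitely generated over R' and M_f is finitely
generated over R_f. -/
theorem result (R R' : Type u) [CommRing R] [CommRing R'] [Algebra R R'] (f : R)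
    (hq : EtGlue.QuotPowBijective R R' f) (M : Type u) [AddCommGroup M] [Module R M] :
    Module.Finite R M ↔ Module.Finite R' (R' ⊗[R] M) ∧
      Module.Finite (Localization.Away f) (LocalizedModule (Submonoid.powers f) M) := by
  classical
  constructor
  · intro h
    exact ⟨inferInstance, inferInstance⟩
  · rintro ⟨h1, h2⟩
    -- generators of `R' ⊗ M`
    obtain ⟨s₁, hs₁⟩ := h1.fg_top
    obtain ⟨N₁, hN₁, hsN₁⟩ := TensorProduct.exists_finite_submodule_right_of_setFinite
      (s₁ : Set (R' ⊗[R] M)) s₁.finite_toSet
    -- generators of `M_f`
    obtain ⟨s₂, hs₂⟩ := h2.fg_top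
    have hsurj := fun x : LocalizedModule (Submonoid.powers f) M =>
      IsLocalizedModule.surj (Submonoid.powers f)
        (LocalizedModule.mkLinearMap (Submonoid.powers f) M) x
    choose c hc using hsurj
    let N₂ : Submodule R M := Submodule.span R ((s₂.image fun x => (c x).1 : Finset M) : Set M)
    have hN₂ : N₂.FG := Submodule.fg_span (Finset.finite_toSet _)
    let M₀ : Submodule R M := N₁ ⊔ N₂
    have hM₀ : M₀.FG := (Module.Finite.iff_fg.mp hN₁).sup hN₂
    -- the quotient is zero
    have hQ : Subsingleton (M ⧸ M₀) := by
      apply Groth.Agent.H10.Glue.subsingleton_of_tensor_of_localized hq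
      · -- `R' ⊗ Q = 0`
        have hsur : Function.Surjective (M₀.mkQ.baseChange R') :=
          LinearMap.lTensor_surjective R' (Submodule.mkQ_surjective M₀)
        have hker : LinearMap.ker (M₀.mkQ.baseChange R') = ⊤ := by
          rw [eq_top_iff, ← hs₁, Submodule.span_le]
          intro x hx
          obtain ⟨y, rfl⟩ := hsN₁ hx
          rw [SetLike.mem_coe, LinearMap.mem_ker]
          change (M₀.mkQ.lTensor R') (N₁.subtype.lTensor R' y) = 0
          rw [← LinearMap.comp_apply, ← LinearMap.lTensor_comp]
          have : M₀.mkQ ∘ₗ N₁.subtype = 0 := by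
            ext n
            simp only [LinearMap.comp_apply, Submodule.subtype_apply, Submodule.mkQ_apply,
              LinearMap.zero_apply, Submodule.Quotient.mk_eq_zero]
            exact Submodule.mem_sup_left n.2
          rw [this, LinearMap.lTensor_zero, LinearMap.zero_apply]
        refine ⟨fun a b => ?_⟩
        obtain ⟨a', rfl⟩ := hsur a
        obtain ⟨b', rfl⟩ := hsur b
        have ha : a' ∈ LinearMap.ker (M₀.mkQ.baseChange R') := hker ▸ Submodule.mem_top
        have hb : b' ∈ LinearMap.ker (M₀.mkQ.baseChange R') := hker ▸ Submodule.mem_top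
        rw [LinearMap.mem_ker.mp ha, LinearMap.mem_ker.mp hb]
      · -- `Q_f = 0`
        let g := LocalizedModule.map (Submonoid.powers f) M₀.mkQ
        have hsur : Function.Surjective g :=
          LocalizedModule.map_surjective (Submonoid.powers f) _ (Submodule.mkQ_surjective M₀)
        have hker : LinearMap.ker g = ⊤ := by
          rw [eq_top_iff, ← hs₂, Submodule.span_le]
          intro x hx
          rw [SetLike.mem_coe, LinearMap.mem_ker]
          have h3 : (c x).2 • g x = 0 := by
            have h4 : g ((c x).2 • x) = (c x).2 • g x := by
              rw [Submonoid.smul_def, Submonoid.smul_def, ← algebraMap_smul (Localization.Away f),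
                map_smul, algebraMap_smul]
            rw [← h4, hc x, LocalizedModule.mkLinearMap_apply, LocalizedModule.map_mk]
            have : M₀.mkQ (c x).1 = 0 := by
              rw [Submodule.mkQ_apply, Submodule.Quotient.mk_eq_zero]
              apply Submodule.mem_sup_right
              apply Submodule.subset_span
              exact Finset.mem_coe.mpr (Finset.mem_image_of_mem _ hx)
            rw [this, LocalizedModule.zero_mk]
          exact (IsLocalizedModule.smul_inj
            (LocalizedModule.mkLinearMap (Submonoid.powers f) (M ⧸ M₀)) (c x).2 _ _).mp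
              (by rw [h3, smul_zero])
        refine ⟨fun a b => ?_⟩
        obtain ⟨a', rfl⟩ := hsur a
        obtain ⟨b', rfl⟩ := hsur b
        have ha : a' ∈ LinearMap.ker g := hker ▸ Submodule.mem_top
        have hb : b' ∈ LinearMap.ker g := hker ▸ Submodule.mem_top
        rw [LinearMap.mem_ker.mp ha, LinearMap.mem_ker.mp hb]
    rw [Submodule.Quotient.subsingleton_iff] at hQ
    rw [Module.finite_def, ← hQ]
    exact hM₀

end Groth.Agent.S2006
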