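import Groth.Statements.S8596
import Groth.Agent.H82.TorFlat
import Groth.Agent.H10.FlatDescent

set_option autoImplicit false
universe u
open CategoryTheory CategoryTheory.Limits
open CAlg

namespace Groth.Agent.S8596

open MonoidalCategory TensorProduct
open Groth.Agent.H10.FlatDescent Groth.Agent.H82.LDer Groth.Agent.H82.TorLib
  Groth.Agent.H82.TorFlat

section Lib

variable {A : Type u} [CommRing A]

/-- The canonical presentation `0 → rel M → FG M → M → 0` as a short complex. -/
noncomputable def presS (M : Type u) [AddCommGroup M] [Module A M] :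
    ShortComplex (ModuleCat.{u} A) :=
  ModuleCat.shortComplexOfCompEqZero (rel (R := A) M).subtype (pres (R := A) M)
    (pres_exact (R := A) M).linearMap_comp_eq_zero

theorem presS_shortExact (M : Type u) [AddCommGroup M] [Module A M] :
    (presS (A := A) M).ShortExact :=
  shortExact_of (rel (R := A) M).subtype (pres (R := A) M) (Submodule.subtype_injective _)
    (pres_surjective M) (pres_exact M)

/-- Higher Tor against a flat module vanishes. -/
theorem isZero_tor_flat (N : ModuleCat.{u} A) (F : Type u) [AddCommGroup F] [Module A F]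
    [Module.Flat A F] (i : ℕ) :
    IsZero (((Tor (ModuleCat.{u} A) (i + 1)).obj N).obj (ModuleCat.of A F)) := by
  have h : Subsingleton (DRing.Tor A (i + 1) N F) :=
    Groth.Agent.H10.TorFlat.tor_succ_subsingleton_of_flat_right (R := A) N i F
  exact @ModuleCat.isZero_of_subsingleton _ _ _ h

/-- Dimension shifting, downwards. -/
theorem shift_down (N : ModuleCat.{u} A) (M : Type u) [AddCommGroup M] [Module A M] (i : ℕ)
    (h : IsZero (((Tor (ModuleCat.{u} A) (i + 1 + 1)).obj N).obj (ModuleCat.of A M))) :
    IsZero (((Tor (ModuleCat.{u} A) (i + 1)).obj N).obj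
      (ModuleCat.of A (rel (R := A) M))) := by
  obtain ⟨-, -, δ, w₁, w₂, e1, e2⟩ :=
    hasLES_tor N (presS (A := A) M) (presS_shortExact M) (i + 1)
  have hz : IsZero (((Tor (ModuleCat.{u} A) (i + 1)).obj N).obj
      (ModuleCat.of A (FG (R := A) M))) := isZero_tor_flat N (FG (R := A) M) i
  have he : Epi δ := e2.epi_f (hz.eq_of_tgt _ _)
  exact @IsZero.of_epi _ _ _ _ _ δ he h

/-- Dimension shifting, upwards. -/
theorem shift_up (N : ModuleCat.{u} A) (M : Type u) [AddCommGroup M] [Module A M] (i : ℕ)
    (h : IsZero (((Tor (ModuleCat.{u} A) (i + 1)).obj N).obj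
      (ModuleCat.of A (rel (R := A) M)))) :
    IsZero (((Tor (ModuleCat.{u} A) (i + 1 + 1)).obj N).obj (ModuleCat.of A M)) := by
  obtain ⟨-, -, δ, w₁, w₂, e1, e2⟩ :=
    hasLES_tor N (presS (A := A) M) (presS_shortExact M) (i + 1)
  have hz : IsZero (((Tor (ModuleCat.{u} A) (i + 1 + 1)).obj N).obj
      (ModuleCat.of A (FG (R := A) M))) := isZero_tor_flat N (FG (R := A) M) (i + 1)
  have hm : Mono δ := e1.mono_g (hz.eq_of_src _ _)
  exact @IsZero.of_mono _ _ _ _ _ δ hm h

/-- Vanishing of the categorical `Tor₁` gives the elementary `TorZero`. -/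
theorem torZero_of_isZero (N : Type u) [AddCommGroup N] [Module A N] (M : Type u)
    [AddCommGroup M] [Module A M]
    (h : IsZero (((Tor (ModuleCat.{u} A) 1).obj (ModuleCat.of A N)).obj (ModuleCat.of A M))) :
    TorZero (R := A) N M := by
  have hm := mono_whiskerLeft_of_isZero_tor_one (ModuleCat.of A N) (presS (A := A) M)
    (presS_shortExact M) h
  rw [ModuleCat.mono_iff_injective] at hm
  exact hm

theorem torZero_of_subsingleton (N : Type u) [AddCommGroup N] [Module A N] [Subsingleton N]
    (M : Type u) [AddCommGroup M] [Module A M] : TorZero (R := A) N M := by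
  rw [torZero_iff]
  exact Function.injective_of_subsingleton _

/-- Devissage: `TorZero (A ⧸ q) M'` for all primes `q ⊇ J` gives `TorZero N M'` for all finite `N`
killed by `J`. -/
theorem devissage [IsNoetherianRing A] (J : Set A) (M' : Type u) [AddCommGroup M'] [Module A M']
    (hq : ∀ q : Ideal A, q.IsPrime → J ⊆ (q : Set A) → TorZero (R := A) (A ⧸ q) M')
    (N : Type u) [AddCommGroup N] [Module A N] [hN : Module.Finite A N] :
    (∀ a ∈ J, ∀ x : N, a • x = 0) → TorZero (R := A) N M' := by
  induction hN using IsNoetherianRing.induction_on_isQuotientEquivQuotientPrime A with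
  | subsingleton N =>
    intro _
    exact torZero_of_subsingleton N M'
  | quotient N p f =>
    intro hk
    have hJ : J ⊆ (p.1 : Set A) := by
      intro a ha
      have h1 : a • f.symm 1 = 0 := hk a ha _
      have h2 : a • (1 : A ⧸ p.1) = 0 := by
        have h3 := congrArg f h1
        rwa [map_smul, LinearEquiv.apply_symm_apply, map_zero] at h3
      rw [Algebra.smul_def, mul_one, Ideal.Quotient.algebraMap_eq] at h2
      exact Ideal.Quotient.eq_zero_iff_mem.mp h2
    exact TorZero.of_retract f.toLinearMap f.symm.toLinearMap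
      (LinearMap.ext fun x => f.symm_apply_apply x) (hq p.1 p.2 hJ)
  | exact N₁ N₂ N₃ f g hf hg hfg h₁ h₃ =>
    intro hk
    refine TorZero.of_exact (h₁ ?_) (h₃ ?_) f g hf hg hfg
    · intro a ha x
      apply hf
      rw [map_smul, hk a ha, map_zero]
    · intro a ha x
      obtain ⟨y, rfl⟩ := hg x
      rw [← map_smul, hk a ha, map_zero]

theorem algebraMapSubmonoid_primeCompl (p : Ideal A) [p.IsPrime] :
    Algebra.algebraMapSubmonoid (A ⧸ p) p.primeCompl = nonZeroDivisors (A ⧸ p) := by
  ext x
  rw [mem_nonZeroDivisors_iff_ne_zero, Algebra.algebraMapSubmonoid, Submonoid.mem_map]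
  constructor
  · rintro ⟨s, hs, rfl⟩
    intro h
    rw [Ideal.Quotient.algebraMap_eq] at h
    exact hs (Ideal.Quotient.eq_zero_iff_mem.mp h)
  · intro hx
    obtain ⟨s, rfl⟩ := Ideal.Quotient.mk_surjective x
    exact ⟨s, fun hs => hx (Ideal.Quotient.eq_zero_iff_mem.mpr hs), rfl⟩

/-- The map `A ⧸ p → κ(p)`, as an `A`-linear map. -/
noncomputable abbrev iota (p : Ideal A) [p.IsPrime] : (A ⧸ p) →ₗ[A] p.ResidueField :=
  (IsScalarTower.toAlgHom A (A ⧸ p) p.ResidueField).toLinearMap

/-- Multiplication by `s` on `A ⧸ p`. -/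
noncomputable abbrev mulS (p : Ideal A) (s : A) : (A ⧸ p) →ₗ[A] (A ⧸ p) :=
  s • LinearMap.id

/-- Elements of `(A ⧸ p) ⊗ X` dying in `κ(p) ⊗ X` are killed by some `s ∉ p`. -/
theorem exists_smul_eq_zero (p : Ideal A) [p.IsPrime] (X : Type u) [AddCommGroup X] [Module A X]
    (y : (A ⧸ p) ⊗[A] X) (hy : ((iota p).rTensor X) y = 0) :
    ∃ s : A, s ∉ p ∧ s • y = 0 := by
  have h1 : IsLocalization (Algebra.algebraMapSubmonoid (A ⧸ p) p.primeCompl)
      p.ResidueField := by
    rw [algebraMapSubmonoid_primeCompl]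
    exact (inferInstance : IsFractionRing (A ⧸ p) p.ResidueField)
  have h2 : IsLocalizedModule p.primeCompl (iota p) :=
    isLocalizedModule_iff_isLocalization.mpr h1
  have h3 : IsLocalizedModule p.primeCompl
      (TensorProduct.AlgebraTensorModule.rTensor A X (iota p)) := inferInstance
  obtain ⟨s, hs⟩ := (IsLocalizedModule.eq_zero_iff p.primeCompl
    (TensorProduct.AlgebraTensorModule.rTensor A X (iota p))).mp hy
  exact ⟨s.1, s.2, hs⟩

theorem mulS_injective (p : Ideal A) [p.IsPrime] (s : A) (hs : s ∉ p) :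
    Function.Injective (mulS p s) := by
  rw [injective_iff_map_eq_zero]
  intro b hb
  have hb0 : s • b = 0 := hb
  rw [Algebra.smul_def, Ideal.Quotient.algebraMap_eq] at hb0
  rcases mul_eq_zero.mp hb0 with h | h
  · exact absurd (Ideal.Quotient.eq_zero_iff_mem.mp h) hs
  · exact h

theorem kill (p : Ideal A) (s : A) :
    ∀ a ∈ ((p : Set A) ∪ {s}), ∀ x : (A ⧸ p) ⧸ LinearMap.range (mulS p s), a • x = 0 := by
  intro a ha x
  obtain ⟨b, rfl⟩ := Submodule.mkQ_surjective _ x
  rw [← map_smul]
  rcases ha with ha | ha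
  · have h0 : a • b = 0 := by
      rw [Algebra.smul_def, Ideal.Quotient.algebraMap_eq,
        Ideal.Quotient.eq_zero_iff_mem.mpr ha, zero_mul]
    rw [h0, map_zero]
  · have ha' : a = s := ha
    rw [ha']
    exact (Submodule.Quotient.mk_eq_zero _).mpr (LinearMap.mem_range.mpr ⟨b, rfl⟩)

/-- The prime step. -/
theorem prime_step (p : Ideal A) [p.IsPrime] (M : Type u) [AddCommGroup M] [Module A M]
    (h1 : TorZero (R := A) p.ResidueField M)
    (h2 : ∀ s : A, s ∉ p →
      TorZero (R := A) ((A ⧸ p) ⧸ LinearMap.range (mulS p s)) (rel (R := A) M)) :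
    TorZero (R := A) (A ⧸ p) M := by
  rw [torZero_iff] at h1 ⊢
  rw [injective_iff_map_eq_zero]
  intro y hy
  have e1 : (rel (R := A) M).subtype.lTensor p.ResidueField
      ((iota p).rTensor (rel (R := A) M) y) = 0 := by
    rw [Groth.Agent.H10.FlatDescent.sq, hy, map_zero]
  have e2 : (iota p).rTensor (rel (R := A) M) y = 0 := h1 (e1.trans (map_zero _).symm)
  obtain ⟨s, hs, hsy⟩ := exists_smul_eq_zero p (rel (R := A) M) y e2
  have key := (h2 s hs).rTensor_injective (mulS p s) (LinearMap.range (mulS p s)).mkQ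
    (mulS_injective p s hs) (Submodule.mkQ_surjective _) (LinearMap.exact_map_mkQ_range _)
  apply key
  have h3 : (mulS p s).rTensor (rel (R := A) M) y = s • y := by
    rw [LinearMap.rTensor_smul, LinearMap.rTensor_id]
    rfl
  rw [h3, hsy, map_zero]

/-- Vanishing of all higher Tor against residue fields. -/
def PP (M : Type u) [AddCommGroup M] [Module A M] : Prop :=
  ∀ (x : Ideal A) [x.IsPrime] (i : ℕ),
    IsZero (((Tor (ModuleCat.{u} A) (i + 1)).obj (ModuleCat.of A x.ResidueField)).obj
      (ModuleCat.of A M))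

theorem PP.rel {M : Type u} [AddCommGroup M] [Module A M] (h : PP (A := A) M) :
    PP (A := A) (rel (R := A) M) :=
  fun x _ i => shift_down (ModuleCat.of A x.ResidueField) M i (h x (i + 1))

theorem torZero_quot_prime [IsNoetherianRing A] (I : Ideal A) :
    I.IsPrime → ∀ (M : Type u) [AddCommGroup M] [Module A M], PP (A := A) M →
      TorZero (R := A) (A ⧸ I) M := by
  refine IsNoetherian.induction (P := fun I : Ideal A => I.IsPrime →
    ∀ (M : Type u) [AddCommGroup M] [Module A M], PP (A := A) M →
      TorZero (R := A) (A ⧸ I) M) (fun p ih => ?_) I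
  intro hp M _ _ hM
  have := hp
  refine prime_step p M (torZero_of_isZero _ _ (hM p 0)) (fun s hs => ?_)
  refine devissage ((p : Set A) ∪ {s}) (rel (R := A) M) (fun q hq hJ => ?_)
    ((A ⧸ p) ⧸ LinearMap.range (mulS p s)) (kill p s)
  have hlt : p < q := by
    rw [SetLike.lt_iff_le_and_exists]
    exact ⟨fun a ha => hJ (Or.inl ha), s, hJ (Or.inr rfl), hs⟩
  exact ih q hlt hq (rel (R := A) M) hM.rel

theorem flat_of_PP [IsNoetherianRing A] (M : Type u) [AddCommGroup M] [Module A M]
    (hM : PP (A := A) M) : Module.Flat A M := by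
  refine flat_of_torZero (fun I => ?_)
  exact devissage (∅ : Set A) M (fun q hq _ => torZero_quot_prime q hq M hM) (A ⧸ I)
    (fun a ha => absurd ha (Set.notMem_empty a))

theorem main_type [IsNoetherianRing A] (n : ℕ) :
    ∀ (M : Type u) [AddCommGroup M] [Module A M],
      (∀ (x : Ideal A) [x.IsPrime] (i : ℕ), n < i →
        IsZero (((Tor (ModuleCat.{u} A) i).obj (ModuleCat.of A x.ResidueField)).obj
          (ModuleCat.of A M))) →
      ∀ (N : ModuleCat.{u} A) (i : ℕ), n < i →
        IsZero (((Tor (ModuleCat.{u} A) i).obj N).obj (ModuleCat.of A M)) := by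
  induction n with
  | zero =>
    intro M _ _ h N i hi
    obtain ⟨j, rfl⟩ : ∃ j, i = j + 1 := ⟨i - 1, by omega⟩
    have hflat : Module.Flat A M :=
      flat_of_PP M (fun x _ k => h x (k + 1) (Nat.succ_pos k))
    exact isZero_tor_flat N M j
  | succ n ih =>
    intro M _ _ h N i hi
    obtain ⟨j, rfl⟩ : ∃ j, i = j + 1 + 1 := ⟨i - 2, by omega⟩
    refine shift_up N M j (ih (rel (R := A) M) (fun x _ k hk => ?_) N (j + 1) (by omega))
    obtain ⟨l, rfl⟩ : ∃ l, k = l + 1 := ⟨k - 1, by omega⟩
    exact shift_down _ M l (h x (l + 1 + 1) (by omega))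

end Lib

/-- Case of a complex reduced to a single module in degree 0: let A be a commutative Noetherian ring, M
an A-module (not necessarily finitely generated) and n ≥ 0. Then M has tor-dimension at most n —
Tor_i^A(N, M) = 0 for every A-module N and every i > n, the Tor being the left derived functors of N
⊗ - evaluated at M — if and only if Tor_i^A(k(x), M) = 0 for every prime ideal x of A, with residue
field k(x), and every i > n. (The published statement gives the equivalence for bounded-above
complexes K and the derived tensor product K ⊗^L k(x); this is the case K = M[0].) -/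
theorem result (A : Type u) [CommRing A] [IsNoetherianRing A]
    (M : ModuleCat.{u} A) (n : ℕ) :
    (∀ (N : ModuleCat.{u} A) (i : ℕ), n < i → IsZero (((Tor (ModuleCat.{u} A) i).obj N).obj M)) ↔
    (∀ (x : Ideal A) [x.IsPrime] (i : ℕ), n < i →
      IsZero (((Tor (ModuleCat.{u} A) i).obj (ModuleCat.of A x.ResidueField)).obj M)) := by
  constructor
  · intro h x _ i hi
    exact h _ i hi
  · intro h N i hi
    exact main_type (A := A) n M (fun x _ k hk => h x k hk) N i hi

end Groth.Agent.S8596
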