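import Groth.Statements.S6315
import Groth.Agent.H82.TorFlat

set_option autoImplicit false
universe u
open CategoryTheory
open CAlg

namespace Groth.Agent.S6315

open CategoryTheory.Limits CategoryTheory.MonoidalCategory in
theorem aux (R : Type u) [CommRing R] [IsNoetherianRing R] (M : ModuleCat.{u} R)
    [Module.Finite R M] (p : ℕ) :
    ∀ (N : ModuleCat.{u} R), Module.Finite R N →
      Module.Finite R (((Tor (ModuleCat.{u} R) p).obj M).obj N) := by
  induction p with
  | zero =>
    intro N hN
    let e : ((Tor (ModuleCat.{u} R) 0).obj M).obj N ≅ (tensorLeft M).obj N :=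
      ((tensorLeft M).leftDerivedZeroIsoSelf).app N
    haveI : Module.Finite R (TensorProduct R M N) := inferInstance
    haveI : Module.Finite R ((tensorLeft M).obj N) := ‹Module.Finite R (TensorProduct R M N)›
    exact Module.Finite.equiv e.symm.toLinearEquiv
  | succ p ih =>
    intro N hN
    obtain ⟨k, π, hπ⟩ := Module.Finite.exists_fin' R N
    have hS := LinearMap.shortExact_shortComplexKer hπ
    obtain ⟨-, -, δ, w₁, w₂, e1, e2⟩ := Groth.Agent.H82.TorLib.hasLES_tor M _ hS p
    have hproj : Projective (ModuleCat.of R (Fin k → R)) := inferInstance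
    have hm : Mono δ := e1.mono_g
      ((Groth.Agent.H82.TorLib.vanish_tor M p _ hproj).eq_of_src _ _)
    haveI : Module.Finite R (((Tor (ModuleCat.{u} R) p).obj M).obj
        (ModuleCat.of R (LinearMap.ker π))) :=
      ih (ModuleCat.of R (LinearMap.ker π)) (inferInstanceAs (Module.Finite R (LinearMap.ker π)))
    haveI : IsNoetherian R (((Tor (ModuleCat.{u} R) p).obj M).obj
        (ModuleCat.of R (LinearMap.ker π))) := isNoetherian_of_isNoetherianRing_of_finite R _
    exact Module.Finite.of_injective δ.hom ((ModuleCat.mono_iff_injective δ).mp hm)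



/-- Let R be a Noetherian ring and M, N finite R-modules. Then Tor_pᴿ(M, N) is a finite R-module for all
p. -/
theorem result (R : Type u) [CommRing R] [IsNoetherianRing R] (M N : Type u) [AddCommGroup M] [Module R M] [AddCommGroup N] [Module R N] [Module.Finite R M] [Module.Finite R N] (p : ℕ) : Module.Finite R (((CategoryTheory.Tor (ModuleCat.{u} R) p).obj (ModuleCat.of R M)).obj (ModuleCat.of R N)) := by
  exact aux R (ModuleCat.of R M) p (ModuleCat.of R N) ‹_›

end Groth.Agent.S6315
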