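import Groth.Statements.S7126
import Mathlib

set_option autoImplicit false
universe u
open EtAlg

namespace Groth.Agent.S7126

open TensorProduct

section Action

variable (A B : Type u) [CommRing A] [CommRing B] [Algebra A B]
variable (M : Type u) [AddCommGroup M] [Module A M] [Module B M] [IsScalarTower A B M]
variable (N : Type u) [AddCommGroup N] [Module A N] [Module B N] [IsScalarTower A B N]

/-- action of `B` on the left factor of `M ⊗[A] N`. -/
noncomputable def actL : B →ₐ[A] Module.End A (M ⊗[A] N) :=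
  AlgHom.ofLinearMap ((LinearMap.rTensorHom N).comp (Algebra.lsmul A A M).toLinearMap)
    (by ext m n; simp) (by intro x y; ext m n; simp [mul_smul])

/-- action of `B` on the right factor of `M ⊗[A] N`. -/
noncomputable def actR : B →ₐ[A] Module.End A (M ⊗[A] N) :=
  AlgHom.ofLinearMap ((LinearMap.lTensorHom M).comp (Algebra.lsmul A A N).toLinearMap)
    (by ext m n; simp) (by intro x y; ext m n; simp [mul_smul])

theorem actL_tmul (b : B) (m : M) (n : N) : actL A B M N b (m ⊗ₜ n) = (b • m) ⊗ₜ n := by
  simp [actL]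

theorem actR_tmul (b : B) (m : M) (n : N) : actR A B M N b (m ⊗ₜ n) = m ⊗ₜ (b • n) := by
  simp [actR]

theorem commute_act (b b' : B) : Commute (actL A B M N b) (actR A B M N b') := by
  show _ * _ = _ * _
  ext m n
  simp [actL_tmul, actR_tmul]

/-- the action of `B ⊗[A] B` on `M ⊗[A] N`. -/
noncomputable def rho : (B ⊗[A] B) →ₐ[A] Module.End A (M ⊗[A] N) :=
  Algebra.TensorProduct.lift (actL A B M N) (actR A B M N) (commute_act A B M N)

theorem rho_tmul (b b' : B) (m : M) (n : N) :
    rho A B M N (b ⊗ₜ b') (m ⊗ₜ n) = (b • m) ⊗ₜ (b' • n) := by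
  simp [rho, Algebra.TensorProduct.lift_tmul, actL_tmul, actR_tmul]

variable {M}
variable (M' : Type u) [AddCommGroup M'] [Module A M'] [Module B M'] [IsScalarTower A B M']

theorem rho_nat (f : M' →ₗ[B] M) (c : B ⊗[A] B) (x : M' ⊗[A] N) :
    (f.restrictScalars A).rTensor N (rho A B M' N c x) =
      rho A B M N c ((f.restrictScalars A).rTensor N x) := by
  induction c using TensorProduct.induction_on with
  | zero => simp
  | tmul b b' =>
    induction x using TensorProduct.induction_on with
    | zero => simp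
    | tmul m n => simp [rho_tmul]
    | add x y hx hy => simp only [map_add, hx, hy]
  | add c c' hc hc' => simp only [map_add, LinearMap.add_apply, hc, hc']

variable (M)

theorem pi_rho (c : B ⊗[A] B) (x : M ⊗[A] N) :
    TensorProduct.mapOfCompatibleSMul B A A M N (rho A B M N c x) =
      (Algebra.TensorProduct.lmul' A (S := B) c) •
        TensorProduct.mapOfCompatibleSMul B A A M N x := by
  induction c using TensorProduct.induction_on with
  | zero => simp
  | tmul b b' =>
    induction x using TensorProduct.induction_on with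
    | zero => simp
    | tmul m n =>
      rw [rho_tmul, TensorProduct.mapOfCompatibleSMul_tmul, TensorProduct.mapOfCompatibleSMul_tmul,
        Algebra.TensorProduct.lmul'_apply_tmul, TensorProduct.tmul_smul,
        ← TensorProduct.smul_tmul', smul_smul, mul_comm]
    | add x y hx hy => simp only [map_add, smul_add, hx, hy]
  | add c c' hc hc' => simp only [map_add, LinearMap.add_apply, add_smul, hc, hc']

end Action

section Main

variable (A B : Type u) [CommRing A] [CommRing B] [Algebra A B]
variable (N : Type u) [AddCommGroup N] [Module A N] [Module B N] [IsScalarTower A B N]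

/-- the action map `B ⊗[A] N → N`. -/
noncomputable def alpha : B ⊗[A] N →ₗ[A] N :=
  TensorProduct.lift (Algebra.lsmul A A N).toLinearMap

theorem alpha_tmul (b : B) (n : N) : alpha A B N (b ⊗ₜ n) = b • n := by
  simp [alpha]

theorem alpha_incl (I : Ideal B) (x : I ⊗[A] N) :
    alpha A B N ((I.subtype.restrictScalars A).rTensor N x) =
      TensorProduct.lift ((LinearMap.lsmul B N).comp I.subtype)
        (TensorProduct.mapOfCompatibleSMul B A A I N x) := by
  induction x using TensorProduct.induction_on with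
  | zero => simp
  | tmul i n => simp [alpha_tmul]
  | add x y hx hy => simp only [map_add, hx, hy]

/-- the elements fixed by some element of the kernel of multiplication. -/
def P (x : B ⊗[A] N) : Prop :=
  ∃ j : B ⊗[A] B, Algebra.TensorProduct.lmul' A (S := B) j = 0 ∧ rho A B B N j x = x

variable {A B N}

theorem P_zero : P A B N 0 := ⟨0, by simp, by simp⟩

theorem P_add {x y : B ⊗[A] N} (hx : P A B N x) (hy : P A B N y) : P A B N (x + y) := by
  obtain ⟨j, hj, hjx⟩ := hx
  obtain ⟨j', hj', hjy⟩ := hy
  refine ⟨j + j' - j * j', by simp [hj, hj'], ?_⟩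
  have e1 : rho A B B N (j * j') x = rho A B B N j' x := by
    rw [mul_comm, map_mul, Module.End.mul_apply, hjx]
  have e2 : rho A B B N (j * j') y = rho A B B N j y := by
    rw [map_mul, Module.End.mul_apply, hjy]
  simp only [map_add, map_sub, LinearMap.add_apply, LinearMap.sub_apply, e1, e2, hjx, hjy]
  abel

theorem P_rho
    (hpure : ∀ c : B ⊗[A] B, Algebra.TensorProduct.lmul' A (S := B) c = 0 →
      ∃ y : B ⊗[A] B, Algebra.TensorProduct.lmul' A (S := B) y = 0 ∧ c = c * y)
    {c : B ⊗[A] B} (hc : Algebra.TensorProduct.lmul' A (S := B) c = 0) (x : B ⊗[A] N) :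
    P A B N (rho A B B N c x) := by
  obtain ⟨y, hy, hcy⟩ := hpure c hc
  refine ⟨y, hy, ?_⟩
  rw [← Module.End.mul_apply, ← map_mul, mul_comm, ← hcy]

theorem key
    (hpure : ∀ c : B ⊗[A] B, Algebra.TensorProduct.lmul' A (S := B) c = 0 →
      ∃ y : B ⊗[A] B, Algebra.TensorProduct.lmul' A (S := B) y = 0 ∧ c = c * y)
    (ξ : B ⊗[A] N) : P A B N (ξ - (1 : B) ⊗ₜ[A] alpha A B N ξ) := by
  induction ξ using TensorProduct.induction_on with
  | zero => simpa using P_zero (A := A) (B := B) (N := N)
  | tmul b n =>
    have h1 : b ⊗ₜ[A] n - (1 : B) ⊗ₜ[A] (b • n) =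
        rho A B B N (b ⊗ₜ 1 - 1 ⊗ₜ b) ((1 : B) ⊗ₜ[A] n) := by
      simp [rho_tmul]
    rw [alpha_tmul, h1]
    exact P_rho hpure (by simp) _
  | add x y hx hy =>
    have h1 : x + y - (1 : B) ⊗ₜ[A] alpha A B N (x + y) =
        (x - (1 : B) ⊗ₜ[A] alpha A B N x) + (y - (1 : B) ⊗ₜ[A] alpha A B N y) := by
      rw [map_add, TensorProduct.tmul_add]; abel
    rw [h1]
    exact P_add hx hy

theorem pure_ker (h : (Algebra.TensorProduct.lmul' A (S := B)).Flat) :
    ∀ c : B ⊗[A] B, Algebra.TensorProduct.lmul' A (S := B) c = 0 →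
      ∃ y : B ⊗[A] B, Algebra.TensorProduct.lmul' A (S := B) y = 0 ∧ c = c * y := by
  letI : Algebra (B ⊗[A] B) B := (Algebra.TensorProduct.lmul' A (S := B)).toRingHom.toAlgebra
  have hflat : Module.Flat (B ⊗[A] B) B := h
  have halg : ∀ c : B ⊗[A] B, algebraMap (B ⊗[A] B) B c = Algebra.TensorProduct.lmul' A (S := B) c :=
    fun c => rfl
  have hsurj : Function.Surjective (Algebra.ofId (B ⊗[A] B) B) := fun b =>
    ⟨b ⊗ₜ 1, by rw [Algebra.ofId_apply, halg]; simp⟩
  let e : ((B ⊗[A] B) ⧸ RingHom.ker (Algebra.ofId (B ⊗[A] B) B)) ≃ₗ[B ⊗[A] B] B :=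
    (Ideal.quotientKerAlgEquivOfSurjective hsurj).toLinearEquiv
  have hp : (RingHom.ker (Algebra.ofId (B ⊗[A] B) B)).Pure := Module.Flat.of_linearEquiv e
  intro c hc
  have hc' : c ∈ RingHom.ker (Algebra.ofId (B ⊗[A] B) B) := by
    rw [RingHom.mem_ker, Algebra.ofId_apply, halg, hc]
  obtain ⟨y, hy, hcy⟩ := Ideal.exists_eq_mul_of_pure hc'
  refine ⟨y, ?_, hcy⟩
  rw [RingHom.mem_ker, Algebra.ofId_apply, halg] at hy
  exact hy

end Main

/-- Suppose the multiplication map B ⊗_A B → B of an A-algebra B is flat. Then a B-module that is flat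
over A is also flat over B. -/
theorem result (A B : Type u) [CommRing A] [CommRing B] [Algebra A B]
    (h : (Algebra.TensorProduct.lmul' A (S := B)).Flat) (N : Type u) [AddCommGroup N] [Module B N] [Module A N]
    [IsScalarTower A B N] [Module.Flat A N] : Module.Flat B N := by
  have hpure := pure_ker h
  rw [Module.Flat.iff_lift_lsmul_comp_subtype_injective]
  intro I _
  rw [injective_iff_map_eq_zero]
  intro z hz
  obtain ⟨ξI, rfl⟩ := TensorProduct.mapOfCompatibleSMul_surjective B A A I N z
  have hinj : Function.Injective ((I.subtype.restrictScalars A).rTensor N) :=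
    Module.Flat.rTensor_preserves_injective_linearMap _ Subtype.val_injective
  have hα : alpha A B N ((I.subtype.restrictScalars A).rTensor N ξI) = 0 := by
    rw [alpha_incl, hz]
  have hP := key hpure ((I.subtype.restrictScalars A).rTensor N ξI)
  rw [hα, TensorProduct.tmul_zero, sub_zero] at hP
  obtain ⟨j, hj, hjξ⟩ := hP
  have h1 : rho A B I N j ξI = ξI := hinj (by rw [rho_nat, hjξ])
  calc TensorProduct.mapOfCompatibleSMul B A A I N ξI
      = TensorProduct.mapOfCompatibleSMul B A A I N (rho A B I N j ξI) := by rw [h1]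
    _ = (Algebra.TensorProduct.lmul' A (S := B) j) •
          TensorProduct.mapOfCompatibleSMul B A A I N ξI := pi_rho A B I N j ξI
    _ = 0 := by rw [hj, zero_smul]

end Groth.Agent.S7126
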