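import Groth.Statements.S7129
import Mathlib

set_option autoImplicit false
universe u
open EtAlg

namespace Groth.Agent.S7129

theorem flat_of_isField (R : Type*) [CommRing R] (M : Type*) [AddCommGroup M] [Module R M]
    (h : IsField R) : Module.Flat R M := by
  let _ := h.toField
  infer_instance

theorem isField_of_local_vnr (R : Type*) [CommRing R] [IsLocalRing R]
    (h : ∀ a : R, ∃ b, a = a * a * b) : IsField R := by
  refine ⟨⟨0, 1, zero_ne_one⟩, mul_comm, ?_⟩
  intro a ha
  obtain ⟨b, hb⟩ := h a
  rcases IsLocalRing.isUnit_or_isUnit_one_sub_self (a * b) with hu | hu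
  · exact ⟨b, by
      obtain ⟨u, hu⟩ := hu
      have : a * b * (a * b) = a * b := by
        calc a * b * (a * b) = (a * a * b) * b := by ring
          _ = a * b := by rw [← hb]
      have h1 : (u : R) * u = u := by rw [hu]; exact this
      have h2 : (u : R) = 1 := by
        have := congrArg (fun x => (↑u⁻¹ : R) * x) h1
        simpa [← mul_assoc] using this
      rw [← hu, h2]⟩
  · exfalso
    apply ha
    obtain ⟨u, hu⟩ := hu
    have h0 : a * (1 - a * b) = 0 := by
      calc a * (1 - a * b) = a - a * a * b := by ring
        _ = 0 := by rw [← hb, sub_self]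
    rw [← hu] at h0
    exact (Units.mul_left_eq_zero u).mp h0

theorem vnr_localization {A : Type*} [CommRing A] (h : ∀ a : A, ∃ b, a = a * a * b)
    (S : Submonoid A) (B : Type*) [CommRing B] [Algebra A B] [IsLocalization S B] :
    ∀ x : B, ∃ y, x = x * x * y := by
  intro x
  obtain ⟨a, s, rfl⟩ := IsLocalization.exists_mk'_eq S x
  obtain ⟨b, hb⟩ := h a
  refine ⟨algebraMap A B (b * s), ?_⟩
  have hs : IsLocalization.mk' B a s * algebraMap A B s = algebraMap A B a :=
    IsLocalization.mk'_spec B a s
  have hu : IsUnit (algebraMap A B s) := IsLocalization.map_units B s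
  apply (IsUnit.mul_left_inj hu).mp
  have h1 : algebraMap A B a = algebraMap A B a * algebraMap A B a * algebraMap A B b := by
    rw [← map_mul, ← map_mul, ← hb]
  calc IsLocalization.mk' B a s * algebraMap A B s = algebraMap A B a := hs
    _ = algebraMap A B a * algebraMap A B a * algebraMap A B b := h1
    _ = (IsLocalization.mk' B a s * algebraMap A B s) * (IsLocalization.mk' B a s * algebraMap A B s)
          * algebraMap A B b := by rw [hs]
    _ = IsLocalization.mk' B a s * IsLocalization.mk' B a s * algebraMap A B (b * s)
          * algebraMap A B s := by rw [map_mul]; ring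

theorem flat_of_vnr (A : Type u) [CommRing A] (h : ∀ a : A, ∃ b, a = a * a * b)
    (M : Type u) [AddCommGroup M] [Module A M] : Module.Flat A M := by
  apply Module.flat_of_localized_maximal
  intro P hP
  have hF : IsField (Localization.AtPrime P) :=
    isField_of_local_vnr _ (vnr_localization h P.primeCompl _)
  have : Module.Flat (Localization.AtPrime P) (LocalizedModule P.primeCompl M) :=
    flat_of_isField _ _ hF
  exact Module.Flat.trans A (Localization.AtPrime P) (LocalizedModule P.primeCompl M)

/-- Every module over a product of fields ∏ K_i is flat over it (the product is an absolutely flat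
ring). -/
theorem result (ι : Type u) (K : ι → Type u) [∀ i, Field (K i)] (M : Type u)
    [AddCommGroup M] [Module (∀ i, K i) M] : Module.Flat (∀ i, K i) M := by
  apply flat_of_vnr
  intro a
  refine ⟨fun i => (a i)⁻¹, ?_⟩
  funext i
  by_cases hi : a i = 0
  · simp [hi]
  · simp [hi]

end Groth.Agent.S7129
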