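import Groth.Statements.S7130
import Groth.Agent.S7129
import Mathlib

set_option autoImplicit false
universe u
open EtAlg

namespace Groth.Agent.S7130

theorem vnr_of_allFlat (A : Type u) [CommRing A]
    (h : ∀ (M : Type u) [AddCommGroup M] [Module A M], Module.Flat A M) :
    ∀ a : A, ∃ b, a = a * a * b := by
  intro a
  have : (Ideal.span {a}).Pure := h (A ⧸ Ideal.span {a})
  obtain ⟨y, hy, hxy⟩ := Ideal.exists_eq_mul_of_pure (I := Ideal.span {a})
    (Ideal.subset_span rfl : a ∈ Ideal.span {a})
  obtain ⟨c, rfl⟩ := Ideal.mem_span_singleton'.mp hy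
  exact ⟨c, by
    calc a = a * (c * a) := hxy
      _ = a * a * c := by ring⟩

theorem one_to_three (A : Type u) [CommRing A]
    (h : ∀ (M : Type u) [AddCommGroup M] [Module A M], Module.Flat A M)
    (p : Ideal A) [p.IsPrime] : IsField (Localization.AtPrime p) :=
  Groth.Agent.S7129.isField_of_local_vnr _
    (Groth.Agent.S7129.vnr_localization (vnr_of_allFlat A h) p.primeCompl _)

theorem three_to_one (A : Type u) [CommRing A]
    (h : ∀ (p : Ideal A) [p.IsPrime], IsField (Localization.AtPrime p))
    (M : Type u) [AddCommGroup M] [Module A M] : Module.Flat A M := by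
  apply Module.flat_of_localized_maximal
  intro P hP
  have : Module.Flat (Localization.AtPrime P) (LocalizedModule P.primeCompl M) :=
    Groth.Agent.S7129.flat_of_isField _ _ (h P)
  exact Module.Flat.trans A (Localization.AtPrime P) (LocalizedModule P.primeCompl M)

theorem two_to_three (A : Type u) [CommRing A] (hred : IsReduced A)
    (hmax : ∀ p : Ideal A, p.IsPrime → p.IsMaximal) (p : Ideal A) [hp : p.IsPrime] :
    IsField (Localization.AtPrime p) := by
  have hpmin : p ∈ minimalPrimes A := by
    refine ⟨⟨hp, bot_le⟩, fun q hq hqp => ?_⟩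
    have := hmax q hq.1
    exact (this.eq_of_le hp.ne_top hqp).ge
  have : Ring.KrullDimLE 0 (Localization.AtPrime p) :=
    Ring.KrullDimLE.of_isLocalization p hpmin _
  exact Ring.KrullDimLE.isField_of_isReduced

theorem pow_eq_zero_iff_of_pos_aux {R : Type*} [CommRing R] [IsDomain R] {x : R} {n : ℕ}
    (h : x ^ n = 0) : x = 0 := by
  exact eq_zero_of_pow_eq_zero h

theorem three_to_two (A : Type u) [CommRing A]
    (h : ∀ (p : Ideal A) [p.IsPrime], IsField (Localization.AtPrime p)) :
    IsReduced A ∧ ∀ p : Ideal A, p.IsPrime → p.IsMaximal := by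
  constructor
  · refine ⟨fun x hx => ?_⟩
    apply eq_zero_of_localization
    intro J hJ
    have := (h J).isDomain
    obtain ⟨n, hn⟩ := hx
    have h2 : (algebraMap A (Localization.AtPrime J) x) ^ n = 0 := by
      rw [← map_pow, hn, map_zero]
    exact pow_eq_zero_iff_of_pos_aux h2
  · intro p hp
    obtain ⟨m, hm, hpm⟩ := Ideal.exists_le_maximal p hp.ne_top
    have hmp : m ≤ p := by
      intro x hx
      have hF := h m
      have hnu : ¬ IsUnit (algebraMap A (Localization.AtPrime m) x) := by
        rw [IsLocalization.AtPrime.isUnit_to_map_iff (Localization.AtPrime m) m]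
        simpa using hx
      have h0 : algebraMap A (Localization.AtPrime m) x = 0 := by
        by_contra hne
        obtain ⟨b, hb⟩ := hF.mul_inv_cancel hne
        exact hnu (IsUnit.of_mul_eq_one b hb)
      rw [IsLocalization.map_eq_zero_iff m.primeCompl] at h0
      obtain ⟨s, hs⟩ := h0
      have hsp : (s : A) ∉ p := fun hsp => s.2 (hpm hsp)
      have : (s : A) * x ∈ p := by rw [hs]; exact p.zero_mem
      exact (hp.mem_or_mem this).resolve_left hsp
    rw [le_antisymm hpm hmp]
    exact hm

/-- (2) ⇔ (3) ⇔ (4): for a ring A the following are equivalent: every A-module is flat; A is reduced of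
Krull dimension zero, in the sense that every prime ideal of A is maximal; the local ring A_p is a
field for every prime p. (The further equivalent condition 'A has weak dimension at most zero'
coincides with the first condition by definition and is not listed separately.) -/
theorem result (A : Type u) [CommRing A] :
    List.TFAE [∀ (M : Type u) [AddCommGroup M] [Module A M], Module.Flat A M,
      IsReduced A ∧ ∀ p : Ideal A, p.IsPrime → p.IsMaximal,
      ∀ (p : Ideal A) [p.IsPrime], IsField (Localization.AtPrime p)] := by
  tfae_have 1 → 3 := fun h p _ => one_to_three A h p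
  tfae_have 3 → 1 := fun h M _ _ => three_to_one A h M
  tfae_have 2 → 3 := fun h p _ => two_to_three A h.1 h.2 p
  tfae_have 3 → 2 := fun h => three_to_two A h
  tfae_finish

end Groth.Agent.S7130
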