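import Groth.Statements.S7128
import Groth.Agent.S7126
import Groth.Agent.S7129
import Groth.Agent.S7130
import Mathlib

set_option autoImplicit false
universe u
open EtAlg

namespace Groth.Agent.S7128

open TensorProduct

/-- Absolute flatness ascends along weakly etale ring maps. -/
theorem allFlat_of_weaklyEtale (K B' : Type u) [CommRing K] [CommRing B'] [Algebra K B']
    [Algebra.WeaklyEtale K B']
    (hK : ∀ (M : Type u) [AddCommGroup M] [Module K M], Module.Flat K M)
    (M : Type u) [AddCommGroup M] [Module B' M] : Module.Flat B' M := by
  letI : Module K M := Module.compHom M (algebraMap K B')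
  haveI : IsScalarTower K B' M := IsScalarTower.of_algebraMap_smul (fun r m => rfl)
  haveI := hK M
  exact Groth.Agent.S7126.result K B' (Algebra.WeaklyEtale.flat_lmul' K B') M

/-- A weakly étale algebra over a reduced ring is itself reduced. -/
theorem result (A B : Type u) [CommRing A] [CommRing B] [Algebra A B] [IsReduced A]
    [Algebra.WeaklyEtale A B] : IsReduced B := by
  let κ : PrimeSpectrum A → Type u := fun p => p.asIdeal.ResidueField
  let K := ∀ p : PrimeSpectrum A, κ p
  have hinj : Function.Injective (algebraMap A K) := by
    rw [injective_iff_map_eq_zero]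
    intro a ha
    have h1 : ∀ p : PrimeSpectrum A, a ∈ p.asIdeal := fun p => by
      have : algebraMap A (p.asIdeal.ResidueField) a = 0 := congrFun ha p
      exact Ideal.algebraMap_residueField_eq_zero.mp this
    have h2 : a ∈ nilradical A := by
      rw [nilradical_eq_sInf, Ideal.mem_sInf]
      intro I hI
      exact h1 ⟨I, hI⟩
    rw [nilradical_eq_zero] at h2
    simpa using h2
  have hinjB : Function.Injective (Algebra.TensorProduct.includeRight : B →ₐ[A] K ⊗[A] B) :=
    Algebra.TensorProduct.includeRight_injective hinj
  have hallflat : ∀ (M : Type u) [AddCommGroup M] [Module (K ⊗[A] B) M],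
      Module.Flat (K ⊗[A] B) M :=
    fun M _ _ => allFlat_of_weaklyEtale K (K ⊗[A] B)
      (fun M' _ _ => Groth.Agent.S7129.result (PrimeSpectrum A) κ M') M
  have hred : IsReduced (K ⊗[A] B) :=
    (Groth.Agent.S7130.three_to_two _
      (fun p _ => Groth.Agent.S7130.one_to_three _ hallflat p)).1
  exact isReduced_of_injective _ hinjB

end Groth.Agent.S7128
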