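import Groth.Statements.S17897
import Mathlib
import Groth.Agent.H89.LocalSpec

set_option autoImplicit false
universe u
open CategoryTheory AlgebraicGeometry
open ValCrit

namespace Groth.Agent.S17897

/-- Let f : Y → X be a morphism of schemes (not assumed separated), R a valuation ring with fraction
field K, and i : Spec K → Y, φ : Spec R → X with i ≫ f = (Spec K → Spec R) ≫ φ. Let y be the point
of Y hit by i and g : κ(y) → K the induced embedding, R' = g⁻¹(R) the induced valuation ring of κ(y)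
and ρ : R' → R the restriction of g. Then φ factors uniquely through Spec R → Spec R': there is a
unique φ' : Spec R' → X with (Spec ρ) ≫ φ' = φ whose restriction to the generic point Spec κ(y) is
the canonical morphism Spec κ(y) → Y followed by f. (Here y and g are given as data with Spec g
followed by Spec κ(y) → Y equal to i, and ρ as data by its defining equation.) -/
theorem result {X Y : Scheme.{u}} (f : Y ⟶ X)
    (K : Type u) [Field K] (R : ValuationSubring K)
    (i : Spec (CommRingCat.of K) ⟶ Y) (φ : Spec (CommRingCat.of ↥R) ⟶ X)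
    (w : Spec.map (CommRingCat.ofHom R.subtype) ≫ φ = i ≫ f)
    (y : Y) (g : Y.residueField y ⟶ CommRingCat.of K) (hg : Spec.map g ≫ Y.fromSpecResidueField y = i)
    (ρ : ↥(R.comap g.hom) →+* ↥R)
    (hρ : ∀ x : ↥(R.comap g.hom), ((ρ x : ↥R) : K) = g.hom (x : ↑(Y.residueField y))) :
    ∃! φ' : Spec (CommRingCat.of ↥(R.comap g.hom)) ⟶ X,
      Spec.map (CommRingCat.ofHom ρ) ≫ φ' = φ ∧
      Spec.map (CommRingCat.ofHom (R.comap g.hom).subtype) ≫ φ' = Y.fromSpecResidueField y ≫ f := by
  classical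
  haveI hloc : IsLocalHom ρ := by
    constructor
    intro x hx
    obtain ⟨v, hv⟩ := isUnit_iff_exists_inv.mp hx
    have h1 : g.hom (x : Y.residueField y) * (v : K) = 1 := by
      have h2 : ((ρ x * v : ↥R) : K) = ((1 : ↥R) : K) := congrArg (fun t : ↥R => (t : K)) hv
      rw [← hρ x]
      exact_mod_cast h2
    have hx0 : (x : Y.residueField y) ≠ 0 := by
      intro h0
      rw [h0, map_zero, zero_mul] at h1
      exact zero_ne_one h1
    have hinv : g.hom ((x : Y.residueField y)⁻¹) = (v : K) := by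
      rw [map_inv₀]
      exact (eq_inv_of_mul_eq_one_right h1).symm
    have hmem : (x : Y.residueField y)⁻¹ ∈ R.comap g.hom := by
      rw [ValuationSubring.mem_comap, hinv]
      exact v.2
    refine isUnit_iff_exists_inv.mpr ⟨⟨_, hmem⟩, Subtype.ext ?_⟩
    exact mul_inv_cancel₀ hx0
  obtain ⟨U, hU, hxU, -⟩ := exists_isAffineOpen_mem_and_subset (X := X)
    (x := φ (IsLocalRing.closedPoint ↥R)) (U := ⊤) trivial
  have hφU : Set.range φ ⊆ U :=
    Groth.Agent.H89.LocalSpec.range_subset_of_closedPoint_mem U φ hxU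
  obtain ⟨αφ, hαφ⟩ := Groth.Agent.H89.LocalSpec.exists_factor hU φ hφU
  obtain ⟨ψ, hψ⟩ : ∃ ψ : Spec (Y.residueField y) ⟶ X, ψ = Y.fromSpecResidueField y ≫ f :=
    ⟨_, rfl⟩
  have hgψ : Spec.map g ≫ ψ = Spec.map (CommRingCat.ofHom R.subtype) ≫ φ := by
    rw [hψ, ← Category.assoc, hg, w]
  have hψU : Set.range ψ ⊆ U := by
    apply Groth.Agent.H89.LocalSpec.range_subset_of_closedPoint_mem U ψ
    let pt : ↥(Spec (CommRingCat.of K)) := IsLocalRing.closedPoint K
    have h1 : Spec.map g pt = IsLocalRing.closedPoint (Y.residueField y) :=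
      Subsingleton.elim (α := PrimeSpectrum (Y.residueField y)) _ _
    have h5 : ψ (Spec.map g pt) ∈ U := by
      rw [← Scheme.Hom.comp_apply, hgψ, Scheme.Hom.comp_apply]
      exact hφU ⟨_, rfl⟩
    rw [← h1]
    exact h5
  obtain ⟨αψ, hαψ⟩ := Groth.Agent.H89.LocalSpec.exists_factor hU ψ hψU
  have hcomp : αψ ≫ g = αφ ≫ CommRingCat.ofHom R.subtype := by
    apply Groth.Agent.H89.LocalSpec.factor_unique hU
    rw [Spec.map_comp, Spec.map_comp, Category.assoc, Category.assoc, hαψ, hαφ, hgψ]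
  have hval : ∀ a : Γ(X, U), g.hom (αψ.hom a) = ((αφ.hom a : ↥R) : K) := fun a =>
    congrArg (fun h : Γ(X, U) ⟶ CommRingCat.of K => h.hom a) hcomp
  have hmem : ∀ a : Γ(X, U), αψ.hom a ∈ R.comap g.hom := fun a => by
    rw [ValuationSubring.mem_comap, hval a]
    exact (αφ.hom a).2
  obtain ⟨α', hα'⟩ : ∃ α' : Γ(X, U) →+* ↥(R.comap g.hom),
      ∀ a, ((α' a : ↥(R.comap g.hom)) : Y.residueField y) = αψ.hom a :=
    ⟨αψ.hom.codRestrict (R.comap g.hom) hmem, fun a => rfl⟩
  have e1 : CommRingCat.ofHom α' ≫ CommRingCat.ofHom ρ = αφ := by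
    ext a
    show ((ρ (α' a) : ↥R) : K) = ((αφ.hom a : ↥R) : K)
    rw [hρ, hα', hval a]
  have e2 : CommRingCat.ofHom α' ≫ CommRingCat.ofHom (R.comap g.hom).subtype = αψ := by
    ext a
    exact hα' a
  refine ⟨Spec.map (CommRingCat.ofHom α') ≫ hU.fromSpec, ⟨?_, ?_⟩, ?_⟩
  · rw [← Category.assoc, ← Spec.map_comp, e1, hαφ]
  · rw [← Category.assoc, ← Spec.map_comp, e2, hαψ, hψ]
  · rintro φ'' ⟨h1, h2⟩
    have hcl : φ'' (IsLocalRing.closedPoint ↥(R.comap g.hom)) ∈ U := by
      let ptR : ↥(Spec (CommRingCat.of ↥R)) := IsLocalRing.closedPoint ↥R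
      have h3 : Spec.map (CommRingCat.ofHom ρ) ptR =
          IsLocalRing.closedPoint ↥(R.comap g.hom) := IsLocalRing.comap_closedPoint ρ
      have h6 : φ'' (Spec.map (CommRingCat.ofHom ρ) ptR) ∈ U := by
        rw [← Scheme.Hom.comp_apply, h1]
        exact hxU
      rw [← h3]
      exact h6
    obtain ⟨α'', hα''⟩ := Groth.Agent.H89.LocalSpec.exists_factor hU φ''
      (Groth.Agent.H89.LocalSpec.range_subset_of_closedPoint_mem U φ'' hcl)
    have e3 : α'' ≫ CommRingCat.ofHom (R.comap g.hom).subtype = αψ := by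
      apply Groth.Agent.H89.LocalSpec.factor_unique hU
      rw [Spec.map_comp, Category.assoc, hα'', h2, hαψ, hψ]
    have e4 : α'' = CommRingCat.ofHom α' := by
      ext a
      show ((α''.hom a : ↥(R.comap g.hom)) : Y.residueField y) =
        ((α' a : ↥(R.comap g.hom)) : Y.residueField y)
      rw [hα' a]
      exact congrArg (fun h : Γ(X, U) ⟶ Y.residueField y => h.hom a) e3
    rw [← hα'', e4]

end Groth.Agent.S17897
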