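import Groth.Statements.S17898
import Mathlib
import Groth.Agent.H89.LocalSpec

set_option autoImplicit false
universe u
open CategoryTheory AlgebraicGeometry
open ValCrit

namespace Groth.Agent.S17898

/-- Let f : Y → X be a morphism of schemes (not assumed separated), K a field with valuation rings R ⊆
R' (inclusion ι), i : Spec K → Y and φ : Spec R → X a commutative square over f, and g : Spec R' → Y
a lift of Spec R' → Spec R → X restricting to i on Spec K. Let K̃ be the residue field of R', R̃ ⊆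
K̃ the image of R (a valuation ring of K̃) with the surjection σ : R → R̃. Then every h̃ : Spec R̃ →
Y whose restriction to Spec K̃ is Spec K̃ → Spec R' → Y (via g) and which lies over Spec R̃ → Spec R
→ X is induced by a unique h : Spec R → Y compatible with the whole diagram: h restricts to i on
Spec K, lies over φ, restricts to g along Spec R' → Spec R and to h̃ along Spec R̃ → Spec R. (ι, R̃,
σ are given as data pinned by their defining equations.) -/
theorem result {X Y : Scheme.{u}} (f : Y ⟶ X)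
    (K : Type u) [Field K] (R R' : ValuationSubring K) (hRR' : R ≤ R')
    (ι : ↥R →+* ↥R') (hι : ∀ x : ↥R, ((ι x : ↥R') : K) = (x : K))
    (i : Spec (CommRingCat.of K) ⟶ Y) (φ : Spec (CommRingCat.of ↥R) ⟶ X)
    (w : Spec.map (CommRingCat.ofHom R.subtype) ≫ φ = i ≫ f)
    (g : Spec (CommRingCat.of ↥R') ⟶ Y) (hg₁ : Spec.map (CommRingCat.ofHom R'.subtype) ≫ g = i)
    (hg₂ : g ≫ f = Spec.map (CommRingCat.ofHom ι) ≫ φ)
    (Rt : ValuationSubring (IsLocalRing.ResidueField ↥R')) (σ : ↥R →+* ↥Rt) (hσs : Function.Surjective σ)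
    (hσ : ∀ x : ↥R, ((σ x : ↥Rt) : IsLocalRing.ResidueField ↥R') = IsLocalRing.residue ↥R' (ι x))
    (ht : Spec (CommRingCat.of ↥Rt) ⟶ Y)
    (hht₁ : Spec.map (CommRingCat.ofHom Rt.subtype) ≫ ht =
      Spec.map (CommRingCat.ofHom (IsLocalRing.residue ↥R')) ≫ g)
    (hht₂ : ht ≫ f = Spec.map (CommRingCat.ofHom σ) ≫ φ) :
    ∃! h : Spec (CommRingCat.of ↥R) ⟶ Y, Spec.map (CommRingCat.ofHom R.subtype) ≫ h = i ∧ h ≫ f = φ ∧
      Spec.map (CommRingCat.ofHom ι) ≫ h = g ∧ Spec.map (CommRingCat.ofHom σ) ≫ h = ht := by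
  classical
  haveI hσloc : IsLocalHom σ := IsLocalHom.of_surjective σ hσs
  have hmax : ∀ z : ↥R', z ∈ IsLocalRing.maximalIdeal ↥R' → (z : K) ∈ R := by
    intro z hz
    by_contra hzR
    have hinv : (z : K)⁻¹ ∈ R := (R.mem_or_inv_mem (z : K)).resolve_left hzR
    have hz0 : (z : K) ≠ 0 := fun h0 => hzR (h0 ▸ R.zero_mem)
    have hunit : IsUnit z := by
      refine isUnit_iff_exists_inv.mpr ⟨⟨(z : K)⁻¹, hRR' hinv⟩, Subtype.ext ?_⟩
      exact mul_inv_cancel₀ hz0
    exact (mem_nonunits_iff.mp ((IsLocalRing.mem_maximalIdeal z).mp hz)) hunit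
  let ptt : ↥(Spec (CommRingCat.of ↥Rt)) := IsLocalRing.closedPoint ↥Rt
  let ptR : ↥(Spec (CommRingCat.of ↥R)) := IsLocalRing.closedPoint ↥R
  have hσpt : Spec.map (CommRingCat.ofHom σ) ptt = ptR := IsLocalRing.comap_closedPoint σ
  obtain ⟨V, hV, hyV, -⟩ := exists_isAffineOpen_mem_and_subset (X := Y) (x := ht ptt) (U := ⊤)
    trivial
  have htV : Set.range ht ⊆ V :=
    Groth.Agent.H89.LocalSpec.range_subset_of_closedPoint_mem V ht hyV
  obtain ⟨βt, hβt⟩ := Groth.Agent.H89.LocalSpec.exists_factor hV ht htV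
  have hgV : Set.range g ⊆ V := by
    apply Groth.Agent.H89.LocalSpec.range_subset_of_closedPoint_mem V g
    let ptk : ↥(Spec (CommRingCat.of (IsLocalRing.ResidueField ↥R'))) :=
      IsLocalRing.closedPoint (IsLocalRing.ResidueField ↥R')
    have h1 : Spec.map (CommRingCat.ofHom (IsLocalRing.residue ↥R')) ptk =
        IsLocalRing.closedPoint ↥R' := IsLocalRing.comap_closedPoint (IsLocalRing.residue ↥R')
    have h5 : g (Spec.map (CommRingCat.ofHom (IsLocalRing.residue ↥R')) ptk) ∈ V := by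
      rw [← Scheme.Hom.comp_apply, ← hht₁, Scheme.Hom.comp_apply]
      exact htV ⟨_, rfl⟩
    rw [← h1]
    exact h5
  obtain ⟨βg, hβg⟩ := Groth.Agent.H89.LocalSpec.exists_factor hV g hgV
  have hcomp : βg ≫ CommRingCat.ofHom (IsLocalRing.residue ↥R') =
      βt ≫ CommRingCat.ofHom Rt.subtype := by
    apply Groth.Agent.H89.LocalSpec.factor_unique hV
    rw [Spec.map_comp, Spec.map_comp, Category.assoc, Category.assoc, hβg, hβt, hht₁]
  have hres : ∀ b : Γ(Y, V), IsLocalRing.residue ↥R' (βg.hom b) =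
      ((βt.hom b : ↥Rt) : IsLocalRing.ResidueField ↥R') := fun b =>
    congrArg (fun q : Γ(Y, V) ⟶ CommRingCat.of (IsLocalRing.ResidueField ↥R') => q.hom b) hcomp
  have hmemR : ∀ b : Γ(Y, V), ((βg.hom b : ↥R') : K) ∈ R := by
    intro b
    obtain ⟨r, hr⟩ := hσs (βt.hom b)
    have h1 : IsLocalRing.residue ↥R' (βg.hom b - ι r) = 0 := by
      rw [map_sub, hres b, ← hr, hσ r, sub_self]
    have h2 := hmax _ ((IsLocalRing.residue_eq_zero_iff _).mp h1)
    have h3 : ((βg.hom b : ↥R') : K) = ((βg.hom b - ι r : ↥R') : K) + (r : K) := by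
      rw [← hι r]
      push_cast
      ring
    rw [h3]
    exact add_mem h2 r.2
  obtain ⟨β, hβ⟩ : ∃ β : Γ(Y, V) →+* ↥R, ∀ b, ((β b : ↥R) : K) = ((βg.hom b : ↥R') : K) :=
    ⟨(R'.subtype.comp βg.hom).codRestrict R hmemR, fun b => rfl⟩
  have e3 : CommRingCat.ofHom β ≫ CommRingCat.ofHom ι = βg := by
    ext b
    show ((ι (β b) : ↥R') : K) = ((βg.hom b : ↥R') : K)
    rw [hι, hβ]
  have e1 : CommRingCat.ofHom β ≫ CommRingCat.ofHom R.subtype =
      βg ≫ CommRingCat.ofHom R'.subtype := by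
    ext b
    exact hβ b
  have e4 : CommRingCat.ofHom β ≫ CommRingCat.ofHom σ = βt := by
    ext b
    show ((σ (β b) : ↥Rt) : IsLocalRing.ResidueField ↥R') =
      ((βt.hom b : ↥Rt) : IsLocalRing.ResidueField ↥R')
    rw [hσ, ← hres b]
    congr 1
    apply Subtype.ext
    rw [hι, hβ]
  obtain ⟨h, hh⟩ : ∃ h : Spec (CommRingCat.of ↥R) ⟶ Y,
      h = Spec.map (CommRingCat.ofHom β) ≫ hV.fromSpec := ⟨_, rfl⟩
  have p3 : Spec.map (CommRingCat.ofHom ι) ≫ h = g := by
    rw [hh, ← Category.assoc, ← Spec.map_comp, e3, hβg]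
  have p1 : Spec.map (CommRingCat.ofHom R.subtype) ≫ h = i := by
    rw [hh, ← Category.assoc, ← Spec.map_comp, e1, Spec.map_comp, Category.assoc, hβg, hg₁]
  have p4 : Spec.map (CommRingCat.ofHom σ) ≫ h = ht := by
    rw [hh, ← Category.assoc, ← Spec.map_comp, e4, hβt]
  have p2 : h ≫ f = φ := by
    apply Groth.Agent.H89.LocalSpec.eq_of_comp_eq (h ≫ f) φ (CommRingCat.ofHom ι) ?_ ?_ ?_
    · intro a b hab
      apply Subtype.ext
      have hab' : ι a = ι b := hab
      rw [← hι a, ← hι b, hab']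
    · have e : Spec.map (CommRingCat.ofHom σ) ≫ (h ≫ f) = Spec.map (CommRingCat.ofHom σ) ≫ φ := by
        rw [← Category.assoc, p4, hht₂]
      calc (h ≫ f) ptR = (h ≫ f) (Spec.map (CommRingCat.ofHom σ) ptt) := by rw [hσpt]
        _ = (Spec.map (CommRingCat.ofHom σ) ≫ (h ≫ f)) ptt := (Scheme.Hom.comp_apply _ _ _).symm
        _ = (Spec.map (CommRingCat.ofHom σ) ≫ φ) ptt := by rw [e]
        _ = φ (Spec.map (CommRingCat.ofHom σ) ptt) := Scheme.Hom.comp_apply _ _ _
        _ = φ ptR := by rw [hσpt]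
    · rw [← Category.assoc, p3, hg₂]
  refine ⟨h, ⟨p1, p2, p3, p4⟩, ?_⟩
  rintro h' ⟨q1, q2, q3, q4⟩
  have hcl' : h' ptR ∈ V := by
    have h5 : h' (Spec.map (CommRingCat.ofHom σ) ptt) ∈ V := by
      rw [← Scheme.Hom.comp_apply, q4]
      exact hyV
    rw [hσpt] at h5
    exact h5
  obtain ⟨β', hβ'⟩ := Groth.Agent.H89.LocalSpec.exists_factor hV h'
    (Groth.Agent.H89.LocalSpec.range_subset_of_closedPoint_mem V h' hcl')
  have e5 : β' ≫ CommRingCat.ofHom ι = βg := by
    apply Groth.Agent.H89.LocalSpec.factor_unique hV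
    rw [Spec.map_comp, Category.assoc, hβ', q3, hβg]
  have e6 : β' = CommRingCat.ofHom β := by
    ext b
    show ((β'.hom b : ↥R) : K) = ((β b : ↥R) : K)
    rw [hβ b, ← hι (β'.hom b)]
    exact congrArg (fun q : Γ(Y, V) ⟶ CommRingCat.of ↥R' => ((q.hom b : ↥R') : K)) e5
  rw [hh, ← hβ', e6]

end Groth.Agent.S17898
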