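import Groth.Statements.S9455
import Mathlib
import Groth.Agent.H44.MacLaneAll
-- import your own Groth.Agent.* helpers here

set_option autoImplicit false
universe u
open CAlg

set_option linter.style.haveILetI false
set_option linter.unusedSectionVars false
set_option linter.unusedVariables false

namespace Groth.Agent.S9455

open TensorProduct

theorem flat_quotient_map {A B : Type*} [CommRing A] [CommRing B] [Algebra A B] [Module.Flat A B]
    (I : Ideal A) : Module.Flat (A ⧸ I) (B ⧸ I.map (algebraMap A B)) :=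
  Module.Flat.of_linearEquiv (Algebra.TensorProduct.quotIdealMapEquivQuotTensor B I).toLinearEquiv

/-- Stacks 031L iterated: flat `A → B`, `A/(a) → B/(a)` formally smooth, then so is
`A/(a^n) → B/(a^n)` for every `n ≥ 1`. -/
theorem formallySmooth_quotient_pow {A B : Type*} [CommRing A] [CommRing B] [Algebra A B]
    [Module.Flat A B] (a : A)
    (h1 : Algebra.FormallySmooth (A ⧸ Ideal.span {a ^ 1})
      (B ⧸ (Ideal.span {a ^ 1}).map (algebraMap A B))) :
    ∀ n : ℕ, 1 ≤ n → Algebra.FormallySmooth (A ⧸ Ideal.span {a ^ n})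
      (B ⧸ (Ideal.span {a ^ n}).map (algebraMap A B)) := by
  intro n hn
  induction n, hn using Nat.le_induction with
  | base => exact h1
  | succ n hn ih =>
    have hI : Ideal.span {a ^ (n + 1)} ≤ Ideal.span {a ^ n} := by
      rw [Ideal.span_singleton_le_span_singleton]
      exact ⟨a, pow_succ a n⟩
    rw [← RingHom.formallySmooth_algebraMap]
    refine RingHom.FormallySmooth.of_flat_of_ker_eq_map_of_square_zero
      (algebraMap (A ⧸ Ideal.span {a ^ (n + 1)})
        (B ⧸ (Ideal.span {a ^ (n + 1)}).map (algebraMap A B)))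
      (RingHom.flat_algebraMap_iff.mpr (flat_quotient_map _))
      (Ideal.Quotient.factor hI) (Ideal.Quotient.factor (Ideal.map_mono hI))
      (algebraMap (A ⧸ Ideal.span {a ^ n}) (B ⧸ (Ideal.span {a ^ n}).map (algebraMap A B)))
      (Ideal.Quotient.factor_surjective hI) (Ideal.Quotient.factor_surjective _) ?_ ?_ ?_
      (RingHom.formallySmooth_algebraMap.mpr ih)
    · apply Ideal.Quotient.ringHom_ext
      refine RingHom.ext fun x => ?_
      rfl
    · rw [Ideal.Quotient.factor_ker, ← Ideal.map_pow, Ideal.span_singleton_pow, eq_bot_iff]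
      have hle : Ideal.span {(a ^ n) ^ 2} ≤ Ideal.span {a ^ (n + 1)} := by
        rw [Ideal.span_singleton_le_span_singleton]
        obtain ⟨m, rfl⟩ : ∃ m, n = m + 1 := ⟨n - 1, by omega⟩
        exact ⟨a ^ m, by ring⟩
      exact (Ideal.map_mono hle).trans (le_of_eq (Ideal.map_quotient_self _))
    · rw [Ideal.Quotient.factor_ker, Ideal.Quotient.factor_ker, Ideal.map_map, Ideal.map_map]
      rfl


/-- If Λ is a Cohen ring (a complete discrete valuation ring with maximal ideal generated by a prime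
number p) then Λ/p^nΛ is formally smooth over ℤ/p^nℤ for every n ≥ 1; the ℤ/p^nℤ-algebra structure
on Λ/p^nΛ is the unique one and is taken as a hypothesis. -/
theorem result (Λ : Type u) [CommRing Λ] [IsDomain Λ]
    [IsDiscreteValuationRing Λ] [IsAdicComplete (IsLocalRing.maximalIdeal Λ) Λ] (p : ℕ)
    (hp : p.Prime) (hm : IsLocalRing.maximalIdeal Λ = Ideal.span {(p : Λ)}) (n : ℕ) (hn : 1 ≤ n)
    [Algebra (ZMod (p ^ n)) (Λ ⧸ Ideal.span {((p : Λ) ^ n)})] :
    Algebra.FormallySmooth (ZMod (p ^ n)) (Λ ⧸ Ideal.span {((p : Λ) ^ n)}) := by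
  classical
  haveI : Fact p.Prime := ⟨hp⟩
  have hp0 : (p : Λ) ≠ 0 := by
    intro h
    have h1 : IsLocalRing.maximalIdeal Λ = ⊥ := by
      rw [hm, h]
      exact Ideal.span_singleton_eq_bot.mpr rfl
    exact IsDiscreteValuationRing.not_isField Λ (IsLocalRing.isField_iff_maximalIdeal_eq.mpr h1)
  have hpnu : ¬ IsUnit (p : Λ) := by
    intro h
    have h1 : IsLocalRing.maximalIdeal Λ = ⊤ := by
      rw [hm]
      exact Ideal.span_singleton_eq_top.mpr h
    exact (IsLocalRing.maximalIdeal.isMaximal Λ).ne_top h1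
  haveI hcz : CharZero Λ := by
    obtain ⟨q, hq⟩ := CharP.exists Λ
    haveI := hq
    rcases CharP.char_is_prime_or_zero Λ q with hqp | hq0
    · exfalso
      by_cases hqe : q = p
      · subst hqe
        exact hp0 (CharP.cast_eq_zero Λ q)
      · have hcop : Nat.Coprime p q := (Nat.coprime_primes hp hqp).mpr (Ne.symm hqe)
        have h := Nat.gcd_eq_gcd_ab p q
        rw [hcop.gcd_eq_one] at h
        have h' := congrArg (Int.cast : ℤ → Λ) h
        push_cast at h'
        rw [CharP.cast_eq_zero Λ q, zero_mul, add_zero] at h'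
        exact hpnu (IsUnit.of_mul_eq_one _ h'.symm)
    · subst hq0
      exact CharP.charP_to_charZero Λ
  haveI : Module.Flat ℤ Λ := inferInstance
  have hbase : Algebra.FormallySmooth (ℤ ⧸ Ideal.span {(p : ℤ) ^ 1})
      (Λ ⧸ (Ideal.span {(p : ℤ) ^ 1}).map (algebraMap ℤ Λ)) := by
    rw [← RingHom.formallySmooth_algebraMap]
    have hpK : ((p : ℕ) : IsLocalRing.ResidueField Λ) = 0 := by
      have h1 : IsLocalRing.residue Λ (p : Λ) = 0 :=
        (IsLocalRing.residue_eq_zero_iff _).mpr (by rw [hm]; exact Ideal.mem_span_singleton_self _)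
      rwa [map_natCast] at h1
    haveI : CharP (IsLocalRing.ResidueField Λ) p := (CharP.charP_iff_prime_eq_zero hp).mpr hpK
    letI a1 : Algebra (ZMod p) (IsLocalRing.ResidueField Λ) := ZMod.algebra _ p
    letI a2 : Algebra (ULift.{u} (ZMod p)) (IsLocalRing.ResidueField Λ) :=
      ((algebraMap (ZMod p) (IsLocalRing.ResidueField Λ)).comp
        (ULift.ringEquiv : ULift.{u} (ZMod p) ≃+* ZMod p).toRingHom).toAlgebra
    haveI : PerfectField (ULift.{u} (ZMod p)) := inferInstance
    have hFS : Algebra.FormallySmooth (ULift.{u} (ZMod p)) (IsLocalRing.ResidueField Λ) :=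
      Groth.Agent.H44.MacLane.formallySmooth_iff_isGeometricallyReduced.mpr
        Groth.Agent.H44.MacLane.isGeometricallyReduced_of_perfectField
    have hψ : (algebraMap (ULift.{u} (ZMod p)) (IsLocalRing.ResidueField Λ)).FormallySmooth :=
      RingHom.formallySmooth_algebraMap.mpr hFS
    have hI1 : Ideal.span {(p : ℤ) ^ 1} = Ideal.span {((p : ℕ) : ℤ)} := by rw [pow_one]
    let e₁ : (ℤ ⧸ Ideal.span {(p : ℤ) ^ 1}) ≃+* ULift.{u} (ZMod p) :=
      (Ideal.quotEquivOfEq hI1).trans ((Int.quotientSpanNatEquivZMod p).trans ULift.ringEquiv.symm)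
    have hI2 : IsLocalRing.maximalIdeal Λ
        = (Ideal.span {(p : ℤ) ^ 1}).map (algebraMap ℤ Λ) := by
      rw [hm, Ideal.map_span, Set.image_singleton, pow_one, map_natCast]
    let e₂ : IsLocalRing.ResidueField Λ ≃+*
        (Λ ⧸ (Ideal.span {(p : ℤ) ^ 1}).map (algebraMap ℤ Λ)) := Ideal.quotEquivOfEq hI2
    have hcomp : algebraMap (ℤ ⧸ Ideal.span {(p : ℤ) ^ 1})
        (Λ ⧸ (Ideal.span {(p : ℤ) ^ 1}).map (algebraMap ℤ Λ))
        = e₂.toRingHom.comp ((algebraMap (ULift.{u} (ZMod p)) (IsLocalRing.ResidueField Λ)).comp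
            e₁.toRingHom) := by
      apply Ideal.Quotient.ringHom_ext
      exact RingHom.ext_int _ _
    rw [hcomp]
    exact ((RingHom.FormallySmooth.of_bijective (f := e₁.toRingHom) e₁.bijective).comp hψ).comp
      (RingHom.FormallySmooth.of_bijective (f := e₂.toRingHom) e₂.bijective)
  have hn' := formallySmooth_quotient_pow (A := ℤ) (B := Λ) (p : ℤ) hbase n hn
  rw [← RingHom.formallySmooth_algebraMap]
  have hI3 : Ideal.span {((p ^ n : ℕ) : ℤ)} = Ideal.span {(p : ℤ) ^ n} := by rw [Nat.cast_pow]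
  let e₃ : ZMod (p ^ n) ≃+* (ℤ ⧸ Ideal.span {(p : ℤ) ^ n}) :=
    (Int.quotientSpanNatEquivZMod (p ^ n)).symm.trans (Ideal.quotEquivOfEq hI3)
  have hI4 : (Ideal.span {(p : ℤ) ^ n}).map (algebraMap ℤ Λ) = Ideal.span {(p : Λ) ^ n} := by
    rw [Ideal.map_span, Set.image_singleton, map_pow, map_natCast]
  let e₄ : (Λ ⧸ (Ideal.span {(p : ℤ) ^ n}).map (algebraMap ℤ Λ)) ≃+*
      (Λ ⧸ Ideal.span {(p : Λ) ^ n}) := Ideal.quotEquivOfEq hI4
  have hcomp : algebraMap (ZMod (p ^ n)) (Λ ⧸ Ideal.span {(p : Λ) ^ n})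
      = e₄.toRingHom.comp ((algebraMap (ℤ ⧸ Ideal.span {(p : ℤ) ^ n})
          (Λ ⧸ (Ideal.span {(p : ℤ) ^ n}).map (algebraMap ℤ Λ))).comp e₃.toRingHom) :=
    RingHom.ext_zmod _ _
  rw [hcomp]
  exact ((RingHom.FormallySmooth.of_bijective (f := e₃.toRingHom) e₃.bijective).comp
    (RingHom.formallySmooth_algebraMap.mpr hn')).comp
    (RingHom.FormallySmooth.of_bijective (f := e₄.toRingHom) e₄.bijective)

end Groth.Agent.S9455
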