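import Groth.Statements.S0544
import Mathlib.RingTheory.AdicCompletion.Functoriality
import Mathlib.RingTheory.Finiteness.Cardinality
import Mathlib.Algebra.Module.Projective

set_option autoImplicit false
universe u
open CAlg

namespace Groth.Agent.S0544

theorem mem_pow_smul_top_pi {R : Type u} [CommRing R] (I : Ideal R) (n k : ℕ) (g : Fin n → R) :
    g ∈ (I ^ k • ⊤ : Submodule R (Fin n → R)) ↔ ∀ i, g i ∈ I ^ k := by
  constructor
  · intro hg
    refine Submodule.smul_induction_on hg (fun r hr m _ i => ?_) (fun x y hx hy i => ?_)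
    · simpa using Ideal.mul_mem_right _ _ hr
    · simpa using add_mem (hx i) (hy i)
  · intro hg
    rw [← Finset.univ_sum_single g]
    refine Submodule.sum_mem _ (fun i _ => ?_)
    have h1 : (Pi.single i (g i) : Fin n → R) = g i • (Pi.single i 1 : Fin n → R) := by
      rw [← Pi.single_smul, smul_eq_mul, mul_one]
    rw [h1]
    exact Submodule.smul_mem_smul (hg i) Submodule.mem_top

theorem isPrecomplete_pi {R : Type u} [CommRing R] (I : Ideal R) [IsPrecomplete I R] (n : ℕ) :
    IsPrecomplete I (Fin n → R) := by
  refine ⟨fun f hf => ?_⟩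
  have hc : ∀ i, ∃ L : R, ∀ k, f k i ≡ L [SMOD (I ^ k • ⊤ : Submodule R R)] := fun i =>
    IsPrecomplete.prec' (fun k => f k i) (by
      intro m k hmk
      have h1 := hf hmk
      rw [SModEq.sub_mem] at h1 ⊢
      have h2 := (mem_pow_smul_top_pi I n m _).mp h1 i
      simpa using h2)
  choose L hL using hc
  refine ⟨L, fun k => ?_⟩
  rw [SModEq.sub_mem, mem_pow_smul_top_pi]
  intro i
  have h1 := hL i k
  rw [SModEq.sub_mem] at h1
  simpa using h1

/-- Let `R` be complete with respect to an ideal `I` and `M` an `R`-module which is `I`-adically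
separated and such that `M/IM` is finitely generated. Then `M` is a finitely generated `R`-module. -/
theorem result (R : Type u) [CommRing R]
    (I : Ideal R) [IsAdicComplete I R] (M : Type u) [AddCommGroup M] [Module R M] [IsHausdorff I M]
    (h : Module.Finite R (M ⧸ (I • ⊤ : Submodule R M))) : Module.Finite R M := by
  obtain ⟨n, g, hg⟩ := Module.Finite.exists_fin' R (M ⧸ (I • ⊤ : Submodule R M))
  obtain ⟨f, hf⟩ := Module.projective_lifting_property (Submodule.mkQ (I • ⊤ : Submodule R M)) g
    (Submodule.mkQ_surjective _)
  haveI : IsPrecomplete I (Fin n → R) := isPrecomplete_pi I n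
  have hsurj : Function.Surjective f := by
    apply surjective_of_mkQ_comp_surjective (I := I)
    rw [hf]
    exact hg
  exact Module.Finite.of_surjective f hsurj

end Groth.Agent.S0544
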