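import Groth.Statements.S0578
import Mathlib
import Groth.Agent.H25.CohenDVR

set_option autoImplicit false
universe u
open CAlg

namespace Groth.Agent.S0578

set_option linter.style.haveILetI false
set_option linter.unusedVariables false
open IsLocalRing


/-- For every prime `p` and every field `k` of characteristic `p` there is a Cohen ring (a complete
discrete valuation ring with uniformizer `p`) whose residue field is isomorphic to `k`. -/
theorem result (p : ℕ) [Fact p.Prime] (k : Type u) [Field k] [CharP k p] :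
    ∃ (Λ : Type u) (_ : CommRing Λ) (_ : IsLocalRing Λ), CAlg.IsCohenRing Λ ∧
      Nonempty (IsLocalRing.ResidueField Λ ≃+* k) := by
  let ψ : ULift.{u} ℤ →+* k :=
    (Int.castRingHom k).comp (ULift.ringEquiv : ULift.{u} ℤ ≃+* ℤ).toRingHom
  let Q : Ideal (ULift.{u} ℤ) := RingHom.ker ψ
  haveI : Q.IsPrime := RingHom.ker_isPrime ψ
  haveI : IsNoetherianRing (ULift.{u} ℤ) :=
    isNoetherianRing_of_ringEquiv ℤ (ULift.ringEquiv : ULift.{u} ℤ ≃+* ℤ).symm
  haveI : IsDomain (ULift.{u} ℤ) := (ULift.ringEquiv : ULift.{u} ℤ ≃+* ℤ).toMulEquiv.isDomain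
  haveI : IsNoetherianRing (Localization.AtPrime Q) :=
    IsLocalization.isNoetherianRing Q.primeCompl (Localization.AtPrime Q) inferInstance
  haveI : IsDomain (Localization.AtPrime Q) :=
    IsLocalization.isDomain_localization Q.primeCompl_le_nonZeroDivisors
  have hunit : ∀ y : Q.primeCompl, IsUnit (ψ y) := fun y => by
    rw [isUnit_iff_ne_zero]
    exact fun h => y.2 (RingHom.mem_ker.mpr h)
  letI : Algebra (Localization.AtPrime Q) k :=
    (IsLocalization.lift (M := Q.primeCompl) (S := Localization.AtPrime Q) hunit).toAlgebra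
  have hQ : Q = Ideal.span {(p : ULift.{u} ℤ)} := by
    ext x
    rw [RingHom.mem_ker, Ideal.mem_span_singleton]
    change ((x.down : ℤ) : k) = 0 ↔ _
    rw [CharP.intCast_eq_zero_iff k p]
    constructor
    · rintro ⟨c, hc⟩
      exact ⟨ULift.up c, ULift.ext _ _ (by simpa using hc)⟩
    · rintro ⟨c, hc⟩
      exact ⟨c.down, by simpa using congrArg ULift.down hc⟩
  have hmaxA : maximalIdeal (Localization.AtPrime Q) =
      Ideal.span {((p : ℕ) : Localization.AtPrime Q)} := by
    rw [← IsLocalization.AtPrime.map_eq_maximalIdeal Q (Localization.AtPrime Q)]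
    refine (congrArg (Ideal.map (algebraMap (ULift.{u} ℤ) (Localization.AtPrime Q))) hQ).trans ?_
    rw [Ideal.map_span, Set.image_singleton, map_natCast]
  have hp0 : ((p : ℕ) : Localization.AtPrime Q) ≠ 0 := by
    have hinj := IsLocalization.injective (Localization.AtPrime Q) Q.primeCompl_le_nonZeroDivisors
    have h1 : ((p : ℕ) : ULift.{u} ℤ) ≠ 0 := by
      intro h
      have := congrArg ULift.down h
      simp at this
      exact (Fact.out : p.Prime).ne_zero this
    intro h
    apply h1
    apply hinj
    rw [map_natCast, map_zero]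
    exact h
  have hπ : ∀ x : Localization.AtPrime Q, ((p : ℕ) : Localization.AtPrime Q) * x = 0 → x = 0 :=
    fun x hx => (mul_eq_zero.mp hx).resolve_left hp0
  have hAK : ∀ x ∈ maximalIdeal (Localization.AtPrime Q),
      algebraMap (Localization.AtPrime Q) k x = 0 := by
    have hle : Q.map (algebraMap (ULift.{u} ℤ) (Localization.AtPrime Q)) ≤
        RingHom.ker (algebraMap (Localization.AtPrime Q) k) := by
      rw [Ideal.map_le_iff_le_comap]
      intro y hy
      rw [Ideal.mem_comap, RingHom.mem_ker]
      change IsLocalization.lift hunit (algebraMap _ _ y) = 0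
      rw [IsLocalization.lift_eq]
      exact hy
    intro x hx
    rw [← IsLocalization.AtPrime.map_eq_maximalIdeal Q (Localization.AtPrime Q)] at hx
    exact hle hx
  obtain ⟨Λ, _, _, hdom, hdvr, hcomp, hmaxΛ, -, e, -⟩ :=
    Groth.Agent.H25.CohenDVR.exists_complete_dvr (A := Localization.AtPrime Q) _ hπ hmaxA k hAK
  refine ⟨Λ, inferInstance, inferInstance, ⟨hdom, hdvr, hcomp, p, Fact.out, ?_⟩, ⟨e⟩⟩
  rw [hmaxΛ, map_natCast]

end Groth.Agent.S0578
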