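import Groth.Statements.S0579
import Mathlib.RingTheory.Smooth.Field
import Mathlib.RingTheory.Smooth.AdicCompletion
import Mathlib.RingTheory.AlgebraicIndependent.TranscendenceBasis
import Mathlib.FieldTheory.Perfect

set_option autoImplicit false
universe u
open CAlg

namespace Groth.Agent.S0579

/-- every field of characteristic zero is formally smooth over `ℚ` (separably generated). -/
theorem formallySmooth_rat (K : Type*) [Field K] [CharZero K] [Algebra ℚ K] :
    Algebra.FormallySmooth ℚ K := by
  obtain ⟨s, hs⟩ := exists_isTranscendenceBasis ℚ K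
  haveI : Algebra.IsAlgebraic (IntermediateField.adjoin ℚ (Set.range ((↑) : s → K))) K :=
    hs.isAlgebraic_field
  haveI : CharZero (IntermediateField.adjoin ℚ (Set.range ((↑) : s → K))) :=
    charZero_of_injective_algebraMap (algebraMap ℚ _).injective
  haveI : Algebra.IsSeparable (IntermediateField.adjoin ℚ (Set.range ((↑) : s → K))) K :=
    Algebra.IsAlgebraic.isSeparable_of_perfectField
  exact Algebra.FormallySmooth.of_algebraicIndependent_of_isSeparable hs.1

open IsLocalRing in
/-- A local ring which is complete with respect to its maximal ideal and whose residue field has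
characteristic zero admits a coefficient field: there is a ring homomorphism from the residue field
to the ring which is a section of the residue map. -/
theorem result (R : Type u) [CommRing R] [IsLocalRing R]
    [IsAdicComplete (IsLocalRing.maximalIdeal R) R] [CharZero (IsLocalRing.ResidueField R)] :
    ∃ s : IsLocalRing.ResidueField R →+* R, (IsLocalRing.residue R).comp s = RingHom.id _ := by
  have hunit : ∀ n : ℤ, n ≠ 0 → IsUnit ((n : ℤ) : R) := by
    intro n hn
    have h1 : residue R (n : R) ≠ 0 := by
      rw [map_intCast]
      exact_mod_cast hn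
    by_contra h
    exact h1 ((residue_eq_zero_iff _).mpr ((mem_maximalIdeal _).mpr h))
  let φ : ℚ →+* R := IsLocalization.lift (M := nonZeroDivisors ℤ) (S := ℚ)
    (g := Int.castRingHom R) (fun y => hunit y (nonZeroDivisors.ne_zero y.2))
  letI : Algebra ℚ R := φ.toAlgebra
  letI : Field (R ⧸ maximalIdeal R) := Ideal.Quotient.field _
  haveI : CharZero (R ⧸ maximalIdeal R) := ‹CharZero (ResidueField R)›
  haveI : Algebra.FormallySmooth ℚ (R ⧸ maximalIdeal R) := formallySmooth_rat _
  obtain ⟨g, hg⟩ := Algebra.FormallySmooth.exists_mkₐ_comp_eq_of_isAdicComplete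
    (R := ℚ) (A := R ⧸ maximalIdeal R) (S := R) (I := maximalIdeal R) (AlgHom.id ℚ _)
  refine ⟨g.toRingHom, ?_⟩
  ext x
  exact congr($hg x)

end Groth.Agent.S0579
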