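import Groth.Statements.S0581
import Groth.Agent.H15.CohenCoeff

set_option autoImplicit false
universe u
open CAlg

namespace Groth.Agent.S0581

/-- A complete Noetherian local domain `R` contains a subring `R₀` over which it is module-finite with
the same residue field, where `R₀` is a power series ring in finitely many variables over a field or
over a Cohen ring. Stated with `R₀` given as the image of an injective ring map. -/
theorem result (R : Type u) [CommRing R]
    [IsDomain R] [IsLocalRing R] [IsNoetherianRing R] [IsAdicComplete (IsLocalRing.maximalIdeal R) R] :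
    ∃ (Λ : Type u) (_ : CommRing Λ) (n : ℕ) (f : MvPowerSeries (Fin n) Λ →+* R),
      (IsField Λ ∨ CAlg.IsCohenRing Λ) ∧ Function.Injective f ∧ f.Finite ∧
      Function.Surjective ((IsLocalRing.residue R).comp f) := by
  obtain ⟨D, hD⟩ := Groth.Agent.H15.CohenCoeff.exists_coeffData R
  obtain ⟨n, F, hinj, hfin, -, hres⟩ := Groth.Agent.H15.CohenNorm.exists_finite_injective D.φ D.surj
    (hD ‹IsDomain R› ‹IsNoetherianRing R›)
  exact ⟨D.Λ, D.commRing, n, F, D.kind, hinj, hfin, hres⟩

end Groth.Agent.S0581
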