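import Groth.Statements.S2563
import Mathlib.LinearAlgebra.TensorProduct.Quotient
import Mathlib.RingTheory.TensorProduct.Basic
import Mathlib.RingTheory.Ideal.Quotient.Operations
import Mathlib.Algebra.Module.Projective
import Mathlib.LinearAlgebra.Basis.Basic
import Mathlib.LinearAlgebra.FreeModule.Basic
import Mathlib.RingTheory.Ideal.Operations

set_option autoImplicit false
open TensorProduct
universe u
open EGA43

namespace Groth.Agent.S2563

section Nak

variable {R : Type*} [CommRing R] {P : Type*} [AddCommGroup P] [Module R P]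

theorem nak_top (I : Ideal R) (hI : IsNilpotent I) (N : Submodule R P)
    (h : N ⊔ I • (⊤ : Submodule R P) = ⊤) : N = ⊤ := by
  obtain ⟨n, hn⟩ := hI
  have key : ∀ k : ℕ, (⊤ : Submodule R P) ≤ N ⊔ I ^ k • (⊤ : Submodule R P) := by
    intro k
    induction k with
    | zero => simp
    | succ k ih =>
      calc (⊤ : Submodule R P) = N ⊔ I • (⊤ : Submodule R P) := h.symm
        _ ≤ N ⊔ I • (N ⊔ I ^ k • (⊤ : Submodule R P)) :=
            sup_le_sup_left (Submodule.smul_mono le_rfl ih) _
        _ = N ⊔ (I • N ⊔ I ^ (k + 1) • (⊤ : Submodule R P)) := by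
            rw [Submodule.smul_sup, pow_succ', Submodule.mul_smul]
        _ ≤ N ⊔ I ^ (k + 1) • (⊤ : Submodule R P) := by
            refine sup_le le_sup_left (sup_le ?_ le_sup_right)
            exact Submodule.smul_le_right.trans le_sup_left
  have := key n
  rw [hn, Ideal.zero_eq_bot, Submodule.bot_smul, sup_bot_eq] at this
  exact top_le_iff.mp this

theorem nak_bot (I : Ideal R) (hI : IsNilpotent I) (K : Submodule R P)
    (h : K ≤ I • K) : K = ⊥ := by
  obtain ⟨n, hn⟩ := hI
  have key : ∀ k : ℕ, K ≤ I ^ k • K := by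
    intro k
    induction k with
    | zero => simp
    | succ k ih =>
      calc K ≤ I • K := h
        _ ≤ I • (I ^ k • K) := Submodule.smul_mono le_rfl ih
        _ = I ^ (k + 1) • K := by rw [pow_succ', Submodule.mul_smul]
  have := key n
  rw [hn, Ideal.zero_eq_bot, Submodule.bot_smul] at this
  exact le_bot_iff.mp this

theorem key_injective (I : Ideal R) (hI : IsNilpotent I) [Module.Projective R P]
    {κ : Type*} [DecidableEq κ] (p : κ → P) (hspan : Submodule.span R (Set.range p) = ⊤)
    (ψ : κ → P →ₗ[R] R ⧸ I) (hψ : ∀ k l, ψ k (p l) = if l = k then 1 else 0) :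
    Function.Injective (Finsupp.linearCombination R p) := by
  set f := Finsupp.linearCombination R p with hf
  have hsurj : Function.Surjective f := by
    rw [← LinearMap.range_eq_top, hf, Finsupp.range_linearCombination, hspan]
  obtain ⟨s, hs⟩ := Module.projective_lifting_property f LinearMap.id hsurj
  rw [← LinearMap.ker_eq_bot]
  apply nak_bot I hI
  intro x hx
  rw [LinearMap.mem_ker] at hx
  -- coordinates lie in I
  have hcoord : ∀ k, x k ∈ I := by
    intro k
    have h1 : ψ k (f x) = 0 := by rw [hx, map_zero]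
    rw [hf, Finsupp.linearCombination_apply, map_finsuppSum] at h1
    simp only [map_smul, hψ] at h1
    rw [Finsupp.sum] at h1
    have h2 : ∀ l ∈ x.support, x l • (if l = k then (1 : R ⧸ I) else 0) =
        if l = k then Ideal.Quotient.mk I (x l) else 0 := by
      intro l _
      split_ifs
      · rw [Algebra.smul_def, mul_one]; rfl
      · rw [smul_zero]
    rw [Finset.sum_congr rfl h2, Finset.sum_ite_eq'] at h1
    by_cases hk : k ∈ x.support
    · rw [if_pos hk] at h1
      exact Ideal.Quotient.eq_zero_iff_mem.mp h1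
    · rw [Finsupp.notMem_support_iff.mp hk]
      exact I.zero_mem
  have hxI : x ∈ I • (⊤ : Submodule R (κ →₀ R)) := by
    rw [← Finsupp.sum_single x]
    refine Submodule.sum_mem _ fun k _ => ?_
    rw [← Finsupp.smul_single_one]
    exact Submodule.smul_mem_smul (hcoord k) trivial
  set g : (κ →₀ R) →ₗ[R] (κ →₀ R) := LinearMap.id - s ∘ₗ f with hg
  have hgx : g x = x := by
    simp [hg, hx]
  have hgK : ∀ y, g y ∈ LinearMap.ker f := by
    intro y
    rw [LinearMap.mem_ker, hg, LinearMap.sub_apply, map_sub, LinearMap.id_apply,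
      LinearMap.comp_apply]
    have : f (s (f y)) = f y := by
      have := LinearMap.congr_fun hs (f y)
      simpa using this
    rw [this, sub_self]
  have : g x ∈ (I • (⊤ : Submodule R (κ →₀ R))).map g := Submodule.mem_map_of_mem hxI
  rw [Submodule.map_smul'', hgx] at this
  refine Submodule.smul_mono le_rfl ?_ this
  rintro _ ⟨y, -, rfl⟩
  exact hgK y

end Nak

/-- Let A be a commutative ring, J a nilpotent ideal of A, and (B_i) a family of commutative A-algebras
such that an element of A vanishing in every B_i is zero. Let M be an A-module such that each B_i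
⊗_A M is a free B_i-module and (A/J) ⊗_A M is a free (A/J)-module. Then M is a free A-module. -/
theorem result {A : Type u} [CommRing A] (J : Ideal A) (hJ : IsNilpotent J)
    {ι : Type u} (B : ι → Type u) [∀ i, CommRing (B i)] [∀ i, Algebra A (B i)]
    (hB : ∀ a : A, (∀ i, algebraMap A (B i) a = 0) → a = 0)
    (M : Type u) [AddCommGroup M] [Module A M]
    (hfree : ∀ i, Module.Free (B i) (B i ⊗[A] M)) (hfreeJ : Module.Free (A ⧸ J) ((A ⧸ J) ⊗[A] M)) :
    Module.Free A M := by
  classical
  let κ := Module.Free.ChooseBasisIndex (A ⧸ J) ((A ⧸ J) ⊗[A] M)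
  let b : Module.Basis κ (A ⧸ J) ((A ⧸ J) ⊗[A] M) := Module.Free.chooseBasis _ _
  -- every element of the tensor product is `1 ⊗ m`
  have hone : ∀ t : (A ⧸ J) ⊗[A] M, ∃ m : M, (1 : A ⧸ J) ⊗ₜ[A] m = t := by
    intro t
    induction t using TensorProduct.induction_on with
    | zero => exact ⟨0, tmul_zero _ _⟩
    | tmul a m =>
      obtain ⟨a, rfl⟩ := Ideal.Quotient.mk_surjective a
      refine ⟨a • m, ?_⟩
      rw [← TensorProduct.smul_tmul, Algebra.smul_def, mul_one]
      rfl
    | add t₁ t₂ h₁ h₂ =>
      obtain ⟨m₁, rfl⟩ := h₁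
      obtain ⟨m₂, rfl⟩ := h₂
      exact ⟨m₁ + m₂, tmul_add _ _ _⟩
  choose m hm using fun k => hone (b k)
  -- kernel of `m ↦ 1 ⊗ m`
  have hker : ∀ z : M, (1 : A ⧸ J) ⊗ₜ[A] z = 0 → z ∈ J • (⊤ : Submodule A M) := by
    intro z hz
    have := congrArg (TensorProduct.quotTensorEquivQuotSMul M J) hz
    rw [TensorProduct.quotTensorEquivQuotSMul_mk_one_tmul, map_zero,
      Submodule.Quotient.mk_eq_zero] at this
    exact this
  set N : Submodule A M := Submodule.span A (Set.range m) with hN
  have hsup : N ⊔ J • (⊤ : Submodule A M) = ⊤ := by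
    rw [eq_top_iff]
    intro z _
    have hmem : (1 : A ⧸ J) ⊗ₜ[A] z ∈ Submodule.span (A ⧸ J) (Set.range b) := by
      rw [b.span_eq]; trivial
    have hex : ∃ n ∈ N, (1 : A ⧸ J) ⊗ₜ[A] n = (1 : A ⧸ J) ⊗ₜ[A] z := by
      refine Submodule.span_induction (p := fun t _ => ∃ n ∈ N, (1 : A ⧸ J) ⊗ₜ[A] n = t)
        ?_ ?_ ?_ ?_ hmem
      · rintro _ ⟨k, rfl⟩
        exact ⟨m k, Submodule.subset_span ⟨k, rfl⟩, hm k⟩
      · exact ⟨0, N.zero_mem, tmul_zero _ _⟩
      · rintro _ _ _ _ ⟨n₁, hn₁, rfl⟩ ⟨n₂, hn₂, rfl⟩
        exact ⟨n₁ + n₂, N.add_mem hn₁ hn₂, tmul_add _ _ _⟩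
      · rintro a _ _ ⟨n, hn, rfl⟩
        obtain ⟨a, rfl⟩ := Ideal.Quotient.mk_surjective a
        refine ⟨a • n, N.smul_mem a hn, ?_⟩
        rw [← TensorProduct.smul_tmul, TensorProduct.smul_tmul', Algebra.smul_def, mul_one,
          smul_eq_mul, mul_one]
        rfl
    obtain ⟨n, hn, hnz⟩ := hex
    have hz : z - n ∈ J • (⊤ : Submodule A M) := by
      apply hker
      rw [tmul_sub, hnz, sub_self]
    have : z = n + (z - n) := by abel
    rw [this]
    exact Submodule.add_mem_sup hn hz
  have hNtop : N = ⊤ := nak_top J hJ N hsup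
  set f : (κ →₀ A) →ₗ[A] M := Finsupp.linearCombination A m with hf
  have hsurj : Function.Surjective f := by
    rw [← LinearMap.range_eq_top, hf, Finsupp.range_linearCombination]
    exact hNtop
  have hinj : Function.Injective f := by
    rw [← LinearMap.ker_eq_bot, LinearMap.ker_eq_bot']
    intro x hx
    ext k
    rw [Finsupp.zero_apply]
    apply hB
    intro i
    -- work over `R = B i`
    let R := B i
    let I : Ideal R := J.map (algebraMap A R)
    have hI : IsNilpotent I := by
      obtain ⟨n, hn⟩ := hJ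
      refine ⟨n, ?_⟩
      rw [← Ideal.map_pow, hn, Ideal.zero_eq_bot, Ideal.map_bot, Ideal.zero_eq_bot]
    let p : κ → R ⊗[A] M := fun k => (1 : R) ⊗ₜ[A] m k
    have hspan : Submodule.span R (Set.range p) = ⊤ := by
      rw [eq_top_iff]
      rintro t -
      have h1 : ∀ n : M, (1 : R) ⊗ₜ[A] n ∈ Submodule.span R (Set.range p) := by
        intro n
        have hn : n ∈ N := by rw [hNtop]; trivial
        refine Submodule.span_induction
          (p := fun n _ => (1 : R) ⊗ₜ[A] n ∈ Submodule.span R (Set.range p)) ?_ ?_ ?_ ?_ hn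
        · rintro _ ⟨k, rfl⟩
          exact Submodule.subset_span ⟨k, rfl⟩
        · rw [tmul_zero]; exact Submodule.zero_mem _
        · intro n₁ n₂ _ _ h₁ h₂
          rw [tmul_add]; exact Submodule.add_mem _ h₁ h₂
        · intro a n _ h
          rw [TensorProduct.tmul_smul, ← algebraMap_smul R a]
          exact Submodule.smul_mem _ _ h
      induction t using TensorProduct.induction_on with
      | zero => exact Submodule.zero_mem _
      | tmul r n =>
        have : r ⊗ₜ[A] n = r • ((1 : R) ⊗ₜ[A] n) := by
          rw [TensorProduct.smul_tmul', smul_eq_mul, mul_one]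
        rw [this]
        exact Submodule.smul_mem _ _ (h1 n)
      | add t₁ t₂ h₁ h₂ => exact Submodule.add_mem _ h₁ h₂
    -- coordinate functionals
    let c : κ → M →ₗ[A] (A ⧸ J) := fun k =>
      { toFun := fun n => b.repr ((1 : A ⧸ J) ⊗ₜ[A] n) k
        map_add' := by intro n₁ n₂; simp [tmul_add]
        map_smul' := by
          intro a n
          simp only [RingHom.id_apply]
          rw [TensorProduct.tmul_smul, ← algebraMap_smul (A ⧸ J) a, map_smul, Finsupp.smul_apply,
            algebraMap_smul] }
    let φ : (A ⧸ J) →ₐ[A] (R ⧸ I) :=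
      Ideal.quotientMapₐ I (Algebra.ofId A R) Ideal.le_comap_map
    let ψ : κ → (R ⊗[A] M) →ₗ[R] (R ⧸ I) := fun k =>
      (φ.toLinearMap ∘ₗ c k).liftBaseChange R
    have hψ : ∀ k l, ψ k (p l) = if l = k then 1 else 0 := by
      intro k l
      simp only [ψ, p, LinearMap.liftBaseChange_tmul, one_smul, LinearMap.comp_apply,
        AlgHom.toLinearMap_apply]
      have : c k (m l) = if l = k then 1 else 0 := by
        simp only [c, LinearMap.coe_mk, AddHom.coe_mk, hm, Module.Basis.repr_self,
          Finsupp.single_apply]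
      rw [this]
      split_ifs <;> simp
    have hproj : Module.Projective R (R ⊗[A] M) := by
      have := hfree i
      infer_instance
    have hinjR := key_injective I hI p hspan ψ hψ
    have hzero : Finsupp.linearCombination R p (Finsupp.mapRange (algebraMap A R) (map_zero _) x)
        = 0 := by
      rw [Finsupp.linearCombination_apply, Finsupp.sum_mapRange_index (by intro k; simp)]
      have h2 : (TensorProduct.mk A R M 1) (f x) = 0 := by rw [hx, map_zero]
      rw [hf, Finsupp.linearCombination_apply, map_finsuppSum] at h2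
      rw [← h2]
      refine Finsupp.sum_congr fun k _ => ?_
      simp only [p, TensorProduct.mk_apply, TensorProduct.tmul_smul, algebraMap_smul]
    have hx0 := hinjR (hzero.trans (map_zero _).symm)
    have := DFunLike.congr_fun hx0 k
    simpa using this
  exact Module.Free.of_equiv (LinearEquiv.ofBijective f ⟨hinj, hsurj⟩)

end Groth.Agent.S2563
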