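import Groth.Statements.S4853
import Groth.Agent.S2563
import Mathlib.RingTheory.Flat.EquationalCriterion
import Mathlib.RingTheory.TensorProduct.Free
import Mathlib.LinearAlgebra.TensorProduct.RightExactness
import Mathlib.RingTheory.Flat.Basic

set_option autoImplicit false
universe u
open TensorProduct
open EGA43

namespace Groth.Agent.S4853

section Nak

variable {R : Type*} [CommRing R] {P : Type*} [AddCommGroup P] [Module R P]

/-- flat version of `Groth.Agent.S2563.key_injective`: a spanning family with dual functionals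
modulo a nilpotent ideal in a flat module is linearly independent. -/
theorem key_injective_flat (I : Ideal R) (hI : IsNilpotent I) [Module.Flat R P]
    {κ : Type*} [DecidableEq κ] (p : κ → P) (hspan : Submodule.span R (Set.range p) = ⊤)
    (ψ : κ → P →ₗ[R] R ⧸ I) (hψ : ∀ k l, ψ k (p l) = if l = k then 1 else 0) :
    Function.Injective (Finsupp.linearCombination R p) := by
  set f := Finsupp.linearCombination R p with hf
  have hsurj : Function.Surjective f := by
    rw [← LinearMap.range_eq_top, hf, Finsupp.range_linearCombination, hspan]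
  rw [← LinearMap.ker_eq_bot]
  apply Groth.Agent.S2563.nak_bot I hI
  intro x hx
  rw [LinearMap.mem_ker] at hx
  -- coordinates lie in I
  have hcoord : ∀ k, x k ∈ I := by
    intro k
    have h1 : ψ k (f x) = 0 := by rw [hx, map_zero]
    rw [hf, Finsupp.linearCombination_apply, map_finsuppSum] at h1
    simp only [map_smul, hψ] at h1
    rw [Finsupp.sum] at h1
    have h2 : ∀ l ∈ x.support, x l • (if l = k then (1 : R ⧸ I) else 0) =
        if l = k then Ideal.Quotient.mk I (x l) else 0 := by
      intro l _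
      split_ifs
      · rw [Algebra.smul_def, mul_one]; rfl
      · rw [smul_zero]
    rw [Finset.sum_congr rfl h2, Finset.sum_ite_eq'] at h1
    by_cases hk : k ∈ x.support
    · rw [if_pos hk] at h1
      exact Ideal.Quotient.eq_zero_iff_mem.mp h1
    · rw [Finsupp.notMem_support_iff.mp hk]
      exact I.zero_mem
  -- the relation `∑ x_k p_k = 0` is trivial
  have hrel : ∑ k : x.support, x k.1 • p k.1 = 0 := by
    have h0 : f x = 0 := hx
    rw [hf, Finsupp.linearCombination_apply, Finsupp.sum] at h0
    rw [← h0]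
    exact Finset.sum_coe_sort x.support (fun k => x k • p k)
  obtain ⟨n, a, y, hy, ha⟩ := Module.Flat.isTrivialRelation_of_sum_smul_eq_zero
    (f := fun k : x.support => x k.1) (x := fun k : x.support => p k.1) hrel
  choose η hη using fun j => hsurj (y j)
  have hx' : x = ∑ k : x.support, x k.1 • (Finsupp.single k.1 (1 : R) - ∑ j, a k j • η j) := by
    have h1 : x = ∑ k : x.support, x k.1 • Finsupp.single k.1 (1 : R) := by
      conv_lhs => rw [← Finsupp.sum_single x]
      rw [Finsupp.sum, ← Finset.sum_coe_sort]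
      refine Finset.sum_congr rfl fun k _ => ?_
      rw [Finsupp.smul_single_one]
    have h2 : ∑ k : x.support, x k.1 • ∑ j, a k j • η j = 0 := by
      simp_rw [Finset.smul_sum, smul_smul]
      rw [Finset.sum_comm]
      refine Finset.sum_eq_zero fun j _ => ?_
      rw [← Finset.sum_smul, ha j, zero_smul]
    simp_rw [smul_sub]
    rw [Finset.sum_sub_distrib, h2, sub_zero]
    exact h1
  rw [hx']
  refine Submodule.sum_mem _ fun k _ => ?_
  refine Submodule.smul_mem_smul (hcoord k.1) ?_
  rw [LinearMap.mem_ker, map_sub, map_sum]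
  simp_rw [map_smul, hη]
  rw [hf, Finsupp.linearCombination_single, one_smul, ← hy k, sub_self]

end Nak

theorem baseChange_injective_of_ker {A : Type*} [CommRing A] {F M : Type*} [AddCommGroup F]
    [Module A F] [AddCommGroup M] [Module A M] (f : F →ₗ[A] M) (hsurj : Function.Surjective f)
    (A' : Type*) [CommRing A'] [Algebra A A']
    (h : ∀ x ∈ LinearMap.ker f, ∀ a' : A', (a' ⊗ₜ[A] x : A' ⊗[A] F) = 0) :
    Function.Injective (f.baseChange A') := by
  have hex : Function.Exact (LinearMap.lTensor A' (LinearMap.ker f).subtype)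
      (LinearMap.lTensor A' f) :=
    lTensor_exact A' (LinearMap.exact_subtype_ker_map f) hsurj
  have hker0 : ∀ η : A' ⊗[A] (LinearMap.ker f),
      LinearMap.lTensor A' (LinearMap.ker f).subtype η = 0 := by
    intro η
    induction η using TensorProduct.induction_on with
    | zero => rw [map_zero]
    | add a b ha hb => rw [map_add, ha, hb, add_zero]
    | tmul a' x =>
      rw [LinearMap.lTensor_tmul, Submodule.subtype_apply]
      exact h x.1 x.2 a'
  rw [injective_iff_map_eq_zero]
  intro ξ hξ
  have hξ' : LinearMap.lTensor A' f ξ = 0 := hξ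
  obtain ⟨η, rfl⟩ := (hex ξ).mp hξ'
  exact hker0 η

/-- Let A be a commutative ring and M an A-module such that (A/J) ⊗_A M is free over A/J for some
nilpotent ideal J of A. Then among the ideals R of A such that (A/R) ⊗_A M is free over A/R there is
a least one, R₀, which is also the least ideal R such that (A/R) ⊗_A M is flat over A/R; and for
every commutative A-algebra A', the module A' ⊗_A M is free over A' if and only if it is flat over
A', if and only if R₀ generates the zero ideal of A'. -/
theorem result {A : Type u} [CommRing A]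
    (M : Type u) [AddCommGroup M] [Module A M]
    (J : Ideal A) (hJ : IsNilpotent J) (hfree : Module.Free (A ⧸ J) ((A ⧸ J) ⊗[A] M)) :
    ∃ R₀ : Ideal A,
      IsLeast {R : Ideal A | Module.Free (A ⧸ R) ((A ⧸ R) ⊗[A] M)} R₀ ∧
      IsLeast {R : Ideal A | Module.Flat (A ⧸ R) ((A ⧸ R) ⊗[A] M)} R₀ ∧
      ∀ (A' : Type u) [CommRing A'] [Algebra A A'],
        (Module.Free A' (A' ⊗[A] M) ↔ Ideal.map (algebraMap A A') R₀ = ⊥) ∧
        (Module.Flat A' (A' ⊗[A] M) ↔ Ideal.map (algebraMap A A') R₀ = ⊥) := by
  classical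
  let κ := Module.Free.ChooseBasisIndex (A ⧸ J) ((A ⧸ J) ⊗[A] M)
  let b : Module.Basis κ (A ⧸ J) ((A ⧸ J) ⊗[A] M) := Module.Free.chooseBasis _ _
  -- every element of the tensor product is `1 ⊗ m`
  have hone : ∀ t : (A ⧸ J) ⊗[A] M, ∃ m : M, (1 : A ⧸ J) ⊗ₜ[A] m = t := by
    intro t
    induction t using TensorProduct.induction_on with
    | zero => exact ⟨0, tmul_zero _ _⟩
    | tmul a m =>
      obtain ⟨a, rfl⟩ := Ideal.Quotient.mk_surjective a
      refine ⟨a • m, ?_⟩
      rw [← TensorProduct.smul_tmul, Algebra.smul_def, mul_one]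
      rfl
    | add t₁ t₂ h₁ h₂ =>
      obtain ⟨m₁, rfl⟩ := h₁
      obtain ⟨m₂, rfl⟩ := h₂
      exact ⟨m₁ + m₂, tmul_add _ _ _⟩
  choose m hm using fun k => hone (b k)
  -- kernel of `m ↦ 1 ⊗ m`
  have hker : ∀ z : M, (1 : A ⧸ J) ⊗ₜ[A] z = 0 → z ∈ J • (⊤ : Submodule A M) := by
    intro z hz
    have := congrArg (TensorProduct.quotTensorEquivQuotSMul M J) hz
    rw [TensorProduct.quotTensorEquivQuotSMul_mk_one_tmul, map_zero,
      Submodule.Quotient.mk_eq_zero] at this
    exact this
  set N : Submodule A M := Submodule.span A (Set.range m) with hN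
  have hsup : N ⊔ J • (⊤ : Submodule A M) = ⊤ := by
    rw [eq_top_iff]
    intro z _
    have hmem : (1 : A ⧸ J) ⊗ₜ[A] z ∈ Submodule.span (A ⧸ J) (Set.range b) := by
      rw [b.span_eq]; trivial
    have hex : ∃ n ∈ N, (1 : A ⧸ J) ⊗ₜ[A] n = (1 : A ⧸ J) ⊗ₜ[A] z := by
      refine Submodule.span_induction (p := fun t _ => ∃ n ∈ N, (1 : A ⧸ J) ⊗ₜ[A] n = t)
        ?_ ?_ ?_ ?_ hmem
      · rintro _ ⟨k, rfl⟩
        exact ⟨m k, Submodule.subset_span ⟨k, rfl⟩, hm k⟩
      · exact ⟨0, N.zero_mem, tmul_zero _ _⟩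
      · rintro _ _ _ _ ⟨n₁, hn₁, rfl⟩ ⟨n₂, hn₂, rfl⟩
        exact ⟨n₁ + n₂, N.add_mem hn₁ hn₂, tmul_add _ _ _⟩
      · rintro a _ _ ⟨n, hn, rfl⟩
        obtain ⟨a, rfl⟩ := Ideal.Quotient.mk_surjective a
        refine ⟨a • n, N.smul_mem a hn, ?_⟩
        rw [← TensorProduct.smul_tmul, TensorProduct.smul_tmul', Algebra.smul_def, mul_one,
          smul_eq_mul, mul_one]
        rfl
    obtain ⟨n, hn, hnz⟩ := hex
    have hz : z - n ∈ J • (⊤ : Submodule A M) := by
      apply hker
      rw [tmul_sub, hnz, sub_self]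
    have : z = n + (z - n) := by abel
    rw [this]
    exact Submodule.add_mem_sup hn hz
  have hNtop : N = ⊤ := Groth.Agent.S2563.nak_top J hJ N hsup
  set f : (κ →₀ A) →ₗ[A] M := Finsupp.linearCombination A m with hf
  have hsurj : Function.Surjective f := by
    rw [← LinearMap.range_eq_top, hf, Finsupp.range_linearCombination]
    exact hNtop
  -- coordinate functionals
  let c : κ → M →ₗ[A] (A ⧸ J) := fun k =>
    { toFun := fun n => b.repr ((1 : A ⧸ J) ⊗ₜ[A] n) k
      map_add' := by intro n₁ n₂; simp [tmul_add]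
      map_smul' := by
        intro a n
        simp only [RingHom.id_apply]
        rw [TensorProduct.tmul_smul, ← algebraMap_smul (A ⧸ J) a, map_smul, Finsupp.smul_apply,
          algebraMap_smul] }
  have hc : ∀ k l, c k (m l) = if l = k then 1 else 0 := by
    intro k l
    simp only [c, LinearMap.coe_mk, AddHom.coe_mk, hm, Module.Basis.repr_self,
      Finsupp.single_apply]
  -- the ideal `R₀` of coordinates of relations
  obtain ⟨R₀, hR₀⟩ : ∃ R₀ : Ideal A,
      R₀ = Ideal.span {a | ∃ x ∈ LinearMap.ker f, ∃ k, a = x k} := ⟨_, rfl⟩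
  have key1 : ∀ (A' : Type u) [CommRing A'] [Algebra A A'],
      Ideal.map (algebraMap A A') R₀ = ⊥ → Module.Free A' (A' ⊗[A] M) := by
    intro A' _ _ h0
    have hzero : ∀ x ∈ LinearMap.ker f, ∀ k, algebraMap A A' (x k) = 0 := by
      intro x hx k
      have h1 : algebraMap A A' (x k) ∈ Ideal.map (algebraMap A A') R₀ := by
        apply Ideal.mem_map_of_mem
        rw [hR₀]
        exact Ideal.subset_span ⟨x, hx, k, rfl⟩
      rw [h0] at h1
      exact (Ideal.mem_bot).mp h1
    have hinj : Function.Injective (f.baseChange A') := by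
      apply baseChange_injective_of_ker f hsurj A'
      intro x hx a'
      have h1 : (x : κ →₀ A) = ∑ k ∈ x.support, x k • Finsupp.single k (1 : A) := by
        conv_lhs => rw [← Finsupp.sum_single x]
        rw [Finsupp.sum]
        refine Finset.sum_congr rfl fun k _ => ?_
        rw [Finsupp.smul_single_one]
      rw [h1, TensorProduct.tmul_sum]
      refine Finset.sum_eq_zero fun k _ => ?_
      rw [TensorProduct.tmul_smul, TensorProduct.smul_tmul', Algebra.smul_def,
        hzero x hx k, zero_mul, TensorProduct.zero_tmul]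
    have hsurj' : Function.Surjective (f.baseChange A') :=
      LinearMap.lTensor_surjective A' hsurj
    exact Module.Free.of_equiv (LinearEquiv.ofBijective (f.baseChange A') ⟨hinj, hsurj'⟩)
  have key2 : ∀ (A' : Type u) [CommRing A'] [Algebra A A'],
      Module.Flat A' (A' ⊗[A] M) → Ideal.map (algebraMap A A') R₀ = ⊥ := by
    intro A' _ _ hflat
    rw [eq_bot_iff, Ideal.map_le_iff_le_comap, hR₀, Ideal.span_le]
    rintro _ ⟨x, hx, k, rfl⟩
    rw [SetLike.mem_coe, Ideal.mem_comap, Ideal.mem_bot]
    rw [LinearMap.mem_ker] at hx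
    have hI : IsNilpotent (J.map (algebraMap A A')) := by
      obtain ⟨n, hn⟩ := hJ
      refine ⟨n, ?_⟩
      rw [← Ideal.map_pow, hn, Ideal.zero_eq_bot, Ideal.map_bot, Ideal.zero_eq_bot]
    have hspan : Submodule.span A' (Set.range fun k => (1 : A') ⊗ₜ[A] m k) = ⊤ := by
      rw [eq_top_iff]
      rintro t -
      have h1 : ∀ n : M, (1 : A') ⊗ₜ[A] n ∈
          Submodule.span A' (Set.range fun k => (1 : A') ⊗ₜ[A] m k) := by
        intro n
        have hn : n ∈ N := by rw [hNtop]; trivial
        refine Submodule.span_induction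
          (p := fun n _ => (1 : A') ⊗ₜ[A] n ∈
            Submodule.span A' (Set.range fun k => (1 : A') ⊗ₜ[A] m k)) ?_ ?_ ?_ ?_ hn
        · rintro _ ⟨k, rfl⟩
          exact Submodule.subset_span ⟨k, rfl⟩
        · rw [tmul_zero]; exact Submodule.zero_mem _
        · intro n₁ n₂ _ _ h₁ h₂
          rw [tmul_add]; exact Submodule.add_mem _ h₁ h₂
        · intro a n _ h
          rw [TensorProduct.tmul_smul, ← algebraMap_smul A' a]
          exact Submodule.smul_mem _ _ h
      induction t using TensorProduct.induction_on with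
      | zero => exact Submodule.zero_mem _
      | tmul r n =>
        have : r ⊗ₜ[A] n = r • ((1 : A') ⊗ₜ[A] n) := by
          rw [TensorProduct.smul_tmul', smul_eq_mul, mul_one]
        rw [this]
        exact Submodule.smul_mem _ _ (h1 n)
      | add t₁ t₂ h₁ h₂ => exact Submodule.add_mem _ h₁ h₂
    let φ : (A ⧸ J) →ₐ[A] (A' ⧸ J.map (algebraMap A A')) :=
      Ideal.quotientMapₐ (J.map (algebraMap A A')) (Algebra.ofId A A') Ideal.le_comap_map
    let ψ : κ → (A' ⊗[A] M) →ₗ[A'] (A' ⧸ J.map (algebraMap A A')) := fun k =>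
      (φ.toLinearMap ∘ₗ c k).liftBaseChange A'
    have hψ : ∀ k l, ψ k ((1 : A') ⊗ₜ[A] m l) = if l = k then 1 else 0 := by
      intro k l
      simp only [ψ, LinearMap.liftBaseChange_tmul, one_smul, LinearMap.comp_apply,
        AlgHom.toLinearMap_apply]
      rw [hc]
      split_ifs <;> simp
    have hinjR := key_injective_flat (J.map (algebraMap A A')) hI
      (fun k => (1 : A') ⊗ₜ[A] m k) hspan ψ hψ
    have hzero : Finsupp.linearCombination A' (fun k => (1 : A') ⊗ₜ[A] m k)
        (Finsupp.mapRange (algebraMap A A') (map_zero _) x) = 0 := by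
      rw [Finsupp.linearCombination_apply, Finsupp.sum_mapRange_index (by intro k; simp)]
      have h2 : (TensorProduct.mk A A' M 1) (f x) = 0 := by rw [hx, map_zero]
      rw [hf, Finsupp.linearCombination_apply, map_finsuppSum] at h2
      rw [← h2]
      refine Finsupp.sum_congr fun k _ => ?_
      simp only [TensorProduct.mk_apply, TensorProduct.tmul_smul, algebraMap_smul]
    have hx0 := hinjR (hzero.trans (map_zero _).symm)
    have := DFunLike.congr_fun hx0 k
    simpa using this
  have keyFree : ∀ (A' : Type u) [CommRing A'] [Algebra A A'],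
      (Module.Free A' (A' ⊗[A] M) ↔ Ideal.map (algebraMap A A') R₀ = ⊥) := by
    intro A' _ _
    constructor
    · intro h
      exact key2 A' inferInstance
    · exact key1 A'
  have keyFlat : ∀ (A' : Type u) [CommRing A'] [Algebra A A'],
      (Module.Flat A' (A' ⊗[A] M) ↔ Ideal.map (algebraMap A A') R₀ = ⊥) := by
    intro A' _ _
    constructor
    · exact key2 A'
    · intro h
      haveI := key1 A' h
      infer_instance
  have hquot : ∀ R : Ideal A, Ideal.map (algebraMap A (A ⧸ R)) R₀ = ⊥ ↔ R₀ ≤ R := by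
    intro R
    rw [Ideal.map_eq_bot_iff_le_ker, Ideal.Quotient.algebraMap_eq, Ideal.mk_ker]
  refine ⟨R₀, ⟨?_, ?_⟩, ⟨?_, ?_⟩, fun A' _ _ => ⟨keyFree A', keyFlat A'⟩⟩
  · exact (keyFree (A ⧸ R₀)).mpr ((hquot R₀).mpr le_rfl)
  · intro R hR
    exact (hquot R).mp ((keyFree (A ⧸ R)).mp hR)
  · exact (keyFlat (A ⧸ R₀)).mpr ((hquot R₀).mpr le_rfl)
  · intro R hR
    exact (hquot R).mp ((keyFlat (A ⧸ R)).mp hR)

end Groth.Agent.S4853
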