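import Groth.Statements.S2155
import Groth.Agent.H49.SmoothFibre
import Groth.Agent.H49.SmoothDescent

set_option autoImplicit false
universe u
open CategoryTheory AlgebraicGeometry
open Mor

namespace Groth.Agent.S2155


/-- Consider a cartesian square with `f : X → S` locally of finite presentation, base change `g : S' →
S`, and `f' : X' → S'`, `g' : X' → X` the projections. If `f` is flat, or if `g` is flat, then the
open set of points where `f'` is smooth is the preimage under `g'` of the open set of points where
`f` is smooth. -/
theorem result {X S X' S' : Scheme.{u}} (f : X ⟶ S) (g : S' ⟶ S) (f' : X' ⟶ S') (g' : X' ⟶ X)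
    (h : IsPullback g' f' f g) [LocallyOfFinitePresentation f] [LocallyOfFinitePresentation f'] (hflat : Flat f ∨ Flat g) :
    f'.smoothLocus = g' ⁻¹ᵁ f.smoothLocus := by
  refine TopologicalSpace.Opens.ext (Set.ext fun x' => ?_)
  change x' ∈ f'.smoothLocus ↔ g' x' ∈ f.smoothLocus
  constructor
  · intro hx'
    rcases hflat with hf | hg
    · haveI := hf
      exact Groth.Agent.H49.SmoothDescent.mem_smoothLocus_of_isPullback_of_flat_left h x' hx'
    · haveI := hg
      exact Groth.Agent.H49.SmoothDescent.mem_smoothLocus_of_isPullback_of_flat h x'
        (AlgebraicGeometry.Flat.stalkMap g _) hx'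
  · intro hx
    exact Groth.Agent.H49.SmoothFibre.mem_smoothLocus_of_isPullback h x' hx

end Groth.Agent.S2155
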