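import Groth.Statements.S1460
import Mathlib.RingTheory.Extension.Presentation.Core
import Mathlib.Algebra.Category.Ring.Constructions
import Mathlib.AlgebraicGeometry.Morphisms.FiniteType

set_option autoImplicit false
universe u
open FlatMor

namespace Groth.Agent.S1460

open TensorProduct in
lemma isPushout_model {R B : Type u} [CommRing R] [CommRing B] [Algebra R B] {n m : ℕ}
    (P : Algebra.Presentation R B (Fin n) (Fin m)) :
    CategoryTheory.IsPushout
      (CommRingCat.ofHom (algebraMap P.Core (P.ModelOfHasCoeffs P.Core)))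
      (CommRingCat.ofHom (algebraMap P.Core R))
      (CommRingCat.ofHom (((P.tensorModelOfHasCoeffsEquiv P.Core :
          R ⊗[P.Core] P.ModelOfHasCoeffs P.Core ≃ₐ[R] B) :
          R ⊗[P.Core] P.ModelOfHasCoeffs P.Core →+* B).comp
        (Algebra.TensorProduct.includeRight (R := P.Core) (A := R)
          (B := P.ModelOfHasCoeffs P.Core)).toRingHom))
      (CommRingCat.ofHom (algebraMap R B)) := by
  have h := (CommRingCat.isPushout_tensorProduct P.Core R (P.ModelOfHasCoeffs P.Core)).flip
  refine h.of_iso (CategoryTheory.Iso.refl _) (CategoryTheory.Iso.refl _) (CategoryTheory.Iso.refl _)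
    (P.tensorModelOfHasCoeffsEquiv P.Core).toRingEquiv.toCommRingCatIso ?_ ?_ ?_ ?_
  · simp
  · simp
  · simp only [CategoryTheory.Iso.refl_hom, CategoryTheory.Category.id_comp]
    rfl
  · simp only [CategoryTheory.Iso.refl_hom, CategoryTheory.Category.id_comp]
    refine CommRingCat.hom_ext (RingHom.ext fun (x : R) => ?_)
    change (P.tensorModelOfHasCoeffsEquiv P.Core)
      (x ⊗ₜ[P.Core] (1 : P.ModelOfHasCoeffs P.Core)) = algebraMap R B x
    have h1 := Algebra.Presentation.tensorModelOfHasCoeffsEquiv_tmul (P := P) P.Core x 1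
    simp only [map_one, mul_one] at h1
    exact h1

/-- ring-level descent to a finite type `ℤ`-algebra, phrased as a pushout square in `CommRingCat`. -/
lemma exists_model {R B : Type u} [CommRing R] [CommRing B] [Algebra R B]
    [Algebra.FinitePresentation R B] :
    ∃ (R₀ B₀ : Type u) (_ : CommRing R₀) (_ : CommRing B₀) (_ : Algebra R₀ B₀) (_ : Algebra R₀ R)
      (ψ : B₀ →+* B),
      Algebra.FiniteType ℤ R₀ ∧ Algebra.FinitePresentation R₀ B₀ ∧
      CategoryTheory.IsPushout (CommRingCat.ofHom (algebraMap R₀ B₀)) (CommRingCat.ofHom (algebraMap R₀ R))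
        (CommRingCat.ofHom ψ) (CommRingCat.ofHom (algebraMap R B)) :=
  ⟨_, _, _, _, _, _, _, inferInstance, inferInstance,
    isPushout_model (Algebra.Presentation.ofFinitePresentation R B)⟩

open AlgebraicGeometry CategoryTheory Limits in
/-- Let f : X → S be a morphism of finite presentation between affine schemes. Then f is the base change
of a morphism of finite type f₀ : X₀ → S₀ between affine schemes with S₀ of finite type over ℤ. -/
theorem result {X S : Scheme.{u}} (f : X ⟶ S) [IsAffine X] [IsAffine S] [LocallyOfFinitePresentation f] :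
    ∃ (X₀ S₀ : Scheme.{u}) (f₀ : X₀ ⟶ S₀) (g : S ⟶ S₀) (g' : X ⟶ X₀), IsAffine X₀ ∧ IsAffine S₀ ∧ IsPullback g' f f₀ g ∧
      Algebra.FiniteType ℤ Γ(S₀, ⊤) ∧ LocallyOfFiniteType f₀ := by
  have hfp : RingHom.FinitePresentation f.appTop.hom :=
    (HasRingHomProperty.iff_of_isAffine (P := @LocallyOfFinitePresentation)).mp inferInstance
  algebraize [f.appTop.hom]
  obtain ⟨R₀, B₀, _, _, _, _, ψ, hR₀, hB₀, hpo⟩ := exists_model (R := Γ(S, ⊤)) (B := Γ(X, ⊤))
  have hpb := isPullback_SpecMap_of_isPushout _ _ _ _ hpo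
  refine ⟨Spec (CommRingCat.of B₀), Spec (CommRingCat.of R₀),
    Spec.map (CommRingCat.ofHom (algebraMap R₀ B₀)),
    S.isoSpec.hom ≫ Spec.map (CommRingCat.ofHom (algebraMap R₀ Γ(S, ⊤))),
    X.isoSpec.hom ≫ Spec.map (CommRingCat.ofHom ψ), inferInstance, inferInstance, ?_, ?_, ?_⟩
  · refine hpb.of_iso X.isoSpec.symm (Iso.refl _) S.isoSpec.symm (Iso.refl _) ?_ ?_ ?_ ?_
    · simp
    · have := Scheme.isoSpec_inv_naturality f
      simp only [Iso.symm_hom]
      rw [← this]
      rfl
    · simp
    · simp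
  · exact Algebra.FiniteType.equiv hR₀
      (Scheme.ΓSpecIso (CommRingCat.of R₀)).symm.commRingCatIsoToRingEquiv.toIntAlgEquiv
  · rw [HasRingHomProperty.Spec_iff (P := @LocallyOfFiniteType)]
    simp only [CommRingCat.hom_ofHom]
    rw [RingHom.FiniteType]
    convert (inferInstance : Algebra.FiniteType R₀ B₀)
    exact Algebra.algebra_ext _ _ (fun _ => rfl)

end Groth.Agent.S1460
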