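import Groth.Statements.S9218
import Groth.Agent.H46.LimBase

set_option autoImplicit false
universe u
open CategoryTheory CategoryTheory.Limits AlgebraicGeometry
open Lim

namespace Groth.Agent.S9218

open Groth.Agent.H46

set_option backward.isDefEq.respectTransparency false in
/-- Let S = lim S_i be a cofiltered limit of schemes with affine transition morphisms (the S_i are not
assumed quasi-compact or quasi-separated), i an index, and X_i → S_i, Y_i → S_i morphisms locally of
finite presentation with X_i, Y_i quasi-compact and quasi-separated; let X, Y be their base changes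
to S (pullback squares). Then every S-morphism f : X → Y comes from some stage: for some index j
over i there is an S_j-morphism f_j : X_i ×_{S_i} S_j → Y_i ×_{S_i} S_j whose base change to S is f,
in the sense that the canonical morphisms X → X_i ×_{S_i} S_j and Y → Y_i ×_{S_i} S_j intertwine f
and f_j. This is the fullness part of the equivalence between the colimit of the categories of
quasi-compact quasi-separated schemes locally of finite presentation over the S_i and the
corresponding category over S. -/
theorem result {I : Type u} [SmallCategory I] [IsCofiltered I]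
    (D : I ⥤ Scheme.{u}) (c : Limits.Cone D) (hc : Limits.IsLimit c)
    [∀ (i j : I) (f : i ⟶ j), IsAffineHom (D.map f)] (i : I)
    {Xi Yi : Scheme.{u}} (xi : Xi ⟶ D.obj i) (yi : Yi ⟶ D.obj i)
    [CompactSpace Xi] [QuasiSeparatedSpace Xi] [LocallyOfFinitePresentation xi]
    [CompactSpace Yi] [QuasiSeparatedSpace Yi] [LocallyOfFinitePresentation yi]
    {X Y : Scheme.{u}} (qX : X ⟶ Xi) (pX : X ⟶ c.pt) (hX : IsPullback qX pX xi (c.π.app i))
    (qY : Y ⟶ Yi) (pY : Y ⟶ c.pt) (hY : IsPullback qY pY yi (c.π.app i))
    (f : X ⟶ Y) (hf : f ≫ pY = pX) :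
    ∃ (j : I) (φ : j ⟶ i) (fj : pullback xi (D.map φ) ⟶ pullback yi (D.map φ))
      (sX : X ⟶ pullback xi (D.map φ)) (sY : Y ⟶ pullback yi (D.map φ)),
      fj ≫ pullback.snd yi (D.map φ) = pullback.snd xi (D.map φ) ∧
      sX ≫ pullback.fst xi (D.map φ) = qX ∧ sX ≫ pullback.snd xi (D.map φ) = pX ≫ c.π.app j ∧
      sY ≫ pullback.fst yi (D.map φ) = qY ∧ sY ≫ pullback.snd yi (D.map φ) = pY ≫ c.π.app j ∧
      sX ≫ fj = f ≫ sY := by
  have hX' := bcConeIsLimit c hc hX
  obtain ⟨j, g, hg1, hg2⟩ := Scheme.exists_π_app_comp_eq_of_locallyOfFinitePresentation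
    (bcDiagram D xi) (bcDiagramT D xi) yi (bcCone c hX.w) hX' (f ≫ qY) (by
      ext j : 2
      dsimp [bcDiagramT]
      rw [bcCone_π_app_fst_assoc, hX.w, Category.assoc, hY.w, reassoc_of% hf])
  dsimp [bcDiagramT] at g hg1 hg2
  refine ⟨j.left, j.hom, pullback.lift g (pullback.snd _ _) (by rw [hg2]; exact pullback.condition),
    (bcCone c hX.w).π.app j, (bcCone c hY.w).π.app j, ?_, ?_, ?_, ?_, ?_, ?_⟩
  · exact pullback.lift_snd _ _ _
  · exact bcCone_π_app_fst c hX.w j
  · exact bcCone_π_app_snd c hX.w j
  · exact bcCone_π_app_fst c hY.w j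
  · exact bcCone_π_app_snd c hY.w j
  · apply pullback.hom_ext
    · rw [Category.assoc, pullback.lift_fst, Category.assoc, bcCone_π_app_fst c hY.w j]
      exact hg1
    · rw [Category.assoc, pullback.lift_snd, Category.assoc, bcCone_π_app_snd c hY.w j,
        bcCone_π_app_snd c hX.w j, reassoc_of% hf]

end Groth.Agent.S9218
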