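import Groth.Statements.S15543
import Groth.Agent.H17.ProCons
import Mathlib.AlgebraicGeometry.Properties
import Mathlib.AlgebraicGeometry.Morphisms.FinitePresentation
-- import your own Groth.Agent.* helpers here

set_option autoImplicit false
open CategoryTheory AlgebraicGeometry
universe u
open ProCons

namespace Groth.Agent.S15543

/-- The ind-constructible case. Let f : X ⟶ Y be any morphism of schemes and T an ind-constructible
subset of Y (locally on Y a union of locally constructible subsets). Then the preimage of T under f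
is ind-constructible in X. -/
theorem result {X Y : Scheme.{u}} (f : X ⟶ Y) (T : Set Y)
    (hT : ProCons.IsIndConstructible T) :
    ProCons.IsIndConstructible (f.base ⁻¹' T) := by
  intro x
  obtain ⟨U, hU, hxU, -⟩ : ∃ U : Y.Opens, U ∈ Y.affineOpens ∧ f.base x ∈ U ∧ U ≤ ⊤ :=
    TopologicalSpace.Opens.isBasis_iff_nbhd.mp Y.isBasis_affineOpens (U := ⊤) (x := f.base x) trivial
  have hUaff : IsAffineOpen U := hU
  have : IsAffine (U : Scheme.{u}) := hUaff
  have hTU : ProCons.IsIndConstructible (U.ι.base ⁻¹' T) :=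
    H17.isIndConstructible_preimage hT U.ι.isOpenEmbedding
  obtain ⟨S, hS, hTS⟩ := H17.exists_eq_sUnion_of_isIndConstructible hTU
  refine ⟨((f ⁻¹ᵁ U : X.Opens) : Set X), (f ⁻¹ᵁ U).isOpen, hxU,
    (fun D => (f ∣_ U).base ⁻¹' D) '' S, ?_, ?_⟩
  · rintro _ ⟨D, hD, rfl⟩
    exact ((f ∣_ U).isConstructible_preimage (hS D hD)).isLocallyConstructible
  · apply Set.Subset.antisymm
    · intro z hz
      have h1 : ((f ∣_ U).base z).1 = f.base z.1 := morphismRestrict_base_coe f U z
      have h2 : (f ∣_ U).base z ∈ U.ι.base ⁻¹' T := by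
        show ((f ∣_ U).base z).1 ∈ T
        rw [h1]; exact hz
      rw [hTS] at h2
      obtain ⟨D, hD, hzD⟩ := h2
      exact ⟨_, ⟨D, hD, rfl⟩, hzD⟩
    · rintro z ⟨_, ⟨D, hD, rfl⟩, hzD⟩
      have h1 : ((f ∣_ U).base z).1 = f.base z.1 := morphismRestrict_base_coe f U z
      have h2 : (f ∣_ U).base z ∈ U.ι.base ⁻¹' T := by
        rw [hTS]; exact ⟨D, hD, hzD⟩
      show f.base z.1 ∈ T
      rw [← h1]; exact h2

end Groth.Agent.S15543
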