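import Groth.Statements.S3401
import Groth.Agent.H17.ProCons
import Mathlib.AlgebraicGeometry.Properties
-- import your own Groth.Agent.* helpers here

set_option autoImplicit false
open CategoryTheory AlgebraicGeometry
universe u
open EGA41

namespace Groth.Agent.S3401

open Topology in
/-- Around each point, a constructible set either contains or misses a neighbourhood of the point
in its closure. -/
theorem constructible_local {W : Type*} [TopologicalSpace W] {T : Set W}
    (hT : IsConstructible T) :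
    ∀ x : W, ∃ O : Set W, IsOpen O ∧ x ∈ O ∧
      (O ∩ closure {x} ⊆ T ∨ O ∩ closure {x} ⊆ Tᶜ) := by
  induction hT using IsConstructible.empty_union_induction with
  | open_retrocompact U hUopen hUcomp =>
    intro x
    by_cases hx : x ∈ U
    · exact ⟨U, hUopen, hx, Or.inl Set.inter_subset_left⟩
    · refine ⟨Set.univ, isOpen_univ, Set.mem_univ x, Or.inr ?_⟩
      rintro z ⟨-, hz⟩ hzU
      have : x ⤳ z := specializes_iff_mem_closure.mpr hz
      exact hx (this.mem_open hUopen hzU)
  | union s _ t _ hs' ht' =>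
    intro x
    obtain ⟨O₁, hO₁, hx₁, h₁⟩ := hs' x
    obtain ⟨O₂, hO₂, hx₂, h₂⟩ := ht' x
    rcases h₁ with h₁ | h₁
    · exact ⟨O₁, hO₁, hx₁, Or.inl (h₁.trans Set.subset_union_left)⟩
    · rcases h₂ with h₂ | h₂
      · exact ⟨O₂, hO₂, hx₂, Or.inl (h₂.trans Set.subset_union_right)⟩
      · refine ⟨O₁ ∩ O₂, hO₁.inter hO₂, ⟨hx₁, hx₂⟩, Or.inr ?_⟩
        rintro z ⟨⟨hz₁, hz₂⟩, hz⟩
        rw [Set.compl_union]
        exact ⟨h₁ ⟨hz₁, hz⟩, h₂ ⟨hz₂, hz⟩⟩
  | compl s _ hs' =>
    intro x
    obtain ⟨O, hO, hx, h⟩ := hs' x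
    refine ⟨O, hO, hx, ?_⟩
    rw [compl_compl]
    exact h.symm


/-- Let X be a scheme and E a subset of X. If E is ind-constructible then for every point x of E the set
E ∩ cl{x} is a neighbourhood of x in cl{x}; when X is locally Noetherian the converse holds. (As
published, the necessity clause quantifies over all points x of X; for x outside E the condition
cannot hold, and the argument uses x ∈ E, so it is stated here for x ∈ E.) Stated as an equivalence
for X locally Noetherian. -/
theorem result (X : Scheme.{u}) [IsLocallyNoetherian X]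
    (E : Set X) :
    ProCons.IsIndConstructible E ↔
      ∀ x ∈ E, (Subtype.val ⁻¹' E : Set ↥(closure ({x} : Set X))) ∈ nhds (⟨x, subset_closure rfl⟩ : ↥(closure ({x} : Set X))) := by
  constructor
  · intro hE x hx
    obtain ⟨U, hU, hxU, -⟩ : ∃ U : X.Opens, U ∈ X.affineOpens ∧ x ∈ U ∧ U ≤ ⊤ :=
      TopologicalSpace.Opens.isBasis_iff_nbhd.mp X.isBasis_affineOpens (U := ⊤) (x := x) trivial
    have hUaff : IsAffineOpen U := hU
    have : IsAffine (U : Scheme.{u}) := hUaff
    let xU : ↥(U : Scheme.{u}) := ⟨x, hxU⟩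
    have hEU : ProCons.IsIndConstructible (U.ι.base ⁻¹' E) :=
      H17.isIndConstructible_preimage hE U.ι.isOpenEmbedding
    obtain ⟨S, hS, hES⟩ := H17.exists_eq_sUnion_of_isIndConstructible hEU
    have hxE : xU ∈ U.ι.base ⁻¹' E := hx
    rw [hES] at hxE
    obtain ⟨T, hTS, hxT⟩ := hxE
    have hTE : T ⊆ U.ι.base ⁻¹' E := by rw [hES]; exact Set.subset_sUnion_of_mem hTS
    obtain ⟨O, hO, hxO, h⟩ := constructible_local (hS T hTS) xU
    have hOT : O ∩ closure {xU} ⊆ T := by
      rcases h with h | h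
      · exact h
      · exact absurd hxT (h ⟨hxO, subset_closure rfl⟩)
    rw [mem_nhds_subtype]
    refine ⟨U.ι.base '' O, (U.ι.isOpenEmbedding.isOpenMap _ hO).mem_nhds ⟨xU, hxO, rfl⟩, ?_⟩
    rintro ⟨z, hz⟩ ⟨w, hwO, hwz⟩
    have hwz' : U.ι.base w = z := hwz
    show z ∈ E
    rw [← hwz']
    apply hTE
    apply hOT
    refine ⟨hwO, ?_⟩
    rw [U.ι.isOpenEmbedding.isInducing.closure_eq_preimage_closure_image, Set.image_singleton]
    show U.ι.base w ∈ closure {x}
    rw [hwz']
    exact hz
  · intro h y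
    obtain ⟨U, hU, hyU, -⟩ : ∃ U : X.Opens, U ∈ X.affineOpens ∧ y ∈ U ∧ U ≤ ⊤ :=
      TopologicalSpace.Opens.isBasis_iff_nbhd.mp X.isBasis_affineOpens (U := ⊤) (x := y) trivial
    have hUaff : IsAffineOpen U := hU
    have : IsNoetherianRing Γ(X, U) := IsLocallyNoetherian.component_noetherian ⟨U, hU⟩
    have : TopologicalSpace.NoetherianSpace ↥(U : Scheme.{u}) := noetherianSpace_of_isAffineOpen U hUaff
    have hcons : ∀ O : Set ↥(U : Scheme.{u}), IsOpen O → Topology.IsConstructible O := by
      intro O hO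
      apply IsRetrocompact.isConstructible hO
      intro V _ _
      exact TopologicalSpace.NoetherianSpace.isCompact _
    have key : ∀ e : X, e ∈ E → ∃ T : Set ↥(U : Scheme.{u}), Topology.IsConstructible T ∧
        T ⊆ U.ι.base ⁻¹' E ∧ ∀ he : e ∈ U, (⟨e, he⟩ : ↥(U : Scheme.{u})) ∈ T := by
      intro e he
      have := h e he
      rw [mem_nhds_subtype] at this
      obtain ⟨u', hu', hsub⟩ := this
      refine ⟨U.ι.base ⁻¹' (interior u' ∩ closure {e}), ?_, ?_, ?_⟩
      · rw [Set.preimage_inter]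
        apply Topology.IsConstructible.inter
        · exact hcons _ (isOpen_interior.preimage U.ι.base.hom.continuous)
        · have := hcons _ ((isClosed_closure (s := ({e} : Set X))).isOpen_compl.preimage
            U.ι.base.hom.continuous)
          rw [Set.preimage_compl] at this
          exact this.of_compl
      · rintro w ⟨hw1, hw2⟩
        have hw3 : U.ι.base w ∈ u' := interior_subset hw1
        exact hsub (show (⟨U.ι.base w, hw2⟩ : ↥(closure ({e} : Set X))) ∈ Subtype.val ⁻¹' u' from
          hw3)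
      · intro heU
        exact ⟨mem_interior_iff_mem_nhds.mpr hu', subset_closure rfl⟩
    refine ⟨(U : Set X), U.isOpen, hyU,
      {T | Topology.IsConstructible T ∧ T ⊆ U.ι.base ⁻¹' E}, fun T hT => hT.1.isLocallyConstructible, ?_⟩
    apply Set.Subset.antisymm
    · intro z hz
      obtain ⟨T, hT1, hT2, hT3⟩ := key z.1 hz
      exact ⟨T, ⟨hT1, hT2⟩, hT3 z.2⟩
    · rintro z ⟨T, ⟨-, hT2⟩, hzT⟩
      exact hT2 hzT

end Groth.Agent.S3401
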