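import Groth.Statements.S3402
import Groth.Agent.H17.ProCons
import Mathlib.AlgebraicGeometry.Properties
-- import your own Groth.Agent.* helpers here

set_option autoImplicit false
open CategoryTheory AlgebraicGeometry
universe u
open EGA41

namespace Groth.Agent.S3402

/-- A subset E of a scheme X is locally constructible if and only if it is both ind-constructible and
pro-constructible. -/
theorem result (X : Scheme.{u}) (E : Set X) :
    Topology.IsLocallyConstructible E ↔ ProCons.IsIndConstructible E ∧ ProCons.IsProConstructible E := by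
  constructor
  · intro h
    refine ⟨H17.isIndConstructible_of_eq_sUnion {E} ?_ (Set.sUnion_singleton E).symm,
      H17.isProConstructible_of_eq_sInter {E} ?_ (Set.sInter_singleton E).symm⟩
    · rintro T rfl; exact h
    · rintro T rfl; exact h
  · rintro ⟨hind, hpro⟩ x
    obtain ⟨U, hU, hxU, -⟩ : ∃ U : X.Opens, U ∈ X.affineOpens ∧ x ∈ U ∧ U ≤ ⊤ :=
      TopologicalSpace.Opens.isBasis_iff_nbhd.mp X.isBasis_affineOpens
        (U := ⊤) (x := x) trivial
    have hUaff : IsAffineOpen U := hU
    have : IsAffine (U : Scheme.{u}) := hUaff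
    refine ⟨(U : Set X), U.isOpen.mem_nhds hxU, U.isOpen, ?_⟩
    have hind' : ProCons.IsIndConstructible (U.ι.base ⁻¹' E) :=
      H17.isIndConstructible_preimage hind U.ι.isOpenEmbedding
    have hpro' : ProCons.IsProConstructible (U.ι.base ⁻¹' E) :=
      H17.isProConstructible_preimage hpro U.ι.isOpenEmbedding
    obtain ⟨S', hS', hES'⟩ := H17.exists_eq_sInter_of_isProConstructible hpro'
    obtain ⟨J, hJ⟩ := H17.exists_finset_biInter_subset (fun i : ↥S' => (i : Set ↥(U : Scheme.{u})))
      (fun i => H17.gen_isClosed_of_compl _
        (H17.isClopen_constructibleTopology_of_isConstructible (hS' i.1 i.2)).2)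
      (U.ι.base ⁻¹' E) (H17.isOpen_constructibleTopology_of_isIndConstructible hind')
      (by rw [← Set.sInter_eq_iInter, ← hES'])
    have heq : (U.ι.base ⁻¹' E) = ⋂ i ∈ (J : Set ↥S'), (i : Set ↥(U : Scheme.{u})) := by
      apply Set.Subset.antisymm
      · rw [hES']
        exact Set.subset_iInter₂ fun i _ => Set.sInter_subset_of_mem i.2
      · exact hJ
    have hc : Topology.IsConstructible (U.ι.base ⁻¹' E) := by
      rw [heq]
      exact Topology.IsConstructible.biInter J.finite_toSet fun i _ => hS' i.1 i.2
    exact hc

end Groth.Agent.S3402
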