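import Groth.Statements.S1728
import Mathlib.Order.CompactlyGenerated.Basic
import Mathlib.Order.Zorn
import Mathlib.LinearAlgebra.Projection

set_option autoImplicit false
universe u
open InjHull

namespace Groth.Agent.S1728

/-- Let I be an injective R-module and E a submodule of I. Then E is an injective module if and only if
every submodule E' of I containing E, such that every nonzero submodule of E' meets E nontrivially,
is equal to E. -/
theorem result (R : Type u) [CommRing R] (I : Type u) [AddCommGroup I] [Module R I] [Module.Injective R I] (E : Submodule R I) : Module.Injective R E ↔ ∀ E' : Submodule R I, E ≤ E' → (∀ N : Submodule R I, N ≤ E' → N ≠ ⊥ → N ⊓ E ≠ ⊥) → E' = E := by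
  constructor
  · intro hE E' hEE' hess
    obtain ⟨r, hr⟩ := Module.Injective.extension_property R E E E' (Submodule.inclusion hEE')
      (Submodule.inclusion_injective hEE') LinearMap.id
    have hr' : ∀ e : E, r (Submodule.inclusion hEE' e) = e := fun e => LinearMap.congr_fun hr e
    have hK : (LinearMap.ker r).map E'.subtype = ⊥ := by
      by_contra hne
      apply hess _ (Submodule.map_subtype_le E' _) hne
      rw [eq_bot_iff]
      rintro x ⟨⟨y, hy, rfl⟩, hxE⟩
      have hy2 : y = Submodule.inclusion hEE' ⟨y.1, hxE⟩ := by ext; rfl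
      have hy' : r y = 0 := hy
      rw [hy2, hr'] at hy'
      have := congrArg Subtype.val hy'
      simpa using this
    have hrinj : Function.Injective r := by
      rw [← LinearMap.ker_eq_bot, LinearMap.ker_eq_bot']
      intro y hy
      have : E'.subtype y ∈ (LinearMap.ker r).map E'.subtype := ⟨y, hy, rfl⟩
      rw [hK] at this
      exact Subtype.ext ((Submodule.mem_bot R).1 this)
    apply le_antisymm _ hEE'
    intro x hx
    have h1 : Submodule.inclusion hEE' (r ⟨x, hx⟩) = ⟨x, hx⟩ := hrinj (hr' _)
    have h2 := congrArg Subtype.val h1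
    simp only [Submodule.coe_inclusion] at h2
    rw [← h2]
    exact (r ⟨x, hx⟩).2
  · intro H
    obtain ⟨K, hKmax⟩ := zorn_le₀ {K : Submodule R I | Disjoint K E} (by
      intro c hc hchain
      refine ⟨sSup c, ?_, fun z hz => le_sSup hz⟩
      exact (hchain.directedOn.disjoint_sSup_left).2 (fun b hb => hc hb))
    have hKE : Disjoint K E := hKmax.prop
    have hKmax' : ∀ N : Submodule R I, Disjoint N E → K ≤ N → N ≤ K :=
      fun N hN hKN => hKmax.le_of_ge hN hKN
    let π : I →ₗ[R] I ⧸ K := K.mkQ
    let j : E →ₗ[R] I ⧸ K := π ∘ₗ E.subtype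
    have hπ0 : ∀ x : I, π x = 0 ↔ x ∈ K := fun x => Submodule.Quotient.mk_eq_zero K
    have hj : Function.Injective j := by
      rw [← LinearMap.ker_eq_bot, LinearMap.ker_eq_bot']
      intro e he
      have h1 : (e : I) ∈ K := (hπ0 _).1 he
      have := (Submodule.disjoint_def.1 hKE) e.1 h1 e.2
      exact Subtype.ext this
    obtain ⟨h, hh⟩ := Module.Injective.extension_property R I E (I ⧸ K) j hj E.subtype
    have hh' : ∀ e : E, h (π e.1) = e.1 := fun e => LinearMap.congr_fun hh e
    have hess : ∀ Nb : Submodule R (I ⧸ K), Nb ≠ ⊥ → ∃ e : E, e ≠ 0 ∧ π e.1 ∈ Nb := by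
      intro Nb hNb
      by_contra hcon
      push Not at hcon
      have hdis : Disjoint (Nb.comap π) E := by
        rw [Submodule.disjoint_def]
        intro x hxN hxE
        by_contra hx0
        exact hcon ⟨x, hxE⟩ (fun h0 => hx0 (congrArg Subtype.val h0)) hxN
      have hle : K ≤ Nb.comap π := by
        intro x hx
        show π x ∈ Nb
        rw [(hπ0 x).2 hx]
        exact Nb.zero_mem
      have hNK := hKmax' _ hdis hle
      apply hNb
      rw [eq_bot_iff]
      intro y hy
      obtain ⟨x, rfl⟩ := K.mkQ_surjective y
      have : x ∈ K := hNK hy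
      exact (Submodule.mem_bot R).2 ((hπ0 x).2 this)
    have hinj : Function.Injective h := by
      rw [← LinearMap.ker_eq_bot]
      by_contra hne
      obtain ⟨e, he0, hek⟩ := hess _ hne
      apply he0
      have h1 := hh' e
      rw [LinearMap.mem_ker.1 hek] at h1
      exact Subtype.ext h1.symm
    have hE' : LinearMap.range h = E := by
      apply H
      · intro e he
        exact ⟨π e, hh' ⟨e, he⟩⟩
      · intro N hN hNbot
        have hc : N.comap h ≠ ⊥ := by
          intro h0
          apply hNbot
          rw [eq_bot_iff]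
          intro x hx
          obtain ⟨y, rfl⟩ := hN hx
          have hy : y ∈ N.comap h := hx
          rw [h0] at hy
          rw [(Submodule.mem_bot R).1 hy, map_zero]
          exact Submodule.zero_mem _
        obtain ⟨e, he0, heN⟩ := hess _ hc
        rw [Submodule.mem_comap, hh'] at heN
        intro hbot
        have hmem : e.1 ∈ N ⊓ E := ⟨heN, e.2⟩
        rw [hbot] at hmem
        exact he0 (Subtype.ext ((Submodule.mem_bot R).1 hmem))
    have hcompl : IsCompl E K := by
      refine ⟨hKE.symm, ?_⟩
      rw [codisjoint_iff, eq_top_iff]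
      intro x _
      have hx : h (π x) ∈ E := by rw [← hE']; exact ⟨_, rfl⟩
      have h1 : π (h (π x)) = π x := hinj (hh' ⟨_, hx⟩)
      have hxK : x - h (π x) ∈ K := by
        rw [← hπ0, map_sub, h1, sub_self]
      have h2 : x = h (π x) + (x - h (π x)) := by abel
      rw [h2]
      exact Submodule.add_mem_sup hx hxK
    refine ⟨fun X Y _ _ _ _ f hf g => ?_⟩
    obtain ⟨l, hl⟩ := Module.Injective.extension_property R I X Y f hf (E.subtype ∘ₗ g)
    refine ⟨(Submodule.linearProjOfIsCompl E K hcompl) ∘ₗ l, fun x => ?_⟩
    have h1 := LinearMap.congr_fun hl x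
    simp only [LinearMap.comp_apply] at h1 ⊢
    rw [h1]
    exact Submodule.linearProjOfIsCompl_apply_left hcompl (g x)

end Groth.Agent.S1728
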