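import Groth.Statements.S4722
import Mathlib.RingTheory.Ideal.AssociatedPrime.Localization
import Mathlib.RingTheory.Regular.IsSMulRegular
import Mathlib.RingTheory.Ideal.MinimalPrime.Basic
import Mathlib.Order.Fin.Basic

set_option autoImplicit false
universe u
open EGA4

namespace Groth.Agent.S4722

open scoped Pointwise

theorem chain_aux {A : Type u} [CommRing A] {M : Type u} [AddCommGroup M] [Module A M]
    [IsNoetherian A M]
    (P : Submodule A M → Prop) (Q : Submodule A M → Submodule A M → Prop)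
    (hstep : ∀ N, P N → N ≠ ⊤ → ∃ N', P N' ∧ N < N' ∧ Q N N') :
    ∀ N, P N → ∃ (m : ℕ) (F : Fin (m + 1) → Submodule A M), F 0 = ⊤ ∧ F (Fin.last m) = N ∧
      ∀ i : Fin m, Q (F i.succ) (F i.castSucc) := by
  intro N
  induction N using WellFoundedGT.induction with
  | ind N ih =>
    intro hPN
    by_cases hN : N = ⊤
    · subst hN
      exact ⟨0, fun _ => ⊤, rfl, rfl, fun i => i.elim0⟩
    · obtain ⟨N', hP', hlt, hQ⟩ := hstep N hPN hN
      obtain ⟨m, F, h0, hlast, hF⟩ := ih N' hlt hP'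
      refine ⟨m + 1, Fin.snoc (α := fun _ => Submodule A M) F N, ?_, ?_, ?_⟩
      · have e : (0 : Fin (m + 1 + 1)) = Fin.castSucc (0 : Fin (m + 1)) := rfl
        rw [e, Fin.snoc_castSucc]
        exact h0
      · rw [Fin.snoc_last]
      · intro i
        refine Fin.lastCases ?_ (fun j => ?_) i
        · rw [Fin.succ_last, Fin.snoc_last, Fin.snoc_castSucc, hlast]
          exact hQ
        · rw [Fin.succ_castSucc, Fin.snoc_castSucc, Fin.snoc_castSucc]
          exact hF j

theorem step {A : Type u} [CommRing A] [IsNoetherianRing A] {M : Type u} [AddCommGroup M]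
    [Module A M] [Module.Finite A M] (p : Ideal A) [hpprime : p.IsPrime]
    (H2 : ∀ a ∈ p, ∃ k : ℕ, a ^ k ∈ Module.annihilator A M)
    (N : Submodule A M) (hSat : ∀ a : A, a ∉ p → ∀ x : M, a • x ∈ N → x ∈ N) (hN : N ≠ ⊤) :
    ∃ N' : Submodule A M, (∀ a : A, a ∉ p → ∀ x : M, a • x ∈ N' → x ∈ N') ∧ N < N' ∧
      (N ≤ N' ∧ ∃ g : (↥N' ⧸ Submodule.comap N'.subtype N) →ₗ[A] (A ⧸ p),
        Function.Injective g) := by
  classical
  have hp1 : (1 : A) ∉ p := (Ideal.ne_top_iff_one p).1 hpprime.ne_top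
  haveI : Nontrivial (M ⧸ N) := Submodule.Quotient.nontrivial_iff.2 hN
  obtain ⟨q, hq⟩ := associatedPrimes.nonempty A (M ⧸ N)
  obtain ⟨hqprime, xbar, hxbar⟩ := (isAssociatedPrime_iff).1 hq
  obtain ⟨x, rfl⟩ := Submodule.Quotient.mk_surjective N xbar
  have hqmem : ∀ b : A, b ∈ q ↔ b • x ∈ N := by
    intro b
    rw [hxbar, Submodule.mem_colon_singleton, Submodule.mem_bot, ← Submodule.Quotient.mk_smul,
      Submodule.Quotient.mk_eq_zero]
  have hxN : x ∉ N := by
    intro hx
    apply hqprime.ne_top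
    rw [Ideal.eq_top_iff_one, hqmem, one_smul]
    exact hx
  have hqp : q = p := by
    apply le_antisymm
    · intro b hb
      by_contra hbp
      exact hxN (hSat b hbp x ((hqmem b).1 hb))
    · intro b hb
      obtain ⟨k, hk⟩ := H2 b hb
      have h1 : b ^ k ∈ q := by
        rw [hqmem, Module.mem_annihilator.1 hk x]
        exact N.zero_mem
      exact hqprime.mem_of_pow_mem k h1
  have hx : ∀ b : A, b • x ∈ N ↔ b ∈ p := by
    intro b
    rw [← hqp, hqmem]
  let L : Submodule A M := N ⊔ Submodule.span A {x}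
  let N' : Submodule A M :=
    { carrier := {y | ∃ a : A, a ∉ p ∧ a • y ∈ L}
      add_mem' := by
        rintro y1 y2 ⟨a1, ha1, h1⟩ ⟨a2, ha2, h2⟩
        show ∃ a : A, a ∉ p ∧ a • (y1 + y2) ∈ L
        refine ⟨a1 * a2, fun h => (hpprime.mem_or_mem h).elim ha1 ha2, ?_⟩
        have e : (a1 * a2) • (y1 + y2) = a2 • (a1 • y1) + a1 • (a2 • y2) := by
          rw [smul_add, mul_smul, mul_smul, smul_comm a1 a2 y1]
        rw [e]
        exact L.add_mem (L.smul_mem a2 h1) (L.smul_mem a1 h2)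
      zero_mem' := by
        show ∃ a : A, a ∉ p ∧ a • (0 : M) ∈ L
        exact ⟨1, hp1, by rw [smul_zero]; exact L.zero_mem⟩
      smul_mem' := by
        rintro c y ⟨a, ha, h⟩
        show ∃ a : A, a ∉ p ∧ a • (c • y) ∈ L
        refine ⟨a, ha, ?_⟩
        rw [smul_comm]
        exact L.smul_mem c h }
  have hN'mem : ∀ y : M, y ∈ N' ↔ ∃ a : A, a ∉ p ∧ a • y ∈ L := fun y => Iff.rfl
  have hSat' : ∀ a : A, a ∉ p → ∀ y : M, a • y ∈ N' → y ∈ N' := by
    intro a ha y hy
    obtain ⟨a', ha', h⟩ := (hN'mem _).1 hy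
    rw [hN'mem]
    refine ⟨a' * a, fun h' => (hpprime.mem_or_mem h').elim ha' ha, ?_⟩
    rw [mul_smul]
    exact h
  have hLN' : L ≤ N' := by
    intro y hy
    rw [hN'mem]
    exact ⟨1, hp1, by rw [one_smul]; exact hy⟩
  have hNN' : N ≤ N' := (le_sup_left : N ≤ L).trans hLN'
  have hxL : x ∈ L :=
    (le_sup_right : Submodule.span A {x} ≤ L) (Submodule.mem_span_singleton_self x)
  have hxN' : x ∈ N' := hLN' hxL
  have hlt : N < N' := lt_of_le_of_ne hNN' (fun h => hxN (by rw [h]; exact hxN'))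
  obtain ⟨S, hS⟩ : N'.FG := IsNoetherian.noetherian N'
  have hchoose : ∀ y : M, ∃ a : A, a ∉ p ∧ (y ∈ N' → a • y ∈ L) := by
    intro y
    by_cases hy : y ∈ N'
    · obtain ⟨a, ha, h⟩ := (hN'mem y).1 hy
      exact ⟨a, ha, fun _ => h⟩
    · exact ⟨1, hp1, fun h => (hy h).elim⟩
  choose c hc1 hc2 using hchoose
  obtain ⟨a, ha_def⟩ : ∃ a : A, a = ∏ y ∈ S, c y := ⟨_, rfl⟩
  have ha : a ∉ p := by
    intro h
    rw [ha_def] at h
    obtain ⟨y, -, hy⟩ := (Ideal.IsPrime.prod_mem_iff (p := p)).1 h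
    exact hc1 y hy
  have haS : ∀ y ∈ S, a • y ∈ L := by
    intro y hy
    have hyN' : y ∈ N' := by
      rw [← hS]
      exact Submodule.subset_span hy
    have e : a = (∏ z ∈ S.erase y, c z) * c y := by
      rw [ha_def, Finset.prod_erase_mul S c hy]
    rw [e, mul_smul]
    exact L.smul_mem _ (hc2 y hyN')
  have haN' : ∀ y ∈ N', a • y ∈ L := by
    intro y hy
    rw [← hS] at hy
    induction hy using Submodule.span_induction with
    | mem y hy => exact haS y hy
    | zero => rw [smul_zero]; exact L.zero_mem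
    | add y z _ _ ihy ihz => rw [smul_add]; exact L.add_mem ihy ihz
    | smul r y _ ih => rw [smul_comm]; exact L.smul_mem r ih
  let φ : A →ₗ[A] (M ⧸ N) := LinearMap.toSpanSingleton A (M ⧸ N) (Submodule.Quotient.mk x)
  have hφ : ∀ b : A, φ b = Submodule.Quotient.mk (b • x) := by
    intro b
    show b • (Submodule.Quotient.mk x : M ⧸ N) = _
    rw [Submodule.Quotient.mk_smul]
  have hkerφ : ∀ b : A, φ b = 0 ↔ b ∈ p := by
    intro b
    rw [hφ, Submodule.Quotient.mk_eq_zero, hx]
  let ψ : (A ⧸ p) →ₗ[A] (M ⧸ N) := Submodule.liftQ p φ (by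
    intro b hb
    rw [LinearMap.mem_ker]
    exact (hkerφ b).2 hb)
  have hψmk : ∀ b : A, ψ (Submodule.Quotient.mk b) = φ b := fun b => Submodule.liftQ_apply p φ b
  have hψ : Function.Injective ψ := by
    rw [injective_iff_map_eq_zero]
    intro z hz
    obtain ⟨b, rfl⟩ := Submodule.Quotient.mk_surjective p z
    rw [hψmk, hkerφ] at hz
    exact (Submodule.Quotient.mk_eq_zero p).2 hz
  let ι : (↥N' ⧸ Submodule.comap N'.subtype N) →ₗ[A] (M ⧸ N) :=
    Submodule.mapQ (Submodule.comap N'.subtype N) N N'.subtype le_rfl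
  have hι : ∀ y : N', ι (Submodule.Quotient.mk y) = Submodule.Quotient.mk (y : M) :=
    fun y => rfl
  have hrange : ∀ z, (a • ι) z ∈ LinearMap.range ψ := by
    intro z
    obtain ⟨y, rfl⟩ := Submodule.Quotient.mk_surjective _ z
    have h1 : a • (y : M) ∈ L := haN' y y.2
    obtain ⟨n, hn, w, hw, hsum⟩ := Submodule.mem_sup.1 h1
    obtain ⟨b, rfl⟩ := Submodule.mem_span_singleton.1 hw
    refine ⟨Submodule.Quotient.mk b, ?_⟩
    rw [hψmk, hφ, LinearMap.smul_apply, hι, ← Submodule.Quotient.mk_smul, ← hsum,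
      Submodule.Quotient.mk_add, (Submodule.Quotient.mk_eq_zero N).2 hn, zero_add]
  let g0 : (↥N' ⧸ Submodule.comap N'.subtype N) →ₗ[A] LinearMap.range ψ :=
    LinearMap.codRestrict (LinearMap.range ψ) (a • ι) hrange
  let e := LinearEquiv.ofInjective ψ hψ
  refine ⟨N', hSat', hlt, hNN', e.symm.toLinearMap ∘ₗ g0, ?_⟩
  rw [injective_iff_map_eq_zero]
  intro z hz
  have h1 : g0 z = 0 := by
    apply e.symm.injective
    rw [map_zero]
    exact hz
  have h2 : (a • ι) z = 0 := congrArg Subtype.val h1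
  obtain ⟨y, rfl⟩ := Submodule.Quotient.mk_surjective _ z
  rw [LinearMap.smul_apply, hι, ← Submodule.Quotient.mk_smul, Submodule.Quotient.mk_eq_zero] at h2
  have h3 : (y : M) ∈ N := hSat a ha _ h2
  rw [Submodule.Quotient.mk_eq_zero]
  exact h3

/-- Let A be a Noetherian ring and M a finite A-module whose set of associated primes is a single prime
p. Then M has a finite decreasing filtration by submodules M = M_0 ⊇ M_1 ⊇ ⋯ ⊇ M_m = 0 such that
each quotient M_h/M_{h+1} is isomorphic to a submodule of A/p (i.e. embeds A-linearly into A/p). -/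
theorem result (A : Type u) [CommRing A] [IsNoetherianRing A]
    (M : Type u) [AddCommGroup M] [Module A M] [Module.Finite A M] (p : Ideal A)
    (hp : associatedPrimes A M = {p}) :
    ∃ (m : ℕ) (F : Fin (m + 1) → Submodule A M), Antitone F ∧ F 0 = ⊤ ∧ F (Fin.last m) = ⊥ ∧
      ∀ i : Fin m, ∃ g : (↥(F i.castSucc) ⧸ Submodule.comap (F i.castSucc).subtype (F i.succ)) →ₗ[A] (A ⧸ p),
        Function.Injective g := by
  classical
  have hpass : p ∈ associatedPrimes A M := by
    rw [hp]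
    exact Set.mem_singleton p
  haveI hpprime : p.IsPrime := hpass.isPrime
  have H1 : ∀ a : A, a ∉ p → IsSMulRegular M a := by
    intro a ha
    by_contra hnot
    have hmem : a ∈ ({ r : A | IsSMulRegular M r }ᶜ : Set A) := hnot
    rw [← biUnion_associatedPrimes_eq_compl_regular A M, hp, Set.biUnion_singleton] at hmem
    exact ha hmem
  have H2 : ∀ a ∈ p, ∃ k : ℕ, a ^ k ∈ Module.annihilator A M := by
    intro a ha
    have hle : p ≤ (Module.annihilator A M).radical := by
      rw [← Ideal.sInf_minimalPrimes]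
      apply le_sInf
      intro q hq
      have hq' : q ∈ associatedPrimes A M :=
        Module.associatedPrimes.minimalPrimes_annihilator_subset_associatedPrimes A M hq
      rw [hp, Set.mem_singleton_iff] at hq'
      rw [hq']
    exact Ideal.mem_radical_iff.1 (hle ha)
  have hSatBot : ∀ a : A, a ∉ p → ∀ x : M, a • x ∈ (⊥ : Submodule A M) → x ∈ (⊥ : Submodule A M) := by
    intro a ha x hx
    rw [Submodule.mem_bot] at hx ⊢
    apply H1 a ha
    show a • x = a • (0 : M)
    rw [hx, smul_zero]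
  obtain ⟨m, F, h0, hlast, hF⟩ := chain_aux
    (fun N : Submodule A M => ∀ a : A, a ∉ p → ∀ x : M, a • x ∈ N → x ∈ N)
    (fun N N' : Submodule A M => N ≤ N' ∧
      ∃ g : (↥N' ⧸ Submodule.comap N'.subtype N) →ₗ[A] (A ⧸ p), Function.Injective g)
    (fun N hSat hN => step p H2 N hSat hN) ⊥ hSatBot
  refine ⟨m, F, ?_, h0, hlast, fun i => (hF i).2⟩
  rw [Fin.antitone_iff_succ_le]
  intro i
  exact (hF i).1

end Groth.Agent.S4722
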