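import Groth.Statements.S5162
import Groth.Agent.H58.LCMod
import Groth.Agent.H58.IH
import Groth.Agent.H15.ExtDepth
import Groth.Agent.S4722

set_option autoImplicit false
universe u
open CategoryTheory
open LocCoh

namespace Groth.Agent.S5162

open Groth.Agent.H58.LC

section
variable {A : Type u} [CommRing A]

/-- an injective essential extension -/
theorem exists_ess (G : Type u) [AddCommGroup G] [Module A G] :
    ∃ (E : Type u) (_ : AddCommGroup E) (_ : Module A E), Module.Injective A E ∧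
      ∃ f : G →ₗ[A] E, Function.Injective f ∧
        ∀ x : E, x ≠ 0 → ∃ r : A, r • x ∈ LinearMap.range f ∧ r • x ≠ 0 := by
  obtain ⟨I₀, _, _, hI₀, i, hi⟩ := Groth.Agent.H58.IH.exists_injective_embedding A G
  obtain ⟨E, hle, hess, hEinj⟩ :=
    Groth.Agent.H58.IH.exists_injective_essential (LinearMap.range i)
  refine ⟨E, inferInstance, inferInstance, hEinj,
    LinearMap.codRestrict E i (fun z => hle ⟨z, rfl⟩),
    fun a b h => hi (congrArg Subtype.val h), ?_⟩
  intro x hx
  have hx' : (x : I₀) ≠ 0 := fun h => hx (Subtype.ext h)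
  obtain ⟨r, ⟨z, hz⟩, hr0⟩ := hess x.1 x.2 hx'
  refine ⟨r, ⟨z, Subtype.ext ?_⟩, fun h => hr0 (congrArg Subtype.val h)⟩
  exact hz

theorem exists_pow_le_ann [IsNoetherianRing A] (J : Ideal A) (F : Type u) [AddCommGroup F]
    [Module A F] [Module.Finite A F]
    (hF : Module.support A F ⊆ PrimeSpectrum.zeroLocus (J : Set A)) :
    ∃ k : ℕ, J ^ k ≤ Module.annihilator A F := by
  rw [Module.support_eq_zeroLocus, PrimeSpectrum.zeroLocus_subset_zeroLocus_iff] at hF
  exact Ideal.exists_pow_le_of_le_radical_of_fg hF (IsNoetherian.noetherian J)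

theorem hom_eq_zero [IsNoetherianRing A] (J : Ideal A) (F : Type u) [AddCommGroup F]
    [Module A F] [Module.Finite A F]
    (hF : Module.support A F ⊆ PrimeSpectrum.zeroLocus (J : Set A))
    (E : Type u) [AddCommGroup E] [Module A E] (hE : DRing.torsionSub J E = ⊥)
    (φ : F →ₗ[A] E) : φ = 0 := by
  obtain ⟨k, hk⟩ := exists_pow_le_ann J F hF
  apply LinearMap.ext
  intro x
  rw [LinearMap.zero_apply]
  have hmem : φ x ∈ DRing.torsionSub J E := by
    show ∃ n : ℕ, ∀ a ∈ J ^ n, a • φ x = 0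
    refine ⟨k, fun a ha => ?_⟩
    rw [← map_smul, Module.mem_annihilator.1 (hk ha) x, map_zero]
  rw [hE, Submodule.mem_bot] at hmem
  exact hmem

theorem subsingleton_ext_zero [IsNoetherianRing A] (J : Ideal A) (F : Type u) [AddCommGroup F]
    [Module A F] [Module.Finite A F]
    (hF : Module.support A F ⊆ PrimeSpectrum.zeroLocus (J : Set A))
    (E : Type u) [AddCommGroup E] [Module A E] (hE : DRing.torsionSub J E = ⊥) :
    Subsingleton (Abelian.Ext (ModuleCat.of A F) (ModuleCat.of A E) 0) := by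
  have hsub : Subsingleton (F →ₗ[A] E) :=
    ⟨fun f g => (hom_eq_zero J F hF E hE f).trans (hom_eq_zero J F hF E hE g).symm⟩
  exact (Abelian.Ext.addEquiv₀.trans (ModuleCat.homAddEquiv
    (M := ModuleCat.of A F) (N := ModuleCat.of A E))).subsingleton

theorem H0_subsingleton_iff (J : Ideal A) (G : Type u) [AddCommGroup G] [Module A G] :
    Subsingleton (LocCoh.H J 0 G) ↔ DRing.torsionSub J G = ⊥ := by
  rw [← Submodule.subsingleton_iff_eq_bot]
  exact (H0equiv J G).toEquiv.subsingleton_congr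

/-- dimension shifting along an injective essential extension -/
theorem shift [IsNoetherianRing A] (J : Ideal A) (G : Type u) [AddCommGroup G] [Module A G]
    (hG : DRing.torsionSub J G = ⊥) :
    ∃ (G' : Type u) (_ : AddCommGroup G') (_ : Module A G'),
      (∀ i : ℕ, Subsingleton (LocCoh.H J i G') ↔ Subsingleton (LocCoh.H J (i + 1) G)) ∧
      (∀ (F : Type u) [AddCommGroup F] [Module A F], Module.Finite A F →
        Module.support A F ⊆ PrimeSpectrum.zeroLocus (J : Set A) → ∀ i : ℕ,
        (Subsingleton (Abelian.Ext (ModuleCat.of A F) (ModuleCat.of A G') i) ↔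
          Subsingleton (Abelian.Ext (ModuleCat.of A F) (ModuleCat.of A G) (i + 1)))) := by
  obtain ⟨E, _, _, hEinj, f, hf, hess⟩ := exists_ess (A := A) G
  have hE : DRing.torsionSub J E = ⊥ := by
    rw [eq_bot_iff]
    intro x hx
    rw [Submodule.mem_bot]
    by_contra hx0
    obtain ⟨r, ⟨z, hz⟩, hr0⟩ := hess x hx0
    have hz' : z ∈ DRing.torsionSub J G := by
      obtain ⟨k, hk⟩ := hx
      show ∃ n : ℕ, ∀ a ∈ J ^ n, a • z = 0
      refine ⟨k, fun a ha => hf ?_⟩
      rw [map_smul, hz, map_zero, smul_comm, hk a ha, smul_zero]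
    rw [hG, Submodule.mem_bot] at hz'
    rw [hz', map_zero] at hz
    exact hr0 hz.symm
  let g : E →ₗ[A] (E ⧸ LinearMap.range f) := (LinearMap.range f).mkQ
  have hg : Function.Surjective g := Submodule.mkQ_surjective _
  have hfg : Function.Exact f g := LinearMap.exact_map_mkQ_range f
  have hH0E : Subsingleton (LocCoh.H J 0 E) := (H0_subsingleton_iff J E).2 hE
  have hHE : ∀ i, Subsingleton (LocCoh.H J i E) := by
    intro i
    rcases Nat.eq_zero_or_pos i with rfl | hi
    · exact hH0E
    · exact subsingleton_H_of_injective J i hi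
  refine ⟨E ⧸ LinearMap.range f, inferInstance, inferInstance, ?_, ?_⟩
  · intro i
    obtain ⟨δ, -, h2, h3, -⟩ := les_mod J f g hf hg hfg i
    have hδinj : Function.Injective δ := by
      rw [injective_iff_map_eq_zero]
      intro y hy
      obtain ⟨z, rfl⟩ := (h2 y).1 hy
      rw [@Subsingleton.elim _ (hHE i) z 0, map_zero]
    have hδsurj : Function.Surjective δ := by
      intro w
      exact (h3 w).1 (@Subsingleton.elim _ (hHE (i + 1)) _ _)
    exact ⟨fun h => hδsurj.subsingleton, fun h => hδinj.subsingleton⟩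
  · intro F _ _ hFfin hF i
    haveI := hFfin
    let S : ShortComplex (ModuleCat.{u} A) :=
      ShortComplex.mk (ModuleCat.ofHom f) (ModuleCat.ofHom g)
        (ModuleCat.hom_ext (LinearMap.ext fun x => hfg.apply_apply_eq_zero x))
    have hS : S.ShortExact :=
      { exact := (ShortComplex.ShortExact.moduleCat_exact_iff_function_exact S).2 hfg
        mono_f := (ModuleCat.mono_iff_injective _).2 hf
        epi_g := (ModuleCat.epi_iff_surjective _).2 hg }
    haveI : CategoryTheory.Injective (ModuleCat.of A E) :=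
      Module.injective_object_of_injective_module A E
    have hExtE : ∀ j, Subsingleton (Abelian.Ext (ModuleCat.of A F) (ModuleCat.of A E) j) := by
      intro j
      rcases Nat.eq_zero_or_pos j with rfl | hj
      · exact subsingleton_ext_zero J F hF E hE
      · obtain ⟨j', rfl⟩ := Nat.exists_eq_succ_of_ne_zero (Nat.pos_iff_ne_zero.1 hj)
        exact Abelian.Ext.subsingleton_of_injective _ _ j'
    constructor
    · intro h
      exact Groth.Agent.H15.ExtDepth.subsingleton_ext_X₁_succ (ModuleCat.of A F) hS i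
        (hExtE (i + 1)) h
    · intro h
      exact Groth.Agent.H15.ExtDepth.subsingleton_ext_X₃ (ModuleCat.of A F) hS i (hExtE i) h

/-- a nonzero map to `A ⧸ p` from a module all of whose associated primes equal `p` -/
theorem HOM1 [IsNoetherianRing A] (p : Ideal A) (M : Type u) [AddCommGroup M] [Module A M]
    [Module.Finite A M] [Nontrivial M] (hAss : associatedPrimes A M = {p}) :
    ∃ φ : M →ₗ[A] (A ⧸ p), φ ≠ 0 := by
  obtain ⟨m, Fil, -, h0, hlast, hquot⟩ := Groth.Agent.S4722.result A M p hAss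
  have hex : ∃ j : Fin m, Fil j.castSucc = ⊤ ∧ Fil j.succ ≠ ⊤ := by
    by_contra hcon
    push Not at hcon
    have hall : ∀ i : Fin (m + 1), Fil i = ⊤ := by
      intro i
      induction i using Fin.induction with
      | zero => exact h0
      | succ j ih => exact hcon j ih
    have h1 := hall (Fin.last m)
    rw [hlast] at h1
    exact bot_ne_top h1
  obtain ⟨j, hjtop, hjne⟩ := hex
  obtain ⟨g, hg⟩ := hquot j
  let ι : M →ₗ[A] ↥(Fil j.castSucc) :=
    LinearMap.codRestrict _ LinearMap.id (fun z => by rw [hjtop]; exact Submodule.mem_top)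
  obtain ⟨z, hz⟩ : ∃ z : M, z ∉ Fil j.succ := by
    by_contra hcon
    push Not at hcon
    exact hjne (eq_top_iff.2 (fun z _ => hcon z))
  refine ⟨g ∘ₗ (Submodule.mkQ _) ∘ₗ ι, ?_⟩
  intro hzero
  have h1 : g ((Submodule.mkQ _) (ι z)) = 0 := LinearMap.congr_fun hzero z
  have h2 : (Submodule.mkQ (Submodule.comap (Fil j.castSucc).subtype (Fil j.succ))) (ι z) = 0 := by
    apply hg
    rw [map_zero]
    exact h1
  rw [Submodule.mkQ_apply, Submodule.Quotient.mk_eq_zero] at h2
  exact hz h2

theorem HOM2 [IsNoetherianRing A] (p : Ideal A) [hp : p.IsPrime] (M : Type u) [AddCommGroup M]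
    [Module A M] [Module.Finite A M] (hkill : ∀ a ∈ p, ∀ z : M, a • z = 0) (x : M)
    (hx : ∀ a : A, a • x = 0 ↔ a ∈ p) :
    ∃ φ : M →ₗ[A] (A ⧸ p), φ ≠ 0 := by
  classical
  have hp1 : (1 : A) ∉ p := (Ideal.ne_top_iff_one p).1 hp.ne_top
  let T : Submodule A M :=
    { carrier := {n | ∃ a : A, a ∉ p ∧ a • n = 0}
      add_mem' := by
        rintro n1 n2 ⟨a1, ha1, h1⟩ ⟨a2, ha2, h2⟩
        show ∃ a : A, a ∉ p ∧ a • (n1 + n2) = 0
        refine ⟨a1 * a2, fun h => (hp.mem_or_mem h).elim ha1 ha2, ?_⟩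
        have e1 : (a1 * a2) • n1 = 0 := by rw [mul_comm, mul_smul, h1, smul_zero]
        have e2 : (a1 * a2) • n2 = 0 := by rw [mul_smul, h2, smul_zero]
        rw [smul_add, e1, e2, add_zero]
      zero_mem' := by
        show ∃ a : A, a ∉ p ∧ a • (0 : M) = 0
        exact ⟨1, hp1, smul_zero 1⟩
      smul_mem' := by
        rintro c n ⟨a, ha, h⟩
        show ∃ a' : A, a' ∉ p ∧ a' • (c • n) = 0
        exact ⟨a, ha, by rw [smul_comm, h, smul_zero]⟩ }
  have hTmem : ∀ n : M, n ∈ T ↔ ∃ a : A, a ∉ p ∧ a • n = 0 := fun n => Iff.rfl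
  have hreg : ∀ a : A, a ∉ p → ∀ z : M ⧸ T, a • z = 0 → z = 0 := by
    intro a ha z hz
    obtain ⟨n, rfl⟩ := Submodule.Quotient.mk_surjective T z
    rw [← Submodule.Quotient.mk_smul, Submodule.Quotient.mk_eq_zero, hTmem] at hz
    obtain ⟨a', ha', h'⟩ := hz
    rw [Submodule.Quotient.mk_eq_zero, hTmem]
    exact ⟨a' * a, fun h => (hp.mem_or_mem h).elim ha' ha, by rw [mul_smul]; exact h'⟩
  have hkill' : ∀ a ∈ p, ∀ z : M ⧸ T, a • z = 0 := by
    intro a ha z
    obtain ⟨n, rfl⟩ := Submodule.Quotient.mk_surjective T z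
    rw [← Submodule.Quotient.mk_smul, hkill a ha n, Submodule.Quotient.mk_zero]
  have hxT : x ∉ T := by
    rintro ⟨a, ha, hax⟩
    exact ha ((hx a).1 hax)
  haveI : Nontrivial (M ⧸ T) :=
    Submodule.Quotient.nontrivial_iff.2 (fun h => hxT (by rw [h]; exact Submodule.mem_top))
  have key : ∀ q : Ideal A, q ∈ associatedPrimes A (M ⧸ T) → q = p := by
    intro q hq
    obtain ⟨hqprime, z, hz⟩ := (isAssociatedPrime_iff).1 hq
    have hzmem : ∀ a : A, a ∈ q ↔ a • z = 0 := by
      intro a
      rw [hz, Submodule.mem_colon_singleton, Submodule.mem_bot]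
    apply le_antisymm
    · intro a ha
      by_contra hap
      have hz0 : z = 0 := hreg a hap z ((hzmem a).1 ha)
      apply hqprime.ne_top
      rw [Ideal.eq_top_iff_one, hzmem, hz0, smul_zero]
    · intro a ha
      exact (hzmem a).2 (hkill' a ha z)
  have hAss : associatedPrimes A (M ⧸ T) = {p} := by
    ext q
    rw [Set.mem_singleton_iff]
    constructor
    · exact key q
    · intro hqp
      obtain ⟨q', hq'⟩ := associatedPrimes.nonempty A (M ⧸ T)
      rw [hqp, ← key q' hq']
      exact hq'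
  obtain ⟨φ, hφ⟩ := HOM1 p (M ⧸ T) hAss
  refine ⟨φ ∘ₗ T.mkQ, ?_⟩
  intro hzero
  apply hφ
  apply LinearMap.ext
  intro z
  obtain ⟨n, rfl⟩ := Submodule.Quotient.mk_surjective T z
  exact LinearMap.congr_fun hzero n

theorem exists_hom_ne_zero [IsNoetherianRing A] (F : Type u) [AddCommGroup F] [Module A F]
    [Module.Finite A F] (p : Ideal A) [hp : p.IsPrime]
    (hpF : (⟨p, hp⟩ : PrimeSpectrum A) ∈ Module.support A F) :
    ∃ φ : F →ₗ[A] (A ⧸ p), φ ≠ 0 := by
  have hsupp : (⟨p, hp⟩ : PrimeSpectrum A) ∈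
      Module.support A (F ⧸ (p • ⊤ : Submodule A F)) := by
    rw [Module.support_quotient]
    exact ⟨hpF, fun a ha => ha⟩
  have hann_le : Module.annihilator A (F ⧸ (p • ⊤ : Submodule A F)) ≤ p :=
    (Module.mem_support_iff_of_finite (p := (⟨p, hp⟩ : PrimeSpectrum A))).1 hsupp
  have hkill : ∀ a ∈ p, ∀ z : F ⧸ (p • ⊤ : Submodule A F), a • z = 0 := by
    intro a ha z
    obtain ⟨y, rfl⟩ := Submodule.Quotient.mk_surjective _ z
    rw [← Submodule.Quotient.mk_smul, Submodule.Quotient.mk_eq_zero]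
    exact Submodule.smul_mem_smul ha Submodule.mem_top
  have hp_le : p ≤ Module.annihilator A (F ⧸ (p • ⊤ : Submodule A F)) := by
    intro a ha
    rw [Module.mem_annihilator]
    exact hkill a ha
  have hann : Module.annihilator A (F ⧸ (p • ⊤ : Submodule A F)) = p :=
    le_antisymm hann_le hp_le
  have hpass : p ∈ associatedPrimes A (F ⧸ (p • ⊤ : Submodule A F)) := by
    apply Module.associatedPrimes.minimalPrimes_annihilator_subset_associatedPrimes A
      (F ⧸ (p • ⊤ : Submodule A F))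
    rw [hann, Ideal.minimalPrimes_eq_subsingleton_self]
    exact Set.mem_singleton p
  obtain ⟨_, x, hx⟩ := (isAssociatedPrime_iff).1 hpass
  have hxmem : ∀ a : A, a • x = 0 ↔ a ∈ p := by
    intro a
    have h1 := SetLike.ext_iff.1 hx a
    rw [Submodule.mem_colon_singleton, Submodule.mem_bot] at h1
    exact h1.symm
  obtain ⟨φ, hφ⟩ := HOM2 p (F ⧸ (p • ⊤ : Submodule A F)) hkill x hxmem
  refine ⟨φ ∘ₗ (p • ⊤ : Submodule A F).mkQ, ?_⟩
  intro hzero
  apply hφ
  apply LinearMap.ext
  intro z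
  obtain ⟨n, rfl⟩ := Submodule.Quotient.mk_surjective _ z
  exact LinearMap.congr_fun hzero n

theorem torsionSub_eq_bot_of_ext_zero [IsNoetherianRing A] (J : Ideal A) (F : Type u)
    [AddCommGroup F] [Module A F] [Module.Finite A F]
    (hF : Module.support A F = PrimeSpectrum.zeroLocus (J : Set A))
    (G : Type u) [AddCommGroup G] [Module A G]
    (h : Subsingleton (Abelian.Ext (ModuleCat.of A F) (ModuleCat.of A G) 0)) :
    DRing.torsionSub J G = ⊥ := by
  have hsub : Subsingleton (F →ₗ[A] G) :=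
    (Abelian.Ext.addEquiv₀.trans (ModuleCat.homAddEquiv
      (M := ModuleCat.of A F) (N := ModuleCat.of A G))).symm.subsingleton
  by_contra hne
  haveI : Nontrivial (DRing.torsionSub J G) := Submodule.nontrivial_iff_ne_bot.2 hne
  obtain ⟨p, hp⟩ := associatedPrimes.nonempty A (DRing.torsionSub J G)
  obtain ⟨hpprime, y, hy⟩ := (isAssociatedPrime_iff).1 hp
  haveI := hpprime
  have hymem : ∀ a : A, a ∈ p ↔ a • (y : G) = 0 := by
    intro a
    rw [hy, Submodule.mem_colon_singleton, Submodule.mem_bot]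
    constructor
    · intro h
      exact congrArg Subtype.val h
    · intro h
      exact Subtype.ext h
  have hJp : J ≤ p := by
    obtain ⟨k, hk⟩ := y.2
    intro a ha
    apply hpprime.mem_of_pow_mem k
    rw [hymem]
    exact hk _ (Ideal.pow_mem_pow ha k)
  have hpF : (⟨p, hpprime⟩ : PrimeSpectrum A) ∈ Module.support A F := by
    rw [hF, PrimeSpectrum.mem_zeroLocus]
    exact fun a ha => hJp ha
  obtain ⟨φ, hφ⟩ := exists_hom_ne_zero F p hpF
  let ψ0 : A →ₗ[A] G := LinearMap.toSpanSingleton A G (y : G)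
  let ψ : (A ⧸ p) →ₗ[A] G := Submodule.liftQ p ψ0 (by
    intro b hb
    rw [LinearMap.mem_ker]
    show b • (y : G) = 0
    exact (hymem b).1 hb)
  have hψmk : ∀ b : A, ψ (Submodule.Quotient.mk b) = b • (y : G) := fun b => rfl
  have hψ : Function.Injective ψ := by
    rw [injective_iff_map_eq_zero]
    intro z hz
    obtain ⟨b, rfl⟩ := Submodule.Quotient.mk_surjective p z
    rw [hψmk] at hz
    exact (Submodule.Quotient.mk_eq_zero p).2 ((hymem b).2 hz)
  apply hφ
  have h0 : ψ ∘ₗ φ = 0 := Subsingleton.elim _ _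
  apply LinearMap.ext
  intro x
  apply hψ
  show ψ (φ x) = ψ 0
  rw [map_zero]
  exact LinearMap.congr_fun h0 x

theorem ML1 [IsNoetherianRing A] (J : Ideal A) :
    ∀ (n : ℕ) (G : Type u) [AddCommGroup G] [Module A G],
    (∀ i : ℕ, i < n → Subsingleton (LocCoh.H J i G)) →
    ∀ (F : Type u) [AddCommGroup F] [Module A F], Module.Finite A F →
      Module.support A F ⊆ PrimeSpectrum.zeroLocus (J : Set A) →
      ∀ i : ℕ, i < n → Subsingleton (Abelian.Ext (ModuleCat.of A F) (ModuleCat.of A G) i) := by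
  intro n
  induction n with
  | zero =>
    intro G _ _ _ F _ _ _ _ i hi
    exact absurd hi (Nat.not_lt_zero i)
  | succ n ih =>
    intro G _ _ hP F _ _ hFfin hF i hi
    haveI := hFfin
    have hG : DRing.torsionSub J G = ⊥ := (H0_subsingleton_iff J G).1 (hP 0 (Nat.succ_pos n))
    obtain ⟨G', _, _, hH, hE⟩ := shift J G hG
    rcases Nat.eq_zero_or_pos i with rfl | hipos
    · exact subsingleton_ext_zero J F hF G hG
    · obtain ⟨i', rfl⟩ := Nat.exists_eq_succ_of_ne_zero (Nat.pos_iff_ne_zero.1 hipos)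
      exact (hE F hFfin hF i').1
        (ih G' (fun k hk => (hH k).2 (hP (k + 1) (by omega))) F hFfin hF i' (by omega))

theorem ML2 [IsNoetherianRing A] (J : Ideal A) (F : Type u) [AddCommGroup F] [Module A F]
    [Module.Finite A F] (hF : Module.support A F = PrimeSpectrum.zeroLocus (J : Set A)) :
    ∀ (n : ℕ) (G : Type u) [AddCommGroup G] [Module A G],
    (∀ i : ℕ, i < n → Subsingleton (Abelian.Ext (ModuleCat.of A F) (ModuleCat.of A G) i)) →
    ∀ i : ℕ, i < n → Subsingleton (LocCoh.H J i G) := by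
  intro n
  induction n with
  | zero =>
    intro G _ _ _ i hi
    exact absurd hi (Nat.not_lt_zero i)
  | succ n ih =>
    intro G _ _ hQ i hi
    have hG : DRing.torsionSub J G = ⊥ :=
      torsionSub_eq_bot_of_ext_zero J F hF G (hQ 0 (Nat.succ_pos n))
    obtain ⟨G', _, _, hH, hE⟩ := shift J G hG
    rcases Nat.eq_zero_or_pos i with rfl | hipos
    · exact (H0_subsingleton_iff J G).2 hG
    · obtain ⟨i', rfl⟩ := Nat.exists_eq_succ_of_ne_zero (Nat.pos_iff_ne_zero.1 hipos)
      exact (hH i').1 (ih G' (fun k hk =>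
        (hE F inferInstance hF.subset k).2 (hQ (k + 1) (by omega))) i' (by omega))

end

/-- The affine case. Let A be a Noetherian ring, J an ideal, G any A-module and n ≥ 0. Then: H^i_J(G) =
0 for all i < n iff Ext^i_A(F, G) = 0 for all i < n and all finite A-modules F with Supp F ⊆ V(J),
iff Ext^i_A(F, G) = 0 for all i < n for one finite F with Supp F = V(J). (G is not assumed finitely
generated.) -/
theorem result (A : Type u) [CommRing A] [IsNoetherianRing A] (J : Ideal A) (G : Type u) [AddCommGroup G] [Module A G] (n : ℕ) : ((∀ i : ℕ, i < n → Subsingleton (LocCoh.H J i G)) ↔ ∀ (F : Type u) [AddCommGroup F] [Module A F], Module.Finite A F → Module.support A F ⊆ PrimeSpectrum.zeroLocus (J : Set A) → ∀ i : ℕ, i < n → Subsingleton (Abelian.Ext (ModuleCat.of A F) (ModuleCat.of A G) i)) ∧ ((∀ i : ℕ, i < n → Subsingleton (LocCoh.H J i G)) ↔ ∃ (F : Type u) (_ : AddCommGroup F) (_ : Module A F), Module.Finite A F ∧ Module.support A F = PrimeSpectrum.zeroLocus (J : Set A) ∧ ∀ i : ℕ,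 i < n → Subsingleton (Abelian.Ext (ModuleCat.of A F) (ModuleCat.of A G) i)) := by
  have hsupp : Module.support A (A ⧸ J) = PrimeSpectrum.zeroLocus (J : Set A) := by
    rw [Module.support_eq_zeroLocus, Ideal.annihilator_quotient]
  refine ⟨⟨?_, ?_⟩, ⟨?_, ?_⟩⟩
  · intro hP F _ _ hFfin hF i hi
    exact ML1 J n G hP F hFfin hF i hi
  · intro hQ
    exact ML2 J (A ⧸ J) hsupp n G (fun i hi => hQ (A ⧸ J) inferInstance hsupp.subset i hi)
  · intro hP
    exact ⟨A ⧸ J, inferInstance, inferInstance, inferInstance, hsupp,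
      fun i hi => ML1 J n G hP (A ⧸ J) inferInstance hsupp.subset i hi⟩
  · rintro ⟨F, _, _, hFfin, hF, hE⟩
    haveI := hFfin
    exact ML2 J F hF n G hE

end Groth.Agent.S5162
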