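import Groth.Statements.S0333
import Groth.Agent.H58.LCFG
import Groth.Agent.S5162

set_option autoImplicit false
universe u v
open LocCoh

namespace Groth.Agent.S0333

open Groth.Agent.H58.LC
open scoped Pointwise

section

variable {R : Type u} [CommRing R] (I : Ideal R)

theorem half_exact {N₁ N₂ N₃ : Type u} [AddCommGroup N₁] [Module R N₁] [AddCommGroup N₂]
    [Module R N₂] [AddCommGroup N₃] [Module R N₃]
    (f : N₁ →ₗ[R] N₂) (g : N₂ →ₗ[R] N₃) (hf : Function.Injective f) (hg : Function.Surjective g)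
    (hfg : Function.Exact f g) (i : ℕ)
    (h1 : Subsingleton (LocCoh.H I i N₁)) (h3 : Subsingleton (LocCoh.H I i N₃)) :
    Subsingleton (LocCoh.H I i N₂) := by
  obtain ⟨δ, e1, -, -, -⟩ := les_mod I f g hf hg hfg i
  refine ⟨fun x y => ?_⟩
  have key : ∀ z : LocCoh.H I i N₂, z = 0 := fun z => by
    obtain ⟨w, rfl⟩ := (e1 z).1 (Subsingleton.elim _ _)
    rw [Subsingleton.elim w 0, map_zero]
  rw [key x, key y]

theorem right_exact_top {N N'' : Type u} [AddCommGroup N] [Module R N] [AddCommGroup N'']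
    [Module R N''] (g : N →ₗ[R] N'') (hg : Function.Surjective g) (i : ℕ)
    (hnext : Subsingleton (LocCoh.H I (i + 1) (LinearMap.ker g)))
    (h : Subsingleton (LocCoh.H I i N)) : Subsingleton (LocCoh.H I i N'') := by
  obtain ⟨δ, -, e2, -, -⟩ := les_mod I (LinearMap.ker g).subtype g
    (Submodule.injective_subtype _) hg (LinearMap.exact_subtype_ker_map g) i
  refine ⟨fun x y => ?_⟩
  have key : ∀ z : LocCoh.H I i N'', z = 0 := fun z => by
    obtain ⟨w, rfl⟩ := (e2 z).1 (Subsingleton.elim _ _)
    rw [Subsingleton.elim w 0, map_zero]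
  rw [key x, key y]

variable [IsNoetherianRing R]

theorem vanish_above (d : ℕ) (hd : ringKrullDim R = d) (N : Type u) [AddCommGroup N]
    [Module R N] (i : ℕ) (hi : d < i) : Subsingleton (LocCoh.H I i N) := by
  apply subsingleton_H_of_supportDim_lt I N i
  refine lt_of_le_of_lt (Module.supportDim_le_ringKrullDim R N) ?_
  rw [hd]
  exact_mod_cast hi

theorem supportDim_lt_of_quot (d : ℕ) (hd : ringKrullDim R = d) (p : Ideal R) [p.IsPrime]
    (Q : Type u) [AddCommGroup Q] [Module R Q]
    (π : (R ⧸ p) →ₗ[R] Q) (hπ : Function.Surjective π) (x : R) (hx : x ∉ p)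
    (hπx : π (Ideal.Quotient.mk p x) = 0) :
    Module.supportDim R Q < (d : WithBot ℕ∞) := by
  have hx' : Ideal.Quotient.mk p x ≠ 0 := fun h => hx (Ideal.Quotient.eq_zero_iff_mem.1 h)
  have hreg : IsSMulRegular (R ⧸ p) x := by
    intro a b hab
    have hab' : x • a = x • b := hab
    rw [Algebra.smul_def, Algebra.smul_def, Ideal.Quotient.algebraMap_eq] at hab'
    exact mul_left_cancel₀ hx' hab'
  have hkill : x • (⊤ : Submodule R (R ⧸ p)) ≤ LinearMap.ker π := by
    intro y hy
    rw [Submodule.mem_smul_pointwise_iff_exists] at hy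
    obtain ⟨z, -, rfl⟩ := hy
    obtain ⟨r, rfl⟩ := Ideal.Quotient.mk_surjective z
    have h1 : x • (Ideal.Quotient.mk p r) = r • (Ideal.Quotient.mk p x) := by
      rw [Algebra.smul_def, Algebra.smul_def, Ideal.Quotient.algebraMap_eq, mul_comm]
    rw [LinearMap.mem_ker, h1, map_smul, hπx, smul_zero]
  have hsurj : Function.Surjective (Submodule.liftQ (x • (⊤ : Submodule R (R ⧸ p))) π hkill) := by
    intro q
    obtain ⟨z, rfl⟩ := hπ q
    exact ⟨Submodule.Quotient.mk z, rfl⟩
  have hle1 : Module.supportDim R Q ≤ Module.supportDim R (QuotSMulTop x (R ⧸ p)) :=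
    Module.supportDim_le_of_surjective _ hsurj
  have hle2 := Module.supportDim_quotSMulTop_succ_le_of_notMem_minimalPrimes
    (M := R ⧸ p) (x := x) (fun q hq => hreg.notMem_of_mem_minimalPrimes hq)
  have hle3 : Module.supportDim R (R ⧸ p) ≤ (d : WithBot ℕ∞) := by
    rw [← hd]
    exact Module.supportDim_le_ringKrullDim R (R ⧸ p)
  have hlt : ((d : ℕ) : WithBot ℕ∞) < ((d + 1 : ℕ) : WithBot ℕ∞) := by
    exact_mod_cast Nat.lt_succ_self d
  have hle4 : Module.supportDim R Q + 1 ≤ (d : WithBot ℕ∞) :=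
    (add_le_add hle1 le_rfl).trans (hle2.trans hle3)
  exact withBot_lt_of_add_one_lt _ d (lt_of_le_of_lt hle4 hlt)

theorem vanish_prime (d : ℕ) (hd : ringKrullDim R = d) (M : Type u) [AddCommGroup M]
    [Module R M] [Module.Finite R M]
    (hsupp : ∀ p ∈ minimalPrimes R, ringKrullDim (R ⧸ p) = d → ∀ hp : p.IsPrime,
      (⟨p, hp⟩ : PrimeSpectrum R) ∈ Module.support R M)
    (hvan : Subsingleton (LocCoh.H I d M)) (p : Ideal R) [hp : p.IsPrime] :
    Subsingleton (LocCoh.H I d (R ⧸ p)) := by
  by_cases hmin : p ∈ minimalPrimes R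
  · by_cases hdim : ringKrullDim (R ⧸ p) = d
    · have hpM := hsupp p hmin hdim hp
      obtain ⟨φ, hφ⟩ := Groth.Agent.S5162.exists_hom_ne_zero M p hpM
      obtain ⟨y, hy⟩ : ∃ y, φ y ≠ 0 := by
        by_contra hcon
        push Not at hcon
        exact hφ (LinearMap.ext hcon)
      obtain ⟨x, hx⟩ := Ideal.Quotient.mk_surjective (φ y)
      have hxp : x ∉ p := fun h => hy (by
        rw [← hx]
        exact Ideal.Quotient.eq_zero_iff_mem.2 h)
      have hJ : Subsingleton (LocCoh.H I d (LinearMap.range φ)) :=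
        right_exact_top I φ.rangeRestrict φ.surjective_rangeRestrict d
          (vanish_above I d hd _ (d + 1) (Nat.lt_succ_self d)) hvan
      have hQ : Subsingleton (LocCoh.H I d ((R ⧸ p) ⧸ LinearMap.range φ)) := by
        apply subsingleton_H_of_supportDim_lt_of_finite I d
        refine supportDim_lt_of_quot d hd p _ (LinearMap.range φ).mkQ
          (Submodule.mkQ_surjective _) x hxp ?_
        rw [hx, Submodule.mkQ_apply, Submodule.Quotient.mk_eq_zero]
        exact ⟨y, rfl⟩
      exact half_exact I (LinearMap.range φ).subtype (LinearMap.range φ).mkQ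
        (Submodule.injective_subtype _) (Submodule.mkQ_surjective _)
        (LinearMap.exact_subtype_mkQ _) d hJ hQ
    · apply subsingleton_H_of_supportDim_lt_of_finite I d
      rw [Module.supportDim_quotient_eq_ringKrullDim]
      have hle : ringKrullDim (R ⧸ p) ≤ (d : WithBot ℕ∞) := by
        rw [← hd]
        exact ringKrullDim_quotient_le p
      exact lt_of_le_of_ne hle hdim
  · obtain ⟨p', hp'min, hp'le⟩ := Ideal.exists_minimalPrimes_le (I := ⊥) (J := p) bot_le
    have hne : p' ≠ p := fun h => hmin (by rw [← h]; exact hp'min)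
    haveI : p'.IsPrime := hp'min.1.1
    obtain ⟨x, hxp, hxp'⟩ : ∃ x ∈ p, x ∉ p' := by
      by_contra hcon
      push Not at hcon
      exact hne (le_antisymm hp'le hcon)
    apply subsingleton_H_of_supportDim_lt_of_finite I d
    refine supportDim_lt_of_quot d hd p' (R ⧸ p) (Submodule.mapQ p' p LinearMap.id hp'le)
      ?_ x hxp' ?_
    · intro z
      obtain ⟨r, rfl⟩ := Ideal.Quotient.mk_surjective z
      exact ⟨Ideal.Quotient.mk p' r, rfl⟩
    · exact (Ideal.Quotient.eq_zero_iff_mem.2 hxp : Ideal.Quotient.mk p x = 0)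

theorem vanish_finite (d : ℕ) (hd : ringKrullDim R = d) (M : Type u) [AddCommGroup M]
    [Module R M] [Module.Finite R M]
    (hsupp : ∀ p ∈ minimalPrimes R, ringKrullDim (R ⧸ p) = d → ∀ hp : p.IsPrime,
      (⟨p, hp⟩ : PrimeSpectrum R) ∈ Module.support R M)
    (hvan : Subsingleton (LocCoh.H I d M)) (N : Type u) [AddCommGroup N] [Module R N]
    [hN : Module.Finite R N] : Subsingleton (LocCoh.H I d N) := by
  refine IsNoetherianRing.induction_on_isQuotientEquivQuotientPrime (A := R) hN
    (motive := fun N [AddCommGroup N] [Module R N] [Module.Finite R N] =>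
      Subsingleton (LocCoh.H I d N)) ?_ ?_ ?_
  · intro N _ _ _ _
    exact subsingleton_H_of_subsingleton I d
  · intro N _ _ _ p f
    haveI := p.2
    haveI := vanish_prime I d hd M hsupp hvan p.1
    exact (Hcongr I d f).injective.subsingleton
  · intro N₁ _ _ _ N₂ _ _ _ N₃ _ _ _ f g hf hg hfg h₁ h₃
    exact half_exact I f g hf hg hfg d h₁ h₃

end

/-- Over a Noetherian ring of dimension d, if H^d_I(M) = 0 for one finite module M whose support
contains every minimal prime p with dim R/p = d, then H^i_I vanishes in degrees ≥ d on all modules. -/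
theorem result (R : Type u) [CommRing R] [IsNoetherianRing R] (I : Ideal R) (d : ℕ) (hd : ringKrullDim R = d) (M : Type u) [AddCommGroup M] [Module R M] [Module.Finite R M] (hsupp : ∀ p ∈ minimalPrimes R, ringKrullDim (R ⧸ p) = d → ∀ hp : p.IsPrime, (⟨p, hp⟩ : PrimeSpectrum R) ∈ Module.support R M) (hvan : Subsingleton (LocCoh.H I d M)) (N : Type u) [AddCommGroup N] [Module R N] (i : ℕ) (hi : d ≤ i) : Subsingleton (LocCoh.H I i N) := by
  rcases Nat.eq_or_lt_of_le hi with h | h
  · subst h
    apply subsingleton_H_of_fg I d N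
    intro M' hfg
    haveI : Module.Finite R M' := Module.Finite.iff_fg.2 hfg
    exact vanish_finite I d hd M hsupp hvan M'
  · exact vanish_above I d hd N i h

end Groth.Agent.S0333
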