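import Groth.Statements.S17763
import Groth.Agent.H58.LCJac
import Groth.Agent.S0333
import Groth.Agent.H24.CatenaryOrder

set_option autoImplicit false
universe u
open LocCoh

namespace Groth.Agent.S17763

open Groth.Agent.H58.LC IsLocalRing

/-- above an ideal with positive-dimensional quotient there is a prime with one-dimensional quotient -/
lemma exists_prime_dim_one {R : Type u} [CommRing R] [IsNoetherianRing R] [IsLocalRing R]
    (I : Ideal R) (h : 0 < ringKrullDim (R ⧸ I)) :
    ∃ P : PrimeSpectrum R, I ≤ P.asIdeal ∧ ringKrullDim (R ⧸ P.asIdeal) = 1 := by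
  rw [ringKrullDim_quotient, Order.krullDim_pos_iff] at h
  obtain ⟨x, y, hxy⟩ := h
  have hxI : I ≤ x.1.asIdeal := x.2
  have hnt : Order.coheight x.1 ≠ ⊤ := (Order.coheight_lt_top x.1).ne
  have hpos : 0 < Order.coheight x.1 := by
    rw [Order.coheight_pos]
    intro hmax
    exact (hmax (show x.1 ≤ y.1 from hxy.le)).not_gt hxy
  obtain ⟨n, hn⟩ := ENat.ne_top_iff_exists.1 hnt
  have hn1 : 1 ≤ n := by
    rw [← hn] at hpos
    exact_mod_cast hpos
  obtain ⟨p, hhead, hlen⟩ := Order.exists_series_of_coheight_eq_coe x.1 hn.symm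
  have hlen' : (p.length : ℕ∞) = Order.coheight p.head := by rw [hhead, hlen, hn]
  let i : Fin (p.length + 1) := ⟨n - 1, by omega⟩
  have hco := Order.coheight_eq_index_of_length_eq_head_coheight hlen' i
  refine ⟨p i, ?_, ?_⟩
  · refine hxI.trans ?_
    have : p.head ≤ p i := LTSeries.head_le p i
    rw [hhead] at this
    exact this
  · rw [Groth.Agent.H24.ringKrullDim_quotient_eq_coheight, hco]
    have : (i.rev : ℕ) = 1 := by
      simp only [Fin.val_rev, i]
      omega
    rw [this]
    rfl

/-- Let R be a Noetherian local ring of Krull dimension d. Then the following are equivalent: (1)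
H^d_I(R) = 0 for every ideal I of R such that R ⧸ I has positive dimension; (2) H^d_p(R) = 0 for
every prime ideal p of R such that R ⧸ p has dimension one. -/
theorem result (R : Type u) [CommRing R] [IsNoetherianRing R] [IsLocalRing R] (d : ℕ) (hd : ringKrullDim R = d) : (∀ I : Ideal R, 0 < ringKrullDim (R ⧸ I) → Subsingleton (LocCoh.H I d R)) ↔ (∀ (p : Ideal R) [p.IsPrime], ringKrullDim (R ⧸ p) = 1 → Subsingleton (LocCoh.H p d R)) := by
  constructor
  · intro h p _ hp
    exact h p (by rw [hp]; exact zero_lt_one)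
  · intro h2 I
    refine IsNoetherian.induction (P := fun I : Ideal R => 0 < ringKrullDim (R ⧸ I) →
      Subsingleton (LocCoh.H I d R)) ?_ I
    intro I ih hI
    obtain ⟨P, hIP, hPdim⟩ := exists_prime_dim_one I hI
    by_cases hEq : I = P.asIdeal
    · rw [hEq]
      haveI := P.isPrime
      exact h2 P.asIdeal hPdim
    · have hlt : I < P.asIdeal := lt_of_le_of_ne hIP hEq
      obtain ⟨x, hxP, hxI⟩ := SetLike.exists_of_lt hlt
      have hJlt : I < I ⊔ Ideal.span {x} := by
        refine lt_of_le_of_ne le_sup_left (fun h => hxI ?_)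
        rw [h]
        exact Ideal.mem_sup_right (Ideal.subset_span rfl)
      have hJP : I ⊔ Ideal.span {x} ≤ P.asIdeal :=
        sup_le hIP ((Ideal.span_singleton_le_iff_mem _).2 hxP)
      have hJdim : 0 < ringKrullDim (R ⧸ (I ⊔ Ideal.span {x})) := by
        have hle : ringKrullDim (R ⧸ P.asIdeal) ≤ ringKrullDim (R ⧸ (I ⊔ Ideal.span {x})) :=
          ringKrullDim_le_of_surjective (Ideal.Quotient.factor hJP)
            (Ideal.Quotient.factor_surjective hJP)
        rw [hPdim] at hle
        exact lt_of_lt_of_le zero_lt_one hle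
      have hJ : Subsingleton (LocCoh.H (I ⊔ Ideal.span {x}) d R) := ih _ hJlt hJdim
      have hsupp : ∀ p ∈ minimalPrimes R, ringKrullDim (R ⧸ p) = d → ∀ hp : p.IsPrime,
          (⟨p, hp⟩ : PrimeSpectrum R) ∈ Module.support R R := by
        intro p _ _ hp
        rw [Module.support_of_algebra, PrimeSpectrum.mem_zeroLocus]
        intro y hy
        have hy0 : y = 0 := by simpa using hy
        rw [hy0]
        exact p.zero_mem
      have hxjac : x ∈ (⊥ : Ideal R).jacobson := by
        rw [IsLocalRing.jacobson_eq_maximalIdeal ⊥ bot_ne_top]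
        exact le_maximalIdeal P.isPrime.ne_top hxP
      exact subsingleton_H_of_sup_span_jacobson d hd I x hxjac
        (fun M _ _ => Groth.Agent.S0333.result R _ d hd R hsupp hJ M d le_rfl) R

end Groth.Agent.S17763
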