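import Groth.Statements.S0339
import Mathlib
import Groth.Agent.S5788

set_option autoImplicit false
universe u v
open CategoryTheory
open Goren


namespace Groth.Agent.S0339

open Abelian IsLocalRing

variable {A : Type u} [CommRing A]

/-- `Ext` out of a zero object vanishes. -/
theorem ext_eq_zero_of_isZero_src {X Y : ModuleCat.{u} A} (hX : Limits.IsZero X) {m : ℕ}
    (z : Ext X Y m) : z = 0 := by
  rw [← Ext.mk₀_id_comp z, hX.eq_of_src (𝟙 X) 0, Ext.mk₀_zero, Ext.zero_comp]

/-- Transport of `Ext`-vanishing along an isomorphism of the source. -/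
theorem ext_eq_zero_of_iso_src {X X' Y : ModuleCat.{u} A} (e : X ≅ X') {m : ℕ}
    (h : ∀ z : Ext X Y m, z = 0) (z : Ext X' Y m) : z = 0 := by
  have h1 : (Ext.mk₀ e.inv).comp ((Ext.mk₀ e.hom).comp z (zero_add m)) (zero_add m) = z := by
    rw [Ext.mk₀_comp_mk₀_assoc, e.inv_hom_id, Ext.mk₀_id_comp]
  rw [← h1, h ((Ext.mk₀ e.hom).comp z (zero_add m)), Ext.comp_zero]

/-- Dévissage: `Ext^j(-, M)` vanishes on a finite module as soon as it vanishes on `A/q` for the
primes `q` of its support. -/
theorem L1 [IsNoetherianRing A] (M : ModuleCat.{u} A) (j : ℕ) (N' : Type u) [AddCommGroup N']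
    [Module A N'] [hfin : Module.Finite A N'] :
    (∀ q ∈ Module.support A N', ∀ z : Ext (ModuleCat.of A (A ⧸ q.asIdeal)) M j, z = 0) →
    ∀ z : Ext (ModuleCat.of A N') M j, z = 0 := by
  induction hfin using IsNoetherianRing.induction_on_isQuotientEquivQuotientPrime A with
  | subsingleton N =>
    intro _ z
    exact ext_eq_zero_of_isZero_src (ModuleCat.isZero_of_subsingleton _) z
  | quotient N p f =>
    intro h z
    have hp : p ∈ Module.support A N := by
      rw [f.support_eq, Module.support_eq_zeroLocus, Ideal.annihilator_quotient]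
      exact (PrimeSpectrum.mem_zeroLocus _ _).mpr (fun x hx => hx)
    exact ext_eq_zero_of_iso_src f.symm.toModuleIso (h p hp) z
  | exact N₁ N₂ N₃ f g hf hg hfg h₁ h₃ =>
    intro h z
    have hsupp := Module.support_of_exact hfg hf hg
    let S : ShortComplex (ModuleCat.{u} A) :=
      ModuleCat.shortComplexOfCompEqZero f g hfg.linearMap_comp_eq_zero
    have hS : S.ShortExact := ModuleCat.shortComplex_shortExact S hfg hf hg
    have z1 : (Ext.mk₀ S.f).comp z (zero_add j) = 0 :=
      h₁ (fun q hq => h q (by rw [hsupp]; exact Or.inl hq)) _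
    obtain ⟨x₃, rfl⟩ := Ext.contravariant_sequence_exact₂ hS M z z1
    rw [h₃ (fun q hq => h q (by rw [hsupp]; exact Or.inr hq)) x₃, Ext.comp_zero]

/-- If `x ∈ 𝔪` is `X`-regular and `Ext^{i+1}(X/xX, M) = 0` then `Ext^i(X, M) = 0` (Nakayama). -/
theorem nakayama_step [IsNoetherianRing A] [IsLocalRing A] (X M : ModuleCat.{u} A)
    [Module.Finite A X] [Module.Finite A M] (x : A) (hxm : x ∈ maximalIdeal A)
    (hreg : IsSMulRegular X x) (i : ℕ)
    (h3 : ∀ w : Ext (X.smulShortComplex x).X₃ M (i + 1), w = 0) (z : Ext X M i) : z = 0 := by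
  have hS := hreg.smulShortComplex_shortExact
  have hE : ∀ z : Ext X M i, ∃ z' : Ext X M i, z = x • z' := by
    intro z
    obtain ⟨x₂, hx₂⟩ := Ext.contravariant_sequence_exact₁ hS M z (n₁ := i + 1) (by omega) (h3 _)
    have e1 : ∀ y : Ext X M i, (Ext.mk₀ (x • 𝟙 X)).comp y (zero_add i) = x • y := by
      intro y
      rw [Ext.mk₀_smul, Ext.smul_comp, Ext.mk₀_id_comp]
    exact ⟨x₂, hx₂.symm.trans (e1 x₂)⟩
  have htop : (⊤ : Submodule A (Ext X M i)) ≤ maximalIdeal A • ⊤ := by
    intro z _
    obtain ⟨z', rfl⟩ := hE z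
    exact Submodule.smul_mem_smul hxm Submodule.mem_top
  have hbot : (⊤ : Submodule A (Ext X M i)) = ⊥ :=
    Submodule.eq_bot_of_le_smul_of_le_jacobson_bot (maximalIdeal A) ⊤ Module.Finite.fg_top htop
      (IsLocalRing.maximalIdeal_le_jacobson _)
  have hz : z ∈ (⊤ : Submodule A (Ext X M i)) := Submodule.mem_top
  rw [hbot] at hz
  exact (Submodule.mem_bot A).mp hz

theorem key [IsNoetherianRing A] [IsLocalRing A] (M : ModuleCat.{u} A) [Module.Finite A M]
    (N₀ : ℕ)
    (hκ : ∀ i, N₀ ≤ i → ∀ z : Ext (ModuleCat.of A (A ⧸ maximalIdeal A)) M i, z = 0) :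
    ∀ (n : ℕ) (p : PrimeSpectrum A), Order.coheight p ≤ (n : ℕ∞) → ∀ i, N₀ + n ≤ i →
      ∀ z : Ext (ModuleCat.of A (A ⧸ p.asIdeal)) M i, z = 0 := by
  intro n
  induction n with
  | zero =>
    intro p hp i hi
    have hmax : IsMax p := by simpa using hp
    have h1 : p ≤ IsLocalRing.closedPoint A := IsLocalRing.le_maximalIdeal p.2.ne_top
    have h2 : IsLocalRing.closedPoint A ≤ p := hmax h1
    have hpm : p.asIdeal = maximalIdeal A := le_antisymm h1 h2
    rw [hpm]
    exact hκ i (by omega)
  | succ n ih =>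
    intro p hp i hi
    by_cases hpm : p.asIdeal = maximalIdeal A
    · rw [hpm]; exact hκ i (by omega)
    · intro z
      have hlt : p.asIdeal < maximalIdeal A :=
        lt_of_le_of_ne (IsLocalRing.le_maximalIdeal p.2.ne_top) hpm
      obtain ⟨x, hxm, hxp⟩ := SetLike.exists_of_lt hlt
      have hreg : IsSMulRegular (A ⧸ p.asIdeal) x := by
        rw [isSMulRegular_quotient_iff_mem_of_smul_mem]
        intro y hy
        exact (p.2.mem_or_mem hy).resolve_left hxp
      refine nakayama_step (ModuleCat.of A (A ⧸ p.asIdeal)) M x hxm hreg i ?_ z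
      apply L1 M (i + 1) (QuotSMulTop x (A ⧸ p.asIdeal))
      intro q hq
      have hle : p ≤ q := by
        have h1 : q ∈ Module.support A (A ⧸ p.asIdeal) :=
          Module.support_subset_of_surjective (Submodule.mkQ _) (Submodule.mkQ_surjective _) hq
        rw [Module.support_eq_zeroLocus, Ideal.annihilator_quotient, PrimeSpectrum.mem_zeroLocus] at h1
        exact h1
      have hxq : x ∈ q.asIdeal := by
        refine Module.annihilator_le_of_mem_support hq (Module.mem_annihilator.mpr fun m => ?_)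
        obtain ⟨y, rfl⟩ := Submodule.Quotient.mk_surjective _ m
        rw [← Submodule.Quotient.mk_smul, Submodule.Quotient.mk_eq_zero]
        exact Submodule.smul_mem_pointwise_smul y x ⊤ Submodule.mem_top
      have hne : p ≠ q := fun h => hxp (by rw [h]; exact hxq)
      have hpq : p < q := lt_of_le_of_ne hle hne
      have h1 : Order.coheight q < ((n + 1 : ℕ) : ℕ∞) := Order.coheight_le_coe_iff.mp hp q hpq
      have hq' : Order.coheight q ≤ (n : ℕ∞) := by
        generalize Order.coheight q = c at h1 ⊢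
        induction c with
        | top => exact absurd h1 (by simp)
        | coe k =>
          have h2 : k < n + 1 := by exact_mod_cast h1
          exact_mod_cast Nat.lt_succ_iff.mp h2
      exact ih q hq' (i + 1) (by omega)

/-- The residue field as a quotient module. -/
noncomputable def resEquiv [IsLocalRing A] : (A ⧸ maximalIdeal A) ≃ₗ[A] ResidueField A where
  toFun := id
  invFun := id
  map_add' _ _ := rfl
  map_smul' _ _ := rfl
  left_inv _ := rfl
  right_inv _ := rfl

/-- Let A be a Noetherian local ring with residue field κ and M a finite A-module. Then M has finite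
injective dimension if and only if Ext^i_A(κ, M) = 0 for all sufficiently large i. (The published
statement is for bounded-below complexes with finite cohomology modules; stated here for a module.) -/
theorem result (A : Type u) [CommRing A] [IsLocalRing A] [IsNoetherianRing A] (M : Type u) [AddCommGroup M] [Module A M] [Module.Finite A M] : (∃ n : ℕ, HasInjectiveDimensionLT (ModuleCat.of A M) n) ↔ ∃ N : ℕ, ∀ i : ℕ, N ≤ i → Subsingleton (Abelian.Ext (ModuleCat.of A (IsLocalRing.ResidueField A)) (ModuleCat.of A M) i) := by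
  constructor
  · rintro ⟨n, hn⟩
    exact ⟨n, fun i hi => ⟨fun a b => by
      rw [a.eq_zero_of_hasInjectiveDimensionLT n hi, b.eq_zero_of_hasInjectiveDimensionLT n hi]⟩⟩
  · rintro ⟨N₀, hN⟩
    obtain ⟨D, hD⟩ : ∃ D : ℕ, ∀ p : PrimeSpectrum A, Order.coheight p ≤ (D : ℕ∞) := by
      refine ⟨(LTSeries.longestOf (PrimeSpectrum A)).length, fun p => ?_⟩
      have h1 : (Order.coheight p : WithBot ℕ∞) ≤ Order.krullDim (PrimeSpectrum A) :=
        Order.coheight_le_krullDim p
      rw [Order.krullDim_eq_length_of_finiteDimensionalOrder] at h1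
      exact_mod_cast h1
    have hκ : ∀ i, N₀ ≤ i → ∀ z : Abelian.Ext (ModuleCat.of A (A ⧸ IsLocalRing.maximalIdeal A))
        (ModuleCat.of A M) i, z = 0 := by
      intro i hi
      exact ext_eq_zero_of_iso_src resEquiv.symm.toModuleIso
        (fun z => @Subsingleton.elim _ (hN i hi) _ _)
    refine ⟨N₀ + D + 1, Groth.Agent.S5788.key A (N₀ + D) (ModuleCat.of A M)
      (fun I => ⟨fun a b => ?_⟩)⟩
    have hz : ∀ z : Abelian.Ext (ModuleCat.of A (A ⧸ I)) (ModuleCat.of A M) (N₀ + D + 1),
        z = 0 := by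
      apply L1 (ModuleCat.of A M) (N₀ + D + 1) (A ⧸ I)
      intro q _
      exact key (ModuleCat.of A M) N₀ hκ D q (hD q) (N₀ + D + 1) (by omega)
    rw [hz a, hz b]

end Groth.Agent.S0339
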