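import Groth.Statements.S0299
import Mathlib
import Groth.Agent.H58.IH

set_option autoImplicit false
universe u v
open InjHull

namespace Groth.Agent.S0299

/-- Every module over a commutative ring has an injective hull, i.e. an essential injection into an
injective module. -/
theorem result (R : Type u) [CommRing R] (M : Type u) [AddCommGroup M] [Module R M] : ∃ (E : Type u) (_ : AddCommGroup E) (_ : Module R E) (f : M →ₗ[R] E), InjHull.IsInjectiveHull f := by
  obtain ⟨I, hI1, hI2, hI3, i, hi⟩ := Groth.Agent.H58.IH.exists_injective_embedding R M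
  haveI := hI3
  obtain ⟨E, hNE, hess, hinj⟩ := Groth.Agent.H58.IH.exists_injective_essential (LinearMap.range i)
  let f : M →ₗ[R] E := i.codRestrict E (fun x => hNE ⟨x, rfl⟩)
  refine ⟨E, inferInstance, inferInstance, f, ?_⟩
  refine (Groth.Agent.H58.IH.isInjectiveHull_iff f).2 ⟨?_, ?_, hinj⟩
  · intro x y hxy
    apply hi
    exact congrArg Subtype.val hxy
  · intro x hx
    have hx' : (x : I) ≠ 0 := fun h => hx (Subtype.ext h)
    obtain ⟨r, ⟨m, hm⟩, hr0⟩ := hess x.1 x.2 hx'
    refine ⟨r, ⟨m, Subtype.ext ?_⟩, fun h => hr0 ?_⟩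
    · exact hm
    · exact congrArg Subtype.val h

end Groth.Agent.S0299
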