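import Groth.Statements.S0341
import Mathlib
import Groth.Agent.H60.Bass

set_option autoImplicit false
universe u v
open Goren

namespace Groth.Agent.S0341

/-- A Gorenstein local ring is Cohen–Macaulay. -/
theorem result (A : Type u) [CommRing A] [LocCoh.IsGorensteinLocalRing A] : LocCoh.IsCohenMacaulayLocalRing A := by
  haveI : Nontrivial (ModuleCat.of A A) := inferInstanceAs (Nontrivial A)
  obtain ⟨r, hr1, hr2⟩ := Groth.Agent.H60.Bass.exists_r (ModuleCat.of A A)
    LocCoh.IsGorensteinLocalRing.exists_hasInjectiveDimensionLT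
  exact { supportDim_eq_depth := Groth.Agent.H60.Bass.isCM_of_data r hr1 hr2 }

end Groth.Agent.S0341
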