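import Groth.Statements.S0343
import Mathlib
import Groth.Agent.S0340
import Groth.Agent.H60.Rees

set_option autoImplicit false
universe u v
open Goren

namespace Groth.Agent.S0343

open Groth.Agent.H60 in
/-- The residue field of `A/(f)`, restricted to `A`, is the residue field of `A`. -/
noncomputable def resIso {A : Type u} [CommRing A] [IsLocalRing A] (f : A)
    [IsLocalRing (A ⧸ Ideal.span {f})] [IsLocalHom (Ideal.Quotient.mk (Ideal.span {f}))] :
    IsLocalRing.ResidueField A ≃ₗ[A]
      ((Rees.Res f).obj (ModuleCat.of (Rees.Bq f) (IsLocalRing.ResidueField (Rees.Bq f)))) :=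
  LinearEquiv.ofBijective
    { toFun := fun x => (IsLocalRing.ResidueField.map (Rees.π f) x :
        IsLocalRing.ResidueField (Rees.Bq f))
      map_add' := fun x y => map_add (IsLocalRing.ResidueField.map (Rees.π f)) x y
      map_smul' := fun a x => by
        change IsLocalRing.ResidueField.map (Rees.π f) (a • x) =
          (Rees.π f a) • IsLocalRing.ResidueField.map (Rees.π f) x
        rw [Algebra.smul_def, Algebra.smul_def, map_mul, IsLocalRing.ResidueField.algebraMap_eq,
          IsLocalRing.ResidueField.algebraMap_eq, IsLocalRing.ResidueField.map_residue] }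
    ⟨(IsLocalRing.ResidueField.map (Rees.π f)).injective, fun y => by
      obtain ⟨b, rfl⟩ := IsLocalRing.residue_surjective y
      obtain ⟨a, rfl⟩ := Ideal.Quotient.mk_surjective b
      exact ⟨IsLocalRing.residue A a, rfl⟩⟩

open Groth.Agent.H60 in
/-- For a Noetherian local ring A and a non-zero-divisor f in the maximal ideal, A is Gorenstein exactly
when A/(f) is. -/
theorem result (A : Type u) [CommRing A] [IsLocalRing A] [IsNoetherianRing A] (f : A) (hf : f ∈ IsLocalRing.maximalIdeal A) (hreg : IsSMulRegular A f) : LocCoh.IsGorensteinLocalRing A ↔ LocCoh.IsGorensteinLocalRing (A ⧸ Ideal.span {f}) := by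
  classical
  have hle : Ideal.span {f} ≤ IsLocalRing.maximalIdeal A :=
    (Ideal.span_singleton_le_iff_mem _).mpr hf
  have hne : Ideal.span {f} ≠ ⊤ := fun h =>
    (IsLocalRing.maximalIdeal.isMaximal A).ne_top (top_le_iff.mp (h ▸ hle))
  haveI : Nontrivial (A ⧸ Ideal.span {f}) := Ideal.Quotient.nontrivial_iff.mpr hne
  haveI : IsLocalRing (A ⧸ Ideal.span {f}) :=
    IsLocalRing.of_surjective' (Ideal.Quotient.mk (Ideal.span {f})) Ideal.Quotient.mk_surjective
  haveI : IsLocalHom (Ideal.Quotient.mk (Ideal.span {f})) :=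
    IsLocalHom.of_surjective _ Ideal.Quotient.mk_surjective
  constructor
  · intro hA
    obtain ⟨n, hn⟩ := hA.exists_hasInjectiveDimensionLT
    refine (Groth.Agent.S0340.result (A ⧸ Ideal.span {f})).mpr ⟨n, fun i hi => ?_⟩
    rw [Rees.subsingleton_iff f hreg i (IsLocalRing.ResidueField (A ⧸ Ideal.span {f}))]
    exact ⟨fun a b => by
      rw [a.eq_zero_of_hasInjectiveDimensionLT n (by omega),
        b.eq_zero_of_hasInjectiveDimensionLT n (by omega)]⟩
  · intro hB
    obtain ⟨N₀, hN⟩ := (Groth.Agent.S0340.result (A ⧸ Ideal.span {f})).mp hB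
    refine (Groth.Agent.S0340.result A).mpr ⟨N₀ + 1, fun j hj => ?_⟩
    obtain ⟨i, rfl⟩ : ∃ i, j = i + 1 := ⟨j - 1, by omega⟩
    have h1 := (Rees.subsingleton_iff f hreg i
      (IsLocalRing.ResidueField (A ⧸ Ideal.span {f}))).mp (hN i (by omega))
    refine ⟨fun a b => ?_⟩
    have hz := Groth.Agent.S0339.ext_eq_zero_of_iso_src (resIso f).symm.toModuleIso
      (fun z => @Subsingleton.elim _ h1 z 0)
    rw [hz a, hz b]

end Groth.Agent.S0343
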