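import Groth.Statements.S0395
import Groth.Agent.H2.FlatLocal

set_option autoImplicit false
universe u
open FlatMor

namespace Groth.Agent.S0395

open TensorProduct nonZeroDivisors in
/-- For a flat local homomorphism R → S of Noetherian local rings and an element f of S that is regular
on the fibre ring S/mS, the quotient of S by f is again R-flat and f is regular on S. -/
theorem result {R S : Type u} [CommRing R] [CommRing S] [IsLocalRing R] [IsLocalRing S] [IsNoetherianRing R] [IsNoetherianRing S] [Algebra R S] [IsLocalHom (algebraMap R S)] [Module.Flat R S]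
    (f : S) (hf : Ideal.Quotient.mk ((IsLocalRing.maximalIdeal R).map (algebraMap R S)) f ∈ nonZeroDivisors (S ⧸ ((IsLocalRing.maximalIdeal R).map (algebraMap R S)))) :
    Module.Flat R (S ⧸ Ideal.span {f}) ∧ f ∈ nonZeroDivisors S := by
  let u : S →ₗ[R] S := LinearMap.mulLeft R f
  have hu : ∀ y, u y ∈ IsLocalRing.maximalIdeal R • (⊤ : Submodule R S) →
      y ∈ IsLocalRing.maximalIdeal R • (⊤ : Submodule R S) := by
    intro y hy
    rw [Ideal.smul_top_eq_map] at hy ⊢
    have h1 : f * y ∈ (IsLocalRing.maximalIdeal R).map (algebraMap R S) := hy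
    have h2 : Ideal.Quotient.mk ((IsLocalRing.maximalIdeal R).map (algebraMap R S)) y *
        Ideal.Quotient.mk ((IsLocalRing.maximalIdeal R).map (algebraMap R S)) f = 0 := by
      rw [← map_mul, mul_comm, Ideal.Quotient.eq_zero_iff_mem]; exact h1
    have h3 := (mul_right_mem_nonZeroDivisors_eq_zero_iff hf).mp h2
    exact Ideal.Quotient.eq_zero_iff_mem.mp h3
  obtain ⟨hinj, hflat⟩ := Groth.Agent.H2.injective_and_flat_coker S u hu
  constructor
  · have hrange : LinearMap.range u = (Ideal.span {f}).restrictScalars R := by
      ext x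
      simp only [LinearMap.mem_range, Submodule.restrictScalars_mem, Ideal.mem_span_singleton']
      constructor
      · rintro ⟨y, rfl⟩; exact ⟨y, by simp [u, mul_comm]⟩
      · rintro ⟨a, rfl⟩; exact ⟨a, by simp [u, mul_comm]⟩
    let e : (S ⧸ LinearMap.range u) ≃ₗ[R] (S ⧸ Ideal.span {f}) :=
      (Submodule.quotEquivOfEq _ _ hrange).trans
        (Submodule.Quotient.restrictScalarsEquiv R (Ideal.span {f}))
    exact Module.Flat.of_linearEquiv e.symm
  · rw [mem_nonZeroDivisors_iff_left]
    intro x hx
    exact hinj (by simpa [u] using hx)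

end Groth.Agent.S0395
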