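import Groth.Statements.S0342
import Groth.Agent.S0563

set_option autoImplicit false
universe u v
open Goren

namespace Groth.Agent.S0342

/-- Regular local rings have finite injective dimension over themselves, i.e. are Gorenstein. -/
theorem result (A : Type u) [CommRing A] [IsRegularLocalRing A] : LocCoh.IsGorensteinLocalRing A := by
  obtain ⟨d, hd⟩ : ∃ d : ℕ, ringKrullDim A = d :=
    ⟨(IsLocalRing.maximalIdeal A).spanFinrank,
      (IsRegularLocalRing.spanFinrank_maximalIdeal (R := A)).symm⟩
  refine { exists_hasInjectiveDimensionLT := ⟨d + 1, ?_⟩ }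
  letI := CategoryTheory.HasExt.standard (ModuleCat.{u} A)
  refine CategoryTheory.HasInjectiveDimensionLT.mk (fun i hi Y e => ?_)
  haveI : CategoryTheory.HasProjectiveDimensionLT Y (d + 1) :=
    Groth.Agent.S0563.result A d hd Y
  exact e.eq_zero_of_hasProjectiveDimensionLT (d + 1) hi

end Groth.Agent.S0342
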