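import Groth.Statements.S9829
import Groth.Agent.H15.NormalAscent
import Groth.Agent.H9.RegLocalSeq
import Groth.Agent.S11650

set_option autoImplicit false
universe u
open CAlg

namespace Groth.Agent.S9829

open IsLocalRing Groth.Agent.H15.NormalAscent in
theorem aux : ∀ (n : ℕ) (A : Type u) [CommRing A] [IsRegularLocalRing A],
    (maximalIdeal A).spanFinrank = n → IsIntegrallyClosed A := by
  intro n
  induction n with
  | zero =>
    intro A _ _ h0
    have hdom := Groth.Agent.H23.isDomain_of_isRegularLocalRing A
    have hbot : maximalIdeal A = ⊥ :=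
      (Submodule.spanFinrank_eq_zero_iff_eq_bot (IsNoetherian.noetherian _)).mp h0
    exact Groth.Agent.H15.SerreNormal.isIntegrallyClosed_of_principal (π := (0 : A))
      (by rw [hbot]; simp)
  | succ n ih =>
    intro A _ _ hn
    have hdom := Groth.Agent.H23.isDomain_of_isRegularLocalRing A
    have hnle : ¬ maximalIdeal A ≤ maximalIdeal A ^ 2 := by
      intro hle
      have hbot : maximalIdeal A = ⊥ :=
        Submodule.eq_bot_of_le_smul_of_le_jacobson_bot (maximalIdeal A) (maximalIdeal A)
          (IsNoetherian.noetherian _) (by rw [smul_eq_mul, ← sq]; exact hle)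
          (by rw [IsLocalRing.jacobson_eq_maximalIdeal ⊥ bot_ne_top])
      rw [hbot, Submodule.spanFinrank_bot] at hn
      omega
    obtain ⟨x, hxm, hx2⟩ := SetLike.not_le_iff_exists.mp hnle
    obtain ⟨hQreg, hQdim⟩ := Groth.Agent.H9.regular_quotient_of_notMem_sq A x hxm hx2
    haveI := hQreg
    have hx0 : x ≠ 0 := fun h => hx2 (h ▸ zero_mem _)
    have hQn : (maximalIdeal (A ⧸ Ideal.span {x})).spanFinrank = n := by
      have h1 : (((maximalIdeal (A ⧸ Ideal.span {x})).spanFinrank : ℕ) : WithBot ℕ∞) =
          ringKrullDim (A ⧸ Ideal.span {x}) := IsRegularLocalRing.spanFinrank_maximalIdeal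
      have h2 : (((maximalIdeal A).spanFinrank : ℕ) : WithBot ℕ∞) = ringKrullDim A :=
        IsRegularLocalRing.spanFinrank_maximalIdeal
      rw [← h1, ← h2, hn] at hQdim
      have e : ∀ k : ℕ, ((k : ℕ) : WithBot ℕ∞) = (((k : ℕ) : ℕ∞) : WithBot ℕ∞) := fun k => rfl
      rw [e, e, ← WithBot.coe_one, ← WithBot.coe_add, WithBot.coe_inj] at hQdim
      have h3 : (maximalIdeal (A ⧸ Ideal.span {x})).spanFinrank + 1 = n + 1 := by
        exact_mod_cast hQdim
      omega
    haveI hQdom := Groth.Agent.H23.isDomain_of_isRegularLocalRing (A ⧸ Ideal.span {x})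
    haveI hQic := ih (A ⧸ Ideal.span {x}) hQn
    have hineq : DepthIneq A := by
      intro p s _ _ hps
      exact Groth.Agent.S11650.result A A p s hps
    exact (normal_of_quotient_normal hineq hxm (mem_nonZeroDivisors_of_ne_zero hx0)).2


/-- A regular local ring is an integrally closed domain. Hence a scheme all of whose local rings are
regular is normal. -/
theorem result (A : Type u) [CommRing A] [IsRegularLocalRing A] :
    IsIntegrallyClosed A := by
  exact aux _ A rfl

end Groth.Agent.S9829
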