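import Groth.Statements.S6284
import Mathlib.RingTheory.LocalRing.Module
import Mathlib.RingTheory.LocalRing.ResidueField.Ideal
import Mathlib.RingTheory.Flat.FaithfullyFlat.Basic

set_option autoImplicit false
universe u
open scoped TensorProduct
open CAlg

namespace Groth.Agent.S6284

/-- Let R → R' be a ring map and M a finite R-module. Then the support of R' ⊗_R M is the inverse image
of the support of M under Spec(R') → Spec(R). -/
theorem result {R R' : Type u} [CommRing R] [CommRing R'] [Algebra R R'] (M : Type u) [AddCommGroup M] [Module R M] [Module.Finite R M] : Module.support R' (R' ⊗[R] M) = PrimeSpectrum.comap (algebraMap R R') ⁻¹' Module.support R M := by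
  ext q
  simp only [Set.mem_preimage]
  rw [Module.mem_support_iff_nontrivial_residueField_tensorProduct,
    Module.mem_support_iff_nontrivial_residueField_tensorProduct]
  let P : Ideal R := q.asIdeal.comap (algebraMap R R')
  have hP : P.IsPrime := Ideal.comap_isPrime _ _
  let K := P.ResidueField
  let L := q.asIdeal.ResidueField
  let φ : K →+* L := Ideal.ResidueField.map P q.asIdeal (algebraMap R R') rfl
  let _ : Algebra K L := φ.toAlgebra
  have : IsScalarTower R K L := IsScalarTower.of_algebraMap_eq (fun r => by
    change algebraMap R L r = φ (algebraMap R K r)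
    rw [Ideal.ResidueField.map_algebraMap]
    exact IsScalarTower.algebraMap_apply R R' L r)
  let e1 := TensorProduct.AlgebraTensorModule.cancelBaseChange R R' L L M
  let e2 := TensorProduct.AlgebraTensorModule.cancelBaseChange R K L L M
  change Nontrivial (L ⊗[R'] (R' ⊗[R] M)) ↔ Nontrivial (K ⊗[R] M)
  rw [e1.nontrivial_congr, ← e2.nontrivial_congr]
  exact Module.FaithfullyFlat.nontrivial_tensorProduct_iff_right K L

end Groth.Agent.S6284
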