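import Groth.Statements.S0580
import Groth.Agent.S0578
import Groth.Agent.S0579
import Groth.Agent.H15.CohenLift
import Groth.Agent.H15.CohenStruct

set_option autoImplicit false
universe u
open CAlg

namespace Groth.Agent.S0580

/-- A local ring complete with respect to a finitely generated maximal ideal is a quotient of a power
series ring in finitely many variables over a ring which is either a field or a Cohen ring. -/
theorem result (R : Type u) [CommRing R]
    [IsLocalRing R] [IsAdicComplete (IsLocalRing.maximalIdeal R) R]
    (hfg : (IsLocalRing.maximalIdeal R).FG) :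
    ∃ (Λ : Type u) (_ : CommRing Λ) (n : ℕ) (f : MvPowerSeries (Fin n) Λ →+* R),
      (IsField Λ ∨ CAlg.IsCohenRing Λ) ∧ Function.Surjective f := by
  classical
  obtain ⟨n, x, hx⟩ := Submodule.fg_iff_exists_fin_generating_family.mp hfg
  obtain ⟨q, hq⟩ := CharP.exists (IsLocalRing.ResidueField R)
  rcases CharP.char_is_prime_or_zero (IsLocalRing.ResidueField R) q with hqp | hq0
  · -- residue characteristic `q > 0`
    have : Fact q.Prime := ⟨hqp⟩
    obtain ⟨Λ, _, _, hΛ, ⟨e⟩⟩ := Groth.Agent.S0578.result q (IsLocalRing.ResidueField R)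
    have hΛ' := hΛ
    obtain ⟨hdom, hdvr, hcomp, p, hp, hm⟩ := hΛ
    have hpR : (p : R) ∈ IsLocalRing.maximalIdeal R := by
      rw [← IsLocalRing.residue_eq_zero_iff, map_natCast]
      have h1 : IsLocalRing.residue Λ (p : Λ) = 0 := by
        rw [IsLocalRing.residue_eq_zero_iff, hm]
        exact Ideal.mem_span_singleton_self _
      rw [map_natCast] at h1
      have h2 := congrArg e h1
      rwa [map_natCast, map_zero] at h2
    let g₁ : Λ →+* R ⧸ IsLocalRing.maximalIdeal R :=
      (e : IsLocalRing.ResidueField Λ →+* IsLocalRing.ResidueField R).comp (IsLocalRing.residue Λ)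
    obtain ⟨v, hv⟩ := Groth.Agent.H15.CohenLift.exists_lift_complete Λ p hp hm
      (IsLocalRing.maximalIdeal R) hpR g₁
    have hφ : Function.Surjective ((IsLocalRing.residue R).comp v) := by
      have h3 : (IsLocalRing.residue R).comp v = g₁ := hv
      rw [h3]
      exact e.surjective.comp IsLocalRing.residue_surjective
    obtain ⟨F, hF, -, -⟩ :=
      Groth.Agent.H15.CohenStruct.exists_surjective_mvPowerSeries v hφ n x hx
    exact ⟨Λ, _, n, F, Or.inr hΛ', hF⟩
  · -- residue characteristic zero
    subst hq0
    have : CharZero (IsLocalRing.ResidueField R) := CharP.charP_to_charZero _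
    obtain ⟨s, hs⟩ := Groth.Agent.S0579.result R
    have hc : IsAdicComplete (IsLocalRing.maximalIdeal (IsLocalRing.ResidueField R))
        (IsLocalRing.ResidueField R) := by
      rw [IsLocalRing.maximalIdeal_eq_bot]; infer_instance
    have hφ : Function.Surjective ((IsLocalRing.residue R).comp s) := by
      rw [hs]; exact Function.surjective_id
    obtain ⟨F, hF, -, -⟩ :=
      Groth.Agent.H15.CohenStruct.exists_surjective_mvPowerSeries s hφ n x hx
    exact ⟨IsLocalRing.ResidueField R, _, n, F, Or.inl (Field.toIsField _), hF⟩

end Groth.Agent.S0580
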