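import Groth.Statements.S9125
import Groth.Agent.H46.Catenary
import Mathlib.RingTheory.Ideal.Maps
import Mathlib.RingTheory.Spectrum.Prime.Topology
import Mathlib.RingTheory.Spectrum.Prime.RingHom

set_option autoImplicit false
universe u
open CAlg

namespace Groth.Agent.S9125

/-- A quotient of a catenary ring is catenary. -/
theorem result (A : Type u) [CommRing A] (I : Ideal A)
    (hA : CAlg.IsCatenary A) : CAlg.IsCatenary (A ⧸ I) := by
  refine Groth.Agent.H46.isCatenary_of_embedding (PrimeSpectrum.comap (Ideal.Quotient.mk I)) ?_ ?_ hA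
  · intro x y
    exact Ideal.comap_le_comap_iff_of_surjective (Ideal.Quotient.mk I)
      Ideal.Quotient.mk_surjective x.asIdeal y.asIdeal
  · intro x y r hxr _
    have hmem : r ∈ Set.range (PrimeSpectrum.comap (Ideal.Quotient.mk I)) := by
      rw [range_comap_of_surjective _ _ Ideal.Quotient.mk_surjective,
        Ideal.mk_ker, PrimeSpectrum.mem_zeroLocus]
      have hx : PrimeSpectrum.comap (Ideal.Quotient.mk I) x ∈
          Set.range (PrimeSpectrum.comap (Ideal.Quotient.mk I)) := ⟨x, rfl⟩
      rw [range_comap_of_surjective _ _ Ideal.Quotient.mk_surjective,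
        Ideal.mk_ker, PrimeSpectrum.mem_zeroLocus] at hx
      exact hx.trans hxr
    exact hmem

end Groth.Agent.S9125
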