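import Groth.Statements.S9297
import Groth.Agent.H24.CatenaryRing

set_option autoImplicit false
universe u
open EGA4

namespace Groth.Agent.S9297

/-- Let A → B be a flat local homomorphism of Noetherian local rings with B catenary and Spec(B)
equidimensional. Then Spec(B/pB) is equidimensional for every prime p of A. -/
theorem result (A B : Type u) [CommRing A] [CommRing B]
    [IsNoetherianRing A] [IsNoetherianRing B] [IsLocalRing A] [IsLocalRing B] [Algebra A B]
    [IsLocalHom (algebraMap A B)] [Module.Flat A B] (hcat : CAlg.IsCatenary B) (heq : EGA4.IsEquidim B)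
    (p : Ideal A) [p.IsPrime] : EGA4.IsEquidim (B ⧸ Ideal.map (algebraMap A B) p) := by
  have hIne : Ideal.map (algebraMap A B) p ≠ ⊤ := by
    have h1 : Ideal.map (algebraMap A B) p ≤ IsLocalRing.maximalIdeal B :=
      le_trans (Ideal.map_mono (IsLocalRing.le_maximalIdeal (Ideal.IsPrime.ne_top inferInstance)))
        (IsLocalRing.map_maximalIdeal_le (algebraMap A B))
    exact ne_top_of_le_ne_top (IsLocalRing.maximalIdeal.isMaximal B).ne_top h1
  -- for `Q` minimal over `pB`: `ht p + dim B/Q = dim B`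
  have key : ∀ Q ∈ (Ideal.map (algebraMap A B) p).minimalPrimes,
      ((p.height : ℕ∞) : WithBot ℕ∞) + ringKrullDim (B ⧸ Q) = ringKrullDim B := by
    intro Q hQ
    have hQp : Q.IsPrime := hQ.1.1
    have hple : p ≤ Q.comap (algebraMap A B) := Ideal.map_le_iff_le_comap.mp hQ.1.2
    have hover : Q.comap (algebraMap A B) = p := by
      refine le_antisymm ?_ hple
      have : Q.LiesOver (Q.comap (algebraMap A B)) := ⟨rfl⟩
      obtain ⟨Q', hQ'le, hQ'prime, hQ'over⟩ :=
        Ideal.exists_ideal_le_liesOver_of_le (p := p) (q := Q.comap (algebraMap A B)) Q hple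
      have h2 : Ideal.map (algebraMap A B) p ≤ Q' := by
        rw [Ideal.map_le_iff_le_comap]
        exact le_of_eq hQ'over.over
      have h3 : Q ≤ Q' := hQ.2 ⟨hQ'prime, h2⟩ hQ'le
      have hQQ' : Q' = Q := le_antisymm hQ'le h3
      rw [← hQQ']
      exact le_of_eq hQ'over.over.symm
    have : Q.LiesOver p := ⟨hover.symm⟩
    have hheight : Q.height = p.height := by
      rw [Ideal.height_eq_height_add_of_liesOver_of_hasGoingDown p Q]
      have h0 : (Q.map (Ideal.Quotient.mk (p.map (algebraMap A B)))).height = 0 := by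
        have : (Q.map (Ideal.Quotient.mk (p.map (algebraMap A B)))).IsPrime :=
          Ideal.map_isPrime_of_surjective Ideal.Quotient.mk_surjective
            (by rw [Ideal.mk_ker]; exact hQ.1.2)
        rw [Ideal.height_eq_zero_iff]
        have h1 : Q ∈ (p.map (algebraMap A B)).minimalPrimes := hQ
        rw [Ideal.minimalPrimes_eq_comap] at h1
        obtain ⟨q', hq', hq'eq⟩ := h1
        rw [← hq'eq, Ideal.map_comap_of_surjective _ Ideal.Quotient.mk_surjective]
        exact hq'
      rw [h0, add_zero]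
    have h := Groth.Agent.H24.height_add_ringKrullDim_quotient_eq B heq hcat ⟨Q, hQp⟩
    rw [← hheight]
    exact h
  have hpne : p.height ≠ ⊤ := Ideal.height_ne_top (Ideal.IsPrime.ne_top inferInstance)
  have cancel : ∀ Q₁ ∈ (Ideal.map (algebraMap A B) p).minimalPrimes,
      ∀ Q₂ ∈ (Ideal.map (algebraMap A B) p).minimalPrimes,
      ringKrullDim (B ⧸ Q₁) = ringKrullDim (B ⧸ Q₂) := by
    intro Q₁ h1 Q₂ h2
    have k1 := key Q₁ h1
    have k2 := key Q₂ h2
    have : Nontrivial (B ⧸ Q₁) := Ideal.Quotient.nontrivial_iff.mpr h1.1.1.ne_top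
    have : Nontrivial (B ⧸ Q₂) := Ideal.Quotient.nontrivial_iff.mpr h2.1.1.ne_top
    obtain ⟨a, ha⟩ := WithBot.ne_bot_iff_exists.mp
      (ne_of_gt (lt_of_lt_of_le (WithBot.bot_lt_coe (0 : ℕ∞))
        (ringKrullDim_nonneg_of_nontrivial (R := B ⧸ Q₁))))
    obtain ⟨b, hb⟩ := WithBot.ne_bot_iff_exists.mp
      (ne_of_gt (lt_of_lt_of_le (WithBot.bot_lt_coe (0 : ℕ∞))
        (ringKrullDim_nonneg_of_nontrivial (R := B ⧸ Q₂))))
    rw [← ha, ← hb]
    rw [← ha, ← WithBot.coe_add] at k1
    rw [← hb, ← k1, ← WithBot.coe_add] at k2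
    have h3 : p.height + b = p.height + a := WithBot.coe_injective k2
    rw [ENat.add_right_injective_of_ne_top hpne h3]
  intro P' hP'
  have hQ : P'.comap (Ideal.Quotient.mk (Ideal.map (algebraMap A B) p)) ∈
      (Ideal.map (algebraMap A B) p).minimalPrimes := by
    rw [Ideal.minimalPrimes_eq_comap]
    exact ⟨P', hP', rfl⟩
  have e : ((B ⧸ Ideal.map (algebraMap A B) p) ⧸ P') ≃+*
      B ⧸ P'.comap (Ideal.Quotient.mk (Ideal.map (algebraMap A B) p)) :=
    (Ideal.quotEquivOfEq
      (Ideal.map_comap_of_surjective _ Ideal.Quotient.mk_surjective P').symm).trans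
      (DoubleQuot.quotQuotEquivQuotOfLE hQ.1.2)
  rw [ringKrullDim_eq_of_ringEquiv e]
  obtain ⟨q, hq1, hq2⟩ := Groth.Agent.H24.exists_prime_ge_ringKrullDim_quotient_eq B
    (Ideal.map (algebraMap A B) p) hIne
  obtain ⟨Q₀, hQ₀min, hQ₀q⟩ := Ideal.exists_minimalPrimes_le hq1
  have h1 : ringKrullDim (B ⧸ Q₀) = ringKrullDim (B ⧸ Ideal.map (algebraMap A B) p) := by
    apply le_antisymm
    · exact ringKrullDim_le_of_surjective (Ideal.Quotient.factor hQ₀min.1.2)
        (Ideal.Quotient.factor_surjective _)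
    · rw [← hq2]
      exact ringKrullDim_le_of_surjective (Ideal.Quotient.factor hQ₀q)
        (Ideal.Quotient.factor_surjective _)
  rw [← h1]
  exact cancel _ hQ _ hQ₀min

end Groth.Agent.S9297
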