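import Groth.Statements.S10904
import Mathlib

set_option autoImplicit false
universe u
open Polynomial
open ProjDeg

namespace Groth.Agent.S10904

section Pieces

variable (k : Type u) [Field k] (n : ℕ)

instance finite_grade (m : ℕ) : Module.Finite k ↥(CohB1.polyGrading n k m) :=
  Module.Finite.iff_fg.mpr (MvPolynomial.homogeneousSubmodule_fg (Fin (n + 1)) k m)

/-- Degree pieces of `I + (f)` for `f` homogeneous of degree `d`, a nonzerodivisor modulo the
homogeneous ideal `I`: `dim (I+(f))_{d+m} + dim I_m = dim I_{d+m} + dim R_m`. -/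
theorem finrank_piece_sup_span (I : Ideal (MvPolynomial (Fin (n + 1)) k))
    (hI : I.IsHomogeneous (CohB1.polyGrading n k)) (f : MvPolynomial (Fin (n + 1)) k) (d : ℕ)
    (hf : f.IsHomogeneous d) (hf0 : f ≠ 0) (hreg : ∀ g, f * g ∈ I → g ∈ I) (m : ℕ) :
    Module.finrank k ↥(Submodule.restrictScalars k (I ⊔ Ideal.span {f}) ⊓
        CohB1.polyGrading n k (d + m)) +
      Module.finrank k ↥(Submodule.restrictScalars k I ⊓ CohB1.polyGrading n k m) =
    Module.finrank k ↥(Submodule.restrictScalars k I ⊓ CohB1.polyGrading n k (d + m)) +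
      Module.finrank k ↥(CohB1.polyGrading n k m) := by
  classical
  have hfmem : f ∈ CohB1.polyGrading n k d := hf
  obtain ⟨μ, hμ⟩ : ∃ μ : MvPolynomial (Fin (n + 1)) k →ₗ[k] MvPolynomial (Fin (n + 1)) k,
      ∀ g, μ g = f * g := ⟨LinearMap.mulLeft k f, fun g => rfl⟩
  have hμinj : Function.Injective μ := by
    intro a b h
    rw [hμ, hμ] at h
    exact mul_left_cancel₀ hf0 h
  obtain ⟨U, hU⟩ : ∃ U : Submodule k (MvPolynomial (Fin (n + 1)) k),
      U = Submodule.restrictScalars k I ⊓ CohB1.polyGrading n k (d + m) := ⟨_, rfl⟩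
  obtain ⟨M, hM⟩ : ∃ M : Submodule k (MvPolynomial (Fin (n + 1)) k),
      M = (CohB1.polyGrading n k m).map μ := ⟨_, rfl⟩
  have hmulmem : ∀ g ∈ CohB1.polyGrading n k m, f * g ∈ CohB1.polyGrading n k (d + m) := by
    intro g hg
    exact hf.mul hg
  have hW : Submodule.restrictScalars k (I ⊔ Ideal.span {f}) ⊓ CohB1.polyGrading n k (d + m) =
      U ⊔ M := by
    apply le_antisymm
    · rintro w ⟨hw1, hw2⟩
      have hw1' : w ∈ I ⊔ Ideal.span {f} := hw1
      obtain ⟨a, ha, c, hc, rfl⟩ := Submodule.mem_sup.mp hw1'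
      obtain ⟨b, rfl⟩ := Ideal.mem_span_singleton'.mp hc
      have hw2' : a + b * f ∈ CohB1.polyGrading n k (d + m) := hw2
      have hdec : a + b * f =
          (DirectSum.decompose (CohB1.polyGrading n k) a (d + m) :
            MvPolynomial (Fin (n + 1)) k) +
          μ (DirectSum.decompose (CohB1.polyGrading n k) b m : MvPolynomial (Fin (n + 1)) k) := by
        calc a + b * f = (DirectSum.decompose (CohB1.polyGrading n k) (a + b * f) (d + m) :
              MvPolynomial (Fin (n + 1)) k) :=
              (DirectSum.decompose_of_mem_same (CohB1.polyGrading n k) hw2').symm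
          _ = _ := by
              rw [DirectSum.decompose_add, DirectSum.add_apply, Submodule.coe_add, mul_comm b f,
                DirectSum.coe_decompose_mul_add_of_left_mem (CohB1.polyGrading n k) hfmem, hμ]
      rw [hdec, hU, hM]
      refine Submodule.add_mem_sup (Submodule.mem_inf.mpr ⟨?_, SetLike.coe_mem _⟩)
        (Submodule.mem_map_of_mem (SetLike.coe_mem _))
      exact hI (d + m) ha
    · rw [hU, hM]
      refine sup_le (inf_le_inf_right _ ?_) ?_
      · intro x hx
        exact Ideal.mem_sup_left hx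
      · rintro _ ⟨g, hg, rfl⟩
        rw [hμ]
        exact Submodule.mem_inf.mpr
          ⟨Ideal.mem_sup_right (Ideal.mul_mem_right g _ (Ideal.mem_span_singleton_self f)),
            hmulmem g hg⟩
  have hUM : U ⊓ M = (Submodule.restrictScalars k I ⊓ CohB1.polyGrading n k m).map μ := by
    rw [hU, hM]
    apply le_antisymm
    · rintro x ⟨⟨hx1, -⟩, ⟨g, hg, rfl⟩⟩
      rw [hμ] at hx1
      exact Submodule.mem_map_of_mem (Submodule.mem_inf.mpr ⟨hreg g hx1, hg⟩)
    · rintro _ ⟨g, ⟨hg1, hg2⟩, rfl⟩
      refine Submodule.mem_inf.mpr ⟨Submodule.mem_inf.mpr ⟨?_, ?_⟩, Submodule.mem_map_of_mem hg2⟩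
      · rw [hμ]; exact Ideal.mul_mem_left I f hg1
      · rw [hμ]; exact hmulmem g hg2
  haveI hfinU : Module.Finite k U := by
    rw [hU]; exact Submodule.finiteDimensional_of_le inf_le_right
  haveI hfinM : Module.Finite k M := by
    rw [hM]; infer_instance
  have key := Submodule.finrank_sup_add_finrank_inf_eq U M
  rw [← hW, hUM] at key
  have e1 : Module.finrank k
      ↥((Submodule.restrictScalars k I ⊓ CohB1.polyGrading n k m).map μ) =
      Module.finrank k ↥(Submodule.restrictScalars k I ⊓ CohB1.polyGrading n k m) :=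
    (LinearEquiv.finrank_eq (Submodule.equivMapOfInjective μ hμinj _)).symm
  have e2 : Module.finrank k ↥M = Module.finrank k ↥(CohB1.polyGrading n k m) := by
    rw [hM]
    exact (LinearEquiv.finrank_eq (Submodule.equivMapOfInjective μ hμinj _)).symm
  rw [e1, e2, hU] at key
  exact key

end Pieces

/-- The difference polynomial `P(X + d) - P(X)` has degree `deg P - 1` and leading coefficient
`deg P * lc P * d`. -/
theorem taylor_sub_self (P : ℚ[X]) (d : ℕ) (hd : 0 < d) (hP : 1 ≤ P.natDegree) :
    (taylor (d : ℚ) P - P).natDegree + 1 = P.natDegree ∧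
    (taylor (d : ℚ) P - P).leadingCoeff = (P.natDegree : ℚ) * P.leadingCoeff * d := by
  obtain ⟨N, hN⟩ : ∃ N, P.natDegree = N + 1 := ⟨P.natDegree - 1, by omega⟩
  obtain ⟨D, hD⟩ : ∃ D : ℚ[X], D = taylor (d : ℚ) P - P := ⟨_, rfl⟩
  rw [← hD]
  have hcoeffN : ∀ j, N + 1 ≤ j → D.coeff j = 0 := by
    intro j hj
    rw [hD, coeff_sub]
    rcases Nat.lt_or_ge (N + 1) j with h | h
    · have h1 : (taylor (d : ℚ) P).coeff j = 0 :=
        coeff_eq_zero_of_natDegree_lt (by rw [natDegree_taylor, hN]; exact h)
      have h2 : P.coeff j = 0 := coeff_eq_zero_of_natDegree_lt (by rw [hN]; exact h)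
      rw [h1, h2, sub_zero]
    · have hj' : j = N + 1 := le_antisymm h hj
      subst hj'
      rw [← hN, coeff_taylor_natDegree, coeff_natDegree, sub_self]
  have hle : D.natDegree ≤ N := by
    rw [natDegree_le_iff_coeff_eq_zero]
    intro j hj
    exact hcoeffN j hj
  have hcoeff : D.coeff N = ((N + 1 : ℕ) : ℚ) * P.leadingCoeff * d := by
    rw [hD, coeff_sub, taylor_coeff]
    have hdeg : (hasseDeriv N P).natDegree < 2 := by
      have := natDegree_hasseDeriv_le P N
      omega
    rw [eval_eq_sum_range' hdeg, Finset.sum_range_succ, Finset.sum_range_one, hasseDeriv_coeff,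
      hasseDeriv_coeff]
    simp only [zero_add, Nat.choose_self, Nat.cast_one, one_mul, pow_zero, mul_one, pow_one]
    have h1 : (1 + N).choose N = N + 1 := by rw [add_comm, Nat.choose_succ_self_right]
    have h2 : P.coeff (1 + N) = P.leadingCoeff := by rw [add_comm, ← hN]; rfl
    rw [h1, h2]
    push_cast
    ring
  have hne : D.coeff N ≠ 0 := by
    rw [hcoeff]
    have hP0 : P ≠ 0 := by
      rintro rfl
      simp at hP
    have ha : P.leadingCoeff ≠ 0 := leadingCoeff_ne_zero.mpr hP0
    exact mul_ne_zero (mul_ne_zero (by exact_mod_cast Nat.succ_ne_zero N) ha)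
      (by exact_mod_cast hd.ne')
  have hdeg : D.natDegree = N := le_antisymm hle (le_natDegree_of_ne_zero hne)
  refine ⟨by rw [hdeg, hN], ?_⟩
  rw [leadingCoeff, hdeg, hcoeff, hN]

/-- Let k be a field, R = k[X_0, …, X_n] graded by degree, I a homogeneous prime ideal of R, f a
homogeneous element of degree d ≥ 1 not in I, and I' = I + (f). Let P be the Hilbert polynomial of
R/I and Q that of R/I': rational polynomials whose value at every large integer m is the k-dimension
of the degree-m piece, i.e. dim R_m − dim (I ∩ R_m). Assume P has degree at least 1, i.e. the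
projective variety V(I) ⊆ P^n_k has dimension ≥ 1. Then Q has degree deg P − 1, and the degrees of
the projective schemes, (degree of the Hilbert polynomial)! times its leading coefficient, satisfy
deg V(I') = d · deg V(I). (The published statement has no dimension hypothesis; for V(I) a single
point the left side is 0 and the right side is d · deg V(I) ≠ 0, and the printed proof uses dim
V(I') = dim V(I) − 1.) -/
theorem result (k : Type u) [Field k] (n : ℕ)
    (I : Ideal (MvPolynomial (Fin (n + 1)) k)) (hIh : I.IsHomogeneous (CohB1.polyGrading n k)) [I.IsPrime]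
    (f : MvPolynomial (Fin (n + 1)) k) (d : ℕ) (hd : 0 < d) (hf : f.IsHomogeneous d) (hfI : f ∉ I)
    (P Q : ℚ[X])
    (hP : ∃ m₀ : ℕ, ∀ m : ℕ, m₀ ≤ m → P.eval (m : ℚ) =
      (Module.finrank k ↥(CohB1.polyGrading n k m) : ℚ) -
        Module.finrank k ↥(Submodule.restrictScalars k I ⊓ CohB1.polyGrading n k m))
    (hQ : ∃ m₀ : ℕ, ∀ m : ℕ, m₀ ≤ m → Q.eval (m : ℚ) =
      (Module.finrank k ↥(CohB1.polyGrading n k m) : ℚ) -
        Module.finrank k ↥(Submodule.restrictScalars k (I ⊔ Ideal.span {f}) ⊓ CohB1.polyGrading n k m))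
    (hdim : 1 ≤ P.natDegree) :
    Q.natDegree + 1 = P.natDegree ∧
      (Q.natDegree.factorial : ℚ) * Q.leadingCoeff =
        d * ((P.natDegree.factorial : ℚ) * P.leadingCoeff) := by
  classical
  have hf0 : f ≠ 0 := by
    rintro rfl
    exact hfI I.zero_mem
  have hreg : ∀ g, f * g ∈ I → g ∈ I := fun g hg =>
    ((‹I.IsPrime›).mem_or_mem hg).resolve_left hfI
  obtain ⟨m₁, hP⟩ := hP
  obtain ⟨m₂, hQ⟩ := hQ
  have hpoly : taylor (d : ℚ) Q = taylor (d : ℚ) P - P := by
    apply Polynomial.eq_of_infinite_eval_eq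
    apply Set.infinite_of_injective_forall_mem (f := fun j : ℕ => ((m₁ + m₂ + j : ℕ) : ℚ))
    · intro a b h
      have h'' : ((m₁ + m₂ + a : ℕ) : ℚ) = ((m₁ + m₂ + b : ℕ) : ℚ) := h
      have h' : m₁ + m₂ + a = m₁ + m₂ + b := Nat.cast_injective h''
      omega
    · intro j
      show eval ((m₁ + m₂ + j : ℕ) : ℚ) (taylor (d : ℚ) Q) =
        eval ((m₁ + m₂ + j : ℕ) : ℚ) (taylor (d : ℚ) P - P)
      obtain ⟨m, hm⟩ : ∃ m, m = m₁ + m₂ + j := ⟨_, rfl⟩
      rw [← hm, eval_sub, taylor_eval, taylor_eval]
      have e1 := hQ (d + m) (by omega)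
      have e2 := hP (d + m) (by omega)
      have e3 := hP m (by omega)
      have key := finrank_piece_sup_span k n I hIh f d hf hf0 hreg m
      have hcast : ((d + m : ℕ) : ℚ) = (m : ℚ) + (d : ℚ) := by push_cast; ring
      rw [hcast] at e1 e2
      rw [e1, e2, e3]
      have key' : (Module.finrank k ↥(Submodule.restrictScalars k (I ⊔ Ideal.span {f}) ⊓
            CohB1.polyGrading n k (d + m)) : ℚ) +
          (Module.finrank k ↥(Submodule.restrictScalars k I ⊓ CohB1.polyGrading n k m) : ℚ) =
          (Module.finrank k ↥(Submodule.restrictScalars k I ⊓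
            CohB1.polyGrading n k (d + m)) : ℚ) +
          (Module.finrank k ↥(CohB1.polyGrading n k m) : ℚ) := by
        exact_mod_cast key
      linarith
  obtain ⟨h1, h2⟩ := taylor_sub_self P d hd hdim
  rw [← hpoly, natDegree_taylor] at h1
  rw [← hpoly, leadingCoeff_taylor] at h2
  refine ⟨h1, ?_⟩
  rw [h2]
  have hfac : (P.natDegree.factorial : ℚ) = (P.natDegree : ℚ) * (Q.natDegree.factorial : ℚ) := by
    rw [← h1, Nat.factorial_succ]
    push_cast
    ring
  rw [hfac]
  ring

end Groth.Agent.S10904
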