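import Groth.Statements.S10915
import Mathlib

set_option autoImplicit false
universe u
open ProjDeg

namespace Groth.Agent.S10915

section General

/-- Cutting by an element that lies in no minimal prime of `J` other than (possibly) a maximal
ideal `M` drops the dimension of the quotient. -/
theorem ringKrullDim_quotient_sup_span_le {A : Type*} [CommRing A] (J M : Ideal A)
    [hM : M.IsMaximal] (h : A) (hh : ∀ 𝔭 ∈ J.minimalPrimes, h ∈ 𝔭 → 𝔭 = M) (d : ℕ)
    (hd : ringKrullDim (A ⧸ J) ≤ ((d + 1 : ℕ) : WithBot ℕ∞)) :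
    ringKrullDim (A ⧸ (J ⊔ Ideal.span {h})) ≤ (d : WithBot ℕ∞) := by
  rw [ringKrullDim_quotient] at hd ⊢
  rw [Order.krullDim, iSup_le_iff]
  intro l
  haveI := l.head.1.isPrime
  have hJ'le : J ⊔ Ideal.span {h} ≤ l.head.1.asIdeal :=
    (PrimeSpectrum.mem_zeroLocus _ _).mp l.head.2
  have hJle : J ≤ l.head.1.asIdeal := le_trans le_sup_left hJ'le
  obtain ⟨𝔭, h𝔭, h𝔭l⟩ := Ideal.exists_minimalPrimes_le hJle
  by_cases heq : 𝔭 = l.head.1.asIdeal
  · have hh𝔭 : h ∈ 𝔭 := by
      rw [heq]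
      exact hJ'le (Ideal.mem_sup_right (Ideal.subset_span rfl))
    have h𝔭M : 𝔭 = M := hh 𝔭 h𝔭 hh𝔭
    have hlen : l.length = 0 := by
      by_contra hne
      have hlt : l.head < l.last := l.strictMono (by
        rw [Fin.lt_def]
        simp only [Fin.val_zero, Fin.val_last]
        omega)
      have hlt' : l.head.1.asIdeal < l.last.1.asIdeal := hlt
      rw [← heq, h𝔭M] at hlt'
      exact hlt'.ne (hM.eq_of_le l.last.1.isPrime.ne_top hlt'.le)
    rw [hlen]
    exact_mod_cast Nat.zero_le d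
  · let p' : PrimeSpectrum.zeroLocus (J : Set A) := ⟨⟨𝔭, h𝔭.1.1⟩, h𝔭.1.2⟩
    let f : PrimeSpectrum.zeroLocus ((J ⊔ Ideal.span {h} : Ideal A) : Set A) →
        PrimeSpectrum.zeroLocus (J : Set A) :=
      fun q => ⟨q.1, fun x hx => q.2 (Ideal.mem_sup_left hx)⟩
    have hf : StrictMono f := fun a b hab => hab
    have hlt : p' < (l.map f hf).head :=
      lt_of_le_of_ne h𝔭l (fun hcon => heq (congrArg (fun q => q.1.asIdeal) hcon))
    have h2 : (((l.length + 1 : ℕ)) : WithBot ℕ∞) ≤ ((d + 1 : ℕ) : WithBot ℕ∞) := by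
      refine le_trans ?_ hd
      have h3 := Order.LTSeries.length_le_krullDim ((l.map f hf).cons p' hlt)
      simpa using h3
    have h4 : l.length + 1 ≤ d + 1 := by exact_mod_cast h2
    exact_mod_cast (by omega : l.length ≤ d)

end General

section Aux

open MvPolynomial

variable (k : Type u) [Field k] (n : ℕ)

/-- The irrelevant ideal `(X_0, …, X_n)`. -/
noncomputable abbrev irr : Ideal (MvPolynomial (Fin (n + 1)) k) :=
  Ideal.span (Set.range (MvPolynomial.X : Fin (n + 1) → MvPolynomial (Fin (n + 1)) k))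

theorem mem_irr_iff (p : MvPolynomial (Fin (n + 1)) k) :
    p ∈ irr k n ↔ MvPolynomial.coeff 0 p = 0 := by
  have h := MvPolynomial.mem_pow_idealOfVars_iff' (σ := Fin (n + 1)) (R := k) 1 p
  rw [pow_one] at h
  refine h.trans ⟨fun hx => hx 0 (by simp), fun h0 x hx => ?_⟩
  have hx0 : Finsupp.degree x = 0 := by omega
  rw [(Finsupp.degree_eq_zero_iff x).mp hx0]
  exact h0

theorem irr_eq_ker : irr k n =
    RingHom.ker (MvPolynomial.constantCoeff : MvPolynomial (Fin (n + 1)) k →+* k) := by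
  ext p
  rw [mem_irr_iff, RingHom.mem_ker]
  rfl

theorem irr_isMaximal : (irr k n).IsMaximal := by
  rw [irr_eq_ker]
  exact RingHom.ker_isMaximal_of_surjective _
    (fun c => ⟨MvPolynomial.C c, MvPolynomial.constantCoeff_C _ c⟩)

theorem le_irr_of_isHomogeneous {J : Ideal (MvPolynomial (Fin (n + 1)) k)}
    (hJ : J.IsHomogeneous (CohB1.polyGrading n k)) (hne : J ≠ ⊤) : J ≤ irr k n := by
  intro f hf
  rw [mem_irr_iff]
  by_contra h0
  apply hne
  have h1 : MvPolynomial.homogeneousComponent 0 f ∈ J :=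
    MvPolynomial.homogeneousComponent_mem_of_mem hJ hf 0
  rw [MvPolynomial.homogeneousComponent_zero] at h1
  exact Ideal.eq_top_of_isUnit_mem J h1 ((isUnit_iff_ne_zero.mpr h0).map MvPolynomial.C)

theorem exists_pow_irr_le_of_dim_le_zero {J : Ideal (MvPolynomial (Fin (n + 1)) k)}
    (hJ : J.IsHomogeneous (CohB1.polyGrading n k))
    (hdim : ringKrullDim (MvPolynomial (Fin (n + 1)) k ⧸ J) ≤ 0) :
    ∃ N : ℕ, irr k n ^ N ≤ J := by
  by_cases htop : J = ⊤
  · exact ⟨0, by rw [htop]; exact le_top⟩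
  have hKD : Ring.KrullDimLE 0 (MvPolynomial (Fin (n + 1)) k ⧸ J) :=
    Ring.krullDimLE_iff.mpr (by rw [Nat.cast_zero]; exact hdim)
  have hmax := Ideal.krullDimLE_zero_quotient_iff_forall_minimalPrimes_isMaximal.mp hKD
  have hle : irr k n ≤ J.radical := by
    rw [hJ.radical_eq]
    refine le_sInf ?_
    rintro 𝔭 ⟨h𝔭hom, hJ𝔭, h𝔭prime⟩
    haveI := h𝔭prime
    obtain ⟨𝔮, h𝔮, h𝔮𝔭⟩ := Ideal.exists_minimalPrimes_le hJ𝔭
    have h1 : 𝔮 = 𝔭 := (hmax 𝔮 h𝔮).eq_of_le h𝔭prime.ne_top h𝔮𝔭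
    have h2 : 𝔭.IsMaximal := h1 ▸ hmax 𝔮 h𝔮
    have h3 := le_irr_of_isHomogeneous k n h𝔭hom h𝔭prime.ne_top
    exact (h2.eq_of_le (irr_isMaximal k n).ne_top h3).ge
  exact Ideal.exists_pow_le_of_le_radical_of_fg hle (IsNoetherian.noetherian _)

theorem exists_linear_form_avoiding [IsAlgClosed k] (J : Ideal (MvPolynomial (Fin (n + 1)) k)) :
    ∃ h : MvPolynomial (Fin (n + 1)) k, h.IsHomogeneous 1 ∧
      ∀ 𝔭 ∈ J.minimalPrimes, h ∈ 𝔭 → 𝔭 = irr k n := by
  classical
  have hfin : (J.minimalPrimes).Finite := Ideal.finite_minimalPrimes_of_isNoetherianRing _ J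
  haveI : Finite ↥(J.minimalPrimes \ {irr k n}) := (hfin.subset Set.sdiff_subset).to_subtype
  let M : Submodule k (MvPolynomial (Fin (n + 1)) k) :=
    MvPolynomial.homogeneousSubmodule (Fin (n + 1)) k 1
  let p : ↥(J.minimalPrimes \ {irr k n}) → Submodule k M := fun 𝔭 =>
    Submodule.comap M.subtype ((𝔭 : Ideal (MvPolynomial (Fin (n + 1)) k)).restrictScalars k)
  have hp : ∀ 𝔭, p 𝔭 ≠ ⊤ := by
    intro 𝔭 htop
    apply 𝔭.2.2
    have h𝔭prime : (𝔭 : Ideal (MvPolynomial (Fin (n + 1)) k)).IsPrime := 𝔭.2.1.1.1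
    have hle : irr k n ≤ (𝔭 : Ideal (MvPolynomial (Fin (n + 1)) k)) := by
      rw [Ideal.span_le]
      rintro _ ⟨i, rfl⟩
      have hmem : (⟨MvPolynomial.X i, MvPolynomial.isHomogeneous_X k i⟩ : M) ∈ p 𝔭 := by
        rw [htop]; exact Submodule.mem_top
      exact hmem
    exact Set.mem_singleton_iff.mpr ((irr_isMaximal k n).eq_of_le h𝔭prime.ne_top hle).symm
  obtain ⟨x, hx⟩ := Submodule.exists_forall_notMem_of_forall_ne_top p hp
  refine ⟨x.1, x.2, fun 𝔭 h𝔭 hx𝔭 => ?_⟩
  by_contra hne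
  exact hx ⟨𝔭, h𝔭, hne⟩ hx𝔭

theorem exists_linearForms [IsAlgClosed k] (d : ℕ) :
    ∀ J : Ideal (MvPolynomial (Fin (n + 1)) k), J.IsHomogeneous (CohB1.polyGrading n k) →
      ringKrullDim (MvPolynomial (Fin (n + 1)) k ⧸ J) ≤ (d : WithBot ℕ∞) →
      ∃ h : Fin d → MvPolynomial (Fin (n + 1)) k, (∀ i, (h i).IsHomogeneous 1) ∧
        ∃ N : ℕ, irr k n ^ N ≤ J ⊔ Ideal.span (Set.range h) := by
  induction d with
  | zero =>
    intro J hJ hdim
    obtain ⟨N, hN⟩ := exists_pow_irr_le_of_dim_le_zero k n hJ (by simpa using hdim)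
    exact ⟨Fin.elim0, fun i => i.elim0, N, le_trans hN le_sup_left⟩
  | succ d ih =>
    intro J hJ hdim
    obtain ⟨h₀, hh₀, havoid⟩ := exists_linear_form_avoiding k n J
    haveI := irr_isMaximal k n
    have hdim' : ringKrullDim (MvPolynomial (Fin (n + 1)) k ⧸ (J ⊔ Ideal.span {h₀})) ≤
        (d : WithBot ℕ∞) :=
      ringKrullDim_quotient_sup_span_le J (irr k n) h₀ havoid d hdim
    have hJ' : (J ⊔ Ideal.span {h₀}).IsHomogeneous (CohB1.polyGrading n k) := by
      refine hJ.sup (Ideal.homogeneous_span _ _ ?_)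
      intro x hx
      rw [Set.mem_singleton_iff] at hx
      rw [hx]
      exact ⟨1, hh₀⟩
    obtain ⟨h', hh', N, hN⟩ := ih _ hJ' hdim'
    refine ⟨Fin.cons h₀ h', ?_, N, ?_⟩
    · intro i
      refine Fin.cases ?_ (fun j => ?_) i
      · rw [Fin.cons_zero]; exact hh₀
      · rw [Fin.cons_succ]; exact hh' j
    · rw [Fin.range_cons, Ideal.span_insert, ← sup_assoc]
      exact hN

end Aux

/-- Let k be an algebraically closed field, R = k[X_0, …, X_n] graded by degree, and I a homogeneous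
prime ideal with dim R/I = r + 1, so that X = V_+(I) ⊆ P^n_k is a projective variety of dimension r.
Then there are r + 1 linear forms h_1, …, h_{r+1} (homogeneous of degree 1) whose common zero set in
P^n_k does not meet X, i.e. the ideal I + (h_1, …, h_{r+1}) contains some power of the irrelevant
ideal (X_0, …, X_n). (The published statement says that a generic linear subspace of dimension n − r
− 1 misses X; this row asserts only that one such subspace, cut out by r + 1 linear forms, exists.) -/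
theorem result (k : Type u) [Field k] [IsAlgClosed k]
    (n r : ℕ) (I : Ideal (MvPolynomial (Fin (n + 1)) k)) (hIh : I.IsHomogeneous (CohB1.polyGrading n k)) [I.IsPrime]
    (hdim : ringKrullDim (MvPolynomial (Fin (n + 1)) k ⧸ I) = (r : WithBot ℕ∞) + 1) :
    ∃ h : Fin (r + 1) → MvPolynomial (Fin (n + 1)) k, (∀ i, (h i).IsHomogeneous 1) ∧
      ∃ N : ℕ, (Ideal.span (Set.range (MvPolynomial.X : Fin (n + 1) → MvPolynomial (Fin (n + 1)) k))) ^ N ≤
        I ⊔ Ideal.span (Set.range h) := by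
  have hle : ringKrullDim (MvPolynomial (Fin (n + 1)) k ⧸ I) ≤ ((r + 1 : ℕ) : WithBot ℕ∞) := by
    rw [hdim]
    push_cast
    exact le_rfl
  exact exists_linearForms k n (r + 1) I hIh hle

end Groth.Agent.S10915
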