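import Groth.Statements.S12915
import Mathlib

set_option autoImplicit false
universe u
open CAlgX

namespace Groth.Agent.S12915

theorem finrank_homog' (k : Type u) [Field k] (r d : ℕ) :
    Module.finrank k (MvPolynomial.homogeneousSubmodule (Fin (r + 1)) k d) = Nat.choose (d + r) r := by
  classical
  have b := MvPolynomial.basisRestrictSupport k {d' : Fin (r + 1) →₀ ℕ | d'.degree = d}
  have h1 : Module.finrank k (MvPolynomial.homogeneousSubmodule (Fin (r + 1)) k d)
      = Module.finrank k (MvPolynomial.restrictSupport k {d' : Fin (r + 1) →₀ ℕ | d'.degree = d}) := by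
    rw [MvPolynomial.homogeneousSubmodule_eq_finsupp_supported]
    rfl
  rw [h1, Module.finrank_eq_nat_card_basis b]
  have e : ↥{d' : Fin (r + 1) →₀ ℕ | d'.degree = d} ≃ Sym (Fin (r + 1)) d :=
    (Equiv.subtypeEquivRight (fun d' => by
      show d'.degree = d ↔ d'.sum (fun _ => id) = d
      rfl)).trans (Sym.equivNatSum (Fin (r + 1)) d).symm
  rw [Nat.card_congr e, Nat.card_eq_fintype_card, Sym.card_sym_eq_multichoose, Nat.multichoose_eq,
    Fintype.card_fin]
  have h2 : r + 1 + d - 1 = d + r := by omega
  rw [h2]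
  exact Nat.choose_symm_add

attribute [local instance] MvPolynomial.gradedAlgebra


/-- Let k be a field, S = k[x_0, …, x_r], and f a nonzero homogeneous polynomial of degree m. For every
t ≥ m the image in S/(f) of the homogeneous polynomials of degree t is a k-vector space of dimension
C(t + r, r) - C(t + r - m, r). (The published clause states that the hypersurface f = 0 in P^r has
degree m; its proof computes exactly this Hilbert function, whose polynomial has leading term m
t^(r-1)/(r-1)!, and that computation is what is stated here.) -/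
theorem result (k : Type u) [Field k] (r m : ℕ)
    (f : MvPolynomial (Fin (r + 1)) k) (hf : f.IsHomogeneous m) (hf0 : f ≠ 0) (t : ℕ) (ht : m ≤ t) :
    Module.finrank k
        (Submodule.map ((Ideal.Quotient.mkₐ k (Ideal.span {f})).toLinearMap)
          (MvPolynomial.homogeneousSubmodule (Fin (r + 1)) k t)) =
      Nat.choose (t + r) r - Nat.choose (t + r - m) r := by
  classical
  obtain ⟨St, hSt⟩ : ∃ S, S = MvPolynomial.homogeneousSubmodule (Fin (r + 1)) k t := ⟨_, rfl⟩
  obtain ⟨Sm, hSm⟩ : ∃ S, S = MvPolynomial.homogeneousSubmodule (Fin (r + 1)) k (t - m) := ⟨_, rfl⟩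
  rw [← hSt]
  obtain ⟨π, hπ⟩ : ∃ π : MvPolynomial (Fin (r + 1)) k →ₗ[k]
      (MvPolynomial (Fin (r + 1)) k ⧸ Ideal.span {f}),
      π = (Ideal.Quotient.mkₐ k (Ideal.span {f})).toLinearMap := ⟨_, rfl⟩
  rw [← hπ]
  have hπ0 : ∀ q : MvPolynomial (Fin (r + 1)) k, π q = 0 ↔ q ∈ Ideal.span {f} := by
    intro q
    rw [hπ]
    exact Ideal.Quotient.eq_zero_iff_mem
  have hmap : Submodule.map π St = LinearMap.range (π.comp St.subtype) := by
    rw [LinearMap.range_comp, Submodule.range_subtype]
  rw [hmap]
  haveI : Module.Finite k St := by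
    rw [hSt]
    exact Module.Finite.iff_fg.mpr (MvPolynomial.homogeneousSubmodule_fg (Fin (r + 1)) k t)
  have hrn := LinearMap.finrank_range_add_finrank_ker (π.comp St.subtype)
  have hfSt : Module.finrank k St = Nat.choose (t + r) r := by
    rw [hSt]; exact finrank_homog' k r t
  have hfSm : Module.finrank k Sm = Nat.choose (t + r - m) r := by
    rw [hSm, finrank_homog' k r (t - m)]
    have h3 : t - m + r = t + r - m := by omega
    rw [h3]
  have hmulmem : ∀ p : Sm, (LinearMap.mulLeft k f).comp Sm.subtype p ∈ St := by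
    intro p
    have hp : (p : MvPolynomial (Fin (r + 1)) k) ∈
        MvPolynomial.homogeneousSubmodule (Fin (r + 1)) k (t - m) := by
      rw [← hSm]
      exact p.2
    have h4 := hf.mul hp
    rw [Nat.add_sub_cancel' ht] at h4
    rw [hSt]
    exact h4
  obtain ⟨μ, hμ⟩ : ∃ μ : Sm →ₗ[k] St, ∀ p : Sm, ((μ p : St) : MvPolynomial (Fin (r + 1)) k) = f * p :=
    ⟨LinearMap.codRestrict St ((LinearMap.mulLeft k f).comp Sm.subtype) hmulmem, fun p => rfl⟩
  have hμinj : Function.Injective μ := by
    intro p p' h
    have h5 := congrArg (fun x : St => (x : MvPolynomial (Fin (r + 1)) k)) h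
    simp only [hμ] at h5
    exact Subtype.ext (mul_left_cancel₀ hf0 h5)
  have hker : LinearMap.ker (π.comp St.subtype) = LinearMap.range μ := by
    ext q
    rw [LinearMap.mem_ker, LinearMap.mem_range]
    constructor
    · intro hq
      have hq' : (q : MvPolynomial (Fin (r + 1)) k) ∈ Ideal.span {f} := (hπ0 _).mp hq
      obtain ⟨a, ha⟩ := Ideal.mem_span_singleton'.mp hq'
      have hfm : f ∈ MvPolynomial.homogeneousSubmodule (Fin (r + 1)) k m := hf
      have key := DirectSum.coe_decompose_mul_of_right_mem_of_le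
        (MvPolynomial.homogeneousSubmodule (Fin (r + 1)) k) (a := a) hfm ht
      have hqt : (q : MvPolynomial (Fin (r + 1)) k) ∈
          MvPolynomial.homogeneousSubmodule (Fin (r + 1)) k t := by
        rw [← hSt]
        exact q.2
      rw [ha, DirectSum.decompose_of_mem_same _ hqt] at key
      have hpm : ((DirectSum.decompose (MvPolynomial.homogeneousSubmodule (Fin (r + 1)) k) a (t - m) :
          MvPolynomial.homogeneousSubmodule (Fin (r + 1)) k (t - m)) :
          MvPolynomial (Fin (r + 1)) k) ∈ Sm := by
        rw [hSm]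
        exact SetLike.coe_mem _
      refine ⟨⟨_, hpm⟩, ?_⟩
      apply Subtype.ext
      rw [hμ, key, mul_comm]
    · rintro ⟨p, rfl⟩
      show π ((μ p : St) : MvPolynomial (Fin (r + 1)) k) = 0
      rw [hπ0, hμ]
      exact Ideal.mul_mem_right _ _ (Ideal.mem_span_singleton_self f)
  rw [hker, LinearMap.finrank_range_of_inj hμinj, hfSt, hfSm] at hrn
  omega

end Groth.Agent.S12915
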