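import Groth.Statements.S0547
import Groth.Agent.Lead.CompleteNoetherian
import Mathlib.RingTheory.AdicCompletion.AsTensorProduct
import Mathlib.RingTheory.Ideal.KrullsHeightTheorem
import Mathlib.RingTheory.Ideal.GoingDown
import Mathlib.RingTheory.AdicCompletion.LocalRing

set_option autoImplicit false
universe u
open CAlg

namespace Groth.Agent.S0547

/-- The completion of a Noetherian local ring at its maximal ideal has the same Krull dimension as the
ring. -/
theorem result (A : Type u) [CommRing A] [IsLocalRing A]
    [IsNoetherianRing A] :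
    ringKrullDim (AdicCompletion (IsLocalRing.maximalIdeal A) A) = ringKrullDim A := by
  haveI hN : IsNoetherianRing (AdicCompletion (IsLocalRing.maximalIdeal A) A) :=
    Groth.Agent.Lead.isNoetherianRing_adicCompletion (IsLocalRing.maximalIdeal A)
      (IsLocalRing.maximalIdeal A).fg_of_isNoetherianRing
  haveI : (IsLocalRing.maximalIdeal (AdicCompletion (IsLocalRing.maximalIdeal A) A)).LiesOver
      (IsLocalRing.maximalIdeal A) :=
    ⟨(IsLocalRing.maximalIdeal_comap
      (algebraMap A (AdicCompletion (IsLocalRing.maximalIdeal A) A))).symm⟩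
  have h := Ideal.height_eq_height_add_of_liesOver_of_hasGoingDown (IsLocalRing.maximalIdeal A)
    (IsLocalRing.maximalIdeal (AdicCompletion (IsLocalRing.maximalIdeal A) A))
  have hbot : ((IsLocalRing.maximalIdeal (AdicCompletion (IsLocalRing.maximalIdeal A) A)).map
      (Ideal.Quotient.mk ((IsLocalRing.maximalIdeal A).map
        (algebraMap A (AdicCompletion (IsLocalRing.maximalIdeal A) A))))) = ⊥ := by
    rw [← AdicCompletion.maximalIdeal_eq_map]
    exact Ideal.map_quotient_self _
  haveI : Nontrivial ((AdicCompletion (IsLocalRing.maximalIdeal A) A) ⧸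
      (IsLocalRing.maximalIdeal A).map
        (algebraMap A (AdicCompletion (IsLocalRing.maximalIdeal A) A))) := by
    rw [← AdicCompletion.maximalIdeal_eq_map]
    exact Ideal.Quotient.nontrivial_iff.mpr (IsLocalRing.maximalIdeal.isMaximal _).ne_top
  rw [hbot, Ideal.height_bot, add_zero] at h
  rw [← IsLocalRing.maximalIdeal_height_eq_ringKrullDim,
    ← IsLocalRing.maximalIdeal_height_eq_ringKrullDim (R := A), h]

end Groth.Agent.S0547
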