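import Groth.Statements.S2069
import Mathlib

set_option autoImplicit false
universe u
open CAlg

namespace Groth.Agent.S2069

open TensorProduct

section helpers

variable {R S N : Type u} [CommRing R] [CommRing S] [Algebra R S]
  [AddCommGroup N] [Module S N] [Module R N] [IsScalarTower R S N]

theorem mem_K_iff (p : Ideal R) (x : N) :
    x ∈ p.map (algebraMap R S) • (⊤ : Submodule S N) ↔ x ∈ p • (⊤ : Submodule R N) := by
  have h := Ideal.smul_restrictScalars (R := R) (S := S) (M := N) p (⊤ : Submodule S N)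
  rw [Submodule.restrictScalars_top] at h
  rw [← h, Submodule.restrictScalars_mem]

/-- `n ↦ n ⊗ 1`, as an `S`-linear map. -/
noncomputable def alpha (S : Type u) [CommRing S] [Algebra R S] [Module S N] [IsScalarTower R S N]
    (p : Ideal R) : N →ₗ[S] N ⊗[R] (R ⧸ p) where
  toFun n := n ⊗ₜ[R] (1 : R ⧸ p)
  map_add' a b := TensorProduct.add_tmul a b 1
  map_smul' s n := (TensorProduct.smul_tmul' s n (1 : R ⧸ p)).symm

theorem alpha_apply (p : Ideal R) (n : N) : alpha S p n = n ⊗ₜ[R] (1 : R ⧸ p) := rfl

theorem ker_alpha (p : Ideal R) :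
    LinearMap.ker (alpha S p : N →ₗ[S] N ⊗[R] (R ⧸ p)) =
      p.map (algebraMap R S) • (⊤ : Submodule S N) := by
  ext x
  rw [LinearMap.mem_ker, mem_K_iff, alpha_apply]
  have h1 : TensorProduct.tensorQuotEquivQuotSMul N p (x ⊗ₜ[R] (1 : R ⧸ p)) =
      Submodule.Quotient.mk x := by
    have : (1 : R ⧸ p) = Ideal.Quotient.mk p 1 := rfl
    rw [this, TensorProduct.tensorQuotEquivQuotSMul_tmul_mk, one_smul]
  rw [← (TensorProduct.tensorQuotEquivQuotSMul N p).map_eq_zero_iff, h1,
    Submodule.Quotient.mk_eq_zero]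

theorem alpha_surj (p : Ideal R) :
    Function.Surjective (alpha S p : N →ₗ[S] N ⊗[R] (R ⧸ p)) := by
  intro z
  induction z using TensorProduct.induction_on with
  | zero => exact ⟨0, map_zero _⟩
  | tmul n c =>
    obtain ⟨r, rfl⟩ := Ideal.Quotient.mk_surjective c
    refine ⟨r • n, ?_⟩
    rw [alpha_apply, TensorProduct.smul_tmul]
    congr 1
    rw [Algebra.smul_def, mul_one]
    rfl
  | add a b ha hb =>
    obtain ⟨a', rfl⟩ := ha
    obtain ⟨b', rfl⟩ := hb
    exact ⟨a' + b', map_add _ _ _⟩

/-- `N ⧸ pS·N ≃ N ⊗ R/p`, `S`-linearly. -/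
noncomputable def eK (S : Type u) [CommRing S] [Algebra R S] [Module S N] [IsScalarTower R S N]
    (p : Ideal R) :
    (N ⧸ p.map (algebraMap R S) • (⊤ : Submodule S N)) ≃ₗ[S] N ⊗[R] (R ⧸ p) :=
  (Submodule.quotEquivOfEq _ _ (ker_alpha (S := S) p).symm).trans
    ((alpha S p).quotKerEquivOfSurjective (alpha_surj (S := S) p))

theorem reg [Module.Flat R N] (p : Ideal R) [p.IsPrime] (r : R) (hr : r ∉ p) (y : N)
    (h : r • y ∈ p • (⊤ : Submodule R N)) : y ∈ p • (⊤ : Submodule R N) := by
  obtain ⟨μ, hμdef⟩ : ∃ μ : (R ⧸ p) →ₗ[R] (R ⧸ p), μ = r • LinearMap.id := ⟨_, rfl⟩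
  have hμ : Function.Injective μ := by
    rw [← LinearMap.ker_eq_bot, LinearMap.ker_eq_bot']
    intro c hc
    have h0 : (Ideal.Quotient.mk p r) * c = 0 := by
      rw [← hc, hμdef]
      show _ = r • c
      rw [Algebra.smul_def]
      rfl
    rcases mul_eq_zero.mp h0 with h1 | h1
    · exact absurd (Ideal.Quotient.eq_zero_iff_mem.mp h1) hr
    · exact h1
  have hinj : Function.Injective (LinearMap.lTensor N μ) :=
    Module.Flat.lTensor_preserves_injective_linearMap μ hμ
  have hmul : ∀ x : N ⊗[R] (R ⧸ p), LinearMap.lTensor N μ x = r • x := by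
    intro x
    induction x using TensorProduct.induction_on with
    | zero => rw [map_zero, smul_zero]
    | tmul n c =>
      rw [LinearMap.lTensor_tmul, hμdef]
      show n ⊗ₜ[R] (r • c) = r • (n ⊗ₜ[R] c)
      rw [TensorProduct.tmul_smul]
    | add a b ha hb => rw [map_add, ha, hb, smul_add]
  have h1 : TensorProduct.tensorQuotEquivQuotSMul N p (y ⊗ₜ[R] (Ideal.Quotient.mk p 1)) =
      Submodule.Quotient.mk y := by
    rw [TensorProduct.tensorQuotEquivQuotSMul_tmul_mk, one_smul]
  have h2 : r • (y ⊗ₜ[R] (Ideal.Quotient.mk p 1) : N ⊗[R] (R ⧸ p)) = 0 := by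
    apply (TensorProduct.tensorQuotEquivQuotSMul N p).injective
    rw [map_smul, h1, map_zero, ← Submodule.Quotient.mk_smul, Submodule.Quotient.mk_eq_zero]
    exact h
  rw [← hmul] at h2
  have h3 := hinj (h2.trans (map_zero _).symm)
  rw [← Submodule.Quotient.mk_eq_zero, ← h1, h3, map_zero]

theorem comap_eq_of_mem_ass [Module.Flat R N] (p : Ideal R) [p.IsPrime] (Q : Ideal S)
    (hQ : Q ∈ associatedPrimes S (N ⧸ p.map (algebraMap R S) • (⊤ : Submodule S N))) :
    Q.comap (algebraMap R S) = p := by
  obtain ⟨hQp, ybar, hy⟩ := hQ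
  obtain ⟨y, rfl⟩ := Submodule.Quotient.mk_surjective _ ybar
  apply le_antisymm
  · intro r hr
    by_contra hrp
    rw [Ideal.mem_comap, hy] at hr
    obtain ⟨n, hn⟩ := hr
    rw [Submodule.mem_colon_singleton, Submodule.mem_bot] at hn
    have h4 : (r ^ n) • y ∈ p • (⊤ : Submodule R N) := by
      rw [← mem_K_iff (S := S), ← Submodule.Quotient.mk_eq_zero, ← hn, ← map_pow,
        ← Submodule.Quotient.mk_smul, algebraMap_smul]
    have h5 : r ^ n ∉ p := fun h => hrp (Ideal.IsPrime.mem_of_pow_mem ‹_› n h)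
    have h6 := reg p (r ^ n) h5 y h4
    have h7 : (Submodule.Quotient.mk y :
        N ⧸ (p.map (algebraMap R S) • (⊤ : Submodule S N))) = 0 := by
      rw [Submodule.Quotient.mk_eq_zero, mem_K_iff]
      exact h6
    apply hQp.ne_top
    rw [hy, h7, Ideal.radical_eq_top, Ideal.eq_top_iff_one, Submodule.mem_colon_singleton,
      smul_zero]
    exact Submodule.zero_mem _
  · intro r hr
    rw [Ideal.mem_comap, hy]
    apply Ideal.le_radical
    rw [Submodule.mem_colon_singleton, ← Submodule.Quotient.mk_smul, Submodule.mem_bot,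
      Submodule.Quotient.mk_eq_zero]
    exact Submodule.smul_mem_smul (Ideal.mem_map_of_mem _ hr) Submodule.mem_top

theorem mem_range_lTensor_ker {M : Type u} [AddCommGroup M] [Module R M] [Module.Flat R N]
    {k : ℕ} (g : M →ₗ[R] (Fin k → M)) (b : Fin k → R) (hg : ∀ m i, g m i = b i • m)
    (z : N ⊗[R] M) (hz : ∀ i, b i • z = 0) :
    z ∈ LinearMap.range (LinearMap.lTensor N (LinearMap.ker g).subtype) := by
  have hex : Function.Exact (LinearMap.ker g).subtype g := LinearMap.exact_subtype_ker_map g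
  have hex' := Module.Flat.lTensor_exact N hex
  have key : ∀ x : N ⊗[R] M,
      TensorProduct.piRight R R N (fun _ : Fin k => M) (LinearMap.lTensor N g x) =
        fun i => b i • x := by
    intro x
    induction x using TensorProduct.induction_on with
    | zero =>
      rw [map_zero, map_zero]
      funext i
      rw [smul_zero]
      rfl
    | tmul n m =>
      rw [LinearMap.lTensor_tmul, TensorProduct.piRight_apply, TensorProduct.piRightHom_tmul]
      funext i
      rw [hg, TensorProduct.tmul_smul]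
    | add a c ha hc =>
      rw [map_add, map_add, ha, hc]
      funext i
      rw [smul_add]
      rfl
  have h0 : LinearMap.lTensor N g z = 0 := by
    apply (TensorProduct.piRight R R N (fun _ : Fin k => M)).injective
    rw [key, map_zero]
    funext i
    exact hz i
  obtain ⟨w, hw⟩ := (hex' z).mp h0
  exact ⟨w, hw⟩

theorem devissage [IsNoetherianRing R] [Module.Flat R N] (P : Type u) [AddCommGroup P]
    [Module R P] [Module.Finite R P] :
    ∀ Q ∈ associatedPrimes S (N ⊗[R] P), ∃ p : Ideal R, p.IsPrime ∧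
      (∃ m : P, ∀ r : R, r • m = 0 → r ∈ p) ∧
      Q ∈ associatedPrimes S (N ⧸ p.map (algebraMap R S) • (⊤ : Submodule S N)) := by
  induction ‹Module.Finite R P› using
    IsNoetherianRing.induction_on_isQuotientEquivQuotientPrime R with
  | subsingleton P =>
    intro Q hQ
    have hsub : Subsingleton (N ⊗[R] P) := by
      constructor
      intro a c
      have hz : ∀ x : N ⊗[R] P, x = 0 := by
        intro x
        induction x using TensorProduct.induction_on with
        | zero => rfl
        | tmul n m => rw [Subsingleton.elim m 0, TensorProduct.tmul_zero]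
        | add a c ha hc => rw [ha, hc, add_zero]
      rw [hz a, hz c]
    rw [associatedPrimes.eq_empty_of_subsingleton] at hQ
    exact absurd hQ (Set.notMem_empty _)
  | quotient P p f =>
    intro Q hQ
    refine ⟨p.1, p.2, ⟨f.symm 1, ?_⟩, ?_⟩
    · intro r hr
      have h1 : f.symm (r • (1 : R ⧸ p.1)) = 0 := by rw [map_smul]; exact hr
      rw [LinearEquiv.map_eq_zero_iff, Algebra.smul_def, mul_one] at h1
      exact Ideal.Quotient.eq_zero_iff_mem.mp h1
    · have E : (N ⧸ p.1.map (algebraMap R S) • (⊤ : Submodule S N)) ≃ₗ[S] N ⊗[R] P :=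
        (eK S p.1).trans (TensorProduct.AlgebraTensorModule.congr (LinearEquiv.refl S N) f.symm)
      rw [LinearEquiv.AssociatedPrimes.eq E]
      exact hQ
  | exact P₁ P₂ P₃ f g hf hg hfg h₁ h₃ =>
    intro Q hQ
    have hinj : Function.Injective (TensorProduct.AlgebraTensorModule.lTensor S N f) := by
      rw [TensorProduct.AlgebraTensorModule.coe_lTensor]
      exact Module.Flat.lTensor_preserves_injective_linearMap f hf
    have hex : Function.Exact (TensorProduct.AlgebraTensorModule.lTensor S N f)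
        (TensorProduct.AlgebraTensorModule.lTensor S N g) := by
      have := Module.Flat.lTensor_exact N hfg
      intro y
      exact this y
    rcases associatedPrimes.subset_union_of_exact hinj hex hQ with h | h
    · obtain ⟨p, hp, ⟨m, hm⟩, hQ'⟩ := h₁ Q h
      refine ⟨p, hp, ⟨f m, ?_⟩, hQ'⟩
      intro r hr
      apply hm
      apply hf
      rw [map_smul, hr, map_zero]
    · obtain ⟨p, hp, ⟨m, hm⟩, hQ'⟩ := h₃ Q h
      obtain ⟨m₂, rfl⟩ := hg m
      refine ⟨p, hp, ⟨m₂, ?_⟩, hQ'⟩
      intro r hr
      apply hm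
      rw [← map_smul, hr, map_zero]

theorem subset_dir [IsNoetherianRing R] [Module.Flat R N] {M : Type u} [AddCommGroup M]
    [Module R M] (Q : Ideal S) (hQ : Q ∈ associatedPrimes S (N ⊗[R] M)) :
    ∃ p ∈ associatedPrimes R M,
      Q ∈ associatedPrimes S (N ⧸ p.map (algebraMap R S) • (⊤ : Submodule S N)) := by
  obtain ⟨hQp, z, hz⟩ := hQ
  -- generators of the contraction
  obtain ⟨k, a, ha⟩ := (Submodule.fg_iff_exists_fin_generating_family).mp
    (IsNoetherian.noetherian (Q.comap (algebraMap R S)))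
  have hmemq : ∀ i, a i ∈ Q.comap (algebraMap R S) := by
    intro i
    rw [← ha]
    exact Submodule.subset_span ⟨i, rfl⟩
  have hexp : ∀ i, ∃ e : ℕ, (a i ^ e) • z = 0 := by
    intro i
    have h1 := hmemq i
    rw [Ideal.mem_comap, hz] at h1
    obtain ⟨e, he⟩ := h1
    rw [Submodule.mem_colon_singleton, Submodule.mem_bot, ← map_pow, algebraMap_smul] at he
    exact ⟨e, he⟩
  choose e he using hexp
  obtain ⟨g, hgdef⟩ : ∃ g : M →ₗ[R] (Fin k → M),
      g = LinearMap.pi (fun i : Fin k => (a i ^ e i) • (LinearMap.id : M →ₗ[R] M)) := ⟨_, rfl⟩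
  have hg : ∀ m i, g m i = (a i ^ e i) • m := by
    intro m i
    rw [hgdef]
    rfl
  obtain ⟨w, hw⟩ := mem_range_lTensor_ker g (fun i => a i ^ e i) hg z he
  obtain ⟨T, hT⟩ := TensorProduct.exists_finset w
  obtain ⟨A, hA⟩ : ∃ A : Set M,
      A = (fun t : N × LinearMap.ker g => ((t.2 : LinearMap.ker g) : M)) '' (T : Set _) :=
    ⟨_, rfl⟩
  have hAfin : A.Finite := by
    rw [hA]
    exact T.finite_toSet.image _
  obtain ⟨P', hP'⟩ : ∃ P' : Submodule R M, P' = Submodule.span R A := ⟨_, rfl⟩
  have hfinP : Module.Finite R P' := by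
    rw [hP']
    exact Module.Finite.span_of_finite R hAfin
  have hP'ker : P' ≤ LinearMap.ker g := by
    rw [hP', Submodule.span_le, hA]
    rintro _ ⟨t, _, rfl⟩
    exact t.2.2
  have hmemP' : ∀ t ∈ T, ((t.2 : LinearMap.ker g) : M) ∈ P' := by
    intro t ht
    rw [hP']
    apply Submodule.subset_span
    rw [hA]
    exact ⟨t, Finset.mem_coe.mpr ht, rfl⟩
  obtain ⟨z', hz'def⟩ : ∃ z' : N ⊗[R] P', z' =
      ∑ t ∈ T.attach, (t.1.1 ⊗ₜ[R] (⟨((t.1.2 : LinearMap.ker g) : M), hmemP' t.1 t.2⟩ : P')) :=
    ⟨_, rfl⟩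
  have hz'z : LinearMap.lTensor N P'.subtype z' = z := by
    rw [hz'def, map_sum, ← hw, hT, map_sum]
    rw [← Finset.sum_attach T]
    apply Finset.sum_congr rfl
    intro t _
    rw [LinearMap.lTensor_tmul, LinearMap.lTensor_tmul]
    rfl
  have hinj : Function.Injective (TensorProduct.AlgebraTensorModule.lTensor S N P'.subtype) := by
    rw [TensorProduct.AlgebraTensorModule.coe_lTensor]
    exact Module.Flat.lTensor_preserves_injective_linearMap _ P'.injective_subtype
  have hz'z' : TensorProduct.AlgebraTensorModule.lTensor S N P'.subtype z' = z := hz'z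
  have hQ' : Q ∈ associatedPrimes S (N ⊗[R] P') := by
    refine ⟨hQp, z', ?_⟩
    rw [hz]
    congr 1
    ext s
    rw [Submodule.mem_colon_singleton, Submodule.mem_colon_singleton, Submodule.mem_bot,
      Submodule.mem_bot, ← hz'z', ← map_smul]
    constructor
    · intro h
      exact hinj (h.trans (map_zero _).symm)
    · intro h
      rw [h, map_zero]
  obtain ⟨p, hp, ⟨m, hm⟩, hQK⟩ := devissage (S := S) (N := N) P' Q hQ'
  have := hp
  have hcomap := comap_eq_of_mem_ass p Q hQK
  refine ⟨p, ⟨hp, (m : M), ?_⟩, hQK⟩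
  apply le_antisymm
  · rw [← hcomap, ← ha, Submodule.span_le]
    rintro _ ⟨i, rfl⟩
    refine ⟨e i, ?_⟩
    rw [Submodule.mem_colon_singleton, Submodule.mem_bot, ← hg]
    have := hP'ker m.2
    rw [LinearMap.mem_ker] at this
    rw [this]
    rfl
  · rw [Ideal.IsPrime.radical_le_iff hp]
    intro r hr
    rw [Submodule.mem_colon_singleton, Submodule.mem_bot] at hr
    apply hm
    apply Subtype.ext
    rw [Submodule.coe_smul, hr]
    rfl

theorem supset_dir [IsNoetherianRing R] [Module.Flat R N] {M : Type u} [AddCommGroup M]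
    [Module R M] (p : Ideal R) (hp : p ∈ associatedPrimes R M) :
    associatedPrimes S (N ⧸ p.map (algebraMap R S) • (⊤ : Submodule S N)) ⊆
      associatedPrimes S (N ⊗[R] M) := by
  obtain ⟨hpp, j, hj⟩ := (isAssociatedPrime_iff_exists_injective_linearMap p M).mp hp
  have hinj : Function.Injective (TensorProduct.AlgebraTensorModule.lTensor S N j) := by
    rw [TensorProduct.AlgebraTensorModule.coe_lTensor]
    exact Module.Flat.lTensor_preserves_injective_linearMap j hj
  have hF : Function.Injective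
      ((TensorProduct.AlgebraTensorModule.lTensor S N j).comp (eK S p).toLinearMap) := by
    rw [LinearMap.coe_comp]
    exact hinj.comp (eK S p).injective
  exact associatedPrimes.subset_of_injective hF

end helpers

open TensorProduct in
/-- Let `R → S` be a ring map, `M` an `R`-module and `N` an `S`-module flat over `R`. Then a prime of
`S` is associated to `N ⊗_R M` if and only if it is associated to `N/𝔭N` for some prime `𝔭` of `R`
associated to `M`. -/
theorem result {R S M N : Type u} [CommRing R] [IsNoetherianRing R] [CommRing S]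
    [Algebra R S] [AddCommGroup M] [Module R M] [AddCommGroup N] [Module S N] [Module R N]
    [IsScalarTower R S N] [Module.Flat R N] :
    associatedPrimes S (N ⊗[R] M) =
      ⋃ p ∈ associatedPrimes R M, associatedPrimes S (N ⧸ p.map (algebraMap R S) • (⊤ : Submodule S N)) := by
  ext Q
  simp only [Set.mem_iUnion, exists_prop]
  constructor
  · intro hQ
    exact subset_dir Q hQ
  · rintro ⟨p, hp, hQ⟩
    exact supset_dir p hp hQ

end Groth.Agent.S2069
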