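import Groth.Statements.S9439
import Mathlib
import Groth.Agent.Lead.CompleteNoetherian
import Groth.Agent.H23.RegularLocal

set_option autoImplicit false
universe u
open CAlg

namespace Groth.Agent.S9439

section Aux

/-- A noetherian local ring of dimension at least one with principal maximal ideal is a DVR. -/
theorem dvr_of_principal (T : Type u) [CommRing T] [IsLocalRing T] [IsNoetherianRing T] (a : T)
    (ha : IsLocalRing.maximalIdeal T = Ideal.span {a}) (hd : (1 : WithBot ℕ∞) ≤ ringKrullDim T) :
    ∃ _ : IsDomain T, IsDiscreteValuationRing T := by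
  have h1 : (IsLocalRing.maximalIdeal T).spanFinrank ≤ 1 := by
    rw [ha]
    have : (Submodule.span T {a}).spanFinrank ≤ 1 := by
      simpa using Submodule.spanFinrank_span_le_ncard_of_finite (R := T) (Set.finite_singleton a)
    exact this
  have h1' : ((IsLocalRing.maximalIdeal T).spanFinrank : WithBot ℕ∞) ≤ 1 := by exact_mod_cast h1
  have hreg : IsRegularLocalRing T :=
    IsRegularLocalRing.of_spanFinrank_maximalIdeal_le T (le_trans h1' hd)
  have hdom : IsDomain T := @Groth.Agent.H23.isDomain_of_isRegularLocalRing T _ hreg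
  refine ⟨hdom, ?_⟩
  have hdim : ringKrullDim T = 1 := by
    apply le_antisymm _ hd
    rw [← (isRegularLocalRing_iff T).mp hreg]
    exact h1'
  rw [← IsLocalRing.finrank_CotangentSpace_eq_one_iff]
  have h2 := (IsRegularLocalRing.iff_finrank_cotangentSpace T).mp hreg
  rw [hdim] at h2
  exact_mod_cast h2

theorem core (R S : Type u) [CommRing R] [CommRing S] [Algebra R S] [IsNoetherianRing R]
    [IsNoetherianRing S] [Module.Flat R S]
    (p : Ideal R) [p.IsPrime] [IsDomain (Localization.AtPrime p)]
    [IsDiscreteValuationRing (Localization.AtPrime p)]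
    (hp : IsReduced (S ⧸ p.map (algebraMap R S)))
    (q : Ideal S) [q.IsPrime] (hq : q ∈ associatedPrimes S (S ⧸ p.map (algebraMap R S))) :
    ∃ _ : IsDomain (Localization.AtPrime q), IsDiscreteValuationRing (Localization.AtPrime q) := by
  classical
  obtain ⟨_, xbar, hxbar⟩ := (isAssociatedPrime_iff.mp hq)
  obtain ⟨x, rfl⟩ := Ideal.Quotient.mk_surjective xbar
  have hmem : ∀ y : S, y ∈ q ↔ y * x ∈ p.map (algebraMap R S) := by
    intro y
    rw [hxbar, Submodule.mem_colon_singleton, Submodule.mem_bot]
    have e : y • (Ideal.Quotient.mk (p.map (algebraMap R S)) x) =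
        Ideal.Quotient.mk (p.map (algebraMap R S)) (y * x) := rfl
    rw [e, Ideal.Quotient.eq_zero_iff_mem]
  have hxJ : x ∉ p.map (algebraMap R S) := by
    intro h
    have : (1 : S) ∈ q := by rw [hmem, one_mul]; exact h
    exact (Ideal.IsPrime.ne_top ‹q.IsPrime›) ((Ideal.eq_top_iff_one _).mpr this)
  have hxq : x ∉ q := by
    intro h
    rw [hmem] at h
    apply hxJ
    rw [← Ideal.Quotient.eq_zero_iff_mem] at h ⊢
    rw [map_mul] at h
    exact hp.eq_zero _ ⟨2, by rw [pow_two]; exact h⟩
  have hreg : ∀ t : R, t ∉ p → ∀ z : S, algebraMap R S t * z ∈ p.map (algebraMap R S) →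
      z ∈ p.map (algebraMap R S) := by
    intro t ht z hz
    have h1 : IsSMulRegular (R ⧸ p) t := by
      intro u v huv
      obtain ⟨u, rfl⟩ := Ideal.Quotient.mk_surjective u
      obtain ⟨v, rfl⟩ := Ideal.Quotient.mk_surjective v
      have h2 : t • Ideal.Quotient.mk p u = Ideal.Quotient.mk p (t * u) := rfl
      have h3 : t • Ideal.Quotient.mk p v = Ideal.Quotient.mk p (t * v) := rfl
      have huv' : t • Ideal.Quotient.mk p u = t • Ideal.Quotient.mk p v := huv
      have h4 : Ideal.Quotient.mk p (t * (u - v)) = 0 := by
        rw [mul_sub, map_sub, ← h2, ← h3]; exact sub_eq_zero.mpr huv'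
      rw [Ideal.Quotient.eq_zero_iff_mem] at h4
      have h5 := (Ideal.IsPrime.mem_or_mem ‹p.IsPrime› h4).resolve_left ht
      rw [← sub_eq_zero, ← map_sub, Ideal.Quotient.eq_zero_iff_mem]; exact h5
    have h2 : IsSMulRegular (TensorProduct R S (R ⧸ p)) t := IsSMulRegular.lTensor S h1
    have h3 : IsSMulRegular (S ⧸ (p • ⊤ : Submodule R S)) t :=
      h2.of_injective (TensorProduct.tensorQuotEquivQuotSMul S p).symm.toLinearMap
        (LinearEquiv.injective _)
    have h4 : (Submodule.Quotient.mk z : S ⧸ (p • ⊤ : Submodule R S)) = 0 := by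
      apply h3
      show t • Submodule.Quotient.mk z = t • (0 : S ⧸ (p • ⊤ : Submodule R S))
      rw [smul_zero, ← Submodule.Quotient.mk_smul, Submodule.Quotient.mk_eq_zero,
        Ideal.smul_top_eq_map]
      show t • z ∈ p.map (algebraMap R S)
      rw [Algebra.smul_def]; exact hz
    rw [Submodule.Quotient.mk_eq_zero, Ideal.smul_top_eq_map] at h4
    exact h4
  have hqp : ∀ t : R, algebraMap R S t ∈ q ↔ t ∈ p := by
    intro t
    constructor
    · intro ht
      by_contra hnp
      rw [hmem] at ht
      exact hxJ (hreg t hnp x ht)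
    · intro ht
      rw [hmem]
      exact Ideal.mul_mem_right _ _ (Ideal.mem_map_of_mem _ ht)
  haveI : q.LiesOver p :=
    ⟨Ideal.ext fun t => by rw [Ideal.under_def, Ideal.mem_comap]; exact (hqp t).symm⟩
  have hht : (1 : WithBot ℕ∞) ≤ ringKrullDim (Localization.AtPrime q) := by
    rw [IsLocalization.AtPrime.ringKrullDim_eq_height q (Localization.AtPrime q)]
    have h1 : ringKrullDim (Localization.AtPrime p) = 1 :=
      IsPrincipalIdealRing.ringKrullDim_eq_one _ (IsDiscreteValuationRing.not_isField _)
    rw [IsLocalization.AtPrime.ringKrullDim_eq_height p (Localization.AtPrime p)] at h1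
    have h2 := Ideal.height_eq_height_add_of_liesOver_of_hasGoingDown p q
    have h3 : p.height ≤ q.height := by rw [h2]; exact le_self_add
    have h5 : p.height = 1 := by exact_mod_cast h1
    have h4 : (1 : ℕ∞) ≤ q.height := by rw [← h5]; exact h3
    exact_mod_cast h4
  have hgen : Ideal.span {Submodule.IsPrincipal.generator
      (IsLocalRing.maximalIdeal (Localization.AtPrime p))} =
      IsLocalRing.maximalIdeal (Localization.AtPrime p) :=
    Ideal.span_singleton_generator _
  obtain ⟨a, s, hpi⟩ := IsLocalization.exists_mk'_eq p.primeCompl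
    (Submodule.IsPrincipal.generator (IsLocalRing.maximalIdeal (Localization.AtPrime p)))
  have hkey : ∀ b ∈ p, ∃ t : R, t ∉ p ∧ ∃ c : R, t * b = a * c := by
    intro b hb
    have hb' : algebraMap R (Localization.AtPrime p) b ∈
        IsLocalRing.maximalIdeal (Localization.AtPrime p) :=
      (IsLocalization.AtPrime.to_map_mem_maximal_iff _ p b).mpr hb
    rw [← hgen, Ideal.mem_span_singleton'] at hb'
    obtain ⟨z, hz⟩ := hb'
    obtain ⟨c', s', rfl⟩ := IsLocalization.exists_mk'_eq p.primeCompl z
    rw [← hpi, ← IsLocalization.mk'_mul, IsLocalization.mk'_eq_iff_eq_mul, ← map_mul,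
      IsLocalization.eq_iff_exists p.primeCompl] at hz
    obtain ⟨u, hu⟩ := hz
    refine ⟨u * (s' * s : p.primeCompl), (u * (s' * s)).2, u * c', ?_⟩
    simp only [Submonoid.coe_mul] at hu ⊢
    linear_combination -hu
  have ha_p : a ∈ p := by
    have : algebraMap R (Localization.AtPrime p) a ∈
        IsLocalRing.maximalIdeal (Localization.AtPrime p) := by
      rw [← IsLocalization.mk'_spec (Localization.AtPrime p) a s, hpi]
      exact Ideal.mul_mem_right _ _ (Submodule.IsPrincipal.generator_mem _)
    exact (IsLocalization.AtPrime.to_map_mem_maximal_iff _ p a).mp this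
  have hmax : IsLocalRing.maximalIdeal (Localization.AtPrime q) =
      Ideal.span {algebraMap S (Localization.AtPrime q) (algebraMap R S a)} := by
    apply le_antisymm
    · rw [← IsLocalization.AtPrime.map_eq_maximalIdeal q (Localization.AtPrime q),
        Ideal.map_le_iff_le_comap]
      intro y hy
      rw [Ideal.mem_comap]
      have hyx := (hmem y).mp hy
      have hJle : p.map (algebraMap R S) ≤
          (Ideal.span {algebraMap S (Localization.AtPrime q) (algebraMap R S a)}).comap
            (algebraMap S (Localization.AtPrime q)) := by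
        rw [Ideal.map_le_iff_le_comap]
        intro b hb
        obtain ⟨t, ht, c, htc⟩ := hkey b hb
        rw [Ideal.mem_comap, Ideal.mem_comap]
        have hunit : IsUnit (algebraMap S (Localization.AtPrime q) (algebraMap R S t)) :=
          IsLocalization.map_units _
            (⟨algebraMap R S t, fun h => ht ((hqp t).mp h)⟩ : q.primeCompl)
        rw [← Ideal.unit_mul_mem_iff_mem _ hunit, ← map_mul, ← map_mul, htc, map_mul, map_mul]
        exact Ideal.mul_mem_right _ _ (Ideal.subset_span rfl)
      have h1 := hJle hyx
      rw [Ideal.mem_comap, map_mul] at h1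
      have hunit : IsUnit (algebraMap S (Localization.AtPrime q) x) :=
        IsLocalization.map_units _ (⟨x, hxq⟩ : q.primeCompl)
      exact (Ideal.mul_unit_mem_iff_mem _ hunit).mp h1
    · rw [Ideal.span_le, Set.singleton_subset_iff, SetLike.mem_coe,
        IsLocalization.AtPrime.to_map_mem_maximal_iff _ q]
      exact (hqp a).mpr ha_p
  haveI : IsNoetherianRing (Localization.AtPrime q) :=
    IsLocalization.isNoetherianRing q.primeCompl _ inferInstance
  exact dvr_of_principal _ _ hmax hht

end Aux

/-- Let R be a Noetherian local ring, R^ its completion and p a prime with R_p a discrete valuation ring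
and with R^/pR^ reduced (p analytically unramified: the completion of R/p, which is R^/pR^, is
reduced). Then the localization of R^ at any associated prime of R^/pR^ is a discrete valuation
ring. -/
theorem result
    (R : Type u) [CommRing R] [IsLocalRing R] [IsNoetherianRing R] (p : Ideal R) [p.IsPrime]
    [IsDomain (Localization.AtPrime p)] [IsDiscreteValuationRing (Localization.AtPrime p)]
    (hp : IsReduced (AdicCompletion (IsLocalRing.maximalIdeal R) R ⧸
      p.map (algebraMap R (AdicCompletion (IsLocalRing.maximalIdeal R) R))))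
    (q : Ideal (AdicCompletion (IsLocalRing.maximalIdeal R) R)) [q.IsPrime]
    (hq : q ∈ associatedPrimes (AdicCompletion (IsLocalRing.maximalIdeal R) R)
      (AdicCompletion (IsLocalRing.maximalIdeal R) R ⧸
        p.map (algebraMap R (AdicCompletion (IsLocalRing.maximalIdeal R) R)))) :
    ∃ _ : IsDomain (Localization.AtPrime q), IsDiscreteValuationRing (Localization.AtPrime q) := by
  haveI : IsNoetherianRing (AdicCompletion (IsLocalRing.maximalIdeal R) R) :=
    Groth.Agent.Lead.isNoetherianRing_adicCompletion (IsLocalRing.maximalIdeal R)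
      (IsNoetherian.noetherian _)
  exact core R (AdicCompletion (IsLocalRing.maximalIdeal R) R) p hp q hq

end Groth.Agent.S9439
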