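import Groth.Statements.S2093
import Mathlib
import Groth.Agent.S9439
import Groth.Agent.S2069
import Groth.Agent.H87.ComplIso
import Groth.Agent.Lead.CompleteNoetherian

set_option autoImplicit false
universe u
open CAlg

namespace Groth.Agent.S2093

section Aux
open IsLocalRing

theorem noeth_hat (R : Type u) [CommRing R] [IsLocalRing R] [IsNoetherianRing R] :
    IsNoetherianRing (AdicCompletion (maximalIdeal R) R) :=
  Groth.Agent.Lead.isNoetherianRing_adicCompletion (maximalIdeal R) (IsNoetherian.noetherian _)

theorem reduced_quot (R : Type u) [CommRing R] [IsLocalRing R] [IsNoetherianRing R] (p : Ideal R)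
    (hp : p ≠ ⊤)
    (hred : IsReduced (AdicCompletion ((maximalIdeal R).map (Ideal.Quotient.mk p)) (R ⧸ p))) :
    IsReduced (AdicCompletion (maximalIdeal R) R ⧸
      p.map (algebraMap R (AdicCompletion (maximalIdeal R) R))) := by
  classical
  haveI := noeth_hat R
  haveI := hred
  have hφ : maximalIdeal R ≤
      ((maximalIdeal R).map (Ideal.Quotient.mk p)).comap (Ideal.Quotient.mkₐ R p) :=
    Ideal.le_comap_map
  set P : Ideal (AdicCompletion (maximalIdeal R) R) :=
    p.map (algebraMap R (AdicCompletion (maximalIdeal R) R)) with hP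
  -- key: ker ψ ≤ P
  have hker : ∀ a : AdicCompletion (maximalIdeal R) R,
      Groth.Agent.H87.ComplIso.hatMap (maximalIdeal R) ((maximalIdeal R).map (Ideal.Quotient.mk p))
        (Ideal.Quotient.mkₐ R p) hφ a = 0 → a ∈ P := by
    intro a ha
    obtain ⟨c, rfl⟩ := AdicCompletion.mk_surjective (maximalIdeal R) R a
    have hc : ∀ n, ∃ b ∈ maximalIdeal R ^ n, c.val n - b ∈ p := by
      intro n
      have h := Groth.Agent.H87.ComplIso.evalₐ_hatMap_mk (maximalIdeal R)
        ((maximalIdeal R).map (Ideal.Quotient.mk p)) (Ideal.Quotient.mkₐ R p) hφ n c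
      rw [ha, map_zero] at h
      have h2 : Ideal.Quotient.mk p (c.val n) ∈
          ((maximalIdeal R).map (Ideal.Quotient.mk p)) ^ n :=
        Ideal.Quotient.eq_zero_iff_mem.mp h.symm
      rw [← Ideal.map_pow] at h2
      obtain ⟨b, hb, hbe⟩ :=
        (Ideal.mem_map_iff_of_surjective _ Ideal.Quotient.mk_surjective).mp h2
      refine ⟨b, hb, ?_⟩
      have : Ideal.Quotient.mk p (c.val n - b) = 0 := by
        rw [map_sub, hbe, sub_self]
      exact Ideal.Quotient.eq_zero_iff_mem.mp this
    have hPm : P ≤ maximalIdeal (AdicCompletion (maximalIdeal R) R) := by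
      rw [AdicCompletion.maximalIdeal_eq_map]
      exact Ideal.map_mono (le_maximalIdeal hp)
    have hPne : P ≠ ⊤ := fun h =>
      (maximalIdeal.isMaximal (AdicCompletion (maximalIdeal R) R)).ne_top
        (top_le_iff.mp (h ▸ hPm))
    haveI : Nontrivial (AdicCompletion (maximalIdeal R) R ⧸ P) :=
      Ideal.Quotient.nontrivial_iff.mpr hPne
    haveI : IsLocalRing (AdicCompletion (maximalIdeal R) R ⧸ P) :=
      IsLocalRing.of_surjective' (Ideal.Quotient.mk P) Ideal.Quotient.mk_surjective
    set J : Ideal (AdicCompletion (maximalIdeal R) R ⧸ P) :=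
      (maximalIdeal (AdicCompletion (maximalIdeal R) R)).map (Ideal.Quotient.mk P) with hJ
    have hJne : J ≠ ⊤ := by
      intro h
      have h1 : (1 : AdicCompletion (maximalIdeal R) R ⧸ P) ∈ J := h ▸ Submodule.mem_top
      obtain ⟨t, ht, hte⟩ :=
        (Ideal.mem_map_iff_of_surjective _ Ideal.Quotient.mk_surjective).mp h1
      have h2 : t - 1 ∈ P := by
        rw [← Ideal.Quotient.eq, hte, map_one]
      have h3 : (1 : AdicCompletion (maximalIdeal R) R) ∈
          maximalIdeal (AdicCompletion (maximalIdeal R) R) := by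
        have := sub_mem ht (hPm h2)
        rwa [sub_sub_cancel] at this
      exact (Ideal.ne_top_iff_one _).mp
        (maximalIdeal.isMaximal (AdicCompletion (maximalIdeal R) R)).ne_top h3
    have hkrull := Ideal.iInf_pow_eq_bot_of_isLocalRing J hJne
    have hmem : ∀ n, Ideal.Quotient.mk P (AdicCompletion.mk (maximalIdeal R) R c) ∈ J ^ n := by
      intro n
      obtain ⟨b, hb, hcb⟩ := hc n
      have e : AdicCompletion.mk (maximalIdeal R) R c =
          (AdicCompletion.mk (maximalIdeal R) R c -
            algebraMap R (AdicCompletion (maximalIdeal R) R) (c.val n)) +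
          algebraMap R (AdicCompletion (maximalIdeal R) R) b +
          algebraMap R (AdicCompletion (maximalIdeal R) R) (c.val n - b) := by
        rw [map_sub]; ring
      rw [e, map_add, map_add]
      have h1 : Ideal.Quotient.mk P
          (algebraMap R (AdicCompletion (maximalIdeal R) R) (c.val n - b)) = 0 :=
        Ideal.Quotient.eq_zero_iff_mem.mpr (Ideal.mem_map_of_mem _ hcb)
      rw [h1, add_zero, hJ, ← Ideal.map_pow]
      refine add_mem (Ideal.mem_map_of_mem _ ?_) (Ideal.mem_map_of_mem _ ?_)
      · have hk : AdicCompletion.mk (maximalIdeal R) R c -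
            algebraMap R (AdicCompletion (maximalIdeal R) R) (c.val n) ∈
            LinearMap.ker (AdicCompletion.eval (maximalIdeal R) R n) := by
          rw [LinearMap.mem_ker, map_sub, sub_eq_zero]
          rfl
        rw [← AdicCompletion.pow_smul_top_eq_ker_eval (IsNoetherian.noetherian (maximalIdeal R)),
          Ideal.smul_top_eq_map, Submodule.restrictScalars_mem, Ideal.map_pow] at hk
        rw [AdicCompletion.maximalIdeal_eq_map]
        exact hk
      · rw [AdicCompletion.maximalIdeal_eq_map, ← Ideal.map_pow]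
        exact Ideal.mem_map_of_mem _ hb
    have hzero : Ideal.Quotient.mk P (AdicCompletion.mk (maximalIdeal R) R c) = 0 := by
      have : Ideal.Quotient.mk P (AdicCompletion.mk (maximalIdeal R) R c) ∈ (⨅ i : ℕ, J ^ i) :=
        Ideal.mem_iInf.mpr hmem
      rw [hkrull] at this
      exact (Ideal.mem_bot).mp this
    exact Ideal.Quotient.eq_zero_iff_mem.mp hzero
  have hPle : ∀ a ∈ P,
      (Groth.Agent.H87.ComplIso.hatMap (maximalIdeal R)
        ((maximalIdeal R).map (Ideal.Quotient.mk p)) (Ideal.Quotient.mkₐ R p) hφ).toRingHom a = 0 := by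
    intro a ha
    have hle : P ≤ RingHom.ker (Groth.Agent.H87.ComplIso.hatMap (maximalIdeal R)
        ((maximalIdeal R).map (Ideal.Quotient.mk p)) (Ideal.Quotient.mkₐ R p) hφ).toRingHom := by
      rw [hP, Ideal.map_le_iff_le_comap]
      intro r hr
      rw [Ideal.mem_comap, RingHom.mem_ker]
      show Groth.Agent.H87.ComplIso.hatMap (maximalIdeal R)
        ((maximalIdeal R).map (Ideal.Quotient.mk p)) (Ideal.Quotient.mkₐ R p) hφ
        (algebraMap R _ r) = 0
      rw [AlgHom.commutes, AdicCompletion.algebraMap_apply]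
      have : algebraMap R (R ⧸ p) r = 0 := Ideal.Quotient.eq_zero_iff_mem.mpr hr
      rw [this, map_zero]
    exact RingHom.mem_ker.mp (hle ha)
  let j : (AdicCompletion (maximalIdeal R) R ⧸ P) →+*
      AdicCompletion ((maximalIdeal R).map (Ideal.Quotient.mk p)) (R ⧸ p) :=
    Ideal.Quotient.lift P (Groth.Agent.H87.ComplIso.hatMap (maximalIdeal R)
        ((maximalIdeal R).map (Ideal.Quotient.mk p)) (Ideal.Quotient.mkₐ R p) hφ).toRingHom hPle
  have hj : Function.Injective j := by
    rw [injective_iff_map_eq_zero]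
    intro z hz
    obtain ⟨a, rfl⟩ := Ideal.Quotient.mk_surjective z
    have hz' : Groth.Agent.H87.ComplIso.hatMap (maximalIdeal R)
        ((maximalIdeal R).map (Ideal.Quotient.mk p)) (Ideal.Quotient.mkₐ R p) hφ a = 0 := hz
    exact Ideal.Quotient.eq_zero_iff_mem.mpr (hker a hz')
  exact isReduced_of_injective j hj

theorem dvr_of_minimal (R : Type u) [CommRing R] [IsDomain R] [IsNoetherianRing R] (x : R)
    (hx : x ≠ 0) (p : Ideal R) [p.IsPrime] (hp : p ∈ (Ideal.span {x}).minimalPrimes)
    [IsRegularLocalRing (Localization.AtPrime p)] :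
    IsDiscreteValuationRing (Localization.AtPrime p) := by
  have h1 : p.height ≤ 1 :=
    Ideal.height_le_one_of_isPrincipal_of_mem_minimalPrimes (Ideal.span {x}) p hp
  have hxp : x ∈ p := hp.1.2 (Ideal.subset_span rfl)
  have h0 : p.height ≠ 0 := by
    rw [Ne, Ideal.height_eq_zero_iff_eq_bot]
    intro h; rw [h] at hxp; exact hx ((Ideal.mem_bot).mp hxp)
  have hht : p.height = 1 := le_antisymm h1 (Order.one_le_iff_ne_zero.mpr h0)
  have hdim : ringKrullDim (Localization.AtPrime p) = 1 := by
    rw [IsLocalization.AtPrime.ringKrullDim_eq_height p (Localization.AtPrime p), hht]; rfl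
  have hfr := (IsRegularLocalRing.iff_finrank_cotangentSpace (Localization.AtPrime p)).mp
    inferInstance
  rw [hdim] at hfr
  have h2 : Module.finrank (ResidueField (Localization.AtPrime p))
      (CotangentSpace (Localization.AtPrime p)) = 1 := by exact_mod_cast hfr
  exact IsLocalRing.finrank_CotangentSpace_eq_one_iff.mp h2

theorem main (R : Type u) [CommRing R] [IsDomain R] [IsLocalRing R]
    [IsNoetherianRing R] (x : R) (hx : x ≠ 0) (hxm : x ∈ IsLocalRing.maximalIdeal R)
    (hemb : ∀ p ∈ associatedPrimes R (R ⧸ Ideal.span {x}), p ∈ (Ideal.span {x}).minimalPrimes)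
    (hreg : ∀ p ∈ associatedPrimes R (R ⧸ Ideal.span {x}), ∀ (_ : p.IsPrime),
      IsRegularLocalRing (Localization.AtPrime p) ∧
        IsReduced (AdicCompletion ((IsLocalRing.maximalIdeal R).map (Ideal.Quotient.mk p)) (R ⧸ p))) :
    IsReduced (AdicCompletion (IsLocalRing.maximalIdeal R) R) := by
  classical
  haveI := noeth_hat R
  set xh : AdicCompletion (maximalIdeal R) R := algebraMap R _ x with hxh
  -- Step A: xh is a nonzerodivisor
  have hxreg : ∀ y : AdicCompletion (maximalIdeal R) R, xh * y = 0 → y = 0 := by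
    have h1 : IsSMulRegular R x := by
      intro a b hab; exact mul_left_cancel₀ hx hab
    have h2 : IsSMulRegular (AdicCompletion (maximalIdeal R) R) xh := h1.of_flat
    intro y hy
    apply h2
    show xh • y = xh • 0
    rw [smul_zero, smul_eq_mul]; exact hy
  have hxpow : ∀ (n : ℕ) (z : AdicCompletion (maximalIdeal R) R), xh ^ n * z = 0 → z = 0 := by
    intro n
    induction n with
    | zero => intro z hz; rwa [pow_zero, one_mul] at hz
    | succ n ih =>
      intro z hz
      apply ih
      apply hxreg
      rw [← mul_assoc, ← pow_succ']; exact hz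
  -- Step B: localizations at associated primes of Â/xh are domains
  have hdom : ∀ q ∈ associatedPrimes (AdicCompletion (maximalIdeal R) R)
      (AdicCompletion (maximalIdeal R) R ⧸ Ideal.span {xh}), ∀ [q.IsPrime],
      IsDomain (Localization.AtPrime q) := by
    intro q hq _
    have e1 : Ideal.span {xh} =
        (Ideal.span {x}).map (algebraMap R (AdicCompletion (maximalIdeal R) R)) := by
      rw [Ideal.map_span, Set.image_singleton]
    rw [e1] at hq
    rw [LinearEquiv.AssociatedPrimes.eq (Algebra.TensorProduct.quotIdealMapEquivTensorQuot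
      (AdicCompletion (maximalIdeal R) R) (Ideal.span {x})).toLinearEquiv,
      Groth.Agent.S2069.result] at hq
    simp only [Set.mem_iUnion] at hq
    obtain ⟨p, hpass, hqp⟩ := hq
    haveI hpprime : p.IsPrime := (AssociatedPrimes.mem_iff.mp hpass).isPrime
    obtain ⟨hregp, hredp⟩ := hreg p hpass hpprime
    haveI := hregp
    haveI : IsDiscreteValuationRing (Localization.AtPrime p) :=
      dvr_of_minimal R x hx p (hemb p hpass)
    have hred' := reduced_quot R p hpprime.ne_top hredp
    have e2 : (p.map (algebraMap R (AdicCompletion (maximalIdeal R) R)) • ⊤ :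
        Submodule (AdicCompletion (maximalIdeal R) R) (AdicCompletion (maximalIdeal R) R)) =
        p.map (algebraMap R (AdicCompletion (maximalIdeal R) R)) := by
      show _ • (⊤ : Ideal _) = _
      rw [smul_eq_mul, Ideal.mul_top]
    rw [e2] at hqp
    obtain ⟨hd, _⟩ := Groth.Agent.S9439.core R (AdicCompletion (maximalIdeal R) R) p hred' q hqp
    exact hd
  -- Step C
  rw [← nilradical_eq_bot_iff]
  have hxjac : Ideal.span {xh} ≤
      Ideal.jacobson (⊥ : Ideal (AdicCompletion (maximalIdeal R) R)) := by
    rw [IsLocalRing.jacobson_eq_maximalIdeal ⊥ bot_ne_top, Ideal.span_singleton_le_iff_mem,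
      AdicCompletion.maximalIdeal_eq_map]
    exact Ideal.mem_map_of_mem _ hxm
  apply Submodule.eq_bot_of_le_smul_of_le_jacobson_bot (Ideal.span {xh})
    (nilradical (AdicCompletion (maximalIdeal R) R)) (IsNoetherian.noetherian _) ?_ hxjac
  intro y hy
  have hy0 : Ideal.Quotient.mk (Ideal.span {xh}) y = 0 := by
    by_contra hne
    obtain ⟨q, hqass, hqle⟩ := exists_le_isAssociatedPrime_of_isNoetherianRing
      (AdicCompletion (maximalIdeal R) R) (Ideal.Quotient.mk (Ideal.span {xh}) y) hne
    haveI := hqass.isPrime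
    haveI := hdom q (AssociatedPrimes.mem_iff.mpr hqass)
    have hnil : IsNilpotent (algebraMap (AdicCompletion (maximalIdeal R) R)
        (Localization.AtPrime q) y) := (mem_nilradical.mp hy).map _
    have hz : algebraMap (AdicCompletion (maximalIdeal R) R) (Localization.AtPrime q) y = 0 :=
      hnil.eq_zero
    obtain ⟨s, hs⟩ :=
      (IsLocalization.map_eq_zero_iff q.primeCompl (Localization.AtPrime q) y).mp hz
    have hsq : (s : AdicCompletion (maximalIdeal R) R) ∈ q := by
      apply hqle
      rw [Submodule.mem_colon_singleton, Submodule.mem_bot]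
      show Ideal.Quotient.mk (Ideal.span {xh}) ((s : AdicCompletion (maximalIdeal R) R) * y) = 0
      rw [hs, map_zero]
    exact s.2 hsq
  obtain ⟨a, ha⟩ := Ideal.mem_span_singleton'.mp (Ideal.Quotient.eq_zero_iff_mem.mp hy0)
  obtain ⟨n, hn⟩ := mem_nilradical.mp hy
  have han : a ∈ nilradical (AdicCompletion (maximalIdeal R) R) := by
    rw [mem_nilradical]
    refine ⟨n, hxpow n _ ?_⟩
    rw [mul_comm, ← mul_pow, ha, hn]
  have : y = xh • a := by rw [smul_eq_mul, mul_comm, ha]
  rw [this]
  exact Submodule.smul_mem_smul (Ideal.mem_span_singleton_self xh) han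

end Aux

/-- Let `(R, 𝔪)` be a Noetherian local domain and `x ∈ 𝔪` nonzero such that `R/xR` has no embedded
associated primes, and for every associated prime `𝔭` of `R/xR` the local ring `R_𝔭` is regular and
the completion of `R/𝔭` is reduced. Then the completion of `R` is reduced. -/
theorem result {R : Type u} [CommRing R] [IsDomain R] [IsLocalRing R]
    [IsNoetherianRing R] (x : R) (hx : x ≠ 0) (hxm : x ∈ IsLocalRing.maximalIdeal R)
    (hemb : ∀ p ∈ associatedPrimes R (R ⧸ Ideal.span {x}), p ∈ (Ideal.span {x}).minimalPrimes)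
    (hreg : ∀ p ∈ associatedPrimes R (R ⧸ Ideal.span {x}), ∀ (_ : p.IsPrime),
      IsRegularLocalRing (Localization.AtPrime p) ∧
        IsReduced (AdicCompletion ((IsLocalRing.maximalIdeal R).map (Ideal.Quotient.mk p)) (R ⧸ p))) :
    IsReduced (AdicCompletion (IsLocalRing.maximalIdeal R) R) := by
  exact main R x hx hxm hemb hreg

end Groth.Agent.S2093
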