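import Groth.Statements.S0571
import Groth.Agent.H15.N1

set_option autoImplicit false
universe u
open CAlg

namespace Groth.Agent.S0571

/-- A Noetherian domain `R` is N-1 exactly when (a) `R_f` is integrally closed for some nonzero `f`, and
(b) the localization of `R` at every maximal ideal is N-1. -/
theorem result (R : Type u) [CommRing R] [IsDomain R]
    [IsNoetherianRing R] :
    CAlg.IsN1 R ↔ ((∃ f : R, f ≠ 0 ∧ IsIntegrallyClosed (Localization.Away f)) ∧
      ∀ (m : Ideal R) [m.IsMaximal], CAlg.IsN1 (Localization.AtPrime m)) := by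
  rw [Groth.Agent.H15.N1.isN1_iff]
  constructor
  · intro hfg
    refine ⟨?_, ?_⟩
    · obtain ⟨f, hf, hden⟩ := Groth.Agent.H15.N1.exists_denominator _ hfg
      refine ⟨f, hf, Groth.Agent.H15.N1.isIntegrallyClosed_away hf ?_⟩
      intro x hx
      obtain ⟨a, ha⟩ := hden x hx
      exact ⟨1, a, by rw [pow_one]; exact ha⟩
    · intro m hm
      rw [Groth.Agent.H15.N1.isN1_localization_iff]
      exact Groth.Agent.H15.N1.fg_local_of_fg m hfg
  · rintro ⟨⟨f, hf, hn⟩, hloc⟩
    apply Groth.Agent.H15.N1.finite_integralClosure hf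
      (Groth.Agent.H15.NorOpen.H_of_away f hf hn)
    intro m hm
    exact (Groth.Agent.H15.N1.isN1_localization_iff m).mp (hloc m)

end Groth.Agent.S0571
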