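import Groth.Statements.S9440
import Groth.Agent.H23.NagataAU
import Groth.Agent.H23.JapStab
import Groth.Agent.H11.AnUnram2

set_option autoImplicit false
universe u
open CAlg

namespace Groth.Agent.S9440

open IsLocalRing TensorProduct

/-- Nagata ring `R`, domain `D` finite over `R`: integral closure in any finite extension of
`Frac D` is finite. -/
theorem finite_ic (R : Type u) [CommRing R] (hR : CAlg.IsNagata R) (D : Type u) [CommRing D]
    [IsDomain D] [Algebra R D] [Module.Finite R D]
    (L : Type u) [Field L] [Algebra D L] [Algebra (FractionRing D) L]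
    [IsScalarTower D (FractionRing D) L]
    (hfd : FiniteDimensional (FractionRing D) L) : Module.Finite D (integralClosure D L) := by
  haveI : IsNoetherianRing R := hR.1
  letI algRL : Algebra R L := ((algebraMap D L).comp (algebraMap R D)).toAlgebra
  haveI tRDL : IsScalarTower R D L := IsScalarTower.of_algebraMap_eq fun r => rfl
  set p : Ideal R := RingHom.ker (algebraMap R D) with hp
  haveI hpprime : p.IsPrime := RingHom.ker_isPrime _
  letI algD : Algebra (R ⧸ p) D := (RingHom.kerLift (algebraMap R D)).toAlgebra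
  haveI tower : IsScalarTower R (R ⧸ p) D := IsScalarTower.of_algebraMap_eq fun r => rfl
  have hinj : Function.Injective (algebraMap (R ⧸ p) D) := RingHom.kerLift_injective _
  letI algRpL : Algebra (R ⧸ p) L :=
    ((algebraMap D L).comp (algebraMap (R ⧸ p) D)).toAlgebra
  haveI t3 : IsScalarTower (R ⧸ p) D L := IsScalarTower.of_algebraMap_eq fun r => rfl
  haveI t4 : IsScalarTower R (R ⧸ p) L := IsScalarTower.of_algebraMap_eq fun r => rfl
  have hDL : Function.Injective (algebraMap D L) := by
    rw [IsScalarTower.algebraMap_eq D (FractionRing D) L]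
    exact (algebraMap (FractionRing D) L).injective.comp (IsFractionRing.injective D _)
  haveI hFL : FaithfulSMul (R ⧸ p) L :=
    (faithfulSMul_iff_algebraMap_injective _ _).mpr (hDL.comp hinj)
  letI algKL : Algebra (FractionRing (R ⧸ p)) L := FractionRing.liftAlgebra (R ⧸ p) L
  haveI t1 : IsScalarTower (R ⧸ p) (FractionRing (R ⧸ p)) L :=
    FractionRing.isScalarTower_liftAlgebra _ _
  haveI t2 : IsScalarTower R (FractionRing (R ⧸ p)) L :=
    IsScalarTower.of_algebraMap_eq fun r => by
      rw [IsScalarTower.algebraMap_apply R (R ⧸ p) (FractionRing (R ⧸ p)),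
        ← IsScalarTower.algebraMap_apply (R ⧸ p) (FractionRing (R ⧸ p)) L,
        ← IsScalarTower.algebraMap_apply R (R ⧸ p) L]
  have hK : ∀ z : FractionRing (R ⧸ p), ∃ a b : R,
      algebraMap R (FractionRing (R ⧸ p)) b ≠ 0 ∧
      z * algebraMap R (FractionRing (R ⧸ p)) b = algebraMap R (FractionRing (R ⧸ p)) a := by
    intro z
    obtain ⟨a', b', hb', rfl⟩ := IsFractionRing.div_surjective (A := R ⧸ p) z
    obtain ⟨a, rfl⟩ := Ideal.Quotient.mk_surjective a'
    obtain ⟨b, rfl⟩ := Ideal.Quotient.mk_surjective b'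
    have hb0 : algebraMap (R ⧸ p) (FractionRing (R ⧸ p)) (Ideal.Quotient.mk p b) ≠ 0 := by
      intro h
      exact (nonZeroDivisors.ne_zero hb')
        ((IsFractionRing.injective (R ⧸ p) _) (h.trans (map_zero _).symm))
    refine ⟨a, b, ?_, ?_⟩
    · rw [IsScalarTower.algebraMap_apply R (R ⧸ p) (FractionRing (R ⧸ p))]; exact hb0
    · rw [IsScalarTower.algebraMap_apply R (R ⧸ p) (FractionRing (R ⧸ p)),
        IsScalarTower.algebraMap_apply R (R ⧸ p) (FractionRing (R ⧸ p)) a]
      exact div_mul_cancel₀ _ hb0
  haveI hess : Algebra.EssFiniteType (FractionRing (R ⧸ p)) L := by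
    haveI h1 : Algebra.EssFiniteType R D := inferInstance
    haveI h2 : Algebra.EssFiniteType D (FractionRing D) :=
      Algebra.EssFiniteType.of_isLocalization (FractionRing D) (nonZeroDivisors D)
    haveI h2' : Algebra.EssFiniteType (FractionRing D) L := inferInstance
    haveI h3 : Algebra.EssFiniteType D L := Algebra.EssFiniteType.comp D (FractionRing D) L
    haveI h4 : Algebra.EssFiniteType R L := Algebra.EssFiniteType.comp R D L
    exact Algebra.EssFiniteType.of_comp R (FractionRing (R ⧸ p)) L
  have hfin : Module.Finite R (integralClosure R L) :=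
    Groth.Agent.H73.NagataFin.finite_integralClosure_of_isNagata_field R hR
      (FractionRing (R ⧸ p)) L hK
  haveI : Algebra.IsIntegral R D := inferInstance
  let f : integralClosure R L →ₗ[R] integralClosure D L :=
    { toFun := fun x => ⟨x.1, x.2.tower_top⟩
      map_add' := fun _ _ => rfl
      map_smul' := fun r x => Subtype.ext (by
        change r • x.1 = (r • (⟨x.1, x.2.tower_top⟩ : integralClosure D L)).1
        rfl) }
  haveI : Module.Finite R (integralClosure D L) :=
    Module.Finite.of_surjective f (fun y =>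
      ⟨⟨y.1, isIntegral_trans (R := R) (A := D) y.1 y.2⟩, Subtype.ext rfl⟩)
  exact Module.Finite.of_restrictScalars_finite R D _

theorem nagata_of_finite (R : Type u) [CommRing R] (hR : CAlg.IsNagata R) (S : Type u)
    [CommRing S] [Algebra R S] [Module.Finite R S] : CAlg.IsNagata S := by
  haveI := hR.1
  refine ⟨IsNoetherianRing.of_finite R S, ?_⟩
  intro q hq L _ _ _ _ hfd
  haveI : Module.Finite R (S ⧸ q) :=
    Module.Finite.of_surjective (Ideal.Quotient.mkₐ R q).toLinearMap
      (Ideal.Quotient.mkₐ_surjective R q)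
  exact finite_ic R hR (S ⧸ q) L hfd

/-- `A` Noetherian local domain, not a field, `L` finite over `Frac A`: there is a finite local
sub-`A`-algebra `C` of `L` with fraction field `L`; if its completion is reduced then the integral
closure of `A` in `L` is finite. -/
theorem n2_core (A : Type u) [CommRing A] [IsDomain A] [IsLocalRing A] [IsNoetherianRing A]
    (hnf : ¬ IsField A)
    (L : Type u) [Field L] [Algebra A L] [Algebra (FractionRing A) L]
    [IsScalarTower A (FractionRing A) L] [FiniteDimensional (FractionRing A) L]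
    (H : ∀ (C : Subalgebra A L) [IsLocalRing C] [IsLocalHom (algebraMap A C)] [Module.Finite A C],
      IsReduced (AdicCompletion (maximalIdeal C) C)) :
    Module.Finite A (integralClosure A L) := by
  classical
  have hAL : Function.Injective (algebraMap A L) := by
    rw [IsScalarTower.algebraMap_eq A (FractionRing A) L]
    exact (algebraMap (FractionRing A) L).injective.comp (IsFractionRing.injective A _)
  obtain ⟨t, htm, ht0⟩ : ∃ t ∈ maximalIdeal A, t ≠ 0 := by
    by_contra hcon
    push Not at hcon
    apply hnf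
    rw [IsLocalRing.isField_iff_maximalIdeal_eq, eq_bot_iff]
    intro x hx
    exact (Ideal.mem_bot).mpr (hcon x hx)
  obtain ⟨B, hBfin, hBfrac⟩ := Groth.Agent.H23.JapStab.exists_PP (A := A) (K' := L)
  haveI := hBfin
  haveI : Algebra.IsIntegral A B := inferInstance
  -- Jacobson radical of B
  have hAJ : ∀ a ∈ maximalIdeal A, algebraMap A B a ∈ Ideal.jacobson (⊥ : Ideal B) := by
    intro a ha
    rw [Ideal.jacobson, Ideal.mem_sInf]
    rintro M ⟨-, hM⟩
    haveI := hM
    have hmax : (M.comap (algebraMap A B)).IsMaximal :=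
      Ideal.isMaximal_comap_of_isIntegral_of_isMaximal M
    have h1 := IsLocalRing.eq_maximalIdeal hmax
    have h2 : a ∈ M.comap (algebraMap A B) := h1 ▸ ha
    exact h2
  have hJne : ∀ n : B, n ∈ Ideal.jacobson (⊥ : Ideal B) → ¬ IsUnit n := by
    intro n hn hu
    obtain ⟨v, hv⟩ := hu.exists_right_inv
    have h1 : (1 : B) ∈ Ideal.jacobson (⊥ : Ideal B) := hv ▸ Ideal.mul_mem_right v _ hn
    have h2 := Ideal.mem_jacobson_bot.mp h1 (-1)
    rw [one_mul, neg_add_cancel] at h2
    exact not_isUnit_zero h2
  have hU : ∀ n : B, n ∈ Ideal.jacobson (⊥ : Ideal B) →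
      ∃ v : B, (1 + n) * v = 1 ∧ v - 1 ∈ Ideal.jacobson (⊥ : Ideal B) := by
    intro n hn
    have h1 := Ideal.mem_jacobson_bot.mp hn 1
    rw [mul_one, add_comm] at h1
    obtain ⟨v, hv⟩ := h1.exists_right_inv
    refine ⟨v, hv, ?_⟩
    have e : v - 1 = -(n * v) := by
      have : v + n * v = 1 := by rw [← hv]; ring
      rw [← this]; ring
    rw [e]
    exact neg_mem (Ideal.mul_mem_right v _ hn)
  -- the subalgebra C = A + Jac(B)
  let C : Subalgebra A L :=
    { carrier := {c | ∃ a : A, ∃ n : B, n ∈ Ideal.jacobson (⊥ : Ideal B) ∧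
        c = algebraMap A L a + (n : L)}
      mul_mem' := by
        rintro _ _ ⟨a, n, hn, rfl⟩ ⟨a', n', hn', rfl⟩
        refine ⟨a * a', algebraMap A B a * n' + algebraMap A B a' * n + n * n', ?_, ?_⟩
        · exact add_mem (add_mem (Ideal.mul_mem_left _ _ hn') (Ideal.mul_mem_left _ _ hn))
            (Ideal.mul_mem_left _ _ hn')
        · rw [map_mul]
          simp only [Subalgebra.coe_add, Subalgebra.coe_mul, Subalgebra.coe_algebraMap]
          ring
      one_mem' := ⟨1, 0, zero_mem _, by simp⟩
      add_mem' := by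
        rintro _ _ ⟨a, n, hn, rfl⟩ ⟨a', n', hn', rfl⟩
        refine ⟨a + a', n + n', add_mem hn hn', ?_⟩
        rw [map_add]
        simp only [Subalgebra.coe_add]
        ring
      zero_mem' := ⟨0, 0, zero_mem _, by simp⟩
      algebraMap_mem' := fun a => ⟨a, 0, zero_mem _, by simp⟩ }
  have hCB : C ≤ B := by
    rintro _ ⟨a, n, hn, rfl⟩
    exact B.add_mem (B.algebraMap_mem a) n.2
  have hJC : ∀ n : B, n ∈ Ideal.jacobson (⊥ : Ideal B) → (n : L) ∈ C := fun n hn =>
    ⟨0, n, hn, by simp⟩
  haveI hNB : IsNoetherian A B := isNoetherian_of_isNoetherianRing_of_finite A B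
  haveI hCfin : Module.Finite A C :=
    Module.Finite.of_injective (Subalgebra.inclusion hCB).toLinearMap
      (Subalgebra.inclusion_injective hCB)
  haveI : Nontrivial C := ⟨⟨0, 1, fun h => zero_ne_one (congrArg Subtype.val h)⟩⟩
  -- units of C
  have hunit : ∀ n : B, n ∈ Ideal.jacobson (⊥ : Ideal B) → ∀ c : C, (c : L) = 1 + (n : L) →
      IsUnit c := by
    intro n hn c hc
    obtain ⟨v, hv, hv1⟩ := hU n hn
    have hvC : (v : L) ∈ C := ⟨1, v - 1, hv1, by push_cast; simp⟩
    refine IsUnit.of_mul_eq_one ⟨(v : L), hvC⟩ (Subtype.ext ?_)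
    have h1 : ((1 + n) * v : B) = 1 := hv
    have h2 : ((((1 + n) * v : B)) : L) = ((1 : B) : L) := congrArg Subtype.val h1
    push_cast at h2
    show (c : L) * (v : L) = 1
    rw [hc]; exact h2
  haveI hCloc : IsLocalRing C := by
    refine IsLocalRing.of_isUnit_or_isUnit_one_sub_self (fun c => ?_)
    obtain ⟨a, n, hn, hc⟩ := c.2
    by_cases ha : a ∈ maximalIdeal A
    · right
      have hnB : -(algebraMap A B a + n) ∈ Ideal.jacobson (⊥ : Ideal B) :=
        neg_mem (add_mem (hAJ a ha) hn)
      refine hunit _ hnB _ ?_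
      push_cast
      rw [hc]
      ring
    · left
      have hau : IsUnit a := by
        by_contra h
        exact ha ((IsLocalRing.mem_maximalIdeal a).mpr h)
      obtain ⟨a', ha'⟩ := hau.exists_right_inv
      have hnB : algebraMap A B a' * n ∈ Ideal.jacobson (⊥ : Ideal B) :=
        Ideal.mul_mem_left _ _ hn
      have h1 : IsUnit (c * algebraMap A C a') := by
        refine hunit _ hnB _ ?_
        have h2 : algebraMap A L a * algebraMap A L a' = 1 := by
          rw [← map_mul, ha', map_one]
        push_cast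
        rw [hc]
        linear_combination h2
      exact isUnit_of_mul_isUnit_left h1
  haveI hCAloc : IsLocalHom (algebraMap A C) := by
    refine ⟨fun a ha => ?_⟩
    by_contra hna
    have ham : a ∈ maximalIdeal A := (IsLocalRing.mem_maximalIdeal a).mpr hna
    have h1 : IsUnit ((Subalgebra.inclusion hCB) (algebraMap A C a)) :=
      ha.map (Subalgebra.inclusion hCB)
    rw [AlgHom.commutes] at h1
    exact hJne _ (hAJ a ham) h1
  -- fraction field
  have htL : algebraMap A L t ≠ 0 := fun h => ht0 (hAL (h.trans (map_zero _).symm))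
  have hCfrac : ∀ x : L, ∃ a b : C, (b : L) ≠ 0 ∧ x * b = a := by
    intro x
    obtain ⟨a₀, b₀, hb₀, h⟩ := hBfrac x
    have hta : algebraMap A B t * a₀ ∈ Ideal.jacobson (⊥ : Ideal B) :=
      Ideal.mul_mem_right _ _ (hAJ t htm)
    have htb : algebraMap A B t * b₀ ∈ Ideal.jacobson (⊥ : Ideal B) :=
      Ideal.mul_mem_right _ _ (hAJ t htm)
    refine ⟨⟨_, hJC _ hta⟩, ⟨_, hJC _ htb⟩, ?_, ?_⟩
    · push_cast
      exact mul_ne_zero htL hb₀
    · push_cast
      rw [← h]; ring
  haveI : FaithfulSMul C L :=
    (faithfulSMul_iff_algebraMap_injective C L).mpr Subtype.val_injective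
  haveI hCfr : IsFractionRing C L := by
    refine IsFractionRing.of_field C L (fun z => ?_)
    obtain ⟨a, b, hb, h⟩ := hCfrac z
    exact ⟨a, b, eq_div_of_mul_eq hb h⟩
  haveI : IsNoetherianRing C := IsNoetherianRing.of_finite A C
  haveI hred : IsReduced (AdicCompletion (maximalIdeal C) C) := H C
  have hN1 : CAlg.IsN1 C := Groth.Agent.H11.AnUnram.isN1_of_isReduced_completion (A := C)
  haveI hfin1 : Module.Finite C (integralClosure C (FractionRing C)) := hN1
  haveI hfin2 : Module.Finite C (integralClosure C L) :=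
    Module.Finite.equiv (AlgEquiv.mapIntegralClosure (FractionRing.algEquiv C L)).toLinearEquiv
  haveI hfin3 : Module.Finite A (integralClosure C L) := Module.Finite.trans C _
  haveI : Algebra.IsIntegral A C := inferInstance
  let g : integralClosure C L →ₗ[A] integralClosure A L :=
    { toFun := fun x => ⟨x.1, isIntegral_trans (R := A) (A := C) x.1 x.2⟩
      map_add' := fun _ _ => rfl
      map_smul' := fun r x => Subtype.ext (by
        change (r • x).1 = r • x.1
        rfl) }
  refine Module.Finite.of_surjective g (fun y => ?_)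
  exact ⟨⟨y.1, y.2.tower_top⟩, Subtype.ext rfl⟩

/-- (1) ⇔ (3): a Noetherian local ring R is a Nagata ring if and only if for every finite local
homomorphism R → S of local rings with S a domain, the completion of S is reduced. -/
theorem result (R : Type u) [CommRing R]
    [IsLocalRing R] [IsNoetherianRing R] :
    CAlg.IsNagata R ↔ ∀ (S : Type u) [CommRing S] [IsDomain S] [IsLocalRing S] [Algebra R S]
      [IsLocalHom (algebraMap R S)] [Module.Finite R S],
      IsReduced (AdicCompletion (IsLocalRing.maximalIdeal S) S) := by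
  constructor
  · intro hR S _ _ _ _ _ _
    exact Groth.Agent.H23.NagataAU.reduced_completion S (nagata_of_finite R hR S)
  · intro H
    refine ⟨inferInstance, fun p hp => ?_⟩
    intro L _ _ _ _ hfd
    by_cases hfield : IsField (R ⧸ p)
    · exact Groth.Agent.H11.CompleteNagata.isN2_of_isField hfield L hfd
    haveI : IsLocalRing (R ⧸ p) :=
      IsLocalRing.of_surjective' (Ideal.Quotient.mk p) Ideal.Quotient.mk_surjective
    haveI := hfd
    refine n2_core (R ⧸ p) hfield L ?_
    intro C _ _ _
    letI : Algebra R L := ((algebraMap (R ⧸ p) L).comp (algebraMap R (R ⧸ p))).toAlgebra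
    haveI : IsScalarTower R (R ⧸ p) L := IsScalarTower.of_algebraMap_eq fun r => rfl
    haveI : IsScalarTower R (R ⧸ p) C := IsScalarTower.of_algebraMap_eq fun r => rfl
    haveI : IsLocalHom (algebraMap R (R ⧸ p)) :=
      IsLocalHom.of_surjective _ Ideal.Quotient.mk_surjective
    haveI : IsLocalHom (algebraMap R C) := by
      refine ⟨fun r hr => ?_⟩
      have h1 : IsUnit (algebraMap (R ⧸ p) C (algebraMap R (R ⧸ p) r)) := by
        rw [← IsScalarTower.algebraMap_apply]; exact hr
      exact isUnit_of_map_unit (algebraMap R (R ⧸ p)) r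
        (isUnit_of_map_unit (algebraMap (R ⧸ p) C) _ h1)
    haveI : Module.Finite R C := Module.Finite.trans (R ⧸ p) C
    exact H C

end Groth.Agent.S9440
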