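import Groth.Statements.S4749
import Mathlib
import Groth.Agent.H25.NormalHom
import Groth.Agent.H25.GeomRedFib

set_option autoImplicit false
universe u
open EGA4

namespace Groth.Agent.S4749

set_option linter.style.haveILetI false
set_option linter.unusedVariables false
open TensorProduct
open Groth.Agent.H25.NormalElem Groth.Agent.H25.NormalSep Groth.Agent.H25.NormalHom

/-- Geometric fibres of a base change `A' → A' ⊗[A] B` are geometric fibres of `A → B`. -/
theorem fiber_baseChange_equiv (A B A' : Type u) [CommRing A] [CommRing B] [CommRing A']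
    [Algebra A B] [Algebra A A'] (p' : Ideal A') [p'.IsPrime] (K : Type u) [Field K]
    [Algebra p'.ResidueField K] [Algebra A' K] [IsScalarTower A' p'.ResidueField K]
    [Algebra A K] [IsScalarTower A A' K] :
    Nonempty (K ⊗[p'.ResidueField] (p'.Fiber (A' ⊗[A] B)) ≃+* K ⊗[A] B) :=
  ⟨(Algebra.TensorProduct.cancelBaseChange A' p'.ResidueField p'.ResidueField K
    (A' ⊗[A] B)).toRingEquiv.trans
    (Algebra.TensorProduct.cancelBaseChange A A' A' K B).toRingEquiv⟩

/-- Descent of normality of `L ⊗ B` to `K ⊗ B` along a field extension `L / K`. -/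
theorem isNormalRing_tensor_of_tower' (A K L B : Type u) [CommRing A] [Field K] [Field L]
    [Algebra A K] [Algebra A L] [Algebra K L] [IsScalarTower A K L] [CommRing B] [Algebra A B]
    (h : EGA4.IsNormalRing (L ⊗[A] B)) : EGA4.IsNormalRing (K ⊗[A] B) := by
  have hN : EGA4.IsNormalRing ((K ⊗[A] B) ⊗[K] L) :=
    Groth.Agent.H25.NormalElem.isNormalRing_of_ringEquiv
      ((Algebra.TensorProduct.cancelBaseChange A K K L B).symm.toRingEquiv.trans
        (Algebra.TensorProduct.comm K (K ⊗[A] B) L).symm.toRingEquiv) h
  haveI : Module.FaithfullyFlat (K ⊗[A] B) ((K ⊗[A] B) ⊗[K] L) := inferInstance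
  exact Groth.Agent.H25.NormalElem.isNormalRing_of_faithfullyFlat (K ⊗[A] B)
    ((K ⊗[A] B) ⊗[K] L) hN


open TensorProduct in
/-- Case of normal morphisms, affine form: let A → B be a homomorphism of Noetherian rings and A' a
Noetherian A-algebra, and assume that B or A' is of finite type over A. If A → B is normal then the
base change A' → A' ⊗_A B is normal; the converse holds when A' is faithfully flat over A. -/
theorem result (A B A' : Type u) [CommRing A] [CommRing B] [CommRing A']
    [IsNoetherianRing A] [IsNoetherianRing B] [IsNoetherianRing A'] [Algebra A B] [Algebra A A']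
    (hft : Algebra.FiniteType A B ∨ Algebra.FiniteType A A') :
    (EGA4.IsNormalHom A B → EGA4.IsNormalHom A' (A' ⊗[A] B)) ∧
      (Module.FaithfullyFlat A A' → EGA4.IsNormalHom A' (A' ⊗[A] B) → EGA4.IsNormalHom A B) := by
  constructor
  · rintro ⟨hflat, hfib⟩
    haveI := hflat
    refine ⟨inferInstance, fun p' _ => ?_⟩
    intro K _ _ hfin
    letI : Algebra A' K :=
      ((algebraMap p'.ResidueField K).comp (algebraMap A' p'.ResidueField)).toAlgebra
    haveI : IsScalarTower A' p'.ResidueField K := IsScalarTower.of_algebraMap_eq (fun _ => rfl)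
    letI : Algebra A K := ((algebraMap A' K).comp (algebraMap A A')).toAlgebra
    haveI : IsScalarTower A A' K := IsScalarTower.of_algebraMap_eq (fun _ => rfl)
    obtain ⟨e⟩ := fiber_baseChange_equiv A B A' p' K
    have h1 : EGA4.IsNormalRing (K ⊗[A] B) :=
      Groth.Agent.H25.NormalHom.isNormalRing_tensor_field B hfib K
    exact Groth.Agent.H25.NormalElem.isNormalRing_of_ringEquiv e.symm h1
  · rintro hff ⟨hflat', hfib'⟩
    haveI := hff
    haveI := hflat'
    have hflatAB : Module.Flat A B := by
      haveI : Module.Flat A (A' ⊗[A] B) := Module.Flat.trans A A' (A' ⊗[A] B)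
      haveI : Module.Flat A (B ⊗[A] A') :=
        Module.Flat.of_linearEquiv (Algebra.TensorProduct.comm A B A').toLinearEquiv
      exact Groth.Agent.H25.GeomRedFib.flat_of_faithfullyFlat_comp A B (B ⊗[A] A')
    refine ⟨hflatAB, fun p _ => ?_⟩
    intro K _ _ hfin
    haveI := hfin
    obtain ⟨⟨p', hp'⟩, hpp'⟩ := PrimeSpectrum.comap_surjective_of_faithfullyFlat (A := A)
      (B := A') ⟨p, inferInstance⟩
    have hp : p = p'.comap (algebraMap A A') := (congrArg PrimeSpectrum.asIdeal hpp').symm
    haveI := hp'
    subst hp
    letI : Algebra A K := ((algebraMap (p'.comap (algebraMap A A')).ResidueField K).comp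
      (algebraMap A (p'.comap (algebraMap A A')).ResidueField)).toAlgebra
    haveI : IsScalarTower A (p'.comap (algebraMap A A')).ResidueField K :=
      IsScalarTower.of_algebraMap_eq (fun _ => rfl)
    suffices h : EGA4.IsNormalRing (K ⊗[A] B) from
      Groth.Agent.H25.NormalElem.isNormalRing_of_ringEquiv
        (Algebra.TensorProduct.cancelBaseChange A (p'.comap (algebraMap A A')).ResidueField
          (p'.comap (algebraMap A A')).ResidueField K B).symm.toRingEquiv h
    letI : Algebra (p'.comap (algebraMap A A')).ResidueField p'.ResidueField :=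
      (Ideal.ResidueField.map (p'.comap (algebraMap A A')) p' (algebraMap A A') rfl).toAlgebra
    haveI : IsScalarTower A (p'.comap (algebraMap A A')).ResidueField p'.ResidueField := by
      refine IsScalarTower.of_algebraMap_eq (fun a => ?_)
      show algebraMap A p'.ResidueField a = Ideal.ResidueField.map (p'.comap (algebraMap A A')) p'
          (algebraMap A A') rfl (algebraMap A _ a)
      rw [Ideal.ResidueField.map_algebraMap, ← IsScalarTower.algebraMap_apply]
    obtain ⟨m, hm⟩ := Ideal.exists_maximal
      (p'.ResidueField ⊗[(p'.comap (algebraMap A A')).ResidueField] K)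
    haveI := hm
    letI : Field ((p'.ResidueField ⊗[(p'.comap (algebraMap A A')).ResidueField] K) ⧸ m) :=
      Ideal.Quotient.field m
    haveI : Module.Finite p'.ResidueField
        (p'.ResidueField ⊗[(p'.comap (algebraMap A A')).ResidueField] K) := inferInstance
    haveI : Module.Finite p'.ResidueField
        ((p'.ResidueField ⊗[(p'.comap (algebraMap A A')).ResidueField] K) ⧸ m) :=
      Module.Finite.of_surjective (Ideal.Quotient.mkₐ p'.ResidueField m).toLinearMap
        (Ideal.Quotient.mkₐ_surjective p'.ResidueField m)
    have h2 : EGA4.IsNormalRing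
        (((p'.ResidueField ⊗[(p'.comap (algebraMap A A')).ResidueField] K) ⧸ m)
          ⊗[p'.ResidueField] (p'.Fiber (A' ⊗[A] B))) :=
      hfib' p' _ inferInstance
    obtain ⟨e⟩ := fiber_baseChange_equiv A B A' p'
      ((p'.ResidueField ⊗[(p'.comap (algebraMap A A')).ResidueField] K) ⧸ m)
    have h3 : EGA4.IsNormalRing
        (((p'.ResidueField ⊗[(p'.comap (algebraMap A A')).ResidueField] K) ⧸ m) ⊗[A] B) :=
      Groth.Agent.H25.NormalElem.isNormalRing_of_ringEquiv e h2
    letI : Algebra K ((p'.ResidueField ⊗[(p'.comap (algebraMap A A')).ResidueField] K) ⧸ m) :=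
      ((Ideal.Quotient.mk m).comp
        (Algebra.TensorProduct.includeRight (R := (p'.comap (algebraMap A A')).ResidueField)
          (A := p'.ResidueField) (B := K)).toRingHom).toAlgebra
    haveI : IsScalarTower (p'.comap (algebraMap A A')).ResidueField K
        ((p'.ResidueField ⊗[(p'.comap (algebraMap A A')).ResidueField] K) ⧸ m) := by
      refine IsScalarTower.of_algebraMap_eq (fun x => ?_)
      show algebraMap _ ((p'.ResidueField ⊗[(p'.comap (algebraMap A A')).ResidueField] K) ⧸ m) x =
        Ideal.Quotient.mk m ((1 : p'.ResidueField) ⊗ₜ[(p'.comap (algebraMap A A')).ResidueField]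
          (algebraMap _ K x))
      rw [IsScalarTower.algebraMap_apply (p'.comap (algebraMap A A')).ResidueField
        (p'.ResidueField ⊗[(p'.comap (algebraMap A A')).ResidueField] K)
        ((p'.ResidueField ⊗[(p'.comap (algebraMap A A')).ResidueField] K) ⧸ m),
        Ideal.Quotient.algebraMap_eq, Algebra.TensorProduct.algebraMap_apply']
    haveI : IsScalarTower A K
        ((p'.ResidueField ⊗[(p'.comap (algebraMap A A')).ResidueField] K) ⧸ m) := by
      refine IsScalarTower.of_algebraMap_eq (fun a => ?_)
      rw [IsScalarTower.algebraMap_apply A (p'.comap (algebraMap A A')).ResidueField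
        ((p'.ResidueField ⊗[(p'.comap (algebraMap A A')).ResidueField] K) ⧸ m),
        IsScalarTower.algebraMap_apply (p'.comap (algebraMap A A')).ResidueField K
        ((p'.ResidueField ⊗[(p'.comap (algebraMap A A')).ResidueField] K) ⧸ m)]
      rfl
    exact isNormalRing_tensor_of_tower' A K _ B h3

end Groth.Agent.S4749
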