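import Groth.Statements.S4744
import Groth.Agent.S2717
import Groth.Agent.H15.FibreCM
import Groth.Agent.H72.RegLoc
import Groth.Agent.H87.ComplFlat
import Groth.Agent.Lead.CompleteNoetherian
import Mathlib.RingTheory.AdicCompletion.LocalRing
set_option maxHeartbeats 400000
set_option linter.style.haveILetI false

set_option autoImplicit false
universe u
open EGA4

namespace Groth.Agent.S4744

open IsLocalRing TensorProduct

theorem isCMRing_of_ringEquiv {R S : Type u} [CommRing R] [CommRing S] (e : R ≃+* S)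
    (h : LocCoh.IsCohenMacaulayRing R) : LocCoh.IsCohenMacaulayRing S := by
  haveI := h
  haveI : IsNoetherianRing S := isNoetherianRing_of_ringEquiv R e
  refine ⟨fun p hp => ?_⟩
  haveI := hp
  haveI : (p.comap (e : R →+* S)).IsPrime := Ideal.comap_isPrime _ p
  have hp' := h.isCohenMacaulayLocalRing_localization (p.comap (e : R →+* S))
  have hmap : Submonoid.map e.toMonoidHom (p.comap (e : R →+* S)).primeCompl = p.primeCompl := by
    ext x
    constructor
    · rintro ⟨y, hy, rfl⟩
      exact hy
    · intro hx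
      refine ⟨e.symm x, ?_, by simp⟩
      intro hmem
      apply hx
      have h3 : (e : R →+* S) (e.symm x) ∈ p := hmem
      rwa [RingEquiv.coe_toRingHom, RingEquiv.apply_symm_apply] at h3
  exact Groth.Agent.H29.FlatCM.isCM_ringEquiv
    (IsLocalization.ringEquivOfRingEquiv (Localization.AtPrime (p.comap (e : R →+* S)))
      (Localization.AtPrime p) e hmap) hp'

theorem isCMRing_of_isRegularRing (R : Type u) [CommRing R] (h : IsRegularRing R) :
    LocCoh.IsCohenMacaulayRing R := by
  haveI := h
  refine ⟨fun p hp => ?_⟩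
  haveI := hp
  haveI : IsRegularLocalRing (Localization.AtPrime p) :=
    IsRegularRing.isRegularLocalRing_localization p
  exact ⟨Groth.Agent.H72.RegLoc.isCM_of_isRegularLocalRing _⟩

theorem isCMRing_fiber_of_isRegularHom {R S : Type u} [CommRing R] [CommRing S] [Algebra R S]
    (h : CAlg.IsRegularHom R S) (q : Ideal R) [q.IsPrime] :
    LocCoh.IsCohenMacaulayRing (q.Fiber S) := by
  obtain ⟨_, hreg⟩ := h.2 q
  have h1 : IsRegularRing (q.ResidueField ⊗[q.ResidueField] q.Fiber S) :=
    hreg q.ResidueField (Module.Finite.self _)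
  exact isCMRing_of_ringEquiv (Algebra.TensorProduct.lid q.ResidueField (q.Fiber S)).toRingEquiv
    (isCMRing_of_isRegularRing _ h1)

theorem aux (A A' B C : Type u) [CommRing A] [CommRing A'] [CommRing B] [CommRing C]
    [IsNoetherianRing A] [IsNoetherianRing A'] [IsNoetherianRing B] [IsNoetherianRing C]
    [Algebra A A'] [Algebra A' C] [Algebra A B] [Algebra B C] [Algebra A C]
    [IsScalarTower A A' C] [IsScalarTower A B C]
    [Module.Flat A A'] [Module.Flat A' C] [Module.FaithfullyFlat B C]
    (h1 : ∀ (p : Ideal A) [p.IsPrime], LocCoh.IsCohenMacaulayRing (p.Fiber A'))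
    (h2 : ∀ (q : Ideal A') [q.IsPrime], LocCoh.IsCohenMacaulayRing (q.Fiber C)) :
    ∀ (p : Ideal A) [p.IsPrime], LocCoh.IsCohenMacaulayRing (p.Fiber B) := by
  obtain ⟨hflat, hAC⟩ := Groth.Agent.S2717.result A A' C h1 h2
  intro p _
  rw [Groth.Agent.H15.FibreCM.isCM_fiber_iff A B p]
  intro q _ hq
  obtain ⟨r, hr, hrq, hzero⟩ := Groth.Agent.H15.FibreCM.exists_prime_fibre_dim_zero B C q
  subst hrq
  exact Groth.Agent.H15.FibreCM.isCM_fib_of_comp A B C r hzero
    ((Groth.Agent.H15.FibreCM.isCM_fiber_iff A C (r.comap (algebraMap A C))).mp (hAC _) r rfl)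

/-- Let A → A' be a flat local homomorphism of Noetherian local rings all of whose fibre rings k(p) ⊗_A
A' are Cohen–Macaulay. If the completion map of A' is regular (the formal fibres of A' are
geometrically regular), then the formal fibres of A are Cohen–Macaulay. -/
theorem result (A A' : Type u) [CommRing A] [CommRing A'] [IsNoetherianRing A]
    [IsNoetherianRing A'] [IsLocalRing A] [IsLocalRing A'] [Algebra A A'] [IsLocalHom (algebraMap A A')]
    [Module.Flat A A'] (hf : ∀ (p : Ideal A) [p.IsPrime], LocCoh.IsCohenMacaulayRing (p.Fiber A'))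
    (hA' : CAlg.IsRegularHom A' (EGA4.Cpl A')) : EGA4.HasCMFormalFibres A := by
  have hle : (maximalIdeal A).map (algebraMap A A') ≤ maximalIdeal A' :=
    IsLocalRing.map_maximalIdeal_le (algebraMap A A')
  haveI : IsNoetherianRing (EGA4.Cpl A) :=
    Groth.Agent.Lead.isNoetherianRing_adicCompletion (maximalIdeal A)
      (maximalIdeal A).fg_of_isNoetherianRing
  haveI : IsNoetherianRing (EGA4.Cpl A') :=
    Groth.Agent.Lead.isNoetherianRing_adicCompletion (maximalIdeal A')
      (maximalIdeal A').fg_of_isNoetherianRing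
  have hg : ∀ a : A, FSch.complMap (maximalIdeal A) (maximalIdeal A') (algebraMap A A') hle
      (algebraMap A (EGA4.Cpl A) a) = algebraMap A' (EGA4.Cpl A') (algebraMap A A' a) :=
    fun a => Groth.Agent.H87.ComplFlat.complMap_algebraMap _ _ _ hle a
  have hgflat : (FSch.complMap (maximalIdeal A) (maximalIdeal A') (algebraMap A A') hle).Flat :=
    Groth.Agent.H87.ComplFlat.complMap_flat (maximalIdeal A) (maximalIdeal A') (algebraMap A A')
      (RingHom.flat_algebraMap_iff.mpr inferInstance) hle
  have hcomp : (FSch.complMap (maximalIdeal A) (maximalIdeal A') (algebraMap A A') hle).comp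
      (algebraMap A (EGA4.Cpl A)) = (algebraMap A' (EGA4.Cpl A')).comp (algebraMap A A') :=
    RingHom.ext hg
  haveI hloc : IsLocalHom (FSch.complMap (maximalIdeal A) (maximalIdeal A') (algebraMap A A') hle) := by
    apply ((IsLocalRing.local_hom_TFAE _).out 0 2 rfl rfl).mpr
    rw [AdicCompletion.maximalIdeal_eq_map (R := A), Ideal.map_map, hcomp, ← Ideal.map_map,
      AdicCompletion.maximalIdeal_eq_map (R := A')]
    exact Ideal.map_mono hle
  letI : Algebra (EGA4.Cpl A) (EGA4.Cpl A') :=
    (FSch.complMap (maximalIdeal A) (maximalIdeal A') (algebraMap A A') hle).toAlgebra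
  haveI : IsScalarTower A A' (EGA4.Cpl A') := IsScalarTower.of_algebraMap_eq (fun _ => rfl)
  haveI : IsScalarTower A (EGA4.Cpl A) (EGA4.Cpl A') :=
    IsScalarTower.of_algebraMap_eq (fun a => (hg a).symm)
  haveI : Module.Flat (EGA4.Cpl A) (EGA4.Cpl A') := hgflat
  haveI : IsLocalHom (algebraMap (EGA4.Cpl A) (EGA4.Cpl A')) := hloc
  haveI : Module.FaithfullyFlat (EGA4.Cpl A) (EGA4.Cpl A') :=
    Module.FaithfullyFlat.of_flat_of_isLocalHom
  haveI : Module.Flat A' (EGA4.Cpl A') := hA'.1
  intro p _
  exact aux A A' (EGA4.Cpl A) (EGA4.Cpl A') hf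
    (fun q _ => isCMRing_fiber_of_isRegularHom hA' q) p

end Groth.Agent.S4744
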