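import Groth.Statements.S4754
import Groth.Agent.H29.QuotFib
import Groth.Agent.S4744

set_option maxHeartbeats 400000
set_option linter.style.haveILetI false
open TensorProduct

set_option autoImplicit false
universe u
open EGA4

namespace Groth.Agent.S4754

/-- For the property 'geometrically normal', case of a local ring: if the formal fibres of a Noetherian
local ring A are geometrically normal, then so are the formal fibres of A/I for every proper ideal I
of A. -/
theorem result (A : Type u) [CommRing A] [IsNoetherianRing A] [IsLocalRing A]
    (hA : EGA4.HasGeomNormalFormalFibres A) (I : Ideal A) [Nontrivial (A ⧸ I)] :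
    EGA4.HasGeomNormalFormalFibres (A ⧸ I) := by
  intro p' _ k' _ _ hfin
  obtain ⟨alg, hfin', ⟨e⟩⟩ := Groth.Agent.H29.QuotFib.exists_formalFibre_equiv A I p' k' hfin
  letI := alg
  have h3 : EGA4.IsNormalRing (k' ⊗[(p'.comap (algebraMap A (A ⧸ I))).ResidueField]
      EGA4.formalFibre A (p'.comap (algebraMap A (A ⧸ I)))) :=
    hA (p'.comap (algebraMap A (A ⧸ I))) k' hfin'
  exact Groth.Agent.H34.FibLoc.isNormalRing_of_ringEquiv e h3

end Groth.Agent.S4754
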