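import Groth.Statements.S4743
import Groth.Agent.H29.FinDomain
import Groth.Agent.H25.GeomRedFib
set_option maxHeartbeats 400000
set_option linter.style.haveILetI false

set_option autoImplicit false
universe u
open EGA4

namespace Groth.Agent.S4743

open TensorProduct

theorem reduced_tensor_of_finite_domains (A : Type u) [CommRing A] [IsNoetherianRing A]
    [IsLocalRing A]
    (h : ∀ (B : Type u) [CommRing B] [IsDomain B] [Algebra A B] [Module.Finite A B]
        (q : Ideal (B ⊗[A] EGA4.Cpl A)) [q.IsPrime],
        q.comap (algebraMap B (B ⊗[A] EGA4.Cpl A)) = ⊥ →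
          IsReduced (Localization.AtPrime q))
    (p : Ideal A) [p.IsPrime] (K : Type u) [Field K] [Algebra p.ResidueField K]
    [Module.Finite p.ResidueField K] :
    IsReduced (K ⊗[p.ResidueField] (p.Fiber (EGA4.Cpl A))) := by
  letI : Algebra (A ⧸ p) K :=
    ((algebraMap p.ResidueField K).comp (algebraMap (A ⧸ p) p.ResidueField)).toAlgebra
  haveI : IsScalarTower (A ⧸ p) p.ResidueField K := IsScalarTower.of_algebraMap_eq (fun _ => rfl)
  letI : Algebra A K :=
    ((algebraMap p.ResidueField K).comp (algebraMap A p.ResidueField)).toAlgebra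
  haveI : IsScalarTower A p.ResidueField K := IsScalarTower.of_algebraMap_eq (fun _ => rfl)
  haveI : IsScalarTower A (A ⧸ p) K := IsScalarTower.of_algebraMap_eq (fun x => by
    change algebraMap p.ResidueField K (algebraMap A p.ResidueField x) =
      algebraMap p.ResidueField K (algebraMap (A ⧸ p) p.ResidueField (algebraMap A (A ⧸ p) x))
    rw [← IsScalarTower.algebraMap_apply A (A ⧸ p) p.ResidueField])
  let e2 : K ⊗[p.ResidueField] (p.Fiber (EGA4.Cpl A)) ≃+* K ⊗[A] EGA4.Cpl A :=
    (Algebra.TensorProduct.cancelBaseChange A p.ResidueField p.ResidueField K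
      (EGA4.Cpl A)).toRingEquiv
  haveI hT' : IsReduced (K ⊗[A] EGA4.Cpl A) := by
    refine isReduced_ofLocalizationMaximal _ (fun q' hq' => ?_)
    haveI := hq'.isPrime
    exact Groth.Agent.H29.FinDomain.forall_loc_tensor_field
      (fun X _ => IsReduced X)
      (fun X Y _ _ e h => isReduced_of_injective (e.symm : Y →+* X) e.symm.injective)
      A (A ⧸ p) p.ResidueField K (EGA4.Cpl A) (fun B _ _ _ _ q _ hq => h B q hq) q'
  exact isReduced_of_injective
    (e2 : K ⊗[p.ResidueField] (p.Fiber (EGA4.Cpl A)) →+* K ⊗[A] EGA4.Cpl A) e2.injective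

theorem geomReduced_of_finite_domains (A : Type u) [CommRing A] [IsNoetherianRing A]
    [IsLocalRing A]
    (h : ∀ (B : Type u) [CommRing B] [IsDomain B] [Algebra A B] [Module.Finite A B]
        (q : Ideal (B ⊗[A] EGA4.Cpl A)) [q.IsPrime],
        q.comap (algebraMap B (B ⊗[A] EGA4.Cpl A)) = ⊥ →
          IsReduced (Localization.AtPrime q))
    (p : Ideal A) [p.IsPrime] :
    Algebra.IsGeometricallyReduced p.ResidueField (EGA4.formalFibre A p) := by
  have h2 := (Groth.Agent.H25.GeomRed.tfae_geometricallyReduced (k := p.ResidueField)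
    (S := p.Fiber (EGA4.Cpl A))).out 0 1
  apply h2.mp
  intro K _ _ _ _
  exact reduced_tensor_of_finite_domains A h p K

open TensorProduct in
/-- For the property 'geometrically reduced', case of a local ring: let A be a Noetherian local ring
with completion Â. Then the formal fibres of A are geometrically reduced if and only if, for every
finite A-algebra B which is a domain and every prime ideal q of B ⊗_A Â whose contraction to B is
zero, the local ring of B ⊗_A Â at q is reduced. (The published statement is for semi-local rings;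
this row takes A local.) -/
theorem result (A : Type u) [CommRing A] [IsNoetherianRing A]
    [IsLocalRing A] :
    EGA4.HasGeomReducedFormalFibres A ↔
      ∀ (B : Type u) [CommRing B] [IsDomain B] [Algebra A B] [Module.Finite A B]
        (q : Ideal (B ⊗[A] EGA4.Cpl A)) [q.IsPrime],
        q.comap (algebraMap B (B ⊗[A] EGA4.Cpl A)) = ⊥ → IsReduced (Localization.AtPrime q) := by
  constructor
  · intro hred B _ _ _ _ q _ hq0
    haveI hK : IsReduced (FractionRing B ⊗[A] EGA4.Cpl A) :=
      Groth.Agent.H25.GeomRedFib.isReduced_tensor_of_geomReducedFibres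
        (A := A) (B := EGA4.Cpl A) (fun p _ => hred p) (FractionRing B)
    haveI hT' : IsReduced ((B ⊗[A] EGA4.Cpl A) ⊗[B] FractionRing B) :=
      isReduced_of_injective
        ((Groth.Agent.H29.FinDomain.tensorFracEquiv A B (EGA4.Cpl A) (FractionRing B)) :
          (B ⊗[A] EGA4.Cpl A) ⊗[B] FractionRing B →+* FractionRing B ⊗[A] EGA4.Cpl A)
        (Groth.Agent.H29.FinDomain.tensorFracEquiv A B (EGA4.Cpl A) (FractionRing B)).injective
    exact Groth.Agent.H29.FinDomain.loc_of_forall_fraction
      (fun X _ => IsReduced X)
      (fun X Y _ _ e h => isReduced_of_injective (e.symm : Y →+* X) e.symm.injective)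
      A B (EGA4.Cpl A) (FractionRing B)
      (fun q' _ => inferInstance) q hq0
  · intro h p _
    exact geomReduced_of_finite_domains A h p

end Groth.Agent.S4743
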