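import Groth.Statements.S13606
import Groth.Agent.H68.Quot

set_option autoImplicit false
universe u
open CategoryTheory AlgebraicGeometry
open SGA1

namespace Groth.Agent.S13606

open Groth.Agent.H68.Quot

theorem appLE_congr_hom {X Z : Scheme.{u}} {f f' : X ⟶ Z} (hf : f = f') (W : Z.Opens)
    (V : X.Opens) (e : V ≤ f ⁻¹ᵁ W) (e' : V ≤ f' ⁻¹ᵁ W) : f.appLE W V e = f'.appLE W V e' := by
  subst hf; rfl


/-- Let a finite group G act on a scheme X and let p : X ⟶ Y be a quotient of X by G (affine,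
G-invariant, sections of O_Y over every open = G-invariant sections of O_X over its preimage). Then
for every open U ⊆ Y, U is the quotient of p⁻¹U by G: the restriction p⁻¹U ⟶ U of p is again a
quotient in the same sense, for the action ρU of G on the G-stable open p⁻¹U induced by ρ (pinned by
compatibility with the inclusion p⁻¹U ⟶ X). -/
theorem result {X Y : Scheme.{u}} {G : Type u} [Group G] [Finite G]
    (ρ : G →* Aut X) (p : X ⟶ Y) (hp : SGA1.IsQuot ρ p) (U : Y.Opens)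
    (ρU : G →* Aut (p ⁻¹ᵁ U).toScheme)
    (hρU : ∀ g : G, (ρU g).hom ≫ (p ⁻¹ᵁ U).ι = (p ⁻¹ᵁ U).ι ≫ (ρ g).hom) :
    SGA1.IsQuot ρU (p ∣_ U) := by
  have := hp.affine
  have hinv : ∀ g : G, (ρU g).hom ≫ (p ∣_ U) = p ∣_ U := by
    intro g
    rw [← cancel_mono U.ι, Category.assoc, morphismRestrict_ι, ← Category.assoc, hρU,
      Category.assoc, hp.inv]
  refine ⟨IsZariskiLocalAtTarget.restrict ‹IsAffineHom p› U, hinv, ?_, ?_⟩
  · intro W a b hab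
    rw [morphismRestrict_app] at hab
    apply hp.injective (U.ι ''ᵁ W)
    exact (ConcreteCategory.bijective_of_isIso
      (X.presheaf.map (eqToHom (image_morphismRestrict_preimage p U W)).op)).1 hab
  · intro W s
    have E := image_morphismRestrict_preimage p U W
    have e₀ : (p ∣_ U) ⁻¹ᵁ W ≤ (p ⁻¹ᵁ U).ι ⁻¹ᵁ (p ⁻¹ᵁ (U.ι ''ᵁ W)) := by
      intro x hx
      show (p ⁻¹ᵁ U).ι.base x ∈ p ⁻¹ᵁ (U.ι ''ᵁ W)
      rw [← E]
      exact ⟨x, hx, rfl⟩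
    have hκ : (p ⁻¹ᵁ U).ι.appLE (p ⁻¹ᵁ (U.ι ''ᵁ W)) ((p ∣_ U) ⁻¹ᵁ W) e₀ =
        X.presheaf.map (eqToHom E).op := by
      rw [Scheme.Opens.ι_appLE]
      exact congrArg (fun k => X.presheaf.map (Quiver.Hom.op k)) (Subsingleton.elim _ _)
    have hbij : Function.Bijective
        ((p ⁻¹ᵁ U).ι.appLE (p ⁻¹ᵁ (U.ι ''ᵁ W)) ((p ∣_ U) ⁻¹ᵁ W) e₀).hom := by
      rw [hκ]
      exact ConcreteCategory.bijective_of_isIso (X.presheaf.map (eqToHom E).op)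
    have happ : (p ∣_ U).app W = p.app (U.ι ''ᵁ W) ≫
        (p ⁻¹ᵁ U).ι.appLE (p ⁻¹ᵁ (U.ι ''ᵁ W)) ((p ∣_ U) ⁻¹ᵁ W) e₀ := by
      rw [hκ]
      exact morphismRestrict_app p U W
    have hcompat : ∀ g : G,
        (ρ g).hom.appLE (p ⁻¹ᵁ (U.ι ''ᵁ W)) (p ⁻¹ᵁ (U.ι ''ᵁ W))
            (SGA1.preimage_le_of_inv ρ p hp.inv g (U.ι ''ᵁ W)) ≫
          (p ⁻¹ᵁ U).ι.appLE (p ⁻¹ᵁ (U.ι ''ᵁ W)) ((p ∣_ U) ⁻¹ᵁ W) e₀ =
        (p ⁻¹ᵁ U).ι.appLE (p ⁻¹ᵁ (U.ι ''ᵁ W)) ((p ∣_ U) ⁻¹ᵁ W) e₀ ≫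
          (ρU g).hom.appLE ((p ∣_ U) ⁻¹ᵁ W) ((p ∣_ U) ⁻¹ᵁ W)
            (SGA1.preimage_le_of_inv ρU (p ∣_ U) hinv g W) := by
      intro g
      rw [Scheme.Hom.appLE_comp_appLE, Scheme.Hom.appLE_comp_appLE]
      exact (appLE_congr_hom (hρU g) _ _ _ _).symm
    constructor
    · rintro ⟨t, rfl⟩ g
      have h1 := Scheme.Hom.appLE_comp_appLE (ρU g).hom (p ∣_ U) W ((p ∣_ U) ⁻¹ᵁ W)
        ((p ∣_ U) ⁻¹ᵁ W) le_rfl (SGA1.preimage_le_of_inv ρU (p ∣_ U) hinv g W)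
      have h2 := appLE_congr_hom (hinv g) W ((p ∣_ U) ⁻¹ᵁ W)
        ((SGA1.preimage_le_of_inv ρU (p ∣_ U) hinv g W).trans
          ((TopologicalSpace.Opens.map (ρU g).hom.base).map (homOfLE le_rfl)).le) le_rfl
      rw [h2, Scheme.Hom.appLE_eq_app] at h1
      exact congr($(h1).hom t)
    · intro hs
      obtain ⟨t', rfl⟩ := hbij.2 s
      have ht' : t' ∈ Set.range (p.app (U.ι ''ᵁ W)).hom := by
        rw [hp.range_iff]
        intro g
        apply hbij.1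
        have := congr($(hcompat g).hom t')
        exact this.trans (hs g)
      obtain ⟨t, rfl⟩ := ht'
      exact ⟨t, congr($(happ).hom t)⟩

end Groth.Agent.S13606
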