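import Groth.Statements.S2925
import Groth.Agent.H68.Quot

set_option autoImplicit false
open CategoryTheory CategoryTheory.Limits AlgebraicGeometry
universe u
open SGA1

namespace Groth.Agent.S2925

open Groth.Agent.H68.Quot CategoryTheory.Limits Opposite

/-- A surjective morphism of schemes which is injective on sections is an epimorphism. -/
theorem epi_of_surjective_of_app_injective {S' S : Scheme.{u}} (g : S' ⟶ S) [Surjective g]
    (hinj : ∀ U : S.Opens, Function.Injective (g.app U).hom) : Epi g := by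
  constructor
  intro T a b hab
  have hbase : a.base = b.base := by
    ext s
    obtain ⟨s', rfl⟩ := g.surjective s
    have h1 : (g ≫ a) s' = (g ≫ b) s' := by rw [hab]
    simpa using h1
  refine Scheme.Hom.ext hbase (fun U => ?_)
  have h1 := Scheme.Hom.congr_app hab U
  have h3 : ∀ (V : S'.Opens) (f : op V ⟶ op V), S'.presheaf.map f = 𝟙 _ := by
    intro V f
    have hf : f = 𝟙 _ := Subsingleton.elim _ _
    rw [hf]
    exact S'.presheaf.map_id _
  have h4 : ∀ {A B C : CommRingCat.{u}} (p : A ⟶ B) (q : B ⟶ C) (r : C ⟶ B),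
      q ≫ r = 𝟙 _ → (p ≫ q) ≫ r = p := by
    intro A B C p q r h
    rw [Category.assoc, h, Category.comp_id]
  have key : (a.app U ≫ S.presheaf.map
      (eqToHom congr((TopologicalSpace.Opens.map $hbase.symm).obj U)).op) ≫ g.app (b ⁻¹ᵁ U)
      = b.app U ≫ g.app (b ⁻¹ᵁ U) := by
    rw [Category.assoc, g.naturality]
    change (g ≫ a).app U ≫ _ = (g ≫ b).app U
    rw [h1]
    refine h4 _ _ _ ?_
    exact (S'.presheaf.map_comp _ _).symm.trans (h3 _ _)
  apply CommRingCat.hom_ext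
  apply RingHom.ext
  intro x
  apply hinj
  exact congr($(key).hom x)

/-- Lifting a ring homomorphism through an injective one containing its image. -/
noncomputable def liftRingHom {A B C : Type u} [CommRing A] [CommRing B] [CommRing C]
    (φ : A →+* B) (hφ : Function.Injective φ) (χ : C →+* B) (hχ : ∀ c, χ c ∈ Set.range φ) :
    C →+* A where
  toFun c := (hχ c).choose
  map_one' := hφ (by rw [(hχ 1).choose_spec, map_one, map_one])
  map_mul' a b := hφ (by
    rw [(hχ (a * b)).choose_spec, map_mul, map_mul, (hχ a).choose_spec, (hχ b).choose_spec])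
  map_zero' := hφ (by rw [(hχ 0).choose_spec, map_zero, map_zero])
  map_add' a b := hφ (by
    rw [(hχ (a + b)).choose_spec, map_add, map_add, (hχ a).choose_spec, (hχ b).choose_spec])

theorem liftRingHom_spec {A B C : Type u} [CommRing A] [CommRing B] [CommRing C]
    (φ : A →+* B) (hφ : Function.Injective φ) (χ : C →+* B) (hχ : ∀ c, χ c ∈ Set.range φ)
    (c : C) : φ (liftRingHom φ hφ χ hχ c) = χ c :=
  (hχ c).choose_spec

theorem appLE_congr_hom {X Z : Scheme.{u}} {f f' : X ⟶ Z} (hf : f = f') (W : Z.Opens)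
    (V : X.Opens) (e : V ≤ f ⁻¹ᵁ W) (e' : V ≤ f' ⁻¹ᵁ W) : f.appLE W V e = f'.appLE W V e' := by
  subst hf; rfl

section

variable {X Y Z : Scheme.{u}} {G : Type u} [Group G] [Finite G] {ρ : G →* Aut X} {p : X ⟶ Y}
  (hp : SGA1.IsQuot ρ p) (h : X ⟶ Z) (hh : ∀ g : G, (ρ g).hom ≫ h = h)

include hp in
theorem epi_restrict (U : Y.Opens) : Epi (p ∣_ U) := by
  have : Surjective p := ⟨surjective hp⟩
  have : Surjective (p ∣_ U) := IsZariskiLocalAtTarget.restrict ‹Surjective p› U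
  apply epi_of_surjective_of_app_injective
  intro W a b hab
  rw [morphismRestrict_app] at hab
  apply hp.injective (U.ι ''ᵁ W)
  exact (ConcreteCategory.bijective_of_isIso
    (X.presheaf.map (eqToHom (image_morphismRestrict_preimage p U W)).op)).1 hab

omit [Finite G] in
include hp hh in
theorem appLE_mem_range (U : Y.Opens) (W : Z.Opens) (e : p ⁻¹ᵁ U ≤ h ⁻¹ᵁ W) (s : Γ(Z, W)) :
    (h.appLE W (p ⁻¹ᵁ U) e).hom s ∈ Set.range (p.app U).hom := by
  rw [hp.range_iff]
  intro g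
  have h1 := Scheme.Hom.appLE_comp_appLE (ρ g).hom h W (p ⁻¹ᵁ U) (p ⁻¹ᵁ U) e
    (SGA1.preimage_le_of_inv ρ p hp.inv g U)
  have h2 := appLE_congr_hom (hh g) W (p ⁻¹ᵁ U)
    ((SGA1.preimage_le_of_inv ρ p hp.inv g U).trans
      ((TopologicalSpace.Opens.map (ρ g).hom.base).map (homOfLE e)).le) e
  rw [h2] at h1
  exact congr($(h1).hom s)

/-- The local descended morphism on an affine open `U` of `Y` with `p⁻¹U ⊆ h⁻¹W`, `W` affine. -/
noncomputable def locHom {U : Y.Opens} (hU : IsAffineOpen U) {W : Z.Opens} (hW : IsAffineOpen W)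
    (e : p ⁻¹ᵁ U ≤ h ⁻¹ᵁ W) : (U : Scheme.{u}) ⟶ Z :=
  hU.isoSpec.hom ≫ Spec.map (CommRingCat.ofHom (liftRingHom (p.app U).hom (hp.injective U)
    (h.appLE W (p ⁻¹ᵁ U) e).hom (appLE_mem_range hp h hh U W e))) ≫ hW.fromSpec

theorem isoSpec_inv_restrict {U : Y.Opens} (hU : IsAffineOpen U)
    (hV : IsAffineOpen (p ⁻¹ᵁ U)) :
    hV.isoSpec.inv ≫ (p ∣_ U) = Spec.map (p.app U) ≫ hU.isoSpec.inv := by
  rw [← cancel_mono U.ι, Category.assoc, Category.assoc, morphismRestrict_ι,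
    IsAffineOpen.isoSpec_inv_ι, IsAffineOpen.isoSpec_inv_ι_assoc,
    ← IsAffineOpen.SpecMap_appLE_fromSpec p hU hV le_rfl, Scheme.Hom.appLE_eq_app]

theorem restrict_comp_locHom {U : Y.Opens} (hU : IsAffineOpen U) {W : Z.Opens}
    (hW : IsAffineOpen W) (e : p ⁻¹ᵁ U ≤ h ⁻¹ᵁ W) :
    (p ∣_ U) ≫ locHom hp h hh hU hW e = (p ⁻¹ᵁ U).ι ≫ h := by
  have hV : IsAffineOpen (p ⁻¹ᵁ U) := hp.affine.isAffine_preimage U hU
  rw [← cancel_epi hV.isoSpec.inv, locHom, ← Category.assoc, isoSpec_inv_restrict hU hV,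
    Category.assoc, Iso.inv_hom_id_assoc, ← Spec.map_comp_assoc,
    IsAffineOpen.isoSpec_inv_ι_assoc, ← IsAffineOpen.SpecMap_appLE_fromSpec h hW hV e]
  congr 2
  apply CommRingCat.hom_ext
  apply RingHom.ext
  intro s
  exact liftRingHom_spec (p.app U).hom (hp.injective U) (h.appLE W (p ⁻¹ᵁ U) e).hom
    (appLE_mem_range hp h hh U W e) s

include hp in
theorem eq_of_restrict_comp_eq {U U' : Y.Opens} (hle : U ≤ U') (t : (U : Scheme.{u}) ⟶ U')
    (ht : t ≫ U'.ι = U.ι) (φ : (U : Scheme.{u}) ⟶ Z) (φ' : (U' : Scheme.{u}) ⟶ Z)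
    (hφ : (p ∣_ U) ≫ φ = (p ⁻¹ᵁ U).ι ≫ h) (hφ' : (p ∣_ U') ≫ φ' = (p ⁻¹ᵁ U').ι ≫ h) :
    t ≫ φ' = φ := by
  have := epi_restrict hp U
  have hle' : p ⁻¹ᵁ U ≤ p ⁻¹ᵁ U' := fun x hx => hle hx
  have hsq : (p ∣_ U) ≫ t = X.homOfLE hle' ≫ (p ∣_ U') := by
    rw [← cancel_mono U'.ι, Category.assoc, Category.assoc, ht, morphismRestrict_ι,
      morphismRestrict_ι, Scheme.homOfLE_ι_assoc]
  rw [← cancel_epi (p ∣_ U), ← Category.assoc, hsq, Category.assoc, hφ', hφ,
    Scheme.homOfLE_ι_assoc]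

theorem snd_comp_eq {U : Y.Opens} (φ : (U : Scheme.{u}) ⟶ Z)
    (hφ : (p ∣_ U) ≫ φ = (p ⁻¹ᵁ U).ι ≫ h) :
    pullback.snd p U.ι ≫ φ = pullback.fst p U.ι ≫ h := by
  rw [← pullbackRestrictIsoRestrict_hom_morphismRestrict, Category.assoc, hφ,
    pullbackRestrictIsoRestrict_hom_ι_assoc]

/-- Admissible opens of `Y`: affine opens whose preimage lands in an affine open of `Z`. -/
def Adm (p : X ⟶ Y) (h : X ⟶ Z) (U : Y.Opens) : Prop :=
  IsAffineOpen U ∧ ∃ W : Z.Opens, IsAffineOpen W ∧ p ⁻¹ᵁ U ≤ h ⁻¹ᵁ W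

include hp hh in
theorem adm_isBasis : TopologicalSpace.Opens.IsBasis {U : Y.Opens | Adm p h U} := by
  rw [TopologicalSpace.Opens.isBasis_iff_nbhd]
  intro O y hyO
  obtain ⟨x, rfl⟩ := surjective hp y
  obtain ⟨W, hW, hxW, -⟩ := exists_isAffineOpen_mem_and_subset (x := h.base x) (U := ⊤) trivial
  have : IsIntegralHom p := isIntegralHom hp
  have hcl : IsClosed (p.base '' ((h ⁻¹ᵁ W : Set X)ᶜ)) :=
    p.isClosedMap _ (h ⁻¹ᵁ W).isOpen.isClosed_compl
  have hy : p.base x ∉ p.base '' ((h ⁻¹ᵁ W : Set X)ᶜ) := by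
    rintro ⟨x', hx'F, hx'⟩
    obtain ⟨g, rfl⟩ := exists_smul_eq_of_map_eq hp x x' hx'.symm
    apply hx'F
    show h.base ((ρ g).hom.base x) ∈ W
    rw [← Scheme.Hom.comp_apply, hh g]; exact hxW
  obtain ⟨U, hU, hyU, hUO'⟩ := exists_isAffineOpen_mem_and_subset (x := p.base x)
    (U := O ⊓ ⟨(p.base '' ((h ⁻¹ᵁ W : Set X)ᶜ))ᶜ, hcl.isOpen_compl⟩) ⟨hyO, hy⟩
  refine ⟨U, ⟨hU, W, hW, ?_⟩, hyU, fun z hz => (hUO' hz).1⟩
  intro x'' hx''
  by_contra hc
  exact (hUO' hx'').2 ⟨x'', hc, rfl⟩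

/-- The open cover of `Y` by admissible opens. -/
noncomputable def admCover : Y.OpenCover where
  I₀ := {U : Y.Opens // Adm p h U}
  X U := U.1
  f U := U.1.ι
  mem₀ := by
    rw [Scheme.presieve₀_mem_precoverage_iff]
    refine ⟨fun y => ?_, inferInstance⟩
    obtain ⟨U, hU, hyU, -⟩ := TopologicalSpace.Opens.isBasis_iff_nbhd.1 (adm_isBasis hp h hh)
      (show y ∈ (⊤ : Y.Opens) from trivial)
    exact ⟨⟨U, hU⟩, ⟨⟨y, hyU⟩, rfl⟩⟩

noncomputable instance : Preorder (admCover hp h hh).I₀ :=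
  inferInstanceAs (Preorder {U : Y.Opens // Adm p h U})

noncomputable instance : Scheme.Cover.LocallyDirected (admCover hp h hh) :=
  .ofIsBasisOpensRange (by intro i j; simp [admCover]; rfl) (by
    convert adm_isBasis hp h hh
    ext U
    simp [admCover])

/-- The family of local morphisms. -/
noncomputable def locFam (U : (admCover hp h hh).I₀) : (admCover hp h hh).X U ⟶ Z :=
  locHom hp h hh U.2.1 U.2.2.choose_spec.1 U.2.2.choose_spec.2

theorem restrict_comp_locFam (U : (admCover hp h hh).I₀) :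
    (p ∣_ U.1) ≫ locFam hp h hh U = (p ⁻¹ᵁ U.1).ι ≫ h :=
  restrict_comp_locHom hp h hh _ _ _

theorem locFam_compat {i j : (admCover hp h hh).I₀} (hij : i ⟶ j) :
    (admCover hp h hh).trans hij ≫ locFam hp h hh j = locFam hp h hh i :=
  eq_of_restrict_comp_eq hp h (leOfHom hij) ((admCover hp h hh).trans hij)
    ((admCover hp h hh).trans_map hij) (locFam hp h hh i) (locFam hp h hh j)
    (restrict_comp_locFam hp h hh i) (restrict_comp_locFam hp h hh j)

include hp hh in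
theorem exists_desc : ∃ h' : Y ⟶ Z, p ≫ h' = h := by
  refine ⟨(admCover hp h hh).glueMorphismsOfLocallyDirected (locFam hp h hh)
    (fun hij => locFam_compat hp h hh hij), ?_⟩
  apply ((admCover hp h hh).pullback₁ p).hom_ext
  intro i
  have hcond : pullback.fst p i.1.ι ≫ p = pullback.snd p i.1.ι ≫ i.1.ι := pullback.condition
  have hglue : i.1.ι ≫ (admCover hp h hh).glueMorphismsOfLocallyDirected (locFam hp h hh)
      (fun hij => locFam_compat hp h hh hij) = locFam hp h hh i :=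
    Scheme.OpenCover.map_glueMorphismsOfLocallyDirected (admCover hp h hh) (locFam hp h hh)
      (fun hij => locFam_compat hp h hh hij) i
  show pullback.fst p i.1.ι ≫ p ≫ _ = pullback.fst p i.1.ι ≫ h
  rw [← Category.assoc, hcond, Category.assoc, hglue]
  exact snd_comp_eq h (locFam hp h hh i) (restrict_comp_locFam hp h hh i)

end


/-- Let a finite group G act on a scheme X and let p : X ⟶ Y be a quotient of X by G. Then every
G-invariant morphism X ⟶ Z factors uniquely through p. -/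
theorem result {X Y : Scheme.{u}} {G : Type u} [Group G] [Finite G] (ρ : G →* Aut X)
    (p : X ⟶ Y) (hp : SGA1.IsQuot ρ p) (Z : Scheme.{u}) (h : X ⟶ Z) (hh : ∀ g : G, (ρ g).hom ≫ h = h) :
    ∃! h' : Y ⟶ Z, p ≫ h' = h := by
  obtain ⟨h', hh'⟩ := exists_desc hp h hh
  have : Surjective p := ⟨surjective hp⟩
  have : Epi p := epi_of_surjective_of_app_injective p hp.injective
  exact ⟨h', hh', fun h'' hh'' => (cancel_epi p).1 (hh''.trans hh'.symm)⟩

end Groth.Agent.S2925
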