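import Groth.Statements.S0386
import Groth.Agent.H57.FlatPt4
import Groth.Agent.H48.StalkLocal2

set_option autoImplicit false
universe u
open FlatMor

namespace Groth.Agent.S0386

open AlgebraicGeometry CategoryTheory Limits in
/-- Openness of the flat locus: for a morphism f : X ⟶ S locally of finite presentation, the set of
points x of X at which the local ring O_{X,x} is flat over O_{S,f(x)} is open in X. (The published
statement also treats the flat locus of a finitely presented quasi-coherent module; stated here for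
the structure sheaf.) -/
theorem result {X S : Scheme.{u}} (f : X ⟶ S) [LocallyOfFinitePresentation f] :
    IsOpen {x : X | (f.stalkMap x).hom.Flat} := by
  rw [isOpen_iff_forall_mem_open]
  intro x hx
  obtain ⟨V, hV, hxV, -⟩ :=
    exists_isAffineOpen_mem_and_subset (x := f x) (U := (⊤ : S.Opens)) trivial
  obtain ⟨W, hW, hxW, hWV⟩ :=
    exists_isAffineOpen_mem_and_subset (x := x) (U := f ⁻¹ᵁ V) hxV
  have hfp := f.finitePresentation_appLE hV hW hWV
  algebraize [(f.appLE V W hWV).hom]
  have key : ∀ (y : X) (hyW : y ∈ W), (f.stalkMap y).hom.Flat ↔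
      hW.primeIdealOf ⟨y, hyW⟩ ∈ Groth.Agent.H57.FlatPt.flatLocus Γ(S, V) Γ(X, W) := by
    intro y hyW
    rw [Groth.Agent.H48.flat_stalkMap_iff V hV W hW hWV hyW]
    let p := (hV.primeIdealOf ⟨f y, hWV hyW⟩).asIdeal
    let q := (hW.primeIdealOf ⟨y, hyW⟩).asIdeal
    have : q.LiesOver p :=
      ⟨congr($(IsAffineOpen.comap_primeIdealOf_appLE V hV W hW hWV hyW).1).symm⟩
    let := Localization.AtPrime.algebraOfLiesOver p q
    exact Module.flat_iff_of_isLocalization (Localization.AtPrime p) p.primeCompl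
      (Localization.AtPrime q)
  have hopen := Groth.Agent.H57.FlatPt.isOpen_flatLocus Γ(S, V) Γ(X, W)
  refine ⟨hW.fromSpec '' Groth.Agent.H57.FlatPt.flatLocus Γ(S, V) Γ(X, W), ?_,
    hW.fromSpec.isOpenEmbedding.isOpenMap _ hopen,
    ⟨hW.primeIdealOf ⟨x, hxW⟩, (key x hxW).mp hx, hW.fromSpec_primeIdealOf ⟨x, hxW⟩⟩⟩
  rintro _ ⟨q, hq, rfl⟩
  have hyW : hW.fromSpec q ∈ W := by
    have : hW.fromSpec q ∈ Set.range hW.fromSpec := ⟨q, rfl⟩
    rw [hW.range_fromSpec] at this
    exact this
  have hq' : hW.primeIdealOf ⟨hW.fromSpec q, hyW⟩ = q :=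
    hW.fromSpec.isOpenEmbedding.injective (hW.fromSpec_primeIdealOf ⟨hW.fromSpec q, hyW⟩)
  show (f.stalkMap (hW.fromSpec q)).hom.Flat
  rw [key _ hyW, hq']
  exact hq

end Groth.Agent.S0386
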