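import Groth.Statements.S4366
import Mathlib

set_option autoImplicit false
set_option linter.style.haveILetI false
universe u
open SchMor

namespace Groth.Agent.S4366

open AlgebraicGeometry CategoryTheory TopologicalSpace in
theorem flat_fromSpecStalk (X : Scheme.{u}) (x : X) : Flat (X.fromSpecStalk x) := by
  obtain ⟨_, ⟨U, hU, rfl⟩, hxU, -⟩ :=
    X.isBasis_affineOpens.exists_subset_of_mem_open (Set.mem_univ x) isOpen_univ
  rw [← hU.fromSpecStalk_eq_fromSpecStalk hxU]
  dsimp [IsAffineOpen.fromSpecStalk]
  have : Flat (Spec.map (X.presheaf.germ U x hxU)) := by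
    rw [Flat.SpecMap_iff]
    letI : Algebra Γ(X, U) (X.presheaf.stalk x) := (X.presheaf.germ U x hxU).hom.toAlgebra
    haveI := hU.isLocalization_stalk ⟨x, hxU⟩
    exact IsLocalization.flat (X.presheaf.stalk x) (hU.primeIdealOf ⟨x, hxU⟩).asIdeal.primeCompl
  have h2 : IsOpenImmersion hU.fromSpec := hU.isOpenImmersion_fromSpec
  exact Flat.comp _ _

open AlgebraicGeometry in
open CategoryTheory in
open CategoryTheory.Limits in
/-- Let f : X -> Y be a morphism, y a point of Y and Z = Spec O_{Y,y} the local scheme of Y at y with
its canonical morphism to Y. Then the projection p : X x_Y Z -> X induces isomorphisms on all local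
rings: for every point t of X x_Y Z the homomorphism O_{X, p t} -> O_{X x_Y Z, t} is bijective. (The
published statement also asserts that p is a homeomorphism onto the preimage of Z; that part is not
stated here.) -/
theorem result
    {X Y : Scheme.{u}} (f : X ⟶ Y) (y : Y) (t : ↑(pullback f (Y.fromSpecStalk y))) :
    IsIso ((pullback.fst f (Y.fromSpecStalk y)).stalkMap t) := by
  haveI : Flat (Y.fromSpecStalk y) := flat_fromSpecStalk Y y
  have hflat : ((pullback.fst f (Y.fromSpecStalk y)).stalkMap t).hom.Flat :=
    Flat.stalkMap (pullback.fst f (Y.fromSpecStalk y)) t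
  have hsurj : Function.Surjective ((pullback.fst f (Y.fromSpecStalk y)).stalkMap t) :=
    (pullback.fst f (Y.fromSpecStalk y)).stalkMap_surjective t
  have hinj : Function.Injective ((pullback.fst f (Y.fromSpecStalk y)).stalkMap t) := by
    algebraize [((pullback.fst f (Y.fromSpecStalk y)).stalkMap t).hom]
    have : Module.FaithfullyFlat (X.presheaf.stalk ((pullback.fst f (Y.fromSpecStalk y)) t))
        ((pullback f (Y.fromSpecStalk y)).presheaf.stalk t) :=
      @Module.FaithfullyFlat.of_flat_of_isLocalHom _ _ _ _ _ _ _ hflat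
        ((pullback.fst f (Y.fromSpecStalk y)).toLRSHom.prop t)
    exact ‹RingHom.FaithfullyFlat _›.injective
  exact (ConcreteCategory.isIso_iff_bijective _).mpr ⟨hinj, hsurj⟩

end Groth.Agent.S4366
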