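import Groth.Statements.S3399
import Groth.Agent.H17.ProCons
import Mathlib.AlgebraicGeometry.Properties
-- import your own Groth.Agent.* helpers here

set_option autoImplicit false
open CategoryTheory AlgebraicGeometry
universe u
open EGA41

namespace Groth.Agent.S3399

/-- Let f : X' ⟶ X be a morphism locally of finite presentation and E' an ind-constructible subset of
X'. Then f(E') is ind-constructible in X; in particular f(X') is ind-constructible. -/
theorem result {X' X : Scheme.{u}} (f : X' ⟶ X)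
    [LocallyOfFinitePresentation f] (E' : Set X') (hE' : ProCons.IsIndConstructible E') :
    ProCons.IsIndConstructible (f.base '' E') := by
  intro y
  obtain ⟨U, hU, hyU, -⟩ := TopologicalSpace.Opens.isBasis_iff_nbhd.mp X.isBasis_affineOpens
    (U := ⊤) (x := y) trivial
  have hUaff : IsAffineOpen U := hU
  have : IsAffine (U : Scheme.{u}) := hUaff
  let g := f ∣_ U
  let E'' : Set ↥(f ⁻¹ᵁ U : Scheme.{u}) := (f ⁻¹ᵁ U).ι.base ⁻¹' E'
  have hE'' : ProCons.IsIndConstructible E'' :=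
    H17.isIndConstructible_preimage hE' (f ⁻¹ᵁ U).ι.isOpenEmbedding
  let S : Set (Set ↥(U : Scheme.{u})) :=
    {T' | ∃ (V : (f ⁻¹ᵁ U : Scheme.{u}).affineOpens) (T : Set ↥(V.1 : Scheme.{u})),
      Topology.IsConstructible T ∧ T ⊆ V.1.ι.base ⁻¹' E'' ∧ T' = (V.1.ι ≫ g).base '' T}
  refine ⟨(U : Set X), U.isOpen, hyU, S, ?_, ?_⟩
  · rintro T' ⟨V, T, hT, -, rfl⟩
    have : IsAffine (V.1 : Scheme.{u}) := V.2
    have : QuasiCompact (V.1.ι ≫ g) :=
      HasAffineProperty.iff_of_isAffine.mpr (inferInstanceAs (CompactSpace ↥(V.1 : Scheme.{u})))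
    exact (V.1.ι ≫ g).isLocallyConstructible_image hT.isLocallyConstructible
  · apply Set.Subset.antisymm
    · rintro z ⟨e, he, hez⟩
      have heU : e ∈ f ⁻¹ᵁ U := by
        show f.base e ∈ U
        rw [hez]; exact z.2
      let e' : ↥(f ⁻¹ᵁ U : Scheme.{u}) := ⟨e, heU⟩
      have he' : e' ∈ E'' := he
      obtain ⟨V, hV, heV, -⟩ : ∃ V : (f ⁻¹ᵁ U : Scheme.{u}).Opens,
          V ∈ (f ⁻¹ᵁ U : Scheme.{u}).affineOpens ∧ e' ∈ V ∧ V ≤ ⊤ :=
        TopologicalSpace.Opens.isBasis_iff_nbhd.mp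
          (f ⁻¹ᵁ U : Scheme.{u}).isBasis_affineOpens (U := ⊤) (x := e') trivial
      have : IsAffine (V : Scheme.{u}) := hV
      have hEV : ProCons.IsIndConstructible (V.ι.base ⁻¹' E'') :=
        H17.isIndConstructible_preimage hE'' V.ι.isOpenEmbedding
      obtain ⟨SV, hSV, hESV⟩ := H17.exists_eq_sUnion_of_isIndConstructible hEV
      let v : ↥(V : Scheme.{u}) := ⟨e', heV⟩
      have hv : v ∈ V.ι.base ⁻¹' E'' := he'
      rw [hESV] at hv
      obtain ⟨T, hTS, hvT⟩ := hv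
      refine ⟨(V.ι ≫ g).base '' T, ⟨⟨V, hV⟩, T, hSV T hTS, ?_, rfl⟩, v, hvT, ?_⟩
      · rw [hESV]; exact Set.subset_sUnion_of_mem hTS
      · apply Subtype.ext
        have h1 : ((f ∣_ U).base e').1 = f.base e'.1 := morphismRestrict_base_coe f U e'
        rw [← hez]
        exact h1
    · rintro z ⟨T', ⟨V, T, -, hTE, rfl⟩, v, hvT, rfl⟩
      have h1 : V.1.ι.base v ∈ E'' := hTE hvT
      refine ⟨(f ⁻¹ᵁ U).ι.base (V.1.ι.base v), h1, ?_⟩
      exact (morphismRestrict_base_coe f U (V.1.ι.base v)).symm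

end Groth.Agent.S3399
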