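import Groth.Statements.S3403
import Groth.Agent.H17.ProCons
import Mathlib.AlgebraicGeometry.Properties
-- import your own Groth.Agent.* helpers here

set_option autoImplicit false
open CategoryTheory AlgebraicGeometry
universe u
open EGA41

namespace Groth.Agent.S3403

/-- Let X be a scheme, E an ind-constructible subset of X and x a point of X. Then x is an interior
point of E if and only if every generization of x belongs to E. -/
theorem result (X : Scheme.{u}) (E : Set X)
    (hE : ProCons.IsIndConstructible E) (x : X) :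
    x ∈ interior E ↔ ∀ x' : X, x' ⤳ x → x' ∈ E := by
  constructor
  · intro hx x' hx'
    exact interior_subset (hx'.mem_open isOpen_interior hx)
  · intro hgen
    obtain ⟨U, hU, hxU, -⟩ : ∃ U : X.Opens, U ∈ X.affineOpens ∧ x ∈ U ∧ U ≤ ⊤ :=
      TopologicalSpace.Opens.isBasis_iff_nbhd.mp X.isBasis_affineOpens
        (U := ⊤) (x := x) trivial
    have hUaff : IsAffineOpen U := hU
    have : IsAffine (U : Scheme.{u}) := hUaff
    let xU : ↥(U : Scheme.{u}) := ⟨x, hxU⟩
    have hind' : ProCons.IsIndConstructible (U.ι.base ⁻¹' E) :=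
      H17.isIndConstructible_preimage hE U.ι.isOpenEmbedding
    let ι := {V : Set ↥(U : Scheme.{u}) // IsOpen V ∧ IsCompact V ∧ xU ∈ V}
    have hsub : ⋂ i : ι, (i : Set ↥(U : Scheme.{u})) ⊆ U.ι.base ⁻¹' E := by
      intro w hw
      rw [Set.mem_iInter] at hw
      have hspec : w ⤳ xU := by
        rw [specializes_iff_forall_open]
        intro s hs hxs
        obtain ⟨V, ⟨hV₁, hV₂⟩, hxV, hVs⟩ :=
          PrespectralSpace.isTopologicalBasis.mem_nhds_iff.mp (hs.mem_nhds hxs)
        exact hVs (hw ⟨V, hV₁, hV₂, hxV⟩)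
      have h2 : U.ι.base w ⤳ U.ι.base xU := hspec.map U.ι.base.hom.continuous
      exact hgen _ h2
    obtain ⟨J, hJ⟩ := H17.exists_finset_biInter_subset (fun i : ι => (i : Set ↥(U : Scheme.{u})))
      (fun i => H17.gen_isClosed_of_compl _
        (H17.isClopen_constructibleTopology_of_isConstructible
          (i.2.2.1.isConstructible i.2.1)).2)
      (U.ι.base ⁻¹' E) (H17.isOpen_constructibleTopology_of_isIndConstructible hind') hsub
    have hNopen : IsOpen (⋂ i ∈ J, (i : Set ↥(U : Scheme.{u}))) :=
      isOpen_biInter_finset fun i _ => i.2.1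
    have hxN : xU ∈ ⋂ i ∈ J, (i : Set ↥(U : Scheme.{u})) := by
      simp only [Set.mem_iInter]
      intro i _
      exact i.2.2.2
    rw [mem_interior]
    refine ⟨U.ι.base '' (⋂ i ∈ J, (i : Set ↥(U : Scheme.{u}))), ?_,
      U.ι.isOpenEmbedding.isOpenMap _ hNopen, ⟨xU, hxN, rfl⟩⟩
    rintro _ ⟨w, hw, rfl⟩
    exact hJ hw

end Groth.Agent.S3403
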