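import Groth.Statements.S3404
import Groth.Agent.S3399
import Groth.Agent.S3403
-- import your own Groth.Agent.* helpers here

set_option autoImplicit false
open CategoryTheory AlgebraicGeometry
universe u
open EGA41

namespace Groth.Agent.S3404
open scoped Topology

open Topology in
theorem exists_eq_sInter_singleton {U : Type*} [TopologicalSpace U] [T0Space U] [PrespectralSpace U]
    [QuasiSeparatedSpace U] (y : U) :
    ∃ S : Set (Set U), (∀ T ∈ S, IsConstructible T) ∧ {y} = ⋂₀ S := by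
  refine ⟨{D | IsConstructible D ∧ y ∈ D}, fun D hD => hD.1, ?_⟩
  apply Set.Subset.antisymm
  · rintro _ rfl D hD
    exact hD.2
  · intro z hz
    by_contra hne
    have hne' : z ≠ y := hne
    obtain ⟨W, ⟨hW1, hW2⟩, hW⟩ :
        ∃ W ∈ {U' : Set U | IsOpen U' ∧ IsCompact U'}, ¬ (z ∈ W ↔ y ∈ W) := by
      by_contra hcon
      push Not at hcon
      exact hne' ((PrespectralSpace.isTopologicalBasis.eq_iff).mpr hcon)
    by_cases h1 : y ∈ W
    · exact hW ⟨fun _ => h1, fun _ => hz W ⟨hW2.isConstructible hW1, h1⟩⟩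
    · have := hz Wᶜ ⟨(hW2.isConstructible hW1).compl, h1⟩
      exact hW ⟨fun h => absurd h this, fun h => absurd h h1⟩

/-- Generizations lift along a morphism which is open at a point. -/
theorem lift_of_isOpenAt {X Y : Scheme.{u}} (f : X ⟶ Y) (x : X) (hopen : EGA43.IsOpenAt f.base x)
    (y' : Y) (hy' : y' ⤳ f.base x) : ∃ x' : X, x' ⤳ x ∧ f.base x' = y' := by
  obtain ⟨V, hV, hxV, -⟩ : ∃ V : Y.Opens, V ∈ Y.affineOpens ∧ f.base x ∈ V ∧ V ≤ ⊤ :=
    TopologicalSpace.Opens.isBasis_iff_nbhd.mp Y.isBasis_affineOpens (U := ⊤) (x := f.base x) trivial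
  obtain ⟨U, hU, hxU, hUV⟩ : ∃ U : X.Opens, U ∈ X.affineOpens ∧ x ∈ U ∧ U ≤ f ⁻¹ᵁ V :=
    TopologicalSpace.Opens.isBasis_iff_nbhd.mp X.isBasis_affineOpens (U := f ⁻¹ᵁ V) (x := x) hxV
  have hVaff : IsAffineOpen V := hV
  have hUaff : IsAffineOpen U := hU
  have : IsAffine (V : Scheme.{u}) := hVaff
  have : IsAffine (U : Scheme.{u}) := hUaff
  let g := f.resLE V U hUV
  have hg : ∀ w : ↥(U : Scheme.{u}), (g.base w).1 = f.base w.1 := by
    intro w
    have h1 : (g ≫ V.ι).base w = (U.ι ≫ f).base w := by rw [Scheme.Hom.resLE_comp_ι]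
    exact h1
  have hy'V : y' ∈ V := hy'.mem_open V.isOpen hxV
  let yV : ↥(V : Scheme.{u}) := ⟨y', hy'V⟩
  let xU : ↥(U : Scheme.{u}) := ⟨x, hxU⟩
  -- the fibre of `g` over `yV` is closed in the constructible topology
  obtain ⟨Sy, hSy, hySy⟩ := exists_eq_sInter_singleton yV
  have hfib : IsClosed[constructibleTopology ↥(U : Scheme.{u})] (g.base ⁻¹' {yV}) := by
    apply H17.isClosed_constructibleTopology_of_isProConstructible
    apply H17.isProConstructible_of_eq_sInter ((fun D => g.base ⁻¹' D) '' Sy)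
    · rintro _ ⟨D, hD, rfl⟩
      exact (g.isConstructible_preimage (hSy D hD)).isLocallyConstructible
    · rw [hySy, Set.preimage_sInter]
      ext z
      simp only [Set.mem_iInter, Set.mem_preimage, Set.sInter_image]
  let ι := {W : Set ↥(U : Scheme.{u}) // IsOpen W ∧ IsCompact W ∧ xU ∈ W}
  by_contra hcon
  push Not at hcon
  have hsub : ⋂ i : ι, (i : Set ↥(U : Scheme.{u})) ⊆ (g.base ⁻¹' {yV})ᶜ := by
    intro w hw hwy
    rw [Set.mem_iInter] at hw
    have hspec : w ⤳ xU := by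
      rw [specializes_iff_forall_open]
      intro s hs hxs
      obtain ⟨W, ⟨hW₁, hW₂⟩, hxW, hWs⟩ :=
        PrespectralSpace.isTopologicalBasis.mem_nhds_iff.mp (hs.mem_nhds hxs)
      exact hWs (hw ⟨W, hW₁, hW₂, hxW⟩)
    have h2 : U.ι.base w ⤳ U.ι.base xU := hspec.map U.ι.base.hom.continuous
    apply hcon (U.ι.base w) h2
    have h3 : g.base w = yV := hwy
    have h4 := hg w
    rw [h3] at h4
    exact h4.symm
  obtain ⟨J, hJ⟩ := H17.exists_finset_biInter_subset (fun i : ι => (i : Set ↥(U : Scheme.{u})))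
    (fun i => H17.gen_isClosed_of_compl _
      (H17.isClopen_constructibleTopology_of_isConstructible
        (i.2.2.1.isConstructible i.2.1)).2)
    (g.base ⁻¹' {yV})ᶜ hfib.isOpen_compl hsub
  have hNopen : IsOpen (⋂ i ∈ J, (i : Set ↥(U : Scheme.{u}))) :=
    isOpen_biInter_finset fun i _ => i.2.1
  have hxN : xU ∈ ⋂ i ∈ J, (i : Set ↥(U : Scheme.{u})) := by
    simp only [Set.mem_iInter]
    intro i _
    exact i.2.2.2
  have hnhds : U.ι.base '' (⋂ i ∈ J, (i : Set ↥(U : Scheme.{u}))) ∈ nhds x :=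
    (U.ι.isOpenEmbedding.isOpenMap _ hNopen).mem_nhds ⟨xU, hxN, rfl⟩
  have himg := hopen _ hnhds
  have hy'mem : y' ∈ f.base '' (U.ι.base '' (⋂ i ∈ J, (i : Set ↥(U : Scheme.{u})))) := by
    have := mem_interior_iff_mem_nhds.mpr himg
    exact interior_subset (hy'.mem_open isOpen_interior this)
  obtain ⟨_, ⟨w, hw, rfl⟩, hfw⟩ := hy'mem
  apply hJ hw
  show g.base w = yV
  apply Subtype.ext
  rw [hg w]
  exact hfw


/-- Let f : X ⟶ Y be a morphism of schemes, x a point of X and y = f x. If f is open at x then every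
generization of y is the image of a generization of x; when f is locally of finite presentation the
converse holds. -/
theorem result {X Y : Scheme.{u}} (f : X ⟶ Y) (x : X) :
    (EGA43.IsOpenAt f.base x → ∀ y' : Y, y' ⤳ f.base x → ∃ x' : X, x' ⤳ x ∧ f.base x' = y') ∧
    (LocallyOfFinitePresentation f →
      ((EGA43.IsOpenAt f.base x) ↔ ∀ y' : Y, y' ⤳ f.base x → ∃ x' : X, x' ⤳ x ∧ f.base x' = y')) := by
  have hconv : LocallyOfFinitePresentation f →
      (∀ y' : Y, y' ⤳ f.base x → ∃ x' : X, x' ⤳ x ∧ f.base x' = y') → EGA43.IsOpenAt f.base x := by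
    intro hfp hgen U hU
    let O : X.Opens := ⟨interior U, isOpen_interior⟩
    have hxO : x ∈ O := mem_interior_iff_mem_nhds.mpr hU
    have hind : ProCons.IsIndConstructible ((O.ι ≫ f).base '' Set.univ) :=
      Groth.Agent.S3399.result (O.ι ≫ f) Set.univ
        (H17.isIndConstructible_of_eq_sUnion {Set.univ}
          (by rintro T rfl; exact Topology.IsLocallyConstructible.univ) (Set.sUnion_singleton _).symm)
    have hsubset : (O.ι ≫ f).base '' Set.univ ⊆ f.base '' U := by
      rintro _ ⟨w, -, rfl⟩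
      exact ⟨w.1, interior_subset w.2, rfl⟩
    have hint : f.base x ∈ interior ((O.ι ≫ f).base '' Set.univ) := by
      rw [Groth.Agent.S3403.result Y _ hind]
      intro y' hy'
      obtain ⟨x', hx', rfl⟩ := hgen y' hy'
      have hx'O : x' ∈ O := hx'.mem_open O.isOpen hxO
      exact ⟨⟨x', hx'O⟩, Set.mem_univ _, rfl⟩
    exact Filter.mem_of_superset (mem_interior_iff_mem_nhds.mp hint) hsubset
  refine ⟨lift_of_isOpenAt f x, fun hfp => ⟨lift_of_isOpenAt f x, hconv hfp⟩⟩

end Groth.Agent.S3404
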