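import Groth.Statements.S6945
import Groth.Agent.H35.TorAmp
import Groth.Agent.H40.LTensorComp
import Groth.Agent.H31.KFlatRing
import Groth.Agent.H31.KFlatBounded
import Groth.Agent.H31.KFlatResolutionSite

set_option autoImplicit false
universe u
open CategoryTheory CategoryTheory.Limits
attribute [local instance] HasDerivedCategory.standard
open DRing

namespace Groth.Agent.S6945

open MonoidalCategory DerivedCategory Groth.Agent.H31 Groth.Agent.H40.LTensorComp
  Groth.Agent.H35.TorAmp

section Aux

variable {R : Type u} [CommRing R]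

/-- The counit of `- ⊗^L M` is an isomorphism on K-flat complexes of modules. -/
theorem isIso_counit (M : ModuleCat.{u} R) [DRing.HasLTensor R M]
    (P : DRing.Cx R) (hP : DRing.IsKFlat R P) :
    IsIso (((DRing.tensorKh R M).totalLeftDerivedCounit DerivedCategory.Qh
      (HomotopyCategory.quasiIso (ModuleCat.{u} R) (ComplexShape.up ℤ))).app
        ((HomotopyCategory.quotient _ _).obj P)) := by
  have := KFlatRing.hasExactColimitsOfShape_nat (R := R)
  refine isIso_counit_app (T := curriedTensor (ModuleCat.{u} R)) KFlatRing.tensorLike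
    (DRing.tensorKh R M) ?_ _ P ((KFlatRing.isKFlat_iff P).1 hP)
  intro P' Q' α hP' hQ' hα
  show IsIso (DerivedCategory.Qh.map
    (((tensorRight M).mapHomotopyCategory (ComplexShape.up ℤ)).map
      ((HomotopyCategory.quotient _ _).map α)))
  rw [DerivedCategory.isIso_Qh_map_iff]
  change HomotopyCategory.quasiIso _ _ ((HomotopyCategory.quotient _ _).map
    (((tensorRight M).mapHomologicalComplex _).map α))
  rw [HomotopyCategory.quotient_map_mem_quasiIso_iff, HomologicalComplex.mem_quasiIso_iff]
  exact quasiIso_map_flip_obj (T := curriedTensor (ModuleCat.{u} R)) KFlatRing.tensorLike α hα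
    hP' hQ' M

/-- `(Q P) ⊗^L M ≅ Q (P ⊗ M)` for a K-flat complex `P`. -/
noncomputable def objIso (M : ModuleCat.{u} R) [DRing.HasLTensor R M]
    (P : DRing.Cx R) (hP : DRing.IsKFlat R P) :
    (DRing.LTensor R M).obj (DRing.toD P) ≅ DRing.toD (CohIII.tensorObj P M) :=
  @asIso _ _ _ _ (((DRing.tensorKh R M).totalLeftDerivedCounit DerivedCategory.Qh
    (HomotopyCategory.quasiIso (ModuleCat.{u} R) (ComplexShape.up ℤ))).app
      ((HomotopyCategory.quotient _ _).obj P)) (isIso_counit M P hP)

lemma isZero_H_iff (M : ModuleCat.{u} R) [DRing.HasLTensor R M] (P : DRing.Cx R)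
    (hP : DRing.IsKFlat R P) {K : Dual.D R} (e : DRing.toD P ≅ K) (i : ℤ) :
    IsZero ((DerivedCategory.homologyFunctor (ModuleCat.{u} R) i).obj
        ((DRing.LTensor R M).obj K)) ↔ (CohIII.tensorObj P M).ExactAt i := by
  rw [exactAt_iff_isZero_H]
  exact ((DerivedCategory.homologyFunctor (ModuleCat.{u} R) i).mapIso
    ((DRing.LTensor R M).mapIso e.symm ≪≫ objIso M P hP)).isZero_iff

/-- `P ⊗ R ≅ P`. -/
noncomputable def unitIso (P : DRing.Cx R) :
    CohIII.tensorObj P (𝟙_ (ModuleCat.{u} R)) ≅ P :=
  HomologicalComplex.Hom.isoOfComponents (fun n => ρ_ (P.X n)) (fun i j _ =>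
    (rightUnitor_naturality (P.d i j)).symm)

theorem forward (K : Dual.D R) (a b : ℤ) (h : DRing.HasTorAmplitudeIn R a b K)
    (M : ModuleCat.{u} R) [DRing.HasLTensor R M] (i : ℤ) (hi : i < a ∨ b < i) :
    Subsingleton (Dual.HD R ((DRing.LTensor R M).obj K) i) := by
  obtain ⟨E, hE, hfl, ⟨e⟩⟩ := h
  have hKF : DRing.IsKFlat R E :=
    KFlatRing.isKFlat_of_bounded_above_flat E b (fun q hq => hE q (Or.inr hq)) hfl
  apply ModuleCat.subsingleton_of_isZero
  rw [isZero_H_iff M E hKF e i]
  exact ShortComplex.exact_of_isZero_X₂ _ ((tensorRight M).map_isZero (hE i hi))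

theorem backward [∀ M : ModuleCat.{u} R, DRing.HasLTensor R M] (K : Dual.D R) (a b : ℤ)
    (h : ∀ (M : ModuleCat.{u} R) (i : ℤ), (i < a ∨ b < i) →
      Subsingleton (Dual.HD R ((DRing.LTensor R M).obj K) i)) :
    DRing.HasTorAmplitudeIn R a b K := by
  have eK' : DerivedCategory.Q.obj (DerivedCategory.Q.objPreimage K) ≅ K :=
    DerivedCategory.Q.objObjPreimageIso K
  obtain ⟨P, f, hPK, hPfl, hf, -⟩ :=
    KFlatRing.exists_isKFlat_resolution (DerivedCategory.Q.objPreimage K)
  have eP : DRing.toD P ≅ K := asIso (DerivedCategory.Q.map f) ≪≫ eK'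
  have hH : HVanish a b K := by
    intro i hi
    have h1 := h (𝟙_ (ModuleCat.{u} R)) i hi
    have h2 : (CohIII.tensorObj P (𝟙_ (ModuleCat.{u} R))).ExactAt i :=
      (isZero_H_iff _ P hPK eP i).1 (ModuleCat.isZero_of_subsingleton _)
    have h3 : IsZero ((DerivedCategory.homologyFunctor (ModuleCat.{u} R) i).obj
        (DerivedCategory.Q.obj P)) :=
      ((exactAt_iff_isZero_H _ i).1 h2).of_iso
        ((DerivedCategory.homologyFunctor (ModuleCat.{u} R) i).mapIso
          (DerivedCategory.Q.mapIso (unitIso P).symm))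
    exact h3.of_iso ((DerivedCategory.homologyFunctor (ModuleCat.{u} R) i).mapIso eP.symm)
  have hKle : K.IsLE b := by
    rw [isLE_iff]
    intro i hi
    exact hH i (Or.inr hi)
  obtain ⟨F, hF, hfree, ⟨eF⟩⟩ := exists_free_model_of_isLE K b
  have hflF := free_flat F hfree
  have hFK : DRing.IsKFlat R F := KFlatRing.isKFlat_of_bounded_above_flat F b hF hflF
  refine hasTorAmplitudeIn_iff.2 ⟨hH, F, b, hF, hflF, ⟨eF⟩, fun N i hi => ?_⟩
  have h1 := h N i hi
  exact (isZero_H_iff N F hFK eF i).1 (ModuleCat.isZero_of_subsingleton _)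

end Aux

/-- With the definition of tor amplitude: let R be a commutative ring, K an object of D(R) and a, b
integers, and assume the derived tensor product - ⊗^L_R M exists on D(R) for every R-module M. Then
K is isomorphic in D(R) to a complex of flat R-modules vanishing outside [a, b] if and only if H^i(K
⊗^L_R M) = 0 for every R-module M and every integer i outside [a, b]. -/
theorem result (R : Type u) [CommRing R]
    [∀ M : ModuleCat.{u} R, DRing.HasLTensor R M] (K : Dual.D R) (a b : ℤ) :
    DRing.HasTorAmplitudeIn R a b K ↔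
      ∀ (M : ModuleCat.{u} R) (i : ℤ), (i < a ∨ b < i) → Subsingleton (Dual.HD R ((DRing.LTensor R M).obj K) i) := by
  exact ⟨fun h M i hi => forward K a b h M i hi, backward K a b⟩

end Groth.Agent.S6945
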