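import Groth.Statements.S0303
import Mathlib.LinearAlgebra.Projection

set_option autoImplicit false
universe u v
open InjHull

namespace Groth.Agent.S0303

/-- If M → E is an injective hull and M → I is any embedding into an injective module, then E embeds
into I compatibly with M and its image is a direct summand of I. -/
theorem result (R : Type u) [CommRing R] (M : Type u) [AddCommGroup M] [Module R M] (E : Type u) [AddCommGroup E] [Module R E] (I : Type u) [AddCommGroup I] [Module R I] (f : M →ₗ[R] E) (hf : InjHull.IsInjectiveHull f) (i : M →ₗ[R] I) (hi : Function.Injective i) (hI : Module.Injective R I) : ∃ α : E →ₗ[R] I, Function.Injective α ∧ α ∘ₗ f = i ∧ ∃ I' : Submodule R I, IsCompl (LinearMap.range α) I' := by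
  obtain ⟨α, hα⟩ := Module.Injective.extension_property R I M E f hf.injective i
  have hαinj : Function.Injective α := by
    rw [← LinearMap.ker_eq_bot]
    by_contra hne
    apply hf.essential _ hne
    rw [eq_bot_iff]
    rintro x ⟨hx1, ⟨m, rfl⟩⟩
    have h1 : α (f m) = 0 := hx1
    have h2 : i m = 0 := by rw [← hα]; exact h1
    have h3 : m = 0 := hi (by rw [h2, map_zero])
    rw [h3, map_zero]
    exact Submodule.zero_mem _
  have hE : Module.Injective R E := hf.isInjective
  obtain ⟨β, hβ⟩ := Module.Injective.extension_property R E E I α hαinj LinearMap.id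
  refine ⟨α, hαinj, hα, LinearMap.ker (α ∘ₗ β), ?_⟩
  have hidem : IsIdempotentElem (α ∘ₗ β) := by
    show (α ∘ₗ β) ∘ₗ (α ∘ₗ β) = α ∘ₗ β
    rw [LinearMap.comp_assoc, ← LinearMap.comp_assoc β α β, hβ, LinearMap.id_comp]
  have hβsurj : LinearMap.range β = ⊤ := by
    rw [LinearMap.range_eq_top]
    intro e
    exact ⟨α e, by rw [← LinearMap.comp_apply, hβ, LinearMap.id_apply]⟩
  have := LinearMap.IsIdempotentElem.isCompl hidem
  rwa [LinearMap.range_comp_of_range_eq_top α hβsurj] at this

end Groth.Agent.S0303
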