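import Groth.Statements.S0302
import Groth.Agent.S0303

set_option autoImplicit false
universe u v
open InjHull

namespace Groth.Agent.S0302

/-- Two injective hulls of the same module are isomorphic by an isomorphism compatible with the two
embeddings. -/
theorem result (R : Type u) [CommRing R] (M : Type u) [AddCommGroup M] [Module R M] (E : Type u) [AddCommGroup E] [Module R E] (E' : Type u) [AddCommGroup E'] [Module R E'] (f : M →ₗ[R] E) (hf : InjHull.IsInjectiveHull f) (g : M →ₗ[R] E') (hg : InjHull.IsInjectiveHull g) : ∃ e : E ≃ₗ[R] E', e.toLinearMap ∘ₗ f = g := by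
  obtain ⟨α, hαinj, hα, I', hI'⟩ :=
    Groth.Agent.S0303.result R M E E' f hf g hg.injective hg.isInjective
  have hI'bot : I' = ⊥ := by
    by_contra hne
    apply hg.essential I' hne
    rw [eq_bot_iff]
    rintro x ⟨hx1, ⟨m, rfl⟩⟩
    have h1 : g m ∈ LinearMap.range α := ⟨f m, by rw [← hα]; rfl⟩
    have h2 : g m ∈ LinearMap.range α ⊓ I' := ⟨h1, hx1⟩
    rw [hI'.inf_eq_bot] at h2
    exact h2
  have hsurj : Function.Surjective α := by
    rw [← LinearMap.range_eq_top]
    have := hI'.sup_eq_top
    rwa [hI'bot, sup_bot_eq] at this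
  refine ⟨LinearEquiv.ofBijective α ⟨hαinj, hsurj⟩, ?_⟩
  rw [← hα]
  rfl

end Groth.Agent.S0302
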