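import Groth.Statements.S0306
import Mathlib
import Groth.Agent.H58.IH

set_option autoImplicit false
universe u v
open InjHull

namespace Groth.Agent.S0306

/-- Over a Noetherian ring every indecomposable injective module is an injective hull of the residue
field of some prime. -/
theorem result (R : Type u) [CommRing R] [IsNoetherianRing R] (E : Type u) [AddCommGroup E] [Module R E] (hE : InjHull.IsIndecomposable R E) (hinj : Module.Injective R E) : ∃ (p : Ideal R) (_ : p.IsPrime) (g : p.ResidueField →ₗ[R] E), InjHull.IsInjectiveHull g := by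
  haveI := hinj
  haveI : Nontrivial E := hE.1
  obtain ⟨p, hp⟩ := associatedPrimes.nonempty R E
  obtain ⟨hpp, x, hx⟩ := isAssociatedPrime_iff.1 hp
  haveI := hpp
  have hker : LinearMap.ker (LinearMap.toSpanSingleton R E x) = p := by
    ext r
    rw [hx, LinearMap.mem_ker, LinearMap.toSpanSingleton_apply, Submodule.mem_colon_singleton,
      Submodule.mem_bot]
  let f : (R ⧸ p) →ₗ[R] E :=
    Submodule.liftQ p (LinearMap.toSpanSingleton R E x) (le_of_eq hker.symm)
  have hfinj : Function.Injective f := by
    rw [← LinearMap.ker_eq_bot]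
    exact Submodule.ker_liftQ_eq_bot _ _ _ (le_of_eq hker)
  have hrange : LinearMap.range f ≠ ⊥ := by
    intro h
    have h1 : f 1 ∈ LinearMap.range f := ⟨1, rfl⟩
    rw [h, Submodule.mem_bot] at h1
    exact one_ne_zero (hfinj (h1.trans (map_zero f).symm))
  have hess := Groth.Agent.H58.IH.ess_of_indecomposable hE (LinearMap.range f) hrange
  have hf : InjHull.IsInjectiveHull f :=
    (Groth.Agent.H58.IH.isInjectiveHull_iff f).2 ⟨hfinj, hess, hinj⟩
  obtain ⟨g, hg⟩ := Groth.Agent.H58.IH.exists_hull_residueField p f hf
  exact ⟨p, hpp, g, hg⟩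

end Groth.Agent.S0306
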