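import Groth.Statements.S2068
import Groth.Agent.H56.CyclesProj
-- import your own Groth.Agent.* helpers here

set_option autoImplicit false
universe u
open CategoryTheory
attribute [local instance] HasDerivedCategory.standard
open CAlg

namespace Groth.Agent.S2068

/-- If `K` is `m`-pseudo-coherent in `D(A)`, its cohomology in degree `m` is a finitely generated module
when nothing above degree `m` survives, and its cohomology in degree `m+1` is finitely presented
when nothing above degree `m+1` survives. -/
theorem result {A : Type u} [CommRing A] (K : Dual.D A) (m : ℤ)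
    (hK : DRing.IsPseudoCoherent A m K) :
    ((∀ i : ℤ, m < i → Limits.IsZero ((DerivedCategory.homologyFunctor (ModuleCat.{u} A) i).obj K)) →
        Module.Finite A ((DerivedCategory.homologyFunctor (ModuleCat.{u} A) m).obj K)) ∧
      ((∀ i : ℤ, m + 1 < i → Limits.IsZero ((DerivedCategory.homologyFunctor (ModuleCat.{u} A) i).obj K)) →
        Module.FinitePresentation A ((DerivedCategory.homologyFunctor (ModuleCat.{u} A) (m + 1)).obj K)) := by
  obtain ⟨E, a, b, α, hE, hff, hiso, hepi⟩ := hK
  have hb : ∀ i : ℤ, b < i → Limits.IsZero (E.X i) := fun i hi => hE i (Or.inr hi)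
  have hfp : ∀ i : ℤ, Module.Finite A (E.X i) ∧ Module.Projective A (E.X i) := fun i =>
    ⟨(hff i).1, by haveI := (hff i).2; exact Module.Projective.of_free⟩
  have e : ∀ i : ℤ, (DerivedCategory.homologyFunctor (ModuleCat.{u} A) i).obj
      (DerivedCategory.Q.obj E) ≅ E.homology i :=
    fun i => (DerivedCategory.homologyFunctorFactors (ModuleCat.{u} A) i).app E
  have hexact : ∀ n : ℤ, (∀ i : ℤ, n < i →
      Limits.IsZero ((DerivedCategory.homologyFunctor (ModuleCat.{u} A) i).obj K)) → m ≤ n →
      ∀ i : ℤ, n < i → E.ExactAt i := by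
    intro n hn hmn i hi
    rw [HomologicalComplex.exactAt_iff_isZero_homology]
    haveI := hiso i (by omega)
    exact (hn i hi).of_iso ((e i).symm ≪≫
      asIso ((DerivedCategory.homologyFunctor (ModuleCat.{u} A) i).map α))
  constructor
  · intro h
    haveI hfin := Groth.Agent.H56.finite_homology_of_exact_above E b hb hfp m
      (hexact m h le_rfl)
    obtain ⟨g, hg⟩ : ∃ g : E.homology m ⟶
        (DerivedCategory.homologyFunctor (ModuleCat.{u} A) m).obj K, Epi g :=
      ⟨(e m).inv ≫ (DerivedCategory.homologyFunctor (ModuleCat.{u} A) m).map α, epi_comp _ _⟩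
    exact Module.Finite.of_surjective g.hom ((ModuleCat.epi_iff_surjective _).1 hg)
  · intro h
    haveI hfp' := Groth.Agent.H56.finitePresentation_homology_of_exact_above E b hb hfp m
      (hexact (m + 1) h (by omega))
    haveI := hiso (m + 1) (by omega)
    exact Module.FinitePresentation.of_equiv ((e (m + 1)).symm ≪≫
      asIso ((DerivedCategory.homologyFunctor (ModuleCat.{u} A) (m + 1)).map α)).toLinearEquiv

end Groth.Agent.S2068
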