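import Groth.Statements.S0364
import Groth.Agent.H71.DK.Tower
import Groth.Agent.H12.DK456

set_option autoImplicit false
universe u v
open CategoryTheory
attribute [local instance] HasDerivedCategory.standard
open Dual

namespace Groth.Agent.S0364

open CategoryTheory.Limits DerivedCategory Pretriangulated
open Groth.Agent.H12.DualDepth DerivedCategory.TStructure Groth.Agent.H71.DK
open Groth.Agent.H12.DK456

/-- For a dualizing complex ω over a Noetherian ring and a maximal ideal m with residue field κ = A/m,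
the groups Hom(κ, ω[i]) in D(A) vanish except in one degree n, where the group is isomorphic to κ as
an A-module. -/
theorem result (A : Type u) [CommRing A] [IsNoetherianRing A] (ω : Dual.D A) (hω : Dual.IsDualizing A ω) (m : Ideal A) [m.IsMaximal] : ∃ n : ℤ, (∀ i : ℤ, i ≠ n → Subsingleton (Dual.inD A (A ⧸ m) ⟶ ω⟦i⟧)) ∧ Nonempty ((Dual.inD A (A ⧸ m) ⟶ ω⟦n⟧) ≃ₗ[A] (A ⧸ m)) := by
  classical
  have hmmax : m.IsMaximal := inferInstance
  -- generators of `m`
  obtain ⟨s, hs⟩ := (isNoetherianRing_iff_ideal_fg A).1 inferInstance m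
  have hl : Ideal.span {a | a ∈ s.toList} = m := by
    rw [← hs]
    congr 1
    ext a
    simp
  obtain ⟨X, hK⟩ := exists_isKos ω s.toList
  obtain ⟨r, hr_def⟩ : ∃ r : ℤ, r = (s.toList.length : ℤ) := ⟨_, rfl⟩
  obtain ⟨hvan, f, hf, hker⟩ := isKos_hom hω hK r hr_def
  rw [hl] at hker
  have hnil := isKos_nilpotent hK
  obtain ⟨hfin, j₀', j₁', hGE, hLE⟩ := isKos_homology hω hK
  -- the annihilator ideal of `X`
  let J : Ideal A :=
    { carrier := {c | c • 𝟙 X = 0}
      add_mem' := fun {a b} (ha : a • 𝟙 X = 0) (hb : b • 𝟙 X = 0) => by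
        show (a + b) • 𝟙 X = 0
        rw [add_smul, ha, hb, add_zero]
      zero_mem' := zero_smul A (𝟙 X)
      smul_mem' := fun c {a} (ha : a • 𝟙 X = 0) => by
        show (c • a) • 𝟙 X = 0
        rw [smul_assoc, ha, smul_zero] }
  have hJ : ∀ q : Ideal A, q.IsPrime → J ≤ q → q = m := by
    intro q hq hJq
    have hmq : m ≤ q := by
      rw [← hl, Ideal.span_le]
      intro a ha
      obtain ⟨N, hN⟩ := hnil a ha
      exact hq.mem_of_pow_mem N (hJq hN)
    exact (hmmax.eq_of_le hq.ne_top hmq).symm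
  have htors : ∀ j : ℤ, Tors J ((homologyFunctor (ModuleCat.{u} A) j).obj X) :=
    fun j => ⟨hfin j, fun c hc y => Groth.Agent.H64.DK8.smul_homology_eq_zero X c hc j y⟩
  set κ : ModuleCat.{u} A := ModuleCat.of A (A ⧸ m) with hκ_def
  -- `Hom(X, ω[r])` is nonzero
  have hne : ¬ VanO X ω r := by
    intro hv
    have h1 : f 1 = 0 := hv _
    have h2 : (1 : A) ∈ m := by
      rw [← hker]
      exact h1
    exact (Ideal.ne_top_iff_one m).1 hmmax.ne_top h2
  -- the set `S` of degrees where `Hom(κ, ω[p]) ≠ 0`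
  have hSne : ∃ p : ℤ, ¬ Van ω p κ := by
    by_contra hcon
    apply hne
    haveI := hGE
    haveI := hLE
    refine vanO_of_van_homology X ω j₀' j₁' r (fun j _ _ => ?_)
    refine van_of_tors m J hJ ω _ ?_ _ (htors j)
    by_contra hv
    exact hcon ⟨_, hv⟩
  obtain ⟨a₀, b₀, hab⟩ := hω.finite_injective_dimension
  have hSbd : ∀ p : ℤ, ¬ Van ω p κ → a₀ ≤ p ∧ p ≤ b₀ := by
    intro p hp
    by_contra hcon
    apply hp
    rw [van_iff_subsingleton]
    exact hab (A ⧸ m) p (by omega)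
  obtain ⟨p₀, hp₀, hp₀min⟩ := Int.exists_least_of_bdd (P := fun p : ℤ => ¬ Van ω p κ)
    ⟨a₀, fun z hz => (hSbd z hz).1⟩ hSne
  obtain ⟨p₁, hp₁, hp₁max⟩ := Int.exists_greatest_of_bdd (P := fun p : ℤ => ¬ Van ω p κ)
    ⟨b₀, fun z hz => (hSbd z hz).2⟩ hSne
  -- the set `T` of degrees where `H^j(X) ≠ 0`
  have hTne : ∃ j : ℤ, ¬ IsZero ((homologyFunctor (ModuleCat.{u} A) j).obj X) := by
    by_contra hcon
    apply hne
    haveI := hGE
    haveI := hLE
    refine vanO_of_van_homology X ω j₀' j₁' r (fun j _ _ => van_of_isZero ?_)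
    by_contra hv
    exact hcon ⟨_, hv⟩
  obtain ⟨j₀, hj₀, hj₀min⟩ := Int.exists_least_of_bdd
    (P := fun j : ℤ => ¬ IsZero ((homologyFunctor (ModuleCat.{u} A) j).obj X))
    ⟨j₀', fun z hz => by
      by_contra hlt
      exact hz ((isGE_iff X j₀').1 hGE z (by omega))⟩ hTne
  obtain ⟨j₁, hj₁, hj₁max⟩ := Int.exists_greatest_of_bdd
    (P := fun j : ℤ => ¬ IsZero ((homologyFunctor (ModuleCat.{u} A) j).obj X))
    ⟨j₁', fun z hz => by
      by_contra hlt
      exact hz ((isLE_iff X j₁').1 hLE z (by omega))⟩ hTne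
  haveI hXGE : X.IsGE j₀ := (isGE_iff X j₀).2 (fun j hj => by
    by_contra hnz
    have := hj₀min j hnz
    omega)
  haveI hXLE : X.IsLE j₁ := (isLE_iff X j₁).2 (fun j hj => by
    by_contra hnz
    have := hj₁max j hnz
    omega)
  have hj01 : j₀ ≤ j₁ := hj₀min j₁ hj₁
  have hp01 : p₀ ≤ p₁ := hp₀min p₁ hp₁
  have hvanκ_hi : ∀ p : ℤ, p₁ < p → Van ω p κ := fun p hp => by
    by_contra hv
    have := hp₁max p hv
    omega
  have hvanκ_lo : ∀ p : ℤ, p < p₀ → Van ω p κ := fun p hp => by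
    by_contra hv
    have := hp₀min p hv
    omega
  have hvanH_hi : ∀ (p j : ℤ), p₁ < p →
      Van ω p ((homologyFunctor (ModuleCat.{u} A) j).obj X) :=
    fun p j hp => van_of_tors m J hJ ω p (hvanκ_hi p hp) _ (htors j)
  have hvanH_lo : ∀ (p j : ℤ), p < p₀ →
      Van ω p ((homologyFunctor (ModuleCat.{u} A) j).obj X) :=
    fun p j hp => van_of_tors m J hJ ω p (hvanκ_lo p hp) _ (htors j)
  haveI hnt₀ : Nontrivial ((homologyFunctor (ModuleCat.{u} A) j₀).obj X) :=
    not_subsingleton_iff_nontrivial.1 (fun hs => hj₀ (ModuleCat.isZero_of_subsingleton _))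
  haveI hnt₁ : Nontrivial ((homologyFunctor (ModuleCat.{u} A) j₁).obj X) :=
    not_subsingleton_iff_nontrivial.1 (fun hs => hj₁ (ModuleCat.isZero_of_subsingleton _))
  -- top degree
  have htop1 : ∀ i : ℤ, p₁ - j₀ < i → VanO X ω i := fun i hi =>
    vanO_of_van_homology X ω j₀ j₁ i (fun j h1 h2 => hvanH_hi _ j (by omega))
  obtain ⟨q2, hq2⟩ := exists_surjective_hom_of_tors m J hJ ω p₁ (p₁ + 1) rfl
    (hvanκ_hi _ (by omega)) ((homologyFunctor (ModuleCat.{u} A) j₀).obj X) (htors j₀)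
  have htop2 : ∀ i : ℤ, i + j₀ = p₁ → ∃ q : (X ⟶ ω⟦i⟧) →ₗ[A] (sM κ ⟶ ω⟦p₁⟧),
      Function.Surjective q := by
    intro i hi
    obtain ⟨q1, hq1⟩ := exists_surjective_bottom X ω j₀ j₁ i p₁ hi
      (fun j h1 h2 => hvanH_hi _ j (by omega))
    exact ⟨q2 ∘ₗ q1, hq2.comp hq1⟩
  have htop3 : ¬ VanO X ω (p₁ - j₀) := by
    intro hv
    obtain ⟨q, hq⟩ := htop2 (p₁ - j₀) (by omega)
    apply hp₁
    intro φ
    obtain ⟨χ, rfl⟩ := hq φ
    rw [hv χ, map_zero]
  have hr : p₁ - j₀ = r := by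
    have h1 : ¬ (r < p₁ - j₀) := fun h => htop3 (hvan _ (Or.inr h))
    have h2 : ¬ (p₁ - j₀ < r) := fun h => hne (htop1 _ h)
    omega
  -- bottom degree
  have hbot1 : ∀ i : ℤ, i < p₀ - j₁ → VanO X ω i := fun i hi =>
    vanO_of_van_homology X ω j₀ j₁ i (fun j h1 h2 => hvanH_lo _ j (by omega))
  have hbot2 : ¬ VanO X ω (p₀ - j₁) :=
    not_vanO_of_top X ω j₀ j₁ (p₀ - j₁) p₀ (by omega) (fun j h1 h2 => hvanH_lo _ j (by omega))
      (not_van_of_tors m J hJ ω (p₀ - 1) p₀ (by omega) (hvanκ_lo _ (by omega)) hp₀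
        ((homologyFunctor (ModuleCat.{u} A) j₁).obj X) (htors j₁))
  -- second variable induction
  obtain ⟨_, hXX⟩ := isKos_right hK X hnil (p₀ - j₁) hbot1 hbot2
  have hp10 : p₁ ≤ p₀ := by
    by_contra hlt
    apply hXX
    exact vanO_self_of_amplitude X j₀ j₁ _ (by omega)
  have hpp : p₀ = p₁ := le_antisymm hp01 hp10
  refine ⟨p₁, fun i hi => ?_, ?_⟩
  · rw [← van_iff_subsingleton]
    rcases lt_or_gt_of_ne hi with h | h
    · exact hvanκ_lo i (by omega)
    · exact hvanκ_hi i h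
  · obtain ⟨q, hq⟩ := htop2 r (by omega)
    have hg : Function.Surjective (q ∘ₗ f) := hq.comp hf
    have hle : m ≤ LinearMap.ker (q ∘ₗ f) := by
      intro c hc
      rw [← hker, LinearMap.mem_ker] at hc
      rw [LinearMap.mem_ker, LinearMap.comp_apply, hc, map_zero]
    have hnetop : LinearMap.ker (q ∘ₗ f) ≠ ⊤ := by
      intro htop
      apply hp₁
      intro φ
      obtain ⟨c, rfl⟩ := hg φ
      have : c ∈ LinearMap.ker (q ∘ₗ f) := by rw [htop]; trivial
      exact this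
    have heq : m = LinearMap.ker (q ∘ₗ f) := hmmax.eq_of_le hnetop hle
    exact ⟨(LinearMap.quotKerEquivOfSurjective (q ∘ₗ f) hg).symm ≪≫ₗ
      Submodule.quotEquivOfEq _ _ heq.symm⟩

end Groth.Agent.S0364
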