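import Groth.Statements.S3406
import Mathlib

set_option autoImplicit false
universe u
open EGA41

namespace Groth.Agent.S3406

section lemmas

variable (A : Type u) [CommRing A]

/-- In a ring with finitely many maximal ideals, a prime containing the Jacobson radical is
maximal. -/
theorem isMaximal_of_jacobson_le [Finite (MaximalSpectrum A)] {P : Ideal A} (hP : P.IsPrime)
    (h : Ring.jacobson A ≤ P) : P.IsMaximal := by
  classical
  have hfinM : {m : Ideal A | m.IsMaximal}.Finite := by
    refine (Set.finite_range (fun m : MaximalSpectrum A => m.asIdeal)).subset ?_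
    intro m hm
    exact ⟨⟨m, hm⟩, rfl⟩
  have hJ : Ring.jacobson A = hfinM.toFinset.inf id := by
    rw [Finset.inf_id_eq_sInf, hfinM.coe_toFinset, Ring.jacobson_eq_sInf_isMaximal]
  rw [hJ, Ideal.IsPrime.inf_le' hP] at h
  obtain ⟨m, hm, hmp⟩ := h
  have hmmax : m.IsMaximal := hfinM.mem_toFinset.mp hm
  have : m = P := hmmax.eq_of_le hP.ne_top hmp
  exact this ▸ hmmax

/-- Prime avoidance: an element of the radical avoiding the non-maximal minimal primes. -/
theorem exists_mem_jacobson_notMem [IsNoetherianRing A] [Finite (MaximalSpectrum A)]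
    (I : Ideal A) :
    ∃ x ∈ Ring.jacobson A, ∀ p ∈ I.minimalPrimes, ¬ p.IsMaximal → x ∉ p := by
  classical
  have hfinS : {p ∈ I.minimalPrimes | ¬ p.IsMaximal}.Finite :=
    (Ideal.finite_minimalPrimes_of_isNoetherianRing A I).subset (fun p hp => hp.1)
  by_contra hcon
  push Not at hcon
  have hsub : ((Ring.jacobson A : Ideal A) : Set A) ⊆
      ⋃ p ∈ (↑hfinS.toFinset : Set (Ideal A)), ((id p : Ideal A) : Set A) := by
    intro x hx
    obtain ⟨p, hp, hnm, hxp⟩ := hcon x hx
    exact Set.mem_biUnion (x := p)
      (Finset.mem_coe.mpr (hfinS.mem_toFinset.mpr ⟨hp, hnm⟩)) hxp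
  obtain ⟨p, hpS, hle⟩ := (Ideal.subset_union_prime (s := hfinS.toFinset) (f := id) ⊥ ⊥
      (fun p hp _ _ => ((hfinS.mem_toFinset.mp hp).1).1.1)).mp hsub
  have hpS' := hfinS.mem_toFinset.mp hpS
  exact hpS'.2 (isMaximal_of_jacobson_le A hpS'.1.1.1 hle)

variable {A}

/-- A set of primes all of which are maximal ideals has dimension at most zero. -/
theorem krullDim_le_zero_of_forall_isMaximal {T : Set (PrimeSpectrum A)}
    (h : ∀ P ∈ T, P.asIdeal.IsMaximal) : Order.krullDim ↥T ≤ 0 := by
  rw [Order.krullDim_nonpos_iff_forall_isMax]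
  intro P b hb
  have hb' : P.1.asIdeal ≤ b.1.asIdeal := hb
  have : P.1.asIdeal = b.1.asIdeal := (h P.1 P.2).eq_of_le b.1.2.ne_top hb'
  exact (this.symm.le : b.1.asIdeal ≤ P.1.asIdeal)

variable {M : Type u} [AddCommGroup M] [Module A M]

/-- The set identity behind both inductions. -/
theorem support_quotSMulTop_inter [Module.Finite A M] (x0 : A) {n : ℕ} (x' : Fin n → A) :
    Module.support A (QuotSMulTop x0 M) ∩ PrimeSpectrum.zeroLocus (Set.range x') =
      Module.support A M ∩
        PrimeSpectrum.zeroLocus (Set.range (Fin.cons x0 x' : Fin (n + 1) → A)) := by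
  rw [Module.support_quotSMulTop, Fin.range_cons, Set.insert_eq, PrimeSpectrum.zeroLocus_union,
    Set.inter_assoc]

variable (A)

/-- For a finite module over a Noetherian ring: finite length iff dimension at most zero. -/
theorem isFiniteLength_iff_supportDim_le_zero [IsNoetherianRing A] (N : Type u) [AddCommGroup N]
    [Module A N] [Module.Finite A N] :
    IsFiniteLength A N ↔ Module.supportDim A N ≤ 0 := by
  rw [Module.supportDim_eq_ringKrullDim_quotient_annihilator]
  letI : Module (A ⧸ Module.annihilator A N) N := Module.quotientAnnihilator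
  haveI : IsScalarTower A (A ⧸ Module.annihilator A N) N := inferInstance
  haveI hfin : Module.Finite (A ⧸ Module.annihilator A N) N :=
    Module.Finite.of_restrictScalars_finite A _ _
  constructor
  · intro h
    have hArt : IsArtinian A N := (isFiniteLength_iff_isNoetherian_isArtinian.mp h).2
    obtain ⟨n, s, hs⟩ := Module.Finite.exists_fin (R := A) (M := N)
    let f : A →ₗ[A] (Fin n → N) := LinearMap.pi (fun i => LinearMap.toSpanSingleton A N (s i))
    have hker : LinearMap.ker f = Module.annihilator A N := by
      ext a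
      rw [LinearMap.mem_ker, Module.mem_annihilator]
      constructor
      · intro h
        have hle : Submodule.span A (Set.range s) ≤ LinearMap.ker (LinearMap.lsmul A N a) := by
          rw [Submodule.span_le]
          rintro _ ⟨i, rfl⟩
          simpa [f] using congrFun h i
        intro m
        have hm : m ∈ LinearMap.ker (LinearMap.lsmul A N a) := hle (by rw [hs]; trivial)
        simpa using hm
      · intro h
        funext i
        simpa [f] using h (s i)
    have hArt' : IsArtinian A (A ⧸ Module.annihilator A N) := by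
      rw [← hker]
      exact isArtinian_of_linearEquiv (f.quotKerEquivRange).symm
    have hAR : IsArtinianRing (A ⧸ Module.annihilator A N) := isArtinian_of_tower A hArt'
    have hK : Ring.KrullDimLE 0 (A ⧸ Module.annihilator A N) := inferInstance
    exact_mod_cast Ring.krullDimLE_iff.mp hK
  · intro h
    have hK : Ring.KrullDimLE 0 (A ⧸ Module.annihilator A N) :=
      Ring.krullDimLE_iff.mpr (by exact_mod_cast h)
    have hAR : IsArtinianRing (A ⧸ Module.annihilator A N) :=
      isArtinianRing_iff_krullDimLE_zero.mpr hK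
    have h1 : IsArtinian (A ⧸ Module.annihilator A N) N := inferInstance
    have h2 : IsArtinian A N :=
      isArtinian_of_surjective_algebraMap (R := A ⧸ Module.annihilator A N)
        Ideal.Quotient.mk_surjective
    exact isFiniteLength_iff_isNoetherian_isArtinian.mpr ⟨inferInstance, h2⟩

variable {A}

/-- Variant of the Mathlib inequality `dim M/xM + 1 ≤ dim M` allowing `x` to lie in minimal
primes that are maximal ideals. -/
theorem supportDim_quotSMulTop_le [Module.Finite A M] {x : A} {d : ℕ}
    (hn : ∀ p ∈ (Module.annihilator A M).minimalPrimes, ¬ p.IsMaximal → x ∉ p)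
    (hd : Module.supportDim A M ≤ ((d + 1 : ℕ) : WithBot ℕ∞)) :
    Module.supportDim A (QuotSMulTop x M) ≤ (d : WithBot ℕ∞) := by
  unfold Module.supportDim at hd ⊢
  rw [Order.krullDim]
  refine iSup_le fun p => ?_
  have hp := p.head.2
  simp only [Module.support_quotSMulTop, Set.mem_inter_iff, PrimeSpectrum.mem_zeroLocus,
    Set.singleton_subset_iff] at hp
  have le : Module.support A (QuotSMulTop x M) ⊆ Module.support A M := by simp
  let q : LTSeries (Module.support A M) :=
    p.map (Set.MapsTo.restrict id (Module.support A (QuotSMulTop x M)) (Module.support A M) le)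
      (fun _ _ h ↦ h)
  obtain ⟨r, hrm, hr⟩ :=
    Ideal.exists_minimalPrimes_le (Module.mem_support_iff_of_finite.mp q.head.2)
  by_cases hmax : r.IsMaximal
  · have hmaxhead : IsMax p.head := by
      intro b hb
      have hb' : p.head.1.asIdeal ≤ b.1.asIdeal := hb
      have hE : r = b.1.asIdeal := hmax.eq_of_le b.1.2.ne_top (hr.trans hb')
      exact (hE.symm.le.trans hr : b.1.asIdeal ≤ p.head.1.asIdeal)
    have h0 : (p.length : ℕ∞) ≤ 0 :=
      (Order.coheight_eq_zero.mpr hmaxhead) ▸ Order.length_le_coheight_head
    have hlen : p.length = 0 := by exact_mod_cast (le_zero_iff.mp h0)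
    rw [hlen]
    exact_mod_cast (Nat.zero_le d)
  · have hxr : x ∉ r := hn r hrm hmax
    let r' : Module.support A M :=
      ⟨⟨r, hrm.1.1⟩, Module.mem_support_iff_of_finite.mpr hrm.1.2⟩
    have hr' : r' < q.head := lt_of_le_of_ne hr (fun h ↦ hxr (by
      have : r = q.head.1.asIdeal := congrArg (fun t : Module.support A M => t.1.asIdeal) h
      rw [this]; exact hp.2))
    have h1 : ((q.cons r' hr').length : WithBot ℕ∞) ≤ Order.krullDim (Module.support A M) :=
      Order.LTSeries.length_le_krullDim _
    have h2 : (q.cons r' hr').length = p.length + 1 := by simp [q]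
    rw [h2] at h1
    have h3 : p.length + 1 ≤ d + 1 := by exact_mod_cast h1.trans hd
    exact_mod_cast (by omega : p.length ≤ d)

variable (A)

/-- The key inequality `dim M ≤ dim (Supp M ∩ V(x_1,…,x_n)) + n` for `x_i` in the radical. -/
theorem supportDim_le_add [IsNoetherianRing A] : ∀ (n : ℕ) (M : Type u) [AddCommGroup M]
    [Module A M] [Module.Finite A M] (x : Fin n → A), (∀ i, x i ∈ Ring.jacobson A) →
    Module.supportDim A M ≤
      Order.krullDim ↥(Module.support A M ∩ PrimeSpectrum.zeroLocus (Set.range x)) + (n : ℕ) := by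
  intro n
  induction n with
  | zero =>
    intro M _ _ _ x hx
    rw [Set.range_eq_empty, PrimeSpectrum.zeroLocus_empty, Set.inter_univ]
    simp [Module.supportDim]
  | succ n ih =>
    intro M _ _ _ x hx
    obtain ⟨x0, x', rfl⟩ : ∃ (x0 : A) (x' : Fin n → A), x = (Fin.cons x0 x' : Fin (n + 1) → A) :=
      ⟨x 0, Fin.tail x, (Fin.cons_self_tail x).symm⟩
    have hx0 : x0 ∈ Ring.jacobson A := by simpa using hx 0
    have hx' : ∀ i, x' i ∈ Ring.jacobson A := fun i => by simpa using hx i.succ
    have h1 := Module.supportDim_le_supportDim_quotSMulTop_succ_of_mem_jacobson (M := M)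
      ((Module.annihilator A M).ringJacobson_le_jacobson hx0)
    have h2 := ih (QuotSMulTop x0 M) x' hx'
    rw [support_quotSMulTop_inter] at h2
    calc Module.supportDim A M ≤ Module.supportDim A (QuotSMulTop x0 M) + 1 := h1
      _ ≤ (Order.krullDim ↥(Module.support A M ∩ PrimeSpectrum.zeroLocus
            (Set.range (Fin.cons x0 x' : Fin (n + 1) → A))) + (n : ℕ)) + 1 := by gcongr
      _ = _ := by rw [Nat.cast_add, Nat.cast_one, add_assoc]

/-- Existence of a system of parameters in the radical. -/
theorem exists_of_supportDim_le [IsNoetherianRing A] [Finite (MaximalSpectrum A)] :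
    ∀ (d : ℕ) (M : Type u) [AddCommGroup M] [Module A M] [Module.Finite A M],
    Module.supportDim A M ≤ (d : WithBot ℕ∞) →
    ∃ x : Fin d → A, (∀ i, x i ∈ Ring.jacobson A) ∧
      Order.krullDim ↥(Module.support A M ∩ PrimeSpectrum.zeroLocus (Set.range x)) ≤ 0 := by
  intro d
  induction d with
  | zero =>
    intro M _ _ _ h
    refine ⟨Fin.elim0, fun i => i.elim0, ?_⟩
    rw [Set.range_eq_empty, PrimeSpectrum.zeroLocus_empty, Set.inter_univ]
    exact_mod_cast h
  | succ d ih =>
    intro M _ _ _ h
    obtain ⟨x0, hx0, hav⟩ := exists_mem_jacobson_notMem A (Module.annihilator A M)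
    have h' := supportDim_quotSMulTop_le hav h
    obtain ⟨x', hx', hK⟩ := ih (QuotSMulTop x0 M) h'
    refine ⟨(Fin.cons x0 x' : Fin (d + 1) → A), ?_, ?_⟩
    · intro i
      refine Fin.cases ?_ ?_ i
      · simpa using hx0
      · intro j
        simpa using hx' j
    · rw [← support_quotSMulTop_inter]
      exact hK

variable {A}

theorem supportDim_quotient_eq [Module.Finite A M] {n : ℕ} (x : Fin n → A) :
    Module.supportDim A (M ⧸ (Ideal.span (Set.range x) • (⊤ : Submodule A M))) =
      Order.krullDim ↥(Module.support A M ∩ PrimeSpectrum.zeroLocus (Set.range x)) := by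
  rw [Module.supportDim, Module.support_quotient, PrimeSpectrum.zeroLocus_span]

end lemmas

/-- The equality s(M) = dim(M): let A be a Noetherian ring with finitely many maximal ideals, r its
Jacobson radical and M a nonzero finitely generated A-module. Then the dimension of M (the Krull
dimension of its support) is the least n for which there are elements x_1, …, x_n of r such that
M/(x_1 M + ⋯ + x_n M) has finite length. -/
theorem result (A : Type u) [CommRing A] [IsNoetherianRing A]
    [Finite (MaximalSpectrum A)] (M : Type u) [AddCommGroup M] [Module A M] [Module.Finite A M] [Nontrivial M] :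
    Module.supportDim A M =
      sInf {k : WithBot ℕ∞ | ∃ (n : ℕ) (x : Fin n → A), k = n ∧ (∀ i, x i ∈ Ring.jacobson A) ∧
        IsFiniteLength A (M ⧸ (Ideal.span (Set.range x) • (⊤ : Submodule A M)))} := by
  have hLE : ∀ (n : ℕ) (x : Fin n → A), (∀ i, x i ∈ Ring.jacobson A) →
      Order.krullDim ↥(Module.support A M ∩ PrimeSpectrum.zeroLocus (Set.range x)) ≤ 0 →
      Module.supportDim A M ≤ (n : WithBot ℕ∞) := by
    intro n x hx h0
    calc Module.supportDim A M ≤ _ + (n : ℕ) := supportDim_le_add A n M x hx
      _ ≤ 0 + (n : ℕ) := by gcongr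
      _ = (n : WithBot ℕ∞) := zero_add _
  apply le_antisymm
  · apply le_sInf
    rintro k ⟨n, x, rfl, hx, hFL⟩
    apply hLE n x hx
    rw [← supportDim_quotient_eq]
    exact (isFiniteLength_iff_supportDim_le_zero A _).mp hFL
  · -- finiteness of the dimension
    obtain ⟨n₀, x₀, hspan⟩ := Submodule.fg_iff_exists_fin_generating_family.mp
      (IsNoetherian.noetherian (Ring.jacobson A))
    have hx₀ : ∀ i, x₀ i ∈ Ring.jacobson A := fun i => by
      rw [← hspan]; exact Submodule.subset_span ⟨i, rfl⟩
    have hbound : Module.supportDim A M ≤ (n₀ : WithBot ℕ∞) := by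
      apply hLE n₀ x₀ hx₀
      apply krullDim_le_zero_of_forall_isMaximal
      rintro P ⟨-, hP⟩
      apply isMaximal_of_jacobson_le A P.2
      rw [← hspan]
      exact Submodule.span_le.mpr ((PrimeSpectrum.mem_zeroLocus _ _).mp hP)
    obtain ⟨d, hd⟩ : ∃ d : ℕ, Module.supportDim A M = (d : WithBot ℕ∞) := by
      obtain ⟨a, ha⟩ := WithBot.ne_bot_iff_exists.mp (Module.supportDim_ne_bot_of_nontrivial A M)
      rw [← ha] at hbound
      have ha' : a ≤ (n₀ : ℕ∞) := by exact_mod_cast hbound
      obtain ⟨m, rfl⟩ := ENat.ne_top_iff_exists.mp (ne_top_of_le_ne_top (ENat.natCast_ne_top n₀) ha')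
      exact ⟨m, ha.symm⟩
    obtain ⟨x, hx, hK⟩ := exists_of_supportDim_le A d M hd.le
    rw [hd]
    refine sInf_le ⟨d, x, rfl, hx, ?_⟩
    rw [isFiniteLength_iff_supportDim_le_zero, supportDim_quotient_eq]
    exact hK

end Groth.Agent.S3406
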