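import Groth.Statements.S0477
import Mathlib.Algebra.Homology.HomotopyCategory.Acyclic
import Mathlib.Algebra.Homology.GrothendieckAbelian
import Mathlib.Algebra.Homology.HomologicalComplexLimits
import Mathlib.Algebra.Homology.DerivedCategory.Fractions
import Mathlib.CategoryTheory.Abelian.GrothendieckAxioms.Colim
import Mathlib.CategoryTheory.Abelian.FunctorCategory
import Mathlib.CategoryTheory.Limits.Preserves.Shapes.Products

set_option autoImplicit false
universe v u
open CategoryTheory
open CohDer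

namespace Groth.Agent.S0477

open Limits CochainComplex HomologicalComplex HomComplex DerivedCategory

/-! ## Generalities on mapping cones -/

section General

variable {A : Type u} [Category.{v} A] [Abelian A]

/-- A morphism of cochain complexes is a quasi-isomorphism iff its cone is acyclic. -/
theorem quasiIso_iff_exactAt_cone {K L : CochainComplex A ℤ} (φ : K ⟶ L) :
    QuasiIso φ ↔ ∀ n, (mappingCone φ).ExactAt n := by
  have h1 : QuasiIso φ ↔ (HomotopyCategory.subcategoryAcyclic A).trW
      ((HomotopyCategory.quotient A (ComplexShape.up ℤ)).map φ) := by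
    rw [← HomologicalComplex.mem_quasiIso_iff, ← HomotopyCategory.quotient_map_mem_quasiIso_iff,
      HomotopyCategory.quasiIso_eq_trW_subcategoryAcyclic]
  rw [h1, ← HomotopyCategory.quotient_obj_mem_subcategoryAcyclic_iff_exactAt]
  exact ObjectProperty.trW_iff_of_distinguished _ _
    (HomotopyCategory.mappingCone_triangleh_distinguished φ)

theorem inl_map {K₁ L₁ K₂ L₂ : CochainComplex A ℤ} (φ₁ : K₁ ⟶ L₁) (φ₂ : K₂ ⟶ L₂)
    (a : K₁ ⟶ K₂) (b : L₁ ⟶ L₂) (comm : φ₁ ≫ b = a ≫ φ₂) (p q : ℤ) (h : p + (-1) = q) :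
    (mappingCone.inl φ₁).v p q h ≫ (mappingCone.map φ₁ φ₂ a b comm).f q =
      a.f p ≫ (mappingCone.inl φ₂).v p q h := by
  simp [mappingCone.map]

theorem inr_map {K₁ L₁ K₂ L₂ : CochainComplex A ℤ} (φ₁ : K₁ ⟶ L₁) (φ₂ : K₂ ⟶ L₂)
    (a : K₁ ⟶ K₂) (b : L₁ ⟶ L₂) (comm : φ₁ ≫ b = a ≫ φ₂) (q : ℤ) :
    (mappingCone.inr φ₁).f q ≫ (mappingCone.map φ₁ φ₂ a b comm).f q =
      b.f q ≫ (mappingCone.inr φ₂).f q := by
  simp [mappingCone.map]

/-- The differential as a natural transformation between evaluation functors. -/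
def dNat (i j : ℤ) : eval A (ComplexShape.up ℤ) i ⟶ eval A (ComplexShape.up ℤ) j where
  app K := K.d i j
  naturality _ _ f := f.comm i j

end General

/-! ## Coproducts of complexes, degreewise -/

section Sigma

variable {A : Type u} [Category.{v} A] [Abelian A] [IsGrothendieckAbelian.{v} A]
  {J : Type v}

/-- AB4: if a cofan of complexes is degreewise a colimit cofan and all the components are
acyclic, then the point is acyclic. -/
theorem exactAt_of_degreewise_colimit (M : J → CochainComplex A ℤ)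
    (P : CochainComplex A ℤ) (ι : ∀ j, M j ⟶ P)
    (hι : ∀ k, IsColimit (Cofan.mk (P.X k) (fun j => (ι j).f k) : Cofan (fun j => (M j).X k)))
    (hM : ∀ j n, (M j).ExactAt n) (n : ℤ) : P.ExactAt n := by
  let c := ComplexShape.up ℤ
  let F : Discrete J ⥤ CochainComplex A ℤ := Discrete.functor M
  let S : ShortComplex (Discrete J ⥤ A) :=
    ShortComplex.mk (Functor.whiskerLeft F (dNat (c.prev n) n))
      (Functor.whiskerLeft F (dNat n (c.next n)))
      (by ext p; exact (F.obj p).d_comp_d _ _ _)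
  have hS : S.Exact := by
    rw [ShortComplex.exact_iff_isZero_homology, Functor.isZero_iff]
    intro p
    have : PreservesFiniteLimits ((evaluation (Discrete J) A).obj p) :=
      ⟨fun _ _ _ => inferInstance⟩
    have : PreservesFiniteColimits ((evaluation (Discrete J) A).obj p) :=
      ⟨fun _ _ _ => inferInstance⟩
    have e := S.mapHomologyIso ((evaluation (Discrete J) A).obj p)
    refine IsZero.of_iso ?_ e.symm
    have h1 : (S.map ((evaluation (Discrete J) A).obj p)).Exact := hM p.as n
    exact (ShortComplex.exact_iff_isZero_homology _).1 h1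
  have hc : ∀ k, IsColimit ((eval A c k).mapCocone (Cofan.mk P ι)) := fun k =>
    (isColimitMapCoconeCofanMkEquiv (eval A c k) M ι).symm (hι k)
  exact colim.exact_mapShortComplex hS (hc (c.prev n)) (hc n) (hc (c.next n))
    (P.d (c.prev n) n) (P.d n (c.next n))
    (fun p => (ι p.as).comm _ _) (fun p => (ι p.as).comm _ _)

variable (K : J → CochainComplex A ℤ)

/-- The degree `p` terms of a coproduct of complexes form a coproduct. -/
noncomputable def xIsColimit (p : ℤ) :
    IsColimit (Cofan.mk ((∐ K).X p) (fun j => (Sigma.ι K j).f p) :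
      Cofan (fun j => (K j).X p)) :=
  isColimitOfHasCoproductOfPreservesColimit (HomologicalComplex.eval A (ComplexShape.up ℤ) p) K

/-- Morphisms out of the degree `p` term of a coproduct. -/
noncomputable def descX (p : ℤ) {T : A} (f : ∀ j, (K j).X p ⟶ T) : (∐ K).X p ⟶ T :=
  Cofan.IsColimit.desc (xIsColimit K p) f

theorem ι_descX (p : ℤ) {T : A} (f : ∀ j, (K j).X p ⟶ T) (j : J) :
    (Sigma.ι K j).f p ≫ descX K p f = f j :=
  Cofan.IsColimit.fac (xIsColimit K p) f j

theorem homX_ext (p : ℤ) {T : A} (f g : (∐ K).X p ⟶ T)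
    (h : ∀ j, (Sigma.ι K j).f p ≫ f = (Sigma.ι K j).f p ≫ g) : f = g :=
  Cofan.IsColimit.hom_ext (xIsColimit K p) f g h

theorem cochain_ext_sigma {L : CochainComplex A ℤ} {m : ℤ} (z z' : Cochain (∐ K) L m)
    (h : ∀ j, (Cochain.ofHom (Sigma.ι K j)).comp z (zero_add m) =
      (Cochain.ofHom (Sigma.ι K j)).comp z' (zero_add m)) : z = z' := by
  ext a b hab
  apply homX_ext K a
  intro j
  have := Cochain.congr_v (h j) a b hab
  simp only [Cochain.zero_cochain_comp_v, Cochain.ofHom_v] at this
  exact this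

/-- A family of cochains defines a cochain out of the coproduct. -/
noncomputable def descCochain {L : CochainComplex A ℤ} {m : ℤ}
    (z : ∀ j, Cochain (K j) L m) : Cochain (∐ K) L m :=
  Cochain.mk (fun a b hab => descX K a (fun j => (z j).v a b hab))

theorem ι_descCochain {L : CochainComplex A ℤ} {m : ℤ}
    (z : ∀ j, Cochain (K j) L m) (j : J) :
    (Cochain.ofHom (Sigma.ι K j)).comp (descCochain K z) (zero_add m) = z j := by
  ext a b hab
  simp only [Cochain.zero_cochain_comp_v, Cochain.ofHom_v, descCochain, Cochain.mk_v]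
  exact ι_descX K a _ j

/-- Two maps out of a coproduct which are homotopic on each summand are homotopic. -/
theorem homotopy_of_sigma {L : CochainComplex A ℤ} (F G : ∐ K ⟶ L)
    (h : ∀ j, Nonempty (Homotopy (Sigma.ι K j ≫ F) (Sigma.ι K j ≫ G))) :
    Nonempty (Homotopy F G) := by
  have hj : ∀ j, Homotopy (Sigma.ι K j ≫ F) (Sigma.ι K j ≫ G) := fun j => (h j).some
  let z : ∀ j, Cochain (K j) L (-1) := fun j => (Cochain.equivHomotopy _ _ (hj j)).1
  have hz : ∀ j, Cochain.ofHom (Sigma.ι K j ≫ F) =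
      δ (-1) 0 (z j) + Cochain.ofHom (Sigma.ι K j ≫ G) :=
    fun j => (Cochain.equivHomotopy _ _ (hj j)).2
  refine ⟨(Cochain.equivHomotopy F G).symm ⟨descCochain K z, ?_⟩⟩
  apply cochain_ext_sigma K
  intro j
  rw [Cochain.comp_add, ← Cochain.ofHom_comp, ← Cochain.ofHom_comp, ← δ_ofHom_comp,
    ι_descCochain]
  exact hz j

theorem q_map_eq_of_sigma {L : CochainComplex A ℤ} (F G : ∐ K ⟶ L)
    (h : ∀ j, (HomotopyCategory.quotient A (ComplexShape.up ℤ)).map (Sigma.ι K j ≫ F) =
      (HomotopyCategory.quotient A (ComplexShape.up ℤ)).map (Sigma.ι K j ≫ G)) :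
    (HomotopyCategory.quotient A (ComplexShape.up ℤ)).map F =
      (HomotopyCategory.quotient A (ComplexShape.up ℤ)).map G := by
  obtain ⟨H⟩ := homotopy_of_sigma K F G
    (fun j => ⟨HomotopyCategory.homotopyOfEq _ _ (h j)⟩)
  exact HomotopyCategory.eq_of_homotopy _ _ H

end Sigma

/-! ## The cone of a coproduct of maps -/

section Cone

variable {A : Type u} [Category.{v} A] [Abelian A] [IsGrothendieckAbelian.{v} A]
  {J : Type v} {K' K : J → CochainComplex A ℤ} (s : ∀ j, K' j ⟶ K j)

/-- The inclusion of the cone of a summand in the cone of the coproduct map. -/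
noncomputable def coneIncl (j : J) : mappingCone (s j) ⟶ mappingCone (Limits.Sigma.map s) :=
  mappingCone.map (s j) (Limits.Sigma.map s) (Sigma.ι K' j) (Sigma.ι K j) (Sigma.ι_map s j).symm

theorem inl_coneIncl (j : J) (p q : ℤ) (h : p + (-1) = q) :
    (mappingCone.inl (s j)).v p q h ≫ (coneIncl s j).f q =
      (Sigma.ι K' j).f p ≫ (mappingCone.inl (Limits.Sigma.map s)).v p q h :=
  inl_map _ _ _ _ _ p q h

theorem inr_coneIncl (j : J) (q : ℤ) :
    (mappingCone.inr (s j)).f q ≫ (coneIncl s j).f q =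
      (Sigma.ι K j).f q ≫ (mappingCone.inr (Limits.Sigma.map s)).f q :=
  inr_map _ _ _ _ _ q

/-- Morphisms out of the degree `k` term of the cone of the coproduct map. -/
noncomputable def coneDesc (k : ℤ) {T : A} (f : ∀ j, (mappingCone (s j)).X k ⟶ T) :
    (mappingCone (Limits.Sigma.map s)).X k ⟶ T :=
  (mappingCone.fst (Limits.Sigma.map s)).1.v k (k + 1) rfl ≫
      descX K' (k + 1) (fun j => (mappingCone.inl (s j)).v (k + 1) k (by omega) ≫ f j) +
    (mappingCone.snd (Limits.Sigma.map s)).v k k (add_zero k) ≫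
      descX K k (fun j => (mappingCone.inr (s j)).f k ≫ f j)

theorem coneIncl_coneDesc (k : ℤ) {T : A} (f : ∀ j, (mappingCone (s j)).X k ⟶ T) (j : J) :
    (coneIncl s j).f k ≫ coneDesc s k f = f j := by
  apply mappingCone.ext_from (s j) (k + 1) k rfl
  · have e := inl_coneIncl s j (k + 1) k (by omega)
    rw [reassoc_of% e]
    dsimp only [coneDesc]
    rw [Preadditive.comp_add, mappingCone.inl_v_fst_v_assoc, mappingCone.inl_v_snd_v_assoc,
      zero_comp, add_zero, ι_descX]
  · have e := inr_coneIncl s j k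
    rw [reassoc_of% e]
    dsimp only [coneDesc]
    rw [Preadditive.comp_add, mappingCone.inr_f_fst_v_assoc, mappingCone.inr_f_snd_v_assoc,
      zero_comp, zero_add, ι_descX]

theorem coneHom_ext (k : ℤ) {T : A} (m m' : (mappingCone (Limits.Sigma.map s)).X k ⟶ T)
    (h : ∀ j, (coneIncl s j).f k ≫ m = (coneIncl s j).f k ≫ m') : m = m' := by
  apply mappingCone.ext_from (Limits.Sigma.map s) (k + 1) k rfl
  · apply homX_ext K' (k + 1)
    intro j
    have e := inl_coneIncl s j (k + 1) k (by omega)
    rw [← reassoc_of% e, ← reassoc_of% e, h j]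
  · apply homX_ext K k
    intro j
    have e := inr_coneIncl s j k
    rw [← reassoc_of% e, ← reassoc_of% e, h j]

/-- The degree `k` terms of the cones of the summands form a coproduct with colimit the
degree `k` term of the cone of the coproduct map. -/
noncomputable def coneXIsColimit (k : ℤ) :
    IsColimit (Cofan.mk ((mappingCone (Limits.Sigma.map s)).X k) (fun j => (coneIncl s j).f k) :
      Cofan (fun j => (mappingCone (s j)).X k)) :=
  Cofan.IsColimit.mk _ (fun t => coneDesc s k t.inj)
    (fun t j => coneIncl_coneDesc s k t.inj j)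
    (fun t m hm => coneHom_ext s k _ _ (fun j => by
      rw [coneIncl_coneDesc]
      exact hm j))

/-- A coproduct of quasi-isomorphisms is a quasi-isomorphism (AB4). -/
theorem quasiIso_sigmaMap (hs : ∀ j, QuasiIso (s j)) : QuasiIso (Limits.Sigma.map s) := by
  rw [quasiIso_iff_exactAt_cone]
  exact exactAt_of_degreewise_colimit (fun j => mappingCone (s j)) _ (coneIncl s)
    (coneXIsColimit s) (fun j => (quasiIso_iff_exactAt_cone (s j)).1 (hs j))

end Cone

/-! ## Coproducts in the derived category -/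

section Derived

variable {A : Type u} [Category.{v} A] [Abelian A] [HasDerivedCategory.{v} A]

theorem Q_map_eq_of_q {X Y : CochainComplex A ℤ} {a b : X ⟶ Y}
    (h : (HomotopyCategory.quotient A (ComplexShape.up ℤ)).map a =
      (HomotopyCategory.quotient A (ComplexShape.up ℤ)).map b) : Q.map a = Q.map b :=
  Q_map_eq_of_homotopy A (HomotopyCategory.homotopyOfEq _ _ h)

set_option backward.isDefEq.respectTransparency.types false in
/-- Two maps of complexes which agree in the derived category become homotopic after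
precomposition with a quasi-isomorphism. -/
theorem lemmaP {X Y : CochainComplex A ℤ} (a b : X ⟶ Y) (h : Q.map a = Q.map b) :
    ∃ (X' : CochainComplex A ℤ) (t : X' ⟶ X), QuasiIso t ∧
      (HomotopyCategory.quotient A (ComplexShape.up ℤ)).map (t ≫ a) =
        (HomotopyCategory.quotient A (ComplexShape.up ℤ)).map (t ≫ b) := by
  have h' : Qh.map ((HomotopyCategory.quotient A (ComplexShape.up ℤ)).map a) =
      Qh.map ((HomotopyCategory.quotient A (ComplexShape.up ℤ)).map b) := by
    rw [← cancel_mono ((quotientCompQhIso A).hom.app Y), quotientCompQhIso_hom_naturality,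
      quotientCompQhIso_hom_naturality, h]
  rw [MorphismProperty.map_eq_iff_precomp Qh
    (HomotopyCategory.quasiIso A (ComplexShape.up ℤ))] at h'
  obtain ⟨Z, t, ht, eq⟩ := h'
  obtain ⟨X', rfl⟩ := HomotopyCategory.quotient_obj_surjective Z
  obtain ⟨t, rfl⟩ := (HomotopyCategory.quotient _ _).map_surjective t
  rw [HomotopyCategory.quotient_map_mem_quasiIso_iff, HomologicalComplex.mem_quasiIso_iff] at ht
  exact ⟨X', t, ht, by rw [Functor.map_comp, Functor.map_comp]; exact eq⟩

variable [IsGrothendieckAbelian.{v} A] {J : Type v} (K : J → CochainComplex A ℤ)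

theorem exists_desc' (L : CochainComplex A ℤ) (φ : ∀ j, Q.obj (K j) ⟶ Q.obj L) :
    ∃ Φ : Q.obj (∐ K) ⟶ Q.obj L, ∀ j, Q.map (Sigma.ι K j) ≫ Φ = φ j := by
  have := fun j => DerivedCategory.right_fac (φ j)
  choose K' s hs g hg using this
  have hs' : ∀ j, QuasiIso (s j) := fun j => (isIso_Q_map_iff_quasiIso A (s j)).1 (hs j)
  have : QuasiIso (Limits.Sigma.map s) := quasiIso_sigmaMap s hs'
  refine ⟨inv (Q.map (Limits.Sigma.map s)) ≫ Q.map (Sigma.desc g), fun j => ?_⟩
  have := hs j
  rw [hg j, ← cancel_epi (Q.map (s j)), IsIso.hom_inv_id_assoc, ← Functor.map_comp_assoc,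
    ← Sigma.ι_map s j, Functor.map_comp_assoc, IsIso.hom_inv_id_assoc, ← Functor.map_comp,
    Sigma.ι_desc]

theorem eq_zero_of_ι_comp_eq_zero (L : CochainComplex A ℤ) (Ψ : Q.obj (∐ K) ⟶ Q.obj L)
    (hΨ : ∀ j, Q.map (Sigma.ι K j) ≫ Ψ = 0) : Ψ = 0 := by
  obtain ⟨M, s, hs, g, rfl⟩ := DerivedCategory.right_fac Ψ
  have := hs
  have key : ∀ j, ∃ (K' : CochainComplex A ℤ) (t : K' ⟶ K j) (u : K' ⟶ M), QuasiIso t ∧
      (HomotopyCategory.quotient A (ComplexShape.up ℤ)).map (t ≫ Sigma.ι K j) =
        (HomotopyCategory.quotient A (ComplexShape.up ℤ)).map (u ≫ s) ∧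
      (HomotopyCategory.quotient A (ComplexShape.up ℤ)).map (u ≫ g) = 0 := by
    intro j
    obtain ⟨K₁, t₁, ht₁, u₁, h₁⟩ :=
      DerivedCategory.right_fac (Q.map (Sigma.ι K j) ≫ inv (Q.map s))
    have := ht₁
    have ht₁' : QuasiIso t₁ := (isIso_Q_map_iff_quasiIso A t₁).1 ht₁
    have hu₁ : Q.map u₁ = Q.map t₁ ≫ Q.map (Sigma.ι K j) ≫ inv (Q.map s) := by
      rw [h₁, IsIso.hom_inv_id_assoc]
    have e₁ : Q.map (t₁ ≫ Sigma.ι K j) = Q.map (u₁ ≫ s) := by
      rw [Functor.map_comp, Functor.map_comp, hu₁, Category.assoc, Category.assoc,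
        IsIso.inv_hom_id, Category.comp_id]
    have e₃ : Q.map (u₁ ≫ g) = Q.map (0 : K₁ ⟶ L) := by
      rw [Functor.map_comp, hu₁, Category.assoc, Category.assoc, hΨ j, comp_zero,
        Functor.map_zero]
    obtain ⟨K₂, w₂, hw₂, e₂⟩ := lemmaP _ _ e₁
    have := hw₂
    have e₄ : Q.map (w₂ ≫ u₁ ≫ g) = Q.map (0 : K₂ ⟶ L) := by
      rw [Functor.map_comp, e₃, Functor.map_zero, Functor.map_zero, comp_zero]
    obtain ⟨K₃, w₃, hw₃, e₅⟩ := lemmaP _ _ e₄
    have := hw₃
    refine ⟨K₃, w₃ ≫ w₂ ≫ t₁, w₃ ≫ w₂ ≫ u₁, inferInstance, ?_, ?_⟩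
    · simp only [Category.assoc]
      rw [Functor.map_comp, e₂, ← Functor.map_comp]
    · simp only [Category.assoc]
      rw [e₅, comp_zero, Functor.map_zero]
  choose K' t u ht h1 h2 using key
  have hσ : QuasiIso (Limits.Sigma.map t) := quasiIso_sigmaMap t ht
  have hU1 : (HomotopyCategory.quotient A (ComplexShape.up ℤ)).map (Sigma.desc u ≫ s) =
      (HomotopyCategory.quotient A (ComplexShape.up ℤ)).map (Limits.Sigma.map t) := by
    apply q_map_eq_of_sigma
    intro j
    rw [Sigma.ι_desc_assoc, Sigma.ι_map]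
    exact (h1 j).symm
  have hU2 : (HomotopyCategory.quotient A (ComplexShape.up ℤ)).map (Sigma.desc u ≫ g) =
      (HomotopyCategory.quotient A (ComplexShape.up ℤ)).map 0 := by
    apply q_map_eq_of_sigma
    intro j
    rw [Sigma.ι_desc_assoc, comp_zero, Functor.map_zero]
    exact h2 j
  have hU1' : Q.map (Sigma.desc u) ≫ Q.map s = Q.map (Limits.Sigma.map t) := by
    rw [← Functor.map_comp]
    exact Q_map_eq_of_q hU1
  have hU2' : Q.map (Sigma.desc u) ≫ Q.map g = 0 := by
    rw [← Functor.map_comp, Q_map_eq_of_q hU2, Functor.map_zero]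
  have : IsIso (Q.map (Sigma.desc u)) := IsIso.of_isIso_fac_right hU1'
  have hg0 : Q.map g = 0 := by
    rw [← cancel_epi (Q.map (Sigma.desc u)), hU2', comp_zero]
  rw [hg0, comp_zero]

theorem exists_desc (Y : DerivedCategory A) (φ : ∀ j, Q.obj (K j) ⟶ Y) :
    ∃ Φ : Q.obj (∐ K) ⟶ Y, ∀ j, Q.map (Sigma.ι K j) ≫ Φ = φ j := by
  let e : Q.obj (Q.objPreimage Y) ≅ Y := Q.objObjPreimageIso Y
  obtain ⟨Φ, hΦ⟩ := exists_desc' K (Q.objPreimage Y) (fun j => φ j ≫ e.inv)
  exact ⟨Φ ≫ e.hom, fun j => by
    rw [← Category.assoc, hΦ j, Category.assoc, e.inv_hom_id, Category.comp_id]⟩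

theorem hom_ext_Q (Y : DerivedCategory A) (Φ Φ' : Q.obj (∐ K) ⟶ Y)
    (h : ∀ j, Q.map (Sigma.ι K j) ≫ Φ = Q.map (Sigma.ι K j) ≫ Φ') : Φ = Φ' := by
  let e : Q.obj (Q.objPreimage Y) ≅ Y := Q.objObjPreimageIso Y
  have h0 : (Φ - Φ') ≫ e.inv = 0 := by
    apply eq_zero_of_ι_comp_eq_zero K
    intro j
    rw [← Category.assoc, Preadditive.comp_sub, h j, sub_self, zero_comp]
  have h1 : Φ - Φ' = 0 := by
    rw [← cancel_mono e.inv, h0, zero_comp]
  exact sub_eq_zero.1 h1

/-- The image in the derived category of the coproduct of complexes is a coproduct. -/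
noncomputable def isColimitQ :
    IsColimit (Cofan.mk (Q.obj (∐ K)) (fun j => Q.map (Sigma.ι K j)) :
      Cofan (fun j => Q.obj (K j))) :=
  Cofan.IsColimit.mk _ (fun t => (exists_desc K t.pt t.inj).choose)
    (fun t j => (exists_desc K t.pt t.inj).choose_spec j)
    (fun t m hm => hom_ext_Q K t.pt _ _ (fun j => by
      rw [(exists_desc K t.pt t.inj).choose_spec j]
      exact hm j))

theorem hasCoproduct_D (X : J → DerivedCategory A) : HasCoproduct X := by
  let K : J → CochainComplex A ℤ := fun j => Q.objPreimage (X j)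
  have : HasColimit (Discrete.functor (fun j => Q.obj (K j))) :=
    HasColimit.mk ⟨_, isColimitQ K⟩
  exact hasColimit_of_iso (F := Discrete.functor (fun j => Q.obj (K j)))
    (Discrete.natIso (fun j => (Q.objObjPreimageIso (X j.as)).symm))

end Derived

open CategoryTheory.Limits in
/-- For a Grothendieck abelian category A, the derived category D(A) has all direct sums (coproducts
indexed by small types). (The published statement also describes these direct sums as computed
termwise on representing complexes; only their existence is asserted here.) -/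
theorem result {A : Type u} [Category.{v} A] [Abelian A] [IsGrothendieckAbelian.{v} A]
    [HasDerivedCategory.{v} A] : HasCoproducts.{v} (DerivedCategory A) := by
  intro J
  refine ⟨fun F => ?_⟩
  have : HasColimit (Discrete.functor (F.obj ∘ Discrete.mk)) := hasCoproduct_D _
  exact hasColimit_of_iso Discrete.natIsoFunctor

end Groth.Agent.S0477
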