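import Groth.Statements.S4860
import Mathlib
import Groth.Agent.H24.AwayField2

set_option autoImplicit false
universe u
open EGA43

namespace Groth.Agent.S4860

/-- For an integral domain B the following are equivalent: a) the localization B_f is a field for some
nonzero f; b) the fraction field of B is a finitely generated B-algebra; c) there is a field
containing B (an injective algebra map from B) which is a finitely generated B-algebra; d) the
generic point of Spec B is open. -/
theorem result (B : Type u) [CommRing B] [IsDomain B] :
    [∃ f : B, f ≠ 0 ∧ IsField (Localization.Away f),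
      Algebra.FiniteType B (FractionRing B),
      ∃ (K : Type u) (_ : Field K) (_ : Algebra B K), Function.Injective (algebraMap B K) ∧ Algebra.FiniteType B K,
      IsOpen ({⟨⊥, Ideal.bot_prime⟩} : Set (PrimeSpectrum B))].TFAE := by
  classical
  tfae_have 1 → 2 := by
    rintro ⟨f, hf0, hf⟩
    have hinj : Function.Injective (algebraMap B (Localization.Away f)) :=
      IsLocalization.injective (Localization.Away f)
        (powers_le_nonZeroDivisors_of_noZeroDivisors hf0)
    refine ⟨⟨{(algebraMap B (FractionRing B) f)⁻¹}, ?_⟩⟩
    rw [eq_top_iff]
    intro x _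
    obtain ⟨a, s, hs, rfl⟩ := IsFractionRing.div_surjective (A := B) x
    have hs0 : s ≠ 0 := nonZeroDivisors.ne_zero hs
    have hs0' : algebraMap B (Localization.Away f) s ≠ 0 := fun h => hs0 (hinj (by rw [h, map_zero]))
    obtain ⟨y, hy⟩ := hf.mul_inv_cancel hs0'
    obtain ⟨b, ⟨_, n, rfl⟩, rfl⟩ := IsLocalization.exists_mk'_eq (Submonoid.powers f) y
    have h1 : s * b = f ^ n := by
      apply hinj
      have := congrArg (fun z => z * algebraMap B (Localization.Away f) (f ^ n)) hy
      simp only [one_mul] at this
      rw [mul_assoc, IsLocalization.mk'_spec, ← map_mul] at this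
      exact this
    have hf0' : algebraMap B (FractionRing B) f ≠ 0 := by
      simpa using hf0
    have hs0'' : algebraMap B (FractionRing B) s ≠ 0 := by
      simpa using hs0
    have h2 : algebraMap B (FractionRing B) a / algebraMap B (FractionRing B) s =
        algebraMap B (FractionRing B) (a * b) * ((algebraMap B (FractionRing B) f)⁻¹) ^ n := by
      have h1' := congrArg (algebraMap B (FractionRing B)) h1
      rw [map_mul, map_pow] at h1'
      have h3 : ((algebraMap B (FractionRing B) f)⁻¹) ^ n *
          (algebraMap B (FractionRing B) s * algebraMap B (FractionRing B) b) = 1 := by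
        rw [h1', inv_pow, inv_mul_cancel₀ (pow_ne_zero n hf0')]
      rw [div_eq_iff hs0'', map_mul]
      linear_combination (-(algebraMap B (FractionRing B) a)) * h3
    rw [h2]
    exact Subalgebra.mul_mem _ (Subalgebra.algebraMap_mem _ _)
      (Subalgebra.pow_mem _ (Algebra.subset_adjoin (by simp)) n)
  tfae_have 2 → 3 := by
    intro h
    exact ⟨FractionRing B, inferInstance, inferInstance, IsFractionRing.injective B _, h⟩
  tfae_have 3 → 1 := by
    rintro ⟨K, _, _, hinj, hft⟩
    have hfs : FaithfulSMul B K := (faithfulSMul_iff_algebraMap_injective B K).mpr hinj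
    let _ := FractionRing.liftAlgebra B K
    have := FractionRing.isScalarTower_liftAlgebra B K
    have : Algebra.FiniteType (FractionRing B) K :=
      Algebra.FiniteType.of_restrictScalars_finiteType B (FractionRing B) K
    have : Module.Finite (FractionRing B) K := finite_of_finite_type_of_isJacobsonRing _ _
    have halg : Algebra.IsAlgebraic (FractionRing B) K := Algebra.IsAlgebraic.of_finite _ _
    have halgB : ∀ x : K, IsAlgebraic B x := fun x =>
      (IsFractionRing.isAlgebraic_iff B (FractionRing B) K).mpr (halg.isAlgebraic x)
    obtain ⟨t, ht⟩ := hft.out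
    choose y hy0 hyint using fun x : K => (halgB x).exists_integral_multiple
    let f := ∏ x ∈ t, y x
    have hf0 : f ≠ 0 := Finset.prod_ne_zero_iff.mpr (fun x _ => hy0 x)
    refine ⟨f, hf0, ?_⟩
    have hfK : algebraMap B K f ≠ 0 := fun h => hf0 (hinj (by rw [h, map_zero]))
    have hfu : IsUnit (algebraMap B K f) := IsUnit.mk0 _ hfK
    let _ : Algebra (Localization.Away f) K := (IsLocalization.Away.lift f hfu).toAlgebra
    have hst : IsScalarTower B (Localization.Away f) K :=
      IsScalarTower.of_algebraMap_eq (fun b => (IsLocalization.Away.lift_eq f hfu b).symm)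
    have hint : Algebra.IsIntegral (Localization.Away f) K := by
      have hsub : Algebra.adjoin B (t : Set K) ≤
          (integralClosure (Localization.Away f) K).restrictScalars B := by
        apply Algebra.adjoin_le
        intro x hx
        have hdvd : y x ∣ f := Finset.dvd_prod_of_mem _ hx
        have hu : IsUnit (algebraMap B (Localization.Away f) (y x)) :=
          isUnit_of_dvd_unit (map_dvd _ hdvd)
            (IsLocalization.map_units (Localization.Away f) ⟨f, Submonoid.mem_powers f⟩)
        obtain ⟨u, hu'⟩ := hu
        have h1 : IsIntegral (Localization.Away f) (y x • x) := (hyint x).tower_top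
        have h2 : IsIntegral (Localization.Away f)
            (algebraMap (Localization.Away f) K (↑u⁻¹ : Localization.Away f)) :=
          isIntegral_algebraMap
        have h3 := h2.mul h1
        have h4 : algebraMap (Localization.Away f) K (↑u⁻¹ : Localization.Away f) * (y x • x)
            = x := by
          rw [Algebra.smul_def, ← mul_assoc,
            IsScalarTower.algebraMap_apply B (Localization.Away f) K, ← map_mul, ← hu',
            Units.inv_mul, map_one, one_mul]
        rw [h4] at h3
        exact h3
      rw [ht] at hsub
      exact ⟨fun x => hsub trivial⟩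
    have hinj' : Function.Injective (algebraMap (Localization.Away f) K) := by
      change Function.Injective (IsLocalization.Away.lift f hfu)
      unfold IsLocalization.Away.lift
      rw [IsLocalization.lift_injective_iff]
      intro a b
      constructor
      · intro h
        rw [(IsLocalization.injective (Localization.Away f)
          (powers_le_nonZeroDivisors_of_noZeroDivisors hf0)) h]
      · intro h
        rw [hinj h]
    exact isField_of_isIntegral_of_isField hinj' (Field.toIsField K)
  tfae_have 1 → 4 := by
    rintro ⟨f, hf0, hf⟩
    have : ({⟨⊥, Ideal.bot_prime⟩} : Set (PrimeSpectrum B)) = PrimeSpectrum.basicOpen f := by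
      ext p
      simp only [Set.mem_singleton_iff, SetLike.mem_coe, PrimeSpectrum.mem_basicOpen]
      constructor
      · rintro rfl
        simpa using hf0
      · intro hfp
        ext1
        by_contra hne
        exact hfp (H24.mem_of_isField_away hf p.asIdeal hne)
    rw [this]
    exact (PrimeSpectrum.basicOpen f).2
  tfae_have 4 → 1 := by
    intro hopen
    obtain ⟨_, ⟨f, rfl⟩, hmem, hsub⟩ :=
      PrimeSpectrum.isTopologicalBasis_basic_opens.exists_subset_of_mem_open
        (Set.mem_singleton (⟨⊥, Ideal.bot_prime⟩ : PrimeSpectrum B)) hopen
    have hf0 : f ≠ 0 := by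
      intro h
      rw [h] at hmem
      simp at hmem
    refine ⟨f, hf0, H24.isField_away_of_forall_mem hf0 ?_⟩
    intro p hp hp0
    by_contra hfp
    have : (⟨p, hp⟩ : PrimeSpectrum B) ∈ ({⟨⊥, Ideal.bot_prime⟩} : Set (PrimeSpectrum B)) :=
      hsub (by simpa using hfp)
    rw [Set.mem_singleton_iff] at this
    exact hp0 (congrArg PrimeSpectrum.asIdeal this)
  tfae_finish

end Groth.Agent.S4860
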