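import Groth.Statements.S4712
import Mathlib
import Groth.Agent.H24.LocClosedDim

set_option autoImplicit false
universe u
open EGA4

namespace Groth.Agent.S4712

open AlgebraicGeometry in
/-- Let X be a locally Noetherian scheme and x a point such that {x} is locally closed in X. Then the
closure of {x} has dimension at most 1, and every point of that closure other than x is a closed
point of X. -/
theorem result (X : Scheme.{u}) [IsLocallyNoetherian X] (x : X)
    (hx : IsLocallyClosed ({x} : Set X)) :
    topologicalKrullDim (closure ({x} : Set X)) ≤ 1 ∧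
      ∀ y ∈ closure ({x} : Set X), y ≠ x → IsClosed ({y} : Set X) := by
  have key : ∀ y ∈ closure ({x} : Set X), y ≠ x → IsClosed ({y} : Set X) := by
    intro y hy hyx
    rw [← closure_subset_iff_isClosed]
    intro y' hy'
    have hxy : x ⤳ y := specializes_iff_mem_closure.mpr hy
    have hyy' : y ⤳ y' := specializes_iff_mem_closure.mpr hy'
    obtain ⟨_, ⟨U, hU : IsAffineOpen U, rfl⟩, hy'U, -⟩ :=
      X.isBasis_affineOpens.exists_subset_of_mem_open (Set.mem_univ y') isOpen_univ
    have hyU : y ∈ U := hyy'.mem_open U.2 hy'U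
    have hxU : x ∈ U := hxy.mem_open U.2 hyU
    have : IsNoetherianRing Γ(X, U) := IsLocallyNoetherian.component_noetherian ⟨U, hU⟩
    have hf : Topology.IsOpenEmbedding hU.fromSpec := hU.fromSpec.isOpenEmbedding
    have hrange : Set.range hU.fromSpec = U := hU.range_fromSpec
    obtain ⟨px, rfl⟩ : x ∈ Set.range hU.fromSpec := hrange ▸ hxU
    obtain ⟨py, rfl⟩ : y ∈ Set.range hU.fromSpec := hrange ▸ hyU
    obtain ⟨py', rfl⟩ : y' ∈ Set.range hU.fromSpec := hrange ▸ hy'U
    rw [hf.isInducing.specializes_iff] at hxy hyy'
    have hpre : hU.fromSpec ⁻¹' {hU.fromSpec px} = {px} := by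
      ext t
      simp only [Set.mem_preimage, Set.mem_singleton_iff]
      exact hf.injective.eq_iff
    have hlc : IsLocallyClosed ({px} : Set (PrimeSpectrum Γ(X, U))) := by
      have := hx.preimage hf.continuous
      rwa [hpre] at this
    have h1 : px.asIdeal ≤ py.asIdeal := (PrimeSpectrum.le_iff_specializes px py).mpr hxy
    have h2 : py.asIdeal ≤ py'.asIdeal := (PrimeSpectrum.le_iff_specializes py py').mpr hyy'
    have hne : px ≠ py := fun h => hyx (by rw [h])
    have h1' : px.asIdeal < py.asIdeal := lt_of_le_of_ne h1 (fun h => hne (PrimeSpectrum.ext h))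
    have hmax := H24.isMaximal_of_lt_of_isLocallyClosed_singleton px hlc py.asIdeal (hq := py.2) h1'
    have : py.asIdeal = py'.asIdeal := hmax.eq_of_le py'.2.ne_top h2
    have : py = py' := PrimeSpectrum.ext this
    rw [this]
    rfl
  exact ⟨H24.topologicalKrullDim_closure_singleton_le_one x key, key⟩

end Groth.Agent.S4712
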