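import Groth.Statements.S4713
import Mathlib
import Groth.Agent.H24.LocClosedPt
import Groth.Agent.S4712

set_option autoImplicit false
universe u
open EGA4

namespace Groth.Agent.S4713

open AlgebraicGeometry in
/-- In a locally Noetherian scheme X, every nonempty closed subset contains a closed point of X. -/
theorem result (X : Scheme.{u}) [IsLocallyNoetherian X]
    (Z : Set X) (hZ : IsClosed Z) (hne : Z.Nonempty) : ∃ x ∈ Z, IsClosed ({x} : Set X) := by
  obtain ⟨z, hz⟩ := hne
  obtain ⟨_, ⟨U, hU : IsAffineOpen U, rfl⟩, hzU, -⟩ :=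
    X.isBasis_affineOpens.exists_subset_of_mem_open (Set.mem_univ z) isOpen_univ
  obtain ⟨x, hxmem, hxl⟩ := H24.exists_isLocallyClosed_singleton_of_isCompact_diff
    (b := (U : Set X)) (V := Zᶜ) hU.isCompact U.2 hZ.isOpen_compl ⟨z, hzU, fun h => h hz⟩
  have hxZ : x ∈ Z := by
    by_contra h
    exact hxmem.2 h
  have h12 := (Groth.Agent.S4712.result X x hxl).2
  by_cases hcl : ∃ y ∈ closure ({x} : Set X), y ≠ x
  · obtain ⟨y, hy, hyx⟩ := hcl
    exact ⟨y, (hZ.closure_subset_iff.mpr (Set.singleton_subset_iff.mpr hxZ)) hy, h12 y hy hyx⟩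
  · refine ⟨x, hxZ, ?_⟩
    rw [← closure_subset_iff_isClosed]
    intro y hy
    by_contra hyx
    exact hcl ⟨y, hy, hyx⟩

end Groth.Agent.S4713
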