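import Groth.Statements.S8890
import Groth.Agent.H17.IsoDepth
import Groth.Agent.H8.IsoCover
import Groth.Agent.H8.StalkExact
import Groth.Agent.H8.QCohStalk
import Groth.Agent.H8.Coh
import Groth.Agent.H8.AssSch
import Groth.Agent.H8.AssPoints

set_option autoImplicit false
universe u
open CategoryTheory CategoryTheory.Limits AlgebraicGeometry TopologicalSpace
open SDiv

namespace Groth.Agent.S8890

open Groth.Agent.H8 Groth.Agent.H17 Opposite

set_option linter.style.haveILetI false

lemma stalkMap_smul {X : Scheme.{u}} {M N : X.Modules} (φ : M ⟶ N) (x : X)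
    (r : X.presheaf.stalk x) (m : M.presheaf.stalk x) :
    stalkMap φ x (r • m) = r • stalkMap φ x m := by
  obtain ⟨U, hxU, a, rfl⟩ := X.presheaf.exists_germ_eq r
  obtain ⟨U', hxU', m₀, rfl⟩ := M.presheaf.exists_germ_eq m
  have hxW : x ∈ U ⊓ U' := ⟨hxU, hxU'⟩
  rw [← X.presheaf.germ_res_apply (homOfLE (inf_le_left : U ⊓ U' ≤ U)) x hxW a,
    ← M.presheaf.germ_res_apply (homOfLE (inf_le_right : U ⊓ U' ≤ U')) x hxW m₀,
    ← germ_smul M x hxW, stalkMap_germ, stalkMap_germ, ← germ_smul N x hxW,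
    Scheme.Modules.Hom.app_smul]

/-- The stalk map as a linear map over the local ring. -/
noncomputable def stalkMapₗ {X : Scheme.{u}} {M N : X.Modules} (φ : M ⟶ N) (x : X) :
    M.presheaf.stalk x →ₗ[X.presheaf.stalk x] N.presheaf.stalk x where
  toFun := stalkMap φ x
  map_add' := fun a b => map_add _ a b
  map_smul' := fun r m => stalkMap_smul φ x r m

section LocalData

variable {X : Scheme.{u}} [IsLocallyNoetherian X] {F G : X.Modules} (φ : F ⟶ G)
  (hF : Coh.IsCoh F) (hG : Coh.IsQCoh G) {U : X.Opens} (hU : IsAffineOpen U)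
  (x : X) (hxU : x ∈ U)

include hF hG hU in
lemma local_ker
    (h : Function.Injective (stalkMap φ x) ∨
      (1 : ℕ∞) ≤ LocCoh.depth (X.presheaf.stalk x) (F.presheaf.stalk x)) :
    ¬ IsAssociatedPrime (hU.primeIdealOf ⟨x, hxU⟩).asIdeal (LinearMap.ker (appₗ φ U)) := by
  haveI hFq : F.IsQuasicoherent := hF.1
  haveI hGq : G.IsQuasicoherent := hG
  haveI : IsNoetherianRing Γ(X, U) := IsLocallyNoetherian.component_noetherian ⟨U, hU⟩
  haveI : Module.Finite Γ(X, U) Γ(F, U) := finite_sections_of_isCoh F hF hU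
  letI := X.presheaf.algebra_section_stalk ⟨x, hxU⟩
  haveI := hU.isLocalization_stalk ⟨x, hxU⟩
  letI := moduleSectionStalk F x hxU
  haveI := isScalarTower_sectionStalk F x hxU
  haveI := isLocalizedModule_germₗ F hU x hxU
  letI := moduleSectionStalk G x hxU
  haveI := isScalarTower_sectionStalk G x hxU
  haveI := isLocalizedModule_germₗ G hU x hxU
  exact IsoDepth.not_isAssociatedPrime_ker (appₗ φ U) (hU.primeIdealOf ⟨x, hxU⟩).asIdeal
    (germₗ F x hxU) (germₗ G x hxU) (stalkMapₗ φ x) (fun n => stalkMap_germ φ x hxU n) h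

include hF hG hU in
lemma local_coker (hinj : Function.Injective (appₗ φ U))
    (h : Function.Surjective (stalkMap φ x) ∨
      ((2 : ℕ∞) ≤ LocCoh.depth (X.presheaf.stalk x) (F.presheaf.stalk x) ∧
        ¬ Curv2.IsAssPoint G x)) :
    ¬ IsAssociatedPrime (hU.primeIdealOf ⟨x, hxU⟩).asIdeal
      (Γ(G, U) ⧸ LinearMap.range (appₗ φ U)) := by
  haveI hFq : F.IsQuasicoherent := hF.1
  haveI hGq : G.IsQuasicoherent := hG
  haveI : IsNoetherianRing Γ(X, U) := IsLocallyNoetherian.component_noetherian ⟨U, hU⟩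
  haveI : Module.Finite Γ(X, U) Γ(F, U) := finite_sections_of_isCoh F hF hU
  have h' : Function.Surjective (stalkMap φ x) ∨
      ((2 : ℕ∞) ≤ LocCoh.depth (X.presheaf.stalk x) (F.presheaf.stalk x) ∧
        ¬ IsAssociatedPrime (hU.primeIdealOf ⟨x, hxU⟩).asIdeal Γ(G, U)) := by
    rcases h with h | ⟨h1, h2⟩
    · exact Or.inl h
    · exact Or.inr ⟨h1, fun h3 => h2 ((isAssPoint_iff_isAssociatedPrime hU G x hxU).mpr h3)⟩
  letI := X.presheaf.algebra_section_stalk ⟨x, hxU⟩
  haveI := hU.isLocalization_stalk ⟨x, hxU⟩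
  letI := moduleSectionStalk F x hxU
  haveI := isScalarTower_sectionStalk F x hxU
  haveI := isLocalizedModule_germₗ F hU x hxU
  letI := moduleSectionStalk G x hxU
  haveI := isScalarTower_sectionStalk G x hxU
  haveI := isLocalizedModule_germₗ G hU x hxU
  exact IsoDepth.not_isAssociatedPrime_coker (appₗ φ U) (hU.primeIdealOf ⟨x, hxU⟩).asIdeal
    (germₗ F x hxU) (germₗ G x hxU) (stalkMapₗ φ x) (fun n => stalkMap_germ φ x hxU n) hinj h'

end LocalData

/-- The general criterion, in terms of `stalkMap`. -/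
theorem isIso_of_stalk (X : Scheme.{u}) [IsLocallyNoetherian X] {F G : X.Modules} (φ : F ⟶ G)
    (hF : Coh.IsCoh F) (hG : Coh.IsQCoh G)
    (h : ∀ x : ↥X, Function.Bijective (stalkMap φ x) ∨
      ((2 : ℕ∞) ≤ LocCoh.depth (X.presheaf.stalk x) (F.presheaf.stalk x) ∧
        ¬ Curv2.IsAssPoint G x)) :
    IsIso φ := by
  haveI hFq : F.IsQuasicoherent := hF.1
  haveI hGq : G.IsQuasicoherent := hG
  refine isIso_of_bijective_affine_cover φ (fun U : X.affineOpens => U.1)
    (iSup_affineOpens_eq_top X) (fun U => U.2) ?_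
  rintro ⟨U, hU⟩
  replace hU : IsAffineOpen U := hU
  haveI : IsNoetherianRing Γ(X, U) := IsLocallyNoetherian.component_noetherian ⟨U, hU⟩
  have hinj : Function.Injective (appₗ φ U) := by
    rw [← LinearMap.ker_eq_bot]
    by_contra hne
    haveI : Nontrivial (LinearMap.ker (appₗ φ U)) := Submodule.nontrivial_iff_ne_bot.mpr hne
    obtain ⟨p, hp⟩ := associatedPrimes.nonempty Γ(X, U) (LinearMap.ker (appₗ φ U))
    haveI hpp : p.IsPrime := hp.isPrime
    have hpt := primeIdealOf_pointOfPrime hU p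
    have hpe : (hU.primeIdealOf ⟨pointOfPrime hU p, pointOfPrime_mem hU p⟩).asIdeal = p :=
      congrArg PrimeSpectrum.asIdeal hpt
    refine local_ker φ hF hG hU (pointOfPrime hU p) (pointOfPrime_mem hU p) ?_
      (by rw [hpe]; exact hp)
    rcases h (pointOfPrime hU p) with h1 | ⟨h1, -⟩
    · exact Or.inl h1.1
    · exact Or.inr (le_trans (by norm_num) h1)
  have hsurj : Function.Surjective (appₗ φ U) := by
    rw [← LinearMap.range_eq_top]
    by_contra hne
    haveI : Nontrivial (Γ(G, U) ⧸ LinearMap.range (appₗ φ U)) :=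
      Submodule.Quotient.nontrivial_iff.mpr hne
    obtain ⟨p, hp⟩ := associatedPrimes.nonempty Γ(X, U) (Γ(G, U) ⧸ LinearMap.range (appₗ φ U))
    haveI hpp : p.IsPrime := hp.isPrime
    have hpt := primeIdealOf_pointOfPrime hU p
    have hpe : (hU.primeIdealOf ⟨pointOfPrime hU p, pointOfPrime_mem hU p⟩).asIdeal = p :=
      congrArg PrimeSpectrum.asIdeal hpt
    refine local_coker φ hF hG hU (pointOfPrime hU p) (pointOfPrime_mem hU p) hinj ?_
      (by rw [hpe]; exact hp)
    rcases h (pointOfPrime hU p) with h1 | h1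
    · exact Or.inl h1.2
    · exact Or.inr h1
  exact ⟨hinj, hsurj⟩

/-- Let X be a locally Noetherian scheme and φ : F ⟶ G a morphism of quasi-coherent O_X-modules with F
coherent. Assume that for every point x of X either the stalk map F_x → G_x is an isomorphism, or
depth(F_x) ≥ 2 and x is not an associated point of G. Then φ is an isomorphism. -/
theorem result (X : Scheme.{u}) [IsLocallyNoetherian X] {F G : X.Modules} (φ : F ⟶ G)
    (hF : Coh.IsCoh F) (hG : Coh.IsQCoh G)
    (h : ∀ x : ↥X, Function.Bijective ((TopCat.Presheaf.stalkFunctor AddCommGrpCat.{u} x).map (Scheme.Modules.Hom.mapPresheaf φ)) ∨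
      ((2 : ℕ∞) ≤ LocCoh.depth (X.presheaf.stalk x) (F.presheaf.stalk x) ∧ ¬ Curv2.IsAssPoint G x)) :
    IsIso φ :=
  isIso_of_stalk X φ hF hG h

end Groth.Agent.S8890
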