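import Groth.Statements.S4863
import Groth.Agent.H57.FlatPt5
import Groth.Agent.H57.GenFlatSch
import Groth.Agent.H8.FPAffine

set_option autoImplicit false
universe u
open EGA43

namespace Groth.Agent.S4863

open AlgebraicGeometry CategoryTheory Limits in
/-- First assertion, for a module: let f : X ⟶ Y be locally of finite presentation and F a
quasi-coherent O_X-module of finite presentation. Then the set of points of X at which F is f-flat
is open. -/
theorem result {X Y : Scheme.{u}} (f : X ⟶ Y)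
    [LocallyOfFinitePresentation f] (F : X.Modules) [Coh.IsQCoh F] (hF : CohB1.IsFP F) :
    IsOpen {x : X | FlatMod.IsFlatOverAt f F x} := by
  rw [isOpen_iff_forall_mem_open]
  intro x hx
  obtain ⟨V, hV, hxV, -⟩ :=
    exists_isAffineOpen_mem_and_subset (x := f x) (U := (⊤ : Y.Opens)) trivial
  obtain ⟨W, hW, hxW, hWV⟩ :=
    exists_isAffineOpen_mem_and_subset (x := x) (U := f ⁻¹ᵁ V) hxV
  have hfp := f.finitePresentation_appLE hV hW hWV
  letI : Algebra Γ(Y, V) Γ(X, W) := (f.appLE V W hWV).hom.toAlgebra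
  haveI : Algebra.FinitePresentation Γ(Y, V) Γ(X, W) := hfp
  letI : Module Γ(Y, V) Γ(F, W) := Module.compHom _ (f.appLE V W hWV).hom
  haveI : IsScalarTower Γ(Y, V) Γ(X, W) Γ(F, W) :=
    IsScalarTower.of_algebraMap_smul fun r m => rfl
  haveI : SheafOfModules.IsFinitePresentation (R := X.ringCatSheaf) F := hF
  haveI : Module.FinitePresentation Γ(X, W) Γ(F, W) :=
    Groth.Agent.H8.finitePresentation_sections_of_isAffineOpen F hW
  have hopen := Groth.Agent.H57.FlatPt.isOpen_flat_module_locus (R := Γ(Y, V)) (S := Γ(X, W))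
    (M := Γ(F, W))
  have key : ∀ (y : X) (hyW : y ∈ W), FlatMod.IsFlatOverAt f F y ↔
      Module.Flat Γ(Y, V)
        (LocalizedModule (hW.primeIdealOf ⟨y, hyW⟩).asIdeal.primeCompl Γ(F, W)) := by
    intro y hyW
    have hyV : f y ∈ V := hWV hyW
    letI : Module Γ(X, W) (F.presheaf.stalk y) := Groth.Agent.H8.moduleSectionStalk F y hyW
    letI : Module Γ(Y, V) (F.presheaf.stalk y) := Module.compHom _ (f.appLE V W hWV).hom
    haveI : IsScalarTower Γ(Y, V) Γ(X, W) (F.presheaf.stalk y) :=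
      IsScalarTower.of_algebraMap_smul fun r m => rfl
    haveI := Groth.Agent.H8.isLocalizedModule_germₗ F hW y hyW
    letI : Algebra Γ(Y, V) (Y.presheaf.stalk (f y)) :=
      Y.presheaf.algebra_section_stalk ⟨f y, hyV⟩
    haveI := hV.isLocalization_stalk ⟨f y, hyV⟩
    letI : Module (Y.presheaf.stalk (f y)) (F.presheaf.stalk y) := FlatMod.moduleStalkOver f F y
    haveI : IsScalarTower Γ(Y, V) (Y.presheaf.stalk (f y)) (F.presheaf.stalk y) :=
      IsScalarTower.of_algebraMap_smul fun r m => by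
        change (f.stalkMap y).hom (Y.presheaf.germ V (f y) hyV r) • m =
          X.presheaf.germ W y hyW ((f.appLE V W hWV).hom r) • m
        rw [Groth.Agent.H57.stalkMap_germ_appLE f hWV y hyW r]
    have h1 : FlatMod.IsFlatOverAt f F y ↔ Module.Flat Γ(Y, V) (F.presheaf.stalk y) := by
      change Module.Flat (Y.presheaf.stalk (f y)) (F.presheaf.stalk y) ↔ _
      exact Module.flat_iff_of_isLocalization (Y.presheaf.stalk (f y))
        (hV.primeIdealOf ⟨f y, hyV⟩).asIdeal.primeCompl _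
    rw [h1]
    let e := (IsLocalizedModule.iso (hW.primeIdealOf ⟨y, hyW⟩).asIdeal.primeCompl
      (Groth.Agent.H8.germₗ F y hyW)).restrictScalars Γ(Y, V)
    exact ⟨fun h => Module.Flat.of_linearEquiv e, fun h => Module.Flat.of_linearEquiv e.symm⟩
  refine ⟨hW.fromSpec '' {q : PrimeSpectrum Γ(X, W) | Module.Flat Γ(Y, V)
      (LocalizedModule q.asIdeal.primeCompl Γ(F, W))}, ?_,
    hW.fromSpec.isOpenEmbedding.isOpenMap _ hopen,
    ⟨hW.primeIdealOf ⟨x, hxW⟩, (key x hxW).mp hx, hW.fromSpec_primeIdealOf ⟨x, hxW⟩⟩⟩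
  rintro _ ⟨q, hq, rfl⟩
  have hyW : hW.fromSpec q ∈ W := by
    have : hW.fromSpec q ∈ Set.range hW.fromSpec := ⟨q, rfl⟩
    rw [hW.range_fromSpec] at this
    exact this
  have hq' : hW.primeIdealOf ⟨hW.fromSpec q, hyW⟩ = q :=
    hW.fromSpec.isOpenEmbedding.injective (hW.fromSpec_primeIdealOf ⟨hW.fromSpec q, hyW⟩)
  show FlatMod.IsFlatOverAt f F (hW.fromSpec q)
  rw [key _ hyW, hq']
  exact hq

end Groth.Agent.S4863
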