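import Groth.Statements.S16489
import Groth.Agent.H17.ReflNormal

set_option autoImplicit false
universe u
open CategoryTheory CategoryTheory.Limits AlgebraicGeometry TopologicalSpace
open VBPn

namespace Groth.Agent.S16489

/-- Let X be an integral locally Noetherian scheme all of whose local rings are regular, and F a
coherent O_X-module. Call F normal when for all open subsets V ⊆ U of X such that every point of U
not in V has local ring O_{X,x} of dimension at least 2, the restriction map F(U) → F(V) is
bijective. Then F is reflexive (the canonical map F → F^** is an isomorphism) if and only if F is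
torsion-free (each stalk F_x is a torsion-free O_{X,x}-module) and normal. The published statement
is for coherent analytic sheaves on a complex manifold, a sheaf being called normal when for every
open U and every analytic subset A ⊆ U of codimension at least 2 the restriction F(U) → F(U ∖ A) is
bijective; this row is its statement for coherent sheaves on a regular integral locally Noetherian
scheme, with normality phrased through open subsets V ⊆ U whose complement in U consists of points
with local ring of dimension at least 2, where the same argument applies. -/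
theorem result (X : Scheme.{u}) [IsIntegral X] [IsLocallyNoetherian X]
    (hreg : ∀ x : X, IsRegularLocalRing (X.presheaf.stalk x)) (F : X.Modules) (hF : Coh.IsCoh F) :
    RefHull.IsReflexive F ↔
      TorSh.IsTorsionFree F ∧
      (∀ (U V : X.Opens) (hVU : V ≤ U), (∀ x : X, x ∈ U → x ∉ V → (2 : WithBot ℕ∞) ≤ ringKrullDim (X.presheaf.stalk x)) →
        Function.Bijective (F.presheaf.map (homOfLE hVU).op)) := by
  constructor
  · intro hrefl
    refine ⟨fun x => ?_, Groth.Agent.H17.ReflNormal.isNormalMod_of_isReflexive hreg F hF hrefl⟩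
    haveI : Module.IsReflexive (X.presheaf.stalk x) (F.presheaf.stalk x) :=
      Groth.Agent.H17.ReflSheaf.isReflexiveAt_of_isReflexive F hF hrefl x
    infer_instance
  · rintro ⟨htf, hn⟩
    have hT : Coh.IsCoh (RefHull.ddual F) := Groth.Agent.H17.ReflSheaf.isCoh_ddual F hF
    have hTrefl : RefHull.IsReflexive (RefHull.ddual F) :=
      Groth.Agent.H17.ReflNormal.isReflexive_dual (RefHull.dual F)
        (Groth.Agent.H17.ReflSheaf.isCoh_dual F hF)
    have hTn := Groth.Agent.H17.ReflNormal.isNormalMod_of_isReflexive hreg _ hT hTrefl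
    have hWo := Groth.Agent.H17.ReflSheaf.isOpen_bijective_locus (RefHull.bidualMap F) hF hT
    obtain ⟨W, hW⟩ : ∃ W : X.Opens, (W : Set X) =
        {x | Function.Bijective (Groth.Agent.H8.stalkMap (RefHull.bidualMap F) x)} :=
      ⟨⟨_, hWo⟩, rfl⟩
    have hWdim : ∀ x : X, x ∉ W → (2 : WithBot ℕ∞) ≤ ringKrullDim (X.presheaf.stalk x) := by
      intro x hx
      by_contra hlt
      rw [not_le] at hlt
      apply hx
      have h1 := Groth.Agent.H17.ReflNormal.isReflexiveAt_of_dim_lt_two hreg F hF htf x hlt
      have h2 := (Groth.Agent.H17.ReflSheaf.isReflexiveAt_iff F hF x).mp h1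
      have : x ∈ (W : Set X) := by rw [hW]; exact h2
      exact this
    haveI : F.IsQuasicoherent := hF.1
    haveI : (RefHull.ddual F).IsQuasicoherent := hT.1
    show IsIso (RefHull.bidualMap F)
    refine Groth.Agent.H8.isIso_of_bijective_affine_cover (RefHull.bidualMap F)
      (fun U : X.affineOpens => U.1) (iSup_affineOpens_eq_top X) (fun U => U.2) ?_
    rintro ⟨U₀, hU₀⟩
    have hV₀ : U₀ ⊓ W ≤ U₀ := inf_le_left
    have hcod : ∀ x : X, x ∈ U₀ → x ∉ U₀ ⊓ W →
        (2 : WithBot ℕ∞) ≤ ringKrullDim (X.presheaf.stalk x) :=
      fun x hxU hxV => hWdim x (fun hxW => hxV ⟨hxU, hxW⟩)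
    have hF1 := hn U₀ (U₀ ⊓ W) hV₀ hcod
    have hT1 := hTn U₀ (U₀ ⊓ W) hV₀ hcod
    have hφV : Function.Bijective ((RefHull.bidualMap F).app (U₀ ⊓ W)) :=
      Groth.Agent.H17.ReflNormal.app_bijective_of_stalk_bijective _ _ (fun x hx => by
        have : x ∈ (W : Set X) := hx.2
        rw [hW] at this
        exact this)
    have hcomp : ⇑((RefHull.ddual F).presheaf.map (homOfLE hV₀).op).hom ∘
        ⇑((RefHull.bidualMap F).app U₀).hom =
        ⇑((RefHull.bidualMap F).app (U₀ ⊓ W)).hom ∘ ⇑(F.presheaf.map (homOfLE hV₀).op).hom := by
      funext s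
      exact (Groth.Agent.H22.QCohLimits.app_res (RefHull.bidualMap F) hV₀ s).symm
    have hb : Function.Bijective (⇑((RefHull.ddual F).presheaf.map (homOfLE hV₀).op).hom ∘
        ⇑((RefHull.bidualMap F).app U₀).hom) := by
      rw [hcomp]
      exact hφV.comp hF1
    exact (hT1.of_comp_iff' _).mp hb

end Groth.Agent.S16489
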