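import Groth.Statements.S5626
import Groth.Agent.H8.LocFree

set_option autoImplicit false
universe u
open CategoryTheory CategoryTheory.Limits AlgebraicGeometry
open FlatMod

namespace Groth.Agent.S5626

section Helpers
open CategoryTheory CategoryTheory.Limits AlgebraicGeometry TopologicalSpace Opposite
open Groth.Agent.H8

/-- A retract of `O_X^n` is finite locally free. -/
theorem isFinLocFree_of_retract_freeMod {X : Scheme.{u}} (M : X.Modules) (n : ℕ)
    (i : M ⟶ FlatMod.freeMod X n) (q : FlatMod.freeMod X n ⟶ M) (h : i ≫ q = 𝟙 M) :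
    FlatMod.IsFinLocFree M := by
  haveI : M.IsQuasicoherent := isQuasicoherent_of_retract i q h
  apply isFinLocFree_of_projective_sections M
  intro x
  obtain ⟨U, hU, hxU, -⟩ := exists_isAffineOpen_mem_and_subset (x := x)
    (U := (⊤ : X.Opens)) trivial
  haveI : Module.Finite Γ(X, U) Γ(FlatMod.freeMod X n, U) :=
    Module.Finite.equiv (sectionsFreeEquiv X n U).symm
  haveI : Module.Projective Γ(X, U) Γ(FlatMod.freeMod X n, U) :=
    Module.Projective.of_equiv (sectionsFreeEquiv X n U).symm
  have hcomp : (appₗ q U).comp (appₗ i U) = LinearMap.id := by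
    ext y
    exact congrArg (fun ψ : M ⟶ M => ψ.app U y) h
  refine ⟨U, hU, hxU, ?_, ?_⟩
  · refine Module.Finite.of_surjective (appₗ q U) (fun y => ⟨appₗ i U y, ?_⟩)
    exact LinearMap.congr_fun hcomp y
  · exact Module.Projective.of_split (appₗ i U) (appₗ q U) hcomp

end Helpers

/-- For the Zariski topos of a scheme (a special case of both hypotheses (i) and (ii) there): on a
scheme X, a direct summand of a finite free O_X-module is finite locally free. Here M is a direct
summand of O_X^n in the sense that M ⊞ N ≅ O_X^n for some module N. -/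
theorem result {X : Scheme.{u}} (M N : X.Modules) [HasBinaryBiproduct M N] (n : ℕ)
    (e : M ⊞ N ≅ FlatMod.freeMod X n) :
    FlatMod.IsFinLocFree M := by
  refine isFinLocFree_of_retract_freeMod M n (biprod.inl ≫ e.hom) (e.inv ≫ biprod.fst) ?_
  rw [Category.assoc, e.hom_inv_id_assoc, biprod.inl_fst]

end Groth.Agent.S5626
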