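import Groth.Statements.S0300
import Mathlib.Algebra.Module.Injective
import Mathlib.Algebra.DirectSum.Module
import Mathlib.RingTheory.Noetherian.Defs

set_option autoImplicit false
universe u v
open InjHull

namespace Groth.Agent.S0300

open DirectSum

/-- Over a Noetherian ring, injectivity of modules is preserved under arbitrary direct sums. -/
theorem result (R : Type u) [CommRing R] [IsNoetherianRing R] {ι : Type u} (E : ι → Type u) [∀ i, AddCommGroup (E i)] [∀ i, Module R (E i)] (hE : ∀ i, Module.Injective R (E i)) : Module.Injective R (DirectSum ι E) := by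
  classical
  apply Module.Baer.injective
  intro I g
  obtain ⟨t, ht⟩ := (isNoetherianRing_iff_ideal_fg R).mp inferInstance I
  let s : Finset ι := t.biUnion (fun a => if h : a ∈ I then DFinsupp.support (g ⟨a, h⟩) else ∅)
  have hs : ∀ (x : R) (hx : x ∈ I), ∀ i ∉ s, (g ⟨x, hx⟩) i = 0 := by
    intro x hx
    have hx' : x ∈ Submodule.span R (t : Set R) := by
      have : x ∈ Ideal.span (t : Set R) := by rw [ht]; exact hx
      exact this
    have key : ∀ (y : R) (hy : y ∈ Submodule.span R (t : Set R)),
        ∀ (hyI : y ∈ I), ∀ i ∉ s, (g ⟨y, hyI⟩) i = 0 := by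
      intro y hy
      induction hy using Submodule.span_induction with
      | mem a ha =>
        intro haI i hi
        by_contra hne
        apply hi
        simp only [s, Finset.mem_biUnion]
        refine ⟨a, ha, ?_⟩
        rw [dif_pos haI, DFinsupp.mem_support_iff]
        exact hne
      | zero =>
        intro h0 i _
        have : (⟨0, h0⟩ : I) = 0 := rfl
        rw [this, map_zero]
        rfl
      | add a b ha hb iha ihb =>
        intro habI i hi
        have haI : a ∈ I := by rw [← ht]; exact ha
        have hbI : b ∈ I := by rw [← ht]; exact hb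
        have : (⟨a + b, habI⟩ : I) = ⟨a, haI⟩ + ⟨b, hbI⟩ := rfl
        rw [this, map_add, DirectSum.add_apply, iha haI i hi, ihb hbI i hi, add_zero]
      | smul r a ha iha =>
        intro hraI i hi
        have haI : a ∈ I := by rw [← ht]; exact ha
        have : (⟨r • a, hraI⟩ : I) = r • ⟨a, haI⟩ := rfl
        rw [this, map_smul, DirectSum.smul_apply, iha haI i hi, smul_zero]
    exact key x hx' hx
  have hext : ∀ i, ∃ g' : R →ₗ[R] E i, ∀ (x : R) (mem : x ∈ I),
      g' x = (DirectSum.component R ι E i ∘ₗ g) ⟨x, mem⟩ :=
    fun i => Module.Baer.of_injective (hE i) I _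
  choose g' hg' using hext
  refine ⟨∑ i ∈ s, (DirectSum.lof R ι E i) ∘ₗ (g' i), ?_⟩
  intro x mem
  ext j
  simp only [LinearMap.sum_apply, LinearMap.comp_apply]
  rw [DFinsupp.finsetSum_apply]
  by_cases hj : j ∈ s
  · rw [Finset.sum_eq_single j]
    · rw [DirectSum.lof_eq_of, DirectSum.of_eq_same, hg' j x mem]
      rfl
    · intro i _ hij
      rw [DirectSum.lof_eq_of, DirectSum.of_eq_of_ne _ _ _ hij.symm]
    · intro h; exact absurd hj h
  · rw [hs x mem j hj]
    apply Finset.sum_eq_zero
    intro i hi
    have hij : i ≠ j := fun h => hj (h ▸ hi)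
    rw [DirectSum.lof_eq_of, DirectSum.of_eq_of_ne _ _ _ hij.symm]

end Groth.Agent.S0300
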