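import Groth.Statements.S6965
import Groth.Agent.H56.InjAmp2
-- import your own Groth.Agent.* helpers here

set_option autoImplicit false
universe u
open CategoryTheory CategoryTheory.Limits
attribute [local instance] HasDerivedCategory.standard
open DRing

namespace Groth.Agent.S6965

/-- Let R be a commutative ring, K an object of D(R) and a, b integers. These three conditions are
equivalent: (1) the injective amplitude of K lies in [a, b], meaning K is isomorphic in D(R) to a
complex of injective R-modules vanishing outside [a, b]; (2) Hom(N[0], K[i]) = 0 in D(R) for every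
R-module N and every integer i outside [a, b]; (3) Hom((R/I)[0], K[i]) = 0 in D(R) for every ideal I
of R and every integer i outside [a, b]. -/
theorem result (R : Type u) [CommRing R] (K : Dual.D R) (a b : ℤ) :
    [DRing.HasInjAmplitudeIn R a b K,
      ∀ (N : Type u) [AddCommGroup N] [Module R N] (i : ℤ), (i < a ∨ b < i) →
        Subsingleton (DRing.ExtD R (Dual.inD R N) K i),
      ∀ (I : Ideal R) (i : ℤ), (i < a ∨ b < i) → Subsingleton (DRing.ExtD R (Dual.inD R (R ⧸ I)) K i)].TFAE := by
  tfae_have 1 → 2 := by
    intro h1 N _ _ i hi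
    have hv := (Groth.Agent.H56.single_hom_shift_vanishing_iff (ModuleCat.of R N) K i).2
      (fun ψ => Groth.Agent.H56.single_hom_eq_zero_of_hasInjAmplitudeIn K a b h1
        (ModuleCat.of R N) i hi ψ)
    exact ⟨fun x y => (hv x).trans (hv y).symm⟩
  tfae_have 2 → 3 := fun h2 I i hi => h2 (R ⧸ I) i hi
  tfae_have 3 → 1 := by
    intro h3
    exact Groth.Agent.H56.hasInjAmplitudeIn_of_cyclic K a b (fun I i hi ψ =>
      (Groth.Agent.H56.single_hom_shift_vanishing_iff (ModuleCat.of R (R ⧸ I)) K i).1
        (fun φ => (h3 I i hi).elim φ 0) ψ)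
  tfae_finish

end Groth.Agent.S6965
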