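import Groth.Statements.S11125
import Mathlib.Algebra.Homology.ModelCategory.Lifting
import Mathlib.Algebra.Homology.HomotopyCategory.KInjective
import Mathlib.Algebra.Homology.HomotopyCategory.Pretriangulated
import Mathlib.Algebra.Homology.Double
import Mathlib.Algebra.Homology.HomologySequenceLemmas
import Mathlib.Algebra.Homology.HomologicalComplexAbelian

set_option autoImplicit false
universe v u
open CategoryTheory
open CohDer

namespace Groth.Agent.S11125

open Limits CochainComplex HomologicalComplex HomComplex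

variable {A : Type u} [Category.{v} A] [Abelian A]

/-! ## The forward direction -/

/-- A K-injective complex with injective terms has the extension property with respect
to monomorphisms with acyclic cokernel. -/
theorem forward (I : CochainComplex A ℤ) [I.IsKInjective] [∀ n, Injective (I.X n)]
    (S : ShortComplex (CochainComplex A ℤ)) (hS : S.ShortExact) (h3 : S.X₃.Acyclic)
    (φ : S.X₁ ⟶ I) : ∃ ψ : S.X₂ ⟶ I, S.f ≫ ψ = φ := by
  have sq : CommSq φ S.f (0 : I ⟶ I) (0 : S.X₂ ⟶ I) := ⟨by simp⟩
  have hmono : ∀ n, Mono (S.f.f n) := fun n =>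
    (hS.map_of_exact (HomologicalComplex.eval A (ComplexShape.up ℤ) n)).mono_f
  let l : ∀ n, S.X₂.X n ⟶ I.X n := fun n =>
    haveI := hmono n
    Injective.factorThru (φ.f n) (S.f.f n)
  have hl : ∀ n, S.f.f n ≫ l n = φ.f n := fun n =>
    haveI := hmono n
    Injective.comp_factorThru _ _
  let hsq : ∀ n, (sq.map (HomologicalComplex.eval _ _ n)).LiftStruct := fun n =>
    { l := l n
      fac_left := hl n
      fac_right := by
        change l n ≫ (0 : I.X n ⟶ I.X n) = 0
        exact comp_zero }
  have := hS.epi_g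
  have hQ : IsColimit (CokernelCofork.ofπ S.g S.zero) := hS.exact.gIsCokernel
  have hK : IsLimit (KernelFork.ofι (𝟙 I) (show 𝟙 I ≫ (0 : I ⟶ I) = 0 from comp_zero)) :=
    KernelFork.IsLimit.ofId _ rfl
  obtain ⟨α, hα⟩ := IsKInjective.eq_δ_of_cocycle (Lifting.cocycle₁ sq hsq hQ hK) h3 0 (by simp)
  have := Lifting.hasLift sq hsq hQ hK α hα
  exact ⟨sq.lift, sq.fac_left⟩

/-! ## Disk complexes -/

section Disk

/-- The relation `n → n + 1` in the complex shape. -/
theorem hrel (n : ℤ) : (ComplexShape.up ℤ).Rel n (n + 1) := rfl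

/-- The disk complex: `X` in degrees `n` and `n + 1` with the identity as differential. -/
noncomputable abbrev disk (n : ℤ) (X : A) : CochainComplex A ℤ :=
  HomologicalComplex.double (𝟙 X) (hrel n)

theorem disk_acyclic (n : ℤ) (X : A) : (disk n X).Acyclic := by
  intro k
  by_cases h0 : k = n
  · obtain rfl := h0
    rw [HomologicalComplex.exactAt_iff' _ (k - 1) k (k + 1) (by simp) (by simp),
      ShortComplex.exact_iff_mono _
        (HomologicalComplex.double_d_eq_zero₀ (𝟙 X) (hrel k) _ _ (by omega))]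
    show Mono ((disk k X).d k (k + 1))
    rw [HomologicalComplex.double_d _ _ (by omega)]
    infer_instance
  · by_cases h1 : k = n + 1
    · obtain rfl := h1
      rw [HomologicalComplex.exactAt_iff' _ n (n + 1) (n + 1 + 1) (by simp) (by simp),
        ShortComplex.exact_iff_epi _
          (HomologicalComplex.double_d_eq_zero₀ (𝟙 X) (hrel n) _ _ (by omega))]
      show Epi ((disk n X).d n (n + 1))
      rw [HomologicalComplex.double_d _ _ (by omega)]
      infer_instance
    · exact ShortComplex.exact_of_isZero_X₂ _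
        (HomologicalComplex.isZero_double_X (𝟙 X) (hrel n) k h0 h1)

/-- The map of disk complexes induced by a map of objects. -/
noncomputable def diskMap (n : ℤ) {X Y : A} (m : X ⟶ Y) : disk n X ⟶ disk n Y :=
  HomologicalComplex.mkHomFromDouble (hrel n) (by omega : n ≠ n + 1)
    (m ≫ (HomologicalComplex.doubleXIso₀ (𝟙 Y) (hrel n)).inv)
    (m ≫ (HomologicalComplex.doubleXIso₁ (𝟙 Y) (hrel n) (by omega)).inv)
    (by rw [HomologicalComplex.double_d _ _ (by omega : n ≠ n + 1)]; simp)
    (fun k _ => by
      rw [HomologicalComplex.double_d_eq_zero₀ _ _ _ _ (by omega), comp_zero])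

theorem mono_diskMap (n : ℤ) {X Y : A} (m : X ⟶ Y) [Mono m] : Mono (diskMap n m) := by
  apply HomologicalComplex.mono_of_mono_f
  intro k
  by_cases h0 : k = n
  · obtain rfl := h0
    dsimp only [diskMap]
    rw [HomologicalComplex.mkHomFromDouble_f₀]
    infer_instance
  · by_cases h1 : k = n + 1
    · obtain rfl := h1
      dsimp only [diskMap]
      rw [HomologicalComplex.mkHomFromDouble_f₁]
      infer_instance
    · exact ⟨fun g h _ => (HomologicalComplex.isZero_double_X (𝟙 X) (hrel n) k h0 h1).eq_of_tgt _ _⟩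

/-- The chain map from the disk complex associated to a map to the degree `n` term. -/
noncomputable def diskHom (n : ℤ) {X : A} (I : CochainComplex A ℤ) (f : X ⟶ I.X n) :
    disk n X ⟶ I :=
  HomologicalComplex.mkHomFromDouble (hrel n) (by omega : n ≠ n + 1) f (f ≫ I.d n (n + 1))
    (by simp) (by simp)

end Disk

/-! ## The backward direction -/

section Backward

variable (I : CochainComplex A ℤ)
  (H : ∀ (S : ShortComplex (CochainComplex A ℤ)), S.ShortExact → S.X₃.Acyclic →
    ∀ φ : S.X₁ ⟶ I, ∃ ψ : S.X₂ ⟶ I, S.f ≫ ψ = φ)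

include H

theorem lift_of_mono_acyclic {K₁ K₂ : CochainComplex A ℤ} (j : K₁ ⟶ K₂) [Mono j]
    (h₁ : K₁.Acyclic) (h₂ : K₂.Acyclic) (φ : K₁ ⟶ I) : ∃ ψ : K₂ ⟶ I, j ≫ ψ = φ := by
  let S := ShortComplex.mk j (cokernel.π j) (cokernel.condition j)
  have hS : S.ShortExact := { exact := ShortComplex.exact_cokernel j }
  have hq : QuasiIso S.f := ⟨fun i => (quasiIsoAt_iff_exactAt j i (h₁ i)).2 (h₂ i)⟩
  exact H S hS (hS.acyclic_X₃ hq) φ

theorem injective_of_lifting (n : ℤ) : Injective (I.X n) := by
  refine ⟨fun {X Y} f m _ => ?_⟩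
  have := mono_diskMap n m
  obtain ⟨ψ, hψ⟩ := lift_of_mono_acyclic I H (diskMap n m) (disk_acyclic n X)
    (disk_acyclic n Y) (diskHom n I f)
  refine ⟨(HomologicalComplex.doubleXIso₀ (𝟙 Y) (hrel n)).inv ≫ ψ.f n, ?_⟩
  have h := HomologicalComplex.congr_hom hψ n
  rw [HomologicalComplex.comp_f] at h
  dsimp only [diskMap, diskHom] at h
  rw [HomologicalComplex.mkHomFromDouble_f₀, HomologicalComplex.mkHomFromDouble_f₀] at h
  rw [← cancel_epi (HomologicalComplex.doubleXIso₀ (𝟙 X) (hrel n)).hom]
  simpa using h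

omit H in
theorem exactAt_of_homotopy_id_zero (K : CochainComplex A ℤ) (h : Homotopy (𝟙 K) 0) (n : ℤ) :
    K.ExactAt n := by
  rw [exactAt_iff_isZero_homology, IsZero.iff_id_eq_zero, ← homologyMap_id,
    h.homologyMap_eq n, homologyMap_zero]

omit H in
theorem mono_inr {K L : CochainComplex A ℤ} (φ : K ⟶ L) : Mono (mappingCone.inr φ) := by
  apply HomologicalComplex.mono_of_mono_f
  intro p
  exact mono_of_mono_fac (mappingCone.inr_f_snd_v φ p)

theorem isKInjective_of_lifting : I.IsKInjective := by
  refine ⟨fun {K} f hK => ?_⟩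
  have := mono_inr (𝟙 K)
  obtain ⟨ψ, hψ⟩ := lift_of_mono_acyclic I H (mappingCone.inr (𝟙 K)) hK
    (fun n => exactAt_of_homotopy_id_zero _ (mappingCone.homotopyToZeroOfId K) n) f
  have h0 : Homotopy (𝟙 (mappingCone (𝟙 K))) 0 := mappingCone.homotopyToZeroOfId K
  have hψ0 : Homotopy ψ 0 :=
    (Homotopy.ofEq (by simp)).trans ((h0.compRight ψ).trans (Homotopy.ofEq (by simp)))
  exact ⟨(Homotopy.ofEq hψ.symm).trans
    ((hψ0.compLeft (mappingCone.inr (𝟙 K))).trans (Homotopy.ofEq (by simp)))⟩

end Backward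

/-- In an abelian category, a cochain complex I is K-injective with injective terms if and only if for
every short exact sequence 0 → A → B → C → 0 of cochain complexes whose third term C is acyclic,
every chain map A → I extends to a chain map B → I. -/
theorem result {A : Type u} [Category.{v} A] [Abelian A]
    (I : CochainComplex A ℤ) :
    (I.IsKInjective ∧ ∀ n : ℤ, Injective (I.X n)) ↔
      ∀ (S : ShortComplex (CochainComplex A ℤ)), S.ShortExact → S.X₃.Acyclic →
        ∀ φ : S.X₁ ⟶ I, ∃ ψ : S.X₂ ⟶ I, S.f ≫ ψ = φ := by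
  constructor
  · rintro ⟨h1, h2⟩ S hS h3 φ
    exact forward I S hS h3 φ
  · intro H
    exact ⟨isKInjective_of_lifting I H, fun n => injective_of_lifting I H n⟩

end Groth.Agent.S11125
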