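import Groth.Statements.S0476
import Groth.Agent.S11125
import Groth.Agent.H5.KInj.Lifting
import Groth.Agent.H5.KInj.SmallSub
import Groth.Agent.H5.KInj.Decomp
import Mathlib.Algebra.Homology.GrothendieckAbelian
import Mathlib.CategoryTheory.Abelian.GrothendieckCategory.EnoughInjectives

set_option autoImplicit false
universe v u
open CategoryTheory
open CohDer

namespace Groth.Agent.S0476

open Limits MorphismProperty Groth.Agent.S11125 Groth.Agent.H5.KInj Groth.Agent.H5.Decomp
open ZeroObject

variable {A : Type u} [Category.{v} A] [Abelian A] [IsGrothendieckAbelian.{v} A]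

/-! ## The class of monomorphisms with small acyclic cokernel -/

/-- Monomorphisms whose cokernel is acyclic with small terms. -/
def 𝒟 (G : A) : MorphismProperty (CochainComplex A ℤ) := fun _ Y i =>
  ∃ (N : CochainComplex A ℤ) (p : Y ⟶ N) (w : i ≫ p = 0),
    (ShortComplex.mk i p w).ShortExact ∧ N.Acyclic ∧ ∀ m, ∃ e : bigP G ⟶ N.X m, Epi e

theorem acyclic_of_isZero (N : CochainComplex A ℤ) (hN : IsZero N) : N.Acyclic := fun n =>
  ShortComplex.exact_of_isZero_X₂ _ ((HomologicalComplex.eval _ _ n).map_isZero hN)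

theorem acyclic_of_iso {K L : CochainComplex A ℤ} (e : K ≅ L) (hK : K.Acyclic) : L.Acyclic :=
  fun n => by
    rw [HomologicalComplex.exactAt_iff_isZero_homology]
    exact IsZero.of_iso ((HomologicalComplex.exactAt_iff_isZero_homology _ _).1 (hK n))
      ((HomologicalComplex.homologyFunctor _ _ n).mapIso e.symm)

theorem 𝒟_of_isIso (G : A) {Y Z : CochainComplex A ℤ} (f : Y ⟶ Z) (hf : IsIso f) : 𝒟 G f := by
  refine ⟨0, 0, comp_zero, ?_, acyclic_of_isZero _ (isZero_zero _), fun m => ?_⟩
  · exact
      { exact := (ShortComplex.exact_iff_epi _ rfl).2 (inferInstanceAs (Epi f))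
        mono_f := inferInstanceAs (Mono f)
        epi_g := (isZero_zero _).epi _ }
  · exact ⟨0, ((HomologicalComplex.eval _ _ m).map_isZero (isZero_zero _)).epi _⟩

theorem 𝒟_le_llp_fib (G : A) : 𝒟 G ≤ (fib (A := A)).llp := by
  rintro X Y i ⟨N, p, w, hS, hN, -⟩
  have : Mono i := hS.mono_f
  have : QuasiIso i := quasiIso_f_of_acyclic _ hS hN
  exact le_llp_fib i

/-- The key step: a proper subobject whose inclusion is a quasi-isomorphism can be enlarged
by a morphism in `𝒟`. -/
theorem exists_larger {G : A} (hG : IsSeparator G) {X : CochainComplex A ℤ} (B : Subobject X)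
    (hB : QuasiIso B.arrow) (hB' : B ≠ ⊤) :
    ∃ (B' : Subobject X) (h : B < B'), 𝒟 G (Subobject.ofLE B B' h.le) := by
  have hS : (ShortComplex.mk B.arrow (cokernel.π B.arrow) (cokernel.condition _)).ShortExact :=
    { exact := ShortComplex.exact_cokernel _ }
  have hQ : (cokernel B.arrow).Acyclic := hS.acyclic_X₃ hB
  have hQ0 : ¬ IsZero (cokernel B.arrow) := by
    intro hz
    have : Epi B.arrow := Preadditive.epi_of_isZero_cokernel _ hz
    have : IsIso B.arrow := isIso_of_mono_of_epi _
    exact hB' ((Subobject.isIso_arrow_iff_eq_top B).1 this)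
  obtain ⟨N, ι, hι, hN0, hNac, hNgen⟩ := exists_small_acyclic_sub (cokernel B.arrow) hG hQ hQ0
  have cond : pullback.fst ι (cokernel.π B.arrow) ≫ ι =
      pullback.snd ι (cokernel.π B.arrow) ≫ cokernel.π B.arrow := pullback.condition
  let j₀ : (B : CochainComplex A ℤ) ⟶ pullback ι (cokernel.π B.arrow) :=
    pullback.lift 0 B.arrow (by rw [zero_comp, cokernel.condition])
  have hj₀ : j₀ ≫ pullback.snd ι (cokernel.π B.arrow) = B.arrow := pullback.lift_snd _ _ _
  have hle : B ≤ Subobject.mk (pullback.snd ι (cokernel.π B.arrow)) :=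
    Subobject.le_mk_of_comm j₀ hj₀
  have hmk : (Subobject.underlyingIso (pullback.snd ι (cokernel.π B.arrow))).hom ≫
      pullback.snd ι (cokernel.π B.arrow) =
      (Subobject.mk (pullback.snd ι (cokernel.π B.arrow))).arrow :=
    Subobject.underlyingIso_hom_comp_eq_mk _
  have hnle : ¬ Subobject.mk (pullback.snd ι (cokernel.π B.arrow)) ≤ B := by
    intro h'
    have h1 : (Subobject.mk (pullback.snd ι (cokernel.π B.arrow))).arrow ≫
        cokernel.π B.arrow = 0 := by
      rw [← Subobject.ofLE_arrow h', Category.assoc, cokernel.condition, comp_zero]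
    have h2 : pullback.snd ι (cokernel.π B.arrow) ≫ cokernel.π B.arrow = 0 := by
      rw [← hmk, Category.assoc] at h1
      exact (cancel_epi (Subobject.underlyingIso
        (pullback.snd ι (cokernel.π B.arrow))).hom).1 (by rw [h1, comp_zero])
    have h3 : pullback.fst ι (cokernel.π B.arrow) = 0 := by
      rw [← cancel_mono ι, cond, h2, zero_comp]
    exact hN0 (IsZero.of_epi_eq_zero _ h3)
  have w : Subobject.ofLE B _ hle ≫
      (Subobject.underlyingIso (pullback.snd ι (cokernel.π B.arrow))).hom ≫
        pullback.fst ι (cokernel.π B.arrow) = 0 := by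
    rw [← cancel_mono ι, Category.assoc, Category.assoc, cond, ← Category.assoc _ _ (cokernel.π _),
      hmk, Subobject.ofLE_arrow_assoc, cokernel.condition, zero_comp]
  refine ⟨_, lt_of_le_not_ge hle hnle, N, _, w, ?_, hNac, hNgen⟩
  exact
    { exact := by
        rw [ShortComplex.exact_iff_exact_up_to_refinements]
        intro W x₂ hx₂
        dsimp at x₂ hx₂ ⊢
        have h1 : (x₂ ≫ (Subobject.mk (pullback.snd ι (cokernel.π B.arrow))).arrow) ≫
            cokernel.π B.arrow = 0 := by
          rw [← hmk]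
          simp only [Category.assoc]
          rw [← cond, reassoc_of% hx₂, zero_comp]
        obtain ⟨W', π', hπ', x₁, hx₁⟩ := hS.exact.exact_up_to_refinements _ h1
        refine ⟨W', π', hπ', x₁, ?_⟩
        rw [← cancel_mono (Subobject.mk (pullback.snd ι (cokernel.π B.arrow))).arrow,
          Category.assoc, Category.assoc, Subobject.ofLE_arrow]
        exact hx₁
      mono_f := inferInstanceAs (Mono (Subobject.ofLE B _ hle))
      epi_g := inferInstanceAs (Epi ((Subobject.underlyingIso _).hom ≫
        pullback.fst ι (cokernel.π B.arrow))) }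

/-- Any monomorphic quasi-isomorphism is a transfinite composition of morphisms in `𝒟`. -/
theorem exists_tc_of_mono_quasiIso {G : A} (hG : IsSeparator G) {X₀ X : CochainComplex A ℤ}
    (i : X₀ ⟶ X) [Mono i] [QuasiIso i] :
    ∃ (J : Type v) (_ : LinearOrder J) (_ : OrderBot J) (_ : SuccOrder J)
      (_ : WellFoundedLT J), Nonempty ((𝒟 G).TransfiniteCompositionOfShape J i) := by
  have hmk : QuasiIso (Subobject.mk i).arrow := by
    rw [← Subobject.underlyingIso_hom_comp_eq_mk]
    infer_instance
  obtain ⟨J, i1, i2, i3, i4, ⟨tc⟩⟩ := exists_tc.{v} (X := X) (𝒟 G) (fib (A := A))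
    (𝒟_le_llp_fib G) (fun f hf => 𝒟_of_isIso G f hf) (fun B => QuasiIso B.arrow)
    (fun B hB hB' => exists_larger hG B hB hB') (Subobject.mk i)
    (fun B hle hllp => by
      have h1 : QuasiIso (Subobject.ofLE (Subobject.mk i) B hle) :=
        quasiIso_of_mono_of_llp _ hllp
      have h3 : QuasiIso (Subobject.ofLE (Subobject.mk i) B hle ≫ B.arrow) := by
        rw [Subobject.ofLE_arrow]
        exact hmk
      exact quasiIso_of_comp_left (Subobject.ofLE (Subobject.mk i) B hle) B.arrow)
  exact ⟨J, i1, i2, i3, i4, ⟨tc.ofArrowIso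
    (Arrow.isoMk (Subobject.underlyingIso i) (Iso.refl _)
      (by simp))⟩⟩

/-! ## The generating set -/

/-- Second index type: small acyclic complexes. -/
abbrev Idx₂ (G : A) := {R : Subobject (bigC G) // (cokernel R.arrow).Acyclic}

/-- The index type for the generating morphisms. -/
abbrev Idx (G : A) := (ℤ × Subobject G) ⊕ Idx₂ G

noncomputable def src (G : A) : Idx G → CochainComplex A ℤ
  | .inl x => disk x.1 (x.2 : A)
  | .inr s => (cokernel s.1.arrow)⟦(-1 : ℤ)⟧

noncomputable def tgt (G : A) : Idx G → CochainComplex A ℤ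
  | .inl x => disk x.1 G
  | .inr s => CochainComplex.mappingCone (𝟙 ((cokernel s.1.arrow)⟦(-1 : ℤ)⟧))

noncomputable def gen (G : A) : ∀ x : Idx G, src G x ⟶ tgt G x
  | .inl x => diskMap x.1 x.2.arrow
  | .inr _ => CochainComplex.mappingCone.inr (𝟙 _)

/-- The generating trivial cofibrations. -/
def J' (G : A) : MorphismProperty (CochainComplex A ℤ) := MorphismProperty.ofHoms (gen G)

instance (G : A) : MorphismProperty.IsSmall.{v} (J' G) := by
  dsimp [J']
  infer_instance

theorem gen_mono (G : A) (x : Idx G) : Mono (gen G x) := by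
  rcases x with x | s
  · exact mono_diskMap x.1 x.2.arrow
  · exact mono_inr _

theorem gen_quasiIso (G : A) (x : Idx G) : QuasiIso (gen G x) := by
  rcases x with x | s
  · exact quasiIso_of_acyclic _ (disk_acyclic _ _) (disk_acyclic _ _)
  · exact quasiIso_of_acyclic _ (acyclic_shift _ s.2 (-1)) (acyclic_cone_id _)

theorem J'_le_mono (G : A) : J' G ≤ monomorphisms (CochainComplex A ℤ) := by
  rintro _ _ _ ⟨x⟩
  exact gen_mono G x

theorem J'_le_llp_fib (G : A) : J' G ≤ (fib (A := A)).llp := by
  rintro _ _ _ ⟨x⟩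
  have := gen_mono G x
  have := gen_quasiIso G x
  exact le_llp_fib _

instance (G : A) : HasSmallObjectArgument.{v} (J' G) := by
  obtain ⟨κ, hκ', hκ⟩ := HasCardinalLT.exists_regular_cardinal_forall.{v}
    (fun x : Idx G => Subobject (src G x))
  have : Fact κ.IsRegular := ⟨hκ'⟩
  have : Nonempty κ.ord.ToType := by simpa using hκ'.ne_zero
  have := WellFoundedLT.toOrderBot κ.ord.ToType
  exact ⟨κ, inferInstance, inferInstance,
    { preservesColimit {K L X Y} i hi f hf := by
        let hf' : (monomorphisms (CochainComplex A ℤ)).TransfiniteCompositionOfShape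
            κ.ord.ToType f :=
          { toTransfiniteCompositionOfShape := hf.toTransfiniteCompositionOfShape
            map_mem j hj := by
              have := (hf.attachCells j hj).pushouts_coproducts
              simp only [ofHoms_homFamily] at this
              refine (?_ : _ ≤ monomorphisms (CochainComplex A ℤ)) _ this
              simp only [pushouts_le_iff, coproducts_le_iff]
              exact J'_le_mono G }
        have (j j' : κ.ord.ToType) (φ : j ⟶ j') : Mono (hf'.F.map φ) := hf'.mem_map φ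
        apply IsGrothendieckAbelian.preservesColimit_coyoneda_obj_of_mono (Y := hf'.F) (κ := κ)
        obtain ⟨x⟩ := hi
        exact hκ x }⟩

/-! ## Fibrant objects -/

section Fibrant

variable {G : A} {I Z : CochainComplex A ℤ} (p : I ⟶ Z) (hZ : IsZero Z) (hp : (J' G).rlp p)

include hZ hp

theorem lift_of_rlp (x : Idx G) (t : src G x ⟶ I) : ∃ l : tgt G x ⟶ I, gen G x ≫ l = t := by
  have := hp _ (MorphismProperty.ofHoms.mk x)
  have sq : CommSq t (gen G x) p 0 := ⟨hZ.eq_of_tgt _ _⟩
  exact ⟨sq.lift, sq.fac_left⟩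

theorem injective_of_rlp (hG : IsSeparator G) (n : ℤ) : Injective (I.X n) := by
  rw [injective_iff_rlp_monomorphisms_zero,
    ← IsGrothendieckAbelian.generatingMonomorphisms_rlp hG]
  rintro _ _ _ ⟨S⟩
  constructor
  intro u b sq
  obtain ⟨l, hl⟩ : ∃ l : disk n G ⟶ I, diskMap n S.arrow ≫ l = diskHom n I u :=
    lift_of_rlp p hZ hp (.inl (n, S)) (diskHom n I u)
  have h := HomologicalComplex.congr_hom hl n
  rw [HomologicalComplex.comp_f] at h
  dsimp only [diskMap, diskHom] at h
  rw [HomologicalComplex.mkHomFromDouble_f₀, HomologicalComplex.mkHomFromDouble_f₀] at h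
  exact ⟨⟨{ l := (HomologicalComplex.doubleXIso₀ (𝟙 G) (hrel n)).inv ≫ l.f n
            fac_left := by
              rw [← cancel_epi (HomologicalComplex.doubleXIso₀ (𝟙 (S : A)) (hrel n)).hom]
              simpa only [Category.assoc] using h
            fac_right := (isZero_zero _).eq_of_tgt _ _ }⟩⟩

theorem nullHomotopic_of_rlp (s : Idx₂ G) (ψ : (cokernel s.1.arrow)⟦(-1 : ℤ)⟧ ⟶ I) :
    Nonempty (Homotopy ψ 0) := by
  obtain ⟨l, hl⟩ := lift_of_rlp p hZ hp (.inr s) ψ
  exact nullHomotopic_of_extends ψ l hl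

theorem hasLiftingProperty_of_𝒟 (hG : IsSeparator G) {X Y : CochainComplex A ℤ} (i : X ⟶ Y)
    (hi : 𝒟 G i) : HasLiftingProperty i p := by
  obtain ⟨N, q, w, hS, hNac, hNgen⟩ := hi
  have hnull : ∀ ψ : N⟦(-1 : ℤ)⟧ ⟶ I, Nonempty (Homotopy ψ 0) := by
    obtain ⟨e, he⟩ := exists_epi_of_gen G N hNgen
    obtain ⟨R, ⟨iso⟩⟩ := exists_iso_cokernel_subobject e
    have hRac : (cokernel R.arrow).Acyclic := acyclic_of_iso iso.symm hNac
    intro ψ
    obtain ⟨h⟩ := nullHomotopic_of_rlp p hZ hp ⟨R, hRac⟩
      ((shiftFunctor (CochainComplex A ℤ) (-1 : ℤ)).map iso.hom ≫ ψ)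
    have e1 : ψ = (shiftFunctor (CochainComplex A ℤ) (-1 : ℤ)).map iso.inv ≫
        ((shiftFunctor (CochainComplex A ℤ) (-1 : ℤ)).map iso.hom ≫ ψ) := by
      rw [← Category.assoc, ← CategoryTheory.Functor.map_comp, Iso.inv_hom_id,
        CategoryTheory.Functor.map_id, Category.id_comp]
    exact ⟨(Homotopy.ofEq e1).trans ((h.compLeft _).trans (Homotopy.ofEq comp_zero))⟩
  have : ∀ n, Injective (I.X n) := injective_of_rlp p hZ hp hG
  constructor
  intro t b sq
  obtain ⟨l, hl⟩ := exists_lift_of_nullHomotopic I (ShortComplex.mk i q w) hS hnull t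
  exact ⟨⟨{ l := l, fac_left := hl, fac_right := hZ.eq_of_tgt _ _ }⟩⟩

theorem kinj_of_rlp (hG : IsSeparator G) : I.IsKInjective ∧ ∀ n : ℤ, Injective (I.X n) := by
  rw [Groth.Agent.S11125.result]
  intro S hS h3 φ
  have := hS.mono_f
  have : QuasiIso S.f := quasiIso_f_of_acyclic S hS h3
  obtain ⟨J, _, _, _, _, ⟨tc⟩⟩ := exists_tc_of_mono_quasiIso hG S.f
  have hllp : (𝒟 G).rlp.llp S.f := transfiniteCompositionsOfShape_le_llp_rlp (𝒟 G) J _ tc.mem
  have h𝒟rlp : (𝒟 G).rlp p := fun _ _ i hi => hasLiftingProperty_of_𝒟 p hZ hp hG i hi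
  have := hllp p h𝒟rlp
  have sq : CommSq φ S.f p 0 := ⟨hZ.eq_of_tgt _ _⟩
  exact ⟨sq.lift, sq.fac_left⟩

end Fibrant

/-- Let A be a Grothendieck abelian category. Every cochain complex M in A admits a quasi-isomorphism M
→ I which is a monomorphism in each degree, where I is a K-injective complex all of whose terms are
injective objects. (The published statement also asserts that the construction can be made
functorial in M; that is not asserted here.) -/
theorem result {A : Type u} [Category.{v} A] [Abelian A] [IsGrothendieckAbelian.{v} A]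
    (M : CochainComplex A ℤ) :
    ∃ (I : CochainComplex A ℤ) (f : M ⟶ I), I.IsKInjective ∧ QuasiIso f ∧ (∀ n, Mono (f.f n)) ∧
      ∀ n, Injective (I.X n) := by
  have hG := isSeparator_separator A
  let fac := (functorialFactorizationData (J' (separator A)).rlp.llp
    (J' (separator A)).rlp).factorizationData (0 : M ⟶ 0)
  have hkinj := kinj_of_rlp fac.p (isZero_zero _) fac.hp hG
  have h1 : (J' (separator A)).rlp.llp ≤ monomorphisms (CochainComplex A ℤ) := by
    rw [← IsGrothendieckAbelian.llp_rlp_monomorphisms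
      (isSeparator_separator (CochainComplex A ℤ))]
    exact antitone_llp (antitone_rlp (J'_le_mono (separator A)))
  have h2 : (J' (separator A)).rlp.llp ≤ (fib (A := A)).llp :=
    antitone_llp ((le_llp_iff_le_rlp _ _).1 (J'_le_llp_fib (separator A)))
  have hmono : Mono fac.i := h1 _ fac.hi
  have hq : QuasiIso fac.i := quasiIso_of_mono_of_llp fac.i (h2 _ fac.hi)
  exact ⟨fac.Z, fac.i, hkinj.1, hq, fun n => inferInstance, hkinj.2⟩

end Groth.Agent.S0476
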