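import Groth.Statements.S7109
import Mathlib

set_option autoImplicit false
universe u
open CAlg

namespace Groth.Agent.S7109

theorem isCompl_range_ker {R : Type*} [Ring R] {M N : Type*} [AddCommGroup M] [Module R M]
    [AddCommGroup N] [Module R N] (j : M →ₗ[R] N) (r : N →ₗ[R] M) (h : ∀ u, r (j u) = u) :
    IsCompl (LinearMap.range j) (LinearMap.ker r) := by
  constructor
  · rw [Submodule.disjoint_def]
    rintro x ⟨u, rfl⟩ hx
    rw [LinearMap.mem_ker, h] at hx
    simp [hx]
  · rw [codisjoint_iff, eq_top_iff]
    intro x _
    have : x = j (r x) + (x - j (r x)) := by abel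
    rw [this]
    refine Submodule.add_mem_sup ⟨_, rfl⟩ ?_
    simp [LinearMap.mem_ker, h]

/-- Let P be a projective module over a ring R and s an element of P. Then there are a finite free
module R^n and a direct summand K of R^n ⊕ P which is finite free and contains (0, s). -/
theorem result (R : Type u) [CommRing R] (P : Type u) [AddCommGroup P]
    [Module R P] [Module.Projective R P] (s : P) :
    ∃ (n : ℕ) (K K' : Submodule R ((Fin n → R) × P)), IsCompl K K' ∧ Module.Free R K ∧ Module.Finite R K ∧
      ((0, s) : (Fin n → R) × P) ∈ K := by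
  classical
  obtain ⟨i, hi⟩ := (Module.projective_def' (R := R) (P := P)).1 inferInstance
  have hi' : ∀ p, Finsupp.linearCombination R id (i p) = p := fun p => LinearMap.congr_fun hi p
  set π : (P →₀ R) →ₗ[R] P := Finsupp.linearCombination R id with hπ
  set x := i s with hx
  set T := x.support with hT
  let n := T.card
  let e : Fin n ≃ T := T.equivFin.symm
  let incl : (Fin n → R) →ₗ[R] (P →₀ R) :=
    Fintype.linearCombination R (fun j => Finsupp.single (e j : P) (1 : R))
  let proj : (P →₀ R) →ₗ[R] (Fin n → R) :=
    LinearMap.pi (fun j => Finsupp.lapply (e j : P))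
  have hpi : ∀ u, proj (incl u) = u := by
    intro u
    ext k
    simp only [proj, incl, LinearMap.pi_apply, Finsupp.lapply_apply,
      Fintype.linearCombination_apply, Finsupp.coe_finsetSum, Finset.sum_apply,
      Finsupp.coe_smul, Pi.smul_apply, smul_eq_mul]
    rw [Finset.sum_eq_single k]
    · simp
    · intro b _ hb
      have : (e b : P) ≠ (e k : P) := fun h => hb (e.injective (Subtype.ext h))
      simp [Finsupp.single_apply, this]
    · simp
  have hip : incl (proj x) = x := by
    ext p
    simp only [proj, incl, LinearMap.pi_apply, Finsupp.lapply_apply,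
      Fintype.linearCombination_apply, Finsupp.coe_finsetSum, Finset.sum_apply,
      Finsupp.coe_smul, Pi.smul_apply, smul_eq_mul]
    by_cases hp : p ∈ T
    · rw [Finset.sum_eq_single (e.symm ⟨p, hp⟩)]
      · simp
      · intro b _ hb
        have : (e b : P) ≠ p := by
          intro h
          apply hb
          apply e.injective
          simp [Subtype.ext_iff, h]
        simp [Finsupp.single_apply, this]
      · simp
    · have h0 : x p = 0 := by simpa [hT] using hp
      rw [h0]
      apply Finset.sum_eq_zero
      intro b _
      have : (e b : P) ≠ p := by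
        intro h
        exact hp (h ▸ (e b).2)
      simp [Finsupp.single_apply, this]
  let a : (Fin n → R) →ₗ[R] (Fin n → R) := LinearMap.id - proj ∘ₗ i ∘ₗ π ∘ₗ incl
  let j : (Fin n → R) →ₗ[R] (Fin n → R) × P := LinearMap.prod a (π ∘ₗ incl)
  let r : (Fin n → R) × P →ₗ[R] (Fin n → R) := LinearMap.coprod LinearMap.id (proj ∘ₗ i)
  have hrj : ∀ u, r (j u) = u := by
    intro u
    simp [r, j, a]
  have hjx : j (proj x) = (0, s) := by
    have h1 : π (incl (proj x)) = s := by rw [hip, hx, hπ, hi']
    have h2 : a (proj x) = 0 := by
      simp only [a, LinearMap.sub_apply, LinearMap.id_apply, LinearMap.comp_apply, h1]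
      rw [← hx, sub_self]
    have h3 : j (proj x) = (a (proj x), π (incl (proj x))) := rfl
    rw [h3, h1, h2]
  have hjinj : Function.Injective j := fun u v huv => by
    have := congrArg r huv
    rwa [hrj, hrj] at this
  refine ⟨n, LinearMap.range j, LinearMap.ker r, isCompl_range_ker j r hrj, ?_, ?_, ?_⟩
  · exact Module.Free.of_equiv (LinearEquiv.ofInjective j hjinj)
  · exact Module.Finite.range j
  · exact ⟨proj x, hjx⟩

end Groth.Agent.S7109
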