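import Groth.Statements.S2195
import Mathlib

set_option autoImplicit false
universe u v
open Disc

namespace Groth.Agent.S2195

open TensorProduct Algebra

section aux

variable {A : Type u} {B : Type v} [CommRing A] [CommRing B] [Algebra A B]
  {ι : Type} [Fintype ι] [DecidableEq ι] (b : Module.Basis ι A B)

theorem trace_eq_sum (z : B) : Algebra.trace A B z = ∑ i, b.repr (z * b i) i := by
  rw [Algebra.trace_eq_matrix_trace b, Matrix.trace]
  refine Finset.sum_congr rfl fun i _ => ?_
  rw [Matrix.diag_apply, Algebra.leftMulMatrix_eq_repr_mul]

/-- If the discriminant is a unit, the algebra is formally unramified. -/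
theorem formallyUnramified_of_isUnit (h : IsUnit (Algebra.discr A b)) :
    Algebra.FormallyUnramified A B := by
  have : Module.Finite A B := Module.Finite.of_basis b
  set T : Matrix ι ι A := Algebra.traceMatrix A b with hTdef
  have hT : IsUnit T.det := h
  have hTT : T * T⁻¹ = 1 := Matrix.mul_nonsing_inv T hT
  have hTe : ∀ i j, T i j = Algebra.trace A B (b i * b j) := fun i j => rfl
  let c : ι → B := fun i => ∑ j, T⁻¹ j i • b j
  have h1 : ∀ k i, Algebra.trace A B (b k * c i) = if k = i then 1 else 0 := by
    intro k i
    simp only [c, Finset.mul_sum, mul_smul_comm, map_sum, map_smul, smul_eq_mul, ← hTe]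
    have := congrFun (congrFun hTT k) i
    rw [Matrix.mul_apply, Matrix.one_apply] at this
    rw [← this]
    exact Finset.sum_congr rfl fun j _ => mul_comm _ _
  have hrepr : ∀ x i, Algebra.trace A B (x * c i) = b.repr x i := by
    intro x i
    conv_lhs => rw [← b.sum_repr x]
    simp only [Finset.sum_mul, smul_mul_assoc, map_sum, map_smul, smul_eq_mul, h1]
    simp
  have h2 : ∀ x, x = ∑ i, Algebra.trace A B (x * c i) • b i := by
    intro x
    conv_lhs => rw [← b.sum_repr x]
    exact Finset.sum_congr rfl fun i _ => by rw [hrepr]
  have h3 : ∀ z, (∀ k, Algebra.trace A B (z * b k) = 0) → z = 0 := by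
    intro z hz
    have hv : Matrix.vecMul (fun j => b.repr z j) T = 0 := by
      ext k
      have := hz k
      conv_lhs at this => rw [← b.sum_repr z]
      simp only [Finset.sum_mul, smul_mul_assoc, map_sum, map_smul, smul_eq_mul, ← hTe] at this
      simpa [Matrix.vecMul, dotProduct] using this
    have hv2 : (fun j => b.repr z j) = 0 := by
      have := congrArg (fun v => Matrix.vecMul v T⁻¹) hv
      simpa [Matrix.vecMul_vecMul, hTT] using this
    rw [← b.sum_repr z]
    exact Finset.sum_eq_zero fun i _ => by rw [show b.repr z i = 0 from congrFun hv2 i, zero_smul]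
  have h4 : ∀ x, x = ∑ i, Algebra.trace A B (x * b i) • c i := by
    intro x
    rw [← sub_eq_zero]
    apply h3
    intro k
    simp only [sub_mul, Finset.sum_mul, smul_mul_assoc, map_sub, map_sum, map_smul, smul_eq_mul]
    rw [sub_eq_zero]
    have : ∀ i, Algebra.trace A B (c i * b k) = if k = i then 1 else 0 := fun i => by
      rw [mul_comm, h1]
    simp [this]
  let e : B ⊗[A] B := ∑ i, b i ⊗ₜ[A] c i
  have hmu : ∑ i, b i * c i = 1 := by
    rw [← sub_eq_zero]
    apply h3
    intro k
    rw [sub_mul, one_mul, map_sub, sub_eq_zero, trace_eq_sum b (b k)]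
    simp only [Finset.sum_mul, map_sum]
    refine Finset.sum_congr rfl fun i _ => ?_
    rw [← hrepr]
    congr 1
    ring
  rw [Algebra.FormallyUnramified.iff_exists_tensorProduct]
  refine ⟨e, ?_, ?_⟩
  · intro s
    rw [sub_mul, sub_eq_zero]
    simp only [e, Finset.mul_sum, Algebra.TensorProduct.tmul_mul_tmul, one_mul]
    calc ∑ i, b i ⊗ₜ[A] (s * c i)
        = ∑ i, ∑ j, Algebra.trace A B (s * c i * b j) • (b i ⊗ₜ[A] c j) := by
          refine Finset.sum_congr rfl fun i _ => ?_
          conv_lhs => rw [h4 (s * c i)]
          rw [TensorProduct.tmul_sum]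
          exact Finset.sum_congr rfl fun j _ => by rw [TensorProduct.tmul_smul]
      _ = ∑ j, ∑ i, Algebra.trace A B (s * b j * c i) • (b i ⊗ₜ[A] c j) := by
          rw [Finset.sum_comm]
          refine Finset.sum_congr rfl fun j _ => Finset.sum_congr rfl fun i _ => ?_
          congr 2
          ring
      _ = ∑ j, (s * b j) ⊗ₜ[A] c j := by
          refine Finset.sum_congr rfl fun j _ => ?_
          conv_rhs => rw [h2 (s * b j)]
          rw [TensorProduct.sum_tmul]
          exact Finset.sum_congr rfl fun i _ => by rw [TensorProduct.smul_tmul']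
  · simp only [e, map_sum, TensorProduct.lmul'_apply_tmul]
    exact hmu

/-- If the algebra is formally unramified, the discriminant is a unit. -/
theorem isUnit_of_formallyUnramified [Algebra.FormallyUnramified A B] :
    IsUnit (Algebra.discr A b) := by
  have : Module.Finite A B := Module.Finite.of_basis b
  obtain ⟨t, ht1, ht2⟩ := (Algebra.FormallyUnramified.iff_exists_tensorProduct
    (R := A) (S := B)).mp inferInstance
  let β : Module.Basis ι B (B ⊗[A] B) := Algebra.TensorProduct.basis B b
  let c : ι → B := fun i => β.repr t i
  have hβ : ∀ i, β i = 1 ⊗ₜ b i := fun i => Algebra.TensorProduct.basis_apply b i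
  have ht : t = ∑ i, c i ⊗ₜ[A] b i := by
    conv_lhs => rw [← β.sum_repr t]
    refine Finset.sum_congr rfl fun i _ => ?_
    rw [hβ, TensorProduct.smul_tmul', smul_eq_mul, mul_one]
  have key : ∀ s k, s * c k = ∑ i, (Algebra.leftMulMatrix b s k i) • c i := by
    intro s k
    have h1 : ((1 : B) ⊗ₜ[A] s) * t = (s ⊗ₜ[A] (1 : B)) * t := by
      have := ht1 s
      rwa [sub_mul, sub_eq_zero] at this
    have h2 := congrArg (fun x => β.repr x k) h1
    beta_reduce at h2
    have hR : (s ⊗ₜ[A] (1 : B)) * t = s • t := by
      rw [Algebra.smul_def]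
      rfl
    rw [hR, map_smul, Finsupp.smul_apply, smul_eq_mul] at h2
    rw [← h2, ht, Finset.mul_sum, map_sum, Finsupp.finsetSum_apply]
    refine Finset.sum_congr rfl fun i _ => ?_
    rw [Algebra.TensorProduct.tmul_mul_tmul, one_mul, Algebra.TensorProduct.basis_repr_tmul,
      Finsupp.smul_apply, Finsupp.mapRange_apply, Algebra.leftMulMatrix_eq_repr_mul,
      smul_eq_mul, Algebra.smul_def, mul_comm]
  have hmu : ∑ i, c i * b i = 1 := by
    rw [ht] at ht2
    simpa only [map_sum, TensorProduct.lmul'_apply_tmul] using ht2
  have expand : ∀ y, y = ∑ i, Algebra.trace A B (y * b i) • c i := by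
    intro y
    calc y = y * ∑ k, c k * b k := by rw [hmu, mul_one]
      _ = ∑ k, (y * b k) * c k := by
          rw [Finset.mul_sum]
          exact Finset.sum_congr rfl fun k _ => by ring
      _ = ∑ k, ∑ i, (Algebra.leftMulMatrix b (y * b k) k i) • c i := by
          exact Finset.sum_congr rfl fun k _ => key _ _
      _ = ∑ i, (∑ k, Algebra.leftMulMatrix b (y * b k) k i) • c i := by
          rw [Finset.sum_comm]
          exact Finset.sum_congr rfl fun i _ => by rw [Finset.sum_smul]
      _ = ∑ i, Algebra.trace A B (y * b i) • c i := by
          refine Finset.sum_congr rfl fun i _ => ?_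
          congr 1
          rw [trace_eq_sum b]
          refine Finset.sum_congr rfl fun k _ => ?_
          rw [Algebra.leftMulMatrix_eq_repr_mul]
          congr 2
          ring
  -- matrix identity
  let G : Matrix ι ι A := Matrix.of fun l i => b.repr (c i) l
  have hGT : G * (Algebra.traceMatrix A b).transpose = 1 := by
    ext l m
    rw [Matrix.mul_apply, Matrix.one_apply]
    have := congrArg (fun x => b.repr x l) (expand (b m))
    simp only [map_sum, map_smul, Finsupp.finsetSum_apply, Finsupp.smul_apply, smul_eq_mul,
      Module.Basis.repr_self, Finsupp.single_apply] at this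
    simp only [G, Matrix.of_apply, Matrix.transpose_apply, Algebra.traceMatrix_apply,
      Algebra.traceForm_apply]
    rw [eq_comm] at this
    convert this using 1
    · exact Finset.sum_congr rfl fun i _ => mul_comm _ _
    · simp [eq_comm]
  have : IsUnit (Algebra.traceMatrix A b).transpose.det :=
    Matrix.isUnit_det_of_left_inverse hGT
  rwa [Matrix.det_transpose] at this

end aux

/-- Ring form of the statement: let B be an A-algebra which is finite free as an A-module with basis b.
Then A -> B is etale if and only if the discriminant of b (the determinant of the matrix of traces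
Tr(b_i b_j)) is a unit of A, i.e. the discriminant locus is empty. -/
theorem result {A : Type u} {B : Type v} [CommRing A] [CommRing B]
    [Algebra A B] {ι : Type} [Fintype ι] [DecidableEq ι] (b : Module.Basis ι A B) :
    Algebra.Etale A B ↔ IsUnit (Algebra.discr A b) := by
  constructor
  · intro h
    exact isUnit_of_formallyUnramified b
  · intro h
    have : Module.Finite A B := Module.Finite.of_basis b
    have : Module.Free A B := Module.Free.of_basis b
    have : Module.FinitePresentation A B := Module.finitePresentation_of_projective A B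
    have := formallyUnramified_of_isUnit b h
    exact Algebra.Etale.of_formallyUnramified_of_flat

end Groth.Agent.S2195
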