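import Groth.Statements.S12084
import Mathlib
import Groth.Agent.H34.Fitting

set_option autoImplicit false
universe u
open Fitt

namespace Groth.Agent.S12084


open Groth.Agent.H34.Fit in
theorem D_mono' {R : Type u} [CommRing R] {M : Type u} [AddCommGroup M] [Module R M]
    {ι : Type} [Fintype ι] [DecidableEq ι] (x : ι → M) {k k' : ℕ} (h : k ≤ k') :
    D R x k ≤ D R x k' := by
  apply Ideal.span_mono
  rintro d ⟨a, S, hS, hrel, rfl⟩
  exact ⟨a, S, hS.trans h, hrel, rfl⟩

open Groth.Agent.H34.Fit in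
theorem isRel_z {R : Type u} [CommRing R] {M M' : Type u} [AddCommGroup M] [Module R M]
    [AddCommGroup M'] [Module R M'] {n n' : ℕ} (x : Fin n → M) (x' : Fin n' → M')
    (r : Fin n ⊕ Fin n' → R) :
    IsRel (Sum.elim (fun i => ((x i, 0) : M × M')) (fun j => ((0, x' j) : M × M'))) r ↔
      IsRel x (fun i => r (Sum.inl i)) ∧ IsRel x' (fun j => r (Sum.inr j)) := by
  unfold IsRel
  rw [Fintype.sum_sum_type, Prod.ext_iff]
  simp [Prod.fst_sum, Prod.snd_sum]

theorem pure_det_zero {R : Type u} [CommRing R] {n n' : ℕ}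
    (A' : Matrix (Fin n ⊕ Fin n') (Fin n ⊕ Fin n') R) (s : Finset (Fin n ⊕ Fin n'))
    (h1 : ∀ i ∈ s, ∀ j, A' i (Sum.inr j) = 0) (h2 : ∀ i, i ∉ s → ∀ j, A' i (Sum.inl j) = 0)
    (hs : s.card ≠ n) : A'.det = 0 := by
  rw [Matrix.det_apply]
  apply Finset.sum_eq_zero
  intro σ _
  by_contra hne
  have hprod : ∀ i, A' (σ i) i ≠ 0 := by
    intro i hi
    apply hne
    rw [Finset.prod_eq_zero (f := fun i => A' (σ i) i) (Finset.mem_univ i) hi, smul_zero]
  have hl : ∀ j, σ (Sum.inl j) ∈ s := by
    intro j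
    by_contra hj
    exact hprod (Sum.inl j) (h2 _ hj j)
  have hr : ∀ j, σ (Sum.inr j) ∉ s := by
    intro j hj
    exact hprod (Sum.inr j) (h1 _ hj j)
  apply hs
  have : s = (Finset.univ.map (Function.Embedding.inl : Fin n ↪ Fin n ⊕ Fin n')).map
      σ.toEmbedding := by
    ext r
    simp only [Finset.mem_map, Finset.mem_univ, true_and, Function.Embedding.inl_apply,
      Equiv.coe_toEmbedding, exists_exists_eq_and]
    constructor
    · intro hrs
      rcases hσ : σ.symm r with j | j
      · exact ⟨j, by rw [← hσ]; simp⟩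
      · exfalso
        apply hr j
        rw [← hσ]
        simpa using hrs
    · rintro ⟨j, rfl⟩
      exact hl j
  rw [this]
  simp

/-- For finite `R`-modules `M`, `M'` and every `l`, the `l`-th Fitting ideal of `M ⊕ M'` equals `∑_{k +
k' = l} Fit_k(M) · Fit_{k'}(M')`; in particular `Fit_0(M ⊕ M') = Fit_0(M) · Fit_0(M')`. -/
theorem result (R : Type u) [CommRing R] (M M' : Type u) [AddCommGroup M] [Module R M]
    [AddCommGroup M'] [Module R M'] [Module.Finite R M] [Module.Finite R M'] (l : ℕ) :
    Fitt.ideal R (M × M') l = ∑ k ∈ Finset.range (l + 1), Fitt.ideal R M k * Fitt.ideal R M' (l - k) := by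
  classical
  obtain ⟨n, x, hx⟩ := Module.Finite.exists_fin (R := R) (M := M)
  obtain ⟨n', x', hx'⟩ := Module.Finite.exists_fin (R := R) (M := M')
  obtain ⟨z, hzdef⟩ : ∃ z : Fin n ⊕ Fin n' → M × M',
      z = Sum.elim (fun i => ((x i, 0) : M × M')) (fun j => ((0, x' j) : M × M')) := ⟨_, rfl⟩
  have hz : Submodule.span R (Set.range z) = ⊤ := by
    rw [eq_top_iff]
    rintro ⟨m, m'⟩ -
    have hm : m ∈ Submodule.span R (Set.range x) := by rw [hx]; trivial
    have hm' : m' ∈ Submodule.span R (Set.range x') := by rw [hx']; trivial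
    obtain ⟨c, hc⟩ := (Submodule.mem_span_range_iff_exists_fun R).mp hm
    obtain ⟨c', hc'⟩ := (Submodule.mem_span_range_iff_exists_fun R).mp hm'
    apply (Submodule.mem_span_range_iff_exists_fun R).mpr
    refine ⟨Sum.elim c c', ?_⟩
    rw [Fintype.sum_sum_type, hzdef, Prod.ext_iff]
    simp [Prod.fst_sum, Prod.snd_sum, hc, hc']
  have hze : Submodule.span R (Set.range (z ∘ (finSumFinEquiv (m := n) (n := n')).symm)) = ⊤ := by
    rw [EquivLike.range_comp]
    exact hz
  rw [Groth.Agent.H34.Fit.fittIdeal_eq_D _ hze l, Groth.Agent.H34.Fit.D_comp_equiv]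
  have hM : ∀ k, Fitt.ideal R M k = Groth.Agent.H34.Fit.D R x k :=
    fun k => Groth.Agent.H34.Fit.fittIdeal_eq_D x hx k
  have hM' : ∀ k, Fitt.ideal R M' k = Groth.Agent.H34.Fit.D R x' k :=
    fun k => Groth.Agent.H34.Fit.fittIdeal_eq_D x' hx' k
  simp only [hM, hM']
  apply le_antisymm
  · -- ⊆
    apply Ideal.span_le.mpr
    rintro d ⟨A, S, hS, hrel, rfl⟩
    obtain ⟨L, hL⟩ : ∃ L : Fin n ⊕ Fin n' → Fin n ⊕ Fin n' → R,
        L = fun i => Sum.elim (fun j => A i (Sum.inl j)) (fun _ => 0) := ⟨_, rfl⟩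
    obtain ⟨Rt, hRt⟩ : ∃ Rt : Fin n ⊕ Fin n' → Fin n ⊕ Fin n' → R,
        Rt = fun i => Sum.elim (fun _ => 0) (fun j => A i (Sum.inr j)) := ⟨_, rfl⟩
    have hA : (A : Fin n ⊕ Fin n' → Fin n ⊕ Fin n' → R) = L + Rt := by
      funext i j
      rcases j with j | j <;> simp [hL, hRt]
    have hdet : A.det = ∑ s : Finset (Fin n ⊕ Fin n'),
        Matrix.det (Matrix.of (s.piecewise L Rt)) := by
      have := (Matrix.detRowAlternating (n := Fin n ⊕ Fin n') (R := R)).toMultilinearMap.map_add_univ
        L Rt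
      rw [← hA] at this
      exact this
    rw [SetLike.mem_coe, hdet]
    refine Ideal.sum_mem _ (fun s _ => ?_)
    obtain ⟨A', hA'⟩ : ∃ A' : Matrix (Fin n ⊕ Fin n') (Fin n ⊕ Fin n') R,
        A' = Matrix.of (s.piecewise L Rt) := ⟨_, rfl⟩
    rw [← hA']
    have e1 : ∀ i ∈ s, ∀ j, A' i (Sum.inr j) = 0 := by
      intro i hi j
      simp [hA', Finset.piecewise, hi, hL]
    have e2 : ∀ i, i ∉ s → ∀ j, A' i (Sum.inl j) = 0 := by
      intro i hi j
      simp [hA', Finset.piecewise, hi, hRt]
    have e3 : ∀ i ∈ s, ∀ j, A' i (Sum.inl j) = A i (Sum.inl j) := by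
      intro i hi j
      simp [hA', Finset.piecewise, hi, hL]
    have e4 : ∀ i, i ∉ s → ∀ j, A' i (Sum.inr j) = A i (Sum.inr j) := by
      intro i hi j
      simp [hA', Finset.piecewise, hi, hRt]
    by_cases hs : s.card = n
    · have c1 : Fintype.card (Fin n) = Fintype.card {a // a ∈ s} := by
        rw [Fintype.card_fin, Fintype.card_coe, hs]
      have c2 : Fintype.card (Fin n') = Fintype.card {a // ¬ (a ∈ s)} := by
        rw [Fintype.card_subtype_compl, Fintype.card_coe, hs, Fintype.card_sum,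
          Fintype.card_fin, Fintype.card_fin]
        omega
      obtain ⟨es⟩ : Nonempty (Fin n ≃ {a // a ∈ s}) := ⟨Fintype.equivOfCardEq c1⟩
      obtain ⟨ec⟩ : Nonempty (Fin n' ≃ {a // ¬ (a ∈ s)}) := ⟨Fintype.equivOfCardEq c2⟩
      obtain ⟨ρ, hρ⟩ : ∃ ρ : Equiv.Perm (Fin n ⊕ Fin n'),
          ρ = (Equiv.sumCongr es ec).trans (Equiv.sumCompl (· ∈ s)) := ⟨_, rfl⟩
      have hρl : ∀ a, ρ (Sum.inl a) = (es a : Fin n ⊕ Fin n') := by
        intro a; simp [hρ]
      have hρr : ∀ b, ρ (Sum.inr b) = (ec b : Fin n ⊕ Fin n') := by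
        intro b; simp [hρ]
      obtain ⟨B, hB⟩ : ∃ B : Matrix (Fin n) (Fin n) R,
          B = fun a j => A (es a) (Sum.inl j) := ⟨_, rfl⟩
      obtain ⟨C, hC⟩ : ∃ C : Matrix (Fin n') (Fin n') R,
          C = fun b j => A (ec b) (Sum.inr j) := ⟨_, rfl⟩
      have hsub : A'.submatrix ρ id = Matrix.fromBlocks B 0 0 C := by
        ext i j
        rcases i with a | b <;> rcases j with j | j
        · simp only [Matrix.submatrix_apply, id, hρl, Matrix.fromBlocks_apply₁₁]
          rw [e3 _ (es a).2, hB]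
        · simp only [Matrix.submatrix_apply, id, hρl, Matrix.fromBlocks_apply₁₂]
          rw [e1 _ (es a).2]; rfl
        · simp only [Matrix.submatrix_apply, id, hρr, Matrix.fromBlocks_apply₂₁]
          rw [e2 _ (ec b).2]; rfl
        · simp only [Matrix.submatrix_apply, id, hρr, Matrix.fromBlocks_apply₂₂]
          rw [e4 _ (ec b).2, hC]
      have hdet2 : A'.det = (Equiv.Perm.sign ρ : ℤ) * (B.det * C.det) := by
        have h1 := Matrix.det_permute ρ A'
        rw [hsub, Matrix.det_fromBlocks_zero₂₁] at h1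
        rw [h1, ← mul_assoc]
        have : ((Equiv.Perm.sign ρ : ℤ) : R) * ((Equiv.Perm.sign ρ : ℤ) : R) = 1 := by
          rcases Int.units_eq_one_or (Equiv.Perm.sign ρ) with h | h <;> simp [h]
        rw [this, one_mul]
      rw [hdet2]
      apply Ideal.mul_mem_left
      obtain ⟨SB, hSB⟩ : ∃ SB : Finset (Fin n), SB = Finset.univ.filter
          (fun a => (es a : Fin n ⊕ Fin n') ∈ S) := ⟨_, rfl⟩
      obtain ⟨SC, hSC⟩ : ∃ SC : Finset (Fin n'), SC = Finset.univ.filter
          (fun b => (ec b : Fin n ⊕ Fin n') ∈ S) := ⟨_, rfl⟩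
      have hcard : SB.card + SC.card ≤ l := by
        have hb : SB.card ≤ (S.filter (· ∈ s)).card := by
          apply Finset.card_le_card_of_injOn (fun a => (es a : Fin n ⊕ Fin n'))
          · intro a ha
            rw [hSB, Finset.coe_filter] at ha
            simp only [Finset.coe_filter, Set.mem_ofPred_eq]
            exact ⟨ha.2, (es a).2⟩
          · intro a _ a' _ h
            exact es.injective (Subtype.ext h)
        have hc : SC.card ≤ (S.filter (fun r => ¬ (r ∈ s))).card := by
          apply Finset.card_le_card_of_injOn (fun b => (ec b : Fin n ⊕ Fin n'))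
          · intro b hb
            rw [hSC, Finset.coe_filter] at hb
            simp only [Finset.coe_filter, Set.mem_ofPred_eq]
            exact ⟨hb.2, (ec b).2⟩
          · intro b _ b' _ h
            exact ec.injective (Subtype.ext h)
        have := Finset.card_filter_add_card_filter_not (s := S) (fun r => r ∈ s)
        omega
      have hBmem : B.det ∈ Groth.Agent.H34.Fit.D R x SB.card := by
        apply Ideal.subset_span
        refine ⟨B, SB, le_refl _, ?_, rfl⟩
        intro a ha
        have ha' : (es a : Fin n ⊕ Fin n') ∉ S := by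
          intro h
          apply ha
          rw [hSB]
          simp [h]
        have := hrel _ ha'
        rw [hzdef, isRel_z] at this
        rw [hB]
        exact this.1
      have hCmem : C.det ∈ Groth.Agent.H34.Fit.D R x' (l - SB.card) := by
        apply D_mono' x' (show SC.card ≤ l - SB.card by omega)
        apply Ideal.subset_span
        refine ⟨C, SC, le_refl _, ?_, rfl⟩
        intro b hb
        have hb' : (ec b : Fin n ⊕ Fin n') ∉ S := by
          intro h
          apply hb
          rw [hSC]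
          simp [h]
        have := hrel _ hb'
        rw [hzdef, isRel_z] at this
        rw [hC]
        exact this.2
      have hle : Groth.Agent.H34.Fit.D R x SB.card * Groth.Agent.H34.Fit.D R x' (l - SB.card) ≤
          ∑ k ∈ Finset.range (l + 1),
            Groth.Agent.H34.Fit.D R x k * Groth.Agent.H34.Fit.D R x' (l - k) := by
        rw [Ideal.sum_eq_sup]
        exact Finset.le_sup (f := fun k =>
          Groth.Agent.H34.Fit.D R x k * Groth.Agent.H34.Fit.D R x' (l - k))
          (Finset.mem_range.mpr (by omega))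
      exact hle (Ideal.mul_mem_mul hBmem hCmem)
    · rw [pure_det_zero A' s e1 e2 hs]
      exact Ideal.zero_mem _
  · -- ⊇
    rw [Ideal.sum_eq_sup]
    apply Finset.sup_le
    intro k hk
    rw [Finset.mem_range] at hk
    unfold Groth.Agent.H34.Fit.D
    rw [Ideal.span_mul_span']
    apply Ideal.span_le.mpr
    rintro _ ⟨d, ⟨a, S, hS, hrel, rfl⟩, d', ⟨a', S', hS', hrel', rfl⟩, rfl⟩
    apply Ideal.subset_span
    refine ⟨Matrix.fromBlocks a 0 0 a',
      S.map Function.Embedding.inl ∪ S'.map Function.Embedding.inr, ?_, ?_, ?_⟩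
    · refine (Finset.card_union_le _ _).trans ?_
      rw [Finset.card_map, Finset.card_map]
      omega
    · intro i hi
      rw [Finset.mem_union, not_or] at hi
      rw [hzdef, isRel_z]
      rcases i with i | i
      · have hi' : i ∉ S := by
          intro h
          exact hi.1 (Finset.mem_map_of_mem _ h)
        constructor
        · simpa using hrel i hi'
        · simp [Groth.Agent.H34.Fit.IsRel]
      · have hi' : i ∉ S' := by
          intro h
          exact hi.2 (Finset.mem_map_of_mem _ h)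
        constructor
        · simp [Groth.Agent.H34.Fit.IsRel]
        · simpa using hrel' i hi'
    · rw [Matrix.det_fromBlocks_zero₂₁]

end Groth.Agent.S12084
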