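import Groth.Statements.S9180
import Groth.Agent.S2141
import Groth.Agent.H66.LocalDimBC

set_option autoImplicit false
universe u
open CAlg

namespace Groth.Agent.S9180

open TensorProduct

set_option linter.style.haveILetI false
set_option linter.unusedSectionVars false

theorem localDim_le_of_homeo {X Y : Type*} [TopologicalSpace X] [TopologicalSpace Y]
    (h : X ≃ₜ Y) (x : X) : FlatMor.localDim X x ≤ FlatMor.localDim Y (h x) := by
  unfold FlatMor.localDim
  refine le_iInf ?_
  rintro ⟨V, hV⟩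
  refine iInf_le_of_le ⟨⟨h ⁻¹' (V : Set Y), h.continuous.isOpen_preimage _ V.2⟩, hV⟩ ?_
  have e : ((h ⁻¹' (V : Set Y) : Set X)) ≃ₜ ((V : Set Y)) :=
    h.subtype (p := fun x => x ∈ h ⁻¹' (V : Set Y)) (q := fun y => y ∈ (V : Set Y))
      (fun x => Iff.rfl)
  exact (IsHomeomorph.topologicalKrullDim_eq _ e.isHomeomorph).le

theorem localDim_eq_of_homeo {X Y : Type*} [TopologicalSpace X] [TopologicalSpace Y]
    (h : X ≃ₜ Y) (x : X) : FlatMor.localDim X x = FlatMor.localDim Y (h x) := by
  refine le_antisymm (localDim_le_of_homeo h x) ?_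
  have := localDim_le_of_homeo h.symm (h x)
  rwa [h.symm_apply_apply] at this

theorem ringKrullDim_quot_congr {R : Type*} [CommRing R] (J1 J2 : Ideal R) (h : J1 = J2) :
    ringKrullDim (R ⧸ J1) = ringKrullDim (R ⧸ J2) := by
  subst h; rfl

theorem dim_fibLoc (S B : Type u) [CommRing S] [CommRing B] [Algebra S B] (q : Ideal S)
    (Q : Ideal B) [Q.IsPrime] (hq : Q.comap (algebraMap S B) = q) :
    ringKrullDim (EGA4.FibLocRing S B Q) =
      ((Q.map (Ideal.Quotient.mk (q.map (algebraMap S B)))).height : WithBot ℕ∞) := by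
  subst hq
  obtain ⟨I, hI⟩ : ∃ I : Ideal B, I = (Q.comap (algebraMap S B)).map (algebraMap S B) := ⟨_, rfl⟩
  rw [← hI]
  have hIQ : I ≤ Q := by rw [hI]; exact Ideal.map_comap_le
  haveI : (Q.map (Ideal.Quotient.mk I)).IsPrime :=
    Ideal.map_isPrime_of_surjective Ideal.Quotient.mk_surjective
      (by rw [Ideal.mk_ker]; exact hIQ)
  have hM : Algebra.algebraMapSubmonoid (B ⧸ I) Q.primeCompl =
      (Q.map (Ideal.Quotient.mk I)).primeCompl := by
    ext x
    obtain ⟨b, rfl⟩ := Ideal.Quotient.mk_surjective x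
    constructor
    · rintro ⟨b', hb', hbb'⟩
      show Ideal.Quotient.mk I b ∉ Q.map (Ideal.Quotient.mk I)
      rw [Ideal.mem_quotient_iff_mem hIQ]
      intro hb
      apply hb'
      have h1 : b' - b ∈ I := by
        rw [← Ideal.Quotient.eq]
        exact hbb'
      have : b' = (b' - b) + b := by ring
      rw [SetLike.mem_coe, this]
      exact Q.add_mem (hIQ h1) hb
    · intro hb
      have hb' : Ideal.Quotient.mk I b ∉ Q.map (Ideal.Quotient.mk I) := hb
      rw [Ideal.mem_quotient_iff_mem hIQ] at hb'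
      exact ⟨b, hb', rfl⟩
  haveI : IsLocalization.AtPrime
      (Localization.AtPrime Q ⧸ I.map (algebraMap B (Localization.AtPrime Q)))
      (Q.map (Ideal.Quotient.mk I)) := by
    unfold IsLocalization.AtPrime
    rw [← hM]
    infer_instance
  have key := IsLocalization.AtPrime.ringKrullDim_eq_height (Q.map (Ideal.Quotient.mk I))
    (Localization.AtPrime Q ⧸ I.map (algebraMap B (Localization.AtPrime Q)))
  have hJ : (Q.comap (algebraMap S B)).map (algebraMap S (Localization.AtPrime Q)) =
      I.map (algebraMap B (Localization.AtPrime Q)) := by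
    rw [hI, Ideal.map_map, ← IsScalarTower.algebraMap_eq]
  exact (ringKrullDim_quot_congr _ _ hJ).trans key

theorem main (k S K : Type u) [Field k] [CommRing S] [Algebra k S]
    [Algebra.FiniteType k S] [Field K] [Algebra k K] (q : Ideal S) [q.IsPrime] (r : ℕ)
    (hr : Algebra.trdeg k q.ResidueField = r) (qK : Ideal (S ⊗[k] K)) [qK.IsPrime] [qK.LiesOver q]
    (rK : ℕ)
    (hrK : letI : Algebra K (S ⊗[k] K) := Algebra.TensorProduct.rightAlgebra
      Algebra.trdeg K qK.ResidueField = rK) :
    ringKrullDim (EGA4.FibLocRing S (S ⊗[k] K) qK) + ringKrullDim (Localization.AtPrime q) =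
        ringKrullDim (Localization.AtPrime qK) ∧
      ringKrullDim (EGA4.FibLocRing S (S ⊗[k] K) qK) + (rK : WithBot ℕ∞) = (r : WithBot ℕ∞) ∧
      ∃ (q' : Ideal (S ⊗[k] K)) (_ : q'.IsPrime), q'.LiesOver q ∧
        ringKrullDim (EGA4.FibLocRing S (S ⊗[k] K) q') = 0 := by
  letI : Algebra K (S ⊗[k] K) := Algebra.TensorProduct.rightAlgebra
  let f : K ⊗[k] S →ₐ[K] S ⊗[k] K :=
    { (Algebra.TensorProduct.comm k K S).toAlgHom.toRingHom with
      commutes' := fun c => by
        show (Algebra.TensorProduct.comm k K S) (algebraMap K (K ⊗[k] S) c) = 1 ⊗ₜ c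
        rw [Algebra.TensorProduct.algebraMap_apply, Algebra.TensorProduct.comm_tmul]
        rfl }
  have hf : Function.Surjective f := (Algebra.TensorProduct.comm k K S).surjective
  haveI : Algebra.FiniteType K (S ⊗[k] K) := Algebra.FiniteType.of_surjective f hf
  haveI : IsNoetherianRing S := Algebra.FiniteType.isNoetherianRing k S
  haveI : IsNoetherianRing (S ⊗[k] K) := Algebra.FiniteType.isNoetherianRing K _
  have hq : qK.comap (algebraMap S (S ⊗[k] K)) = q :=
    (Ideal.LiesOver.over (p := q) (P := qK)).symm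
  have h1 := dim_fibLoc S (S ⊗[k] K) q qK hq
  have hA := Ideal.height_eq_height_add_of_liesOver_of_hasGoingDown q qK
  have hdq : ringKrullDim (Localization.AtPrime q) = q.height :=
    IsLocalization.AtPrime.ringKrullDim_eq_height q _
  have hdQ : ringKrullDim (Localization.AtPrime qK) = qK.height :=
    IsLocalization.AtPrime.ringKrullDim_eq_height qK _
  have hl1 := Groth.Agent.S2141.result' (k := k) (S := S) q r hr
  have hl2 := Groth.Agent.S2141.result' (k := K) (S := S ⊗[k] K) qK rK hrK
  -- transfer of local dimension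
  let h : PrimeSpectrum (S ⊗[k] K) ≃ₜ PrimeSpectrum (K ⊗[k] S) :=
    (PrimeSpectrum.homeomorphOfRingEquiv (Algebra.TensorProduct.comm k K S).toRingEquiv).symm
  obtain ⟨P', hP'⟩ : ∃ P' : PrimeSpectrum (K ⊗[k] S), P' = h ⟨qK, inferInstance⟩ := ⟨_, rfl⟩
  have hP'q : P'.asIdeal.comap
      (Algebra.TensorProduct.includeRight.toRingHom : S →+* K ⊗[k] S) = q := by
    rw [← hq, hP']
    ext x
    show (Algebra.TensorProduct.comm k K S) (1 ⊗ₜ x) ∈ qK ↔ algebraMap S (S ⊗[k] K) x ∈ qK
    rw [Algebra.TensorProduct.comm_tmul, Algebra.TensorProduct.algebraMap_apply]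
    rfl
  have hl3 : FlatMor.localDim (PrimeSpectrum (S ⊗[k] K)) ⟨qK, inferInstance⟩ =
      FlatMor.localDim (PrimeSpectrum S) ⟨q, inferInstance⟩ := by
    rw [localDim_eq_of_homeo h, ← hP']
    exact Groth.Agent.H66.LocalDimBC.localDim_baseChange q P'.asIdeal hP'q
  -- finiteness
  obtain ⟨a, ha⟩ : ∃ a : ℕ, q.height = a :=
    ENat.ne_top_iff_exists.mp Ideal.height_ne_top_of_isPrime |>.imp fun _ h => h.symm
  obtain ⟨c, hc⟩ : ∃ c : ℕ, qK.height = c :=
    ENat.ne_top_iff_exists.mp Ideal.height_ne_top_of_isPrime |>.imp fun _ h => h.symm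
  obtain ⟨b, hb⟩ : ∃ b : ℕ,
      (qK.map (Ideal.Quotient.mk (q.map (algebraMap S (S ⊗[k] K))))).height = b := by
    have : (qK.map (Ideal.Quotient.mk (q.map (algebraMap S (S ⊗[k] K))))).height ≠ ⊤ := by
      intro htop
      rw [htop, hc, ha] at hA
      simp at hA
    exact ENat.ne_top_iff_exists.mp this |>.imp fun _ h => h.symm
  rw [ha, hb, hc] at hA
  have hA' : c = a + b := by exact_mod_cast hA
  rw [hb] at h1
  rw [hdq, ha] at hl1
  rw [hdQ, hc, hl3, hl1] at hl2
  have hB : a + r = c + rK := by exact_mod_cast hl2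
  refine ⟨?_, ?_, ?_⟩
  · rw [h1, hdq, hdQ, ha, hc, hA']
    push_cast
    rw [add_comm]
  · rw [h1]
    have : b + rK = r := by omega
    exact_mod_cast this
  · -- existence
    obtain ⟨I, hI⟩ : ∃ I : Ideal (S ⊗[k] K), I = q.map (algebraMap S (S ⊗[k] K)) := ⟨_, rfl⟩
    have hIle : I ≤ qK := by
      rw [hI, Ideal.map_le_iff_le_comap, hq]
    obtain ⟨q', hq'min, hq'le⟩ := Ideal.exists_minimalPrimes_le hIle
    haveI : q'.IsPrime := hq'min.1.1
    have hq'q : q'.comap (algebraMap S (S ⊗[k] K)) = q := by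
      apply le_antisymm
      · rw [← hq]; exact Ideal.comap_mono hq'le
      · rw [← Ideal.map_le_iff_le_comap, ← hI]; exact hq'min.1.2
    refine ⟨q', inferInstance, ⟨hq'q.symm⟩, ?_⟩
    rw [dim_fibLoc S (S ⊗[k] K) q q' hq'q, ← hI]
    have hcm := Ideal.comap_minimalPrimes_eq_of_surjective
      (f := Ideal.Quotient.mk I) Ideal.Quotient.mk_surjective ⊥
    have hmem : q' ∈ (Ideal.comap (Ideal.Quotient.mk I) ⊥).minimalPrimes := by
      rw [← RingHom.ker_eq_comap_bot, Ideal.mk_ker]; exact hq'min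
    rw [hcm] at hmem
    obtain ⟨P, hPmin, hPq'⟩ := hmem
    have hPeq : q'.map (Ideal.Quotient.mk I) = P := by
      rw [← hPq', Ideal.map_comap_of_surjective _ Ideal.Quotient.mk_surjective]
    rw [hPeq]
    haveI : P.IsPrime := hPmin.1.1
    have : P.height = 0 := Ideal.height_eq_zero_iff.mpr hPmin
    rw [this]; rfl


open TensorProduct in
/-- Let S be of finite type over a field k, K an extension field of k, S_K = S ⊗_k K, q a prime of S
whose residue field has transcendence degree r over k, and q_K a prime of S_K lying over q whose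
residue field has transcendence degree r_K over K. Then the local ring at q_K of the fibre of S →
S_K over q has dimension dim (S_K)_{q_K} − dim S_q = r − r_K (stated additively), and there is a
prime of S_K over q for which this dimension is zero. -/
theorem result (k S K : Type u) [Field k] [CommRing S] [Algebra k S]
    [Algebra.FiniteType k S] [Field K] [Algebra k K] (q : Ideal S) [q.IsPrime] (r : ℕ)
    (hr : Algebra.trdeg k q.ResidueField = r) (qK : Ideal (S ⊗[k] K)) [qK.IsPrime] [qK.LiesOver q]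
    (rK : ℕ)
    (hrK : letI : Algebra K (S ⊗[k] K) := Algebra.TensorProduct.rightAlgebra
      Algebra.trdeg K qK.ResidueField = rK) :
    ringKrullDim (EGA4.FibLocRing S (S ⊗[k] K) qK) + ringKrullDim (Localization.AtPrime q) =
        ringKrullDim (Localization.AtPrime qK) ∧
      ringKrullDim (EGA4.FibLocRing S (S ⊗[k] K) qK) + (rK : WithBot ℕ∞) = (r : WithBot ℕ∞) ∧
      ∃ (q' : Ideal (S ⊗[k] K)) (_ : q'.IsPrime), q'.LiesOver q ∧
        ringKrullDim (EGA4.FibLocRing S (S ⊗[k] K) q') = 0 := by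
  exact main k S K q r hr qK rK hrK

end Groth.Agent.S9180
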