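import Groth.Statements.S9176
import Groth.Agent.H9.FibDimTop
import Groth.Agent.S9180
import Groth.Agent.H66.LocalDimBC

set_option autoImplicit false
universe u
open CAlg

namespace Groth.Agent.S9176

open TensorProduct Groth.Agent.H9.FibDim

set_option linter.style.haveILetI false
set_option linter.unusedSectionVars false

theorem mem_iff_tfd (R S : Type u) [CommRing R] [CommRing S] [Algebra R S] (n : ℕ)
    (q : PrimeSpectrum S) :
    (∀ Q : PrimeSpectrum ((q.asIdeal.under R).Fiber S),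
        Q.asIdeal.comap (Algebra.TensorProduct.includeRight.toRingHom) = q.asIdeal →
          FlatMor.localDim (PrimeSpectrum ((q.asIdeal.under R).Fiber S)) Q ≤ (n : WithBot ℕ∞)) ↔
      tfd (PrimeSpectrum.comap (algebraMap R S)) q ≤ (n : WithBot ℕ∞) := by
  constructor
  · intro h
    obtain ⟨Q, hQ⟩ := exists_fiber_prime (q.asIdeal.under R) q.asIdeal
    rw [← localDim_fiber_eq_tfd (q.asIdeal.under R) q rfl Q hQ]
    exact h Q hQ
  · intro h Q hQ
    rw [localDim_fiber_eq_tfd (q.asIdeal.under R) q rfl Q hQ]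
    exact h

theorem tfd_algEquiv {R S S' : Type u} [CommRing R] [CommRing S] [CommRing S'] [Algebra R S]
    [Algebra R S'] (e : S' ≃ₐ[R] S) (q : PrimeSpectrum S) :
    tfd (PrimeSpectrum.comap (algebraMap R S)) q =
      tfd (PrimeSpectrum.comap (algebraMap R S'))
        (PrimeSpectrum.comap (e : S' →+* S) q) := by
  have hj : Topology.IsOpenEmbedding (PrimeSpectrum.comap (e : S' →+* S)) :=
    (PrimeSpectrum.isHomeomorph_comap_of_bijective (f := (e : S' →+* S)) e.bijective).isOpenEmbedding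
  refine tfd_eq_of_square (PrimeSpectrum.comap (algebraMap R S'))
    (PrimeSpectrum.comap (algebraMap R S)) (PrimeSpectrum.comap (e : S' →+* S)) id hj
    Function.injective_id ?_ q
  intro a'
  rw [← PrimeSpectrum.comap_comp_apply]
  have : (e : S' →+* S).comp (algebraMap R S') = algebraMap R S := by
    ext r
    exact e.commutes r
  rw [this]
  rfl

theorem tfd_baseChange (R₀ R S₀ : Type u) [CommRing R₀] [CommRing R] [CommRing S₀]
    [Algebra R₀ R] [Algebra R₀ S₀] [Algebra.FiniteType R₀ S₀]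
    (q : PrimeSpectrum (R ⊗[R₀] S₀)) :
    tfd (PrimeSpectrum.comap (algebraMap R (R ⊗[R₀] S₀))) q =
      tfd (PrimeSpectrum.comap (algebraMap R₀ S₀))
        (PrimeSpectrum.comap
          (Algebra.TensorProduct.includeRight.toRingHom : S₀ →+* R ⊗[R₀] S₀) q) := by
  obtain ⟨p, hp⟩ : ∃ p : Ideal R, p = q.asIdeal.under R := ⟨_, rfl⟩
  haveI : p.IsPrime := by rw [hp]; infer_instance
  obtain ⟨p₀, hp₀⟩ : ∃ p₀ : Ideal R₀, p₀ = p.under R₀ := ⟨_, rfl⟩
  haveI : p₀.IsPrime := by rw [hp₀]; infer_instance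
  haveI : p.LiesOver p₀ := ⟨hp₀⟩
  haveI : q.asIdeal.LiesOver p := ⟨hp⟩
  letI : Algebra (Localization.AtPrime p₀) (Localization.AtPrime p) :=
    Localization.AtPrime.algebraOfLiesOver p₀ p
  haveI : Localization.AtPrime.IsLiesOverAlgebra p₀ p := inferInstance
  haveI : IsScalarTower R₀ p₀.ResidueField p.ResidueField := inferInstance
  obtain ⟨q₀, hq₀def⟩ : ∃ q₀ : PrimeSpectrum S₀, q₀ = PrimeSpectrum.comap
      (Algebra.TensorProduct.includeRight.toRingHom : S₀ →+* R ⊗[R₀] S₀) q := ⟨_, rfl⟩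
  rw [← hq₀def]
  have hq₀ : q₀.asIdeal.under R₀ = p₀ := by
    rw [hp₀, hp, hq₀def]
    ext r
    simp only [Ideal.under_def, Ideal.mem_comap, PrimeSpectrum.comap_asIdeal]
    rw [← IsScalarTower.algebraMap_apply R₀ R (R ⊗[R₀] S₀)]
    have := (Algebra.TensorProduct.includeRight : S₀ →ₐ[R₀] R ⊗[R₀] S₀).commutes r
    rw [← this]
    rfl
  obtain ⟨Q, hQ⟩ := exists_fiber_prime p q.asIdeal
  rw [← localDim_fiber_eq_tfd p q hp.symm Q hQ]
  let E1 := Algebra.TensorProduct.cancelBaseChange R₀ R p.ResidueField p.ResidueField S₀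
  let E2 := Algebra.TensorProduct.cancelBaseChange R₀ p₀.ResidueField p.ResidueField
    p.ResidueField S₀
  let E : p.Fiber (R ⊗[R₀] S₀) ≃+* p.ResidueField ⊗[p₀.ResidueField] (p₀.Fiber S₀) :=
    (E1.trans E2.symm).toRingEquiv
  have hE : ∀ s : S₀, E.symm ((1 : p.ResidueField) ⊗ₜ ((1 : p₀.ResidueField) ⊗ₜ s)) =
      (1 : p.ResidueField) ⊗ₜ ((1 : R) ⊗ₜ s) := by
    intro s
    show E1.symm (E2 ((1 : p.ResidueField) ⊗ₜ ((1 : p₀.ResidueField) ⊗ₜ s))) = _
    rw [Algebra.TensorProduct.cancelBaseChange_tmul, one_smul,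
      Algebra.TensorProduct.cancelBaseChange_symm_tmul]
  let h := PrimeSpectrum.homeomorphOfRingEquiv (R := p.Fiber (R ⊗[R₀] S₀))
    (S := p.ResidueField ⊗[p₀.ResidueField] (p₀.Fiber S₀)) E
  obtain ⟨Q', hQ'⟩ : ∃ Q' : PrimeSpectrum (p.ResidueField ⊗[p₀.ResidueField] (p₀.Fiber S₀)),
      Q' = h Q := ⟨_, rfl⟩
  obtain ⟨Q₀, hQ₀def⟩ : ∃ Q₀ : PrimeSpectrum (p₀.Fiber S₀), Q₀ = PrimeSpectrum.comap
      (Algebra.TensorProduct.includeRight.toRingHom :
        p₀.Fiber S₀ →+* p.ResidueField ⊗[p₀.ResidueField] (p₀.Fiber S₀)) Q' := ⟨_, rfl⟩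
  have hQ₀ : Q₀.asIdeal.comap (Algebra.TensorProduct.includeRight.toRingHom :
      S₀ →+* p₀.Fiber S₀) = q₀.asIdeal := by
    rw [hQ₀def, hQ', hq₀def]
    ext s
    show E.symm ((1 : p.ResidueField) ⊗ₜ ((1 : p₀.ResidueField) ⊗ₜ s)) ∈ Q.asIdeal ↔
      ((1 : R) ⊗ₜ s : R ⊗[R₀] S₀) ∈ q.asIdeal
    rw [hE s, ← hQ]
    rfl
  rw [Groth.Agent.S9180.localDim_eq_of_homeo h Q, ← hQ']
  have hbc := Groth.Agent.H66.LocalDimBC.localDim_baseChange (k := p₀.ResidueField)
    (S := p₀.Fiber S₀) (K := p.ResidueField) Q₀.asIdeal Q'.asIdeal (by rw [hQ₀def]; rfl)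
  rw [show (⟨Q'.asIdeal, inferInstance⟩ : PrimeSpectrum
    (p.ResidueField ⊗[p₀.ResidueField] (p₀.Fiber S₀))) = Q' from rfl,
    show (⟨Q₀.asIdeal, inferInstance⟩ : PrimeSpectrum (p₀.Fiber S₀)) = Q₀ from rfl] at hbc
  rw [hbc]
  exact localDim_fiber_eq_tfd p₀ q₀ hq₀ Q₀ hQ₀

theorem main (R S : Type u) [CommRing R]
    [CommRing S] [Algebra R S] [Algebra.FinitePresentation R S] (n : ℕ) :
    IsOpen {q : PrimeSpectrum S | tfd (PrimeSpectrum.comap (algebraMap R S)) q ≤ (n : WithBot ℕ∞)} ∧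
      IsCompact {q : PrimeSpectrum S |
        tfd (PrimeSpectrum.comap (algebraMap R S)) q ≤ (n : WithBot ℕ∞)} := by
  classical
  haveI : Algebra.FiniteType R S := inferInstance
  refine ⟨isOpen_setOf_tfd_le R S n, ?_⟩
  obtain ⟨P, -⟩ : ∃ P : Algebra.Presentation R S (Fin (Algebra.Presentation.ofFinitePresentationVars R S))
      (Fin (Algebra.Presentation.ofFinitePresentationRels R S)), True :=
    ⟨Algebra.Presentation.ofFinitePresentation R S, trivial⟩
  haveI : IsNoetherianRing P.Core := Algebra.FiniteType.isNoetherianRing ℤ P.Core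
  haveI : IsNoetherianRing (P.ModelOfHasCoeffs P.Core) :=
    Algebra.FiniteType.isNoetherianRing P.Core _
  let e : R ⊗[P.Core] (P.ModelOfHasCoeffs P.Core) ≃ₐ[R] S := P.tensorModelOfHasCoeffsEquiv P.Core
  let ψ : P.ModelOfHasCoeffs P.Core →+* S :=
    (e : R ⊗[P.Core] (P.ModelOfHasCoeffs P.Core) →+* S).comp
      Algebra.TensorProduct.includeRight.toRingHom
  have hT : {q : PrimeSpectrum S |
      tfd (PrimeSpectrum.comap (algebraMap R S)) q ≤ (n : WithBot ℕ∞)} =
      PrimeSpectrum.comap ψ ⁻¹' {q₀ : PrimeSpectrum (P.ModelOfHasCoeffs P.Core) |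
        tfd (PrimeSpectrum.comap (algebraMap P.Core (P.ModelOfHasCoeffs P.Core))) q₀ ≤
          (n : WithBot ℕ∞)} := by
    ext q
    simp only [Set.mem_ofPred_eq, Set.mem_preimage]
    rw [tfd_algEquiv (S' := R ⊗[P.Core] (P.ModelOfHasCoeffs P.Core)) e q,
      tfd_baseChange P.Core R (P.ModelOfHasCoeffs P.Core)]
    rfl
  have hopen0 := isOpen_setOf_tfd_le P.Core (P.ModelOfHasCoeffs P.Core) n
  have hcomp0 : IsCompact {q₀ : PrimeSpectrum (P.ModelOfHasCoeffs P.Core) |
        tfd (PrimeSpectrum.comap (algebraMap P.Core (P.ModelOfHasCoeffs P.Core))) q₀ ≤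
          (n : WithBot ℕ∞)} := TopologicalSpace.NoetherianSpace.isCompact _
  obtain ⟨t, ht⟩ := PrimeSpectrum.isCompact_isOpen_iff.mp ⟨hcomp0, hopen0⟩
  rw [hT, ← ht, Set.preimage_compl, PrimeSpectrum.preimage_comap_zeroLocus]
  have himg : (ψ '' (t : Set (P.ModelOfHasCoeffs P.Core))) = ((t.image ψ : Finset S) : Set S) := by
    simp
  rw [himg]
  exact (PrimeSpectrum.isCompact_isOpen_iff.mpr ⟨_, rfl⟩).1


/-- For a ring map R → S of finite presentation and n ≥ 0, the set of primes q of S whose fibre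
Spec(κ(p) ⊗ S), p = q ∩ R, has local dimension at most n at the point over q is open and
quasi-compact in Spec S. -/
theorem result (R S : Type u) [CommRing R]
    [CommRing S] [Algebra R S] [Algebra.FinitePresentation R S] (n : ℕ) :
    IsOpen {q : PrimeSpectrum S | ∀ Q : PrimeSpectrum ((q.asIdeal.under R).Fiber S),
        Q.asIdeal.comap (Algebra.TensorProduct.includeRight.toRingHom) = q.asIdeal →
          FlatMor.localDim (PrimeSpectrum ((q.asIdeal.under R).Fiber S)) Q ≤ (n : WithBot ℕ∞)} ∧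
      IsCompact {q : PrimeSpectrum S | ∀ Q : PrimeSpectrum ((q.asIdeal.under R).Fiber S),
        Q.asIdeal.comap (Algebra.TensorProduct.includeRight.toRingHom) = q.asIdeal →
          FlatMor.localDim (PrimeSpectrum ((q.asIdeal.under R).Fiber S)) Q ≤ (n : WithBot ℕ∞)} := by
  have hset : {q : PrimeSpectrum S | ∀ Q : PrimeSpectrum ((q.asIdeal.under R).Fiber S),
        Q.asIdeal.comap (Algebra.TensorProduct.includeRight.toRingHom) = q.asIdeal →
          FlatMor.localDim (PrimeSpectrum ((q.asIdeal.under R).Fiber S)) Q ≤ (n : WithBot ℕ∞)} =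
      {q : PrimeSpectrum S |
        Groth.Agent.H9.FibDim.tfd (PrimeSpectrum.comap (algebraMap R S)) q ≤ (n : WithBot ℕ∞)} :=
    Set.ext fun q => mem_iff_tfd R S n q
  rw [hset]
  exact main R S n

end Groth.Agent.S9176
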