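import Groth.Statements.S9148
import Groth.Agent.H66.RelGCI3

set_option autoImplicit false
universe u
open Synt

namespace Groth.Agent.S9148

set_option linter.style.haveILetI false in
open Groth.Agent.H66.RelGCI Groth.Agent.H9.FibDim in
theorem main (R : Type u) [CommRing R] (n c : ℕ)
    (F : Fin c → MvPolynomial (Fin n) R) (h : Synt.IsRelGCI R n c F) :
    ∃ (R₀ : Subalgebra ℤ R) (F₀ : Fin c → MvPolynomial (Fin n) R₀), Algebra.FiniteType ℤ R₀ ∧
      (∀ i, MvPolynomial.map (algebraMap R₀ R) (F₀ i) = F i) ∧ Synt.IsRelGCI R₀ n c F₀ := by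
  classical
  obtain ⟨A₀, hA₀def⟩ : ∃ A₀ : Subalgebra ℤ R, A₀ = Algebra.adjoin ℤ
    (↑(Finset.univ.biUnion fun i => (F i).coeffs) : Set R) := ⟨_, rfl⟩
  have hA₀ : A₀.FG := by rw [hA₀def]; exact Subalgebra.fg_adjoin_finset _
  have hF : ∀ i, F i ∈ Set.range (MvPolynomial.map (algebraMap A₀ R)) := by
    intro i
    rw [MvPolynomial.mem_range_map_iff_coeffs_subset]
    intro x hx
    have hx1 : x ∈ A₀ := by
      rw [hA₀def]
      apply Algebra.subset_adjoin
      simp only [Finset.coe_biUnion, Finset.coe_univ, Set.mem_univ, Set.iUnion_true,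
        Set.mem_iUnion, Finset.mem_coe]
      exact ⟨i, hx⟩
    exact ⟨⟨x, hx1⟩, rfl⟩
  choose F₀ hF₀ using hF
  clear hA₀def
  have hFeq : (fun i => MvPolynomial.map (algebraMap A₀ R) (F₀ i)) = F := funext hF₀
  have h' : Synt.IsRelGCI R n c (fun i => MvPolynomial.map (algebraMap A₀ R) (F₀ i)) := by
    rw [hFeq]; exact h
  let W₀ : Set (PrimeSpectrum (Synt.RelGCIRing A₀ n c F₀)) :=
    {q | c ≤ n ∧ tfd (PrimeSpectrum.comap (algebraMap A₀ (Synt.RelGCIRing A₀ n c F₀))) q ≤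
      ((n - c : ℕ) : WithBot ℕ∞)}
  have hW₀ : IsOpen W₀ := by
    by_cases hcn : c ≤ n
    · have : W₀ = {q | tfd (PrimeSpectrum.comap (algebraMap A₀ (Synt.RelGCIRing A₀ n c F₀))) q ≤
          ((n - c : ℕ) : WithBot ℕ∞)} := by
        ext q; simp [W₀, hcn]
      rw [this]
      exact isOpen_setOf_tfd_le A₀ (Synt.RelGCIRing A₀ n c F₀) (n - c)
    · have : W₀ = ∅ := by
        ext q; simp [W₀, hcn]
      rw [this]
      exact isOpen_empty
  obtain ⟨J₀, hJ₀⟩ := (PrimeSpectrum.isClosed_iff_zeroLocus_ideal _).mp hW₀.isClosed_compl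
  have hJtop : J₀.map (natMap (algebraMap A₀ R) n c F₀) = ⊤ := by
    apply map_eq_top_of_forall_comap_not_le
    intro q hle
    have h1 : PrimeSpectrum.comap (natMap (algebraMap A₀ R) n c F₀) q ∈
        PrimeSpectrum.zeroLocus (J₀ : Set (Synt.RelGCIRing A₀ n c F₀)) := hle
    rw [← hJ₀] at h1
    apply h1
    have h2 := tfd_le_of_isRelGCI R n c _ h' q
    rw [tfd_natMap A₀ R n c F₀ q] at h2
    exact h2
  obtain ⟨A₁, h01, hA₁, hJ1⟩ := exists_subalgebra_map_eq_top R n c A₀ hA₀ F₀ J₀ hJtop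
  letI : Algebra A₀ A₁ := (Subalgebra.inclusion h01).toRingHom.toAlgebra
  refine ⟨A₁, fun i => MvPolynomial.map (algebraMap A₀ A₁) (F₀ i),
    (Subalgebra.fg_iff_finiteType A₁).mp hA₁, ?_, ?_⟩
  · intro i
    rw [MvPolynomial.map_map, ← hF₀ i]
    rfl
  · apply isRelGCI_of_tfd_le
    intro q₁
    rw [tfd_natMap A₀ A₁ n c F₀ q₁]
    by_contra hnot
    have h2 : PrimeSpectrum.comap (natMap (algebraMap A₀ A₁) n c F₀) q₁ ∈
        PrimeSpectrum.zeroLocus (J₀ : Set (Synt.RelGCIRing A₀ n c F₀)) := by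
      rw [← hJ₀]; exact hnot
    have h3 : J₀.map (natMap (algebraMap A₀ A₁) n c F₀) ≤ q₁.asIdeal :=
      Ideal.map_le_iff_le_comap.mpr h2
    have h4 : J₀.map (natMap (algebraMap A₀ A₁) n c F₀) = ⊤ := hJ1
    rw [h4] at h3
    exact q₁.isPrime.ne_top (top_le_iff.mp h3)


/-- A relative global complete intersection over a ring R descends to a relative global complete
intersection over a finite type ℤ-subalgebra of R containing the coefficients. -/
theorem result (R : Type u) [CommRing R] (n c : ℕ)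
    (F : Fin c → MvPolynomial (Fin n) R) (h : Synt.IsRelGCI R n c F) :
    ∃ (R₀ : Subalgebra ℤ R) (F₀ : Fin c → MvPolynomial (Fin n) R₀), Algebra.FiniteType ℤ R₀ ∧
      (∀ i, MvPolynomial.map (algebraMap R₀ R) (F₀ i) = F i) ∧ Synt.IsRelGCI R₀ n c F₀ := by
  exact main R n c F h

end Groth.Agent.S9148
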