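import Groth.Statements.S0536
import Groth.Agent.S0523
import Groth.Agent.H10.SmoothRetract
import Mathlib

set_option autoImplicit false
universe u
open Hensel

namespace Groth.Agent.S0536

open TensorProduct

/-- The standard smooth case: specialise the free variables and lift along the étale part. -/
theorem lift_of_isStandardSmooth (R : Type u) [CommRing R] (S : Type u) [CommRing S] [Algebra R S]
    [Algebra.IsStandardSmooth R S] (A : Type u) [CommRing A] [Algebra R A] (I : Ideal A)
    [HenselianRing A I] (σ : S →ₐ[R] A ⧸ I) :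
    ∃ τ : S →ₐ[R] A, (Ideal.Quotient.mkₐ R I).comp τ = σ := by
  obtain ⟨ι, σ', hfσ, hfι, ⟨P⟩⟩ := (inferInstance : Algebra.IsStandardSmooth R S).out
  have : Algebra.IsStandardSmoothOfRelativeDimension P.dimension R S :=
    ⟨ι, σ', hfσ, hfι, P, rfl⟩
  obtain ⟨g, hg⟩ :=
    Algebra.IsStandardSmoothOfRelativeDimension.exists_etale_mvPolynomial P.dimension R S
  -- lifts of the images of the variables
  have hex : ∀ i : Fin P.dimension, ∃ a : A, Ideal.Quotient.mk I a = σ (g (MvPolynomial.X i)) :=
    fun i => Ideal.Quotient.mk_surjective _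
  choose a ha using hex
  let algPS : Algebra (MvPolynomial (Fin P.dimension) R) S := g.toRingHom.toAlgebra
  let algPA : Algebra (MvPolynomial (Fin P.dimension) R) A :=
    (MvPolynomial.aeval a : MvPolynomial (Fin P.dimension) R →ₐ[R] A).toRingHom.toAlgebra
  have : Algebra.Etale (MvPolynomial (Fin P.dimension) R) S := hg
  have hPS : ∀ p : MvPolynomial (Fin P.dimension) R, algebraMap _ S p = g p := fun _ => rfl
  have hPA : ∀ p : MvPolynomial (Fin P.dimension) R, algebraMap _ A p = MvPolynomial.aeval a p :=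
    fun _ => rfl
  have hcomp : σ.comp g = (Ideal.Quotient.mkₐ R I).comp (MvPolynomial.aeval a) := by
    apply MvPolynomial.algHom_ext
    intro i
    show σ (g (MvPolynomial.X i)) = Ideal.Quotient.mk I (MvPolynomial.aeval a (MvPolynomial.X i))
    rw [MvPolynomial.aeval_X, ha]
  let σP : S →ₐ[MvPolynomial (Fin P.dimension) R] A ⧸ I :=
    { σ.toRingHom with
      commutes' := fun p => by
        show σ (g p) = Ideal.Quotient.mk I (MvPolynomial.aeval a p)
        exact congrArg (fun h => h p) hcomp }
  let σE : A ⊗[MvPolynomial (Fin P.dimension) R] S →ₐ[A] A ⧸ I :=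
    Algebra.TensorProduct.lift (Algebra.ofId A (A ⧸ I)) σP (fun _ _ => Commute.all _ _)
  obtain ⟨τE, hτE⟩ := (Groth.Agent.S0523.result A I).mp inferInstance
    (A ⊗[MvPolynomial (Fin P.dimension) R] S) σE
  let τ0 : S →+* A := τE.toRingHom.comp
    (Algebra.TensorProduct.includeRight :
      S →ₐ[MvPolynomial (Fin P.dimension) R] A ⊗[MvPolynomial (Fin P.dimension) R] S).toRingHom
  have hτ0 : ∀ s : S, τ0 s = τE ((1 : A) ⊗ₜ[MvPolynomial (Fin P.dimension) R] s) := fun _ => rfl
  refine ⟨{ τ0 with commutes' := fun r => ?_ }, ?_⟩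
  · show τ0 (algebraMap R S r) = algebraMap R A r
    rw [hτ0]
    have h1 : algebraMap R S r = algebraMap (MvPolynomial (Fin P.dimension) R) S
        (algebraMap R _ r) := by
      rw [hPS, g.commutes]
    have h2 : (1 : A) ⊗ₜ[MvPolynomial (Fin P.dimension) R] (algebraMap R S r) =
        algebraMap A (A ⊗[MvPolynomial (Fin P.dimension) R] S) (algebraMap R A r) := by
      rw [h1, Algebra.TensorProduct.algebraMap_apply, Algebra.algebraMap_eq_smul_one,
        ← TensorProduct.smul_tmul, Algebra.smul_def, mul_one, hPA, AlgHom.commutes]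
      rfl
    rw [h2, τE.commutes]
    rfl
  · apply AlgHom.ext
    intro s
    show Ideal.Quotient.mk I (τ0 s) = σ s
    rw [hτ0]
    have h3 := congrArg (fun h => h ((1 : A) ⊗ₜ[MvPolynomial (Fin P.dimension) R] s)) hτE
    have h4 : σE ((1 : A) ⊗ₜ[MvPolynomial (Fin P.dimension) R] s) = σ s := by
      show Algebra.TensorProduct.lift (Algebra.ofId A (A ⧸ I)) σP (fun _ _ => Commute.all _ _)
        ((1 : A) ⊗ₜ[MvPolynomial (Fin P.dimension) R] s) = σ s
      rw [Algebra.TensorProduct.lift_tmul, map_one, one_mul]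
      rfl
    rw [← h4]
    exact h3

/-- Let `S` be a smooth `R`-algebra and `A` an `R`-algebra Henselian at an ideal `I`. Every `R`-algebra
map `S → A/I` lifts to an `R`-algebra map `S → A`. -/
theorem result (R : Type u) [CommRing R] (S : Type u) [CommRing S]
    [Algebra R S] [Algebra.Smooth R S] (A : Type u) [CommRing A] [Algebra R A] (I : Ideal A)
    [HenselianRing A I] (σ : S →ₐ[R] A ⧸ I) :
    ∃ τ : S →ₐ[R] A, (Ideal.Quotient.mkₐ R I).comp τ = σ := by
  obtain ⟨B, _, _, _, _, -, ⟨r⟩, hB⟩ :=
    Groth.Agent.H10.SmoothRetract.exists_smooth_retract_isStandardSmooth (R := R) (A := S)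
  obtain ⟨τ', hτ'⟩ := lift_of_isStandardSmooth R B A I (σ.comp (r.restrictScalars R))
  refine ⟨τ'.comp (IsScalarTower.toAlgHom R S B), ?_⟩
  apply AlgHom.ext
  intro s
  have h1 := congrArg (fun h => h (algebraMap S B s)) hτ'
  show Ideal.Quotient.mk I (τ' (algebraMap S B s)) = σ s
  have h2 : (σ.comp (r.restrictScalars R)) (algebraMap S B s) = σ s := by
    show σ (r (algebraMap S B s)) = σ s
    rw [r.commutes]
    rfl
  rw [← h2]
  exact h1

end Groth.Agent.S0536
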