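import Groth.Statements.S19779
import Mathlib
import Groth.Agent.H13.HensInst

set_option autoImplicit false
universe u
open Polynomial TensorProduct
open CAlg

namespace Groth.Agent.S19779

/-- For general linear groups, in the case R{t}[1/t] → R((t)), let R be a commutative ring, B = R{t} a
henselization of R[t] along (t), ψ : B → R[[t]] the R[t]-algebra map, L = B[1/t], and L' an
L-algebra identified with R((t)) compatibly with ψ. Then base change along L → L' is a bijection on
isomorphism classes of finitely generated projective modules: two finitely generated projective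
L-modules isomorphic over L' are isomorphic, and every finitely generated projective L'-module is
extended from one over L. (The published statement is the bijection H¹(R{t}[1/t], G) ≅ H¹(R((t)), G)
for every quasi-affine smooth group G; this row is the case of the general linear groups, stated for
finitely generated projective modules of arbitrary rank.) -/
theorem result (R : Type u) [CommRing R]
    (B : Type u) [CommRing B] [Algebra R[X] B] (hB : Hens2.IsPairHenselization R[X] (Ideal.span {(X : R[X])}) B)
    (ψ : B →ₐ[R[X]] PowerSeries R)
    (L' : Type u) [CommRing L'] [Algebra (Localization.Away (algebraMap R[X] B X)) L'] (e : L' ≃+* LaurentSeries R)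
    (he : ∀ b : B, e (algebraMap (Localization.Away (algebraMap R[X] B X)) L' (algebraMap B (Localization.Away (algebraMap R[X] B X)) b)) =
      HahnSeries.ofPowerSeries ℤ R (ψ b)) :
    (∀ (M N : Type u) [AddCommGroup M] [Module (Localization.Away (algebraMap R[X] B X)) M] [Module.Finite (Localization.Away (algebraMap R[X] B X)) M] [Module.Projective (Localization.Away (algebraMap R[X] B X)) M]
        [AddCommGroup N] [Module (Localization.Away (algebraMap R[X] B X)) N] [Module.Finite (Localization.Away (algebraMap R[X] B X)) N] [Module.Projective (Localization.Away (algebraMap R[X] B X)) N],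
        Nonempty (L' ⊗[Localization.Away (algebraMap R[X] B X)] M ≃ₗ[L'] L' ⊗[Localization.Away (algebraMap R[X] B X)] N) → Nonempty (M ≃ₗ[Localization.Away (algebraMap R[X] B X)] N)) ∧
    (∀ (M' : Type u) [AddCommGroup M'] [Module L' M'] [Module.Finite L' M'] [Module.Projective L' M'],
        ∃ (M : Type u) (_ : AddCommGroup M) (_ : Module (Localization.Away (algebraMap R[X] B X)) M),
          Module.Finite (Localization.Away (algebraMap R[X] B X)) M ∧ Module.Projective (Localization.Away (algebraMap R[X] B X)) M ∧
          Nonempty (L' ⊗[Localization.Away (algebraMap R[X] B X)] M ≃ₗ[L'] M')) := by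
  classical
  obtain ⟨eh, hehdef⟩ : ∃ eh : L' →+* LaurentSeries R, eh = (e : L' →+* LaurentSeries R) :=
    ⟨_, rfl⟩
  obtain ⟨es, hesdef⟩ : ∃ es : LaurentSeries R →+* L', es = (e.symm : LaurentSeries R →+* L') :=
    ⟨_, rfl⟩
  have hes : es.comp eh = RingHom.id L' := by
    rw [hehdef, hesdef]; apply RingHom.ext; intro x; simp
  have hH := Groth.Agent.H13.Horrocks.hensZarPair_henselianLaurent R B hB ψ
    (Localization.Away (algebraMap R[X] B X))
    (eh.comp (algebraMap (Localization.Away (algebraMap R[X] B X)) L'))
    (by intro b; rw [hehdef]; exact he b)
  constructor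
  · intro M N _ _ _ _ _ _ _ _ hf
    exact Groth.Agent.H13.Horrocks.ZarPair.iso_of_iso eh es hes hH.zar M N hf
  · intro M' _ _ _ _
    exact Groth.Agent.H13.Horrocks.HensZarPair.exists_module eh es hes hH M'

end Groth.Agent.S19779
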