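import Groth.Statements.S5014
import Groth.Agent.H14.JZ
import Mathlib

set_option autoImplicit false
universe u
open Unram17

namespace Groth.Agent.S5014


open scoped TensorProduct
open KaehlerDifferential

theorem bijective_iff_basis {R M N ι : Type*} [CommRing R] [AddCommGroup M] [Module R M]
    [AddCommGroup N] [Module R N] (b : Module.Basis ι R M) (f : M →ₗ[R] N) :
    Function.Bijective f ↔ LinearIndependent R (fun i => f (b i)) ∧
      Submodule.span R (Set.range fun i => f (b i)) = ⊤ := by
  constructor
  · intro h
    let e : M ≃ₗ[R] N := LinearEquiv.ofBijective f h
    have h1 : ∀ i, f (b i) = (b.map e) i := fun i => by simp [e]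
    simp only [h1]
    exact ⟨(b.map e).linearIndependent, (b.map e).span_eq⟩
  · rintro ⟨hli, hsp⟩
    let c : Module.Basis ι R N := Module.Basis.mk hli (by rw [hsp])
    have hf : f = (b.equiv c (Equiv.refl _)).toLinearMap := by
      apply b.ext
      intro i
      simp [c]
    rw [hf]
    exact (b.equiv c (Equiv.refl _)).bijective


/-- Let C be a smooth algebra over a commutative ring A, equipped with an A-algebra map from the
polynomial ring in r variables (images s_i of the variables), and let q be a prime of C. Then C is
etale at q over the polynomial ring if and only if the differentials of the s_i are linearly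
independent and generate the module of differentials of the local ring C_q over A, i.e. form a basis
of it. -/
theorem result (A C : Type u) [CommRing A] [CommRing C]
    [Algebra A C] [Algebra.Smooth A C] (r : ℕ) [Algebra (MvPolynomial (Fin r) A) C]
    [IsScalarTower A (MvPolynomial (Fin r) A) C] (q : Ideal C) [q.IsPrime] :
    Algebra.IsEtaleAt (MvPolynomial (Fin r) A) q ↔
      LinearIndependent (Localization.AtPrime q)
          (fun i : Fin r => KaehlerDifferential.D A (Localization.AtPrime q)
            (algebraMap C (Localization.AtPrime q) (algebraMap (MvPolynomial (Fin r) A) C (MvPolynomial.X i)))) ∧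
        Submodule.span (Localization.AtPrime q)
          (Set.range fun i : Fin r => KaehlerDifferential.D A (Localization.AtPrime q)
            (algebraMap C (Localization.AtPrime q) (algebraMap (MvPolynomial (Fin r) A) C (MvPolynomial.X i)))) = ⊤ := by
  haveI : Algebra.FormallySmooth A C := inferInstance
  haveI : Algebra.FormallyEtale C (Localization.AtPrime q) :=
    Algebra.FormallyEtale.of_isLocalization q.primeCompl
  haveI : Algebra.FormallySmooth A (Localization.AtPrime q) :=
    Algebra.FormallySmooth.comp A C (Localization.AtPrime q)
  have key : Algebra.IsEtaleAt (MvPolynomial (Fin r) A) q ↔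
      Function.Bijective (mapBaseChange A (MvPolynomial (Fin r) A) (Localization.AtPrime q)) :=
    ⟨fun h => Groth.Agent.H14.bijective_mapBaseChange_of_formallyEtale,
      fun h => Groth.Agent.H14.formallyEtale_of_bijective_mapBaseChange h⟩
  rw [key, bijective_iff_basis
    ((mvPolynomialBasis A (Fin r)).baseChange (Localization.AtPrime q))]
  have h1 : ∀ i : Fin r, mapBaseChange A (MvPolynomial (Fin r) A) (Localization.AtPrime q)
      (((mvPolynomialBasis A (Fin r)).baseChange (Localization.AtPrime q)) i) =
      KaehlerDifferential.D A (Localization.AtPrime q)
        (algebraMap C (Localization.AtPrime q)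
          (algebraMap (MvPolynomial (Fin r) A) C (MvPolynomial.X i))) := by
    intro i
    rw [Module.Basis.baseChange_apply, mvPolynomialBasis_apply, mapBaseChange_tmul, one_smul,
      map_D, ← IsScalarTower.algebraMap_apply]
  simp only [h1]

end Groth.Agent.S5014
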