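import Groth.Statements.S0549
import Groth.Agent.Lead.CompleteNoetherian
import Mathlib.RingTheory.AdicCompletion.AsTensorProduct
import Mathlib.RingTheory.Ideal.KrullsHeightTheorem
import Mathlib.RingTheory.Ideal.GoingDown
import Mathlib.RingTheory.AdicCompletion.LocalRing
import Mathlib.RingTheory.DiscreteValuationRing.TFAE
import Mathlib.RingTheory.Filtration
import Mathlib.RingTheory.AdicCompletion.Noetherian
import Mathlib.Tactic

set_option autoImplicit false
universe u
open CAlg

namespace Groth.Agent.S0549

/-- A Noetherian local ring is a discrete valuation ring exactly when its completion at the maximal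
ideal is a discrete valuation ring. -/
theorem result (A : Type u) [CommRing A] [IsLocalRing A]
    [IsNoetherianRing A] :
    (∃ _ : IsDomain A, IsDiscreteValuationRing A) ↔
      ∃ _ : IsDomain (AdicCompletion (IsLocalRing.maximalIdeal A) A),
        IsDiscreteValuationRing (AdicCompletion (IsLocalRing.maximalIdeal A) A) := by
  have hN : IsNoetherianRing (AdicCompletion (IsLocalRing.maximalIdeal A) A) :=
    Groth.Agent.Lead.isNoetherianRing_adicCompletion (IsLocalRing.maximalIdeal A)
      (IsLocalRing.maximalIdeal A).fg_of_isNoetherianRing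
  have hinj : Function.Injective
      (algebraMap A (AdicCompletion (IsLocalRing.maximalIdeal A) A)) :=
    AdicCompletion.of_injective (IsLocalRing.maximalIdeal A) A
  have hmax := AdicCompletion.maximalIdeal_eq_map (R := A)
  have hrank : Module.finrank (IsLocalRing.ResidueField A) (IsLocalRing.CotangentSpace A) =
      Module.finrank (IsLocalRing.ResidueField (AdicCompletion (IsLocalRing.maximalIdeal A) A))
        (IsLocalRing.CotangentSpace (AdicCompletion (IsLocalRing.maximalIdeal A) A)) := by
    rw [← IsLocalRing.spanFinrank_maximalIdeal_eq_finrank_cotangentSpace,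
      ← IsLocalRing.spanFinrank_maximalIdeal_eq_finrank_cotangentSpace,
      AdicCompletion.spanFinrank_maximalIdeal_eq]
  have hfield : IsField A ↔ IsField (AdicCompletion (IsLocalRing.maximalIdeal A) A) := by
    rw [IsLocalRing.isField_iff_maximalIdeal_eq, IsLocalRing.isField_iff_maximalIdeal_eq]
    constructor
    · intro h
      rw [hmax, h, Ideal.map_bot]
    · intro h
      rw [← IsLocalRing.maximalIdeal_comap
        (algebraMap A (AdicCompletion (IsLocalRing.maximalIdeal A) A)), h]
      exact (RingHom.injective_iff_ker_eq_bot _).mp hinj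
  constructor
  · rintro ⟨hD, hDVR⟩
    obtain ⟨ϖ, hϖ⟩ := IsDiscreteValuationRing.exists_irreducible A
    obtain ⟨p, hp⟩ : ∃ p : AdicCompletion (IsLocalRing.maximalIdeal A) A,
        p = algebraMap A (AdicCompletion (IsLocalRing.maximalIdeal A) A) ϖ := ⟨_, rfl⟩
    have hmp : IsLocalRing.maximalIdeal (AdicCompletion (IsLocalRing.maximalIdeal A) A) =
        Ideal.span {p} := by
      have h0 : Ideal.map (algebraMap A (AdicCompletion (IsLocalRing.maximalIdeal A) A))
          (IsLocalRing.maximalIdeal A) =
          Ideal.map (algebraMap A (AdicCompletion (IsLocalRing.maximalIdeal A) A))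
            (Ideal.span {ϖ}) := congrArg _ hϖ.maximalIdeal_eq
      rw [hmax, h0, Ideal.map_span, Set.image_singleton, hp]
    have hpmem : p ∈ IsLocalRing.maximalIdeal (AdicCompletion (IsLocalRing.maximalIdeal A) A) := by
      rw [hmp]; exact Ideal.mem_span_singleton_self p
    have hpn : ∀ n : ℕ, p ^ n ≠ 0 := by
      intro n h
      have h1 : algebraMap A (AdicCompletion (IsLocalRing.maximalIdeal A) A) (ϖ ^ n) =
          algebraMap A (AdicCompletion (IsLocalRing.maximalIdeal A) A) 0 := by
        rw [map_pow, map_zero, ← hp]; exact h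
      exact pow_ne_zero n hϖ.ne_zero (hinj h1)
    have hfact : ∀ x : AdicCompletion (IsLocalRing.maximalIdeal A) A, x ≠ 0 →
        ∃ (n : ℕ) (u : (AdicCompletion (IsLocalRing.maximalIdeal A) A)ˣ), x = u * p ^ n := by
      intro x hx
      have hex : ∃ n, x ∉
          IsLocalRing.maximalIdeal (AdicCompletion (IsLocalRing.maximalIdeal A) A) ^ n := by
        by_contra hcon
        push Not at hcon
        apply hx
        have h1 : x ∈ ⨅ i,
            IsLocalRing.maximalIdeal (AdicCompletion (IsLocalRing.maximalIdeal A) A) ^ i := by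
          rw [Ideal.mem_iInf]
          exact hcon
        rw [Ideal.iInf_pow_eq_bot_of_isLocalRing _ Ideal.IsPrime.ne_top'] at h1
        exact h1
      classical
      have hn : x ∉ IsLocalRing.maximalIdeal (AdicCompletion (IsLocalRing.maximalIdeal A) A) ^
          (Nat.find hex) := Nat.find_spec hex
      have hn0 : Nat.find hex ≠ 0 := by
        intro h0
        rw [h0, pow_zero, Ideal.one_eq_top] at hn
        exact hn Submodule.mem_top
      obtain ⟨k, hk⟩ := Nat.exists_eq_succ_of_ne_zero hn0
      have hk' : x ∈ IsLocalRing.maximalIdeal (AdicCompletion (IsLocalRing.maximalIdeal A) A) ^ k := by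
        by_contra h
        have h2 := Nat.find_min' hex h
        omega
      have hk'' := hk'
      rw [hmp, Ideal.span_singleton_pow, Ideal.mem_span_singleton'] at hk''
      obtain ⟨y, hy⟩ := hk''
      have hyu : IsUnit y := by
        rw [← IsLocalRing.notMem_maximalIdeal]
        intro hym
        apply hn
        have h5 : y * p ^ k ∈
            IsLocalRing.maximalIdeal (AdicCompletion (IsLocalRing.maximalIdeal A) A) *
              IsLocalRing.maximalIdeal (AdicCompletion (IsLocalRing.maximalIdeal A) A) ^ k :=
          Ideal.mul_mem_mul hym (Ideal.pow_mem_pow hpmem k)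
        rw [hk, pow_succ', ← hy]
        exact h5
      exact ⟨k, hyu.unit, by rw [IsUnit.unit_spec]; exact hy.symm⟩
    have hnzd : NoZeroDivisors (AdicCompletion (IsLocalRing.maximalIdeal A) A) := ⟨by
      intro x y hxy
      by_contra hcon
      push Not at hcon
      obtain ⟨n, u, hu⟩ := hfact x hcon.1
      obtain ⟨m, v, hv⟩ := hfact y hcon.2
      apply hpn (n + m)
      have h3 : ((u * v : (AdicCompletion (IsLocalRing.maximalIdeal A) A)ˣ) :
          AdicCompletion (IsLocalRing.maximalIdeal A) A) * p ^ (n + m) = 0 := by
        rw [Units.val_mul, pow_add]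
        rw [hu, hv] at hxy
        linear_combination hxy
      exact (Units.mul_right_eq_zero _).mp h3⟩
    have hDc : IsDomain (AdicCompletion (IsLocalRing.maximalIdeal A) A) :=
      NoZeroDivisors.to_isDomain _
    have hnfA : ¬ IsField A := IsDiscreteValuationRing.not_isField A
    have hnfc : ¬ IsField (AdicCompletion (IsLocalRing.maximalIdeal A) A) :=
      fun h => hnfA (hfield.mpr h)
    refine ⟨hDc, ((IsDiscreteValuationRing.TFAE _ hnfc).out 0 5).mpr ?_⟩
    rw [← hrank]
    exact ((IsDiscreteValuationRing.TFAE A hnfA).out 0 5).mp hDVR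
  · rintro ⟨hD, hDVR⟩
    have hDA : IsDomain A :=
      hinj.isDomain (algebraMap A (AdicCompletion (IsLocalRing.maximalIdeal A) A))
    have hnfc : ¬ IsField (AdicCompletion (IsLocalRing.maximalIdeal A) A) :=
      IsDiscreteValuationRing.not_isField _
    have hnf : ¬ IsField A := fun h => hnfc (hfield.mp h)
    refine ⟨hDA, ((IsDiscreteValuationRing.TFAE A hnf).out 0 5).mpr ?_⟩
    rw [hrank]
    exact ((IsDiscreteValuationRing.TFAE _ hnfc).out 0 5).mp hDVR

end Groth.Agent.S0549
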