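import Groth.Statements.S9169
import Groth.Agent.H66.RelCI2

set_option autoImplicit false
universe u
open Synt

namespace Groth.Agent.S9169

open TensorProduct in
/-- Let R → S be a ring map and q a prime of S lying over p; write Q for the prime of the fibre ring
κ(p) ⊗ S that pulls back to q. Equivalent: (1) some basic open neighbourhood S_g of q is syntomic
over R; (2) some S_g is isomorphic over R to a relative global complete intersection; (3) some S_g
is of finite presentation over R, the local ring S_q is flat over R (equivalently over R_p), and the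
fibre local ring (κ(p) ⊗ S)_Q is a complete intersection over κ(p). Stated as (1) ↔ (2) and (1) ↔
(3). -/
theorem result (R S : Type u) [CommRing R] [CommRing S] [Algebra R S]
    (p : Ideal R) [p.IsPrime] (q : Ideal S) [q.IsPrime] [q.LiesOver p]
    (Q : Ideal (p.Fiber S)) [Q.IsPrime]
    (hQ : Q.comap (Algebra.TensorProduct.includeRight.toRingHom) = q) :
    ((∃ g : S, g ∉ q ∧ Synt.IsSyntomic R (Localization.Away g)) ↔
        ∃ g : S, g ∉ q ∧ ∃ (n c : ℕ) (F : Fin c → MvPolynomial (Fin n) R), Synt.IsRelGCI R n c F ∧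
          Nonempty (Localization.Away g ≃ₐ[R] Synt.RelGCIRing R n c F)) ∧
      ((∃ g : S, g ∉ q ∧ Synt.IsSyntomic R (Localization.Away g)) ↔
        ∃ g : S, g ∉ q ∧ Algebra.FinitePresentation R (Localization.Away g) ∧
          Module.Flat R (Localization.AtPrime q) ∧
          Synt.IsCIOver p.ResidueField (Localization.AtPrime Q)) := by
  have h21 : (∃ g : S, g ∉ q ∧ ∃ (n c : ℕ) (F : Fin c → MvPolynomial (Fin n) R),
      Synt.IsRelGCI R n c F ∧
        Nonempty (Localization.Away g ≃ₐ[R] Synt.RelGCIRing R n c F)) →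
      ∃ g : S, g ∉ q ∧ Synt.IsSyntomic R (Localization.Away g) := by
    rintro ⟨g, hg, n, c, F, hrel, ⟨e⟩⟩
    exact ⟨g, hg, Groth.Agent.H66.RelCI.isSyntomic_of_algEquiv e.symm
      (Groth.Agent.H66.RelGCI.isSyntomic_of_isRelGCI R n c F hrel)⟩
  have h13 : (∃ g : S, g ∉ q ∧ Synt.IsSyntomic R (Localization.Away g)) →
      ∃ g : S, g ∉ q ∧ Algebra.FinitePresentation R (Localization.Away g) ∧
        Module.Flat R (Localization.AtPrime q) ∧
        Synt.IsCIOver p.ResidueField (Localization.AtPrime Q) := by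
    rintro ⟨g, hg, hsyn⟩
    refine ⟨g, hg, hsyn.2.1, ?_, ?_⟩
    · obtain ⟨Q1, hQ1, hQ1c, ⟨e1⟩⟩ :=
        Groth.Agent.H66.GlobalCI.exists_atPrime_away_equiv (k := R) q g hg
      haveI := hQ1
      haveI := hsyn.1
      haveI : Module.Flat R (Localization.AtPrime Q1) :=
        Module.Flat.trans R (Localization.Away g) (Localization.AtPrime Q1)
      exact Module.Flat.of_linearEquiv e1.toLinearEquiv
    · have hlci := hsyn.2.2 ⟨p, inferInstance⟩
      let eT := IsLocalization.Away.tensorProductEquivTMulRight R p.ResidueField g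
        (Localization.Away g)
      have hlci' := Groth.Agent.H66.RelCI.isLCIOver_of_algEquiv eT hlci
      have h1g : ((1 : p.ResidueField) ⊗ₜ[R] g : p.Fiber S) ∉ Q := by
        intro hmem
        apply hg
        rw [← hQ]
        exact hmem
      obtain ⟨g2, hg2, hgci⟩ := Groth.Agent.S9146.exists_gci_of_away
        ((1 : p.ResidueField) ⊗ₜ[R] g : p.Fiber S)
        (Localization.Away ((1 : p.ResidueField) ⊗ₜ[R] g : p.Fiber S)) hlci'.2 Q h1g
      exact Groth.Agent.H66.GlobalCI.isCIOver_atPrime_of_isGlobalCI_away Q g2 hg2 hgci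
  have h32 : (∃ g : S, g ∉ q ∧ Algebra.FinitePresentation R (Localization.Away g) ∧
        Module.Flat R (Localization.AtPrime q) ∧
        Synt.IsCIOver p.ResidueField (Localization.AtPrime Q)) →
      ∃ g : S, g ∉ q ∧ ∃ (n c : ℕ) (F : Fin c → MvPolynomial (Fin n) R),
        Synt.IsRelGCI R n c F ∧
          Nonempty (Localization.Away g ≃ₐ[R] Synt.RelGCIRing R n c F) := by
    rintro ⟨g, hg, hfp, hflat, hci⟩
    obtain ⟨Q1, hQ1, hQ1c, ⟨e1⟩⟩ :=
      Groth.Agent.H66.GlobalCI.exists_atPrime_away_equiv (k := R) q g hg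
    haveI := hQ1
    obtain ⟨n, φ, hφ, hfg⟩ := Algebra.FinitePresentation.out (R := R) (A := Localization.Away g)
    have hflat1 : Module.Flat R (Localization.AtPrime Q1) :=
      Module.Flat.of_linearEquiv e1.symm.toLinearEquiv
    have hci1 : ∃ (R0 : Type u) (_ : CommRing R0) (_ : IsRegularLocalRing R0) (rs0 : List R0),
        RingTheory.Sequence.IsRegular R0 rs0 ∧
        Nonempty (EGA4.FibLocRing R (Localization.Away g) Q1 ≃+* R0 ⧸ Ideal.ofList rs0) := by
      obtain ⟨R0, i1, i2, i3, hess, rs0, hm0, hr0, ⟨e0⟩⟩ := hci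
      obtain ⟨eF⟩ := Groth.Agent.H66.FibreReg.nonempty_loc_fiber_equiv p Q q hQ
      have hpp : q.comap (algebraMap R S) =
          Q1.comap (algebraMap R (Localization.Away g)) := by
        rw [IsScalarTower.algebraMap_eq R S (Localization.Away g), ← Ideal.comap_comap, hQ1c]
      obtain ⟨eG⟩ := Groth.Agent.H66.RelCI.nonempty_fibLoc_equiv_of_algEquiv q Q1 e1 hpp
      exact ⟨R0, i1, i2, rs0, hr0, ⟨(eG.symm.trans eF.symm).trans e0.toRingEquiv⟩⟩
    obtain ⟨g2, hg2, n', c', F', hrel, ⟨e2⟩⟩ :=
      Groth.Agent.H66.RelCI.exists_relGCI_away φ hφ hfg Q1 hflat1 hci1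
    have hQ1map : q.map (algebraMap S (Localization.Away g)) = Q1 := by
      rw [← hQ1c]
      exact IsLocalization.map_under (Submonoid.powers g) (Localization.Away g) Q1
    obtain ⟨g3, hg3, ⟨e3⟩⟩ :=
      Groth.Agent.H66.RelCI.exists_away_away_equiv g q hg g2 (hQ1map ▸ hg2)
    have t1 : IsScalarTower R S (Localization.Away g2) := by
      refine IsScalarTower.of_algebraMap_eq (R := R) (S := S) (A := Localization.Away g2) (fun x => ?_)
      rw [IsScalarTower.algebraMap_apply R (Localization.Away g) (Localization.Away g2),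
        IsScalarTower.algebraMap_apply S (Localization.Away g) (Localization.Away g2),
        ← IsScalarTower.algebraMap_apply R S (Localization.Away g)]
    exact ⟨g3, hg3, n', c', F', hrel, ⟨(e3.restrictScalars R).trans e2⟩⟩
  exact ⟨⟨fun a => h32 (h13 a), h21⟩, ⟨h13, fun b => h21 (h32 b)⟩⟩

end Groth.Agent.S9169
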