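import Groth.Statements.S9151
import Groth.Agent.H66.LocFree
import Groth.Agent.H66.SyntCot
import Groth.Agent.S9169

set_option autoImplicit false
universe u
open Synt

namespace Groth.Agent.S9151

set_option linter.style.haveILetI false
open RingTheory.Sequence

/-- the conormal module of a finitely generated ideal is a finite module -/
theorem finite_cotangent {P : Type u} [CommRing P] (I : Ideal P) (hI : I.FG) :
    Module.Finite (P ⧸ I) I.Cotangent := by
  haveI : Module.Finite P I := Module.Finite.iff_fg.mpr hI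
  haveI : Module.Finite P I.Cotangent :=
    Module.Finite.of_surjective I.toCotangent I.toCotangent_surjective
  exact Module.Finite.of_restrictScalars_finite P (P ⧸ I) I.Cotangent

set_option maxHeartbeats 1000000 in
/-- local freeness of the localized conormal module, given a regular presentation on `D(H)` -/
theorem free_away {P : Type u} [CommRing P] (I : Ideal P) (g : P ⧸ I) {c : ℕ} (F : Fin c → P)
    (H : P) (hFI : ∀ i, F i ∈ I) (hmul : ∀ x ∈ I, H * x ∈ Ideal.span (Set.range F))
    (hreg : ∀ (𝔭 : Ideal P) [𝔭.IsPrime], Ideal.span (Set.range F) ≤ 𝔭 → H ∉ 𝔭 →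
      IsWeaklyRegular (Localization.AtPrime 𝔭)
        ((List.ofFn F).map (algebraMap P (Localization.AtPrime 𝔭)))) :
    Module.Free (Localization.Away (algebraMap (P ⧸ I) (Localization.Away g)
        (Ideal.Quotient.mk I H)))
      (LocalizedModule.Away (algebraMap (P ⧸ I) (Localization.Away g) (Ideal.Quotient.mk I H))
        (LocalizedModule (Submonoid.powers g) I.Cotangent)) ∧
    Module.Finite (Localization.Away (algebraMap (P ⧸ I) (Localization.Away g)
        (Ideal.Quotient.mk I H)))
      (LocalizedModule.Away (algebraMap (P ⧸ I) (Localization.Away g) (Ideal.Quotient.mk I H))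
        (LocalizedModule (Submonoid.powers g) I.Cotangent)) := by
  classical
  obtain ⟨G, hG⟩ := Ideal.Quotient.mk_surjective g
  obtain ⟨r, hr⟩ : ∃ r : Localization.Away g,
    r = algebraMap (P ⧸ I) (Localization.Away g) (Ideal.Quotient.mk I H) := ⟨_, rfl⟩
  rw [← hr]
  have hFle : Ideal.span (Set.range F) ≤ I := Ideal.span_le.mpr (by rintro _ ⟨i, rfl⟩; exact hFI i)
  let Fb : Fin c → I.Cotangent := fun i => I.toCotangent ⟨F i, hFI i⟩
  let v : Fin c → LocalizedModule (Submonoid.powers g) I.Cotangent :=
    fun i => LocalizedModule.mkLinearMap (Submonoid.powers g) I.Cotangent (Fb i)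
  -- multiplication by `H` lands in the span of the `Fb`
  have hHspan : ∀ yb : I.Cotangent, (Ideal.Quotient.mk I H) • yb ∈
      Submodule.span (P ⧸ I) (Set.range Fb) := by
    intro yb
    obtain ⟨⟨y', hy'⟩, rfl⟩ := I.toCotangent_surjective yb
    obtain ⟨b, hb⟩ := Ideal.mem_span_range_iff_exists_fun.mp (hmul y' hy')
    have h1 : (Ideal.Quotient.mk I H) • I.toCotangent ⟨y', hy'⟩ =
        I.toCotangent (H • (⟨y', hy'⟩ : I)) := by
      rw [map_smul]
      exact (algebraMap_smul (P ⧸ I) H _)
    have h2 : H • (⟨y', hy'⟩ : I) = ∑ i, b i • (⟨F i, hFI i⟩ : I) := by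
      apply Subtype.ext
      rw [AddSubmonoidClass.coe_finsetSum]
      show H * y' = ∑ i, b i * F i
      exact hb.symm
    rw [h1, h2, map_sum]
    refine Submodule.sum_mem _ fun i _ => ?_
    rw [map_smul, ← algebraMap_smul (P ⧸ I)]
    exact Submodule.smul_mem _ _ (Submodule.subset_span ⟨i, rfl⟩)
  refine Groth.Agent.H66.LocFree.free_localizedModule_away r v ?_ ?_
  · -- span
    intro y
    refine ⟨1, ?_⟩
    rw [pow_one]
    induction y using LocalizedModule.induction_on with
    | h yb s =>
      have h1 : r • LocalizedModule.mk yb s = Localization.mk (1 : P ⧸ I) s •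
          LocalizedModule.mkLinearMap (Submonoid.powers g) I.Cotangent
            ((Ideal.Quotient.mk I H) • yb) := by
        rw [hr, algebraMap_smul, LocalizedModule.smul'_mk, LocalizedModule.mkLinearMap_apply,
          LocalizedModule.mk_smul_mk, one_smul, mul_one]
      rw [h1]
      refine Submodule.smul_mem _ _ ?_
      have h2 : LocalizedModule.mkLinearMap (Submonoid.powers g) I.Cotangent
          ((Ideal.Quotient.mk I H) • yb) ∈
          Submodule.map (LocalizedModule.mkLinearMap (Submonoid.powers g) I.Cotangent)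
            (Submodule.span (P ⧸ I) (Set.range Fb)) := ⟨_, hHspan yb, rfl⟩
      rw [Submodule.map_span, ← Set.range_comp] at h2
      exact Submodule.span_le_restrictScalars (P ⧸ I) (Localization.Away g) _ h2
  · -- independence
    intro a ha
    obtain ⟨b, hb⟩ := IsLocalization.exist_integer_multiples (Submonoid.powers g)
      (Finset.univ : Finset (Fin c)) a
    have hb' : ∀ i, ∃ α : P, algebraMap (P ⧸ I) (Localization.Away g) (Ideal.Quotient.mk I α) =
        (b : P ⧸ I) • a i := by
      intro i
      obtain ⟨αb, hαb⟩ := hb i (Finset.mem_univ i)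
      obtain ⟨α, rfl⟩ := Ideal.Quotient.mk_surjective αb
      exact ⟨α, hαb⟩
    choose α hα using hb'
    have h1 : LocalizedModule.mkLinearMap (Submonoid.powers g) I.Cotangent
        (∑ i, (Ideal.Quotient.mk I (α i)) • Fb i) = 0 := by
      rw [map_sum]
      have h2 : ∀ i, LocalizedModule.mkLinearMap (Submonoid.powers g) I.Cotangent
          ((Ideal.Quotient.mk I (α i)) • Fb i) = (b : P ⧸ I) • (a i • v i) := by
        intro i
        rw [map_smul, ← smul_assoc, ← hα i, algebraMap_smul]
      rw [Finset.sum_congr rfl (fun i _ => h2 i), ← Finset.smul_sum, ha, smul_zero]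
    obtain ⟨s, hs⟩ := (IsLocalizedModule.eq_zero_iff (Submonoid.powers g)
      (LocalizedModule.mkLinearMap (Submonoid.powers g) I.Cotangent)).mp h1
    obtain ⟨j, hj⟩ := s.2
    -- the relation in `P`
    have hrel : ∑ i, (G ^ j * α i) * F i ∈ I ^ 2 := by
      have hmem : ∑ i, (G ^ j * α i) * F i ∈ I :=
        I.sum_mem fun i _ => I.mul_mem_left _ (hFI i)
      refine (Ideal.toCotangent_eq_zero I ⟨∑ i, (G ^ j * α i) * F i, hmem⟩).mp ?_
      have h3 : (⟨∑ i, (G ^ j * α i) * F i, hmem⟩ : I) =
          ∑ i, (G ^ j * α i) • (⟨F i, hFI i⟩ : I) := by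
        apply Subtype.ext
        rw [AddSubmonoidClass.coe_finsetSum]
        rfl
      rw [h3, map_sum]
      have h4 : ∀ i, I.toCotangent ((G ^ j * α i) • (⟨F i, hFI i⟩ : I)) =
          (s : P ⧸ I) • ((Ideal.Quotient.mk I (α i)) • Fb i) := by
        intro i
        rw [map_smul, ← algebraMap_smul (P ⧸ I) (G ^ j * α i), ← hj, ← hG, smul_smul]
        rfl
      rw [Finset.sum_congr rfl (fun i _ => h4 i), ← Finset.smul_sum]
      exact hs
    have hmulE : ∀ x ∈ I, (G * H) * x ∈ Ideal.span (Set.range F) := by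
      intro x hx
      rw [mul_assoc]
      exact Ideal.mul_mem_left _ _ (hmul x hx)
    have hregE : ∀ (𝔭 : Ideal P) [𝔭.IsPrime], I ≤ 𝔭 → G * H ∉ 𝔭 →
        IsWeaklyRegular (Localization.AtPrime 𝔭)
          ((List.ofFn F).map (algebraMap P (Localization.AtPrime 𝔭))) := by
      intro 𝔭 _ hI𝔭 hE
      exact hreg 𝔭 (hFle.trans hI𝔭) (fun hH => hE (Ideal.mul_mem_left _ _ hH))
    have hk' : ∀ i, ∃ k : ℕ, (G * H) ^ k * (G ^ j * α i) ∈ I := fun i =>
      Groth.Agent.H66.SyntCot.exists_pow_mul_mem_of_sum_mem_sq I F hFI (G * H) hmulE hregE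
        (fun i => G ^ j * α i) hrel i
    choose k hk using hk'
    refine ⟨∑ i, k i, fun i => ?_⟩
    have h5 : (G * H) ^ (∑ i, k i) * (G ^ j * α i) ∈ I := by
      have hle : k i ≤ ∑ i, k i := Finset.single_le_sum (fun _ _ => Nat.zero_le _)
        (Finset.mem_univ i)
      obtain ⟨d, hd⟩ := Nat.exists_eq_add_of_le hle
      rw [hd, pow_add, mul_comm ((G * H) ^ k i), mul_assoc]
      exact Ideal.mul_mem_left _ _ (hk i)
    have h6 : algebraMap (P ⧸ I) (Localization.Away g)
        (Ideal.Quotient.mk I ((G * H) ^ (∑ i, k i) * (G ^ j * α i))) = 0 := by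
      rw [Ideal.Quotient.eq_zero_iff_mem.mpr h5, map_zero]
    simp only [map_mul, map_pow] at h6
    rw [hα i, hG, Algebra.smul_def, ← hr] at h6
    have hug : IsUnit (algebraMap (P ⧸ I) (Localization.Away g) g) :=
      IsLocalization.map_units (Localization.Away g) (⟨g, Submonoid.mem_powers g⟩ :
        Submonoid.powers g)
    have hub : IsUnit (algebraMap (P ⧸ I) (Localization.Away g) (b : P ⧸ I)) :=
      IsLocalization.map_units (Localization.Away g) b
    have h7 : (algebraMap (P ⧸ I) (Localization.Away g) g ^ (∑ i, k i) *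
        algebraMap (P ⧸ I) (Localization.Away g) g ^ j *
        algebraMap (P ⧸ I) (Localization.Away g) (b : P ⧸ I)) * (r ^ (∑ i, k i) * a i) = 0 := by
      rw [← h6]; ring
    exact (IsUnit.mul_right_eq_zero (((hug.pow _).mul (hug.pow _)).mul hub)).mp h7


/-- Let S = R[x_1, …, x_n]/I with I finitely generated and let g ∈ S be such that S_g is syntomic over
R. Then the localization (I/I²)_g of the conormal module is a finite projective S_g-module. -/
theorem result (R : Type u) [CommRing R] (n : ℕ)
    (I : Ideal (MvPolynomial (Fin n) R)) (hI : I.FG) (g : MvPolynomial (Fin n) R ⧸ I)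
    (hg : Synt.IsSyntomic R (Localization.Away g)) :
    Module.Finite (Localization.Away g) (LocalizedModule (Submonoid.powers g) I.Cotangent) ∧
      Module.Projective (Localization.Away g) (LocalizedModule (Submonoid.powers g) I.Cotangent) := by
  classical
  refine ⟨?_, ?_⟩
  · haveI := finite_cotangent I hI
    infer_instance
  · apply Groth.Agent.H66.LocFree.projective_of_locally_free
    intro qt
    obtain ⟨q, hq⟩ : ∃ q : Ideal (MvPolynomial (Fin n) R ⧸ I),
      q = qt.asIdeal.comap (algebraMap _ (Localization.Away g)) := ⟨_, rfl⟩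
    haveI : q.IsPrime := by rw [hq]; infer_instance
    have hgq : g ∉ q := by
      intro hmem
      rw [hq, Ideal.mem_comap] at hmem
      exact qt.isPrime.ne_top (Ideal.eq_top_of_isUnit_mem _ hmem
        (IsLocalization.map_units (Localization.Away g) (⟨g, Submonoid.mem_powers g⟩ :
          Submonoid.powers g)))
    obtain ⟨p, hp⟩ : ∃ p : Ideal R, p = q.under R := ⟨_, rfl⟩
    haveI : p.IsPrime := by rw [hp]; infer_instance
    haveI : q.LiesOver p := ⟨hp⟩
    obtain ⟨Q, hQ⟩ := Groth.Agent.H9.FibDim.exists_fiber_prime p q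
    obtain ⟨g', hg', hfp, hflat, hci⟩ :=
      (Groth.Agent.S9169.result R _ p q Q.asIdeal hQ).2.mp ⟨g, hgq, hg⟩
    obtain ⟨R0, i1, i2, i3, hess, rs0, hm0, hr0, ⟨e0⟩⟩ := hci
    obtain ⟨eF⟩ := Groth.Agent.H66.FibreReg.nonempty_loc_fiber_equiv p Q.asIdeal q hQ
    have hker : RingHom.ker (Ideal.Quotient.mkₐ R I).toRingHom = I := Ideal.Quotient.mkₐ_ker R I
    obtain ⟨c, F, H, hFK, hHq, hmul, hreg⟩ :=
      Groth.Agent.H66.SyntCot.exists_regular_presentation_away (Ideal.Quotient.mkₐ R I)
        (Ideal.Quotient.mkₐ_surjective R I) (by rw [hker]; exact hI) q hflat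
        ⟨R0, i1, i2, rs0, hr0, ⟨eF.symm.trans e0.toRingEquiv⟩⟩
    rw [hker] at hFK hmul
    refine ⟨algebraMap _ (Localization.Away g) (Ideal.Quotient.mk I H), ?_,
      free_away I g F H hFK hmul hreg⟩
    intro hmem
    apply hHq
    rw [hq, Ideal.mem_comap]
    exact hmem

end Groth.Agent.S9151
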