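import Groth.Statements.S9172
import Groth.Agent.H66.RelGCI2

set_option autoImplicit false
universe u
open Synt

namespace Groth.Agent.S9172

set_option linter.style.haveILetI false in
set_option backward.isDefEq.respectTransparency false in
open MvPolynomial TensorProduct Groth.Agent.H66.RelGCI Groth.Agent.H9.FibDim in
theorem main (R : Type u) [CommRing R] (n c : ℕ) (F : Fin c → MvPolynomial (Fin n) R)
    (I : Ideal R)
    (hI : Synt.IsRelGCI (R ⧸ I) n c (fun i => MvPolynomial.map (Ideal.Quotient.mk I) (F i))) :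
    ∃ h : MvPolynomial (Fin n) R,
      Ideal.Quotient.mk (I.map (algebraMap R (Synt.RelGCIRing R n c F)))
        (Ideal.Quotient.mk (Ideal.span (Set.range F)) h) = 1 ∧
      Synt.IsRelGCI R (n + 1) (c + 1)
        (Fin.snoc (fun i => rename Fin.castSucc (F i)) (rename Fin.castSucc h * X (Fin.last n) - 1)) ∧
      Nonempty (Localization.Away (Ideal.Quotient.mk (Ideal.span (Set.range F)) h) ≃ₐ[R]
        Synt.RelGCIRing R (n + 1) (c + 1)
          (Fin.snoc (fun i => rename Fin.castSucc (F i)) (rename Fin.castSucc h * X (Fin.last n) - 1))) := by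
  classical
  let W : Set (PrimeSpectrum (Synt.RelGCIRing R n c F)) :=
    {q | c ≤ n ∧ tfd (PrimeSpectrum.comap (algebraMap R (Synt.RelGCIRing R n c F))) q ≤
      ((n - c : ℕ) : WithBot ℕ∞)}
  have hW : IsOpen W := by
    by_cases hcn : c ≤ n
    · have : W = {q | tfd (PrimeSpectrum.comap (algebraMap R (Synt.RelGCIRing R n c F))) q ≤
          ((n - c : ℕ) : WithBot ℕ∞)} := by
        ext q; simp [W, hcn]
      rw [this]
      exact isOpen_setOf_tfd_le R (Synt.RelGCIRing R n c F) (n - c)
    · have : W = ∅ := by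
        ext q; simp [W, hcn]
      rw [this]
      exact isOpen_empty
  obtain ⟨J, hJ⟩ := (PrimeSpectrum.isClosed_iff_zeroLocus_ideal _).mp hW.isClosed_compl
  have hsub : ∀ q : PrimeSpectrum (Synt.RelGCIRing R n c F),
      I.map (algebraMap R (Synt.RelGCIRing R n c F)) ≤ q.asIdeal → q ∈ W := by
    intro q hq
    obtain ⟨p, hp⟩ : ∃ p : Ideal R, p = q.asIdeal.under R := ⟨_, rfl⟩
    haveI : p.IsPrime := by rw [hp]; infer_instance
    have hIp : I ≤ p := by
      rw [hp]
      intro r hr
      exact hq (Ideal.mem_map_of_mem _ hr)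
    haveI : (p.map (Ideal.Quotient.mk I)).IsPrime :=
      Ideal.map_isPrime_of_surjective Ideal.Quotient.mk_surjective
        (by rw [Ideal.mk_ker]; exact hIp)
    haveI : q.asIdeal.LiesOver p := ⟨hp⟩
    obtain ⟨Q, hQ⟩ := Groth.Agent.H9.FibDim.exists_fiber_prime p q.asIdeal
    obtain ⟨e⟩ := nonempty_fiber_equiv_quot R n c F I p hIp
    haveI : Nontrivial (p.Fiber (Synt.RelGCIRing R n c F)) :=
      PrimeSpectrum.nonempty_iff_nontrivial.mp ⟨Q⟩
    haveI : Nontrivial ((p.map (Ideal.Quotient.mk I)).Fiber (Synt.RelGCIRing (R ⧸ I) n c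
        (fun i => MvPolynomial.map (Ideal.Quotient.mk I) (F i)))) := e.toEquiv.nontrivial
    obtain ⟨hcn, hdim⟩ := hI ⟨p.map (Ideal.Quotient.mk I), inferInstance⟩ inferInstance
    refine ⟨hcn, ?_⟩
    rw [← localDim_fiber_eq_tfd p q hp.symm Q hQ]
    refine (localDim_le_dim _ Q).trans ?_
    have hd : ringKrullDim ((p.map (Ideal.Quotient.mk I)).Fiber (Synt.RelGCIRing (R ⧸ I) n c
        (fun i => MvPolynomial.map (Ideal.Quotient.mk I) (F i)))) =
        ringKrullDim (p.Fiber (Synt.RelGCIRing R n c F)) := ringKrullDim_eq_of_ringEquiv e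
    rw [PrimeSpectrum.topologicalKrullDim_eq_ringKrullDim, ← hd, hdim]
  have htop : I.map (algebraMap R (Synt.RelGCIRing R n c F)) ⊔ J = ⊤ := by
    rw [← PrimeSpectrum.zeroLocus_empty_iff_eq_top, PrimeSpectrum.zeroLocus_sup]
    ext q
    simp only [Set.mem_inter_iff, Set.mem_empty_iff_false, iff_false, not_and]
    intro h1 h2
    rw [← hJ] at h2
    exact h2 (hsub q h1)
  have h1mem : (1 : Synt.RelGCIRing R n c F) ∈
      I.map (algebraMap R (Synt.RelGCIRing R n c F)) ⊔ J := by
    rw [htop]; exact Submodule.mem_top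
  obtain ⟨a, ha, j, hj, haj⟩ := Submodule.mem_sup.mp h1mem
  obtain ⟨h, rfl⟩ := Ideal.Quotient.mk_surjective j
  refine ⟨h, ?_, isRelGCI_away' R n c F h ?_, nonempty_away_equiv R n c F h⟩
  · rw [← map_one (Ideal.Quotient.mk (I.map (algebraMap R (Synt.RelGCIRing R n c F)))), ← haj,
      map_add, Ideal.Quotient.eq_zero_iff_mem.mpr ha, zero_add]
  · intro q hq
    by_contra hnot
    have hmem : q ∈ PrimeSpectrum.zeroLocus (J : Set (Synt.RelGCIRing R n c F)) := by
      rw [← hJ]; exact hnot
    exact hq (hmem hj)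


open MvPolynomial in
/-- Let S = R[x_1, …, x_n]/(F_1, …, F_c) over a ring R. Let I be an ideal of R such that the reduction
R/I[x]/(F mod I) = S/IS is a relative global complete intersection over R/I (its nonempty fibres
have dimension n − c). Then some h in the polynomial ring, with image g in S, satisfies: g maps to 1
in S/IS, and the presentation S_g = R[x_1, …, x_{n+1}]/(F_1, …, F_c, h·x_{n+1} − 1) is a relative
global complete intersection over R (with S_g isomorphic to it over R). -/
theorem result (R : Type u) [CommRing R] (n c : ℕ) (F : Fin c → MvPolynomial (Fin n) R)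
    (I : Ideal R)
    (hI : Synt.IsRelGCI (R ⧸ I) n c (fun i => MvPolynomial.map (Ideal.Quotient.mk I) (F i))) :
    ∃ h : MvPolynomial (Fin n) R,
      Ideal.Quotient.mk (I.map (algebraMap R (Synt.RelGCIRing R n c F)))
        (Ideal.Quotient.mk (Ideal.span (Set.range F)) h) = 1 ∧
      Synt.IsRelGCI R (n + 1) (c + 1)
        (Fin.snoc (fun i => rename Fin.castSucc (F i)) (rename Fin.castSucc h * X (Fin.last n) - 1)) ∧
      Nonempty (Localization.Away (Ideal.Quotient.mk (Ideal.span (Set.range F)) h) ≃ₐ[R]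
        Synt.RelGCIRing R (n + 1) (c + 1)
          (Fin.snoc (fun i => rename Fin.castSucc (F i)) (rename Fin.castSucc h * X (Fin.last n) - 1))) := by
  exact main R n c F I hI

end Groth.Agent.S9172
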