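import Groth.Statements.S9144
import Groth.Agent.H66.GlobalCI3

set_option autoImplicit false
universe u
open Synt

namespace Groth.Agent.S9144

/-- For a finite type algebra S over a field k and a prime q of S, the local ring S_q is a complete
intersection over k if and only if some basic open neighbourhood S_g (g ∉ q) is a local complete
intersection over k, if and only if some S_g (g ∉ q) is a global complete intersection over k. -/
theorem result (k S : Type u) [Field k] [CommRing S] [Algebra k S]
    [Algebra.FiniteType k S] (q : Ideal S) [q.IsPrime] :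
    (Synt.IsCIOver k (Localization.AtPrime q) ↔ ∃ g : S, g ∉ q ∧ Synt.IsLCIOver k (Localization.Away g)) ∧
      (Synt.IsCIOver k (Localization.AtPrime q) ↔
        ∃ g : S, g ∉ q ∧ Synt.IsGlobalCI k (Localization.Away g)) := by
  obtain ⟨n, φ, hφ⟩ := Algebra.FiniteType.iff_quotient_mvPolynomial''.mp
    (inferInstance : Algebra.FiniteType k S)
  have hb : Synt.IsCIOver k (Localization.AtPrime q) ↔
      ∃ g : S, g ∉ q ∧ Synt.IsGlobalCI k (Localization.Away g) := by
    constructor
    · intro h
      exact Groth.Agent.H66.GlobalCI.exists_isGlobalCI_away_of_regular φ hφ q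
        (Groth.Agent.H66.GlobalCI.exists_regular_of_isCIOver φ hφ q h)
    · rintro ⟨g, hg, hgci⟩
      exact Groth.Agent.H66.GlobalCI.isCIOver_atPrime_of_isGlobalCI_away q g hg hgci
  refine ⟨?_, hb⟩
  rw [hb]
  constructor
  · rintro ⟨g, hg, hgci⟩
    haveI : Algebra.FiniteType S (Localization.Away g) :=
      IsLocalization.finiteType_of_monoid_fg (Submonoid.powers g) _
    haveI : Algebra.FiniteType k (Localization.Away g) :=
      Algebra.FiniteType.trans (R := k) (S := S) (A := Localization.Away g) inferInstance
        inferInstance
    exact ⟨g, hg, Groth.Agent.H66.GlobalCI.isLCIOver_of_isGlobalCI hgci⟩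
  · rintro ⟨g, hg, hlci⟩
    exact Groth.Agent.S9146.exists_gci_of_away g (Localization.Away g) hlci.2 q hg

end Groth.Agent.S9144
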