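import Groth.Statements.S9141
import Groth.Agent.S9145

set_option autoImplicit false
universe u
open Synt

namespace Groth.Agent.S9141

open Groth.Agent.H66.GlobalCI Groth.Agent.H66.RelGCI Groth.Agent.H9.FibDim in
theorem gci_away (k S : Type u) [Field k] [CommRing S] [Algebra k S]
    [Algebra.FiniteType k S] (g : S) (h : Synt.IsGlobalCI k S) :
    Synt.IsGlobalCI k (Localization.Away g) := by
  by_cases hsub : Subsingleton (Localization.Away g)
  · exact Or.inl hsub
  haveI : Nontrivial (Localization.Away g) := not_subsingleton_iff_nontrivial.mp hsub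
  rcases h with h | ⟨m, c, hcm, φ, r, hφ, hker, hdim⟩
  · exfalso
    apply hsub
    refine ⟨fun a b => ?_⟩
    have h01 : (1 : Localization.Away g) = 0 := by
      rw [← map_one (algebraMap S (Localization.Away g)), Subsingleton.elim (1 : S) 0, map_zero]
    rw [← mul_one a, ← mul_one b, h01, mul_zero, mul_zero]
  obtain ⟨h, rfl⟩ := hφ g
  -- the dimension of the localisation
  have hdimA : ringKrullDim (Localization.Away (φ h)) = ((m - c : ℕ) : WithBot ℕ∞) := by
    apply le_antisymm
    · rw [← hdim, ← PrimeSpectrum.topologicalKrullDim_eq_ringKrullDim,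
        ← PrimeSpectrum.topologicalKrullDim_eq_ringKrullDim]
      exact (PrimeSpectrum.localization_away_isOpenEmbedding (Localization.Away (φ h))
        (φ h)).isInducing.topologicalKrullDim_le
    · obtain ⟨Q'⟩ := (PrimeSpectrum.nonempty_iff_nontrivial (R := Localization.Away (φ h))).mpr
        inferInstance
      have hmem : PrimeSpectrum.comap (algebraMap S (Localization.Away (φ h))) Q' ∈
          (PrimeSpectrum.basicOpen (φ h) : Set (PrimeSpectrum S)) := by
        rw [← PrimeSpectrum.localization_away_comap_range (Localization.Away (φ h)) (φ h)]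
        exact ⟨Q', rfl⟩
      rw [← dim_basicOpen_eq]
      exact (le_localDim φ.toRingHom hφ r hker _).trans (localDim_le_of_mem _ _ _ hmem)
  obtain ⟨I0, hI0⟩ : ∃ I0 : Ideal (MvPolynomial (Fin m) k), I0 = Ideal.span (Set.range r) :=
    ⟨_, rfl⟩
  have hkerI0 : RingHom.ker φ.toRingHom = I0 := hker.trans hI0.symm
  let ψ : (MvPolynomial (Fin m) k ⧸ I0) →ₐ[k] S :=
    Ideal.Quotient.liftₐ I0 φ (fun a ha => RingHom.mem_ker.mp (hkerI0 ▸ ha))
  have hψmk : ∀ a, ψ (Ideal.Quotient.mk I0 a) = φ a := fun a => rfl
  have hψ : Function.Surjective ψ := fun s => by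
    obtain ⟨a, rfl⟩ := hφ s; exact ⟨Ideal.Quotient.mk I0 a, hψmk a⟩
  have hkill : ∀ x, ψ x = 0 → Ideal.Quotient.mk I0 h * x = 0 := by
    intro x hx
    obtain ⟨x', rfl⟩ := Ideal.Quotient.mk_surjective x
    rw [hψmk] at hx
    have hx' : x' ∈ I0 := hkerI0 ▸ RingHom.mem_ker.mpr hx
    rw [Ideal.Quotient.eq_zero_iff_mem.mpr hx', mul_zero]
  obtain ⟨e2⟩ := nonempty_away_equiv_of_ker ψ hψ _ hkill
  have hdimT : ringKrullDim (Localization.Away (Ideal.Quotient.mk I0 h)) =
      ((m - c : ℕ) : WithBot ℕ∞) := by
    rw [← hdimA]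
    exact ringKrullDim_eq_of_ringEquiv e2.toRingEquiv
  subst hI0
  obtain ⟨e⟩ := nonempty_away_equiv k m c r h
  have hgciT : Synt.IsGlobalCI k (Localization.Away
      (Ideal.Quotient.mk (Ideal.span (Set.range r)) h)) :=
    isGlobalCI_of_algEquiv k _ (m + 1) (c + 1) (by omega) _ e.symm
      (by rw [hdimT, Nat.add_sub_add_right])
  exact Groth.Agent.S9146.gci_of_algEquiv e2 hgciT


/-- For a finite type algebra S over a field k and g ∈ S, the localization S_g is a global (resp. local)
complete intersection over k whenever S is. -/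
theorem result (k S : Type u) [Field k] [CommRing S] [Algebra k S]
    [Algebra.FiniteType k S] (g : S) :
    (Synt.IsGlobalCI k S → Synt.IsGlobalCI k (Localization.Away g)) ∧
      (Synt.IsLCIOver k S → Synt.IsLCIOver k (Localization.Away g)) := by
  haveI : Algebra.FiniteType S (Localization.Away g) :=
    IsLocalization.finiteType_of_monoid_fg (Submonoid.powers g) _
  haveI : Algebra.FiniteType k (Localization.Away g) :=
    Algebra.FiniteType.trans (R := k) (S := S) (A := Localization.Away g) inferInstance
      inferInstance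
  refine ⟨gci_away k S g, fun h => ?_⟩
  rw [(Groth.Agent.S9145.result k (Localization.Away g)).1]
  intro P
  have h1 := ((Groth.Agent.S9145.result k S).1).mp h
    ⟨P.asIdeal.comap (algebraMap S (Localization.Away g)), inferInstance⟩
  let e := (IsLocalization.localizationLocalizationAtPrimeIsoLocalization (Submonoid.powers g)
    P.asIdeal).restrictScalars k
  exact Groth.Agent.H66.GlobalCI.isCIOver_of_algEquiv e h1

end Groth.Agent.S9141
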