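import Groth.Statements.S9146
import Mathlib

set_option autoImplicit false
universe u
open Synt

namespace Groth.Agent.S9146

open Synt TensorProduct

section
variable {k : Type u} [Field k]

theorem gci_of_algEquiv {A B : Type u} [CommRing A] [CommRing B] [Algebra k A] [Algebra k B]
    (e : A ≃ₐ[k] B) (h : IsGlobalCI k A) : IsGlobalCI k B := by
  rcases h with h | ⟨n, c, hcn, φ, r, hφ, hker, hdim⟩
  · left; exact e.symm.injective.subsingleton
  · right
    refine ⟨n, c, hcn, (e : A →ₐ[k] B).comp φ, r, e.surjective.comp hφ, ?_, ?_⟩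
    · rw [← hker]; ext x
      simp [RingHom.mem_ker]
    · rw [← hdim]; exact (ringKrullDim_eq_of_ringEquiv e.toRingEquiv).symm

theorem exists_gci_of_away {F : Type u} [CommRing F] [Algebra k F] (a : F)
    (Fa : Type u) [CommRing Fa] [Algebra F Fa] [Algebra k Fa] [IsScalarTower k F Fa]
    [IsLocalization.Away a Fa]
    (hFa : ∀ p : PrimeSpectrum Fa, ∃ g : Fa, g ∉ p.asIdeal ∧ IsGlobalCI k (Localization.Away g))
    (q : Ideal F) [hq : q.IsPrime] (haq : a ∉ q) :
    ∃ g : F, g ∉ q ∧ IsGlobalCI k (Localization.Away g) := by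
  have hdisj : Disjoint (Submonoid.powers a : Set F) (q : Set F) :=
    (Ideal.disjoint_powers_iff_notMem_of_isPrime a).mpr haq
  have hq' : (Ideal.map (algebraMap F Fa) q).IsPrime :=
    IsLocalization.isPrime_of_isPrime_disjoint (Submonoid.powers a) Fa q hq hdisj
  obtain ⟨g2, hg2, hgci⟩ := hFa ⟨_, hq'⟩
  simp only at hg2
  obtain ⟨n, h, hnh⟩ := IsLocalization.Away.surj a g2
  have hau : IsUnit (algebraMap F Fa a) := IsLocalization.Away.algebraMap_isUnit a
  have hassoc : Associated g2 (algebraMap F Fa h) := by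
    obtain ⟨u, hu⟩ := hau.pow n
    exact ⟨u, by rw [hu, hnh]⟩
  have hh : h ∉ q := by
    intro hmem
    have h1 : algebraMap F Fa h ∈ Ideal.map (algebraMap F Fa) q := Ideal.mem_map_of_mem _ hmem
    rw [← hnh] at h1
    rcases hq'.mem_or_mem h1 with h2 | h2
    · exact hg2 h2
    · exact hq'.ne_top (Ideal.eq_top_of_isUnit_mem _ h2 (hau.pow n))
  refine ⟨a * h, fun hmem => (hq.mem_or_mem hmem).elim haq hh, ?_⟩
  -- T = Localization.Away g2
  have i1 : IsLocalization.Away (algebraMap F Fa h) (Localization.Away g2) :=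
    IsLocalization.Away.of_associated hassoc
  have i2 : IsLocalization.Away (a * h) (Localization.Away g2) :=
    IsLocalization.Away.mul' Fa (Localization.Away g2) a h
  have t1 : IsScalarTower k F (Localization.Away g2) := by
    refine IsScalarTower.of_algebraMap_eq' ?_
    rw [IsScalarTower.algebraMap_eq k Fa (Localization.Away g2),
      IsScalarTower.algebraMap_eq F Fa (Localization.Away g2), RingHom.comp_assoc,
      ← IsScalarTower.algebraMap_eq k F Fa]
  let e : Localization.Away (a * h) ≃ₐ[F] Localization.Away g2 :=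
    IsLocalization.algEquiv (Submonoid.powers (a * h)) _ _
  exact gci_of_algEquiv (e.restrictScalars k).symm hgci

end

theorem main (R S : Type u) [CommRing R] [CommRing S] [Algebra R S]
    (s : Finset S) (hs : Ideal.span (s : Set S) = ⊤)
    (h : ∀ g ∈ s, Synt.IsSyntomic R (Localization.Away g)) : Synt.IsSyntomic R S := by
  have hflat : Module.Flat R S := by
    rw [← RingHom.flat_algebraMap_iff]
    refine RingHom.Flat.ofLocalizationSpanTarget _ (s : Set S) hs ?_
    rintro ⟨g, hg⟩
    rw [← IsScalarTower.algebraMap_eq, RingHom.flat_algebraMap_iff]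
    exact (h g hg).1
  have hfp : Algebra.FinitePresentation R S := by
    rw [← RingHom.finitePresentation_algebraMap]
    refine RingHom.finitePresentation_ofLocalizationSpanTarget _ (s : Set S) hs ?_
    rintro ⟨g, hg⟩
    rw [← IsScalarTower.algebraMap_eq, RingHom.finitePresentation_algebraMap]
    exact (h g hg).2.1
  refine ⟨hflat, hfp, fun p => ⟨inferInstance, fun q => ?_⟩⟩
  obtain ⟨g, hg, hgq⟩ : ∃ g ∈ s, (1 : p.asIdeal.ResidueField) ⊗ₜ[R] g ∉ q.asIdeal := by
    by_contra hcon
    push Not at hcon
    have : Ideal.map (Algebra.TensorProduct.includeRight :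
        S →ₐ[R] p.asIdeal.Fiber S).toRingHom (Ideal.span (s : Set S)) ≤ q.asIdeal := by
      rw [Ideal.map_span, Ideal.span_le]
      rintro _ ⟨g, hg, rfl⟩
      exact hcon g hg
    rw [hs, Ideal.map_top] at this
    exact q.2.ne_top (top_le_iff.mp this)
  obtain ⟨e, he⟩ : ∃ e, e = IsLocalization.Away.tensorProductEquivTMulRight R p.asIdeal.ResidueField g
    (Localization.Away g) := ⟨_, rfl⟩
  have hloc := (h g hg).2.2 p
  refine exists_gci_of_away ((1 : p.asIdeal.ResidueField) ⊗ₜ[R] g)
    (Localization.Away ((1 : p.asIdeal.ResidueField) ⊗ₜ[R] g)) ?_ q.asIdeal hgq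
  intro P
  obtain ⟨g1, hg1, hgci⟩ := hloc.2 ⟨Ideal.comap (e : _ →+* _) P.asIdeal, inferInstance⟩
  refine ⟨e g1, ?_, ?_⟩
  · simpa using hg1
  · have hmap : Submonoid.map e (Submonoid.powers g1) = Submonoid.powers (e g1) :=
      Submonoid.map_powers _ _
    exact gci_of_algEquiv (IsLocalization.algEquivOfAlgEquiv (M := Submonoid.powers g1)
      (Localization.Away g1) (T := Submonoid.powers (e g1))
      (Localization.Away (e g1)) e hmap) hgci


/-- Being syntomic is local on the target ring: if finitely many elements of S generating the unit ideal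
have syntomic localizations R → S_g, then R → S is syntomic. -/
theorem result (R S : Type u) [CommRing R] [CommRing S] [Algebra R S]
    (s : Finset S) (hs : Ideal.span (s : Set S) = ⊤)
    (h : ∀ g ∈ s, Synt.IsSyntomic R (Localization.Away g)) : Synt.IsSyntomic R S := by
  exact main R S s hs h

end Groth.Agent.S9146
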