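import Groth.Statements.S14457
import Mathlib.RingTheory.Etale.StandardEtale
import Mathlib.RingTheory.Norm.Defs
import Mathlib.Algebra.DualNumber
import Mathlib.RingTheory.Unramified.Basic
import Mathlib.Algebra.Polynomial.Taylor
import Mathlib.RingTheory.Localization.Away.Basic

set_option autoImplicit false
universe u
open CAlg

namespace Groth.Agent.S14457

section
open Polynomial

variable {A : Type u} [CommRing A]

lemma etale_of_bezout (f₀ : A[X]) (hm : f₀.Monic) (p₁ p₂ : A[X])
    (h : derivative f₀ * p₁ + f₀ * p₂ = 1) : Algebra.Etale A (AdjoinRoot f₀) := by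
  let P : StandardEtalePair A := ⟨f₀, hm, 1, ⟨p₁, p₂, 0, by rw [pow_zero]; exact h⟩⟩
  have e1 : P.Ring ≃ₐ[A] Localization.Away (AdjoinRoot.mk f₀ 1) := P.equivAwayAdjoinRoot
  have e2 : AdjoinRoot f₀ ≃ₐ[A] Localization.Away (AdjoinRoot.mk f₀ 1) :=
    (IsLocalization.atUnit (AdjoinRoot f₀) (Localization.Away (AdjoinRoot.mk f₀ 1))
      (AdjoinRoot.mk f₀ 1) (by rw [map_one]; exact isUnit_one)).restrictScalars A
  exact Algebra.Etale.of_equiv (e1.trans e2.symm)

lemma isUnit_aeval_derivative_of_formallyUnramified (f₀ : A[X])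
    [Algebra.FormallyUnramified A (AdjoinRoot f₀)] :
    IsUnit (aeval (AdjoinRoot.root f₀) (derivative f₀)) := by
  obtain ⟨I, hI⟩ : ∃ I : Ideal (AdjoinRoot f₀),
      I = Ideal.span {aeval (AdjoinRoot.root f₀) (derivative f₀)} := ⟨_, rfl⟩
  let g₁ : AdjoinRoot f₀ →ₐ[A] DualNumber (AdjoinRoot f₀ ⧸ I) :=
    (TrivSqZeroExt.inlAlgHom A (AdjoinRoot f₀ ⧸ I) (AdjoinRoot f₀ ⧸ I)).comp
      (Ideal.Quotient.mkₐ A I)
  have hg₁ : ∀ b, g₁ b = TrivSqZeroExt.inl (Ideal.Quotient.mk I b) := fun b => rfl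
  have hd : g₁ (aeval (AdjoinRoot.root f₀) (derivative f₀)) = 0 := by
    rw [hg₁, Ideal.Quotient.eq_zero_iff_mem.mpr (by rw [hI]; exact Ideal.mem_span_singleton_self _),
      TrivSqZeroExt.inl_zero]
  have hroot : eval₂ (Algebra.ofId A (DualNumber (AdjoinRoot f₀ ⧸ I)))
      (g₁ (AdjoinRoot.root f₀) + DualNumber.eps) f₀ = 0 := by
    have h1 : aeval (g₁ (AdjoinRoot.root f₀) + DualNumber.eps) f₀ =
        aeval (g₁ (AdjoinRoot.root f₀)) f₀ +
          aeval (g₁ (AdjoinRoot.root f₀)) (derivative f₀) * DualNumber.eps :=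
      Polynomial.aeval_add_of_sq_eq_zero f₀ (g₁ (AdjoinRoot.root f₀)) DualNumber.eps
        (by rw [pow_two, DualNumber.eps_mul_eps])
    have h2 : aeval (AdjoinRoot.root f₀) f₀ = 0 := by
      rw [AdjoinRoot.aeval_eq, AdjoinRoot.mk_self]
    rw [Polynomial.aeval_algHom_apply, Polynomial.aeval_algHom_apply, h2, map_zero, hd,
      zero_mul, add_zero] at h1
    exact h1
  let g₂ : AdjoinRoot f₀ →ₐ[A] DualNumber (AdjoinRoot f₀ ⧸ I) :=
    AdjoinRoot.liftAlgHom f₀ (Algebra.ofId A _) (g₁ (AdjoinRoot.root f₀) + DualNumber.eps) hroot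
  have hg₂ : g₂ (AdjoinRoot.root f₀) = g₁ (AdjoinRoot.root f₀) + DualNumber.eps :=
    AdjoinRoot.liftAlgHom_root ..
  have hg : g₁ = g₂ := by
    refine Algebra.FormallyUnramified.lift_unique'
      (TrivSqZeroExt.fstHom A (AdjoinRoot f₀ ⧸ I) (AdjoinRoot f₀ ⧸ I)) ?_ g₁ g₂ ?_
    · refine ⟨2, ?_⟩
      rw [Ideal.zero_eq_bot, eq_bot_iff, pow_two, Ideal.mul_le]
      intro r hr s hs
      have hr' : r.fst = 0 := hr
      have hs' : s.fst = 0 := hs
      rw [Ideal.mem_bot]
      apply TrivSqZeroExt.ext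
      · rw [TrivSqZeroExt.fst_mul, hr', zero_mul, TrivSqZeroExt.fst_zero]
      · rw [TrivSqZeroExt.snd_mul, hr', hs', MulOpposite.op_zero, zero_smul, zero_smul, add_zero,
          TrivSqZeroExt.snd_zero]
    · apply AdjoinRoot.algHom_ext
      show (g₁ (AdjoinRoot.root f₀)).fst = (g₂ (AdjoinRoot.root f₀)).fst
      rw [hg₂, TrivSqZeroExt.fst_add, DualNumber.fst_eps, add_zero]
  have h5 : g₁ (AdjoinRoot.root f₀) = g₁ (AdjoinRoot.root f₀) + DualNumber.eps := by
    conv_lhs => rw [hg]
    exact hg₂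
  have h6 : (DualNumber.eps : DualNumber (AdjoinRoot f₀ ⧸ I)) = 0 := by
    have := h5.symm
    rwa [add_eq_left] at this
  have h7 : (1 : AdjoinRoot f₀ ⧸ I) = 0 := by
    have := congrArg TrivSqZeroExt.snd h6
    rwa [DualNumber.snd_eps, TrivSqZeroExt.snd_zero] at this
  have h8 : (1 : AdjoinRoot f₀) ∈ I :=
    Ideal.Quotient.eq_zero_iff_mem.mp (by rw [map_one]; exact h7)
  rw [hI] at h8
  exact Ideal.span_singleton_eq_top.mp ((Ideal.eq_top_iff_one _).mpr h8)

end

open Polynomial in
/-- Let A be a commutative ring, a an element of A and n ≥ 1 an integer. The A-algebra A[T]/(T^n − a) is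
etale exactly when either n = 1 or the product n·a is a unit of A. (The exponent n is a positive
integer here; for n = 0 the quotient is (A/(1 − a))[T] and the equivalence fails.) -/
theorem result (A : Type u) [CommRing A] (a : A) (n : ℕ) (hn : 1 ≤ n) :
    Algebra.Etale A (AdjoinRoot ((X : A[X]) ^ n - C a)) ↔ n = 1 ∨ IsUnit ((n : A) * a) := by
  constructor
  · intro hE
    by_cases h1 : n = 1
    · exact Or.inl h1
    · right
      rcases subsingleton_or_nontrivial A with hA | hA
      · exact isUnit_of_subsingleton _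
      have hU := isUnit_aeval_derivative_of_formallyUnramified ((X : A[X]) ^ n - C a)
      have hder : derivative ((X : A[X]) ^ n - C a) = C (n : A) * X ^ (n - 1) := by
        rw [derivative_sub, derivative_C, sub_zero, derivative_X_pow]
      rw [hder, map_mul, aeval_C, map_pow, aeval_X] at hU
      have hx : IsUnit (AdjoinRoot.root ((X : A[X]) ^ n - C a)) := by
        have := isUnit_of_mul_isUnit_right hU
        exact (isUnit_pow_iff (by omega)).mp this
      have hnB := isUnit_of_mul_isUnit_left hU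
      have hxa : AdjoinRoot.root ((X : A[X]) ^ n - C a) ^ n =
          algebraMap A (AdjoinRoot ((X : A[X]) ^ n - C a)) a := by
        have h2 : aeval (AdjoinRoot.root ((X : A[X]) ^ n - C a)) ((X : A[X]) ^ n - C a) = 0 := by
          rw [AdjoinRoot.aeval_eq, AdjoinRoot.mk_self]
        rw [map_sub, map_pow, aeval_X, aeval_C, sub_eq_zero] at h2
        exact h2
      have hB : IsUnit (algebraMap A (AdjoinRoot ((X : A[X]) ^ n - C a)) ((n : A) * a)) := by
        rw [map_mul, ← hxa]
        exact hnB.mul (hx.pow n)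
      have hmonic : ((X : A[X]) ^ n - C a).Monic := monic_X_pow_sub_C a (by omega)
      have hN := Algebra.norm_algebraMap_of_basis (AdjoinRoot.powerBasis' hmonic).basis
        ((n : A) * a)
      have hNU := hB.map (Algebra.norm A)
      rw [hN] at hNU
      refine (isUnit_pow_iff ?_).mp hNU
      rw [Fintype.card_fin, AdjoinRoot.powerBasis'_dim, natDegree_X_pow_sub_C]
      omega
  · rintro (rfl | hu)
    · refine etale_of_bezout _ (monic_X_pow_sub_C a one_ne_zero) 1 0 ?_
      rw [derivative_sub, derivative_C, sub_zero, derivative_X_pow]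
      simp
    · obtain ⟨m, rfl⟩ : ∃ m, n = m + 1 := ⟨n - 1, by omega⟩
      obtain ⟨u, hu⟩ := hu.exists_left_inv
      refine etale_of_bezout _ (monic_X_pow_sub_C a (Nat.succ_ne_zero m)) (X * C u)
        (-(C ((m + 1 : ℕ) : A) * C u)) ?_
      rw [derivative_sub, derivative_C, sub_zero, derivative_X_pow, Nat.add_sub_cancel]
      have hC : C u * (C (((m + 1 : ℕ) : A)) * C a) = (1 : A[X]) := by
        rw [← C_mul, ← C_mul, hu, C_1]
      linear_combination hC

end Groth.Agent.S14457
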