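import Groth.Statements.S2452
import Groth.Agent.H44.MacLaneAll
import Mathlib.RingTheory.Smooth.AdicCompletion

set_option autoImplicit false
universe u
open EGA41

namespace Groth.Agent.S2452

open IsLocalRing in
/-- Let A be a local ring which is separated and complete for the adic topology of its maximal ideal
(not necessarily Noetherian), k a field contained in A, and suppose the residue field K of A is a
separable extension of k. Then there is a k-algebra section K → A of the residue map, i.e. a
coefficient field of A containing k. -/
theorem result {k A : Type u} [Field k] [CommRing A] [IsLocalRing A] [Algebra k A]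
    [IsAdicComplete (maximalIdeal A) A] [Algebra.IsGeometricallyReduced k (ResidueField A)] :
    ∃ σ : ResidueField A →ₐ[k] A, ∀ x : ResidueField A, residue A (σ x) = x := by
  haveI : Algebra.FormallySmooth k (IsLocalRing.ResidueField A) :=
    Groth.Agent.H44.MacLane.formallySmooth_iff_isGeometricallyReduced.mpr inferInstance
  obtain ⟨g, hg⟩ := Algebra.FormallySmooth.exists_mkₐ_comp_eq_of_isAdicComplete (R := k)
    (A := IsLocalRing.ResidueField A) (S := A) (I := IsLocalRing.maximalIdeal A)
    (AlgHom.id k (IsLocalRing.ResidueField A))
  exact ⟨g, fun x => AlgHom.congr_fun hg x⟩

end Groth.Agent.S2452
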