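import Groth.Statements.S4533
import Groth.Agent.H87.NilEval

set_option autoImplicit false
set_option maxHeartbeats 400000
universe u
open EGA41

namespace Groth.Agent.S4533

/-- Let A carry the 𝔞-adic topology and let B = A[[T_1, …, T_n]] carry the product topology, i.e. the
adic topology of the ideal 𝔞B + (T_1, …, T_n) (the kernel of the constant-coefficient map added to
the extension of 𝔞). Then B is a formally smooth A-algebra for these topologies. (The published
statement allows any linearly topologized base ring and any set of indeterminates with the product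
topology; this row takes an adic base and finitely many indeterminates, where the product topology
is adic.) -/
theorem result (A : Type u) [CommRing A] (𝔞 : Ideal A) (n : ℕ) :
    EGA41.IsFormallySmoothAdic A 𝔞 (MvPowerSeries (Fin n) A)
      (𝔞.map (MvPowerSeries.C : A →+* MvPowerSeries (Fin n) A) ⊔
        RingHom.ker (MvPowerSeries.constantCoeff : MvPowerSeries (Fin n) A →+* A)) := by
  classical
  intro C' _ _ J hJ _ u hu
  obtain ⟨m, hm⟩ := hu
  have hK : RingHom.ker (MvPowerSeries.constantCoeff : MvPowerSeries (Fin n) A →+* A) ≤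
      𝔞.map (MvPowerSeries.C : A →+* MvPowerSeries (Fin n) A) ⊔
        RingHom.ker (MvPowerSeries.constantCoeff : MvPowerSeries (Fin n) A →+* A) := le_sup_right
  have hK' : Ideal.span (Set.range (MvPowerSeries.X : Fin n → MvPowerSeries (Fin n) A)) ≤
      𝔞.map (MvPowerSeries.C : A →+* MvPowerSeries (Fin n) A) ⊔
        RingHom.ker (MvPowerSeries.constantCoeff : MvPowerSeries (Fin n) A →+* A) := by
    rw [← Groth.Agent.H87.NilEval.ker_constantCoeff_eq]; exact hK
  choose c hc using fun i => Ideal.Quotient.mk_surjective (u (MvPowerSeries.X i))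
  obtain ⟨j, hj⟩ := hJ
  rw [Ideal.zero_eq_bot] at hj
  have hcn : ∀ i, IsNilpotent (c i) := by
    intro i
    have h1 : u (MvPowerSeries.X i) ^ m = 0 := by
      rw [← map_pow]
      exact hm _ (Ideal.pow_mem_pow (hK (RingHom.mem_ker.2 (MvPowerSeries.constantCoeff_X i))) m)
    have h2 : c i ^ m ∈ J := by
      rw [← Ideal.Quotient.eq_zero_iff_mem, map_pow, hc i, h1]
    refine ⟨m * j, ?_⟩
    rw [pow_mul]
    have := Ideal.pow_mem_pow h2 j
    rw [hj] at this
    exact this
  obtain ⟨v, M, hvX, hvM⟩ := Groth.Agent.H87.NilEval.exists_evalNil (A := A) c hcn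
  refine ⟨v, ?_⟩
  refine Groth.Agent.H87.NilEval.algHom_ext_of_kills _ _ (max m M) ?_ ?_ (fun i => ?_)
  · intro f hf
    show Ideal.Quotient.mk J (v f) = 0
    rw [hvM f (Ideal.pow_le_pow_right (le_max_right _ _) hf), map_zero]
  · intro f hf
    apply hm
    exact Ideal.pow_right_mono hK' m (Ideal.pow_le_pow_right (le_max_left _ _) hf)
  · show Ideal.Quotient.mk J (v (MvPowerSeries.X i)) = u (MvPowerSeries.X i)
    rw [hvX, hc]

end Groth.Agent.S4533
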