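import Groth.Statements.S4534

set_option autoImplicit false
universe u
open EGA41

namespace Groth.Agent.S4534

theorem aux {A B C : Type u} [CommRing A] [CommRing B] [CommRing C] [Algebra A B] [Algebra B C]
    [Algebra A C] [IsScalarTower A B C] (𝔞 : Ideal A) (𝔟 : Ideal B) (𝔠 : Ideal C)
    (hBC : ∃ k : ℕ, (𝔟 ^ k).map (algebraMap B C) ≤ 𝔠)
    (hB : EGA41.IsFormallySmoothAdic A 𝔞 B 𝔟) (hC : EGA41.IsFormallySmoothAdic B 𝔟 C 𝔠) :
    EGA41.IsFormallySmoothAdic A 𝔞 C 𝔠 := by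
  intro E _ _ J hJ ha u hu
  obtain ⟨k, hk⟩ := hu
  obtain ⟨k', hk'⟩ := hBC
  obtain ⟨n, hn⟩ := hJ
  -- step 1
  have hkill : ∀ x ∈ 𝔟 ^ (k' * k), (u.comp (IsScalarTower.toAlgHom A B C)) x = 0 := by
    intro x hx
    apply hk
    have h1 : algebraMap B C x ∈ (𝔟 ^ (k' * k)).map (algebraMap B C) := Ideal.mem_map_of_mem _ hx
    rw [pow_mul, Ideal.map_pow] at h1
    exact Ideal.pow_right_mono hk' k h1
  obtain ⟨v₁, hv₁⟩ := hB E J ⟨n, hn⟩ ha (u.comp (IsScalarTower.toAlgHom A B C)) ⟨k' * k, hkill⟩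
  letI algBE : Algebra B E := v₁.toRingHom.toAlgebra
  haveI : IsScalarTower A B E := IsScalarTower.of_algebraMap_eq (fun a => (v₁.commutes a).symm)
  have hmk : ∀ b : B, Ideal.Quotient.mk J (v₁ b) = u (algebraMap B C b) := fun b =>
    AlgHom.congr_fun hv₁ b
  have hJ' : ∀ x ∈ 𝔟 ^ (k' * k), v₁ x ∈ J := by
    intro x hx
    rw [← Ideal.Quotient.eq_zero_iff_mem, hmk]
    exact hkill x hx
  have hb : ∃ m : ℕ, (𝔟 ^ m).map (algebraMap B E) = ⊥ := by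
    refine ⟨k' * k * n, ?_⟩
    rw [pow_mul (𝔟) (k' * k) n, Ideal.map_pow, eq_bot_iff]
    have h2 : (𝔟 ^ (k' * k)).map (algebraMap B E) ≤ J := by
      rw [Ideal.map_le_iff_le_comap]
      intro x hx
      exact hJ' x hx
    calc (Ideal.map (algebraMap B E) (𝔟 ^ (k' * k))) ^ n ≤ J ^ n := Ideal.pow_right_mono h2 n
      _ = ⊥ := hn
  let u' : C →ₐ[B] E ⧸ J :=
    { u.toRingHom with
      commutes' := fun b => by
        show u (algebraMap B C b) = _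
        rw [← hmk]
        rfl }
  obtain ⟨v', hv'⟩ := hC E J ⟨n, hn⟩ hb u' ⟨k, fun x hx => hk x hx⟩
  refine ⟨v'.restrictScalars A, ?_⟩
  ext x
  exact AlgHom.congr_fun hv' x


/-- Let A → B → C be continuous homomorphisms of adic rings (A with the 𝔞-adic, B the 𝔟-adic, C the
𝔠-adic topology; continuity: a power of 𝔞 maps into 𝔟 and a power of 𝔟 into 𝔠). If B is formally
smooth over A and C formally smooth over B, then C is formally smooth over A. -/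
theorem result {A B C : Type u} [CommRing A] [CommRing B] [CommRing C] [Algebra A B] [Algebra B C]
    [Algebra A C] [IsScalarTower A B C] (𝔞 : Ideal A) (𝔟 : Ideal B) (𝔠 : Ideal C)
    (hAB : ∃ k : ℕ, (𝔞 ^ k).map (algebraMap A B) ≤ 𝔟) (hBC : ∃ k : ℕ, (𝔟 ^ k).map (algebraMap B C) ≤ 𝔠)
    (hB : EGA41.IsFormallySmoothAdic A 𝔞 B 𝔟) (hC : EGA41.IsFormallySmoothAdic B 𝔟 C 𝔠) :
    EGA41.IsFormallySmoothAdic A 𝔞 C 𝔠 := by
  exact aux 𝔞 𝔟 𝔠 hBC hB hC

end Groth.Agent.S4534
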