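import Groth.Statements.S4537
import Mathlib

set_option autoImplicit false
universe u
open EGA41

namespace Groth.Agent.S4537

theorem aux {A B : Type u} [CommRing A] [CommRing B] [Algebra A B] (𝔫 : Ideal B)
    (h : CAlgX.IsAdicFormallySmooth A B 𝔫) :
    ∀ (n : ℕ) (C : Type u) [CommRing C] [Algebra A C] (J : Ideal C), J ^ n = ⊥ →
    ∀ u : B →ₐ[A] C ⧸ J, (∃ k : ℕ, ∀ x ∈ 𝔫 ^ k, u x = 0) →
      ∃ v : B →ₐ[A] C, (Ideal.Quotient.mkₐ A J).comp v = u := by
  intro n
  induction n with
  | zero =>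
    intro C _ _ J hJ u hu
    refine h C J ?_ u hu
    rw [← le_bot_iff, ← hJ]
    exact Ideal.pow_le_pow_right (Nat.zero_le 2)
  | succ n ih =>
    intro C _ _ J hJ u hu
    rcases Nat.eq_zero_or_pos n with rfl | hn
    · refine h C J ?_ u hu
      rw [← le_bot_iff, ← hJ]
      exact Ideal.pow_le_pow_right (by norm_num)
    · obtain ⟨k, hk⟩ := hu
      have hIJ : J ^ n ≤ J := Ideal.pow_le_self (Nat.pos_iff_ne_zero.mp hn)
      have hI2 : (J ^ n) ^ 2 = ⊥ := by
        rw [← le_bot_iff, ← hJ, ← pow_mul]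
        exact Ideal.pow_le_pow_right (by omega)
      let e := DoubleQuot.quotQuotEquivQuotOfLEₐ A hIJ
      have hJ'n : (J.map (Ideal.Quotient.mkₐ A (J ^ n))) ^ n = ⊥ := by
        rw [← Ideal.map_pow, ← le_bot_iff, Ideal.map_le_iff_le_comap]
        intro x hx
        simp only [Ideal.mem_comap, Ideal.mem_bot]
        exact Ideal.Quotient.eq_zero_iff_mem.mpr hx
      obtain ⟨v', hv'⟩ := ih (C ⧸ J ^ n) (J.map (Ideal.Quotient.mkₐ A (J ^ n))) hJ'n
        (e.symm.toAlgHom.comp u) ⟨k, fun x hx => by simp [hk x hx]⟩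
      have hv'J : ∀ x ∈ 𝔫 ^ k, v' x ∈ J.map (Ideal.Quotient.mkₐ A (J ^ n)) := by
        intro x hx
        rw [← Ideal.Quotient.eq_zero_iff_mem]
        have := DFunLike.congr_fun hv' x
        simp only [AlgHom.comp_apply, Ideal.Quotient.mkₐ_eq_mk] at this
        rw [this, hk x hx]; simp
      have hv'0 : ∀ x ∈ 𝔫 ^ (k * n), v' x = 0 := by
        intro x hx
        have h1 : 𝔫 ^ k ≤ (J.map (Ideal.Quotient.mkₐ A (J ^ n))).comap v' := hv'J
        have h2 : (𝔫 ^ k) ^ n ≤ ((J.map (Ideal.Quotient.mkₐ A (J ^ n))) ^ n).comap v' :=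
          (Ideal.pow_right_mono h1 n).trans (Ideal.le_comap_pow _ _)
        rw [pow_mul] at hx
        have := h2 hx
        rw [hJ'n] at this
        simpa using this
      obtain ⟨v, hv⟩ := h C (J ^ n) hI2 v' ⟨k * n, hv'0⟩
      refine ⟨v, ?_⟩
      ext x
      have h1 := DFunLike.congr_fun hv x
      have h2 := DFunLike.congr_fun hv' x
      simp only [AlgHom.comp_apply] at h1 h2
      have : u x = e ((Ideal.Quotient.mkₐ A _) (v' x)) := by
        rw [h2]; simp
      rw [AlgHom.comp_apply, this, ← h1]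
      rfl

/-- For a discrete base and an adic algebra: let A be a discrete ring and B an A-algebra with the 𝔫-adic
topology. If every continuous A-algebra map from B to a quotient C/J with J² = 0 lifts to C, then
the same holds for every nilpotent J; hence the square-zero and the nilpotent forms of adic formal
smoothness agree. -/
theorem result {A B : Type u} [CommRing A] [CommRing B] [Algebra A B]
    (𝔫 : Ideal B) :
    CAlgX.IsAdicFormallySmooth A B 𝔫 ↔ EGA41.IsFormallySmoothAdic A ⊥ B 𝔫 := by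
  constructor
  · intro h C _ _ J hJ _ u hu
    obtain ⟨n, hn⟩ := hJ
    exact aux 𝔫 h n C J hn u hu
  · intro h C _ _ J hJ ψ hψ
    exact h C J ⟨2, hJ⟩ ⟨1, by simp⟩ ψ hψ

end Groth.Agent.S4537
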