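import Groth.Statements.S9249
import Groth.Agent.H29.FlatCM
import Groth.Agent.H29.FlatDepthMod2
import Groth.Agent.Lead.CompleteNoetherian
import Mathlib.RingTheory.AdicCompletion.LocalRing

set_option maxHeartbeats 400000
set_option linter.style.haveILetI false
open IsLocalRing Groth.Agent.H15.Depth

set_option autoImplicit false
universe u
open CAlg

namespace Groth.Agent.S9249

theorem isCM_of_isField {F : Type u} [CommRing F] [IsLocalRing F] [IsNoetherianRing F]
    (hF : IsField F) : LocCoh.IsCohenMacaulayLocalRing F := by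
  have hm : maximalIdeal F = ⊥ := IsLocalRing.isField_iff_maximalIdeal_eq.mp hF
  have hs : HasSocle (maximalIdeal F) F := by
    refine ⟨1, one_ne_zero, ?_⟩
    intro r hr
    rw [hm] at hr
    have : r = 0 := by simpa using hr
    simp [this]
  have hd : LocCoh.depth F F = 0 :=
    Groth.Agent.H29.FlatDepthMod.idealDepth_eq_zero_of_hasSocle
      (Groth.Agent.H29.maximalIdeal_smul_top_ne_top F F) hs
  refine ⟨?_⟩
  rw [Module.supportDim_self_eq_ringKrullDim, ringKrullDim_eq_zero_of_isField hF, hd]
  rfl


/-- A Noetherian local ring is Cohen-Macaulay if and only if its completion is. -/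
theorem result (A : Type u) [CommRing A] [IsLocalRing A]
    [IsNoetherianRing A] :
    LocCoh.IsCohenMacaulayLocalRing A ↔
      LocCoh.IsCohenMacaulayLocalRing (AdicCompletion (IsLocalRing.maximalIdeal A) A) := by
  haveI : IsNoetherianRing (AdicCompletion (maximalIdeal A) A) :=
    Groth.Agent.Lead.isNoetherianRing_adicCompletion (maximalIdeal A)
      (maximalIdeal A).fg_of_isNoetherianRing
  have hmax : EGA4.mB A (AdicCompletion (maximalIdeal A) A) =
      maximalIdeal (AdicCompletion (maximalIdeal A) A) :=
    AdicCompletion.maximalIdeal_eq_map.symm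
  have hfld : IsField (EGA4.FibRing A (AdicCompletion (maximalIdeal A) A)) := by
    have hM : (EGA4.mB A (AdicCompletion (maximalIdeal A) A)).IsMaximal := by
      rw [hmax]; exact maximalIdeal.isMaximal _
    exact (Ideal.Quotient.maximal_ideal_iff_isField_quotient _).mp hM
  haveI : Nontrivial (EGA4.FibRing A (AdicCompletion (maximalIdeal A) A)) :=
    Ideal.Quotient.nontrivial_iff.mpr Groth.Agent.H29.FlatCM.mB_ne_top
  haveI : IsLocalRing (EGA4.FibRing A (AdicCompletion (maximalIdeal A) A)) :=
    IsLocalRing.of_surjective' (Ideal.Quotient.mk _) Ideal.Quotient.mk_surjective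
  have hF : LocCoh.IsCohenMacaulayLocalRing (EGA4.FibRing A (AdicCompletion (maximalIdeal A) A)) :=
    isCM_of_isField hfld
  constructor
  · intro hA
    exact Groth.Agent.H29.FlatCM.isCM_of_flat_of_isCM_of_isCM hA hF
  · intro hB
    exact (Groth.Agent.H29.FlatCM.isCM_of_flat_of_isCM hB).1

end Groth.Agent.S9249
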