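import Groth.Statements.S4523
import Groth.Agent.H44.MacLaneAll

set_option autoImplicit false
universe u
open EGA41

namespace Groth.Agent.S4523

/-- Let k ⊆ K be fields. Then K is a separable extension of k if and only if the imperfection module
Υ_{K/k} vanishes, i.e. the canonical map Ω_{k/ℤ} ⊗_k K → Ω_{K/ℤ} is injective, and if and only if
every derivation of k into K extends to a derivation of K into itself. (No hypothesis on the
characteristic.) -/
theorem result {k K : Type u} [Field k] [Field K] [Algebra k K] :
    (Algebra.IsGeometricallyReduced k K ↔ EGA41.imperfection ℤ k K = ⊥) ∧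
    (Algebra.IsGeometricallyReduced k K ↔
      ∀ D : Derivation ℤ k K, ∃ D' : Derivation ℤ K K, ∀ a : k, D' (algebraMap k K a) = D a) := by
  have hM := Groth.Agent.H44.MacLane.isGeometricallyReduced_iff_injective_mapBaseChange'
    (k := k) (K := K)
  refine ⟨?_, ?_⟩
  · rw [hM]
    unfold EGA41.imperfection
    exact LinearMap.ker_eq_bot.symm
  · rw [hM]
    exact Groth.Agent.H44.MacLane.injective_mapBaseChange_iff_forall_exists_derivation

end Groth.Agent.S4523
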