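import Groth.Statements.S7132
import Mathlib
-- import your own Groth.Agent.* helpers here

set_option autoImplicit false
universe u
open EtAlg

namespace Groth.Agent.S7132

open IsLocalRing

/-- Key lemma: a relation `∑ a_{ij} b_i ϖ^j = 0` with residues of the `b_i` linearly independent
forces every coefficient into the maximal ideal. -/
theorem key {A B : Type*} [CommRing A] [IsLocalRing A] [CommRing B] [IsDomain B] [IsLocalRing B]
    [Algebra A B] [IsLocalHom (algebraMap A B)]
    {ϖ : B} (hϖ : ¬ IsUnit ϖ) (hϖ0 : ϖ ≠ 0) {e : ℕ}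
    (he : ∀ a ∈ maximalIdeal A, ϖ ^ e ∣ algebraMap A B a)
    {ι : Type*} [Fintype ι] (b : ι → B)
    (hb : LinearIndependent (ResidueField A) (fun i => residue B (b i)))
    (a : ι × Fin e → A)
    (h0 : ∑ p, algebraMap A B (a p) * (b p.1 * ϖ ^ (p.2 : ℕ)) = 0) :
    ∀ p, a p ∈ maximalIdeal A := by
  classical
  by_contra hcon
  push Not at hcon
  obtain ⟨⟨i₁, j₁⟩, hp₁⟩ := hcon
  let J : Finset (Fin e) := Finset.univ.filter fun j => ∃ i, a (i, j) ∉ maximalIdeal A
  have hJ : J.Nonempty := ⟨j₁, by simp only [J, Finset.mem_filter, Finset.mem_univ, true_and]; exact ⟨i₁, hp₁⟩⟩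
  set j₀ := J.min' hJ with hj₀
  have hj₀mem : j₀ ∈ J := Finset.min'_mem J hJ
  have hmin : ∀ j, j < j₀ → ∀ i, a (i, j) ∈ maximalIdeal A := by
    intro j hj i
    by_contra hcon
    have : j ∈ J := by
      simp only [J, Finset.mem_filter, Finset.mem_univ, true_and]; exact ⟨i, hcon⟩
    exact absurd (Finset.min'_le J j this) (not_le.mpr hj)
  let c : Fin e → B := fun j => ∑ i, algebraMap A B (a (i, j)) * b i
  have hsum : ∑ j, c j * ϖ ^ (j : ℕ) = 0 := by
    rw [← h0, Fintype.sum_prod_type_right]
    refine Finset.sum_congr rfl fun j _ => ?_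
    rw [Finset.sum_mul]
    refine Finset.sum_congr rfl fun i _ => ?_
    ring
  have hdvd : ∀ j, j ≠ j₀ → ϖ ^ ((j₀ : ℕ) + 1) ∣ c j * ϖ ^ (j : ℕ) := by
    intro j hj
    rcases lt_or_gt_of_ne hj with hlt | hgt
    · have h1 : ϖ ^ e ∣ c j := by
        refine Finset.dvd_sum fun i _ => ?_
        exact Dvd.dvd.mul_right (he _ (hmin j hlt i)) _
      have h2 : ϖ ^ ((j₀ : ℕ) + 1) ∣ ϖ ^ e := pow_dvd_pow _ (by have := j₀.2; omega)
      exact Dvd.dvd.mul_right (h2.trans h1) _
    · have : ϖ ^ ((j₀ : ℕ) + 1) ∣ ϖ ^ (j : ℕ) := pow_dvd_pow _ (by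
        have : (j₀ : ℕ) < (j : ℕ) := hgt
        omega)
      exact Dvd.dvd.mul_left this _
  have hdvd₀ : ϖ ^ ((j₀ : ℕ) + 1) ∣ c j₀ * ϖ ^ (j₀ : ℕ) := by
    have h1 : c j₀ * ϖ ^ (j₀ : ℕ) = - ∑ j ∈ Finset.univ.erase j₀, c j * ϖ ^ (j : ℕ) := by
      rw [eq_neg_iff_add_eq_zero, Finset.add_sum_erase _ (fun j => c j * ϖ ^ (j : ℕ)) (Finset.mem_univ j₀), hsum]
    rw [h1, dvd_neg]
    refine Finset.dvd_sum fun j hj => hdvd j (Finset.ne_of_mem_erase hj)
  have hdvd₁ : ϖ ∣ c j₀ := by
    rw [pow_succ, mul_comm (c j₀)] at hdvd₀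
    exact (mul_dvd_mul_iff_left (pow_ne_zero _ hϖ0)).mp hdvd₀
  have hc : residue B (c j₀) = 0 := by
    rw [residue_eq_zero_iff]
    obtain ⟨d, hd⟩ := hdvd₁
    rw [hd]
    exact Ideal.mul_mem_right _ _ ((mem_maximalIdeal _).mpr hϖ)
  have hc' : ∑ i, residue A (a (i, j₀)) • residue B (b i) = 0 := by
    rw [← hc]
    simp only [c, map_sum, map_mul, Algebra.smul_def, ResidueField.algebraMap_residue]
  have := (Fintype.linearIndependent_iff.mp hb) (fun i => residue A (a (i, j₀))) hc'
  simp only [J, Finset.mem_filter, Finset.mem_univ, true_and] at hj₀mem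
  obtain ⟨i, hi⟩ := hj₀mem
  exact hi ((residue_eq_zero_iff _).mp (this i))

theorem main (A B K L : Type u) [CommRing A] [IsDomain A]
    [IsDiscreteValuationRing A] [CommRing B] [IsDomain B] [IsDiscreteValuationRing B] [Algebra A B]
    (hinj : Function.Injective (algebraMap A B)) [IsLocalHom (algebraMap A B)]
    [Field K] [Field L] [Algebra A K] [IsFractionRing A K] [Algebra B L] [IsFractionRing B L]
    [Algebra K L] [Algebra A L] [IsScalarTower A K L] [IsScalarTower A B L] [FiniteDimensional K L]
    {ϖ : B} (hϖ : Irreducible ϖ) {e : ℕ}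
    (he : ∀ a ∈ maximalIdeal A, ϖ ^ e ∣ algebraMap A B a)
    {ι : Type*} [Fintype ι] (b : ι → B)
    (hb : LinearIndependent (ResidueField A) (fun i => residue B (b i))) :
    Fintype.card ι * e ≤ Module.finrank K L := by
  classical
  obtain ⟨π, hπ⟩ := IsDiscreteValuationRing.exists_irreducible A
  have hπ0 : algebraMap A B π ≠ 0 := by
    rw [Ne, map_eq_zero_iff _ hinj]; exact hπ.ne_zero
  have hmA : maximalIdeal A = Ideal.span {π} :=
    (IsDiscreteValuationRing.irreducible_iff_uniformizer _).mp hπ
  have hN : ∀ N : ℕ, ∀ g : ι × Fin e → A,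
      ∑ p, g p • (b p.1 * ϖ ^ (p.2 : ℕ)) = 0 → ∀ p, g p ∈ maximalIdeal A ^ N := by
    intro N
    induction N with
    | zero => intro g _ p; simp
    | succ N ih =>
      intro g hg p
      have h1 := key hϖ.not_isUnit hϖ.ne_zero he b hb g (by simpa [Algebra.smul_def] using hg)
      have h2 : ∀ p, ∃ x, g p = π * x := fun p => by
        have := h1 p; rw [hmA, Ideal.mem_span_singleton] at this; exact this
      choose g' hg' using h2
      have hg'0 : ∑ p, g' p • (b p.1 * ϖ ^ (p.2 : ℕ)) = 0 := by
        have : algebraMap A B π * ∑ p, g' p • (b p.1 * ϖ ^ (p.2 : ℕ)) = 0 := by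
          rw [Finset.mul_sum, ← hg]; refine Finset.sum_congr rfl fun p _ => ?_
          rw [hg' p, Algebra.smul_def, Algebra.smul_def, map_mul, mul_assoc]
        exact (mul_eq_zero.mp this).resolve_left hπ0
      rw [hg' p, pow_succ']
      exact Ideal.mul_mem_mul (hmA ▸ Ideal.mem_span_singleton_self π) (ih g' hg'0 p)
  have hli : LinearIndependent A (fun p : ι × Fin e => b p.1 * ϖ ^ (p.2 : ℕ)) := by
    rw [Fintype.linearIndependent_iff]
    intro g hg p
    have : g p ∈ ⨅ N, maximalIdeal A ^ N := by
      rw [Ideal.mem_iInf]; exact fun N => hN N g hg p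
    rw [Ideal.iInf_pow_eq_bot_of_isLocalRing (maximalIdeal A) (Ideal.IsMaximal.ne_top inferInstance)] at this
    exact Ideal.mem_bot.mp this
  have hli' : LinearIndependent A
      (fun p : ι × Fin e => algebraMap B L (b p.1 * ϖ ^ (p.2 : ℕ))) := by
    have := hli.map' (IsScalarTower.toAlgHom A B L).toLinearMap (by
      rw [LinearMap.ker_eq_bot]; exact IsFractionRing.injective B L)
    exact this
  have hli'' := (LinearIndependent.iff_fractionRing A K).mp hli'
  have := hli''.fintype_card_le_finrank
  simpa using this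

/-- For an injective local homomorphism A → B of discrete valuation rings whose fraction fields K ⊆ L
form a finite extension, the residue field of B is finite over that of A, and the ramification index
e times the residue degree f is at most [L : K]. -/
theorem result (A B K L : Type u) [CommRing A] [IsDomain A]
    [IsDiscreteValuationRing A] [CommRing B] [IsDomain B] [IsDiscreteValuationRing B] [Algebra A B]
    (hinj : Function.Injective (algebraMap A B)) [IsLocalHom (algebraMap A B)]
    [Field K] [Field L] [Algebra A K] [IsFractionRing A K] [Algebra B L] [IsFractionRing B L]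
    [Algebra K L] [Algebra A L] [IsScalarTower A K L] [IsScalarTower A B L] [FiniteDimensional K L] :
    Module.Finite (IsLocalRing.ResidueField A) (IsLocalRing.ResidueField B) ∧
      Ideal.ramificationIdx' (IsLocalRing.maximalIdeal A) (IsLocalRing.maximalIdeal B) *
          Module.finrank (IsLocalRing.ResidueField A) (IsLocalRing.ResidueField B) ≤
        Module.finrank K L := by
  classical
  obtain ⟨ϖ, hϖ⟩ := IsDiscreteValuationRing.exists_irreducible B
  obtain ⟨π, hπ⟩ := IsDiscreteValuationRing.exists_irreducible A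
  have hπ0 : algebraMap A B π ≠ 0 := by
    rw [Ne, map_eq_zero_iff _ hinj]; exact hπ.ne_zero
  obtain ⟨e, u, hu⟩ := IsDiscreteValuationRing.eq_unit_mul_pow_irreducible hπ0 hϖ
  have hmA : maximalIdeal A = Ideal.span {π} :=
    (IsDiscreteValuationRing.irreducible_iff_uniformizer _).mp hπ
  have hmB : maximalIdeal B = Ideal.span {ϖ} :=
    (IsDiscreteValuationRing.irreducible_iff_uniformizer _).mp hϖ
  have hmap : Ideal.map (algebraMap A B) (maximalIdeal A) = maximalIdeal B ^ e := by
    rw [hmA, Ideal.map_span, Set.image_singleton, hmB, Ideal.span_singleton_pow, hu]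
    rw [Ideal.span_singleton_eq_span_singleton]
    exact ⟨u⁻¹, by rw [mul_comm, ← mul_assoc]; simp⟩
  have he_pos : 0 < e := by
    rcases Nat.eq_zero_or_pos e with h | h
    · exfalso
      rw [h, pow_zero, mul_one] at hu
      have : IsUnit (algebraMap A B π) := hu ▸ u.isUnit
      exact hπ.not_isUnit (isUnit_of_map_unit (algebraMap A B) π this)
    · exact h
  have hBne : maximalIdeal B ≠ ⊥ := IsDiscreteValuationRing.not_a_field B
  have hram : Ideal.ramificationIdx' (maximalIdeal A) (maximalIdeal B) = e := by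
    apply Ideal.ramificationIdx'_spec
    · rw [hmap]
    · rw [hmap]
      exact not_le_of_gt (Ideal.pow_succ_lt_pow hBne e)
  have he : ∀ a ∈ maximalIdeal A, ϖ ^ e ∣ algebraMap A B a := by
    intro a ha
    have : algebraMap A B a ∈ Ideal.map (algebraMap A B) (maximalIdeal A) :=
      Ideal.mem_map_of_mem _ ha
    rw [hmap, hmB, Ideal.span_singleton_pow, Ideal.mem_span_singleton] at this
    exact this
  have hrank : Module.rank (ResidueField A) (ResidueField B) ≤ (Module.finrank K L : ℕ) := by
    apply rank_le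
    intro s hs
    have hsurj : ∀ x : s, ∃ y : B, residue B y = (x : ResidueField B) :=
      fun x => residue_surjective _
    choose b hb using hsurj
    have hb' : LinearIndependent (ResidueField A) (fun i => residue B (b i)) := by
      convert hs using 2
      exact hb _
    have := main A B K L hinj hϖ he b hb'
    rw [Fintype.card_coe] at this
    calc s.card = s.card * 1 := (mul_one _).symm
      _ ≤ s.card * e := Nat.mul_le_mul_left _ he_pos
      _ ≤ _ := this
  have hfin : Module.Finite (ResidueField A) (ResidueField B) := by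
    rw [← Module.rank_lt_aleph0_iff]
    exact lt_of_le_of_lt hrank Cardinal.natCast_lt_aleph0
  refine ⟨hfin, ?_⟩
  rw [hram]
  let bas := Module.finBasis (ResidueField A) (ResidueField B)
  have hsurj : ∀ i, ∃ y : B, residue B y = bas i := fun i => residue_surjective _
  choose b hb using hsurj
  have hb' : LinearIndependent (ResidueField A) (fun i => residue B (b i)) := by
    convert bas.linearIndependent using 2
    exact hb _
  have := main A B K L hinj hϖ he b hb'
  rw [Fintype.card_fin] at this
  rw [mul_comm]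
  exact this

end Groth.Agent.S7132
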