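import Groth.Statements.S18498
import Mathlib

set_option autoImplicit false
universe u
open CategoryTheory CategoryTheory.Limits AlgebraicGeometry MonObj
open Neron

namespace Groth.Agent.S18498



theorem ext_of_schDominant {S : Scheme.{u}} {X Y : Over S} [IsSeparated Y.hom] (f g : X ⟶ Y)
    {W : Scheme.{u}} (j : W ⟶ X.left) [IsSchemeTheoreticallyDominant j]
    (hU : j ≫ f.left = j ≫ g.left) : f = g := by
  let W' : Over S := Over.mk (j ≫ X.hom)
  let j' : W' ⟶ X := Over.homMk j
  have hj' : j' ≫ f = j' ≫ g := by ext1; exact hU
  let l : W' ⟶ equalizer f g := equalizer.lift j' hj'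
  have hl : l.left ≫ (equalizer.ι f g).left = j := by
    rw [← Over.comp_left, equalizer.lift_ι]; rfl
  have hker : (equalizer.ι f g).left.ker = ⊥ := by
    rw [eq_bot_iff]
    calc (equalizer.ι f g).left.ker ≤ (l.left ≫ (equalizer.ι f g).left).ker :=
          Scheme.Hom.le_ker_comp _ _
      _ = j.ker := by rw [hl]
      _ = ⊥ := j.ker_eq_bot
  have hiso : IsIso (equalizer.ι f g).left := IsClosedImmersion.isIso_iff_ker_eq_bot.mpr hker
  have hiso' : IsIso (equalizer.ι f g) := by
    have : IsIso ((Over.forget S).map (equalizer.ι f g)) := hiso
    exact isIso_of_reflects_iso _ (Over.forget S)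
  rw [← cancel_epi (equalizer.ι f g)]
  exact equalizer.condition f g

theorem genPt_schDominant (R : Type u) [CommRing R] [IsDomain R] :
    IsSchemeTheoreticallyDominant (Neron.genPt R) := by
  have hdom : IsDominant (Neron.genPt R) := by
    constructor
    change DenseRange (PrimeSpectrum.comap (algebraMap R (FractionRing R)))
    rw [PrimeSpectrum.denseRange_comap_iff_ker_le_nilRadical]
    rw [(RingHom.injective_iff_ker_eq_bot _).mp (IsFractionRing.injective R (FractionRing R))]
    exact bot_le
  exact IsSchemeTheoreticallyDominant.of_isDominant _

theorem main (R : Type u) [CommRing R] [IsDedekindDomain R]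
    (X Y : Over (Spec (CommRingCat.of R))) [Flat X.hom] [IsSeparated Y.hom] (f g : X ⟶ Y)
    (h : (Neron.genericFibre R).map f = (Neron.genericFibre R).map g) : f = g := by
  have := genPt_schDominant R
  have hqc : QuasiCompact (Neron.genPt R) := by unfold Neron.genPt; infer_instance
  have hdom : IsSchemeTheoreticallyDominant (pullback.fst X.hom (Neron.genPt R)) := inferInstance
  apply ext_of_schDominant f g (pullback.fst X.hom (Neron.genPt R))
  have h1 := congrArg (fun φ => φ.left ≫ pullback.fst Y.hom (Neron.genPt R)) h
  simp only [Over.pullback_map_left] at h1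
  rw [pullback.lift_fst, pullback.lift_fst] at h1
  exact h1


/-- Let R be a Dedekind domain with fraction field K, X a Spec R-scheme which is flat over Spec R, Y a
Spec R-scheme which is separated over Spec R, and f, g : X → Y two R-morphisms whose restrictions to
generic fibres X_K → Y_K are equal. Then f = g: an R-morphism from a flat R-scheme to a separated
R-scheme is determined by its generic fibre. (The source states this for algebraic spaces over a
connected Dedekind scheme; the case of schemes over an affine base is stated.) -/
theorem result (R : Type u) [CommRing R] [IsDedekindDomain R]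
    (X Y : Over (Spec (CommRingCat.of R))) [Flat X.hom] [IsSeparated Y.hom] (f g : X ⟶ Y)
    (h : (Neron.genericFibre R).map f = (Neron.genericFibre R).map g) : f = g := by
  exact main R X Y f g h

end Groth.Agent.S18498
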