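import Groth.Statements.S5434
import Mathlib
import Groth.Agent.S18498

set_option autoImplicit false
universe u
open CategoryTheory MonoidalCategory CartesianMonoidalCategory MonObj GrpObj AlgebraicGeometry CategoryTheory.Limits
open SGA3x

namespace Groth.Agent.S5434



theorem inj_transport {X : Scheme.{u}} {A B C : X.Opens} (hAB : A = B) (hA : A ≤ C) (hB : B ≤ C)
    (h : Function.Injective (X.presheaf.map (homOfLE hA).op)) :
    Function.Injective (X.presheaf.map (homOfLE hB).op) := by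
  subst hAB; exact h

theorem schDom_of_dense {X : Scheme.{u}} (U : X.Opens) (h : CInt.IsSchematicallyDense U) :
    IsSchemeTheoreticallyDominant U.ι := by
  constructor
  rw [eq_bot_iff, Scheme.IdealSheafData.le_def]
  intro V
  refine (Scheme.Hom.ideal_ker_le U.ι V).trans ?_
  rw [Scheme.IdealSheafData.ideal_bot]
  have hinj : Function.Injective (U.ι.app V.1) := by
    rw [Scheme.Opens.ι_app]
    refine inj_transport ?_ inf_le_left _ (h V.1)
    rw [Scheme.Hom.image_preimage_eq_opensRange_inf, Scheme.Opens.opensRange_ι, inf_comm]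
  intro a ha
  rw [RingHom.mem_ker] at ha
  have : a = 0 := hinj (by rw [map_zero]; exact ha)
  simp [this]

theorem dense_restrict {X : Scheme.{u}} (U : X.Opens) (h : CInt.IsSchematicallyDense U)
    (V : X.Opens) : CInt.IsSchematicallyDense (V.ι ⁻¹ᵁ U) := by
  intro V'
  have h1 := h (V.ι ''ᵁ V')
  have heq : V.ι ''ᵁ V' ⊓ U = V.ι ''ᵁ (V' ⊓ V.ι ⁻¹ᵁ U) := by
    ext x
    simp only [TopologicalSpace.Opens.coe_inf, Scheme.Hom.coe_image, Scheme.Hom.coe_preimage,
      Set.image_inter_preimage]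
  have hle : V.ι ''ᵁ (V' ⊓ V.ι ⁻¹ᵁ U) ≤ V.ι ''ᵁ V' := by
    rw [← heq]; exact inf_le_left
  exact inj_transport heq inf_le_left hle h1

theorem ext_of_dense_of_top {X Y : Scheme.{u}} (f g : X ⟶ Y) (U : X.Opens)
    (hU : CInt.IsSchematicallyDense U) (h : U.ι ≫ f = U.ι ≫ g) (htop : ∀ x, f x = g x) :
    f = g := by
  apply Scheme.hom_ext_of_forall
  intro x
  obtain ⟨W, hW, hxW, -⟩ := exists_isAffineOpen_mem_and_subset (x := f x) (U := ⊤) trivial
  let V : X.Opens := f ⁻¹ᵁ W ⊓ g ⁻¹ᵁ W
  have hxV : x ∈ V := ⟨hxW, by change g x ∈ W; rw [← htop x]; exact hxW⟩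
  refine ⟨V, hxV, ?_⟩
  have hVf : V ≤ f ⁻¹ᵁ W := inf_le_left
  have hVg : V ≤ g ⁻¹ᵁ W := inf_le_right
  rw [← Scheme.Hom.resLE_comp_ι f hVf, ← Scheme.Hom.resLE_comp_ι g hVg]
  congr 1
  haveI : IsAffine (W : Scheme.{u}) := hW
  haveI := schDom_of_dense _ (dense_restrict U hU V)
  let X' : Over (⊤_ Scheme.{u}) := Over.mk (terminal.from (V : Scheme.{u}))
  let Y' : Over (⊤_ Scheme.{u}) := Over.mk (terminal.from (W : Scheme.{u}))
  let f' : X' ⟶ Y' := Over.homMk (f.resLE W V hVf) (terminal.hom_ext _ _)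
  let g' : X' ⟶ Y' := Over.homMk (g.resLE W V hVg) (terminal.hom_ext _ _)
  haveI : IsSeparated Y'.hom := by dsimp [Y']; infer_instance
  have key : f' = g' := by
    apply Groth.Agent.S18498.ext_of_schDominant f' g' (V.ι ⁻¹ᵁ U).ι
    change (V.ι ⁻¹ᵁ U).ι ≫ f.resLE W V hVf = (V.ι ⁻¹ᵁ U).ι ≫ g.resLE W V hVg
    rw [← cancel_mono W.ι, Category.assoc, Category.assoc, Scheme.Hom.resLE_comp_ι,
      Scheme.Hom.resLE_comp_ι]
    -- (V.ι⁻¹U).ι ≫ V.ι factors through U.ι
    have hfac : (V.ι ⁻¹ᵁ U).ι ≫ V.ι = (V.ι ∣_ U) ≫ U.ι := (morphismRestrict_ι V.ι U).symm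
    rw [← Category.assoc, ← Category.assoc, hfac, Category.assoc, Category.assoc, h]
  exact congrArg (fun φ => φ.left) key

theorem dense_of_iso {P X : Scheme.{u}} (e : P ⟶ X) [IsIso e] (U : X.Opens)
    (h : CInt.IsSchematicallyDense (e ⁻¹ᵁ U)) : CInt.IsSchematicallyDense U := by
  intro V s t hst
  have hinj : Function.Injective (e.app V) :=
    ((ConcreteCategory.isIso_iff_bijective (e.app V)).mp inferInstance).1
  apply hinj
  apply h (e ⁻¹ᵁ V)
  have nat := e.naturality (homOfLE (inf_le_left : V ⊓ U ≤ V)).op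
  have h1 := ConcreteCategory.congr_hom nat s
  have h2 := ConcreteCategory.congr_hom nat t
  simp only [CommRingCat.comp_apply] at h1 h2
  have h3 := congrArg (e.app (V ⊓ U)) hst
  rw [h1, h2] at h3
  exact h3

theorem top_eq (S : Scheme.{u}) (X Y : Over S) (U : X.left.Opens)
    (hU : ∀ (S' : Scheme.{u}) (g : S' ⟶ S),
      CInt.IsSchematicallyDense ((pullback.fst X.hom g) ⁻¹ᵁ U))
    (hY : ∀ s : S, IsSeparated (pullback.snd Y.hom (S.fromSpecResidueField s)))
    (f g : X ⟶ Y) (h : U.ι ≫ f.left = U.ι ≫ g.left) (x : X.left) : f.left x = g.left x := by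
  let s : S := X.hom x
  let k := S.fromSpecResidueField s
  let F := Over.pullback k
  haveI : IsSeparated (F.obj Y).hom := hY s
  let W : (F.obj X).left.Opens := (pullback.fst X.hom k) ⁻¹ᵁ U
  haveI := schDom_of_dense W (hU _ k)
  have hfst : ∀ φ : X ⟶ Y,
      (F.map φ).left ≫ pullback.fst Y.hom k = pullback.fst X.hom k ≫ φ.left := by
    intro φ
    simp only [F, Over.pullback_map_left]
    exact pullback.lift_fst _ _ _
  have hsnd : ∀ φ : X ⟶ Y,
      (F.map φ).left ≫ pullback.snd Y.hom k = pullback.snd X.hom k := fun φ => Over.w (F.map φ)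
  have key : F.map f = F.map g := by
    apply Groth.Agent.S18498.ext_of_schDominant _ _ W.ι
    apply pullback.hom_ext
    · rw [Category.assoc, Category.assoc, hfst f, hfst g]
      have hfac : W.ι ≫ pullback.fst X.hom k = (pullback.fst X.hom k ∣_ U) ≫ U.ι :=
        (morphismRestrict_ι _ U).symm
      rw [← Category.assoc, ← Category.assoc, hfac, Category.assoc, Category.assoc, h]
    · rw [Category.assoc, Category.assoc, hsnd f, hsnd g]
  obtain ⟨z, hz1, -⟩ := Scheme.Pullback.exists_preimage_pullback (f := X.hom) (g := k) x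
    (IsLocalRing.closedPoint (S.residueField s)) (by
      exact (Scheme.fromSpecResidueField_apply s _).symm)
  rw [← hz1, ← Scheme.Hom.comp_apply, ← Scheme.Hom.comp_apply, ← hfst f, ← hfst g, key]

theorem main (S : Scheme.{u}) (X Y : Over S) (U : X.left.Opens)
    (hU : ∀ (S' : Scheme.{u}) (g : S' ⟶ S),
      CInt.IsSchematicallyDense ((pullback.fst X.hom g) ⁻¹ᵁ U))
    (hY : ∀ s : S, IsSeparated (pullback.snd Y.hom (S.fromSpecResidueField s)))
    (f g : X ⟶ Y) (h : U.ι ≫ f.left = U.ι ≫ g.left) : f = g := by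
  have hU1 : CInt.IsSchematicallyDense U := by
    exact dense_of_iso (pullback.fst X.hom (𝟙 S)) U (hU S (𝟙 S))
  ext1
  exact ext_of_dense_of_top f.left g.left U hU1 h (top_eq S X Y U hU hY f g h)


/-- Let X be an S-scheme and U an open subscheme of X which is schematically dense in X relative to S:
for every S′ → S the preimage of U in X ×_S S′ is schematically dense (restriction of functions to
it is injective on every open). Let Y be an S-scheme whose fibres Y_s are separated (over κ(s)). If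
two S-morphisms f, g : X → Y agree on U, then f = g. -/
theorem result (S : Scheme.{u}) (X Y : Over S) (U : X.left.Opens) (hU : (∀ (S' : Scheme.{u}) (g : S' ⟶ S), CInt.IsSchematicallyDense ((pullback.fst X.hom g) ⁻¹ᵁ U)))
    (hY : ∀ s : S, IsSeparated (pullback.snd Y.hom (S.fromSpecResidueField s)))
    (f g : X ⟶ Y) (h : U.ι ≫ f.left = U.ι ≫ g.left) : f = g := by
  exact main S X Y U hU hY f g h

end Groth.Agent.S5434
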