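import Groth.Statements.S9444
import Mathlib
import Groth.Agent.H87.EqCohen

set_option autoImplicit false
set_option maxHeartbeats 400000
universe u
open CAlg

namespace Groth.Agent.S9444

/-- A complete regular local ring containing a field (that is, containing the prime field F_p or ℚ) is
isomorphic to a power series ring in finitely many variables over its residue field (existence of an
isomorphism only). -/
theorem result (R : Type u)
    [CommRing R] [IsRegularLocalRing R] [IsAdicComplete (IsLocalRing.maximalIdeal R) R]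
    (k₀ : Type u) [Field k₀] [Algebra k₀ R] :
    ∃ d : ℕ, Nonempty (R ≃+* MvPowerSeries (Fin d) (IsLocalRing.ResidueField R)) := by
  classical
  let _ : Algebra (⊥ : Subfield k₀) R :=
    ((algebraMap k₀ R).comp (⊥ : Subfield k₀).subtype).toAlgebra
  have hfs : Algebra.FormallySmooth (⊥ : Subfield k₀) (IsLocalRing.ResidueField R) :=
    Groth.Agent.H44.CoeffField.formallySmooth_bot' k₀ (IsLocalRing.ResidueField R)
  have _ : Algebra.IsGeometricallyReduced (⊥ : Subfield k₀) (IsLocalRing.ResidueField R) :=
    Groth.Agent.S2451.result.1 hfs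
  obtain ⟨σ, hσ⟩ := Groth.Agent.S2452.result (k := (⊥ : Subfield k₀)) (A := R)
  obtain ⟨t, ht⟩ := Groth.Agent.H87.EqCohen.exists_gens (A := R)
    (IsNoetherian.noetherian (IsLocalRing.maximalIdeal R))
  obtain ⟨e, heC, heX⟩ := Groth.Agent.H87.PowEval.exists_mvEval (IsLocalRing.maximalIdeal R)
    (σ : IsLocalRing.ResidueField R →+* R) t
    (fun i => by rw [← ht]; exact Ideal.subset_span ⟨i, rfl⟩)
  have hsurj : Function.Surjective e :=
    Groth.Agent.H87.EqCohen.surjective_of_section t ht e heX (fun a => ⟨IsLocalRing.residue R a, by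
      rw [heC, ← IsLocalRing.residue_eq_zero_iff, map_sub]
      have := hσ (IsLocalRing.residue R a)
      rw [sub_eq_zero]
      exact this.symm⟩)
  have hinj : Function.Injective e := by
    rw [injective_iff_map_eq_zero]
    intro f hf
    by_contra hne
    have hf0 : f ∈ nonZeroDivisors (MvPowerSeries (Fin (IsLocalRing.maximalIdeal R).spanFinrank)
        (IsLocalRing.ResidueField R)) := mem_nonZeroDivisors_of_ne_zero hne
    have h1 := ringKrullDim_succ_le_of_surjective e hsurj hf0 hf
    rw [Groth.Agent.H61.Obs.ps_dim_eq] at h1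
    have h2 : ((IsLocalRing.maximalIdeal R).spanFinrank : WithBot ℕ∞) = ringKrullDim R :=
      IsRegularLocalRing.spanFinrank_maximalIdeal
    rw [← h2] at h1
    have h3 : ((IsLocalRing.maximalIdeal R).spanFinrank + 1 : ℕ) ≤
        (IsLocalRing.maximalIdeal R).spanFinrank := by exact_mod_cast h1
    omega
  exact ⟨_, ⟨(RingEquiv.ofBijective e ⟨hinj, hsurj⟩).symm⟩⟩

end Groth.Agent.S9444
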