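import Groth.Statements.S0344
import Mathlib
import Groth.Agent.H60.FlatGor

set_option autoImplicit false
universe u v
open Goren

namespace Groth.Agent.S0344

/-- For a flat local homomorphism A → B of Noetherian local rings, B is Gorenstein exactly when A and
the closed fibre B/m_A B are. -/
theorem result (A : Type u) [CommRing A] [IsLocalRing A] [IsNoetherianRing A] (B : Type u) [CommRing B] [IsLocalRing B] [IsNoetherianRing B] [Algebra A B] [IsLocalHom (algebraMap A B)] [Module.Flat A B] : LocCoh.IsGorensteinLocalRing B ↔ (LocCoh.IsGorensteinLocalRing A ∧ LocCoh.IsGorensteinLocalRing (B ⧸ (IsLocalRing.maximalIdeal A).map (algebraMap A B))) := by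
  classical
  have hle : (IsLocalRing.maximalIdeal A).map (algebraMap A B) ≤ IsLocalRing.maximalIdeal B := by
    rw [Ideal.map_le_iff_le_comap]
    intro b hb
    exact Groth.Agent.H60.FlatGor.map_mem_max (algebraMap A B) hb
  have hne : (IsLocalRing.maximalIdeal A).map (algebraMap A B) ≠ ⊤ := fun h =>
    (IsLocalRing.maximalIdeal.isMaximal B).ne_top (top_le_iff.mp (h ▸ hle))
  haveI : Nontrivial (B ⧸ (IsLocalRing.maximalIdeal A).map (algebraMap A B)) :=
    Ideal.Quotient.nontrivial_iff.mpr hne
  haveI : IsLocalRing (B ⧸ (IsLocalRing.maximalIdeal A).map (algebraMap A B)) :=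
    IsLocalRing.of_surjective' (Ideal.Quotient.mk _) Ideal.Quotient.mk_surjective
  obtain ⟨a, ha⟩ := Groth.Agent.H60.FlatGor.exists_nat_dim A
  obtain ⟨c, hc⟩ := Groth.Agent.H60.FlatGor.exists_nat_dim
    (B ⧸ (IsLocalRing.maximalIdeal A).map (algebraMap A B))
  exact Groth.Agent.H60.FlatGor.main (a + c) A B
    (B ⧸ (IsLocalRing.maximalIdeal A).map (algebraMap A B))
    (Ideal.Quotient.mk _) Ideal.Quotient.mk_surjective Ideal.mk_ker a c ha hc le_rfl

end Groth.Agent.S0344
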