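import Groth.Statements.S10174
import Groth.Agent.H52.Charts

set_option autoImplicit false
universe u
open CategoryTheory CategoryTheory.Limits AlgebraicGeometry Topology TopologicalSpace
open AlgSp

namespace Groth.Agent.S10174

/-- An algebraic space X over a scheme S is quasi-compact (that is, it has a surjective etale chart from
a scheme whose underlying space is quasi-compact) if and only if the space of points |X| is
quasi-compact. -/
theorem result {S : Scheme.{u}} (X : AlgSp.Space S) :
    AlgSp.IsQuasiCompactSp X.obj ↔ CompactSpace (AlgSp.Points X.obj) := by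
  constructor
  · rintro ⟨U, p, hpe, hps, hU⟩
    have : CompactSpace ↥U.left := hU
    exact (Groth.Agent.H52.surjective_ofPt_of_surjective p hps).compactSpace
      (AlgSp.Points.continuous_ofPt p)
  · intro hc
    obtain ⟨U, p, hpe, hps⟩ := X.property.atlas
    have hsurj := Groth.Agent.H52.surjective_ofPt_of_surjective p hps
    have hopen : ∀ V : U.left.affineOpens, IsOpen (AlgSp.Points.ofPt p '' (V.1 : Set ↥U.left)) :=
      fun V => Groth.Agent.H52.isOpenMap_ofPt_of_etale p hpe _ V.1.2
    have hcov : (Set.univ : Set (AlgSp.Points X.obj)) ⊆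
        ⋃ V : U.left.affineOpens, AlgSp.Points.ofPt p '' (V.1 : Set ↥U.left) := by
      intro x _
      obtain ⟨u, rfl⟩ := hsurj x
      obtain ⟨_, ⟨V, hV, rfl⟩, huV, -⟩ :=
        (U.left.isBasis_affineOpens).exists_subset_of_mem_open (Set.mem_univ u) isOpen_univ
      exact Set.mem_iUnion.mpr ⟨⟨V, hV⟩, u, huV, rfl⟩
    obtain ⟨t, ht⟩ := isCompact_univ.elim_finite_subcover _ hopen hcov
    let U' : U.left.Opens := ⨆ V ∈ t, (V : U.left.affineOpens).1
    have hU'c : IsCompact (U' : Set ↥U.left) := by
      have : (U' : Set ↥U.left) = ⋃ V ∈ t, ((V : U.left.affineOpens).1 : Set ↥U.left) := by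
        simp [U']
      rw [this]
      exact t.finite_toSet.isCompact_biUnion fun V _ => V.2.isCompact
    let ψ : Groth.Agent.H52.overOf (U := U) U'.ι ⟶ U := Groth.Agent.H52.overOfHom U'.ι
    have hpe' : AlgSp.RepWith @Etale ((AlgSp.yon S).map ψ ≫ p) :=
      Groth.Agent.H52.repWith_yon_map_comp @Etale ψ (show Etale U'.ι from inferInstance) p hpe
    refine ⟨Groth.Agent.H52.overOf (U := U) U'.ι, (AlgSp.yon S).map ψ ≫ p, hpe', ?_, ?_⟩
    · refine Groth.Agent.H52.repWith_surjective_of_surjective_ofPt _ hpe'.1 fun x => ?_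
      obtain ⟨V, hVt, u, hu, rfl⟩ : ∃ V ∈ t, x ∈ AlgSp.Points.ofPt p '' ((V : U.left.affineOpens).1 : Set ↥U.left) := by
        simpa using ht (Set.mem_univ x)
      have huU' : u ∈ U' := by
        simp only [U', TopologicalSpace.Opens.mem_iSup]
        exact ⟨V, hVt, hu⟩
      refine ⟨⟨u, huU'⟩, ?_⟩
      rw [Groth.Agent.H52.ofPt_yon_map_comp]
      rfl
    · exact isCompact_iff_compactSpace.mp hU'c

end Groth.Agent.S10174
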