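import Groth.Statements.S0345
import Mathlib
import Groth.Agent.H60.InjLoc

set_option autoImplicit false
universe u v
open Goren

namespace Groth.Agent.S0345

open Groth.Agent.H60 CategoryTheory

/-- For a Noetherian ring A, the A-module A has finite injective dimension exactly when every
localization of A at a prime is Gorenstein and A has finite Krull dimension. -/
theorem result (A : Type u) [CommRing A] [IsNoetherianRing A] : (∃ n : ℕ, CategoryTheory.HasInjectiveDimensionLT (ModuleCat.of A A) n) ↔ (LocCoh.IsGorensteinRing A ∧ ringKrullDim A < ⊤) := by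
  constructor
  · rintro ⟨n, hn⟩
    have hn1 : HasInjectiveDimensionLT (ModuleCat.of A A) (n + 1) :=
      hasInjectiveDimensionLT_of_ge _ n (n + 1) (by omega)
    have hloc : ∀ (p : Ideal A) [p.IsPrime], HasInjectiveDimensionLT
        (ModuleCat.of (Localization.AtPrime p) (Localization.AtPrime p)) (n + 1) := by
      intro p _
      haveI := InjLoc.loc_injdim p.primeCompl n (ModuleCat.of A A) hn1
      exact hasInjectiveDimensionLT_of_iso (InjLoc.isoSelf p.primeCompl) (n + 1)
    refine ⟨{ isGorensteinLocalRing_localization := fun p _ =>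
      { exists_hasInjectiveDimensionLT := ⟨n + 1, hloc p⟩ } }, ?_⟩
    have hle : ringKrullDim A ≤ (n : WithBot ℕ∞) := by
      rw [ringKrullDim_le_iff_isMaximal_height_le]
      intro m hm
      haveI := hm.isPrime
      rw [← IsLocalization.AtPrime.ringKrullDim_eq_height m (Localization.AtPrime m)]
      obtain ⟨r, hr, -, hlt⟩ := InjLoc.gor_data (Localization.AtPrime m) ⟨n + 1, hloc m⟩
      rw [hr]
      have := hlt (n + 1) (hloc m)
      exact_mod_cast Nat.lt_succ_iff.mp this
    refine lt_of_le_of_lt hle ?_
    show ((n : ℕ∞) : WithBot ℕ∞) < ((⊤ : ℕ∞) : WithBot ℕ∞)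
    exact WithBot.coe_lt_coe.mpr (ENat.natCast_lt_top n)
  · rintro ⟨hG, hdim⟩
    obtain ⟨d, hd⟩ : ∃ d : ℕ, ringKrullDim A ≤ (d : WithBot ℕ∞) := by
      have hne : ringKrullDim A ≠ ⊤ := ne_of_lt hdim
      generalize ringKrullDim A = x at hne ⊢
      induction x with
      | bot => exact ⟨0, bot_le⟩
      | coe k =>
        induction k with
        | top => exact absurd rfl hne
        | coe d => exact ⟨d, le_of_eq rfl⟩
    refine ⟨d + 1, InjLoc.glob_injdim d (ModuleCat.of A A) ?_⟩
    intro m hm
    haveI := hm.isPrime
    haveI := hG.isGorensteinLocalRing_localization m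
    obtain ⟨r, hr, hinj, -⟩ := InjLoc.gor_data (Localization.AtPrime m)
      LocCoh.IsGorensteinLocalRing.exists_hasInjectiveDimensionLT
    have hrd : r ≤ d := by
      have h1 : ringKrullDim (Localization.AtPrime m) ≤ ringKrullDim A := by
        rw [IsLocalization.AtPrime.ringKrullDim_eq_height m (Localization.AtPrime m)]
        exact Ideal.height_le_ringKrullDim_of_isPrime
      rw [hr] at h1
      exact_mod_cast h1.trans hd
    haveI : HasInjectiveDimensionLT
        (ModuleCat.of (Localization.AtPrime m) (Localization.AtPrime m)) (d + 1) :=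
      hasInjectiveDimensionLT_of_ge _ (r + 1) (d + 1) (by omega)
    exact hasInjectiveDimensionLT_of_iso (InjLoc.isoSelf m.primeCompl).symm (d + 1)

end Groth.Agent.S0345
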