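import Groth.Statements.S7134
import Groth.Agent.Lead.RetractPS

set_option autoImplicit false
universe u
open EtAlg

namespace Groth.Agent.S7134

/-- For an injective local homomorphism A → B of discrete valuation rings, A → B is formally smooth for
the adic topology of the maximal ideal of B if and only if A → B is weakly unramified and the
residue field of B is a separable (possibly transcendental, i.e. geometrically reduced) extension of
the residue field of A. -/
theorem result (A B : Type u) [CommRing A]
    [IsDomain A] [IsDiscreteValuationRing A] [CommRing B] [IsDomain B] [IsDiscreteValuationRing B] [Algebra A B]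
    (hinj : Function.Injective (algebraMap A B)) [IsLocalHom (algebraMap A B)] :
    CAlgX.IsAdicFormallySmooth A B (IsLocalRing.maximalIdeal B) ↔
      EtRam.IsWeaklyUnramified A B ∧
        Algebra.IsGeometricallyReduced (IsLocalRing.ResidueField A) (IsLocalRing.ResidueField B) := by
  constructor
  · intro hfs
    have hIle : (IsLocalRing.maximalIdeal A).map (algebraMap A B) ≤ IsLocalRing.maximalIdeal B :=
      ((IsLocalRing.local_hom_TFAE (algebraMap A B)).out 0 2).mp ‹IsLocalHom (algebraMap A B)›
    have hIne : (IsLocalRing.maximalIdeal A).map (algebraMap A B) ≠ ⊤ := fun h =>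
      (IsLocalRing.maximalIdeal.isMaximal B).ne_top (top_le_iff.mp (h ▸ hIle))
    have hIbot : (IsLocalRing.maximalIdeal A).map (algebraMap A B) ≠ ⊥ := by
      obtain ⟨ϖ, hϖ⟩ := IsDiscreteValuationRing.exists_irreducible A
      intro h
      have h1 : algebraMap A B ϖ ∈ (IsLocalRing.maximalIdeal A).map (algebraMap A B) :=
        Ideal.mem_map_of_mem _ (by rw [hϖ.maximalIdeal_eq]; exact Ideal.subset_span rfl)
      rw [h, Ideal.mem_bot] at h1
      exact hϖ.ne_zero (hinj (h1.trans (map_zero _).symm))
    obtain ⟨τ, hτ⟩ := IsDiscreteValuationRing.exists_irreducible B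
    obtain ⟨n, hn⟩ := IsDiscreteValuationRing.ideal_eq_span_pow_irreducible hIbot hτ
    have hpow : IsLocalRing.maximalIdeal B ^ n ≤ (IsLocalRing.maximalIdeal A).map (algebraMap A B) := by
      rw [hn, hτ.maximalIdeal_eq, Ideal.span_singleton_pow]
    haveI : Nontrivial (B ⧸ (IsLocalRing.maximalIdeal A).map (algebraMap A B)) :=
      Ideal.Quotient.nontrivial_iff.mpr hIne
    haveI : IsLocalRing (B ⧸ (IsLocalRing.maximalIdeal A).map (algebraMap A B)) :=
      IsLocalRing.of_surjective' (Ideal.Quotient.mk _) Ideal.Quotient.mk_surjective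
    have hmle : IsLocalRing.maximalIdeal (B ⧸ (IsLocalRing.maximalIdeal A).map (algebraMap A B)) ≤
        (IsLocalRing.maximalIdeal B).map (Ideal.Quotient.mk _) := by
      intro x hx
      obtain ⟨b, rfl⟩ := Ideal.Quotient.mk_surjective x
      apply Ideal.mem_map_of_mem
      rw [IsLocalRing.mem_maximalIdeal, mem_nonunits_iff] at hx ⊢
      exact fun hb => hx (hb.map _)
    have hmge : (IsLocalRing.maximalIdeal B).map
        (Ideal.Quotient.mk ((IsLocalRing.maximalIdeal A).map (algebraMap A B))) ≤
        IsLocalRing.maximalIdeal (B ⧸ (IsLocalRing.maximalIdeal A).map (algebraMap A B)) := by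
      apply IsLocalRing.le_maximalIdeal
      intro h
      have h1 : (1 : B ⧸ (IsLocalRing.maximalIdeal A).map (algebraMap A B)) ∈
          (IsLocalRing.maximalIdeal B).map (Ideal.Quotient.mk _) := by rw [h]; trivial
      rw [Ideal.mem_map_iff_of_surjective _ Ideal.Quotient.mk_surjective] at h1
      obtain ⟨b, hb, hb1⟩ := h1
      have h2 : b - 1 ∈ (IsLocalRing.maximalIdeal A).map (algebraMap A B) := by
        rw [← Ideal.Quotient.eq_zero_iff_mem, map_sub, hb1, map_one, sub_self]
      have h3 : (1 : B) ∈ IsLocalRing.maximalIdeal B := by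
        have := Ideal.sub_mem _ hb (hIle h2)
        rwa [sub_sub_cancel] at this
      exact (Ideal.ne_top_iff_one _).mp (IsLocalRing.maximalIdeal.isMaximal B).ne_top h3
    have hnil : IsNilpotent (IsLocalRing.maximalIdeal
        (B ⧸ (IsLocalRing.maximalIdeal A).map (algebraMap A B))) := by
      refine ⟨n, ?_⟩
      rw [Ideal.zero_eq_bot, eq_bot_iff]
      calc IsLocalRing.maximalIdeal (B ⧸ (IsLocalRing.maximalIdeal A).map (algebraMap A B)) ^ n
          ≤ ((IsLocalRing.maximalIdeal B).map (Ideal.Quotient.mk _)) ^ n :=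
            Ideal.pow_right_mono hmle n
        _ = (IsLocalRing.maximalIdeal B ^ n).map (Ideal.Quotient.mk _) := (Ideal.map_pow _ _ _).symm
        _ ≤ ((IsLocalRing.maximalIdeal A).map (algebraMap A B)).map (Ideal.Quotient.mk _) :=
            Ideal.map_mono hpow
        _ = ⊥ := Ideal.map_quotient_self _
    haveI : IsArtinianRing (B ⧸ (IsLocalRing.maximalIdeal A).map (algebraMap A B)) :=
      (isArtinianRing_iff_isNilpotent_maximalIdeal _).mpr hnil
    letI alg0 : Algebra (IsLocalRing.ResidueField A)
        (B ⧸ (IsLocalRing.maximalIdeal A).map (algebraMap A B)) :=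
      (Ideal.Quotient.lift (IsLocalRing.maximalIdeal A)
        ((Ideal.Quotient.mk ((IsLocalRing.maximalIdeal A).map (algebraMap A B))).comp
          (algebraMap A B))
        (fun a ha => by
          rw [RingHom.comp_apply, Ideal.Quotient.eq_zero_iff_mem]
          exact Ideal.mem_map_of_mem _ ha)).toAlgebra
    have hfs0 : CAlgX.IsAdicFormallySmooth (IsLocalRing.ResidueField A)
        (B ⧸ (IsLocalRing.maximalIdeal A).map (algebraMap A B))
        (IsLocalRing.maximalIdeal (B ⧸ (IsLocalRing.maximalIdeal A).map (algebraMap A B))) :=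
      Groth.Agent.Lead.RetractPS.fs_quotient (IsLocalRing.maximalIdeal B) hfs _ (fun a => rfl)
        le_rfl _ hmge
    -- pass to the prime field
    letI algF : Algebra (⊥ : Subfield (IsLocalRing.ResidueField A))
        (B ⧸ (IsLocalRing.maximalIdeal A).map (algebraMap A B)) :=
      ((algebraMap (IsLocalRing.ResidueField A)
        (B ⧸ (IsLocalRing.maximalIdeal A).map (algebraMap A B))).comp
        (⊥ : Subfield (IsLocalRing.ResidueField A)).subtype).toAlgebra
    haveI hST := IsScalarTower.of_algebraMap_eq
      (R := (⊥ : Subfield (IsLocalRing.ResidueField A))) (S := IsLocalRing.ResidueField A)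
      (A := B ⧸ (IsLocalRing.maximalIdeal A).map (algebraMap A B)) (fun x => rfl)
    have hF1 : Algebra.FormallySmooth (⊥ : Subfield (IsLocalRing.ResidueField A))
        (IsLocalRing.ResidueField A) :=
      Groth.Agent.H44.CoeffField.formallySmooth_bot' (IsLocalRing.ResidueField A)
        (IsLocalRing.ResidueField A)
    have h1 : EGA41.IsFormallySmoothAdic (⊥ : Subfield (IsLocalRing.ResidueField A)) ⊥
        (IsLocalRing.ResidueField A) ⊥ := by
      intro C _ _ J hJ _ u _
      exact Algebra.FormallySmooth.exists_lift J hJ u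
    have h2 := (Groth.Agent.S4537.result _).mp hfs0
    have h3 := Groth.Agent.S4534.result (⊥ : Ideal (⊥ : Subfield (IsLocalRing.ResidueField A)))
      (⊥ : Ideal (IsLocalRing.ResidueField A)) _ ⟨1, by simp⟩ ⟨1, by simp⟩ h1 h2
    have hfsF := (Groth.Agent.S4537.result _).mpr h3
    have hfsR : Algebra.FormallySmooth (⊥ : Subfield (IsLocalRing.ResidueField A))
        (IsLocalRing.ResidueField (B ⧸ (IsLocalRing.maximalIdeal A).map (algebraMap A B))) :=
      Groth.Agent.H44.CoeffField.formallySmooth_bot' (IsLocalRing.ResidueField A) _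
    haveI : Algebra.IsGeometricallyReduced (⊥ : Subfield (IsLocalRing.ResidueField A))
        (IsLocalRing.ResidueField (B ⧸ (IsLocalRing.maximalIdeal A).map (algebraMap A B))) :=
      Groth.Agent.S2451.result.1 hfsR
    have hbot := Groth.Agent.Lead.RetractPS.maximalIdeal_eq_bot_of_artinian hfsF
    have hfield : IsField (B ⧸ (IsLocalRing.maximalIdeal A).map (algebraMap A B)) :=
      IsLocalRing.isField_iff_maximalIdeal_eq.mpr hbot
    have hImax : ((IsLocalRing.maximalIdeal A).map (algebraMap A B)).IsMaximal :=
      Ideal.Quotient.maximal_of_isField _ hfield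
    have hwu : (IsLocalRing.maximalIdeal A).map (algebraMap A B) = IsLocalRing.maximalIdeal B :=
      IsLocalRing.eq_maximalIdeal hImax
    refine ⟨hwu, ?_⟩
    -- separability of the residue field extension
    letI algR : Algebra (IsLocalRing.ResidueField A) (B ⧸ IsLocalRing.maximalIdeal B) :=
      inferInstanceAs (Algebra (IsLocalRing.ResidueField A) (IsLocalRing.ResidueField B))
    have hfsK : CAlgX.IsAdicFormallySmooth (IsLocalRing.ResidueField A)
        (B ⧸ IsLocalRing.maximalIdeal B) ⊥ :=
      Groth.Agent.Lead.RetractPS.fs_quotient (IsLocalRing.maximalIdeal B) hfs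
        (IsLocalRing.maximalIdeal B) (fun a => rfl) (le_of_eq hwu.symm) ⊥
        (le_of_eq (Ideal.map_quotient_self _))
    have hFS : Algebra.FormallySmooth (IsLocalRing.ResidueField A) (IsLocalRing.ResidueField B) := by
      rw [Algebra.FormallySmooth.iff_comp_surjective]
      intro C _ _ J hJ ψ
      obtain ⟨χ, hχ⟩ := hfsK C J hJ ψ ⟨1, fun x hx => by
        rw [pow_one, Ideal.mem_bot] at hx
        rw [hx, map_zero]⟩
      exact ⟨χ, hχ⟩
    exact Groth.Agent.S2451.result.1 hFS
  · rintro ⟨hwu, hsep⟩
    have hmax : (IsLocalRing.maximalIdeal A).map (algebraMap A B) = IsLocalRing.maximalIdeal B := hwu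
    haveI : Module.Flat A B := Groth.Agent.Lead.CohenAlg.flat_of_dvr hmax
    have h1 := Groth.Agent.Lead.CohenAlg.isFormallySmoothAdic hmax hsep (IsLocalRing.maximalIdeal B)
    exact Groth.Agent.Lead.RetractPS.cAlgX_of_ega (IsLocalRing.maximalIdeal A)
      (IsLocalRing.maximalIdeal B) (le_of_eq hmax) h1

end Groth.Agent.S7134
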