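import Groth.Statements.S1983
import Groth.Agent.H10.SolAll
import Groth.Agent.H10.ValDVR
import Groth.Agent.H78.ValExt
import Groth.Agent.S7132
import Groth.Agent.S7134

set_option autoImplicit false
universe u
open EtAlg

namespace Groth.Agent.S1983

/-- Suppose A -> B makes the discrete valuation ring B an extension of the discrete valuation ring A,
with fraction fields K ⊂ L, and that this extension is weakly unramified with separable, i.e.
geometrically reduced and possibly transcendental, residue field extension (formally smooth for the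
adic topology). Then every finite extension K₁/K is a solution for A -> B. -/
theorem result (A B K L : Type u) [CommRing A] [IsDomain A] [IsDiscreteValuationRing A]
    [CommRing B] [IsDomain B] [IsDiscreteValuationRing B] [Algebra A B] [IsLocalHom (algebraMap A B)]
    (hinj : Function.Injective (algebraMap A B))
    [Field K] [Field L] [Algebra A K] [IsFractionRing A K] [Algebra B L] [IsFractionRing B L]
    [Algebra K L] [Algebra A L] [IsScalarTower A K L] [IsScalarTower A B L]
    (hw : EtRam.IsWeaklyUnramified A B) [Algebra.IsGeometricallyReduced (IsLocalRing.ResidueField A) (IsLocalRing.ResidueField B)]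
    (K₁ : Type u) [Field K₁] [Algebra K K₁] [FiniteDimensional K K₁] : EtRam.IsSolution B K L K₁ := by
  classical
  intro M _ _ _ _ _ _ hadj W hW
  -- `V₁ = W ∩ K₁`
  letI algAK₁ : Algebra A K₁ := ((algebraMap K K₁).comp (algebraMap A K)).toAlgebra
  haveI : IsScalarTower A K K₁ := IsScalarTower.of_algebraMap_eq (fun _ => rfl)
  letI algBM : Algebra B M := ((algebraMap L M).comp (algebraMap B L)).toAlgebra
  haveI : IsScalarTower B L M := IsScalarTower.of_algebraMap_eq (fun _ => rfl)
  have hcompat : ∀ a : A, algebraMap K₁ M (algebraMap A K₁ a) =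
      algebraMap B M (algebraMap A B a) := by
    intro a
    show algebraMap K₁ M (algebraMap K K₁ (algebraMap A K a)) =
      algebraMap L M (algebraMap B L (algebraMap A B a))
    rw [← IsScalarTower.algebraMap_apply K K₁ M, IsScalarTower.algebraMap_apply K L M,
      ← IsScalarTower.algebraMap_apply A K L, ← IsScalarTower.algebraMap_apply A B L]
  have hWB : EtRam.Dominates B (algebraMap B M) W := hW
  let V : ValuationSubring K₁ := W.comap (algebraMap K₁ M)
  have hV : EtRam.Dominates A (algebraMap A K₁) V := by
    show EtRam.Dominates A (algebraMap A K₁) (W.comap (algebraMap K₁ M))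
    rw [Groth.Agent.H78.ValExt.dominates_comap_iff]
    refine ⟨fun a => ?_, fun a ha => ?_⟩
    · show algebraMap K₁ M (algebraMap A K₁ a) ∈ W
      rw [hcompat]; exact hWB.1 _
    · show W.valuation (algebraMap K₁ M (algebraMap A K₁ a)) < 1
      rw [hcompat]
      exact hWB.2 _ ((IsLocalRing.mem_maximalIdeal _).mpr (fun hu =>
        ((IsLocalRing.mem_maximalIdeal _).mp ha) (isUnit_of_map_unit (algebraMap A B) a hu)))
  haveI hVdvr : IsDiscreteValuationRing V :=
    Groth.Agent.H10.ValDVR.isDVR_of_dominates_finite A K K₁ V hV
  haveI hfinLM : FiniteDimensional L M :=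
    Groth.Agent.H10.ValDVR.finite_of_adjoin_eq_top K L K₁ M hadj
  haveI hWdvr : IsDiscreteValuationRing W :=
    Groth.Agent.H10.ValDVR.isDVR_of_dominates_finite B L M W hWB
  -- algebra structures
  letI algAV : Algebra A V := (RingHom.codRestrict (algebraMap A K₁) V hV.1).toAlgebra
  haveI hlocAV : IsLocalHom (algebraMap A V) := ⟨fun a ha => by
    by_contra hna
    have h1 : V.valuation (algebraMap A K₁ a) < 1 :=
      hV.2 a ((IsLocalRing.mem_maximalIdeal _).mpr hna)
    have h2 : V.valuation ((algebraMap A V a : V) : K₁) = 1 :=
      (ValuationSubring.valuation_eq_one_iff V _).mp ha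
    exact absurd h2 (ne_of_lt h1)⟩
  letI algBW : Algebra B W := (RingHom.codRestrict (algebraMap B M) W hWB.1).toAlgebra
  haveI hlocBW : IsLocalHom (algebraMap B W) := ⟨fun b hb => by
    by_contra hnb
    have h1 : W.valuation (algebraMap B M b) < 1 :=
      hWB.2 b ((IsLocalRing.mem_maximalIdeal _).mpr hnb)
    have h2 : W.valuation ((algebraMap B W b : W) : M) = 1 :=
      (ValuationSubring.valuation_eq_one_iff W _).mp hb
    exact absurd h2 (ne_of_lt h1)⟩
  letI algVW : Algebra V W := (EtRam.inclOfComap W (algebraMap K₁ M)).toAlgebra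
  haveI hlocVW : IsLocalHom (algebraMap V W) := EtRam.isLocalHom_inclOfComap W (algebraMap K₁ M)
  letI algAW : Algebra A W := ((algebraMap B W).comp (algebraMap A B)).toAlgebra
  haveI : IsScalarTower A B W := IsScalarTower.of_algebraMap_eq (fun _ => rfl)
  haveI : IsScalarTower A V W := IsScalarTower.of_algebraMap_eq (fun a => by
    apply Subtype.ext
    show algebraMap B M (algebraMap A B a) = algebraMap K₁ M (algebraMap A K₁ a)
    rw [hcompat])
  haveI : IsScalarTower A V K₁ := IsScalarTower.of_algebraMap_eq (fun _ => rfl)
  have hinjAV : Function.Injective (algebraMap A V) := by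
    intro a a' h
    have h1 : algebraMap A K₁ a = algebraMap A K₁ a' := congrArg (fun v : V => (v : K₁)) h
    have hinjAK₁ : Function.Injective (algebraMap A K₁) :=
      (algebraMap K K₁).injective.comp (IsFractionRing.injective A K)
    exact hinjAK₁ h1
  haveI hfinres : Module.Finite (IsLocalRing.ResidueField A) (IsLocalRing.ResidueField V) :=
    (Groth.Agent.S7132.result A V K K₁ hinjAV).1
  have hinjVW : Function.Injective (algebraMap V W) := by
    intro v v' h
    have h1 : algebraMap K₁ M (v : K₁) = algebraMap K₁ M (v' : K₁) :=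
      congrArg (fun w : W => (w : M)) h
    exact Subtype.ext ((algebraMap K₁ M).injective h1)
  have hAB : CAlgX.IsAdicFormallySmooth A B (IsLocalRing.maximalIdeal B) :=
    (Groth.Agent.S7134.result A B hinj).mpr ⟨hw, inferInstance⟩
  have hgen : ∀ z : M, z ∈ Subfield.closure
      (Set.range ((algebraMap W M).comp (algebraMap B W)) ∪
        Set.range ((algebraMap W M).comp (algebraMap V W))) := by
    intro z
    have hz : z ∈ Algebra.adjoin L (Set.range (algebraMap K₁ M)) := by rw [hadj]; trivial
    induction hz using Algebra.adjoin_induction with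
    | mem x hx =>
      obtain ⟨x, rfl⟩ := hx
      have hVmem : ∀ v : K₁, v ∈ V → algebraMap K₁ M v ∈ Subfield.closure
          (Set.range ((algebraMap W M).comp (algebraMap B W)) ∪
            Set.range ((algebraMap W M).comp (algebraMap V W))) := by
        intro v hv
        exact Subfield.subset_closure (Or.inr ⟨⟨v, hv⟩, rfl⟩)
      rcases V.mem_or_inv_mem x with hx | hx
      · exact hVmem x hx
      · have h1 := hVmem x⁻¹ hx
        rw [map_inv₀] at h1
        have h2 := inv_mem h1
        rwa [inv_inv] at h2
    | algebraMap y =>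
      obtain ⟨b1, b2, -, rfl⟩ := IsFractionRing.div_surjective (A := B) y
      rw [map_div₀]
      refine div_mem ?_ ?_
      · exact Subfield.subset_closure (Or.inl ⟨b1, rfl⟩)
      · exact Subfield.subset_closure (Or.inl ⟨b2, rfl⟩)
    | add x y _ _ hx hy => exact add_mem hx hy
    | mul x y _ _ hx hy => exact mul_mem hx hy
  have hfs : CAlgX.IsAdicFormallySmooth V W (IsLocalRing.maximalIdeal W) :=
    Groth.Agent.H10.SolAll.adicFormallySmooth A V W M hw hinjVW hgen hAB
  obtain ⟨h1, h2⟩ := (Groth.Agent.S7134.result V W hinjVW).mp hfs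
  refine ⟨h1, ?_⟩
  have heq : (IsLocalRing.ResidueField.instAlgebra :
      Algebra (IsLocalRing.ResidueField V) (IsLocalRing.ResidueField W)) =
      (IsLocalRing.ResidueField.map (EtRam.inclOfComap W (algebraMap K₁ M))).toAlgebra := by
    apply Algebra.algebra_ext
    intro r
    obtain ⟨x, rfl⟩ := IsLocalRing.residue_surjective r
    rfl
  rw [← heq]
  exact h2

end Groth.Agent.S1983
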