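import Groth.Statements.S0538
import Groth.Agent.H47.HensK3

set_option autoImplicit false
universe u
open Hensel

namespace Groth.Agent.S0538

/-- The maximal ideal of the strict henselization of a local ring `R` is generated by the maximal ideal
of `R`. -/
theorem result (R : Type u) [CommRing R] [IsLocalRing R] (S : Type u) [CommRing S] [IsLocalRing S]
    [Algebra R S] [IsLocalHom (algebraMap R S)] [Hensel.IsStrictHenselization R S] :
    Ideal.map (algebraMap R S) (IsLocalRing.maximalIdeal R) = IsLocalRing.maximalIdeal S := by
  obtain ⟨e⟩ := Groth.Agent.H47.HensK.exists_algEquiv_Hsh R S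
  apply le_antisymm
  · exact ((IsLocalRing.local_hom_TFAE (algebraMap R S)).out 0 2).mp ‹IsLocalHom (algebraMap R S)›
  · intro y hy
    have hx : e.symm y ∈ IsLocalRing.maximalIdeal (Groth.Agent.H47.HensK.Hsh R) := by
      rw [IsLocalRing.mem_maximalIdeal, mem_nonunits_iff] at hy ⊢
      intro hu
      apply hy
      have := hu.map e
      rwa [AlgEquiv.apply_symm_apply] at this
    rw [← Groth.Agent.H47.HensK.map_maximalIdeal_H] at hx
    have h2 := Ideal.mem_map_of_mem e.toAlgHom.toRingHom hx
    have hc : e.toAlgHom.toRingHom.comp (algebraMap R (Groth.Agent.H47.HensK.Hsh R)) =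
        algebraMap R S := RingHom.ext fun r => e.commutes r
    rw [Ideal.map_map, hc] at h2
    have h5 : e.toAlgHom.toRingHom (e.symm y) = y := e.apply_symm_apply y
    rw [h5] at h2
    exact h2

end Groth.Agent.S0538
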