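import Groth.Statements.S18646
import Mathlib.RingTheory.GradedAlgebra.Basic
import Mathlib.RingTheory.FiniteStability
import Mathlib.RingTheory.FiniteType
import Mathlib.Tactic

set_option autoImplicit false
universe u
open scoped TensorProduct
open GrSegre

namespace Groth.Agent.S18646

section helpers

variable {k : Type u} [Field k] {R : Type u} [CommRing R] [Algebra k R]
  (𝒜 : ℤ → Submodule k R) [GradedAlgebra 𝒜]
  {S : Type u} [CommRing S] [Algebra k S] (ℬ : ℤ → Submodule k S) [GradedAlgebra ℬ]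

/-- `(a, s) ↦ a ⊗ proj_n s` on `𝒜 n × S` -/
noncomputable def Fn (n : ℤ) : 𝒜 n →ₗ[k] S →ₗ[k] R ⊗[k] S :=
  (TensorProduct.mk k R S).compl₁₂ (𝒜 n).subtype (GradedAlgebra.proj ℬ n)

/-- projection of `R ⊗ S` onto its diagonal part `⊕ R_n ⊗ S_n` -/
noncomputable def piLin : R ⊗[k] S →ₗ[k] R ⊗[k] S :=
  TensorProduct.lift ((DirectSum.toModule k ℤ (S →ₗ[k] R ⊗[k] S) (Fn 𝒜 ℬ)) ∘ₗ
    (DirectSum.decomposeLinearEquiv 𝒜).toLinearMap)

theorem piLin_tmul_of_mem {m : ℤ} {a : R} (ha : a ∈ 𝒜 m) (s : S) :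
    piLin 𝒜 ℬ (a ⊗ₜ[k] s) = a ⊗ₜ[k] (GradedAlgebra.proj ℬ m s) := by
  unfold piLin
  rw [TensorProduct.lift.tmul, LinearMap.comp_apply, LinearEquiv.coe_coe,
    DirectSum.decomposeLinearEquiv_apply, DirectSum.decompose_of_mem 𝒜 ha,
    ← DirectSum.lof_eq_of k, DirectSum.toModule_lof]
  rfl

theorem hom_induction {C : R ⊗[k] S → Prop} (zero : C 0) (add : ∀ x y, C x → C y → C (x + y))
    (tmul : ∀ (p : ℤ) (c : R) (_ : c ∈ 𝒜 p) (s : S), C (c ⊗ₜ[k] s)) (x : R ⊗[k] S) : C x := by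
  classical
  induction x using TensorProduct.induction_on with
  | zero => exact zero
  | tmul r s =>
    rw [← DirectSum.sum_support_decompose 𝒜 r, TensorProduct.sum_tmul]
    apply Finset.sum_induction _ C add zero
    intro p _
    exact tmul p _ (SetLike.coe_mem _) s
  | add x y hx hy => exact add x y hx hy

/-- the diagonal part of `R ⊗ S` -/
def Dsub : Submodule k (R ⊗[k] S) :=
  Submodule.span k {x | ∃ n : ℤ, ∃ a ∈ 𝒜 n, ∃ b ∈ ℬ n, x = a ⊗ₜ[k] b}

theorem piLin_mul_of_mem {n : ℤ} {a : R} (ha : a ∈ 𝒜 n) {b : S} (hb : b ∈ ℬ n) (x : R ⊗[k] S) :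
    piLin 𝒜 ℬ ((a ⊗ₜ[k] b) * x) = (a ⊗ₜ[k] b) * piLin 𝒜 ℬ x := by
  induction x using hom_induction 𝒜 with
  | zero => rw [mul_zero, map_zero, mul_zero]
  | add x y hx hy => rw [mul_add, map_add, hx, hy, map_add, mul_add]
  | tmul p c hc s =>
    rw [Algebra.TensorProduct.tmul_mul_tmul, piLin_tmul_of_mem 𝒜 ℬ (SetLike.GradedMul.mul_mem ha hc),
      piLin_tmul_of_mem 𝒜 ℬ hc, Algebra.TensorProduct.tmul_mul_tmul, GradedAlgebra.proj_apply,
      GradedAlgebra.proj_apply, DirectSum.coe_decompose_mul_add_of_left_mem ℬ hb]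

theorem piLin_mul_of_mem_Dsub {y : R ⊗[k] S} (hy : y ∈ Dsub 𝒜 ℬ) (x : R ⊗[k] S) :
    piLin 𝒜 ℬ (y * x) = y * piLin 𝒜 ℬ x := by
  unfold Dsub at hy
  induction hy using Submodule.span_induction with
  | mem y hy =>
    obtain ⟨n, a, ha, b, hb, rfl⟩ := hy
    exact piLin_mul_of_mem 𝒜 ℬ ha hb x
  | zero => rw [zero_mul, map_zero, zero_mul]
  | add y y' _ _ hy hy' => rw [add_mul, map_add, hy, hy', add_mul]
  | smul c y _ hy => rw [smul_mul_assoc, map_smul, hy, smul_mul_assoc]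

theorem piLin_of_mem_Dsub {y : R ⊗[k] S} (hy : y ∈ Dsub 𝒜 ℬ) : piLin 𝒜 ℬ y = y := by
  unfold Dsub at hy
  induction hy using Submodule.span_induction with
  | mem y hy =>
    obtain ⟨n, a, ha, b, hb, rfl⟩ := hy
    rw [piLin_tmul_of_mem 𝒜 ℬ ha, GradedAlgebra.proj_apply, DirectSum.decompose_of_mem_same ℬ hb]
  | zero => rw [map_zero]
  | add y y' _ _ hy hy' => rw [map_add, hy, hy']
  | smul c y _ hy => rw [map_smul, hy]

theorem piLin_mem_Dsub (x : R ⊗[k] S) : piLin 𝒜 ℬ x ∈ Dsub 𝒜 ℬ := by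
  induction x using hom_induction 𝒜 with
  | zero => rw [map_zero]; exact zero_mem _
  | add x y hx hy => rw [map_add]; exact add_mem hx hy
  | tmul p c hc s =>
    rw [piLin_tmul_of_mem 𝒜 ℬ hc, GradedAlgebra.proj_apply]
    exact Submodule.subset_span ⟨p, c, hc, _, SetLike.coe_mem _, rfl⟩

end helpers

/-- Let R and S be graded rings defined over a field k. Then their Segre product T = R # S is a
Noetherian ring (hence again a graded ring defined over k). Here a graded ring defined over k is a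
commutative k-algebra of finite type, graded in nonnegative degrees by k-subspaces with degree-zero
part k·1; the Segre product T = R # S = ⊕_n R_n ⊗_k S_n (graded by T_n = R_n ⊗_k S_n) is presented
abstractly as a graded k-algebra T with an injective k-algebra homomorphism ψ : T → R ⊗_k S carrying
T_n onto the k-span of the elementary tensors a ⊗ b with a ∈ R_n, b ∈ S_n, for every n. -/
theorem result (k : Type u) [Field k] (R : Type u) [CommRing R] [Algebra k R] (𝒜 : ℤ → Submodule k R) [GradedAlgebra 𝒜] (hposR : ∀ n : ℤ, n < 0 → 𝒜 n = ⊥) (h0R : 𝒜 0 = Submodule.span k {(1 : R)}) [Algebra.FiniteType k R] (S : Type u) [CommRing S] [Algebra k S] (ℬ : ℤ → Submodule k S) [GradedAlgebra ℬ] (hposS : ∀ n : ℤ, n < 0 → ℬ n = ⊥) (h0S : ℬ 0 = Submodule.span k {(1 : S)}) [Algebra.FiniteType k S] (T : Type u) [CommRing T] [Algebra k T] (𝒯 : ℤ → Submodule k T) [GradedAlgebra 𝒯] (ψ : T →ₐ[k] TensorProduct k R S) (hψ : Function.Injective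 ψ) (hdegT : ∀ n : ℤ, (𝒯 n).map ψ.toLinearMap = Submodule.span k {x : TensorProduct k R S | ∃ a ∈ 𝒜 n, ∃ b ∈ ℬ n, x = a ⊗ₜ[k] b}) : IsNoetherianRing T := by
  classical
  haveI : Algebra.FiniteType k (R ⊗[k] S) :=
    Algebra.FiniteType.trans (S := R) inferInstance inferInstance
  haveI : IsNoetherianRing (R ⊗[k] S) := Algebra.FiniteType.isNoetherianRing k _
  have hψmem : ∀ t : T, ψ t ∈ Dsub 𝒜 ℬ := by
    intro t
    rw [← DirectSum.sum_support_decompose 𝒯 t, map_sum]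
    apply Submodule.sum_mem
    intro n _
    have h1 : ψ ((DirectSum.decompose 𝒯 t n : 𝒯 n) : T) ∈ (𝒯 n).map ψ.toLinearMap :=
      Submodule.mem_map.mpr ⟨_, SetLike.coe_mem _, rfl⟩
    rw [hdegT n] at h1
    refine Submodule.span_mono ?_ h1
    rintro x ⟨a, ha, b, hb, hx⟩
    exact ⟨n, a, ha, b, hb, hx⟩
  have hDle : ∀ y ∈ Dsub 𝒜 ℬ, ∃ t : T, ψ t = y := by
    intro y hy
    have hle : Dsub 𝒜 ℬ ≤ LinearMap.range ψ.toLinearMap := by
      unfold Dsub
      rw [Submodule.span_le]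
      rintro _ ⟨n, a, ha, b, hb, rfl⟩
      have h1 : a ⊗ₜ[k] b ∈ (𝒯 n).map ψ.toLinearMap := by
        rw [hdegT n]; exact Submodule.subset_span ⟨a, ha, b, hb, rfl⟩
      obtain ⟨t, _, ht⟩ := Submodule.mem_map.mp h1
      exact ⟨t, ht⟩
    obtain ⟨t, ht⟩ := hle hy
    exact ⟨t, ht⟩
  -- contraction of extension is the identity
  have hcontr : ∀ I : Ideal T, Ideal.comap ψ (Ideal.map ψ I) = I := by
    intro I
    apply le_antisymm _ Ideal.le_comap_map
    intro t ht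
    rw [Ideal.mem_comap] at ht
    have key : ∀ z ∈ Submodule.span (R ⊗[k] S) (ψ '' (I : Set T)),
        ∃ i ∈ I, piLin 𝒜 ℬ z = ψ i := by
      intro z hz
      refine Submodule.closure_induction (p := fun z _ => ∃ i ∈ I, piLin 𝒜 ℬ z = ψ i)
        ?_ ?_ ?_ hz
      · exact ⟨0, I.zero_mem, by rw [map_zero, map_zero]⟩
      · rintro x y _ _ ⟨i, hi, hxi⟩ ⟨j, hj, hyj⟩
        exact ⟨i + j, I.add_mem hi hj, by rw [map_add, hxi, hyj, map_add]⟩
      · rintro r _ ⟨j, hj, rfl⟩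
        obtain ⟨y, hy⟩ := hDle _ (piLin_mem_Dsub 𝒜 ℬ r)
        refine ⟨j * y, I.mul_mem_right y hj, ?_⟩
        rw [smul_eq_mul, mul_comm, piLin_mul_of_mem_Dsub 𝒜 ℬ (hψmem j), ← hy, map_mul]
    obtain ⟨i, hi, hti⟩ := key _ ht
    rw [piLin_of_mem_Dsub 𝒜 ℬ (hψmem t)] at hti
    rw [hψ hti]
    exact hi
  rw [isNoetherianRing_iff, isNoetherian_iff']
  have hmono : StrictMono (fun I : Ideal T => Ideal.map ψ I) := by
    intro I J hIJ
    refine lt_of_le_of_ne (Ideal.map_mono hIJ.le) ?_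
    intro heq
    have : I = J := by rw [← hcontr I, ← hcontr J]; exact congrArg (Ideal.comap ψ) heq
    exact hIJ.ne this
  exact hmono.wellFoundedGT

end Groth.Agent.S18646
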