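import Groth.Statements.S9238
import Groth.Agent.H47.GeomBranchCount

set_option autoImplicit false
universe u
open Brnch

namespace Groth.Agent.S9238

/-- Let A be a local ring and S a strict henselization of A. Then the number of minimal prime ideals of
S, a natural number or infinity, equals the number of geometric branches of A as computed from the
integral closure of A_red in its total ring of fractions (maximal ideals counted with multiplicity
the separable degree of their residue field over that of A; infinity if A has infinitely many
minimal primes). -/
theorem result (A S : Type u) [CommRing A]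
    [IsLocalRing A] [CommRing S] [IsLocalRing S] [Algebra A S] [IsLocalHom (algebraMap A S)]
    [Hensel.IsStrictHenselization A S] :
    ENat.card (minimalPrimes S) = Brnch.numGeomBranches A := by
  classical
  have hind := Groth.Agent.H47.HensNoeth.isIndEtaleLocal_of_isStrictHenselization A S
  haveI : Module.Flat A S := hind.flat
  haveI : Module.FaithfullyFlat A S := hind.faithfullyFlat
  by_cases hfin : (minimalPrimes A).Finite
  · have hnb : Brnch.numGeomBranches A =
        ENat.card (Σ m' : MaximalSpectrum (CAlg2.normRed A), Brnch.Emb A m') := by
      unfold Brnch.numGeomBranches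
      rw [if_pos hfin]
    rw [hnb]
    haveI : HenselianLocalRing S := Hensel.IsStrictHenselization.henselian (R := A)
    haveI : Algebra.IsIntegral A (CAlg2.normRed A) :=
      Groth.Agent.H47.MinPrimeTensor.isIntegral_normRed A
    have hN : ∀ (N : Ideal (CAlg2.normRed A)) [N.IsMaximal],
        IsDomain (Localization.AtPrime N) ∧ IsIntegrallyClosed (Localization.AtPrime N) :=
      fun N _ => Groth.Agent.H47.BranchCount.normRed_localization A hfin N
    have hbij := Groth.Agent.H47.MinPrimeTensor.bijOn_minimalPrimes_normRed A S
    obtain ⟨f, hf, -⟩ := Groth.Agent.H47.BranchCount.exists_bijective_minimalPrimes_maximal A S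
      (CAlg2.normRed A) (fun m _ =>
        Groth.Agent.H47.BranchCount.locDom_of_isStrictHenselization A S (CAlg2.normRed A) hN m)
    rw [← ENat.card_congr (Set.BijOn.equiv _ hbij), ENat.card_congr (Equiv.ofBijective f hf)]
    exact Groth.Agent.H47.GeomBranchCount.card_maximal_eq A S (CAlg2.normRed A)
  · have hnb : Brnch.numGeomBranches A = ⊤ := by
      unfold Brnch.numGeomBranches
      rw [if_neg hfin]
    rw [hnb, ENat.card_eq_top]
    by_contra hS
    rw [not_infinite_iff_finite] at hS
    have hSfin : (minimalPrimes S).Finite := Set.toFinite _
    apply hfin
    have hinj : Function.Injective (algebraMap A S) := FaithfulSMul.algebraMap_injective A S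
    refine (hSfin.image (Ideal.comap (algebraMap A S))).subset ?_
    intro p hp
    have hp' : p ∈ ((⊥ : Ideal S).comap (algebraMap A S)).minimalPrimes := by
      rwa [Ideal.comap_bot_of_injective _ hinj]
    obtain ⟨p', hp'min, hp'eq⟩ := Ideal.exists_minimalPrimes_comap_eq (algebraMap A S) p hp'
    exact ⟨p', hp'min, hp'eq⟩

end Groth.Agent.S9238
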