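import Groth.Statements.S0552
import Mathlib
import Groth.Agent.H46.Catenary2
import Groth.Agent.S9124

set_option autoImplicit false
universe u
open CAlg

namespace Groth.Agent.S0552

/-- A ring is catenary if its localizations at maximal ideals are. -/
theorem isCatenary_of_forall_maximal (R : Type u) [CommRing R]
    (h : ∀ (m : Ideal R) [m.IsMaximal], CAlg.IsCatenary (Localization.AtPrime m)) :
    CAlg.IsCatenary R := by
  have hle : ∀ (m : Ideal R) [m.IsMaximal] (x y : PrimeSpectrum (Localization.AtPrime m)),
      PrimeSpectrum.comap (algebraMap R (Localization.AtPrime m)) x ≤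
        PrimeSpectrum.comap (algebraMap R (Localization.AtPrime m)) y ↔ x ≤ y := by
    intro m _ x y
    constructor
    · intro hxy
      have h1 : Ideal.comap (algebraMap R (Localization.AtPrime m)) x.asIdeal ≤
          Ideal.comap (algebraMap R (Localization.AtPrime m)) y.asIdeal := hxy
      have h2 := Ideal.map_mono (f := algebraMap R (Localization.AtPrime m)) h1
      rw [IsLocalization.map_under m.primeCompl (Localization.AtPrime m),
        IsLocalization.map_under m.primeCompl (Localization.AtPrime m)] at h2
      exact h2
    · intro hxy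
      exact Ideal.comap_mono (f := algebraMap R (Localization.AtPrime m)) hxy
  have hinj : ∀ (m : Ideal R) [m.IsMaximal],
      Function.Injective (PrimeSpectrum.comap (algebraMap R (Localization.AtPrime m))) := by
    intro m _ x y hxy
    exact le_antisymm ((hle m x y).mp hxy.le) ((hle m y x).mp hxy.ge)
  have hrange : ∀ (m : Ideal R) [m.IsMaximal] (r : PrimeSpectrum R), r.asIdeal ≤ m →
      r ∈ Set.range (PrimeSpectrum.comap (algebraMap R (Localization.AtPrime m))) := by
    intro m _ r hr
    rw [PrimeSpectrum.localization_comap_range (Localization.AtPrime m) m.primeCompl]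
    show Disjoint (m.primeCompl : Set R) r.asIdeal
    rw [Set.disjoint_left]
    intro x hx hxr
    exact hx (hr hxr)
  have hmax : ∀ q : PrimeSpectrum R, ∃ m : Ideal R, m.IsMaximal ∧ q.asIdeal ≤ m := fun q =>
    Ideal.exists_le_maximal _ q.2.ne_top
  constructor
  · intro p q hpq
    obtain ⟨m, hm, hqm⟩ := hmax q
    haveI := hm
    have hpm : p.asIdeal ≤ m := le_trans (show p.asIdeal ≤ q.asIdeal from hpq) hqm
    obtain ⟨p', rfl⟩ := hrange m p hpm
    obtain ⟨q', rfl⟩ := hrange m q hqm
    obtain ⟨n, hn⟩ := (h m).1 p' q' ((hle m p' q').mp hpq)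
    refine ⟨n, ?_⟩
    intro s hs hs'
    have hsr : ∀ i, s i ∈ Set.range (PrimeSpectrum.comap (algebraMap R (Localization.AtPrime m))) := by
      intro i
      apply hrange
      have h1 : s i ≤ s.last := s.strictMono.monotone (Fin.le_last i)
      rw [hs'] at h1
      exact le_trans (show (s i).asIdeal ≤ _ from h1) hqm
    obtain ⟨s', hlen, hhead, hlast, -⟩ := Groth.Agent.H46.exists_lift_series _ (hle m) s hsr
    rw [← hlen]
    apply hn s'
    · apply hinj m; rw [hhead, hs]
    · apply hinj m; rw [hlast, hs']
  · intro s t hst hst' hs ht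
    obtain ⟨m, hm, hqm⟩ := hmax s.last
    haveI := hm
    have hsr : ∀ i, s i ∈ Set.range (PrimeSpectrum.comap (algebraMap R (Localization.AtPrime m))) := by
      intro i
      apply hrange
      have h1 : s i ≤ s.last := s.strictMono.monotone (Fin.le_last i)
      exact le_trans (show (s i).asIdeal ≤ _ from h1) hqm
    have htr : ∀ i, t i ∈ Set.range (PrimeSpectrum.comap (algebraMap R (Localization.AtPrime m))) := by
      intro i
      apply hrange
      have h1 : t i ≤ t.last := t.strictMono.monotone (Fin.le_last i)
      rw [← hst'] at h1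
      exact le_trans (show (t i).asIdeal ≤ _ from h1) hqm
    obtain ⟨s', hlen, hhead, hlast, hsat⟩ := Groth.Agent.H46.exists_lift_series _ (hle m) s hsr
    obtain ⟨t', hlen', hhead', hlast', hsat'⟩ := Groth.Agent.H46.exists_lift_series _ (hle m) t htr
    rw [← hlen, ← hlen']
    apply (h m).2 s' t'
    · apply hinj m; rw [hhead, hhead', hst]
    · apply hinj m; rw [hlast, hlast', hst']
    · exact hsat hs
    · exact hsat' ht

/-- A ring is catenary exactly when its localization at every maximal ideal is catenary. -/
theorem result (R : Type u) [CommRing R] :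
    CAlg.IsCatenary R ↔ ∀ (m : Ideal R) [m.IsMaximal], CAlg.IsCatenary (Localization.AtPrime m) := by
  constructor
  · intro hR m hm
    exact Groth.Agent.S9124.result R m.primeCompl (Localization.AtPrime m) hR
  · intro h
    exact isCatenary_of_forall_maximal R h

end Groth.Agent.S0552
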