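import Groth.Statements.S16448
import Mathlib

set_option autoImplicit false
universe u
open EGA4loc

namespace Groth.Agent.S16448

open TensorProduct

theorem mem_minimalPrimes_of_disjoint {A : Type u} [CommRing A] [IsReduced A]
    (hmin : (minimalPrimes A).Finite) (p : Ideal A) [hp : p.IsPrime]
    (hd : Disjoint (p : Set A) (nonZeroDivisors A)) : p ∈ minimalPrimes A := by
  classical
  have hsub : (p : Set A) ⊆ ⋃ i ∈ (↑hmin.toFinset : Set (Ideal A)), ((id i : Ideal A) : Set A) := by
    intro x hx
    have hx' : x ∉ nonZeroDivisors A := fun h => Set.disjoint_left.mp hd hx h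
    rw [mem_nonZeroDivisors_iff_left] at hx'
    push Not at hx'
    obtain ⟨y, hxy, hy⟩ := hx'
    have h1 : x ∈ ⋃ q ∈ (⊥ : Ideal A).minimalPrimes, (q : Set A) := by
      rw [Ideal.iUnion_minimalPrimes]
      refine ⟨y, ?_, ?_⟩
      · rw [Ideal.radical_bot_of_isReduced]; simpa using hy
      · rw [hxy]; exact Ideal.zero_mem _
    rw [Set.mem_iUnion₂] at h1 ⊢
    obtain ⟨q, hq, hxq⟩ := h1
    exact ⟨q, by simpa [minimalPrimes] using hq, hxq⟩
  obtain ⟨i, hi, hpi⟩ := (Ideal.subset_union_prime (s := hmin.toFinset) (f := id) ⊥ ⊥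
    (fun i hi _ _ => ((hmin.mem_toFinset).mp hi).1.1)).mp hsub
  have hi' : i ∈ minimalPrimes A := (hmin.mem_toFinset).mp hi
  have : p = i := le_antisymm hpi (hi'.2 ⟨hp, bot_le⟩ hpi)
  rw [this]; exact hi'

theorem isArtinianRing_fractionRing {A : Type u} [CommRing A] [IsReduced A]
    (hmin : (minimalPrimes A).Finite) : IsArtinianRing (FractionRing A) := by
  classical
  let K := FractionRing A
  have hcm : ∀ P : Ideal K, P.IsPrime → P.comap (algebraMap A K) ∈ minimalPrimes A := by
    intro P hP
    apply mem_minimalPrimes_of_disjoint hmin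
    rw [Set.disjoint_left]
    intro a ha1 ha2
    exact hP.ne_top (Ideal.eq_top_of_isUnit_mem _ ha1 (IsLocalization.map_units K ⟨a, ha2⟩))
  have hinj : ∀ P P' : Ideal K,
      P.comap (algebraMap A K) = P'.comap (algebraMap A K) → P = P' := by
    intro P P' h
    have h' : P.under A = P'.under A := h
    rw [← IsLocalization.map_under (nonZeroDivisors A) K P,
      ← IsLocalization.map_under (nonZeroDivisors A) K P', h']
  haveI hfin : Finite (PrimeSpectrum K) := by
    haveI := hmin.to_subtype
    exact Finite.of_injective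
      (fun P : PrimeSpectrum K =>
        (⟨P.asIdeal.comap (algebraMap A K), hcm _ P.2⟩ : minimalPrimes A))
      (fun P P' h => PrimeSpectrum.ext (hinj _ _ (Subtype.ext_iff.mp h)))
  have hmax : ∀ P : PrimeSpectrum K, P.asIdeal.IsMaximal := by
    intro P
    obtain ⟨M, hM, hPM⟩ := Ideal.exists_le_maximal P.asIdeal P.2.ne_top
    have h1 := hcm P.asIdeal P.2
    have h2 := hcm M hM.isPrime
    have : P.asIdeal.comap (algebraMap A K) = M.comap (algebraMap A K) :=
      le_antisymm (Ideal.comap_mono hPM) (h2.2 ⟨h1.1.1, bot_le⟩ (Ideal.comap_mono hPM))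
    rw [hinj _ _ this]; exact hM
  have hcop : Pairwise (Function.onFun IsCoprime (fun P : PrimeSpectrum K => P.asIdeal)) := by
    intro P P' hne
    apply Ideal.coprime_of_no_prime_ge
    intro J hPJ hP'J hJ
    have e1 : P.asIdeal = J := (hmax P).eq_of_le hJ.ne_top hPJ
    have e2 : P'.asIdeal = J := (hmax P').eq_of_le hJ.ne_top hP'J
    exact hne (PrimeSpectrum.ext (e1.trans e2.symm))
  have hinf : ⨅ P : PrimeSpectrum K, P.asIdeal = ⊥ := by
    rw [eq_bot_iff]
    intro x hx
    rw [Ideal.mem_iInf] at hx
    have : IsNilpotent x := nilpotent_iff_mem_prime.mpr (fun J hJ => hx ⟨J, hJ⟩)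
    exact (Ideal.mem_bot).mpr this.eq_zero
  haveI : ∀ P : PrimeSpectrum K, IsArtinianRing (K ⧸ P.asIdeal) := fun P => by
    haveI := hmax P
    letI := Ideal.Quotient.field P.asIdeal
    infer_instance
  exact RingEquiv.isArtinianRing
    ((Ideal.quotientInfRingEquivPiQuotient _ hcop).symm.trans
      ((Ideal.quotEquivOfEq hinf).trans (RingEquiv.quotientBot K)))


/-- Let A be a reduced local ring with finitely many minimal prime ideals and E a local ring which is an
essentially etale local A-algebra with local structure map. Then the total ring of fractions K_E of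
E is the localization of E at the images of the non-zero-divisors of A — that is, K_E = E ⊗_A K_A —
and K_E is finite over K_A: for some finite subset t of K_E, every element of K_E multiplied by the
image of a suitable non-zero-divisor of A lies in the A-span of t. (The published statement is for a
reduced semilocal ring and a semilocal etale extension; this row treats a local ring and a local
etale extension.) -/
theorem result
    (A E : Type u) [CommRing A] [IsLocalRing A] [IsReduced A] (hmin : (minimalPrimes A).Finite)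
    [CommRing E] [IsLocalRing E] [Algebra A E] [IsLocalHom (algebraMap A E)]
    (hE : EGA4loc.IsEssentiallyEtale A E) :
    IsLocalization ((nonZeroDivisors A).map (algebraMap A E)) (FractionRing E) ∧
      ∃ t : Finset (FractionRing E), ∀ x : FractionRing E, ∃ a ∈ nonZeroDivisors A,
        algebraMap A (FractionRing E) a * x ∈ Submodule.span A (t : Set (FractionRing E)) := by
  classical
  obtain ⟨C, _, _, Q, hQ, hC, hQm, ⟨e⟩⟩ := hE
  haveI : Module.Flat A (Localization.AtPrime Q) := inferInstance
  haveI : Module.Flat A E := Module.Flat.of_linearEquiv e.toLinearEquiv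
  haveI : Algebra.QuasiFinite A (Localization.AtPrime Q) := inferInstance
  haveI : Algebra.QuasiFinite A E := (Algebra.QuasiFinite.iff_of_algEquiv e).mpr inferInstance
  have hle : (nonZeroDivisors A).map (algebraMap A E) ≤ nonZeroDivisors E := by
    rintro _ ⟨a, ha, rfl⟩
    have hreg : IsSMulRegular A a := by
      intro x y hxy
      have h0 : a * (x - y) = 0 := by
        rw [mul_sub, sub_eq_zero]; exact hxy
      exact sub_eq_zero.mp ((mem_nonZeroDivisors_iff_left.mp ha) _ h0)
    have h2 := IsSMulRegular.of_flat (S := E) hreg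
    refine mem_nonZeroDivisors_iff_left.mpr (fun x hx => h2 ?_)
    show algebraMap A E a • x = algebraMap A E a • 0
    rw [smul_zero, smul_eq_mul]; exact hx
  have hdvd : ∀ y ∈ nonZeroDivisors E,
      ∃ s ∈ (nonZeroDivisors A).map (algebraMap A E), y ∣ s := by
    intro y hy
    by_contra hcon
    push Not at hcon
    have hdisj : Disjoint ((Ideal.span {y} : Ideal E) : Set E)
        (((nonZeroDivisors A).map (algebraMap A E) : Submonoid E) : Set E) := by
      rw [Set.disjoint_left]
      intro s hs1 hs2
      exact hcon s hs2 (Ideal.mem_span_singleton.mp hs1)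
    obtain ⟨P, hP, hyP, hPd⟩ := Ideal.exists_le_prime_disjoint _ _ hdisj
    have hp_min : P.comap (algebraMap A E) ∈ minimalPrimes A := by
      apply mem_minimalPrimes_of_disjoint hmin
      rw [Set.disjoint_left]
      intro a ha1 ha2
      exact Set.disjoint_left.mp hPd ha1 ⟨a, ha2, rfl⟩
    have hP_min : P ∈ minimalPrimes E := by
      refine ⟨⟨hP, bot_le⟩, ?_⟩
      rintro P' ⟨hP', -⟩ hle'
      have h1 : P'.comap (algebraMap A E) = P.comap (algebraMap A E) :=
        le_antisymm (Ideal.comap_mono hle')
          (hp_min.2 ⟨inferInstance, bot_le⟩ (Ideal.comap_mono hle'))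
      exact (Algebra.QuasiFinite.eq_of_le_of_under_eq (R := A) P' P hle' h1).ge
    exact Set.disjoint_left.mp (Ideal.disjoint_nonZeroDivisors_of_mem_minimalPrimes hP_min)
      (hyP (Ideal.mem_span_singleton_self y)) hy
  have hloc : IsLocalization ((nonZeroDivisors A).map (algebraMap A E)) (FractionRing E) :=
    (IsLocalization.iff_of_le_of_exists_dvd (S := FractionRing E) _ (nonZeroDivisors E)
      hle hdvd).mpr inferInstance
  refine ⟨hloc, ?_⟩
  let K := FractionRing A
  haveI : IsArtinianRing K := isArtinianRing_fractionRing hmin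
  haveI : Algebra.QuasiFinite K (K ⊗[A] E) := inferInstance
  haveI : Module.Finite K (K ⊗[A] E) := Module.Finite.of_quasiFinite
  letI : Algebra E (K ⊗[A] E) := Algebra.TensorProduct.rightAlgebra
  haveI : IsLocalization (Algebra.algebraMapSubmonoid E (nonZeroDivisors A)) (K ⊗[A] E) :=
    IsLocalization.tensorRight (S := E) K (nonZeroDivisors A)
  haveI hloc' : IsLocalization (Algebra.algebraMapSubmonoid E (nonZeroDivisors A))
    (FractionRing E) := hloc
  let ψ : K ⊗[A] E ≃ₐ[E] FractionRing E :=
    IsLocalization.algEquiv (Algebra.algebraMapSubmonoid E (nonZeroDivisors A)) _ _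
  let ψA : K ⊗[A] E ≃ₐ[A] FractionRing E := ψ.restrictScalars A
  obtain ⟨t', ht'⟩ := (Module.Finite.fg_top (R := K) (M := K ⊗[A] E))
  have key : ∀ x' : K ⊗[A] E, ∃ a ∈ nonZeroDivisors A,
      a • x' ∈ Submodule.span A (t' : Set (K ⊗[A] E)) := by
    intro x'
    have hx' : x' ∈ Submodule.span K (t' : Set (K ⊗[A] E)) := by rw [ht']; trivial
    rw [Submodule.mem_span_finset'] at hx'
    obtain ⟨f, rfl⟩ := hx'
    obtain ⟨b, hb⟩ := IsLocalization.exist_integer_multiples (nonZeroDivisors A) Finset.univ f
    refine ⟨b, b.2, ?_⟩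
    rw [Finset.smul_sum]
    refine Submodule.sum_mem _ (fun i _ => ?_)
    obtain ⟨a, ha⟩ := hb i (Finset.mem_univ i)
    rw [← smul_assoc, ← ha, algebraMap_smul]
    exact Submodule.smul_mem _ _ (Submodule.subset_span i.2)
  refine ⟨t'.image ψA, fun x => ?_⟩
  obtain ⟨a, ha, hax⟩ := key (ψA.symm x)
  refine ⟨a, ha, ?_⟩
  have h3 : algebraMap A (FractionRing E) a * x = ψA (a • ψA.symm x) := by
    rw [map_smul, AlgEquiv.apply_symm_apply, Algebra.smul_def]
  rw [h3, Finset.coe_image]
  exact Submodule.apply_mem_span_image_of_mem_span ψA.toLinearMap hax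

end Groth.Agent.S16448
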