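import Groth.Statements.S17973
import Mathlib

set_option autoImplicit false
universe u
open EGA4loc

namespace Groth.Agent.S17973

open TensorProduct

theorem isLocalization_of_tensorEquiv {S T D B' : Type u} [CommRing S] [CommRing T] [CommRing D]
    [CommRing B'] [Algebra S T] [Algebra S D]
    [Algebra T B'] [Algebra S B'] [IsScalarTower S T B'] (M : Submonoid S) [IsLocalization M T]
    (e : T ⊗[S] D ≃ₐ[T] B') :
    @IsLocalization D _ (Algebra.algebraMapSubmonoid D M) B' _
      ((e.toAlgHom.restrictScalars S).comp
        (Algebra.TensorProduct.includeRight : D →ₐ[S] T ⊗[S] D)).toRingHom.toAlgebra := by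
  letI : Algebra D (T ⊗[S] D) := Algebra.TensorProduct.rightAlgebra
  haveI : IsLocalization (Algebra.algebraMapSubmonoid D M) (T ⊗[S] D) :=
    IsLocalization.tensorRight (S := D) T M
  letI : Algebra D B' := ((e.toAlgHom.restrictScalars S).comp
        (Algebra.TensorProduct.includeRight : D →ₐ[S] T ⊗[S] D)).toRingHom.toAlgebra
  let e' : T ⊗[S] D ≃ₐ[D] B' := AlgEquiv.ofRingEquiv (f := e.toRingEquiv) (fun x => rfl)
  exact IsLocalization.isLocalization_of_algEquiv _ e'

/-- Spreading out a finitely presented algebra over a localization. -/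
theorem exists_model {S T B' : Type u} [CommRing S] [CommRing T] [CommRing B'] [Algebra S T]
    [Algebra T B'] [Algebra S B'] [IsScalarTower S T B'] (M : Submonoid S) [IsLocalization M T]
    [Algebra.FinitePresentation T B'] :
    ∃ (D : Type u) (_ : CommRing D) (_ : Algebra S D) (_ : Algebra.FinitePresentation S D)
      (φ : D →ₐ[S] B'),
      @IsLocalization D _ (Algebra.algebraMapSubmonoid D M) B' _ φ.toRingHom.toAlgebra := by
  classical
  let P₀ := Algebra.Presentation.ofFinitePresentation T B'
  obtain ⟨b, hb⟩ := IsLocalization.exist_integer_multiples_of_finset M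
    (Finset.univ.biUnion fun i => (P₀.relation i).coeffs)
  have hbu : IsUnit (algebraMap S T b) := IsLocalization.map_units T b
  obtain ⟨u, hu⟩ := hbu
  have hsm : ∀ p : P₀.toGenerators.Ring, ((b : S) • p) = MvPolynomial.C (u : T) * p := by
    intro p
    rw [hu, ← MvPolynomial.smul_eq_C_mul, algebraMap_smul]
  let P : Algebra.Presentation T B' _ _ :=
    { toGenerators := P₀.toGenerators
      relation := fun i => (b : S) • P₀.relation i
      span_range_relation_eq_ker := by
        rw [← P₀.span_range_relation_eq_ker]
        apply le_antisymm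
        · rw [Ideal.span_le]
          rintro _ ⟨i, rfl⟩
          show (b : S) • P₀.relation i ∈ _
          rw [hsm]
          exact Ideal.mul_mem_left _ _ (Ideal.subset_span ⟨i, rfl⟩)
        · rw [Ideal.span_le]
          rintro _ ⟨i, rfl⟩
          have : P₀.relation i =
              MvPolynomial.C ((u⁻¹ : Tˣ) : T) * ((b : S) • P₀.relation i) := by
            rw [hsm, ← mul_assoc, ← MvPolynomial.C_mul, Units.inv_mul, MvPolynomial.C_1, one_mul]
          rw [SetLike.mem_coe, this]
          exact Ideal.mul_mem_left _ _ (Ideal.subset_span ⟨i, rfl⟩) }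
  haveI : P.HasCoeffs S := ⟨by
    intro c hc
    simp only [Algebra.Presentation.coeffs, Set.mem_iUnion, Finset.mem_coe] at hc
    obtain ⟨i, hc⟩ := hc
    rw [MvPolynomial.mem_coeffs_iff] at hc
    obtain ⟨n, hn, rfl⟩ := hc
    show MvPolynomial.coeff n ((b : S) • P₀.relation i) ∈ _
    rw [MvPolynomial.coeff_smul]
    by_cases h0 : MvPolynomial.coeff n (P₀.relation i) = 0
    · rw [h0, smul_zero]; exact ⟨0, map_zero _⟩
    · obtain ⟨y, hy⟩ := hb _ (Finset.mem_biUnion.mpr
        ⟨i, Finset.mem_univ _, MvPolynomial.coeff_mem_coeffs _ h0⟩)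
      exact ⟨y, hy⟩⟩
  exact ⟨P.ModelOfHasCoeffs S, inferInstance, inferInstance, inferInstance, _,
    isLocalization_of_tensorEquiv M (P.tensorModelOfHasCoeffsEquiv S)⟩

/-- A localization at a prime of a finitely presented algebra which is formally etale is a
localization of an etale algebra. -/
theorem exists_etale_model {A D X : Type u} [CommRing A] [CommRing D] [CommRing X] [Algebra A D]
    [Algebra A X] [Algebra D X] [IsScalarTower A D X] [Algebra.FinitePresentation A D]
    (Q : Ideal D) [Q.IsPrime] [IsLocalization.AtPrime X Q] [Algebra.FormallyEtale A X] :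
    ∃ (E : Type u) (_ : CommRing E) (_ : Algebra A E) (Q' : Ideal E) (_ : Q'.IsPrime),
      Algebra.Etale A E ∧ Q'.comap (algebraMap A E) = Q.comap (algebraMap A D) ∧
      Nonempty (X ≃ₐ[A] Localization.AtPrime Q') := by
  haveI : Algebra.IsEtaleAt A Q :=
    Algebra.FormallyEtale.of_equiv
      ((IsLocalization.algEquiv Q.primeCompl X (Localization.AtPrime Q)).restrictScalars A)
  obtain ⟨f, hf, hE⟩ := Algebra.exists_etale_of_isEtaleAt (R := A) Q
  have hdisj : Disjoint (Submonoid.powers f : Set D) (Q : Set D) := by
    rw [Ideal.disjoint_powers_iff_notMem _ (Ideal.IsPrime.isRadical ‹_›)]; exact hf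
  let E := Localization.Away f
  let Q' : Ideal E := Q.map (algebraMap D E)
  haveI hQ' : Q'.IsPrime :=
    IsLocalization.isPrime_of_isPrime_disjoint (Submonoid.powers f) E Q ‹_› hdisj
  have hcomap : Q'.comap (algebraMap D E) = Q :=
    IsLocalization.under_map_of_isPrime_disjoint (Submonoid.powers f) E ‹_› hdisj
  haveI h1 : IsLocalization.AtPrime (Localization.AtPrime Q') (Q'.comap (algebraMap D E)) :=
    IsLocalization.isLocalization_isLocalization_atPrime_isLocalization (Submonoid.powers f) _ Q'
  have hM : (Q'.comap (algebraMap D E)).primeCompl = Q.primeCompl := by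
    ext x
    show x ∉ Q'.comap (algebraMap D E) ↔ x ∉ Q
    rw [hcomap]
  haveI h2 : IsLocalization Q.primeCompl (Localization.AtPrime Q') := hM ▸ h1
  refine ⟨E, inferInstance, inferInstance, Q', hQ', hE, ?_,
    ⟨(IsLocalization.algEquiv Q.primeCompl X (Localization.AtPrime Q')).restrictScalars A⟩⟩
  rw [IsScalarTower.algebraMap_eq A D E, ← Ideal.comap_comap, hcomap]


/-- Let A be a local ring, B a local ring which is a local-etale A-algebra (isomorphic over A to the
localization of an etale A-algebra at a prime ideal lying over the maximal ideal of A), and C a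
local-etale B-algebra, regarded as an A-algebra through B. Then C is a local-etale A-algebra. -/
theorem result (A : Type u) [CommRing A] [IsLocalRing A]
    (B : Type u) [CommRing B] [IsLocalRing B] [Algebra A B]
    (C : Type u) [CommRing C] [Algebra B C] [Algebra A C] [IsScalarTower A B C]
    (hB : EGA4loc.IsEssentiallyEtale A B) (hC : EGA4loc.IsEssentiallyEtale B C) :
    EGA4loc.IsEssentiallyEtale A C := by
  obtain ⟨A', _, _, q, hqp, hA', hq, ⟨eB⟩⟩ := hB
  obtain ⟨B', _, _, r, hrp, hB', hr, ⟨eC⟩⟩ := hC
  letI algA'B : Algebra A' B :=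
    (eB.symm.toRingEquiv.toRingHom.comp (algebraMap A' (Localization.AtPrime q))).toAlgebra
  haveI : IsScalarTower A A' B := IsScalarTower.of_algebraMap_eq (fun a => by
    show algebraMap A B a = eB.symm (algebraMap A' (Localization.AtPrime q) (algebraMap A A' a))
    rw [← IsScalarTower.algebraMap_apply A A' (Localization.AtPrime q), eB.symm.commutes])
  haveI : IsLocalization.AtPrime B q :=
    IsLocalization.isLocalization_of_algEquiv q.primeCompl
      (AlgEquiv.ofRingEquiv (f := eB.symm.toRingEquiv) (fun x => rfl) :
        Localization.AtPrime q ≃ₐ[A'] B)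
  letI : Algebra A' B' := ((algebraMap B B').comp (algebraMap A' B)).toAlgebra
  haveI : IsScalarTower A' B B' := IsScalarTower.of_algebraMap_eq' rfl
  obtain ⟨D, _, _, hDfp, φ, hloc⟩ := exists_model (S := A') (T := B) (B' := B') q.primeCompl
  letI : Algebra D B' := φ.toRingHom.toAlgebra
  haveI : IsScalarTower A' D B' := IsScalarTower.of_algebraMap_eq (fun x => (φ.commutes x).symm)
  haveI : IsLocalization (Algebra.algebraMapSubmonoid D q.primeCompl) B' := hloc
  letI : Algebra A B' := ((algebraMap B B').comp (algebraMap A B)).toAlgebra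
  haveI : IsScalarTower A B B' := IsScalarTower.of_algebraMap_eq' rfl
  haveI : IsScalarTower A A' B' := IsScalarTower.of_algebraMap_eq (fun x => by
    show algebraMap B B' (algebraMap A B x) = algebraMap B B' (algebraMap A' B (algebraMap A A' x))
    rw [← IsScalarTower.algebraMap_apply A A' B])
  letI : Algebra A D := ((algebraMap A' D).comp (algebraMap A A')).toAlgebra
  haveI : IsScalarTower A A' D := IsScalarTower.of_algebraMap_eq' rfl
  haveI : IsScalarTower A D B' := IsScalarTower.of_algebraMap_eq (fun x => by
    show algebraMap A B' x = algebraMap D B' (algebraMap A' D (algebraMap A A' x))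
    rw [← IsScalarTower.algebraMap_apply A' D B', ← IsScalarTower.algebraMap_apply A A' B'])
  haveI : Algebra.FinitePresentation A D := Algebra.FinitePresentation.trans A A' D
  haveI : IsLocalization.AtPrime (Localization.AtPrime r) (r.comap (algebraMap D B')) :=
    IsLocalization.isLocalization_isLocalization_atPrime_isLocalization
      (Algebra.algebraMapSubmonoid D q.primeCompl) _ r
  haveI : Algebra.FormallyEtale A' B := Algebra.FormallyEtale.of_isLocalization q.primeCompl
  haveI : Algebra.FormallyEtale A B := Algebra.FormallyEtale.comp A A' B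
  haveI : Algebra.FormallyEtale A B' := Algebra.FormallyEtale.comp A B B'
  haveI : Algebra.FormallyEtale A (Localization.AtPrime r) :=
    Algebra.FormallyEtale.comp A B' (Localization.AtPrime r)
  obtain ⟨E, _, _, Q', hQ', hE, hcm, ⟨eX⟩⟩ :=
    exists_etale_model (A := A) (D := D) (X := Localization.AtPrime r) (r.comap (algebraMap D B'))
  refine ⟨E, inferInstance, inferInstance, Q', hQ', hE, ?_, ⟨(eC.restrictScalars A).trans eX⟩⟩
  rw [hcm, Ideal.comap_comap, ← IsScalarTower.algebraMap_eq A D B',
    IsScalarTower.algebraMap_eq A B B', ← Ideal.comap_comap, hr,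
    IsScalarTower.algebraMap_eq A A' B, ← Ideal.comap_comap]
  have h3 := IsLocalization.AtPrime.under_maximalIdeal B q
  rw [Ideal.under_def] at h3
  rw [h3, hq]

end Groth.Agent.S17973
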