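import Groth.Statements.S16438
import Mathlib
import Groth.Agent.H47.HensNoeth2
import Groth.Agent.H3.FlatDescent
import Groth.Agent.S17973

set_option autoImplicit false
universe u
open EGA4loc

namespace Groth.Agent.S16438

open scoped TensorProduct


open IsLocalRing in
/-- Let A be a Noetherian local ring with maximal ideal m, S a strict henselization of A, and D an
A-subalgebra of S which is a local ring dominated by S (the inclusion is local), essentially of
finite type over A, and such that m D is the maximal ideal of D. Then D is an essentially etale
local A-algebra: A-isomorphic to the localization of an etale A-algebra at a prime over m. (The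
published statement also assumes the total ring of fractions of D finitely generated over that of A;
for D essentially of finite type over A and dominated by S this is automatic, D then lying in a
local etale subextension of S, so that hypothesis is omitted here.) -/
theorem result
    (A S : Type u) [CommRing A] [IsLocalRing A] [IsNoetherianRing A]
    [CommRing S] [IsLocalRing S] [Algebra A S] [IsLocalHom (algebraMap A S)]
    [Hensel.IsStrictHenselization A S] (D : Subalgebra A S) [IsLocalRing D]
    [IsLocalHom (algebraMap D S)] [Algebra.EssFiniteType A D]
    (hm : Ideal.map (algebraMap A D) (maximalIdeal A) = maximalIdeal D) :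
    EGA4loc.IsEssentiallyEtale A D := by
  classical
  have hI := Groth.Agent.H47.HensNoeth.isIndEtaleLocal_of_isStrictHenselization A S
  haveI : Module.Flat A S := hI.flat
  haveI hAD : IsLocalHom (algebraMap A D) := by
    haveI : IsLocalHom ((algebraMap D S).comp (algebraMap A D)) := by
      rw [← IsScalarTower.algebraMap_eq A D S]; infer_instance
    exact isLocalHom_of_comp (algebraMap A D) (algebraMap D S)
  have hsc : IsSepClosure (ResidueField A) (ResidueField S) :=
    (inferInstance : Hensel.IsStrictHenselization A S).isSepClosure
  haveI : Algebra.IsSeparable (ResidueField A) (ResidueField S) := hsc.separable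
  haveI : Algebra.IsSeparable (ResidueField A) (ResidueField D) :=
    Algebra.isSeparable_tower_bot_of_isSeparable (ResidueField A) (ResidueField D)
      (ResidueField S)
  haveI : Algebra.FormallyUnramified A D := Algebra.FormallyUnramified.of_map_maximalIdeal hm
  haveI : Module.Flat D S := Algebra.FormallyUnramified.flat_of_restrictScalars A D S
  haveI : Module.FaithfullyFlat D S := Module.FaithfullyFlat.of_flat_of_isLocalHom
  haveI : Module.Flat A D := Groth.Agent.H3.flat_of_flat_of_faithfullyFlat A D S
  obtain ⟨D₀, M, hft, hloc⟩ := (Algebra.essFiniteType_iff_exists_subalgebra A D).mp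
    (inferInstance : Algebra.EssFiniteType A D)
  haveI := hft
  haveI := hloc
  haveI : Algebra.FinitePresentation A D₀ :=
    Algebra.FinitePresentation.of_finiteType.mp inferInstance
  haveI : Algebra.FormallyEtale (ResidueField A) (ResidueField D) :=
    Algebra.FormallyEtale.of_isSeparable _ _
  let e1 := Algebra.TensorProduct.quotIdealMapEquivQuotTensor D (maximalIdeal A)
  let e2 : ResidueField D ≃+* (D ⧸ (maximalIdeal A).map (algebraMap A D)) :=
    Ideal.quotEquivOfEq hm.symm
  let e3 : ResidueField D ≃ₐ[ResidueField A] (ResidueField A) ⊗[A] D :=
    AlgEquiv.ofRingEquiv (f := e2.trans e1.toRingEquiv) (by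
      intro x
      obtain ⟨a, rfl⟩ := residue_surjective x
      show e1 (e2 (algebraMap (ResidueField A) (ResidueField D) (residue A a))) = _
      have h : e2 (algebraMap (ResidueField A) (ResidueField D) (residue A a)) =
          algebraMap (A ⧸ maximalIdeal A) (D ⧸ (maximalIdeal A).map (algebraMap A D))
            (Ideal.Quotient.mk _ a) := rfl
      rw [h, e1.commutes]
      rfl)
  haveI : Algebra.FormallySmooth (ResidueField A) ((ResidueField A) ⊗[A] D) :=
    Algebra.FormallySmooth.of_equiv e3
  haveI : Algebra.FormallySmooth A D :=
    Algebra.FormallySmooth.of_formallySmooth_residueField_tensor (R := A) (S := D) (P := D₀) M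
  haveI : Algebra.FormallyEtale A D :=
    Algebra.FormallyEtale.of_formallyUnramified_and_formallySmooth
  let q : Ideal D₀ := (maximalIdeal D).comap (algebraMap D₀ D)
  haveI : q.IsPrime := Ideal.comap_isPrime _ _
  haveI : IsLocalization.AtPrime D q := by
    refine IsLocalization.of_le M q.primeCompl ?_ ?_
    · intro x hx hxq
      have h1 : IsUnit (algebraMap D₀ D x) := IsLocalization.map_units D ⟨x, hx⟩
      exact (IsLocalRing.mem_maximalIdeal _).mp hxq h1
    · intro r hr
      by_contra hnu
      exact hr ((IsLocalRing.mem_maximalIdeal _).mpr hnu)
  obtain ⟨Eet, _, _, Q', hQ', hEt, hcm, ⟨eX⟩⟩ :=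
    Groth.Agent.S17973.exists_etale_model (A := A) (D := D₀) (X := D) q
  refine ⟨Eet, inferInstance, inferInstance, Q', hQ', hEt, ?_, ⟨eX⟩⟩
  rw [hcm, Ideal.comap_comap, ← IsScalarTower.algebraMap_eq A D₀ D]
  exact ((IsLocalRing.local_hom_TFAE (algebraMap A D)).out 0 4).mp hAD

end Groth.Agent.S16438
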