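import Groth.Statements.S17977
import Mathlib.RingTheory.Unramified.LocalStructure
import Mathlib.RingTheory.QuasiFinite.Basic
import Mathlib.RingTheory.LocalRing.RingHom.Basic

set_option autoImplicit false
universe u
open EGA4loc

namespace Groth.Agent.S17977

/-- Let A be a local ring, B a local ring which is a local-etale A-algebra, and C a local ring with a
local structure map A → C. Then every A-algebra homomorphism B → C is local. (The source states this
for local ind-etale B, i.e. filtered colimits of local-etale algebras along local maps, and reduces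
at once to the local-etale case stated here.) -/
theorem result (A : Type u) [CommRing A] [IsLocalRing A]
    (B : Type u) [CommRing B] [IsLocalRing B] [Algebra A B] (hB : EGA4loc.IsEssentiallyEtale A B)
    (C : Type u) [CommRing C] [IsLocalRing C] [Algebra A C] [IsLocalHom (algebraMap A C)]
    (φ : B →ₐ[A] C) : IsLocalHom φ.toRingHom := by
  obtain ⟨C₀, _, _, q, hq, hEt, hqA, ⟨e⟩⟩ := hB
  haveI := hq
  haveI : Algebra.Etale A C₀ := hEt
  haveI : Algebra.QuasiFinite A (Localization.AtPrime q) := inferInstance
  let φ' : Localization.AtPrime q →ₐ[A] C := φ.comp e.symm.toAlgHom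
  let P' : Ideal (Localization.AtPrime q) := (IsLocalRing.maximalIdeal C).comap φ'.toRingHom
  haveI hP' : P'.IsPrime := Ideal.comap_isPrime _ _
  have hle : P' ≤ IsLocalRing.maximalIdeal (Localization.AtPrime q) :=
    IsLocalRing.le_maximalIdeal hP'.ne_top
  have hu1 : P'.under A = IsLocalRing.maximalIdeal A := by
    change Ideal.comap (algebraMap A (Localization.AtPrime q)) (Ideal.comap φ'.toRingHom _) = _
    rw [Ideal.comap_comap]
    have : φ'.toRingHom.comp (algebraMap A (Localization.AtPrime q)) = algebraMap A C := by
      ext a; exact φ'.commutes a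
    rw [this]
    exact IsLocalRing.maximalIdeal_comap (algebraMap A C)
  have hu2 : (IsLocalRing.maximalIdeal (Localization.AtPrime q)).under A =
      IsLocalRing.maximalIdeal A := by
    change Ideal.comap (algebraMap A (Localization.AtPrime q)) _ = _
    rw [IsScalarTower.algebraMap_eq A C₀ (Localization.AtPrime q), ← Ideal.comap_comap]
    have h3 : Ideal.comap (algebraMap C₀ (Localization.AtPrime q))
        (IsLocalRing.maximalIdeal (Localization.AtPrime q)) = q :=
      Localization.AtPrime.under_maximalIdeal
    rw [h3, hqA]
  have hPQ : P' = IsLocalRing.maximalIdeal (Localization.AtPrime q) :=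
    Algebra.QuasiFinite.eq_of_le_of_under_eq (R := A) P' _ hle (hu1.trans hu2.symm)
  constructor
  intro b hb
  have h1 : e b ∉ P' := by
    intro hmem
    have : φ' (e b) ∈ IsLocalRing.maximalIdeal C := hmem
    have h2 : φ' (e b) = φ b := by simp [φ']
    rw [h2] at this
    exact (IsLocalRing.mem_maximalIdeal _).mp this hb
  rw [hPQ, IsLocalRing.mem_maximalIdeal, mem_nonunits_iff, not_not] at h1
  have := h1.map e.symm
  simpa using this

end Groth.Agent.S17977
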