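import Groth.Statements.S16444
import Mathlib
import Groth.Agent.H14.HenselLift
import Groth.Agent.H3.HFEtLift
import Groth.Agent.H3.HInt
import Groth.Agent.S2782

set_option autoImplicit false
universe u
open scoped TensorProduct
open Hensel

namespace Groth.Agent.S16444

open IsLocalRing TensorProduct

theorem isLocalRing_of_isMaximal_map {A T : Type*} [CommRing A] [IsLocalRing A] [CommRing T]
    [Algebra A T] [Algebra.IsIntegral A T]
    (hmax : ((maximalIdeal A).map (algebraMap A T)).IsMaximal) : IsLocalRing T := by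
  refine IsLocalRing.of_unique_max_ideal ⟨_, hmax, fun M hM => ?_⟩
  haveI := hM
  have h1 : (M.comap (algebraMap A T)).IsMaximal :=
    Ideal.isMaximal_comap_of_isIntegral_of_isMaximal M
  have h2 : M.comap (algebraMap A T) = maximalIdeal A := IsLocalRing.eq_maximalIdeal h1
  have h3 : (maximalIdeal A).map (algebraMap A T) ≤ M := by
    rw [Ideal.map_le_iff_le_comap, h2]
  exact (hmax.eq_of_le hM.ne_top h3).symm


open IsLocalRing in
/-- Let A be a complete Noetherian local ring and R → A a local homomorphism from a henselian Noetherian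
local ring R inducing a bijection on residue fields. Then every local ring E which is an essentially
etale local A-algebra with local structure map is A-isomorphic to A ⊗_R S for some local ring S
which is a finite etale R-algebra (its residue field is then that of E). (The published statement
takes R to be a coefficient ring of A, that is a field or an image of a complete p-ring with the
same residue field; its proof uses only that R is henselian with the same residue field as A, which
is the hypothesis made here.) -/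
theorem result
    (R A E : Type u) [CommRing R] [HenselianLocalRing R] [IsNoetherianRing R]
    [CommRing A] [IsLocalRing A] [IsNoetherianRing A] [IsAdicComplete (maximalIdeal A) A]
    [Algebra R A] [IsLocalHom (algebraMap R A)]
    (hres : Function.Bijective (ResidueField.map (algebraMap R A)))
    [CommRing E] [IsLocalRing E] [Algebra A E] [IsLocalHom (algebraMap A E)]
    (hE : EGA4loc.IsEssentiallyEtale A E) :
    ∃ (S : Type u) (_ : CommRing S) (_ : IsLocalRing S) (_ : Algebra R S),
      Module.Finite R S ∧ Algebra.Etale R S ∧ Nonempty (E ≃ₐ[A] A ⊗[R] S) := by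
  classical
  obtain ⟨hfe, heft⟩ := Groth.Agent.S2782.instances_of_isEssentiallyEtale hE
  haveI := hfe
  haveI := heft
  haveI hAh : HenselianLocalRing A :=
    Groth.Agent.H3.henselianLocalRing_of_henselianRing_maximalIdeal A
  letI algRE : Algebra R E := ((algebraMap A E).comp (algebraMap R A)).toAlgebra
  haveI : IsScalarTower R A E := IsScalarTower.of_algebraMap_eq' rfl
  haveI : IsLocalHom (algebraMap R E) := by
    show IsLocalHom ((algebraMap A E).comp (algebraMap R A))
    exact RingHom.isLocalHom_comp _ _
  -- residue fields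
  have halg : ∀ x, algebraMap (ResidueField R) (ResidueField A) x =
      ResidueField.map (algebraMap R A) x := by
    intro x
    obtain ⟨r, rfl⟩ := residue_surjective x
    rfl
  have hbij : Function.Bijective (algebraMap (ResidueField R) (ResidueField A)) := by
    have : (algebraMap (ResidueField R) (ResidueField A) : ResidueField R → ResidueField A) =
        ResidueField.map (algebraMap R A) := funext halg
    rw [this]; exact hres
  haveI : Module.Finite (ResidueField R) (ResidueField A) :=
    Module.Finite.of_surjective (Algebra.linearMap (ResidueField R) (ResidueField A)) hbij.2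
  haveI : Algebra.IsSeparable (ResidueField R) (ResidueField A) :=
    AlgEquiv.Algebra.isSeparable
      (AlgEquiv.ofBijective (Algebra.ofId (ResidueField R) (ResidueField A)) hbij)
  haveI : Module.Finite (ResidueField R) (ResidueField E) :=
    Module.Finite.trans (ResidueField A) (ResidueField E)
  haveI : Algebra.IsSeparable (ResidueField R) (ResidueField E) :=
    Algebra.IsSeparable.trans (ResidueField R) (ResidueField A) (ResidueField E)
  haveI : Algebra.FormallyEtale (ResidueField R) (ResidueField E) :=
    Algebra.FormallyEtale.of_isSeparable (ResidueField R) (ResidueField E)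
  haveI : Algebra.FinitePresentation (ResidueField R) (ResidueField E) :=
    Algebra.FinitePresentation.of_finiteType.mp inferInstance
  haveI : Algebra.Etale (ResidueField R) (ResidueField E) := {}
  obtain ⟨S, _, _, hSfin, hSet, ⟨eS⟩⟩ :=
    Groth.Agent.H3.exists_finite_etale_lift_of_isLocalRing R (ResidueField E)
  haveI := hSfin
  haveI := hSet
  -- S is local
  let θ : (S ⧸ (maximalIdeal R).map (algebraMap R S)) ≃+* ResidueField E :=
    (Algebra.TensorProduct.quotIdealMapEquivQuotTensor S (maximalIdeal R)).toRingEquiv.trans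
      eS.toRingEquiv
  have hθ : ∀ s : S, θ (Ideal.Quotient.mk _ s) = eS ((1 : ResidueField R) ⊗ₜ[R] s) := fun s => rfl
  have hSfield : IsField (S ⧸ (maximalIdeal R).map (algebraMap R S)) :=
    MulEquiv.isField (Field.toIsField (ResidueField E)) θ.toMulEquiv
  haveI hmaxS : ((maximalIdeal R).map (algebraMap R S)).IsMaximal :=
    Ideal.Quotient.maximal_of_isField _ hSfield
  haveI : Algebra.IsIntegral R S := Algebra.IsIntegral.of_finite R S
  haveI hSloc : IsLocalRing S := isLocalRing_of_isMaximal_map hmaxS
  haveI : IsLocalHom (algebraMap R S) := Groth.Agent.H3.isLocalHom_of_isIntegral R S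
  haveI : Module.FaithfullyFlat R S := Module.FaithfullyFlat.of_flat_of_isLocalHom
  -- T = A ⊗ S is local
  haveI : Algebra.IsIntegral A (A ⊗[R] S) := Algebra.IsIntegral.of_finite A (A ⊗[R] S)
  have hne : (maximalIdeal A).map (algebraMap A (A ⊗[R] S)) ≠ ⊤ := by
    intro h
    have h1 := Module.FaithfullyFlat.submodule_ne_top (R := A) (M := A ⊗[R] S)
      (IsLocalRing.maximalIdeal.isMaximal A)
    apply h1
    rw [Ideal.smul_top_eq_map, h]
    rfl
  have hmem : ∀ (x : A) (s : S), x ∈ maximalIdeal A →
      x ⊗ₜ[R] s ∈ (maximalIdeal A).map (algebraMap A (A ⊗[R] S)) := by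
    intro x s hx
    have h1 : x ⊗ₜ[R] s = algebraMap A (A ⊗[R] S) x * ((1 : A) ⊗ₜ[R] s) := by
      rw [← Algebra.smul_def, TensorProduct.smul_tmul', smul_eq_mul, mul_one]
    rw [h1]
    exact Ideal.mul_mem_right _ _ (Ideal.mem_map_of_mem _ hx)
  let g : S →+* (A ⊗[R] S) ⧸ (maximalIdeal A).map (algebraMap A (A ⊗[R] S)) :=
    (Ideal.Quotient.mk _).comp
      (Algebra.TensorProduct.includeRight : S →ₐ[R] A ⊗[R] S).toRingHom
  have hg : ∀ s : S, g s = Ideal.Quotient.mk _ ((1 : A) ⊗ₜ[R] s) := fun s => rfl
  have hg_surj : Function.Surjective g := by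
    intro y
    obtain ⟨t, rfl⟩ := Ideal.Quotient.mk_surjective y
    induction t using TensorProduct.induction_on with
    | zero => exact ⟨0, by rw [map_zero, map_zero]⟩
    | tmul a s =>
      obtain ⟨r, hr⟩ : ∃ r : R, a - algebraMap R A r ∈ maximalIdeal A := by
        obtain ⟨rb, hrb⟩ := hres.2 (residue A a)
        obtain ⟨r, rfl⟩ := residue_surjective rb
        refine ⟨r, ?_⟩
        have h : residue A a = residue A (algebraMap R A r) := by
          rw [← hrb, ResidueField.map_residue]
        exact Ideal.Quotient.eq.mp h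
      refine ⟨r • s, ?_⟩
      rw [hg, Ideal.Quotient.eq]
      have h2 : (1 : A) ⊗ₜ[R] (r • s) - a ⊗ₜ[R] s = (algebraMap R A r - a) ⊗ₜ[R] s := by
        rw [TensorProduct.sub_tmul, Algebra.algebraMap_eq_smul_one, TensorProduct.smul_tmul]
      rw [h2]
      exact hmem _ _ (by rw [← neg_sub]; exact neg_mem hr)
    | add x y hx hy =>
      obtain ⟨sx, hsx⟩ := hx
      obtain ⟨sy, hsy⟩ := hy
      exact ⟨sx + sy, by rw [map_add, hsx, hsy, map_add]⟩
  have h1R : ∀ r : R, (1 : A) ⊗ₜ[R] (algebraMap R S r) = (algebraMap R A r) ⊗ₜ[R] (1 : S) := by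
    intro r
    rw [Algebra.algebraMap_eq_smul_one, Algebra.algebraMap_eq_smul_one (A := A),
      TensorProduct.smul_tmul]
  have hker_le : (maximalIdeal R).map (algebraMap R S) ≤ RingHom.ker g := by
    rw [Ideal.map_le_iff_le_comap]
    intro r hr
    rw [Ideal.mem_comap, RingHom.mem_ker, hg, Ideal.Quotient.eq_zero_iff_mem, h1R]
    exact hmem _ _ (map_nonunit (algebraMap R A) r hr)
  have hker : RingHom.ker g = (maximalIdeal R).map (algebraMap R S) := by
    refine (hmaxS.eq_of_le ?_ hker_le).symm
    intro htop
    apply hne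
    have h1 : (1 : S) ∈ RingHom.ker g := htop ▸ Submodule.mem_top
    rw [RingHom.mem_ker, map_one] at h1
    exact Ideal.Quotient.zero_eq_one_iff.mp h1.symm
  have hTfield : IsField ((A ⊗[R] S) ⧸ (maximalIdeal A).map (algebraMap A (A ⊗[R] S))) :=
    MulEquiv.isField hSfield
      ((RingHom.quotientKerEquivOfSurjective hg_surj).symm.trans
        (Ideal.quotEquivOfEq hker)).toMulEquiv
  haveI hmaxT : ((maximalIdeal A).map (algebraMap A (A ⊗[R] S))).IsMaximal :=
    Ideal.Quotient.maximal_of_isField _ hTfield
  haveI hTloc : IsLocalRing (A ⊗[R] S) := isLocalRing_of_isMaximal_map hmaxT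
  have hmT : (maximalIdeal A).map (algebraMap A (A ⊗[R] S)) = maximalIdeal (A ⊗[R] S) :=
    IsLocalRing.eq_maximalIdeal hmaxT
  haveI : HenselianLocalRing (A ⊗[R] S) :=
    Groth.Agent.H3.henselianLocalRing_of_isIntegral_of_isLocalRing A (A ⊗[R] S)
  haveI : IsLocalHom (algebraMap A (A ⊗[R] S)) :=
    Groth.Agent.H3.isLocalHom_of_isIntegral A (A ⊗[R] S)
  -- the residue field map α
  let γ : (S ⧸ (maximalIdeal R).map (algebraMap R S)) →+* ResidueField (A ⊗[R] S) :=
    Ideal.Quotient.lift _ ((residue (A ⊗[R] S)).comp
      (Algebra.TensorProduct.includeRight : S →ₐ[R] A ⊗[R] S).toRingHom) (by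
        intro x hx
        have h1 : x ∈ RingHom.ker g := hker_le hx
        rw [RingHom.mem_ker, hg, Ideal.Quotient.eq_zero_iff_mem, hmT] at h1
        exact (residue_eq_zero_iff _).mpr h1)
  have hγ : ∀ s : S, γ (Ideal.Quotient.mk _ s) = residue (A ⊗[R] S) ((1 : A) ⊗ₜ[R] s) :=
    fun s => rfl
  let α : ResidueField E →+* ResidueField (A ⊗[R] S) := γ.comp θ.symm.toRingHom
  have hθr : ∀ r : R, θ (Ideal.Quotient.mk _ (algebraMap R S r)) =
      residue E (algebraMap A E (algebraMap R A r)) := by
    intro r
    rw [hθ]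
    have h1 : (1 : ResidueField R) ⊗ₜ[R] (algebraMap R S r) =
        algebraMap (ResidueField R) ((ResidueField R) ⊗[R] S) (residue R r) := by
      rw [Algebra.TensorProduct.algebraMap_apply, Algebra.algebraMap_self_apply,
        Algebra.algebraMap_eq_smul_one, ← TensorProduct.smul_tmul]
      congr 1
      rw [Algebra.smul_def, mul_one]
      rfl
    rw [h1, eS.commutes]
    rfl
  have hα : α.comp (ResidueField.map (algebraMap A E)) =
      ResidueField.map (algebraMap A (A ⊗[R] S)) := by
    apply RingHom.ext
    intro x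
    obtain ⟨y, rfl⟩ := hres.2 x
    obtain ⟨r, rfl⟩ := residue_surjective y
    rw [RingHom.comp_apply, ResidueField.map_residue, ResidueField.map_residue,
      ResidueField.map_residue]
    show γ (θ.symm (residue E (algebraMap A E (algebraMap R A r)))) = _
    rw [← hθr, RingEquiv.symm_apply_apply, hγ, h1R]
    rfl
  obtain ⟨ψ', ⟨hloc', hcomp, hresψ⟩, -⟩ :=
    Groth.Agent.H14.existsUnique_localHom_of_essentiallyEtale A E hE (A ⊗[R] S)
      (algebraMap A (A ⊗[R] S)) α hα
  let ψA : E →ₐ[A] A ⊗[R] S := { ψ' with commutes' := fun a => RingHom.congr_fun hcomp a }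
  have hψA : ∀ x, ψA x = ψ' x := fun x => rfl
  -- surjectivity
  have hsurj : Function.Surjective ψA := by
    have hle : (⊤ : Submodule A (A ⊗[R] S)) ≤ LinearMap.range ψA.toLinearMap := by
      apply Submodule.le_of_le_smul_of_le_jacobson_bot (I := maximalIdeal A)
        (Module.Finite.fg_top) (IsLocalRing.maximalIdeal_le_jacobson _)
      intro t _
      -- find e with t - ψ' e ∈ m_T
      obtain ⟨s, hs⟩ := hg_surj (Ideal.Quotient.mk _ t)
      rw [hg, Ideal.Quotient.eq] at hs
      obtain ⟨e, he⟩ := residue_surjective (θ (Ideal.Quotient.mk _ s))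
      have h1 : residue (A ⊗[R] S) (ψ' e) = residue (A ⊗[R] S) ((1 : A) ⊗ₜ[R] s) := by
        rw [hresψ, he]
        show γ (θ.symm (θ (Ideal.Quotient.mk _ s))) = _
        rw [RingEquiv.symm_apply_apply, hγ]
      have h2 : ψ' e - (1 : A) ⊗ₜ[R] s ∈ (maximalIdeal A).map (algebraMap A (A ⊗[R] S)) := by
        rw [hmT]
        exact Ideal.Quotient.eq.mp h1
      have h3 : t - ψ' e ∈ (maximalIdeal A).map (algebraMap A (A ⊗[R] S)) := by
        have : t - ψ' e = -((1 : A) ⊗ₜ[R] s - t) - (ψ' e - (1 : A) ⊗ₜ[R] s) := by ring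
        rw [this]
        exact sub_mem (neg_mem hs) h2
      have h4 : t = ψA e + (t - ψ' e) := by rw [hψA]; ring
      rw [h4]
      refine Submodule.add_mem_sup ⟨e, rfl⟩ ?_
      rw [Ideal.smul_top_eq_map]
      exact h3
    intro t
    obtain ⟨e, he⟩ := hle (Submodule.mem_top : t ∈ ⊤)
    exact ⟨e, he⟩
  -- injectivity
  have hinj : Function.Injective ψA := by
    obtain ⟨C, _, _, Q, hQ, hC, hQm, ⟨eE⟩⟩ := hE
    letI algLT : Algebra (Localization.AtPrime Q) (A ⊗[R] S) :=
      (ψ'.comp eE.symm.toRingEquiv.toRingHom).toAlgebra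
    letI algCT : Algebra C (A ⊗[R] S) :=
      ((algebraMap (Localization.AtPrime Q) (A ⊗[R] S)).comp
        (algebraMap C (Localization.AtPrime Q))).toAlgebra
    haveI : IsScalarTower C (Localization.AtPrime Q) (A ⊗[R] S) :=
      IsScalarTower.of_algebraMap_eq' rfl
    haveI : IsScalarTower A C (A ⊗[R] S) := IsScalarTower.of_algebraMap_eq (fun a => by
      show algebraMap A (A ⊗[R] S) a =
        ψ' (eE.symm (algebraMap C (Localization.AtPrime Q) (algebraMap A C a)))
      rw [← IsScalarTower.algebraMap_apply A C (Localization.AtPrime Q), eE.symm.commutes]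
      exact (RingHom.congr_fun hcomp a).symm)
    haveI : Algebra.FormallyEtale C (A ⊗[R] S) :=
      Algebra.FormallyEtale.of_restrictScalars (R := A) (A := C) (B := A ⊗[R] S)
    haveI : Algebra.FinitePresentation C (A ⊗[R] S) :=
      Algebra.FinitePresentation.of_restrict_scalars_finitePresentation A C (A ⊗[R] S)
    haveI : Algebra.Etale C (A ⊗[R] S) := {}
    haveI : Module.Flat C (A ⊗[R] S) := inferInstance
    haveI : Module.Flat (Localization.AtPrime Q) (A ⊗[R] S) :=
      (Module.flat_iff_of_isLocalization (Localization.AtPrime Q) Q.primeCompl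
        (A ⊗[R] S)).mpr inferInstance
    haveI : IsLocalHom (algebraMap (Localization.AtPrime Q) (A ⊗[R] S)) := by
      constructor
      intro x hx
      have h1 : IsUnit (ψ' (eE.symm x)) := hx
      have h2 : IsUnit (eE.symm x) := hloc'.map_nonunit _ h1
      have h3 : IsUnit (eE (eE.symm x)) := h2.map eE
      rwa [AlgEquiv.apply_symm_apply] at h3
    haveI : Module.FaithfullyFlat (Localization.AtPrime Q) (A ⊗[R] S) :=
      Module.FaithfullyFlat.of_flat_of_isLocalHom
    have h5 : Function.Injective (algebraMap (Localization.AtPrime Q) (A ⊗[R] S)) :=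
      FaithfulSMul.algebraMap_injective _ _
    intro x y hxy
    have h6 : algebraMap (Localization.AtPrime Q) (A ⊗[R] S) (eE x) =
        algebraMap (Localization.AtPrime Q) (A ⊗[R] S) (eE y) := by
      show ψ' (eE.symm (eE x)) = ψ' (eE.symm (eE y))
      rw [AlgEquiv.symm_apply_apply, AlgEquiv.symm_apply_apply]
      exact hxy
    exact eE.injective (h5 h6)
  exact ⟨S, inferInstance, hSloc, inferInstance, hSfin, hSet,
    ⟨AlgEquiv.ofBijective ψA ⟨hinj, hsurj⟩⟩⟩

end Groth.Agent.S16444
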