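import Groth.Statements.S5043
import Mathlib
import Groth.Agent.H47.HensNoeth2
import Groth.Agent.S2069

set_option autoImplicit false
universe u
open Hensel

namespace Groth.Agent.S5043

open TensorProduct IsLocalRing

section
variable {R S : Type u} [CommRing R] [IsLocalRing R] [CommRing S] [IsLocalRing S] [Algebra R S]

/-- In an ind-étale local algebra, primes with the same contraction are incomparable. -/
theorem eq_of_le_of_comap_eq (h : Groth.Agent.H47.HensNoeth.IsIndEtaleLocal R S)
    {Q P : Ideal S} [Q.IsPrime] [P.IsPrime] (hle : Q ≤ P)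
    (hc : Q.comap (algebraMap R S) = P.comap (algebraMap R S)) : Q = P := by
  by_contra hne
  obtain ⟨y, hyP, hyQ⟩ := SetLike.exists_of_lt (lt_of_le_of_ne hle hne)
  obtain ⟨A, _, _, _, φ, hφ⟩ := h.rep {y}
  obtain ⟨a, ha⟩ := hφ y (Finset.mem_singleton_self y)
  haveI : (Q.comap φ.toRingHom).IsPrime := Ideal.comap_isPrime _ _
  haveI : (P.comap φ.toRingHom).IsPrime := Ideal.comap_isPrime _ _
  have hcomp : φ.toRingHom.comp (algebraMap R A) = algebraMap R S :=
    RingHom.ext (fun r => φ.commutes r)
  have h1 : Q.comap φ.toRingHom = P.comap φ.toRingHom := by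
    apply Algebra.QuasiFinite.eq_of_le_of_under_eq (R := R) _ _ (Ideal.comap_mono hle)
    show (Q.comap φ.toRingHom).comap (algebraMap R A) = (P.comap φ.toRingHom).comap (algebraMap R A)
    rw [Ideal.comap_comap, Ideal.comap_comap, hcomp, hc]
  have h2 : a ∈ P.comap φ.toRingHom := by
    show φ a ∈ P
    rw [ha]
    exact hyP
  rw [← h1] at h2
  apply hyQ
  rw [← ha]
  exact h2

theorem mem_associatedPrimes_iff_of_isIndEtaleLocal [IsNoetherianRing R]
    [IsLocalHom (algebraMap R S)]
    (h : Groth.Agent.H47.HensNoeth.IsIndEtaleLocal R S) (P : Ideal S) [P.IsPrime] :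
    P ∈ associatedPrimes S S ↔ P.comap (algebraMap R S) ∈ associatedPrimes R R := by
  haveI : Module.Flat R S := h.flat
  haveI : IsNoetherianRing S := h.isNoetherianRing
  have hres := Groth.Agent.S2069.result (R := R) (S := S) (M := R) (N := S)
  have heq : associatedPrimes S (S ⊗[R] R) = associatedPrimes S S :=
    LinearEquiv.AssociatedPrimes.eq (TensorProduct.AlgebraTensorModule.rid R S S)
  constructor
  · intro hP
    rw [← heq, hres] at hP
    obtain ⟨p, hp, hPp⟩ := Set.mem_iUnion₂.mp hP
    haveI : p.IsPrime := IsAssociatedPrime.isPrime hp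
    rw [Groth.Agent.S2069.comap_eq_of_mem_ass p P hPp]
    exact hp
  · intro hp
    haveI : (P.comap (algebraMap R S)).IsPrime := Ideal.comap_isPrime _ _
    have hK : ((P.comap (algebraMap R S)).map (algebraMap R S) • (⊤ : Submodule S S) :
        Submodule S S) = (P.comap (algebraMap R S)).map (algebraMap R S) := by
      apply le_antisymm
      · refine Submodule.smul_le.mpr (fun a ha s _ => ?_)
        exact Ideal.mul_mem_right s _ ha
      · intro a ha
        have h1 := Submodule.smul_mem_smul ha (Submodule.mem_top : (1 : S) ∈ (⊤ : Submodule S S))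
        have h2 : a • (1 : S) = a := by rw [smul_eq_mul, mul_one]
        rw [h2] at h1
        exact h1
    have hmin : P ∈ ((P.comap (algebraMap R S)).map (algebraMap R S)).minimalPrimes := by
      refine ⟨⟨inferInstance, Ideal.map_comap_le⟩, fun Q hQ hQP => ?_⟩
      obtain ⟨hQprime, hIQ⟩ := hQ
      haveI := hQprime
      have h1 : Q.comap (algebraMap R S) = P.comap (algebraMap R S) :=
        le_antisymm (Ideal.comap_mono hQP) (Ideal.map_le_iff_le_comap.mp hIQ)
      exact (eq_of_le_of_comap_eq h hQP h1).ge
    have hann : Module.annihilator S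
        (S ⧸ ((P.comap (algebraMap R S)).map (algebraMap R S) • (⊤ : Submodule S S))) =
        (P.comap (algebraMap R S)).map (algebraMap R S) := by
      ext a
      rw [Module.mem_annihilator]
      constructor
      · intro ha
        have h1 := ha (Submodule.Quotient.mk (1 : S))
        rw [← Submodule.Quotient.mk_smul, Submodule.Quotient.mk_eq_zero, hK, smul_eq_mul,
          mul_one] at h1
        exact h1
      · intro ha m
        obtain ⟨s, rfl⟩ := Submodule.Quotient.mk_surjective _ m
        rw [← Submodule.Quotient.mk_smul, Submodule.Quotient.mk_eq_zero, hK, smul_eq_mul]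
        exact Ideal.mul_mem_right s _ ha
    have hass : P ∈ associatedPrimes S
        (S ⧸ ((P.comap (algebraMap R S)).map (algebraMap R S) • (⊤ : Submodule S S))) := by
      apply Module.associatedPrimes.minimalPrimes_annihilator_subset_associatedPrimes S
      rw [hann]
      exact hmin
    have h3 : P ∈ associatedPrimes S (S ⊗[R] R) := by
      rw [hres]
      exact Set.mem_biUnion hp hass
    rwa [heq] at h3

end


/-- Let R be a Noetherian local ring with henselization S. A prime ideal P of S is an associated prime
of S if and only if its inverse image in R is an associated prime of R. -/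
theorem result (R S : Type u) [CommRing R] [IsLocalRing R] [IsNoetherianRing R]
    [CommRing S] [IsLocalRing S] [Algebra R S] [IsLocalHom (algebraMap R S)] [Hensel.IsHenselization R S]
    (P : Ideal S) [P.IsPrime] :
    P ∈ associatedPrimes S S ↔ P.comap (algebraMap R S) ∈ associatedPrimes R R := by
  exact mem_associatedPrimes_iff_of_isIndEtaleLocal
    (Groth.Agent.H47.HensNoeth.isIndEtaleLocal_of_isHenselization R S) P

end Groth.Agent.S5043
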