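import Groth.Statements.S4542
import Mathlib.RingTheory.AdicCompletion.RingHom
import Mathlib.Tactic

set_option autoImplicit false
universe u
open EGA41

namespace Groth.Agent.S4542

section Aux
variable {A B C : Type u} [CommRing A] [CommRing B] [CommRing C] [Algebra A B] [Algebra A C]

theorem sup_pow_le' (J L : Ideal C) (N : ℕ) : (J ⊔ L) ^ N ≤ J ^ N ⊔ L := by
  induction N with
  | zero => rw [pow_zero, pow_zero]; exact le_sup_left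
  | succ N ih =>
    rw [pow_succ, pow_succ]
    calc (J ⊔ L) ^ N * (J ⊔ L) ≤ (J ^ N ⊔ L) * (J ⊔ L) := Ideal.mul_mono_left ih
      _ = J ^ N * J ⊔ J ^ N * L ⊔ (L * J ⊔ L * L) := by
        rw [Ideal.sup_mul, Ideal.mul_sup, Ideal.mul_sup]
      _ ≤ J ^ N * J ⊔ L :=
        sup_le (sup_le le_sup_left (le_trans Ideal.mul_le_right le_sup_right))
          (sup_le (le_trans Ideal.mul_le_left le_sup_right)
            (le_trans Ideal.mul_le_right le_sup_right))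

theorem lift_step (𝔞 : Ideal A) (𝔟 : Ideal B) (hB : EGA41.IsFormallySmoothAdic A 𝔞 B 𝔟)
    (I₁ I₂ K : Ideal C) (hK₁ : K ≤ I₁) (hK₂ : K ≤ I₂)
    (hnil : ∃ N : ℕ, I₂ ^ N ≤ K) (hA : ∃ k : ℕ, (𝔞 ^ k).map (algebraMap A C) ≤ K)
    (v₁ : B →ₐ[A] C ⧸ I₁) (v₂ : B →ₐ[A] C ⧸ I₂)
    (hagree : ∀ x, ∃ c : C, Ideal.Quotient.mk I₁ c = v₁ x ∧ Ideal.Quotient.mk I₂ c = v₂ x)
    (hkill : ∃ m : ℕ, ∀ x ∈ 𝔟 ^ m, v₁ x = 0 ∧ v₂ x = 0) :
    ∃ w : B →ₐ[A] C ⧸ K, (Ideal.Quotient.factorₐ A hK₁).comp w = v₁ ∧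
      (Ideal.Quotient.factorₐ A hK₂).comp w = v₂ ∧ ∃ m : ℕ, ∀ x ∈ 𝔟 ^ m, w x = 0 := by
  have hψmk : ∀ c : C, ((Ideal.Quotient.factorₐ A hK₁).prod (Ideal.Quotient.factorₐ A hK₂))
      (Ideal.Quotient.mk K c) = (Ideal.Quotient.mk I₁ c, Ideal.Quotient.mk I₂ c) := fun c => rfl
  have hker : RingHom.ker ((Ideal.Quotient.factorₐ A hK₁).prod (Ideal.Quotient.factorₐ A hK₂)) ≤
      I₂.map (Ideal.Quotient.mk K) := by
    intro d hd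
    obtain ⟨c, rfl⟩ := Ideal.Quotient.mk_surjective d
    rw [RingHom.mem_ker, hψmk, Prod.mk_eq_zero] at hd
    exact Ideal.mem_map_of_mem _ (Ideal.Quotient.eq_zero_iff_mem.mp hd.2)
  obtain ⟨N, hN⟩ := hnil
  have hkerN : (RingHom.ker ((Ideal.Quotient.factorₐ A hK₁).prod
      (Ideal.Quotient.factorₐ A hK₂))) ^ N = ⊥ := by
    rw [eq_bot_iff]
    calc (RingHom.ker ((Ideal.Quotient.factorₐ A hK₁).prod
          (Ideal.Quotient.factorₐ A hK₂))) ^ N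
        ≤ (I₂.map (Ideal.Quotient.mk K)) ^ N := Ideal.pow_right_mono hker N
      _ = (I₂ ^ N).map (Ideal.Quotient.mk K) := (Ideal.map_pow _ _ _).symm
      _ ≤ K.map (Ideal.Quotient.mk K) := Ideal.map_mono hN
      _ = ⊥ := Ideal.map_quotient_self K
  have hnil' : IsNilpotent (RingHom.ker ((Ideal.Quotient.factorₐ A hK₁).prod
      (Ideal.Quotient.factorₐ A hK₂))) := ⟨N, by rw [hkerN, Ideal.zero_eq_bot]⟩
  have hA' : ∃ k : ℕ, (𝔞 ^ k).map (algebraMap A (C ⧸ K)) = ⊥ := by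
    obtain ⟨k, hk⟩ := hA
    refine ⟨k, ?_⟩
    rw [eq_bot_iff, Ideal.map_le_iff_le_comap]
    intro a ha
    rw [Ideal.mem_comap, Ideal.mem_bot, ← Ideal.Quotient.mk_algebraMap,
      Ideal.Quotient.eq_zero_iff_mem]
    exact hk (Ideal.mem_map_of_mem _ ha)
  have hmem : ∀ x, (v₁.prod v₂) x ∈ (Ideal.kerLiftAlg ((Ideal.Quotient.factorₐ A hK₁).prod
      (Ideal.Quotient.factorₐ A hK₂))).range := by
    intro x
    obtain ⟨c, h1, h2⟩ := hagree x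
    rw [AlgHom.mem_range]
    refine ⟨Ideal.Quotient.mk _ (Ideal.Quotient.mk K c), ?_⟩
    rw [Ideal.kerLiftAlg_mk, hψmk, h1, h2]
    rfl
  have hu' : ∀ x, Ideal.kerLiftAlg ((Ideal.Quotient.factorₐ A hK₁).prod
      (Ideal.Quotient.factorₐ A hK₂))
      (((AlgEquiv.ofInjective (Ideal.kerLiftAlg ((Ideal.Quotient.factorₐ A hK₁).prod
        (Ideal.Quotient.factorₐ A hK₂))) (Ideal.kerLiftAlg_injective _)).symm.toAlgHom.comp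
        ((v₁.prod v₂).codRestrict _ hmem)) x) = (v₁ x, v₂ x) := by
    intro x
    have h1 : (AlgEquiv.ofInjective (Ideal.kerLiftAlg ((Ideal.Quotient.factorₐ A hK₁).prod
        (Ideal.Quotient.factorₐ A hK₂))) (Ideal.kerLiftAlg_injective _))
        (((AlgEquiv.ofInjective (Ideal.kerLiftAlg ((Ideal.Quotient.factorₐ A hK₁).prod
        (Ideal.Quotient.factorₐ A hK₂))) (Ideal.kerLiftAlg_injective _)).symm.toAlgHom.comp
        ((v₁.prod v₂).codRestrict _ hmem)) x) = (v₁.prod v₂).codRestrict _ hmem x :=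
      AlgEquiv.apply_symm_apply _ _
    exact congrArg Subtype.val h1
  have hkill' : ∃ m : ℕ, ∀ x ∈ 𝔟 ^ m,
      ((AlgEquiv.ofInjective (Ideal.kerLiftAlg ((Ideal.Quotient.factorₐ A hK₁).prod
        (Ideal.Quotient.factorₐ A hK₂))) (Ideal.kerLiftAlg_injective _)).symm.toAlgHom.comp
        ((v₁.prod v₂).codRestrict _ hmem)) x = 0 := by
    obtain ⟨m, hm⟩ := hkill
    refine ⟨m, fun x hx => Ideal.kerLiftAlg_injective _ ?_⟩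
    rw [hu', map_zero, (hm x hx).1, (hm x hx).2]
    rfl
  obtain ⟨w, hw⟩ := hB (C ⧸ K) (RingHom.ker ((Ideal.Quotient.factorₐ A hK₁).prod
      (Ideal.Quotient.factorₐ A hK₂))) hnil' hA' _ hkill'
  have hψw : ∀ x, ((Ideal.Quotient.factorₐ A hK₁).prod (Ideal.Quotient.factorₐ A hK₂)) (w x) =
      (v₁ x, v₂ x) := by
    intro x
    rw [← hu', ← hw]
    rfl
  refine ⟨w, ?_, ?_, ?_⟩
  · ext x; exact congrArg Prod.fst (hψw x)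
  · ext x; exact congrArg Prod.snd (hψw x)
  · obtain ⟨m, hm⟩ := hkill
    refine ⟨m * N, fun x hx => ?_⟩
    have h1 : (𝔟 ^ m).map w ≤ RingHom.ker ((Ideal.Quotient.factorₐ A hK₁).prod
        (Ideal.Quotient.factorₐ A hK₂)) := by
      rw [Ideal.map_le_iff_le_comap]
      intro y hy
      rw [Ideal.mem_comap, RingHom.mem_ker, hψw, (hm y hy).1, (hm y hy).2]
      rfl
    have h2 : w x ∈ ((𝔟 ^ m) ^ N).map w := by
      rw [← pow_mul]; exact Ideal.mem_map_of_mem _ hx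
    rw [Ideal.map_pow] at h2
    have h3 := Ideal.pow_right_mono h1 N h2
    rw [hkerN] at h3
    exact h3

/-- the inductive predicate -/
def Good (𝔟 : Ideal B) (𝔠 J : Ideal C) (u : B →ₐ[A] C ⧸ J) (n : ℕ)
    (v : B →ₐ[A] C ⧸ 𝔠 ^ n) : Prop :=
  (Ideal.Quotient.factorₐ A (le_sup_right : 𝔠 ^ n ≤ J ⊔ 𝔠 ^ n)).comp v =
    (Ideal.Quotient.factorₐ A (le_sup_left : J ≤ J ⊔ 𝔠 ^ n)).comp u ∧
  ∃ m : ℕ, ∀ x ∈ 𝔟 ^ m, v x = 0

theorem good_step (𝔞 : Ideal A) (𝔟 : Ideal B) (𝔠 J : Ideal C)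
    (hB : EGA41.IsFormallySmoothAdic A 𝔞 B 𝔟)
    (hAC : ∃ k : ℕ, (𝔞 ^ k).map (algebraMap A C) ≤ 𝔠) (hJ : ∃ t : ℕ, J ^ t ≤ 𝔠)
    (u : B →ₐ[A] C ⧸ J) (hu : ∃ k : ℕ, (𝔟 ^ k).map u.toRingHom ≤ 𝔠.map (Ideal.Quotient.mk J))
    (n : ℕ) (v : B →ₐ[A] C ⧸ 𝔠 ^ n) (hv : Good 𝔟 𝔠 J u n v) :
    ∃ w : B →ₐ[A] C ⧸ 𝔠 ^ (n + 1), Good 𝔟 𝔠 J u (n + 1) w ∧
      (Ideal.Quotient.factorₐ A (Ideal.pow_le_pow_right (Nat.le_succ n))).comp w = v := by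
  obtain ⟨ka, hka⟩ := hAC
  obtain ⟨t, ht⟩ := hJ
  obtain ⟨kb, hkb⟩ := hu
  obtain ⟨hP1, m₁, hm₁⟩ := hv
  have hv₂kill : ∀ x ∈ 𝔟 ^ (kb * (n + 1)),
      (Ideal.Quotient.factorₐ A (le_sup_left : J ≤ J ⊔ 𝔠 ^ (n + 1))).comp u x = 0 := by
    intro x hx
    rw [pow_mul] at hx
    have h1 : u x ∈ (𝔠 ^ (n + 1)).map (Ideal.Quotient.mk J) := by
      rw [Ideal.map_pow]
      refine Ideal.pow_right_mono hkb (n + 1) ?_
      rw [← Ideal.map_pow]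
      exact Ideal.mem_map_of_mem u.toRingHom hx
    obtain ⟨c, hc, hcu⟩ := (Ideal.mem_map_iff_of_surjective _ Ideal.Quotient.mk_surjective).mp h1
    rw [AlgHom.comp_apply, ← hcu]
    show Ideal.Quotient.mk (J ⊔ 𝔠 ^ (n + 1)) c = 0
    exact Ideal.Quotient.eq_zero_iff_mem.mpr ((le_sup_right : 𝔠 ^ (n + 1) ≤ J ⊔ 𝔠 ^ (n + 1)) hc)
  have hagree : ∀ x, ∃ c : C, Ideal.Quotient.mk (𝔠 ^ n) c = v x ∧
      Ideal.Quotient.mk (J ⊔ 𝔠 ^ (n + 1)) c =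
        (Ideal.Quotient.factorₐ A (le_sup_left : J ≤ J ⊔ 𝔠 ^ (n + 1))).comp u x := by
    intro x
    obtain ⟨c₁, hc₁⟩ := Ideal.Quotient.mk_surjective (v x)
    obtain ⟨c₀, hc₀⟩ := Ideal.Quotient.mk_surjective (u x)
    have h1 := AlgHom.congr_fun hP1 x
    rw [AlgHom.comp_apply, AlgHom.comp_apply, ← hc₁, ← hc₀] at h1
    change Ideal.Quotient.mk (J ⊔ 𝔠 ^ n) c₁ = Ideal.Quotient.mk (J ⊔ 𝔠 ^ n) c₀ at h1
    obtain ⟨j, hj, d, hd, hjd⟩ := Submodule.mem_sup.mp (Ideal.Quotient.eq.mp h1)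
    refine ⟨c₁ - d, ?_, ?_⟩
    · rw [map_sub, hc₁, Ideal.Quotient.eq_zero_iff_mem.mpr hd, sub_zero]
    · rw [AlgHom.comp_apply, ← hc₀]
      show Ideal.Quotient.mk (J ⊔ 𝔠 ^ (n + 1)) (c₁ - d) = Ideal.Quotient.mk (J ⊔ 𝔠 ^ (n + 1)) c₀
      rw [Ideal.Quotient.eq]
      have h3 : c₁ - d - c₀ = j := by linear_combination (-1 : C) * hjd
      rw [h3]
      exact (le_sup_left : J ≤ J ⊔ 𝔠 ^ (n + 1)) hj
  have hnil : (J ⊔ 𝔠 ^ (n + 1)) ^ (t * (n + 1)) ≤ 𝔠 ^ (n + 1) :=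
    calc (J ⊔ 𝔠 ^ (n + 1)) ^ (t * (n + 1)) ≤ J ^ (t * (n + 1)) ⊔ 𝔠 ^ (n + 1) := sup_pow_le' _ _ _
      _ ≤ 𝔠 ^ (n + 1) := sup_le (by rw [pow_mul]; exact Ideal.pow_right_mono ht (n + 1)) le_rfl
  have hA : (𝔞 ^ (ka * (n + 1))).map (algebraMap A C) ≤ 𝔠 ^ (n + 1) := by
    rw [pow_mul, Ideal.map_pow]; exact Ideal.pow_right_mono hka (n + 1)
  obtain ⟨w, hw₁, hw₂, mw, hmw⟩ := lift_step 𝔞 𝔟 hB (𝔠 ^ n) (J ⊔ 𝔠 ^ (n + 1)) (𝔠 ^ (n + 1))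
    (Ideal.pow_le_pow_right (Nat.le_succ n)) le_sup_right
    ⟨t * (n + 1), hnil⟩ ⟨ka * (n + 1), hA⟩ v
    ((Ideal.Quotient.factorₐ A (le_sup_left : J ≤ J ⊔ 𝔠 ^ (n + 1))).comp u) hagree
    ⟨m₁ + kb * (n + 1), fun x hx =>
      ⟨hm₁ x (Ideal.pow_le_pow_right (Nat.le_add_right _ _) hx),
        hv₂kill x (Ideal.pow_le_pow_right (Nat.le_add_left _ _) hx)⟩⟩
  exact ⟨w, ⟨hw₂, mw, hmw⟩, hw₁⟩

theorem exists_seq (𝔞 : Ideal A) (𝔟 : Ideal B) (𝔠 J : Ideal C)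
    (hB : EGA41.IsFormallySmoothAdic A 𝔞 B 𝔟)
    (hAC : ∃ k : ℕ, (𝔞 ^ k).map (algebraMap A C) ≤ 𝔠) (hJ : ∃ t : ℕ, J ^ t ≤ 𝔠)
    (u : B →ₐ[A] C ⧸ J) (hu : ∃ k : ℕ, (𝔟 ^ k).map u.toRingHom ≤ 𝔠.map (Ideal.Quotient.mk J)) :
    ∃ f : ∀ n : ℕ, B →ₐ[A] C ⧸ 𝔠 ^ n, (∀ n, Good 𝔟 𝔠 J u n (f n)) ∧
      ∀ n, (Ideal.Quotient.factorₐ A (Ideal.pow_le_pow_right (Nat.le_succ n))).comp (f (n + 1)) =
        f n := by
  haveI : Subsingleton (C ⧸ 𝔠 ^ 0) :=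
    Ideal.Quotient.subsingleton_iff.mpr (by rw [pow_zero, Ideal.one_eq_top])
  haveI : Subsingleton (C ⧸ (J ⊔ 𝔠 ^ 0)) :=
    Ideal.Quotient.subsingleton_iff.mpr (by rw [pow_zero, Ideal.one_eq_top, sup_top_eq])
  let v0 : B →ₐ[A] C ⧸ 𝔠 ^ 0 :=
    { toFun := fun _ => 0
      map_one' := Subsingleton.elim _ _
      map_mul' := fun _ _ => Subsingleton.elim _ _
      map_zero' := rfl
      map_add' := fun _ _ => Subsingleton.elim _ _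
      commutes' := fun _ => Subsingleton.elim _ _ }
  have hv0 : Good 𝔟 𝔠 J u 0 v0 :=
    ⟨AlgHom.ext fun x => Subsingleton.elim _ _, 0, fun x _ => Subsingleton.elim _ _⟩
  have key : ∀ n, ∀ s : {v : B →ₐ[A] C ⧸ 𝔠 ^ n // Good 𝔟 𝔠 J u n v},
      ∃ s' : {w : B →ₐ[A] C ⧸ 𝔠 ^ (n + 1) // Good 𝔟 𝔠 J u (n + 1) w},
        (Ideal.Quotient.factorₐ A (Ideal.pow_le_pow_right (Nat.le_succ n))).comp s'.1 = s.1 := by
    rintro n ⟨v, hv⟩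
    obtain ⟨w, hw, hwv⟩ := good_step 𝔞 𝔟 𝔠 J hB hAC hJ u hu n v hv
    exact ⟨⟨w, hw⟩, hwv⟩
  choose next hnext using key
  let f : ∀ n, {v : B →ₐ[A] C ⧸ 𝔠 ^ n // Good 𝔟 𝔠 J u n v} := fun n =>
    Nat.rec (motive := fun n => {v : B →ₐ[A] C ⧸ 𝔠 ^ n // Good 𝔟 𝔠 J u n v}) ⟨v0, hv0⟩
      (fun n s => next n s) n
  exact ⟨fun n => (f n).1, fun n => (f n).2, fun n => hnext n (f n)⟩

theorem main (𝔞 : Ideal A) (𝔟 : Ideal B) (𝔠 : Ideal C) (hB : EGA41.IsFormallySmoothAdic A 𝔞 B 𝔟)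
    [IsAdicComplete 𝔠 C] (hAC : ∃ k : ℕ, (𝔞 ^ k).map (algebraMap A C) ≤ 𝔠)
    (J : Ideal C) (hJ : ∃ t : ℕ, J ^ t ≤ 𝔠) [IsHausdorff (𝔠.map (Ideal.Quotient.mk J)) (C ⧸ J)]
    (u : B →ₐ[A] C ⧸ J) (hu : ∃ k : ℕ, (𝔟 ^ k).map u.toRingHom ≤ 𝔠.map (Ideal.Quotient.mk J)) :
    ∃ v : B →ₐ[A] C, (∃ k : ℕ, (𝔟 ^ k).map v.toRingHom ≤ 𝔠) ∧
      (Ideal.Quotient.mkₐ A J).comp v = u := by
  obtain ⟨f, hf, hfc⟩ := exists_seq 𝔞 𝔟 𝔠 J hB hAC hJ u hu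
  have hcompat : ∀ {m n : ℕ} (hle : m ≤ n),
      (Ideal.Quotient.factorₐ A (Ideal.pow_le_pow_right hle)).comp (f n) = f m := by
    intro m n hle
    induction n, hle using Nat.le_induction with
    | base =>
      ext x
      obtain ⟨c, hc⟩ := Ideal.Quotient.mk_surjective (f m x)
      rw [AlgHom.comp_apply, ← hc]
      rfl
    | succ n hmn ih =>
      ext x
      have h2 := AlgHom.congr_fun (hfc n) x
      have h3 := AlgHom.congr_fun ih x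
      rw [← h3, AlgHom.comp_apply, AlgHom.comp_apply, ← h2, AlgHom.comp_apply]
      obtain ⟨c, hc⟩ := Ideal.Quotient.mk_surjective (f (n + 1) x)
      rw [← hc]
      rfl
  have hv : ∀ n x, Ideal.Quotient.mk (𝔠 ^ n) (IsAdicComplete.liftAlgHom 𝔠 f hcompat x) = f n x :=
    fun n x => IsAdicComplete.mk_liftAlgHom 𝔠 f hcompat n x
  refine ⟨IsAdicComplete.liftAlgHom 𝔠 f hcompat, ?_, ?_⟩
  · obtain ⟨m, hm⟩ := (hf 1).2
    refine ⟨m, ?_⟩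
    rw [Ideal.map_le_iff_le_comap]
    intro x hx
    rw [Ideal.mem_comap]
    have h1 := hm x hx
    rw [← hv 1 x, Ideal.Quotient.eq_zero_iff_mem, pow_one] at h1
    exact h1
  · ext x
    rw [← sub_eq_zero]
    refine IsHausdorff.haus (inferInstance : IsHausdorff (𝔠.map (Ideal.Quotient.mk J)) (C ⧸ J))
      _ (fun n => ?_)
    rw [SModEq.zero, Ideal.smul_eq_mul, Ideal.mul_top, ← Ideal.map_pow]
    obtain ⟨c₀, hc₀⟩ := Ideal.Quotient.mk_surjective (u x)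
    have h1 := AlgHom.congr_fun (hf n).1 x
    rw [AlgHom.comp_apply, AlgHom.comp_apply, ← hv n x, ← hc₀] at h1
    change Ideal.Quotient.mk (J ⊔ 𝔠 ^ n) (IsAdicComplete.liftAlgHom 𝔠 f hcompat x) =
      Ideal.Quotient.mk (J ⊔ 𝔠 ^ n) c₀ at h1
    obtain ⟨j, hj, d, hd, hjd⟩ := Submodule.mem_sup.mp (Ideal.Quotient.eq.mp h1)
    have h2 : (Ideal.Quotient.mkₐ A J).comp (IsAdicComplete.liftAlgHom 𝔠 f hcompat) x - u x =
        Ideal.Quotient.mk J d := by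
      rw [AlgHom.comp_apply, ← hc₀]
      show Ideal.Quotient.mk J (IsAdicComplete.liftAlgHom 𝔠 f hcompat x) -
        Ideal.Quotient.mk J c₀ = Ideal.Quotient.mk J d
      rw [← map_sub, ← hjd, map_add, Ideal.Quotient.eq_zero_iff_mem.mpr hj, zero_add]
    rw [h2]
    exact Ideal.mem_map_of_mem _ hd

end Aux

/-- Let B (𝔟-adic) be formally smooth over A (𝔞-adic); let C be a topological A-algebra for the 𝔠-adic
topology (a power of 𝔞 maps into 𝔠) which is complete, and J an ideal which is closed, i.e. C/J is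
Hausdorff for the 𝔠-adic topology, and whose powers tend to 0, i.e. some power of J lies in 𝔠. Then
every continuous A-algebra homomorphism u : B → C/J (a power of 𝔟 maps into the image of 𝔠) factors
as B → C → C/J with B → C a continuous A-algebra homomorphism (a power of 𝔟 maps into 𝔠). -/
theorem result {A B C : Type u} [CommRing A] [CommRing B] [CommRing C] [Algebra A B]
    [Algebra A C] (𝔞 : Ideal A) (𝔟 : Ideal B) (𝔠 : Ideal C) (hB : EGA41.IsFormallySmoothAdic A 𝔞 B 𝔟)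
    [IsAdicComplete 𝔠 C] (hAC : ∃ k : ℕ, (𝔞 ^ k).map (algebraMap A C) ≤ 𝔠)
    (J : Ideal C) (hJ : ∃ t : ℕ, J ^ t ≤ 𝔠) [IsHausdorff (𝔠.map (Ideal.Quotient.mk J)) (C ⧸ J)]
    (u : B →ₐ[A] C ⧸ J) (hu : ∃ k : ℕ, (𝔟 ^ k).map u.toRingHom ≤ 𝔠.map (Ideal.Quotient.mk J)) :
    ∃ v : B →ₐ[A] C, (∃ k : ℕ, (𝔟 ^ k).map v.toRingHom ≤ 𝔠) ∧ (Ideal.Quotient.mkₐ A J).comp v = u := by
  exact main 𝔞 𝔟 𝔠 hB hAC J hJ u hu

end Groth.Agent.S4542
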