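import Groth.Statements.S2461
import Mathlib

set_option autoImplicit false
universe u
open EGA41

namespace Groth.Agent.S2461

/-- Let A carry the 𝔞-adic topology and let B be a Noetherian A-algebra with the 𝔟-adic topology. Then B
is formally smooth over A if and only if the 𝔟-adic completion of B, with the adic topology of the
extended ideal, is formally smooth over A. -/
theorem result {A B : Type u} [CommRing A] (𝔞 : Ideal A) [CommRing B] [IsNoetherianRing B] [Algebra A B] (𝔟 : Ideal B) :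
    EGA41.IsFormallySmoothAdic A 𝔞 B 𝔟 ↔
      EGA41.IsFormallySmoothAdic A 𝔞 (AdicCompletion 𝔟 B) (𝔟.map (algebraMap B (AdicCompletion 𝔟 B))) := by
  classical
  haveI : IsScalarTower A B (AdicCompletion 𝔟 B) := IsScalarTower.of_algebraMap_eq (fun x => rfl)
  have hfg : 𝔟.FG := IsNoetherian.noetherian 𝔟
  have hιof : ∀ b : B, algebraMap B (AdicCompletion 𝔟 B) b = AdicCompletion.of 𝔟 B b := fun b => rfl
  have ha : ∀ (n : ℕ) (x : AdicCompletion 𝔟 B),
      x ∈ (𝔟.map (algebraMap B (AdicCompletion 𝔟 B))) ^ n → AdicCompletion.evalₐ 𝔟 n x = 0 := by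
    intro n x hx
    rw [← Ideal.map_pow] at hx
    have hle : (𝔟 ^ n).map (algebraMap B (AdicCompletion 𝔟 B)) ≤
        RingHom.ker (AdicCompletion.evalₐ 𝔟 n) := by
      rw [Ideal.map_le_iff_le_comap]
      intro b hb
      rw [Ideal.mem_comap, RingHom.mem_ker, hιof, AdicCompletion.evalₐ_of]
      exact Ideal.Quotient.eq_zero_iff_mem.2 hb
    exact hle hx
  have hb : ∀ (n : ℕ) (x : AdicCompletion 𝔟 B),
      AdicCompletion.evalₐ 𝔟 n x = 0 → x ∈ (𝔟.map (algebraMap B (AdicCompletion 𝔟 B))) ^ n := by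
    intro n x hx
    have h1 : AdicCompletion.eval 𝔟 B n x = 0 := by
      have hle' : 𝔟 ^ n ≤ (𝔟 ^ n • ⊤ : Ideal B) := by simp
      rw [← AdicCompletion.factor_evalₐ_eq_eval 𝔟 x hle', hx, map_zero]
    have h2 : x ∈ (𝔟 ^ n • ⊤ : Submodule B (AdicCompletion 𝔟 B)) := by
      rw [AdicCompletion.pow_smul_top_eq_ker_eval hfg]; exact h1
    rw [← Ideal.map_pow]
    refine Submodule.smul_induction_on h2 ?_ ?_
    · intro r hr y _
      rw [Algebra.smul_def]
      exact Ideal.mul_mem_right _ _ (Ideal.mem_map_of_mem _ hr)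
    · intro y z hy hz
      exact Ideal.add_mem _ hy hz
  constructor
  · -- B formally smooth ⇒ completion formally smooth
    intro hs C _ _ J hJ hk uh ⟨k, huh⟩
    let u : B →ₐ[A] C ⧸ J := uh.comp (IsScalarTower.toAlgHom A B (AdicCompletion 𝔟 B))
    have hu : ∀ b ∈ 𝔟 ^ k, u b = 0 := by
      intro b hb'
      apply huh
      rw [← Ideal.map_pow]
      exact Ideal.mem_map_of_mem _ hb'
    obtain ⟨v, hv⟩ := hs C J hJ hk u ⟨k, hu⟩
    obtain ⟨m, hm⟩ := hJ
    have hm' : J ^ (m + 1) = ⊥ := by rw [pow_succ, hm]; simp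
    have hvJ : (𝔟 ^ k).map v.toRingHom ≤ J := by
      rw [Ideal.map_le_iff_le_comap]
      intro b hb'
      rw [Ideal.mem_comap]
      have h3 : Ideal.Quotient.mk J (v b) = u b := DFunLike.congr_fun hv b
      rw [hu b hb'] at h3
      exact Ideal.Quotient.eq_zero_iff_mem.1 h3
    have hkill : ∀ b ∈ 𝔟 ^ (k * (m + 1)), v b = 0 := by
      intro b hb'
      have h4 : v.toRingHom b ∈ (𝔟 ^ (k * (m + 1))).map v.toRingHom := Ideal.mem_map_of_mem _ hb'
      rw [pow_mul, Ideal.map_pow] at h4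
      have h5 := Ideal.pow_right_mono hvJ (m + 1) h4
      rw [hm'] at h5
      exact h5
    let vbar : (B ⧸ 𝔟 ^ (k * (m + 1))) →ₐ[A] C := Ideal.Quotient.liftₐ (𝔟 ^ (k * (m + 1))) v hkill
    refine ⟨vbar.comp ((AdicCompletion.evalₐ 𝔟 (k * (m + 1))).restrictScalars A), ?_⟩
    apply AlgHom.ext
    intro x
    obtain ⟨b, hbx⟩ := Ideal.Quotient.mk_surjective (AdicCompletion.evalₐ 𝔟 (k * (m + 1)) x)
    have h6 : AdicCompletion.evalₐ 𝔟 (k * (m + 1))
        (x - algebraMap B (AdicCompletion 𝔟 B) b) = 0 := by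
      rw [map_sub, hιof, AdicCompletion.evalₐ_of, hbx, sub_self]
    have h7 : x - algebraMap B (AdicCompletion 𝔟 B) b ∈
        (𝔟.map (algebraMap B (AdicCompletion 𝔟 B))) ^ k :=
      Ideal.pow_le_pow_right (Nat.le_mul_of_pos_right k (Nat.succ_pos m)) (hb _ _ h6)
    have h8 : uh x = uh (algebraMap B (AdicCompletion 𝔟 B) b) := by
      have := huh _ h7
      rw [map_sub, sub_eq_zero] at this
      exact this
    have h9 : vbar (AdicCompletion.evalₐ 𝔟 (k * (m + 1)) x) = v b := by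
      rw [← hbx]; rfl
    have h10 : Ideal.Quotient.mk J (v b) = u b := DFunLike.congr_fun hv b
    change Ideal.Quotient.mk J (vbar (AdicCompletion.evalₐ 𝔟 (k * (m + 1)) x)) = uh x
    rw [h9, h10, h8]
    rfl
  · -- completion formally smooth ⇒ B formally smooth
    intro hs C _ _ J hJ hk u ⟨k, hu⟩
    let ubar : (B ⧸ 𝔟 ^ k) →ₐ[A] C ⧸ J := Ideal.Quotient.liftₐ (𝔟 ^ k) u hu
    let uh : AdicCompletion 𝔟 B →ₐ[A] C ⧸ J :=
      ubar.comp ((AdicCompletion.evalₐ 𝔟 k).restrictScalars A)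
    have huh : ∀ x ∈ (𝔟.map (algebraMap B (AdicCompletion 𝔟 B))) ^ k, uh x = 0 := by
      intro x hx
      change ubar (AdicCompletion.evalₐ 𝔟 k x) = 0
      rw [ha k x hx, map_zero]
    obtain ⟨vh, hvh⟩ := hs C J hJ hk uh ⟨k, huh⟩
    refine ⟨vh.comp (IsScalarTower.toAlgHom A B (AdicCompletion 𝔟 B)), ?_⟩
    apply AlgHom.ext
    intro b
    have h3 : Ideal.Quotient.mk J (vh (algebraMap B (AdicCompletion 𝔟 B) b)) =
        uh (algebraMap B (AdicCompletion 𝔟 B) b) := DFunLike.congr_fun hvh _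
    change Ideal.Quotient.mk J (vh (algebraMap B (AdicCompletion 𝔟 B) b)) = u b
    rw [h3]
    change ubar (AdicCompletion.evalₐ 𝔟 k (algebraMap B (AdicCompletion 𝔟 B) b)) = u b
    rw [hιof, AdicCompletion.evalₐ_of]
    rfl

end Groth.Agent.S2461
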