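import Groth.Statements.S9443
import Groth.Agent.H87.PowEval
import Groth.Agent.S11741

set_option autoImplicit false
universe u
open CAlg

namespace Groth.Agent.S9443

/-- A complete regular local ring R with a coefficient field k (a subfield mapping isomorphically onto
the residue field) is k-isomorphic to a power series ring over k in finitely many variables
(existence of an isomorphism only; the number of variables is then the dimension of R). -/
theorem result (R : Type u)
    [CommRing R] [IsRegularLocalRing R] [IsAdicComplete (IsLocalRing.maximalIdeal R) R]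
    (k : Type u) [Field k] [Algebra k R]
    (hk : Function.Bijective (algebraMap k (IsLocalRing.ResidueField R))) :
    ∃ d : ℕ, Nonempty (R ≃ₐ[k] MvPowerSeries (Fin d) k) := by
  classical
  have hfd : FiniteDimensional (IsLocalRing.ResidueField R) (IsLocalRing.CotangentSpace R) :=
    inferInstance
  let b : Module.Basis (Fin (Module.finrank (IsLocalRing.ResidueField R)
      (IsLocalRing.CotangentSpace R))) (IsLocalRing.ResidueField R)
      (IsLocalRing.CotangentSpace R) := Module.finBasis _ _
  have hsurj : Function.Surjective (IsLocalRing.maximalIdeal R).toCotangent :=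
    Ideal.toCotangent_surjective _
  choose t ht using fun i => hsurj (b i)
  obtain ⟨ψ, -, hψ2⟩ := Groth.Agent.H87.PowEval.exists_mvEvalₐ (IsLocalRing.maximalIdeal R)
    (Algebra.ofId k R) (fun i => (t i : R)) (fun i => (t i).2)
  have hψ : ∀ i, ψ (MvPowerSeries.X i) ∈ IsLocalRing.maximalIdeal R := fun i => by
    rw [hψ2]; exact (t i).2
  have heq : (fun i => (IsLocalRing.maximalIdeal R).toCotangent ⟨ψ (MvPowerSeries.X i), hψ i⟩) =
      b := by
    funext i
    rw [← ht i]
    congr 1
    exact Subtype.ext (hψ2 i)
  have hR : Function.Surjective ((IsLocalRing.residue R).comp (algebraMap k R)) := by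
    intro x
    obtain ⟨c, hc⟩ := hk.2 x
    exact ⟨c, by rw [← hc]; rfl⟩
  have h1 : LinearIndependent (IsLocalRing.ResidueField R)
      (fun i => (IsLocalRing.maximalIdeal R).toCotangent ⟨ψ (MvPowerSeries.X i), hψ i⟩) := by
    rw [heq]; exact b.linearIndependent
  have h2 : Submodule.span (IsLocalRing.ResidueField R) (Set.range
      (fun i => (IsLocalRing.maximalIdeal R).toCotangent ⟨ψ (MvPowerSeries.X i), hψ i⟩)) = ⊤ := by
    rw [heq]; exact b.span_eq
  have hbij := (Groth.Agent.S11741.result k R hR _ ψ hψ h1 h2).1 inferInstance
  exact ⟨_, ⟨(AlgEquiv.ofBijective ψ hbij).symm⟩⟩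

end Groth.Agent.S9443
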