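import Groth.Statements.S2453
import Groth.Agent.H87.FSField
import Groth.Agent.S0548
import Groth.Agent.S2461
import Groth.Agent.S4537
import Groth.Agent.S9443
import Groth.Agent.S2451
import Groth.Agent.S4533
import Groth.Agent.S4534
import Groth.Agent.Lead.CompleteNoetherian

set_option autoImplicit false
set_option maxHeartbeats 400000
universe u
open EGA41

namespace Groth.Agent.S2453

open IsLocalRing in
/-- Let k be a field and A a Noetherian local k-algebra with maximal ideal 𝔪 and residue field K
separable over k; give A the 𝔪-adic topology (k discrete). The following are equivalent: (a) A is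
formally smooth over k; (b) the 𝔪-adic completion of A is isomorphic to some K[[T_1, …, T_n]] by an
isomorphism carrying the image of k in A to the image of k under k → K → K[[T]]; (b') the completion
is isomorphic as a ring to some K[[T_1, …, T_n]]; (c) A is a regular local ring. -/
theorem result {k A : Type u} [Field k] [CommRing A] [IsLocalRing A] [IsNoetherianRing A] [Algebra k A]
    [Algebra.IsGeometricallyReduced k (ResidueField A)] :
    [CAlgX.IsAdicFormallySmooth k A (maximalIdeal A),
     ∃ (n : ℕ) (e : AdicCompletion (maximalIdeal A) A ≃+* MvPowerSeries (Fin n) (ResidueField A)),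
       ∀ x : k, e (algebraMap A (AdicCompletion (maximalIdeal A) A) (algebraMap k A x)) =
         algebraMap (ResidueField A) (MvPowerSeries (Fin n) (ResidueField A)) (algebraMap k (ResidueField A) x),
     ∃ n : ℕ, Nonempty (AdicCompletion (maximalIdeal A) A ≃+* MvPowerSeries (Fin n) (ResidueField A)),
     IsRegularLocalRing A].TFAE := by
  classical
  have _ : IsNoetherianRing (AdicCompletion (maximalIdeal A) A) :=
    Groth.Agent.Lead.isNoetherianRing_adicCompletion (maximalIdeal A)
      (IsNoetherian.noetherian _)
  have hbij := AdicCompletion.residueField_map_bijective A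
  let ι : IsLocalRing.ResidueField A →ₐ[k]
      IsLocalRing.ResidueField (AdicCompletion (IsLocalRing.maximalIdeal A) A) :=
    { IsLocalRing.ResidueField.map
        (algebraMap A (AdicCompletion (IsLocalRing.maximalIdeal A) A)) with
      commutes' := fun c => by
        show IsLocalRing.ResidueField.map
          (algebraMap A (AdicCompletion (IsLocalRing.maximalIdeal A) A))
            (algebraMap k (IsLocalRing.ResidueField A) c) =
          algebraMap k (IsLocalRing.ResidueField (AdicCompletion (IsLocalRing.maximalIdeal A) A)) c
        rw [IsScalarTower.algebraMap_apply k A (IsLocalRing.ResidueField A),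
          IsLocalRing.ResidueField.algebraMap_eq, IsLocalRing.ResidueField.map_residue,
          IsScalarTower.algebraMap_apply k (AdicCompletion (IsLocalRing.maximalIdeal A) A)
            (IsLocalRing.ResidueField (AdicCompletion (IsLocalRing.maximalIdeal A) A)),
          IsLocalRing.ResidueField.algebraMap_eq,
          IsScalarTower.algebraMap_apply k A (AdicCompletion (IsLocalRing.maximalIdeal A) A)] }
  let ιe : IsLocalRing.ResidueField A ≃ₐ[k]
      IsLocalRing.ResidueField (AdicCompletion (IsLocalRing.maximalIdeal A) A) :=
    AlgEquiv.ofBijective ι hbij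
  have hιe : ∀ x, ιe x = ι x := fun x => rfl
  have _ : Algebra.IsGeometricallyReduced k
      (IsLocalRing.ResidueField (AdicCompletion (IsLocalRing.maximalIdeal A) A)) :=
    Algebra.IsGeometricallyReduced.of_injective
      (ιe.symm : IsLocalRing.ResidueField (AdicCompletion (IsLocalRing.maximalIdeal A) A) →ₐ[k]
        IsLocalRing.ResidueField A) ιe.symm.injective
  have hiff : CAlgX.IsAdicFormallySmooth k A (maximalIdeal A) ↔
      EGA41.IsFormallySmoothAdic k ⊥ (AdicCompletion (maximalIdeal A) A)
        (maximalIdeal (AdicCompletion (maximalIdeal A) A)) := by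
    rw [AdicCompletion.maximalIdeal_eq_map, ← Groth.Agent.S2461.result, Groth.Agent.S4537.result]
  tfae_have 1 → 4 := by
    intro hA
    obtain ⟨n, σ, e, -, -⟩ := Groth.Agent.H87.FSField.ps_equiv_of_smooth (hiff.1 hA)
    have _ := Groth.Agent.H61.Obs.ps_isRegularLocalRing
      (k := ResidueField (AdicCompletion (maximalIdeal A) A)) n
    have h1 : IsRegularLocalRing (AdicCompletion (maximalIdeal A) A) :=
      IsRegularLocalRing.of_ringEquiv e.toRingEquiv
    exact (Groth.Agent.S0548.result A).2 h1
  tfae_have 4 → 2 := by
    intro hreg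
    have h1 : IsRegularLocalRing (AdicCompletion (maximalIdeal A) A) :=
      (Groth.Agent.S0548.result A).1 hreg
    obtain ⟨σ, hσ⟩ := Groth.Agent.S2452.result (k := k)
      (A := AdicCompletion (IsLocalRing.maximalIdeal A) A)
    let _ : Algebra (ResidueField A) (AdicCompletion (maximalIdeal A) A) :=
      (σ.comp ι).toRingHom.toAlgebra
    have halg : ∀ y : ResidueField A,
        algebraMap (ResidueField A) (AdicCompletion (maximalIdeal A) A) y = σ (ι y) := fun y => rfl
    obtain ⟨d, ⟨e⟩⟩ := Groth.Agent.S9443.result (AdicCompletion (maximalIdeal A) A)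
      (ResidueField A) (by
        convert hbij using 1
        funext y
        show residue _ (σ (ι y)) = ι y
        rw [hσ])
    refine ⟨d, e.toRingEquiv, fun x => ?_⟩
    have h3 : algebraMap A (AdicCompletion (maximalIdeal A) A) (algebraMap k A x) =
        algebraMap (ResidueField A) (AdicCompletion (maximalIdeal A) A)
          (algebraMap k (ResidueField A) x) := by
      rw [halg, ι.commutes, σ.commutes,
        IsScalarTower.algebraMap_apply k A (AdicCompletion (IsLocalRing.maximalIdeal A) A)]
    rw [h3]
    exact e.commutes _
  tfae_have 2 → 3 := by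
    rintro ⟨n, e, -⟩
    exact ⟨n, ⟨e⟩⟩
  tfae_have 3 → 4 := by
    rintro ⟨n, ⟨e⟩⟩
    have _ := Groth.Agent.H61.Obs.ps_isRegularLocalRing (k := ResidueField A) n
    have h1 : IsRegularLocalRing (AdicCompletion (maximalIdeal A) A) :=
      IsRegularLocalRing.of_ringEquiv e.symm
    exact (Groth.Agent.S0548.result A).2 h1
  tfae_have 2 → 1 := by
    rintro ⟨n, e, he⟩
    rw [hiff]
    let e' : AdicCompletion (maximalIdeal A) A ≃ₐ[k] MvPowerSeries (Fin n) (ResidueField A) :=
      AlgEquiv.ofRingEquiv (f := e) (fun x => by
        rw [IsScalarTower.algebraMap_apply k A (AdicCompletion (IsLocalRing.maximalIdeal A) A), he,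
          ← IsScalarTower.algebraMap_apply])
    have hK : Algebra.FormallySmooth k (ResidueField A) :=
      Groth.Agent.S2451.result.2 inferInstance
    have hK' : EGA41.IsFormallySmoothAdic k ⊥ (ResidueField A) ⊥ := by
      intro C _ _ J hJ _ u _
      exact Algebra.FormallySmooth.exists_lift J hJ u
    have hPK := Groth.Agent.S4533.result (ResidueField A) ⊥ n
    have hP := Groth.Agent.S4534.result (A := k) (B := ResidueField A)
      (C := MvPowerSeries (Fin n) (ResidueField A)) ⊥ ⊥ _
      ⟨1, by rw [pow_one, Ideal.map_bot]⟩ ⟨1, by rw [pow_one, Ideal.map_bot]; exact bot_le⟩ hK' hPK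
    refine Groth.Agent.H87.FSField.smooth_of_equiv e'.symm ⊥ _ _ (fun f hf => ?_) hP
    rw [Ideal.map_bot, bot_sup_eq, RingHom.mem_ker] at hf
    rw [mem_maximalIdeal, mem_nonunits_iff]
    intro hu
    have h1 : IsUnit (e' (e'.symm f)) := hu.map e'
    rw [AlgEquiv.apply_symm_apply, MvPowerSeries.isUnit_iff_constantCoeff, hf] at h1
    exact not_isUnit_zero h1
  tfae_finish

end Groth.Agent.S2453
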