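import Groth.Statements.S4529
import Mathlib.RingTheory.Nakayama
import Mathlib.RingTheory.FiniteType
import Mathlib.RingTheory.Nilpotent.Basic
import Mathlib.RingTheory.OrzechProperty

set_option autoImplicit false
universe u
open EGA41

namespace Groth.Agent.S4529

section
variable {A : Type u} [CommRing A] {M : Type u} [AddCommGroup M] [Module A M] (J : Ideal A)

theorem pow_mem (ψ : Module.End A M) (hψ : ∀ m, ψ m ∈ (J • ⊤ : Submodule A M)) :
    ∀ (k : ℕ) (m : M), (ψ ^ k) m ∈ (J ^ k • ⊤ : Submodule A M) := by
  intro k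
  induction k with
  | zero => intro m; simp
  | succ k ih =>
    intro m
    have e1 : (ψ ^ (k + 1)) m = ψ ((ψ ^ k) m) := by
      rw [pow_succ' ψ k, Module.End.mul_apply]
    rw [e1]
    have key : ∀ y ∈ (J ^ k • ⊤ : Submodule A M), ψ y ∈ (J ^ (k + 1) • ⊤ : Submodule A M) := by
      intro y hy
      refine Submodule.smul_induction_on hy ?_ ?_
      · intro a ha n _
        rw [map_smul, pow_succ, Submodule.mul_smul]
        exact Submodule.smul_mem_smul ha (hψ n)
      · intro x y hx hy
        rw [map_add]
        exact add_mem hx hy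
    exact key _ (ih m)

theorem exists_left_inv (φ : Module.End A M) (hφ : ∀ m, φ m - m ∈ (J • ⊤ : Submodule A M))
    (hJ : IsNilpotent J ∨ (J ≤ (⊥ : Ideal A).jacobson ∧ Module.Finite A M)) :
    ∃ φ' : Module.End A M, φ' * φ = 1 := by
  rcases hJ with hnil | ⟨hjac, hfin⟩
  · obtain ⟨n, hn⟩ := hnil
    have hψ : ∀ m, (1 - φ) m ∈ (J • ⊤ : Submodule A M) := by
      intro m
      have := hφ m
      rw [← neg_sub] at this
      simpa using (Submodule.neg_mem_iff _).mp this
    have hnil' : IsNilpotent (1 - φ) := by
      refine ⟨n, ?_⟩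
      ext m
      have := pow_mem J (1 - φ) hψ n m
      rw [hn] at this
      simpa using this
    have hu : IsUnit (1 - (1 - φ)) := by
      have := hnil'.neg.isUnit_one_add
      rwa [← sub_eq_add_neg] at this
    rw [sub_sub_cancel] at hu
    obtain ⟨v, hv⟩ := hu
    exact ⟨(v⁻¹ : (Module.End A M)ˣ), by rw [← hv]; simp⟩
  · have hsurj : Function.Surjective φ := by
      rw [← LinearMap.range_eq_top, eq_top_iff]
      apply Submodule.le_of_le_smul_of_le_jacobson_bot (I := J) Module.Finite.fg_top hjac
      intro m _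
      have : m = φ m + (-(φ m - m)) := by abel
      rw [this]
      exact Submodule.add_mem_sup (LinearMap.mem_range_self φ m)
        ((Submodule.neg_mem_iff _).mpr (hφ m))
    have hbij := OrzechProperty.bijective_of_surjective_endomorphism φ hsurj
    let e := LinearEquiv.ofBijective φ hbij
    refine ⟨e.symm.toLinearMap, ?_⟩
    ext m
    simp [e]

end


/-- Let A be a ring, M, N two A-modules with N projective, u : M → N a homomorphism and J an ideal of A;
suppose either (i) J is nilpotent, or (ii) J is contained in the Jacobson radical of A and M is of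
finite type. Then u is left invertible if and only if the induced map u₀ : M/JM → N/JN is left
invertible. (A left inverse of u₀ composed with N → N/JN is an A-linear map v : N → M/JM with v ∘ u
the projection, and conversely; the right-hand side is written in that form.) -/
theorem result {A : Type u} [CommRing A] {M N : Type u} [AddCommGroup M] [Module A M]
    [AddCommGroup N] [Module A N] [Module.Projective A N] (u : M →ₗ[A] N) (J : Ideal A)
    (hJ : IsNilpotent J ∨ (J ≤ (⊥ : Ideal A).jacobson ∧ Module.Finite A M)) :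
    (∃ w : N →ₗ[A] M, w ∘ₗ u = LinearMap.id) ↔
      ∃ v : N →ₗ[A] M ⧸ (J • ⊤ : Submodule A M), v ∘ₗ u = (J • ⊤ : Submodule A M).mkQ := by
  constructor
  · rintro ⟨w, hw⟩
    refine ⟨(J • ⊤ : Submodule A M).mkQ ∘ₗ w, ?_⟩
    rw [LinearMap.comp_assoc, hw, LinearMap.comp_id]
  · rintro ⟨v, hv⟩
    obtain ⟨w₀, hw₀⟩ := Module.projective_lifting_property (J • ⊤ : Submodule A M).mkQ v
      (Submodule.mkQ_surjective _)
    have hφ : ∀ m, (w₀ ∘ₗ u) m - m ∈ (J • ⊤ : Submodule A M) := by
      intro m
      rw [← Submodule.Quotient.eq]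
      have h1 := LinearMap.congr_fun hw₀ (u m)
      have h2 := LinearMap.congr_fun hv m
      simp only [LinearMap.comp_apply, Submodule.mkQ_apply] at h1 h2
      rw [LinearMap.comp_apply, h1, h2]
    obtain ⟨φ', hφ'⟩ := exists_left_inv J (w₀ ∘ₗ u) hφ hJ
    refine ⟨φ' ∘ₗ w₀, ?_⟩
    rw [LinearMap.comp_assoc]
    exact hφ'

end Groth.Agent.S4529
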