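import Groth.Statements.S4544
import Groth.Agent.Lead.KaehlerProj

set_option autoImplicit false
universe u
open EGA41

namespace Groth.Agent.S4544

open TensorProduct in
/-- Let B (𝔟-adic) be a formally smooth topological A-algebra over A (𝔞-adic), the structure map being
continuous (a power of 𝔞 maps into 𝔟); squares of open ideals of B are then open. For every open
ideal 𝔄 of B (an ideal containing a power of 𝔟), Ω_{B/A} ⊗_B (B/𝔄) = Ω_{B/A}/𝔄Ω_{B/A} is a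
projective (B/𝔄)-module. -/
theorem result {A B : Type u} [CommRing A] [CommRing B] [Algebra A B]
    (𝔞 : Ideal A) (𝔟 : Ideal B) (hAB : ∃ k : ℕ, (𝔞 ^ k).map (algebraMap A B) ≤ 𝔟)
    (h : EGA41.IsFormallySmoothAdic A 𝔞 B 𝔟) (𝔄 : Ideal B) (h𝔄 : ∃ n : ℕ, 𝔟 ^ n ≤ 𝔄) :
    Module.Projective (B ⧸ 𝔄) ((B ⧸ 𝔄) ⊗[B] Ω[B⁄A]) := by
  obtain ⟨k₀, hk₀⟩ := hAB
  obtain ⟨n, hn⟩ := h𝔄
  have hk : ∃ k : ℕ, (𝔞 ^ k).map (algebraMap A (Lead.KaehlerProj.C A B 𝔄)) = ⊥ := by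
    refine ⟨k₀ * n, ?_⟩
    rw [Ideal.map_eq_bot_iff_le_ker]
    intro a ha
    rw [RingHom.mem_ker]
    apply Lead.KaehlerProj.algebraMap_C_eq_zero
    apply hn
    have h1 : (𝔞 ^ (k₀ * n)).map (algebraMap A B) ≤ 𝔟 ^ n := by
      rw [pow_mul, Ideal.map_pow]
      exact Ideal.pow_right_mono hk₀ n
    exact h1 (Ideal.mem_map_of_mem _ ha)
  have hu : ∃ k : ℕ, ∀ x ∈ 𝔟 ^ k, Lead.KaehlerProj.u A B 𝔄 x = 0 := by
    refine ⟨n + n, ?_⟩
    intro x hx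
    apply Lead.KaehlerProj.u_eq_zero_of_mem_mul
    rw [pow_add] at hx
    exact Ideal.mul_mono hn hn hx
  obtain ⟨v, hv⟩ := h (Lead.KaehlerProj.C A B 𝔄) (RingHom.ker (Lead.KaehlerProj.f A B 𝔄))
    (Lead.KaehlerProj.ker_nilpotent A B 𝔄) hk (Lead.KaehlerProj.u A B 𝔄) hu
  exact Lead.KaehlerProj.projective_of_lift A B 𝔄 v hv

end Groth.Agent.S4544
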