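import Groth.Statements.S2471
import Groth.Agent.H87.FSTower
import Groth.Agent.S2453
import Groth.Agent.S4544
import Groth.Agent.S4537
import Groth.Agent.S4534
import Groth.Agent.S2451

set_option autoImplicit false
set_option maxHeartbeats 400000
universe u
open EGA41

namespace Groth.Agent.S2471

open IsLocalRing in
/-- Let k be a field and A a Noetherian local k-algebra with maximal ideal 𝔪 and residue field K. Then A
is formally smooth over k for the 𝔪-adic topology if and only if A is regular and the canonical map
Ω_{k/ℤ} ⊗_k K → Ω_{A/ℤ} ⊗_A K is injective. (The published criterion has a first condition that, for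
Noetherian A, amounts to regularity of A; it is stated here for Noetherian A only.) -/
theorem result {k A : Type u} [Field k] [CommRing A] [IsLocalRing A] [IsNoetherianRing A] [Algebra k A] :
    CAlgX.IsAdicFormallySmooth k A (maximalIdeal A) ↔
      (IsRegularLocalRing A ∧ Function.Injective ((KaehlerDifferential.mapBaseChange ℤ k A).lTensor (ResidueField A))) := by
  have hK₀ : Algebra.IsGeometricallyReduced (⊥ : Subfield k) (ResidueField A) :=
    Groth.Agent.S2451.result.1 (Groth.Agent.H44.CoeffField.formallySmooth_bot' k (ResidueField A))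
  have h14 : CAlgX.IsAdicFormallySmooth (⊥ : Subfield k) A (maximalIdeal A) ↔
      IsRegularLocalRing A :=
    (Groth.Agent.S2453.result (k := (⊥ : Subfield k)) (A := A)).out 0 3
  constructor
  · intro h
    refine ⟨h14.1 ?_, Groth.Agent.H87.FSTower.injective_of_smooth h⟩
    rw [Groth.Agent.S4537.result] at h ⊢
    have hk : EGA41.IsFormallySmoothAdic (⊥ : Subfield k) ⊥ k ⊥ := by
      have := Groth.Agent.H44.CoeffField.formallySmooth_bot k
      intro C _ _ J hJ _ u _
      exact Algebra.FormallySmooth.exists_lift J hJ u
    exact Groth.Agent.S4534.result (A := (⊥ : Subfield k)) (B := k) (C := A) ⊥ ⊥ _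
      ⟨1, by rw [pow_one, Ideal.map_bot]⟩ ⟨1, by rw [pow_one, Ideal.map_bot]; exact bot_le⟩ hk h
  · rintro ⟨hreg, hinj⟩
    have h₀ := h14.2 hreg
    refine Groth.Agent.H87.FSTower.smooth_of_smooth_bot_of_injective h₀ (fun j => ?_) hinj
    apply Groth.Agent.H87.FSTower.projective_kaehler_int (k := k)
    exact Groth.Agent.S4544.result (A := (⊥ : Subfield k)) (B := A) ⊥ (maximalIdeal A)
      ⟨1, by rw [pow_one, Ideal.map_bot]; exact bot_le⟩ ((Groth.Agent.S4537.result _).1 h₀)
      (maximalIdeal A ^ j) ⟨j, le_rfl⟩

end Groth.Agent.S2471
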