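import Groth.Statements.S2473
import Mathlib
import Groth.Agent.S4595
import Groth.Agent.H23.RegularSeq3
import Groth.Agent.H75.Rees
import Groth.Agent.S0564
-- import your own Groth.Agent.* helpers here

set_option autoImplicit false
universe u
open EGA41

set_option linter.style.haveILetI false
set_option linter.unusedSectionVars false
set_option linter.unusedVariables false

namespace Groth.Agent.S2473

open IsLocalRing TensorProduct

theorem map_maximalIdeal_of_surjective {R S : Type*} [CommRing R] [CommRing S]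
    [IsLocalRing R] [IsLocalRing S] (π : R →+* S) (hπ : Function.Surjective π) :
    (maximalIdeal R).map π = maximalIdeal S := by
  have hkm : RingHom.ker π ≤ maximalIdeal R := IsLocalRing.le_maximalIdeal (RingHom.ker_ne_top π)
  rcases Ideal.map_eq_top_or_isMaximal_of_surjective π hπ (maximalIdeal.isMaximal R) with h | h
  · exfalso
    have h1 : (1 : S) ∈ (maximalIdeal R).map π := by rw [h]; trivial
    obtain ⟨x, hx, hx1⟩ := (Ideal.mem_map_iff_of_surjective π hπ).1 h1
    have h2 : x - 1 ∈ RingHom.ker π := by rw [RingHom.mem_ker, map_sub, hx1, map_one, sub_self]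
    have h3 : (1 : R) ∈ maximalIdeal R := by
      have h4 := Ideal.sub_mem _ hx (hkm h2)
      simpa using h4
    exact (Ideal.ne_top_iff_one _).1 (maximalIdeal.isMaximal R).ne_top h3
  · exact eq_maximalIdeal h

/-- The minimal number of generators of the maximal ideal is unchanged by a surjection whose kernel
lies in the square of the maximal ideal. -/
theorem spanFinrank_maximalIdeal_eq_of_surjective {R S : Type*} [CommRing R] [CommRing S]
    [IsLocalRing R] [IsLocalRing S] [IsNoetherianRing R]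
    (π : R →+* S) (hπ : Function.Surjective π) (hker : RingHom.ker π ≤ maximalIdeal R ^ 2) :
    (maximalIdeal S).spanFinrank = (maximalIdeal R).spanFinrank := by
  classical
  haveI : IsNoetherianRing S := isNoetherianRing_of_surjective R S π hπ
  have hmap : (maximalIdeal R).map π = maximalIdeal S := map_maximalIdeal_of_surjective π hπ
  apply le_antisymm
  · rw [← hmap]
    exact Ideal.spanFinrank_map_le_of_fg π (maximalIdeal R).fg_of_isNoetherianRing
  · obtain ⟨t, ht1, ht2⟩ := Submodule.FG.exists_span_finset_card_eq_spanFinrank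
      (p := (maximalIdeal S : Submodule S S)) (maximalIdeal S).fg_of_isNoetherianRing
    have hlift : ∀ y : S, y ∈ t → ∃ x : R, x ∈ maximalIdeal R ∧ π x = y := by
      intro y hy
      have hy' : y ∈ maximalIdeal S := by rw [← ht2]; exact Submodule.subset_span hy
      rw [← hmap] at hy'
      exact (Ideal.mem_map_iff_of_surjective π hπ).1 hy'
    choose! g hg using hlift
    have hs_le : Submodule.span R ((t.image g : Finset R) : Set R) ≤ maximalIdeal R := by
      rw [Submodule.span_le]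
      intro x hx
      rw [Finset.coe_image] at hx
      obtain ⟨y, hy, rfl⟩ := hx
      exact (hg y hy).1
    have hle : (maximalIdeal R : Submodule R R) ≤
        Submodule.span R ((t.image g : Finset R) : Set R) ⊔ maximalIdeal R • (maximalIdeal R : Submodule R R) := by
      intro x hx
      have h1 : π x ∈ Submodule.span S (t : Set S) := by
        rw [ht2, ← hmap]; exact Ideal.mem_map_of_mem π hx
      obtain ⟨cf, -, hcf⟩ := Submodule.mem_span_finset.1 h1
      choose d hd using fun y : S => hπ (cf y)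
      have hx' : ∑ y ∈ t, d y * g y ∈ Submodule.span R ((t.image g : Finset R) : Set R) := by
        refine Submodule.sum_mem _ fun y hy => ?_
        exact Submodule.smul_mem _ _
          (Submodule.subset_span (Finset.mem_coe.2 (Finset.mem_image_of_mem g hy)))
      have hdiff : x - ∑ y ∈ t, d y * g y ∈ RingHom.ker π := by
        rw [RingHom.mem_ker, map_sub, map_sum, ← hcf, sub_eq_zero]
        refine Finset.sum_congr rfl fun y hy => ?_
        rw [map_mul, hd, (hg y hy).2, smul_eq_mul]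
      have h2 : x - ∑ y ∈ t, d y * g y ∈ maximalIdeal R • (maximalIdeal R : Submodule R R) := by
        have h3 := hker hdiff
        rw [pow_two] at h3
        exact h3
      have h4 : x = ∑ y ∈ t, d y * g y + (x - ∑ y ∈ t, d y * g y) := by ring
      rw [h4]
      exact Submodule.add_mem_sup hx' h2
    have hle' : (maximalIdeal R : Submodule R R) ≤ Submodule.span R ((t.image g : Finset R) : Set R) :=
      Submodule.le_of_le_smul_of_le_jacobson_bot (maximalIdeal R).fg_of_isNoetherianRing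
        (IsLocalRing.maximalIdeal_le_jacobson ⊥) hle
    have heq : Submodule.span R ((t.image g : Finset R) : Set R) = maximalIdeal R :=
      le_antisymm hs_le hle'
    calc (maximalIdeal R).spanFinrank
        = (Submodule.span R ((t.image g : Finset R) : Set R)).spanFinrank := by rw [heq]
      _ ≤ ((t.image g : Finset R) : Set R).ncard :=
          Submodule.spanFinrank_span_le_ncard_of_finite (Finset.finite_toSet _)
      _ = (t.image g).card := Set.ncard_coe_finset _
      _ ≤ t.card := Finset.card_image_le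
      _ = (maximalIdeal S).spanFinrank := ht1

theorem finrank_cotangentSpace_eq_of_surjective {R S : Type*} [CommRing R] [CommRing S]
    [IsLocalRing R] [IsLocalRing S] [IsNoetherianRing R]
    (π : R →+* S) (hπ : Function.Surjective π) (hker : RingHom.ker π ≤ maximalIdeal R ^ 2) :
    Module.finrank (ResidueField S) (CotangentSpace S) = (maximalIdeal R).spanFinrank := by
  haveI : IsNoetherianRing S := isNoetherianRing_of_surjective R S π hπ
  rw [← IsLocalRing.spanFinrank_maximalIdeal_eq_finrank_cotangentSpace,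
    spanFinrank_maximalIdeal_eq_of_surjective π hπ hker]

theorem regular_iff_spanFinrank_eq {R S : Type*} [CommRing R] [CommRing S]
    [IsLocalRing R] [IsNoetherianRing R] [IsRegularLocalRing S]
    (hdim : ringKrullDim R = ringKrullDim S) :
    IsRegularLocalRing R ↔ (maximalIdeal S).spanFinrank = (maximalIdeal R).spanFinrank := by
  rw [isRegularLocalRing_iff, hdim, ← IsRegularLocalRing.spanFinrank_maximalIdeal (R := S)]
  constructor
  · intro h
    exact_mod_cast h.symm
  · intro h
    exact_mod_cast h.symm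

/-- Linear independence of the `1 ⊗ d f_i` in `K ⊗ Ω_{R/ℤ}` in terms of "derivations" into a copy
`L` of the residue field. -/
theorem linearIndependent_tmul_D_iff {R : Type u} [CommRing R] [IsLocalRing R] {L : Type u}
    [Field L] (ρ : R →+* L) (hρ : Function.Surjective ρ)
    (hker : ∀ x, ρ x = 0 ↔ x ∈ maximalIdeal R) {r : ℕ} (f : Fin r → R) :
    LinearIndependent (ResidueField R)
        (fun i => (1 : ResidueField R) ⊗ₜ[R] KaehlerDifferential.D ℤ R (f i)) ↔
      ∀ c : Fin r → R, (∀ δ : R →+ L, (∀ a b, δ (a * b) = ρ a * δ b + ρ b * δ a) →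
        ∑ i, ρ (c i) * δ (f i) = 0) → ∀ i, c i ∈ maximalIdeal R := by
  classical
  let ρb : ResidueField R →+* L :=
    Ideal.Quotient.lift (maximalIdeal R) ρ (fun x hx => (hker x).2 hx)
  have hρb_inj : Function.Injective ρb := ρb.injective
  have hρb_surj : Function.Surjective ρb := fun y => by
    obtain ⟨x, rfl⟩ := hρ y
    exact ⟨residue R x, rfl⟩
  let e : ResidueField R ≃+* L := RingEquiv.ofBijective ρb ⟨hρb_inj, hρb_surj⟩
  rw [Fintype.linearIndependent_iff]
  constructor
  · intro hLI c hc i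
    have hsum : ∑ i, residue R (c i) •
        ((1 : ResidueField R) ⊗ₜ[R] KaehlerDifferential.D ℤ R (f i)) = 0 := by
      rw [← Module.forall_dual_apply_eq_zero_iff (ResidueField R)]
      intro φ
      let δ : R →+ L :=
        { toFun := fun a => ρb (φ ((1 : ResidueField R) ⊗ₜ[R] KaehlerDifferential.D ℤ R a))
          map_zero' := by rw [map_zero, TensorProduct.tmul_zero, map_zero, map_zero]
          map_add' := fun a b => by rw [map_add, TensorProduct.tmul_add, map_add, map_add] }
      have hδ : ∀ a b, δ (a * b) = ρ a * δ b + ρ b * δ a := by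
        intro a b
        show ρb (φ ((1 : ResidueField R) ⊗ₜ[R] KaehlerDifferential.D ℤ R (a * b)))
          = ρ a * ρb (φ ((1 : ResidueField R) ⊗ₜ[R] KaehlerDifferential.D ℤ R b))
            + ρ b * ρb (φ ((1 : ResidueField R) ⊗ₜ[R] KaehlerDifferential.D ℤ R a))
        rw [Derivation.leibniz, TensorProduct.tmul_add, TensorProduct.tmul_smul,
          TensorProduct.tmul_smul, map_add,
          ← algebraMap_smul (ResidueField R) a, ← algebraMap_smul (ResidueField R) b,
          map_smul, map_smul, smul_eq_mul, smul_eq_mul, map_add, map_mul, map_mul]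
        rfl
      have h1 := hc δ hδ
      rw [map_sum]
      apply hρb_inj
      rw [map_sum, map_zero, ← h1]
      refine Finset.sum_congr rfl fun i _ => ?_
      rw [map_smul, smul_eq_mul, map_mul]
      rfl
    exact (residue_eq_zero_iff _).1 (hLI _ hsum i)
  · intro hP g hg i
    choose c hc using fun i => residue_surjective (g i)
    have hci : ∀ i, c i ∈ maximalIdeal R := by
      apply hP c
      intro δ hδ
      have he : ∀ x, e.symm (ρ x) = algebraMap R (ResidueField R) x := fun x => by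
        rw [RingEquiv.symm_apply_eq]; rfl
      let δ' : Derivation ℤ R (ResidueField R) := Derivation.mk'
        ((e.symm.toAddMonoidHom.comp δ).toIntLinearMap) (fun a b => by
          show e.symm (δ (a * b)) = a • e.symm (δ b) + b • e.symm (δ a)
          rw [hδ, map_add, map_mul, map_mul, Algebra.smul_def, Algebra.smul_def, he, he])
      have h2 := congrArg
        (LinearMap.liftBaseChange (ResidueField R) δ'.liftKaehlerDifferential) hg
      rw [map_sum, map_zero] at h2
      have h3 : ∀ i, LinearMap.liftBaseChange (ResidueField R) δ'.liftKaehlerDifferential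
          (g i • ((1 : ResidueField R) ⊗ₜ[R] KaehlerDifferential.D ℤ R (f i)))
          = g i * e.symm (δ (f i)) := by
        intro i
        rw [map_smul, LinearMap.liftBaseChange_tmul, one_smul,
          Derivation.liftKaehlerDifferential_comp_D, smul_eq_mul]
        rfl
      rw [Finset.sum_congr rfl fun i _ => h3 i] at h2
      have h4 := congrArg e h2
      rw [map_sum, map_zero] at h4
      rw [← h4]
      refine Finset.sum_congr rfl fun i _ => ?_
      rw [map_mul, RingEquiv.apply_symm_apply, ← hc i]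
      rfl
    rw [← hc i]
    exact (residue_eq_zero_iff _).2 (hci i)

/-- `K ⊗ Ω_{A/ℤ}` only depends on `A/𝔪²`, as far as linear independence of differentials goes. -/
theorem linearIndependent_tmul_D_quotient_sq {A : Type u} [CommRing A] [IsLocalRing A]
    (𝔞 : Ideal A) (h𝔞 : 𝔞 = maximalIdeal A ^ 2) [IsLocalRing (A ⧸ 𝔞)] {r : ℕ} (f : Fin r → A) :
    LinearIndependent (ResidueField (A ⧸ 𝔞)) (fun i => (1 : ResidueField (A ⧸ 𝔞)) ⊗ₜ[A ⧸ 𝔞]
        KaehlerDifferential.D ℤ (A ⧸ 𝔞) (Ideal.Quotient.mk 𝔞 (f i))) ↔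
      LinearIndependent (ResidueField A)
        (fun i => (1 : ResidueField A) ⊗ₜ[A] KaehlerDifferential.D ℤ A (f i)) := by
  classical
  have h𝔞m : 𝔞 ≤ maximalIdeal A := by rw [h𝔞]; exact Ideal.pow_le_self two_ne_zero
  have hm₂ : (maximalIdeal A).map (Ideal.Quotient.mk 𝔞) = maximalIdeal (A ⧸ 𝔞) :=
    map_maximalIdeal_of_surjective _ Ideal.Quotient.mk_surjective
  have hmem : ∀ x : A, Ideal.Quotient.mk 𝔞 x ∈ maximalIdeal (A ⧸ 𝔞) ↔ x ∈ maximalIdeal A := by
    intro x
    rw [← hm₂]
    exact Ideal.mem_quotient_iff_mem h𝔞m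
  let ρ₂ : (A ⧸ 𝔞) →+* ResidueField (A ⧸ 𝔞) := residue (A ⧸ 𝔞)
  let ρ : A →+* ResidueField (A ⧸ 𝔞) := ρ₂.comp (Ideal.Quotient.mk 𝔞)
  have hρ₂surj : Function.Surjective ρ₂ := residue_surjective
  have hρsurj : Function.Surjective ρ := hρ₂surj.comp Ideal.Quotient.mk_surjective
  have hρ₂ker : ∀ x, ρ₂ x = 0 ↔ x ∈ maximalIdeal (A ⧸ 𝔞) := fun x => residue_eq_zero_iff x
  have hρker : ∀ x, ρ x = 0 ↔ x ∈ maximalIdeal A := fun x => (hρ₂ker _).trans (hmem x)
  refine Iff.trans (linearIndependent_tmul_D_iff ρ₂ hρ₂surj hρ₂ker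
    (fun i => Ideal.Quotient.mk 𝔞 (f i)))
    (Iff.trans ?_ (linearIndependent_tmul_D_iff ρ hρsurj hρker f).symm)
  constructor
  · intro hP₂ c hc i
    have h1 := hP₂ (fun i => Ideal.Quotient.mk 𝔞 (c i)) (fun δ₂ hδ₂ => by
      have h2 := hc (δ₂.comp (Ideal.Quotient.mk 𝔞).toAddMonoidHom) (fun a b => by
        show δ₂ (Ideal.Quotient.mk 𝔞 (a * b))
          = ρ a * δ₂ (Ideal.Quotient.mk 𝔞 b) + ρ b * δ₂ (Ideal.Quotient.mk 𝔞 a)
        rw [map_mul, hδ₂]
        rfl)
      exact h2) i
    exact (hmem _).1 h1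
  · intro hP cb hcb i
    choose c hc using fun i => Ideal.Quotient.mk_surjective (cb i)
    have h1 : ∀ i, c i ∈ maximalIdeal A := by
      apply hP c
      intro δ hδ
      have hkill : ∀ z ∈ 𝔞, δ z = 0 := by
        intro z hz
        rw [h𝔞, pow_two] at hz
        refine Submodule.mul_induction_on hz ?_ ?_
        · intro x hx y hy
          rw [hδ, (hρker x).2 hx, (hρker y).2 hy, zero_mul, zero_mul, add_zero]
        · intro x y hx hy
          rw [map_add, hx, hy, add_zero]
      have hwd : ∀ a b : A, Ideal.Quotient.mk 𝔞 a = Ideal.Quotient.mk 𝔞 b → δ a = δ b := by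
        intro a b hab
        have h2 : a - b ∈ 𝔞 := Ideal.Quotient.eq.1 hab
        have h3 := hkill _ h2
        rw [map_sub, sub_eq_zero] at h3
        exact h3
      let s : A ⧸ 𝔞 → A := Function.surjInv Ideal.Quotient.mk_surjective
      have hs : ∀ x, Ideal.Quotient.mk 𝔞 (s x) = x := Function.surjInv_eq _
      have hδs : ∀ a, δ (s (Ideal.Quotient.mk 𝔞 a)) = δ a := fun a => hwd _ _ (hs _)
      let δ₂ : (A ⧸ 𝔞) →+ ResidueField (A ⧸ 𝔞) :=
        { toFun := fun x => δ (s x)
          map_zero' := by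
            have h5 := hδs 0
            rw [map_zero, map_zero] at h5
            exact h5
          map_add' := fun x y => by
            obtain ⟨a, rfl⟩ := Ideal.Quotient.mk_surjective x
            obtain ⟨b, rfl⟩ := Ideal.Quotient.mk_surjective y
            show δ (s (Ideal.Quotient.mk 𝔞 a + Ideal.Quotient.mk 𝔞 b))
              = δ (s (Ideal.Quotient.mk 𝔞 a)) + δ (s (Ideal.Quotient.mk 𝔞 b))
            rw [← map_add, hδs, hδs, hδs, map_add] }
      have hδ₂ : ∀ x y, δ₂ (x * y) = ρ₂ x * δ₂ y + ρ₂ y * δ₂ x := by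
        intro x y
        obtain ⟨a, rfl⟩ := Ideal.Quotient.mk_surjective x
        obtain ⟨b, rfl⟩ := Ideal.Quotient.mk_surjective y
        show δ (s (Ideal.Quotient.mk 𝔞 a * Ideal.Quotient.mk 𝔞 b))
          = ρ₂ (Ideal.Quotient.mk 𝔞 a) * δ (s (Ideal.Quotient.mk 𝔞 b))
            + ρ₂ (Ideal.Quotient.mk 𝔞 b) * δ (s (Ideal.Quotient.mk 𝔞 a))
        rw [← map_mul, hδs, hδs, hδs, hδ]
        rfl
      have h2 := hcb δ₂ hδ₂
      rw [← h2]
      refine Finset.sum_congr rfl fun i _ => ?_
      show ρ₂ (Ideal.Quotient.mk 𝔞 (c i)) * δ (f i)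
        = ρ₂ (cb i) * δ (s (Ideal.Quotient.mk 𝔞 (f i)))
      rw [hc i, hδs]
    rw [← hc i]
    exact (hmem _).2 (h1 i)

section polys

variable {A : Type u} [CommRing A] (p : ℕ) {r : ℕ} (c : Fin r → Fin p → A) (f : Fin r → A)

noncomputable def Fpoly (i : Fin r) : MvPolynomial (Fin r) A :=
  MvPolynomial.X i ^ p + (p : MvPolynomial (Fin r) A) * (Finset.univ.sum fun j : Fin p =>
    if (j : ℕ) = 0 then 0 else MvPolynomial.C (c i j) * MvPolynomial.X i ^ (p - (j : ℕ)))
    - MvPolynomial.C (f i)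

noncomputable def Tpoly (i : Fin r) : Polynomial A :=
  (p : Polynomial A) * (Finset.univ.sum fun j : Fin p =>
    if (j : ℕ) = 0 then 0 else Polynomial.C (c i j) * Polynomial.X ^ (p - (j : ℕ)))
    - Polynomial.C (f i)

noncomputable def Gpoly (i : Fin r) : Polynomial A := Polynomial.X ^ p + Tpoly p c f i

theorem map_Fpoly (i : Fin r) {S : Type*} [CommRing S] (ψ : MvPolynomial (Fin r) A →+* S) :
    ψ (Fpoly p c f i) = ψ (MvPolynomial.X i) ^ p + ((p : S) * (Finset.univ.sum fun j : Fin p =>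
      if (j : ℕ) = 0 then 0 else ψ (MvPolynomial.C (c i j)) * ψ (MvPolynomial.X i) ^ (p - (j : ℕ)))
      - ψ (MvPolynomial.C (f i))) := by
  have hs : ψ (Finset.univ.sum fun j : Fin p =>
      if (j : ℕ) = 0 then 0 else MvPolynomial.C (c i j) * MvPolynomial.X i ^ (p - (j : ℕ)))
      = Finset.univ.sum fun j : Fin p =>
      if (j : ℕ) = 0 then 0
        else ψ (MvPolynomial.C (c i j)) * ψ (MvPolynomial.X i) ^ (p - (j : ℕ)) := by
    rw [map_sum]
    refine Finset.sum_congr rfl fun j _ => ?_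
    split_ifs
    · exact map_zero ψ
    · rw [map_mul, map_pow]
  unfold Fpoly
  rw [map_sub, map_add, map_mul, map_pow, map_natCast, hs, add_sub_assoc]

theorem eval₂_Gpoly (i : Fin r) {S : Type*} [CommRing S] (φ : A →+* S) (x : S) :
    Polynomial.eval₂ φ x (Gpoly p c f i) = x ^ p + ((p : S) * (Finset.univ.sum fun j : Fin p =>
      if (j : ℕ) = 0 then 0 else φ (c i j) * x ^ (p - (j : ℕ))) - φ (f i)) := by
  have hs : Polynomial.eval₂ φ x (Finset.univ.sum fun j : Fin p =>
      if (j : ℕ) = 0 then 0 else Polynomial.C (c i j) * Polynomial.X ^ (p - (j : ℕ)))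
      = Finset.univ.sum fun j : Fin p =>
      if (j : ℕ) = 0 then 0 else φ (c i j) * x ^ (p - (j : ℕ)) := by
    rw [Polynomial.eval₂_finsetSum]
    refine Finset.sum_congr rfl fun j _ => ?_
    split_ifs
    · exact Polynomial.eval₂_zero φ x
    · rw [Polynomial.eval₂_mul, Polynomial.eval₂_pow, Polynomial.eval₂_X, Polynomial.eval₂_C]
  unfold Gpoly Tpoly
  rw [Polynomial.eval₂_add, Polynomial.eval₂_sub, Polynomial.eval₂_mul, Polynomial.eval₂_pow,
    Polynomial.eval₂_X, Polynomial.eval₂_natCast, Polynomial.eval₂_C, hs]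

theorem map_Fpoly_eval (i : Fin r) {S : Type*} [CommRing S] (ψ : MvPolynomial (Fin r) A →+* S) :
    ψ (Fpoly p c f i)
      = Polynomial.eval₂ (ψ.comp MvPolynomial.C) (ψ (MvPolynomial.X i)) (Gpoly p c f i) := by
  rw [map_Fpoly, eval₂_Gpoly]
  rfl

theorem Tpoly_degree_lt (hp : 1 ≤ p) (i : Fin r) : (Tpoly p c f i).degree < (p : WithBot ℕ) := by
  rw [Polynomial.degree_lt_iff_coeff_zero]
  intro m hm
  have hsum : (Finset.univ.sum fun j : Fin p =>
      if (j : ℕ) = 0 then (0 : Polynomial A)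
        else Polynomial.C (c i j) * Polynomial.X ^ (p - (j : ℕ))).coeff m = 0 := by
    rw [Polynomial.finsetSum_coeff]
    refine Finset.sum_eq_zero fun j _ => ?_
    split_ifs with hj
    · exact Polynomial.coeff_zero m
    · rw [Polynomial.coeff_C_mul_X_pow, if_neg]
      have h1 : 0 < (j : ℕ) := Nat.pos_of_ne_zero hj
      have h2 := j.isLt
      omega
  unfold Tpoly
  rw [Polynomial.coeff_sub, Polynomial.coeff_natCast_mul, hsum, mul_zero, Polynomial.coeff_C,
    if_neg (by omega), sub_zero]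

theorem Gpoly_monic (hp : 1 ≤ p) (i : Fin r) : (Gpoly p c f i).Monic :=
  Polynomial.monic_X_pow_add (Tpoly_degree_lt p c f hp i)

theorem Gpoly_degree_ne_zero [Nontrivial A] (hp : 1 ≤ p) (i : Fin r) :
    (Gpoly p c f i).degree ≠ 0 := by
  unfold Gpoly
  rw [Polynomial.degree_add_eq_left_of_degree_lt
    (by rw [Polynomial.degree_X_pow]; exact Tpoly_degree_lt p c f hp i), Polynomial.degree_X_pow]
  exact_mod_cast (by omega : p ≠ 0)

end polys


open IsLocalRing TensorProduct in
/-- Let A be a regular local ring whose residue field K has characteristic p > 0; for 1 ≤ i ≤ r let F_i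
= T_i^p + p Σ_{j=1}^{p-1} c_{ij} T_i^{p-j} − f_i with c_{ij}, f_i ∈ A, and let B be the quotient of
A[T_1, …, T_r] by the ideal generated by the F_i. Then B is a local ring, and B is regular if and
only if the elements d f_i ⊗ 1 of Ω_{A/ℤ} ⊗_A K are linearly independent over K. Assumed in
addition: p lies in the square of the maximal ideal of A (which covers the case where A has
characteristic p); the printed statement omits this, and the equivalence can fail for A absolutely
unramified, e.g. A = ℤ_(p), r = 1, f_1 = p. (Condition (c) of the source, on the characteristic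
homomorphism Ξ, is not stated.) -/
theorem result {A : Type u} [CommRing A] [IsRegularLocalRing A] (p : ℕ) [Fact p.Prime] [CharP (ResidueField A) p]
    {r : ℕ} (c : Fin r → Fin p → A) (f : Fin r → A)
    (hp : (p : A) ∈ maximalIdeal A ^ 2) :
    let F : Fin r → MvPolynomial (Fin r) A := fun i =>
      MvPolynomial.X i ^ p + (p : MvPolynomial (Fin r) A) * (Finset.univ.sum fun j : Fin p =>
        if (j : ℕ) = 0 then 0 else MvPolynomial.C (c i j) * MvPolynomial.X i ^ (p - (j : ℕ))) - MvPolynomial.C (f i)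
    IsLocalRing (MvPolynomial (Fin r) A ⧸ Ideal.span (Set.range F)) ∧
      (IsRegularRing (MvPolynomial (Fin r) A ⧸ Ideal.span (Set.range F)) ↔
        LinearIndependent (ResidueField A) (fun i => (1 : ResidueField A) ⊗ₜ[A] KaehlerDifferential.D ℤ A (f i))) := by
  intro F
  classical
  have hpp : p.Prime := Fact.out
  have hp1 : 1 ≤ p := hpp.one_lt.le
  have hFeq : ∀ i, F i = Fpoly p c f i := fun i => rfl
  obtain ⟨I, hI⟩ : ∃ I : Ideal (MvPolynomial (Fin r) A), I = Ideal.span (Set.range F) := ⟨_, rfl⟩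
  rw [← hI]
  haveI : IsDomain A := Groth.Agent.H23.isDomain_of_isRegularLocalRing A
  have hF0 : ∀ i, Ideal.Quotient.mk I (F i) = 0 := fun i =>
    Ideal.Quotient.eq_zero_iff_mem.2 (by rw [hI]; exact Ideal.subset_span ⟨i, rfl⟩)
  -- integrality
  have hXint : ∀ i, IsIntegral A (Ideal.Quotient.mk I (MvPolynomial.X i)) := by
    intro i
    refine ⟨Gpoly p c f i, Gpoly_monic p c f hp1 i, ?_⟩
    have h1 := map_Fpoly_eval p c f i (Ideal.Quotient.mk I)
    rw [← hFeq, hF0] at h1
    exact h1.symm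
  have hint : Algebra.IsIntegral A (MvPolynomial (Fin r) A ⧸ I) := by
    refine ⟨fun y => ?_⟩
    obtain ⟨g, rfl⟩ := Ideal.Quotient.mk_surjective y
    induction g using MvPolynomial.induction_on with
    | C a => exact isIntegral_algebraMap (x := a)
    | add p q hp hq => rw [map_add]; exact hp.add hq
    | mul_X p i hp => rw [map_mul]; exact hp.mul (hXint i)
  have hintR : (algebraMap A (MvPolynomial (Fin r) A ⧸ I)).IsIntegral :=
    algebraMap_isIntegral_iff.mpr hint
  -- the Artinian quotient A/m²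
  obtain ⟨𝔞, h𝔞⟩ : ∃ 𝔞 : Ideal A, 𝔞 = maximalIdeal A ^ 2 := ⟨_, rfl⟩
  have h𝔞m : 𝔞 ≤ maximalIdeal A := by rw [h𝔞]; exact Ideal.pow_le_self two_ne_zero
  have h𝔞ne : 𝔞 ≠ ⊤ := fun h => (maximalIdeal.isMaximal A).ne_top (top_le_iff.1 (h ▸ h𝔞m))
  haveI : Nontrivial (A ⧸ 𝔞) := Ideal.Quotient.nontrivial_iff.2 h𝔞ne
  haveI : IsLocalRing (A ⧸ 𝔞) :=
    IsLocalRing.of_surjective' (Ideal.Quotient.mk 𝔞) Ideal.Quotient.mk_surjective
  have hm₂ : (maximalIdeal A).map (Ideal.Quotient.mk 𝔞) = maximalIdeal (A ⧸ 𝔞) :=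
    map_maximalIdeal_of_surjective _ Ideal.Quotient.mk_surjective
  have hsq₂ : maximalIdeal (A ⧸ 𝔞) ^ 2 = ⊥ := by
    rw [← hm₂, ← Ideal.map_pow, ← h𝔞, Ideal.map_quotient_self]
  haveI : IsArtinianRing (A ⧸ 𝔞) :=
    (isArtinianRing_iff_isNilpotent_maximalIdeal _).2 ⟨2, hsq₂⟩
  have hpA₂ : ((p : ℕ) : A ⧸ 𝔞) = 0 := by
    rw [← map_natCast (Ideal.Quotient.mk 𝔞)]
    exact Ideal.Quotient.eq_zero_iff_mem.2 (by rw [h𝔞]; exact hp)
  haveI : CharP (A ⧸ 𝔞) p := (CharP.charP_iff_prime_eq_zero hpp).mpr hpA₂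
  obtain ⟨I₂, hI₂⟩ : ∃ I₂ : Ideal (MvPolynomial (Fin r) (A ⧸ 𝔞)),
      I₂ = Ideal.span (Set.range fun i =>
        (MvPolynomial.X i ^ p - MvPolynomial.C (Ideal.Quotient.mk 𝔞 (f i)) :
          MvPolynomial (Fin r) (A ⧸ 𝔞))) := ⟨_, rfl⟩
  have h4595 : ∃ _ : IsLocalRing (MvPolynomial (Fin r) (A ⧸ 𝔞) ⧸ I₂),
      (Module.finrank (ResidueField (A ⧸ 𝔞)) (CotangentSpace (A ⧸ 𝔞))
          = Module.finrank (ResidueField (MvPolynomial (Fin r) (A ⧸ 𝔞) ⧸ I₂))
              (CotangentSpace (MvPolynomial (Fin r) (A ⧸ 𝔞) ⧸ I₂)) ↔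
        LinearIndependent (ResidueField (A ⧸ 𝔞)) (fun i => (1 : ResidueField (A ⧸ 𝔞)) ⊗ₜ[A ⧸ 𝔞]
          KaehlerDifferential.D ℤ (A ⧸ 𝔞) (Ideal.Quotient.mk 𝔞 (f i)))) := by
    rw [hI₂]
    exact Groth.Agent.S4595.result hsq₂ p (fun i => Ideal.Quotient.mk 𝔞 (f i))
  obtain ⟨hloc₂, hiff₂⟩ := h4595
  haveI := hloc₂
  -- the reduction map
  obtain ⟨μ, hμ⟩ : ∃ μ : MvPolynomial (Fin r) A →+* MvPolynomial (Fin r) (A ⧸ 𝔞),
      μ = MvPolynomial.map (Ideal.Quotient.mk 𝔞) := ⟨_, rfl⟩
  have hμsurj : Function.Surjective μ := by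
    rw [hμ]; exact MvPolynomial.map_surjective _ Ideal.Quotient.mk_surjective
  have hμF : ∀ i, μ (F i)
      = MvPolynomial.X i ^ p - MvPolynomial.C (Ideal.Quotient.mk 𝔞 (f i)) := by
    intro i
    have hp0 : ((p : ℕ) : MvPolynomial (Fin r) (A ⧸ 𝔞)) = 0 := by
      rw [← map_natCast (MvPolynomial.C : (A ⧸ 𝔞) →+* MvPolynomial (Fin r) (A ⧸ 𝔞)), hpA₂,
        map_zero]
    rw [hFeq, map_Fpoly, hp0, zero_mul, zero_sub, ← sub_eq_add_neg, hμ, MvPolynomial.map_X,
      MvPolynomial.map_C]
  have hF₂ : (fun i => (MvPolynomial.X i ^ p - MvPolynomial.C (Ideal.Quotient.mk 𝔞 (f i)) :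
      MvPolynomial (Fin r) (A ⧸ 𝔞))) = μ ∘ F := funext fun i => (hμF i).symm
  have hI₂map : I₂ = I.map μ := by
    rw [hI₂, hF₂, Set.range_comp, ← Ideal.map_span, ← hI]
  have hle : I ≤ RingHom.ker ((Ideal.Quotient.mk I₂).comp μ) := by
    intro g hg
    rw [RingHom.mem_ker, RingHom.comp_apply]
    exact Ideal.Quotient.eq_zero_iff_mem.2 (by rw [hI₂map]; exact Ideal.mem_map_of_mem μ hg)
  let π : (MvPolynomial (Fin r) A ⧸ I) →+* (MvPolynomial (Fin r) (A ⧸ 𝔞) ⧸ I₂) :=
    Ideal.Quotient.lift I ((Ideal.Quotient.mk I₂).comp μ) (fun g hg => hle hg)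
  have hπsurj : Function.Surjective π := by
    intro y
    obtain ⟨g₂, rfl⟩ := Ideal.Quotient.mk_surjective y
    obtain ⟨g, rfl⟩ := hμsurj g₂
    exact ⟨Ideal.Quotient.mk I g, rfl⟩
  have hkerπ : RingHom.ker π ≤ 𝔞.map (algebraMap A (MvPolynomial (Fin r) A ⧸ I)) := by
    intro y hy
    obtain ⟨g, rfl⟩ := Ideal.Quotient.mk_surjective y
    have h1 : μ g ∈ I₂ := Ideal.Quotient.eq_zero_iff_mem.1 (RingHom.mem_ker.1 hy)
    rw [hI₂map] at h1
    obtain ⟨g', hg', hgg'⟩ := (Ideal.mem_map_iff_of_surjective μ hμsurj).1 h1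
    have h2 : g - g' ∈ RingHom.ker μ := by rw [RingHom.mem_ker, map_sub, hgg', sub_self]
    rw [hμ, MvPolynomial.ker_map, Ideal.mk_ker] at h2
    have h3 : Ideal.Quotient.mk I g = Ideal.Quotient.mk I (g - g') := by
      rw [map_sub, Ideal.Quotient.eq_zero_iff_mem.2 hg', sub_zero]
    rw [h3]
    have h4 := Ideal.mem_map_of_mem (Ideal.Quotient.mk I) h2
    rw [Ideal.map_map] at h4
    exact h4
  -- maximal ideals
  have hmaxA : ∀ M : Ideal (MvPolynomial (Fin r) A ⧸ I), M.IsMaximal →
      (maximalIdeal A).map (algebraMap A (MvPolynomial (Fin r) A ⧸ I)) ≤ M := by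
    intro M hM
    haveI := hM
    have hcM : (M.comap (algebraMap A (MvPolynomial (Fin r) A ⧸ I))).IsMaximal :=
      Ideal.isMaximal_comap_of_isIntegral_of_isMaximal M
    have hcomap : M.comap (algebraMap A (MvPolynomial (Fin r) A ⧸ I)) = maximalIdeal A :=
      eq_maximalIdeal hcM
    rw [Ideal.map_le_iff_le_comap, hcomap]
  have hkerM : ∀ M : Ideal (MvPolynomial (Fin r) A ⧸ I), M.IsMaximal → RingHom.ker π ≤ M :=
    fun M hM => hkerπ.trans ((Ideal.map_mono h𝔞m).trans (hmaxA M hM))
  obtain ⟨M₀, hM₀⟩ : ∃ M₀ : Ideal (MvPolynomial (Fin r) A ⧸ I),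
      M₀ = (maximalIdeal (MvPolynomial (Fin r) (A ⧸ 𝔞) ⧸ I₂)).comap π := ⟨_, rfl⟩
  have hM₀max : M₀.IsMaximal := by
    rw [hM₀]; exact Ideal.comap_isMaximal_of_surjective π hπsurj
  have hmax_eq : ∀ M : Ideal (MvPolynomial (Fin r) A ⧸ I), M.IsMaximal → M = M₀ := by
    intro M hM
    have h1 : (M.map π).comap π = M := by
      rw [Ideal.comap_map_of_surjective π hπsurj, ← RingHom.ker_eq_comap_bot]
      exact sup_eq_left.2 (hkerM M hM)
    rcases Ideal.map_eq_top_or_isMaximal_of_surjective π hπsurj hM with h | h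
    · exfalso
      rw [h, Ideal.comap_top] at h1
      exact hM.ne_top h1.symm
    · have h5 : M.map π = maximalIdeal (MvPolynomial (Fin r) (A ⧸ 𝔞) ⧸ I₂) :=
        IsLocalRing.eq_maximalIdeal (R := MvPolynomial (Fin r) (A ⧸ 𝔞) ⧸ I₂) (I := M.map π) h
      rw [← h1, h5, hM₀]
  have hloc : IsLocalRing (MvPolynomial (Fin r) A ⧸ I) :=
    IsLocalRing.of_unique_max_ideal ⟨M₀, hM₀max, fun M hM => hmax_eq M hM⟩
  refine ⟨hloc, ?_⟩
  haveI := hloc
  -- the kernel of the reduction lies in the square of the maximal ideal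
  have hmAB : (maximalIdeal A).map (algebraMap A (MvPolynomial (Fin r) A ⧸ I))
      ≤ maximalIdeal (MvPolynomial (Fin r) A ⧸ I) := hmaxA _ (maximalIdeal.isMaximal _)
  have hker2 : RingHom.ker π ≤ maximalIdeal (MvPolynomial (Fin r) A ⧸ I) ^ 2 := by
    refine hkerπ.trans ?_
    rw [h𝔞, Ideal.map_pow]
    exact Ideal.pow_right_mono hmAB 2
  have hcotB₂ := @finrank_cotangentSpace_eq_of_surjective (MvPolynomial (Fin r) A ⧸ I)
    (MvPolynomial (Fin r) (A ⧸ 𝔞) ⧸ I₂) _ _ hloc hloc₂ inferInstance π hπsurj hker2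
  have hcotA₂ := finrank_cotangentSpace_eq_of_surjective (Ideal.Quotient.mk 𝔞)
    Ideal.Quotient.mk_surjective (le_of_eq (by rw [Ideal.mk_ker, h𝔞]))
  -- injectivity of A → B and the dimension
  have hinjL : Function.Injective (algebraMap A (AlgebraicClosure (FractionRing A))) := by
    rw [IsScalarTower.algebraMap_eq A (FractionRing A) (AlgebraicClosure (FractionRing A))]
    exact (algebraMap (FractionRing A) (AlgebraicClosure (FractionRing A))).injective.comp
      (IsFractionRing.injective A (FractionRing A))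
  haveI : FaithfulSMul A (AlgebraicClosure (FractionRing A)) :=
    (faithfulSMul_iff_algebraMap_injective A _).mpr hinjL
  have hroot : ∀ i, ∃ τ : AlgebraicClosure (FractionRing A),
      Polynomial.aeval τ (Gpoly p c f i) = 0 :=
    fun i => IsAlgClosed.exists_aeval_eq_zero _ (Gpoly p c f i) (Gpoly_degree_ne_zero p c f hp1 i)
  choose τ hτ using hroot
  let θ₀ : MvPolynomial (Fin r) A →+* AlgebraicClosure (FractionRing A) :=
    MvPolynomial.eval₂Hom (algebraMap A (AlgebraicClosure (FractionRing A))) τ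
  have hθ₀I : ∀ g ∈ I, θ₀ g = 0 := by
    intro g hg
    have hle' : I ≤ RingHom.ker θ₀ := by
      rw [hI, Ideal.span_le]
      rintro _ ⟨i, rfl⟩
      rw [SetLike.mem_coe, RingHom.mem_ker, hFeq, map_Fpoly_eval]
      have h1 := hτ i
      rw [Polynomial.aeval_def] at h1
      have h2 : θ₀.comp MvPolynomial.C = algebraMap A (AlgebraicClosure (FractionRing A)) :=
        RingHom.ext fun a => MvPolynomial.eval₂Hom_C _ _ a
      have h3 : θ₀ (MvPolynomial.X i) = τ i := MvPolynomial.eval₂Hom_X' _ _ i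
      rw [h2, h3]
      exact h1
    exact hle' hg
  let θ : (MvPolynomial (Fin r) A ⧸ I) →+* AlgebraicClosure (FractionRing A) :=
    Ideal.Quotient.lift I θ₀ hθ₀I
  have hθC : ∀ a : A, θ (algebraMap A (MvPolynomial (Fin r) A ⧸ I) a)
      = algebraMap A (AlgebraicClosure (FractionRing A)) a := by
    intro a
    show θ₀ (MvPolynomial.C a) = _
    exact MvPolynomial.eval₂Hom_C _ _ a
  have hinj : Function.Injective (algebraMap A (MvPolynomial (Fin r) A ⧸ I)) := by
    intro a b hab
    apply hinjL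
    rw [← hθC, ← hθC, hab]
  have hdim : ringKrullDim (MvPolynomial (Fin r) A ⧸ I) = ringKrullDim A :=
    le_antisymm (Groth.Agent.H75.Rees.ringKrullDim_le_of_isIntegral _ hintR)
      (Groth.Agent.H75.Rees.ringKrullDim_le_of_injective_isIntegral _ hinj hintR)
  -- regularity in terms of generators of the maximal ideal
  have hregB := regular_iff_spanFinrank_eq (R := MvPolynomial (Fin r) A ⧸ I) (S := A) hdim
  rw [← linearIndependent_tmul_D_quotient_sq 𝔞 h𝔞 f, ← hiff₂, hcotA₂, hcotB₂]
  constructor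
  · intro hR
    haveI := hR
    have hRL : IsRegularLocalRing (MvPolynomial (Fin r) A ⧸ I) :=
      IsRegularLocalRing.of_isRegularRing_of_isLocalRing (MvPolynomial (Fin r) A ⧸ I)
    exact hregB.1 hRL
  · intro h
    haveI hRL : IsRegularLocalRing (MvPolynomial (Fin r) A ⧸ I) := hregB.2 h
    exact isRegularRing_iff.mpr fun q _ => Groth.Agent.S0564.result _ q

end Groth.Agent.S2473
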