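import Groth.Statements.S4535
import Mathlib

set_option autoImplicit false
universe u
open EGA41

namespace Groth.Agent.S4535

open TensorProduct in
/-- Let B (𝔟-adic) be formally smooth over A (𝔞-adic) and let A' (𝔞'-adic) be a topological A-algebra (a
power of 𝔞 maps into 𝔞'). Then the A'-algebra A' ⊗_A B, with the tensor product topology, i.e. the
adic topology of the ideal generated by the images of 𝔞' and 𝔟, is formally smooth over A'. -/
theorem result {A B A' : Type u} [CommRing A] [CommRing B] [CommRing A'] [Algebra A B] [Algebra A A']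
    (𝔞 : Ideal A) (𝔟 : Ideal B) (𝔞' : Ideal A') (hAA' : ∃ k : ℕ, (𝔞 ^ k).map (algebraMap A A') ≤ 𝔞')
    (hB : EGA41.IsFormallySmoothAdic A 𝔞 B 𝔟) :
    EGA41.IsFormallySmoothAdic A' 𝔞' (A' ⊗[A] B)
      (𝔞'.map (algebraMap A' (A' ⊗[A] B)) ⊔
        𝔟.map (Algebra.TensorProduct.includeRight : B →ₐ[A] A' ⊗[A] B).toRingHom) := by
  intro C _ _ J hJ hk u hu
  obtain ⟨k₀, hk₀⟩ := hAA'
  obtain ⟨k₁, hk₁⟩ := hk
  obtain ⟨k₂, hk₂⟩ := hu
  letI : Algebra A C := ((algebraMap A' C).comp (algebraMap A A')).toAlgebra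
  haveI : IsScalarTower A A' C := IsScalarTower.of_algebraMap_eq (fun _ => rfl)
  let uB : B →ₐ[A] C ⧸ J := (u.restrictScalars A).comp Algebra.TensorProduct.includeRight
  have h𝔞 : ∃ k : ℕ, (𝔞 ^ k).map (algebraMap A C) = ⊥ := by
    refine ⟨k₀ * k₁, ?_⟩
    rw [eq_bot_iff, pow_mul, Ideal.map_pow]
    have h1 : (𝔞 ^ k₀).map (algebraMap A C) ≤ 𝔞'.map (algebraMap A' C) := by
      have h2 : algebraMap A C = (algebraMap A' C).comp (algebraMap A A') := rfl
      rw [h2, ← Ideal.map_map]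
      exact Ideal.map_mono hk₀
    calc (𝔞 ^ k₀).map (algebraMap A C) ^ k₁ ≤ (𝔞'.map (algebraMap A' C)) ^ k₁ :=
          Ideal.pow_right_mono h1 k₁
      _ = (𝔞' ^ k₁).map (algebraMap A' C) := (Ideal.map_pow _ _ _).symm
      _ = ⊥ := hk₁
  have huB : ∃ k : ℕ, ∀ x ∈ 𝔟 ^ k, uB x = 0 := by
    refine ⟨k₂, fun x hx => hk₂ _ ?_⟩
    have h3 : (𝔟 ^ k₂).map (Algebra.TensorProduct.includeRight : B →ₐ[A] A' ⊗[A] B).toRingHom ≤
        (𝔞'.map (algebraMap A' (A' ⊗[A] B)) ⊔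
          𝔟.map (Algebra.TensorProduct.includeRight : B →ₐ[A] A' ⊗[A] B).toRingHom) ^ k₂ := by
      rw [Ideal.map_pow]; exact Ideal.pow_right_mono le_sup_right k₂
    exact h3 (Ideal.mem_map_of_mem _ hx)
  obtain ⟨vB, hvB⟩ := hB C J hJ h𝔞 uB huB
  refine ⟨Algebra.TensorProduct.lift (Algebra.ofId A' C) vB (fun _ _ => Commute.all _ _), ?_⟩
  apply AlgHom.ext
  intro w
  induction w using TensorProduct.induction_on with
  | zero => simp
  | tmul a b =>
    have h1 : Ideal.Quotient.mk J (vB b) = uB b := DFunLike.congr_fun hvB b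
    have h4 : a ⊗ₜ[A] b = algebraMap A' (A' ⊗[A] B) a * ((1 : A') ⊗ₜ[A] b) := by
      simp [Algebra.TensorProduct.algebraMap_apply]
    rw [AlgHom.comp_apply, Algebra.TensorProduct.lift_tmul, Algebra.ofId_apply, map_mul,
      Ideal.Quotient.mkₐ_eq_mk, h1, h4, map_mul, AlgHom.commutes]
    rfl
  | add w₁ w₂ h₁ h₂ => rw [map_add, map_add, h₁, h₂]

end Groth.Agent.S4535
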