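import Groth.Statements.S2035
import Groth.Agent.S2453
import Groth.Agent.S2451
import Groth.Agent.H44.MacLaneAll

set_option autoImplicit false
universe u
open CAlg

namespace Groth.Agent.S2035

/-- Let `k` be a field of characteristic zero and `A` a Noetherian local `k`-algebra. Then `A` is a
regular local ring if and only if `k → A` is formally smooth for the adic topology of the maximal
ideal. -/
theorem result {k A : Type u} [Field k] [CharZero k]
    [CommRing A] [IsLocalRing A] [IsNoetherianRing A] [Algebra k A] :
    IsRegularLocalRing A ↔ CAlgX.IsAdicFormallySmooth k A (IsLocalRing.maximalIdeal A) := by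
  have hFS : Algebra.FormallySmooth k (IsLocalRing.ResidueField A) :=
    Groth.Agent.H44.MacLane.formallySmooth_of_charZero
  haveI : Algebra.IsGeometricallyReduced k (IsLocalRing.ResidueField A) :=
    Groth.Agent.S2451.result.1 hFS
  have h := Groth.Agent.S2453.result (k := k) (A := A)
  exact h.out 3 0

end Groth.Agent.S2035
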