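import Groth.Statements.S2038
import Groth.Agent.H87.LocalFS
import Groth.Agent.S2036
import Groth.Agent.S2035

set_option autoImplicit false
set_option maxHeartbeats 400000
universe u
open CAlg

namespace Groth.Agent.S2038

theorem fs_of_geomReg {k F : Type u} [Field k] [CommRing F] [IsLocalRing F] [IsNoetherianRing F]
    [Algebra k F] (h : CAlg.IsGeometricallyRegular k F) :
    CAlgX.IsAdicFormallySmooth k F (IsLocalRing.maximalIdeal F) := by
  obtain ⟨p, hp⟩ := CharP.exists k
  rcases CharP.char_is_prime_or_zero k p with hpp | hp0
  · haveI : Fact p.Prime := ⟨hpp⟩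
    exact (Groth.Agent.S2036.result p).1 h
  · subst hp0
    haveI : CharZero k := CharP.charP_to_charZero k
    have h1 : IsRegularRing (TensorProduct k k F) := h k (Module.Finite.self k)
    haveI : IsRegularRing F :=
      IsRegularRing.of_ringEquiv (Algebra.TensorProduct.lid k F).toRingEquiv
    haveI : IsRegularLocalRing F := IsRegularLocalRing.of_isRegularRing_of_isLocalRing F
    exact Groth.Agent.S2035.result.1 inferInstance

/-- Let `A → B` be a local homomorphism of Noetherian local rings with residue field `k` of `A`. Then `A
→ B` is flat with special fibre `B ⊗ k` geometrically regular over `k` if and only if `A → B` is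
formally smooth for the adic topology of the maximal ideal of `B`. -/
theorem result {A B : Type u} [CommRing A] [CommRing B]
    [IsLocalRing A] [IsLocalRing B] [IsNoetherianRing A] [IsNoetherianRing B] [Algebra A B]
    [IsLocalHom (algebraMap A B)] :
    (Module.Flat A B ∧ CAlg.IsGeometricallyRegular (IsLocalRing.maximalIdeal A).ResidueField
        ((IsLocalRing.maximalIdeal A).Fiber B)) ↔
      CAlgX.IsAdicFormallySmooth A B (IsLocalRing.maximalIdeal B) := by
  classical
  have hκ : Function.Surjective (algebraMap A (IsLocalRing.maximalIdeal A).ResidueField) :=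
    Ideal.algebraMap_residueField_surjective _
  haveI : IsLocalRing ((IsLocalRing.maximalIdeal A).Fiber B) :=
    Groth.Agent.H87.LiftNC.isLocalRing_tensor' hκ
  haveI : IsNoetherianRing ((IsLocalRing.maximalIdeal A).Fiber B) :=
    Groth.Agent.H87.FlatLift.isNoetherianRing_tensor hκ
  constructor
  · rintro ⟨hflat, hgeom⟩
    haveI := hflat
    exact Groth.Agent.H87.LocalFS.fs_of_flat_of_fs_fibre hκ (fs_of_geomReg hgeom)
  · intro h
    refine ⟨Groth.Agent.H87.LocalFS.flat_of_fs hκ h, ?_⟩
    exact Groth.Agent.Lead.GeomReg.isGeometricallyRegular_of_fs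
      (Groth.Agent.H87.FlatLift.smooth_tensor hκ h)

end Groth.Agent.S2038
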