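import Groth.Statements.S4536
import Mathlib

set_option autoImplicit false
set_option linter.style.haveILetI false
set_option linter.unusedSectionVars false
set_option linter.unusedVariables false
universe u
open EGA41

namespace Groth.Agent.S4536

section Helpers

theorem forward {A B : Type u} [CommRing A] [CommRing B] [Algebra A B]
    (𝔞 : Ideal A) (𝔟 : Ideal B) (h : EGA41.IsFormallySmoothAdic A 𝔞 B 𝔟) (n : ℕ)
    (C : Type u) [CommRing C] [Algebra (A ⧸ 𝔞 ^ n) C] (J : Ideal C) (hJ : IsNilpotent J)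
    (u : (B ⧸ (𝔞 ^ n).map (algebraMap A B)) →ₐ[A ⧸ 𝔞 ^ n] C ⧸ J)
    (hu : ∃ k : ℕ, ∀ x ∈ (𝔟.map (Ideal.Quotient.mk ((𝔞 ^ n).map (algebraMap A B)))) ^ k,
      u x = 0) :
    ∃ v : (B ⧸ (𝔞 ^ n).map (algebraMap A B)) →ₐ[A ⧸ 𝔞 ^ n] C,
      (Ideal.Quotient.mkₐ (A ⧸ 𝔞 ^ n) J).comp v = u := by
  letI algAC : Algebra A C :=
    ((algebraMap (A ⧸ 𝔞 ^ n) C).comp (Ideal.Quotient.mk (𝔞 ^ n))).toAlgebra
  have hAC : ∀ a : A,
      algebraMap A C a = algebraMap (A ⧸ 𝔞 ^ n) C (Ideal.Quotient.mk (𝔞 ^ n) a) :=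
    fun a => rfl
  obtain ⟨k, hk⟩ := hu
  have hcomm' : ∀ a : A,
      ((u : (B ⧸ (𝔞 ^ n).map (algebraMap A B)) →+* C ⧸ J).comp
        (Ideal.Quotient.mk ((𝔞 ^ n).map (algebraMap A B)))) (algebraMap A B a)
        = algebraMap A (C ⧸ J) a := fun a => u.commutes (Ideal.Quotient.mk (𝔞 ^ n) a)
  obtain ⟨u', hu'⟩ : ∃ u' : B →ₐ[A] C ⧸ J,
      ∀ b, u' b = u (Ideal.Quotient.mk ((𝔞 ^ n).map (algebraMap A B)) b) :=
    ⟨⟨(u : (B ⧸ (𝔞 ^ n).map (algebraMap A B)) →+* C ⧸ J).comp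
        (Ideal.Quotient.mk ((𝔞 ^ n).map (algebraMap A B))), hcomm'⟩, fun b => rfl⟩
  have h1 : (𝔞 ^ n).map (algebraMap A C) = ⊥ := by
    rw [eq_bot_iff, Ideal.map_le_iff_le_comap]
    intro x hx
    rw [Ideal.mem_comap, Ideal.mem_bot, hAC, Ideal.Quotient.eq_zero_iff_mem.mpr hx, map_zero]
  have h2 : ∀ x ∈ 𝔟 ^ k, u' x = 0 := by
    intro x hx
    rw [hu']
    apply hk
    rw [← Ideal.map_pow]
    exact Ideal.mem_map_of_mem _ hx
  obtain ⟨v', hv'⟩ := h C J hJ ⟨n, h1⟩ u' ⟨k, h2⟩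
  have hker : ∀ b ∈ (𝔞 ^ n).map (algebraMap A B), (v' : B →+* C) b = 0 := by
    have : (𝔞 ^ n).map (algebraMap A B) ≤ RingHom.ker (v' : B →+* C) := by
      rw [Ideal.map_le_iff_le_comap]
      intro a ha
      rw [Ideal.mem_comap, RingHom.mem_ker]
      show v' (algebraMap A B a) = 0
      rw [v'.commutes, hAC, Ideal.Quotient.eq_zero_iff_mem.mpr ha, map_zero]
    intro b hb
    exact this hb
  have hcomm : ∀ r : A ⧸ 𝔞 ^ n,
      (Ideal.Quotient.lift ((𝔞 ^ n).map (algebraMap A B)) (v' : B →+* C) hker)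
        (algebraMap (A ⧸ 𝔞 ^ n) (B ⧸ (𝔞 ^ n).map (algebraMap A B)) r)
        = algebraMap (A ⧸ 𝔞 ^ n) C r := by
    intro r
    obtain ⟨a, rfl⟩ := Ideal.Quotient.mk_surjective r
    exact v'.commutes a
  refine ⟨⟨Ideal.Quotient.lift ((𝔞 ^ n).map (algebraMap A B)) (v' : B →+* C) hker, hcomm⟩, ?_⟩
  apply AlgHom.ext
  intro x
  obtain ⟨b, rfl⟩ := Ideal.Quotient.mk_surjective x
  have h3 := AlgHom.congr_fun hv' b
  rw [hu'] at h3
  exact h3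

theorem backward {A B : Type u} [CommRing A] [CommRing B] [Algebra A B]
    (𝔞 : Ideal A) (𝔟 : Ideal B) (k : ℕ)
    (h : EGA41.IsFormallySmoothAdic (A ⧸ 𝔞 ^ k) ⊥ (B ⧸ (𝔞 ^ k).map (algebraMap A B))
        (𝔟.map (Ideal.Quotient.mk ((𝔞 ^ k).map (algebraMap A B)))))
    (C : Type u) [CommRing C] [Algebra A C] (J : Ideal C) (hJ : IsNilpotent J)
    (hk : (𝔞 ^ k).map (algebraMap A C) = ⊥)
    (u : B →ₐ[A] C ⧸ J) (hu : ∃ m : ℕ, ∀ x ∈ 𝔟 ^ m, u x = 0) :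
    ∃ v : B →ₐ[A] C, (Ideal.Quotient.mkₐ A J).comp v = u := by
  have hker0 : ∀ a ∈ 𝔞 ^ k, algebraMap A C a = 0 := by
    intro a ha
    have h0 : algebraMap A C a ∈ (𝔞 ^ k).map (algebraMap A C) := Ideal.mem_map_of_mem _ ha
    rw [hk] at h0
    exact (Ideal.mem_bot).mp h0
  letI algC : Algebra (A ⧸ 𝔞 ^ k) C :=
    (Ideal.Quotient.lift (𝔞 ^ k) (algebraMap A C) hker0).toAlgebra
  have hAC : ∀ a : A,
      algebraMap (A ⧸ 𝔞 ^ k) C (Ideal.Quotient.mk (𝔞 ^ k) a) = algebraMap A C a := fun a => rfl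
  obtain ⟨m, hm⟩ := hu
  have hker1 : ∀ b ∈ (𝔞 ^ k).map (algebraMap A B), (u : B →+* C ⧸ J) b = 0 := by
    have : (𝔞 ^ k).map (algebraMap A B) ≤ RingHom.ker (u : B →+* C ⧸ J) := by
      rw [Ideal.map_le_iff_le_comap]
      intro a ha
      rw [Ideal.mem_comap, RingHom.mem_ker]
      show u (algebraMap A B a) = 0
      rw [u.commutes]
      show Ideal.Quotient.mk J (algebraMap A C a) = 0
      rw [hker0 a ha, map_zero]
    intro b hb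
    exact this hb
  have hcomm : ∀ r : A ⧸ 𝔞 ^ k,
      (Ideal.Quotient.lift ((𝔞 ^ k).map (algebraMap A B)) (u : B →+* C ⧸ J) hker1)
        (algebraMap (A ⧸ 𝔞 ^ k) (B ⧸ (𝔞 ^ k).map (algebraMap A B)) r)
        = algebraMap (A ⧸ 𝔞 ^ k) (C ⧸ J) r := by
    intro r
    obtain ⟨a, rfl⟩ := Ideal.Quotient.mk_surjective r
    exact u.commutes a
  obtain ⟨ubar, hubar⟩ : ∃ ubar : (B ⧸ (𝔞 ^ k).map (algebraMap A B)) →ₐ[A ⧸ 𝔞 ^ k] C ⧸ J,
      ∀ b, ubar (Ideal.Quotient.mk ((𝔞 ^ k).map (algebraMap A B)) b) = u b :=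
    ⟨⟨Ideal.Quotient.lift ((𝔞 ^ k).map (algebraMap A B)) (u : B →+* C ⧸ J) hker1, hcomm⟩,
      fun b => rfl⟩
  have h1 : ((⊥ : Ideal (A ⧸ 𝔞 ^ k)) ^ 1).map (algebraMap (A ⧸ 𝔞 ^ k) C) = ⊥ := by
    rw [pow_one, Ideal.map_bot]
  have h2 : ∀ x ∈ (𝔟.map (Ideal.Quotient.mk ((𝔞 ^ k).map (algebraMap A B)))) ^ m,
      ubar x = 0 := by
    intro x hx
    rw [← Ideal.map_pow] at hx
    obtain ⟨b, hb, rfl⟩ :=
      (Ideal.mem_map_iff_of_surjective _ Ideal.Quotient.mk_surjective).mp hx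
    rw [hubar]
    exact hm b hb
  obtain ⟨vbar, hvbar⟩ := h C J hJ ⟨1, h1⟩ ubar ⟨m, h2⟩
  have hcomm2 : ∀ a : A,
      ((vbar : (B ⧸ (𝔞 ^ k).map (algebraMap A B)) →+* C).comp
        (Ideal.Quotient.mk ((𝔞 ^ k).map (algebraMap A B)))) (algebraMap A B a)
        = algebraMap A C a := fun a => vbar.commutes (Ideal.Quotient.mk (𝔞 ^ k) a)
  refine ⟨⟨(vbar : (B ⧸ (𝔞 ^ k).map (algebraMap A B)) →+* C).comp
        (Ideal.Quotient.mk ((𝔞 ^ k).map (algebraMap A B))), hcomm2⟩, ?_⟩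
  apply AlgHom.ext
  intro b
  have h3 := AlgHom.congr_fun hvbar (Ideal.Quotient.mk ((𝔞 ^ k).map (algebraMap A B)) b)
  rw [hubar] at h3
  exact h3

end Helpers

/-- Let A carry the 𝔞-adic and B the 𝔟-adic topology, A → B being continuous (a power of 𝔞 maps into 𝔟).
Then B is formally smooth over A if and only if for every n the (A/𝔞ⁿ)-algebra B/𝔞ⁿB, with the adic
topology of the image of 𝔟, is formally smooth over the discrete ring A/𝔞ⁿ. -/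
theorem result {A B : Type u} [CommRing A] [CommRing B] [Algebra A B]
    (𝔞 : Ideal A) (𝔟 : Ideal B) (hAB : ∃ k : ℕ, (𝔞 ^ k).map (algebraMap A B) ≤ 𝔟) :
    EGA41.IsFormallySmoothAdic A 𝔞 B 𝔟 ↔
      ∀ n : ℕ, EGA41.IsFormallySmoothAdic (A ⧸ 𝔞 ^ n) ⊥ (B ⧸ (𝔞 ^ n).map (algebraMap A B))
        (𝔟.map (Ideal.Quotient.mk ((𝔞 ^ n).map (algebraMap A B)))) := by
  constructor
  · intro h n C _ _ J hJ _ u hu
    exact forward 𝔞 𝔟 h n C J hJ u hu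
  · intro h C _ _ J hJ hk u hu
    obtain ⟨k, hk⟩ := hk
    exact backward 𝔞 𝔟 k (h k) C J hJ hk u hu

end Groth.Agent.S4536
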