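import Groth.Statements.S4553
import Mathlib
import Groth.Agent.S4536
-- import your own Groth.Agent.* helpers here

set_option autoImplicit false
universe u
open EGA41

set_option linter.style.haveILetI false
set_option linter.unusedSectionVars false
set_option linter.unusedVariables false

namespace Groth.Agent.S4553

section S4553lib

variable {A B : Type u} [CommRing A] [CommRing B] [Algebra A B]

/-- every continuous `A`-algebra map `B → D` lifts along `π : C → D` -/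
def Lifts (𝔟 : Ideal B) {C D : Type u} [CommRing C] [CommRing D] [Algebra A C] [Algebra A D]
    (π : C →ₐ[A] D) : Prop :=
  ∀ u : B →ₐ[A] D, (∃ m : ℕ, ∀ x ∈ 𝔟 ^ m, u x = 0) → ∃ v : B →ₐ[A] C, π.comp v = u

/-- a lift of a continuous map along a square-zero surjection is continuous -/
theorem cont_of_lift (𝔟 : Ideal B) {C D : Type u} [CommRing C] [CommRing D] [Algebra A C]
    [Algebra A D] (π : C →ₐ[A] D) (hK : ∀ x y : C, π x = 0 → π y = 0 → x * y = 0)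
    (u : B →ₐ[A] D) (m : ℕ) (hu : ∀ x ∈ 𝔟 ^ m, u x = 0) (v : B →ₐ[A] C) (hv : π.comp v = u) :
    ∀ x ∈ 𝔟 ^ (m + m), v x = 0 := by
  intro x hx
  rw [pow_add] at hx
  have hx' : x ∈ (𝔟 ^ m) • (𝔟 ^ m) := hx
  refine Submodule.smul_induction_on hx' (fun a ha b hb => ?_) (fun a b ha hb => ?_)
  · rw [smul_eq_mul, map_mul]
    apply hK
    · rw [← AlgHom.comp_apply, hv]; exact hu a ha
    · rw [← AlgHom.comp_apply, hv]; exact hu b hb
  · rw [map_add, ha, hb, add_zero]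

/-- fibre formal smoothness, in a form about `A`-algebras killed by `𝔞` -/
theorem lift_of_fibre (𝔞 : Ideal A) (𝔟 : Ideal B)
    (h₀ : EGA41.IsFormallySmoothAdic (A ⧸ 𝔞) ⊥ (B ⧸ 𝔞.map (algebraMap A B))
        (𝔟.map (Ideal.Quotient.mk (𝔞.map (algebraMap A B)))))
    (X : Type u) [CommRing X] [Algebra A X] (hX : ∀ a ∈ 𝔞, algebraMap A X a = 0)
    (J₀ : Ideal X) (hJ₀ : IsNilpotent J₀) (φ : B →ₐ[A] X ⧸ J₀) (m : ℕ)
    (hφ : ∀ x ∈ 𝔟 ^ m, φ x = 0) :
    ∃ ψ : B →ₐ[A] X, (Ideal.Quotient.mkₐ A J₀).comp ψ = φ := by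
  letI algX : Algebra (A ⧸ 𝔞) X := (Ideal.Quotient.lift 𝔞 (algebraMap A X) hX).toAlgebra
  haveI hST : IsScalarTower A (A ⧸ 𝔞) X := IsScalarTower.of_algebraMap_eq (fun a => rfl)
  have hφ𝔞 : ∀ x ∈ 𝔞.map (algebraMap A B), φ.toRingHom x = 0 := by
    intro x hx
    have hle : 𝔞.map (algebraMap A B) ≤ RingHom.ker φ.toRingHom := by
      rw [Ideal.map_le_iff_le_comap]
      intro a ha
      rw [Ideal.mem_comap, RingHom.mem_ker]
      show φ (algebraMap A B a) = 0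
      rw [φ.commutes]
      show Ideal.Quotient.mk J₀ (algebraMap A X a) = 0
      rw [hX a ha, map_zero]
    exact hle hx
  let u₀ : (B ⧸ 𝔞.map (algebraMap A B)) →ₐ[A ⧸ 𝔞] X ⧸ J₀ :=
    { toRingHom := Ideal.Quotient.lift (𝔞.map (algebraMap A B)) φ.toRingHom hφ𝔞
      commutes' := by
        intro r
        obtain ⟨a, rfl⟩ := Ideal.Quotient.mk_surjective r
        show φ (algebraMap A B a) = _
        rw [φ.commutes]
        rfl }
  have hcont : ∃ k : ℕ, ∀ x ∈ (𝔟.map (Ideal.Quotient.mk (𝔞.map (algebraMap A B)))) ^ k,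
      u₀ x = 0 := by
    refine ⟨m, fun x hx => ?_⟩
    rw [← Ideal.map_pow] at hx
    obtain ⟨y, hy, rfl⟩ := (Ideal.mem_map_iff_of_surjective _ Ideal.Quotient.mk_surjective).1 hx
    exact hφ y hy
  obtain ⟨v₀, hv₀⟩ := h₀ X J₀ hJ₀ ⟨1, by simp⟩ u₀ hcont
  refine ⟨(v₀.restrictScalars A).comp (Ideal.Quotient.mkₐ A (𝔞.map (algebraMap A B))), ?_⟩
  ext b
  exact congrArg (fun f => f (Ideal.Quotient.mk _ b)) hv₀

/-- the key step: lifting along a surjection whose kernel is of square zero and killed by `𝔞` -/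
theorem lifts_of_killed (𝔞 : Ideal A) (𝔟 : Ideal B)
    (hproj : ∀ (n : ℕ) (P Q : Type u) [AddCommGroup P] [Module A P] [AddCommGroup Q] [Module A Q],
      (∀ a ∈ 𝔞 ^ n, ∀ y : P, a • y = 0) → (∀ a ∈ 𝔞 ^ n, ∀ y : Q, a • y = 0) →
      ∀ f : P →ₗ[A] Q, Function.Surjective f → ∀ v : B →ₗ[A] Q, (∃ m : ℕ, ∀ x ∈ 𝔟 ^ m, v x = 0) →
        ∃ w : B →ₗ[A] P, (∃ m : ℕ, ∀ x ∈ 𝔟 ^ m, w x = 0) ∧ f ∘ₗ w = v)
    (h₀ : EGA41.IsFormallySmoothAdic (A ⧸ 𝔞) ⊥ (B ⧸ 𝔞.map (algebraMap A B))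
        (𝔟.map (Ideal.Quotient.mk (𝔞.map (algebraMap A B)))))
    {C D : Type u} [CommRing C] [CommRing D] [Algebra A C] [Algebra A D] (π : C →ₐ[A] D)
    (hπ : Function.Surjective π) (n : ℕ) (hn : ∀ a ∈ 𝔞 ^ n, ∀ c : C, a • c = 0)
    (hK2 : ∀ x y : C, π x = 0 → π y = 0 → x * y = 0)
    (h𝔞K : ∀ a ∈ 𝔞, ∀ x : C, π x = 0 → a • x = 0) :
    Lifts 𝔟 π := by
  rintro u ⟨m₁, hu₁⟩
  have hnD : ∀ a ∈ 𝔞 ^ n, ∀ d : D, a • d = 0 := by
    intro a ha d
    obtain ⟨c, rfl⟩ := hπ d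
    rw [← map_smul, hn a ha c, map_zero]
  obtain ⟨w, ⟨m₂, hw₂⟩, hwu⟩ := hproj n C D hn hnD π.toLinearMap hπ u.toLinearMap ⟨m₁, hu₁⟩
  have hwu' : ∀ b, π (w b) = u b := fun b => LinearMap.congr_fun hwu b
  obtain ⟨M, hM₁, hM₂⟩ : ∃ M, m₁ ≤ M ∧ m₂ ≤ M := ⟨max m₁ m₂, le_max_left _ _, le_max_right _ _⟩
  have hu : ∀ x ∈ 𝔟 ^ M, u x = 0 := fun x hx => hu₁ x (Ideal.pow_le_pow_right hM₁ hx)
  have hw : ∀ x ∈ 𝔟 ^ M, w x = 0 := fun x hx => hw₂ x (Ideal.pow_le_pow_right hM₂ hx)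
  let ū : (B ⧸ 𝔟 ^ M) →ₐ[A] D := Ideal.Quotient.liftₐ (𝔟 ^ M) u hu
  have hū : ∀ b, ū (Ideal.Quotient.mk (𝔟 ^ M) b) = u b := fun b => rfl
  let E : Subalgebra A (C × (B ⧸ 𝔟 ^ M)) :=
    AlgHom.equalizer (π.comp (AlgHom.fst A C (B ⧸ 𝔟 ^ M))) (ū.comp (AlgHom.snd A C (B ⧸ 𝔟 ^ M)))
  have hE : ∀ e : E, π e.1.1 = ū e.1.2 := fun e => (AlgHom.mem_equalizer _ _ _).1 e.2
  let πE : E →ₐ[A] (B ⧸ 𝔟 ^ M) := (AlgHom.snd A C (B ⧸ 𝔟 ^ M)).comp E.val
  have hπE : ∀ e : E, πE e = e.1.2 := fun e => rfl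
  let eb : B → E := fun b => ⟨(w b, Ideal.Quotient.mk (𝔟 ^ M) b),
    (AlgHom.mem_equalizer _ _ _).2 (hwu' b)⟩
  have heb1 : ∀ b, (eb b).1.1 = w b := fun b => rfl
  have heb2 : ∀ b, πE (eb b) = Ideal.Quotient.mk (𝔟 ^ M) b := fun b => rfl
  -- the key vanishing
  have key : ∀ x : E, x ∈ 𝔞.map (algebraMap A E) →
      ∃ b : B, Ideal.Quotient.mk (𝔟 ^ M) b = x.1.2 ∧ x.1.1 = w b := by
    intro x hx
    have hx' : x ∈ (𝔞 • ⊤ : Submodule A E) := by
      rw [Ideal.smul_top_eq_map]; exact hx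
    refine Submodule.smul_induction_on hx' (fun a ha e _ => ?_) (fun x y hx hy => ?_)
    · obtain ⟨b₀, hb₀⟩ := Ideal.Quotient.mk_surjective e.1.2
      refine ⟨a • b₀, ?_, ?_⟩
      · show Ideal.Quotient.mk (𝔟 ^ M) (a • b₀) = a • e.1.2
        rw [← hb₀]
        exact map_smul (Ideal.Quotient.mkₐ A (𝔟 ^ M)) a b₀
      · show a • e.1.1 = w (a • b₀)
        rw [map_smul]
        have hk : π (e.1.1 - w b₀) = 0 := by
          rw [map_sub, hE e, ← hb₀, hū, hwu' b₀, sub_self]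
        have h3 := h𝔞K a ha _ hk
        rw [smul_sub, sub_eq_zero] at h3
        exact h3
    · obtain ⟨b₁, h1, h1'⟩ := hx
      obtain ⟨b₂, h2, h2'⟩ := hy
      refine ⟨b₁ + b₂, ?_, ?_⟩
      · rw [map_add, h1, h2]; rfl
      · rw [map_add, ← h1', ← h2']; rfl
  -- the fibre algebra, abstractly
  suffices main : ∀ (X : Type u) [CommRing X] [Algebra A X] (mkX : E →ₐ[A] X),
      Function.Surjective mkX → RingHom.ker mkX.toRingHom = 𝔞.map (algebraMap A E) →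
      ∃ v : B →ₐ[A] C, π.comp v = u from
    main (E ⧸ 𝔞.map (algebraMap A E)) (Ideal.Quotient.mkₐ A (𝔞.map (algebraMap A E)))
      Ideal.Quotient.mk_surjective
      (Ideal.ext fun x => by rw [RingHom.mem_ker]; exact Ideal.Quotient.eq_zero_iff_mem)
  intro X _ _ mkX hsurj hkerX
  have hXkill : ∀ a ∈ 𝔞, algebraMap A X a = 0 := by
    intro a ha
    rw [← mkX.commutes a]
    have h1 : algebraMap A E a ∈ RingHom.ker mkX.toRingHom := by
      rw [hkerX]; exact Ideal.mem_map_of_mem _ ha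
    exact h1
  let J₀ : Ideal X := (RingHom.ker πE.toRingHom).map mkX.toRingHom
  have hker2 : (RingHom.ker πE.toRingHom) ^ 2 = ⊥ := by
    rw [pow_two, eq_bot_iff, Ideal.mul_le]
    intro x hx y hy
    rw [Ideal.mem_bot]
    have hx0 : x.1.2 = 0 := hx
    have hy0 : y.1.2 = 0 := hy
    have hx1 : π x.1.1 = 0 := by rw [hE x, hx0, map_zero]
    have hy1 : π y.1.1 = 0 := by rw [hE y, hy0, map_zero]
    apply Subtype.ext
    apply Prod.ext
    · show x.1.1 * y.1.1 = 0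
      exact hK2 _ _ hx1 hy1
    · show x.1.2 * y.1.2 = 0
      rw [hx0, zero_mul]
  have hJ₀ : IsNilpotent J₀ := by
    refine ⟨2, ?_⟩
    have h := Ideal.map_pow mkX.toRingHom (RingHom.ker πE.toRingHom) 2
    rw [hker2, Ideal.map_bot] at h
    exact h.symm
  let q : E →ₐ[A] X ⧸ J₀ := (Ideal.Quotient.mkₐ A J₀).comp mkX
  have hq : ∀ x y : E, πE x = πE y → q x = q y := by
    intro x y hxy
    rw [← sub_eq_zero, ← map_sub]
    show Ideal.Quotient.mk J₀ (mkX.toRingHom (x - y)) = 0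
    rw [Ideal.Quotient.eq_zero_iff_mem]
    refine Ideal.mem_map_of_mem _ ?_
    show πE (x - y) = 0
    rw [map_sub, hxy, sub_self]
  let φ : B →ₐ[A] X ⧸ J₀ :=
    { toFun := fun b => q (eb b)
      map_one' := (hq (eb 1) 1 (by rw [heb2, map_one, map_one])).trans (map_one q)
      map_mul' := fun x y => (hq (eb (x * y)) (eb x * eb y)
        (by rw [heb2, map_mul, map_mul, heb2, heb2])).trans (map_mul q _ _)
      map_zero' := (hq (eb 0) 0 (by rw [heb2, map_zero, map_zero])).trans (map_zero q)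
      map_add' := fun x y => (hq (eb (x + y)) (eb x + eb y)
        (by rw [heb2, map_add, map_add, heb2, heb2])).trans (map_add q _ _)
      commutes' := fun r => (hq (eb (algebraMap A B r)) (algebraMap A E r)
        (by rw [heb2, πE.commutes]; rfl)).trans (q.commutes r) }
  have hφ : ∀ x ∈ 𝔟 ^ M, φ x = 0 := by
    intro x hx
    show q (eb x) = 0
    rw [hq (eb x) 0 (by rw [heb2, map_zero]; exact Ideal.Quotient.eq_zero_iff_mem.2 hx), map_zero]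
  obtain ⟨ψ, hψ⟩ := lift_of_fibre 𝔞 𝔟 h₀ X hXkill J₀ hJ₀ φ M hφ
  have hψ' : ∀ b, Ideal.Quotient.mk J₀ (ψ b) = Ideal.Quotient.mk J₀ (mkX (eb b)) :=
    fun b => congrArg (fun f => f b) hψ
  -- existence and uniqueness of the element of `E` over `(ψ b, b)`
  have hexists : ∀ b, ∃ e : E, mkX e = ψ b ∧ πE e = Ideal.Quotient.mk (𝔟 ^ M) b := by
    intro b
    obtain ⟨e, he⟩ := hsurj (ψ b)
    have h1 : mkX e - mkX (eb b) ∈ J₀ := by
      rw [← Ideal.Quotient.eq, he]; exact hψ' b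
    obtain ⟨y, hy, hy'⟩ := (Ideal.mem_map_iff_of_surjective mkX.toRingHom hsurj).1 h1
    refine ⟨eb b + y, ?_, ?_⟩
    · rw [map_add]
      have hy'' : mkX y = mkX e - mkX (eb b) := hy'
      rw [hy'', ← he]; ring
    · rw [map_add, heb2]
      have : πE y = 0 := hy
      rw [this, add_zero]
  have huniq : ∀ e e' : E, mkX e = mkX e' → πE e = πE e' → e = e' := by
    intro e e' h1 h2
    rw [← sub_eq_zero]
    have hx : e - e' ∈ 𝔞.map (algebraMap A E) := by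
      rw [← hkerX, RingHom.mem_ker]
      show mkX (e - e') = 0
      rw [map_sub, h1, sub_self]
    obtain ⟨b, hb1, hb2⟩ := key (e - e') hx
    have h0 : (e - e').1.2 = 0 := by
      show πE (e - e') = 0
      rw [map_sub, h2, sub_self]
    rw [h0] at hb1
    have hbM : b ∈ 𝔟 ^ M := Ideal.Quotient.eq_zero_iff_mem.1 hb1
    rw [hw b hbM] at hb2
    apply Subtype.ext
    exact Prod.ext hb2 h0
  choose v₁ hv₁ using hexists
  let v : B →ₐ[A] C :=
    { toFun := fun b => (v₁ b).1.1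
      map_one' := by
        have h : v₁ 1 = 1 := huniq _ _ (by rw [(hv₁ 1).1, map_one, map_one])
          (by rw [(hv₁ 1).2, map_one, map_one])
        rw [h]; rfl
      map_mul' := fun x y => by
        have h : v₁ (x * y) = v₁ x * v₁ y := huniq _ _
          (by rw [(hv₁ _).1, map_mul, map_mul, (hv₁ x).1, (hv₁ y).1])
          (by rw [(hv₁ _).2, map_mul, map_mul, (hv₁ x).2, (hv₁ y).2])
        rw [h]; rfl
      map_zero' := by
        have h : v₁ 0 = 0 := huniq _ _ (by rw [(hv₁ 0).1, map_zero, map_zero])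
          (by rw [(hv₁ 0).2, map_zero, map_zero])
        rw [h]; rfl
      map_add' := fun x y => by
        have h : v₁ (x + y) = v₁ x + v₁ y := huniq _ _
          (by rw [(hv₁ _).1, map_add, map_add, (hv₁ x).1, (hv₁ y).1])
          (by rw [(hv₁ _).2, map_add, map_add, (hv₁ x).2, (hv₁ y).2])
        rw [h]; rfl
      commutes' := fun r => by
        have h : v₁ (algebraMap A B r) = algebraMap A E r := huniq _ _
          (by rw [(hv₁ _).1, ψ.commutes, mkX.commutes])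
          (by rw [(hv₁ _).2, πE.commutes]; rfl)
        show (v₁ (algebraMap A B r)).1.1 = _
        rw [h]; rfl }
  refine ⟨v, ?_⟩
  ext b
  show π (v₁ b).1.1 = u b
  rw [hE (v₁ b), ← hπE, (hv₁ b).2, hū]

/-- dévissage: lifting along `C → C ⧸ J` when `(J ⊔ 𝔞C)^N * J = ⊥` -/
theorem lifts_mk (𝔞 : Ideal A) (𝔟 : Ideal B)
    (hproj : ∀ (n : ℕ) (P Q : Type u) [AddCommGroup P] [Module A P] [AddCommGroup Q] [Module A Q],
      (∀ a ∈ 𝔞 ^ n, ∀ y : P, a • y = 0) → (∀ a ∈ 𝔞 ^ n, ∀ y : Q, a • y = 0) →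
      ∀ f : P →ₗ[A] Q, Function.Surjective f → ∀ v : B →ₗ[A] Q, (∃ m : ℕ, ∀ x ∈ 𝔟 ^ m, v x = 0) →
        ∃ w : B →ₗ[A] P, (∃ m : ℕ, ∀ x ∈ 𝔟 ^ m, w x = 0) ∧ f ∘ₗ w = v)
    (h₀ : EGA41.IsFormallySmoothAdic (A ⧸ 𝔞) ⊥ (B ⧸ 𝔞.map (algebraMap A B))
        (𝔟.map (Ideal.Quotient.mk (𝔞.map (algebraMap A B)))))
    (C : Type u) [CommRing C] [Algebra A C] (n : ℕ) (hn : ∀ a ∈ 𝔞 ^ n, ∀ c : C, a • c = 0) :
    ∀ (N : ℕ) (J : Ideal C), (J ⊔ 𝔞.map (algebraMap A C)) ^ N * J = ⊥ →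
      Lifts 𝔟 (Ideal.Quotient.mkₐ A J) := by
  intro N
  induction N with
  | zero =>
    intro J hJ
    rw [pow_zero, Ideal.one_eq_top, Ideal.top_mul] at hJ
    refine lifts_of_killed 𝔞 𝔟 hproj h₀ (Ideal.Quotient.mkₐ A J)
      (Ideal.Quotient.mkₐ_surjective A J) n hn ?_ ?_
    · intro x y hx _
      have hx' : x ∈ J := Ideal.Quotient.eq_zero_iff_mem.1 hx
      rw [hJ, Ideal.mem_bot] at hx'
      rw [hx', zero_mul]
    · intro a _ x hx
      have hx' : x ∈ J := Ideal.Quotient.eq_zero_iff_mem.1 hx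
      rw [hJ, Ideal.mem_bot] at hx'
      rw [hx', smul_zero]
  | succ N ih =>
    intro J hJ
    have hle : (J ⊔ 𝔞.map (algebraMap A C)) * J ≤ J := Ideal.mul_le_right
    have hJ₁ : ((J ⊔ 𝔞.map (algebraMap A C)) * J ⊔ 𝔞.map (algebraMap A C)) ^ N *
        ((J ⊔ 𝔞.map (algebraMap A C)) * J) = ⊥ := by
      rw [eq_bot_iff, ← hJ, pow_succ, mul_assoc]
      refine Ideal.mul_mono (Ideal.pow_right_mono (sup_le (hle.trans le_sup_left) le_sup_right) N)
        le_rfl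
    have hL1 : Lifts 𝔟 (Ideal.Quotient.mkₐ A ((J ⊔ 𝔞.map (algebraMap A C)) * J)) := ih _ hJ₁
    have hK2 : ∀ x y : C ⧸ (J ⊔ 𝔞.map (algebraMap A C)) * J,
        Ideal.Quotient.factorₐ A hle x = 0 → Ideal.Quotient.factorₐ A hle y = 0 → x * y = 0 := by
      intro x y hx hy
      obtain ⟨c, rfl⟩ := Ideal.Quotient.mk_surjective x
      obtain ⟨c', rfl⟩ := Ideal.Quotient.mk_surjective y
      have hc : c ∈ J := Ideal.Quotient.eq_zero_iff_mem.1 hx
      have hc' : c' ∈ J := Ideal.Quotient.eq_zero_iff_mem.1 hy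
      rw [← map_mul, Ideal.Quotient.eq_zero_iff_mem]
      exact Ideal.mul_mem_mul (Ideal.mem_sup_left hc) hc'
    have hL2 : Lifts 𝔟 (Ideal.Quotient.factorₐ A hle) := by
      refine lifts_of_killed 𝔞 𝔟 hproj h₀ (Ideal.Quotient.factorₐ A hle) ?_ n ?_ hK2 ?_
      · intro y
        obtain ⟨c, rfl⟩ := Ideal.Quotient.mk_surjective y
        exact ⟨Ideal.Quotient.mk _ c, rfl⟩
      · intro a ha y
        obtain ⟨c, rfl⟩ := Ideal.Quotient.mk_surjective y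
        show a • (Ideal.Quotient.mkₐ A _ c) = 0
        rw [← map_smul, hn a ha c, map_zero]
      · intro a ha x hx
        obtain ⟨c, rfl⟩ := Ideal.Quotient.mk_surjective x
        have hc : c ∈ J := Ideal.Quotient.eq_zero_iff_mem.1 hx
        show a • (Ideal.Quotient.mkₐ A _ c) = 0
        rw [← map_smul]
        show Ideal.Quotient.mk _ (a • c) = 0
        rw [Ideal.Quotient.eq_zero_iff_mem, Algebra.smul_def]
        exact Ideal.mul_mem_mul (Ideal.mem_sup_right (Ideal.mem_map_of_mem _ ha)) hc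
    rintro u ⟨m, hu⟩
    obtain ⟨u₁, hu₁⟩ := hL2 u ⟨m, hu⟩
    have hcont := cont_of_lift 𝔟 (Ideal.Quotient.factorₐ A hle) hK2 u m hu u₁ hu₁
    obtain ⟨v, hv⟩ := hL1 u₁ ⟨m + m, hcont⟩
    refine ⟨v, ?_⟩
    rw [← Ideal.Quotient.factorₐ_comp_mk A hle, AlgHom.comp_assoc, hv, hu₁]

end S4553lib


/-- Let A be 𝔞-adic (a preadmissible ring with ideal of definition 𝔞), B a topological A-algebra for the
𝔟-adic topology (a power of 𝔞 maps into 𝔟) which is a formally projective topological A-module, and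
put A₀ = A/𝔞, B₀ = B/𝔞B with the quotient topologies (A₀ discrete). Then B is a formally smooth
A-algebra if and only if B₀ is a formally smooth A₀-algebra. -/
theorem result {A B : Type u} [CommRing A] [CommRing B] [Algebra A B]
    (𝔞 : Ideal A) (𝔟 : Ideal B) (hAB : ∃ k : ℕ, (𝔞 ^ k).map (algebraMap A B) ≤ 𝔟)
    (hproj : ∀ (n : ℕ) (P Q : Type u) [AddCommGroup P] [Module A P] [AddCommGroup Q] [Module A Q],
      (∀ a ∈ 𝔞 ^ n, ∀ y : P, a • y = 0) → (∀ a ∈ 𝔞 ^ n, ∀ y : Q, a • y = 0) →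
      ∀ f : P →ₗ[A] Q, Function.Surjective f → ∀ v : B →ₗ[A] Q, (∃ m : ℕ, ∀ x ∈ 𝔟 ^ m, v x = 0) →
        ∃ w : B →ₗ[A] P, (∃ m : ℕ, ∀ x ∈ 𝔟 ^ m, w x = 0) ∧ f ∘ₗ w = v) :
    EGA41.IsFormallySmoothAdic A 𝔞 B 𝔟 ↔
      EGA41.IsFormallySmoothAdic (A ⧸ 𝔞) ⊥ (B ⧸ 𝔞.map (algebraMap A B))
        (𝔟.map (Ideal.Quotient.mk (𝔞.map (algebraMap A B)))) := by
  constructor
  · intro h
    have h1 := (Groth.Agent.S4536.result 𝔞 𝔟 hAB).mp h 1
    rw [pow_one] at h1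
    exact h1
  · intro h₀ C _ _ J hJ h𝔞 u hu
    obtain ⟨N₁, hN₁⟩ := hJ
    obtain ⟨k, hk⟩ := h𝔞
    have hn : ∀ a ∈ 𝔞 ^ k, ∀ c : C, a • c = 0 := by
      intro a ha c
      have h1 : algebraMap A C a ∈ (𝔞 ^ k).map (algebraMap A C) := Ideal.mem_map_of_mem _ ha
      rw [hk, Ideal.mem_bot] at h1
      rw [Algebra.smul_def, h1, zero_mul]
    have hN : (J ⊔ 𝔞.map (algebraMap A C)) ^ (N₁ + k) * J = ⊥ := by
      have h2 : (J ⊔ 𝔞.map (algebraMap A C)) ^ (N₁ + k) ≤ ⊥ := by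
        refine Ideal.sup_pow_add_le_pow_sup_pow.trans ?_
        rw [← Ideal.map_pow, hk]
        have : J ^ N₁ = ⊥ := hN₁
        rw [this, sup_bot_eq]
      rw [le_bot_iff.1 h2, Ideal.bot_mul]
    exact lifts_mk 𝔞 𝔟 hproj h₀ C k hn (N₁ + k) J hN u hu

end Groth.Agent.S4553
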