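import Groth.Statements.S4554
import Mathlib
import Groth.Agent.S4553
import Groth.Agent.S4535
-- import your own Groth.Agent.* helpers here

set_option autoImplicit false
universe u
open EGA41

set_option linter.style.haveILetI false
set_option linter.unusedSectionVars false
set_option linter.unusedVariables false

namespace Groth.Agent.S4554

open TensorProduct

section S4554lib

/-- a faithfully flat projective algebra has a module retraction onto the base -/
theorem exists_retraction (A A' : Type u) [CommRing A] [CommRing A'] [Algebra A A']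
    [Module.FaithfullyFlat A A'] [Module.Projective A A'] : ∃ r : A' →ₗ[A] A, r 1 = 1 := by
  obtain ⟨s, hs⟩ := (Module.projective_def' (R := A) (P := A')).1 inferInstance
  let T : Ideal A := LinearMap.range (LinearMap.applyₗ (1 : A') : (A' →ₗ[A] A) →ₗ[A] A)
  have hT : ∀ x : A', (s 1) x ∈ T := fun x => ⟨(Finsupp.lapply x).comp s, rfl⟩
  have h1 : (1 : A') = (s 1).sum fun x c => c • x := by
    have h2 := LinearMap.congr_fun hs 1
    rw [LinearMap.comp_apply, Finsupp.linearCombination_apply, LinearMap.id_apply] at h2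
    exact h2.symm
  by_contra hne
  have hTne : T ≠ ⊤ := by
    intro hT'
    apply hne
    have h3 : (1 : A) ∈ T := hT' ▸ Submodule.mem_top
    obtain ⟨r, hr⟩ := h3
    exact ⟨r, hr⟩
  obtain ⟨m, hm, hTm⟩ := Ideal.exists_le_maximal T hTne
  apply Module.FaithfullyFlat.submodule_ne_top (R := A) (M := A') hm
  rw [Submodule.eq_top_iff']
  intro y
  have hy : y = (s 1).sum fun x c => c • (y * x) := by
    conv_lhs => rw [← mul_one y, h1]
    rw [Finsupp.sum, Finsupp.sum, Finset.mul_sum]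
    refine Finset.sum_congr rfl fun x _ => ?_
    rw [mul_smul_comm]
  rw [hy]
  exact Submodule.sum_mem _ fun x _ => Submodule.smul_mem_smul (hTm (hT x)) Submodule.mem_top

variable {A B : Type u} [CommRing A] [CommRing B] [Algebra A B]

/-- square-zero liftings give liftings along surjections with square-zero kernel -/
theorem lifts_surj (𝔞 : Ideal A) (𝔟 : Ideal B)
    (h : ∀ (C : Type u) [CommRing C] [Algebra A C] (J : Ideal C), J ^ 2 = ⊥ →
      (∃ k : ℕ, (𝔞 ^ k).map (algebraMap A C) = ⊥) →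
      ∀ u : B →ₐ[A] C ⧸ J, (∃ k : ℕ, ∀ x ∈ 𝔟 ^ k, u x = 0) →
        ∃ v : B →ₐ[A] C, (Ideal.Quotient.mkₐ A J).comp v = u)
    {C D : Type u} [CommRing C] [CommRing D] [Algebra A C] [Algebra A D] (π : C →ₐ[A] D)
    (hπ : Function.Surjective π) (hk : ∃ k : ℕ, (𝔞 ^ k).map (algebraMap A C) = ⊥)
    (hK2 : ∀ x y : C, π x = 0 → π y = 0 → x * y = 0) : Groth.Agent.S4553.Lifts 𝔟 π := by
  rintro u ⟨m, hu⟩
  have hker : ∀ a : C, a ∈ RingHom.ker π.toRingHom → π a = 0 := fun a ha => ha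
  let ē : (C ⧸ RingHom.ker π.toRingHom) →ₐ[A] D := Ideal.Quotient.liftₐ _ π hker
  have hbij : Function.Bijective ē := by
    constructor
    · exact RingHom.lift_injective_of_ker_le_ideal (RingHom.ker π.toRingHom) (f := π.toRingHom)
        hker le_rfl
    · intro d
      obtain ⟨c, rfl⟩ := hπ d
      exact ⟨Ideal.Quotient.mk _ c, rfl⟩
  let e : (C ⧸ RingHom.ker π.toRingHom) ≃ₐ[A] D := AlgEquiv.ofBijective ē hbij
  have hJ2 : (RingHom.ker π.toRingHom) ^ 2 = ⊥ := by
    rw [pow_two, eq_bot_iff, Ideal.mul_le]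
    intro x hx y hy
    rw [Ideal.mem_bot]
    exact hK2 x y hx hy
  obtain ⟨v, hv⟩ := h C (RingHom.ker π.toRingHom) hJ2 hk (e.symm.toAlgHom.comp u)
    ⟨m, fun x hx => by
      show e.symm (u x) = 0
      rw [hu x hx, map_zero]⟩
  refine ⟨v, ?_⟩
  ext b
  have h1 : Ideal.Quotient.mk (RingHom.ker π.toRingHom) (v b) = e.symm (u b) :=
    congrArg (fun f => f b) hv
  have h2 : e (Ideal.Quotient.mk (RingHom.ker π.toRingHom) (v b)) = π (v b) := rfl
  show π (v b) = u b
  rw [← h2, h1, AlgEquiv.apply_symm_apply]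

/-- adic formal smoothness can be tested on square-zero ideals -/
theorem fsAdic_of_sq_zero (𝔞 : Ideal A) (𝔟 : Ideal B)
    (h : ∀ (C : Type u) [CommRing C] [Algebra A C] (J : Ideal C), J ^ 2 = ⊥ →
      (∃ k : ℕ, (𝔞 ^ k).map (algebraMap A C) = ⊥) →
      ∀ u : B →ₐ[A] C ⧸ J, (∃ k : ℕ, ∀ x ∈ 𝔟 ^ k, u x = 0) →
        ∃ v : B →ₐ[A] C, (Ideal.Quotient.mkₐ A J).comp v = u) :
    EGA41.IsFormallySmoothAdic A 𝔞 B 𝔟 := by
  have chain : ∀ (N : ℕ) (C : Type u) [CommRing C] [Algebra A C],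
      (∃ k : ℕ, (𝔞 ^ k).map (algebraMap A C) = ⊥) → ∀ J : Ideal C, J ^ N * J = ⊥ →
      Groth.Agent.S4553.Lifts 𝔟 (Ideal.Quotient.mkₐ A J) := by
    intro N
    induction N with
    | zero =>
      intro C _ _ hk J hJ u hu
      rw [pow_zero, Ideal.one_eq_top, Ideal.top_mul] at hJ
      exact h C J (by rw [hJ, pow_two, Ideal.bot_mul]) hk u hu
    | succ N ih =>
      intro C _ _ hk J hJ
      have hle : J * J ≤ J := Ideal.mul_le_right
      have hJ₁ : (J * J) ^ N * (J * J) = ⊥ := by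
        rw [eq_bot_iff, ← hJ, pow_succ, mul_assoc]
        exact Ideal.mul_mono (Ideal.pow_right_mono hle N) le_rfl
      have hL1 := ih C hk (J * J) hJ₁
      have hk' : ∃ k : ℕ, (𝔞 ^ k).map (algebraMap A (C ⧸ (J * J))) = ⊥ := by
        obtain ⟨k, hk⟩ := hk
        refine ⟨k, ?_⟩
        have h3 : algebraMap A (C ⧸ (J * J)) =
            (Ideal.Quotient.mk (J * J)).comp (algebraMap A C) := rfl
        rw [h3, ← Ideal.map_map, hk, Ideal.map_bot]
      have hK2 : ∀ x y : C ⧸ (J * J),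
          Ideal.Quotient.factorₐ A hle x = 0 → Ideal.Quotient.factorₐ A hle y = 0 → x * y = 0 := by
        intro x y hx hy
        obtain ⟨c, rfl⟩ := Ideal.Quotient.mk_surjective x
        obtain ⟨c', rfl⟩ := Ideal.Quotient.mk_surjective y
        have hc : c ∈ J := Ideal.Quotient.eq_zero_iff_mem.1 hx
        have hc' : c' ∈ J := Ideal.Quotient.eq_zero_iff_mem.1 hy
        rw [← map_mul, Ideal.Quotient.eq_zero_iff_mem]
        exact Ideal.mul_mem_mul hc hc'
      have hL2 : Groth.Agent.S4553.Lifts 𝔟 (Ideal.Quotient.factorₐ A hle) := by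
        refine lifts_surj 𝔞 𝔟 h (Ideal.Quotient.factorₐ A hle) ?_ hk' hK2
        intro y
        obtain ⟨c, rfl⟩ := Ideal.Quotient.mk_surjective y
        exact ⟨Ideal.Quotient.mk _ c, rfl⟩
      rintro u ⟨m, hu⟩
      obtain ⟨u₁, hu₁⟩ := hL2 u ⟨m, hu⟩
      have hcont := Groth.Agent.S4553.cont_of_lift 𝔟 (Ideal.Quotient.factorₐ A hle) hK2 u m hu
        u₁ hu₁
      obtain ⟨v, hv⟩ := hL1 u₁ ⟨m + m, hcont⟩
      refine ⟨v, ?_⟩
      rw [← Ideal.Quotient.factorₐ_comp_mk A hle, AlgHom.comp_assoc, hv, hu₁]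
  intro C _ _ J hJ hk u hu
  obtain ⟨N, hN⟩ := hJ
  exact chain N C hk J (by rw [show J ^ N = ⊥ from hN, Ideal.bot_mul]) u hu

/-- descent of adic formal smoothness along a base change having a module retraction -/
theorem descent (𝔞 : Ideal A) (𝔟 : Ideal B) (A' : Type u) [CommRing A'] [Algebra A A']
    (r : A' →ₗ[A] A) (hr : r 1 = 1)
    (hB' : EGA41.IsFormallySmoothAdic A' (𝔞.map (algebraMap A A')) (A' ⊗[A] B)
        ((𝔞.map (algebraMap A A')).map (algebraMap A' (A' ⊗[A] B)) ⊔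
          𝔟.map (Algebra.TensorProduct.includeRight : B →ₐ[A] A' ⊗[A] B).toRingHom)) :
    EGA41.IsFormallySmoothAdic A 𝔞 B 𝔟 := by
  apply fsAdic_of_sq_zero
  rintro C _ _ J hJ2 ⟨k, hk⟩ u ⟨m, hu⟩
  let ι : C →ₐ[A] A' ⊗[A] C := Algebra.TensorProduct.includeRight
  have hι : ∀ c, ι c = (1 : A') ⊗ₜ[A] c := fun c => rfl
  let J' : Ideal (A' ⊗[A] C) := J.map ι.toRingHom
  have hJ'2 : J' ^ 2 = ⊥ := by
    have h := Ideal.map_pow ι.toRingHom J 2
    rw [hJ2, Ideal.map_bot] at h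
    exact h.symm
  have hJ'mul : ∀ x ∈ J', ∀ y ∈ J', x * y = 0 := by
    intro x hx y hy
    have h3 : x * y ∈ J' ^ 2 := by rw [pow_two]; exact Ideal.mul_mem_mul hx hy
    rw [hJ'2, Ideal.mem_bot] at h3
    exact h3
  have hJmul : ∀ x ∈ J, ∀ y ∈ J, x * y = 0 := by
    intro x hx y hy
    have h3 : x * y ∈ J ^ 2 := by rw [pow_two]; exact Ideal.mul_mem_mul hx hy
    rw [hJ2, Ideal.mem_bot] at h3
    exact h3
  let qm : C ⧸ J →ₐ[A] (A' ⊗[A] C) ⧸ J' := Ideal.quotientMapₐ J' ι Ideal.le_comap_map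
  have hqm : ∀ c, qm (Ideal.Quotient.mk J c) = Ideal.Quotient.mk J' (ι c) := fun c => rfl
  let ũ : B →ₐ[A] (A' ⊗[A] C) ⧸ J' := qm.comp u
  let u' : A' ⊗[A] B →ₐ[A'] (A' ⊗[A] C) ⧸ J' :=
    Algebra.TensorProduct.lift (Algebra.ofId A' _) ũ (fun x y => Commute.all _ _)
  have hu'1 : ∀ b, u' ((1 : A') ⊗ₜ[A] b) = ũ b := by
    intro b
    show (Algebra.ofId A' _) 1 * ũ b = ũ b
    rw [map_one, one_mul]
  -- the algebra map from `A` kills `𝔞 ^ k` in `A' ⊗ C`
  have hkC' : ∀ a ∈ 𝔞 ^ k, algebraMap A (A' ⊗[A] C) a = 0 := by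
    intro a ha
    have h1 : algebraMap A C a ∈ (𝔞 ^ k).map (algebraMap A C) := Ideal.mem_map_of_mem _ ha
    rw [hk, Ideal.mem_bot] at h1
    rw [← ι.commutes a, h1, map_zero]
  have hcont : ∀ x ∈ ((𝔞.map (algebraMap A A')).map (algebraMap A' (A' ⊗[A] B)) ⊔
      𝔟.map (Algebra.TensorProduct.includeRight : B →ₐ[A] A' ⊗[A] B).toRingHom) ^ (k + m),
      u' x = 0 := by
    intro x hx
    have h1 : ((𝔞.map (algebraMap A A')).map (algebraMap A' (A' ⊗[A] B))) ^ k ≤
        RingHom.ker u'.toRingHom := by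
      rw [Ideal.map_map, ← Ideal.map_pow, Ideal.map_le_iff_le_comap]
      intro a ha
      rw [Ideal.mem_comap, RingHom.mem_ker]
      show u' (algebraMap A' (A' ⊗[A] B) (algebraMap A A' a)) = 0
      rw [u'.commutes, ← IsScalarTower.algebraMap_apply A A' ((A' ⊗[A] C) ⧸ J')]
      show Ideal.Quotient.mk J' (algebraMap A (A' ⊗[A] C) a) = 0
      rw [hkC' a ha, map_zero]
    have h2 : (𝔟.map (Algebra.TensorProduct.includeRight : B →ₐ[A] A' ⊗[A] B).toRingHom) ^ m ≤
        RingHom.ker u'.toRingHom := by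
      rw [← Ideal.map_pow, Ideal.map_le_iff_le_comap]
      intro b hb
      rw [Ideal.mem_comap, RingHom.mem_ker]
      show u' ((1 : A') ⊗ₜ[A] b) = 0
      rw [hu'1]
      show qm (u b) = 0
      rw [hu b hb, map_zero]
    exact (Ideal.sup_pow_add_le_pow_sup_pow.trans (sup_le h1 h2)) hx
  have hk' : ∃ k' : ℕ, ((𝔞.map (algebraMap A A')) ^ k').map
      (algebraMap A' (A' ⊗[A] C)) = ⊥ := by
    refine ⟨k, ?_⟩
    rw [← Ideal.map_pow, Ideal.map_map, eq_bot_iff, Ideal.map_le_iff_le_comap]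
    intro a ha
    rw [Ideal.mem_comap, Ideal.mem_bot]
    show algebraMap A' (A' ⊗[A] C) (algebraMap A A' a) = 0
    rw [← IsScalarTower.algebraMap_apply A A' (A' ⊗[A] C)]
    exact hkC' a ha
  obtain ⟨v', hv'⟩ := hB' (A' ⊗[A] C) J' ⟨2, hJ'2⟩ hk' u' ⟨k + m, hcont⟩
  have hv'' : ∀ y, Ideal.Quotient.mk J' (v' y) = u' y := fun y => congrArg (fun f => f y) hv'
  -- the retraction
  let ρ : A' ⊗[A] C →ₗ[A] C := (TensorProduct.lid A C).toLinearMap ∘ₗ (LinearMap.rTensor C r)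
  have hρt : ∀ (x : A') (c : C), ρ (x ⊗ₜ[A] c) = r x • c := fun x c => rfl
  have hρι : ∀ c, ρ (ι c) = c := by
    intro c
    rw [hι, hρt, hr, one_smul]
  have hρmul : ∀ (y : A' ⊗[A] C) (c : C), ρ (y * ι c) = ρ y * c := by
    intro y c
    induction y using TensorProduct.induction_on with
    | zero => rw [zero_mul, map_zero, zero_mul]
    | tmul x c₀ =>
      rw [hι, Algebra.TensorProduct.tmul_mul_tmul, mul_one, hρt, hρt, smul_mul_assoc]
    | add y₁ y₂ h₁ h₂ => rw [add_mul, map_add, h₁, h₂, map_add, add_mul]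
  have hρJ : ∀ z ∈ J', ρ z ∈ J := by
    intro z hz
    have hP : ∀ y' : A' ⊗[A] C, ρ (y' * z) ∈ J := by
      refine Submodule.span_induction (p := fun z _ => ∀ y' : A' ⊗[A] C, ρ (y' * z) ∈ J)
        ?_ ?_ ?_ ?_ hz
      · rintro _ ⟨j, hj, rfl⟩ y'
        show ρ (y' * ι j) ∈ J
        rw [hρmul]
        exact J.mul_mem_left _ hj
      · intro y'
        rw [mul_zero, map_zero]
        exact J.zero_mem
      · intro z₁ z₂ _ _ h₁ h₂ y'
        rw [mul_add, map_add]
        exact J.add_mem (h₁ y') (h₂ y')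
      · intro y'' z₁ _ h₁ y'
        rw [smul_eq_mul, ← mul_assoc]
        exact h₁ (y' * y'')
    have := hP 1
    rwa [one_mul] at this
  have hρmul2 : ∀ (x y : A' ⊗[A] C) (c c' : C), x - ι c ∈ J' → y - ι c' ∈ J' →
      ρ (x * y) = ρ x * ρ y := by
    intro x y c c' hx hy
    have hjj' : (x - ι c) * (y - ι c') = 0 := hJ'mul _ hx _ hy
    have hρρ : ρ (x - ι c) * ρ (y - ι c') = 0 := hJmul _ (hρJ _ hx) _ (hρJ _ hy)
    have e1 : x * y = ι (c * c') + (y - ι c') * ι c + (x - ι c) * ι c' +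
        (x - ι c) * (y - ι c') := by
      rw [map_mul]; ring
    have ex : ρ x = c + ρ (x - ι c) := by
      rw [map_sub, hρι]; ring
    have ey : ρ y = c' + ρ (y - ι c') := by
      rw [map_sub, hρι]; ring
    rw [e1, hjj', add_zero, map_add, map_add, hρι, hρmul, hρmul, ex, ey]
    linear_combination (-1 : C) * hρρ
  -- the descended lift
  let g : B →ₐ[A] A' ⊗[A] C :=
    (v'.restrictScalars A).comp (Algebra.TensorProduct.includeRight : B →ₐ[A] A' ⊗[A] B)
  have hg : ∀ b, ∃ c : C, Ideal.Quotient.mk J c = u b ∧ g b - ι c ∈ J' := by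
    intro b
    obtain ⟨c, hc⟩ := Ideal.Quotient.mk_surjective (u b)
    refine ⟨c, hc, ?_⟩
    rw [← Ideal.Quotient.eq]
    show Ideal.Quotient.mk J' (v' ((1 : A') ⊗ₜ[A] b)) = _
    rw [hv'', hu'1]
    show qm (u b) = _
    rw [← hc, hqm]
  have hρ1 : ρ 1 = 1 := by
    rw [Algebra.TensorProduct.one_def, hρt, hr, one_smul]
  let v : B →ₐ[A] C :=
    { toFun := fun b => ρ (g b)
      map_one' := by rw [map_one]; exact hρ1
      map_mul' := fun b b' => by
        rw [map_mul]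
        obtain ⟨c, _, hc⟩ := hg b
        obtain ⟨c', _, hc'⟩ := hg b'
        exact hρmul2 _ _ c c' hc hc'
      map_zero' := by rw [map_zero, map_zero]
      map_add' := fun b b' => by rw [map_add, map_add]
      commutes' := fun a => by
        rw [g.commutes, Algebra.algebraMap_eq_smul_one, map_smul, hρ1,
          ← Algebra.algebraMap_eq_smul_one] }
  refine ⟨v, ?_⟩
  ext b
  obtain ⟨c, hc1, hc2⟩ := hg b
  show Ideal.Quotient.mk J (ρ (g b)) = u b
  rw [← hc1, Ideal.Quotient.eq]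
  have h5 := hρJ _ hc2
  rwa [map_sub, hρι] at h5

end S4554lib


open TensorProduct in
/-- Let A be 𝔞-adic, B a topological A-algebra for the 𝔟-adic topology (a power of 𝔞 maps into 𝔟) which
is a formally projective topological A-module, and A' an A-algebra with the topology deduced from A
(the 𝔞A'-adic topology) which is a faithfully flat, projective A-module of finite type. Then B' = A'
⊗_A B, with the tensor product topology (the adic topology of the ideal generated by the images of 𝔞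
and 𝔟), is a formally smooth A'-algebra if and only if B is a formally smooth A-algebra. -/
theorem result {A B A' : Type u} [CommRing A] [CommRing B]
    [CommRing A'] [Algebra A B] [Algebra A A'] (𝔞 : Ideal A) (𝔟 : Ideal B) (hAB : ∃ k : ℕ, (𝔞 ^ k).map (algebraMap A B) ≤ 𝔟)
    (hproj : ∀ (n : ℕ) (P Q : Type u) [AddCommGroup P] [Module A P] [AddCommGroup Q] [Module A Q],
      (∀ a ∈ 𝔞 ^ n, ∀ y : P, a • y = 0) → (∀ a ∈ 𝔞 ^ n, ∀ y : Q, a • y = 0) →
      ∀ f : P →ₗ[A] Q, Function.Surjective f → ∀ v : B →ₗ[A] Q, (∃ m : ℕ, ∀ x ∈ 𝔟 ^ m, v x = 0) →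
        ∃ w : B →ₗ[A] P, (∃ m : ℕ, ∀ x ∈ 𝔟 ^ m, w x = 0) ∧ f ∘ₗ w = v)
    [Module.FaithfullyFlat A A'] [Module.Projective A A'] [Module.Finite A A'] :
    EGA41.IsFormallySmoothAdic A' (𝔞.map (algebraMap A A')) (A' ⊗[A] B)
        ((𝔞.map (algebraMap A A')).map (algebraMap A' (A' ⊗[A] B)) ⊔
          𝔟.map (Algebra.TensorProduct.includeRight : B →ₐ[A] A' ⊗[A] B).toRingHom) ↔
      EGA41.IsFormallySmoothAdic A 𝔞 B 𝔟 := by
  constructor
  · intro hB'
    obtain ⟨r, hr⟩ := exists_retraction A A'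
    exact descent 𝔞 𝔟 A' r hr hB'
  · intro hB
    exact Groth.Agent.S4535.result 𝔞 𝔟 (𝔞.map (algebraMap A A')) ⟨1, by rw [pow_one]⟩ hB

end Groth.Agent.S4554
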