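import Groth.Statements.S9225
import Groth.Agent.H23.RegularSeq3
import Mathlib.RingTheory.Derivation.Basic
import Mathlib.RingTheory.Localization.Ideal
import Mathlib.Tactic

set_option autoImplicit false
universe u
open CAlg

namespace Groth.Agent.S9225

section Aux
open IsLocalRing

theorem deriv_sq_mem' {R : Type u} [CommRing R] (P : Ideal R) (δ : R → R)
    (hadd : ∀ x y, δ (x + y) = δ x + δ y) (hmul : ∀ x y, δ (x * y) = x * δ y + y * δ x) (y : R)
    (hy : y ∈ P ^ 2) : δ y ∈ P := by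
  rw [pow_two, ← Ideal.smul_eq_mul] at hy
  refine Submodule.smul_induction_on hy ?_ ?_
  · intro a ha b hb
    rw [smul_eq_mul, hmul]
    exact add_mem (Ideal.mul_mem_right _ _ ha) (Ideal.mul_mem_right _ _ hb)
  · intro x y hx hy
    rw [hadd]; exact add_mem hx hy

/-- Local statement: `f ∈ 𝔭`, `D f ∉ 𝔭` ⇒ `R_𝔭 / f` is regular. -/
theorem regular_localization_quotient (R : Type u) [CommRing R] [IsRegularRing R] (f : R)
    (δ : R → R) (hadd : ∀ x y, δ (x + y) = δ x + δ y)
    (hmul : ∀ x y, δ (x * y) = x * δ y + y * δ x)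
    (𝔭 : Ideal R) [𝔭.IsPrime] (hf𝔭 : f ∈ 𝔭) (hDf : δ f ∉ 𝔭) :
    IsRegularLocalRing (Localization.AtPrime 𝔭 ⧸
      (Ideal.span ({f} : Set R)).map (algebraMap R (Localization.AtPrime 𝔭))) := by
  have hf'm : algebraMap R (Localization.AtPrime 𝔭) f ∈ maximalIdeal (Localization.AtPrime 𝔭) := by
    rw [← Localization.AtPrime.map_eq_maximalIdeal]; exact Ideal.mem_map_of_mem _ hf𝔭
  have hf'sq : algebraMap R (Localization.AtPrime 𝔭) f ∉
      maximalIdeal (Localization.AtPrime 𝔭) ^ 2 := by
    intro h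
    rw [← Localization.AtPrime.map_eq_maximalIdeal, ← Ideal.map_pow] at h
    obtain ⟨⟨a, s⟩, has⟩ :=
      (IsLocalization.mem_map_algebraMap_iff 𝔭.primeCompl (Localization.AtPrime 𝔭)).mp h
    rw [← map_mul] at has
    obtain ⟨t, ht⟩ := (IsLocalization.eq_iff_exists 𝔭.primeCompl (Localization.AtPrime 𝔭)).mp has
    have hw : (t : R) * (s : R) ∉ 𝔭 := (t * s).2
    have hmem : (t : R) * (s : R) * f ∈ 𝔭 ^ 2 := by
      have h2 : (t : R) * (s : R) * f = (t : R) * (f * (s : R)) := by ring
      rw [h2, ht]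
      exact Ideal.mul_mem_left _ _ a.2
    have h3 := deriv_sq_mem' 𝔭 δ hadd hmul _ hmem
    rw [hmul] at h3
    have h4 : f * δ ((t : R) * (s : R)) ∈ 𝔭 := Ideal.mul_mem_right _ _ hf𝔭
    have h5 : (t : R) * (s : R) * δ f ∈ 𝔭 := (Ideal.add_mem_iff_left _ h4).mp h3
    rcases (Ideal.IsPrime.mem_or_mem inferInstance h5) with h6 | h6
    · exact hw h6
    · exact hDf h6
  let x : Fin 1 → maximalIdeal (Localization.AtPrime 𝔭) :=
    fun _ => ⟨algebraMap R (Localization.AtPrime 𝔭) f, hf'm⟩
  have hli : LinearIndependent (ResidueField (Localization.AtPrime 𝔭))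
      (fun i => (maximalIdeal (Localization.AtPrime 𝔭)).toCotangent (x i)) := by
    rw [linearIndependent_unique_iff]
    intro h0
    exact hf'sq ((Ideal.toCotangent_eq_zero _ _).mp h0)
  have hreg := ((Groth.Agent.H23.regular_iff_quotient (Localization.AtPrime 𝔭) 1 x).mp
    ⟨inferInstance, hli⟩).2
  have hspan : Ideal.span (Set.range fun i => (x i : Localization.AtPrime 𝔭)) =
      (Ideal.span ({f} : Set R)).map (algebraMap R (Localization.AtPrime 𝔭)) := by
    rw [Ideal.map_span, Set.image_singleton]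
    congr 1
    exact Set.range_const
  rw [← hspan]
  exact hreg

/-- General form with an additive Leibniz map. -/
theorem main_of_leibniz (R : Type u) [CommRing R] [IsRegularRing R] (f : R)
    (δ : R → R) (hadd : ∀ x y, δ (x + y) = δ x + δ y)
    (hmul : ∀ x y, δ (x * y) = x * δ y + y * δ x)
    (hD : IsUnit (Ideal.Quotient.mk (Ideal.span {f}) (δ f))) :
    IsRegularRing (R ⧸ Ideal.span ({f} : Set R)) := by
  rw [isRegularRing_iff]
  intro 𝔮 h𝔮
  haveI : (Ideal.comap (Ideal.Quotient.mk (Ideal.span ({f} : Set R))) 𝔮).IsPrime :=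
    Ideal.comap_isPrime _ _
  have hf𝔭 : f ∈ Ideal.comap (Ideal.Quotient.mk (Ideal.span ({f} : Set R))) 𝔮 := by
    rw [Ideal.mem_comap, Ideal.Quotient.eq_zero_iff_mem.mpr (Ideal.mem_span_singleton_self f)]
    exact zero_mem _
  have hDf : δ f ∉ Ideal.comap (Ideal.Quotient.mk (Ideal.span ({f} : Set R))) 𝔮 := by
    intro h
    obtain ⟨u, hu⟩ := hD.exists_right_inv
    have h1 : (1 : R ⧸ Ideal.span ({f} : Set R)) ∈ 𝔮 := by
      rw [← hu]; exact Ideal.mul_mem_right _ _ (Ideal.mem_comap.mp h)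
    exact h𝔮.ne_top ((Ideal.eq_top_iff_one _).mpr h1)
  haveI hreg := regular_localization_quotient R f δ hadd hmul
    (Ideal.comap (Ideal.Quotient.mk (Ideal.span ({f} : Set R))) 𝔮) hf𝔭 hDf
  have hloc : IsLocalization (Algebra.algebraMapSubmonoid (R ⧸ Ideal.span ({f} : Set R))
      (Ideal.comap (Ideal.Quotient.mk (Ideal.span ({f} : Set R))) 𝔮).primeCompl)
      (Localization.AtPrime (Ideal.comap (Ideal.Quotient.mk (Ideal.span ({f} : Set R))) 𝔮) ⧸
        (Ideal.span ({f} : Set R)).map (algebraMap R (Localization.AtPrime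
          (Ideal.comap (Ideal.Quotient.mk (Ideal.span ({f} : Set R))) 𝔮)))) := inferInstance
  have hsub : Algebra.algebraMapSubmonoid (R ⧸ Ideal.span ({f} : Set R))
      (Ideal.comap (Ideal.Quotient.mk (Ideal.span ({f} : Set R))) 𝔮).primeCompl =
      𝔮.primeCompl := by
    ext y; constructor
    · rintro ⟨a, ha, rfl⟩
      exact fun h => ha (Ideal.mem_comap.mpr h)
    · intro hy
      obtain ⟨a, rfl⟩ := Ideal.Quotient.mk_surjective y
      exact ⟨a, fun h => hy (Ideal.mem_comap.mp h), rfl⟩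
  rw [hsub] at hloc
  haveI := hloc
  exact IsRegularLocalRing.of_ringEquiv
    (IsLocalization.algEquiv 𝔮.primeCompl
      (Localization.AtPrime (Ideal.comap (Ideal.Quotient.mk (Ideal.span ({f} : Set R))) 𝔮) ⧸
        (Ideal.span ({f} : Set R)).map (algebraMap R (Localization.AtPrime
          (Ideal.comap (Ideal.Quotient.mk (Ideal.span ({f} : Set R))) 𝔮))))
      (Localization.AtPrime 𝔮)).toRingEquiv

end Aux

/-- Let R be a regular ring, f an element of R and D a derivation of R such that the image of D(f) in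
R/(f) is a unit. Then R/(f) is a regular ring. -/
theorem result (R : Type u) [CommRing R] [IsRegularRing R]
    (f : R) (D : Derivation ℤ R R)
    (hD : IsUnit (Ideal.Quotient.mk (Ideal.span {f}) (D f))) :
    IsRegularRing (R ⧸ Ideal.span ({f} : Set R)) := by
  refine main_of_leibniz R f D (fun x y => map_add D x y) (fun x y => ?_) hD
  rw [Derivation.leibniz, smul_eq_mul, smul_eq_mul]

end Groth.Agent.S9225
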