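import Groth.Statements.S9227
import Groth.Agent.S9225
import Mathlib.RingTheory.Derivation.MapCoeffs
import Mathlib.RingTheory.RegularLocalRing.Polynomial
import Mathlib.Tactic

set_option autoImplicit false
universe u
open CAlg

namespace Groth.Agent.S9227


/-- Let R be a regular ring, f an element of R and D a derivation of R with D(f) a unit of R. Then for
every polynomial p with integer coefficients the ring R[z]/(p(z) - f) is regular; in particular
R[z]/(z^n - f) is regular for every n ≥ 1. -/
theorem result (R : Type u) [CommRing R]
    [IsRegularRing R] (f : R) (D : Derivation ℤ R R) (hD : IsUnit (D f)) (p : Polynomial ℤ) :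
    IsRegularRing (Polynomial R ⧸
      Ideal.span ({Polynomial.map (Int.castRingHom R) p - Polynomial.C f} : Set (Polynomial R))) := by
  letI : Differential R := ⟨D⟩
  have h1 : ∀ n : ℤ, D (Int.castRingHom R n) = 0 := fun n => D.map_algebraMap n
  have hD' : (Differential.mapCoeffs (A := R))
      (Polynomial.map (Int.castRingHom R) p - Polynomial.C f) = - Polynomial.C (D f) := by
    ext i
    rw [Differential.coeff_mapCoeffs, Polynomial.coeff_sub, Polynomial.coeff_map,
      Polynomial.coeff_neg, Polynomial.coeff_C, Polynomial.coeff_C]
    show D (Int.castRingHom R (p.coeff i) - if i = 0 then f else 0) =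
      -(if i = 0 then D f else 0)
    split_ifs with hi
    · rw [map_sub, h1, zero_sub]
    · rw [sub_zero, h1, neg_zero]
  refine Groth.Agent.S9225.main_of_leibniz (Polynomial R) _
    (fun q => (Differential.mapCoeffs (A := R)) q)
    (fun x y => map_add _ x y) (fun x y => ?_) ?_
  · show (Differential.mapCoeffs (A := R)) (x * y) = _
    rw [Derivation.leibniz, smul_eq_mul, smul_eq_mul]
  · show IsUnit (Ideal.Quotient.mk _ ((Differential.mapCoeffs (A := R))
      (Polynomial.map (Int.castRingHom R) p - Polynomial.C f)))
    rw [hD']
    exact ((hD.map Polynomial.C).neg).map _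

end Groth.Agent.S9227
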