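import Groth.Statements.S4550
import Mathlib

set_option autoImplicit false
universe u
open EGA41

namespace Groth.Agent.S4550

section helpers
variable {k : Type u} [Field k] {r : ℕ}

/-- power series with coefficients in `G` form a subring -/
private def SG (G : Subfield k) : Subring (MvPowerSeries (Fin r) k) where
  carrier := {f | ∀ n, MvPowerSeries.coeff n f ∈ G}
  mul_mem' := by
    intro f g hf hg n
    classical
    rw [MvPowerSeries.coeff_mul]
    exact sum_mem fun p _ => G.mul_mem (hf _) (hg _)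
  one_mem' := by
    intro n
    classical
    rw [MvPowerSeries.coeff_one]
    split_ifs
    · exact G.one_mem
    · exact G.zero_mem
  add_mem' := by
    intro f g hf hg n
    rw [map_add]
    exact G.add_mem (hf n) (hg n)
  zero_mem' := by
    intro n
    rw [map_zero]
    exact G.zero_mem
  neg_mem' := by
    intro f hf n
    rw [map_neg]
    exact G.neg_mem (hf n)

private lemma coeff_mem_of_mul (G : Subfield k) (a u v : MvPowerSeries (Fin r) k)
    (hu : ∀ n, MvPowerSeries.coeff n u ∈ G) (hv : ∀ n, MvPowerSeries.coeff n v ∈ G) (hv0 : v ≠ 0)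
    (h : a * v = u) : ∀ n, MvPowerSeries.coeff n a ∈ G := by
  classical
  intro d
  by_contra hd
  have hnot : MvPowerSeries.coeff d a ∉ Submodule.span ↥G {(1 : k)} := by
    intro hmem
    rw [Submodule.mem_span_singleton] at hmem
    obtain ⟨g, hg⟩ := hmem
    apply hd
    rw [← hg]
    have h1 : g • (1 : k) = (g : k) := by rw [Algebra.smul_def, mul_one]; rfl
    rw [h1]
    exact g.2
  obtain ⟨lam, hlam, hker⟩ := Submodule.exists_le_ker_of_notMem hnot
  obtain ⟨mu, hmu⟩ : ∃ mu : k →+ k, ∀ x, mu x = ((lam x : ↥G) : k) :=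
    ⟨(G.subtype : ↥G →+* k).toAddMonoidHom.comp lam.toAddMonoidHom, fun x => rfl⟩
  have hmuG : ∀ x : k, x ∈ G → mu x = 0 := by
    intro x hx
    have hx' : x ∈ Submodule.span ↥G {(1 : k)} := by
      rw [Submodule.mem_span_singleton]
      exact ⟨⟨x, hx⟩, by rw [Algebra.smul_def, mul_one]; rfl⟩
    have h1 : lam x = 0 := LinearMap.mem_ker.mp (hker hx')
    rw [hmu, h1]; rfl
  have hmumul : ∀ (x y : k), y ∈ G → mu (x * y) = mu x * y := by
    intro x y hy
    have h1 : x * y = (⟨y, hy⟩ : ↥G) • x := by rw [Algebra.smul_def, mul_comm]; rfl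
    rw [hmu, hmu, h1, map_smul, smul_eq_mul, mul_comm]
    rfl
  obtain ⟨La, hLa⟩ : ∃ La : MvPowerSeries (Fin r) k,
      ∀ n, MvPowerSeries.coeff n La = mu (MvPowerSeries.coeff n a) :=
    ⟨fun n => mu (MvPowerSeries.coeff n a), fun n => rfl⟩
  have hzero : La * v = 0 := by
    ext n
    rw [MvPowerSeries.coeff_mul, map_zero]
    have h1 : ∀ p ∈ Finset.HasAntidiagonal.antidiagonal n,
        MvPowerSeries.coeff p.1 La * MvPowerSeries.coeff p.2 v =
          mu (MvPowerSeries.coeff p.1 a * MvPowerSeries.coeff p.2 v) := by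
      intro p _
      rw [hLa, hmumul _ _ (hv p.2)]
    rw [Finset.sum_congr rfl h1, ← map_sum, ← MvPowerSeries.coeff_mul, h, hmuG _ (hu n)]
  have hLa0 : La = 0 := (mul_eq_zero.mp hzero).resolve_right hv0
  apply hlam
  have h2 : MvPowerSeries.coeff d La = 0 := by rw [hLa0, map_zero]
  rw [hLa, hmu] at h2
  exact Subtype.ext h2

private lemma mem_of_mem_closure (G : Subfield k) (a : MvPowerSeries (Fin r) k)
    (h : algebraMap (MvPowerSeries (Fin r) k) (FractionRing (MvPowerSeries (Fin r) k)) a ∈ Subfield.closure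
      (algebraMap (MvPowerSeries (Fin r) k) (FractionRing (MvPowerSeries (Fin r) k)) '' {f | ∀ n, MvPowerSeries.coeff n f ∈ G})) :
    ∀ n, MvPowerSeries.coeff n a ∈ G := by
  rw [Subfield.mem_closure_iff] at h
  obtain ⟨y, hy, z, hz, hyz⟩ := h
  have hS : Subring.closure (algebraMap (MvPowerSeries (Fin r) k) (FractionRing (MvPowerSeries (Fin r) k)) '' {f | ∀ n, MvPowerSeries.coeff n f ∈ G}) =
      (SG G).map (algebraMap (MvPowerSeries (Fin r) k) (FractionRing (MvPowerSeries (Fin r) k))) := by
    have h1 : (algebraMap (MvPowerSeries (Fin r) k) (FractionRing (MvPowerSeries (Fin r) k)) '' {f | ∀ n, MvPowerSeries.coeff n f ∈ G}) =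
        (((SG G).map (algebraMap (MvPowerSeries (Fin r) k) (FractionRing (MvPowerSeries (Fin r) k))) : Subring (FractionRing (MvPowerSeries (Fin r) k))) : Set (FractionRing (MvPowerSeries (Fin r) k))) := by
      rw [Subring.coe_map]; rfl
    rw [h1, Subring.closure_eq]
  rw [hS, Subring.mem_map] at hy hz
  obtain ⟨u, hu, rfl⟩ := hy
  obtain ⟨v, hv, rfl⟩ := hz
  by_cases hv0 : v = 0
  · rw [hv0, map_zero, div_zero] at hyz
    have h1 : a = 0 := IsFractionRing.injective (MvPowerSeries (Fin r) k) (FractionRing (MvPowerSeries (Fin r) k)) (by rw [← hyz, map_zero])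
    intro n; rw [h1, map_zero]; exact G.zero_mem
  · have hAv : algebraMap (MvPowerSeries (Fin r) k) (FractionRing (MvPowerSeries (Fin r) k)) v ≠ 0 := by
      intro h0
      exact hv0 (IsFractionRing.injective (MvPowerSeries (Fin r) k) (FractionRing (MvPowerSeries (Fin r) k)) (by rw [h0, map_zero]))
    have h1 : a * v = u := by
      apply IsFractionRing.injective (MvPowerSeries (Fin r) k) (FractionRing (MvPowerSeries (Fin r) k))
      rw [map_mul, ← hyz, div_mul_cancel₀ _ hAv]
    exact coeff_mem_of_mul G a u v hu hv hv0 h1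

end helpers

/-- Let k be a field, (k_α) a decreasing filtered family of subfields of k with intersection k₀, and
suppose there is a power q of the characteristic exponent of k with k^q ⊆ k₀. Then, inside k((T_1,
…, T_r)), one has ⋂_α k_α((T_1, …, T_r)) = k₀((T_1, …, T_r)); here F((T)) is the subfield of the
fraction field of k[[T]] generated by the power series with all coefficients in F. -/
theorem result {k : Type u} [Field k] {ι : Type u} [Nonempty ι] (F : ι → Subfield k)
    (hdir : ∀ a b : ι, ∃ c, F c ≤ F a ⊓ F b) (e : ℕ) (hq : ∀ x : k, x ^ ringExpChar k ^ e ∈ ⨅ i, F i) (r : ℕ) :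
    (⨅ i, Subfield.closure (algebraMap (MvPowerSeries (Fin r) k) (FractionRing (MvPowerSeries (Fin r) k)) ''
        {f | ∀ n, MvPowerSeries.coeff n f ∈ F i})) =
      Subfield.closure (algebraMap (MvPowerSeries (Fin r) k) (FractionRing (MvPowerSeries (Fin r) k)) ''
        {f | ∀ n, MvPowerSeries.coeff n f ∈ ⨅ i, F i}) := by
  classical
  apply le_antisymm
  · intro x hx
    rw [Subfield.mem_iInf] at hx
    obtain ⟨a', b', hb', hxab⟩ := IsFractionRing.div_surjective (A := MvPowerSeries (Fin r) k) x
    obtain ⟨q, hqdef⟩ : ∃ q, q = ringExpChar k ^ e := ⟨_, rfl⟩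
    have hqpos : 1 ≤ q := by
      rw [hqdef]; exact Nat.one_le_pow _ _ (expChar_pos k (ringExpChar k))
    have hb0 : b' ≠ 0 := nonZeroDivisors.ne_zero hb'
    have hAinj := IsFractionRing.injective (MvPowerSeries (Fin r) k) (FractionRing (MvPowerSeries (Fin r) k))
    have hc : ∀ n, MvPowerSeries.coeff n (b' ^ q) ∈ ⨅ i, F i := by
      intro n
      rw [hqdef, ← MvPowerSeries.map_iterateFrobenius_expand (ringExpChar k)
        (expChar_ne_zero k (ringExpChar k)) b' e, MvPowerSeries.coeff_map, iterateFrobenius_def]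
      exact hq _
    obtain ⟨a, ha⟩ : ∃ a, a = a' * b' ^ (q - 1) := ⟨_, rfl⟩
    obtain ⟨c, hcdef⟩ : ∃ c, c = b' ^ q := ⟨_, rfl⟩
    rw [← hcdef] at hc
    have hc0 : c ≠ 0 := by rw [hcdef]; exact pow_ne_zero _ hb0
    have hAb : algebraMap (MvPowerSeries (Fin r) k) (FractionRing (MvPowerSeries (Fin r) k)) b' ≠ 0 := fun h0 => hb0 (hAinj (by rw [h0, map_zero]))
    have hAc : algebraMap (MvPowerSeries (Fin r) k) (FractionRing (MvPowerSeries (Fin r) k)) c ≠ 0 := fun h0 => hc0 (hAinj (by rw [h0, map_zero]))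
    have hxac : x * algebraMap (MvPowerSeries (Fin r) k) (FractionRing (MvPowerSeries (Fin r) k)) c = algebraMap (MvPowerSeries (Fin r) k) (FractionRing (MvPowerSeries (Fin r) k)) a := by
      rw [← hxab, hcdef, ha, map_mul, map_pow, map_pow]
      have h1 : (algebraMap (MvPowerSeries (Fin r) k) (FractionRing (MvPowerSeries (Fin r) k)) b') ^ q =
          (algebraMap (MvPowerSeries (Fin r) k) (FractionRing (MvPowerSeries (Fin r) k)) b') ^ (q - 1) * algebraMap (MvPowerSeries (Fin r) k) (FractionRing (MvPowerSeries (Fin r) k)) b' := by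
        rw [← pow_succ]; congr 1; omega
      rw [h1]
      field_simp
    have hai : ∀ i n, MvPowerSeries.coeff n a ∈ F i := by
      intro i
      apply mem_of_mem_closure (F i) a
      rw [← hxac]
      exact Subfield.mul_mem _ (hx i)
        (Subfield.subset_closure ⟨c, fun n => (Subfield.mem_iInf.mp (hc n)) i, rfl⟩)
    have hx2 : x = algebraMap (MvPowerSeries (Fin r) k) (FractionRing (MvPowerSeries (Fin r) k)) a / algebraMap (MvPowerSeries (Fin r) k) (FractionRing (MvPowerSeries (Fin r) k)) c :=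
      eq_div_of_mul_eq hAc hxac
    rw [hx2]
    exact Subfield.div_mem _
      (Subfield.subset_closure ⟨a, fun n => Subfield.mem_iInf.mpr fun i => hai i n, rfl⟩)
      (Subfield.subset_closure ⟨c, hc, rfl⟩)
  · refine le_iInf fun i => Subfield.closure_mono (Set.image_mono fun f hf n => ?_)
    exact (Subfield.mem_iInf.mp (hf n)) i

end Groth.Agent.S4550
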