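import Groth.Statements.S2485
import Mathlib.Algebra.Algebra.Epi

set_option autoImplicit false
universe u
open EGA41

namespace Groth.Agent.S2485

/-- Let p be a prime and A → B a ring homomorphism making B an A-algebra of finite type, with B of
characteristic p, such that for some s ≥ 0 every p^s-th power of an element of B lies in the image
of A. If Ω_{B/A} = 0 then A → B is surjective. -/
theorem result (p : ℕ) [Fact p.Prime] {A B : Type u} [CommRing A] [CommRing B] [Algebra A B] [CharP B p]
    [Algebra.FiniteType A B] (s : ℕ) (hpow : ∀ b : B, b ^ p ^ s ∈ Set.range (algebraMap A B)) [Subsingleton (Ω[B⁄A])] :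
    Function.Surjective (algebraMap A B) := by
  classical
  open scoped TensorProduct in
  -- integrality and finiteness
  have hint : Algebra.IsIntegral A B := by
    refine ⟨fun b => ?_⟩
    obtain ⟨a, ha⟩ := hpow b
    refine ⟨Polynomial.X ^ (p ^ s) - Polynomial.C a,
      Polynomial.monic_X_pow_sub_C a (pow_ne_zero _ (Fact.out : p.Prime).ne_zero), ?_⟩
    simp [ha]
  have hfin : Module.Finite A B := Algebra.IsIntegral.finite
  -- characteristic of the tensor square
  have hinj : Function.Injective
      (Algebra.TensorProduct.includeLeft : B →ₐ[A] TensorProduct A B B).toRingHom := by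
    intro x y h
    have := congrArg (Algebra.TensorProduct.lmul' A (S := B)) h
    simpa using this
  have : CharP (TensorProduct A B B) p := charP_of_injective_ringHom hinj p
  -- every generator of the diagonal ideal is nilpotent
  have hnil : ∀ x : B, IsNilpotent ((1 : B) ⊗ₜ[A] x - x ⊗ₜ[A] (1 : B)) := by
    intro x
    obtain ⟨a, ha⟩ := hpow x
    refine ⟨p ^ s, ?_⟩
    rw [sub_pow_char_pow, Algebra.TensorProduct.tmul_pow, Algebra.TensorProduct.tmul_pow, one_pow,
      ← ha, Algebra.algebraMap_eq_smul_one, TensorProduct.smul_tmul, sub_self]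
  have hle : KaehlerDifferential.ideal A B ≤ nilradical (TensorProduct A B B) := by
    rw [← KaehlerDifferential.span_range_eq_ideal, Ideal.span_le]
    rintro _ ⟨x, rfl⟩
    exact (mem_nilradical).mpr (hnil x)
  obtain ⟨e, he, hsp⟩ : ∃ e, IsIdempotentElem e ∧
      KaehlerDifferential.ideal A B = Ideal.span {e} :=
    (Ideal.isIdempotentElem_iff_of_fg _ (KaehlerDifferential.ideal_fg A B)).mp <|
      (Ideal.cotangent_subsingleton_iff _).mp <| inferInstanceAs <| Subsingleton Ω[B⁄A]
  have he0 : e = 0 := by
    have hmem : e ∈ KaehlerDifferential.ideal A B := by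
      rw [hsp]; exact Ideal.mem_span_singleton_self e
    obtain ⟨n, hn⟩ := (mem_nilradical).mp (hle hmem)
    rcases Nat.eq_zero_or_pos n with rfl | hpos
    · rw [pow_zero] at hn
      have : (e : TensorProduct A B B) = e * 1 := (mul_one e).symm
      rw [this, hn, mul_zero]
    · rw [he.pow_eq hpos.ne'] at hn  -- e^n = e
      exact hn
  have hbot : KaehlerDifferential.ideal A B = ⊥ := by
    rw [hsp, he0]; simp
  have hepi : Algebra.IsEpi A B := by
    rw [Algebra.isEpi_iff_forall_one_tmul_eq]
    intro b
    have : (1 : B) ⊗ₜ[A] b - b ⊗ₜ[A] (1 : B) ∈ KaehlerDifferential.ideal A B :=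
      KaehlerDifferential.one_smul_sub_smul_one_mem_ideal A b
    rw [hbot, Ideal.mem_bot] at this
    exact sub_eq_zero.mp this
  exact Algebra.isEpi_iff_surjective_algebraMap_of_finite.mp hepi

end Groth.Agent.S2485
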