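import Groth.Statements.S2486
import Groth.Agent.H44.PBasis
import Groth.Agent.S4516
import Groth.Agent.S2485
import Mathlib.RingTheory.Kaehler.Basic

set_option autoImplicit false
universe u
open EGA41

namespace Groth.Agent.S2486

/-- Let p be a prime, B an A-algebra of characteristic p and (x_α) a family of elements of B. Then (a) B
is generated as an A[B^p]-algebra by the x_α if and only if (b) (x_α) is a system of p-generators of
B over A; these imply (c) Ω_{B/A} is generated by the d x_α; and if B is an A[B^p]-algebra of finite
type, (c) implies (a). -/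
theorem result (p : ℕ) [Fact p.Prime] {A B : Type u} [CommRing A] [CommRing B] [Algebra A B] [CharP B p]
    {ι : Type u} (x : ι → B) :
    (Algebra.adjoin (EGA41.pPowerSubalgebra p A B) (Set.range x) = ⊤ ↔ EGA41.IsPGenerating p A x) ∧
    (EGA41.IsPGenerating p A x → Submodule.span B (Set.range fun i => KaehlerDifferential.D A B (x i)) = ⊤) ∧
    (Algebra.FiniteType (EGA41.pPowerSubalgebra p A B) B →
      Submodule.span B (Set.range fun i => KaehlerDifferential.D A B (x i)) = ⊤ → EGA41.IsPGenerating p A x) := by
  classical
  have hp : p.Prime := Fact.out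
  let a : ι → EGA41.pPowerSubalgebra p A B :=
    fun i => ⟨x i ^ p, Groth.Agent.H44.PBasis.pow_mem_pPowerSubalgebra p (x i)⟩
  have hab : Algebra.adjoin (EGA41.pPowerSubalgebra p A B) (Set.range x) = ⊤ ↔
      EGA41.IsPGenerating p A x := by
    rw [← Algebra.toSubmodule_eq_top,
      Groth.Agent.H44.PBasis.adjoin_toSubmodule_eq_span hp.pos x a (fun i => rfl)]
    exact Iff.rfl
  refine ⟨hab, ?_, ?_⟩
  · intro hgen
    have hadj := hab.mpr hgen
    have hmem : ∀ b : B, KaehlerDifferential.D A B b ∈
        Submodule.span B (Set.range fun i => KaehlerDifferential.D A B (x i)) := by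
      intro b
      have hb : b ∈ Algebra.adjoin (EGA41.pPowerSubalgebra p A B) (Set.range x) := by
        rw [hadj]
        exact Algebra.mem_top
      induction hb using Algebra.adjoin_induction with
      | mem y hy =>
        obtain ⟨i, rfl⟩ := hy
        exact Submodule.subset_span ⟨i, rfl⟩
      | algebraMap c =>
        have : KaehlerDifferential.D A B (algebraMap (EGA41.pPowerSubalgebra p A B) B c) = 0 :=
          Groth.Agent.S4516.D_eq_zero p _ c.2
        rw [this]
        exact zero_mem _
      | add y z _ _ hy hz =>
        rw [map_add]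
        exact add_mem hy hz
      | mul y z _ _ hy hz =>
        rw [Derivation.leibniz]
        exact add_mem (Submodule.smul_mem _ _ hz) (Submodule.smul_mem _ _ hy)
    rw [eq_top_iff, ← KaehlerDifferential.span_range_derivation A B]
    refine Submodule.span_le.mpr ?_
    rintro _ ⟨b, rfl⟩
    exact hmem b
  · intro hft hspan
    apply hab.mp
    haveI := hft
    -- step 1: the `d x_i` span `Ω[B⁄C]`
    have hspanC : Submodule.span B (Set.range fun i =>
        KaehlerDifferential.D (EGA41.pPowerSubalgebra p A B) B (x i)) = ⊤ := by
      have hs := KaehlerDifferential.map_surjective A (EGA41.pPowerSubalgebra p A B) B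
      have hset : (fun i => KaehlerDifferential.D (EGA41.pPowerSubalgebra p A B) B (x i)) =
          (KaehlerDifferential.map A (EGA41.pPowerSubalgebra p A B) B B) ∘
            (fun i => KaehlerDifferential.D A B (x i)) := by
        funext i
        simp [KaehlerDifferential.map_D]
      rw [hset, Set.range_comp, ← Submodule.map_span, hspan, Submodule.map_top,
        LinearMap.range_eq_top]
      exact hs
    -- step 2
    set B' := Algebra.adjoin (EGA41.pPowerSubalgebra p A B) (Set.range x) with hB'
    have hxB' : ∀ i, x i ∈ B' := fun i => Algebra.subset_adjoin ⟨i, rfl⟩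
    have hD0 : ∀ i, KaehlerDifferential.D B' B (x i) = 0 := fun i => by
      have : x i = algebraMap B' B ⟨x i, hxB' i⟩ := rfl
      rw [this, Derivation.map_algebraMap]
    haveI hsub : Subsingleton (Ω[B⁄B']) := by
      have hs := KaehlerDifferential.map_surjective (EGA41.pPowerSubalgebra p A B) B' B
      have hset : (fun i => KaehlerDifferential.D B' B (x i)) =
          (KaehlerDifferential.map (EGA41.pPowerSubalgebra p A B) B' B B) ∘
            (fun i => KaehlerDifferential.D (EGA41.pPowerSubalgebra p A B) B (x i)) := by
        funext i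
        simp [KaehlerDifferential.map_D]
      have htop : Submodule.span B (Set.range fun i => KaehlerDifferential.D B' B (x i)) = ⊤ := by
        rw [hset, Set.range_comp, ← Submodule.map_span, hspanC, Submodule.map_top,
          LinearMap.range_eq_top]
        exact hs
      have hbot : Submodule.span B (Set.range fun i => KaehlerDifferential.D B' B (x i)) = ⊥ := by
        rw [Submodule.span_eq_bot]
        rintro _ ⟨i, rfl⟩
        exact hD0 i
      have hm : ∀ m : Ω[B⁄B'], m = 0 := fun m => by
        have : m ∈ (⊤ : Submodule B (Ω[B⁄B'])) := Submodule.mem_top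
        rw [← htop, hbot] at this
        exact (Submodule.mem_bot B).mp this
      exact ⟨fun m n => by rw [hm m, hm n]⟩
    -- step 3
    haveI : Algebra.FiniteType B' B :=
      Algebra.FiniteType.of_restrictScalars_finiteType (EGA41.pPowerSubalgebra p A B) B' B
    have hpow' : ∀ b : B, b ^ p ^ 1 ∈ Set.range (algebraMap B' B) := by
      intro b
      rw [pow_one]
      have hc : b ^ p ∈ EGA41.pPowerSubalgebra p A B :=
        Groth.Agent.H44.PBasis.pow_mem_pPowerSubalgebra p b
      exact ⟨⟨b ^ p, Subalgebra.algebraMap_mem B'
        (⟨b ^ p, hc⟩ : EGA41.pPowerSubalgebra p A B)⟩, rfl⟩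
    have hsurj := Groth.Agent.S2485.result p (A := B') (B := B) 1 hpow'
    rw [Algebra.eq_top_iff]
    intro b
    obtain ⟨b', rfl⟩ := hsurj b
    exact b'.2

end Groth.Agent.S2486
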