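import Groth.Statements.S4521
import Groth.Agent.H44.PBasisField

set_option autoImplicit false
universe u
open EGA41

namespace Groth.Agent.S4521

/-- Let k ⊆ K be fields of characteristic p > 0 and (x_α) a family of elements of K. Then (x_α) is
p-independent over k if and only if, for every α, x_α does not lie in the subfield generated over k
by K^p and the x_β with β ≠ α. -/
theorem result (p : ℕ) [Fact p.Prime] {k K : Type u} [Field k] [Field K]
    [Algebra k K] [CharP K p] {ι : Type u} (x : ι → K) :
    EGA41.IsPIndependent p k x ↔
      ∀ a : ι, x a ∉ IntermediateField.adjoin k ((Set.range fun y : K => y ^ p) ∪ x '' {b | b ≠ a}) := by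
  classical
  have hp : p.Prime := Fact.out
  constructor
  · intro hx a ha
    rw [Groth.Agent.H44.PBasis.mem_intermediateField_adjoin_iff] at ha
    have hli := Groth.Agent.H44.PBasis.linearIndependent_D_of_isPIndependent p x hx
    have h1 := Groth.Agent.H44.PBasis.D_mem_span_of_mem_adjoin p x {b | b ≠ a} ha
    exact hli.notMem_span_image (s := {b | b ≠ a}) (fun h => h rfl) h1
  · intro h
    obtain ⟨T, -, -, hTind, hTgen⟩ := Groth.Agent.H44.PBasis.exists_maximal_redSet p x
      (Groth.Agent.H44.PBasis.hC_pPower (k := k) p) (Set.subset_univ (∅ : Set ι))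
      (Groth.Agent.H44.PBasis.linearIndepOn_redSet_empty p x hp.pos
        (Groth.Agent.H44.PBasis.algebraMap_pPower_injective p))
    have hT : T = Set.univ := by
      rw [Set.eq_univ_iff_forall]
      intro a
      by_contra haT
      apply h a
      rw [Groth.Agent.H44.PBasis.mem_intermediateField_adjoin_iff]
      refine Algebra.adjoin_mono (Set.image_mono fun b hb => ?_) (hTgen a (Set.mem_univ _))
      intro hba
      exact haT (hba ▸ hb)
    rw [hT] at hTind
    exact (Groth.Agent.H44.PBasis.linearIndependent_redMono_comp_iff p
      (C := EGA41.pPowerSubalgebra p k K) x hp.pos (id : ι → ι) Function.injective_id).mpr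
      (by rwa [Set.range_id])

end Groth.Agent.S4521
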