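import Groth.Statements.S2475
import Groth.Agent.H44.PBasisDescent
import Groth.Agent.S2466
open Groth.Agent.H44.PBasis

set_option autoImplicit false
universe u
open EGA41

namespace Groth.Agent.S2475

/-- Let K be a field of characteristic p > 0, k₀ ⊆ K a subfield and (k_α) a decreasing filtered family
of subfields of K containing k₀. Then ⋂_α k_α(K^p) = k₀(K^p) if and only if the canonical map
Ω_{K/k₀} → lim_α Ω_{K/k_α} is injective (an element of Ω_{K/k₀} whose image in every Ω_{K/k_α}
vanishes is zero). (Conditions (b), (b') of the source, on admissible subfields, are not stated.) -/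
theorem result (p : ℕ) [Fact p.Prime] {k₀ K : Type u} [Field k₀] [Field K] [Algebra k₀ K] [CharP K p]
    {ι : Type u} [Preorder ι] [IsDirected ι (· ≤ ·)] [Nonempty ι] (k : ι → IntermediateField k₀ K) (hk : Antitone k) :
    (⨅ i, k i ⊔ IntermediateField.adjoin k₀ (Set.range fun y : K => y ^ p)) = IntermediateField.adjoin k₀ (Set.range fun y : K => y ^ p) ↔
      ∀ ω : Ω[K⁄k₀], (∀ i, KaehlerDifferential.map k₀ (k i) K K ω = 0) → ω = 0 := by
  classical
  have hp : p.Prime := Fact.out
  have hGpow : ∀ i (b : K), b ^ p ∈
      k i ⊔ IntermediateField.adjoin k₀ (Set.range fun y : K => y ^ p) := fun i b =>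
    (le_sup_right : IntermediateField.adjoin k₀ (Set.range fun y : K => y ^ p) ≤
      k i ⊔ IntermediateField.adjoin k₀ (Set.range fun y : K => y ^ p))
      (IntermediateField.subset_adjoin k₀ _ ⟨b, rfl⟩)
  have hG : Antitone fun i => k i ⊔ IntermediateField.adjoin k₀ (Set.range fun y : K => y ^ p) :=
    fun i j hij => sup_le_sup_right (hk hij) _
  have hmem_iInf : ∀ b : K,
      b ∈ (⨅ i, k i ⊔ IntermediateField.adjoin k₀ (Set.range fun y : K => y ^ p)) ↔
        ∀ i, b ∈ k i ⊔ IntermediateField.adjoin k₀ (Set.range fun y : K => y ^ p) := fun b => by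
    rw [← SetLike.mem_coe, IntermediateField.coe_iInf, Set.mem_iInter]
    rfl
  have hPG : ∀ i (b : K), b ∈ EGA41.pPowerSubalgebra p (k i) K →
      b ∈ k i ⊔ IntermediateField.adjoin k₀ (Set.range fun y : K => y ^ p) := by
    intro i b hb
    unfold EGA41.pPowerSubalgebra at hb
    induction hb using Algebra.adjoin_induction with
    | mem y hy =>
      obtain ⟨z, rfl⟩ := hy
      exact hGpow i z
    | algebraMap r =>
      exact (le_sup_left : k i ≤
        k i ⊔ IntermediateField.adjoin k₀ (Set.range fun y : K => y ^ p)) r.2
    | add y z _ _ hy hz => exact add_mem hy hz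
    | mul y z _ _ hy hz => exact mul_mem hy hz
  constructor
  · intro H ω hω
    obtain ⟨T, -, -, hTind, hTgen⟩ := exists_maximal_redSet p (id : K → K)
      (hC_pPower (k := k₀) p) (Set.subset_univ (∅ : Set K))
      (linearIndepOn_redSet_empty p id hp.pos (algebraMap_pPower_injective p))
    have hbasis : EGA41.IsPBasis p k₀ (fun t : T => id (t : K)) :=
      isPBasis_subtype p id T hTind (fun b => hTgen b (Set.mem_univ _))
    obtain ⟨bs, hbs⟩ := Groth.Agent.S2466.result p _ hbasis
    let x' : ↥T → K := fun t => id (t : K)
    have hx'ind : LinearIndepOn (EGA41.pPowerSubalgebra p k₀ K) (mono x')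
        (redSet p Set.univ) := by
      have h1 := (linearIndependent_redMono_comp_iff p (C := EGA41.pPowerSubalgebra p k₀ K) x'
        hp.pos id Function.injective_id).mp hbasis.1
      rwa [Set.range_id] at h1
    have hC₀ : ∀ b : K,
        (∀ i, b ∈ k i ⊔ IntermediateField.adjoin k₀ (Set.range fun y : K => y ^ p)) →
        b ∈ Set.range (algebraMap (EGA41.pPowerSubalgebra p k₀ K) K) := by
      intro b hb
      have hb' : b ∈ IntermediateField.adjoin k₀ (Set.range fun y : K => y ^ p) := by
        rw [← H]
        exact (hmem_iInf b).mpr hb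
      have h1 := (mem_intermediateField_adjoin_iff p (∅ : Set K) b).mp
        (by rwa [Set.union_empty])
      rw [Algebra.adjoin_empty, Algebra.mem_bot] at h1
      exact h1
    obtain ⟨c, rfl⟩ : ∃ c, Finsupp.linearCombination K bs c = ω :=
      ⟨bs.repr ω, bs.linearCombination_repr ω⟩
    obtain ⟨i, hi⟩ := exists_linearIndepOn_of_iInf p
      (fun i => k i ⊔ IntermediateField.adjoin k₀ (Set.range fun y : K => y ^ p)) hG hGpow hC₀ x'
      hx'ind c.support
    have hi' : LinearIndepOn (EGA41.pPowerSubalgebra p (k i) K) (mono x')
        (redSet p (c.support : Set T)) := by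
      refine linearIndependent_of_forall_exists ?_ hi
      intro r'
      refine ⟨⟨r', hPG i r' r'.2⟩, fun m => rfl, fun h0 => ?_⟩
      have h1 := congrArg (fun c : ↥(k i ⊔ IntermediateField.adjoin k₀
        (Set.range fun y : K => y ^ p)) => (c : K)) h0
      exact Subtype.ext h1
    have hind : EGA41.IsPIndependent p (k i) (fun s : ↥(↑c.support : Set ↥T) => x' s) := by
      have h1 := (linearIndependent_redMono_comp_iff p (C := EGA41.pPowerSubalgebra p (k i) K) x'
        hp.pos (Subtype.val : ↥(↑c.support : Set ↥T) → ↥T) Subtype.val_injective).mpr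
        (by rwa [Subtype.range_val])
      exact h1
    have hli : LinearIndepOn K (fun t : T => KaehlerDifferential.D (k i) K (x' t))
        (c.support : Set T) := linearIndependent_D_of_isPIndependent p _ hind
    have himg : Finsupp.linearCombination K
        (fun t : T => KaehlerDifferential.D (k i) K (x' t)) c = 0 := by
      have h1 := hω i
      rw [Finsupp.apply_linearCombination] at h1
      have h2 : (⇑(KaehlerDifferential.map k₀ (k i) K K) ∘ ⇑bs) =
          fun t : T => KaehlerDifferential.D (k i) K (x' t) := funext fun t => by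
        rw [Function.comp_apply, hbs, KaehlerDifferential.map_D]
        rfl
      rw [h2] at h1
      exact h1
    have hc0 : c = 0 :=
      (linearIndepOn_iff.mp hli) c ((Finsupp.mem_supported _ _).mpr subset_rfl) himg
    rw [hc0, map_zero]
  · intro hinj
    apply le_antisymm
    · intro b hb
      have hb' := (hmem_iInf b).mp hb
      apply mem_adjoin_of_D_eq_zero p
      apply hinj
      intro i
      rw [KaehlerDifferential.map_D]
      exact D_eq_zero_of_mem_sup p (k i) (hb' i)
    · exact le_iInf fun i => le_sup_right

end Groth.Agent.S2475
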