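import Groth.Statements.S4545
import Groth.Agent.H44.PBasisAdm
import Mathlib.FieldTheory.IsAlgClosed.AlgebraicClosure
open Groth.Agent.H44.PBasis

set_option autoImplicit false
universe u
open EGA41

namespace Groth.Agent.S4545

open TensorProduct in
/-- If every `p`-th power of `L` comes from `k₀(K^p)(b₀)` and `b₀` becomes a `p`-th power in `L`, the
imperfection module of `L/K/k₀` is supported on the basis vector of `b₀`, which lies in it. -/
theorem imperfection_support_of_pow_mem (p : ℕ) [Fact p.Prime] {k₀ K L : Type u} [Field k₀]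
    [Field K] [Field L] [Algebra k₀ K] [Algebra K L] [Algebra k₀ L] [IsScalarTower k₀ K L]
    [CharP K p] [CharP L p] (T : Set K) (hbasis : EGA41.IsPBasis p k₀ (fun t : T => id (t : K)))
    (bs : Module.Basis T K (Ω[K⁄k₀]))
    (hbs : ∀ t, bs t = KaehlerDifferential.D k₀ K (id (t : K))) (b₀ : T) (y : L)
    (hy : y ^ p = algebraMap K L (b₀ : K))
    (hL : ∀ l : L, ∃ c ∈ IntermediateField.adjoin k₀
      (Set.range (fun z : K => z ^ p) ∪ {(b₀ : K)}), algebraMap K L c = l ^ p) :
    (∀ ω ∈ EGA41.imperfection k₀ K L, ((bs.baseChange L).repr ω).support ⊆ {b₀}) ∧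
      (bs.baseChange L) b₀ ∈ EGA41.imperfection k₀ K L := by
  classical
  have hb₀ : KaehlerDifferential.D k₀ L (algebraMap K L (id (b₀ : K))) = 0 := by
    rw [show algebraMap K L (id (b₀ : K)) = y ^ p from hy.symm, Derivation.leibniz_pow,
      ← Nat.cast_smul_eq_nsmul L, CharP.cast_eq_zero L p, zero_smul]
  have h2 : (⇑(KaehlerDifferential.mapBaseChange k₀ K L) ∘ ⇑(bs.baseChange L)) =
      fun t : T => KaehlerDifferential.D k₀ L (algebraMap K L (id (t : K))) := funext fun t => by
    rw [Function.comp_apply, Module.Basis.baseChange_apply,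
      KaehlerDifferential.mapBaseChange_tmul, one_smul, hbs, KaehlerDifferential.map_D]
  constructor
  swap
  · show KaehlerDifferential.mapBaseChange k₀ K L ((bs.baseChange L) b₀) = 0
    have := congrFun h2 b₀
    rw [Function.comp_apply] at this
    rw [this, hb₀]
  intro ω hω
  have hindT := (Groth.Agent.S4521.result p (fun t : T => id (t : K))).mp hbasis.1
  have hind : EGA41.IsPIndependent p k₀
      (fun s : ↥{t : T | t ≠ b₀} => algebraMap K L (id ((s : T) : K))) := by
    refine (Groth.Agent.S4521.result p _).mpr fun s => ?_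
    intro hcon
    apply hindT (s : T)
    have hQE : ∀ c ∈ IntermediateField.adjoin k₀
        (Set.range (fun z : K => z ^ p) ∪ {(b₀ : K)}),
        c ∈ IntermediateField.adjoin k₀ (Set.range (fun z : K => z ^ p) ∪
          (fun t : T => id (t : K)) '' {t' | t' ≠ (s : T)}) := by
      intro c hc
      refine (IntermediateField.adjoin_le_iff.mpr ?_ :
        IntermediateField.adjoin k₀ (Set.range (fun z : K => z ^ p) ∪ {(b₀ : K)}) ≤
          IntermediateField.adjoin k₀ (Set.range (fun z : K => z ^ p) ∪
            (fun t : T => id (t : K)) '' {t' | t' ≠ (s : T)})) hc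
      rintro z (hz | hz)
      · exact IntermediateField.subset_adjoin k₀ _ (Or.inl hz)
      · rw [Set.mem_singleton_iff] at hz
        subst hz
        exact IntermediateField.subset_adjoin k₀ _ (Or.inr ⟨b₀, fun h => s.2 h.symm, rfl⟩)
    have hle : IntermediateField.adjoin k₀ (Set.range (fun z : L => z ^ p) ∪
        (fun s' : ↥{t : T | t ≠ b₀} => algebraMap K L (id ((s' : T) : K))) '' {s' | s' ≠ s}) ≤
        (IntermediateField.adjoin k₀ (Set.range (fun z : K => z ^ p) ∪
          (fun t : T => id (t : K)) '' {t' | t' ≠ (s : T)})).map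
            (IsScalarTower.toAlgHom k₀ K L) := by
      refine IntermediateField.adjoin_le_iff.mpr ?_
      rintro z (⟨l, rfl⟩ | ⟨s', hs', rfl⟩)
      · obtain ⟨c, hc, hcl⟩ := hL l
        exact (IntermediateField.mem_map _).mpr ⟨c, hQE c hc, hcl⟩
      · exact (IntermediateField.mem_map _).mpr ⟨id ((s' : T) : K),
          IntermediateField.subset_adjoin k₀ _
            (Or.inr ⟨(s' : T), fun h => hs' (Subtype.ext h), rfl⟩), rfl⟩
    obtain ⟨c, hc, hcs⟩ := (IntermediateField.mem_map _).mp (hle hcon)
    have hcs' : algebraMap K L c = algebraMap K L (id ((s : T) : K)) := hcs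
    have hceq : c = id ((s : T) : K) := (algebraMap K L).injective hcs'
    rw [← hceq]
    exact hc
  have hliL : LinearIndepOn L
      (fun t : T => KaehlerDifferential.D k₀ L (algebraMap K L (id (t : K)))) {t : T | t ≠ b₀} :=
    linearIndependent_D_of_isPIndependent p _ hind
  obtain ⟨c, rfl⟩ : ∃ c, Finsupp.linearCombination L (bs.baseChange L) c = ω :=
    ⟨_, (bs.baseChange L).linearCombination_repr ω⟩
  rw [(bs.baseChange L).repr_linearCombination]
  have h1 : KaehlerDifferential.mapBaseChange k₀ K L
      (Finsupp.linearCombination L (bs.baseChange L) c) = 0 := hω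
  rw [Finsupp.apply_linearCombination, h2] at h1
  have h3 : Finsupp.linearCombination L
      (fun t : T => KaehlerDifferential.D k₀ L (algebraMap K L (id (t : K)))) (c.erase b₀) = 0 := by
    have h4 := Finsupp.single_add_erase b₀ c
    rw [← h4, map_add, Finsupp.linearCombination_single, hb₀, smul_zero, zero_add] at h1
    exact h1
  have h5 : c.erase b₀ = 0 := (linearIndepOn_iff.mp hliL) _ ((Finsupp.mem_supported _ _).mpr (by
    intro t ht
    rw [Finset.mem_coe, Finsupp.support_erase, Finset.mem_erase] at ht
    exact ht.1)) h3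
  intro t ht
  rw [Finset.mem_singleton]
  by_contra hne
  have h6 : (c.erase b₀) t = c t := Finsupp.erase_ne hne
  rw [h5] at h6
  exact (Finsupp.mem_support_iff.mp ht) h6.symm


open TensorProduct in
/-- Let K be a field of characteristic p > 0, k₀ a subfield and (k_α) a decreasing filtered family of
subfields of K containing k₀. Then ⋂_α k_α(K^p) = k₀(K^p) if and only if for every extension L of K
such that Υ_{L/K/k₀} has finite rank over L there is an α with k_α admissible for L over K relative
to k₀, i.e. with Υ_{L/K/k₀} → Υ_{L/K/k_α} injective. (The published statement has two further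
equivalent conditions; this row states (a) ⇔ (b).) -/
theorem result (p : ℕ) [Fact p.Prime] {k₀ K : Type u}
    [Field k₀] [Field K] [Algebra k₀ K] [CharP K p]
    {ι : Type u} [Preorder ι] [IsDirected ι (· ≤ ·)] [Nonempty ι] (k : ι → IntermediateField k₀ K) (hk : Antitone k) :
    (⨅ i, k i ⊔ IntermediateField.adjoin k₀ (Set.range fun y : K => y ^ p)) =
        IntermediateField.adjoin k₀ (Set.range fun y : K => y ^ p) ↔
      ∀ (L : Type u) [Field L] [Algebra K L] [Algebra k₀ L] [IsScalarTower k₀ K L],
        Module.Finite L (EGA41.imperfection k₀ K L) →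
          ∃ i, ∀ ω ∈ EGA41.imperfection k₀ K L,
            ((KaehlerDifferential.map k₀ (k i) K K).restrictScalars K).baseChange L ω = 0 → ω = 0 := by
  classical
  have hp : p.Prime := Fact.out
  have hmem_iInf : ∀ b : K,
      b ∈ (⨅ i, k i ⊔ IntermediateField.adjoin k₀ (Set.range fun y : K => y ^ p)) ↔
        ∀ i, b ∈ k i ⊔ IntermediateField.adjoin k₀ (Set.range fun y : K => y ^ p) := fun b => by
    rw [← SetLike.mem_coe, IntermediateField.coe_iInf, Set.mem_iInter]
    rfl
  constructor
  · intro H L _ _ _ _ hfin
    obtain ⟨T, hbasis⟩ := exists_pBasis_set (k₀ := k₀) (K := K) p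
    obtain ⟨bs, hbs⟩ := Groth.Agent.S2466.result p _ hbasis
    obtain ⟨F, hF⟩ := exists_finset_support_subset (bs.baseChange L)
      (EGA41.imperfection k₀ K L) (Module.Finite.iff_fg.mp hfin)
    obtain ⟨i, hi⟩ := exists_linearIndepOn_D_of_iInf p k hk H T hbasis F
    exact ⟨i, fun ω hω h0 => eq_zero_of_baseChange_map_eq_zero (fun t : T => id (t : K)) bs hbs
      (k i) (F : Set T) hi ω (Finset.coe_subset.mpr (hF ω hω)) h0⟩
  · intro hb
    apply le_antisymm
    swap
    · exact le_iInf fun i => le_sup_right
    intro b hbG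
    by_contra hbF
    have hbG' := (hmem_iInf b).mp hbG
    have hP₀ : b ∉ Set.range (algebraMap (EGA41.pPowerSubalgebra p k₀ K) K) := by
      rintro ⟨c, rfl⟩
      apply hbF
      have h1 := (mem_intermediateField_adjoin_iff p (∅ : Set K) (c : K)).mpr (by
        rw [Algebra.adjoin_empty]
        exact Algebra.mem_bot.mpr ⟨c, rfl⟩)
      rwa [Set.union_empty] at h1
    have h0 : LinearIndepOn (EGA41.pPowerSubalgebra p k₀ K) (mono (id : K → K))
        (redSet p {b}) := by
      have h1 := linearIndepOn_redSet_insert p (id : K → K) (hC_pPower (k := k₀) p)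
        (linearIndepOn_redSet_empty p id hp.pos (algebraMap_pPower_injective p))
        (Set.notMem_empty b) (by
          rw [Set.image_empty, Algebra.adjoin_empty]
          exact fun h => hP₀ (Algebra.mem_bot.mp h))
      rwa [insert_empty_eq] at h1
    obtain ⟨T, hbT, -, hTind, hTgen⟩ := exists_maximal_redSet p (id : K → K)
      (hC_pPower (k := k₀) p) (Set.subset_univ ({b} : Set K)) h0
    have hbasis : EGA41.IsPBasis p k₀ (fun t : T => id (t : K)) :=
      isPBasis_subtype p id T hTind (fun c => hTgen c (Set.mem_univ _))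
    obtain ⟨bs, hbs⟩ := Groth.Agent.S2466.result p _ hbasis
    let b₀ : T := ⟨b, hbT (Set.mem_singleton b)⟩
    obtain ⟨y, hy⟩ := IsAlgClosed.exists_pow_nat_eq (algebraMap K (AlgebraicClosure K) b) hp.pos
    let L : IntermediateField K (AlgebraicClosure K) := IntermediateField.adjoin K {y}
    have hyL : y ∈ L := IntermediateField.subset_adjoin K _ (Set.mem_singleton y)
    have : CharP (AlgebraicClosure K) p :=
      charP_of_injective_algebraMap (algebraMap K (AlgebraicClosure K)).injective p
    have : CharP L p := charP_of_injective_algebraMap (algebraMap K L).injective p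
    have key : ∀ z ∈ L, ∃ c ∈ IntermediateField.adjoin k₀
        (Set.range (fun z : K => z ^ p) ∪ {(b₀ : K)}),
        algebraMap K (AlgebraicClosure K) c = z ^ p := by
      intro z hz
      induction hz using IntermediateField.adjoin_induction with
      | mem z hz =>
        rw [Set.mem_singleton_iff] at hz
        subst hz
        exact ⟨b, IntermediateField.subset_adjoin k₀ _ (Or.inr rfl), hy.symm⟩
      | algebraMap c =>
        exact ⟨c ^ p, IntermediateField.subset_adjoin k₀ _ (Or.inl ⟨c, rfl⟩), by rw [map_pow]⟩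
      | add z w _ _ hz hw =>
        obtain ⟨c, hc, hcz⟩ := hz
        obtain ⟨d, hd, hdw⟩ := hw
        exact ⟨c + d, add_mem hc hd, by rw [map_add, hcz, hdw, add_pow_char]⟩
      | inv z _ hz =>
        obtain ⟨c, hc, hcz⟩ := hz
        exact ⟨c⁻¹, inv_mem hc, by rw [map_inv₀, hcz, inv_pow]⟩
      | mul z w _ _ hz hw =>
        obtain ⟨c, hc, hcz⟩ := hz
        obtain ⟨d, hd, hdw⟩ := hw
        exact ⟨c * d, mul_mem hc hd, by rw [map_mul, hcz, hdw, mul_pow]⟩
    have hL : ∀ l : L, ∃ c ∈ IntermediateField.adjoin k₀
        (Set.range (fun z : K => z ^ p) ∪ {(b₀ : K)}), algebraMap K L c = l ^ p := by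
      intro l
      obtain ⟨c, hc, hcl⟩ := key l l.2
      exact ⟨c, hc, Subtype.ext hcl⟩
    obtain ⟨hsupp, hmem⟩ := imperfection_support_of_pow_mem p (L := L) T hbasis bs hbs b₀
      ⟨y, hyL⟩ (Subtype.ext hy) hL
    have hfin : Module.Finite L (EGA41.imperfection k₀ K L) := by
      have hle : EGA41.imperfection k₀ K L ≤ Submodule.span L {(bs.baseChange L) b₀} := by
        intro ω hω
        have hs := hsupp ω hω
        have h1 : ω = ((bs.baseChange L).repr ω) b₀ • (bs.baseChange L) b₀ := by
          conv_lhs =>
            rw [← (bs.baseChange L).linearCombination_repr ω, Finsupp.linearCombination_apply,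
              Finsupp.sum_of_support_subset ((bs.baseChange L).repr ω) hs
                (fun i a => a • (bs.baseChange L) i) (fun i _ => zero_smul _ _),
              Finset.sum_singleton]
        rw [h1]
        exact Submodule.smul_mem _ _ (Submodule.mem_span_singleton_self _)
      exact Submodule.finiteDimensional_of_le hle
    obtain ⟨i, hi⟩ := hb L hfin
    have h0' : ((KaehlerDifferential.map k₀ (k i) K K).restrictScalars K).baseChange L
        ((bs.baseChange L) b₀) = 0 := by
      rw [Module.Basis.baseChange_apply, LinearMap.baseChange_tmul, hbs]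
      show (1 : L) ⊗ₜ[K] (KaehlerDifferential.map k₀ (k i) K K
        (KaehlerDifferential.D k₀ K (id (b₀ : K)))) = 0
      rw [KaehlerDifferential.map_D]
      have h1 : KaehlerDifferential.D (k i) K b = 0 := D_eq_zero_of_mem_sup p (k i) (hbG' i)
      show (1 : L) ⊗ₜ[K] (KaehlerDifferential.D (k i) K b) = 0
      rw [h1, TensorProduct.tmul_zero]
    exact (bs.baseChange L).ne_zero b₀ (hi _ hmem h0')

end Groth.Agent.S4545
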