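import Groth.Statements.S4546
import Groth.Agent.H44.PBasisAdm
import Groth.Agent.S2475
import Groth.Agent.S4545
open Groth.Agent.H44.PBasis
open TensorProduct

set_option autoImplicit false
universe u
open EGA41

namespace Groth.Agent.S4546

/-- Let K be a field of characteristic p > 0, k₀ a subfield, (k_α) a decreasing filtered family of
subfields of K containing k₀ with ⋂_α k_α(K^p) = k₀(K^p). Then for every extension L of K such that
Υ_{L/K/k₀} has finite rank over L, one has ⋂_α k_α(L^p) = k₀(L^p) (the k_α being viewed inside L). -/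
theorem result (p : ℕ) [Fact p.Prime] {k₀ K L : Type u}
    [Field k₀] [Field K] [Field L] [Algebra k₀ K] [Algebra K L] [Algebra k₀ L] [IsScalarTower k₀ K L] [CharP K p] [CharP L p]
    {ι : Type u} [Preorder ι] [IsDirected ι (· ≤ ·)] [Nonempty ι] (k : ι → IntermediateField k₀ K) (hk : Antitone k)
    (h : (⨅ i, k i ⊔ IntermediateField.adjoin k₀ (Set.range fun y : K => y ^ p)) =
      IntermediateField.adjoin k₀ (Set.range fun y : K => y ^ p))
    [Module.Finite L (EGA41.imperfection k₀ K L)] :
    (⨅ i, (k i).map (IsScalarTower.toAlgHom k₀ K L) ⊔ IntermediateField.adjoin k₀ (Set.range fun y : L => y ^ p)) =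
      IntermediateField.adjoin k₀ (Set.range fun y : L => y ^ p) := by
  classical
  have hp : p.Prime := Fact.out
  have hk' : Antitone fun i => (k i).map (IsScalarTower.toAlgHom k₀ K L) :=
    fun i j hij => IntermediateField.map_mono _ (hk hij)
  refine (Groth.Agent.S2475.result p (fun i => (k i).map (IsScalarTower.toAlgHom k₀ K L))
    hk').mpr ?_
  intro ω hω
  obtain ⟨T, hbasis⟩ := exists_pBasis_set (k₀ := k₀) (K := K) p
  obtain ⟨bs, hbs⟩ := Groth.Agent.S2466.result p _ hbasis
  -- the spans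
  let S : ι → Submodule L (L ⊗[K] Ω[K⁄k₀]) := fun i =>
    Submodule.span L ((fun c : K => (1 : L) ⊗ₜ[K] KaehlerDifferential.D k₀ K c) '' (k i : Set K))
  have hS1 : ∀ i j, i ≤ j → S j ≤ S i := fun i j hij =>
    Submodule.span_mono (Set.image_mono (hk hij))
  have hS2 : ∀ i, ∀ ξ ∈ S i,
      ((KaehlerDifferential.map k₀ (k i) K K).restrictScalars K).baseChange L ξ = 0 := by
    intro i
    have hle : S i ≤ LinearMap.ker
        (((KaehlerDifferential.map k₀ (k i) K K).restrictScalars K).baseChange L) := by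
      refine Submodule.span_le.mpr ?_
      rintro _ ⟨c, hc, rfl⟩
      rw [SetLike.mem_coe, LinearMap.mem_ker, LinearMap.baseChange_tmul]
      show (1 : L) ⊗ₜ[K] (KaehlerDifferential.map k₀ (k i) K K (KaehlerDifferential.D k₀ K c)) = 0
      rw [KaehlerDifferential.map_D]
      have h1 : KaehlerDifferential.D (k i) K (algebraMap K K c) = 0 :=
        Derivation.map_algebraMap _ (⟨c, hc⟩ : k i)
      rw [h1, TensorProduct.tmul_zero]
    exact fun ξ hξ => hle hξ
  have hP : ∀ i, ∃ ξ ∈ S i, KaehlerDifferential.mapBaseChange k₀ K L ξ = ω := by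
    intro i
    have h1 : ω ∈ LinearMap.ker (KaehlerDifferential.map k₀
        ((k i).map (IsScalarTower.toAlgHom k₀ K L)) L L) := hω i
    rw [← KaehlerDifferential.range_mapBaseChange] at h1
    obtain ⟨η, hη⟩ := h1
    rw [← hη]
    clear hη
    induction η using TensorProduct.induction_on with
    | zero => exact ⟨0, zero_mem _, by rw [map_zero, map_zero]⟩
    | tmul l ω' =>
      have hω' : ω' ∈ Submodule.span ((k i).map (IsScalarTower.toAlgHom k₀ K L))
          (Set.range (KaehlerDifferential.D k₀ ((k i).map (IsScalarTower.toAlgHom k₀ K L)))) := by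
        rw [KaehlerDifferential.span_range_derivation]
        trivial
      induction hω' using Submodule.span_induction generalizing l with
      | mem z hz =>
        obtain ⟨c', rfl⟩ := hz
        obtain ⟨c, hc, hcc'⟩ := (IntermediateField.mem_map _).mp c'.2
        refine ⟨l • ((1 : L) ⊗ₜ[K] KaehlerDifferential.D k₀ K c),
          Submodule.smul_mem _ _ (Submodule.subset_span ⟨c, hc, rfl⟩), ?_⟩
        rw [map_smul, KaehlerDifferential.mapBaseChange_tmul, one_smul,
          KaehlerDifferential.map_D, KaehlerDifferential.mapBaseChange_tmul,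
          KaehlerDifferential.map_D]
        congr 2
      | zero => exact ⟨0, zero_mem _, by rw [TensorProduct.tmul_zero, map_zero, map_zero]⟩
      | add y z _ _ hy hz =>
        obtain ⟨ξ₁, h₁, e₁⟩ := hy l
        obtain ⟨ξ₂, h₂, e₂⟩ := hz l
        exact ⟨ξ₁ + ξ₂, add_mem h₁ h₂, by rw [TensorProduct.tmul_add, map_add, map_add, e₁, e₂]⟩
      | smul r y _ hy =>
        rw [TensorProduct.tmul_smul, TensorProduct.smul_tmul']
        exact hy (r • l)
    | add y z hy hz =>
      obtain ⟨ξ₁, h₁, e₁⟩ := hy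
      obtain ⟨ξ₂, h₂, e₂⟩ := hz
      exact ⟨ξ₁ + ξ₂, add_mem h₁ h₂, by rw [map_add, map_add, e₁, e₂]⟩
  choose ξ hξS hξμ using hP
  obtain ⟨i₀, hi₀⟩ := (Groth.Agent.S4545.result p k hk).mp h L inferInstance
  have hconst : ∀ i, i₀ ≤ i → ξ i = ξ i₀ := by
    intro i hi
    have h1 : ξ i - ξ i₀ ∈ EGA41.imperfection k₀ K L := by
      show KaehlerDifferential.mapBaseChange k₀ K L (ξ i - ξ i₀) = 0
      rw [map_sub, hξμ, hξμ, sub_self]
    have h2 : ((KaehlerDifferential.map k₀ (k i₀) K K).restrictScalars K).baseChange L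
        (ξ i - ξ i₀) = 0 := by
      rw [map_sub, hS2 i₀ _ (hS1 i₀ i hi (hξS i)), hS2 i₀ _ (hξS i₀), sub_zero]
    exact sub_eq_zero.mp (hi₀ _ h1 h2)
  have hall : ∀ i, ((KaehlerDifferential.map k₀ (k i) K K).restrictScalars K).baseChange L
      (ξ i₀) = 0 := by
    intro i
    obtain ⟨j, hij, hi₀j⟩ := exists_ge_ge i i₀
    rw [← hconst j hi₀j]
    exact hS2 i _ (hS1 i j hij (hξS j))
  obtain ⟨i, hi⟩ := exists_linearIndepOn_D_of_iInf p k hk h T hbasis
    ((bs.baseChange L).repr (ξ i₀)).support
  have h0 : ξ i₀ = 0 := eq_zero_of_baseChange_map_eq_zero (fun t : T => id (t : K)) bs hbs (k i)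
    _ hi (ξ i₀) subset_rfl (hall i)
  rw [← hξμ i₀, h0, map_zero]

end Groth.Agent.S4546
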