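import Groth.Statements.S4548
import Groth.Agent.H44.PSFamily


set_option autoImplicit false
universe u
open EGA41

namespace Groth.Agent.S4548

/-- Let k be a field of characteristic p > 0, A = k[[T_1, …, T_r]] and K its field of fractions. Then
there is a decreasing filtered family (A_α) of Noetherian subrings of A (rendered: a nonempty
family, directed downwards for inclusion) such that A is a free A_α-module of finite type for every
α and, K_α denoting the subfield of K generated by A_α (its field of fractions inside K), ⋂_α K_α =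
K^p. -/
theorem result (p : ℕ) [Fact p.Prime] (k : Type u) [Field k] [CharP k p]
    (r : ℕ) :
    ∃ (ι : Type u) (_ : Nonempty ι) (S : ι → Subring (MvPowerSeries (Fin r) k)),
      (∀ a b : ι, ∃ c, S c ≤ S a ⊓ S b) ∧
      (∀ i, IsNoetherianRing (S i) ∧ Module.Free (S i) (MvPowerSeries (Fin r) k) ∧ Module.Finite (S i) (MvPowerSeries (Fin r) k)) ∧
      ((⨅ i, Subfield.closure (algebraMap (MvPowerSeries (Fin r) k) (FractionRing (MvPowerSeries (Fin r) k)) '' (S i)) :
          Set (FractionRing (MvPowerSeries (Fin r) k)))) =
        Set.range fun x : FractionRing (MvPowerSeries (Fin r) k) => x ^ p := by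
  classical
  obtain ⟨T, hT⟩ := Groth.Agent.H44.PBasis.exists_pBasis_set p
    (k₀ := Groth.Agent.H44.PSFamily.kp p k) (K := k)
  refine ⟨Finset T, ⟨∅⟩,
    fun S => Groth.Agent.H44.PSFamily.SG p r (Groth.Agent.H44.PSFamily.Fam p T S).toSubfield,
    ?_, ?_, ?_⟩
  · intro a b
    refine ⟨a ∪ b, le_inf (Groth.Agent.H44.PSFamily.SG_mono p r ?_)
      (Groth.Agent.H44.PSFamily.SG_mono p r ?_)⟩
    · exact fun x hx => Groth.Agent.H44.PSFamily.fam_anti p T Finset.subset_union_left hx
    · exact fun x hx => Groth.Agent.H44.PSFamily.fam_anti p T Finset.subset_union_right hx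
  · intro S
    haveI : Module.Finite (Groth.Agent.H44.PSFamily.Fam p T S).toSubfield k :=
      Groth.Agent.H44.PSFamily.finite_fam_subfield p T hT S
    exact ⟨Groth.Agent.H44.PSFamily.isNoetherianRing_SG p r _,
      (Groth.Agent.H44.PSFamily.free_finite p r _).1,
      (Groth.Agent.H44.PSFamily.free_finite p r _).2⟩
  · have h := Groth.Agent.H44.PSFamily.iInf_closure_eq p r T hT
    rw [Subfield.coe_iInf] at h
    exact h

end Groth.Agent.S4548
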