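import Groth.Statements.S9290
import Mathlib
import Groth.Agent.H20.FormalFib
-- import your own Groth.Agent.* helpers here

set_option autoImplicit false
universe u
open CAlg

set_option linter.style.haveILetI false
set_option linter.unusedSectionVars false
set_option linter.unusedVariables false

namespace Groth.Agent.S9290


/-- Let R' be a Noetherian algebra of finite type over the Noetherian ring R, quasi-finite at the prime
p' over p, and let Q' ⊆ R'_{p'} and Q ⊆ R_p be primes with the same contraction to R (that is, a
prime q' ⊆ p' of R' lying over the prime q ⊆ p of R). If the formal fibre of R_p at Q is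
geometrically regular over κ(Q), then the formal fibre of R'_{p'} at Q' is geometrically regular
over κ(Q'). -/
theorem result (R R' : Type u) [CommRing R] [CommRing R']
    [IsNoetherianRing R] [IsNoetherianRing R'] [Algebra R R'] [Algebra.FiniteType R R']
    (p' : Ideal R') [p'.IsPrime] [Algebra.QuasiFiniteAt R p']
    (Q' : Ideal (Localization.AtPrime p')) [Q'.IsPrime]
    (Q : Ideal (Localization.AtPrime (Ideal.comap (algebraMap R R') p'))) [Q.IsPrime]
    (hQ : Ideal.comap (algebraMap R (Localization.AtPrime (Ideal.comap (algebraMap R R') p'))) Q =
      Ideal.comap (algebraMap R (Localization.AtPrime p')) Q')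
    (h : CAlg.IsGeometricallyRegular Q.ResidueField
      (EGA4.formalFibre (Localization.AtPrime (Ideal.comap (algebraMap R R') p')) Q)) :
    CAlg.IsGeometricallyRegular Q'.ResidueField (EGA4.formalFibre (Localization.AtPrime p') Q') := by
  letI algAC : Algebra (Localization.AtPrime (Ideal.comap (algebraMap R R') p'))
      (Localization.AtPrime p') :=
    (Localization.localRingHom (Ideal.comap (algebraMap R R') p') p' (algebraMap R R') rfl).toAlgebra
  haveI : IsScalarTower R (Localization.AtPrime (Ideal.comap (algebraMap R R') p'))
      (Localization.AtPrime p') :=
    IsScalarTower.of_algebraMap_eq (R := R)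
      (S := Localization.AtPrime (Ideal.comap (algebraMap R R') p')) (A := Localization.AtPrime p')
      (fun a => by
        show algebraMap R (Localization.AtPrime p') a =
          Localization.localRingHom (Ideal.comap (algebraMap R R') p') p' (algebraMap R R') rfl
            (algebraMap R _ a)
        rw [Localization.localRingHom_to_map,
          IsScalarTower.algebraMap_apply R R' (Localization.AtPrime p')])
  exact Groth.Agent.H20.FormalFib.app_fibre R R' p' (Ideal.comap (algebraMap R R') p') rfl
    (Localization.AtPrime (Ideal.comap (algebraMap R R') p')) (Localization.AtPrime p') Q' Q hQ h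

end Groth.Agent.S9290
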