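import Groth.Statements.S9318
import Mathlib.RingTheory.AdicCompletion.Completeness
import Mathlib.Tactic

set_option autoImplicit false
universe u
open CAlg

namespace Groth.Agent.S9318

section Aux
variable {R S : Type u} [CommRing R] [CommRing S] [Algebra R S] (𝔫 : Ideal S)

/-- `S → Ŝ` as an `R`-algebra map. -/
noncomputable def ιR : S →ₐ[R] AdicCompletion 𝔫 S :=
  { algebraMap S (AdicCompletion 𝔫 S) with
    commutes' := fun r => rfl }

/-- `Ŝ → S/𝔫^m` as an `R`-algebra map. -/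
noncomputable def evR (m : ℕ) : AdicCompletion 𝔫 S →ₐ[R] S ⧸ 𝔫 ^ m :=
  { (AdicCompletion.evalₐ 𝔫 m).toRingHom with
    commutes' := fun r => by
      show AdicCompletion.evalₐ 𝔫 m (algebraMap R (AdicCompletion 𝔫 S) r) = _
      rw [AdicCompletion.algebraMap_apply, AdicCompletion.evalₐ_of]; rfl }

theorem ev_ι (m : ℕ) (s : S) :
    AdicCompletion.evalₐ 𝔫 m (algebraMap S (AdicCompletion 𝔫 S) s) = Ideal.Quotient.mk _ s :=
  (AdicCompletion.evalₐ 𝔫 m).commutes s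

theorem mem_pow_of_ev_eq_zero (h𝔫 : 𝔫.FG) (m : ℕ) (x : AdicCompletion 𝔫 S)
    (hx : AdicCompletion.evalₐ 𝔫 m x = 0) :
    x ∈ (𝔫.map (algebraMap S (AdicCompletion 𝔫 S))) ^ m := by
  have h1 : AdicCompletion.eval 𝔫 S m x = 0 := by
    rw [← AdicCompletion.factor_evalₐ_eq_eval (I := 𝔫) x (by simp), hx, map_zero]
  have h2 : x ∈ (𝔫 ^ m • ⊤ : Submodule S (AdicCompletion 𝔫 S)) := by
    rw [AdicCompletion.pow_smul_top_eq_ker_eval h𝔫]; exact h1
  rw [← Ideal.map_pow]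
  refine Submodule.smul_induction_on h2 ?_ ?_
  · intro a ha y _
    rw [Algebra.smul_def]
    exact Ideal.mul_mem_right _ _ (Ideal.mem_map_of_mem _ ha)
  · intro y z hy hz; exact Ideal.add_mem _ hy hz

theorem ev_eq_zero_of_mem_pow (m : ℕ) (x : AdicCompletion 𝔫 S)
    (hx : x ∈ (𝔫.map (algebraMap S (AdicCompletion 𝔫 S))) ^ m) :
    AdicCompletion.evalₐ 𝔫 m x = 0 := by
  rw [← Ideal.map_pow] at hx
  have hle : Ideal.map (algebraMap S (AdicCompletion 𝔫 S)) (𝔫 ^ m) ≤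
      RingHom.ker (AdicCompletion.evalₐ 𝔫 m) := by
    rw [Ideal.map_le_iff_le_comap]
    intro s hs
    rw [Ideal.mem_comap, RingHom.mem_ker, ev_ι, Ideal.Quotient.eq_zero_iff_mem]
    exact hs
  exact RingHom.mem_ker.mp (hle hx)

theorem exists_sub (m : ℕ) (x : AdicCompletion 𝔫 S) :
    ∃ s : S, AdicCompletion.evalₐ 𝔫 m (x - algebraMap S (AdicCompletion 𝔫 S) s) = 0 := by
  obtain ⟨s, hs⟩ := Ideal.Quotient.mk_surjective (AdicCompletion.evalₐ 𝔫 m x)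
  exact ⟨s, by rw [map_sub, ev_ι, hs, sub_self]⟩

theorem forward (h𝔫 : 𝔫.FG) (hS : CAlgX.IsAdicFormallySmooth R S 𝔫) :
    CAlgX.IsAdicFormallySmooth R (AdicCompletion 𝔫 S)
      (𝔫.map (algebraMap S (AdicCompletion 𝔫 S))) := by
  intro A _ _ J hJ ψh hψh
  obtain ⟨k, hk⟩ := hψh
  have hψ : ∀ x ∈ 𝔫 ^ k, (ψh.comp (ιR (R := R) 𝔫)) x = 0 := by
    intro x hx
    refine hk _ ?_
    rw [← Ideal.map_pow]
    exact Ideal.mem_map_of_mem _ hx
  obtain ⟨χ, hχ⟩ := hS A J hJ (ψh.comp (ιR (R := R) 𝔫)) ⟨k, hψ⟩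
  have hχs : ∀ s, Ideal.Quotient.mk J (χ s) = ψh (algebraMap S (AdicCompletion 𝔫 S) s) :=
    fun s => congrArg (fun f => f s) hχ
  have hχJ : ∀ x ∈ 𝔫 ^ k, χ x ∈ J := by
    intro x hx
    rw [← Ideal.Quotient.eq_zero_iff_mem, hχs]
    exact hψ x hx
  have hχ2 : ∀ x ∈ 𝔫 ^ (k + k), χ x = 0 := by
    intro x hx
    rw [pow_add, ← Ideal.smul_eq_mul] at hx
    refine Submodule.smul_induction_on hx ?_ ?_
    · intro a ha b hb
      rw [smul_eq_mul, map_mul]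
      have h1 : χ a * χ b ∈ J ^ 2 := by
        rw [pow_two]; exact Ideal.mul_mem_mul (hχJ a ha) (hχJ b hb)
      rw [hJ] at h1
      exact (Ideal.mem_bot).mp h1
    · intro y z hy hz
      rw [map_add, hy, hz, add_zero]
  refine ⟨(Ideal.Quotient.liftₐ (𝔫 ^ (k + k)) χ hχ2).comp (evR (R := R) 𝔫 (k + k)),
    AlgHom.ext fun x => ?_⟩
  obtain ⟨s, hs⟩ := exists_sub 𝔫 (k + k) x
  have h1 : x - algebraMap S (AdicCompletion 𝔫 S) s ∈
      (𝔫.map (algebraMap S (AdicCompletion 𝔫 S))) ^ k :=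
    Ideal.pow_le_pow_right (Nat.le_add_right k k) (mem_pow_of_ev_eq_zero 𝔫 h𝔫 (k + k) _ hs)
  have h2 : ψh x = ψh (algebraMap S (AdicCompletion 𝔫 S) s) := by
    have h3 := hk _ h1
    rwa [map_sub, sub_eq_zero] at h3
  have h4 : AdicCompletion.evalₐ 𝔫 (k + k) x = Ideal.Quotient.mk _ s := by
    rw [map_sub, ev_ι, sub_eq_zero] at hs
    exact hs
  show Ideal.Quotient.mk J
    ((Ideal.Quotient.liftₐ (𝔫 ^ (k + k)) χ hχ2) (AdicCompletion.evalₐ 𝔫 (k + k) x)) = ψh x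
  rw [h4, h2, ← hχs]
  rfl

theorem backward (hSh : CAlgX.IsAdicFormallySmooth R (AdicCompletion 𝔫 S)
      (𝔫.map (algebraMap S (AdicCompletion 𝔫 S)))) :
    CAlgX.IsAdicFormallySmooth R S 𝔫 := by
  intro A _ _ J hJ ψ hψ
  obtain ⟨k, hk⟩ := hψ
  obtain ⟨χh, hχh⟩ := hSh A J hJ
    ((Ideal.Quotient.liftₐ (𝔫 ^ k) ψ hk).comp (evR (R := R) 𝔫 k)) ⟨k, fun x hx => by
      show (Ideal.Quotient.liftₐ (𝔫 ^ k) ψ hk) (AdicCompletion.evalₐ 𝔫 k x) = 0
      rw [ev_eq_zero_of_mem_pow 𝔫 k x hx, map_zero]⟩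
  refine ⟨χh.comp (ιR (R := R) 𝔫), AlgHom.ext fun s => ?_⟩
  have h1 := congrArg (fun f => f (algebraMap S (AdicCompletion 𝔫 S) s)) hχh
  show Ideal.Quotient.mk J (χh (algebraMap S (AdicCompletion 𝔫 S) s)) = ψ s
  refine h1.trans ?_
  show (Ideal.Quotient.liftₐ (𝔫 ^ k) ψ hk)
    (AdicCompletion.evalₐ 𝔫 k (algebraMap S (AdicCompletion 𝔫 S) s)) = ψ s
  rw [ev_ι]
  rfl

end Aux

/-- Let `R → S` be a ring map and `𝔫 ⊆ S` a finitely generated ideal, and let `S^` be the `𝔫`-adic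
completion of `S`. Then `R → S` is formally smooth for the `𝔫`-adic topology if and only if `R → S^`
is formally smooth for the adic topology of the extension of `𝔫` to `S^`. No Noetherian hypothesis
is made on `S`. -/
theorem result {R S : Type u} [CommRing R] [CommRing S]
    [Algebra R S] (𝔫 : Ideal S) (h𝔫 : 𝔫.FG) :
    CAlgX.IsAdicFormallySmooth R S 𝔫 ↔
      CAlgX.IsAdicFormallySmooth R (AdicCompletion 𝔫 S) (𝔫.map (algebraMap S (AdicCompletion 𝔫 S))) := by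
  exact ⟨forward 𝔫 h𝔫, backward 𝔫⟩

end Groth.Agent.S9318
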