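import Groth.Statements.S9250
import Mathlib
import Groth.Agent.H71.FlatRegular
import Groth.Agent.H71.RkLocus

set_option autoImplicit false
universe u
open CAlg

namespace Groth.Agent.S9250

/-- Let R → S be a regular ring map with S Noetherian and R regular. Then S is regular. -/
theorem result (R S : Type u) [CommRing R] [CommRing S] [Algebra R S]
    [IsRegularRing R] [IsNoetherianRing S] (h : CAlg.IsRegularHom R S) : IsRegularRing S := by
  obtain ⟨hflat, hfib⟩ := h
  haveI := hflat
  rw [isRegularRing_iff]
  intro Q hQ
  haveI hp : (Q.comap (algebraMap R S)).IsPrime := inferInstance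
  obtain ⟨hFN, hFgeo⟩ := hfib (Q.comap (algebraMap R S))
  haveI hFreg : IsRegularRing ((Q.comap (algebraMap R S)).Fiber S) := by
    haveI := hFgeo (Q.comap (algebraMap R S)).ResidueField (Module.Finite.self _)
    have e' : TensorProduct (Q.comap (algebraMap R S)).ResidueField
        (Q.comap (algebraMap R S)).ResidueField ((Q.comap (algebraMap R S)).Fiber S) ≃+*
        (Q.comap (algebraMap R S)).Fiber S :=
      (Algebra.TensorProduct.lid
        (Q.comap (algebraMap R S)).ResidueField ((Q.comap (algebraMap R S)).Fiber S)).toRingEquiv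
    exact IsRegularRing.of_ringEquiv (R := TensorProduct (Q.comap (algebraMap R S)).ResidueField
        (Q.comap (algebraMap R S)).ResidueField ((Q.comap (algebraMap R S)).Fiber S)) e'
  let x : (PrimeSpectrum.comap (algebraMap R S)) ⁻¹'
      {(⟨Q.comap (algebraMap R S), hp⟩ : PrimeSpectrum R)} := ⟨⟨Q, hQ⟩, rfl⟩
  let q := PrimeSpectrum.preimageEquivFiber R S ⟨Q.comap (algebraMap R S), hp⟩ x
  have hq : (q.asIdeal.comap
      (Algebra.TensorProduct.includeRight :
        S →ₐ[R] (Q.comap (algebraMap R S)).Fiber S)) = Q := by
    have h1 := (PrimeSpectrum.preimageEquivFiber R S ⟨Q.comap (algebraMap R S), hp⟩).left_inv x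
    exact congrArg (fun y => y.1.asIdeal) h1
  haveI hqprime : q.asIdeal.IsPrime := q.isPrime
  haveI hr : (q.asIdeal.comap
      (Algebra.TensorProduct.includeRight :
        S →ₐ[R] (Q.comap (algebraMap R S)).Fiber S)).IsPrime := inferInstance
  haveI : (q.asIdeal.comap
      (Algebra.TensorProduct.includeRight :
        S →ₐ[R] (Q.comap (algebraMap R S)).Fiber S)).LiesOver (Q.comap (algebraMap R S)) :=
    ⟨by rw [hq]⟩
  letI := Localization.AtPrime.algebraOfLiesOver (Q.comap (algebraMap R S))
    (q.asIdeal.comap (Algebra.TensorProduct.includeRight :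
        S →ₐ[R] (Q.comap (algebraMap R S)).Fiber S))
  haveI : IsLocalHom (algebraMap (Localization.AtPrime (Q.comap (algebraMap R S)))
      (Localization.AtPrime (q.asIdeal.comap (Algebra.TensorProduct.includeRight :
        S →ₐ[R] (Q.comap (algebraMap R S)).Fiber S)))) :=
    Localization.isLocalHom_localRingHom _ _ _ _
  let e := Ideal.Fiber.localizationAlgEquivQuotient (Q.comap (algebraMap R S)) q.asIdeal
  haveI : IsRegularLocalRing (Localization.AtPrime q.asIdeal) := inferInstance
  haveI : IsRegularLocalRing
      (Localization.AtPrime (q.asIdeal.comap (Algebra.TensorProduct.includeRight :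
        S →ₐ[R] (Q.comap (algebraMap R S)).Fiber S)) ⧸
        (Q.comap (algebraMap R S)).map (algebraMap R
          (Localization.AtPrime (q.asIdeal.comap (Algebra.TensorProduct.includeRight :
            S →ₐ[R] (Q.comap (algebraMap R S)).Fiber S))))) :=
    IsRegularLocalRing.of_ringEquiv (R := Localization.AtPrime q.asIdeal) (show Localization.AtPrime q.asIdeal ≃+*
      (Localization.AtPrime (q.asIdeal.comap (Algebra.TensorProduct.includeRight :
        S →ₐ[R] (Q.comap (algebraMap R S)).Fiber S)) ⧸
        (Q.comap (algebraMap R S)).map (algebraMap R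
          (Localization.AtPrime (q.asIdeal.comap (Algebra.TensorProduct.includeRight :
            S →ₐ[R] (Q.comap (algebraMap R S)).Fiber S))))) from e.toRingEquiv)
  have hI : (Q.comap (algebraMap R S)).map (algebraMap R
      (Localization.AtPrime (q.asIdeal.comap (Algebra.TensorProduct.includeRight :
        S →ₐ[R] (Q.comap (algebraMap R S)).Fiber S)))) =
      (IsLocalRing.maximalIdeal (Localization.AtPrime (Q.comap (algebraMap R S)))).map
        (algebraMap (Localization.AtPrime (Q.comap (algebraMap R S)))
          (Localization.AtPrime (q.asIdeal.comap (Algebra.TensorProduct.includeRight :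
            S →ₐ[R] (Q.comap (algebraMap R S)).Fiber S)))) := by
    rw [← Localization.AtPrime.map_eq_maximalIdeal, Ideal.map_map,
      ← IsScalarTower.algebraMap_eq]
  have hreg : IsRegularLocalRing
      (Localization.AtPrime (q.asIdeal.comap (Algebra.TensorProduct.includeRight :
        S →ₐ[R] (Q.comap (algebraMap R S)).Fiber S))) :=
    Groth.Agent.H71.FR.regular_of_flat_of_regular_fibre
      (Localization.AtPrime (Q.comap (algebraMap R S))) _ _ hI
  exact Groth.Agent.H71.RKL.regular_congr hq hreg

end Groth.Agent.S9250
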