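import Mathlib
import Groth.Statements.S5807

set_option autoImplicit false
universe u
open EGA41

namespace Groth.Agent.S5807

theorem isRegularRing_localization (R' : Type u) [CommRing R'] [IsRegularRing R']
    (T : Submonoid R') : IsRegularRing (Localization T) := by
  haveI : IsNoetherianRing (Localization T) :=
    IsLocalization.isNoetherianRing T (Localization T) inferInstance
  rw [isRegularRing_iff]
  intro p hp
  exact IsRegularLocalRing.of_ringEquiv
    (IsLocalization.localizationLocalizationAtPrimeIsoLocalization T p).toRingEquiv


/-- Let A be a Noetherian ring which is a quotient of a regular ring B, and C an A-algebra of finite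
type. Then every ring of fractions of C is a quotient of a regular ring. -/
theorem result (B A C : Type u) [CommRing B]
    [IsRegularRing B] [CommRing A] (π : B →+* A) (hπ : Function.Surjective π) [CommRing C] [Algebra A C]
    [Algebra.FiniteType A C] (S : Submonoid C) :
    ∃ (R : Type u) (_ : CommRing R) (_ : IsRegularRing R) (f : R →+* Localization S),
      Function.Surjective f := by
  classical
  obtain ⟨n, f, hf⟩ := Algebra.FiniteType.iff_quotient_mvPolynomial''.1
    (inferInstance : Algebra.FiniteType A C)
  let ψ : MvPolynomial (Fin n) B →+* C := f.toRingHom.comp (MvPolynomial.map π)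
  have hψ : Function.Surjective ψ := hf.comp (MvPolynomial.map_surjective π hπ)
  let T : Submonoid (MvPolynomial (Fin n) B) := S.comap ψ
  haveI : IsRegularRing (MvPolynomial (Fin n) B) := inferInstance
  haveI := isRegularRing_localization (MvPolynomial (Fin n) B) T
  let g : Localization T →+* Localization S :=
    IsLocalization.map (Localization S) ψ (show T ≤ S.comap ψ from le_rfl)
  refine ⟨Localization T, inferInstance, inferInstance, g, ?_⟩
  intro z
  obtain ⟨⟨c, s⟩, rfl⟩ := IsLocalization.mk'_surjective S z
  obtain ⟨c', rfl⟩ := hψ c
  obtain ⟨s', hs'⟩ := hψ (s : C)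
  have hs'T : s' ∈ T := by
    show ψ s' ∈ S
    rw [hs']; exact s.2
  refine ⟨IsLocalization.mk' (Localization T) c' ⟨s', hs'T⟩, ?_⟩
  rw [IsLocalization.map_mk']
  congr 1
  exact Subtype.ext hs' 

end Groth.Agent.S5807
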