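import Groth.Statements.S4705
import Groth.Agent.H25.GeomRedFib
import Groth.Agent.H23.RegularLocal
import Groth.Agent.H87.ComplFlat
import Groth.Agent.Lead.CompleteNoetherian
set_option maxHeartbeats 400000
set_option linter.style.haveILetI false

set_option autoImplicit false
universe u
open EGA4

namespace Groth.Agent.S4705

open IsLocalRing TensorProduct

theorem isReduced_of_isRegularRing (R : Type u) [CommRing R] [IsRegularRing R] : IsReduced R := by
  apply isReduced_ofLocalizationMaximal
  intro m hm
  haveI := hm
  haveI : IsRegularLocalRing (Localization.AtPrime m) :=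
    IsRegularRing.isRegularLocalRing_localization m
  haveI := Groth.Agent.H23.isDomain_of_isRegularLocalRing (Localization.AtPrime m)
  infer_instance

theorem geomReduced_fiber_of_isRegularHom {R S : Type u} [CommRing R] [CommRing S] [Algebra R S]
    (h : CAlg.IsRegularHom R S) (q : Ideal R) [q.IsPrime] :
    Algebra.IsGeometricallyReduced q.ResidueField (q.Fiber S) := by
  obtain ⟨_, hreg⟩ := h.2 q
  have h2 := (Groth.Agent.H25.GeomRed.tfae_geometricallyReduced (k := q.ResidueField)
    (S := q.Fiber S)).out 0 1
  apply h2.mp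
  intro K _ _ hfin _
  haveI := hreg K hfin
  exact isReduced_of_isRegularRing _

/-- The completion of a flat local homomorphism, as a faithfully flat algebra. -/
theorem exists_cplAlgebra (A A' : Type u) [CommRing A] [CommRing A'] [IsNoetherianRing A]
    [IsNoetherianRing A'] [IsLocalRing A] [IsLocalRing A'] [Algebra A A']
    [IsLocalHom (algebraMap A A')] [Module.Flat A A'] :
    ∃ (_ : Algebra (EGA4.Cpl A) (EGA4.Cpl A')), IsScalarTower A (EGA4.Cpl A) (EGA4.Cpl A') ∧
      Module.FaithfullyFlat (EGA4.Cpl A) (EGA4.Cpl A') := by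
  have hle : (maximalIdeal A).map (algebraMap A A') ≤ maximalIdeal A' :=
    IsLocalRing.map_maximalIdeal_le (algebraMap A A')
  haveI : IsNoetherianRing (EGA4.Cpl A) :=
    Groth.Agent.Lead.isNoetherianRing_adicCompletion (maximalIdeal A)
      (maximalIdeal A).fg_of_isNoetherianRing
  haveI : IsNoetherianRing (EGA4.Cpl A') :=
    Groth.Agent.Lead.isNoetherianRing_adicCompletion (maximalIdeal A')
      (maximalIdeal A').fg_of_isNoetherianRing
  have hg : ∀ a : A, FSch.complMap (maximalIdeal A) (maximalIdeal A') (algebraMap A A') hle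
      (algebraMap A (EGA4.Cpl A) a) = algebraMap A' (EGA4.Cpl A') (algebraMap A A' a) :=
    fun a => Groth.Agent.H87.ComplFlat.complMap_algebraMap _ _ _ hle a
  have hgflat : (FSch.complMap (maximalIdeal A) (maximalIdeal A') (algebraMap A A') hle).Flat :=
    Groth.Agent.H87.ComplFlat.complMap_flat (maximalIdeal A) (maximalIdeal A') (algebraMap A A')
      (RingHom.flat_algebraMap_iff.mpr inferInstance) hle
  have hcomp : (FSch.complMap (maximalIdeal A) (maximalIdeal A') (algebraMap A A') hle).comp
      (algebraMap A (EGA4.Cpl A)) = (algebraMap A' (EGA4.Cpl A')).comp (algebraMap A A') :=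
    RingHom.ext hg
  haveI hloc : IsLocalHom (FSch.complMap (maximalIdeal A) (maximalIdeal A') (algebraMap A A') hle) := by
    apply ((IsLocalRing.local_hom_TFAE _).out 0 2 rfl rfl).mpr
    rw [AdicCompletion.maximalIdeal_eq_map (R := A), Ideal.map_map, hcomp, ← Ideal.map_map,
      AdicCompletion.maximalIdeal_eq_map (R := A')]
    exact Ideal.map_mono hle
  letI alg : Algebra (EGA4.Cpl A) (EGA4.Cpl A') :=
    (FSch.complMap (maximalIdeal A) (maximalIdeal A') (algebraMap A A') hle).toAlgebra
  haveI : IsScalarTower A (EGA4.Cpl A) (EGA4.Cpl A') :=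
    IsScalarTower.of_algebraMap_eq (fun a => (hg a).symm)
  haveI : Module.Flat (EGA4.Cpl A) (EGA4.Cpl A') := hgflat
  haveI : IsLocalHom (algebraMap (EGA4.Cpl A) (EGA4.Cpl A')) := hloc
  exact ⟨alg, inferInstance, Module.FaithfullyFlat.of_flat_of_isLocalHom⟩

/-- Let A → A' be a flat local homomorphism of Noetherian local rings all of whose fibre rings k(p) ⊗_A
A' are geometrically reduced over k(p). If the completion map of A' is regular (the formal fibres of
A' are geometrically regular), then the formal fibres of A are geometrically reduced. -/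
theorem result (A A' : Type u) [CommRing A] [CommRing A']
    [IsNoetherianRing A] [IsNoetherianRing A'] [IsLocalRing A] [IsLocalRing A'] [Algebra A A']
    [IsLocalHom (algebraMap A A')] [Module.Flat A A']
    (hf : ∀ (p : Ideal A) [p.IsPrime], Algebra.IsGeometricallyReduced p.ResidueField (p.Fiber A'))
    (hA' : CAlg.IsRegularHom A' (EGA4.Cpl A')) : EGA4.HasGeomReducedFormalFibres A := by
  obtain ⟨alg, htower, hff⟩ := exists_cplAlgebra A A'
  letI := alg
  haveI := htower
  haveI := hff
  haveI : IsNoetherianRing (EGA4.Cpl A) :=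
    Groth.Agent.Lead.isNoetherianRing_adicCompletion (maximalIdeal A)
      (maximalIdeal A).fg_of_isNoetherianRing
  haveI : IsNoetherianRing (EGA4.Cpl A') :=
    Groth.Agent.Lead.isNoetherianRing_adicCompletion (maximalIdeal A')
      (maximalIdeal A').fg_of_isNoetherianRing
  haveI : IsScalarTower A A' (EGA4.Cpl A') := IsScalarTower.of_algebraMap_eq (fun _ => rfl)
  haveI : Module.Flat A' (EGA4.Cpl A') := hA'.1
  obtain ⟨hflat, hAC⟩ := Groth.Agent.H25.GeomRedFib.geomReducedFibres_comp A A' (EGA4.Cpl A') hf
    (fun q _ => geomReduced_fiber_of_isRegularHom hA' q)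
  haveI := hflat
  exact (Groth.Agent.H25.GeomRedFib.geomReducedFibres_of_comp_of_faithfullyFlat A (EGA4.Cpl A)
    (EGA4.Cpl A') hAC).2

end Groth.Agent.S4705
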