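import Groth.Statements.S4706
import Groth.Agent.H29.HomComp
import Groth.Agent.S4705
import Groth.Agent.S19858
import Groth.Agent.H63.SmoothNormal

set_option maxHeartbeats 400000
set_option linter.style.haveILetI false

set_option autoImplicit false
universe u
open EGA4

namespace Groth.Agent.S4706

/-- Let A → A' be a local homomorphism of Noetherian local rings which is normal (flat, with
geometrically normal fibres). If the completion map of A' is regular (the formal fibres of A' are
geometrically regular), then the formal fibres of A are geometrically normal. -/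
theorem result (A A' : Type u) [CommRing A] [CommRing A']
    [IsNoetherianRing A] [IsNoetherianRing A'] [IsLocalRing A] [IsLocalRing A'] [Algebra A A']
    [IsLocalHom (algebraMap A A')] (hf : EGA4.IsNormalHom A A') (hA' : CAlg.IsRegularHom A' (EGA4.Cpl A')) :
    EGA4.HasGeomNormalFormalFibres A := by
  haveI : Module.Flat A A' := hf.1
  obtain ⟨alg, htower, hff⟩ := Groth.Agent.S4705.exists_cplAlgebra A A'
  letI := alg
  haveI := htower
  haveI := hff
  haveI : IsNoetherianRing (EGA4.Cpl A) :=
    Groth.Agent.Lead.isNoetherianRing_adicCompletion (IsLocalRing.maximalIdeal A)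
      (IsLocalRing.maximalIdeal A).fg_of_isNoetherianRing
  haveI : IsNoetherianRing (EGA4.Cpl A') :=
    Groth.Agent.Lead.isNoetherianRing_adicCompletion (IsLocalRing.maximalIdeal A')
      (IsLocalRing.maximalIdeal A').fg_of_isNoetherianRing
  haveI : IsScalarTower A A' (EGA4.Cpl A') := IsScalarTower.of_algebraMap_eq (fun _ => rfl)
  have hA'n : EGA4.IsNormalHom A' (EGA4.Cpl A') := by
    refine ⟨hA'.1, fun q _ K _ _ hfin => ?_⟩
    haveI := (hA'.2 q).2 K hfin
    exact Groth.Agent.H63.SmoothRegular.isNormalRing_of_isRegularRing _
  have hAC : EGA4.IsNormalHom A (EGA4.Cpl A') :=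
    Groth.Agent.H29.HomComp.isNormalHom_comp A A' (EGA4.Cpl A') hf hA'n
  have h := Groth.Agent.S19858.result A (EGA4.Cpl A) (EGA4.Cpl A') hAC
  exact fun p _ => h.2 p

end Groth.Agent.S4706
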