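import Groth.Statements.S0602
import Groth.Agent.H15.DepthLoc
import Mathlib.RingTheory.LocalProperties.Reduced

set_option autoImplicit false
universe u
open CAlg

namespace Groth.Agent.S0602

open Groth.Agent.H15.Depth IsLocalRing

section Lib

variable {R : Type u} [CommRing R]

/-- The localized module of the ring itself is the localization. -/
noncomputable def locSelfEquiv (S : Submonoid R) :
    LocalizedModule S R ≃ₗ[Localization S] Localization S :=
  (LocalizedModule.isBaseChange S R).equiv.symm ≪≫ₗ
    TensorProduct.AlgebraTensorModule.rid R (Localization S) (Localization S)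

theorem supportDim_locSelf (P : Ideal R) [P.IsPrime] :
    Module.supportDim (Localization.AtPrime P) (LocalizedModule P.primeCompl R) =
      ((P.height : ℕ∞) : WithBot ℕ∞) := by
  rw [Module.supportDim_eq_of_equiv (locSelfEquiv P.primeCompl),
    Module.supportDim_self_eq_ringKrullDim,
    IsLocalization.AtPrime.ringKrullDim_eq_height P (Localization.AtPrime P)]

theorem smul_top_ne_top_of_equiv (A : Type u) [CommRing A] [IsLocalRing A] (N : Type u)
    [AddCommGroup N] [Module A N] (e : N ≃ₗ[A] A) :
    maximalIdeal A • (⊤ : Submodule A N) ≠ ⊤ := by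
  intro h
  have h1 : e.symm 1 ∈ maximalIdeal A • (⊤ : Submodule A N) := by rw [h]; trivial
  have h2 : e (e.symm 1) ∈ (maximalIdeal A • (⊤ : Submodule A N)).map e.toLinearMap :=
    Submodule.mem_map_of_mem h1
  rw [Submodule.map_smul'', Submodule.map_top, LinearEquiv.range, Ideal.smul_eq_mul, Ideal.mul_top,
    LinearEquiv.apply_symm_apply] at h2
  exact (Ideal.ne_top_iff_one _).mp (maximalIdeal.isMaximal A).ne_top h2

/-- In a reduced local ring with a socle element, the maximal ideal vanishes. -/
theorem maximalIdeal_eq_bot_of_hasSocle (A : Type u) [CommRing A] [IsLocalRing A] [IsReduced A]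
    (h : HasSocle (maximalIdeal A) A) : maximalIdeal A = ⊥ := by
  obtain ⟨m, hm, hI⟩ := h
  have hmu : IsUnit m := by
    by_contra hnu
    have hmm : m ∈ maximalIdeal A := (mem_maximalIdeal m).mpr hnu
    have h2 := hI m hmm
    rw [smul_eq_mul] at h2
    have h3 : IsNilpotent m := ⟨2, by rw [sq, h2]⟩
    exact hm h3.eq_zero
  rw [eq_bot_iff]
  intro a ha
  have h2 := hI a ha
  rw [smul_eq_mul] at h2
  rw [Ideal.mem_bot]
  exact (hmu.mul_left_eq_zero).mp h2

end Lib


/-- A Noetherian ring is reduced exactly when it satisfies the conditions R₀ and S₁. -/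
theorem result (R : Type u) [CommRing R] [IsNoetherianRing R] :
    IsReduced R ↔ (LocCoh.HasRk 0 R ∧ LocCoh.HasSk 1 R R) := by
  constructor
  · intro hred
    refine ⟨?_, ?_⟩
    · -- R0
      intro P hP hht
      have hdim : ringKrullDim (Localization.AtPrime P) ≤ ((0 : ℕ) : WithBot ℕ∞) := by
        rw [IsLocalization.AtPrime.ringKrullDim_eq_height P (Localization.AtPrime P)]
        exact_mod_cast hht
      have : Ring.KrullDimLE 0 (Localization.AtPrime P) := Ring.krullDimLE_iff.mpr hdim
      have hfield : IsField (Localization.AtPrime P) := Ring.KrullDimLE.isField_of_isReduced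
      have hmax : maximalIdeal (Localization.AtPrime P) = ⊥ :=
        (IsLocalRing.isField_iff_maximalIdeal_eq).mp hfield
      apply IsRegularLocalRing.of_spanFinrank_maximalIdeal_le
      rw [hmax]
      have h0 : (⊥ : Ideal (Localization.AtPrime P)).spanFinrank = 0 := Submodule.spanFinrank_bot
      rw [h0]
      exact_mod_cast ringKrullDim_nonneg_of_nontrivial
    · -- S1
      intro P hP
      rw [supportDim_locSelf]
      have : Module.Finite (Localization.AtPrime P) (LocalizedModule P.primeCompl R) :=
        Module.Finite.equiv (locSelfEquiv P.primeCompl).symm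
      rcases exists_regular_or_hasSocle (I := maximalIdeal (Localization.AtPrime P))
        (LocalizedModule P.primeCompl R) with ⟨x, hx, hreg⟩ | hsoc
      · have hseq : HasSeq (maximalIdeal (Localization.AtPrime P))
            (LocalizedModule P.primeCompl R) 1 :=
          hasSeq_succ_iff.mpr ⟨x, hx, hreg, hasSeq_zero⟩
        have h1 := le_idealDepth_of_hasSeq hseq
        refine le_trans (min_le_left _ _) ?_
        have h2 : ((1 : ℕ) : ℕ∞) ≤ LocCoh.depth (Localization.AtPrime P)
            (LocalizedModule P.primeCompl R) := h1
        exact_mod_cast h2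
      · have hsoc' : HasSocle (maximalIdeal (Localization.AtPrime P)) (Localization.AtPrime P) :=
          hsoc.congr (locSelfEquiv P.primeCompl)
        have hmax := maximalIdeal_eq_bot_of_hasSocle _ hsoc'
        have hfield : IsField (Localization.AtPrime P) :=
          (IsLocalRing.isField_iff_maximalIdeal_eq).mpr hmax
        have hdim := ringKrullDim_eq_zero_of_isField hfield
        rw [IsLocalization.AtPrime.ringKrullDim_eq_height P (Localization.AtPrime P)] at hdim
        refine le_trans (min_le_right _ _) ?_
        rw [hdim]
        exact_mod_cast zero_le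
  · rintro ⟨h0, h1⟩
    constructor
    intro x hx
    by_contra hne
    obtain ⟨P, hP, hle⟩ := exists_le_isAssociatedPrime_of_isNoetherianRing R x hne
    obtain ⟨hPp, y, hy⟩ := isAssociatedPrime_iff.mp hP
    have := hPp
    have hsoc := hasSocle_localization_of_eq_colon P R y hy
    have hIM := smul_top_ne_top_of_equiv (Localization.AtPrime P)
      (LocalizedModule P.primeCompl R) (locSelfEquiv P.primeCompl)
    have hdepth : ¬ ((1 : ℕ) : ℕ∞) ≤ LocCoh.depth (Localization.AtPrime P)
        (LocalizedModule P.primeCompl R) := by
      intro hle1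
      have hseq := (le_idealDepth_iff hIM 1).mp hle1
      obtain ⟨a, ha, hreg, -⟩ := hasSeq_succ_iff.mp hseq
      exact hsoc.not_regular ha hreg
    have hS := h1 P
    rw [supportDim_locSelf] at hS
    have hht : P.height ≤ ((0 : ℕ) : ℕ∞) := by
      by_contra hcon
      have hpos : (1 : ℕ∞) ≤ P.height := by
        rw [Order.one_le_iff_ne_zero]
        intro h0'
        apply hcon
        rw [h0']
        exact le_rfl
      apply hdepth
      have h3 : min ((1 : ℕ) : WithBot ℕ∞) ((P.height : ℕ∞) : WithBot ℕ∞) = ((1 : ℕ) : WithBot ℕ∞) := by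
        apply min_eq_left
        exact_mod_cast hpos
      rw [h3] at hS
      exact_mod_cast hS
    have hreg := h0 P hht
    have hdim : ringKrullDim (Localization.AtPrime P) = ((0 : ℕ) : WithBot ℕ∞) := by
      rw [IsLocalization.AtPrime.ringKrullDim_eq_height P (Localization.AtPrime P)]
      have : P.height = 0 := le_antisymm (by exact_mod_cast hht) zero_le
      rw [this]
      rfl
    have hspan := hreg.spanFinrank_maximalIdeal
    rw [hdim] at hspan
    have hspan' : (maximalIdeal (Localization.AtPrime P)).spanFinrank = 0 := by exact_mod_cast hspan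
    have hmax : maximalIdeal (Localization.AtPrime P) = ⊥ :=
      (Submodule.spanFinrank_eq_zero_iff_eq_bot
        (IsNoetherian.noetherian (maximalIdeal (Localization.AtPrime P)))).mp hspan'
    have hx1 : algebraMap R (Localization.AtPrime P) x = 0 := by
      have hmem : algebraMap R (Localization.AtPrime P) x ∈
          maximalIdeal (Localization.AtPrime P) := by
        obtain ⟨n, hn⟩ := hx.map (algebraMap R (Localization.AtPrime P))
        exact (maximalIdeal.isMaximal _).isPrime.mem_of_pow_mem n (hn ▸ zero_mem _)
      rwa [hmax, Ideal.mem_bot] at hmem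
    obtain ⟨s, hs⟩ := (IsLocalization.map_eq_zero_iff P.primeCompl (Localization.AtPrime P) x).mp hx1
    apply s.2
    apply hle
    rw [Submodule.mem_colon_singleton, Submodule.mem_bot]
    exact hs

end Groth.Agent.S0602
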