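import Groth.Statements.S0555
import Groth.Agent.H71.DimFormula

set_option autoImplicit false
universe u
open CAlg

namespace Groth.Agent.S0555

/-- In the situation of the dimension formula, if the Noetherian base ring is universally catenary then
equality holds. -/
theorem result (R : Type u) [CommRing R] [IsDomain R]
    (hR : CAlg.IsUniversallyCatenary R) (S : Type u) [CommRing S] [IsDomain S] [Algebra R S]
    [FaithfulSMul R S] [Algebra.FiniteType R S] (p : Ideal R) [p.IsPrime] (q : Ideal S) [q.IsPrime]
    [q.LiesOver p] :
    (q.height : Cardinal.{u}) + Algebra.trdeg (R ⧸ p) (S ⧸ q) =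
      (p.height : Cardinal.{u}) + Algebra.trdeg R S := by
  haveI : IsNoetherianRing R := hR.1
  obtain ⟨s, hs⟩ := (‹Algebra.FiniteType R S›).out
  exact (Groth.Agent.H71.DimFormula.main s R hs p q).2 hR

end Groth.Agent.S0555
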