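import Groth.Statements.S17441
import Mathlib

set_option autoImplicit false
universe u
open CategoryTheory AlgebraicGeometry
open DefoSh

namespace Groth.Agent.S17441

set_option linter.style.haveILetI false
set_option linter.unusedSectionVars false
set_option linter.unusedVariables false

open CategoryTheory.Limits TopologicalSpace

section alg

variable {A : Type u} [CommRing A] {M M' : Type u} [AddCommGroup M] [Module A M]
  [AddCommGroup M'] [Module A M']

/-- surjectivity from surjectivity modulo a nilpotent ideal. -/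
theorem surj_of_nilpotent (m : Ideal A) (n : ℕ) (hm : m ^ n = ⊥) (φ : M →ₗ[A] M')
    (h1 : ∀ v' : M', ∃ v : M, v' - φ v ∈ m • (⊤ : Submodule A M')) :
    Function.Surjective φ := by
  have h0 : (⊤ : Submodule A M') ≤ LinearMap.range φ ⊔ m • ⊤ := by
    intro v' _
    obtain ⟨v, hv⟩ := h1 v'
    have : v' = φ v + (v' - φ v) := by abel
    rw [this]
    exact Submodule.add_mem_sup ⟨v, rfl⟩ hv
  have key : ∀ j : ℕ, (⊤ : Submodule A M') ≤ LinearMap.range φ ⊔ m ^ j • ⊤ := by
    intro j
    induction j with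
    | zero => rw [pow_zero, Ideal.one_eq_top, Submodule.top_smul]; exact le_sup_right
    | succ j ih =>
      refine ih.trans (sup_le le_sup_left ?_)
      calc m ^ j • (⊤ : Submodule A M') ≤ m ^ j • (LinearMap.range φ ⊔ m • ⊤) :=
            Submodule.smul_mono le_rfl h0
        _ = m ^ j • LinearMap.range φ ⊔ m ^ j • (m • ⊤) := Submodule.smul_sup _ _ _
        _ ≤ LinearMap.range φ ⊔ m ^ (j + 1) • ⊤ := by
            refine sup_le_sup Submodule.smul_le_right ?_
            rw [← Submodule.mul_smul, ← pow_succ]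
  have := key n
  rw [hm, Submodule.bot_smul, sup_bot_eq] at this
  exact LinearMap.range_eq_top.mp (top_le_iff.mp this)

/-- for a surjection onto a flat module, `K ∩ IM ≤ IK`. -/
theorem ker_inf_smul_le [Module.Flat A M'] (I : Ideal A) (φ : M →ₗ[A] M')
    (hφ : Function.Surjective φ) :
    LinearMap.ker φ ⊓ I • (⊤ : Submodule A M) ≤ I • LinearMap.ker φ := by
  classical
  rintro v ⟨hvK, hvI⟩
  have hvI' : v ∈ I • Submodule.span A (Set.range (id : M → M)) := by
    rw [Set.range_id, Submodule.span_univ]; exact hvI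
  obtain ⟨c, hcI, hcv⟩ := (Submodule.mem_ideal_smul_span_iff_exists_sum I (id : M → M) v).mp hvI'
  -- a finite relation
  let s := c.support
  have hv : v = ∑ i : s, c i.1 • (i.1 : M) := by
    rw [← hcv, Finsupp.sum, ← Finset.sum_coe_sort]
    rfl
  have hrel : ∑ i : s, c i.1 • φ (i.1 : M) = 0 := by
    have := LinearMap.mem_ker.mp hvK
    rw [hv, map_sum] at this
    simpa only [map_smul] using this
  obtain ⟨k, b, y, hy, hb⟩ := Module.Flat.isTrivialRelation_of_sum_smul_eq_zero hrel
  choose u hu using fun j => hφ (y j)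
  let κ : s → M := fun i => (i.1 : M) - ∑ j, b i j • u j
  have hκ : ∀ i, κ i ∈ LinearMap.ker φ := by
    intro i
    rw [LinearMap.mem_ker]
    simp only [κ, map_sub, map_sum, map_smul, hu]
    have := hy i
    simp only at this
    rw [this, sub_self]
  have hsum : v = ∑ i : s, c i.1 • κ i := by
    have h2 : ∑ i : s, c i.1 • ∑ j, b i j • u j = 0 := by
      simp_rw [Finset.smul_sum, smul_smul]
      rw [Finset.sum_comm]
      refine Finset.sum_eq_zero (fun j _ => ?_)
      have := hb j
      simp only at this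
      rw [← Finset.sum_smul, this, zero_smul]
    simp only [κ, smul_sub]
    rw [Finset.sum_sub_distrib, h2, sub_zero, ← hv]
  rw [hsum]
  exact Submodule.sum_mem _ (fun i _ => Submodule.smul_mem_smul (hcI i.1) (hκ i))

/-- bijectivity of a map onto a flat module from bijectivity modulo a nilpotent ideal. -/
theorem bij_of_nilpotent [Module.Flat A M'] (m : Ideal A) (n : ℕ) (hm : m ^ n = ⊥)
    (φ : M →ₗ[A] M')
    (h1 : ∀ v' : M', ∃ v : M, v' - φ v ∈ m • (⊤ : Submodule A M'))
    (h2 : ∀ v : M, φ v ∈ m • (⊤ : Submodule A M') → v ∈ m • (⊤ : Submodule A M)) :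
    Function.Bijective φ := by
  have hs := surj_of_nilpotent m n hm φ h1
  refine ⟨?_, hs⟩
  have hK : LinearMap.ker φ ≤ m • (⊤ : Submodule A M) := by
    intro v hv
    apply h2
    rw [LinearMap.mem_ker.mp hv]
    exact Submodule.zero_mem _
  have hK1 : LinearMap.ker φ ≤ m • LinearMap.ker φ :=
    (le_inf le_rfl hK).trans (ker_inf_smul_le m φ hs)
  have key : ∀ j : ℕ, LinearMap.ker φ ≤ m ^ j • LinearMap.ker φ := by
    intro j
    induction j with
    | zero => rw [pow_zero, Ideal.one_eq_top, Submodule.top_smul]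
    | succ j ih =>
      calc LinearMap.ker φ ≤ m ^ j • LinearMap.ker φ := ih
        _ ≤ m ^ j • (m • LinearMap.ker φ) := Submodule.smul_mono le_rfl hK1
        _ = m ^ (j + 1) • LinearMap.ker φ := by rw [← Submodule.mul_smul, ← pow_succ]
  have := key n
  rw [hm, Submodule.bot_smul, le_bot_iff] at this
  exact LinearMap.ker_eq_bot.mp this

end alg

section sheaf

theorem isIso_of_stalks' {X : Scheme.{u}} {M N : X.Modules} (φ : M ⟶ N)
    (h : ∀ x : X, Function.Bijective (RefHull.stalkMapₗ φ x)) : IsIso φ := by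
  let F : TopCat.Sheaf Ab.{u} X := ⟨M.presheaf, M.isSheaf⟩
  let G : TopCat.Sheaf Ab.{u} X := ⟨N.presheaf, N.isSheaf⟩
  let f : F ⟶ G := ⟨(Scheme.Modules.toPresheaf X).map φ⟩
  haveI : ∀ x : X, IsIso ((TopCat.Presheaf.stalkFunctor Ab.{u} x).map f.1) := fun x => by
    rw [ConcreteCategory.isIso_iff_bijective]
    exact h x
  haveI : IsIso f := TopCat.Presheaf.isIso_of_stalkFunctor_map_iso f
  haveI : IsIso ((Scheme.Modules.toPresheaf X).map φ) :=
    inferInstanceAs (IsIso ((TopCat.Sheaf.forget Ab.{u} X).map f))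
  exact isIso_of_reflects_iso φ (Scheme.Modules.toPresheaf X)

end sheaf

/-- Let k be a field, X a scheme over k, E an O_X-module and A a local Artinian k-algebra with residue
field k. If D and D′ are deformations of E over A (O_X-modules with an action of A, flat over A
stalkwise, with reductions π, π′ to E whose stalkwise kernels are m_A times the stalk), then every
O_X-linear map φ : D.sheaf → D′.sheaf that commutes with the actions of A and satisfies φ ≫ π′ = π
is an isomorphism. The printed remark is the first-order case A = k[ε]; this row states it for every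
local Artinian k-algebra A with residue field k. -/
theorem result (k : Type u) [Field k] (X : Scheme.{u})
    [X.Over (Spec (CommRingCat.of k))] (E : X.Modules) (A : ArtFun.Art k k)
    (D D' : DefoSh.Defo E A) (φ : D.sheaf ⟶ D'.sheaf)
    (hact : ∀ a : A, D.act a ≫ φ = φ ≫ D'.act a) (hπ : φ ≫ D'.π = D.π) :
    IsIso φ := by
  classical
  apply isIso_of_stalks'
  intro p
  letI iM : Module A ↑(D.sheaf.presheaf.stalk p) := D.stalkMod p
  letI iM' : Module A ↑(D'.sheaf.presheaf.stalk p) := D'.stalkMod p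
  haveI : Module.Flat A ↑(D'.sheaf.presheaf.stalk p) := D'.flat p
  let ψ : ↑(D.sheaf.presheaf.stalk p) →ₗ[A] ↑(D'.sheaf.presheaf.stalk p) :=
    { toFun := RefHull.stalkMapₗ φ p
      map_add' := map_add _
      map_smul' := fun a v => by
        show RefHull.stalkMapₗ φ p (RefHull.stalkMapₗ (D.act a) p v) =
          RefHull.stalkMapₗ (D'.act a) p (RefHull.stalkMapₗ φ p v)
        rw [← stalkMapₗ_comp_apply, ← stalkMapₗ_comp_apply, hact a] }
  obtain ⟨n, hn⟩ : ∃ n, (IsLocalRing.maximalIdeal A) ^ n = ⊥ := by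
    have := IsArtinianRing.isNilpotent_jacobson_bot (R := A)
    rw [IsLocalRing.jacobson_eq_maximalIdeal ⊥ bot_ne_top] at this
    exact this
  have hres : ∀ a ∈ IsLocalRing.maximalIdeal A, A.res a = 0 := by
    intro a ha
    have hmax : (RingHom.ker A.res.toRingHom).IsMaximal :=
      RingHom.ker_isMaximal_of_surjective _ A.res_surjective
    have := IsLocalRing.eq_maximalIdeal hmax
    have ha' : a ∈ RingHom.ker A.res.toRingHom := by rw [this]; exact ha
    exact RingHom.mem_ker.mp ha'
  have hkill : ∀ (D₀ : DefoSh.Defo E A) (w : ↑(D₀.sheaf.presheaf.stalk p)),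
      (letI := D₀.stalkMod p
       w ∈ IsLocalRing.maximalIdeal A • (⊤ : Submodule A ↑(D₀.sheaf.presheaf.stalk p))) →
      RefHull.stalkMapₗ D₀.π p w = 0 := by
    intro D₀ w hw
    letI := D₀.stalkMod p
    refine Submodule.smul_induction_on hw ?_ ?_
    · intro a ha v _
      show RefHull.stalkMapₗ D₀.π p (RefHull.stalkMapₗ (D₀.act a) p v) = 0
      rw [← stalkMapₗ_comp_apply, D₀.act_π a (hres a ha), stalkMapₗ_zero_apply]
    · intro x y hx hy
      rw [map_add, hx, hy, add_zero]
  have h1 : ∀ v' : ↑(D'.sheaf.presheaf.stalk p), ∃ v : ↑(D.sheaf.presheaf.stalk p),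
      v' - ψ v ∈ IsLocalRing.maximalIdeal A • (⊤ : Submodule A ↑(D'.sheaf.presheaf.stalk p)) := by
    intro v'
    obtain ⟨v, hv⟩ := D.surj p (RefHull.stalkMapₗ D'.π p v')
    refine ⟨v, D'.ker_le p _ ?_⟩
    show RefHull.stalkMapₗ D'.π p (v' - RefHull.stalkMapₗ φ p v) = 0
    rw [map_sub, ← stalkMapₗ_comp_apply, hπ, hv, sub_self]
  have h2 : ∀ v : ↑(D.sheaf.presheaf.stalk p),
      ψ v ∈ IsLocalRing.maximalIdeal A • (⊤ : Submodule A ↑(D'.sheaf.presheaf.stalk p)) →
      v ∈ IsLocalRing.maximalIdeal A • (⊤ : Submodule A ↑(D.sheaf.presheaf.stalk p)) := by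
    intro v hv
    apply D.ker_le p
    rw [← hπ, stalkMapₗ_comp_apply]
    exact hkill D' _ hv
  exact bij_of_nilpotent (IsLocalRing.maximalIdeal A) n hn ψ h1 h2

end Groth.Agent.S17441
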