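import Groth.Statements.S17440
import Mathlib
import Groth.Agent.S17441
import Groth.Agent.H16.DefoLocA
import Groth.Agent.H17.DefoLocP3
import Groth.Agent.H73.DefoLocP4

set_option autoImplicit false
universe u
open CategoryTheory AlgebraicGeometry
open DefoSh

namespace Groth.Agent.S17440

set_option linter.style.haveILetI false
set_option linter.unusedSectionVars false
set_option linter.unusedVariables false

open CategoryTheory.Limits TopologicalSpace Opposite

section
variable {k : Type u} [Field k]

theorem dn_decomp (a : DualNumber k) : a = algebraMap k (DualNumber k) (TrivSqZeroExt.fst a) +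
    algebraMap k (DualNumber k) (TrivSqZeroExt.snd a) * DualNumber.eps := by
  ext <;> simp [TrivSqZeroExt.algebraMap_eq_inl]

theorem dn_algHom_decomp {B : Type*} [Ring B] [Algebra k B] (φ : DualNumber k →ₐ[k] B)
    (a : DualNumber k) : φ a = algebraMap k B (TrivSqZeroExt.fst a) +
      algebraMap k B (TrivSqZeroExt.snd a) * φ DualNumber.eps := by
  conv_lhs => rw [dn_decomp a]
  rw [map_add, map_mul, AlgHom.commutes, AlgHom.commutes]

variable {X : Scheme.{u}} [X.Over (Spec (CommRingCat.of k))] {E : X.Modules}

theorem restrict_additive (U : X.Opens) : (Scheme.Modules.restrictFunctor U.ι).Additive := by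
  haveI : PreservesBinaryBiproducts (Scheme.Modules.restrictFunctor U.ι) :=
    preservesBinaryBiproducts_of_preservesBinaryCoproducts _
  exact Functor.additive_of_preservesBinaryBiproducts _

theorem algebraMap_end (M : X.Modules) (c : k) :
    (algebraMap k (End M) c : M ⟶ M) = Formal.smulMod k M c := by
  rw [Algebra.algebraMap_eq_smul_one]
  exact KLin.smul_id M c

/-- decomposition of the action of a dual number. -/
theorem act_decomp (D : DefoSh.Defo E (ArtFun.Art.dual k k)) (a : ArtFun.Art.dual k k) :
    (D.act a : D.sheaf ⟶ D.sheaf) =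
      Formal.smulMod k D.sheaf (TrivSqZeroExt.fst (show DualNumber k from a)) +
        (D.act (show ArtFun.Art.dual k k from (DualNumber.eps : DualNumber k)) : D.sheaf ⟶ D.sheaf) ≫
          Formal.smulMod k D.sheaf (TrivSqZeroExt.snd (show DualNumber k from a)) := by
  have h := dn_algHom_decomp (B := End D.sheaf) (show DualNumber k →ₐ[k] End D.sheaf from D.act)
    (show DualNumber k from a)
  refine h.trans ?_
  rw [algebraMap_end, algebraMap_end]
  rfl

theorem act_eps_sq (D : DefoSh.Defo E (ArtFun.Art.dual k k)) :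
    (D.act (show ArtFun.Art.dual k k from (DualNumber.eps : DualNumber k)) : D.sheaf ⟶ D.sheaf) ≫
      D.act (show ArtFun.Art.dual k k from (DualNumber.eps : DualNumber k)) = 0 := by
  have h : (show DualNumber k →ₐ[k] End D.sheaf from D.act)
      ((DualNumber.eps : DualNumber k) * (DualNumber.eps : DualNumber k)) = 0 := by
    rw [DualNumber.eps_mul_eps]; exact map_zero _
  rw [map_mul] at h
  exact h

theorem act_eps_π (D : DefoSh.Defo E (ArtFun.Art.dual k k)) :
    (D.act (show ArtFun.Art.dual k k from (DualNumber.eps : DualNumber k)) : D.sheaf ⟶ D.sheaf) ≫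
      D.π = 0 :=
  D.act_π _ rfl

end

/-- Let k be a field, X a scheme over k, E a finite locally free O_X-module and D a first-order
deformation of E, with reduction π : D.sheaf → E. Then D is locally trivial: every point of X has an
open neighbourhood U together with an isomorphism of O_U-modules between the restrictions to U of
D.sheaf and of E ⊕ εE which commutes with the actions of k[ε] and with the reductions to E. In
particular the deformed module is again a vector bundle over the dual numbers. -/
theorem result (k : Type u) [Field k] (X : Scheme.{u})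
    [X.Over (Spec (CommRingCat.of k))] (E : X.Modules) (hE : FlatMod.IsFinLocFree E)
    (D : DefoSh.Defo E (ArtFun.Art.dual k k)) (x : X) :
    ∃ (U : X.Opens) (e : D.sheaf.restrict U.ι ≅ (DefoSh.Defo.trivDual k E).sheaf.restrict U.ι), x ∈ U ∧
      e.hom ≫ (Scheme.Modules.restrictFunctor U.ι).map (DefoSh.Defo.trivDual k E).π =
        (Scheme.Modules.restrictFunctor U.ι).map D.π ∧
      ∀ a : ArtFun.Art.dual k k, (Scheme.Modules.restrictFunctor U.ι).map (D.act a) ≫ e.hom =
        e.hom ≫ (Scheme.Modules.restrictFunctor U.ι).map ((DefoSh.Defo.trivDual k E).act a) := by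
  classical
  obtain ⟨U, σ, hxU, hσ⟩ := Groth.Agent.H17.DefoLocP3.exists_local_split E D.sheaf D.π D.surj hE x
  haveI := restrict_additive (X := X) U
  let R := Scheme.Modules.restrictFunctor U.ι
  let T := DefoSh.Defo.trivDual k E
  let ε : ArtFun.Art.dual k k := (show ArtFun.Art.dual k k from (DualNumber.eps : DualNumber k))
  let τ : T.sheaf.restrict U.ι ⟶ D.sheaf.restrict U.ι :=
    R.map (biprod.fst : E ⊞ E ⟶ E) ≫ σ + R.map (biprod.snd : E ⊞ E ⟶ E) ≫ σ ≫ R.map (D.act ε)
  have hσ' : σ ≫ R.map D.π = 𝟙 _ := hσ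
  have hTε : (T.act ε : T.sheaf ⟶ T.sheaf) = (biprod.fst : E ⊞ E ⟶ E) ≫ biprod.inr :=
    DefoSh.dualAct_eps E
  -- compatibility with reductions
  have hCπ : τ ≫ R.map D.π = R.map T.π := by
    show (R.map (biprod.fst : E ⊞ E ⟶ E) ≫ σ + R.map (biprod.snd : E ⊞ E ⟶ E) ≫ σ ≫
      R.map (D.act ε)) ≫ R.map D.π = R.map (biprod.fst : E ⊞ E ⟶ E)
    rw [Preadditive.add_comp, Category.assoc, hσ', Category.comp_id, Category.assoc,
      Category.assoc, ← R.map_comp, act_eps_π D, R.map_zero, comp_zero, comp_zero, add_zero]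
  -- compatibility with ε
  have hCε : R.map (T.act ε) ≫ τ = τ ≫ R.map (D.act ε) := by
    rw [hTε]
    show R.map ((biprod.fst : E ⊞ E ⟶ E) ≫ biprod.inr) ≫
      (R.map (biprod.fst : E ⊞ E ⟶ E) ≫ σ + R.map (biprod.snd : E ⊞ E ⟶ E) ≫ σ ≫
        R.map (D.act ε)) =
      (R.map (biprod.fst : E ⊞ E ⟶ E) ≫ σ + R.map (biprod.snd : E ⊞ E ⟶ E) ≫ σ ≫
        R.map (D.act ε)) ≫ R.map (D.act ε)
    rw [Preadditive.comp_add, Preadditive.add_comp, ← Category.assoc, ← R.map_comp,
      Category.assoc, biprod.inr_fst, comp_zero, R.map_zero, zero_comp, zero_add,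
      ← Category.assoc (R.map _) (R.map _), ← R.map_comp, Category.assoc (biprod.fst),
      biprod.inr_snd, Category.comp_id]
    simp only [Category.assoc]
    rw [← R.map_comp, act_eps_sq D, R.map_zero, comp_zero, comp_zero, add_zero]
  -- compatibility with scalars
  have hCk : ∀ c : k, R.map (Formal.smulMod k T.sheaf c) ≫ τ =
      τ ≫ R.map (Formal.smulMod k D.sheaf c) := fun c =>
    Groth.Agent.H73.DefoLocP4.smulModΓ_restrict_comm T.sheaf D.sheaf U τ _
  have hCa : ∀ a : ArtFun.Art.dual k k, R.map (T.act a) ≫ τ = τ ≫ R.map (D.act a) := by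
    intro a
    rw [act_decomp T a, act_decomp D a, R.map_add, R.map_add, R.map_comp, R.map_comp,
      Preadditive.add_comp, Preadditive.comp_add, hCk, Category.assoc, hCk,
      ← Category.assoc, hCε, Category.assoc]
  haveI : IsIso τ := Groth.Agent.H16.DefoLocA.isIso_of_restrict T D U τ hCa hCπ
  refine ⟨U, (asIso τ).symm, hxU, ?_, ?_⟩
  · show inv τ ≫ R.map T.π = R.map D.π
    rw [IsIso.inv_comp_eq]
    exact hCπ.symm
  · intro a
    show R.map (D.act a) ≫ inv τ = inv τ ≫ R.map (T.act a)
    rw [IsIso.comp_inv_eq, Category.assoc, IsIso.eq_inv_comp]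
    exact (hCa a).symm

end Groth.Agent.S17440
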