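import Groth.Statements.S17439
import Mathlib
import Groth.Agent.S17440
import Groth.Agent.H18.TensorGen
import Groth.Agent.H18.SecTw
import Groth.Agent.H73.DefoConnQ1
import Groth.Agent.H73.DefoConnQ2

set_option autoImplicit false
universe u
open CategoryTheory AlgebraicGeometry
open DefoSh

namespace Groth.Agent.S17439

set_option linter.style.haveILetI false
set_option linter.unusedSectionVars false
set_option linter.unusedVariables false

open CategoryTheory.Limits TopologicalSpace Opposite TensorProduct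

theorem aux_alg {R A : Type*} [Ring R] [AddCommGroup A] [Module R A] (t : R)
    (a b T1 T2 T : A) (h : T = T1 + T2) :
    (t • a + T1) + (t • b + T2) = t • (a + b) + T := by
  rw [h, smul_add]; abel

section tens
variable {X : Scheme.{u}}

theorem tmul_add_left (M N : X.Modules) (U : X.Opens) (m m' : M.val.obj (op U))
    (n : N.val.obj (op U)) :
    SecTwist.tmul M N U (m + m') n = SecTwist.tmul M N U m n + SecTwist.tmul M N U m' n := by
  have h1 := TensorProduct.add_tmul (R := ((X.sheaf.obj ⋙ forget₂ CommRingCat RingCat).obj (op U))) (show (CohB1.toPMod M).obj (op U) from m)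
    (show (CohB1.toPMod M).obj (op U) from m') (show (CohB1.toPMod N).obj (op U) from n)
  exact (congrArg ((SecTwist.toTensor M N).app (op U)).hom h1).trans
    (((SecTwist.toTensor M N).app (op U)).hom.map_add _ _)

theorem tmul_zero_right (M N : X.Modules) (U : X.Opens) (m : M.val.obj (op U)) :
    SecTwist.tmul M N U m 0 = 0 := by
  have h1 := TensorProduct.tmul_zero (R := ((X.sheaf.obj ⋙ forget₂ CommRingCat RingCat).obj (op U))) ((CohB1.toPMod N).obj (op U))
    (show (CohB1.toPMod M).obj (op U) from m)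
  exact (congrArg ((SecTwist.toTensor M N).app (op U)).hom h1).trans
    ((SecTwist.toTensor M N).app (op U)).hom.map_zero

theorem tensorMap_add_left {M M' : X.Modules} (f g : M ⟶ M') (N : X.Modules) :
    KoszTw.tensorMap (f + g) (𝟙 N) = KoszTw.tensorMap f (𝟙 N) + KoszTw.tensorMap g (𝟙 N) := by
  rw [← KoszTw.tensorBi_map_app, ← KoszTw.tensorBi_map_app, ← KoszTw.tensorBi_map_app,
    Functor.map_add]
  rfl

theorem tensorMap_zero_left {M M' : X.Modules} (N : X.Modules) :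
    KoszTw.tensorMap (0 : M ⟶ M') (𝟙 N) = 0 := by
  rw [← KoszTw.tensorBi_map_app, Functor.map_zero]
  rfl

end tens

section main
variable {k : Type u} [Field k] {X : Scheme.{u}} [X.Over (Spec (CommRingCat.of k))]
  {Ω' : X.Modules} (δ : OmegaSh.Der (X ↘ Spec (CommRingCat.of k)) Ω') {E : X.Modules}
  (nabla : Coh.toAb E ⟶ Coh.toAb (CohB1.tensorMod E Ω'))

/-- `(φ ⊗ 1)((ψ ⊗ 1) y) = ((ψ ≫ φ) ⊗ 1) y` on sections. -/
theorem tm_comp_app {M M' M'' : X.Modules} (ψ : M ⟶ M') (φ : M' ⟶ M'') (U : X.Opens)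
    (y : (CohB1.tensorMod M Ω').val.obj (op U)) :
    (KoszTw.tensorMap φ (𝟙 Ω')).app U ((KoszTw.tensorMap ψ (𝟙 Ω')).app U y) =
      (KoszTw.tensorMap (ψ ≫ φ) (𝟙 Ω')).app U y := by
  have h : KoszTw.tensorMap (ψ ≫ φ) (𝟙 Ω') =
      KoszTw.tensorMap ψ (𝟙 Ω') ≫ KoszTw.tensorMap φ (𝟙 Ω') := by
    rw [← KoszTw.tensorMap_comp, Category.id_comp]
  rw [h]
  rfl

theorem tm_id_app {M : X.Modules} (U : X.Opens) (y : (CohB1.tensorMod M Ω').val.obj (op U)) :
    (KoszTw.tensorMap (𝟙 M) (𝟙 Ω')).app U y = y := by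
  rw [KoszTw.tensorMap_id]
  rfl

theorem tm_zero_app {M M' : X.Modules} (U : X.Opens) (y : (CohB1.tensorMod M Ω').val.obj (op U)) :
    (KoszTw.tensorMap (0 : M ⟶ M') (𝟙 Ω')).app U y = 0 := by
  rw [tensorMap_zero_left]
  rfl

theorem tm_add_app {M M' : X.Modules} (φ ψ : M ⟶ M') (U : X.Opens)
    (y : (CohB1.tensorMod M Ω').val.obj (op U)) :
    (KoszTw.tensorMap (φ + ψ) (𝟙 Ω')).app U y =
      (KoszTw.tensorMap φ (𝟙 Ω')).app U y + (KoszTw.tensorMap ψ (𝟙 Ω')).app U y := by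
  rw [tensorMap_add_left]
  rfl

theorem comp_app_apply {M M' M'' : X.Modules} (ψ : M ⟶ M') (φ : M' ⟶ M'') (U : X.Opens)
    (y : M.val.obj (op U)) : φ.app U (ψ.app U y) = (ψ ≫ φ).app U y := rfl

theorem add_app_apply {M M' : X.Modules} (ψ φ : M ⟶ M') (U : X.Opens)
    (y : M.val.obj (op U)) : (ψ + φ).app U y = ψ.app U y + φ.app U y := rfl

theorem zero_app_apply {M M' : X.Modules} (U : X.Opens)
    (y : M.val.obj (op U)) : (0 : M ⟶ M').app U y = 0 := rfl

theorem id_app_apply {M : X.Modules} (U : X.Opens)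
    (y : M.val.obj (op U)) : (𝟙 M : M ⟶ M).app U y = y := rfl

/-- horizontality is additive. -/
theorem isHorizontal_add {M M' : X.Modules}
    {c : Coh.toAb M ⟶ Coh.toAb (CohB1.tensorMod M Ω')}
    {c' : Coh.toAb M' ⟶ Coh.toAb (CohB1.tensorMod M' Ω')} {φ ψ : M ⟶ M'}
    (hφ : ConnSh.IsHorizontal c c' φ) (hψ : ConnSh.IsHorizontal c c' ψ) :
    ConnSh.IsHorizontal c c' (φ + ψ) := by
  intro U e
  refine (congrArg (ConnSh.secApp c' U) (add_app_apply φ ψ U e)).trans ?_
  refine ((ConnSh.secApp c' U).map_add _ _).trans ?_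
  refine Eq.trans ?_ (tm_add_app φ ψ U _).symm
  exact congrArg₂ (· + ·) (hφ U e) (hψ U e)

/-- scalars of `k` are horizontal for every connection over a `k`-derivation. -/
theorem isHorizontal_smulMod {M : X.Modules} (c : Coh.toAb M ⟶ Coh.toAb (CohB1.tensorMod M Ω'))
    (hc : ConnSh.IsConn δ M c) (a : k) :
    ConnSh.IsHorizontal c c (Formal.smulMod k M a) := by
  intro U e
  have h2 : KoszTw.tensorMap (Formal.smulMod k M a) (𝟙 Ω') =
      Formal.smulMod k (CohB1.tensorMod M Ω') a := Groth.Agent.H73.DefoConnQ1.tensorMap_smulModΓ M Ω' _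
  rw [h2]
  have hz : SecTwist.tmul M Ω' U e
      (δ.app U (Coh.resTop X (op U) (Coh.toGlobal (X ↘ Spec (CommRingCat.of k)) a))) = 0 :=
    (congrArg (SecTwist.tmul M Ω' U e) (Groth.Agent.H73.DefoConnQ2.der_const Ω' δ U a)).trans (tmul_zero_right M Ω' U e)
  refine (hc U (Coh.resTop X (op U) (Coh.toGlobal (X ↘ Spec (CommRingCat.of k)) a)) e).trans ?_
  refine (congrArg (fun z => Coh.resTop X (op U) (Coh.toGlobal (X ↘ Spec (CommRingCat.of k)) a) •
    ConnSh.secApp c U e + z) hz).trans ?_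
  exact (add_zero _).trans rfl

/-- the direct sum connection on `E ⊞ E`. -/
noncomputable def conn2 : Coh.toAb (E ⊞ E) ⟶ Coh.toAb (CohB1.tensorMod (E ⊞ E) Ω') :=
  (SheafOfModules.toSheaf X.ringCatSheaf).map (biprod.fst : E ⊞ E ⟶ E) ≫ nabla ≫
      (SheafOfModules.toSheaf X.ringCatSheaf).map
        (KoszTw.tensorMap (biprod.inl : E ⟶ E ⊞ E) (𝟙 Ω')) +
  (SheafOfModules.toSheaf X.ringCatSheaf).map (biprod.snd : E ⊞ E ⟶ E) ≫ nabla ≫
      (SheafOfModules.toSheaf X.ringCatSheaf).map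
        (KoszTw.tensorMap (biprod.inr : E ⟶ E ⊞ E) (𝟙 Ω'))

theorem conn2_app (U : X.Opens) (e : (E ⊞ E).val.obj (op U)) :
    ConnSh.secApp (conn2 nabla) U e =
      (KoszTw.tensorMap (biprod.inl : E ⟶ E ⊞ E) (𝟙 Ω')).app U
        (ConnSh.secApp nabla U ((biprod.fst : E ⊞ E ⟶ E).app U e)) +
      (KoszTw.tensorMap (biprod.inr : E ⟶ E ⊞ E) (𝟙 Ω')).app U
        (ConnSh.secApp nabla U ((biprod.snd : E ⊞ E ⟶ E).app U e)) := rfl

theorem total_app (U : X.Opens) (e : (E ⊞ E).val.obj (op U)) :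
    (biprod.inl : E ⟶ E ⊞ E).app U ((biprod.fst : E ⊞ E ⟶ E).app U e) +
      (biprod.inr : E ⟶ E ⊞ E).app U ((biprod.snd : E ⊞ E ⟶ E).app U e) = e := by
  have h := congrArg (fun f : E ⊞ E ⟶ E ⊞ E => f.app U e) (biprod.total (X := E) (Y := E))
  exact h

theorem app_smul_apply {M M' : X.Modules} (φ : M ⟶ M') (U : X.Opens) (t : Γ(X, U))
    (y : M.val.obj (op U)) : φ.app U (t • y) = t • φ.app U y :=
  Scheme.Modules.Hom.app_smul φ t y

theorem conn2_isConn (hn : ConnSh.IsConn δ E nabla) :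
    ConnSh.IsConn δ (E ⊞ E) (conn2 nabla) := by
  intro U t e
  have h1 : ∀ (j : E ⟶ E ⊞ E) (p : E ⊞ E ⟶ E),
      (KoszTw.tensorMap j (𝟙 Ω')).app U (ConnSh.secApp nabla U (p.app U (t • e))) =
        (show (CohB1.tensorMod (E ⊞ E) Ω').val.obj (op U) from
          t • (KoszTw.tensorMap j (𝟙 Ω')).app U (ConnSh.secApp nabla U (p.app U e))) +
          SecTwist.tmul (E ⊞ E) Ω' U (j.app U (p.app U e)) (δ.app U t) := by
    intro j p
    rw [app_smul_apply p U t e]
    refine (congrArg _ (hn U t (p.app U e))).trans ?_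
    refine (map_add ((KoszTw.tensorMap j (𝟙 Ω')).app U).hom _ _).trans ?_
    refine congrArg₂ (· + ·) (app_smul_apply _ U t _) ?_
    exact KoszTw.tensorMap_tmul j (𝟙 Ω') U _ _
  rw [conn2_app, conn2_app, h1, h1]
  have hT : SecTwist.tmul (E ⊞ E) Ω' U e (δ.app U t) =
      SecTwist.tmul (E ⊞ E) Ω' U ((biprod.inl : E ⟶ E ⊞ E).app U
        ((biprod.fst : E ⊞ E ⟶ E).app U e)) (δ.app U t) +
      SecTwist.tmul (E ⊞ E) Ω' U ((biprod.inr : E ⟶ E ⊞ E).app U
        ((biprod.snd : E ⊞ E ⟶ E).app U e)) (δ.app U t) := by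
    exact (congrArg (fun z => SecTwist.tmul (E ⊞ E) Ω' U z (δ.app U t)) (total_app U e).symm).trans
      (tmul_add_left (E ⊞ E) Ω' U _ _ _)
  exact aux_alg t _ _ _ _ _ hT


theorem app_congr {M M' : X.Modules} {f g : M ⟶ M'} (h : f = g) (U : X.Opens)
    (y : M.val.obj (op U)) : f.app U y = g.app U y := by rw [h]

theorem tm_congr_app {M M' : X.Modules} {f g : M ⟶ M'} (h : f = g) (U : X.Opens)
    (y : (CohB1.tensorMod M Ω').val.obj (op U)) :
    (KoszTw.tensorMap f (𝟙 Ω')).app U y = (KoszTw.tensorMap g (𝟙 Ω')).app U y := by rw [h]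

/-- applying `ψ ⊗ 1` to the value of `conn2`. -/
theorem tm_conn2 {M' : X.Modules} (ψ : E ⊞ E ⟶ M') (U : X.Opens) (e : (E ⊞ E).val.obj (op U)) :
    (KoszTw.tensorMap ψ (𝟙 Ω')).app U (ConnSh.secApp (conn2 nabla) U e) =
      (KoszTw.tensorMap ((biprod.inl : E ⟶ E ⊞ E) ≫ ψ) (𝟙 Ω')).app U
        (ConnSh.secApp nabla U ((biprod.fst : E ⊞ E ⟶ E).app U e)) +
      (KoszTw.tensorMap ((biprod.inr : E ⟶ E ⊞ E) ≫ ψ) (𝟙 Ω')).app U
        (ConnSh.secApp nabla U ((biprod.snd : E ⊞ E ⟶ E).app U e)) := by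
  refine (congrArg _ (conn2_app nabla U e)).trans ?_
  refine (map_add ((KoszTw.tensorMap ψ (𝟙 Ω')).app U).hom _ _).trans ?_
  exact congrArg₂ (· + ·) (tm_comp_app _ _ U _) (tm_comp_app _ _ U _)

theorem conn2_π_horizontal :
    ConnSh.IsHorizontal (conn2 nabla) nabla (biprod.fst : E ⊞ E ⟶ E) := by
  intro U e
  refine Eq.trans ?_ (tm_conn2 nabla _ U e).symm
  have h1 : (biprod.inl : E ⟶ E ⊞ E) ≫ (biprod.fst : E ⊞ E ⟶ E) = 𝟙 E := biprod.inl_fst
  have h2 : (biprod.inr : E ⟶ E ⊞ E) ≫ (biprod.fst : E ⊞ E ⟶ E) = 0 := biprod.inr_fst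
  refine Eq.trans ?_ (congrArg₂ (· + ·) (tm_congr_app h1.symm U _) (tm_congr_app h2.symm U _))
  refine Eq.trans ?_ (congrArg₂ (· + ·) (tm_id_app U _).symm (tm_zero_app U _).symm)
  exact (add_zero _).symm

theorem conn2_eps_horizontal :
    ConnSh.IsHorizontal (conn2 nabla) (conn2 nabla)
      ((biprod.fst : E ⊞ E ⟶ E) ≫ (biprod.inr : E ⟶ E ⊞ E)) := by
  intro U e
  refine Eq.trans ?_ (tm_conn2 nabla _ U e).symm
  have h1 : (biprod.inl : E ⟶ E ⊞ E) ≫ (biprod.fst : E ⊞ E ⟶ E) ≫ (biprod.inr : E ⟶ E ⊞ E) =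
      biprod.inr := by rw [biprod.inl_fst_assoc]
  have h2 : (biprod.inr : E ⟶ E ⊞ E) ≫ (biprod.fst : E ⊞ E ⟶ E) ≫ (biprod.inr : E ⟶ E ⊞ E) =
      0 := by rw [biprod.inr_fst_assoc, zero_comp]
  refine Eq.trans ?_ (congrArg₂ (· + ·) (tm_congr_app h1.symm U _) (tm_congr_app h2.symm U _))
  refine Eq.trans ?_ (congrArg₂ (· + ·) rfl (tm_zero_app U _).symm)
  refine Eq.trans ?_ (add_zero _).symm
  refine (conn2_app nabla U _).trans ?_
  have e1 : (biprod.fst : E ⊞ E ⟶ E).app U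
      (((biprod.fst : E ⊞ E ⟶ E) ≫ (biprod.inr : E ⟶ E ⊞ E)).app U e) = 0 := by
    refine (comp_app_apply _ _ U e).trans ?_
    have : ((biprod.fst : E ⊞ E ⟶ E) ≫ (biprod.inr : E ⟶ E ⊞ E)) ≫
        (biprod.fst : E ⊞ E ⟶ E) = 0 := by
      rw [Category.assoc, biprod.inr_fst, comp_zero]
    exact (app_congr this U e).trans rfl
  have e2 : (biprod.snd : E ⊞ E ⟶ E).app U
      (((biprod.fst : E ⊞ E ⟶ E) ≫ (biprod.inr : E ⟶ E ⊞ E)).app U e) =
      (biprod.fst : E ⊞ E ⟶ E).app U e := by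
    refine (comp_app_apply _ _ U e).trans ?_
    have : ((biprod.fst : E ⊞ E ⟶ E) ≫ (biprod.inr : E ⟶ E ⊞ E)) ≫
        (biprod.snd : E ⊞ E ⟶ E) = biprod.fst := by
      rw [Category.assoc, biprod.inr_snd, Category.comp_id]
    exact app_congr this U e
  rw [e1, e2]
  have z1 : ConnSh.secApp nabla U 0 = 0 := map_zero _
  have z2 : (KoszTw.tensorMap (biprod.inl : E ⟶ E ⊞ E) (𝟙 Ω')).app U
      (0 : (CohB1.tensorMod E Ω').val.obj (op U)) = 0 :=
    map_zero ((KoszTw.tensorMap (biprod.inl : E ⟶ E ⊞ E) (𝟙 Ω')).app U).hom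
  have z : (KoszTw.tensorMap (biprod.inl : E ⟶ E ⊞ E) (𝟙 Ω')).app U
      (ConnSh.secApp nabla U 0) = 0 := (congrArg _ z1).trans z2
  exact (congrArg₂ (· + ·) z rfl).trans (zero_add _)

end main

/-- Let k be a field, X a scheme over k with a receptacle of differentials (Ω′, δ) over k, Ω′
quasi-coherent, and E a finite locally free O_X-module with a connection ∇ : E → E ⊗ Ω′. Then ∇ has
at least one deformation over the trivial first-order deformation E ⊕ εE of E (a connection on E ⊕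
εE commuting with k[ε] and reducing to ∇), so the set of deformations of ∇ over the trivial
deformation (the set that corresponds to H⁰(End(E) ⊗ Ω′)) is not empty. The published statement is
for a curve with its sheaf of differentials; this row takes any scheme over k with any
quasi-coherent receptacle of differentials, which the printed computation does not use. -/
theorem result (k : Type u) [Field k] (X : Scheme.{u})
    [X.Over (Spec (CommRingCat.of k))] (Ω' : X.Modules) (δ : OmegaSh.Der (X ↘ Spec (CommRingCat.of k)) Ω')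
    (hΩ' : Coh.IsQCoh Ω') (E : X.Modules) (hE : FlatMod.IsFinLocFree E)
    (nabla : Coh.toAb E ⟶ Coh.toAb (CohB1.tensorMod E Ω')) (hn : ConnSh.IsConn δ E nabla) :
    Nonempty (DefoSh.DefoConn δ nabla (DefoSh.Defo.trivDual k E)) := by
  classical
  let T := DefoSh.Defo.trivDual k E
  have hC := conn2_isConn δ nabla hn
  refine ⟨{ conn := conn2 nabla, isConn := hC, act_horizontal := ?_,
            π_horizontal := conn2_π_horizontal nabla }⟩
  intro a
  have hdec := Groth.Agent.S17440.act_decomp T a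
  have hε : (T.act (show ArtFun.Art.dual k k from (DualNumber.eps : DualNumber k)) :
      T.sheaf ⟶ T.sheaf) = (biprod.fst : E ⊞ E ⟶ E) ≫ biprod.inr := DefoSh.dualAct_eps E
  show ConnSh.IsHorizontal (conn2 nabla) (conn2 nabla) (T.act a : T.sheaf ⟶ T.sheaf)
  rw [hdec]
  apply isHorizontal_add
  · exact isHorizontal_smulMod δ _ hC _
  · apply DefoSh.isHorizontal_comp
    · rw [hε]
      exact conn2_eps_horizontal nabla
    · exact isHorizontal_smulMod δ _ hC _

end Groth.Agent.S17439
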