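import Groth.Statements.S16092
import Groth.Agent.H95.SecOrd
import Groth.Agent.H18.TensorGen

set_option autoImplicit false
universe u
open CategoryTheory CategoryTheory.Limits AlgebraicGeometry TopologicalSpace
open SDiv

namespace Groth.Agent.S16092

open Groth.Agent.H18.TensorGen (IsGen exists_isGen exists_isGen_pair isGen_tm)
open Groth.Agent.H18.SecTw (tm tm_res tm_smul_left tm_smul_right)
open Groth.Agent.H95.AssGen (GenAt genAt_of_isGen germ_eq_smul_germ isUnit_germ_of_genAt)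
open Groth.Agent.H95.SecOrd

/-- Change of generator in the computation of `Cyc.secOrdAt`. -/
theorem secOrdAt_rebase {X : Scheme.{u}} {L : X.Modules} {V₀ V : X.Opens} {τ₀ : Γ(L, V₀)}
    {α : Γ(L, V)} (hα : IsGen L V α) (g : Γ(X, V₀ ⊓ V))
    (hg : L.presheaf.map (homOfLE (inf_le_right : V₀ ⊓ V ≤ V)).op α =
      g • L.presheaf.map (homOfLE (inf_le_left : V₀ ⊓ V ≤ V₀)).op τ₀)
    {ξ x : X} (h : ξ ⤳ x) (hx : x ∈ V) (hξV : ξ ∈ V) (hξV₀ : ξ ∈ V₀) (hξP : ξ ∈ V₀ ⊓ V)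
    (e' : X.presheaf.stalk ξ) (he' : X.presheaf.germ (V₀ ⊓ V) ξ hξP g * e' = 1)
    (s : Cyc.secFibre L ξ) (ψ : X.presheaf.stalk ξ)
    (hs : s = ψ • (Submodule.Quotient.mk (L.presheaf.germ V₀ ξ hξV₀ τ₀) : Cyc.secFibre L ξ)) :
    Cyc.secOrdAt L ξ x h s = Cyc.ordAt x ξ h (X.residue ξ (ψ * e')) := by
  have h1 := germ_eq_smul_germ τ₀ α g hg ξ hξV₀ hξV hξP
  have h2 : L.presheaf.germ V₀ ξ hξV₀ τ₀ = e' • L.presheaf.germ V ξ hξV α := by
    rw [h1, ← mul_smul, mul_comm, he', one_smul]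
  refine secOrdAt_eq_of_isGen hα h hx hξV s (ψ * e') ?_
  rw [hs, h2, Submodule.Quotient.mk_smul, mul_smul]

theorem tensor_aux (X : Scheme.{u}) (L N : X.Modules) (hL : PicF.IsInvertible L)
    (hN : PicF.IsInvertible N) (η : X) (hη : ∀ x : X, η ⤳ x) (s : Cyc.secFibre L η) (hs : s ≠ 0)
    (t : Cyc.secFibre N η) (ht : t ≠ 0) :
    ∃ w : Cyc.secFibre (CohB1.tensorMod L N) η, w ≠ 0 ∧ ∀ x : X,
      Cyc.secOrdAt (CohB1.tensorMod L N) η x (hη x) w =
        Cyc.secOrdAt L η x (hη x) s + Cyc.secOrdAt N η x (hη x) t := by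
  obtain ⟨V₀, τ₀, ν₀, hηV₀, hτ₀, hν₀⟩ := exists_isGen_pair hL hN η
  obtain ⟨ψs, hψs⟩ := exists_eq_smul_mk hτ₀ η hηV₀ s
  obtain ⟨ψt, hψt⟩ := exists_eq_smul_mk hν₀ η hηV₀ t
  have hus : IsUnit ψs := isUnit_of_mk_ne_zero η hηV₀ s hs ψs hψs
  have hut : IsUnit ψt := isUnit_of_mk_ne_zero η hηV₀ t ht ψt hψt
  have hτν : IsGen (CohB1.tensorMod L N) V₀ (tm L N τ₀ ν₀) := isGen_tm hτ₀ hν₀
  obtain ⟨w, hw⟩ : ∃ w : Cyc.secFibre (CohB1.tensorMod L N) η,
      w = (ψs * ψt) • (Submodule.Quotient.mk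
        ((CohB1.tensorMod L N).presheaf.germ V₀ η hηV₀ (tm L N τ₀ ν₀)) :
          Cyc.secFibre (CohB1.tensorMod L N) η) := ⟨_, rfl⟩
  refine ⟨w, ?_, ?_⟩
  · intro hw0
    rw [hw] at hw0
    have hm := mem_maximalIdeal_of_smul_mk_eq_zero hτν η hηV₀ _ hw0
    exact (IsLocalRing.mem_maximalIdeal _).mp hm (hus.mul hut)
  · intro x
    obtain ⟨V, α, β, hxV, hα, hβ⟩ := exists_isGen_pair hL hN x
    have hηV : η ∈ V := (hη x).mem_open V.2 hxV
    have hηP : η ∈ V₀ ⊓ V := Opens.mem_inf.mpr ⟨hηV₀, hηV⟩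
    obtain ⟨c, hc⟩ := (hτ₀ (V₀ ⊓ V) inf_le_left).2
      (L.presheaf.map (homOfLE (inf_le_right : V₀ ⊓ V ≤ V)).op α)
    obtain ⟨d, hd⟩ := (hν₀ (V₀ ⊓ V) inf_le_left).2
      (N.presheaf.map (homOfLE (inf_le_right : V₀ ⊓ V ≤ V)).op β)
    have hc' : L.presheaf.map (homOfLE (inf_le_right : V₀ ⊓ V ≤ V)).op α =
        c • L.presheaf.map (homOfLE (inf_le_left : V₀ ⊓ V ≤ V₀)).op τ₀ := hc.symm
    have hd' : N.presheaf.map (homOfLE (inf_le_right : V₀ ⊓ V ≤ V)).op β =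
        d • N.presheaf.map (homOfLE (inf_le_left : V₀ ⊓ V ≤ V₀)).op ν₀ := hd.symm
    have hcd : (CohB1.tensorMod L N).presheaf.map (homOfLE (inf_le_right : V₀ ⊓ V ≤ V)).op
        (tm L N α β) =
        (c * d) • (CohB1.tensorMod L N).presheaf.map
          (homOfLE (inf_le_left : V₀ ⊓ V ≤ V₀)).op (tm L N τ₀ ν₀) := by
      rw [tm_res, tm_res, hc', hd', tm_smul_left, tm_smul_right, mul_smul]
    have hcu : IsUnit (X.presheaf.germ (V₀ ⊓ V) η hηP c) :=
      isUnit_germ_of_genAt hτ₀ α c hc' η hηV₀ hηV hηP (genAt_of_isGen hα η hηV)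
    have hdu : IsUnit (X.presheaf.germ (V₀ ⊓ V) η hηP d) :=
      isUnit_germ_of_genAt hν₀ β d hd' η hηV₀ hηV hηP (genAt_of_isGen hβ η hηV)
    obtain ⟨c', hcc'⟩ := hcu.exists_right_inv
    obtain ⟨d', hdd'⟩ := hdu.exists_right_inv
    have hcd' : X.presheaf.germ (V₀ ⊓ V) η hηP (c * d) * (c' * d') = 1 := by
      rw [map_mul, mul_mul_mul_comm, hcc', hdd', one_mul]
    have hc'u : IsUnit c' := IsUnit.of_mul_eq_one_right _ hcc'
    have hd'u : IsUnit d' := IsUnit.of_mul_eq_one_right _ hdd'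
    rw [secOrdAt_rebase hα c hc' (hη x) hxV hηV hηV₀ hηP c' hcc' s ψs hψs,
      secOrdAt_rebase hβ d hd' (hη x) hxV hηV hηV₀ hηP d' hdd' t ψt hψt,
      secOrdAt_rebase (isGen_tm hα hβ) (c * d) hcd (hη x) hxV hηV hηV₀ hηP (c' * d') hcd' w
        (ψs * ψt) hw,
      mul_mul_mul_comm, map_mul]
    exact ordAt_mul (hη x) (residue_ne_zero_of_isUnit (hus.mul hc'u))
      (residue_ne_zero_of_isUnit (hut.mul hd'u))

/-- Let X be an integral scheme that is locally Noetherian, with generic point η, let L and N be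
invertible O_X-modules and s ∈ L_η, t ∈ N_η nonzero rational sections, with orders ord_{x,L}(s),
ord_{x,N}(t) along the prime divisors, i.e. at the points x with dim O_{X,x} = 1, taken with respect
to generators of the stalks. Then L ⊗_{O_X} N has a nonzero rational section w with ord_{x,L ⊗ N}(w)
= ord_{x,L}(s) + ord_{x,N}(t) at every such x; hence the Weil divisor class of L ⊗ N is the sum of
the classes of L and N. The published statement names w as the product s·t; here only the existence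
of such a w is asserted. -/
theorem result (X : Scheme.{u}) [IsIntegral X] [IsLocallyNoetherian X] (L N : X.Modules)
    (hL : PicF.IsInvertible L) (hN : PicF.IsInvertible N) (s : Cyc.secFibre L (genericPoint ↥X)) (hs : s ≠ 0)
    (t : Cyc.secFibre N (genericPoint ↥X)) (ht : t ≠ 0) :
    ∃ w : Cyc.secFibre (CohB1.tensorMod L N) (genericPoint ↥X), w ≠ 0 ∧
      ∀ (x : ↥X), ringKrullDim ↑(X.presheaf.stalk x) = 1 →
        Cyc.secOrdAt (CohB1.tensorMod L N) (genericPoint ↥X) x ((genericPoint_spec ↥X).specializes (Set.mem_univ x)) w =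
          Cyc.secOrdAt L (genericPoint ↥X) x ((genericPoint_spec ↥X).specializes (Set.mem_univ x)) s +
            Cyc.secOrdAt N (genericPoint ↥X) x ((genericPoint_spec ↥X).specializes (Set.mem_univ x)) t := by
  obtain ⟨w, hw0, hw⟩ := tensor_aux X L N hL hN (genericPoint ↥X)
    (fun x => (genericPoint_spec ↥X).specializes (Set.mem_univ x)) s hs t ht
  exact ⟨w, hw0, fun x _ => hw x⟩

end Groth.Agent.S16092
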