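import Groth.Statements.S0326
import Mathlib
import Groth.Agent.H58.LCBSeq

set_option autoImplicit false
universe u v
open LocCoh

namespace Groth.Agent.S0326

/-- For a Noetherian ring R and an ideal of R generated by a finite set of r elements, local cohomology
with support in that ideal vanishes in all degrees above r, for every R-module. This is the
Noetherian case of the published statement. -/
theorem result (R : Type u) [CommRing R] [IsNoetherianRing R] (s : Finset R) : LocCoh.CdLE R (Ideal.span (s : Set R)) s.card := by
  classical
  induction s using Finset.induction_on with
  | empty =>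
    intro M _ _ i hi
    rw [Finset.coe_empty, Ideal.span_empty]
    exact Groth.Agent.H58.LC.subsingleton_H_bot M i (by simpa using hi)
  | insert b s hb ih =>
    intro M _ _ i hi
    rw [Finset.card_insert_of_notMem hb] at hi
    obtain ⟨i', rfl⟩ : ∃ i', i = i' + 1 := ⟨i - 1, by omega⟩
    rw [Groth.Agent.H58.LC.span_insert_eq]
    haveI := ih M i' (by omega)
    exact Groth.Agent.H58.LC.subsingleton_H_sup_span _ b M i'
      (Groth.Agent.H58.LC.subsingleton_H_of_subsingleton _ 1) (ih M (i' + 1) (by omega))

end Groth.Agent.S0326
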