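import Groth.Statements.S17751

set_option autoImplicit false
universe u
open LocCoh

namespace Groth.Agent.S17751

/-- Strengthened inductive form: every prime containing the `f i` but not `I` has height `≥ r`. -/
theorem exists_family_height_ge (R : Type u) [CommRing R] [IsNoetherianRing R] (I : Ideal R) (r : ℕ) :
    ∃ f : Fin r → R, (∀ i, f i ∈ I) ∧ ∀ (p : Ideal R) [p.IsPrime],
      Ideal.span (Set.range f) ≤ p → ¬ I ≤ p → (r : ℕ∞) ≤ p.height := by
  induction r with
  | zero => exact ⟨Fin.elim0, fun i => i.elim0, fun p _ _ _ => by simp⟩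
  | succ r ih =>
    obtain ⟨f, hfI, hf⟩ := ih
    set J := Ideal.span (Set.range f) with hJ
    let S := { K | K ∈ J.minimalPrimes ∧ ¬ I ≤ K }
    have hS : Set.Finite S := Set.Finite.subset J.finite_minimalPrimes_of_isNoetherianRing
      (fun _ h => h.1)
    have : ¬(I : Set R) ⊆ ⋃ K ∈ hS.toFinset, (K : Set R) := by
      refine (Ideal.subset_union_prime ⊥ ⊥ ?_).not.mpr ?_
      · rintro K hK - -
        rw [Set.Finite.mem_toFinset] at hK
        exact hK.1.isPrime
      · push Not
        intro K hK
        rw [Set.Finite.mem_toFinset] at hK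
        exact hK.2
    simp_rw [Set.not_subset, Set.mem_iUnion, not_exists, Set.Finite.mem_toFinset] at this
    obtain ⟨x, hx₁, hx₂⟩ := this
    refine ⟨Fin.snoc f x, ?_, ?_⟩
    · intro i
      refine Fin.lastCases ?_ (fun j => ?_) i
      · simpa using hx₁
      · simpa using hfI j
    · intro p _ hp hIp
      have hxp : x ∈ p := by
        apply hp
        apply Ideal.subset_span
        exact ⟨Fin.last r, by simp⟩
      have hJp : J ≤ p := by
        rw [hJ, Ideal.span_le]
        rintro _ ⟨j, rfl⟩
        apply hp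
        apply Ideal.subset_span
        exact ⟨j.castSucc, by simp⟩
      obtain ⟨q, hq, hqp⟩ := Ideal.exists_minimalPrimes_le hJp
      have hqprime : q.IsPrime := hq.isPrime
      have hIq : ¬ I ≤ q := fun h => hIp (h.trans hqp)
      have hxq : x ∉ q := hx₂ q ⟨hq, hIq⟩
      have hlt : q < p := lt_of_le_of_ne hqp (fun h => hxq (h ▸ hxp))
      have h1 : (r : ℕ∞) ≤ q.height := hf q hq.1.2 hIq
      have h2 := Ideal.height_add_one_le_of_lt_of_isPrime hlt
      calc ((r + 1 : ℕ) : ℕ∞) = (r : ℕ∞) + 1 := by push_cast; rfl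
        _ ≤ q.height + 1 := by gcongr
        _ ≤ p.height := h2

/-- Suppose R is a Noetherian ring, r is a natural number, and I is an ideal of R. Then there are
elements f_1, …, f_r of I such that for every prime ideal p of R of height less than r, p contains I
if and only if p contains f_1, …, f_r. (For r = 0 there is nothing to prove.) -/
theorem result (R : Type u) [CommRing R] [IsNoetherianRing R] (I : Ideal R) (r : ℕ) : ∃ f : Fin r → R, (∀ i, f i ∈ I) ∧ ∀ (p : Ideal R) [p.IsPrime], p.height < r → (I ≤ p ↔ Ideal.span (Set.range f) ≤ p) := by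
  obtain ⟨f, hfI, hf⟩ := exists_family_height_ge R I r
  refine ⟨f, hfI, ?_⟩
  intro p _ hp
  constructor
  · intro hIp
    rw [Ideal.span_le]
    rintro _ ⟨i, rfl⟩
    exact hIp (hfI i)
  · intro hfp
    by_contra hIp
    exact absurd (hf p hfp hIp) (not_le.mpr hp)

end Groth.Agent.S17751
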