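import Groth.Statements.S17753
import Groth.Agent.S17751

set_option autoImplicit false
universe u
open LocCoh

namespace Groth.Agent.S17753

/-- Let R be a Noetherian local ring of Krull dimension d and I a proper ideal of R. Then there are d
elements f_1, …, f_d of I such that I and the ideal they generate have the same radical, so the
arithmetic rank of I is at most d. (The published statement has no properness hypothesis; for the
unit ideal of a field, d = 0 and no empty family generates the unit ideal up to radical, and the
published proof uses that the maximal ideal contains I.) -/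
theorem result (R : Type u) [CommRing R] [IsNoetherianRing R] [IsLocalRing R] (d : ℕ) (hd : ringKrullDim R = d) (I : Ideal R) (hI : I ≠ ⊤) : ∃ f : Fin d → R, (∀ i, f i ∈ I) ∧ I.radical = (Ideal.span (Set.range f)).radical := by
  obtain ⟨f, hfI, hf⟩ := Groth.Agent.S17751.result R I d
  refine ⟨f, hfI, ?_⟩
  have hfin : FiniteRingKrullDim R := by
    rw [finiteRingKrullDim_iff_ne_bot_and_top, hd]
    exact ⟨by exact_mod_cast WithBot.coe_ne_bot, by
      intro h
      have : ((d : ℕ∞) : WithBot ℕ∞) = ((⊤ : ℕ∞) : WithBot ℕ∞) := h
      exact absurd (WithBot.coe_injective this) (ENat.natCast_ne_top d)⟩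
  have hfle : Ideal.span (Set.range f) ≤ I := by
    rw [Ideal.span_le]
    rintro _ ⟨i, rfl⟩
    exact hfI i
  have key : ∀ (p : Ideal R) [p.IsPrime], (I ≤ p ↔ Ideal.span (Set.range f) ≤ p) := by
    intro p _
    have h1 : (p.height : WithBot ℕ∞) ≤ ringKrullDim R := Ideal.height_le_ringKrullDim_of_isPrime
    rcases lt_or_eq_of_le h1 with hlt | heq
    · rw [hd] at hlt
      exact hf p (by exact_mod_cast hlt)
    · have hpm : p = IsLocalRing.maximalIdeal R := Ideal.height_eq_ringKrullDim_iff.mp heq
      subst hpm
      have hIm : I ≤ IsLocalRing.maximalIdeal R := IsLocalRing.le_maximalIdeal hI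
      exact ⟨fun _ => hfle.trans hIm, fun _ => hIm⟩
  rw [Ideal.radical_eq_sInf, Ideal.radical_eq_sInf]
  congr 1
  ext p
  constructor
  · rintro ⟨h1, h2⟩
    exact ⟨(key p).mp h1, h2⟩
  · rintro ⟨h1, h2⟩
    exact ⟨(key p).mpr h1, h2⟩

end Groth.Agent.S17753
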