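import Groth.Statements.S7390
import Mathlib
import Groth.Agent.H22.GenLocus

set_option autoImplicit false
universe u
open CategoryTheory AlgebraicGeometry
open Mor

namespace Groth.Agent.S7390

/-- Let `X` be a scheme such that every point lies in some affine open `X_s`, the locus where a global
section `s` generates an invertible `O_X`-module `L` (both depending on the point). Then the
diagonal of `X` is an affine morphism. -/
theorem result (X : Scheme.{u})
    (h : ∀ x : X, ∃ (L : X.Modules) (s : Coh.structureModule X ⟶ L), PicF.IsInvertible L ∧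
      x ∈ CohB1.genLocus L s ∧ IsAffineOpen (CohB1.genLocus L s)) :
    IsAffineHom (Limits.pullback.diagonal (Limits.terminal.from X)) := by
  have key : ∀ V : X.Opens, IsAffineOpen V → IsAffineHom V.ι := by
    intro V hV
    apply isAffineHom_of_forall_exists_isAffineOpen
    intro x
    obtain ⟨L, s, hL, hx, haff⟩ := h x
    refine ⟨CohB1.genLocus L s, hx, haff, ?_⟩
    haveI := Groth.Agent.H22.GenLocus.isAffineHom_genLocus_ι L hL s
    have h1 : IsAffineOpen ((CohB1.genLocus L s).ι ⁻¹ᵁ V) := hV.preimage _
    rw [← Scheme.Hom.isAffineOpen_iff_of_isOpenImmersion V.ι,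
      Scheme.Hom.image_preimage_eq_opensRange_inf, Scheme.Opens.opensRange_ι]
    rw [← Scheme.Hom.isAffineOpen_iff_of_isOpenImmersion (CohB1.genLocus L s).ι,
      Scheme.Hom.image_preimage_eq_opensRange_inf, Scheme.Opens.opensRange_ι] at h1
    rwa [inf_comm]
  rw [isAffineHom_diagonal_iff]
  intro U hU V₁ hV₁ V₂ hV₂ h1 h2
  haveI := key V₂ h2
  have h3 : IsAffineOpen (V₂.ι ⁻¹ᵁ V₁) := h1.preimage _
  rw [← Scheme.Hom.isAffineOpen_iff_of_isOpenImmersion V₂.ι,
    Scheme.Hom.image_preimage_eq_opensRange_inf, Scheme.Opens.opensRange_ι] at h3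
  rwa [inf_comm]

end Groth.Agent.S7390
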