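import Groth.Statements.S9814
import Groth.Agent.H18.TensorGen

set_option autoImplicit false
universe u
open CategoryTheory CategoryTheory.Limits AlgebraicGeometry TopologicalSpace
open Props

namespace Groth.Agent.S9814

/-- Let L be an invertible module on a scheme X. If the opens X_s (s a global section of a positive
tensor power of L) form a basis for the topology, then so do the affine ones among them. -/
theorem result (X : Scheme.{u}) (L : X.Modules) (hL : PicF.IsInvertible L)
    (hB : Opens.IsBasis {U : X.Opens | ∃ (n : ℕ) (s : Coh.structureModule X ⟶ CohB1.tensorPow L (n + 1)),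
      U = CohB1.genLocus _ s}) :
    Opens.IsBasis {U : X.Opens | IsAffineOpen U ∧ ∃ (n : ℕ) (s : Coh.structureModule X ⟶ CohB1.tensorPow L (n + 1)),
      U = CohB1.genLocus _ s} := by
  rw [TopologicalSpace.Opens.isBasis_iff_nbhd] at hB ⊢
  intro U x hxU
  obtain ⟨V, τ, hxV, hτ⟩ := Groth.Agent.H18.TensorGen.exists_isGen hL x
  obtain ⟨W, hWaff, hxW, hWUV⟩ := TopologicalSpace.Opens.isBasis_iff_nbhd.mp X.isBasis_affineOpens
    (show x ∈ U ⊓ V from ⟨hxU, hxV⟩)
  obtain ⟨U', ⟨n, s, rfl⟩, hxs, hsW⟩ := hB hxW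
  refine ⟨_, ⟨?_, n, s, rfl⟩, hxs, hsW.trans (hWUV.trans inf_le_left)⟩
  have hgen := Groth.Agent.H18.TensorGen.isGen_lp (hτ.res (hWUV.trans inf_le_right)) (n + 1)
  obtain ⟨a, ha⟩ := hgen.self.2 (Groth.Agent.H18.SecTw.sv s W)
  have ha' : a • Groth.Agent.H18.SecTw.lp _ (n + 1) = Groth.Agent.H18.SecTw.sv s W := ha
  have h1 := Groth.Agent.H18.TensorGen.genLocus_inf_of_isGen s hgen a ha'.symm
  rw [inf_eq_left.mpr hsW] at h1
  rw [h1]
  exact hWaff.basicOpen a

end Groth.Agent.S9814
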