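import Groth.Statements.S9813
import Groth.Agent.H18.SepCover
import Groth.Agent.H18.GenLocusGen
import Groth.Agent.H18.TensorPowIso
import Groth.Agent.H18.TwistAmple

set_option autoImplicit false
universe u
open CategoryTheory CategoryTheory.Limits AlgebraicGeometry TopologicalSpace
open Props

namespace Groth.Agent.S9813

/-- Let L be an invertible module on a scheme X such that every point lies in an affine open of the form
X_s for some global section s of a positive tensor power of L. Then X is separated. In particular a
scheme carrying an ample invertible module is separated. -/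
theorem result (X : Scheme.{u}) (L : X.Modules) (hL : PicF.IsInvertible L)
    (h : ∀ x : X, ∃ (n : ℕ) (s : Coh.structureModule X ⟶ CohB1.tensorPow L (n + 1)),
      x ∈ CohB1.genLocus _ s ∧ IsAffineOpen (CohB1.genLocus _ s)) :
    X.IsSeparated := by
  choose n s hx haff using h
  refine Groth.Agent.H18.SepCover.isSeparated_of_affine_cover
    (fun x : X => CohB1.genLocus _ (s x)) ?_ haff (fun i j => ?_)
  · refine IsOpenCover.mk ?_
    rw [eq_top_iff]
    intro x _
    exact Opens.mem_iSup.mpr ⟨x, hx x⟩
  · obtain ⟨e₁⟩ := Groth.Agent.H18.TensorPowIso.nonempty_tensorPow_tensorPow hL (n i + 1) (n j + 1)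
    obtain ⟨e₂⟩ := Groth.Agent.H18.TensorPowIso.nonempty_tensorPow_tensorPow hL (n j + 1) (n i + 1)
    obtain ⟨e₃⟩ := Groth.Agent.H18.TensorPowIso.nonempty_tensorPow_congr L
      (Nat.mul_comm (n j + 1) (n i + 1))
    have hA : CohB1.genLocus _ (SecTwist.powHom (s i) (n j + 1) ≫ e₁.hom) =
        CohB1.genLocus _ (s i) := by
      rw [Groth.Agent.H18.TwistAmple.genLocus_comp_iso,
        Groth.Agent.H18.TensorPowIso.genLocus_powHom_succ
          (Groth.Agent.H18.TensorGen.isInvertible_tensorPow hL _)]
    have hB : CohB1.genLocus _ (SecTwist.powHom (s j) (n i + 1) ≫ (e₂ ≪≫ e₃).hom) =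
        CohB1.genLocus _ (s j) := by
      rw [Groth.Agent.H18.TwistAmple.genLocus_comp_iso,
        Groth.Agent.H18.TensorPowIso.genLocus_powHom_succ
          (Groth.Agent.H18.TensorGen.isInvertible_tensorPow hL _)]
    exact Groth.Agent.H18.GenLocusGen.exists_pair _ _ hA hB

end Groth.Agent.S9813
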