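import Groth.Statements.S1032
import Mathlib

set_option autoImplicit false
universe w v v' u u'
open CategoryTheory CategoryTheory.Limits
open CohDer

namespace Groth.Agent.S1032

/-- For a K-injective complex `I`, the identity of `Qh(I)` is a terminal costructured arrow. -/
noncomputable def isTerminalMkId {A : Type u} [Category.{v} A] [Abelian A]
    [HasDerivedCategory.{w} A] (I : CochainComplex A ℤ) [I.IsKInjective] :
    IsTerminal (CostructuredArrow.mk (S := (DerivedCategory.Qh : _ ⥤ DerivedCategory A))
      (𝟙 (DerivedCategory.Qh.obj ((HomotopyCategory.quotient A (ComplexShape.up ℤ)).obj I)))) :=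
  IsTerminal.ofUniqueHom
    (fun g => CostructuredArrow.homMk
      ((CochainComplex.IsKInjective.Qh_map_bijective g.left I).surjective g.hom).choose (by
        have := ((CochainComplex.IsKInjective.Qh_map_bijective g.left I).surjective
          g.hom).choose_spec
        simpa using this))
    (fun g m => by
      apply CostructuredArrow.hom_ext
      apply (CochainComplex.IsKInjective.Qh_map_bijective g.left I).injective
      have h1 := ((CochainComplex.IsKInjective.Qh_map_bijective g.left I).surjective
          g.hom).choose_spec
      have h2 := CostructuredArrow.w m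
      simp only [CostructuredArrow.homMk_left]
      rw [h1]
      exact (Category.comp_id _).symm.trans h2)

/-- Let A be an abelian category in which every cochain complex admits a quasi-isomorphism to a
K-injective complex, and let F be an exact functor from the homotopy category K(A) to a
pretriangulated category. Then F has a right derived functor RF with respect to quasi-isomorphisms
(defined on D(A)), and the canonical map F(I) ⟶ RF(I) is an isomorphism for every K-injective
complex I. -/
theorem result {A : Type u} [Category.{v} A] [Abelian A] [HasDerivedCategory.{w} A]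
    (hKinj : ∀ K : CochainComplex A ℤ, ∃ (I : CochainComplex A ℤ) (f : K ⟶ I), I.IsKInjective ∧ QuasiIso f)
    {D' : Type u'} [Category.{v'} D'] [Preadditive D'] [Limits.HasZeroObject D'] [HasShift D' ℤ]
    [∀ n : ℤ, (shiftFunctor D' n).Additive] [Pretriangulated D']
    [IsTriangulated D']
    (F : HomotopyCategory A (ComplexShape.up ℤ) ⥤ D') [F.CommShift ℤ] [F.IsTriangulated] :
    F.HasRightDerivedFunctor (HomotopyCategory.quasiIso A (ComplexShape.up ℤ)) ∧
    ∀ [F.HasRightDerivedFunctor (HomotopyCategory.quasiIso A (ComplexShape.up ℤ))] (I : CochainComplex A ℤ), I.IsKInjective →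
      IsIso ((F.totalRightDerivedUnit DerivedCategory.Qh (HomotopyCategory.quasiIso A (ComplexShape.up ℤ))).app
        ((HomotopyCategory.quotient A (ComplexShape.up ℤ)).obj I)) := by
  have hpt : F.HasPointwiseRightDerivedFunctor
      (HomotopyCategory.quasiIso A (ComplexShape.up ℤ)) := by
    intro X
    obtain ⟨I, f, hI, hf⟩ := hKinj X.as
    have := hI
    have hI' : F.HasPointwiseRightDerivedFunctorAt
        (HomotopyCategory.quasiIso A (ComplexShape.up ℤ))
        ((HomotopyCategory.quotient A (ComplexShape.up ℤ)).obj I) := by
      rw [F.hasPointwiseRightDerivedFunctorAt_iff DerivedCategory.Qh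
        (HomotopyCategory.quasiIso A (ComplexShape.up ℤ))]
      exact ⟨_, colimitOfDiagramTerminal (isTerminalMkId I) _⟩
    have hw : HomotopyCategory.quasiIso A (ComplexShape.up ℤ)
        ((HomotopyCategory.quotient A (ComplexShape.up ℤ)).map f) := by
      rw [HomotopyCategory.quotient_map_mem_quasiIso_iff]
      exact hf
    exact (F.hasPointwiseRightDerivedFunctorAt_iff_of_mem
      (HomotopyCategory.quasiIso A (ComplexShape.up ℤ)) _ hw).2 hI'
  refine ⟨inferInstance, ?_⟩
  intro _ I hI
  have := hI
  have hE := Functor.isPointwiseLeftKanExtensionOfHasPointwiseRightDerivedFunctor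
    (F' := F.totalRightDerived DerivedCategory.Qh
      (HomotopyCategory.quasiIso A (ComplexShape.up ℤ)))
    (α := F.totalRightDerivedUnit DerivedCategory.Qh
      (HomotopyCategory.quasiIso A (ComplexShape.up ℤ)))
    (HomotopyCategory.quasiIso A (ComplexShape.up ℤ))
  have := (hE (DerivedCategory.Qh.obj
    ((HomotopyCategory.quotient A (ComplexShape.up ℤ)).obj I))).isIso_ι_app_of_isTerminal _
      (isTerminalMkId I)
  have e : ((Functor.LeftExtension.mk _ (F.totalRightDerivedUnit DerivedCategory.Qh
      (HomotopyCategory.quasiIso A (ComplexShape.up ℤ)))).coconeAt (DerivedCategory.Qh.obj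
        ((HomotopyCategory.quotient A (ComplexShape.up ℤ)).obj I))).ι.app
        (CostructuredArrow.mk (𝟙 (DerivedCategory.Qh.obj
          ((HomotopyCategory.quotient A (ComplexShape.up ℤ)).obj I)))) =
      (F.totalRightDerivedUnit DerivedCategory.Qh
        (HomotopyCategory.quasiIso A (ComplexShape.up ℤ))).app
          ((HomotopyCategory.quotient A (ComplexShape.up ℤ)).obj I) := by
    dsimp [Functor.LeftExtension.coconeAt]
    rw [CategoryTheory.Functor.map_id, Category.comp_id]
    rfl
  rw [← e]
  exact this

end Groth.Agent.S1032
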