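import Groth.Statements.S16909
import Mathlib
import Groth.Agent.H22.SerreAffine

set_option autoImplicit false
set_option linter.style.haveILetI false
universe u
open CategoryTheory CategoryTheory.Limits AlgebraicGeometry
open ResProp

namespace Groth.Agent.S16909

open Groth.Agent.H22.SerreAffine Groth.Agent.H22.QCohLimits Groth.Agent.H8 Opposite
  TopologicalSpace

/-- A morphism out of the structure module vanishing on the global section `1` is zero. -/
lemma hom_eq_zero_of_app_one {X : Scheme.{u}} {M : X.Modules} (ψ : Coh.structureModule X ⟶ M)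
    (h : ψ.app ⊤ (show Γ(Coh.structureModule X, ⊤) from (1 : Γ(X, ⊤))) = 0) : ψ = 0 := by
  apply (SheafOfModules.unitHomEquiv M).injective
  apply Subtype.ext
  funext U
  obtain ⟨V⟩ := U
  have h1 := SheafOfModules.unitHomEquiv_apply_coe M ψ (op V)
  have h2 := SheafOfModules.unitHomEquiv_apply_coe M (0 : Coh.structureModule X ⟶ M) (op V)
  refine h1.trans (Eq.trans ?_ h2.symm)
  have h3 : ψ.app V (show Γ(Coh.structureModule X, V) from (1 : Γ(X, V))) = 0 := by
    have h4 : (show Γ(Coh.structureModule X, V) from (1 : Γ(X, V))) =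
        (Coh.structureModule X).presheaf.map (homOfLE (le_top : V ≤ ⊤)).op
          (show Γ(Coh.structureModule X, ⊤) from (1 : Γ(X, ⊤))) :=
      (map_one (X.presheaf.map (homOfLE (le_top : V ≤ ⊤)).op).hom).symm
    rw [h4, app_res, h, map_zero]
  exact h3

/-- Let `X` be a quasi-compact and quasi-separated scheme on which every quasi-coherent module is
globally generated (a quotient of a free module on some index type, i.e. the structure sheaf is a
generating family). Then `X` is quasi-affine. No separatedness hypothesis is made; it follows. (The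
published statement is for an algebraic stack over an algebraic space with affine stabilizer groups
at closed points and concludes that it is representable by a quasi-affine morphism; that general
case rests on results outside this text, and this row is the final step of its proof, the case of a
scheme.) -/
theorem result (X : Scheme.{u}) [CompactSpace X]
    [QuasiSeparatedSpace X] (h : ∀ M : X.Modules, Coh.IsQCoh M → Curv2.IsGloballyGenerated M) :
    X.IsQuasiAffine := by
  classical
  apply Scheme.IsQuasiAffine.of_forall_exists_mem_basicOpen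
  intro x
  obtain ⟨_, ⟨U, hU, rfl⟩, hxU, -⟩ := X.isBasis_affineOpens.exists_subset_of_mem_open
    (Set.mem_univ x) isOpen_univ
  let Y : Closeds X := ⟨(U : Set X)ᶜ, U.2.isClosed_compl⟩
  obtain ⟨IY, hsY⟩ : ∃ IY : X.IdealSheafData, (IY.support : Set X) = (Y : Set X) :=
    ⟨Scheme.IdealSheafData.vanishingIdeal Y, Scheme.IdealSheafData.coe_support_vanishingIdeal Y⟩
  obtain ⟨ι, p, hp⟩ := h (kernel (ClSub.toSubscheme IY)) inferInstance
  obtain ⟨q, hq⟩ : ∃ q : ι → (Coh.structureModule X ⟶ Coh.structureModule X),
    q = fun i => SheafOfModules.ιFree i ≫ p ≫ kernel.ι (ClSub.toSubscheme IY) := ⟨_, rfl⟩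
  have hq' : ∀ i, q i = SheafOfModules.ιFree i ≫ p ≫ kernel.ι (ClSub.toSubscheme IY) :=
    fun i => by rw [hq]
  obtain ⟨f, hf⟩ : ∃ f : ι → Γ(X, ⊤),
    f = fun i => (q i).app ⊤ (show Γ(Coh.structureModule X, ⊤) from (1 : Γ(X, ⊤))) := ⟨_, rfl⟩
  have hf' : ∀ i, f i = (q i).app ⊤ (show Γ(Coh.structureModule X, ⊤) from (1 : Γ(X, ⊤))) :=
    fun i => by rw [hf]
  -- (A) the basic opens are contained in `U`
  have hA : ∀ i, X.basicOpen (f i) ≤ U := by
    intro i y hy
    by_contra hyU
    obtain ⟨z, rfl⟩ : ∃ z : IY.subscheme, IY.subschemeι z = y := by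
      have h5 : y ∈ Set.range IY.subschemeι := by
        rw [IY.range_subschemeι, hsY]
        exact hyU
      exact h5
    have h0 : (IY.subschemeι.app ⊤).hom (f i) = 0 := by
      have h6 := app_comp_eq_zero (ShortComplex.mk (kernel.ι (ClSub.toSubscheme IY))
        (ClSub.toSubscheme IY) (kernel.condition _)) ⊤
        ((show Coh.structureModule X ⟶ kernel (ClSub.toSubscheme IY) from
          SheafOfModules.ιFree i ≫ p).app ⊤
          (show Γ(Coh.structureModule X, ⊤) from (1 : Γ(X, ⊤))))
      rw [hf' i, hq' i]
      exact h6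
    exact not_mem_basicOpen_of_app_eq_zero IY.subschemeι (f i) h0 z hy
  -- (B) some basic open contains `x`
  have hB : ∃ i, x ∈ X.basicOpen (f i) := by
    by_contra hcon
    push Not at hcon
    obtain ⟨g, hg⟩ : ∃ g : Spec (X.residueField x) ⟶ X, g = X.fromSpecResidueField x :=
      ⟨_, rfl⟩
    have hgz : ∀ z, g z = x := fun z => by
      rw [hg]
      exact X.fromSpecResidueField_apply x z
    have hzero : ∀ i, (g.app ⊤).hom (f i) = 0 := by
      intro i
      have h8 : g ⁻¹ᵁ X.basicOpen (f i) = ⊥ := by
        rw [eq_bot_iff]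
        intro z hz
        have hz' : g z ∈ X.basicOpen (f i) := hz
        rw [hgz z] at hz'
        exact (hcon i hz').elim
      rw [Scheme.preimage_basicOpen] at h8
      exact (basicOpen_eq_bot_iff _).mp h8
    have hθ : p ≫ kernel.ι (ClSub.toSubscheme IY) ≫ ClSub.unitToPush g = 0 := by
      refine Sigma.hom_ext _ _ (fun i => ?_)
      refine Eq.trans ?_ comp_zero.symm
      have h9 : Sigma.ι (fun _ : ι => SheafOfModules.unit X.ringCatSheaf) i ≫
          p ≫ kernel.ι (ClSub.toSubscheme IY) ≫ ClSub.unitToPush g =
          q i ≫ ClSub.unitToPush g := by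
        rw [hq' i]
        exact ((Category.assoc (SheafOfModules.ιFree i) (p ≫ kernel.ι (ClSub.toSubscheme IY))
          (ClSub.unitToPush g)).trans (congrArg (fun t => SheafOfModules.ιFree i ≫ t)
            (Category.assoc p (kernel.ι (ClSub.toSubscheme IY)) (ClSub.unitToPush g)))).symm
      refine h9.trans ?_
      apply hom_eq_zero_of_app_one
      have h10 : (q i ≫ ClSub.unitToPush g).app ⊤
          (show Γ(Coh.structureModule X, ⊤) from (1 : Γ(X, ⊤))) =
          (ClSub.unitToPush g).app ⊤ (show Γ(Coh.structureModule X, ⊤) from f i) := by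
        rw [hf' i]
        rfl
      rw [h10, unitToPush_app]
      exact hzero i
    have hκ : kernel.ι (ClSub.toSubscheme IY) ≫ ClSub.unitToPush g = 0 := by
      haveI := hp
      exact (cancel_epi p).mp (hθ.trans comp_zero.symm)
    have hdisj : Disjoint (U : Set X) (IY.support : Set X) := by
      rw [hsY]
      exact Set.disjoint_left.mpr (fun y hy hyY => hyY hy)
    obtain ⟨t, ht⟩ := exists_lift_of_disjoint IY U hdisj
      (show Γ(Coh.structureModule X, U) from (1 : Γ(X, U)))
    have h11 : (ClSub.unitToPush g).app U ((kernel.ι (ClSub.toSubscheme IY)).app U t) = 0 := by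
      have h12 : (kernel.ι (ClSub.toSubscheme IY) ≫ ClSub.unitToPush g).app U t = 0 := by
        rw [hκ]
        rfl
      exact h12
    rw [ht, unitToPush_app] at h11
    have h13 : (g.app U).hom (1 : Γ(X, U)) = 0 := h11
    rw [map_one] at h13
    haveI : Nonempty (g ⁻¹ᵁ U) := by
      obtain ⟨z⟩ : Nonempty (Spec (X.residueField x)) := inferInstance
      exact ⟨⟨z, by
        show g z ∈ U
        rw [hgz z]
        exact hxU⟩⟩
    exact one_ne_zero h13
  obtain ⟨i, hi⟩ := hB
  refine ⟨f i, ?_, hi⟩
  have h2 : X.basicOpen (X.presheaf.map (homOfLE (le_top : U ≤ ⊤)).op (f i)) =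
      X.basicOpen (f i) := by
    rw [X.basicOpen_res]
    exact inf_eq_right.mpr (hA i)
  rw [← h2]
  exact hU.basicOpen _

end Groth.Agent.S16909
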