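import Groth.Statements.S14995
import Groth.Agent.H17.Hartogs

set_option autoImplicit false
universe u
open CategoryTheory CategoryTheory.Limits AlgebraicGeometry
open Coherent

namespace Groth.Agent.S14995

/-- Let Y be a locally Noetherian scheme, E and F coherent O_Y-modules and U an open subset of Y such
that for every point y of Y outside U the stalk E_y has depth at least 2 as a module over the local
ring O_{Y,y}. Then restricting morphisms to U is a bijection from Hom(F, E) onto Hom(F|_U, E|_U).
(The published statement is the case F = E; this row allows any coherent F.) -/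
theorem result (Y : Scheme.{u}) [IsLocallyNoetherian Y]
    (E F : Y.Modules) (hE : Coh.IsCoh E) (hF : Coh.IsCoh F) (U : Y.Opens)
    (hdepth : ∀ y : Y, y ∉ U → (2 : ℕ∞) ≤ LocCoh.depth (Y.presheaf.stalk y) (E.presheaf.stalk y)) :
    Function.Bijective (fun φ : F ⟶ E => (Scheme.Modules.restrictFunctor U.ι).map φ) := by
  -- the unit `E ⟶ j_* j^* E` is an isomorphism
  haveI hiso : IsIso ((Scheme.Modules.restrictAdjunction U.ι).unit.app E) := by
    rw [Scheme.Modules.Hom.isIso_iff_isIso_app]
    intro W
    have hb : Function.Bijective (E.presheaf.map (homOfLE (U.ι.image_preimage_le W)).op) := by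
      apply Groth.Agent.H17.Hartogs.map_bijective_of_depth E hE
      intro x hxW hxV
      apply hdepth x
      intro hxU
      exact hxV ⟨⟨x, hxU⟩, hxW, rfl⟩
    have hi : IsIso (E.presheaf.map (homOfLE (U.ι.image_preimage_le W)).op) :=
      (ConcreteCategory.isIso_iff_bijective _).mpr hb
    exact hi
  have key : ∀ φ : F ⟶ E, (Scheme.Modules.restrictFunctor U.ι).map φ =
      ((Scheme.Modules.restrictAdjunction U.ι).homEquiv F _).symm
        (φ ≫ (Scheme.Modules.restrictAdjunction U.ι).unit.app E) := by
    intro φ
    rw [Equiv.eq_symm_apply, Adjunction.homEquiv_unit]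
    exact ((Scheme.Modules.restrictAdjunction U.ι).unit.naturality φ).symm
  constructor
  · intro φ φ' h
    simp only [key] at h
    have h2 := (Equiv.injective _) h
    exact (cancel_mono _).mp h2
  · intro ψ
    refine ⟨(Scheme.Modules.restrictAdjunction U.ι).homEquiv F _ ψ ≫
      inv ((Scheme.Modules.restrictAdjunction U.ι).unit.app E), ?_⟩
    simp only [key, Category.assoc, IsIso.inv_hom_id, Category.comp_id, Equiv.symm_apply_apply]

end Groth.Agent.S14995
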