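import Groth.Statements.S1578
import Mathlib.RingTheory.Ideal.AssociatedPrime.Localization

set_option autoImplicit false
universe u
open CategoryTheory CategoryTheory.Limits AlgebraicGeometry
open Divisors

namespace Groth.Agent.S1578

noncomputable section

variable (A : CommRingCat.{u}) (M : ModuleCat.{u} A) (p : Spec A)

instance isPrimeSpec : p.asIdeal.IsPrime := p.isPrime

abbrev toTop (p : Spec A) : PrimeSpectrum.Top A := p

instance isPrimeSpec' : (toTop A p).asIdeal.IsPrime := p.isPrime

@[reducible] def algStalk : Algebra A ((Spec A).presheaf.stalk p) :=
  inferInstanceAs (Algebra A ((structurePresheafInCommRingCat A).stalk (toTop A p)))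

attribute [local instance] algStalk

instance isLocStalk : IsLocalization.AtPrime ((Spec A).presheaf.stalk p) p.asIdeal :=
  inferInstanceAs (IsLocalization.AtPrime ((structurePresheafInCommRingCat A).stalk (toTop A p)) (toTop A p).asIdeal)

@[reducible] def modStalk : Module A ((tilde M).presheaf.stalk p) :=
  inferInstanceAs (Module A ↑(TopCat.Presheaf.stalk (moduleStructurePresheaf A M).presheaf (toTop A p)))

attribute [local instance] modStalk

instance towerStalk : IsScalarTower A ((Spec A).presheaf.stalk p) ((tilde M).presheaf.stalk p) :=
  inferInstanceAs (IsScalarTower A ((structurePresheafInCommRingCat A).stalk (toTop A p))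
      ↑(TopCat.Presheaf.stalk (moduleStructurePresheaf A M).presheaf (toTop A p)))

def toStalkL : M →ₗ[A] ((tilde M).presheaf.stalk p) := StructureSheaf.toStalkₗ A M (toTop A p)

instance : IsLocalizedModule p.asIdeal.primeCompl (toStalkL A M p) :=
    inferInstanceAs (IsLocalizedModule (toTop A p).asIdeal.primeCompl (StructureSheaf.toStalkₗ A M (toTop A p)))


open Module.associatedPrimes in
/-- Let M be a module over a ring A, F the associated quasi-coherent module on Spec A, and p a prime of
A. If p is an associated prime of M then p is an associated point of F; the converse holds when p is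
finitely generated. -/
theorem result (A : CommRingCat.{u}) (M : ModuleCat.{u} A)
    (p : Spec A) :
    (p.asIdeal ∈ associatedPrimes A M → Curv2.IsAssPoint (tilde M) p) ∧
    (p.asIdeal.FG → Curv2.IsAssPoint (tilde M) p → p.asIdeal ∈ associatedPrimes A M) := by
  have hcomap : (IsLocalRing.maximalIdeal ((Spec A).presheaf.stalk p)).comap
      (algebraMap A _) = p.asIdeal := IsLocalization.AtPrime.comap_maximalIdeal _ _
  constructor
  · intro h
    exact mem_associatedPrimes_of_comap_mem_associatedPrimes_of_isLocalizedModule
      p.asIdeal.primeCompl (toStalkL A M p) _ (hcomap.symm ▸ h)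
  · intro hfg h
    have := comap_mem_associatedPrimes_of_mem_associatedPrimes_of_isLocalizedModule_of_fg
      p.asIdeal.primeCompl (toStalkL A M p) _ h (hcomap.symm ▸ hfg)
    rwa [hcomap] at this

end

end Groth.Agent.S1578
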