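import Groth.Statements.S9826
-- import your own Groth.Agent.* helpers here
import Groth.Agent.H8.CohAffine

set_option autoImplicit false
universe u
open CategoryTheory CategoryTheory.Limits AlgebraicGeometry TopologicalSpace Opposite
open Props

namespace Groth.Agent.S9826

/-- A module with a finite global family of generating sections is of finite type. -/
theorem isFT_of_generatingSections {X : Scheme.{u}} (N : X.Modules)
    (G : SheafOfModules.GeneratingSections N) [G.IsFiniteType] :
    SheafOfModules.IsFiniteType (R := X.ringCatSheaf) N := by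
  have h : G.localGeneratorsData.IsFiniteType := by
    constructor
    intro i
    exact ⟨inferInstanceAs (Finite G.I)⟩
  exact { exists_localGeneratorsData := ⟨_, h⟩ }

theorem finite_of_isFT (R : CommRingCat.{u}) (M : ModuleCat.{u} R)
    (h : CohB1.IsFT (tilde M)) : Module.Finite R M := by
  haveI : SheafOfModules.IsFiniteType (R := (Spec R).ringCatSheaf) (tilde M) := h
  have hfin : Module.Finite Γ(Spec R, ⊤) Γ(tilde M, ⊤) :=
    Groth.Agent.H8.finite_sections_of_isAffineOpen (tilde M) (isAffineOpen_top (Spec R))
  have hsurj : Function.Surjective (algebraMap R Γ(Spec R, ⊤)) :=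
    (ConcreteCategory.bijective_of_isIso (Scheme.ΓSpecIso R).inv).2
  haveI : Module.Finite R Γ(Spec R, ⊤) :=
    Module.Finite.of_surjective (Algebra.linearMap R Γ(Spec R, ⊤)) hsurj
  have hR : Module.Finite R Γ(tilde M, ⊤) := Module.Finite.trans Γ(Spec R, ⊤) Γ(tilde M, ⊤)
  exact @Module.Finite.equiv R _ _ _ _ _ _ _ hR (tilde.isoTop M).toLinearEquiv.symm

theorem isFT_of_finite (R : CommRingCat.{u}) (M : ModuleCat.{u} R)
    (h : Module.Finite R M) : CohB1.IsFT (tilde M) := by
  obtain ⟨s, hs⟩ := h.fg_top
  let P := presentationTilde M (↑s : Set M) hs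
    (LinearMap.ker (Finsupp.linearCombination R ((↑) : (↑s : Set M) → M)) : Set _)
    (Submodule.span_eq _)
  haveI : P.generators.IsFiniteType := ⟨inferInstanceAs (Finite (↑s : Set M))⟩
  exact isFT_of_generatingSections (tilde M) P.generators

/-- The sheaf associated to a module over a ring is of finite type on the spectrum if and only if the
module is finitely generated. -/
theorem result (R : CommRingCat.{u}) (M : ModuleCat.{u} R) :
    CohB1.IsFT (tilde M) ↔ Module.Finite R M := by
  exact ⟨finite_of_isFT R M, isFT_of_finite R M⟩

end Groth.Agent.S9826
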