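import Groth.Statements.S16081
import Groth.Agent.H17.ReflSheaf
import Groth.Agent.H17.ReflHom
import Groth.Agent.H8.Coh

set_option autoImplicit false
universe u
open CategoryTheory CategoryTheory.Limits AlgebraicGeometry TopologicalSpace
open SDiv

namespace Groth.Agent.S16081

/-- Let X be an integral locally Noetherian scheme and F, G coherent O_X-modules with G reflexive. Then
the sheaf Hom 𝓗om_{O_X}(F, G) is reflexive: its canonical map into its reflexive hull is an
isomorphism. -/
theorem result (X : Scheme.{u}) [IsIntegral X] [IsLocallyNoetherian X] (F G : X.Modules)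
    (hF : Coh.IsCoh F) (hG : Coh.IsCoh G) (hGr : RefHull.IsReflexive G) :
    RefHull.IsReflexive (RefHull.homSh F G) := by
  have hH : Coh.IsCoh (RefHull.homSh F G) := Groth.Agent.H17.HomSh.isCoh_homSh F G hF hG
  refine Groth.Agent.H17.ReflSheaf.isReflexive_of_closed_points _ hH (fun x _ => ?_)
  haveI := Groth.Agent.H17.HomSh.isFP_of_isCoh F hF
  have he : Function.Bijective (RefHull.evalStalk F G x) :=
    ⟨Groth.Agent.H17.HomSh.evalStalk_injective F G x,
      Groth.Agent.H17.HomSh.evalStalk_surjective F G x⟩
  haveI : Module.Finite (X.presheaf.stalk x) (F.presheaf.stalk x) :=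
    Groth.Agent.H8.finite_stalk_of_isCoh F hF x
  haveI : Module.Finite (X.presheaf.stalk x) (G.presheaf.stalk x) :=
    Groth.Agent.H8.finite_stalk_of_isCoh G hG x
  haveI : Module.IsReflexive (X.presheaf.stalk x) (G.presheaf.stalk x) :=
    Groth.Agent.H17.ReflSheaf.isReflexiveAt_of_isReflexive G hG hGr x
  haveI : IsNoetherianRing (X.presheaf.stalk x) := inferInstance
  haveI : IsDomain (X.presheaf.stalk x) := inferInstance
  haveI := Groth.Agent.H17.ReflHom.isReflexive_linearMap (X.presheaf.stalk x)
    (F.presheaf.stalk x) (G.presheaf.stalk x)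
  exact Module.equiv (LinearEquiv.ofBijective _ he).symm

end Groth.Agent.S16081
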