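import Mathlib
import Groth.Statements.S16082
import Groth.Agent.H8.QCohStalk

set_option autoImplicit false
universe u
open CategoryTheory CategoryTheory.Limits AlgebraicGeometry TopologicalSpace
open SDiv

namespace Groth.Agent.S16082

/-- Let X be an integral scheme and F, G quasi-coherent O_X-modules with F of finite presentation and G
torsion free (every stalk G_x is a torsion-free module over the domain O_{X,x}). Then every stalk of
the sheaf Hom 𝓗om_{O_X}(F, G) is torsion free as well. -/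
theorem result (X : Scheme.{u}) [IsIntegral X] (F G : X.Modules) (hF : Coh.IsQCoh F)
    (hFp : CohB1.IsFP F) (hG : Coh.IsQCoh G) (hGt : TorSh.IsTorsionFree G) :
    TorSh.IsTorsionFree (RefHull.homSh F G) := by
  intro x
  refine ⟨fun r hr φ ψ hφψ => ?_⟩
  have hφψ' : r • φ = r • ψ := hφψ
  obtain ⟨Ur, hxr, ρ, rfl⟩ := TopCat.Presheaf.exists_germ_eq X.presheaf r
  obtain ⟨U1, hx1, a, rfl⟩ := TopCat.Presheaf.exists_germ_eq (RefHull.homSh F G).presheaf φ
  obtain ⟨U2, hx2, b, rfl⟩ := TopCat.Presheaf.exists_germ_eq (RefHull.homSh F G).presheaf ψ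
  obtain ⟨V0, hV0⟩ : ∃ V0 : X.Opens, V0 = Ur ⊓ U1 ⊓ U2 := ⟨_, rfl⟩
  have hxV0 : x ∈ V0 := hV0 ▸ ⟨⟨hxr, hx1⟩, hx2⟩
  have hVr : V0 ≤ Ur := hV0 ▸ (inf_le_left.trans inf_le_left)
  have hV1 : V0 ≤ U1 := hV0 ▸ (inf_le_left.trans inf_le_right)
  have hV2 : V0 ≤ U2 := hV0 ▸ inf_le_right
  obtain ⟨ρ0, hρ0⟩ : ∃ ρ0 : Γ(X, V0), ρ0 = X.presheaf.map (homOfLE hVr).op ρ := ⟨_, rfl⟩
  obtain ⟨a0, ha0⟩ : ∃ a0 : Γ(RefHull.homSh F G, V0),
    a0 = (RefHull.homSh F G).presheaf.map (homOfLE hV1).op a := ⟨_, rfl⟩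
  obtain ⟨b0, hb0⟩ : ∃ b0 : Γ(RefHull.homSh F G, V0),
    b0 = (RefHull.homSh F G).presheaf.map (homOfLE hV2).op b := ⟨_, rfl⟩
  have er : X.presheaf.germ Ur x hxr ρ = X.presheaf.germ V0 x hxV0 ρ0 := by
    rw [hρ0, TopCat.Presheaf.germ_res_apply]
  have ea : (RefHull.homSh F G).presheaf.germ U1 x hx1 a =
      (RefHull.homSh F G).presheaf.germ V0 x hxV0 a0 := by
    rw [ha0, TopCat.Presheaf.germ_res_apply]
  have eb : (RefHull.homSh F G).presheaf.germ U2 x hx2 b =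
      (RefHull.homSh F G).presheaf.germ V0 x hxV0 b0 := by
    rw [hb0, TopCat.Presheaf.germ_res_apply]
  rw [er] at hr
  rw [ea, eb]
  rw [er, ea, eb, ← Groth.Agent.H8.germ_smul, ← Groth.Agent.H8.germ_smul] at hφψ'
  obtain ⟨W, hxW, iW, iW', hW⟩ :=
    TopCat.Presheaf.germ_eq (RefHull.homSh F G).presheaf x hxV0 hxV0 _ _ hφψ'
  have hρne : ρ0 ≠ 0 := by
    rintro rfl
    rw [map_zero] at hr
    exact hr.ne_zero rfl
  have hab : (RefHull.homSh F G).presheaf.map iW.op a0 =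
      (RefHull.homSh F G).presheaf.map iW'.op b0 := by
    refine Subtype.ext (funext fun y => ?_)
    have hyV0 : y.1 ∈ V0 := iW.le y.2
    have e : X.presheaf.germ V0 y.1 hyV0 ρ0 • a0.1 ⟨y.1, hyV0⟩ =
        X.presheaf.germ V0 y.1 hyV0 ρ0 • b0.1 ⟨y.1, hyV0⟩ := congrArg (fun s => s.1 y) hW
    have hc : X.presheaf.germ V0 y.1 hyV0 ρ0 ≠ 0 := by
      intro h0
      apply hρne
      apply germ_injective_of_isIntegral X y.1 hyV0
      rw [h0, map_zero]
    have hreg : IsSMulRegular (G.presheaf.stalk y.1) (X.presheaf.germ V0 y.1 hyV0 ρ0) :=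
      (hGt y.1).isSMulRegular (IsRegular.of_ne_zero hc)
    show a0.1 ⟨y.1, hyV0⟩ = b0.1 ⟨y.1, hyV0⟩
    exact LinearMap.ext fun m => hreg (LinearMap.congr_fun e m)
  have h1 := TopCat.Presheaf.germ_res_apply (RefHull.homSh F G).presheaf iW x hxW a0
  have h2 := TopCat.Presheaf.germ_res_apply (RefHull.homSh F G).presheaf iW' x hxW b0
  rw [← h1, ← h2, hab]

end Groth.Agent.S16082
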