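import Groth.Statements.S2064
import Groth.Agent.H59.DepthLemma
import Mathlib

set_option autoImplicit false
universe u
open CategoryTheory
open CAlg

namespace Groth.Agent.S2064

open Groth.Agent.H15.Depth Groth.Agent.H59.DepthL CategoryTheory CategoryTheory.Limits


/-- Let `R` be a Noetherian local ring and `0 → M_e → M_{e-1} → … → M_0` a complex of finite `R`-modules
with `depth(M_j) ≥ j`. If `i > 0` is the largest index at which the complex is not exact, then the
homology at `M_i` has depth at least one. -/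
theorem result {R : Type u} [CommRing R] [IsLocalRing R] [IsNoetherianRing R]
    (C : ChainComplex (ModuleCat.{u} R) ℕ) (e : ℕ) (hzero : ∀ j, e < j → Limits.IsZero (C.X j))
    (hfin : ∀ j, Module.Finite R (C.X j)) (hdepth : ∀ j, j ≤ e → (j : ℕ∞) ≤ LocCoh.depth R (C.X j))
    (i : ℕ) (hi : 0 < i) (hnot : ¬ C.ExactAt i) (habove : ∀ j, i < j → C.ExactAt j) :
    1 ≤ LocCoh.depth R (C.homology i) := by
  classical
  set 𝔪 := IsLocalRing.maximalIdeal R with h𝔪
  have : ∀ j, Module.Finite R (C.X j) := hfin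
  have hie : i ≤ e := by
    by_contra h
    rw [not_le] at h
    exact hnot (ShortComplex.exact_of_isZero_X₂ _ (hzero i h))
  obtain ⟨i', rfl⟩ : ∃ i', i = i' + 1 := ⟨i - 1, by omega⟩
  -- elementwise exactness above
  have hex : ∀ j, i' + 1 < j + 1 → ∀ y : C.X (j+1), (C.d (j+1) j).hom y = 0 →
      ∃ w : C.X (j+2), (C.d (j+2) (j+1)).hom w = y := by
    intro j hj y hy
    have h1 := (C.exactAt_iff' (j+2) (j+1) j (by simp) (by simp)).1 (habove (j+1) hj)
    rw [ShortComplex.moduleCat_exact_iff] at h1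
    exact h1 y hy
  have hzero_case : ∀ j, e ≤ j → HasSeq 𝔪 (LinearMap.range (C.d (j+1) j).hom) (j+1) := by
    intro j hej
    have hz : IsZero (C.X (j+1)) := hzero (j+1) (by omega)
    have hsub : Subsingleton (C.X (j+1)) := ModuleCat.subsingleton_of_isZero hz
    have : Subsingleton (LinearMap.range (C.d (j+1) j).hom) := by
      refine ⟨fun a b => ?_⟩
      obtain ⟨a, w, rfl⟩ := a
      obtain ⟨b, w', rfl⟩ := b
      apply Subtype.ext
      rw [Subsingleton.elim w w']
    exact hasSeq_of_subsingleton _ _ _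
  have hB : ∀ k j, e ≤ j + k → i' + 1 ≤ j →
      HasSeq 𝔪 (LinearMap.range (C.d (j+1) j).hom) (j+1) := by
    intro k
    induction k with
    | zero => intro j hej _; exact hzero_case j (by omega)
    | succ k ih =>
      intro j hej hij
      by_cases hje : e ≤ j
      · exact hzero_case j hje
      · have h1 := ih (j+1) (by omega) (by omega)
        have h2 : HasSeq 𝔪 (C.X (j+1)) (j+1) :=
          hasSeq_of_le_depth _ _ (by exact_mod_cast hdepth (j+1) (by omega))
        refine depth_lemma (I := 𝔪) (j+1) (LinearMap.range (C.d (j+2) (j+1)).hom) (C.X (j+1))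
          (LinearMap.range (C.d (j+1) j).hom)
          (Submodule.subtype _) (LinearMap.rangeRestrict _) (Submodule.injective_subtype _) ?_
          (LinearMap.surjective_rangeRestrict _) h2 h1
        intro y
        constructor
        · intro hy
          have hy' : (C.d (j+1) j).hom y = 0 := congrArg Subtype.val hy
          obtain ⟨w, hw⟩ := hex j (by omega) y hy'
          exact ⟨⟨y, w, hw⟩, rfl⟩
        · rintro ⟨⟨_, w, rfl⟩, rfl⟩
          apply Subtype.ext
          show (C.d (j+1) j).hom ((C.d (j+2) (j+1)).hom w) = 0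
          have h3 : (C.d (j+2) (j+1) ≫ C.d (j+1) j).hom w = 0 := by
            rw [C.d_comp_d]; rfl
          exact h3
  -- a regular element on C.X (i'+1)
  have hMi : HasSeq 𝔪 (C.X (i'+1)) 1 :=
    (hasSeq_of_le_depth _ _ (by exact_mod_cast hdepth (i'+1) hie)).mono (by omega)
  obtain ⟨x, hx, hxreg, -⟩ := hasSeq_succ_iff.mp hMi
  have hB2 : HasSeq 𝔪 (LinearMap.range (C.d (i'+2) (i'+1)).hom) 2 :=
    (hB e (i'+1) (by omega) le_rfl).mono (by omega)
  have hxB : IsSMulRegular (LinearMap.range (C.d (i'+2) (i'+1)).hom) x := by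
    intro a b hab
    apply Subtype.ext
    apply hxreg
    exact congrArg Subtype.val hab
  have hq : HasSeq 𝔪 (QuotSMulTop x (LinearMap.range (C.d (i'+2) (i'+1)).hom)) 1 :=
    hasSeq_quot_of_hasSeq_succ hx hxB hB2
  obtain ⟨y, hy, hyreg, -⟩ := hasSeq_succ_iff.mp hq
  have hnosoc : ¬ HasSocle 𝔪 (QuotSMulTop x (LinearMap.range (C.d (i'+2) (i'+1)).hom)) :=
    fun h => h.not_regular hy hyreg
  -- the homology
  let S := C.sc' (i'+2) (i'+1) i'
  let eH : C.homology (i'+1) ≅
      ModuleCat.of R (LinearMap.ker S.g.hom ⧸ LinearMap.range S.moduleCatToCycles) :=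
    C.homologyIsoSc' (i'+2) (i'+1) i' (by simp) (by simp) ≪≫ S.moduleCatHomologyIso
  have hfinX2 : Module.Finite R S.X₂ := hfin (i'+1)
  have hnoeth : IsNoetherian R S.X₂ := isNoetherian_of_isNoetherianRing_of_finite R S.X₂
  have hfinQ : Module.Finite R (LinearMap.ker S.g.hom ⧸ LinearMap.range S.moduleCatToCycles) :=
    inferInstance
  have : Module.Finite R (C.homology (i'+1)) := Module.Finite.equiv eH.toLinearEquiv.symm
  have hnosocH : ¬ HasSocle 𝔪
      (LinearMap.ker S.g.hom ⧸ LinearMap.range S.moduleCatToCycles) := by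
    rintro ⟨q, hq0, hqI⟩
    obtain ⟨z, rfl⟩ := Submodule.Quotient.mk_surjective _ q
    apply hq0
    rw [Submodule.Quotient.mk_eq_zero]
    have hz : ∀ a ∈ 𝔪, ∃ w : C.X (i'+2),
        (C.d (i'+2) (i'+1)).hom w = a • (z.1 : S.X₂) := by
      intro a ha
      have h1 := hqI a ha
      rw [← Submodule.Quotient.mk_smul, Submodule.Quotient.mk_eq_zero] at h1
      obtain ⟨w, hw⟩ := h1
      exact ⟨w, congrArg Subtype.val hw⟩
    have hmem := mem_range_of_socle
      (Submodule.subtype (LinearMap.range (C.d (i'+2) (i'+1)).hom))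
      (Submodule.injective_subtype _) hx hxreg hnosoc (z.1 : S.X₂)
      (fun a ha => by
        obtain ⟨w, hw⟩ := hz a ha
        exact ⟨⟨_, w, hw⟩, rfl⟩)
    obtain ⟨⟨_, w, rfl⟩, hb⟩ := hmem
    exact ⟨w, Subtype.ext hb⟩
  have hnosoc' : ¬ HasSocle 𝔪 (C.homology (i'+1)) :=
    fun h => hnosocH (h.congr eH.toLinearEquiv)
  exact one_le_depth_of_not_hasSocle _ hnosoc'

end Groth.Agent.S2064
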