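import Groth.Statements.S9498
import Mathlib.Algebra.Homology.ShortComplex.ExactFunctor

set_option autoImplicit false
universe u
open AffSch

namespace Groth.Agent.S9498

open AlgebraicGeometry CategoryTheory Limits

lemma comapFun_injective {R : Type u} [CommRing R] {M N : Type u} [AddCommGroup M] [Module R M]
    [AddCommGroup N] [Module R N] (f : M →ₗ[R] N) (hf : Function.Injective f)
    (y : PrimeSpectrum.Top R) :
    Function.Injective (StructureSheaf.Localizations.comapFun f y) := by
  rw [injective_iff_map_eq_zero]
  intro x hx
  induction x using LocalizedModule.induction_on with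
  | h a b =>
    rw [StructureSheaf.Localizations.comapFun_mk] at hx
    rw [← LocalizedModule.zero_mk 1, LocalizedModule.mk_eq] at hx ⊢
    obtain ⟨c, hc⟩ := hx
    refine ⟨c, hf ?_⟩
    have hc' : (c : R) • f a = 0 := by simpa [Submonoid.smul_def] using hc
    change f ((c : R) • ((1 : R) • a)) = f ((c : R) • ((b : R) • (0 : M)))
    rw [smul_zero, smul_zero, one_smul, map_smul, hc', map_zero]

lemma tilde_map_mono {R : CommRingCat.{u}} {M N : ModuleCat.{u} R} (f : M ⟶ N) [Mono f] :
    Mono (tilde.map f) := by
  have hf : Function.Injective f.hom := (ModuleCat.mono_iff_injective f).mp inferInstance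
  apply (modulesSpecToSheaf (R := R)).mono_of_mono_map
  have e : modulesSpecToSheaf.map (tilde.map f) = ⟨(tilde.modulesSpecToSheafIso M).hom ≫
      { app U := ModuleCat.ofHom (StructureSheaf.comapₗ f.hom _ _ .rfl) } ≫
      (tilde.modulesSpecToSheafIso N).inv⟩ := SpecModulesToSheafFullyFaithful.map_preimage _
  rw [e]
  let mid : structurePresheafInModuleCat R M ⟶ structurePresheafInModuleCat R N :=
    { app U := ModuleCat.ofHom (StructureSheaf.comapₗ f.hom _ _ .rfl) }
  have hmid : Mono mid := by
    apply (config := { allowSynthFailures := true }) NatTrans.mono_of_mono_app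
    intro U
    rw [ModuleCat.mono_iff_injective]
    intro s t hst
    apply Subtype.ext
    funext x
    have h1 := congrFun (congrArg Subtype.val hst) x
    exact comapFun_injective f.hom hf x.1 h1
  apply (config := { allowSynthFailures := true }) Sheaf.Hom.mono_of_presheaf_mono
  change Mono ((tilde.modulesSpecToSheafIso M).hom ≫ mid ≫ (tilde.modulesSpecToSheafIso N).inv)
  have h2 : Mono (mid ≫ (tilde.modulesSpecToSheafIso N).inv) := mono_comp mid _
  exact @mono_comp _ _ _ _ _ (tilde.modulesSpecToSheafIso M).hom inferInstance _ h2

lemma key (R : CommRingCat.{u}) :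
    PreservesFiniteLimits (tilde.functor R) ∧ PreservesFiniteColimits (tilde.functor R) := by
  have hcolim : PreservesFiniteColimits (tilde.functor R) := inferInstance
  refine ⟨?_, hcolim⟩
  rw [Functor.preservesFiniteLimits_iff_forall_exact_map_and_mono]
  intro S hS
  refine ⟨((Functor.preservesFiniteColimits_iff_forall_exact_map_and_epi _).mp hcolim S hS).1, ?_⟩
  have : Mono S.f := hS.mono_f
  exact tilde_map_mono S.f

open AlgebraicGeometry in
open CategoryTheory Limits in
/-- For a commutative ring A, the functor M ↦ M~ from the category of A-modules to the category of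
O-modules on Spec A is exact, i.e. it preserves finite limits and finite colimits. -/
theorem result
    (A : Type u) [CommRing A] :
    PreservesFiniteLimits (tilde.functor (CommRingCat.of A)) ∧
      PreservesFiniteColimits (tilde.functor (CommRingCat.of A)) := by
  exact key (CommRingCat.of A)

end Groth.Agent.S9498
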