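import Groth.Statements.S0943
import Mathlib.CategoryTheory.Triangulated.Yoneda

set_option autoImplicit false
universe v' u' u
open CategoryTheory
open CohSite

namespace Groth.Agent.S0943

open CategoryTheory.Limits Pretriangulated Opposite

theorem rlim_hom_lifts {D : Type u'} [Category.{v'} D] [Preadditive D] [HasZeroObject D]
    [HasShift D ℤ] [∀ n : ℤ, (shiftFunctor D n).Additive] [Pretriangulated D]
    (K : ℕ → D) (t : ∀ n, K (n + 1) ⟶ K n) [HasProduct K] (L : D) (a : ∀ n, L ⟶ K n)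
    (hL : CohCx.IsRlimVia K t L a) (Z : D) (m : ℤ) :
    (∀ x : ∀ n, Z ⟶ (K n)⟦m⟧, (∀ n, x (n + 1) ≫ (t n)⟦m⟧' = x n) →
      ∃ y : Z ⟶ L⟦m⟧, ∀ n, y ≫ (a n)⟦m⟧' = x n) ∧
    (CohCx.LimOneIsZero (fun n => Z ⟶ (K n)⟦m - 1⟧)
        (fun n => Preadditive.rightComp _ ((t n)⟦m - 1⟧')) →
      ∀ y : Z ⟶ L⟦m⟧, (∀ n, y ≫ (a n)⟦m⟧' = 0) → y = 0) := by
  obtain ⟨c, hT⟩ := hL
  let α : L ⟶ ∏ᶜ K := Pi.lift a
  let β : ∏ᶜ K ⟶ ∏ᶜ K := Pi.lift fun n => Pi.π K n - Pi.π K (n + 1) ≫ t n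
  let T := Triangle.mk α β c
  have hT' : T ∈ distTriang D := hT
  let F := preadditiveCoyoneda.obj (op Z)
  have hlim : ∀ k : ℤ, IsLimit (Fan.mk ((∏ᶜ K)⟦k⟧) (fun n => (Pi.π K n)⟦k⟧')) := fun k =>
    isLimitFanMkObjOfIsLimit (shiftFunctor D k) K _ (productIsProduct K)
  have hβ : ∀ (k : ℤ) (n : ℕ), β⟦k⟧' ≫ (Pi.π K n)⟦k⟧' =
      (Pi.π K n)⟦k⟧' - (Pi.π K (n + 1))⟦k⟧' ≫ (t n)⟦k⟧' := by
    intro k n
    rw [← Functor.map_comp, ← Functor.map_comp, ← Functor.map_sub]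
    congr 1
    simp [β]
  have hα : ∀ (k : ℤ) (n : ℕ), α⟦k⟧' ≫ (Pi.π K n)⟦k⟧' = (a n)⟦k⟧' := by
    intro k n
    rw [← Functor.map_comp]
    congr 1
    simp [α]
  constructor
  · intro x hx
    let X : Z ⟶ (∏ᶜ K)⟦m⟧ := Fan.IsLimit.lift (hlim m) x
    have hX : ∀ n, X ≫ (Pi.π K n)⟦m⟧' = x n := fun n => Fan.IsLimit.fac (hlim m) x n
    have hXβ : X ≫ β⟦m⟧' = 0 := by
      apply Fan.IsLimit.hom_ext (hlim m)
      intro n
      change (X ≫ β⟦m⟧') ≫ (Pi.π K n)⟦m⟧' = 0 ≫ (Pi.π K n)⟦m⟧'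
      rw [Category.assoc, hβ, Preadditive.comp_sub, ← Category.assoc, hX, hX, hx, sub_self,
        zero_comp]
    have ex := F.homologySequence_exact₂ T hT' m
    rw [ShortComplex.ab_exact_iff] at ex
    obtain ⟨(y : Z ⟶ L⟦m⟧), hy⟩ := ex X hXβ
    refine ⟨y, fun n => ?_⟩
    have hy' : y ≫ α⟦m⟧' = X := hy
    rw [← hα m n, ← Category.assoc, hy', hX]
  · intro hlim1 y hy
    have hyα : y ≫ α⟦m⟧' = 0 := by
      apply Fan.IsLimit.hom_ext (hlim m)
      intro n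
      change (y ≫ α⟦m⟧') ≫ (Pi.π K n)⟦m⟧' = 0 ≫ (Pi.π K n)⟦m⟧'
      rw [Category.assoc, hα, hy, zero_comp]
    have ex := F.homologySequence_exact₁ T hT' (m - 1) m (by omega)
    rw [ShortComplex.ab_exact_iff] at ex
    obtain ⟨(w : Z ⟶ (∏ᶜ K)⟦m - 1⟧), hw⟩ := ex y hyα
    have hw' : F.homologySequenceδ T (m - 1) m (by omega) w = y := hw
    -- decompose w
    obtain ⟨v, hv⟩ := hlim1 (fun n => (w : Z ⟶ (∏ᶜ K)⟦m - 1⟧) ≫ (Pi.π K n)⟦m - 1⟧')
    let V : Z ⟶ (∏ᶜ K)⟦m - 1⟧ := Fan.IsLimit.lift (hlim (m - 1)) v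
    have hV : ∀ n, V ≫ (Pi.π K n)⟦m - 1⟧' = v n := fun n => Fan.IsLimit.fac (hlim (m - 1)) v n
    have hVw : V ≫ β⟦m - 1⟧' = w := by
      apply Fan.IsLimit.hom_ext (hlim (m - 1))
      intro n
      have := congr_fun hv n
      dsimp at this
      change (V ≫ β⟦m - 1⟧') ≫ (Pi.π K n)⟦m - 1⟧' = w ≫ (Pi.π K n)⟦m - 1⟧'
      rw [Category.assoc, hβ, Preadditive.comp_sub, ← Category.assoc, hV, hV]
      exact this
    have hzero := F.comp_homologySequenceδ T hT' (m - 1) m (by omega)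
    have hzero' : F.homologySequenceδ T (m - 1) m (by omega) (V ≫ β⟦m - 1⟧') = 0 :=
      congr_arg (fun φ => φ.hom V) hzero
    rw [← hw', ← hVw]
    exact hzero'

open CategoryTheory.Limits in
/-- Abelian sheaves; the short exact sequence 0 -> R^1 lim H^{m-1}(U, K_n) -> H^m(U, R lim K_n) -> lim
H^m(U, K_n) -> 0 rendered by two consequences: let (K_n) be an inverse system in the derived
category of abelian sheaves on a site with a derived limit L through maps a_n : L -> K_n, U an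
object and m an integer. Then every compatible family of classes in the H^m(U, K_n) lifts to H^m(U,
L), and if the system H^{m-1}(U, K_n) has vanishing R^1 lim the lift is unique (a class with zero
images is zero). -/
theorem result {C : Type u} [SmallCategory C] {J : GrothendieckTopology C}
    [HasDerivedCategory.{u} (Sheaf J AddCommGrpCat.{u})]
    (K : ℕ → DerivedCategory (Sheaf J AddCommGrpCat.{u})) (t : ∀ n, K (n + 1) ⟶ K n) [HasProduct K]
    (L : DerivedCategory (Sheaf J AddCommGrpCat.{u})) (a : ∀ n, L ⟶ K n) (hL : CohCx.IsRlimVia K t L a)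
    (U : C) (m : ℤ) :
    (∀ x : ∀ n, CohCx.HDU (K n) m U,
      (∀ n, x (n + 1) ≫ (shiftFunctor _ m).map (t n) = x n) →
      ∃ y : CohCx.HDU L m U, ∀ n, y ≫ (shiftFunctor _ m).map (a n) = x n) ∧
    (CohCx.LimOneIsZero (fun n => CohCx.HDU (K n) (m - 1) U)
        (fun n => Preadditive.rightComp _ ((shiftFunctor _ (m - 1)).map (t n))) →
      ∀ y : CohCx.HDU L m U, (∀ n, y ≫ (shiftFunctor _ m).map (a n) = 0) → y = 0) := by
  exact rlim_hom_lifts K t L a hL _ m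

end Groth.Agent.S0943
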