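import Groth.Statements.S0881
import Groth.Agent.H33.RlimTrunc
import Groth.Agent.S0880

set_option autoImplicit false
universe u
open CategoryTheory
open CohSite

namespace Groth.Agent.S0881

open CategoryTheory.Limits in
/-- Take an object E of the derived category of abelian sheaves on a site together with a class B of
objects covering every object, and suppose every V in B has a function p(V, -) such that every
covering sieve of V contains a covering family {V_i -> V} with H^p(V_i, H^{m-p}(E)) = 0 for all m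
and all p > p(V, m). Then E is a derived limit of the tower τ_{≥ -n} E through the canonical maps
(the existence of the product of the truncations is assumed). -/
theorem result {C : Type u} [SmallCategory C]
    {J : GrothendieckTopology C} [HasDerivedCategory.{u} (Sheaf J AddCommGrpCat.{u})]
    (E : DerivedCategory (Sheaf J AddCommGrpCat.{u})) [HasProduct (CohCx.truncTower E)] (B : Set C)
    (hB : ∀ U : C, ∃ (ι : Type u) (Y : ι → C) (f : ∀ i, Y i ⟶ U), Sieve.ofArrows Y f ∈ J U ∧ ∀ i, Y i ∈ B)
    (h : ∀ V ∈ B, ∃ p : ℤ → ℤ, ∀ T ∈ J V, ∃ (ι : Type u) (Y : ι → C) (f : ∀ i, Y i ⟶ V),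
      (∀ i, T.arrows (f i)) ∧ Sieve.ofArrows Y f ∈ J V ∧
      ∀ (i : ι) (m : ℤ) (k : ℕ), p m < k → Subsingleton (CohSite.HU (CohCx.HD E (m - k)) k (Y i))) :
    CohCx.IsRlimVia (CohCx.truncTower E) (CohCx.truncTowerMap E) E (CohCx.toTruncTower E) := by
  obtain ⟨L, a, hL⟩ := Groth.Agent.H33.RlimTrunc.exists_isRlimVia (CohCx.truncTower E)
    (CohCx.truncTowerMap E)
  obtain ⟨φ, hφ⟩ := Groth.Agent.H33.RlimTrunc.exists_lift _ _ L a hL E (CohCx.toTruncTower E)
    (fun n => Groth.Agent.H33.RlimTrunc.toTruncTower_comp E n)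
  suffices hiso : IsIso φ by
    have h3 := Groth.Agent.H33.RlimTrunc.isRlimVia_of_iso _ _ L a hL E φ
    have e : (fun n => φ ≫ a n) = CohCx.toTruncTower E := funext hφ
    rw [e] at h3
    exact h3
  rw [DerivedCategory.isIso_iff]
  intro m
  have hfac : ∀ n, (DerivedCategory.homologyFunctor _ m).map φ ≫
      (DerivedCategory.homologyFunctor _ m).map (a n) =
      (DerivedCategory.homologyFunctor _ m).map (CohCx.toTruncTower E n) := fun n => by
    rw [← Functor.map_comp, hφ]
  have hisoP : ∀ n : ℕ, -m ≤ n →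
      IsIso ((DerivedCategory.homologyFunctor _ m).map (CohCx.toTruncTower E n)) := fun n hn =>
    Groth.Agent.H33.RlimTrunc.isIso_homology_truncGEπ E (-(n : ℤ)) m (by omega)
  have hmono : Mono ((DerivedCategory.homologyFunctor _ m).map φ) := by
    haveI := hisoP (-m).toNat (Int.self_le_toNat _)
    exact mono_of_mono_fac (hfac (-m).toNat)
  have hsurjB : ∀ V ∈ B, Function.Surjective
      (Groth.Agent.H5.HDULib.sec J ((DerivedCategory.homologyFunctor _ m).map φ) V) := by
    intro V hV
    obtain ⟨p, hp⟩ := h V hV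
    have h1 : -m ≤ ((max (-m) (p m - m)).toNat : ℤ) :=
      le_trans (le_max_left _ _) (Int.self_le_toNat _)
    have h2 : p m - m ≤ ((max (-m) (p m - m)).toNat : ℤ) :=
      le_trans (le_max_right _ _) (Int.self_le_toNat _)
    have hinj := Groth.Agent.S0880.result (CohCx.truncTower E) (CohCx.truncTowerMap E) L a hL V m
      (max (-m) (p m - m)).toNat (fun T hT => by
        obtain ⟨ι, Y, f, hf, hcov, hY⟩ := hp T hT
        exact ⟨ι, Y, f, hf, hcov, fun i =>
          Groth.Agent.H33.RlimTrunc.milnor_conditions E m (Y i) p _ h1 h2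
            (fun k hk => hY i m k hk)⟩)
    haveI := hisoP _ h1
    exact Groth.Agent.H33.RlimTrunc.surj_of_inj _ _ _ (hfac _) V hinj
  have hepi : Epi ((DerivedCategory.homologyFunctor _ m).map φ) := by
    rw [← Sheaf.isLocallySurjective_iff_epi']
    constructor
    intro U s
    obtain ⟨ι, Y, f, hcov, hYB⟩ := hB U
    refine J.superset_covering ?_ hcov
    intro W g hg
    obtain ⟨i, k, rfl⟩ := (Sieve.mem_ofArrows_iff Y f _).1 hg
    apply Sieve.downward_closed
    obtain ⟨t', ht'⟩ := hsurjB (Y i) (hYB i) (((CohCx.HD L m).obj.map (f i).op).hom s)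
    exact ⟨t', ht'⟩
  exact isIso_of_mono_of_epi _

end Groth.Agent.S0881
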