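import Groth.Statements.S0864
import Mathlib.CategoryTheory.Sites.Adjunction

set_option autoImplicit false
universe u
open CategoryTheory
open CohSite

namespace Groth.Agent.S0864

open CategoryTheory.Limits Opposite in
/-- The free abelian sheaf on the presheaf of sets `yoneda U` agrees with the free abelian sheaf on the
sheafification of `yoneda U`: both functors are left adjoint to the forgetful functor. -/
noncomputable def freeIso {C : Type u} [SmallCategory C] (J : GrothendieckTopology C) :
    ((Functor.whiskeringRight Cᵒᵖ _ _).obj AddCommGrpCat.free.{u} ⋙ presheafToSheaf J AddCommGrpCat.{u}) ≅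
      (presheafToSheaf J (Type u) ⋙ Sheaf.composeAndSheafify J AddCommGrpCat.free.{u}) :=
  Adjunction.leftAdjointUniq
    ((Adjunction.whiskerRight Cᵒᵖ AddCommGrpCat.adj.{u}).comp (sheafificationAdjunction J AddCommGrpCat.{u}))
    (((sheafificationAdjunction J (Type u)).comp (Sheaf.adjunction J AddCommGrpCat.adj.{u})).ofNatIsoRight
      (NatIso.ofComponents (fun _ => Iso.refl _)))


/-- A totally acyclic abelian sheaf F on a site satisfies H^p(U, F) = 0 for every object U and every p >
0. -/
theorem result {C : Type u} [SmallCategory C] {J : GrothendieckTopology C}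
    (F : Sheaf J AddCommGrpCat.{u}) (hF : CohCx.IsTotallyAcyclic F) (U : C) (p : ℕ) :
    Subsingleton (CohSite.HU F (p + 1) U) := by
  have e := (freeIso J).app (yoneda.obj U)
  have hK := hF ((presheafToSheaf J (Type u)).obj (yoneda.obj U)) p
  change Subsingleton (Abelian.Ext ((presheafToSheaf J AddCommGrpCat.{u}).obj
    (yoneda.obj U ⋙ AddCommGrpCat.free.{u})) F (p + 1))
  have e' := ((Abelian.extFunctor (C := Sheaf J AddCommGrpCat.{u}) (p + 1)).mapIso e.op).app F
  exact (e'.addCommGroupIsoToAddEquiv.toEquiv).subsingleton_congr.mp hK

end Groth.Agent.S0864
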