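import Groth.Statements.S6514
import Groth.Agent.H31.StalkPullback
import Groth.Agent.H3.KInj
import Mathlib

set_option autoImplicit false
set_option backward.isDefEq.respectTransparency false
universe u
open CategoryTheory
open DCoh

namespace Groth.Agent.S6514

open AlgebraicGeometry CategoryTheory.Limits Groth.Agent.H31.Stalk

/-- Pullback of modules along a flat morphism preserves monomorphisms. -/
theorem mono_pullback_map {X Y : Scheme.{u}} (f : X ⟶ Y) [Flat f] {M N : Y.Modules} (g : M ⟶ N)
    [Mono g] : Mono ((Scheme.Modules.pullback f).map g) := by
  let P : ModSite.Mod (shX X) := (Scheme.Modules.pullback f).obj M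
  let Q' : ModSite.Mod (shX X) := (Scheme.Modules.pullback f).obj N
  let γ : P ⟶ Q' := (Scheme.Modules.pullback f).map g
  let S : ShortComplex (ModSite.Mod (shX X)) := ShortComplex.mk (0 : P ⟶ P) γ zero_comp
  have hS : S.Exact := by
    refine exact_of_stk (O := shX X) S (fun x => ?_)
    have hf0 : (S.map (stk (shX X) x)).f = 0 := by
      show (stk (shX X) x).map (0 : P ⟶ P) = 0
      exact Functor.map_zero _ _ _
    rw [ShortComplex.exact_iff_mono _ hf0]
    show Mono ((Scheme.Modules.pullback f ⋙ stk (shX X) x).map g)
    have : PreservesFiniteLimits (ModuleCat.extendScalars.{u, u, u} (φx f x)) :=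
      ModuleCat.preservesFiniteLimits_extendScalars_of_flat (AlgebraicGeometry.Flat.stalkMap f x)
    have : (stk (shX Y) (f x) ⋙
        ModuleCat.extendScalars.{u, u, u} (φx f x)).PreservesMonomorphisms := inferInstance
    have : (Scheme.Modules.pullback f ⋙ stk (shX X) x).PreservesMonomorphisms :=
      Functor.PreservesMonomorphisms.of_iso (stkPullbackIso f x).symm
    infer_instance
  have hγ : Mono γ := (S.exact_iff_mono rfl).1 hS
  exact hγ

theorem preservesFiniteColimits_pullback {X Y : Scheme.{u}} (f : X ⟶ Y) :
    PreservesFiniteColimits (Scheme.Modules.pullback f) :=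
  ⟨fun _ _ _ => (Scheme.Modules.pullbackPushforwardAdjunction f).leftAdjoint_preservesColimits.preservesColimitsOfShape⟩

theorem preservesFiniteLimits_pullback {X Y : Scheme.{u}} (f : X ⟶ Y) [Flat f] :
    PreservesFiniteLimits (Scheme.Modules.pullback f) := by
  have := preservesFiniteColimits_pullback f
  rw [Functor.preservesFiniteLimits_iff_forall_exact_map_and_mono]
  intro S hS
  have h1 := ((Functor.preservesFiniteColimits_iff_forall_exact_map_and_epi
    (Scheme.Modules.pullback f)).1 inferInstance S hS).1
  have := hS.mono_f
  exact ⟨h1, mono_pullback_map f S.f⟩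

open AlgebraicGeometry in
/-- If f : X → Y is a flat morphism of schemes and I is a K-injective complex of O_X-modules, then f_* I
(direct image applied termwise) is a K-injective complex of O_Y-modules. (The published statement is
for flat morphisms of ringed spaces; this row is for flat morphisms of schemes.) -/
theorem result {X Y : Scheme.{u}} (f : X ⟶ Y) [Flat f]
    (I : CochainComplex X.Modules ℤ) (hI : I.IsKInjective) :
    CochainComplex.IsKInjective (((Scheme.Modules.pushforward f).mapHomologicalComplex (ComplexShape.up ℤ)).obj I) := by
  have := preservesFiniteColimits_pullback f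
  have := preservesFiniteLimits_pullback f
  exact Groth.Agent.H3.isKInjective_of_rightAdjoint (Scheme.Modules.pushforward f)
    (Scheme.Modules.pullback f) (Scheme.Modules.pullbackPushforwardAdjunction f) I hI

end Groth.Agent.S6514
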