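import Groth.Statements.S6593
import Mathlib.CategoryTheory.Adjunction.Limits
import Mathlib.CategoryTheory.Limits.Preserves.Shapes.Products

set_option autoImplicit false
universe w v u
open CategoryTheory CategoryTheory.Limits
open CohDer

namespace Groth.Agent.S6593

set_option backward.defeqAttrib.useBackward true in
set_option backward.isDefEq.respectTransparency false in
open CategoryTheory.Pretriangulated in
/-- Let D be a pretriangulated category and (X_i → Y_i → Z_i → X_i⟦1⟧)_{i ∈ I} a family of distinguished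
triangles. If the direct sums ⨁ X_i, ⨁ Y_i, ⨁ Z_i exist, then ⨁ X_i → ⨁ Y_i → ⨁ Z_i → (⨁ X_i)⟦1⟧ is
a distinguished triangle (the last map is induced by the composites Z_i → X_i⟦1⟧ → (⨁ X_i)⟦1⟧). -/
theorem result {D : Type u} [Category.{v} D] [Preadditive D] [HasZeroObject D] [HasShift D ℤ]
    [∀ n : ℤ, (shiftFunctor D n).Additive] [Pretriangulated D]
    {J : Type w} (T : J → Triangle D) (hT : ∀ j, T j ∈ distinguishedTriangles)
    [HasCoproduct (fun j => (T j).obj₁)] [HasCoproduct (fun j => (T j).obj₂)] [HasCoproduct (fun j => (T j).obj₃)] :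
    Triangle.mk (Limits.Sigma.map (fun j => (T j).mor₁)) (Limits.Sigma.map (fun j => (T j).mor₂))
      (Sigma.desc (fun j => (T j).mor₃ ≫ (shiftFunctor D (1 : ℤ)).map (Sigma.ι (fun j => (T j).obj₁) j))) ∈ distinguishedTriangles := by
  classical
  let X := fun j => (T j).obj₁
  let Y := fun j => (T j).obj₂
  let Z := fun j => (T j).obj₃
  let f₁ : ∐ X ⟶ ∐ Y := Limits.Sigma.map (fun j => (T j).mor₁)
  let g₁ : ∐ Y ⟶ ∐ Z := Limits.Sigma.map (fun j => (T j).mor₂)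
  let h₁ : ∐ Z ⟶ (∐ X)⟦(1 : ℤ)⟧ :=
    Sigma.desc (fun j => (T j).mor₃ ≫ (shiftFunctor D (1 : ℤ)).map (Sigma.ι X j))
  change Triangle.mk f₁ g₁ h₁ ∈ distinguishedTriangles
  obtain ⟨W, f₂, f₃, hT'⟩ := distinguished_cocone_triangle f₁
  have hf₁ : ∀ j, Sigma.ι X j ≫ f₁ = (T j).mor₁ ≫ Sigma.ι Y j := fun j => by
    simp [f₁, X, Y]
  let φ : ∀ j, T j ⟶ Triangle.mk f₁ f₂ f₃ := fun j =>
    completeDistinguishedTriangleMorphism _ _ (hT j) hT' (Sigma.ι X j) (Sigma.ι Y j)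
      (hf₁ j).symm
  let ψ : ∐ Z ⟶ W := Sigma.desc (fun j => (φ j).hom₃)
  have hψ : ∀ j, Sigma.ι Z j ≫ ψ = (φ j).hom₃ := fun j => by simp [ψ]
  have c2 : ∀ j, (T j).mor₂ ≫ (φ j).hom₃ = Sigma.ι Y j ≫ f₂ := fun j => by
    have := (φ j).comm₂
    simpa [φ] using this
  have c3 : ∀ j, (T j).mor₃ ≫ (Sigma.ι X j)⟦(1 : ℤ)⟧' = (φ j).hom₃ ≫ f₃ := fun j => by
    have := (φ j).comm₃
    simpa [φ] using this
  have hg : g₁ ≫ ψ = f₂ := by
    apply Sigma.hom_ext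
    intro j
    have : Sigma.ι Y j ≫ g₁ = (T j).mor₂ ≫ Sigma.ι Z j := by simp [g₁, Y, Z]
    rw [← Category.assoc, this, Category.assoc, hψ, c2]
  have hh : h₁ = ψ ≫ f₃ := by
    apply Sigma.hom_ext
    intro j
    have : Sigma.ι Z j ≫ h₁ = (T j).mor₃ ≫ (Sigma.ι X j)⟦(1 : ℤ)⟧' := by simp [h₁, Z]
    rw [this, ← Category.assoc, hψ, c3]
  have hcX : IsColimit (Cofan.mk ((∐ X)⟦(1 : ℤ)⟧) (fun j => (Sigma.ι X j)⟦(1 : ℤ)⟧')) :=
    isColimitCofanMkObjOfIsColimit (shiftFunctor D (1 : ℤ)) _ _ (coproductIsCoproduct X)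
  have hcY : IsColimit (Cofan.mk ((∐ Y)⟦(1 : ℤ)⟧) (fun j => (Sigma.ι Y j)⟦(1 : ℤ)⟧')) :=
    isColimitCofanMkObjOfIsColimit (shiftFunctor D (1 : ℤ)) _ _ (coproductIsCoproduct Y)
  suffices IsIso ψ by
    refine isomorphic_distinguished _ hT' _
      (Triangle.isoMk _ _ (Iso.refl _) (Iso.refl _) (asIso ψ) ?_ ?_ ?_)
    · simp
    · simp [hg]
    · simp [hh]
  refine isIso_of_coyoneda_map_bijective _ (fun A => ⟨?_, ?_⟩)
  · suffices Epi ψ by
      intro a₁ a₂ ha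
      exact (cancel_epi ψ).1 ha
    rw [Preadditive.epi_iff_cancel_zero]
    intro A x hx
    have hx' : f₂ ≫ x = 0 := by rw [← hg, Category.assoc, hx, comp_zero]
    obtain ⟨y, hy⟩ := Triangle.yoneda_exact₃ _ hT' x hx'
    change (∐ X)⟦(1 : ℤ)⟧ ⟶ A at y
    change x = f₃ ≫ y at hy
    have hy' : ∀ j, (T j).mor₃ ≫ ((Sigma.ι X j)⟦(1 : ℤ)⟧' ≫ y) = 0 := fun j => by
      rw [← Category.assoc, c3, Category.assoc, ← hy, ← hψ, Category.assoc, hx, comp_zero]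
    have hw := fun j => Triangle.yoneda_exact₃ _ (rot_of_distTriang _ (hT j)) _ (hy' j)
    let w : ∀ j, (Y j)⟦(1 : ℤ)⟧ ⟶ A := fun j => (hw j).choose
    have hw' : ∀ j, (Sigma.ι X j)⟦(1 : ℤ)⟧' ≫ y = (-((T j).mor₁⟦(1 : ℤ)⟧')) ≫ w j :=
      fun j => (hw j).choose_spec
    let w' : (∐ Y)⟦(1 : ℤ)⟧ ⟶ A := Cofan.IsColimit.desc hcY w
    have hw'' : ∀ j, (Sigma.ι Y j)⟦(1 : ℤ)⟧' ≫ w' = w j := fun j =>
      Cofan.IsColimit.fac hcY w j
    have hyw : y = - (f₁⟦(1 : ℤ)⟧' ≫ w') := by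
      apply Cofan.IsColimit.hom_ext hcX
      intro j
      change (Sigma.ι X j)⟦(1 : ℤ)⟧' ≫ y = (Sigma.ι X j)⟦(1 : ℤ)⟧' ≫ (- (f₁⟦(1 : ℤ)⟧' ≫ w'))
      rw [hw', Preadditive.comp_neg, ← Category.assoc, ← Functor.map_comp, hf₁, Functor.map_comp,
        Category.assoc, hw'', Preadditive.neg_comp]
    have hz : f₃ ≫ f₁⟦(1 : ℤ)⟧' = 0 := comp_distTriang_mor_zero₃₁ _ hT'
    rw [hy, hyw, Preadditive.comp_neg, ← Category.assoc, hz, zero_comp, neg_zero]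
  · intro a
    have hz : f₁ ≫ (g₁ ≫ a) = 0 := by
      have : f₁ ≫ g₁ = 0 := by
        apply Sigma.hom_ext
        intro j
        have h2 : Sigma.ι Y j ≫ g₁ = (T j).mor₂ ≫ Sigma.ι Z j := by simp [g₁, Y, Z]
        rw [← Category.assoc, hf₁, Category.assoc, h2, ← Category.assoc,
          comp_distTriang_mor_zero₁₂ _ (hT j), zero_comp, comp_zero]
      rw [← Category.assoc, this, zero_comp]
    obtain ⟨a', ha'⟩ := Triangle.yoneda_exact₂ _ hT' (g₁ ≫ a) hz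
    change W ⟶ A at a'
    change g₁ ≫ a = f₂ ≫ a' at ha'
    have hb := fun j => Triangle.yoneda_exact₃ _ (hT j) (Sigma.ι Z j ≫ (a - ψ ≫ a')) (by
      have h2 : Sigma.ι Y j ≫ g₁ = (T j).mor₂ ≫ Sigma.ι Z j := by simp [g₁, Y, Z]
      rw [Preadditive.comp_sub, Preadditive.comp_sub, ← Category.assoc, ← h2, Category.assoc, ha',
        ← Category.assoc (Sigma.ι Z j), hψ, ← Category.assoc ((T j).mor₂), c2, Category.assoc, sub_self])
    let b : ∀ j, (X j)⟦(1 : ℤ)⟧ ⟶ A := fun j => (hb j).choose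
    have hb' : ∀ j, Sigma.ι Z j ≫ (a - ψ ≫ a') = (T j).mor₃ ≫ b j := fun j => (hb j).choose_spec
    let b' : (∐ X)⟦(1 : ℤ)⟧ ⟶ A := Cofan.IsColimit.desc hcX b
    have hb'' : ∀ j, (Sigma.ι X j)⟦(1 : ℤ)⟧' ≫ b' = b j := fun j =>
      Cofan.IsColimit.fac hcX b j
    have key : a - ψ ≫ a' = h₁ ≫ b' := by
      apply Sigma.hom_ext
      intro j
      have : Sigma.ι Z j ≫ h₁ = (T j).mor₃ ≫ (Sigma.ι X j)⟦(1 : ℤ)⟧' := by simp [h₁, Z]
      rw [hb', ← Category.assoc, this, Category.assoc, hb'']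
    refine ⟨a' + f₃ ≫ b', ?_⟩
    change ψ ≫ (a' + f₃ ≫ b') = a
    rw [Preadditive.comp_add, ← Category.assoc, ← hh, ← key]
    abel

end Groth.Agent.S6593
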