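import Groth.Statements.S0031
import Groth.Agent.H42.QcqsPush
import Groth.Agent.S0461

set_option autoImplicit false
universe u
open Coherent

namespace Groth.Agent.S0031

open AlgebraicGeometry CategoryTheory CategoryTheory.Limits TopologicalSpace Opposite in
theorem aux {X S : Scheme.{u}} (f : X ⟶ S) [QuasiCompact f]
    [QuasiSeparated f] [CompactSpace S] :
    ∃ n : ℕ, ∀ (M : X.Modules), Coh.IsQCoh M → ∀ p : ℕ, n ≤ p →
      Limits.IsZero ((Coh.RpushAb f p).obj (Coh.toAb M)) := by
  classical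
  obtain ⟨t, ht⟩ := isCompact_univ.elim_finite_subcover (fun V : S.affineOpens => ((V : S.Opens) : Set S))
    (fun V => V.1.2) (by
      intro x _
      have : x ∈ (⨆ i : S.affineOpens, (i : S.Opens)) := by
        rw [iSup_affineOpens_eq_top S]; trivial
      obtain ⟨V, hV⟩ := Opens.mem_iSup.1 this
      exact Set.mem_iUnion.2 ⟨V, hV⟩)
  choose d hd using fun V : S.affineOpens =>
    Groth.Agent.H42.QcqsPush.exists_uniform_bound f V.1 V.2
  refine ⟨t.sup d, fun M hM p hp => ?_⟩
  obtain ⟨e⟩ := Groth.Agent.S0461.result f.base (Coh.toAb M) p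
  refine IsZero.of_iso ?_ e
  apply Groth.Agent.H42.QcqsPush.isZero_sheafify_of_basis _
    {W | ∃ V ∈ t, ∃ g : Γ(S, V.1), W = S.basicOpen g}
  · rw [Opens.isBasis_iff_nbhd]
    intro O x hx
    obtain ⟨V, hV⟩ := Set.mem_iUnion.1 (ht (Set.mem_univ x))
    obtain ⟨hVt, hxV⟩ := Set.mem_iUnion.1 hV
    obtain ⟨g, hg1, hg2⟩ := V.2.exists_basicOpen_le ⟨x, hx⟩ hxV
    exact ⟨S.basicOpen g, ⟨V, hVt, g, rfl⟩, hg2, hg1⟩
  · rintro W ⟨V, hVt, g, rfl⟩
    exact hd V M hM p ((Finset.le_sup hVt).trans hp) g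

open AlgebraicGeometry CategoryTheory in
/-- If f : X → S is quasi-compact and quasi-separated and S is quasi-compact, there is an integer n with
R^p f_* F = 0 for all p ≥ n and all quasi-coherent F (higher direct images of the underlying abelian
sheaves). -/
theorem result {X S : Scheme.{u}} (f : X ⟶ S) [QuasiCompact f]
    [QuasiSeparated f] [CompactSpace S] :
    ∃ n : ℕ, ∀ (M : X.Modules), Coh.IsQCoh M → ∀ p : ℕ, n ≤ p →
      Limits.IsZero ((Coh.RpushAb f p).obj (Coh.toAb M)) := by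
  exact aux f

end Groth.Agent.S0031
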