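import Groth.Statements.S0935
-- import your own Groth.Agent.* helpers here
import Groth.Agent.H5.KInj.Triang
import Groth.Agent.H31.LpullAdj

set_option autoImplicit false
universe u
open CategoryTheory
attribute [local instance] HasDerivedCategory.standard
open DCoh

namespace Groth.Agent.S0935

open AlgebraicGeometry CategoryTheory.Limits Pretriangulated in
set_option backward.isDefEq.respectTransparency.types false in
set_option backward.defeqAttrib.useBackward true in
/-- Abstract form: a functor between pretriangulated categories which preserves countable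
products, is additive, and sends middle maps of distinguished triangles to middle maps of
distinguished triangles, preserves derived limits. -/
theorem isRlim_map {T T' : Type*} [Category T] [Category T'] [Preadditive T] [Preadditive T']
    [HasZeroObject T] [HasZeroObject T'] [HasShift T ℤ] [HasShift T' ℤ]
    [∀ n : ℤ, (shiftFunctor T n).Additive] [∀ n : ℤ, (shiftFunctor T' n).Additive]
    [Pretriangulated T] [Pretriangulated T'] (R : T ⥤ T') [R.Additive]
    (hR : ∀ {L P P' : T} (a : L ⟶ P) (φ : P ⟶ P') (c : P' ⟶ L⟦(1 : ℤ)⟧),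
      Triangle.mk a φ c ∈ distTriang T →
      ∃ (a' : R.obj L ⟶ R.obj P) (c' : R.obj P' ⟶ (R.obj L)⟦(1 : ℤ)⟧),
        Triangle.mk a' (R.map φ) c' ∈ distTriang T')
    (K : ℕ → T) (t : ∀ n, K (n + 1) ⟶ K n) [HasProduct K] [HasProduct fun n => R.obj (K n)]
    [PreservesLimit (Discrete.functor K) R]
    (L : T) (hL : DCoh.IsRlim K t L) :
    DCoh.IsRlim (fun n => R.obj (K n)) (fun n => R.map (t n)) (R.obj L) := by
  obtain ⟨a, c, h⟩ := hL
  obtain ⟨a', c', h'⟩ := hR a _ c h
  let e := PreservesProduct.iso R K
  have he : ∀ n, e.hom ≫ Pi.π (fun n => R.obj (K n)) n = R.map (Pi.π K n) := fun n => by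
    simp [e, PreservesProduct.iso_hom]
  refine ⟨a' ≫ e.hom, e.inv ≫ c', isomorphic_distinguished _ h' _
    (Triangle.isoMk _ _ (Iso.refl _) e.symm e.symm ?_ ?_ ?_)⟩
  · dsimp
    simp
  · dsimp
    rw [Iso.eq_inv_comp, ← Category.assoc, Iso.comp_inv_eq]
    apply Pi.hom_ext
    intro n
    simp only [Category.assoc, Pi.lift_π, he, ← Functor.map_comp, Preadditive.comp_sub,
      Functor.map_sub]
    rw [← Category.assoc, he, Functor.map_comp]
  · dsimp
    simp


open AlgebraicGeometry CategoryTheory.Limits in
/-- Let f : X → Y be a morphism of schemes and (K_n)_{n ≥ 0} an inverse system in D(O_X) with derived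
limit L. Then Rf_*L is a derived limit of the system (Rf_*K_n). Here Rf_* is the total right derived
functor of f_* under its existence binder, and the two countable products ∏ K_n and ∏ Rf_*K_n are
assumed to exist. (The published statement is for morphisms of ringed spaces; stated here for
schemes.) -/
theorem result {X Y : Scheme.{u}} (f : X ⟶ Y) [DCoh.HasRpush f]
    (K : ℕ → DCoh.D X) (t : ∀ n, K (n + 1) ⟶ K n) [HasProduct K] [HasProduct fun n => (DCoh.Rpush f).obj (K n)]
    (L : DCoh.D X) (hL : DCoh.IsRlim K t L) :
    DCoh.IsRlim (fun n => (DCoh.Rpush f).obj (K n)) (fun n => (DCoh.Rpush f).map (t n)) ((DCoh.Rpush f).obj L) := by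
  have := Groth.Agent.H31.Stalk.hasLpull f
  have adj := Groth.Agent.H31.Stalk.LpullRpushAdj f
  have : PreservesLimitsOfSize.{0, 0} (DCoh.Rpush f) := adj.rightAdjoint_preservesLimits
  have : (DCoh.Rpush f).Additive := Functor.additive_of_preserves_binary_products _
  exact isRlim_map (DCoh.Rpush f)
    (fun a φ c h => Groth.Agent.H5.KInjDer.exists_distinguished_map (DCoh.pushKh f) (DCoh.Rpush f)
      ((DCoh.pushKh f).totalRightDerivedUnit DerivedCategory.Qh
        (HomotopyCategory.quasiIso X.Modules (ComplexShape.up ℤ))) a φ c h) K t L hL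

end Groth.Agent.S0935
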