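import Groth.Statements.S1007
-- import your own Groth.Agent.* helpers here
import Groth.Agent.H5.RlimMod.ModExt
import Groth.Agent.H5.RlimMod.Cov
import Groth.Agent.H31.LpullAdj
import Groth.Agent.H33.HMapSite
import Groth.Agent.H45.AffineOpenVanishing

set_option autoImplicit false
universe u
open CategoryTheory CategoryTheory.Limits AlgebraicGeometry
attribute [local instance] HasDerivedCategory.standard
open Perf

namespace Groth.Agent.S1007

open Groth.Agent.H31.Stalk in
theorem aux (X : Scheme.{u}) (E : DerivedCategory (ModSite.Mod (shX X)))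
    (hE : ∀ i : ℤ, Coh.IsQCoh (X := X)
      ((DerivedCategory.homologyFunctor (ModSite.Mod (shX X)) i).obj E))
    (hprod : HasProduct (CohCx.truncTower E)) :
    CohCx.IsRlimVia (CohCx.truncTower E) (CohCx.truncTowerMap E) E (CohCx.toTruncTower E) := by
  haveI : IsGrothendieckAbelian.{u} (ModSite.Mod (shX X)) :=
    Groth.Agent.H31.GrothAb.isGrothendieckAbelian _ (ModSite.ringSh (shX X))
  haveI : HasExt.{u + 1} (ModSite.Mod (shX X)) := hasExt_of_hasDerivedCategory _
  have hB : ∀ U : X.Opens, ∃ (ι : Type u) (Y : ι → X.Opens) (f : ∀ i, Y i ⟶ U),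
      Sieve.ofArrows Y f ∈ Opens.grothendieckTopology X U ∧ ∀ i, Y i ∈ X.affineOpens :=
    fun U => Groth.Agent.H33.HMapSite.basis_cover (X := X.carrier) X.affineOpens
      X.isBasis_affineOpens U
  exact (Groth.Agent.H5.RlimMod.modSec (shX X)).isRlimVia_truncTower E
    X.affineOpens hB (fun V hV => ⟨fun _ => 0, fun T hT => by
      obtain ⟨ι, Y, f, hf, hcov, hY⟩ :=
        Groth.Agent.H5.RlimMod.exists_family_in X.affineOpens hB V T hT
      refine ⟨ι, Y, f, hf, hcov, fun i m k hk => ?_⟩
      obtain ⟨k', rfl⟩ : ∃ k' : ℕ, k = k' + 1 := ⟨k - 1, by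
        have : (0 : ℤ) < k := hk
        omega⟩
      haveI : SheafOfModules.IsQuasicoherent (R := X.ringCatSheaf)
          ((DerivedCategory.homologyFunctor (ModSite.Mod (shX X)) (m - (k' + 1 : ℕ))).obj E) :=
        hE _
      exact Groth.Agent.H5.RlimMod.subsingleton_ext_freeOn (shX X) (Y i) _
        (k' + 1) (Groth.Agent.H45.AffineVanishing.subsingleton_HU_of_isAffineOpen
          (X := X) ((DerivedCategory.homologyFunctor (ModSite.Mod (shX X))
            (m - (k' + 1 : ℕ))).obj E) (hY i) k')⟩)


/-- Let X be a scheme and E an object of D(O_X) with quasi-coherent cohomology sheaves. Then the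
canonical map from E to the derived limit of its truncations τ_{≥ -n}E is an isomorphism; concretely
(granted the countable product of the truncations exists in D(O_X), which holds): the map E ⟶ ∏
τ_{≥-n}E with components the truncation morphisms, followed by 'identity minus transition', extends
to a distinguished triangle E ⟶ ∏ τ_{≥-n}E ⟶ ∏ τ_{≥-n}E ⟶ E[1]. -/
theorem result (X : Scheme.{u}) (E : DCoh.D X) (hE : DCoh.IsQCohD E)
    [HasProduct (fun n : ℕ => ((DerivedCategory.TStructure.t : CategoryTheory.Triangulated.TStructure (DCoh.D X)).truncGE (-(n : ℤ))).obj E)] :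
    ∃ c : (∏ᶜ fun n : ℕ => ((DerivedCategory.TStructure.t : CategoryTheory.Triangulated.TStructure (DCoh.D X)).truncGE (-(n : ℤ))).obj E) ⟶ E⟦(1 : ℤ)⟧,
      CategoryTheory.Pretriangulated.Triangle.mk
        (Pi.lift fun n : ℕ => ((DerivedCategory.TStructure.t : CategoryTheory.Triangulated.TStructure (DCoh.D X)).truncGEπ (-(n : ℤ))).app E)
        (Pi.lift fun n : ℕ => Pi.π (fun n : ℕ => ((DerivedCategory.TStructure.t : CategoryTheory.Triangulated.TStructure (DCoh.D X)).truncGE (-(n : ℤ))).obj E) n -
          Pi.π (fun n : ℕ => ((DerivedCategory.TStructure.t : CategoryTheory.Triangulated.TStructure (DCoh.D X)).truncGE (-(n : ℤ))).obj E) (n + 1) ≫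
            ((DerivedCategory.TStructure.t : CategoryTheory.Triangulated.TStructure (DCoh.D X)).natTransTruncGEOfLE (-((n + 1 : ℕ) : ℤ)) (-(n : ℤ)) (Int.neg_le_neg (Int.ofNat_le.mpr (Nat.le_succ n)))).app E)
        c ∈ CategoryTheory.Pretriangulated.distinguishedTriangles := by
  exact aux X E hE ‹_›

end Groth.Agent.S1007
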