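import Groth.Statements.S0671
import Mathlib
import Groth.Agent.H4.GeomPoints

set_option autoImplicit false
open CategoryTheory CategoryTheory.Limits AlgebraicGeometry Opposite
universe u
open EtCore

namespace Groth.Agent.S0671

/-- For an abelian sheaf F on the small etale site of S and a section σ over an etale S-scheme U, the
support of σ is a closed subset of U; and a point of S has a nonzero geometric stalk exactly when it
is the image of a point lying in the support of some section over some etale S-scheme. -/
theorem result {S : Scheme.{u}} (F : EtCoh.Ab S) :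
    (∀ (U : S.Etale) (σ : EtCoh.sect F U), IsClosed (EtShriek.sectSupp F U σ)) ∧
    EtPBC.supp F = ⋃ (U : S.Etale) (σ : EtCoh.sect F U), U.hom.base '' EtShriek.sectSupp F U σ := by
  refine ⟨?_, ?_⟩
  · intro U σ
    rw [← isOpen_compl_iff, isOpen_iff_forall_mem_open]
    intro x hx
    have hx' : ¬ ∀ (W : S.Etale) (g : W ⟶ U), (∃ w : W.left, g.left.base w = x) →
        F.obj.map g.op σ ≠ 0 := hx
    push Not at hx'
    obtain ⟨W, g, hw, h0⟩ := hx'
    refine ⟨Set.range g.left.base, ?_, g.left.isOpenMap.isOpen_range, hw⟩
    rintro y ⟨w', rfl⟩ hy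
    exact hy W g ⟨w', rfl⟩ h0
  · ext x
    simp only [Set.mem_iUnion, Set.mem_image]
    constructor
    · rintro ⟨Ω, _, _, ξ, hξ, hnz⟩
      have hne : ∃ t : (EtCoh.stalk ξ).obj F, t ≠ 0 := by
        by_contra hcon
        push Not at hcon
        apply hnz
        haveI : Subsingleton ((EtCoh.stalk ξ).obj F) :=
          ⟨fun a b => (hcon a).trans (hcon b).symm⟩
        exact AddCommGrpCat.isZero_of_subsingleton _
      obtain ⟨t, ht⟩ := hne
      obtain ⟨U, τ, z, rfl⟩ :=
        (Scheme.pointSmallEtale ξ).toPresheafFiber_jointly_surjective (P := F.obj) t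
      refine ⟨U, z, τ.left.base (default : Spec (CommRingCat.of Ω)), ?_, ?_⟩
      · intro W g hw h0
        obtain ⟨w, hw⟩ := hw
        obtain ⟨τ', hτ', -⟩ := Groth.Agent.H4.exists_fiber_lift ξ g τ w hw
        apply ht
        have h1 : (Scheme.pointSmallEtale ξ).toPresheafFiber W τ' F.obj (F.obj.map g.op z) =
            (Scheme.pointSmallEtale ξ).toPresheafFiber U τ F.obj z := by
          rw [← hτ']
          exact GrothendieckTopology.Point.toPresheafFiber_w_apply _ g τ' F.obj z
        have h2 : (Scheme.pointSmallEtale ξ).toPresheafFiber W τ' F.obj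
            (F.obj.map g.op z) = 0 := by
          rw [h0, map_zero]
        rw [h1] at h2
        exact h2
      · have h2 : τ.left ≫ U.hom = ξ := Over.w τ
        have h3 : U.hom.base (τ.left.base (default : Spec (CommRingCat.of Ω))) =
            ξ.base (default : Spec (CommRingCat.of Ω)) :=
          congrArg (fun q : Spec (CommRingCat.of Ω) ⟶ S =>
            q.base (default : Spec (CommRingCat.of Ω))) h2
        have hmem : ξ.base (default : Spec (CommRingCat.of Ω)) ∈ Set.range ξ :=
          ⟨default, rfl⟩
        rw [hξ] at hmem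
        rw [h3]
        exact hmem
    · rintro ⟨U, σ, u, hu, rfl⟩
      obtain ⟨Ω, hΩ, hΩ', ξ, t, ht⟩ := Groth.Agent.H4.exists_geometric_point U u
      refine ⟨Ω, hΩ, hΩ', ξ, ?_, ?_⟩
      · have h2 : t.left ≫ U.hom = ξ := Over.w t
        have h3 : ξ.base (default : Spec (CommRingCat.of Ω)) = U.hom.base u := by
          rw [← ht]
          exact (congrArg (fun q : Spec (CommRingCat.of Ω) ⟶ S =>
            q.base (default : Spec (CommRingCat.of Ω))) h2).symm
        rw [← h3]
        exact Set.range_unique
      · intro hz
        have hss := AddCommGrpCat.subsingleton_of_isZero hz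
        have h1 : (Scheme.pointSmallEtale ξ).toPresheafFiber U t F.obj σ =
            (Scheme.pointSmallEtale ξ).toPresheafFiber U t F.obj 0 :=
          @Subsingleton.elim _ hss _ _
        obtain ⟨V, g, v, hv, hg⟩ :=
          ((Scheme.pointSmallEtale ξ).toPresheafFiber_eq_iff' U t σ 0).1 h1
        refine hu V g ⟨v.left.base (default : Spec (CommRingCat.of Ω)), ?_⟩ ?_
        · rw [← ht, ← hv]
          rfl
        · rw [hg, map_zero]

end Groth.Agent.S0671
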