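import Groth.Statements.S0728
import Mathlib
import Groth.Agent.H4.GeomPoints
import Groth.Agent.H4.EtaleRes
import Groth.Agent.H4.SiteBasics

set_option autoImplicit false
open CategoryTheory CategoryTheory.Limits AlgebraicGeometry Opposite
universe u
open EtShriek

namespace Groth.Agent.S0728


open Groth.Agent.H4

/-- General gluing of sections of an etale sheaf of sets along a jointly surjective family. -/
theorem exists_glue {X : Scheme.{u}} (F : EtDesc.Sh X) (B : X.Etale) {μ : Type*}
    (Y : μ → X.Etale) (f : ∀ a, Y a ⟶ B)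
    (hcov : ∀ q : B.left, ∃ a, ∃ y : (Y a).left, (f a).left.base y = q)
    (s : ∀ a, F.obj.obj (op (Y a)))
    (hcompat : Presieve.Arrows.Compatible F.obj f s) :
    ∃ t : F.obj.obj (op B), ∀ a, F.obj.map (f a).op t = s a := by
  have hF : Presieve.IsSheaf X.smallEtaleTopology F.obj :=
    (isSheaf_iff_isSheaf_of_type _ _).1 F.2
  have hcovS : Sieve.generate (Presieve.ofArrows Y f) ∈ X.smallEtaleTopology B := by
    apply mem_smallEtaleTopology_of_forall
    intro q
    obtain ⟨a, y, hy⟩ := hcov q
    exact ⟨Y a, f a, y, ⟨_, 𝟙 _, _, Presieve.ofArrows.mk a, Category.id_comp _⟩, hy⟩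
  have h1 := (Presieve.isSheafFor_iff_generate _).2 (hF _ hcovS)
  have h2 := (Presieve.isSheafFor_arrows_iff _ _).1 h1
  obtain ⟨t, ht, -⟩ := h2 s hcompat
  exact ⟨t, ht⟩

/-- The germ of a section vanishes at geometric points centred outside its support. -/
theorem germ_eq_zero_of_not_mem {X : Scheme.{u}} (F : EtCoh.Ab X) {Ω : Type u} [Field Ω]
    [IsSepClosed Ω] (ξ : Spec (CommRingCat.of Ω) ⟶ X) (U : X.Etale)
    (τ : (Scheme.pointSmallEtale ξ).fiber.obj U) (s : F.obj.obj (op U))
    (h : τ.left.base (default : Spec (CommRingCat.of Ω)) ∉ EtShriek.sectSupp F U s) :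
    (Scheme.pointSmallEtale ξ).toPresheafFiber U τ F.obj s = 0 := by
  have h' : ¬ ∀ (N : X.Etale) (g : N ⟶ U),
      (∃ n : N.left, g.left.base n = τ.left.base (default : Spec (CommRingCat.of Ω))) →
      F.obj.map g.op s ≠ 0 := h
  push Not at h'
  obtain ⟨N, g, ⟨n, hn⟩, h0⟩ := h'
  obtain ⟨τN, hτN, -⟩ := exists_fiber_lift ξ g τ n hn
  have a2 : (Scheme.pointSmallEtale ξ).toPresheafFiber N τN F.obj (F.obj.map g.op s) =
      (Scheme.pointSmallEtale ξ).toPresheafFiber U τ F.obj s := by
    rw [← hτN]
    exact GrothendieckTopology.Point.toPresheafFiber_w_apply _ g τN F.obj s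
  rw [← a2, h0]
  exact map_zero _

/-- If the germ of a section vanishes at a geometric point, its centre is outside the support. -/
theorem not_mem_of_germ_eq_zero {X : Scheme.{u}} (F : EtCoh.Ab X) {Ω : Type u} [Field Ω]
    [IsSepClosed Ω] (ξ : Spec (CommRingCat.of Ω) ⟶ X) (U : X.Etale)
    (τ : (Scheme.pointSmallEtale ξ).fiber.obj U) (s : F.obj.obj (op U))
    (h : (Scheme.pointSmallEtale ξ).toPresheafFiber U τ F.obj s = 0) :
    τ.left.base (default : Spec (CommRingCat.of Ω)) ∉ EtShriek.sectSupp F U s := by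
  intro hx
  have h1 : (Scheme.pointSmallEtale ξ).toPresheafFiber U τ F.obj s =
      (Scheme.pointSmallEtale ξ).toPresheafFiber U τ F.obj 0 := by
    rw [h]
    exact (map_zero _).symm
  obtain ⟨V, g, v, hv, hg⟩ :=
    ((Scheme.pointSmallEtale ξ).toPresheafFiber_eq_iff' U τ s 0).1 h1
  refine hx V g ⟨v.left.base (default : Spec (CommRingCat.of Ω)), ?_⟩ ?_
  · rw [← hv]
    rfl
  · rw [hg, map_zero]

/-- Sections with equal germs at all geometric points are equal. -/
theorem eq_of_germs_eq {X : Scheme.{u}} (F : EtCoh.Ab X) (B : X.Etale) (x y : F.obj.obj (op B))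
    (h : ∀ (Ω : Type u) [Field Ω] [IsSepClosed Ω] (ξ : Spec (CommRingCat.of Ω) ⟶ X)
      (τ : (Scheme.pointSmallEtale ξ).fiber.obj B),
      (Scheme.pointSmallEtale ξ).toPresheafFiber B τ F.obj x =
        (Scheme.pointSmallEtale ξ).toPresheafFiber B τ F.obj y) : x = y := by
  apply eq_of_locally_eq F B
  intro b
  obtain ⟨Ω, hΩ1, hΩ2, ξ, τ, hτ⟩ := exists_geometric_point B b
  obtain ⟨V, g, v, hv, hg⟩ :=
    ((Scheme.pointSmallEtale ξ).toPresheafFiber_eq_iff' B τ x y).1 (h Ω ξ τ)
  refine ⟨V, g, v.left.base (default : Spec (CommRingCat.of Ω)), ?_, hg⟩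
  rw [← hτ, ← hv]
  rfl

/-- A section restricts to zero along a map whose image avoids its support. -/
theorem map_eq_zero_of_avoids {X : Scheme.{u}} (F : EtCoh.Ab X) {W U' : X.Etale} (a : W ⟶ U')
    (s' : F.obj.obj (op U'))
    (h : ∀ z : W.left, a.left.base z ∉ EtShriek.sectSupp F U' s') : F.obj.map a.op s' = 0 := by
  apply eq_of_germs_eq F W
  intro Ω _ _ ξ τ
  have h1 : (Scheme.pointSmallEtale ξ).toPresheafFiber W τ F.obj (F.obj.map a.op s') =
      (Scheme.pointSmallEtale ξ).toPresheafFiber U' ((Scheme.pointSmallEtale ξ).fiber.map a τ)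
        F.obj s' :=
    GrothendieckTopology.Point.toPresheafFiber_w_apply _ a τ F.obj s'
  have h2 : (Scheme.pointSmallEtale ξ).toPresheafFiber U' ((Scheme.pointSmallEtale ξ).fiber.map a τ)
        F.obj s' = 0 :=
    germ_eq_zero_of_not_mem F ξ U' _ s'
      (fun hmem => h (τ.left.base (default : Spec (CommRingCat.of Ω))) hmem)
  rw [h1, h2]
  exact (map_zero _).symm

/-- Two morphisms from the spectrum of a field with the same centre and the same composite with
`φ` agree when `φ` induces an isomorphism of residue fields at that centre. -/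
theorem spec_hom_ext_of_residue {A B : Scheme.{u}} (φ : A ⟶ B) {K : Type u} [Field K]
    (a b : Spec (CommRingCat.of K) ⟶ A) (p : Spec (CommRingCat.of K))
    (hpt : a.base p = b.base p) (hcomp : a ≫ φ = b ≫ φ)
    (hres : ∀ x : A, x = a.base p → Function.Bijective (φ.residueFieldMap x)) : a = b := by
  obtain ⟨xa, ψa, rfl⟩ : ∃ (x : A) (ψ : A.residueField x ⟶ CommRingCat.of K),
      a = Spec.map ψ ≫ A.fromSpecResidueField x :=
    ⟨_, _, (Scheme.descResidueField_stalkClosedPointTo_fromSpecResidueField K A a).symm⟩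
  obtain ⟨xb, ψb, rfl⟩ : ∃ (x : A) (ψ : A.residueField x ⟶ CommRingCat.of K),
      b = Spec.map ψ ≫ A.fromSpecResidueField x :=
    ⟨_, _, (Scheme.descResidueField_stalkClosedPointTo_fromSpecResidueField K A b).symm⟩
  have hxa : (Spec.map ψa ≫ A.fromSpecResidueField xa).base p = xa := by simp
  have hxb : (Spec.map ψb ≫ A.fromSpecResidueField xb).base p = xb := by simp
  have hx : xa = xb := by
    rw [← hxa, ← hxb]
    exact hpt
  subst hx
  have hbij := hres xa hxa.symm
  haveI : IsIso (φ.residueFieldMap xa) := (ConcreteCategory.isIso_iff_bijective _).2 hbij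
  have e : ∀ ψ : A.residueField xa ⟶ CommRingCat.of K,
      (Spec.map ψ ≫ A.fromSpecResidueField xa) ≫ φ =
        Spec.map (φ.residueFieldMap xa ≫ ψ) ≫ B.fromSpecResidueField _ := by
    intro ψ
    calc (Spec.map ψ ≫ A.fromSpecResidueField xa) ≫ φ
        = Spec.map ψ ≫ (A.fromSpecResidueField xa ≫ φ) := Category.assoc _ _ _
      _ = Spec.map ψ ≫ (Spec.map (φ.residueFieldMap xa) ≫ B.fromSpecResidueField _) := by
          rw [Scheme.Hom.SpecMap_residueFieldMap_fromSpecResidueField]
      _ = (Spec.map ψ ≫ Spec.map (φ.residueFieldMap xa)) ≫ B.fromSpecResidueField _ :=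
          (Category.assoc _ _ _).symm
      _ = Spec.map (φ.residueFieldMap xa ≫ ψ) ≫ B.fromSpecResidueField _ := by
          rw [Spec.map_comp]
  rw [e ψa, e ψb] at hcomp
  have h1 := (cancel_mono (B.fromSpecResidueField _)).1 hcomp
  have h2 : φ.residueFieldMap xa ≫ ψa = φ.residueFieldMap xa ≫ ψb := Spec.map_inj.1 h1
  have h3 : ψa = ψb := (cancel_epi (φ.residueFieldMap xa)).1 h2
  rw [h3]

/-- In the case where the inverse image of Z is Z' (so that the bijection is restriction): let phi : U'
-> U be a morphism of the small etale site of X and Z a closed subset of U such that phi restricted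
to the inverse image Z' of Z is a bijection onto Z inducing isomorphisms of residue fields (so Z' ->
U is a closed immersion with image Z, for the reduced structures). Then restriction along phi is a
bijection from the sections of F over U supported in Z to the sections of F over U' supported in Z'. -/
theorem result {X : Scheme.{u}} (F : EtCoh.Ab X) {U U' : X.Etale}
    (φ : U' ⟶ U) (Z : Set ↥U.left) (hZ : IsClosed Z)
    (hbij : Set.BijOn φ.left.base (φ.left.base ⁻¹' Z) Z)
    (hres : ∀ x ∈ φ.left.base ⁻¹' Z, Function.Bijective (φ.left.residueFieldMap x)) :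
    Set.BijOn (F.obj.map φ.op) {s | EtShriek.sectSupp F U s ⊆ Z}
      {s' | EtShriek.sectSupp F U' s' ⊆ φ.left.base ⁻¹' Z} := by
  have germφ : ∀ (Ω : Type u) [Field Ω] [IsSepClosed Ω] (ξ : Spec (CommRingCat.of Ω) ⟶ X)
      (t' : (Scheme.pointSmallEtale ξ).fiber.obj U') (s : F.obj.obj (op U)),
      (Scheme.pointSmallEtale ξ).toPresheafFiber U' t' F.obj (F.obj.map φ.op s) =
        (Scheme.pointSmallEtale ξ).toPresheafFiber U
          ((Scheme.pointSmallEtale ξ).fiber.map φ t') F.obj s :=
    fun Ω _ _ ξ t' s => GrothendieckTopology.Point.toPresheafFiber_w_apply _ φ t' F.obj s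
  refine ⟨?_, ?_, ?_⟩
  · -- MapsTo
    intro s hs
    have hs' : EtShriek.sectSupp F U s ⊆ Z := hs
    show EtShriek.sectSupp F U' (F.obj.map φ.op s) ⊆ φ.left.base ⁻¹' Z
    intro x' hx'
    show φ.left.base x' ∈ Z
    obtain ⟨Ω, hΩ1, hΩ2, ξ, t', ht'⟩ := exists_geometric_point U' x'
    apply hs'
    by_contra hnot
    have hc : ((Scheme.pointSmallEtale ξ).fiber.map φ t').left.base
        (default : Spec (CommRingCat.of Ω)) = φ.left.base x' := by
      rw [← ht']
      rfl
    have h0 := germ_eq_zero_of_not_mem F ξ U ((Scheme.pointSmallEtale ξ).fiber.map φ t') s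
      (by rw [hc]; exact hnot)
    have h1 : (Scheme.pointSmallEtale ξ).toPresheafFiber U' t' F.obj (F.obj.map φ.op s) = 0 :=
      (germφ Ω ξ t' s).trans h0
    have h2 := not_mem_of_germ_eq_zero F ξ U' t' _ h1
    rw [ht'] at h2
    exact h2 hx'
  · -- InjOn
    intro s₁ hs₁ s₂ hs₂ heq
    have hs₁' : EtShriek.sectSupp F U s₁ ⊆ Z := hs₁
    have hs₂' : EtShriek.sectSupp F U s₂ ⊆ Z := hs₂
    have heq' : F.obj.map φ.op s₁ = F.obj.map φ.op s₂ := heq
    apply eq_of_germs_eq F U
    intro Ω _ _ ξ τ
    by_cases hb : τ.left.base (default : Spec (CommRingCat.of Ω)) ∈ Z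
    · obtain ⟨x', hx'Z, hx'⟩ := hbij.surjOn hb
      obtain ⟨t', ht', -⟩ := exists_fiber_lift ξ φ τ x' hx'
      rw [← ht', ← germφ Ω ξ t' s₁, ← germφ Ω ξ t' s₂, heq']
    · have h1 := germ_eq_zero_of_not_mem F ξ U τ s₁ (fun h => hb (hs₁' h))
      have h2 := germ_eq_zero_of_not_mem F ξ U τ s₂ (fun h => hb (hs₂' h))
      rw [h1, h2]
  · -- SurjOn
    intro s' hs
    have hs' : EtShriek.sectSupp F U' s' ⊆ φ.left.base ⁻¹' Z := hs
    let O : U.left.Opens := ⟨Zᶜ, hZ.isOpen_compl⟩
    let Fs : EtDesc.Sh X :=
      (sheafCompose X.smallEtaleTopology (forget AddCommGrpCat.{u + 1})).obj F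
    let Y : Bool → X.Etale := fun a => cond a U' (res U O)
    let f : ∀ a, Y a ⟶ U := fun a =>
      match a with
      | true => φ
      | false => resMap U O
    let sfam : ∀ a, Fs.obj.obj (op (Y a)) := fun a =>
      match a with
      | true => s'
      | false => (0 : F.obj.obj (op (res U O)))
    have hcov : ∀ q : U.left, ∃ a, ∃ y : (Y a).left, (f a).left.base y = q := by
      intro q
      by_cases hq : q ∈ Z
      · obtain ⟨x', hx'Z, hx'⟩ := hbij.surjOn hq
        exact ⟨true, x', hx'⟩
      · exact ⟨false, ⟨q, hq⟩, rfl⟩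
    -- restriction of `s'` along a map whose image in `U` avoids `Z`
    have hmixed : ∀ (T : X.Etale) (ga : T ⟶ U') (gb : T ⟶ res U O),
        ga ≫ φ = gb ≫ resMap U O → F.obj.map ga.op s' = 0 := by
      intro T ga gb hab
      apply map_eq_zero_of_avoids F ga s'
      intro z hz
      have e : φ.left.base (ga.left.base z) = (resMap U O).left.base (gb.left.base z) :=
        congrArg (fun q : T ⟶ U => q.left.base z) hab
      have hO : (resMap U O).left.base (gb.left.base z) ∉ Z := (gb.left.base z).2
      apply hO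
      rw [← e]
      exact hs' hz
    have hcompat : Presieve.Arrows.Compatible Fs.obj f sfam := by
      intro a b T ga gb hab
      cases a <;> cases b
      · show F.obj.map ga.op (0 : F.obj.obj (op (res U O))) =
          F.obj.map gb.op (0 : F.obj.obj (op (res U O)))
        rw [map_zero, map_zero]
      · show F.obj.map ga.op (0 : F.obj.obj (op (res U O))) = F.obj.map gb.op s'
        rw [map_zero]
        exact (hmixed T gb ga hab.symm).symm
      · show F.obj.map ga.op s' = F.obj.map gb.op (0 : F.obj.obj (op (res U O)))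
        rw [map_zero]
        exact hmixed T ga gb hab
      · show F.obj.map ga.op s' = F.obj.map gb.op s'
        have hab' : ga ≫ φ = gb ≫ φ := hab
        apply eq_of_germs_eq F T
        intro Ω _ _ ξ τ
        have ea : (Scheme.pointSmallEtale ξ).toPresheafFiber T τ F.obj (F.obj.map ga.op s') =
            (Scheme.pointSmallEtale ξ).toPresheafFiber U'
              ((Scheme.pointSmallEtale ξ).fiber.map ga τ) F.obj s' :=
          GrothendieckTopology.Point.toPresheafFiber_w_apply _ ga τ F.obj s'
        have eb : (Scheme.pointSmallEtale ξ).toPresheafFiber T τ F.obj (F.obj.map gb.op s') =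
            (Scheme.pointSmallEtale ξ).toPresheafFiber U'
              ((Scheme.pointSmallEtale ξ).fiber.map gb τ) F.obj s' :=
          GrothendieckTopology.Point.toPresheafFiber_w_apply _ gb τ F.obj s'
        rw [ea, eb]
        let w : T.left := τ.left.base (default : Spec (CommRingCat.of Ω))
        have hφab : φ.left.base (ga.left.base w) = φ.left.base (gb.left.base w) :=
          congrArg (fun q : T ⟶ U => q.left.base w) hab'
        by_cases hz : φ.left.base (ga.left.base w) ∈ Z
        · have ha : ga.left.base w ∈ φ.left.base ⁻¹' Z := hz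
          have hb' : gb.left.base w ∈ φ.left.base ⁻¹' Z := by
            show φ.left.base (gb.left.base w) ∈ Z
            rw [← hφab]
            exact hz
          have hab_pt : ga.left.base w = gb.left.base w := hbij.injOn ha hb' hφab
          have hτ : (Scheme.pointSmallEtale ξ).fiber.map ga τ =
              (Scheme.pointSmallEtale ξ).fiber.map gb τ := by
            apply Over.OverMorphism.ext
            apply spec_hom_ext_of_residue φ.left _ _ (default : Spec (CommRingCat.of Ω))
            · exact hab_pt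
            · calc ((Scheme.pointSmallEtale ξ).fiber.map ga τ).left ≫ φ.left
                  = τ.left ≫ (ga ≫ φ).left := Category.assoc _ _ _
                _ = τ.left ≫ (gb ≫ φ).left := by rw [hab']
                _ = ((Scheme.pointSmallEtale ξ).fiber.map gb τ).left ≫ φ.left :=
                    (Category.assoc _ _ _).symm
            · intro x hx
              apply hres x
              rw [hx]
              exact ha
          rw [hτ]
        · have h1 := germ_eq_zero_of_not_mem F ξ U' ((Scheme.pointSmallEtale ξ).fiber.map ga τ) s'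
            (fun hmem => hz (hs' hmem))
          have h2 := germ_eq_zero_of_not_mem F ξ U' ((Scheme.pointSmallEtale ξ).fiber.map gb τ) s'
            (fun hmem => hz (by rw [hφab]; exact hs' hmem))
          rw [h1, h2]
    obtain ⟨t, ht⟩ := exists_glue Fs U Y f hcov sfam hcompat
    refine ⟨t, ?_, ht true⟩
    show EtShriek.sectSupp F U t ⊆ Z
    intro x hx
    by_contra hxZ
    exact hx (res U O) (resMap U O) ⟨⟨x, hxZ⟩, rfl⟩ (ht false)

end Groth.Agent.S0728
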