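import Groth.Statements.S0791
import Groth.Agent.H4.ProperOver2

set_option autoImplicit false
universe u
open Coherent

namespace Groth.Agent.S0791

open CategoryTheory AlgebraicGeometry in
/-- Let f : X → S be locally of finite type. A finite union of closed subsets of X that are proper over
S is again proper over S. -/
theorem result {X S : Scheme.{u}} (f : X ⟶ S) [LocallyOfFiniteType f]
    (ι : Type) [Finite ι] (Z : ι → Set X) (hZ : ∀ i, ClSub.IsProperOver f (Z i)) :
    ClSub.IsProperOver f (Set.iUnion Z) := by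
  have hcl : ∀ i, IsClosed (Z i) := fun i => (hZ i).1
  have hp : ∀ i, IsProper ((Scheme.IdealSheafData.vanishingIdeal ⟨Z i, hcl i⟩).subschemeι ≫ f) :=
    fun i => (hZ i).2
  have hW : IsClosed (Set.iUnion Z) := isClosed_iUnion_of_finite hcl
  refine ⟨hW, ?_⟩
  set IW := Scheme.IdealSheafData.vanishingIdeal ⟨Set.iUnion Z, hW⟩ with hIW
  have hle : ∀ i, IW ≤ Scheme.IdealSheafData.vanishingIdeal ⟨Z i, hcl i⟩ := fun i =>
    Scheme.IdealSheafData.vanishingIdeal_antimono (Set.subset_iUnion Z i)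
  let j : ∀ i, (Scheme.IdealSheafData.vanishingIdeal ⟨Z i, hcl i⟩).subscheme ⟶ IW.subscheme :=
    fun i => Scheme.IdealSheafData.inclusion (hle i)
  have hj : ∀ i, j i ≫ IW.subschemeι =
      (Scheme.IdealSheafData.vanishingIdeal ⟨Z i, hcl i⟩).subschemeι :=
    fun i => Scheme.IdealSheafData.inclusion_subschemeι (hle i)
  have hsurj : ∀ t : IW.subscheme, ∃ i, t ∈ Set.range (j i) := by
    intro t
    have ht : IW.subschemeι t ∈ Set.iUnion Z := by
      rw [← Groth.Agent.H4.range_vanishingIdeal_subschemeι (Set.iUnion Z) hW]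
      exact ⟨t, rfl⟩
    obtain ⟨i, hi⟩ := Set.mem_iUnion.1 ht
    rw [← Groth.Agent.H4.range_vanishingIdeal_subschemeι (Z i) (hcl i)] at hi
    obtain ⟨z, hz⟩ := hi
    refine ⟨i, z, ?_⟩
    apply IW.subschemeι.isClosedEmbedding.injective
    rw [← Scheme.Hom.comp_apply, hj i, hz]
  have hcomp : ∀ i, j i ≫ (IW.subschemeι ≫ f) =
      (Scheme.IdealSheafData.vanishingIdeal ⟨Z i, hcl i⟩).subschemeι ≫ f := by
    intro i
    rw [← Category.assoc, hj i]
  haveI : ∀ i, IsProper (j i ≫ (IW.subschemeι ≫ f)) := by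
    intro i
    rw [hcomp i]
    exact hp i
  haveI : IsSeparated (IW.subschemeι ≫ f) :=
    Groth.Agent.H4.isSeparated_of_family j (IW.subschemeι ≫ f) hsurj
  haveI : UniversallyClosed (IW.subschemeι ≫ f) :=
    Groth.Agent.H4.universallyClosed_of_family j (IW.subschemeι ≫ f) hsurj
  exact {}

end Groth.Agent.S0791
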