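import Groth.Statements.S19885
import Mathlib
import Groth.Agent.H4.GeomPoints

set_option autoImplicit false
open CategoryTheory CategoryTheory.Limits AlgebraicGeometry Opposite
universe u
open EtBase

namespace Groth.Agent.S19885

section helpers

variable {V X : Scheme.{u}} (j : V ⟶ X)

set_option backward.isDefEq.respectTransparency.types false in
theorem bc_map_fst {U' U : X.Etale} (g : U' ⟶ U) :
    ((EtCoh.bc j).map g).left ≫ pullback.fst U.hom j = pullback.fst U'.hom j ≫ g.left := by
  dsimp [EtCoh.bc]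
  exact pullback.lift_fst _ _ _

set_option backward.isDefEq.respectTransparency.types false in
theorem bc_map_snd {U' U : X.Etale} (g : U' ⟶ U) :
    ((EtCoh.bc j).map g).left ≫ pullback.snd U.hom j = pullback.snd U'.hom j := by
  dsimp [EtCoh.bc]
  exact pullback.lift_snd _ _ _

variable {Ω : Type u} [Field Ω] [IsSepClosed Ω] (ζ : Spec (CommRingCat.of Ω) ⟶ V)

set_option backward.isDefEq.respectTransparency.types false in
/-- A geometric point of `U` over `ζ ≫ j` gives a geometric point of `U ×_X V` over `ζ`. -/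
noncomputable def liftPt (U : X.Etale) (τ : (Scheme.pointSmallEtale (ζ ≫ j)).fiber.obj U) :
    (Scheme.pointSmallEtale ζ).fiber.obj ((EtCoh.bc j).obj U) :=
  (Over.homMk (pullback.lift τ.left ζ (Over.w τ)) (pullback.lift_snd _ _ _) :
    (Over.mk ζ : Over V) ⟶ (Scheme.Etale.forget V).obj ((EtCoh.bc j).obj U))

set_option backward.isDefEq.respectTransparency.types false in
theorem liftPt_fst (U : X.Etale) (τ : (Scheme.pointSmallEtale (ζ ≫ j)).fiber.obj U) :
    (liftPt j ζ U τ).left ≫ pullback.fst U.hom j = τ.left := pullback.lift_fst _ _ _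

set_option backward.isDefEq.respectTransparency.types false in
theorem liftPt_snd (U : X.Etale) (τ : (Scheme.pointSmallEtale (ζ ≫ j)).fiber.obj U) :
    (liftPt j ζ U τ).left ≫ pullback.snd U.hom j = ζ := pullback.lift_snd _ _ _

set_option backward.isDefEq.respectTransparency.types false in
theorem liftPt_map {U' U : X.Etale} (g : U' ⟶ U)
    (τ' : (Scheme.pointSmallEtale (ζ ≫ j)).fiber.obj U') :
    (Scheme.pointSmallEtale ζ).fiber.map ((EtCoh.bc j).map g) (liftPt j ζ U' τ') =
      liftPt j ζ U ((Scheme.pointSmallEtale (ζ ≫ j)).fiber.map g τ') := by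
  apply Over.OverMorphism.ext
  refine pullback.hom_ext (f := U.hom) (g := j) ?_ ?_
  · show ((liftPt j ζ U' τ').left ≫ ((EtCoh.bc j).map g).left) ≫ pullback.fst U.hom j =
      (liftPt j ζ U ((Scheme.pointSmallEtale (ζ ≫ j)).fiber.map g τ')).left ≫
        pullback.fst U.hom j
    erw [Category.assoc, bc_map_fst, ← Category.assoc, liftPt_fst, liftPt_fst]
    rfl
  · show ((liftPt j ζ U' τ').left ≫ ((EtCoh.bc j).map g).left) ≫ pullback.snd U.hom j =
      (liftPt j ζ U ((Scheme.pointSmallEtale (ζ ≫ j)).fiber.map g τ')).left ≫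
        pullback.snd U.hom j
    erw [Category.assoc, bc_map_snd, liftPt_snd, liftPt_snd]

variable [IsOpenImmersion j]

/-- An etale `V`-scheme, viewed as an etale `X`-scheme through the open immersion `j`. -/
noncomputable def jsh (W : V.Etale) : X.Etale := Scheme.Etale.mk (W.hom ≫ j)

theorem jsh_hom (W : V.Etale) : (jsh j W).hom = W.hom ≫ j := rfl

set_option backward.isDefEq.respectTransparency.types false in
/-- The projection `W ×_X V ⟶ W` as a morphism of etale `V`-schemes. -/
noncomputable def dW (W : V.Etale) : (EtCoh.bc j).obj (jsh j W) ⟶ W :=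
  MorphismProperty.Over.homMk (pullback.fst (jsh j W).hom j) (by
    show pullback.fst (jsh j W).hom j ≫ W.hom = pullback.snd (jsh j W).hom j
    erw [← cancel_mono j, Category.assoc]
    exact pullback.condition) trivial

set_option backward.isDefEq.respectTransparency.types false in
theorem dW_left (W : V.Etale) : (dW j W).left = pullback.fst (jsh j W).hom j := rfl

set_option backward.isDefEq.respectTransparency.types false in
theorem dW_w (W : V.Etale) :
    pullback.fst (jsh j W).hom j ≫ W.hom = pullback.snd (jsh j W).hom j := by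
  erw [← cancel_mono j, Category.assoc]
  exact pullback.condition

/-- A geometric point of `W` over `ζ`, viewed as a geometric point of `jsh W` over `ζ ≫ j`. -/
noncomputable def shPt (W : V.Etale) (σ : (Scheme.pointSmallEtale ζ).fiber.obj W) :
    (Scheme.pointSmallEtale (ζ ≫ j)).fiber.obj (jsh j W) :=
  (Over.homMk σ.left (by
    have hσ : σ.left ≫ W.hom = ζ := Over.w σ
    show σ.left ≫ (W.hom ≫ j) = ζ ≫ j
    erw [← Category.assoc, hσ]) :
    (Over.mk (ζ ≫ j) : Over X) ⟶ (Scheme.Etale.forget X).obj (jsh j W))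

theorem shPt_left (W : V.Etale) (σ : (Scheme.pointSmallEtale ζ).fiber.obj W) :
    (shPt j ζ W σ).left = σ.left := rfl

set_option backward.isDefEq.respectTransparency.types false in
theorem map_dW_liftPt (W : V.Etale) (σ : (Scheme.pointSmallEtale ζ).fiber.obj W) :
    (Scheme.pointSmallEtale ζ).fiber.map (dW j W) (liftPt j ζ (jsh j W) (shPt j ζ W σ)) = σ := by
  apply Over.OverMorphism.ext
  show (liftPt j ζ (jsh j W) (shPt j ζ W σ)).left ≫ pullback.fst (jsh j W).hom j = σ.left
  erw [liftPt_fst]
  rfl

set_option backward.isDefEq.respectTransparency.types false in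
/-- For `g : W ⟶ U ×_X V` over `V`, the induced morphism `jsh W ⟶ U` over `X`. -/
noncomputable def tMor {U : X.Etale} {W : V.Etale} (g : W ⟶ (EtCoh.bc j).obj U) :
    jsh j W ⟶ U :=
  MorphismProperty.Over.homMk (g.left ≫ pullback.fst U.hom j) (by
    have hg : g.left ≫ pullback.snd U.hom j = W.hom := Over.w g.hom
    show (g.left ≫ pullback.fst U.hom j) ≫ U.hom = W.hom ≫ j
    erw [Category.assoc, pullback.condition, ← Category.assoc, hg]) trivial

set_option backward.isDefEq.respectTransparency.types false in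
theorem tMor_left {U : X.Etale} {W : V.Etale} (g : W ⟶ (EtCoh.bc j).obj U) :
    (tMor j g).left = g.left ≫ pullback.fst U.hom j := rfl

set_option backward.isDefEq.respectTransparency.types false in
theorem bc_tMor {U : X.Etale} {W : V.Etale} (g : W ⟶ (EtCoh.bc j).obj U) :
    (EtCoh.bc j).map (tMor j g) = dW j W ≫ g := by
  apply MorphismProperty.Over.Hom.ext
  have hg : g.left ≫ pullback.snd U.hom j = W.hom := Over.w g.hom
  refine pullback.hom_ext (f := U.hom) (g := j) ?_ ?_
  · show ((EtCoh.bc j).map (tMor j g)).left ≫ pullback.fst U.hom j =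
      ((dW j W).left ≫ g.left) ≫ pullback.fst U.hom j
    erw [bc_map_fst, tMor_left, dW_left, Category.assoc]
    rfl
  · show ((EtCoh.bc j).map (tMor j g)).left ≫ pullback.snd U.hom j =
      ((dW j W).left ≫ g.left) ≫ pullback.snd U.hom j
    erw [bc_map_snd, dW_left, Category.assoc, hg, dW_w]

set_option backward.isDefEq.respectTransparency.types false in
theorem map_tMor_shPt {U : X.Etale} {W : V.Etale} (g : W ⟶ (EtCoh.bc j).obj U)
    (σ : (Scheme.pointSmallEtale ζ).fiber.obj W)
    (τ : (Scheme.pointSmallEtale (ζ ≫ j)).fiber.obj U)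
    (h : (Scheme.pointSmallEtale ζ).fiber.map g σ = liftPt j ζ U τ) :
    (Scheme.pointSmallEtale (ζ ≫ j)).fiber.map (tMor j g) (shPt j ζ W σ) = τ := by
  apply Over.OverMorphism.ext
  have h1 : σ.left ≫ g.left = (liftPt j ζ U τ).left := congrArg (fun q => q.left) h
  show σ.left ≫ (g.left ≫ pullback.fst U.hom j) = τ.left
  erw [← Category.assoc, h1, liftPt_fst]

end helpers

/-- Abelian case. Let j : V → X be an open immersion of schemes, G an abelian sheaf on the small étale
site of V and ζ a geometric point of V (a morphism from the spectrum of a separably closed field).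
Then the stalk of the direct image j_*G at the geometric point ζ ≫ j of X is isomorphic to the stalk
of G at ζ (existence of an isomorphism only; the source's identification is the canonical one, the
étale neighbourhoods of the point contained in V being cofinal; the source states it for sheaves of
sets as well). -/
theorem result {V X : Scheme.{u}} (j : V ⟶ X) [IsOpenImmersion j] [EtCoh.BCCont j]
    (G : EtCoh.Ab V) {Ω : Type u} [Field Ω] [IsSepClosed Ω] (ζ : Spec (CommRingCat.of Ω) ⟶ V) :
    Nonempty ((EtCoh.stalk (ζ ≫ j)).obj ((EtCoh.push j).obj G) ≅ (EtCoh.stalk ζ).obj G) := by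
  let Φ := Scheme.pointSmallEtale (ζ ≫ j)
  let Ψ := Scheme.pointSmallEtale ζ
  let P' : X.Etaleᵒᵖ ⥤ AddCommGrpCat.{u + 1} := ((EtCoh.push j).obj G).obj
  obtain ⟨α, hα⟩ : ∃ α : Φ.presheafFiber.obj P' ⟶ Ψ.presheafFiber.obj G.obj,
      ∀ (U : X.Etale) (τ : Φ.fiber.obj U), Φ.toPresheafFiber U τ P' ≫ α =
        Ψ.toPresheafFiber ((EtCoh.bc j).obj U) (liftPt j ζ U τ) G.obj := by
    refine ⟨Φ.presheafFiberDesc
      (fun U τ => Ψ.toPresheafFiber ((EtCoh.bc j).obj U) (liftPt j ζ U τ) G.obj) ?_,
      fun U τ => Φ.toPresheafFiber_presheafFiberDesc _ _ U τ⟩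
    intro U' U g τ'
    have h1 := Ψ.toPresheafFiber_w ((EtCoh.bc j).map g) (liftPt j ζ U' τ') G.obj
    rw [liftPt_map] at h1
    exact h1
  have hα' : ∀ (U : X.Etale) (τ : Φ.fiber.obj U) (z : P'.obj (op U)),
      α (Φ.toPresheafFiber U τ P' z) =
        Ψ.toPresheafFiber ((EtCoh.bc j).obj U) (liftPt j ζ U τ) G.obj z := by
    intro U τ z
    rw [← hα U τ]
    rfl
  have hbij : Function.Bijective α := by
    constructor
    · rw [injective_iff_map_eq_zero]
      intro q hq
      obtain ⟨U, τ, z, rfl⟩ := Φ.toPresheafFiber_jointly_surjective q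
      rw [hα'] at hq
      have hq' : Ψ.toPresheafFiber ((EtCoh.bc j).obj U) (liftPt j ζ U τ) G.obj z =
          Ψ.toPresheafFiber ((EtCoh.bc j).obj U) (liftPt j ζ U τ) G.obj 0 := by
        rw [hq, map_zero]
      obtain ⟨W, g, σ, hσ, hg⟩ := (Ψ.toPresheafFiber_eq_iff' _ _ z 0).1 hq'
      rw [map_zero] at hg
      have h2 : Φ.toPresheafFiber (jsh j W) (shPt j ζ W σ) P' (P'.map (tMor j g).op z) =
          Φ.toPresheafFiber U (Φ.fiber.map (tMor j g) (shPt j ζ W σ)) P' z :=
        GrothendieckTopology.Point.toPresheafFiber_w_apply Φ (tMor j g) (shPt j ζ W σ) P' z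
      rw [map_tMor_shPt j ζ g σ τ hσ] at h2
      rw [← h2]
      have h3 : P'.map (tMor j g).op z = 0 := by
        show G.obj.map ((EtCoh.bc j).map (tMor j g)).op z = 0
        rw [bc_tMor, op_comp, Functor.map_comp, ConcreteCategory.comp_apply]
        exact (congrArg (fun y => G.obj.map (dW j W).op y) hg).trans (map_zero _)
      rw [h3, map_zero]
    · intro p
      obtain ⟨W, σ, z, rfl⟩ := Ψ.toPresheafFiber_jointly_surjective p
      refine ⟨Φ.toPresheafFiber (jsh j W) (shPt j ζ W σ) P' (G.obj.map (dW j W).op z), ?_⟩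
      rw [hα']
      have h2 := GrothendieckTopology.Point.toPresheafFiber_w_apply Ψ (dW j W)
        (liftPt j ζ (jsh j W) (shPt j ζ W σ)) G.obj z
      rw [map_dW_liftPt] at h2
      exact h2
  haveI : IsIso α := (ConcreteCategory.isIso_iff_bijective α).2 hbij
  have e : Φ.presheafFiber.obj P' ≅ Ψ.presheafFiber.obj G.obj := asIso α
  exact ⟨e⟩

end Groth.Agent.S19885
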