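import Groth.Statements.S0680
import Mathlib
import Groth.Agent.S0728
import Groth.Agent.S0671
import Groth.Agent.S0791
import Groth.Agent.S19885
import Groth.Agent.H4.ProperOver
import Groth.Agent.H4.SiteBasics

set_option autoImplicit false
open CategoryTheory CategoryTheory.Limits AlgebraicGeometry Opposite
universe u
open EtShriek

namespace Groth.Agent.S0680


open Groth.Agent.H4 Groth.Agent.S0728 Groth.Agent.S19885

/-! ### Supports of sections -/

theorem sectSupp_zero {X : Scheme.{u}} (F : EtCoh.Ab X) (U : X.Etale) :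
    EtShriek.sectSupp F U (0 : F.obj.obj (op U)) = ∅ := by
  ext x
  constructor
  · intro hx
    exfalso
    exact hx U (𝟙 U) ⟨x, rfl⟩ (map_zero _)
  · intro hx
    exact hx.elim

theorem sectSupp_neg_subset {X : Scheme.{u}} (F : EtCoh.Ab X) (U : X.Etale)
    (s : F.obj.obj (op U)) :
    EtShriek.sectSupp F U (-s) ⊆ EtShriek.sectSupp F U s := by
  intro x hx W g hw h0
  apply hx W g hw
  rw [map_neg, h0, neg_zero]

theorem sectSupp_add_subset {X : Scheme.{u}} (F : EtCoh.Ab X) (U : X.Etale)
    (s t : F.obj.obj (op U)) :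
    EtShriek.sectSupp F U (s + t) ⊆ EtShriek.sectSupp F U s ∪ EtShriek.sectSupp F U t := by
  intro x hx
  by_contra hnot
  rw [Set.mem_union, not_or] at hnot
  obtain ⟨Ω, hΩ1, hΩ2, ξ, τ, hτ⟩ := exists_geometric_point U x
  have h1 := germ_eq_zero_of_not_mem F ξ U τ s (by rw [hτ]; exact hnot.1)
  have h2 := germ_eq_zero_of_not_mem F ξ U τ t (by rw [hτ]; exact hnot.2)
  have h3 : (Scheme.pointSmallEtale ξ).toPresheafFiber U τ F.obj (s + t) = 0 := by
    rw [map_add, h1, h2, add_zero]
  have h4 := not_mem_of_germ_eq_zero F ξ U τ (s + t) h3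
  rw [hτ] at h4
  exact h4 hx

theorem sectSupp_map {X : Scheme.{u}} (F : EtCoh.Ab X) {W U : X.Etale} (a : W ⟶ U)
    (s : F.obj.obj (op U)) :
    EtShriek.sectSupp F W (F.obj.map a.op s) = a.left.base ⁻¹' EtShriek.sectSupp F U s := by
  ext x
  obtain ⟨Ω, hΩ1, hΩ2, ξ, τ, hτ⟩ := exists_geometric_point W x
  have hc : ((Scheme.pointSmallEtale ξ).fiber.map a τ).left.base
      (default : Spec (CommRingCat.of Ω)) = a.left.base x := by
    rw [← hτ]
    rfl
  have hg : (Scheme.pointSmallEtale ξ).toPresheafFiber W τ F.obj (F.obj.map a.op s) =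
      (Scheme.pointSmallEtale ξ).toPresheafFiber U ((Scheme.pointSmallEtale ξ).fiber.map a τ)
        F.obj s :=
    GrothendieckTopology.Point.toPresheafFiber_w_apply _ a τ F.obj s
  constructor
  · intro hx
    show a.left.base x ∈ EtShriek.sectSupp F U s
    by_contra hnot
    have h0 := germ_eq_zero_of_not_mem F ξ U ((Scheme.pointSmallEtale ξ).fiber.map a τ) s
      (by rw [hc]; exact hnot)
    have h1 := not_mem_of_germ_eq_zero F ξ W τ _ (hg.trans h0)
    rw [hτ] at h1
    exact h1 hx
  · intro hx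
    have hx' : a.left.base x ∈ EtShriek.sectSupp F U s := hx
    by_contra hnot
    have h0 := germ_eq_zero_of_not_mem F ξ W τ (F.obj.map a.op s) (by rw [hτ]; exact hnot)
    have h1 := not_mem_of_germ_eq_zero F ξ U ((Scheme.pointSmallEtale ξ).fiber.map a τ) s
      (hg.symm.trans h0)
    rw [hc] at h1
    exact h1 hx'

/-! ### Closed subsets proper over a base -/

theorem isProperOver_empty {A S : Scheme.{u}} (p : A ⟶ S) [LocallyOfFiniteType p] :
    ClSub.IsProperOver p (∅ : Set A) := by
  have h := Groth.Agent.S0791.result p Empty (fun i => (i.elim : Set A)) (fun i => i.elim)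
  have e : Set.iUnion (fun i : Empty => (i.elim : Set A)) = ∅ := Set.iUnion_of_empty _
  rwa [e] at h

theorem isProperOver_union {A S : Scheme.{u}} (p : A ⟶ S) [LocallyOfFiniteType p]
    (Z₁ Z₂ : Set A) (h₁ : ClSub.IsProperOver p Z₁) (h₂ : ClSub.IsProperOver p Z₂) :
    ClSub.IsProperOver p (Z₁ ∪ Z₂) := by
  have h := Groth.Agent.S0791.result p Bool (fun b => cond b Z₁ Z₂)
    (fun b => by
      cases b
      · exact h₂
      · exact h₁)
  have e : Set.iUnion (fun b : Bool => cond b Z₁ Z₂) = Z₁ ∪ Z₂ := by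
    ext x
    simp only [Set.mem_iUnion, Set.mem_union]
    constructor
    · rintro ⟨b, hb⟩
      cases b
      · exact Or.inr hb
      · exact Or.inl hb
    · rintro (h | h)
      · exact ⟨true, h⟩
      · exact ⟨false, h⟩
  rwa [e] at h

theorem isProperOver_of_subset_aux {A S R : Scheme.{u}} (p : A ⟶ S) [LocallyOfFiniteType p]
    (i : R ⟶ A) [IsClosedImmersion i] [IsProper (i ≫ p)] (T : Set A) (hT : IsClosed T)
    (hTZ : T ⊆ Set.range i.base) : ClSub.IsProperOver p T := by
  have hT' : IsClosed (i.base ⁻¹' T) := hT.preimage i.continuous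
  have h1 : Set.range
      (Scheme.IdealSheafData.vanishingIdeal ⟨i.base ⁻¹' T, hT'⟩).subschemeι.base =
      i.base ⁻¹' T := range_vanishingIdeal_subschemeι _ hT'
  have hr : Set.range
      ((Scheme.IdealSheafData.vanishingIdeal ⟨i.base ⁻¹' T, hT'⟩).subschemeι ≫ i).base = T := by
    rw [Scheme.Hom.comp_base, TopCat.coe_comp, Set.range_comp, h1,
      Set.image_preimage_eq_inter_range]
    exact Set.inter_eq_left.2 hTZ
  haveI : IsProper
      (((Scheme.IdealSheafData.vanishingIdeal ⟨i.base ⁻¹' T, hT'⟩).subschemeι ≫ i) ≫ p) := by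
    rw [Category.assoc]
    infer_instance
  have h := isProperOver_of_closedImmersion p
    ((Scheme.IdealSheafData.vanishingIdeal ⟨i.base ⁻¹' T, hT'⟩).subschemeι ≫ i)
  rwa [hr] at h

theorem isProperOver_of_subset {A S : Scheme.{u}} (p : A ⟶ S) [LocallyOfFiniteType p]
    (Z T : Set A) (hZ : ClSub.IsProperOver p Z) (hT : IsClosed T) (hTZ : T ⊆ Z) :
    ClSub.IsProperOver p T := by
  obtain ⟨hZc, hZp⟩ := hZ
  haveI := hZp
  refine isProperOver_of_subset_aux p (Scheme.IdealSheafData.vanishingIdeal ⟨Z, hZc⟩).subschemeι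
    T hT ?_
  have h1 : Set.range (Scheme.IdealSheafData.vanishingIdeal ⟨Z, hZc⟩).subschemeι.base = Z :=
    range_vanishingIdeal_subschemeι _ hZc
  rw [h1]
  exact hTZ

/-! ### Descent of separatedness and universal closedness along etale covers -/

/-- Morphisms with closed range. -/
def closedRange : MorphismProperty Scheme.{u} := fun _ _ g => IsClosed (Set.range g.base)

instance closedRange_respectsIso : closedRange.{u}.RespectsIso := by
  apply MorphismProperty.RespectsIso.mk
  · intro X Y Z e g hg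
    show IsClosed (Set.range (e.hom ≫ g).base)
    have h1 : Set.range (e.hom ≫ g).base = Set.range g.base := by
      rw [Scheme.Hom.comp_base, TopCat.coe_comp, Set.range_comp]
      have h2 : Set.range e.hom.base = Set.univ :=
        Set.range_eq_univ.2 (fun x => ⟨e.inv.base x,
          congrArg (fun q : Y ⟶ Y => q.base x) e.inv_hom_id⟩)
      rw [h2, Set.image_univ]
    rw [h1]
    exact hg
  · intro X Y Z e g hg
    show IsClosed (Set.range (g ≫ e.hom).base)
    rw [Scheme.Hom.comp_base, TopCat.coe_comp, Set.range_comp]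
    exact e.hom.isClosedEmbedding.isClosedMap _ hg

instance closedRange_descends : MorphismProperty.DescendsAlong closedRange.{u}
    (@Surjective ⊓ @Flat ⊓ @LocallyOfFinitePresentation : MorphismProperty Scheme.{u}) := by
  apply MorphismProperty.DescendsAlong.mk'
  intro X Y Z f g _ hf hfst
  obtain ⟨⟨hs, hfl⟩, hlfp⟩ := hf
  haveI : Surjective f := hs
  haveI : Flat f := hfl
  haveI : LocallyOfFinitePresentation f := hlfp
  have hr : Set.range (pullback.fst f g).base = f.base ⁻¹' Set.range g.base :=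
    Scheme.Pullback.range_fst f g
  have hq : Topology.IsQuotientMap f.base :=
    f.isOpenMap.isQuotientMap f.continuous f.surjective
  show IsClosed (Set.range g.base)
  rw [← hq.isClosed_preimage, ← hr]
  exact hfst

instance isSeparated_descends : MorphismProperty.DescendsAlong
    (@IsSeparated : MorphismProperty Scheme.{u})
    (@Surjective ⊓ @Flat ⊓ @LocallyOfFinitePresentation : MorphismProperty Scheme.{u}) := by
  constructor
  intro A X Y Z fst snd f g h hf hfst
  have h1 : (MorphismProperty.diagonal closedRange.{u}) fst := by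
    show IsClosed (Set.range (pullback.diagonal fst).base)
    haveI : IsSeparated fst := hfst
    exact (pullback.diagonal fst).isClosedEmbedding.isClosed_range
  have h2 : (MorphismProperty.diagonal closedRange.{u}) g :=
    MorphismProperty.DescendsAlong.of_isPullback
      (P := MorphismProperty.diagonal closedRange.{u}) h hf h1
  exact ⟨IsClosedImmersion.of_isPreimmersion _ h2⟩

/-- A property which is Zariski local on the target and satisfies fppf descent can be checked
etale locally on the target. -/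
theorem of_etale_local (P : MorphismProperty Scheme.{u}) [IsZariskiLocalAtTarget P]
    [P.DescendsAlong
      (@Surjective ⊓ @Flat ⊓ @LocallyOfFinitePresentation : MorphismProperty Scheme.{u})]
    {R S' : Scheme.{u}} (q : R ⟶ S')
    (H : ∀ s : S', ∃ (S₁ Q₁ : Scheme.{u}) (u : S₁ ⟶ S') (_ : Etale u) (q₁ : Q₁ ⟶ S₁)
      (r : Q₁ ⟶ R), IsPullback q₁ r u q ∧ s ∈ Set.range u.base ∧ P q₁) : P q := by
  apply IsZariskiLocalAtTarget.of_forall_exists_morphismRestrict
  intro s
  obtain ⟨S₁, Q₁, u, hu, q₁, r, sq, hs, hq₁⟩ := H s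
  haveI := hu
  let O : S'.Opens := ⟨Set.range u.base, u.isOpenMap.isOpen_range⟩
  refine ⟨O, hs, ?_⟩
  have hsub : Set.range u.base ⊆ Set.range O.ι.base := by
    rw [Scheme.Opens.range_ι]
    exact subset_rfl
  let ū : S₁ ⟶ O := IsOpenImmersion.lift O.ι u hsub
  have hū : ū ≫ O.ι = u := IsOpenImmersion.lift_fac _ _ _
  haveI : Etale (ū ≫ O.ι) := by
    rw [hū]
    exact hu
  haveI : Etale ū := MorphismProperty.of_postcomp (W := @Etale) (W' := @Etale) ū O.ι
    inferInstance inferInstance
  have hsurj : Surjective ū := by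
    constructor
    intro o
    have ho : O.ι.base o ∈ Set.range u.base := by
      have h0 : O.ι.base o ∈ Set.range O.ι.base := ⟨o, rfl⟩
      rwa [Scheme.Opens.range_ι] at h0
    obtain ⟨s₁, hs₁⟩ := ho
    refine ⟨s₁, ?_⟩
    apply O.ι.isOpenEmbedding.injective
    have h0 := congrArg (fun q : S₁ ⟶ S' => q.base s₁) hū
    exact h0.trans hs₁
  have t : IsPullback (q ⁻¹ᵁ O).ι (q ∣_ O) q O.ι := (isPullback_morphismRestrict q O).flip
  have hcomm : r ≫ q = (q₁ ≫ ū) ≫ O.ι := by
    rw [Category.assoc, hū]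
    exact sq.w.symm
  have hr'1 : t.lift r (q₁ ≫ ū) hcomm ≫ (q ⁻¹ᵁ O).ι = r := t.lift_fst _ _ _
  have hr'2 : t.lift r (q₁ ≫ ū) hcomm ≫ (q ∣_ O) = q₁ ≫ ū := t.lift_snd _ _ _
  have outer : IsPullback (t.lift r (q₁ ≫ ū) hcomm ≫ (q ⁻¹ᵁ O).ι) q₁ q (ū ≫ O.ι) := by
    rw [hr'1, hū]
    exact sq.flip
  have left : IsPullback (t.lift r (q₁ ≫ ū) hcomm) q₁ (q ∣_ O) ū :=
    IsPullback.of_right outer hr'2 t
  exact MorphismProperty.DescendsAlong.of_isPullback (P := P)
    (Q := (@Surjective ⊓ @Flat ⊓ @LocallyOfFinitePresentation : MorphismProperty Scheme.{u}))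
    left.flip ⟨⟨hsurj, inferInstance⟩, inferInstance⟩ hq₁

theorem isProper_comp_of_etale_local {R A S' : Scheme.{u}} (p : A ⟶ S') [LocallyOfFiniteType p]
    (ιT : R ⟶ A) [IsClosedImmersion ιT] (T : Set A) (hr : Set.range ιT.base = T)
    (H : ∀ s : S', ∃ (S₁ A₁ : Scheme.{u}) (u : S₁ ⟶ S') (_ : Etale u) (a : A₁ ⟶ A)
      (p₁ : A₁ ⟶ S₁), IsPullback a p₁ p u ∧ s ∈ Set.range u.base ∧
        ClSub.IsProperOver p₁ (a.base ⁻¹' T)) :
    IsProper (ιT ≫ p) := by
  have key : ∀ s : S', ∃ (S₁ Q₁ : Scheme.{u}) (u : S₁ ⟶ S') (_ : Etale u) (q₁ : Q₁ ⟶ S₁)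
      (r : Q₁ ⟶ R), IsPullback q₁ r u (ιT ≫ p) ∧ s ∈ Set.range u.base ∧ IsProper q₁ := by
    intro s
    obtain ⟨S₁, A₁, u, hu, a, p₁, sq, hs, hprop⟩ := H s
    haveI : LocallyOfFiniteType p₁ :=
      MorphismProperty.of_isPullback (P := @LocallyOfFiniteType) sq inferInstance
    haveI : IsClosedImmersion (pullback.snd ιT a) :=
      MorphismProperty.pullback_snd (P := @IsClosedImmersion) ιT a inferInstance
    have hrange : Set.range (pullback.snd ιT a).base = a.base ⁻¹' T := by
      have h0 : Set.range (pullback.snd ιT a).base = a.base ⁻¹' Set.range ιT.base :=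
        Scheme.Pullback.range_snd ιT a
      rw [h0, hr]
    have hprop' : ClSub.IsProperOver p₁ (Set.range (pullback.snd ιT a).base) := by
      rw [hrange]
      exact hprop
    have hproper : IsProper (pullback.snd ιT a ≫ p₁) :=
      isProper_of_isProperOver p₁ (pullback.snd ιT a) hprop'
    exact ⟨S₁, pullback ιT a, u, hu, pullback.snd ιT a ≫ p₁, pullback.fst ιT a,
      ((IsPullback.of_hasPullback ιT a).paste_vert sq).flip, hs, hproper⟩
  haveI : IsSeparated (ιT ≫ p) := of_etale_local @IsSeparated (ιT ≫ p) (fun s => by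
    obtain ⟨S₁, Q₁, u, hu, q₁, r, sq, hs, hq⟩ := key s
    exact ⟨S₁, Q₁, u, hu, q₁, r, sq, hs, hq.toIsSeparated⟩)
  haveI : UniversallyClosed (ιT ≫ p) := of_etale_local @UniversallyClosed (ιT ≫ p) (fun s => by
    obtain ⟨S₁, Q₁, u, hu, q₁, r, sq, hs, hq⟩ := key s
    exact ⟨S₁, Q₁, u, hu, q₁, r, sq, hs, hq.toUniversallyClosed⟩)
  exact {}

theorem isProperOver_of_etale_local {A S' : Scheme.{u}} (p : A ⟶ S') [LocallyOfFiniteType p]
    (T : Set A) (hT : IsClosed T)
    (H : ∀ s : S', ∃ (S₁ A₁ : Scheme.{u}) (u : S₁ ⟶ S') (_ : Etale u) (a : A₁ ⟶ A)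
      (p₁ : A₁ ⟶ S₁), IsPullback a p₁ p u ∧ s ∈ Set.range u.base ∧
        ClSub.IsProperOver p₁ (a.base ⁻¹' T)) :
    ClSub.IsProperOver p T := by
  have hr : Set.range (Scheme.IdealSheafData.vanishingIdeal ⟨T, hT⟩).subschemeι.base = T :=
    range_vanishingIdeal_subschemeι T hT
  exact ⟨hT, isProper_comp_of_etale_local p
    (Scheme.IdealSheafData.vanishingIdeal ⟨T, hT⟩).subschemeι T hr H⟩

/-- Base change squares of the small etale sites are cartesian. -/
theorem isPullback_bc_map {X Y : Scheme.{u}} (f : X ⟶ Y) {V'' V' : Y.Etale} (g : V'' ⟶ V') :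
    IsPullback ((EtCoh.bc f).map g).left (pullback.fst V''.hom f) (pullback.fst V'.hom f)
      g.left := by
  have t : IsPullback (pullback.snd V'.hom f) (pullback.fst V'.hom f) f V'.hom :=
    (IsPullback.of_hasPullback V'.hom f).flip
  have hw : g.left ≫ V'.hom = V''.hom := Over.w g.hom
  have s : IsPullback (((EtCoh.bc f).map g).left ≫ pullback.snd V'.hom f)
      (pullback.fst V''.hom f) f (g.left ≫ V'.hom) := by
    rw [bc_map_snd, hw]
    exact (IsPullback.of_hasPullback V''.hom f).flip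
  exact IsPullback.of_right s (bc_map_fst f g) t

/-! ### The subgroup of sections with proper support -/

section shriek

variable {X Y : Scheme.{u}} (f : X ⟶ Y) [LocallyOfFiniteType f] (F : EtCoh.Ab X)

instance lft_prV (V : Y.Etale) : LocallyOfFiniteType (EtShriek.prV f V) :=
  (inferInstance : LocallyOfFiniteType (pullback.fst V.hom f))

theorem shriekPred_zero (V : Y.Etale) :
    EtShriek.ShriekPred f F V (0 : F.obj.obj (op ((EtCoh.bc f).obj V))) := by
  intro V' φ
  have e : EtShriek.sectSupp F ((EtCoh.bc f).obj V')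
      (F.obj.map ((EtCoh.bc f).map φ).op (0 : F.obj.obj (op ((EtCoh.bc f).obj V)))) = ∅ := by
    rw [map_zero]
    exact sectSupp_zero F _
  exact ⟨∅, e.subset, isProperOver_empty _⟩

theorem shriekPred_neg (V : Y.Etale) (s : F.obj.obj (op ((EtCoh.bc f).obj V)))
    (hs : EtShriek.ShriekPred f F V s) : EtShriek.ShriekPred f F V (-s) := by
  intro V' φ
  obtain ⟨Z, hZ, hp⟩ := hs V' φ
  refine ⟨Z, ?_, hp⟩
  rw [map_neg]
  exact (sectSupp_neg_subset F _ _).trans hZ

theorem shriekPred_add (V : Y.Etale) (s t : F.obj.obj (op ((EtCoh.bc f).obj V)))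
    (hs : EtShriek.ShriekPred f F V s) (ht : EtShriek.ShriekPred f F V t) :
    EtShriek.ShriekPred f F V (s + t) := by
  intro V' φ
  obtain ⟨Z₁, hZ₁, hp₁⟩ := hs V' φ
  obtain ⟨Z₂, hZ₂, hp₂⟩ := ht V' φ
  refine ⟨Z₁ ∪ Z₂, ?_, isProperOver_union _ Z₁ Z₂ hp₁ hp₂⟩
  rw [map_add]
  exact (sectSupp_add_subset F _ _ _).trans (Set.union_subset_union hZ₁ hZ₂)

theorem mem_shriekSubgroup_iff (V : Y.Etale) (s : F.obj.obj (op ((EtCoh.bc f).obj V))) :
    s ∈ EtShriek.shriekSubgroup f F V ↔ EtShriek.ShriekPred f F V s := by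
  constructor
  · intro hs
    refine AddSubgroup.closure_induction (p := fun x _ => EtShriek.ShriekPred f F V x)
      ?_ ?_ ?_ ?_ hs
    · intro x hx
      exact hx
    · exact shriekPred_zero f F V
    · intro x y _ _ hx hy
      exact shriekPred_add f F V x y hx hy
    · intro x _ hx
      exact shriekPred_neg f F V x hx
  · intro hs
    exact AddSubgroup.subset_closure hs

end shriek

/-! ### A sub-presheaf of a sheaf defined by a local condition is a sheaf -/

universe w in
theorem isSheaf_of_injective_local {C : Type*} [Category C] (J : GrothendieckTopology C)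
    {Q P' : Cᵒᵖ ⥤ Type w} (ι : Q ⟶ P') (hι : ∀ U, Function.Injective (ι.app U))
    (hP : Presieve.IsSheaf J P')
    (hloc : ∀ (U : C) (S : Sieve U), S ∈ J U → ∀ t : P'.obj (op U),
      (∀ ⦃V : C⦄ (g : V ⟶ U), S g → ∃ q : Q.obj (op V), ι.app (op V) q = P'.map g.op t) →
      ∃ q : Q.obj (op U), ι.app (op U) q = t) : Presieve.IsSheaf J Q := by
  intro U S hS (x : Presieve.FamilyOfElements Q (S : Presieve U)) hx
  have hy : (Presieve.FamilyOfElements.map x ι).Compatible :=
    Presieve.FamilyOfElements.Compatible.map ι hx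
  obtain ⟨t, ht, htu⟩ := hP S hS (Presieve.FamilyOfElements.map x ι) hy
  obtain ⟨q, hq⟩ := hloc U S hS t (fun V g hg => ⟨x g hg, (ht g hg).symm⟩)
  refine ⟨q, ?_, ?_⟩
  · intro V g hg
    apply hι
    have nat := NatTrans.naturality_apply ι g.op q
    calc ι.app (op V) (Q.map g.op q) = P'.map g.op (ι.app (op U) q) := nat
      _ = P'.map g.op t := by rw [hq]
      _ = ι.app (op V) (x g hg) := ht g hg
  · intro q' hq'
    apply hι
    rw [hq]
    apply htu
    intro V g hg
    have nat := NatTrans.naturality_apply ι g.op q'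
    calc P'.map g.op (ι.app (op U) q') = ι.app (op V) (Q.map g.op q') := nat.symm
      _ = ι.app (op V) (x g hg) := by rw [hq' g hg]

/-- Let f : X -> Y be locally of finite type and F an abelian sheaf on X_et. Assigning to V in Y_et the
sections of F over X x_Y V with support proper over V defines an abelian subsheaf of f_* F; here:
the presheaf EtShriek.lowerShriekPre f F (generated by such sections, hereditarily under
restriction) satisfies the sheaf condition for the small etale topology. -/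
theorem result {X Y : Scheme.{u}} (f : X ⟶ Y) [LocallyOfFiniteType f]
    (F : EtCoh.Ab X) :
    Presheaf.IsSheaf Y.smallEtaleTopology (EtShriek.lowerShriekPre f F) := by
  apply Presheaf.isSheaf_of_isSheaf_comp Y.smallEtaleTopology (EtShriek.lowerShriekPre f F)
    (forget AddCommGrpCat.{u + 1})
  rw [isSheaf_iff_isSheaf_of_type]
  have hP' : Presieve.IsSheaf Y.smallEtaleTopology
      (((EtCoh.push f).obj F).obj ⋙ forget AddCommGrpCat.{u + 1}) :=
    (isSheaf_iff_isSheaf_of_type _ _).1
      ((sheafCompose Y.smallEtaleTopology (forget AddCommGrpCat.{u + 1})).obj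
        ((EtCoh.push f).obj F)).2
  refine isSheaf_of_injective_local Y.smallEtaleTopology
    (Functor.whiskerRight (EtShriek.lowerShriekPreι f F) (forget AddCommGrpCat.{u + 1})) ?_ hP' ?_
  · intro V a b hab
    exact Subtype.ext hab
  · intro V S hS t ht
    let t₀ : F.obj.obj (op ((EtCoh.bc f).obj V)) := t
    have hmem : ∀ (V₁ : Y.Etale) (g : V₁ ⟶ V), S g →
        EtShriek.ShriekPred f F V₁ (F.obj.map ((EtCoh.bc f).map g).op t₀) := by
      intro V₁ g hg
      obtain ⟨q, hq⟩ := ht g hg
      have hq' : (q : ↥(EtShriek.shriekSubgroup f F V₁)).1 =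
          F.obj.map ((EtCoh.bc f).map g).op t₀ := hq
      have hin : F.obj.map ((EtCoh.bc f).map g).op t₀ ∈ EtShriek.shriekSubgroup f F V₁ := by
        rw [← hq']
        exact q.2
      exact (mem_shriekSubgroup_iff f F V₁ _).1 hin
    suffices hpred : EtShriek.ShriekPred f F V t₀ from
      ⟨⟨t₀, (mem_shriekSubgroup_iff f F V t₀).2 hpred⟩, rfl⟩
    intro V' φ
    have hcl : IsClosed (EtShriek.sectSupp F ((EtCoh.bc f).obj V')
        (F.obj.map ((EtCoh.bc f).map φ).op t₀)) :=
      (Groth.Agent.S0671.result F).1 _ _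
    refine ⟨EtShriek.sectSupp F ((EtCoh.bc f).obj V') (F.obj.map ((EtCoh.bc f).map φ).op t₀),
      subset_rfl, ?_⟩
    apply isProperOver_of_etale_local (EtShriek.prV f V') _ hcl
    intro s
    have hS' : S.pullback φ ∈ Y.smallEtaleTopology V' :=
      Y.smallEtaleTopology.pullback_stable φ hS
    obtain ⟨V'', g', v'', hg', hv''⟩ := exists_of_mem_smallEtaleTopology V' (S.pullback φ) hS' s
    obtain ⟨Z'', hZ'', hpZ''⟩ := hmem V'' (g' ≫ φ) hg' V'' (𝟙 V'')
    have e1 : F.obj.map ((EtCoh.bc f).map (𝟙 V'')).op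
        (F.obj.map ((EtCoh.bc f).map (g' ≫ φ)).op t₀) =
        F.obj.map ((EtCoh.bc f).map g').op (F.obj.map ((EtCoh.bc f).map φ).op t₀) := by
      have hid : (EtCoh.bc f).map (𝟙 V'') = 𝟙 _ := CategoryTheory.Functor.map_id _ _
      have hcomp : (EtCoh.bc f).map (g' ≫ φ) = (EtCoh.bc f).map g' ≫ (EtCoh.bc f).map φ :=
        CategoryTheory.Functor.map_comp _ _ _
      rw [hid, hcomp, op_id, op_comp, CategoryTheory.Functor.map_id,
        CategoryTheory.Functor.map_comp]
      rfl
    have hsupp := sectSupp_map F ((EtCoh.bc f).map g') (F.obj.map ((EtCoh.bc f).map φ).op t₀)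
    have hcl'' : IsClosed (((EtCoh.bc f).map g').left.base ⁻¹'
        EtShriek.sectSupp F ((EtCoh.bc f).obj V') (F.obj.map ((EtCoh.bc f).map φ).op t₀)) :=
      hcl.preimage ((EtCoh.bc f).map g').left.continuous
    have hprop : ClSub.IsProperOver (EtShriek.prV f V'') (((EtCoh.bc f).map g').left.base ⁻¹'
        EtShriek.sectSupp F ((EtCoh.bc f).obj V') (F.obj.map ((EtCoh.bc f).map φ).op t₀)) := by
      apply isProperOver_of_subset (EtShriek.prV f V'') Z'' _ hpZ'' hcl''
      rw [← hsupp, ← e1]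
      exact hZ''
    exact ⟨V''.left, ((EtCoh.bc f).obj V'').left, g'.left, inferInstance,
      ((EtCoh.bc f).map g').left, EtShriek.prV f V'', isPullback_bc_map f g', ⟨v'', hv''⟩, hprop⟩

end Groth.Agent.S0680
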