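import Groth.Statements.S0796
import Groth.Agent.S0680
import Groth.Agent.S0020
import Groth.Agent.H8.StalkExact

set_option autoImplicit false
universe u
open Coherent

namespace Groth.Agent.S0796

section helpers
open CategoryTheory CategoryTheory.Limits AlgebraicGeometry Opposite TopologicalSpace Groth.Agent.H8

theorem subsingleton_stalk_mid_iff {X : Scheme.{u}} (E : ShortComplex X.Modules)
    (hE : E.ShortExact) (x : X) :
    Subsingleton ↑(E.X₂.presheaf.stalk x) ↔
      Subsingleton ↑(E.X₁.presheaf.stalk x) ∧ Subsingleton ↑(E.X₃.presheaf.stalk x) := by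
  haveI : Mono E.f := hE.mono_f
  haveI : Epi E.g := hE.epi_g
  rw [subsingleton_stalk_iff, subsingleton_stalk_iff, subsingleton_stalk_iff]
  constructor
  · intro h2
    constructor
    · intro t
      obtain ⟨U, hxU, k, rfl⟩ := TopCat.Presheaf.exists_germ_eq E.X₁.presheaf t
      have h := h2 (E.X₂.presheaf.germ U x hxU (E.f.app U k))
      obtain ⟨V, hVU, hxV, hV⟩ := exists_res_eq_zero_of_germ_eq_zero x E.X₂ hxU _ h
      rw [← app_res] at hV
      have h3 : E.X₁.presheaf.map (homOfLE hVU).op k = 0 :=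
        app_injective_of_mono E.f V (hV.trans (map_zero _).symm)
      rw [← germ_res x E.X₁ hVU hxV, h3, map_zero]
    · intro t
      obtain ⟨U, hxU, q, rfl⟩ := TopCat.Presheaf.exists_germ_eq E.X₃.presheaf t
      obtain ⟨V, hVU, m, hxV, hm⟩ :=
        Groth.Agent.H53.modules_epi_locally_surjective E.g U q x hxU
      have h := h2 (E.X₂.presheaf.germ V x hxV m)
      obtain ⟨W, hWV, hxW, hW⟩ := exists_res_eq_zero_of_germ_eq_zero x E.X₂ hxV _ h
      rw [← germ_res x E.X₃ hVU hxV, ← hm, ← germ_res x E.X₃ hWV hxW, ← app_res, hW, map_zero,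
        map_zero]
  · rintro ⟨h1, h3⟩ t
    obtain ⟨U, hxU, m, rfl⟩ := TopCat.Presheaf.exists_germ_eq E.X₂.presheaf t
    have h := h3 (E.X₃.presheaf.germ U x hxU (E.g.app U m))
    obtain ⟨V, hVU, hxV, hV⟩ := exists_res_eq_zero_of_germ_eq_zero x E.X₃ hxU _ h
    rw [← app_res] at hV
    obtain ⟨k, hk⟩ := exists_app_eq_of_exact E hE.exact V _ hV
    have h' := h1 (E.X₁.presheaf.germ V x hxV k)
    obtain ⟨W, hWV, hxW, hW⟩ := exists_res_eq_zero_of_germ_eq_zero x E.X₁ hxV _ h'
    rw [← germ_res x E.X₂ hVU hxV, ← hk, ← germ_res x E.X₂ hWV hxW, ← app_res, hW, map_zero,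
      map_zero]

theorem support_eq_union {X : Scheme.{u}} (E : ShortComplex X.Modules) (hE : E.ShortExact) :
    CohB1.support E.X₂ = CohB1.support E.X₁ ∪ CohB1.support E.X₃ := by
  ext x
  show ¬ Subsingleton ↑(E.X₂.presheaf.stalk x) ↔
    (¬ Subsingleton ↑(E.X₁.presheaf.stalk x)) ∨ (¬ Subsingleton ↑(E.X₃.presheaf.stalk x))
  rw [subsingleton_stalk_mid_iff E hE x, not_and_or]

end helpers

open CategoryTheory AlgebraicGeometry in
/-- Part (2), through the usual criterion for Serre subcategories. Let S be locally Noetherian and f : X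
→ S locally of finite type. For a short exact sequence 0 → F₁ → F₂ → F₃ → 0 of coherent O_X-modules,
the support of F₂ is proper over S if and only if the supports of F₁ and F₃ are. -/
theorem result {X S : Scheme.{u}} (f : X ⟶ S) [LocallyOfFiniteType f]
    [IsLocallyNoetherian S] (E : ShortComplex X.Modules) (hE : E.ShortExact)
    (h₁ : Coh.IsCoh E.X₁) (h₂ : Coh.IsCoh E.X₂) (h₃ : Coh.IsCoh E.X₃) :
    ClSub.IsProperOver f (CohB1.support E.X₂) ↔
      ClSub.IsProperOver f (CohB1.support E.X₁) ∧ ClSub.IsProperOver f (CohB1.support E.X₃) := by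
  rw [support_eq_union E hE]
  constructor
  · intro h
    have hc1 : IsClosed (CohB1.support E.X₁) := Groth.Agent.S0020.result X E.X₁ h₁.2
    have hc3 : IsClosed (CohB1.support E.X₃) := Groth.Agent.S0020.result X E.X₃ h₃.2
    exact ⟨Groth.Agent.S0680.isProperOver_of_subset f _ _ h hc1 Set.subset_union_left,
      Groth.Agent.S0680.isProperOver_of_subset f _ _ h hc3 Set.subset_union_right⟩
  · rintro ⟨a, b⟩
    exact Groth.Agent.S0680.isProperOver_union f _ _ a b

end Groth.Agent.S0796
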