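import Groth.Statements.S0015
-- import your own Groth.Agent.* helpers here

set_option autoImplicit false
universe u
open Coherent

namespace Groth.Agent.S0015

open AlgebraicGeometry in
/-- Claim A: P holds on finite unions of basic opens of an affine open. -/
theorem claimA (X : Scheme.{u})
    (P : X.Opens → Prop) (h₁ : ∀ U : X.Opens, IsAffineOpen U → P U)
    (h₂ : ∀ U V : X.Opens, IsCompact (U : Set X) → IsAffineOpen V → P U → P V → P (U ⊓ V) →
      P (U ⊔ V))
    (V : X.Opens) (hV : IsAffineOpen V) (s : Finset Γ(X, V)) :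
    ∀ g : Γ(X, V), P (⨆ f ∈ s, X.basicOpen (f * g)) := by
  classical
  induction s using Finset.induction_on with
  | empty =>
    intro g
    simp only [Finset.notMem_empty, not_false_eq_true, iSup_neg, iSup_bot]
    exact h₁ _ (isAffineOpen_bot X)
  | insert a s ha ih =>
    intro g
    rw [Finset.iSup_insert, sup_comm]
    apply h₂
    · have : IsCompact (⋃ f ∈ s, (X.basicOpen (f * g) : Set X)) :=
        s.finite_toSet.isCompact_biUnion fun f _ => (hV.basicOpen (f * g)).isCompact
      convert this
      ext x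
      simp
    · exact hV.basicOpen _
    · exact ih g
    · exact h₁ _ (hV.basicOpen _)
    · have : (⨆ f ∈ s, X.basicOpen (f * g)) ⊓ X.basicOpen (a * g) =
          ⨆ f ∈ s, X.basicOpen (f * (g * (a * g))) := by
        rw [iSup_inf_eq]
        congr 1
        ext f : 1
        rw [iSup_inf_eq]
        congr 1
        ext hf : 1
        rw [← mul_assoc, Scheme.basicOpen_mul (f := f * g)]
      rw [this]
      exact ih _

open AlgebraicGeometry in
/-- Claim A': P holds on compact opens contained in an affine open. -/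
theorem claimA' (X : Scheme.{u})
    (P : X.Opens → Prop) (h₁ : ∀ U : X.Opens, IsAffineOpen U → P U)
    (h₂ : ∀ U V : X.Opens, IsCompact (U : Set X) → IsAffineOpen V → P U → P V → P (U ⊓ V) →
      P (U ⊔ V))
    (V : X.Opens) (hV : IsAffineOpen V) (S : X.Opens) (hS : IsCompact (S : Set X)) (hSV : S ≤ V) :
    P S := by
  classical
  have hcov : ∀ x : S, ∃ f : Γ(X, V), X.basicOpen f ≤ S ∧ (x : X) ∈ X.basicOpen f :=
    fun x => hV.exists_basicOpen_le x (hSV x.2)
  choose F hF₁ hF₂ using hcov
  obtain ⟨t, ht⟩ := hS.elim_finite_subcover (fun x : S => (X.basicOpen (F x) : Set X))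
    (fun x => (X.basicOpen (F x)).isOpen) (fun x hx => Set.mem_iUnion.mpr ⟨⟨x, hx⟩, hF₂ ⟨x, hx⟩⟩)
  have key : S = ⨆ f ∈ t.image F, X.basicOpen (f * 1) := by
    apply le_antisymm
    · intro x hx
      obtain ⟨y, hy⟩ := Set.mem_iUnion.mp (ht hx)
      obtain ⟨hy, hxy⟩ := Set.mem_iUnion.mp hy
      simp only [mul_one, Finset.mem_image, iSup_exists]
      refine TopologicalSpace.Opens.mem_iSup.mpr ⟨F y, ?_⟩
      refine TopologicalSpace.Opens.mem_iSup.mpr ⟨y, ?_⟩
      refine TopologicalSpace.Opens.mem_iSup.mpr ⟨⟨hy, rfl⟩, hxy⟩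
    · simp only [mul_one, Finset.mem_image, iSup_exists, iSup_le_iff, and_imp]
      rintro f y hy rfl
      exact hF₁ y
  rw [key]
  exact claimA X P h₁ h₂ V hV _ 1

open AlgebraicGeometry in
/-- Let X be quasi-compact and quasi-separated and P a property of opens of X. If P holds for affine
opens, and P(U ∪ V) follows from P(U), P(V), P(U ∩ V) whenever U is quasi-compact open and V affine
open, then P holds for every quasi-compact open, in particular for X. -/
theorem result (X : Scheme.{u}) [CompactSpace X] [QuasiSeparatedSpace X]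
    (P : X.Opens → Prop) (h₁ : ∀ U : X.Opens, IsAffineOpen U → P U)
    (h₂ : ∀ U V : X.Opens, IsCompact (U : Set X) → IsAffineOpen V → P U → P V → P (U ⊓ V) →
      P (U ⊔ V))
    (U : X.Opens) (hU : IsCompact (U : Set X)) : P U := by
  refine compact_open_induction_on U hU (h₁ _ (isAffineOpen_bot X)) ?_
  intro S hS V hPS
  refine h₂ S V hS V.2 hPS (h₁ _ V.2) ?_
  refine claimA' X P h₁ h₂ V V.2 (S ⊓ V) ?_ inf_le_right
  exact QuasiSeparatedSpace.inter_isCompact _ _ S.2 hS V.1.2 V.2.isCompact

end Groth.Agent.S0015
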