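import Groth.Statements.S0028
-- import your own Groth.Agent.* helpers here
import Groth.Agent.H45.AffineOpenVanishing
import Groth.Agent.H45.SheafifyZero
import Groth.Agent.S0461

set_option autoImplicit false
universe u
open Coherent

namespace Groth.Agent.S0028

open AlgebraicGeometry CategoryTheory in
/-- If f : X → S is an affine morphism and F is a quasi-coherent O_X-module, then R^i f_* F = 0 for all
i > 0 (higher direct images of the underlying abelian sheaf). -/
theorem result {X S : Scheme.{u}} (f : X ⟶ S) [IsAffineHom f]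
    (M : X.Modules) [Coh.IsQCoh M] (i : ℕ) (hi : 0 < i) :
    Limits.IsZero ((Coh.RpushAb f i).obj (Coh.toAb M)) := by
  obtain ⟨q, rfl⟩ := Nat.exists_eq_succ_of_ne_zero hi.ne'
  obtain ⟨e⟩ := Groth.Agent.S0461.result (X := X.carrier) (Y := S.carrier) f.base (Coh.toAb M)
    (q + 1)
  refine Limits.IsZero.of_iso ?_ e
  apply Groth.Agent.H45.SheafifyZero.isZero_sheafify
  intro V x hx
  obtain ⟨_, ⟨W, hW, rfl⟩, hxW, hWV⟩ :=
    S.isBasis_affineOpens.exists_subset_of_mem_open hx V.isOpen
  refine ⟨W, hxW, hWV, ?_⟩
  exact Groth.Agent.H45.AffineVanishing.subsingleton_HU_of_isAffineOpen M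
    (IsAffineOpen.preimage hW f) q

end Groth.Agent.S0028
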