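import Groth.Statements.S11319
import Groth.Agent.H30.CompDer
import Groth.Agent.H30.ModCech3
import Groth.Agent.S0865
import Groth.Agent.H42.CohTopPush
import Groth.Agent.H45.ToSheafColim

set_option autoImplicit false
universe u
open CategoryTheory AlgebraicGeometry
open Coherent

namespace Groth.Agent.S11319

/-- Let f : X → Y be a morphism of schemes, M an O_X-module and n ≥ 0. Then the underlying abelian sheaf
of the n-th higher direct image R^n f_* M computed in the category of O-modules (the n-th right
derived functor of f_* : Mod(O_X) → Mod(O_Y), which needs the stated instance that Mod(O_X) has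
injective resolutions — it does) is isomorphic to the n-th higher direct image of the underlying
abelian sheaf of M (the right derived functor of f_* on abelian sheaves). (Stated for schemes; the
published statement is for ringed spaces. Existence of an isomorphism only.) -/
theorem result {X Y : Scheme.{u}} (f : X ⟶ Y)
    [HasInjectiveResolutions X.Modules] (M : X.Modules) (n : ℕ) :
    Nonempty (Coh.toAb ((Coh.Rpush f n).obj M) ≅ (Coh.RpushAb f n).obj (Coh.toAb M)) := by
  have h1 : Limits.PreservesFiniteLimits (Scheme.Modules.pushforward f) := by
    have : Limits.PreservesLimitsOfSize.{0, 0} (Scheme.Modules.pushforward f) :=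
      (Scheme.Modules.pullbackPushforwardAdjunction f).rightAdjoint_preservesLimits
    exact Limits.PreservesLimitsOfSize.preservesFiniteLimits _
  have h2 : Limits.PreservesFiniteLimits (Coh.pushAb f) := by
    have := Groth.Agent.H42.CohTopLib.preservesLimits_push f.base
    exact inferInstanceAs (Limits.PreservesFiniteLimits (CohTop.push f.base))
  let E : X.Modules ⥤ Sheaf (Opens.grothendieckTopology X) AddCommGrpCat.{u} :=
    SheafOfModules.toSheaf.{u} X.ringCatSheaf
  let E' : Y.Modules ⥤ Sheaf (Opens.grothendieckTopology Y) AddCommGrpCat.{u} :=
    SheafOfModules.toSheaf.{u} Y.ringCatSheaf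
  have a1 : E.Additive :=
    inferInstanceAs ((SheafOfModules.toSheaf.{u} X.ringCatSheaf).Additive)
  have a2 : E'.Additive :=
    inferInstanceAs ((SheafOfModules.toSheaf.{u} Y.ringCatSheaf).Additive)
  have l1 : Limits.PreservesFiniteLimits E :=
    inferInstanceAs (Limits.PreservesFiniteLimits (SheafOfModules.toSheaf.{u} X.ringCatSheaf))
  have l2 : Limits.PreservesFiniteLimits E' :=
    inferInstanceAs (Limits.PreservesFiniteLimits (SheafOfModules.toSheaf.{u} Y.ringCatSheaf))
  have h3 : Limits.PreservesFiniteColimits E :=
    Groth.Agent.H45.toSheaf_preservesFiniteColimits X.ringCatSheaf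
  have h4 : Limits.PreservesFiniteColimits E' :=
    Groth.Agent.H45.toSheaf_preservesFiniteColimits Y.ringCatSheaf
  let e : Scheme.Modules.pushforward f ⋙ E' ≅ E ⋙ Coh.pushAb f :=
    NatIso.ofComponents (fun M => Iso.refl _) (by
      intro M N g
      rfl)
  exact Groth.Agent.H30.CompDer.main (Scheme.Modules.pushforward f) (Coh.pushAb f) E E' e
    (fun I hI q => by
      exact Groth.Agent.S0865.result _ _ (TopologicalSpace.Opens.map f.base) _
        (@Groth.Agent.H30.ModCech.isTotallyAcyclic_of_injective _ _ _ X.ringCatSheaf I hI) q) n M

end Groth.Agent.S11319
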