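import Groth.Statements.S1046
import Mathlib
import Groth.Agent.H6.PlusDev
import Groth.Agent.S6030
import Groth.Agent.H28.K0CohSupp

set_option autoImplicit false
universe u
open CategoryTheory CategoryTheory.Limits AlgebraicGeometry
attribute [local instance] HasDerivedCategory.standard
open Perf

namespace Groth.Agent.S1046

open Groth.Agent.H6.PlusDev Groth.Agent.H45.RDP Groth.Agent.H5.GSS

section Lemmas

theorem weakSerre_qcoh {X : Scheme.{u}} :
    WeakSerre (fun M : X.Modules => M.IsQuasicoherent) where
  zero M hM := by
    let M₀ : X.Modules := SheafOfModules.free (R := X.ringCatSheaf) (ULift.{u} (Fin 1))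
    have : M₀.IsQuasicoherent := inferInstance
    exact Groth.Agent.H30.QcohFive.isQuasicoherent_of_isZero hM M₀
  iso e h := by
    have := h
    exact Groth.Agent.H22.QCohLimits.isQuasicoherent_of_iso e
  ker f h h' := by
    have := h
    have := h'
    exact Groth.Agent.H22.QCohLimits.isQuasicoherent_kernel f
  coker f h h' := by
    have := h
    have := h'
    exact Groth.Agent.H22.QCohAbelian.isQuasicoherent_cokernel f
  ext T hT h h' := by
    have := h
    have := h'
    exact Groth.Agent.H22.QCohAbelian.isQuasicoherent_X₂ T hT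

theorem weakSerre_supp {X : Scheme.{u}} (T : Set X) :
    WeakSerre (fun M : X.Modules => CohB1.support M ⊆ T) where
  zero M hM := by
    show CohB1.support M ⊆ T
    rw [Groth.Agent.H28.K0CS.support_of_isZero hM]
    exact Set.empty_subset _
  iso e h := by
    show CohB1.support _ ⊆ T
    rw [← Groth.Agent.H28.K0CS.support_of_iso e]
    exact h
  ker f h _ := (Groth.Agent.H28.K0CS.support_subset_of_mono (kernel.ι f)).trans h
  coker {M N} f _ h' := by
    let S : ShortComplex X.Modules :=
      ShortComplex.mk (kernel.ι (cokernel.π f)) (cokernel.π f) (kernel.condition _)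
    have hS : S.ShortExact :=
      { exact := ShortComplex.exact_of_f_is_kernel S (kernelIsKernel _)
        mono_f := inferInstanceAs (Mono (kernel.ι (cokernel.π f)))
        epi_g := inferInstanceAs (Epi (cokernel.π f)) }
    have h0 := Groth.Agent.S0796.support_eq_union S hS
    intro x hx
    apply h'
    show x ∈ CohB1.support S.X₂
    rw [h0]
    exact Or.inr hx
  ext T' hT h h' := by
    show CohB1.support T'.X₂ ⊆ T
    rw [Groth.Agent.S0796.support_eq_union T' hT]
    exact Set.union_subset h h'

variable {U X : Scheme.{u}} (j : U ⟶ X) [IsOpenImmersion j]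

theorem subsingleton_stalk_restrict_iff (M : X.Modules) (x : U) :
    Subsingleton ((M.restrict j).presheaf.stalk x) ↔ Subsingleton (M.presheaf.stalk (j x)) :=
  ((forget Ab).mapIso ((Scheme.Modules.restrictStalkNatIso j x).app M)).toEquiv.subsingleton_congr

theorem isZero_restrict_gammaZ (N : X.Modules) :
    IsZero ((Scheme.Modules.restrictFunctor j).obj ((DCoh.gammaZ j).obj N)) := by
  let E := Scheme.Modules.restrictFunctor j
  let adj := Scheme.Modules.restrictAdjunction j
  have hm : Mono (E.map (adj.unit.app N)) :=
    mono_of_mono_fac (adj.left_triangle_components N)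
  exact IsZero.of_iso (isZero_kernel_of_mono _) (PreservesKernel.iso E (adj.unit.app N))

theorem isZero_restrict_rightDerived [HasInjectiveResolutions X.Modules] (M : X.Modules) (n : ℕ) :
    IsZero ((Scheme.Modules.restrictFunctor j).obj (((DCoh.gammaZ j).rightDerived n).obj M)) := by
  let E := Scheme.Modules.restrictFunctor j
  let F := DCoh.gammaZ j
  let I := injectiveResolution M
  let K := (F.mapHomologicalComplex (ComplexShape.up ℕ)).obj I.cocomplex
  have e : (F.rightDerived n).obj M ≅ K.homology n := I.isoRightDerivedObj F n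
  have hz : IsZero (((K.sc n).map E).homology) := by
    apply ShortComplex.isZero_homology_of_isZero_X₂
    exact isZero_restrict_gammaZ j (I.cocomplex.X n)
  have e2 : ((K.sc n).map E).homology ≅ E.obj (K.sc n).homology := (K.sc n).mapHomologyIso E
  exact IsZero.of_iso hz (E.mapIso e ≪≫ e2.symm)

theorem support_rightDerived_subset {X : Scheme.{u}} (U : X.Opens)
    [HasInjectiveResolutions X.Modules] (M : X.Modules) (n : ℕ) :
    CohB1.support (((DCoh.gammaZ U.ι).rightDerived n).obj M) ⊆ (U : Set X)ᶜ := by
  intro x hx hxU
  have hr : x ∈ Set.range U.ι := by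
    rw [Scheme.Opens.range_ι]
    exact hxU
  obtain ⟨y, rfl⟩ := hr
  apply hx
  have hz := isZero_restrict_rightDerived U.ι M n
  exact (subsingleton_stalk_restrict_iff U.ι _ y).1
    (Groth.Agent.H28.K0CS.subsingleton_stalk_of_isZero hz y)

end Lemmas

/-- Let U ⊆ X be an open subscheme with quasi-compact inclusion and T = X ∖ U. Assuming O_X-modules have
enough injectives (true, not recorded), for every bounded below E ∈ D(O_X) with quasi-coherent
cohomology sheaves, the derived sections with support RΓ_T(E) (right derived functor of F ↦ ker(F →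
j_*(F|_U))) has quasi-coherent cohomology sheaves, all supported on T. -/
theorem result (X : Scheme.{u}) (U : X.Opens) [QuasiCompact U.ι] [EnoughInjectives X.Modules]
    (E : DerivedCategory.Plus X.Modules) (hE : DCoh.IsQCohD E.obj) :
    DCoh.IsQCohD ((DCoh.RgammaZPlus U.ι).obj E).obj ∧
    ∀ i : ℤ, CohB1.support (DCoh.HD ((DCoh.RgammaZPlus U.ι).obj E).obj i) ⊆ (U : Set X)ᶜ := by
  have key : ∀ n : ℤ, (fun M : X.Modules => M.IsQuasicoherent ∧ CohB1.support M ⊆ (U : Set X)ᶜ)
      ((DerivedCategory.Plus.homologyFunctor X.Modules n).obj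
        ((DCoh.gammaZ U.ι).rightDerivedFunctorPlus.obj E)) := by
    intro n
    refine Groth.Agent.H6.PlusDev.main' (DCoh.gammaZ U.ι)
      (weakSerre_qcoh.and (weakSerre_supp _))
      (fun M : X.Modules => M.IsQuasicoherent) (fun M hM => weakSerre_qcoh.zero M hM)
      (fun e h => weakSerre_qcoh.iso e h) ?_ E (fun q => hE q) n
    intro M hM p
    by_cases hp : p < 0
    · exact (weakSerre_qcoh.and (weakSerre_supp _)).zero _
        (isZero_RnF_obj_of_neg (DCoh.gammaZ U.ι) p hp M)
    · obtain ⟨p', rfl⟩ := Int.eq_ofNat_of_zero_le (not_lt.1 hp)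
      obtain ⟨e⟩ := nonempty_rnf_iso (DCoh.gammaZ U.ι) M p'
      refine (weakSerre_qcoh.and (weakSerre_supp _)).iso e.symm ⟨?_, ?_⟩
      · exact Groth.Agent.S6030.result U.ι M hM p'
      · exact support_rightDerived_subset U M p'
  exact ⟨fun i => (key i).1, fun i => (key i).2⟩

end Groth.Agent.S1046
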