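import Groth.Statements.S6295
import Mathlib.RingTheory.Ideal.MinimalPrime.Localization
import Mathlib.RingTheory.LocalProperties.Reduced

set_option autoImplicit false
universe u
open CAlg

namespace Groth.Agent.S6295

/-- Let R be a reduced ring. Then every localization R_p at a minimal prime p is a field and the map R →
∏_{p minimal} R_p is injective (so R is a subring of a product of fields); moreover the set of
zerodivisors of R is the union of the minimal primes. -/
theorem result (R : Type u) [CommRing R] [IsReduced R] : (∀ p : PrimeSpectrum R, p.asIdeal ∈ minimalPrimes R → IsField (Localization.AtPrime p.asIdeal)) ∧ Function.Injective (algebraMap R (∀ p : {p : PrimeSpectrum R // p.asIdeal ∈ minimalPrimes R}, Localization.AtPrime p.1.asIdeal)) ∧ (∀ x : R, x ∉ nonZeroDivisors R ↔ ∃ p ∈ minimalPrimes R, x ∈ p) := by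
  refine ⟨?_, ?_, ?_⟩
  · intro p hp
    have hp' : p.asIdeal ∈ (⊥ : Ideal R).minimalPrimes := hp
    have h1 := IsLocalization.AtPrime.radical_map_of_mem_minimalPrimes
      (A := Localization.AtPrime p.asIdeal) p.asIdeal ⊥ hp'
    rw [Ideal.map_bot, IsLocalization.AtPrime.map_eq_maximalIdeal p.asIdeal] at h1
    rw [IsLocalRing.isField_iff_maximalIdeal_eq, ← h1]
    exact nilradical_eq_zero _
  · rw [injective_iff_map_eq_zero]
    intro x hx
    have hx' : x ∈ nilradical R := by
      rw [nilradical, ← Ideal.sInf_minimalPrimes, Ideal.mem_sInf]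
      intro q hq
      have hqp : q.IsPrime := hq.1.1
      have := congr_fun hx ⟨⟨q, hqp⟩, hq⟩
      simp only [Pi.algebraMap_apply, Pi.zero_apply] at this
      rw [IsLocalization.map_eq_zero_iff q.primeCompl] at this
      obtain ⟨m, hm⟩ := this
      exact (hqp.mem_or_mem (hm ▸ q.zero_mem)).resolve_left m.2
    rw [nilradical_eq_zero] at hx'
    exact hx'
  · intro x
    have key := Ideal.iUnion_minimalPrimes (I := (⊥ : Ideal R))
    have hrad : (⊥ : Ideal R).radical = ⊥ := nilradical_eq_zero R
    rw [hrad] at key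
    have hx : x ∈ ⋃ p ∈ (⊥ : Ideal R).minimalPrimes, (p : Set R) ↔ ∃ p ∈ minimalPrimes R, x ∈ p := by
      simp [minimalPrimes]
    rw [← hx, key]
    simp only [Set.mem_ofPred_eq, Ideal.mem_bot]
    rw [mem_nonZeroDivisors_iff_right]
    push Not
    constructor
    · rintro ⟨y, hy, hy0⟩
      exact ⟨y, hy0, by rwa [mul_comm]⟩
    · rintro ⟨y, hy0, hy⟩
      exact ⟨y, by rwa [mul_comm], hy0⟩

end Groth.Agent.S6295
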