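import Mathlib
import Groth.Statements.S4380
import Groth.Agent.H22.AmpleLocal
-- import your own Groth.Agent.* helpers here

set_option autoImplicit false
universe u
open CategoryTheory CategoryTheory.Limits AlgebraicGeometry
open EGA2

namespace Groth.Agent.S4380

open TopologicalSpace Groth.Agent.H22.AmpleLocal

/-- Let f : X → Y be a quasi-compact morphism, L an O_X-module and (U_i) a cover of Y by open subsets.
Then L is ample relative to f if and only if, for every i, the restriction of L to f⁻¹(U_i) is ample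
relative to the restriction f⁻¹(U_i) → U_i of f. -/
theorem result {X Y : Scheme.{u}} (f : X ⟶ Y) [QuasiCompact f] (L : X.Modules)
    {ι : Type u} (U : ι → Y.Opens) (hU : ⨆ i, U i = ⊤) :
    RelAmple.IsRelAmple f L ↔ ∀ i, RelAmple.IsRelAmple (f ∣_ (U i)) (L.restrict (f ⁻¹ᵁ (U i)).ι) := by
  constructor
  · rintro ⟨-, h⟩ i
    refine ⟨inferInstance, fun V' => ?_⟩
    have hVaff : IsAffineOpen ((U i).ι ''ᵁ V'.1) := V'.2.image_of_isOpenImmersion (U i).ι
    have h1 := h ⟨(U i).ι ''ᵁ V'.1, hVaff⟩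
    rw [isAmple_restrict_restrict_iff]
    refine isAmple_of_opensRange_eq (f ⁻¹ᵁ ((U i).ι ''ᵁ V'.1)).ι _ ?_ h1
    rw [Scheme.Hom.opensRange_comp, Scheme.Opens.opensRange_ι, Scheme.Opens.opensRange_ι,
      image_morphismRestrict_preimage]
  · intro h
    -- Step A: ampleness over affine opens inside some `U i`
    have hA : ∀ (W : Y.Opens), IsAffineOpen W → (∃ i, W ≤ U i) →
        CohB1.IsAmple (L.restrict (f ⁻¹ᵁ W).ι) := by
      rintro W hW ⟨i, hWi⟩
      have himg : (U i).ι ''ᵁ ((U i).ι ⁻¹ᵁ W) = W := by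
        rw [Scheme.Hom.image_preimage_eq_opensRange_inf, Scheme.Opens.opensRange_ι]
        exact inf_eq_right.mpr hWi
      have hW' : IsAffineOpen ((U i).ι ⁻¹ᵁ W) := by
        rw [← Scheme.Hom.isAffineOpen_iff_of_isOpenImmersion (U i).ι, himg]
        exact hW
      have h1 := (h i).2 ⟨(U i).ι ⁻¹ᵁ W, hW'⟩
      rw [isAmple_restrict_restrict_iff] at h1
      refine isAmple_of_opensRange_eq _ (f ⁻¹ᵁ W).ι ?_ h1
      rw [Scheme.Hom.opensRange_comp, Scheme.Opens.opensRange_ι, Scheme.Opens.opensRange_ι,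
        image_morphismRestrict_preimage, himg]
    -- quasi-separatedness
    have hqs : QuasiSeparated f := by
      have hsep : IsSeparated f :=
        (IsZariskiLocalAtTarget.iff_of_iSup_eq_top (P := @IsSeparated) U hU).mpr
          fun i => isSeparated_of_isRelAmple _ _ (h i)
      infer_instance
    refine ⟨inferInstance, fun V => ?_⟩
    have : CompactSpace ((f ⁻¹ᵁ V.1 : X.Opens) : Scheme.{u}) :=
      isCompact_iff_compactSpace.mp
        (QuasiCompact.isCompact_preimage (f := f) _ V.1.2 V.2.isCompact)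
    have : QuasiSeparatedSpace ((f ⁻¹ᵁ V.1 : X.Opens) : Scheme.{u}) :=
      (isQuasiSeparated_iff_quasiSeparatedSpace _ (f ⁻¹ᵁ V.1).2).mp
        (f.isQuasiSeparated_preimage V.2.isQuasiSeparated)
    refine isAmple_of_basicOpen_cover _ _ (fun z => ?_)
    have hzV : f z.1 ∈ V.1 := z.2
    obtain ⟨i, hzi⟩ : ∃ i, f z.1 ∈ U i := by
      have : f z.1 ∈ ⨆ i, U i := hU ▸ trivial
      exact Opens.mem_iSup.mp this
    obtain ⟨g, hgle, hzg⟩ := V.2.exists_basicOpen_le (V := U i) ⟨f z.1, hzi⟩ hzV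
    have himg : (f ⁻¹ᵁ V.1).ι ''ᵁ ((f ⁻¹ᵁ V.1).toScheme.basicOpen
        ((f ⁻¹ᵁ V.1).topIso.inv (f.app V.1 g))) = f ⁻¹ᵁ (Y.basicOpen g) := by
      rw [Scheme.Opens.ι_image_basicOpen_topIso_inv, Scheme.preimage_basicOpen]
    refine ⟨(f ⁻¹ᵁ V.1).topIso.inv (f.app V.1 g), ?_, ?_⟩
    · have h1 : z.1 ∈ (f ⁻¹ᵁ V.1).ι ''ᵁ ((f ⁻¹ᵁ V.1).toScheme.basicOpen
          ((f ⁻¹ᵁ V.1).topIso.inv (f.app V.1 g))) := by
        rw [himg]
        exact hzg
      obtain ⟨z', hz', hzz'⟩ := h1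
      have : z' = z := (f ⁻¹ᵁ V.1).ι.isOpenEmbedding.injective hzz'
      exact this ▸ hz'
    · rw [isAmple_restrict_restrict_iff]
      refine isAmple_of_opensRange_eq (f ⁻¹ᵁ (Y.basicOpen g)).ι _ ?_
        (hA (Y.basicOpen g) (V.2.basicOpen g) ⟨i, hgle⟩)
      rw [Scheme.Hom.opensRange_comp, Scheme.Opens.opensRange_ι, Scheme.Opens.opensRange_ι, himg]

end Groth.Agent.S4380
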