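import Mathlib
import Groth.Statements.S2359
import Groth.Agent.H22.PullAmple
-- import your own Groth.Agent.* helpers here

set_option autoImplicit false
universe u
open CategoryTheory CategoryTheory.Limits AlgebraicGeometry
open EGA2

namespace Groth.Agent.S2359

/-- Let f : X → Y be quasi-compact, j : X' → X a quasi-compact morphism whose underlying map is a
homeomorphism onto a subspace of X, and L an O_X-module ample relative to f. Then j^* L is ample
relative to j ≫ f. -/
theorem result {X X' Y : Scheme.{u}} (f : X ⟶ Y) [QuasiCompact f] (j : X' ⟶ X) [QuasiCompact j]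
    (hj : Topology.IsEmbedding j.base) (L : X.Modules) (hL : RelAmple.IsRelAmple f L) :
    RelAmple.IsRelAmple (j ≫ f) ((Scheme.Modules.pullback j).obj L) := by
  haveI : QuasiCompact (j ≫ f) := inferInstance
  refine ⟨inferInstance, fun V => ?_⟩
  show CohB1.IsAmple (((Scheme.Modules.pullback j).obj L).restrict (j ⁻¹ᵁ (f ⁻¹ᵁ V.1)).ι)
  haveI : CompactSpace ((j ⁻¹ᵁ (f ⁻¹ᵁ V.1) : X'.Opens) : Scheme.{u}) :=
    isCompact_iff_compactSpace.mp
      (QuasiCompact.isCompact_preimage (f := j ≫ f) _ V.1.2 V.2.isCompact)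
  have hemb : Topology.IsEmbedding (j ∣_ (f ⁻¹ᵁ V.1)) := by
    have h1 := morphismRestrict_base j (f ⁻¹ᵁ V.1)
    have h2 : Topology.IsEmbedding ((f ⁻¹ᵁ V.1).1.restrictPreimage j.base) :=
      hj.restrictPreimage _
    rw [← h1] at h2
    exact h2
  exact Groth.Agent.H18.AmpleIso.isAmple_of_iso
    ((Groth.Agent.H22.PullGen.bcIso j (f ⁻¹ᵁ V.1)).app L).symm
    (Groth.Agent.H22.PullAmple.isAmple_pullback_of_isEmbedding _ hemb (hL.2 V))

end Groth.Agent.S2359
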