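import Groth.Statements.S3584
import Groth.Agent.H18.TwistAmple

set_option autoImplicit false
universe u
open CategoryTheory CategoryTheory.Limits AlgebraicGeometry
open EGA2

namespace Groth.Agent.S3584

/-- Let S be a graded ring whose irrelevant ideal S_+ is generated by finitely many elements of degree
one. Then the twisting sheaf O_X(1) on X = Proj S is ample (X is quasi-compact and covered by the
affine non-vanishing loci of sections of the positive powers of O_X(1)). -/
theorem result {R A : Type u} [CommRing R] [CommRing A] [Algebra R A] (𝒜 : ℕ → Submodule R A) [GradedAlgebra 𝒜]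
    (s : Finset A) (hs1 : ∀ f ∈ s, f ∈ 𝒜 1)
    (hs : (HomogeneousIdeal.irrelevant 𝒜).toIdeal = Ideal.span (s : Set A)) :
    CohB1.IsAmple (Twist.twist 𝒜 1) := by
  have hcov : ∀ x : ProjectiveSpectrum 𝒜, ∃ g : s, g.1 ∉ x.asHomogeneousIdeal := by
    intro x
    by_contra hcon
    push Not at hcon
    refine x.not_irrelevant_le (fun a ha => ?_)
    have h1 : a ∈ (HomogeneousIdeal.irrelevant 𝒜).toIdeal := ha
    rw [hs] at h1
    exact (Ideal.span_le.mpr (fun f hf => hcon ⟨f, hf⟩)) h1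
  have hcov1 : ∀ y : ProjectiveSpectrum 𝒜, ∃ g ∈ 𝒜 1, g ∉ y.asHomogeneousIdeal := fun y => by
    obtain ⟨g, hg⟩ := hcov y
    exact ⟨g.1, hs1 g.1 g.2, hg⟩
  have hc : CompactSpace (Proj 𝒜) :=
    Groth.Agent.H18.TwistAmple.compactSpace_of_finite_cover 𝒜 (fun g : s => g.1) (fun _ => 1)
      (fun _ => Nat.one_pos) (fun g => hs1 g.1 g.2) hcov
  have hUF : Groth.Agent.H18.TwistTensor.HasUnitFrac 𝒜 ((1 : ℕ) : ℤ) := by
    have h := Groth.Agent.H18.TwistTensor.hasUnitFrac_of_cover 𝒜 1 1 hcov1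
    rwa [one_mul] at h
  have hinv : PicF.IsInvertible (Twist.twist 𝒜 ((1 : ℕ) : ℤ)) :=
    (Groth.Agent.H18.TwistTensor.twist_package 𝒜 hcov1).1 _
  have h := Groth.Agent.H18.TwistAmple.isAmple_twist 𝒜 Nat.one_pos hinv hc hUF hcov1
  rwa [Nat.cast_one] at h

end Groth.Agent.S3584
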