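import Groth.Statements.S4381
import Groth.Agent.H18.RestrictTensor

set_option autoImplicit false
universe u
open CategoryTheory CategoryTheory.Limits AlgebraicGeometry
open EGA2

namespace Groth.Agent.S4381

/-- Let Y be an affine scheme, f : X → Y a quasi-compact morphism and L an O_X-module. Then L is ample
relative to f if and only if L is an ample O_X-module. -/
theorem result {X Y : Scheme.{u}} [IsAffine Y] (f : X ⟶ Y) [QuasiCompact f] (L : X.Modules) :
    RelAmple.IsRelAmple f L ↔ CohB1.IsAmple L := by
  constructor
  · rintro ⟨-, h⟩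
    have h1 := h ⟨⊤, isAffineOpen_top Y⟩
    have key : ∀ U : X.Opens, U = ⊤ → CohB1.IsAmple (L.restrict U.ι) → CohB1.IsAmple L := by
      rintro U rfl hU
      have hiso : IsIso (⊤ : X.Opens).ι := (inferInstance : IsIso X.topIso.hom)
      exact Groth.Agent.H18.RestrictTensor.isAmple_of_restrict_isIso (⊤ : X.Opens).ι hU
    exact key _ rfl h1
  · intro hL
    refine ⟨inferInstance, fun V => ?_⟩
    have : CompactSpace ((f ⁻¹ᵁ V.1 : X.Opens) : Scheme.{u}) :=
      isCompact_iff_compactSpace.mp
        (QuasiCompact.isCompact_preimage (f := f) _ V.1.2 V.2.isCompact)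
    exact Groth.Agent.H18.RestrictTensor.isAmple_restrict _ hL

end Groth.Agent.S4381
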