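import Mathlib
import Groth.Statements.S4385
import Groth.Agent.H22.AmpleCoprod
-- import your own Groth.Agent.* helpers here

set_option autoImplicit false
universe u
open CategoryTheory CategoryTheory.Limits AlgebraicGeometry
open EGA2

namespace Groth.Agent.S4385

open TopologicalSpace AlgebraicGeometry.Scheme.Modules Groth.Agent.H22.AmpleLocal
  Groth.Agent.H22.AmpleCoprod

/-- Ampleness passes to the restriction to a quasi-compact open subscheme, in terms of ranges. -/
theorem isAmple_restrict_of_le {X : Scheme.{u}} {L : X.Modules} {Z Z' : Scheme.{u}} (j : Z ⟶ X)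
    (j' : Z' ⟶ X) [IsOpenImmersion j] [IsOpenImmersion j'] [CompactSpace Z']
    (hr : j'.opensRange ≤ j.opensRange)
    (h : CohB1.IsAmple (L.restrict j)) : CohB1.IsAmple (L.restrict j') := by
  have hr' : Set.range j' ⊆ Set.range j := hr
  obtain ⟨k, hk⟩ : ∃ k : Z' ⟶ Z, k ≫ j = j' :=
    ⟨IsOpenImmersion.lift j j' hr', IsOpenImmersion.lift_fac _ _ _⟩
  have : IsOpenImmersion (k ≫ j) := hk ▸ inferInstance
  have : IsOpenImmersion k := IsOpenImmersion.of_comp k j
  have h1 := Groth.Agent.H18.RestrictTensor.isAmple_restrict k h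
  have e : (L.restrict j).restrict k ≅ L.restrict j' :=
    ((restrictFunctorComp k j).app L).symm ≪≫ (restrictFunctorCongr hk).app L
  exact Groth.Agent.H18.AmpleIso.isAmple_of_iso e h1

theorem isAmple_restrict_congr {X : Scheme.{u}} {L₁ L₂ : X.Modules} (e : L₁ ≅ L₂)
    {Z : Scheme.{u}} (j : Z ⟶ X) [IsOpenImmersion j] :
    CohB1.IsAmple (L₁.restrict j) ↔ CohB1.IsAmple (L₂.restrict j) :=
  ⟨fun h => Groth.Agent.H18.AmpleIso.isAmple_of_iso ((restrictFunctor j).mapIso e) h,
    fun h => Groth.Agent.H18.AmpleIso.isAmple_of_iso ((restrictFunctor j).mapIso e.symm) h⟩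

/-- The comparison over one summand. -/
theorem key_iff {X₁ X'' Y : Scheme.{u}} (i : X₁ ⟶ X'') [IsOpenImmersion i] (f'' : X'' ⟶ Y)
    (f : X₁ ⟶ Y) (hf : i ≫ f'' = f) (V : Y.Opens) (L'' : X''.Modules) :
    CohB1.IsAmple ((L''.restrict (f'' ⁻¹ᵁ V).ι).restrict
        ((f'' ⁻¹ᵁ V).ι ⁻¹ᵁ i.opensRange).ι) ↔
      CohB1.IsAmple (((Scheme.Modules.pullback i).obj L'').restrict (f ⁻¹ᵁ V).ι) := by
  subst hf
  have hrange : (((f'' ⁻¹ᵁ V).ι ⁻¹ᵁ i.opensRange).ι ≫ (f'' ⁻¹ᵁ V).ι).opensRange =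
      (((i ≫ f'') ⁻¹ᵁ V).ι ≫ i).opensRange := by
    rw [Scheme.Hom.opensRange_comp, Scheme.Hom.opensRange_comp, Scheme.Opens.opensRange_ι,
      Scheme.Opens.opensRange_ι, Scheme.Hom.image_preimage_eq_opensRange_inf,
      Scheme.Opens.opensRange_ι, Scheme.Hom.comp_preimage,
      Scheme.Hom.image_preimage_eq_opensRange_inf, inf_comm]
  rw [isAmple_restrict_restrict_iff,
    ← isAmple_restrict_congr ((restrictFunctorIsoPullback i).app L''),
    isAmple_restrict_restrict_iff]
  exact ⟨isAmple_of_opensRange_eq _ _ hrange.symm, isAmple_of_opensRange_eq _ _ hrange⟩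

/-- Let f : X → Y and f' : X' → Y be quasi-compact morphisms, X'' = X ⨿ X' their disjoint union with f''
: X'' → Y the morphism restricting to f and f', and L'' an O_{X''}-module whose inverse images L on
X and L' on X' (along the two coprojections) are invertible. Then L'' is ample relative to f'' if
and only if L is ample relative to f and L' is ample relative to f'. -/
theorem result {X X' Y : Scheme.{u}} (f : X ⟶ Y) (f' : X' ⟶ Y) [QuasiCompact f] [QuasiCompact f']
    (L'' : (X ⨿ X').Modules)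
    (hL : PicF.IsInvertible ((Scheme.Modules.pullback (coprod.inl : X ⟶ X ⨿ X')).obj L''))
    (hL' : PicF.IsInvertible ((Scheme.Modules.pullback (coprod.inr : X' ⟶ X ⨿ X')).obj L'')) :
    RelAmple.IsRelAmple (coprod.desc f f') L'' ↔
      RelAmple.IsRelAmple f ((Scheme.Modules.pullback (coprod.inl : X ⟶ X ⨿ X')).obj L'') ∧
        RelAmple.IsRelAmple f' ((Scheme.Modules.pullback (coprod.inr : X' ⟶ X ⨿ X')).obj L'') := by
  have hcov : ∀ x : ↥(X ⨿ X'), x ∈ (coprod.inl : X ⟶ X ⨿ X').opensRange ∨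
      x ∈ (coprod.inr : X' ⟶ X ⨿ X').opensRange := fun x =>
    Opens.mem_sup.mp ((isCompl_opensRange_inl_inr X X').sup_eq_top ▸
      (trivial : x ∈ (⊤ : (X ⨿ X').Opens)))
  have hqc : QuasiCompact (coprod.desc f f') := by
    rw [quasiCompact_iff_forall_isAffineOpen]
    intro V hV
    have h1 : IsCompact ((coprod.inl : X ⟶ X ⨿ X') '' (f ⁻¹ᵁ V : Set X)) :=
      (QuasiCompact.isCompact_preimage (f := f) _ V.2 hV.isCompact).image
        (coprod.inl : X ⟶ X ⨿ X').continuous
    have h2 : IsCompact ((coprod.inr : X' ⟶ X ⨿ X') '' (f' ⁻¹ᵁ V : Set X')) :=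
      (QuasiCompact.isCompact_preimage (f := f') _ V.2 hV.isCompact).image
        (coprod.inr : X' ⟶ X ⨿ X').continuous
    have hset : ((coprod.desc f f') ⁻¹ᵁ V : Set ↥(X ⨿ X')) =
        (coprod.inl : X ⟶ X ⨿ X') '' (f ⁻¹ᵁ V : Set X) ∪
          (coprod.inr : X' ⟶ X ⨿ X') '' (f' ⁻¹ᵁ V : Set X') := by
      ext x
      constructor
      · intro hx
        rcases hcov x with ⟨y, rfl⟩ | ⟨y, rfl⟩
        · left
          refine ⟨y, ?_, rfl⟩
          have h3 : (coprod.inl ≫ coprod.desc f f') y ∈ V := hx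
          rwa [coprod.inl_desc] at h3
        · right
          refine ⟨y, ?_, rfl⟩
          have h3 : (coprod.inr ≫ coprod.desc f f') y ∈ V := hx
          rwa [coprod.inr_desc] at h3
      · rintro (⟨y, hy, rfl⟩ | ⟨y, hy, rfl⟩)
        · show (coprod.inl ≫ coprod.desc f f') y ∈ V
          rw [coprod.inl_desc]
          exact hy
        · show (coprod.inr ≫ coprod.desc f f') y ∈ V
          rw [coprod.inr_desc]
          exact hy
    rw [hset]
    exact h1.union h2
  constructor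
  · intro h
    refine ⟨⟨inferInstance, fun V => ?_⟩, ⟨inferInstance, fun V => ?_⟩⟩
    · have : CompactSpace ((f ⁻¹ᵁ V.1 : X.Opens) : Scheme.{u}) :=
        isCompact_iff_compactSpace.mp
          (QuasiCompact.isCompact_preimage (f := f) _ V.1.2 V.2.isCompact)
      rw [← isAmple_restrict_congr ((restrictFunctorIsoPullback coprod.inl).app L''),
        isAmple_restrict_restrict_iff]
      refine isAmple_restrict_of_le ((coprod.desc f f') ⁻¹ᵁ V.1).ι _ ?_ (h.2 V)
      rw [Scheme.Hom.opensRange_comp, Scheme.Opens.opensRange_ι, Scheme.Opens.opensRange_ι]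
      rintro _ ⟨y, hy, rfl⟩
      show (coprod.inl ≫ coprod.desc f f') y ∈ V.1
      rw [coprod.inl_desc]
      exact hy
    · have : CompactSpace ((f' ⁻¹ᵁ V.1 : X'.Opens) : Scheme.{u}) :=
        isCompact_iff_compactSpace.mp
          (QuasiCompact.isCompact_preimage (f := f') _ V.1.2 V.2.isCompact)
      rw [← isAmple_restrict_congr ((restrictFunctorIsoPullback coprod.inr).app L''),
        isAmple_restrict_restrict_iff]
      refine isAmple_restrict_of_le ((coprod.desc f f') ⁻¹ᵁ V.1).ι _ ?_ (h.2 V)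
      rw [Scheme.Hom.opensRange_comp, Scheme.Opens.opensRange_ι, Scheme.Opens.opensRange_ι]
      rintro _ ⟨y, hy, rfl⟩
      show (coprod.inr ≫ coprod.desc f f') y ∈ V.1
      rw [coprod.inr_desc]
      exact hy
  · rintro ⟨hL, hL'⟩
    refine ⟨hqc, fun V => ?_⟩
    have : CompactSpace (((coprod.desc f f') ⁻¹ᵁ V.1 : (X ⨿ X').Opens) : Scheme.{u}) :=
      isCompact_iff_compactSpace.mp
        (QuasiCompact.isCompact_preimage (f := coprod.desc f f') _ V.1.2 V.2.isCompact)
    refine isAmple_of_clopen_cover _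
      (((coprod.desc f f') ⁻¹ᵁ V.1).ι ⁻¹ᵁ (coprod.inl : X ⟶ X ⨿ X').opensRange)
      (((coprod.desc f f') ⁻¹ᵁ V.1).ι ⁻¹ᵁ (coprod.inr : X' ⟶ X ⨿ X').opensRange) ?_ ?_ ?_ ?_
    · refine eq_top_iff.mpr fun x _ => ?_
      exact Opens.mem_sup.mpr (hcov (((coprod.desc f f') ⁻¹ᵁ V.1).ι x))
    · refine eq_bot_iff.mpr fun x hx => ?_
      have h3 : ((coprod.desc f f') ⁻¹ᵁ V.1).ι x ∈
          (coprod.inl : X ⟶ X ⨿ X').opensRange ⊓ (coprod.inr : X' ⟶ X ⨿ X').opensRange := hx
      rw [(isCompl_opensRange_inl_inr X X').inf_eq_bot] at h3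
      exact h3
    · exact (key_iff coprod.inl (coprod.desc f f') f (coprod.inl_desc f f') V.1 L'').mpr (hL.2 V)
    · exact (key_iff coprod.inr (coprod.desc f f') f' (coprod.inr_desc f f') V.1 L'').mpr
        (hL'.2 V)

end Groth.Agent.S4385
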