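import Mathlib
import Groth.Statements.S4417
import Groth.Agent.H22.CoprodMod
import Groth.Agent.S4385
import Groth.Agent.H8.UnitIso
-- import your own Groth.Agent.* helpers here

set_option autoImplicit false
universe u
open CategoryTheory CategoryTheory.Limits AlgebraicGeometry
open EGA2

namespace Groth.Agent.S4417

open TopologicalSpace AlgebraicGeometry.Scheme.Modules Groth.Agent.H22.AmpleLocal
  Groth.Agent.H22.AmpleCoprod Groth.Agent.H22.CoprodMod Groth.Agent.H18.TensorGen
  Groth.Agent.H18.RestrictTensor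

theorem isInvertible_of_isRelAmple {X Y : Scheme.{u}} (f : X ⟶ Y) (L : X.Modules)
    (h : RelAmple.IsRelAmple f L) : PicF.IsInvertible L := by
  refine isInvertible_of_isGen L (fun x => ?_)
  obtain ⟨V, hV, hxV, -⟩ := Opens.isBasis_iff_nbhd.mp Y.isBasis_affineOpens
    (show f x ∈ (⊤ : Y.Opens) from trivial)
  have hA := h.2 ⟨V, hV⟩
  obtain ⟨V', τ, hzV', hτ⟩ := exists_isGen hA.1 (⟨x, hxV⟩ : (f ⁻¹ᵁ V).toScheme)
  exact ⟨(f ⁻¹ᵁ V).ι ''ᵁ V', ofRes _ L τ, ⟨⟨x, hxV⟩, hzV', rfl⟩, isGen_of_restrict _ L hτ⟩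

theorem isRelAmple_congr {X Y : Scheme.{u}} (f : X ⟶ Y) {L₁ L₂ : X.Modules} (e : L₁ ≅ L₂)
    (h : RelAmple.IsRelAmple f L₁) : RelAmple.IsRelAmple f L₂ :=
  ⟨h.1, fun V => Groth.Agent.H18.AmpleIso.isAmple_of_iso
    ((restrictFunctor (f ⁻¹ᵁ V.1).ι).mapIso e) (h.2 V)⟩

/-- Let f : X → Y and f' : X' → Y be quasi-projective morphisms (of finite type, each admitting a
relatively ample module). Then the morphism X ⨿ X' → Y restricting to f and f' on the two summands
is quasi-projective. -/
theorem result {X X' Y : Scheme.{u}} (f : X ⟶ Y) (f' : X' ⟶ Y)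
    (hf : RelProj.IsQuasiProjective f) (hf' : RelProj.IsQuasiProjective f') :
    RelProj.IsQuasiProjective (coprod.desc f f') := by
  obtain ⟨hft, hqc, L, hL⟩ := hf
  obtain ⟨hft', hqc', L', hL'⟩ := hf'
  have hinv : PicF.IsInvertible L := isInvertible_of_isRelAmple f L hL
  have hinv' : PicF.IsInvertible L' := isInvertible_of_isRelAmple f' L' hL'
  have h1 : RelAmple.IsRelAmple (coprod.desc f f') (glue L L') :=
    (Groth.Agent.S4385.result f f' (glue L L')
      (Groth.Agent.H8.isInvertible_of_iso (pullbackGlueInl L L').symm hinv)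
      (Groth.Agent.H8.isInvertible_of_iso (pullbackGlueInr L L').symm hinv')).mpr
      ⟨isRelAmple_congr f (pullbackGlueInl L L').symm hL,
        isRelAmple_congr f' (pullbackGlueInr L L').symm hL'⟩
  refine ⟨?_, h1.1, glue L L', h1⟩
  rw [IsZariskiLocalAtSource.iff_of_openCover (P := @LocallyOfFiniteType)
    (coprodOpenCover.{u, 0} X X')]
  rintro (_ | _)
  · change LocallyOfFiniteType (coprod.inl ≫ coprod.desc f f')
    rw [coprod.inl_desc]
    exact hft
  · change LocallyOfFiniteType (coprod.inr ≫ coprod.desc f f')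
    rw [coprod.inr_desc]
    exact hft'

end Groth.Agent.S4417
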