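import Groth.Statements.S3287
-- import your own Groth.Agent.* helpers here

set_option autoImplicit false
universe u
open Finset
open LambdaRing

namespace Groth.Agent.S3287

/-- For a line element u (positive of augmentation one) of a λ-ring with positive structure, ψ^j(u) =
u^j for every j. -/
theorem result (K : Type u) [CommRing K] [LambdaRing.LambdaOps K] (P : LambdaRing.PosStructure K) (u : K) (hu : P.IsLine u) (j : ℕ) :
    LambdaRing.adams P j u = u ^ j := by
  obtain ⟨hpos, haug⟩ := hu
  have hlam : ∀ i : ℕ, 2 ≤ i → LambdaOps.lam i u = 0 := by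
    intro i hi
    apply P.lam_eq_zero u hpos i
    rw [haug]
    exact_mod_cast hi
  set φ : PowerSeries K := PowerSeries.rescale (-1 : K) (lamSeries u) with hφdef
  have hφ : φ = 1 - PowerSeries.C u * PowerSeries.X := by
    ext n
    rw [hφdef, PowerSeries.coeff_rescale, lamSeries, PowerSeries.coeff_mk]
    rcases n with _ | _ | n
    · simp [LambdaOps.lam_zero]
    · simp [LambdaOps.lam_one, PowerSeries.coeff_one, PowerSeries.coeff_X]
    · rw [hlam (n + 2) (by omega)]
      simp [PowerSeries.coeff_one, PowerSeries.coeff_X, PowerSeries.coeff_C_mul]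
  set G : PowerSeries K := PowerSeries.mk fun n => u ^ n with hGdef
  have hG : φ * G = 1 := by
    rw [hφ]
    ext n
    rw [sub_mul, one_mul, map_sub, mul_assoc, PowerSeries.coeff_C_mul]
    rcases n with _ | n
    · simp [hGdef]
    · rw [PowerSeries.coeff_succ_X_mul]
      simp [hGdef, PowerSeries.coeff_one, pow_succ']
  have hc : PowerSeries.constantCoeff φ = ((1 : Kˣ) : K) := by
    rw [hφ]; simp
  have hinv : φ.invOfUnit 1 = G := by
    have h1 := PowerSeries.mul_invOfUnit φ 1 hc
    calc φ.invOfUnit 1 = (G * φ) * φ.invOfUnit 1 := by rw [mul_comm G φ, hG, one_mul]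
      _ = G * (φ * φ.invOfUnit 1) := by ring
      _ = G := by rw [h1, mul_one]
  have hder : PowerSeries.derivative K φ = - PowerSeries.C u := by
    rw [hφ]
    simp
  unfold adams adamsSeries
  rw [← hφdef, hinv, hder, haug]
  rcases j with _ | n
  · simp
  · have : PowerSeries.X * -PowerSeries.C u * G = - (PowerSeries.X * (PowerSeries.C u * G)) := by ring
    rw [this, sub_neg_eq_add, map_add, PowerSeries.coeff_succ_X_mul, PowerSeries.coeff_C_mul]
    simp [hGdef, PowerSeries.coeff_C, pow_succ']

end Groth.Agent.S3287
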