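import Groth.Statements.S3289
import Groth.Agent.H43.LambdaBasic
import Mathlib.RingTheory.PowerSeries.Substitution
import Mathlib.RingTheory.PowerSeries.WellKnown

set_option autoImplicit false
universe u
open Finset
open LambdaRing

namespace Groth.Agent.S3289


open PowerSeries

variable {K : Type u} [CommRing K] [LambdaRing.LambdaOps K]

/-- `X / (1 - X)` -/
noncomputable def aser (K : Type u) [CommRing K] : K⟦X⟧ := X * mk 1

theorem hasSubst_aser : HasSubst (aser K) :=
  HasSubst.of_constantCoeff_zero' (by simp [aser])

theorem coeff_aser_pow (k d : ℕ) : coeff k ((aser K) ^ d) =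
    if d = 0 then (if k = 0 then 1 else 0)
    else if d ≤ k then (Nat.choose (k - 1) (d - 1) : K) else 0 := by
  cases d with
  | zero => simp [coeff_one]
  | succ d =>
    rw [aser, mul_pow, mk_one_pow_eq_mk_choose_add, coeff_X_pow_mul']
    simp only [Nat.succ_ne_zero, if_false, coeff_mk]
    split_ifs with h
    · congr 2
      omega
    · rfl

theorem coeff_subst_lam (k : ℕ) (x : K) :
    coeff k ((lamSeries x).subst (aser K)) = LambdaRing.gamma k x := by
  rw [coeff_subst' hasSubst_aser, finsum_eq_sum_of_support_subset (s := range (k + 1))]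
  · simp only [Groth.Agent.H43.coeff_lamSeries, smul_eq_mul, coeff_aser_pow]
    unfold LambdaRing.gamma
    split_ifs with hk
    · subst hk; simp [LambdaRing.LambdaOps.lam_zero]
    · apply Finset.sum_congr rfl
      intro j hj
      have := Finset.mem_range.mp hj
      by_cases hj0 : j = 0
      · simp [hj0, hk]
      · simp [hj0, show j ≤ k by omega, mul_comm]
  · intro d hd
    simp only [Function.mem_support, ne_eq] at hd
    simp only [coe_range, Set.mem_Iio]
    by_contra hlt
    apply hd
    rw [coeff_aser_pow, if_neg (by omega), if_neg (by omega), smul_zero]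

/-- The γ-operations of a λ-ring, γ^0 = 1 and γ^k(x) = Σ_{j=1}^{k} C(k−1, j−1) λ^j(x) for k ≥ 1 (the
coefficients of λ_(t/(1−t))(x)), satisfy γ^k(x + y) = Σ_{i=0}^{k} γ^i(x) γ^(k−i)(y). -/
theorem result (K : Type u) [CommRing K] [LambdaRing.LambdaOps K] (k : ℕ) (x y : K) :
    LambdaRing.gamma k (x + y) = ∑ i ∈ range (k + 1), LambdaRing.gamma i x * LambdaRing.gamma (k - i) y := by
  have h := congrArg (coeff k) (show (lamSeries (x + y)).subst (aser K) =
      (lamSeries x).subst (aser K) * (lamSeries y).subst (aser K) by
    rw [Groth.Agent.H43.lamSeries_add, subst_mul hasSubst_aser])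
  rw [coeff_subst_lam, coeff_mul, Finset.Nat.sum_antidiagonal_eq_sum_range_succ_mk] at h
  simp only [coeff_subst_lam] at h
  exact h

end Groth.Agent.S3289
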