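import Groth.Statements.S3291
-- import your own Groth.Agent.* helpers here

set_option autoImplicit false
universe u
open Finset
open LambdaRing

namespace Groth.Agent.S3291


variable {K : Type u} [CommRing K] [LambdaRing.LambdaOps K]

theorem gamma_one (x : K) : LambdaRing.gamma 1 x = x := by
  simp [LambdaRing.gamma, Finset.sum_range_succ, LambdaRing.LambdaOps.lam_one]

/-- the generating set of `F^n` -/
def gens (P : LambdaRing.PosStructure K) (n : ℕ) : Set K :=
  {y | ∃ (l : List (ℕ × K)), (∀ p ∈ l, P.aug p.2 = 0) ∧ n ≤ (l.map Prod.fst).sum ∧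
        y = (l.map fun p => LambdaRing.gamma p.1 p.2).prod}

theorem gf_pos (P : LambdaRing.PosStructure K) {n : ℕ} (hn : n ≠ 0) :
    LambdaRing.gammaFiltration P n = AddSubgroup.closure (gens P n) := if_neg hn

theorem gf_zero (P : LambdaRing.PosStructure K) : LambdaRing.gammaFiltration P 0 = ⊤ := if_pos rfl

theorem mul_gen (P : LambdaRing.PosStructure K) {n : ℕ} (a : K) {y : K} (hy : y ∈ gens P n) :
    a * y ∈ AddSubgroup.closure (gens P n) := by
  obtain ⟨l, hl, hsum, rfl⟩ := hy
  have h1 : a = (a - ((P.aug a : ℤ) : K)) + ((P.aug a : ℤ) : K) := by ring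
  rw [h1, add_mul]
  refine add_mem (AddSubgroup.subset_closure ?_) ?_
  · refine ⟨(1, a - ((P.aug a : ℤ) : K)) :: l, ?_, ?_, ?_⟩
    · intro p hp
      rcases List.mem_cons.mp hp with rfl | hp
      · simp
      · exact hl p hp
    · simp only [List.map_cons, List.sum_cons]
      omega
    · simp only [List.map_cons, List.prod_cons, gamma_one]
  · rw [← zsmul_eq_mul]
    have hmem : (l.map fun p => LambdaRing.gamma p.1 p.2).prod ∈ gens P n := ⟨l, hl, hsum, rfl⟩
    exact AddSubgroup.zsmul_mem _ (AddSubgroup.subset_closure hmem) _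

theorem mul_mem_gf (P : LambdaRing.PosStructure K) (n : ℕ) (a x : K)
    (hx : x ∈ LambdaRing.gammaFiltration P n) : a * x ∈ LambdaRing.gammaFiltration P n := by
  rcases Nat.eq_zero_or_pos n with rfl | hn
  · rw [gf_zero]; trivial
  · rw [gf_pos P hn.ne'] at hx ⊢
    induction hx using AddSubgroup.closure_induction with
    | mem y hy => exact mul_gen P a hy
    | zero => rw [mul_zero]; exact zero_mem _
    | add y z _ _ hy hz => rw [mul_add]; exact add_mem hy hz
    | neg y _ hy => rw [mul_neg]; exact neg_mem hy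

/-- The γ-filtration F^n K of a λ-ring with positive structure (F^0 = K, F^n for n ≥ 1 generated
additively by products γ^(r₁)(x₁)⋯γ^(r_k)(x_k) with ε(x_i) = 0 and Σ r_i ≥ n) consists of ideals,
and F^m · F^n ⊆ F^(m+n). -/
theorem result (K : Type u) [CommRing K] [LambdaRing.LambdaOps K] (P : LambdaRing.PosStructure K) :
    (∀ (n : ℕ) (a x : K), x ∈ LambdaRing.gammaFiltration P n → a * x ∈ LambdaRing.gammaFiltration P n) ∧
    ∀ (m n : ℕ) (x y : K), x ∈ LambdaRing.gammaFiltration P m → y ∈ LambdaRing.gammaFiltration P n →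
      x * y ∈ LambdaRing.gammaFiltration P (m + n) := by
  refine ⟨mul_mem_gf P, ?_⟩
  intro m n x y hx hy
  rcases Nat.eq_zero_or_pos m with rfl | hm
  · rw [zero_add]; exact mul_mem_gf P n x y hy
  rcases Nat.eq_zero_or_pos n with rfl | hn
  · rw [add_zero, mul_comm]; exact mul_mem_gf P m y x hx
  have hmn : m + n ≠ 0 := by omega
  rw [gf_pos P hm.ne'] at hx
  rw [gf_pos P hn.ne'] at hy
  rw [gf_pos P hmn]
  induction hx using AddSubgroup.closure_induction with
  | mem x hx =>
    induction hy using AddSubgroup.closure_induction with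
    | mem y hy =>
      obtain ⟨l₁, hl₁, hs₁, rfl⟩ := hx
      obtain ⟨l₂, hl₂, hs₂, rfl⟩ := hy
      refine AddSubgroup.subset_closure ⟨l₁ ++ l₂, ?_, ?_, ?_⟩
      · intro p hp
        rcases List.mem_append.mp hp with hp | hp
        · exact hl₁ p hp
        · exact hl₂ p hp
      · rw [List.map_append, List.sum_append]; omega
      · rw [List.map_append, List.prod_append]
    | zero => rw [mul_zero]; exact zero_mem _
    | add y z _ _ hy hz => rw [mul_add]; exact add_mem hy hz
    | neg y _ hy => rw [mul_neg]; exact neg_mem hy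
  | zero => rw [zero_mul]; exact zero_mem _
  | add x z _ _ hx hz => rw [add_mul]; exact add_mem hx hz
  | neg x _ hx => rw [neg_mul]; exact neg_mem hx

end Groth.Agent.S3291
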