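import Groth.Statements.S8651
import Groth.Agent.H43.LambdaBasic

set_option autoImplicit false
universe u
open Finset
open LambdaRing

namespace Groth.Agent.S8651

open Groth.Agent.H43 PowerSeries

variable {A : Type u} [CommRing A] [LambdaRing.LambdaOps A]

theorem lam_add_line (y : A) (hy : ∀ j : ℕ, 2 ≤ j → LambdaOps.lam j y = 0) (k : ℕ) (z : A) :
    LambdaOps.lam (k + 1) (z + y) = LambdaOps.lam (k + 1) z + LambdaOps.lam k z * y := by
  rw [LambdaOps.lam_add, Finset.sum_range_succ, Finset.sum_range_succ]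
  have h0 : ∑ i ∈ range k, LambdaOps.lam i z * LambdaOps.lam (k + 1 - i) y = 0 := by
    apply Finset.sum_eq_zero
    intro i hi
    have := Finset.mem_range.mp hi
    rw [hy _ (by omega), mul_zero]
  rw [h0, zero_add, Nat.sub_self, LambdaOps.lam_zero, show k + 1 - k = 1 by omega, LambdaOps.lam_one]
  ring

theorem rel (h1 : ∀ k : ℕ, 2 ≤ k → LambdaOps.lam k (1 : A) = 0) (y : A)
    (hy : ∀ j : ℕ, 2 ≤ j → LambdaOps.lam j y = 0) (x : A) (j : ℕ) :
    LambdaOps.lam (j + 1) (x + y - 1) + LambdaOps.lam j (x + y - 1) =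
      LambdaOps.lam (j + 1) x + LambdaOps.lam j x * y := by
  rw [← lam_add_one h1 j (x + y - 1), sub_add_cancel, lam_add_line y hy]

theorem gamma_succ (k : ℕ) (x : A) :
    gamma (k + 1) x = ∑ j ∈ range (k + 1), (Nat.choose k j : A) * LambdaOps.lam (j + 1) x := by
  unfold gamma
  rw [if_neg (Nat.succ_ne_zero k), Finset.sum_range_succ']
  simp

omit [LambdaRing.LambdaOps A] in
theorem pascal_sum (a : ℕ → A) (k : ℕ) :
    ∑ j ∈ range (k + 2), (Nat.choose (k + 1) j : A) * a (j + 1) =
      ∑ j ∈ range (k + 1), (Nat.choose k j : A) * (a (j + 1) + a (j + 2)) := by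
  rw [Finset.sum_range_succ']
  simp only [Nat.choose_succ_succ, Nat.cast_add, add_mul, Finset.sum_add_distrib, mul_add]
  have e : ∑ j ∈ range (k + 1), (Nat.choose k (j + 1) : A) * a (j + 1 + 1) + ((Nat.choose (k + 1) 0 : ℕ) : A) * a (0 + 1) =
      ∑ j ∈ range (k + 1), (Nat.choose k j : A) * a (j + 1) := by
    rw [Finset.sum_range_succ' (fun j => (Nat.choose k j : A) * a (j + 1)),
      Finset.sum_range_succ (fun j => (Nat.choose k (j + 1) : A) * a (j + 1 + 1))]
    simp
  rw [← e]
  ring

theorem gamma_add_line (h1 : ∀ k : ℕ, 2 ≤ k → LambdaOps.lam k (1 : A) = 0) (y : A)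
    (hy : ∀ j : ℕ, 2 ≤ j → LambdaOps.lam j y = 0) (x : A) (k : ℕ) :
    gamma (k + 1) (x + y - 1) = gamma (k + 1) x + (y - 1) * gamma k x := by
  cases k with
  | zero =>
    rw [gamma_succ, gamma_succ]
    simp [gamma, LambdaOps.lam_one]
    ring
  | succ k =>
    have p1 := pascal_sum (fun j => LambdaOps.lam j (x + y - 1)) k
    have p2 := pascal_sum (fun j => LambdaOps.lam j x) k
    rw [gamma_succ (k + 1), gamma_succ (k + 1), gamma_succ k, p1, p2, Finset.mul_sum,
      ← Finset.sum_add_distrib]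
    apply Finset.sum_congr rfl
    intro j _
    have := rel h1 y hy x (j + 1)
    rw [add_comm (LambdaOps.lam (j + 1) (x + y - 1)), this]
    ring

/-- the gamma series -/
noncomputable def gammaSeries (x : A) : PowerSeries A := PowerSeries.mk fun k => gamma k x

theorem gammaSeries_add_line (h1 : ∀ k : ℕ, 2 ≤ k → LambdaOps.lam k (1 : A) = 0) (y : A)
    (hy : ∀ j : ℕ, 2 ≤ j → LambdaOps.lam j y = 0) (x : A) :
    gammaSeries (x + y - 1) = gammaSeries x * (1 + PowerSeries.C (y - 1) * PowerSeries.X) := by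
  ext k
  cases k with
  | zero => simp [gammaSeries, gamma]
  | succ k =>
    rw [mul_add, mul_one, map_add, ← mul_assoc, PowerSeries.coeff_succ_mul_X, mul_comm (gammaSeries x),
      PowerSeries.coeff_C_mul]
    simp only [gammaSeries, PowerSeries.coeff_mk]
    exact gamma_add_line h1 y hy x k

theorem gammaSeries_zero : gammaSeries (0 : A) = 1 := by
  ext k
  cases k with
  | zero => simp [gammaSeries, gamma]
  | succ k =>
    simp only [gammaSeries, PowerSeries.coeff_mk, gamma_succ, PowerSeries.coeff_one]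
    rw [if_neg (Nat.succ_ne_zero k)]
    apply Finset.sum_eq_zero
    intro j _
    rw [lam_zero_arg, if_neg (Nat.succ_ne_zero j), mul_zero]

theorem gammaSeries_sum {ι : Type} [DecidableEq ι]
    (h1 : ∀ k : ℕ, 2 ≤ k → LambdaOps.lam k (1 : A) = 0) (y : ι → A)
    (hy : ∀ (i : ι) (j : ℕ), 2 ≤ j → LambdaOps.lam j (y i) = 0) (s : Finset ι) :
    gammaSeries (∑ i ∈ s, y i - (s.card : A)) =
      ∏ i ∈ s, (PowerSeries.C (y i - 1) * PowerSeries.X + 1) := by
  induction s using Finset.induction_on with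
  | empty => simp [gammaSeries_zero]
  | insert a s ha ih =>
    rw [Finset.sum_insert ha, Finset.card_insert_of_notMem ha, Finset.prod_insert ha]
    have e : y a + ∑ i ∈ s, y i - ((s.card + 1 : ℕ) : A) = (∑ i ∈ s, y i - (s.card : A)) + y a - 1 := by
      push_cast; ring
    rw [e, gammaSeries_add_line h1 (y a) (hy a), ih]
    ring

omit [LambdaRing.LambdaOps A] in
theorem coeff_prod {ι : Type} [DecidableEq ι] (z : ι → A) (s : Finset ι) (k : ℕ) :
    PowerSeries.coeff k (∏ i ∈ s, (PowerSeries.C (z i) * PowerSeries.X + 1)) =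
      ∑ t ∈ s.powersetCard k, ∏ i ∈ t, z i := by
  rw [Finset.prod_add, map_sum]
  simp only [Finset.prod_const_one, mul_one, Finset.prod_mul_distrib, Finset.prod_const]
  rw [Finset.powersetCard_eq_filter, Finset.sum_filter]
  apply Finset.sum_congr rfl
  intro t _
  rw [← map_prod, PowerSeries.coeff_C_mul, PowerSeries.coeff_X_pow]
  split_ifs with h1 h2 h2
  · simp
  · exact absurd h1.symm h2
  · exact absurd h2.symm h1
  · simp

/-- Let A be a pre-λ-ring (λ^0 = 1, λ^1 = id, additive formula) in which λ^k(1) = 0 for all k ≥ 2, and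
let y_1, …, y_n ∈ A satisfy λ^j(y_i) = 0 for every j ≥ 2; put x = Σ_i y_i. Then for every k the
element γ^k(x − n) (γ-operations: the coefficients of λ_{t/(1−t)}) equals the k-th elementary
symmetric function of y_1 − 1, …, y_n − 1, namely the sum over the k-element subsets s of the index
set of Π_{i ∈ s} (y_i − 1); in particular γ^k(x − n) = 0 for k > n. (The published statement is for
a λ-ring; its proof uses only additivity and λ_t(1) = 1 + t, the hypotheses taken here.) -/
theorem result (A : Type u) [CommRing A] [LambdaRing.LambdaOps A]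
    (h1 : ∀ k : ℕ, 2 ≤ k → LambdaRing.LambdaOps.lam k (1 : A) = 0) (n : ℕ) (y : Fin n → A)
    (hy : ∀ (i : Fin n) (j : ℕ), 2 ≤ j → LambdaRing.LambdaOps.lam j (y i) = 0) (k : ℕ) :
    LambdaRing.gamma k (∑ i : Fin n, y i - (n : A)) =
      ∑ s ∈ (univ : Finset (Fin n)).powersetCard k, ∏ i ∈ s, (y i - 1) := by
  have h := gammaSeries_sum h1 y hy (univ : Finset (Fin n))
  rw [Finset.card_univ, Fintype.card_fin] at h
  have h2 := congrArg (PowerSeries.coeff k) h
  rw [coeff_prod] at h2
  rw [← h2]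
  simp [gammaSeries]

end Groth.Agent.S8651
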