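import Groth.Statements.S9426
import Mathlib.RingTheory.Kaehler.Polynomial
import Mathlib.RingTheory.Unramified.Basic
import Mathlib.Tactic.LinearCombination
-- import your own Groth.Agent.* helpers here

set_option autoImplicit false
universe u
open OmegaSh

namespace Groth.Agent.S9426

open TensorProduct in
theorem exists_pderiv_dual {R S σ : Type*} [CommRing R] [CommRing S] [Algebra R S]
    [DecidableEq σ]
    [Algebra (MvPolynomial σ R) S] [IsScalarTower R (MvPolynomial σ R) S]
    (hsurj : Function.Surjective (algebraMap (MvPolynomial σ R) S))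
    [Subsingleton (KaehlerDifferential R S)] (t : σ) :
    ∃ y ∈ RingHom.ker (algebraMap (MvPolynomial σ R) S),
      ∀ u, algebraMap (MvPolynomial σ R) S (MvPolynomial.pderiv u y) = if u = t then 1 else 0 := by
  have hex := KaehlerDifferential.exact_kerCotangentToTensor_mapBaseChange R
    (MvPolynomial σ R) S hsurj
  have h0 : KaehlerDifferential.mapBaseChange R (MvPolynomial σ R) S
      ((1 : S) ⊗ₜ[MvPolynomial σ R]
        KaehlerDifferential.D R (MvPolynomial σ R) (MvPolynomial.X t)) = 0 :=
    Subsingleton.elim _ _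
  obtain ⟨c, hc⟩ := (hex _).mp h0
  obtain ⟨y, rfl⟩ := Ideal.toCotangent_surjective _ c
  rw [KaehlerDifferential.kerCotangentToTensor_toCotangent] at hc
  refine ⟨y.1, y.2, fun u => ?_⟩
  let ℓ : S ⊗[MvPolynomial σ R] (KaehlerDifferential R (MvPolynomial σ R)) →ₗ[S] S :=
    LinearMap.liftBaseChange S ((Algebra.linearMap (MvPolynomial σ R) S) ∘ₗ
      ((KaehlerDifferential.mvPolynomialBasis R σ).coord u))
  have h1 := congrArg ℓ hc
  simp only [ℓ, LinearMap.liftBaseChange_tmul, one_smul, LinearMap.comp_apply,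
    Algebra.linearMap_apply, Module.Basis.coord_apply,
    KaehlerDifferential.mvPolynomialBasis_repr_apply, MvPolynomial.pderiv_X] at h1
  rw [h1]
  by_cases h : u = t
  · subst h; simp
  · simp [h, Ne.symm h]

theorem taylor {R : Type*} [CommRing R] {σ : Type*} [DecidableEq σ] {A : Type*} [CommRing A]
    [Algebra R A]
    (I : Ideal A) (hI : I ^ 2 = ⊥) (g g' : MvPolynomial σ R →ₐ[R] A)
    (hgg : ∀ x, g' x - g x ∈ I) (y : MvPolynomial σ R) (t : σ)
    (hy : ∀ u, g (MvPolynomial.pderiv u y) - (if u = t then 1 else 0) ∈ I) :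
    g' y = g y + (g' (MvPolynomial.X t) - g (MvPolynomial.X t)) := by
  letI : Algebra (MvPolynomial σ R) A := g.toRingHom.toAlgebra
  haveI : IsScalarTower R (MvPolynomial σ R) A :=
    IsScalarTower.of_algebraMap_eq' g.comp_algebraMap.symm
  have hsmul : ∀ (p : MvPolynomial σ R) (a : A), p • a = g p * a := fun p a => rfl
  have hII : ∀ a ∈ I, ∀ b ∈ I, a * b = 0 := by
    intro a ha b hb
    have h : a * b ∈ I ^ 2 := by rw [pow_two]; exact Ideal.mul_mem_mul ha hb
    rw [hI] at h
    exact h
  let D2 : Derivation R (MvPolynomial σ R) A :=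
    Derivation.mk' (g'.toLinearMap - g.toLinearMap) (by
      intro a b
      have h := hII _ (hgg a) _ (hgg b)
      simp only [LinearMap.sub_apply, AlgHom.toLinearMap_apply, map_mul, hsmul]
      linear_combination h)
  let ε : σ → A := fun u => g' (MvPolynomial.X u) - g (MvPolynomial.X u)
  have hε : ∀ u, ε u = g' (MvPolynomial.X u) - g (MvPolynomial.X u) := fun u => rfl
  let b := KaehlerDifferential.mvPolynomialBasis R σ
  let θ : KaehlerDifferential R (MvPolynomial σ R) →ₗ[MvPolynomial σ R] A :=
    (Finsupp.linearCombination (MvPolynomial σ R) ε) ∘ₗ b.repr.toLinearMap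
  let D1 : Derivation R (MvPolynomial σ R) A :=
    θ.compDer (KaehlerDifferential.D R (MvPolynomial σ R))
  have hD : D1 = D2 := by
    apply MvPolynomial.derivation_ext
    intro u
    show θ (KaehlerDifferential.D R (MvPolynomial σ R) (MvPolynomial.X u)) =
      g' (MvPolynomial.X u) - g (MvPolynomial.X u)
    simp only [θ, LinearMap.comp_apply, LinearEquiv.coe_coe, b,
      KaehlerDifferential.mvPolynomialBasis_repr_D_X, Finsupp.linearCombination_single,
      one_smul, hε]
  have h1 : D2 y = D1 y := by rw [hD]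
  have h2 : D2 y = g' y - g y := rfl
  have h3 : D1 y = ε t := by
    show θ (KaehlerDifferential.D R (MvPolynomial σ R) y) = ε t
    simp only [θ, LinearMap.comp_apply, LinearEquiv.coe_coe, Finsupp.linearCombination_apply]
    refine (Finsupp.sum_of_support_subset _ (Finset.subset_insert t _)
      (fun i a => a • ε i) (fun i _ => zero_smul _ _)).trans ?_
    have hterm : ∀ u ∈ insert t
        (b.repr (KaehlerDifferential.D R (MvPolynomial σ R) y)).support,
        (b.repr (KaehlerDifferential.D R (MvPolynomial σ R) y)) u • ε u =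
          if u = t then ε u else 0 := by
      intro u _
      rw [KaehlerDifferential.mvPolynomialBasis_repr_apply, hsmul, hε]
      have h := hII _ (hy u) _ (hgg (MvPolynomial.X u))
      by_cases hu : u = t
      · rw [if_pos hu] at h ⊢
        linear_combination h
      · rw [if_neg hu] at h ⊢
        linear_combination h
    refine (Finset.sum_congr rfl hterm).trans ?_
    rw [Finset.sum_ite_eq' _ t ε, if_pos (Finset.mem_insert_self _ _)]
  rw [h2, h3, hε] at h1
  linear_combination h1

theorem univ_of_dual {R S : Type u} [CommRing R] [CommRing S] [Algebra R S] {σ : Type u}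
    [DecidableEq σ]
    [Algebra (MvPolynomial σ R) S] [IsScalarTower R (MvPolynomial σ R) S]
    (hsurj : Function.Surjective (algebraMap (MvPolynomial σ R) S))
    (y : σ → MvPolynomial σ R)
    (hyJ : ∀ t, y t ∈ RingHom.ker (algebraMap (MvPolynomial σ R) S))
    (hy : ∀ t u, algebraMap (MvPolynomial σ R) S (MvPolynomial.pderiv u (y t)) =
      if u = t then 1 else 0)
    (J' : Ideal (MvPolynomial σ R))
    (hJ' : J' = RingHom.ker (algebraMap (MvPolynomial σ R) S) ^ 2 ⊔ Ideal.span (Set.range y))
    (π : (MvPolynomial σ R ⧸ J') →ₐ[R] S)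
    (hπ : ∀ x, π (Ideal.Quotient.mk J' x) = algebraMap (MvPolynomial σ R) S x) :
    OmegaSh.IsUnivThickeningRing R S (MvPolynomial σ R ⧸ J') π := by
  have hJ'J : J' ≤ RingHom.ker (algebraMap (MvPolynomial σ R) S) := by
    rw [hJ']
    refine sup_le (Ideal.pow_le_self two_ne_zero) (Ideal.span_le.mpr ?_)
    rintro _ ⟨t, rfl⟩
    exact hyJ t
  have hJ2 : RingHom.ker (algebraMap (MvPolynomial σ R) S) ^ 2 ≤ J' := by
    rw [hJ']; exact le_sup_left
  have hyJ' : ∀ t, y t ∈ J' := by
    intro t; rw [hJ']; exact Ideal.mem_sup_right (Ideal.subset_span ⟨t, rfl⟩)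
  unfold OmegaSh.IsUnivThickeningRing
  refine ⟨?_, ?_, ?_⟩
  · intro s
    obtain ⟨x, rfl⟩ := hsurj s
    exact ⟨Ideal.Quotient.mk J' x, hπ x⟩
  · rw [eq_bot_iff, pow_two, Ideal.mul_le]
    intro a ha b hb
    obtain ⟨a, rfl⟩ := Ideal.Quotient.mk_surjective a
    obtain ⟨b, rfl⟩ := Ideal.Quotient.mk_surjective b
    have ha' : a ∈ RingHom.ker (algebraMap (MvPolynomial σ R) S) :=
      RingHom.mem_ker.mpr ((hπ a).symm.trans (RingHom.mem_ker.mp ha))
    have hb' : b ∈ RingHom.ker (algebraMap (MvPolynomial σ R) S) :=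
      RingHom.mem_ker.mpr ((hπ b).symm.trans (RingHom.mem_ker.mp hb))
    rw [← map_mul, Ideal.mem_bot, Ideal.Quotient.eq_zero_iff_mem]
    exact hJ2 (by rw [pow_two]; exact Ideal.mul_mem_mul ha' hb')
  · intro A _ _ I hI a
    have hmk := Ideal.Quotient.mk_surjective (I := I)
    choose l hl using hmk
    let g : MvPolynomial σ R →ₐ[R] A :=
      MvPolynomial.aeval
        (fun t : σ => l (a (algebraMap (MvPolynomial σ R) S (MvPolynomial.X t))))
    have hg : ∀ x : MvPolynomial σ R,
        Ideal.Quotient.mk I (g x) = a (algebraMap (MvPolynomial σ R) S x) := by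
      intro x
      have h : (Ideal.Quotient.mkₐ R I).comp g =
          a.comp (IsScalarTower.toAlgHom R (MvPolynomial σ R) S) := by
        apply MvPolynomial.algHom_ext
        intro t
        simp [g, hl, Ideal.Quotient.mkₐ_eq_mk]
      exact DFunLike.congr_fun h x
    have hgJ : ∀ x ∈ RingHom.ker (algebraMap (MvPolynomial σ R) S), g x ∈ I := by
      intro x hx
      rw [← Ideal.Quotient.eq_zero_iff_mem, hg, RingHom.mem_ker.mp hx, map_zero]
    let g' : MvPolynomial σ R →ₐ[R] A :=
      MvPolynomial.aeval (fun t : σ => g (MvPolynomial.X t) - g (y t))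
    have hg'X : ∀ t, g' (MvPolynomial.X t) = g (MvPolynomial.X t) - g (y t) := fun t => by
      simp only [g', MvPolynomial.aeval_X]
    have hgg : ∀ x, g' x - g x ∈ I := by
      intro x
      have h : (Ideal.Quotient.mkₐ R I).comp g' = (Ideal.Quotient.mkₐ R I).comp g := by
        apply MvPolynomial.algHom_ext
        intro t
        simp only [AlgHom.comp_apply, Ideal.Quotient.mkₐ_eq_mk, hg'X, map_sub]
        rw [Ideal.Quotient.eq_zero_iff_mem.mpr (hgJ _ (hyJ t)), sub_zero]
      have h2 := DFunLike.congr_fun h x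
      simp only [AlgHom.comp_apply, Ideal.Quotient.mkₐ_eq_mk] at h2
      exact Ideal.Quotient.eq.mp h2
    have hyI : ∀ t u, g (MvPolynomial.pderiv u (y t)) - (if u = t then 1 else 0) ∈ I := by
      intro t u
      rw [← Ideal.Quotient.eq_zero_iff_mem, map_sub, hg, hy t u]
      split_ifs <;> simp
    have hg'y : ∀ t, g' (y t) = 0 := by
      intro t
      rw [taylor I hI g g' hgg (y t) t (hyI t), hg'X]
      ring
    have hg'J : ∀ x ∈ RingHom.ker (algebraMap (MvPolynomial σ R) S), g' x ∈ I := by
      intro x hx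
      have h := I.add_mem (hgg x) (hgJ x hx)
      rwa [sub_add_cancel] at h
    have hg'J' : ∀ x ∈ J', g' x = 0 := by
      have hle : J' ≤ RingHom.ker g'.toRingHom := by
        rw [hJ']
        refine sup_le ?_ (Ideal.span_le.mpr ?_)
        · rw [pow_two, Ideal.mul_le]
          intro p hp q hq
          have h : g' p * g' q ∈ I ^ 2 := by
            rw [pow_two]; exact Ideal.mul_mem_mul (hg'J p hp) (hg'J q hq)
          rw [hI, Ideal.mem_bot] at h
          rw [RingHom.mem_ker]
          show g' (p * q) = 0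
          rw [map_mul, h]
        · rintro _ ⟨t, rfl⟩
          exact RingHom.mem_ker.mpr (hg'y t)
      intro x hx
      exact RingHom.mem_ker.mp (hle hx)
    let a' : (MvPolynomial σ R ⧸ J') →ₐ[R] A := Ideal.Quotient.liftₐ J' g' hg'J'
    have ha'mk : ∀ x, a' (Ideal.Quotient.mk J' x) = g' x := fun x => rfl
    refine ⟨a', ?_, ?_⟩
    · apply AlgHom.ext
      intro z
      obtain ⟨x, rfl⟩ := Ideal.Quotient.mk_surjective z
      simp only [AlgHom.comp_apply, Ideal.Quotient.mkₐ_eq_mk, ha'mk, hπ]
      rw [← hg x]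
      exact Ideal.Quotient.eq.mpr (hgg x)
    · intro a'' ha''
      let g2 : MvPolynomial σ R →ₐ[R] A := a''.comp (Ideal.Quotient.mkₐ R J')
      have hg2 : ∀ x, g2 x = a'' (Ideal.Quotient.mk J' x) := fun x => rfl
      have hg2mk : ∀ x, Ideal.Quotient.mk I (g2 x) =
          a (algebraMap (MvPolynomial σ R) S x) := by
        intro x
        have h := DFunLike.congr_fun ha'' (Ideal.Quotient.mk J' x)
        simp only [AlgHom.comp_apply, Ideal.Quotient.mkₐ_eq_mk, hπ] at h
        rw [hg2]; exact h
      have hgg2 : ∀ x, g2 x - g' x ∈ I := by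
        intro x
        apply Ideal.Quotient.eq.mp
        rw [hg2mk, ← hg x]
        exact (Ideal.Quotient.eq.mpr (hgg x)).symm
      have hyI' : ∀ t u,
          g' (MvPolynomial.pderiv u (y t)) - (if u = t then 1 else 0) ∈ I := by
        intro t u
        have h := I.add_mem (hgg (MvPolynomial.pderiv u (y t))) (hyI t u)
        rwa [sub_add_sub_cancel] at h
      have hg2y : ∀ t, g2 (y t) = 0 := by
        intro t
        rw [hg2, Ideal.Quotient.eq_zero_iff_mem.mpr (hyJ' t), map_zero]
      have hX : ∀ t, g2 (MvPolynomial.X t) = g' (MvPolynomial.X t) := by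
        intro t
        have h := taylor I hI g' g2 hgg2 (y t) t (hyI' t)
        rw [hg2y, hg'y, zero_add] at h
        exact sub_eq_zero.mp h.symm
      have hg2g' : g2 = g' := MvPolynomial.algHom_ext hX
      apply Ideal.Quotient.algHom_ext
      rw [show a''.comp (Ideal.Quotient.mkₐ R J') = g2 from rfl, hg2g']
      exact (Ideal.Quotient.liftₐ_comp J' g' hg'J').symm


/-- A formally unramified R-algebra S admits a universal first order thickening: an R-algebra surjection
S' → S with square-zero kernel through which every R-algebra map from S into a square-zero quotient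
A/I lifts uniquely to A. -/
theorem result (R : Type u) [CommRing R]
    (S : Type u) [CommRing S] [Algebra R S] [Algebra.FormallyUnramified R S] :
    ∃ (S' : Type u) (_ : CommRing S') (_ : Algebra R S') (π : S' →ₐ[R] S),
      OmegaSh.IsUnivThickeningRing R S S' π := by
  classical
  letI : Algebra (MvPolynomial S R) S :=
    (MvPolynomial.aeval (R := R) (id : S → S)).toRingHom.toAlgebra
  haveI : IsScalarTower R (MvPolynomial S R) S :=
    IsScalarTower.of_algebraMap_eq'
      (MvPolynomial.aeval (R := R) (id : S → S)).comp_algebraMap.symm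
  have hφ : ∀ x : MvPolynomial S R, algebraMap (MvPolynomial S R) S x =
      MvPolynomial.aeval (R := R) (id : S → S) x := fun _ => rfl
  have hsurj : Function.Surjective (algebraMap (MvPolynomial S R) S) := fun s =>
    ⟨MvPolynomial.X s, by rw [hφ, MvPolynomial.aeval_X]; rfl⟩
  choose y hyJ hy using fun t : S => exists_pderiv_dual (R := R) (S := S) (σ := S) hsurj t
  let J' : Ideal (MvPolynomial S R) :=
    RingHom.ker (algebraMap (MvPolynomial S R) S) ^ 2 ⊔ Ideal.span (Set.range y)
  have hJ'J : J' ≤ RingHom.ker (algebraMap (MvPolynomial S R) S) := by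
    refine sup_le (Ideal.pow_le_self two_ne_zero) (Ideal.span_le.mpr ?_)
    rintro _ ⟨t, rfl⟩
    exact hyJ t
  let π : (MvPolynomial S R ⧸ J') →ₐ[R] S :=
    Ideal.Quotient.liftₐ J' (IsScalarTower.toAlgHom R (MvPolynomial S R) S)
      (fun x hx => RingHom.mem_ker.mp (hJ'J hx))
  exact ⟨MvPolynomial S R ⧸ J', inferInstance, inferInstance, π,
    univ_of_dual hsurj y hyJ hy J' rfl π (fun x => rfl)⟩

end Groth.Agent.S9426
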