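import Groth.Statements.S2102
-- import your own Groth.Agent.* helpers here

set_option autoImplicit false
universe u
open CategoryTheory AlgebraicGeometry
open Mor

namespace Groth.Agent.S2102

/-- The ring of global sections of an integral normal scheme is an integrally closed domain. -/
theorem result (X : Scheme.{u}) [IsIntegral X] (hX : Pi1.IsNormalScheme X) :
    IsIntegrallyClosed (Γ(X, ⊤) : Type u) := by
  classical
  have hgen : ∀ V : X.Opens, (V : Set X).Nonempty → genericPoint X ∈ V := by
    intro V hV
    refine ((genericPoint_spec X).mem_open_set_iff V.isOpen).mpr ?_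
    simpa using hV
  have hne : Nonempty (⊤ : X.Opens) := ⟨⟨genericPoint X, trivial⟩⟩
  -- Step 1
  have key : ∀ β : X.functionField, IsIntegral (Γ(X, ⊤)) β →
      ∃ s : Γ(X, ⊤), X.germToFunctionField ⊤ s = β := by
    intro β hβ
    have hloc : ∀ x : X, ∃ (U : X.Opens) (hxU : x ∈ U) (s : Γ(X, U)),
        X.presheaf.germ U (genericPoint X) (hgen U ⟨x, hxU⟩) s = β := by
      intro x
      have := (hX x).1
      have := (hX x).2
      obtain ⟨p, hpm, hpe⟩ := hβ
      have hcomp : (algebraMap (X.presheaf.stalk x) X.functionField).comp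
          (X.presheaf.germ ⊤ x trivial).hom = algebraMap Γ(X, ⊤) X.functionField := by
        ext f
        exact Scheme.algebraMap_germ_eq_germToFunctionField X (U := ⊤) (x := x) trivial f
      have hβ' : IsIntegral (X.presheaf.stalk x) β := by
        refine ⟨p.map (X.presheaf.germ ⊤ x trivial).hom, hpm.map _, ?_⟩
        rw [Polynomial.eval₂_map, hcomp]
        exact hpe
      obtain ⟨t, ht⟩ := IsIntegrallyClosed.algebraMap_eq_of_integral hβ'
      obtain ⟨U, hxU, s, hs⟩ := X.presheaf.exists_germ_eq t
      refine ⟨U, hxU, s, ?_⟩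
      have : Nonempty U := ⟨⟨x, hxU⟩⟩
      have := Scheme.algebraMap_germ_eq_germToFunctionField X hxU s
      rw [hs, ht] at this
      exact this.symm
    choose U hxU s hs using hloc
    have hcompat : TopCat.Presheaf.IsCompatible X.sheaf.1 U s := by
      intro x y
      have hmem : genericPoint X ∈ U x ⊓ U y := ⟨hgen _ ⟨x, hxU x⟩, hgen _ ⟨y, hxU y⟩⟩
      apply germ_injective_of_isIntegral X (genericPoint X) hmem
      have h1 := X.presheaf.germ_res_apply (TopologicalSpace.Opens.infLELeft (U x) (U y))
        (genericPoint X) hmem (s x)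
      have h2 := X.presheaf.germ_res_apply (TopologicalSpace.Opens.infLERight (U x) (U y))
        (genericPoint X) hmem (s y)
      exact h1.trans ((hs x).trans ((hs y).symm.trans h2.symm))
    have hcover : (⊤ : X.Opens) ≤ iSup U := by
      intro x _
      exact TopologicalSpace.Opens.mem_iSup.mpr ⟨x, hxU x⟩
    obtain ⟨s₀, hs₀, -⟩ := X.sheaf.existsUnique_gluing' U ⊤ (fun x => homOfLE le_top) hcover s hcompat
    refine ⟨s₀, ?_⟩
    have h3 := X.presheaf.germ_res_apply (homOfLE (le_top : U (genericPoint X) ≤ ⊤))
      (genericPoint X) (hxU (genericPoint X)) s₀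
    have h4 := hs₀ (genericPoint X)
    have h5 := hs (genericPoint X)
    change X.presheaf.germ ⊤ (genericPoint X) _ s₀ = β
    rw [← h5, ← h4]
    exact h3.symm
  -- Step 2
  have hinj : Function.Injective (algebraMap Γ(X, ⊤) X.functionField) :=
    X.germToFunctionField_injective ⊤
  rw [isIntegrallyClosed_iff (FractionRing Γ(X, ⊤))]
  intro x hx
  let g : Γ(X, ⊤) →ₐ[Γ(X, ⊤)] X.functionField := Algebra.ofId _ _
  have hg : Function.Injective g := hinj
  let φ : FractionRing Γ(X, ⊤) →ₐ[Γ(X, ⊤)] X.functionField := IsFractionRing.liftAlgHom hg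
  obtain ⟨s, hs⟩ := key (φ x) (hx.map φ)
  refine ⟨s, ?_⟩
  apply φ.toRingHom.injective
  change φ (algebraMap _ _ s) = φ x
  rw [φ.commutes]
  exact hs

end Groth.Agent.S2102
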