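import Groth.Statements.S10854
import Groth.Agent.S10853
import Groth.Agent.H54.LocalIso

set_option autoImplicit false
universe u
open FinCond

namespace Groth.Agent.S10854

open AlgebraicGeometry CategoryTheory in
/-- Let S be a scheme and X, Y two S-schemes locally of finite presentation over S. Let x be a point of
X and y a point of Y over the same point of S, and let φ : O_{Y,y} → O_{X,x} be an isomorphism
compatible with the two homomorphisms from the local ring of S. Then there exist open neighbourhoods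
U of x and V of y and an S-isomorphism f : U → V whose composite with Spec O_{X,x} → U and V → Y
equals Spec φ followed by Spec O_{Y,y} → Y. (The published statement assumes the finiteness
conditions only at the points x and y; this row assumes them everywhere.) -/
theorem result
    {X Y S : Scheme.{u}} (sX : X ⟶ S) (sY : Y ⟶ S)
    [LocallyOfFinitePresentation sX] [LocallyOfFinitePresentation sY]
    {x : X} {y : Y} (e : sX x = sY y)
    (φ : Y.presheaf.stalk y ⟶ X.presheaf.stalk x) [IsIso φ]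
    (h : sY.stalkMap y ≫ φ =
      S.presheaf.stalkSpecializes (Inseparable.of_eq e).specializes ≫ sX.stalkMap x) :
    ∃ (U : X.Opens) (hxU : x ∈ U) (V : Y.Opens) (f : U.toScheme ⟶ V.toScheme), IsIso f ∧
      Spec.map φ ≫ Y.fromSpecStalk y = U.fromSpecStalkOfMem x hxU ≫ f ≫ V.ι ∧
        f ≫ V.ι ≫ sY = U.ι ≫ sX := by
  obtain ⟨U₁, hxU₁, f, hf₁, hf₂⟩ := Groth.Agent.S10853.aux sX sY e φ h
  have h' : sX.stalkMap x ≫ inv φ =
      S.presheaf.stalkSpecializes (Inseparable.of_eq e.symm).specializes ≫ sY.stalkMap y := by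
    rw [IsIso.comp_inv_eq, Category.assoc, h, ← Category.assoc,
      TopCat.Presheaf.stalkSpecializes_comp, TopCat.Presheaf.stalkSpecializes_refl,
      Category.id_comp]
  obtain ⟨V₁, hyV₁, g, hg₁, hg₂⟩ := Groth.Agent.S10853.aux sY sX e.symm (inv φ) h'
  haveI : LocallyOfFiniteType sX := inferInstance
  haveI : LocallyOfFiniteType sY := inferInstance
  obtain ⟨T, j', π₀, hj', hk, hπ₀⟩ := Groth.Agent.H54.local_iso sX sY U₁.ι V₁.ι f g hf₂ hg₂ x y φ
    (U₁.fromSpecStalkOfMem x hxU₁) (V₁.fromSpecStalkOfMem y hyV₁)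
    (U₁.fromSpecStalkOfMem_ι x hxU₁) (V₁.fromSpecStalkOfMem_ι y hyV₁) hf₁ hg₁
  haveI := hj'
  haveI := hk
  have hj : (j' ≫ U₁.ι).isoOpensRange.inv ≫ j' ≫ U₁.ι = (j' ≫ U₁.ι).opensRange.ι :=
    Scheme.Hom.isoOpensRange_inv_comp (j' ≫ U₁.ι)
  have hxU : x ∈ (j' ≫ U₁.ι).opensRange := by
    refine ⟨π₀ (IsLocalRing.closedPoint _), ?_⟩
    have h4 : π₀ ≫ j' ≫ U₁.ι = X.fromSpecStalk x := by
      rw [← Category.assoc, hπ₀, U₁.fromSpecStalkOfMem_ι]
    rw [← Scheme.Hom.comp_apply, h4, Scheme.fromSpecStalk_closedPoint]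
  refine ⟨(j' ≫ U₁.ι).opensRange, hxU, (j' ≫ f).opensRange,
    (j' ≫ U₁.ι).isoOpensRange.inv ≫ (j' ≫ f).isoOpensRange.hom, inferInstance, ?_, ?_⟩
  · rw [Category.assoc, Scheme.Hom.isoOpensRange_hom_ι]
    have h3 : (j' ≫ U₁.ι).opensRange.fromSpecStalkOfMem x hxU ≫ (j' ≫ U₁.ι).isoOpensRange.inv ≫ j' =
        U₁.fromSpecStalkOfMem x hxU₁ := by
      rw [← cancel_mono U₁.ι, Category.assoc, Category.assoc, hj,
        Scheme.Opens.fromSpecStalkOfMem_ι, Scheme.Opens.fromSpecStalkOfMem_ι]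
    rw [hf₁, ← h3]
    simp only [Category.assoc]
  · rw [Category.assoc, Scheme.Hom.isoOpensRange_hom_ι_assoc, Category.assoc, hf₂,
      ← Category.assoc j', ← Category.assoc, hj]

end Groth.Agent.S10854
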