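import Groth.Statements.S9680
import Groth.Agent.S10854

set_option autoImplicit false
universe u
open CategoryTheory CategoryTheory.Limits AlgebraicGeometry
open Mor

namespace Groth.Agent.S9680

theorem stalkCongr_hom_eq {T : TopCat.{u}} (F : TopCat.Presheaf CommRingCat.{u} T) {a b : T}
    (h : a = b) : (F.stalkCongr (.of_eq h)).hom = eqToHom (congrArg F.stalk h) := by
  subst h
  simp

theorem stalkSpecializes_comp_eqToHom {T : TopCat.{u}} (F : TopCat.Presheaf CommRingCat.{u} T)
    {a b : T} (h : a = b) :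
    F.stalkSpecializes (Inseparable.of_eq h).specializes ≫ eqToHom (congrArg F.stalk h) = 𝟙 _ := by
  subst h
  simp

theorem irreducibleSpace_opens {X : Scheme.{u}} [IrreducibleSpace X] (U : X.Opens)
    (hU : (U : Set X).Nonempty) : IrreducibleSpace U.toScheme := by
  have h1 : IsIrreducible (U : Set X) :=
    ⟨hU, (PreirreducibleSpace.isPreirreducible_univ (X := X)).open_subset U.2 (Set.subset_univ _)⟩
  exact Subtype.irreducibleSpace h1

theorem stalk_iso_of_common_open {U X Y S : Scheme.{u}} (i : U ⟶ X) (g : U ⟶ Y)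
    [IsOpenImmersion i] [IsOpenImmersion g] (sX : X ⟶ S) (sY : Y ⟶ S)
    (hov : g ≫ sY = i ≫ sX) (u : U) (x : X) (y : Y) (hx : i u = x) (hy : g u = y) :
    ∃ (hs : sX x = sY y) (e : X.presheaf.stalk x ≅ Y.presheaf.stalk y),
      sX.stalkMap x ≫ e.hom = eqToHom (congrArg S.presheaf.stalk hs) ≫ sY.stalkMap y := by
  subst hx hy
  have hs : sX (i u) = sY (g u) := by
    rw [← Scheme.Hom.comp_apply, ← Scheme.Hom.comp_apply, hov]
  refine ⟨hs, asIso (i.stalkMap u) ≪≫ (asIso (g.stalkMap u)).symm, ?_⟩
  simp only [Iso.trans_hom, asIso_hom, Iso.symm_hom, asIso_inv]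
  rw [← Category.assoc, IsIso.comp_inv_eq, Category.assoc, ← Scheme.Hom.stalkMap_comp,
    ← Scheme.Hom.stalkMap_comp, Scheme.Hom.stalkMap_congr_hom _ _ hov.symm,
    stalkCongr_hom_eq _ (show (i ≫ sX) u = (g ≫ sY) u from hs)]
  rfl


/-- Suppose X and Y are irreducible S-schemes, each locally of finite presentation over S, with generic
points x and y. Then X and Y are S-birational (they admit S-isomorphic nonempty opens) if and only
if x and y map to the same point s of S and the local rings of X at x and of Y at y are isomorphic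
as algebras over the local ring of S at s. -/
theorem result {S X Y : Scheme.{u}}
    [IrreducibleSpace ↥X] [IrreducibleSpace ↥Y] (sX : X ⟶ S) (sY : Y ⟶ S)
    [LocallyOfFinitePresentation sX] [LocallyOfFinitePresentation sY] :
    Scheme.BirationalOver sX sY ↔
      ∃ (hs : sX.base (genericPoint ↥X) = sY.base (genericPoint ↥Y))
        (e : X.presheaf.stalk (genericPoint ↥X) ≅ Y.presheaf.stalk (genericPoint ↥Y)),
        sX.stalkMap (genericPoint ↥X) ≫ e.hom =
          eqToHom (congrArg S.presheaf.stalk hs) ≫ sY.stalkMap (genericPoint ↥Y) := by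
  constructor
  · rintro ⟨⟨U, hU, V, hV, iso⟩, hov⟩
    haveI : IrreducibleSpace U.toScheme := irreducibleSpace_opens U hU.nonempty
    have hx : U.ι (genericPoint U.toScheme) = genericPoint X :=
      genericPoint_eq_of_isOpenImmersion U.ι
    have hy : (iso.hom ≫ V.ι) (genericPoint U.toScheme) = genericPoint Y :=
      genericPoint_eq_of_isOpenImmersion (iso.hom ≫ V.ι)
    exact stalk_iso_of_common_open U.ι (iso.hom ≫ V.ι) sX sY
      (by rw [Category.assoc]; exact hov) _ _ _ hx hy
  · rintro ⟨hs, e, he⟩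
    have h : sY.stalkMap (genericPoint Y) ≫ e.inv =
        S.presheaf.stalkSpecializes (Inseparable.of_eq hs).specializes ≫
          sX.stalkMap (genericPoint X) := by
      rw [Iso.comp_inv_eq, Category.assoc, he, ← Category.assoc,
        stalkSpecializes_comp_eqToHom _ hs, Category.id_comp]
    obtain ⟨U, hxU, V, f, hf, -, hov⟩ := Groth.Agent.S10854.result sX sY hs e.inv h
    haveI := hf
    refine ⟨⟨U, U.2.dense ⟨_, hxU⟩, V, V.2.dense ?_, asIso f⟩, hov⟩
    exact ⟨(f (⟨genericPoint X, hxU⟩ : U.toScheme)).1, (f (⟨genericPoint X, hxU⟩ : U.toScheme)).2⟩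

end Groth.Agent.S9680
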