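import Groth.Statements.S9681
import Groth.Agent.S9680
import Groth.Agent.H54.LocalIso2

set_option autoImplicit false
universe u
open CategoryTheory CategoryTheory.Limits AlgebraicGeometry
open Mor

namespace Groth.Agent.S9681

theorem residue_comp_eqToHom (S : Scheme.{u}) {a b : S} (h : a = b) :
    S.residue a ≫ eqToHom (congrArg S.residueField h) =
      eqToHom (congrArg S.presheaf.stalk h) ≫ S.residue b := by
  subst h
  simp

theorem residue_comp_eqToHom' (S : Scheme.{u}) {a b : S} (h : a = b) :
    S.residue b ≫ eqToHom (congrArg S.residueField h.symm) =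
      S.presheaf.stalkSpecializes (Inseparable.of_eq h).specializes ≫ S.residue a := by
  subst h
  simp

theorem isIso_residue_genericPoint (X : Scheme.{u}) [IsIntegral X] :
    IsIso (X.residue (genericPoint X)) := by
  letI : Field (X.presheaf.stalk (genericPoint X)) := inferInstanceAs (Field X.functionField)
  rw [ConcreteCategory.isIso_iff_bijective]
  exact ⟨(X.residue (genericPoint X)).hom.injective, X.residue_surjective _⟩


/-- Suppose X and Y are integral S-schemes, each locally of finite type over S, with generic points x
and y. Then X and Y are S-birational (they admit S-isomorphic nonempty opens) if and only if x and y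
map to the same point s of S and the residue fields of x and y are isomorphic as extensions of the
residue field of s. -/
theorem result {S X Y : Scheme.{u}}
    [IsIntegral X] [IsIntegral Y] (sX : X ⟶ S) (sY : Y ⟶ S)
    [LocallyOfFiniteType sX] [LocallyOfFiniteType sY] :
    Scheme.BirationalOver sX sY ↔
      ∃ (hs : sX.base (genericPoint ↥X) = sY.base (genericPoint ↥Y))
        (e : X.residueField (genericPoint ↥X) ≅ Y.residueField (genericPoint ↥Y)),
        sX.residueFieldMap (genericPoint ↥X) ≫ e.hom =
          eqToHom (congrArg S.residueField hs) ≫ sY.residueFieldMap (genericPoint ↥Y) := by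
  haveI hrX := isIso_residue_genericPoint X
  haveI hrY := isIso_residue_genericPoint Y
  constructor
  · rintro ⟨⟨U, hU, V, hV, iso⟩, hov⟩
    haveI : IrreducibleSpace U.toScheme := Groth.Agent.S9680.irreducibleSpace_opens U hU.nonempty
    have hx : U.ι (genericPoint U.toScheme) = genericPoint X :=
      genericPoint_eq_of_isOpenImmersion U.ι
    have hy : (iso.hom ≫ V.ι) (genericPoint U.toScheme) = genericPoint Y :=
      genericPoint_eq_of_isOpenImmersion (iso.hom ≫ V.ι)
    obtain ⟨hs, e', he'⟩ := Groth.Agent.S9680.stalk_iso_of_common_open U.ι (iso.hom ≫ V.ι) sX sY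
      (by rw [Category.assoc]; exact hov) _ _ _ hx hy
    refine ⟨hs, (asIso (X.residue (genericPoint X))).symm ≪≫ e' ≪≫
      asIso (Y.residue (genericPoint Y)), ?_⟩
    rw [← cancel_epi (S.residue (sX (genericPoint X)))]
    simp only [Iso.trans_hom, Iso.symm_hom, asIso_inv, asIso_hom]
    calc S.residue (sX (genericPoint X)) ≫ sX.residueFieldMap (genericPoint X) ≫
          inv (X.residue (genericPoint X)) ≫ e'.hom ≫ Y.residue (genericPoint Y)
        = (S.residue (sX (genericPoint X)) ≫ sX.residueFieldMap (genericPoint X)) ≫
          inv (X.residue (genericPoint X)) ≫ e'.hom ≫ Y.residue (genericPoint Y) := by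
          simp only [Category.assoc]
      _ = (sX.stalkMap (genericPoint X) ≫ X.residue (genericPoint X)) ≫
          inv (X.residue (genericPoint X)) ≫ e'.hom ≫ Y.residue (genericPoint Y) := by
          rw [Scheme.residue_residueFieldMap]
      _ = (sX.stalkMap (genericPoint X) ≫ e'.hom) ≫ Y.residue (genericPoint Y) := by
          simp only [Category.assoc, IsIso.hom_inv_id_assoc]
      _ = (eqToHom (congrArg S.presheaf.stalk hs) ≫ sY.stalkMap (genericPoint Y)) ≫
          Y.residue (genericPoint Y) := by rw [he']
      _ = eqToHom (congrArg S.presheaf.stalk hs) ≫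
          (S.residue (sY (genericPoint Y)) ≫ sY.residueFieldMap (genericPoint Y)) := by
          rw [Category.assoc, Scheme.residue_residueFieldMap]
      _ = (S.residue (sX (genericPoint X)) ≫ eqToHom (congrArg S.residueField hs)) ≫
          sY.residueFieldMap (genericPoint Y) := by
          rw [← Category.assoc, ← residue_comp_eqToHom S hs]
      _ = _ := Category.assoc _ _ _
  · rintro ⟨hs, e, he⟩
    let φ : Y.presheaf.stalk (genericPoint Y) ⟶ X.presheaf.stalk (genericPoint X) :=
      Y.residue (genericPoint Y) ≫ e.inv ≫ inv (X.residue (genericPoint X))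
    haveI : IsIso φ := by
      dsimp only [φ]
      infer_instance
    have he2 : sY.residueFieldMap (genericPoint Y) ≫ e.inv =
        eqToHom (congrArg S.residueField hs.symm) ≫ sX.residueFieldMap (genericPoint X) := by
      rw [Iso.comp_inv_eq, Category.assoc, he, ← Category.assoc, eqToHom_trans, eqToHom_refl,
        Category.id_comp]
    have h : sY.stalkMap (genericPoint Y) ≫ φ =
        S.presheaf.stalkSpecializes (Inseparable.of_eq hs).specializes ≫
          sX.stalkMap (genericPoint X) := by
      rw [← cancel_mono (X.residue (genericPoint X))]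
      calc (sY.stalkMap (genericPoint Y) ≫ φ) ≫ X.residue (genericPoint X)
          = (sY.stalkMap (genericPoint Y) ≫ Y.residue (genericPoint Y)) ≫ e.inv := by
            simp only [φ, Category.assoc, IsIso.inv_hom_id, Category.comp_id]
        _ = S.residue (sY (genericPoint Y)) ≫ sY.residueFieldMap (genericPoint Y) ≫ e.inv := by
            rw [← Scheme.residue_residueFieldMap, Category.assoc]
        _ = (S.residue (sY (genericPoint Y)) ≫ eqToHom (congrArg S.residueField hs.symm)) ≫
            sX.residueFieldMap (genericPoint X) := by
            rw [he2, Category.assoc]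
        _ = (S.presheaf.stalkSpecializes (Inseparable.of_eq hs).specializes ≫
            S.residue (sX (genericPoint X))) ≫ sX.residueFieldMap (genericPoint X) := by
            rw [residue_comp_eqToHom' S hs]
        _ = (S.presheaf.stalkSpecializes (Inseparable.of_eq hs).specializes ≫
            sX.stalkMap (genericPoint X)) ≫ X.residue (genericPoint X) := by
            rw [Category.assoc, Scheme.residue_residueFieldMap, Category.assoc]
    obtain ⟨U, hxU, V, f, hf, -, hov⟩ :=
      Groth.Agent.H54.local_iso_germInjective sX sY hs φ h
    haveI := hf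
    refine ⟨⟨U, U.2.dense ⟨_, hxU⟩, V, V.2.dense ?_, asIso f⟩, hov⟩
    exact ⟨(f (⟨genericPoint X, hxU⟩ : U.toScheme)).1, (f (⟨genericPoint X, hxU⟩ : U.toScheme)).2⟩

end Groth.Agent.S9681
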