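import Groth.Statements.S13425
import Mathlib
import Groth.Agent.H54.ZMT
import Groth.Agent.H54.RadicialIso

set_option autoImplicit false
universe u
open CategoryTheory AlgebraicGeometry
open NeronHD

namespace Groth.Agent.S13425


section Helpers
open AlgebraicGeometry CategoryTheory CategoryTheory.Limits TopologicalSpace Topology

theorem bijective_of_isPurelyInseparable_of_charZero {F E : Type u} [Field F] [Field E]
    [CharZero F] (φ : F →+* E) (h : φ.IsPurelyInseparable) : Function.Bijective φ := by
  algebraize [φ]
  haveI : Algebra.IsSeparable F E := Algebra.IsAlgebraic.isSeparable_of_perfectField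
  exact ⟨φ.injective, IsPurelyInseparable.surjective_algebraMap_of_isSeparable F E⟩

theorem charZero_residueField {k : Type u} [Field k] [CharZero k] {Y : Scheme.{u}}
    (sY : Y ⟶ Spec (CommRingCat.of k)) (y : Y) : CharZero (Y.residueField y) := by
  let ψ : k →+* Y.residueField y := (Spec.preimage (Y.fromSpecResidueField y ≫ sY)).hom
  exact charZero_of_injective_ringHom ψ.injective

theorem surjective_diagonal {k : Type u} [Field k] [IsAlgClosed k] {X Y : Scheme.{u}}
    (sX : X ⟶ Spec (CommRingCat.of k)) (sY : Y ⟶ Spec (CommRingCat.of k))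
    [LocallyOfFiniteType sX] (f : X ⟶ Y) [IsSeparated f] [LocallyOfFiniteType f]
    (hf : f ≫ sY = sX)
    (hinj : ∀ a b : Spec (CommRingCat.of k) ⟶ X, a ≫ sX = 𝟙 _ → b ≫ sX = 𝟙 _ →
      a ≫ f = b ≫ f → a = b) :
    Surjective (pullback.diagonal f) := by
  haveI : JacobsonSpace (pullback f f : Scheme.{u}) :=
    LocallyOfFiniteType.jacobsonSpace (pullback.fst f f ≫ sX)
  refine ⟨fun z => ?_⟩
  by_contra hz
  have hcl : IsClosed (Set.range (pullback.diagonal f)) :=
    (pullback.diagonal f).isClosedEmbedding.isClosed_range
  have hne : ((Set.range (pullback.diagonal f))ᶜ).Nonempty := ⟨z, hz⟩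
  obtain ⟨w, hw, hwc⟩ := nonempty_inter_closedPoints hne hcl.isOpen_compl.isLocallyClosed
  have hwc' : IsClosed ({w} : Set (pullback f f : Scheme.{u})) := hwc
  obtain ⟨c, hc0⟩ : ∃ c, c = pointOfClosedPoint (pullback.fst f f ≫ sX) w hwc' := ⟨_, rfl⟩
  have hc : c ≫ pullback.fst f f ≫ sX = 𝟙 _ := by
    rw [hc0]; exact pointOfClosedPoint_comp _ _ _
  have hcw : c (IsLocalRing.closedPoint k) = w := by
    rw [hc0]; exact pointOfClosedPoint_apply _ _ _ _
  have ha : (c ≫ pullback.fst f f) ≫ sX = 𝟙 _ := by rw [Category.assoc]; exact hc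
  have hsnd : pullback.snd f f ≫ sX = pullback.fst f f ≫ sX := by
    rw [← hf, ← pullback.condition_assoc]
  have hb : (c ≫ pullback.snd f f) ≫ sX = 𝟙 _ := by rw [Category.assoc, hsnd]; exact hc
  have hab : (c ≫ pullback.fst f f) ≫ f = (c ≫ pullback.snd f f) ≫ f := by
    rw [Category.assoc, Category.assoc, pullback.condition]
  have heq := hinj _ _ ha hb hab
  have hcd : (c ≫ pullback.fst f f) ≫ pullback.diagonal f = c := by
    apply pullback.hom_ext
    · rw [Category.assoc, pullback.diagonal_fst, Category.comp_id]
    · rw [Category.assoc, pullback.diagonal_snd, Category.comp_id]; exact heq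
  apply hw
  refine ⟨(c ≫ pullback.fst f f) (IsLocalRing.closedPoint k), ?_⟩
  rw [← Scheme.Hom.comp_apply, hcd]; exact hcw

theorem main {k : Type u} [Field k] [IsAlgClosed k] [CharZero k]
    {X Y : Scheme.{u}} (sX : X ⟶ Spec (CommRingCat.of k)) (sY : Y ⟶ Spec (CommRingCat.of k))
    [IsIntegral X] [IsIntegral Y] [IsSeparated sX] [IsSeparated sY]
    [LocallyOfFiniteType sX] [QuasiCompact sX] [LocallyOfFiniteType sY] [QuasiCompact sY]
    (hY : Pi1.IsNormalScheme Y)
    (f : X ⟶ Y) (hf : f ≫ sY = sX) [IsDominant f]
    (hinj : ∀ a b : Spec (CommRingCat.of k) ⟶ X, a ≫ sX = 𝟙 _ → b ≫ sX = 𝟙 _ →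
      a ≫ f = b ≫ f → a = b) :
    IsOpenImmersion f := by
  haveI : LocallyOfFiniteType (f ≫ sY) := by rw [hf]; infer_instance
  haveI : IsSeparated (f ≫ sY) := by rw [hf]; infer_instance
  haveI : QuasiCompact (f ≫ sY) := by rw [hf]; infer_instance
  haveI : LocallyOfFiniteType f := locallyOfFiniteType_of_comp f sY
  haveI : IsSeparated f := IsSeparated.of_comp f sY
  haveI : QuasiCompact f := QuasiCompact.of_comp f sY
  haveI hdiag : Surjective (pullback.diagonal f) := surjective_diagonal sX sY f hf hinj
  haveI hui : UniversallyInjective f := (UniversallyInjective.iff_diagonal f).mpr hdiag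
  have hfinj : Function.Injective f := f.injective
  have hPI := ((tfae_universallyInjective f).out 0 2).mp hui
  haveI : LocallyQuasiFinite f :=
    locallyQuasiFinite_iff_finite_preimage_singleton.mpr
      (fun y => (Set.subsingleton_singleton.preimage hfinj).finite)
  have hgen : f (genericPoint X) = genericPoint Y := by
    have h1 : IsGenericPoint (f (genericPoint X)) (Set.univ : Set Y) := by
      have h2 := (genericPoint_spec X).image f.continuous
      rwa [Set.image_univ, (IsDominant.denseRange (f := f)).closure_range] at h2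
    exact h1.eq (genericPoint_spec Y)
  have hbir : IsIso (f.stalkMap (genericPoint X)) := by
    haveI h1 : IsIso (X.residue (genericPoint X)) :=
      Groth.Agent.S9681.isIso_residue_genericPoint X
    haveI h2 : IsIso (Y.residue (f (genericPoint X))) := by
      rw [hgen]; exact Groth.Agent.S9681.isIso_residue_genericPoint Y
    haveI := charZero_residueField sY (f (genericPoint X))
    have hb : Function.Bijective (f.residueFieldMap (genericPoint X)).hom :=
      bijective_of_isPurelyInseparable_of_charZero _ (hPI.2 _)
    haveI h3 : IsIso (f.residueFieldMap (genericPoint X)) :=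
      (ConcreteCategory.isIso_iff_bijective _).mpr hb
    haveI : IsIso (f.stalkMap (genericPoint X) ≫ X.residue (genericPoint X)) := by
      rw [← Scheme.residue_residueFieldMap]; infer_instance
    exact IsIso.of_isIso_comp_right (f.stalkMap (genericPoint X)) (X.residue (genericPoint X))
  exact Groth.Agent.H54.isOpenImmersion_of_birational_of_isSeparated (fun y => (hY y).2) f
    hgen hbir

end Helpers


/-- Let k be a characteristic-zero algebraically closed field and X, Y integral schemes, separated and
of finite type over k, with Y normal, and let f : X → Y be a dominant k-morphism which is injective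
on k-rational points. Then f is an open immersion. (Case of schemes of a statement about algebraic
spaces.) -/
theorem result {k : Type u} [Field k] [IsAlgClosed k] [CharZero k]
    {X Y : Scheme.{u}} (sX : X ⟶ Spec (CommRingCat.of k)) (sY : Y ⟶ Spec (CommRingCat.of k))
    [IsIntegral X] [IsIntegral Y] [IsSeparated sX] [IsSeparated sY]
    [LocallyOfFiniteType sX] [QuasiCompact sX] [LocallyOfFiniteType sY] [QuasiCompact sY]
    (hY : Pi1.IsNormalScheme Y)
    (f : X ⟶ Y) (hf : f ≫ sY = sX) [IsDominant f]
    (hinj : ∀ a b : Spec (CommRingCat.of k) ⟶ X, a ≫ sX = 𝟙 _ → b ≫ sX = 𝟙 _ → a ≫ f = b ≫ f → a = b) :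
    IsOpenImmersion f := by
  exact main sX sY hY f hf hinj
end Groth.Agent.S13425
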