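import Groth.Statements.S14670
import Mathlib
import Groth.Agent.S2082
import Groth.Agent.S9829
import Groth.Agent.H23.RegularLocal
import Groth.Agent.H54.IntegralDim
import Groth.Agent.H79.RegCM

set_option autoImplicit false
universe u
open CAlg

namespace Groth.Agent.S14670

/-- Let R be a regular local ring and S an integral domain containing R as a subring over which it is a
finitely generated module, such that the localization of S at each of its maximal ideals is a
Cohen–Macaulay local ring. Then S is a flat R-module. (The published statement does not require S to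
be a domain; in that generality it fails — for a discrete valuation ring R with residue field κ the
ring R × κ contains R diagonally, is finite over R with Cohen–Macaulay localizations, and is not
flat — and the printed argument needs every maximal ideal of S to have height dim R, which holds
when S is a domain by going down.) -/
theorem result (R S : Type u) [CommRing R] [CommRing S]
    [IsRegularLocalRing R] [IsDomain S] [Algebra R S] [Module.Finite R S]
    (hinj : Function.Injective (algebraMap R S))
    (hCM : ∀ (q : Ideal S) [q.IsMaximal], LocCoh.IsCohenMacaulayLocalRing (Localization.AtPrime q)) :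
    Module.Flat R S := by
  classical
  haveI : IsDomain R := Groth.Agent.H23.isDomain_of_isRegularLocalRing R
  haveI : IsIntegrallyClosed R := Groth.Agent.S9829.result R
  haveI : FaithfulSMul R S := (faithfulSMul_iff_algebraMap_injective R S).mpr hinj
  haveI : Algebra.IsIntegral R S := Algebra.IsIntegral.of_finite R S
  haveI : IsNoetherianRing S := Algebra.FiniteType.isNoetherianRing R S
  have hdimS : ringKrullDim S = ringKrullDim R :=
    Groth.Agent.H54.ringKrullDim_eq_of_isIntegral_of_injective hinj
  refine Module.flat_of_isLocalized_maximal S S (fun q _ => Localization.AtPrime q)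
    (fun q _ => Algebra.linearMap S (Localization.AtPrime q)) ?_
  intro q hq
  haveI := hCM q
  have hcomap : q.comap (algebraMap R S) = IsLocalRing.maximalIdeal R := by
    haveI : (q.comap (algebraMap R S)).IsMaximal :=
      Ideal.isMaximal_comap_of_isIntegral_of_isMaximal (R := R) q
    exact IsLocalRing.eq_maximalIdeal inferInstance
  haveI : q.LiesOver (IsLocalRing.maximalIdeal R) := ⟨hcomap.symm⟩
  have hmapmem : ∀ r ∈ IsLocalRing.maximalIdeal R,
      algebraMap R (Localization.AtPrime q) r ∈
        IsLocalRing.maximalIdeal (Localization.AtPrime q) := by
    intro r hr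
    have hrq : algebraMap R S r ∈ q := by
      rw [← hcomap] at hr
      exact hr
    rw [IsScalarTower.algebraMap_apply R S (Localization.AtPrime q)]
    exact (IsLocalization.AtPrime.to_map_mem_maximal_iff (Localization.AtPrime q) q _).mpr hrq
  haveI : IsLocalHom (algebraMap R (Localization.AtPrime q)) := by
    constructor
    intro r hr
    by_contra hnu
    exact hmapmem r ((IsLocalRing.mem_maximalIdeal r).mpr hnu) hr
  refine Groth.Agent.S2082.result ?_
  have h1 : ringKrullDim (Localization.AtPrime q) = q.height :=
    IsLocalization.AtPrime.ringKrullDim_eq_height q _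
  have h2 : (IsLocalRing.maximalIdeal R).height ≤ q.height := by
    rw [Ideal.height_eq_height_add_of_liesOver_of_hasGoingDown (IsLocalRing.maximalIdeal R) q]
    exact le_self_add
  have h3 : (q.height : WithBot ℕ∞) ≤ ringKrullDim S := Ideal.height_le_ringKrullDim_of_ne_top hq.ne_top
  have h4 : ((IsLocalRing.maximalIdeal R).height : WithBot ℕ∞) = ringKrullDim R :=
    IsLocalRing.maximalIdeal_height_eq_ringKrullDim
  have h5 : ringKrullDim (Localization.AtPrime q) = ringKrullDim R := by
    refine le_antisymm (h1 ▸ h3.trans hdimS.le) ?_
    rw [h1, ← h4]
    exact_mod_cast h2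
  have hI1 : (IsLocalRing.maximalIdeal R).map (algebraMap R (Localization.AtPrime q)) ≤
      IsLocalRing.maximalIdeal (Localization.AtPrime q) := by
    rw [Ideal.map_le_iff_le_comap]
    intro r hr
    exact hmapmem r hr
  have hI2 : IsLocalRing.maximalIdeal (Localization.AtPrime q) ≤
      ((IsLocalRing.maximalIdeal R).map (algebraMap R (Localization.AtPrime q))).radical := by
    rw [Ideal.radical_eq_sInf]
    refine le_sInf ?_
    rintro P' ⟨hP'I, hP'⟩
    have hPq : P'.comap (algebraMap S (Localization.AtPrime q)) ≤ q :=
      (Ideal.comap_mono (IsLocalRing.le_maximalIdeal hP'.ne_top)).trans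
        (le_of_eq (IsLocalization.AtPrime.comap_maximalIdeal (Localization.AtPrime q) q))
    haveI hPprime : (P'.comap (algebraMap S (Localization.AtPrime q))).IsPrime := hP'.comap _
    have hmle : IsLocalRing.maximalIdeal R ≤
        (P'.comap (algebraMap S (Localization.AtPrime q))).comap (algebraMap R S) := by
      intro r hr
      rw [Ideal.mem_comap, Ideal.mem_comap, ← IsScalarTower.algebraMap_apply]
      exact hP'I (Ideal.mem_map_of_mem _ hr)
    have hceq : (P'.comap (algebraMap S (Localization.AtPrime q))).comap (algebraMap R S) =
        IsLocalRing.maximalIdeal R :=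
      ((IsLocalRing.maximalIdeal.isMaximal R).eq_of_le
        (Ideal.comap_ne_top _ hPprime.ne_top) hmle).symm
    haveI : ((P'.comap (algebraMap S (Localization.AtPrime q))).comap (algebraMap R S)).IsMaximal :=
      hceq ▸ IsLocalRing.maximalIdeal.isMaximal R
    have hPmax : (P'.comap (algebraMap S (Localization.AtPrime q))).IsMaximal :=
      Ideal.isMaximal_of_isIntegral_of_isMaximal_comap (R := R) _ inferInstance
    have hPeq : P'.comap (algebraMap S (Localization.AtPrime q)) = q :=
      hPmax.eq_of_le hq.ne_top hPq
    have hm : IsLocalRing.maximalIdeal (Localization.AtPrime q) =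
        Ideal.map (algebraMap S (Localization.AtPrime q)) q :=
      Localization.AtPrime.map_eq_maximalIdeal.symm
    rw [hm]
    exact (Ideal.map_mono (le_of_eq hPeq.symm)).trans Ideal.map_comap_le
  have h6 := Groth.Agent.H79.RegCM.ringKrullDim_quotient_eq_zero hI1 hI2
  rw [h5, h6, add_zero]

end Groth.Agent.S14670
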