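import Groth.Statements.S18056
import Groth.Agent.S2453
import Groth.Agent.H44.CoeffField
import Groth.Agent.H44.MacLaneAll
import Mathlib

set_option autoImplicit false
universe u v
open STCI

namespace Groth.Agent.S18056

open IsLocalRing TensorProduct

section length

/-- Additivity of `M ↦ length_B (N ⊗_A M)` on short exact sequences for `N` flat over `A`
(universe-polymorphic version of `Groth.Agent.S2498.additivity`). -/
theorem additivity {A : Type u} {B : Type v} [CommRing A] [CommRing B] [Algebra A B]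
    (N : Type v) [AddCommGroup N] [Module B N] [Module A N] [IsScalarTower A B N]
    [Module.Flat A N]
    {M₁ M₂ M₃ : Type u} [AddCommGroup M₁] [Module A M₁] [AddCommGroup M₂] [Module A M₂]
    [AddCommGroup M₃] [Module A M₃]
    (f : M₁ →ₗ[A] M₂) (g : M₂ →ₗ[A] M₃) (hf : Function.Injective f)
    (hg : Function.Surjective g) (H : Function.Exact f g) :
    Module.length B (N ⊗[A] M₂) =
      Module.length B (N ⊗[A] M₁) + Module.length B (N ⊗[A] M₃) := by
  refine Module.length_eq_add_of_exact (TensorProduct.AlgebraTensorModule.lTensor B N f)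
    (TensorProduct.AlgebraTensorModule.lTensor B N g) ?_ ?_ ?_
  · exact Module.Flat.lTensor_preserves_injective_linearMap (M := N) f hf
  · exact LinearMap.lTensor_surjective N hg
  · exact Module.Flat.lTensor_exact N H

/-- The finite length case. -/
theorem finite_case {A : Type u} {B : Type v} [CommRing A] [CommRing B] [IsLocalRing A]
    [Algebra A B]
    (N : Type v) [AddCommGroup N] [Module B N] [Module A N] [IsScalarTower A B N]
    [Module.Flat A N]
    {M : Type u} [AddCommGroup M] [Module A M] (hM : IsFiniteLength A M) :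
    Module.length B (N ⊗[A] M) =
      Module.length A M * Module.length B (N ⊗[A] (A ⧸ IsLocalRing.maximalIdeal A)) := by
  induction hM with
  | of_subsingleton =>
    rw [Module.length_eq_zero, Module.length_eq_zero, zero_mul]
  | @of_simple_quotient M _ _ P hS hP ih =>
    have hadd := additivity (B := B) N P.subtype P.mkQ P.injective_subtype P.mkQ_surjective
      (LinearMap.exact_subtype_mkQ P)
    have hlen := Module.length_eq_add_of_exact P.subtype P.mkQ P.injective_subtype
      P.mkQ_surjective (LinearMap.exact_subtype_mkQ P)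
    obtain ⟨I, hI, ⟨e⟩⟩ := isSimpleModule_iff_quot_maximal.mp hS
    obtain rfl : I = IsLocalRing.maximalIdeal A := IsLocalRing.eq_maximalIdeal hI
    have h3 : Module.length B (N ⊗[A] (M ⧸ P)) =
        Module.length B (N ⊗[A] (A ⧸ IsLocalRing.maximalIdeal A)) :=
      (TensorProduct.AlgebraTensorModule.congr (LinearEquiv.refl B N) e).length_eq
    rw [hadd, hlen, ih, h3, Module.length_eq_one A (M ⧸ P), add_mul, one_mul]

theorem length_formula {A : Type u} {B : Type v} [CommRing A] [CommRing B] [IsLocalRing A]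
    [Algebra A B] [Module.Flat A B] (hA : IsFiniteLength A A) :
    Module.length B B = Module.length A A *
      Module.length B (B ⧸ (maximalIdeal A).map (algebraMap A B)) := by
  have h1 := finite_case (B := B) B hA
  have h2 : Module.length B (B ⊗[A] A) = Module.length B B :=
    (TensorProduct.AlgebraTensorModule.rid A B B).length_eq
  have h3 : Module.length B (B ⊗[A] (A ⧸ maximalIdeal A)) =
      Module.length B (B ⧸ (maximalIdeal A).map (algebraMap A B)) :=
    (Algebra.TensorProduct.quotIdealMapEquivTensorQuot B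
      (maximalIdeal A)).toLinearEquiv.symm.length_eq
  rw [← h2, h1, h3]

end length

section field

theorem map_maximalIdeal_eq {A : Type u} {B : Type v} [CommRing A] [CommRing B]
    [IsLocalRing A] [IsLocalRing B] [IsArtinianRing B] [Algebra A B]
    [Algebra.FormallySmooth A B]
    (Fu : Type u) (Fv : Type v) [Field Fu] [Field Fv] [PerfectField Fv] [Algebra Fv Fu]
    (hbij : Function.Bijective (algebraMap Fv Fu)) [Algebra Fu A]
    [Algebra.FormallySmooth Fu (A ⧸ maximalIdeal A)]
    (hle : (maximalIdeal A).map (algebraMap A B) ≤ maximalIdeal B) :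
    (maximalIdeal A).map (algebraMap A B) = maximalIdeal B := by
  set I := (maximalIdeal A).map (algebraMap A B) with hIdef
  have hI : I ≠ ⊤ := fun h => (maximalIdeal.isMaximal B).ne_top (top_le_iff.1 (h ▸ hle))
  haveI : Nontrivial (B ⧸ I) := Ideal.Quotient.nontrivial_iff.2 hI
  haveI : IsLocalRing (B ⧸ I) :=
    IsLocalRing.of_surjective' (Ideal.Quotient.mk I) Ideal.Quotient.mk_surjective
  haveI h1 : Algebra.FormallySmooth (A ⧸ maximalIdeal A) (B ⧸ I) :=
    Algebra.FormallySmooth.of_equiv
      (Algebra.TensorProduct.quotIdealMapEquivQuotTensor B (maximalIdeal A)).symm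
  letI a1 : Algebra Fu (B ⧸ I) :=
    ((algebraMap (A ⧸ maximalIdeal A) (B ⧸ I)).comp (algebraMap Fu (A ⧸ maximalIdeal A))).toAlgebra
  haveI : IsScalarTower Fu (A ⧸ maximalIdeal A) (B ⧸ I) :=
    IsScalarTower.of_algebraMap_eq (fun _ => rfl)
  haveI h2 : Algebra.FormallySmooth Fu (B ⧸ I) :=
    Algebra.FormallySmooth.comp Fu (A ⧸ maximalIdeal A) (B ⧸ I)
  haveI h3 : Algebra.FormallySmooth Fv Fu :=
    Algebra.FormallySmooth.of_equiv (AlgEquiv.ofBijective (Algebra.ofId Fv Fu) hbij)
  letI a2 : Algebra Fv (B ⧸ I) := ((algebraMap Fu (B ⧸ I)).comp (algebraMap Fv Fu)).toAlgebra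
  haveI : IsScalarTower Fv Fu (B ⧸ I) := IsScalarTower.of_algebraMap_eq (fun _ => rfl)
  haveI h4 : Algebra.FormallySmooth Fv (B ⧸ I) := Algebra.FormallySmooth.comp Fv Fu (B ⧸ I)
  have h5 : CAlgX.IsAdicFormallySmooth Fv (B ⧸ I) (maximalIdeal (B ⧸ I)) := by
    intro C _ _ J hJ ψ _
    exact Algebra.FormallySmooth.comp_surjective Fv (B ⧸ I) J hJ ψ
  haveI : Algebra.IsGeometricallyReduced Fv (ResidueField (B ⧸ I)) :=
    Groth.Agent.H44.MacLane.isGeometricallyReduced_of_perfectField
  haveI : IsArtinianRing (B ⧸ I) :=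
    (Ideal.Quotient.mk_surjective (I := I)).isArtinianRing
  haveI h6 : IsRegularLocalRing (B ⧸ I) :=
    ((Groth.Agent.S2453.result (k := Fv) (A := B ⧸ I)).out 0 3).1 h5
  have h7 : Ring.KrullDimLE 0 (B ⧸ I) :=
    (isArtinianRing_iff_isNoetherianRing_krullDimLE_zero.1 inferInstance).2
  have h8 : maximalIdeal (B ⧸ I) = ⊥ := by
    have hd : ((maximalIdeal (B ⧸ I)).spanFinrank : WithBot ℕ∞) = ringKrullDim (B ⧸ I) :=
      IsRegularLocalRing.spanFinrank_maximalIdeal
    have hle0 : ringKrullDim (B ⧸ I) ≤ 0 := Ring.krullDimLE_iff.1 h7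
    rw [← hd] at hle0
    have h0 : (maximalIdeal (B ⧸ I)).spanFinrank = 0 := by
      have : ((maximalIdeal (B ⧸ I)).spanFinrank : WithBot ℕ∞) ≤ ((0 : ℕ) : WithBot ℕ∞) := hle0
      have h' : (maximalIdeal (B ⧸ I)).spanFinrank ≤ 0 := by exact_mod_cast this
      omega
    exact (Submodule.spanFinrank_eq_zero_iff_eq_bot (IsNoetherian.noetherian _)).1 h0
  refine le_antisymm hle (fun b hb => ?_)
  have hmem : Ideal.Quotient.mk I b ∈ maximalIdeal (B ⧸ I) := by
    rw [mem_maximalIdeal, mem_nonunits_iff]
    intro hu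
    obtain ⟨c, hc⟩ := hu.exists_right_inv
    obtain ⟨c, rfl⟩ := Ideal.Quotient.mk_surjective c
    rw [← map_mul, ← map_one (Ideal.Quotient.mk I), Ideal.Quotient.eq] at hc
    have h9 : b * c - 1 ∈ maximalIdeal B := hle hc
    have h10 : b * c ∈ maximalIdeal B := Ideal.mul_mem_right _ _ hb
    have h11 : (1 : B) ∈ maximalIdeal B := by
      have := Ideal.sub_mem _ h10 h9
      simpa using this
    exact (maximalIdeal.isMaximal B).ne_top ((Ideal.eq_top_iff_one _).2 h11)
  rw [h8] at hmem
  exact Ideal.Quotient.eq_zero_iff_mem.1 ((Submodule.mem_bot _).1 hmem)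

end field


/-- Let A → B be a homomorphism of Artinian local rings that is flat and formally smooth, where A has a
subring that is a field. Then A and B have the same length, each as a module over itself. -/
theorem result (A : Type u) (B : Type v) [CommRing A] [CommRing B]
    [IsLocalRing A] [IsLocalRing B] [IsArtinianRing A] [IsArtinianRing B] [Algebra A B]
    [Module.Flat A B] [Algebra.FormallySmooth A B] (hK : ∃ K : Subring A, IsField K) :
    Module.length A A = Module.length B B := by
  obtain ⟨K', hK'⟩ := hK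
  have hnil : IsNilpotent (maximalIdeal A) := by
    rw [← IsLocalRing.jacobson_eq_maximalIdeal ⊥ bot_ne_top]
    exact IsArtinianRing.isNilpotent_jacobson_bot
  have hle : (maximalIdeal A).map (algebraMap A B) ≤ maximalIdeal B := by
    rw [Ideal.map_le_iff_le_comap]
    intro x hx
    obtain ⟨n, hn⟩ := hnil
    have hxn : x ^ n = 0 := by
      have h1 : x ^ n ∈ maximalIdeal A ^ n := Ideal.pow_mem_pow hx n
      rw [hn] at h1
      simpa using h1
    rw [Ideal.mem_comap]
    apply (maximalIdeal.isMaximal B).isPrime.mem_of_pow_mem n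
    rw [← map_pow, hxn, map_zero]
    exact Ideal.zero_mem _
  have hfin : IsFiniteLength A A :=
    isFiniteLength_iff_isNoetherian_isArtinian.2 ⟨inferInstance, inferInstance⟩
  have key : (maximalIdeal A).map (algebraMap A B) = maximalIdeal B := by
    letI := hK'.toField
    obtain h0 | ⟨p, hp, hpK⟩ := CharP.exists' K'
    · -- characteristic zero
      haveI := h0
      let j : ℚ →+* A := K'.subtype.comp (algebraMap ℚ K')
      let ι : ULift.{u} ℚ →+* A := j.comp (ULift.ringEquiv : ULift.{u} ℚ ≃+* ℚ).toRingHom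
      letI : Algebra (ULift.{u} ℚ) A := ι.toAlgebra
      haveI : CharZero (ULift.{u} ℚ) :=
        charZero_of_injective_ringHom (f := (ULift.ringEquiv : ULift.{u} ℚ ≃+* ℚ).symm.toRingHom)
          (ULift.ringEquiv : ULift.{u} ℚ ≃+* ℚ).symm.injective
      haveI : CharZero (ULift.{v} ℚ) :=
        charZero_of_injective_ringHom (f := (ULift.ringEquiv : ULift.{v} ℚ ≃+* ℚ).symm.toRingHom)
          (ULift.ringEquiv : ULift.{v} ℚ ≃+* ℚ).symm.injective
      haveI : Algebra.FormallySmooth (ULift.{u} ℚ) (ResidueField A) :=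
        Groth.Agent.H44.MacLane.formallySmooth_of_charZero
      haveI : Algebra.FormallySmooth (ULift.{u} ℚ) (A ⧸ maximalIdeal A) :=
        (inferInstance : Algebra.FormallySmooth (ULift.{u} ℚ) (ResidueField A))
      letI : Algebra (ULift.{v} ℚ) (ULift.{u} ℚ) :=
        ((ULift.ringEquiv : ULift.{u} ℚ ≃+* ℚ).symm.toRingHom.comp
          (ULift.ringEquiv : ULift.{v} ℚ ≃+* ℚ).toRingHom).toAlgebra
      have hbij : Function.Bijective (algebraMap (ULift.{v} ℚ) (ULift.{u} ℚ)) :=
        ((ULift.ringEquiv : ULift.{v} ℚ ≃+* ℚ).trans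
          (ULift.ringEquiv : ULift.{u} ℚ ≃+* ℚ).symm).bijective
      haveI : PerfectField (ULift.{v} ℚ) := PerfectField.ofCharZero
      exact map_maximalIdeal_eq (ULift.{u} ℚ) (ULift.{v} ℚ) hbij hle
    · -- characteristic p
      haveI := hp
      haveI := hpK
      have hpp : p.Prime := Fact.out
      haveI : CharP A p := charP_of_injective_ringHom (f := K'.subtype) K'.subtype_injective p
      let ι : ULift.{u} (ZMod p) →+* A :=
        (ZMod.castHom (dvd_refl p) A).comp
          (ULift.ringEquiv : ULift.{u} (ZMod p) ≃+* ZMod p).toRingHom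
      letI : Algebra (ULift.{u} (ZMod p)) A := ι.toAlgebra
      haveI : CharP (ResidueField A) p := by
        rw [CharP.charP_iff_prime_eq_zero hpp]
        have h0 : ((p : ℕ) : A) = 0 := CharP.cast_eq_zero A p
        have h1 : residue A ((p : ℕ) : A) = 0 := by rw [h0, map_zero]
        rw [map_natCast] at h1
        exact h1
      haveI : ExpChar (ULift.{u} (ZMod p)) p := ExpChar.prime hpp
      haveI : PerfectRing (ULift.{u} (ZMod p)) p := inferInstance
      haveI : Algebra.FormallySmooth (ULift.{u} (ZMod p)) (ResidueField A) :=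
        Groth.Agent.H44.CoeffField.formallySmooth_of_charP_perfect p
      haveI : Algebra.FormallySmooth (ULift.{u} (ZMod p)) (A ⧸ maximalIdeal A) :=
        (inferInstance : Algebra.FormallySmooth (ULift.{u} (ZMod p)) (ResidueField A))
      letI : Algebra (ULift.{v} (ZMod p)) (ULift.{u} (ZMod p)) :=
        ((ULift.ringEquiv : ULift.{u} (ZMod p) ≃+* ZMod p).symm.toRingHom.comp
          (ULift.ringEquiv : ULift.{v} (ZMod p) ≃+* ZMod p).toRingHom).toAlgebra
      have hbij : Function.Bijective (algebraMap (ULift.{v} (ZMod p)) (ULift.{u} (ZMod p))) :=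
        ((ULift.ringEquiv : ULift.{v} (ZMod p) ≃+* ZMod p).trans
          (ULift.ringEquiv : ULift.{u} (ZMod p) ≃+* ZMod p).symm).bijective
      exact map_maximalIdeal_eq (ULift.{u} (ZMod p)) (ULift.{v} (ZMod p)) hbij hle
  rw [length_formula hfin (B := B), key]
  have h1 : Module.length B (B ⧸ maximalIdeal B) = 1 := by
    haveI : IsSimpleModule B (B ⧸ maximalIdeal B) :=
      isSimpleModule_iff_quot_maximal.2 ⟨maximalIdeal B, inferInstance, ⟨LinearEquiv.refl _ _⟩⟩
    exact Module.length_eq_one B _
  rw [h1, mul_one]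

end Groth.Agent.S18056
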