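import Groth.Statements.S1487
import Groth.Agent.H8.FormallyEtale

set_option autoImplicit false
universe u
open FlatMor

namespace Groth.Agent.S1487

open AlgebraicGeometry CategoryTheory Limits in
/-- (1) ⇔ (3): a morphism f : X → Y is formally étale (unique lifting against first order thickenings of
affine schemes, rings in the same universe) if and only if for all affine opens U ⊆ f⁻¹(V) the ring
map O_Y(V) → O_X(U) is formally étale. -/
theorem result {X Y : Scheme.{u}} (f : X ⟶ Y) :
    MoreMor.IsFormallyEtaleHom f ↔ ∀ (U : X.Opens) (V : Y.Opens) (hU : IsAffineOpen U) (hV : IsAffineOpen V) (hUV : U ≤ f ⁻¹ᵁ V),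
      letI := (f.appLE V U hUV).hom.toAlgebra
      Algebra.FormallyEtale Γ(Y, V) Γ(X, U) := by
  constructor
  · intro hf U V hU hV hUV
    letI := (f.appLE V U hUV).hom.toAlgebra
    haveI := Groth.Agent.H8.formallyUnramified_of_isFormallyEtaleHom f hf
    haveI : Algebra.FormallyUnramified Γ(Y, V) Γ(X, U) := f.formallyUnramified_appLE hV hU hUV
    haveI : Algebra.FormallySmooth Γ(Y, V) Γ(X, U) :=
      Groth.Agent.H8.formallySmooth_appLE_of_isFormallyEtaleHom f hf hU hV hUV
    exact Algebra.FormallyEtale.of_formallyUnramified_and_formallySmooth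
  · intro H A _ I hI a b w
    haveI : FormallyUnramified f := ⟨fun {V} hV {U} hU e => by
      letI := (f.appLE V U e).hom.toAlgebra
      haveI := H U V hU hV e
      exact (inferInstance : Algebra.FormallyUnramified Γ(Y, V) Γ(X, U))⟩
    haveI : IsClosedImmersion (Spec.map (CommRingCat.ofHom (Ideal.Quotient.mk I))) :=
      IsClosedImmersion.spec_of_surjective _ Ideal.Quotient.mk_surjective
    have hn := Groth.Agent.H8.isNilpotent_ker_SpecMap_mk A I hI
    obtain ⟨l, h1, h2⟩ := Groth.Agent.H8.exists_lift_of_thickening f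
      (fun {U} hU {V} hV e => by
        letI := (f.appLE V U e).hom.toAlgebra
        haveI := H U V hU hV e
        exact (inferInstance : Algebra.FormallySmooth Γ(Y, V) Γ(X, U)))
      (Spec.map (CommRingCat.ofHom (Ideal.Quotient.mk I))) hn a b w
    exact ⟨l, ⟨h1, h2⟩, fun l' h' => FormallyUnramified.hom_ext _ hn f
      (h'.1.trans h1.symm) (h'.2.trans h2.symm)⟩

end Groth.Agent.S1487
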