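import Groth.Statements.S1489
import Groth.Agent.H8.FormallyEtale
import Groth.Agent.S1487

set_option autoImplicit false
universe u
open FlatMor

namespace Groth.Agent.S1489

open AlgebraicGeometry CategoryTheory Limits in
/-- A morphism f : X → S is étale if and only if it is locally of finite presentation and formally
étale, i.e. has the unique lifting property against first order thickenings of affine schemes (rings
in the same universe). -/
theorem result {X S : Scheme.{u}} (f : X ⟶ S) :
    Etale f ↔ LocallyOfFinitePresentation f ∧ MoreMor.IsFormallyEtaleHom f := by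
  rw [Groth.Agent.S1487.result]
  constructor
  · intro hf
    refine ⟨inferInstance, fun U V hU hV hUV => ?_⟩
    letI := (f.appLE V U hUV).hom.toAlgebra
    haveI : Algebra.Etale Γ(S, V) Γ(X, U) := f.etale_appLE hV hU hUV
    infer_instance
  · rintro ⟨hfp, H⟩
    refine ⟨fun {V} hV {U} hU e => ?_⟩
    letI := (f.appLE V U e).hom.toAlgebra
    haveI := H U V hU hV e
    haveI : Algebra.FinitePresentation Γ(S, V) Γ(X, U) := f.finitePresentation_appLE hV hU e
    exact (⟨inferInstance, inferInstance⟩ : Algebra.Etale Γ(S, V) Γ(X, U))

end Groth.Agent.S1489
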