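import Groth.Statements.S6320
import Groth.Agent.H79.LenLoc
import Mathlib

set_option autoImplicit false
universe u
open CAlg

namespace Groth.Agent.S6320

open Groth.Agent.H79.LenLoc in
theorem simple_case {A B : Type u} [CommRing A] [IsLocalRing A] [CommRing B] [Algebra A B]
    [Fintype (MaximalSpectrum B)]
    (hover : ∀ n : MaximalSpectrum B,
      n.asIdeal.comap (algebraMap A B) = IsLocalRing.maximalIdeal A)
    (hfin : ∀ n : MaximalSpectrum B,
      Module.Finite (A ⧸ n.asIdeal.comap (algebraMap A B)) (B ⧸ n.asIdeal))
    (T : Type u) [AddCommGroup T] [Module B T] [Module A T] [IsScalarTower A B T]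
    [IsSimpleModule B T] :
    Module.length A T = ∑ n : MaximalSpectrum B,
      (Module.finrank (A ⧸ n.asIdeal.comap (algebraMap A B)) (B ⧸ n.asIdeal) : ℕ∞) *
        Module.length (Localization.AtPrime n.asIdeal)
          (LocalizedModule n.asIdeal.primeCompl T) := by
  classical
  obtain ⟨I, hI, ⟨e⟩⟩ := isSimpleModule_iff_quot_maximal.1 (inferInstance : IsSimpleModule B T)
  obtain ⟨n0, hn0⟩ : ∃ n0 : MaximalSpectrum B, n0.asIdeal = I := ⟨⟨I, hI⟩, rfl⟩
  subst hn0
  have hann : Module.annihilator B T = n0.asIdeal := by
    rw [e.annihilator_eq, Ideal.annihilator_quotient]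
  rw [Finset.sum_eq_single n0]
  · have h1 : Module.length (Localization.AtPrime n0.asIdeal)
        (LocalizedModule n0.asIdeal.primeCompl T) = 1 := by
      haveI : n0.asIdeal.IsMaximal := n0.isMaximal
      rw [length_localized_simple T n0.asIdeal, if_pos hann]
    rw [h1, mul_one, (e.restrictScalars A).length_eq]
    haveI hmax : (n0.asIdeal.comap (algebraMap A B)).IsMaximal := by
      rw [hover n0]; infer_instance
    letI := Ideal.Quotient.field (n0.asIdeal.comap (algebraMap A B))
    haveI := hfin n0
    rw [Module.length_eq_of_surjective (S := A) (R := A ⧸ n0.asIdeal.comap (algebraMap A B))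
      (M := B ⧸ n0.asIdeal) Ideal.Quotient.mk_surjective]
    exact Module.length_eq_finrank _ _
  · intro n _ hn
    haveI : n.asIdeal.IsMaximal := n.isMaximal
    rw [length_localized_simple T n.asIdeal, if_neg, mul_zero]
    intro h
    exact hn (MaximalSpectrum.ext (h.symm.trans hann))
  · intro h; exact absurd (Finset.mem_univ _) h

open Groth.Agent.H79.LenLoc in
theorem aux {A B : Type u} [CommRing A] [IsLocalRing A] [CommRing B] [Algebra A B]
    [Fintype (MaximalSpectrum B)]
    (hover : ∀ n : MaximalSpectrum B,
      n.asIdeal.comap (algebraMap A B) = IsLocalRing.maximalIdeal A)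
    (hfin : ∀ n : MaximalSpectrum B,
      Module.Finite (A ⧸ n.asIdeal.comap (algebraMap A B)) (B ⧸ n.asIdeal))
    (M : Type u) [AddCommGroup M] [Module B M] (hM : IsFiniteLength B M) :
    ∀ [Module A M] [IsScalarTower A B M], Module.length A M = ∑ n : MaximalSpectrum B,
      (Module.finrank (A ⧸ n.asIdeal.comap (algebraMap A B)) (B ⧸ n.asIdeal) : ℕ∞) *
        Module.length (Localization.AtPrime n.asIdeal)
          (LocalizedModule n.asIdeal.primeCompl M) := by
  induction hM with
  | of_subsingleton =>
    intro _ _
    rw [Module.length_eq_zero]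
    symm
    apply Finset.sum_eq_zero
    intro n _
    rw [Module.length_eq_zero, mul_zero]
  | @of_simple_quotient M _ _ N _ hN ih =>
    intro _ _
    have e1 := Module.length_eq_add_of_exact ((N.subtype).restrictScalars A)
      ((N.mkQ).restrictScalars A) N.injective_subtype N.mkQ_surjective
      (LinearMap.exact_subtype_mkQ N)
    rw [e1, ih, simple_case hover hfin (M ⧸ N), ← Finset.sum_add_distrib]
    refine Finset.sum_congr rfl fun n _ => ?_
    rw [length_localized_submodule n.asIdeal.primeCompl N, mul_add]

/-- Let A be a local ring with maximal ideal m, B a semi-local ring with maximal ideals m₁, …, mₙ and A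
→ B a ring map such that each mᵢ lies over m with [κ(mᵢ) : κ(m)] finite. Then for every B-module M
of finite length, length_A(M) = Σᵢ [κ(mᵢ) : κ(m)] · length_{B_{mᵢ}}(M_{mᵢ}); in particular
length_A(M) is finite. -/
theorem result {A B : Type u} [CommRing A] [IsLocalRing A] [CommRing B] [Algebra A B] [Finite (MaximalSpectrum B)] (hover : ∀ n : MaximalSpectrum B, n.asIdeal.comap (algebraMap A B) = IsLocalRing.maximalIdeal A) (hfin : ∀ n : MaximalSpectrum B, Module.Finite (A ⧸ n.asIdeal.comap (algebraMap A B)) (B ⧸ n.asIdeal)) (M : Type u) [AddCommGroup M] [Module B M] [Module A M] [IsScalarTower A B M] (hM : IsFiniteLength B M) : Module.length A M = ∑ᶠ n : MaximalSpectrum B, (Module.finrank (A ⧸ n.asIdeal.comap (algebraMap A B)) (B ⧸ n.asIdeal) : ℕ∞) * Module.length (Localization.AtPrime n.asIdeal) (LocalizedModule n.asIdeal.primeCompl M) := by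
  classical
  haveI : Fintype (MaximalSpectrum B) := Fintype.ofFinite _
  rw [finsum_eq_sum_of_fintype]
  exact aux hover hfin M hM

end Groth.Agent.S6320
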