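import Groth.Statements.S0310
import Mathlib.Algebra.Module.Injective
import Mathlib.LinearAlgebra.Dimension.Free
import Mathlib.LinearAlgebra.FiniteDimensional.Defs
import Mathlib.RingTheory.Ideal.Quotient.Basic

set_option autoImplicit false
universe u v
open Matlis

namespace Groth.Agent.S0310

/-- Over a local ring, a module killed elementwise by powers of the maximal ideal and whose socle has
finite dimension n over the residue field embeds into the n-fold sum of an injective hull of the
residue field. -/
theorem result (R : Type u) [CommRing R] [IsLocalRing R] (E : Type u) [AddCommGroup E] [Module R E] (f : IsLocalRing.ResidueField R →ₗ[R] E) (hf : InjHull.IsInjectiveHull f) (M : Type u) [AddCommGroup M] [Module R M] (hM : LocCoh.IsPowerTorsion (IsLocalRing.maximalIdeal R) M) (n : ℕ) [Module.Finite (R ⧸ IsLocalRing.maximalIdeal R) ↥(LocCoh.torsionBy (IsLocalRing.maximalIdeal R) M)] (hn : Module.finrank (R ⧸ IsLocalRing.maximalIdeal R) ↥(LocCoh.torsionBy (IsLocalRing.maximalIdeal R) M) = n) : ∃ g : M →ₗ[R] (Fin n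 → E), Function.Injective g := by
  classical
  haveI : Module.Injective R E := hf.isInjective
  haveI : Module.Free (R ⧸ IsLocalRing.maximalIdeal R)
      ↥(LocCoh.torsionBy (IsLocalRing.maximalIdeal R) M) := by
    letI : Field (R ⧸ IsLocalRing.maximalIdeal R) := Ideal.Quotient.field _
    exact Module.Free.of_divisionRing _ _
  let b : Module.Basis (Fin n) (R ⧸ IsLocalRing.maximalIdeal R)
      ↥(LocCoh.torsionBy (IsLocalRing.maximalIdeal R) M) := Module.finBasisOfFinrankEq _ _ hn
  let f' : (R ⧸ IsLocalRing.maximalIdeal R) →ₗ[R] E := f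
  have hf' : Function.Injective f' := hf.injective
  let h : ↥(LocCoh.torsionBy (IsLocalRing.maximalIdeal R) M) →ₗ[R] (Fin n → E) :=
    LinearMap.pi (fun i => f'.comp ((b.coord i).restrictScalars R))
  have hh : Function.Injective h := by
    rw [← LinearMap.ker_eq_bot, LinearMap.ker_eq_bot']
    intro s hs
    rw [← b.forall_coord_eq_zero_iff]
    intro i
    have h1 : f' (b.coord i s) = 0 := congrFun hs i
    exact hf' (h1.trans (map_zero f').symm)
  obtain ⟨g, hg⟩ := Module.Injective.extension_property R (Fin n → E)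
    ↥(LocCoh.torsionBy (IsLocalRing.maximalIdeal R) M) M
    (LocCoh.torsionBy (IsLocalRing.maximalIdeal R) M).subtype Subtype.val_injective h
  refine ⟨g, ?_⟩
  rw [← LinearMap.ker_eq_bot, LinearMap.ker_eq_bot']
  intro x hx
  by_contra hx0
  have hex := hM x
  obtain ⟨j, hj, hjmin⟩ : ∃ j, (∀ a ∈ IsLocalRing.maximalIdeal R ^ j, a • x = 0) ∧
      ∀ j' < j, ¬ ∀ a ∈ IsLocalRing.maximalIdeal R ^ j', a • x = 0 :=
    ⟨Nat.find hex, Nat.find_spec hex, fun j' hj' => Nat.find_min hex hj'⟩
  have hj0 : j ≠ 0 := by
    intro h0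
    apply hx0
    have := hj 1 (by rw [h0, pow_zero, Ideal.one_eq_top]; trivial)
    simpa using this
  obtain ⟨j', hj'⟩ := Nat.exists_eq_succ_of_ne_zero hj0
  have hmin := hjmin j' (by omega)
  push Not at hmin
  obtain ⟨a, ha, hax⟩ := hmin
  have hy : a • x ∈ LocCoh.torsionBy (IsLocalRing.maximalIdeal R) M := by
    rw [Submodule.mem_torsionBySet_iff]
    rintro ⟨c, hc⟩
    show c • a • x = 0
    rw [smul_smul]
    apply hj
    rw [hj', pow_succ']
    exact Ideal.mul_mem_mul hc ha
  have h0 : h ⟨a • x, hy⟩ = 0 := by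
    rw [← hg]
    show g (a • x) = 0
    rw [map_smul, hx, smul_zero]
  have h1 := hh (h0.trans (map_zero h).symm)
  exact hax (congrArg Subtype.val h1)

end Groth.Agent.S0310
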