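import Groth.Statements.S5756
import Groth.Agent.H26.DepthQuot
import Mathlib.RingTheory.Artinian.Module
import Mathlib.RingTheory.Artinian.Ring
import Mathlib.RingTheory.LocalRing.ResidueField.Defs
import Mathlib.Algebra.Module.Torsion.Basic
import Mathlib.RingTheory.Regular.LinearMap

set_option autoImplicit false
universe u
open EGA41

namespace Groth.Agent.S5756

lemma isArtinian_of_killed (A : Type u) [CommRing A] [IsLocalRing A] (N : Type u)
    [AddCommGroup N] [Module A N] [Module.Finite A N]
    (hN : ∀ a ∈ IsLocalRing.maximalIdeal A, ∀ x : N, a • x = 0) : IsArtinian A N := by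
  have hT : Module.IsTorsionBySet A N (IsLocalRing.maximalIdeal A : Set A) := by
    intro x a
    exact hN a.1 a.2 x
  letI : Module (A ⧸ IsLocalRing.maximalIdeal A) N := hT.module
  haveI : IsScalarTower A (A ⧸ IsLocalRing.maximalIdeal A) N := hT.isScalarTower
  haveI : Module.Finite (A ⧸ IsLocalRing.maximalIdeal A) N :=
    Module.Finite.of_restrictScalars_finite A _ N
  haveI : IsArtinianRing (A ⧸ IsLocalRing.maximalIdeal A) :=
    (inferInstance : IsArtinianRing (IsLocalRing.ResidueField A))
  haveI : IsArtinian (A ⧸ IsLocalRing.maximalIdeal A) N := inferInstance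
  exact isArtinian_of_surjective_algebraMap (R := A ⧸ IsLocalRing.maximalIdeal A)
    Ideal.Quotient.mk_surjective

lemma exists_regular_A (A B : Type u) [CommRing A] [CommRing B] [IsLocalRing A]
    [IsLocalRing B] [IsNoetherianRing A] [IsNoetherianRing B] [Algebra A B]
    (M : Type u) [AddCommGroup M] [Module B M] [Module A M] [IsScalarTower A B M]
    [Module.Finite A M] (b : B) (hb : b ∈ IsLocalRing.maximalIdeal B)
    (hbreg : IsSMulRegular M b) :
    ∃ a ∈ IsLocalRing.maximalIdeal A, IsSMulRegular M a := by
  haveI : Module.Finite B M := Module.Finite.of_restrictScalars_finite A B M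
  haveI : IsNoetherian B M := isNoetherian_of_isNoetherianRing_of_finite B M
  haveI : IsNoetherian A M := isNoetherian_of_isNoetherianRing_of_finite A M
  let N : Submodule B M :=
    { carrier := {m | ∀ a ∈ IsLocalRing.maximalIdeal A, a • m = 0}
      add_mem' := fun {x y} hx hy a ha => by rw [smul_add, hx a ha, hy a ha, add_zero]
      zero_mem' := fun a _ => smul_zero a
      smul_mem' := fun c m hm a ha => by rw [smul_comm, hm a ha, smul_zero] }
  have hNmem : ∀ m : M, m ∈ N ↔ ∀ a ∈ IsLocalRing.maximalIdeal A, a • m = 0 := fun m => Iff.rfl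
  have hN : N = ⊥ := by
    apply Submodule.eq_bot_of_le_smul_of_le_jacobson_bot (IsLocalRing.maximalIdeal B) N
      (IsNoetherian.noetherian N) ?_ (IsLocalRing.maximalIdeal_le_jacobson ⊥)
    intro x hx
    haveI : IsArtinian A (N.restrictScalars A) :=
      isArtinian_of_killed A _ (fun a ha y => Subtype.ext (y.2 a ha))
    let f : (N.restrictScalars A) →ₗ[A] (N.restrictScalars A) :=
      { toFun := fun y => ⟨b • y.1, N.smul_mem b y.2⟩
        map_add' := fun y y' => Subtype.ext (smul_add b y.1 y'.1)
        map_smul' := fun c y => Subtype.ext (smul_comm b c y.1) }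
    have hf : Function.Injective f := fun y y' h => Subtype.ext (hbreg (congrArg Subtype.val h))
    obtain ⟨y, hy⟩ := IsArtinian.surjective_of_injective_endomorphism f hf ⟨x, hx⟩
    have hxy : x = b • y.1 := (congrArg Subtype.val hy).symm
    rw [hxy]
    exact Submodule.smul_mem_smul hb y.2
  have hsub : Subsingleton ((A ⧸ IsLocalRing.maximalIdeal A) →ₗ[A] M) := by
    have hz : ∀ f : (A ⧸ IsLocalRing.maximalIdeal A) →ₗ[A] M, f = 0 := by
      intro f
      have h1 : f 1 ∈ N := by
        rw [hNmem]
        intro a ha
        rw [← map_smul]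
        have h2 : a • (1 : A ⧸ IsLocalRing.maximalIdeal A) = 0 := by
          rw [Algebra.smul_def, mul_one]
          exact Ideal.Quotient.eq_zero_iff_mem.2 ha
        rw [h2, map_zero]
      rw [hN, Submodule.mem_bot] at h1
      apply LinearMap.ext
      intro x
      obtain ⟨r, rfl⟩ := Ideal.Quotient.mk_surjective x
      have h3 : Ideal.Quotient.mk (IsLocalRing.maximalIdeal A) r =
          r • (1 : A ⧸ IsLocalRing.maximalIdeal A) := by
        rw [Algebra.smul_def, mul_one]
        rfl
      rw [h3, map_smul, h1, smul_zero]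
      rfl
    exact ⟨fun f g => (hz f).trans (hz g).symm⟩
  obtain ⟨a, ha, hareg⟩ := IsSMulRegular.subsingleton_linearMap_iff.mp hsub
  rw [Ideal.annihilator_quotient] at ha
  exact ⟨a, ha, hareg⟩

open Groth.Agent.H26.DepthLib Groth.Agent.H26.DepthQuot RingTheory.Sequence in
open scoped Pointwise in
lemma key (A B : Type u) [CommRing A] [CommRing B] [IsLocalRing A]
    [IsLocalRing B] [IsNoetherianRing A] [IsNoetherianRing B] [Algebra A B]
    [IsLocalHom (algebraMap A B)] :
    ∀ (n : ℕ) (M : Type u) [AddCommGroup M] [Module B M] [Module A M] [IsScalarTower A B M]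
      [Module.Finite A M],
      (n : ℕ∞) ≤ LocCoh.idealDepth (IsLocalRing.maximalIdeal B) M →
      (n : ℕ∞) ≤ LocCoh.idealDepth (IsLocalRing.maximalIdeal A) M := by
  intro n
  induction n with
  | zero =>
    intro M _ _ _ _ _ _
    simp
  | succ n ih =>
    intro M _ _ _ _ _ h
    by_cases hA : IsLocalRing.maximalIdeal A • (⊤ : Submodule A M) = ⊤
    · rw [idealDepth_eq_top_of_smul_top _ hA]
      exact le_top
    · haveI : Module.Finite B M := Module.Finite.of_restrictScalars_finite A B M
      have hBne : IsLocalRing.maximalIdeal B • (⊤ : Submodule B M) ≠ ⊤ := by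
        intro hB
        have hbot : (⊤ : Submodule B M) = ⊥ :=
          Submodule.eq_bot_of_le_smul_of_le_jacobson_bot (IsLocalRing.maximalIdeal B) ⊤
            Module.Finite.fg_top (le_of_eq hB.symm) (IsLocalRing.maximalIdeal_le_jacobson ⊥)
        have hsub : ∀ m : M, m = 0 := fun m =>
          (Submodule.mem_bot B).1 (hbot ▸ (Submodule.mem_top : m ∈ (⊤ : Submodule B M)))
        apply hA
        ext x
        simp only [Submodule.mem_top, iff_true]
        rw [hsub x]
        exact zero_mem _
      have h1 : ((1 : ℕ) : ℕ∞) ≤ LocCoh.idealDepth (IsLocalRing.maximalIdeal B) M :=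
        le_trans (by exact_mod_cast Nat.le_add_left 1 n) h
      obtain ⟨rs, hlen, hreg, hmem⟩ :=
        exists_of_le_idealDepth (IsLocalRing.maximalIdeal B) 1 h1 hBne
      obtain ⟨b, rfl⟩ := List.length_eq_one_iff.1 hlen
      rw [isWeaklyRegular_singleton_iff] at hreg
      obtain ⟨a, ha, hareg⟩ := exists_regular_A A B M b (hmem b (by simp)) hreg
      have hρ : IsSMulRegular M (algebraMap A B a) := by
        intro x y hxy
        apply hareg
        have h2 : algebraMap A B a • x = algebraMap A B a • y := hxy
        rw [algebraMap_smul, algebraMap_smul] at h2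
        exact h2
      have h2 := depth_quot (IsLocalRing.maximalIdeal B) M (algebraMap A B a) hρ n h
      haveI : Module.Finite A (QuotSMulTop (algebraMap A B a) M) := by
        refine Module.Finite.of_surjective
          (((algebraMap A B a) • (⊤ : Submodule B M)).mkQ.restrictScalars A) ?_
        intro y
        obtain ⟨x, rfl⟩ :=
          Submodule.mkQ_surjective ((algebraMap A B a) • (⊤ : Submodule B M)) y
        exact ⟨x, rfl⟩
      have h3 := ih (QuotSMulTop (algebraMap A B a) M) h2
      have heq : a • (⊤ : Submodule A M) =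
          ((algebraMap A B a) • (⊤ : Submodule B M)).restrictScalars A := by
        ext x
        rw [Submodule.restrictScalars_mem, Submodule.mem_smul_pointwise_iff_exists,
          Submodule.mem_smul_pointwise_iff_exists]
        constructor
        · rintro ⟨y, -, rfl⟩
          exact ⟨y, Submodule.mem_top, algebraMap_smul B a y⟩
        · rintro ⟨y, -, rfl⟩
          exact ⟨y, Submodule.mem_top, (algebraMap_smul B a y).symm⟩
      let e : QuotSMulTop a M ≃ₗ[A] QuotSMulTop (algebraMap A B a) M :=
        (Submodule.quotEquivOfEq _ _ heq).trans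
          (Submodule.Quotient.restrictScalarsEquiv A ((algebraMap A B a) • (⊤ : Submodule B M)))
      have h4 : (n : ℕ∞) ≤ LocCoh.idealDepth (IsLocalRing.maximalIdeal A) (QuotSMulTop a M) := by
        rw [idealDepth_congr (IsLocalRing.maximalIdeal A) e]
        exact h3
      exact depth_cons (IsLocalRing.maximalIdeal A) M a ha hareg n h4

/-- Suppose A and B are Noetherian local rings and ρ : A → B is a local homomorphism. Given a B-module M
that, viewed as an A-module through ρ, is finitely generated, the depth of M over A coincides with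
the depth of M over B. -/
theorem result (A B : Type u) [CommRing A] [CommRing B] [IsLocalRing A]
    [IsLocalRing B] [IsNoetherianRing A] [IsNoetherianRing B] [Algebra A B] [IsLocalHom (algebraMap A B)]
    (M : Type u) [AddCommGroup M] [Module B M] [Module A M] [IsScalarTower A B M] [Module.Finite A M] :
    LocCoh.depth A M = LocCoh.depth B M := by
  classical
  have hAB : ∀ n : ℕ, (n : ℕ∞) ≤ LocCoh.idealDepth (IsLocalRing.maximalIdeal A) M →
      (n : ℕ∞) ≤ LocCoh.idealDepth (IsLocalRing.maximalIdeal B) M := by
    intro n hn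
    haveI : Module.Finite B M := Module.Finite.of_restrictScalars_finite A B M
    by_cases hA : IsLocalRing.maximalIdeal A • (⊤ : Submodule A M) = ⊤
    · have hbot : (⊤ : Submodule A M) = ⊥ :=
        Submodule.eq_bot_of_le_smul_of_le_jacobson_bot (IsLocalRing.maximalIdeal A) ⊤
          Module.Finite.fg_top (le_of_eq hA.symm) (IsLocalRing.maximalIdeal_le_jacobson ⊥)
      have hsub : ∀ m : M, m = 0 := fun m =>
        (Submodule.mem_bot A).1 (hbot ▸ (Submodule.mem_top : m ∈ (⊤ : Submodule A M)))
      have hB : IsLocalRing.maximalIdeal B • (⊤ : Submodule B M) = ⊤ := by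
        ext x
        simp only [Submodule.mem_top, iff_true]
        rw [hsub x]
        exact zero_mem _
      rw [Groth.Agent.H26.DepthLib.idealDepth_eq_top_of_smul_top _ hB]
      exact le_top
    · obtain ⟨rs, hlen, hreg, hmem⟩ :=
        Groth.Agent.H26.DepthLib.exists_of_le_idealDepth (IsLocalRing.maximalIdeal A) n hn hA
      have hreg' := (RingTheory.Sequence.isWeaklyRegular_map_algebraMap_iff B M rs).2 hreg
      have hmem' : ∀ r ∈ rs.map (algebraMap A B), r ∈ IsLocalRing.maximalIdeal B := by
        intro r hr
        obtain ⟨a, ha, rfl⟩ := List.mem_map.1 hr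
        exact (IsLocalRing.mem_maximalIdeal _).2 (fun hu =>
          (IsLocalRing.mem_maximalIdeal a).1 (hmem a ha) (isUnit_of_map_unit (algebraMap A B) a hu))
      have h1 := Groth.Agent.H26.DepthLib.length_le_idealDepth (IsLocalRing.maximalIdeal B)
        hreg' hmem'
      rw [List.length_map, hlen] at h1
      exact h1
  exact le_antisymm (ENat.forall_natCast_le_iff_le.1 hAB)
    (ENat.forall_natCast_le_iff_le.1 (fun n hn => key A B n M hn))

end Groth.Agent.S5756
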