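import Groth.Statements.S14424
import Groth.Agent.H29.DepthFinite

set_option autoImplicit false
universe u
open LocCoh

namespace Groth.Agent.S14424

/-- Let R be a Noetherian ring. Then R is Cohen–Macaulay (every localization at a prime ideal is a
Cohen–Macaulay local ring) if and only if for every proper ideal a of R the a-depth of R equals the
height (codimension) of a. (The published statement defines a Cohen–Macaulay ring by its
localizations at maximal ideals; this row uses all prime ideals, an equivalent definition because
Cohen–Macaulayness passes to localizations.) -/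
theorem result (R : Type u) [CommRing R] [IsNoetherianRing R] :
    LocCoh.IsCohenMacaulayRing R ↔ ∀ a : Ideal R, a ≠ ⊤ → LocCoh.idealDepth a R = a.height := by
  have hself : ∀ (p : Ideal R) [p.IsPrime], LocCoh.depth (Localization.AtPrime p)
      (LocalizedModule p.primeCompl R) =
      LocCoh.depth (Localization.AtPrime p) (Localization.AtPrime p) := fun p _ =>
    Groth.Agent.H15.DepthSpread.idealDepth_congr (Groth.Agent.H29.DepthFinite.selfEquiv p.primeCompl)
  have hdim : ∀ (p : Ideal R) [p.IsPrime], Module.supportDim (Localization.AtPrime p)
      (Localization.AtPrime p) = ((p.height : ℕ∞) : WithBot ℕ∞) := fun p _ => by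
    rw [Module.supportDim_self_eq_ringKrullDim,
      IsLocalization.AtPrime.ringKrullDim_eq_height p (Localization.AtPrime p)]
  constructor
  · intro hCM a ha
    have hdepth : ∀ (p : Ideal R) [p.IsPrime], LocCoh.depth (Localization.AtPrime p)
        (LocalizedModule p.primeCompl R) = p.height := by
      intro p _
      rw [hself p]
      have h1 := (hCM.isCohenMacaulayLocalRing_localization p).supportDim_eq_depth
      rw [hdim p] at h1
      exact (WithBot.coe_injective h1).symm
    rw [Groth.Agent.H29.LocQuot.idealDepth_eq_iInf a R]
    apply le_antisymm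
    · rw [Ideal.height_eq_inf_minimalPrimes]
      refine le_iInf₂ fun J hJ => ?_
      haveI := hJ.1.1
      refine (iInf₂_le (⟨J, hJ.1.1⟩ : PrimeSpectrum R) hJ.1.2).trans ?_
      exact le_of_eq (hdepth J)
    · refine le_iInf₂ fun p hp => ?_
      rw [hdepth p.asIdeal]
      exact Ideal.height_mono hp
  · intro h
    refine ⟨fun p _ => ⟨?_⟩⟩
    have h1 := h p (Ideal.IsPrime.ne_top inferInstance)
    have h2 : (p.height : ℕ∞) ≤ LocCoh.depth (Localization.AtPrime p) (Localization.AtPrime p) := by
      have h3 := Groth.Agent.H29.LocQuot.idealDepth_le_depth_atPrime_of_le (M := R) p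
        ⟨p, inferInstance⟩ le_rfl
      rw [h1] at h3
      exact h3.trans (le_of_eq (hself p))
    have h4 := Groth.Agent.H29.CM.depth_le_supportDim (A := Localization.AtPrime p)
      (M := Localization.AtPrime p)
    rw [hdim p] at h4 ⊢
    exact congrArg _ (le_antisymm h2 (WithBot.coe_le_coe.mp h4))

end Groth.Agent.S14424
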