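import Groth.Statements.S0311
import Mathlib.RingTheory.Filtration
import Mathlib.RingTheory.LocalRing.ResidueField.Basic

set_option autoImplicit false
universe u v
open Matlis

namespace Groth.Agent.S0311

/-- Over a Noetherian local ring, every element of an injective hull E of the residue field is killed by
some power of the maximal ideal (E is the union of the E[m^n]). (The source also identifies E[m^n]
with an injective hull of the residue field over R/m^n; not stated here.) -/
theorem result (R : Type u) [CommRing R] [IsLocalRing R] [IsNoetherianRing R] (E : Type u) [AddCommGroup E] [Module R E] (f : IsLocalRing.ResidueField R →ₗ[R] E) (hf : InjHull.IsInjectiveHull f) : LocCoh.IsPowerTorsion (IsLocalRing.maximalIdeal R) E := by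
  classical
  intro x
  have he0 : f 1 ≠ 0 := fun h0 => one_ne_zero (hf.injective (h0.trans (map_zero f).symm))
  have hkill : ∀ a ∈ IsLocalRing.maximalIdeal R, ∀ t : IsLocalRing.ResidueField R,
      a • f t = 0 := by
    intro a ha t
    rw [← map_smul, Algebra.smul_def, IsLocalRing.ResidueField.algebraMap_eq,
      (IsLocalRing.residue_eq_zero_iff a).mpr ha, zero_mul, map_zero]
  have hmem : ∀ N : Submodule R E, N ≠ ⊥ → f 1 ∈ N := by
    intro N hN
    have := hf.essential N hN
    obtain ⟨y, hy, hy0⟩ := (Submodule.ne_bot_iff _).mp this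
    obtain ⟨hyN, hyr⟩ := Submodule.mem_inf.mp hy
    obtain ⟨t, rfl⟩ := LinearMap.mem_range.mp hyr
    have ht : t ≠ 0 := fun h => hy0 (by rw [h, map_zero])
    obtain ⟨s, hs⟩ := IsLocalRing.residue_surjective (R := R) t⁻¹
    have : f 1 = s • f t := by
      rw [← map_smul, Algebra.smul_def, IsLocalRing.ResidueField.algebraMap_eq, hs,
        inv_mul_cancel₀ ht]
    rw [this]; exact N.smul_mem s hyN
  let φ : R →ₗ[R] E := LinearMap.toSpanSingleton R E x
  have hφ : ∀ r : R, φ r = r • x := fun r => rfl
  let J : Submodule R R := Submodule.comap φ (LinearMap.range f)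
  obtain ⟨c, hc⟩ := Ideal.exists_pow_inf_eq_pow_smul (IsLocalRing.maximalIdeal R) J
  refine ⟨c + 1, fun a ha => ?_⟩
  by_contra hax
  let N : Submodule R E := Submodule.map φ (IsLocalRing.maximalIdeal R ^ (c+1))
  have hN : N ≠ ⊥ := by
    intro hN
    have : a • x ∈ N := Submodule.mem_map.mpr ⟨a, ha, hφ a⟩
    rw [hN, Submodule.mem_bot] at this
    exact hax this
  obtain ⟨r, hr, hrx⟩ := Submodule.mem_map.mp (hmem N hN)
  have hrJ : r ∈ J := by
    show φ r ∈ LinearMap.range f
    rw [hrx]; exact ⟨1, rfl⟩
  have hr' : r ∈ IsLocalRing.maximalIdeal R ^ (c+1) • (⊤ : Submodule R R) ⊓ J := by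
    refine ⟨?_, hrJ⟩
    have := Submodule.smul_mem_smul hr (Submodule.mem_top (x := (1:R)))
    simpa using this
  rw [hc (c+1) (by omega), Nat.add_sub_cancel_left, pow_one] at hr'
  have hle : IsLocalRing.maximalIdeal R •
      (IsLocalRing.maximalIdeal R ^ c • (⊤ : Submodule R R) ⊓ J) ≤ LinearMap.ker φ := by
    rw [Submodule.smul_le]
    intro a ha b hb
    obtain ⟨t, ht⟩ := LinearMap.mem_range.mp (show φ b ∈ LinearMap.range f from hb.2)
    rw [LinearMap.mem_ker, map_smul, ← ht]
    exact hkill a ha t
  have := hle hr'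
  rw [LinearMap.mem_ker, hrx] at this
  exact he0 this

end Groth.Agent.S0311
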