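import Groth.Statements.S5665
import Mathlib.Algebra.Category.ModuleCat.Ext.Basic
import Mathlib.Algebra.Category.ModuleCat.Projective
import Mathlib.Algebra.Homology.DerivedCategory.Ext.ExactSequences
import Mathlib.Algebra.Homology.DerivedCategory.Ext.EnoughProjectives
import Mathlib.RingTheory.Regular.Category
import Mathlib.RingTheory.Regular.RegularSequence
-- import your own Groth.Agent.* helpers here

set_option autoImplicit false
universe u
open CategoryTheory
open Dual

namespace Groth.Agent.S5665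

open CategoryTheory.Abelian RingTheory.Sequence Pointwise

section helpers

variable {A : Type u} [CommRing A]

/-- `Ext` is invariant under isomorphisms in the first variable (linear version). -/
noncomputable def extCongrLeft {N N' : ModuleCat.{u} A} (e : N ≅ N') (M : ModuleCat.{u} A)
    (i : ℕ) : Ext.{u} N M i ≃ₗ[A] Ext.{u} N' M i where
  toFun z := (Ext.mk₀ e.inv).comp z (zero_add i)
  invFun z := (Ext.mk₀ e.hom).comp z (zero_add i)
  map_add' := by intros; simp
  map_smul' := by intros; simp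
  left_inv z := by
    simp only
    rw [Ext.mk₀_comp_mk₀_assoc, e.hom_inv_id, Ext.mk₀_id_comp]
  right_inv z := by
    simp only
    rw [Ext.mk₀_comp_mk₀_assoc, e.inv_hom_id, Ext.mk₀_id_comp]

theorem step_vanish (N M : ModuleCat.{u} A) (x : A) (hx : IsSMulRegular N x) (k : ℕ)
    (hvan : ∀ i : ℕ, k < i → ∀ e : Ext.{u} N M i, e = 0) :
    ∀ i : ℕ, k + 1 < i → ∀ e : Ext.{u} (ModuleCat.of A (QuotSMulTop x N)) M i, e = 0 := by
  intro i hi e
  have hS := hx.smulShortComplex_shortExact
  obtain ⟨j, rfl⟩ : ∃ j, i = j + 1 := ⟨i - 1, by omega⟩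
  have h1 : (Ext.mk₀ (N.smulShortComplex x).g).comp e (zero_add (j + 1)) = 0 :=
    hvan (j + 1) (by omega) _
  obtain ⟨x₁, hx₁⟩ := Ext.contravariant_sequence_exact₃ hS M e h1 (show 1 + j = j + 1 by omega)
  have hx0 : x₁ = 0 := hvan j (by omega) x₁
  subst hx0
  rw [← hx₁, Ext.comp_zero]
  rfl

theorem step_iso (N M : ModuleCat.{u} A) (x : A) (hx : IsSMulRegular N x) (k : ℕ)
    (hvan : ∀ e : Ext.{u} N M (k + 1), e = 0) :
    Nonempty (Ext.{u} (ModuleCat.of A (QuotSMulTop x N)) M (k + 1) ≃ₗ[A]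
      QuotSMulTop x (Ext.{u} N M k)) := by
  have hS := hx.smulShortComplex_shortExact
  let δ : Ext.{u} N M k →ₗ[A] Ext.{u} (ModuleCat.of A (QuotSMulTop x N)) M (k + 1) :=
    hS.extClass.precompOfLinear A M (show 1 + k = k + 1 by omega)
  have hsurj : Function.Surjective δ := by
    intro e
    have h1 : (Ext.mk₀ (N.smulShortComplex x).g).comp e (zero_add (k + 1)) = 0 := hvan _
    obtain ⟨x₁, hx₁⟩ :=
      Ext.contravariant_sequence_exact₃ hS M e h1 (show 1 + k = k + 1 by omega)
    exact ⟨x₁, hx₁⟩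
  have hsmul : ∀ x₂ : Ext.{u} N M k,
      x • x₂ = (Ext.mk₀ (N.smulShortComplex x).f).comp x₂ (zero_add k) := by
    intro x₂
    have h0 : (Ext.mk₀ (N.smulShortComplex x).f).comp x₂ (zero_add k) =
        (Ext.mk₀ (x • 𝟙 N)).comp x₂ (zero_add k) := rfl
    rw [h0, Ext.mk₀_smul, Ext.smul_comp, Ext.mk₀_id_comp]
  have hker : LinearMap.ker δ = x • (⊤ : Submodule A (Ext.{u} N M k)) := by
    ext z
    rw [LinearMap.mem_ker, Submodule.mem_smul_pointwise_iff_exists]
    constructor
    · intro hz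
      obtain ⟨x₂, hx₂⟩ :=
        Ext.contravariant_sequence_exact₁ hS M z (show 1 + k = k + 1 by omega) hz
      refine ⟨x₂, trivial, ?_⟩
      rw [← hx₂]
      exact hsmul x₂
    · rintro ⟨x₂, -, rfl⟩
      show hS.extClass.comp (x • x₂) (show 1 + k = k + 1 by omega) = 0
      rw [hsmul x₂]
      exact hS.extClass_comp_assoc x₂
  exact ⟨((LinearMap.quotKerEquivOfSurjective δ hsurj).symm.trans
    (Submodule.quotEquivOfEq _ _ hker))⟩

theorem main (xs : List A) (hreg : IsWeaklyRegular A xs) (M : ModuleCat.{u} A) :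
    (∀ i : ℕ, xs.length < i → ∀ e : Ext.{u}
        (ModuleCat.of A (A ⧸ (Ideal.ofList xs • ⊤ : Submodule A A))) M i, e = 0) ∧
    Nonempty (Ext.{u} (ModuleCat.of A (A ⧸ (Ideal.ofList xs • ⊤ : Submodule A A))) M xs.length
      ≃ₗ[A] (M ⧸ (Ideal.ofList xs • ⊤ : Submodule A M))) := by
  induction xs using List.reverseRecOn with
  | nil =>
    have hbot : (Ideal.ofList ([] : List A) • ⊤ : Submodule A A) = ⊥ := by simp
    have hbotM : (Ideal.ofList ([] : List A) • ⊤ : Submodule A M) = ⊥ := by simp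
    let e₀ : (A ⧸ (Ideal.ofList ([] : List A) • ⊤ : Submodule A A)) ≃ₗ[A] A :=
      Submodule.quotEquivOfEqBot _ hbot
    have : Module.Projective A (A ⧸ (Ideal.ofList ([] : List A) • ⊤ : Submodule A A)) :=
      Module.Projective.of_equiv e₀.symm
    have : Projective (ModuleCat.of A (A ⧸ (Ideal.ofList ([] : List A) • ⊤ : Submodule A A))) :=
      (IsProjective.iff_projective _).1 inferInstance
    refine ⟨?_, ?_⟩
    · intro i hi e
      obtain ⟨j, rfl⟩ : ∃ j, i = j + 1 := ⟨i - 1, by simp at hi; omega⟩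
      exact Ext.eq_zero_of_projective e
    · exact ⟨(Ext.linearEquiv₀ (R := A)).trans ((ModuleCat.homLinearEquiv (S := A)).trans
        ((LinearEquiv.congrLeft M A e₀).trans ((LinearMap.ringLmapEquivSelf A A M).trans
          (Submodule.quotEquivOfEqBot _ hbotM).symm)))⟩
  | append_singleton ys x ih =>
    obtain ⟨hys, hx1⟩ := (isWeaklyRegular_append_iff A ys [x]).1 hreg
    have hx : IsSMulRegular (A ⧸ (Ideal.ofList ys • ⊤ : Submodule A A)) x :=
      (isWeaklyRegular_singleton_iff _ x).1 hx1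
    obtain ⟨ihv, ⟨ihe⟩⟩ := ih hys
    have v' := step_vanish (ModuleCat.of A (A ⧸ (Ideal.ofList ys • ⊤ : Submodule A A))) M x hx
      ys.length ihv
    obtain ⟨e'⟩ := step_iso (ModuleCat.of A (A ⧸ (Ideal.ofList ys • ⊤ : Submodule A A))) M x hx
      ys.length (ihv (ys.length + 1) (by omega))
    have heq : Ideal.ofList (ys ++ [x]) = Ideal.ofList (x :: ys) := by
      rw [Ideal.ofList_append, Ideal.ofList_singleton, Ideal.ofList_cons, sup_comm]
    let φ : (A ⧸ (Ideal.ofList (ys ++ [x]) • ⊤ : Submodule A A)) ≃ₗ[A]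
        QuotSMulTop x (A ⧸ (Ideal.ofList ys • ⊤ : Submodule A A)) :=
      (Submodule.quotEquivOfEq _ _ (by rw [heq])).trans
        (Submodule.quotOfListConsSMulTopEquivQuotSMulTopOuter A x ys)
    let ψ : (M ⧸ (Ideal.ofList (ys ++ [x]) • ⊤ : Submodule A M)) ≃ₗ[A]
        QuotSMulTop x (M ⧸ (Ideal.ofList ys • ⊤ : Submodule A M)) :=
      (Submodule.quotEquivOfEq _ _ (by rw [heq])).trans
        (Submodule.quotOfListConsSMulTopEquivQuotSMulTopOuter M x ys)
    have hl : (ys ++ [x]).length = ys.length + 1 := by simp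
    rw [hl]
    refine ⟨?_, ?_⟩
    · intro i hi e
      apply (extCongrLeft φ.toModuleIso M i).injective
      rw [map_zero]
      exact v' i hi _
    · exact ⟨(extCongrLeft φ.toModuleIso M (ys.length + 1)).trans
        (e'.trans ((QuotSMulTop.congr x ihe).trans ψ.symm))⟩

end helpers

/-- Let `A` be a commutative ring, `xs = (x_1, …, x_p)` a sequence in `A` such that each `x_i` is a
non-zero-divisor on `A/(x_1, …, x_{i-1})`, `J` the ideal generated by the `x_i` and `M` any
`A`-module. Then `Ext^p_A(A/J, M)` is isomorphic, as an `A`-module, to `M/JM`. (Existence of an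
`A`-linear isomorphism only; the published isomorphism is the one induced by the Koszul complex of
`xs`.) -/
theorem result (A : Type u) [CommRing A] (xs : List A) (hreg : RingTheory.Sequence.IsWeaklyRegular A xs) (M : Type u) [AddCommGroup M] [Module A M] : Nonempty (Abelian.Ext (ModuleCat.of A (A ⧸ Ideal.ofList xs)) (ModuleCat.of A M) xs.length ≃ₗ[A] (M ⧸ (Ideal.ofList xs • (⊤ : Submodule A M)))) := by
  obtain ⟨-, ⟨e⟩⟩ := main xs hreg (ModuleCat.of A M)
  have hI : (Ideal.ofList xs • ⊤ : Submodule A A) = Ideal.ofList xs := by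
    simp
  let φ : (A ⧸ (Ideal.ofList xs • ⊤ : Submodule A A)) ≃ₗ[A] (A ⧸ Ideal.ofList xs) :=
    Submodule.quotEquivOfEq _ _ hI
  exact ⟨(extCongrLeft φ.toModuleIso (ModuleCat.of A M) xs.length).symm.trans e⟩

end Groth.Agent.S5665
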