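import Groth.Statements.S18637
import Groth.Agent.H98.BaerMax
import Groth.Agent.H98.GrTor

set_option autoImplicit false
universe u
open GrLC

namespace Groth.Agent.S18637

/-- Let R be a commutative Noetherian ℤ-graded ring and m a maximal ideal of R which is graded. If e :
R/m → E is a *injective envelope of R/m in the category of graded R-modules (E graded and
*injective, e degree-preserving and injective, every nonzero graded submodule of E meeting the
image), then e is an injective hull of R/m as an ordinary R-module: E is an injective R-module and e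
is an essential injection. -/
theorem result (R : Type u) [CommRing R] [IsNoetherianRing R] (𝒜 : ℤ → AddSubgroup R) [GradedRing 𝒜] (m : HomogeneousIdeal 𝒜) [m.toIdeal.IsMaximal] (E' : Type u) [AddCommGroup E'] [Module R E'] (𝓔 : ℤ → AddSubgroup E') [DirectSum.Decomposition 𝓔] [SetLike.GradedSMul 𝒜 𝓔] (e : (R ⧸ m.toIdeal) →ₗ[R] E') (he : GrLC.IsStarInjHull 𝒜 (GrLC.quotGr 𝒜 m) 𝓔 e) : InjHull.IsInjectiveHull e := by
  classical
  have hE : GrLC.IsStarInj 𝒜 𝓔 := he.starInj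
  have hess : Groth.Agent.H98.GrCat.EssIn 𝓔 (LinearMap.range e) ⊤ :=
    Groth.Agent.H98.GrCat.essIn_of_isStarEss 𝒜 𝓔 (GrLC.quotGr 𝒜 m) he.toIsStarEss
  have hrange : LinearMap.range e ≤ GrLC.gam m.toIdeal E' := by
    rintro _ ⟨a, rfl⟩
    refine ⟨1, fun r hr => ?_⟩
    rw [pow_one] at hr
    rw [← map_smul, Groth.Agent.H98.GrCat.quot_smul_eq_zero m.toIdeal a hr, map_zero]
  have htor' := Groth.Agent.H98.GrCat.ess_le_gam 𝒜 𝓔 m
    (Groth.Agent.H98.GrCat.top_isHomogeneous 𝓔) hess hrange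
  have htor : ∀ x : E', ∃ n : ℕ, ∀ r ∈ m.toIdeal ^ n, r • x = 0 :=
    fun x => htor' Submodule.mem_top
  have hBm : ∀ ψ : m.toIdeal →ₗ[R] E', ∃ y : E', ∀ t : m.toIdeal, ψ t = (t : R) • y := by
    intro ψ
    obtain ⟨ψ', hψ'⟩ : ∃ ψ' : R →ₗ[R] E', ∀ x : m.toIdeal, ψ' (x : R) = ψ x :=
      Groth.Agent.H98.GrCat.exists_extension 𝒜 𝓔 hE (GrLC.GMod.of 𝒜 R 𝒜)
        m.toIdeal m.isHomogeneous
        (IsNoetherian.noetherian (m.toIdeal : Submodule R R) : (m.toIdeal : Submodule R R).FG) ψ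
    refine ⟨ψ' (1 : R), fun t => ?_⟩
    rw [← hψ' t, ← map_smul, smul_eq_mul, mul_one]
  have hbaer := Groth.Agent.H98.BaerMax.baer_of_maximal m.toIdeal htor hBm
  have h1 : e 1 ∈ 𝓔 0 := he.grHom 0 1 (Groth.Agent.H98.GrCat.one_mem_quotGr 𝒜 m)
  refine ⟨⟨he.injective, fun N hN => ?_⟩, hbaer.injective⟩
  obtain ⟨x, hxN, hx0⟩ := Submodule.exists_mem_ne_zero_of_ne_bot hN
  obtain ⟨s, a, hsa, ha0⟩ := Groth.Agent.H98.GrCat.quot_ess_all 𝒜 𝓔 m.toIdeal
    (GrLC.quotGr 𝒜 m) e he.toIsStarEss h1 x hx0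
  intro hbot
  have h2 : e a ∈ N ⊓ LinearMap.range e := ⟨by rw [hsa]; exact N.smul_mem s hxN, a, rfl⟩
  rw [hbot] at h2
  exact ha0 (he.injective (by rw [(Submodule.mem_bot R).1 h2, map_zero]))

end Groth.Agent.S18637
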