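import Groth.Statements.S5770
import Mathlib
import Groth.Agent.S3406

set_option autoImplicit false
set_option linter.style.haveILetI false
set_option linter.unusedSectionVars false
set_option linter.unusedVariables false
universe u
open EGA41

namespace Groth.Agent.S5770

section Helpers

open PrimeSpectrum TensorProduct

theorem sd_le_nat {A : Type u} [CommRing A] [IsNoetherianRing A] [Finite (MaximalSpectrum A)]
    (N : Type u) [AddCommGroup N] [Module A N] [Module.Finite A N] :
    ∃ n₀ : ℕ, Module.supportDim A N ≤ (n₀ : WithBot ℕ∞) := by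
  obtain ⟨n₀, x₀, hspan⟩ := Submodule.fg_iff_exists_fin_generating_family.mp
    (IsNoetherian.noetherian (Ring.jacobson A))
  have hx₀ : ∀ i, x₀ i ∈ Ring.jacobson A := fun i => by
    rw [← hspan]; exact Submodule.subset_span ⟨i, rfl⟩
  refine ⟨n₀, ?_⟩
  have h0 : Order.krullDim ↥(Module.support A N ∩ zeroLocus (Set.range x₀)) ≤ 0 := by
    apply Groth.Agent.S3406.krullDim_le_zero_of_forall_isMaximal
    rintro P ⟨-, hP⟩
    apply Groth.Agent.S3406.isMaximal_of_jacobson_le A P.2
    rw [← hspan]
    exact Submodule.span_le.mpr ((PrimeSpectrum.mem_zeroLocus _ _).mp hP)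
  calc Module.supportDim A N ≤ _ + (n₀ : ℕ) := Groth.Agent.S3406.supportDim_le_add A n₀ N x₀ hx₀
    _ ≤ 0 + (n₀ : ℕ) := by gcongr
    _ = (n₀ : WithBot ℕ∞) := zero_add _

theorem sd_eq_nat {A : Type u} [CommRing A] [IsNoetherianRing A] [Finite (MaximalSpectrum A)]
    (N : Type u) [AddCommGroup N] [Module A N] [Module.Finite A N]
    (hnb : Module.supportDim A N ≠ ⊥) :
    ∃ d : ℕ, Module.supportDim A N = (d : WithBot ℕ∞) := by
  obtain ⟨n₀, hbound⟩ := sd_le_nat (A := A) N
  obtain ⟨a, ha⟩ := WithBot.ne_bot_iff_exists.mp hnb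
  rw [← ha] at hbound
  have ha' : a ≤ (n₀ : ℕ∞) := by exact_mod_cast hbound
  obtain ⟨m, rfl⟩ := ENat.ne_top_iff_exists.mp (ne_top_of_le_ne_top (ENat.natCast_ne_top n₀) ha')
  exact ⟨m, ha.symm⟩

variable (A B : Type u) [CommRing A] [CommRing B] [Algebra A B]
  (M : Type u) [AddCommGroup M] [Module A M] (N : Type u) [AddCommGroup N] [Module B N]
  [Module A N] [IsScalarTower A B N]

theorem finite_tensor [Module.Finite A M] [Module.Finite B N] : Module.Finite B (N ⊗[A] M) :=
  Module.Finite.equiv (TensorProduct.AlgebraTensorModule.cancelBaseChange A B B N M)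

theorem ann_left_le : Module.annihilator B N ≤ Module.annihilator B (N ⊗[A] M) := by
  intro b hb
  rw [Module.mem_annihilator] at hb ⊢
  intro z
  induction z with
  | zero => exact smul_zero _
  | tmul n m => rw [TensorProduct.smul_tmul', hb n, TensorProduct.zero_tmul]
  | add a b ha hb => rw [smul_add, ha, hb, add_zero]

theorem ann_right_le : (Module.annihilator A M).map (algebraMap A B) ≤
    Module.annihilator B (N ⊗[A] M) := by
  rw [Ideal.map_le_iff_le_comap]
  intro a ha
  rw [Ideal.mem_comap, Module.mem_annihilator]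
  rw [Module.mem_annihilator] at ha
  intro z
  induction z with
  | zero => exact smul_zero _
  | tmul n m =>
    rw [TensorProduct.smul_tmul', algebraMap_smul, TensorProduct.smul_tmul, ha m,
      TensorProduct.tmul_zero]
  | add a b ha hb => rw [smul_add, ha, hb, add_zero]

theorem supp_tensor_left [Module.Finite B N] (p : PrimeSpectrum B)
    (hp : p ∈ Module.support B (N ⊗[A] M)) : p ∈ Module.support B N := by
  rw [Module.mem_support_iff_of_finite]
  exact (ann_left_le A B M N).trans (Module.annihilator_le_of_mem_support hp)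

theorem supp_tensor_right [Module.Finite A M] (p : PrimeSpectrum B)
    (hp : p ∈ Module.support B (N ⊗[A] M)) :
    PrimeSpectrum.comap (algebraMap A B) p ∈ Module.support A M := by
  rw [Module.mem_support_iff_of_finite]
  have h1 := (ann_right_le A B M N).trans (Module.annihilator_le_of_mem_support hp)
  rw [Ideal.map_le_iff_le_comap] at h1
  exact h1

theorem subsingleton_tensor [Subsingleton M] : Subsingleton (N ⊗[A] M) :=
  ⟨fun a b => by
    have h0 : ∀ z : N ⊗[A] M, z = 0 := fun z => by
      induction z with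
      | zero => rfl
      | tmul n m => rw [Subsingleton.elim m 0, TensorProduct.tmul_zero]
      | add a b ha hb => rw [ha, hb, add_zero]
    rw [h0 a, h0 b]⟩

end Helpers


open TensorProduct in
/-- Let φ : A → B be a local homomorphism of Noetherian local rings, m the maximal ideal of A, k = A/m,
M a finitely generated A-module and N a finitely generated B-module. Then dim_B(M ⊗_A N) ≤ dim_A(M)
+ dim(N ⊗_A k), the last dimension being that of N/mN (over B ⊗_A k or, equivalently by finiteness,
over B). -/
theorem result (A B : Type u) [CommRing A] [CommRing B] [IsLocalRing A]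
    [IsLocalRing B] [IsNoetherianRing A] [IsNoetherianRing B] [Algebra A B] [IsLocalHom (algebraMap A B)]
    (M : Type u) [AddCommGroup M] [Module A M] [Module.Finite A M] (N : Type u) [AddCommGroup N] [Module B N]
    [Module A N] [IsScalarTower A B N] [Module.Finite B N] :
    Module.supportDim B (N ⊗[A] M) ≤ Module.supportDim A M +
      Module.supportDim B (N ⧸ ((IsLocalRing.maximalIdeal A).map (algebraMap A B) • (⊤ : Submodule B N))) := by
  haveI hfin : Module.Finite B (N ⊗[A] M) := finite_tensor A B M N
  rcases subsingleton_or_nontrivial M with hM | hM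
  · haveI := subsingleton_tensor A M N
    rw [Module.supportDim_eq_bot_of_subsingleton B (N ⊗[A] M)]
    exact bot_le
  obtain ⟨d, hd⟩ := sd_eq_nat (A := A) M (Module.supportDim_ne_bot_of_nontrivial A M)
  obtain ⟨x, hx, hK⟩ := Groth.Agent.S3406.exists_of_supportDim_le A d M hd.le
  have hjA : Ring.jacobson A = IsLocalRing.maximalIdeal A :=
    IsLocalRing.ringJacobson_eq_maximalIdeal A
  have hjB : Ring.jacobson B = IsLocalRing.maximalIdeal B :=
    IsLocalRing.ringJacobson_eq_maximalIdeal B
  have hloc : ∀ a : A, a ∈ IsLocalRing.maximalIdeal A →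
      algebraMap A B a ∈ IsLocalRing.maximalIdeal B := by
    intro a ha
    rw [IsLocalRing.mem_maximalIdeal, mem_nonunits_iff] at ha ⊢
    exact fun hu => ha (isUnit_of_map_unit (algebraMap A B) a hu)
  have hx' : ∀ i, (fun i => algebraMap A B (x i)) i ∈ Ring.jacobson B := by
    intro i
    rw [hjB]
    exact hloc _ (hjA ▸ hx i)
  have h1 := Groth.Agent.S3406.supportDim_le_add B d (N ⊗[A] M)
    (fun i => algebraMap A B (x i)) hx'
  have hsub : Module.support B (N ⊗[A] M) ∩
      PrimeSpectrum.zeroLocus (Set.range (fun i => algebraMap A B (x i))) ⊆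
      Module.support B (N ⧸ ((IsLocalRing.maximalIdeal A).map (algebraMap A B) •
        (⊤ : Submodule B N))) := by
    rintro p ⟨hp1, hp2⟩
    rw [Module.support_quotient]
    refine ⟨supp_tensor_left A B M N p hp1, ?_⟩
    rw [PrimeSpectrum.mem_zeroLocus, SetLike.coe_subset_coe, Ideal.map_le_iff_le_comap]
    have hq1 := supp_tensor_right A B M N p hp1
    have hq2 : PrimeSpectrum.comap (algebraMap A B) p ∈
        PrimeSpectrum.zeroLocus (Set.range x) := by
      rw [PrimeSpectrum.mem_zeroLocus]
      rintro _ ⟨i, rfl⟩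
      rw [PrimeSpectrum.mem_zeroLocus] at hp2
      exact hp2 ⟨i, rfl⟩
    have hle : (PrimeSpectrum.comap (algebraMap A B) p).asIdeal ≤ IsLocalRing.maximalIdeal A :=
      IsLocalRing.le_maximalIdeal (PrimeSpectrum.comap (algebraMap A B) p).2.ne_top
    have hc1 : IsLocalRing.closedPoint A ∈ Module.support A M :=
      Module.mem_support_mono (p := PrimeSpectrum.comap (algebraMap A B) p) hle hq1
    have hc2 : IsLocalRing.closedPoint A ∈ PrimeSpectrum.zeroLocus (Set.range x) := by
      rw [PrimeSpectrum.mem_zeroLocus]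
      rintro _ ⟨i, rfl⟩
      show x i ∈ IsLocalRing.maximalIdeal A
      rw [← hjA]
      exact hx i
    have hmax := (Order.krullDim_nonpos_iff_forall_isMax.mp hK)
      ⟨PrimeSpectrum.comap (algebraMap A B) p, hq1, hq2⟩
    have := @hmax ⟨IsLocalRing.closedPoint A, hc1, hc2⟩ hle
    exact this
  have h2 : Order.krullDim ↥(Module.support B (N ⊗[A] M) ∩
      PrimeSpectrum.zeroLocus (Set.range (fun i => algebraMap A B (x i)))) ≤
      Module.supportDim B (N ⧸ ((IsLocalRing.maximalIdeal A).map (algebraMap A B) •
        (⊤ : Submodule B N))) :=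
    Order.krullDim_le_of_strictMono (Set.inclusion hsub) (fun a b hab => hab)
  calc Module.supportDim B (N ⊗[A] M) ≤ _ + (d : ℕ) := h1
    _ ≤ Module.supportDim B (N ⧸ ((IsLocalRing.maximalIdeal A).map (algebraMap A B) •
        (⊤ : Submodule B N))) + (d : ℕ) := by gcongr
    _ = _ := by rw [hd, add_comm]

end Groth.Agent.S5770
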