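import Groth.Statements.S8819


set_option autoImplicit false
universe u
open scoped BigOperators
open LocCoh

namespace Groth.Agent.S8819

section helpers

open MvPolynomial

variable {A : Type u} [CommRing A] {r : ℕ} (f : Fin r → A) (I : Ideal A) {c : ℕ}
  (φ : Fin r → (↥(I ^ c) →ₗ[A] A))

open Classical in
/-- extension of φ_j by zero -/
noncomputable def ψ (j : Fin r) (g : A) : A :=
  if hg : g ∈ I ^ c then φ j ⟨g, hg⟩ else 0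

theorem ψ_of_mem (j : Fin r) {g : A} (hg : g ∈ I ^ c) : ψ I φ j g = φ j ⟨g, hg⟩ := by
  unfold ψ
  rw [dif_pos hg]

theorem ψ_add (j : Fin r) {g h : A} (hg : g ∈ I ^ c) (hh : h ∈ I ^ c) :
    ψ I φ j (g + h) = ψ I φ j g + ψ I φ j h := by
  rw [ψ_of_mem I φ j hg, ψ_of_mem I φ j hh, ψ_of_mem I φ j (Ideal.add_mem _ hg hh), ← map_add]
  rfl

theorem ψ_mul (j : Fin r) (a : A) {g : A} (hg : g ∈ I ^ c) :
    ψ I φ j (a * g) = a * ψ I φ j g := by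
  rw [ψ_of_mem I φ j hg, ψ_of_mem I φ j (Ideal.mul_mem_left _ a hg)]
  have : (⟨a * g, Ideal.mul_mem_left _ a hg⟩ : ↥(I ^ c)) = a • ⟨g, hg⟩ := rfl
  rw [this, map_smul, smul_eq_mul]

theorem mem_pow_c {n : ℕ} {g : A} (hg : g ∈ I ^ ((n + 1) * c)) : g ∈ I ^ c :=
  Ideal.pow_le_pow_right (Nat.le_mul_of_pos_left c (Nat.succ_pos n)) hg

theorem ψ_mem (j : Fin r) (n : ℕ) {g : A} (hg : g ∈ I ^ ((n + 1) * c)) :
    ψ I φ j g ∈ I ^ (n * c) := by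
  rw [Nat.succ_mul, pow_add] at hg
  have key : g ∈ I ^ c ∧ ψ I φ j g ∈ I ^ (n * c) := by
    refine Submodule.mul_induction_on
      (C := fun g => g ∈ I ^ c ∧ ψ I φ j g ∈ I ^ (n * c)) hg ?_ ?_
    · intro a ha b hb
      refine ⟨Ideal.mul_mem_left _ a hb, ?_⟩
      rw [ψ_mul I φ j a hb]
      exact Ideal.mul_mem_right _ _ ha
    · rintro x y ⟨hx, hx'⟩ ⟨hy, hy'⟩
      refine ⟨Ideal.add_mem _ hx hy, ?_⟩
      rw [ψ_add I φ j hx hy]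
      exact Ideal.add_mem _ hx' hy'
  exact key.2

/-- the graded map -/
noncomputable def Φ : ℕ → A → MvPolynomial (Fin r) A
  | 0, g => C g
  | n + 1, g => ∑ j, Φ n (ψ I φ j g) * X j

theorem Φ_zero (g : A) : Φ I φ 0 g = C g := rfl

theorem Φ_succ (n : ℕ) (g : A) : Φ I φ (n + 1) g = ∑ j, Φ I φ n (ψ I φ j g) * X j := rfl

theorem Φ_add : ∀ (n : ℕ) (g h : A), g ∈ I ^ (n * c) → h ∈ I ^ (n * c) →
    Φ I φ n (g + h) = Φ I φ n g + Φ I φ n h := by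
  intro n
  induction n with
  | zero => intro g h _ _; simp [Φ_zero]
  | succ n ih =>
    intro g h hg hh
    rw [Φ_succ, Φ_succ, Φ_succ, ← Finset.sum_add_distrib]
    refine Finset.sum_congr rfl fun j _ => ?_
    rw [ψ_add I φ j (mem_pow_c I hg) (mem_pow_c I hh),
      ih _ _ (ψ_mem I φ j n hg) (ψ_mem I φ j n hh), add_mul]

theorem Φ_smul : ∀ (n : ℕ) (a g : A), g ∈ I ^ (n * c) →
    Φ I φ n (a * g) = a • Φ I φ n g := by
  intro n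
  induction n with
  | zero => intro a g _; rw [Φ_zero, Φ_zero, map_mul, C_mul']
  | succ n ih =>
    intro a g hg
    rw [Φ_succ, Φ_succ, Finset.smul_sum]
    refine Finset.sum_congr rfl fun j _ => ?_
    rw [ψ_mul I φ j a (mem_pow_c I hg), ih _ _ (ψ_mem I φ j n hg), smul_mul_assoc]

theorem Φ_homog : ∀ (n : ℕ) (g : A), (Φ I φ n g).IsHomogeneous n := by
  intro n
  induction n with
  | zero => intro g; exact isHomogeneous_C _ _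
  | succ n ih =>
    intro g
    rw [Φ_succ]
    exact IsHomogeneous.sum _ _ _ fun j _ => (ih _).mul (isHomogeneous_X A j)

theorem Φ_mul : ∀ (n m : ℕ) (g h : A), g ∈ I ^ (n * c) → h ∈ I ^ (m * c) →
    Φ I φ (n + m) (g * h) = Φ I φ n g * Φ I φ m h := by
  intro n
  induction n with
  | zero =>
    intro m g h _ hh
    rw [Nat.zero_add, Φ_smul I φ m g h hh, Φ_zero, C_mul']
  | succ n ih =>
    intro m g h hg hh
    rw [Nat.succ_add, Φ_succ, Φ_succ, Finset.sum_mul]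
    refine Finset.sum_congr rfl fun j _ => ?_
    rw [mul_comm g h, ψ_mul I φ j h (mem_pow_c I hg), mul_comm h,
      ih m _ h (ψ_mem I φ j n hg) hh, mul_right_comm]

theorem Φ_one (g : A) (hg : g ∈ I ^ c) :
    Φ I φ 1 g = ∑ j, C (φ j ⟨g, hg⟩) * X j := by
  rw [Φ_succ]
  refine Finset.sum_congr rfl fun j _ => ?_
  rw [Φ_zero, ψ_of_mem I φ j hg]

theorem Φ_aeval (hφ : ∀ x : ↥(I ^ c), (x : A) = ∑ j, f j * φ j x) :
    ∀ (n : ℕ) (g : A), g ∈ I ^ (n * c) → aeval f (Φ I φ n g) = g := by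
  intro n
  induction n with
  | zero => intro g _; rw [Φ_zero, aeval_C]; rfl
  | succ n ih =>
    intro g hg
    rw [Φ_succ, map_sum]
    have h1 := hφ ⟨g, mem_pow_c I hg⟩
    refine Eq.trans ?_ h1.symm
    refine Finset.sum_congr rfl fun j _ => ?_
    rw [map_mul, aeval_X, ih _ (ψ_mem I φ j n hg), ψ_of_mem I φ j (mem_pow_c I hg), mul_comm]

theorem Φ_unique (Ψ : ℕ → A → MvPolynomial (Fin r) A)
    (hadd : ∀ n : ℕ, ∀ g ∈ I ^ (n * c), ∀ h ∈ I ^ (n * c), Ψ n (g + h) = Ψ n g + Ψ n h)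
    (hmul : ∀ n m : ℕ, ∀ g ∈ I ^ (n * c), ∀ h ∈ I ^ (m * c), Ψ (n + m) (g * h) = Ψ n g * Ψ m h)
    (hzero : ∀ a : A, Ψ 0 a = MvPolynomial.C a)
    (hone : ∀ (g : A) (hg : g ∈ I ^ c), Ψ 1 g = ∑ j, MvPolynomial.C (φ j ⟨g, hg⟩) * MvPolynomial.X j) :
    ∀ n : ℕ, ∀ g ∈ I ^ (n * c), Ψ n g = Φ I φ n g := by
  intro n
  induction n with
  | zero => intro g _; rw [hzero, Φ_zero]
  | succ n ih =>
    intro g hg
    have hg' := hg
    rw [Nat.succ_mul, pow_add] at hg'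
    have key : g ∈ I ^ ((n + 1) * c) ∧ Ψ (n + 1) g = Φ I φ (n + 1) g := by
      refine Submodule.mul_induction_on
        (C := fun g => g ∈ I ^ ((n + 1) * c) ∧ Ψ (n + 1) g = Φ I φ (n + 1) g) hg' ?_ ?_
      · intro a ha b hb
        have hb1 : b ∈ I ^ (1 * c) := by rwa [one_mul]
        refine ⟨?_, ?_⟩
        · rw [Nat.succ_mul, pow_add]
          exact Ideal.mul_mem_mul ha hb
        · rw [hmul n 1 a ha b hb1, Φ_mul I φ n 1 a b ha hb1, ih a ha, hone b hb, Φ_one I φ b hb]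
      · rintro x y ⟨hx, hx'⟩ ⟨hy, hy'⟩
        refine ⟨Ideal.add_mem _ hx hy, ?_⟩
        rw [hadd _ x hx y hy, Φ_add I φ _ x y hx hy, hx', hy']
    exact key.2


end helpers

/-- Let A be a Noetherian ring, f_1, …, f_r ∈ A and I = (f_1, …, f_r) with cd(A, I) = 1; let c ≥ 1 and
let φ_j : I^c → A be A-linear maps with x = Σ_j f_j φ_j(x) for all x ∈ I^c. Under these assumptions,
exactly one homomorphism of graded A-algebras, from ⊕_{n ≥ 0} I^{nc} into the polynomial ring A[T_1,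
…, T_r], exists that sends each g ∈ I^c to Σ_j φ_j(g) T_j; call it Φ. Here Φ is encoded by functions
Φ_n : A → A[T_1, …, T_r] whose values on I^{nc} are A-linear, homogeneous of degree n,
multiplicative (Φ_{n+m}(gh) = Φ_n(g)Φ_m(h)), with Φ_0 the structure map and Φ_1 as prescribed;
uniqueness is asserted for the values on the I^{nc}. Moreover substituting T_j ↦ f_j in Φ_n(g) gives
back g for every g ∈ I^{nc}. -/
theorem result (A : Type u) [CommRing A] [IsNoetherianRing A] (r : ℕ) (f : Fin r → A) (I : Ideal A) (hI : I = Ideal.span (Set.range f)) (h1 : LocCoh.CdLE A I 1) (h0 : ¬ LocCoh.CdLE A I 0) (c : ℕ) (hc : 1 ≤ c) (φ : Fin r → (↥(I ^ c) →ₗ[A] A)) (hφ : ∀ x : ↥(I ^ c), (x : A) = ∑ j, f j * φ j x) : ∃ Φ : ℕ → A → MvPolynomial (Fin r) A, (((∀ n : ℕ, ∀ g ∈ I ^ (n * c), ∀ h ∈ I ^ (n * c), Φ n (g + h) = Φ n g + Φ n h) ∧ (∀ (n : ℕ) (a : A), ∀ g ∈ I ^ (n * c),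 Φ n (a * g) = a • Φ n g) ∧ (∀ n : ℕ, ∀ g ∈ I ^ (n * c), (Φ n g).IsHomogeneous n) ∧ (∀ n m : ℕ, ∀ g ∈ I ^ (n * c), ∀ h ∈ I ^ (m * c), Φ (n + m) (g * h) = Φ n g * Φ m h) ∧ (∀ a : A, Φ 0 a = MvPolynomial.C a) ∧ (∀ (g : A) (hg : g ∈ I ^ c), Φ 1 g = ∑ j, MvPolynomial.C (φ j ⟨g, hg⟩) * MvPolynomial.X j)) ∧ ∀ n : ℕ, ∀ g ∈ I ^ (n * c), MvPolynomial.aeval f (Φ n g) = g) ∧ ∀ Ψ : ℕ → A → MvPolynomial (Fin r) A, ((∀ n : ℕ, ∀ g ∈ I ^ (n * c), ∀ h ∈ I ^ (n * c), Ψ n (g + h) = Ψ n g + Ψ n h) ∧ (∀ (n : ℕ) (a : A), ∀ g ∈ I ^ (n * c), Ψ n (a * g) = a • Ψ n g) ∧ (∀ n : ℕ, ∀ g ∈ I ^ (n * c), (Ψ n g).IsHomogeneous n) ∧ (∀ n m : ℕ, ∀ g ∈ I ^ (n * c), ∀ h ∈ I ^ (m * c), Ψ (n + m) (g * h) = Ψ n g * Ψ m h) ∧ (∀ a : A, Ψ 0 a = MvPolynomial.C a) ∧ (∀ (g : A) (hg : g ∈ I ^ c), Ψ 1 g = ∑ j, MvPolynomial.C (φ j ⟨g, hg⟩) * MvPolynomial.X j)) → ∀ n : ℕ, ∀ g ∈ I ^ (n * c), Ψ n g = Φ n g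 := by
  subst hI
  refine ⟨Φ _ φ, ⟨⟨fun n g hg h hh => Φ_add _ φ n g h hg hh, Φ_smul _ φ, fun n g _ => Φ_homog _ φ n g,
    fun n m g hg h hh => Φ_mul _ φ n m g h hg hh,
    Φ_zero _ φ, Φ_one _ φ⟩, Φ_aeval f _ φ hφ⟩, ?_⟩
  rintro Ψ ⟨hadd, -, -, hmul, hzero, hone⟩
  exact Φ_unique _ φ Ψ hadd hmul hzero hone

end Groth.Agent.S8819
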