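import Groth.Statements.S5168


set_option autoImplicit false
universe u
open InjHull

namespace Groth.Agent.S5168

theorem exists_pow_kill (A : Type u) [CommRing A] (J : Ideal A) (H : Type u) [AddCommGroup H]
    [Module A H] (hH : LocCoh.IsPowerTorsion J H) (S : Submodule A H) (hS : S.FG) :
    ∃ n : ℕ, ∀ a ∈ J ^ n, ∀ h ∈ S, a • h = 0 := by
  refine Submodule.fg_induction (R := A) (M := H)
    (motive := fun S _ => ∃ n : ℕ, ∀ a ∈ J ^ n, ∀ h ∈ S, a • h = 0) ?_ ?_ S hS
  · intro x
    obtain ⟨n, hn⟩ := hH x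
    refine ⟨n, fun a ha h hh => ?_⟩
    obtain ⟨r, rfl⟩ := Submodule.mem_span_singleton.1 hh
    rw [smul_comm, hn a ha, smul_zero]
  · rintro M₁ M₂ _ _ ⟨n₁, h₁⟩ ⟨n₂, h₂⟩
    refine ⟨max n₁ n₂, fun a ha h hh => ?_⟩
    obtain ⟨y, hy, z, hz, rfl⟩ := Submodule.mem_sup.1 hh
    rw [smul_add, h₁ a (Ideal.pow_le_pow_right (le_max_left _ _) ha) y hy,
      h₂ a (Ideal.pow_le_pow_right (le_max_right _ _) ha) z hz, add_zero]

theorem baer_of (A : Type u) [CommRing A] [IsNoetherianRing A] (J : Ideal A) (H : Type u)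
    [AddCommGroup H] [Module A H] (hH : LocCoh.IsPowerTorsion J H)
    (hext : ∀ (M : Type u) [AddCommGroup M] [Module A M], Module.Finite A M →
      (∃ k : ℕ, (J ^ k) • (⊤ : Submodule A M) = ⊥) → ∀ (N : Submodule A M) (g : N →ₗ[A] H),
      ∃ g' : M →ₗ[A] H, g'.comp N.subtype = g) :
    Module.Baer A H := by
  intro I g
  have hfg : (LinearMap.range g).FG := by
    rw [LinearMap.range_eq_map]
    exact Submodule.FG.map g (Module.finite_def.1 inferInstance)
  obtain ⟨n, hn⟩ := exists_pow_kill A J H hH _ hfg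
  obtain ⟨k, hk⟩ := Ideal.exists_pow_inf_eq_pow_smul J (I : Submodule A A)
  let L : Submodule A A := (J ^ (n + k)) • (⊤ : Submodule A A)
  -- g vanishes on L ⊓ I
  have hvan : ∀ (y : A) (hy : y ∈ I), y ∈ L → g ⟨y, hy⟩ = 0 := by
    intro y hy hyL
    have h1 : y ∈ (J ^ (n + k - k)) • ((J ^ k) • (⊤ : Submodule A A) ⊓ I) := by
      rw [← hk (n + k) (Nat.le_add_left k n)]
      exact ⟨hyL, hy⟩
    rw [Nat.add_sub_cancel] at h1
    have h2 : (J ^ n) • ((J ^ k) • (⊤ : Submodule A A) ⊓ I) ≤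
        (LinearMap.ker g).map (Submodule.subtype I) := by
      rw [Submodule.smul_le]
      intro a ha x hx
      refine Submodule.mem_map.2 ⟨a • ⟨x, hx.2⟩, ?_, rfl⟩
      rw [LinearMap.mem_ker, map_smul]
      exact hn a ha _ ⟨_, rfl⟩
    obtain ⟨z, hz, hzy⟩ := Submodule.mem_map.1 (h2 h1)
    have hzz : z = ⟨y, hy⟩ := Subtype.ext hzy
    rw [← hzz]; exact hz
  let M := A ⧸ L
  let N : Submodule A M := Submodule.map L.mkQ I
  let π : I →ₗ[A] N := L.mkQ.submoduleMap I
  have hsurj : Function.Surjective π := LinearMap.submoduleMap_surjective _ _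
  have hker : LinearMap.ker π ≤ LinearMap.ker g := by
    intro x hx
    rw [LinearMap.mem_ker] at hx ⊢
    have h1 : L.mkQ x.1 = 0 := by
      have := congrArg (fun z : N => (z : M)) hx
      exact this
    have h2 : x.1 ∈ L := (Submodule.Quotient.mk_eq_zero L).1 h1
    exact hvan x.1 x.2 h2
  let e := π.quotKerEquivOfSurjective hsurj
  let gbar : N →ₗ[A] H := ((LinearMap.ker π).liftQ g hker) ∘ₗ e.symm.toLinearMap
  have hgbar : ∀ x : I, gbar (π x) = g x := by
    intro x
    have h1 : e.symm (π x) = Submodule.Quotient.mk x :=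
      (LinearEquiv.symm_apply_eq e).2 (LinearMap.quotKerEquivOfSurjective_apply_mk π hsurj x).symm
    show (LinearMap.ker π).liftQ g hker (e.symm (π x)) = g x
    rw [h1, Submodule.liftQ_apply]
  have hkill : (J ^ (n + k)) • (⊤ : Submodule A M) = ⊥ := by
    rw [eq_bot_iff, Submodule.smul_le]
    intro a ha m _
    obtain ⟨b, rfl⟩ := Submodule.mkQ_surjective L m
    rw [Submodule.mem_bot, ← map_smul, Submodule.mkQ_apply, Submodule.Quotient.mk_eq_zero]
    exact Submodule.smul_mem_smul ha Submodule.mem_top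
  obtain ⟨g', hg'⟩ := hext M inferInstance ⟨n + k, hkill⟩ N gbar
  refine ⟨g' ∘ₗ L.mkQ, fun x hx => ?_⟩
  have h1 := LinearMap.congr_fun hg' (π ⟨x, hx⟩)
  rw [hgbar] at h1
  rw [← h1]
  rfl

/-- Let A be a Noetherian ring, J an ideal and H a J-power torsion A-module. Then H is injective if and
only if Hom_A(−, H) is exact on finite A-modules killed by a power of J, i.e. every linear map to H
from a submodule of such a module M extends to M. -/
theorem result (A : Type u) [CommRing A] [IsNoetherianRing A] (J : Ideal A) (H : Type u) [AddCommGroup H] [Module A H] (hH : LocCoh.IsPowerTorsion J H) : Module.Injective A H ↔ ∀ (M : Type u) [AddCommGroup M] [Module A M], Module.Finite A M → (∃ k : ℕ, (J ^ k) • (⊤ : Submodule A M) = ⊥) → ∀ (N : Submodule A M) (g : N →ₗ[A] H), ∃ g' : M →ₗ[A] H, g'.comp N.subtype = g := by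
  constructor
  · intro hinj M _ _ _ _ N g
    obtain ⟨h, hh⟩ := hinj.out N.subtype N.injective_subtype g
    exact ⟨h, LinearMap.ext hh⟩
  · intro hext
    exact Module.Baer.injective (baer_of A J H hH hext)

end Groth.Agent.S5168
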