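import Groth.Statements.S0301
import Groth.Agent.S5168
import Mathlib.Algebra.Module.Injective
import Mathlib.Algebra.Module.Torsion.Basic

set_option autoImplicit false
universe u v
open InjHull

namespace Groth.Agent.S0301

/-- Over a Noetherian ring, the submodule of an injective module consisting of the elements killed by
some power of a given ideal is again injective. -/
theorem result (R : Type u) [CommRing R] [IsNoetherianRing R] (I : Type u) [AddCommGroup I] [Module R I] (hI : Module.Injective R I) (J : Ideal R) : Module.Injective R ↥(⨆ n : ℕ, Submodule.torsionBySet R I ((J ^ n : Ideal R) : Set R)) := by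
  let c : ℕ →o Submodule R I :=
    ⟨fun n => Submodule.torsionBySet R I ((J ^ n : Ideal R) : Set R), fun n n' h =>
      Submodule.torsionBySet_le_torsionBySet_of_subset
        (fun x hx => Ideal.pow_le_pow_right h hx)⟩
  have hmemT : ∀ x : I, x ∈ (⨆ n : ℕ, Submodule.torsionBySet R I ((J ^ n : Ideal R) : Set R)) ↔
      ∃ n, x ∈ c n := fun x => Submodule.mem_iSup_of_chain c x
  have hpt : LocCoh.IsPowerTorsion J
      ↥(⨆ n : ℕ, Submodule.torsionBySet R I ((J ^ n : Ideal R) : Set R)) := by
    intro x
    obtain ⟨n, hn⟩ := (hmemT x).mp x.2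
    refine ⟨n, fun a ha => Subtype.ext ?_⟩
    exact ((Submodule.mem_torsionBySet_iff _ _).mp hn) ⟨a, ha⟩
  rw [Groth.Agent.S5168.result R J _ hpt]
  intro M _ _ _ hk N g
  obtain ⟨k, hk⟩ := hk
  obtain ⟨g', hg'⟩ := Module.Injective.extension_property R I N M N.subtype
    N.injective_subtype ((Submodule.subtype _) ∘ₗ g)
  have hmem : ∀ m, g' m ∈
      (⨆ n : ℕ, Submodule.torsionBySet R I ((J ^ n : Ideal R) : Set R)) := fun m => by
    rw [hmemT]
    refine ⟨k, ?_⟩
    show g' m ∈ Submodule.torsionBySet R I _
    rw [Submodule.mem_torsionBySet_iff]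
    rintro ⟨a, ha⟩
    show a • g' m = 0
    have h1 : a • m ∈ J ^ k • (⊤ : Submodule R M) :=
      Submodule.smul_mem_smul ha Submodule.mem_top
    rw [hk, Submodule.mem_bot] at h1
    rw [← map_smul, h1, map_zero]
  refine ⟨g'.codRestrict _ hmem, ?_⟩
  refine LinearMap.ext fun n => Subtype.ext ?_
  exact LinearMap.congr_fun hg' n

end Groth.Agent.S0301
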