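import Groth.Statements.S9259
import Mathlib
import Groth.Agent.H20.RegHomLocal
-- import your own Groth.Agent.* helpers here

set_option autoImplicit false
universe u
open CAlg

set_option linter.style.haveILetI false
set_option linter.unusedSectionVars false
set_option linter.unusedVariables false

namespace Groth.Agent.S9259


/-- Regularity of a ring map is a local property: for a ring map R → Λ with Noetherian target,
regularity of R → Λ is equivalent to regularity of every induced local map R_p → Λ_q (q a prime of
Λ, p = q ∩ R), and also to regularity of those induced maps at the maximal ideals q of Λ. (The maps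
of local rings are the canonical localized maps.) -/
theorem result (R Λ : Type u) [CommRing R] [CommRing Λ] [Algebra R Λ]
    [IsNoetherianRing Λ] :
    (CAlg.IsRegularHom R Λ ↔
      ∀ (q : Ideal Λ) [q.IsPrime],
        letI := (Localization.localRingHom (Ideal.comap (algebraMap R Λ) q) q (algebraMap R Λ) rfl).toAlgebra
        CAlg.IsRegularHom (Localization.AtPrime (Ideal.comap (algebraMap R Λ) q))
          (Localization.AtPrime q)) ∧
    (CAlg.IsRegularHom R Λ ↔
      ∀ (n : Ideal Λ) [n.IsMaximal],
        letI := (Localization.localRingHom (Ideal.comap (algebraMap R Λ) n) n (algebraMap R Λ) rfl).toAlgebra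
        CAlg.IsRegularHom (Localization.AtPrime (Ideal.comap (algebraMap R Λ) n))
          (Localization.AtPrime n)) := by
  have tow : ∀ (q : Ideal Λ) [q.IsPrime],
      letI := (Localization.localRingHom (Ideal.comap (algebraMap R Λ) q) q (algebraMap R Λ) rfl).toAlgebra
      IsScalarTower R (Localization.AtPrime (Ideal.comap (algebraMap R Λ) q))
        (Localization.AtPrime q) := by
    intro q _
    letI alg : Algebra (Localization.AtPrime (Ideal.comap (algebraMap R Λ) q))
        (Localization.AtPrime q) :=
      (Localization.localRingHom (Ideal.comap (algebraMap R Λ) q) q (algebraMap R Λ) rfl).toAlgebra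
    exact IsScalarTower.of_algebraMap_eq (R := R)
      (S := Localization.AtPrime (Ideal.comap (algebraMap R Λ) q)) (A := Localization.AtPrime q)
      (fun a => by
        show algebraMap R (Localization.AtPrime q) a =
          Localization.localRingHom (Ideal.comap (algebraMap R Λ) q) q (algebraMap R Λ) rfl
            (algebraMap R _ a)
        rw [Localization.localRingHom_to_map,
          IsScalarTower.algebraMap_apply R Λ (Localization.AtPrime q)])
  have fwd : CAlg.IsRegularHom R Λ → ∀ (q : Ideal Λ) [q.IsPrime],
      letI := (Localization.localRingHom (Ideal.comap (algebraMap R Λ) q) q (algebraMap R Λ) rfl).toAlgebra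
      CAlg.IsRegularHom (Localization.AtPrime (Ideal.comap (algebraMap R Λ) q))
        (Localization.AtPrime q) := by
    intro h q _
    letI alg : Algebra (Localization.AtPrime (Ideal.comap (algebraMap R Λ) q))
        (Localization.AtPrime q) :=
      (Localization.localRingHom (Ideal.comap (algebraMap R Λ) q) q (algebraMap R Λ) rfl).toAlgebra
    haveI := tow q
    exact Groth.Agent.H20.RegHomLocal.isRegularHom_atPrime' R Λ q
      (Ideal.comap (algebraMap R Λ) q) rfl
      (Localization.AtPrime (Ideal.comap (algebraMap R Λ) q)) h
  have bwd : (∀ (n : Ideal Λ) [n.IsMaximal],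
      letI := (Localization.localRingHom (Ideal.comap (algebraMap R Λ) n) n (algebraMap R Λ) rfl).toAlgebra
      CAlg.IsRegularHom (Localization.AtPrime (Ideal.comap (algebraMap R Λ) n))
        (Localization.AtPrime n)) → CAlg.IsRegularHom R Λ := by
    intro h
    apply Groth.Agent.H20.RegHomLocal.isRegularHom_of_forall_maximal
    intro n hn
    letI alg : Algebra (Localization.AtPrime (Ideal.comap (algebraMap R Λ) n))
        (Localization.AtPrime n) :=
      (Localization.localRingHom (Ideal.comap (algebraMap R Λ) n) n (algebraMap R Λ) rfl).toAlgebra
    haveI := tow n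
    haveI : IsNoetherianRing (Localization.AtPrime n) :=
      IsLocalization.isNoetherianRing n.primeCompl _ inferInstance
    exact Groth.Agent.H20.RegHomLocal.isRegularHom_comp_localization R
      (Localization.AtPrime (Ideal.comap (algebraMap R Λ) n)) (Localization.AtPrime n)
      (Ideal.comap (algebraMap R Λ) n).primeCompl (h n)
  exact ⟨⟨fun h q _ => fwd h q, fun h => bwd (fun n _ => h n)⟩, ⟨fun h n _ => fwd h n, bwd⟩⟩

end Groth.Agent.S9259
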