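import Groth.Statements.S8804
import Mathlib.RingTheory.Ideal.KrullsHeightTheorem
import Mathlib.RingTheory.Henselian
import Mathlib.RingTheory.AdicCompletion.Noetherian
import Mathlib.RingTheory.KrullDimension.LocalRing
import Mathlib.RingTheory.KrullDimension.Field
import Mathlib.RingTheory.Ideal.MinimalPrime.Noetherian
import Mathlib.RingTheory.Finiteness.Ideal

set_option autoImplicit false
universe u
open AdicRing

namespace Groth.Agent.S8804

/-- surjective images of precomplete modules are precomplete -/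
lemma isPrecomplete_of_surjective {R : Type*} [CommRing R] (I : Ideal R) {M N : Type*}
    [AddCommGroup M] [Module R M] [AddCommGroup N] [Module R N] (f : M →ₗ[R] N)
    (hf : Function.Surjective f) [hM : IsPrecomplete I M] : IsPrecomplete I N := by
  refine ⟨fun g hg => ?_⟩
  have hmap : ∀ n : ℕ, (I ^ n • ⊤ : Submodule R N) = (I ^ n • ⊤ : Submodule R M).map f := by
    intro n
    rw [Submodule.map_smul'', Submodule.map_top, LinearMap.range_eq_top.mpr hf]
  have key : ∀ (n : ℕ) (x : M), f x = g n →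
      ∃ y : M, f y = g (n + 1) ∧ y - x ∈ (I ^ n • ⊤ : Submodule R M) := by
    intro n x hx
    have h1 : g (n + 1) - g n ∈ (I ^ n • ⊤ : Submodule R N) :=
      SModEq.sub_mem.mp (hg (Nat.le_succ n)).symm
    rw [hmap n] at h1
    obtain ⟨d, hd, hfd⟩ := h1
    refine ⟨x + d, ?_, ?_⟩
    · rw [map_add, hx, hfd]
      abel
    · simpa using hd
  obtain ⟨x0, hx0⟩ := hf (g 0)
  choose! step hstep1 hstep2 using key
  let h : ℕ → M := fun n => Nat.rec x0 (fun n x => step n x) n
  have hfh : ∀ n, f (h n) = g n := by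
    intro n
    induction n with
    | zero => exact hx0
    | succ n ih => exact hstep1 n (h n) ih
  have hc : ∀ n, h n ≡ h (n + 1) [SMOD (I ^ n • ⊤ : Submodule R M)] := by
    intro n
    refine (SModEq.sub_mem.mpr ?_).symm
    exact hstep2 n (h n) (hfh n)
  have hcauchy : AdicCompletion.IsAdicCauchy I M h := (AdicCompletion.isAdicCauchy_iff I M h).mpr hc
  obtain ⟨L, hL⟩ := IsPrecomplete.prec hM (f := h) (fun {m n} hmn => hcauchy hmn)
  refine ⟨f L, fun n => ?_⟩
  rw [← hfh n, hmap n]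
  exact (hL n).map f

/-- quotients of a Noetherian adically complete ring are adically complete. -/
lemma isAdicComplete_quotient {A : Type*} [CommRing A] [IsNoetherianRing A] (I q : Ideal A)
    [IsAdicComplete I A] : IsAdicComplete (I.map (Ideal.Quotient.mk q)) (A ⧸ q) := by
  have h1 : IsHausdorff I (A ⧸ q) :=
    IsHausdorff.of_le_jacobson I _ (IsAdicComplete.le_jacobson_bot I)
  have h2 : IsPrecomplete I (A ⧸ q) :=
    isPrecomplete_of_surjective I (Ideal.Quotient.mkₐ A q).toLinearMap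
      (Ideal.Quotient.mkₐ_surjective A q)
  have h1' : IsHausdorff (I.map (algebraMap A (A ⧸ q))) (A ⧸ q) :=
    IsHausdorff.map_algebraMap_iff.mpr h1
  have h2' : IsPrecomplete (I.map (algebraMap A (A ⧸ q))) (A ⧸ q) :=
    IsPrecomplete.map_algebraMap_iff.mpr h2
  exact (isAdicComplete_iff _ _).mpr ⟨h1', h2'⟩

/-- adic completeness only depends on the topology. -/
lemma isAdicComplete_of_pow_le {R : Type*} [CommRing R] (J K : Ideal R) (N : ℕ) (hJK : J ≤ K)
    (hKJ : K ^ (N + 1) ≤ J) [hJ : IsAdicComplete J R] : IsAdicComplete K R := by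
  have hle1 : ∀ n : ℕ, (J ^ n • ⊤ : Submodule R R) ≤ K ^ n • ⊤ := fun n =>
    Submodule.smul_mono_left (Ideal.pow_right_mono hJK n)
  have hle2 : ∀ n : ℕ, (K ^ ((N + 1) * n) • ⊤ : Submodule R R) ≤ J ^ n • ⊤ := fun n => by
    rw [pow_mul]
    exact Submodule.smul_mono_left (Ideal.pow_right_mono hKJ n)
  rw [isAdicComplete_iff]
  constructor
  · refine ⟨fun x hx => ?_⟩
    refine IsHausdorff.haus hJ.toIsHausdorff x fun n => ?_
    exact (hx ((N + 1) * n)).mono (hle2 n)
  · refine ⟨fun f hf => ?_⟩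
    have hg : ∀ {m n : ℕ}, m ≤ n →
        f ((N + 1) * m) ≡ f ((N + 1) * n) [SMOD (J ^ m • ⊤ : Submodule R R)] := by
      intro m n hmn
      exact (hf (Nat.mul_le_mul_left _ hmn)).mono (hle2 m)
    obtain ⟨L, hL⟩ := IsPrecomplete.prec hJ.toIsPrecomplete (f := fun n => f ((N + 1) * n)) hg
    refine ⟨L, fun n => ?_⟩
    have h1 : f n ≡ f ((N + 1) * n) [SMOD (K ^ n • ⊤ : Submodule R R)] :=
      hf (Nat.le_mul_of_pos_left n (Nat.succ_pos N))
    exact h1.trans ((hL n).mono (hle1 n))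

lemma dim_eq_one_iff (D : Type*) [CommRing D] [IsDomain D] :
    ringKrullDim D = 1 ↔ ¬ IsField D ∧ ∀ P : Ideal D, P ≠ ⊥ → P.IsPrime → P.IsMaximal := by
  constructor
  · intro h
    refine ⟨fun h' => ?_, ?_⟩
    · rw [ringKrullDim_eq_zero_of_isField h'] at h
      exact zero_ne_one h
    · exact Ring.krullDimLE_one_iff_of_noZeroDivisors.mp (Ring.krullDimLE_iff.mpr (by simp [h]))
  · rintro ⟨hn, h⟩
    have h0 : ¬ ringKrullDim D ≤ 0 := fun h0 => by
      have : Ring.KrullDimLE 0 D := Ring.krullDimLE_iff.mpr h0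
      exact hn Ring.KrullDimLE.isField_of_isDomain
    have h1 : Ring.KrullDimLE 1 D := Ring.krullDimLE_one_iff_of_noZeroDivisors.mpr h
    rw [Ring.krullDimLE_iff] at h1
    exact le_antisymm h1 (Order.succ_le_of_lt (lt_of_not_ge h0))

open Polynomial in
/-- Idempotents lift along a Henselian pair. -/
lemma exists_idem {B : Type*} [CommRing B] (J : Ideal B) [hJ : HenselianRing B J] (b : B)
    (hb : b ^ 2 - b ∈ J) : ∃ e : B, IsIdempotentElem e ∧ e - b ∈ J := by
  rcases subsingleton_or_nontrivial B with hsub | hnt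
  · exact ⟨0, by simp [IsIdempotentElem], by rw [Subsingleton.elim (0 - b) 0]; exact J.zero_mem⟩
  have hmonic : (X ^ 2 - X : B[X]).Monic := by
    apply monic_X_pow_sub
    rw [degree_X]
    norm_num
  have h1 : (X ^ 2 - X : B[X]).eval b ∈ J := by
    simpa using hb
  have h2 : IsUnit (Ideal.Quotient.mk J ((X ^ 2 - X : B[X]).derivative.eval b)) := by
    have hd : (X ^ 2 - X : B[X]).derivative.eval b = 2 * b - 1 := by
      simp
      ring
    rw [hd]
    apply IsUnit.of_mul_eq_one (Ideal.Quotient.mk J (2 * b - 1))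
    rw [← map_mul, ← map_one (Ideal.Quotient.mk J), Ideal.Quotient.eq]
    have : (2 * b - 1) * (2 * b - 1) - 1 = 4 * (b ^ 2 - b) := by ring
    rw [this]
    exact J.mul_mem_left _ hb
  obtain ⟨e, he, heJ⟩ := hJ.is_henselian _ hmonic b h1 h2
  refine ⟨e, ?_, heJ⟩
  rw [IsRoot.def] at he
  simp only [eval_sub, eval_pow, eval_X] at he
  rw [IsIdempotentElem, ← pow_two]
  exact sub_eq_zero.mp he

/-- Krull's principal ideal theorem argument: if all nonzero primes contain `J ≠ ⊥`,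
all nonzero primes are maximal. -/
lemma isMaximal_of_forall_le {D : Type*} [CommRing D] [IsDomain D] [IsNoetherianRing D]
    (J : Ideal D) (hJ0 : J ≠ ⊥) (hall : ∀ P : Ideal D, P.IsPrime → P ≠ ⊥ → J ≤ P)
    (P : Ideal D) (hP : P.IsPrime) (hP0 : P ≠ ⊥) : P.IsMaximal := by
  classical
  by_contra hnm
  obtain ⟨M, hM, hPM⟩ := Ideal.exists_le_maximal P hP.ne_top
  have hPltM : P < M := lt_of_le_of_ne hPM (fun h => hnm (h ▸ hM))
  have hJP : J ≤ P := hall P hP hP0
  have hfin : J.minimalPrimes.Finite := Ideal.finite_minimalPrimes_of_isNoetherianRing D J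
  have hJtop : J ≠ ⊤ := fun h => hP.ne_top (top_le_iff.mp (h ▸ hJP))
  have hnot' : ¬ ∃ Q ∈ hfin.toFinset, M ≤ (fun j : Ideal D => j) Q := by
    rintro ⟨Q, hQ, hMQ⟩
    have hQ' := hfin.mem_toFinset.mp hQ
    have hQP : Q ≤ P := hQ'.2 ⟨hP, hJP⟩ (hPltM.le.trans hMQ)
    exact (lt_of_lt_of_le hPltM hMQ).not_ge hQP
  have hnot : ¬ ((M : Set D) ⊆ ⋃ i ∈ ((hfin.toFinset : Finset (Ideal D)) : Set (Ideal D)),
      ((fun j : Ideal D => j) i : Ideal D)) := fun h =>
    hnot' ((Ideal.subset_union_prime (f := fun j : Ideal D => j) ⊥ ⊥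
      (fun i hi _ _ => (hfin.mem_toFinset.mp hi).1.1)).mp h)
  obtain ⟨x, hxM, hxU⟩ := Set.not_subset.mp hnot
  have hxQ : ∀ Q ∈ J.minimalPrimes, x ∉ Q := by
    intro Q hQ hx
    exact hxU (Set.mem_biUnion (Finset.mem_coe.mpr (hfin.mem_toFinset.mpr hQ)) hx)
  have := hM.isPrime
  obtain ⟨Q, hQmin, hQM⟩ := Ideal.exists_minimalPrimes_le (I := Ideal.span {x}) (J := M)
    ((Ideal.span_singleton_le_iff_mem M).mpr hxM)
  have hQprime : Q.IsPrime := hQmin.1.1
  have hxQ' : x ∈ Q := hQmin.1.2 (Ideal.mem_span_singleton_self x)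
  obtain ⟨⟨Q0, hQ0⟩⟩ := Ideal.nonempty_minimalPrimes hJtop
  have hx0 : x ≠ 0 := fun h => hxQ Q0 hQ0 (h ▸ Q0.zero_mem)
  have hQ0' : Q ≠ ⊥ := by
    intro h
    rw [h] at hxQ'
    exact hx0 (Ideal.mem_bot.mp hxQ')
  have hJQ : J ≤ Q := hall Q hQprime hQ0'
  obtain ⟨P1, hP1, hP1Q⟩ := Ideal.exists_minimalPrimes_le (I := J) (J := Q) hJQ
  have hP1prime : P1.IsPrime := hP1.1.1
  have hht : Q.height ≤ 1 :=
    Ideal.height_le_one_of_isPrincipal_of_mem_minimalPrimes (Ideal.span {x}) Q hQmin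
  have hP1ne : P1 ≠ ⊥ := fun h => hJ0 (le_bot_iff.mp (h ▸ hP1.1.2))
  have hP1eq : P1 = Q := by
    by_contra hne
    have hlt : P1 < Q := lt_of_le_of_ne hP1Q hne
    have h1 : P1.height < Q.height := Ideal.height_strict_mono_of_isPrime_of_isPrime hlt
    have h2 : P1.height = 0 := Order.lt_one_iff.mp (lt_of_lt_of_le h1 hht)
    exact hP1ne (Ideal.height_eq_zero_iff_eq_bot.mp h2)
  exact hxQ P1 hP1 (hP1eq ▸ hxQ')

/-- A one-dimensional Noetherian domain which is Henselian along a nonzero ideal is local. -/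
lemma maximal_unique {D : Type*} [CommRing D] [IsDomain D] [IsNoetherianRing D] (J : Ideal D)
    [HenselianRing D J] (hmax : ∀ P : Ideal D, P.IsPrime → P ≠ ⊥ → P.IsMaximal)
    (hJ0 : J ≠ ⊥) (m₁ m₂ : Ideal D) (h₁ : m₁.IsMaximal) (h₂ : m₂.IsMaximal) : m₁ = m₂ := by
  classical
  by_contra hne
  have hjac : ∀ m : Ideal D, m.IsMaximal → J ≤ m := fun m hm =>
    (HenselianRing.jac (R := D) (I := J)).trans (sInf_le ⟨bot_le, hm⟩)
  have hfin : J.minimalPrimes.Finite := Ideal.finite_minimalPrimes_of_isNoetherianRing D J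
  have hSmax : ∀ P ∈ J.minimalPrimes, P.IsMaximal := fun P hP =>
    hmax P hP.1.1 (fun h => hJ0 (le_bot_iff.mp (h ▸ hP.1.2)))
  have hmem : ∀ m : Ideal D, m.IsMaximal → m ∈ J.minimalPrimes := by
    intro m hm
    have := hm.isPrime
    obtain ⟨P, hP, hPm⟩ := Ideal.exists_minimalPrimes_le (hjac m hm)
    have hPm' : P = m := (hSmax P hP).eq_of_le hm.ne_top hPm
    exact hPm' ▸ hP
  obtain ⟨N, hN⟩ := Ideal.exists_radical_pow_le_of_fg J (IsNoetherian.noetherian _)
  let T : Finset (Ideal D) := hfin.toFinset.erase m₁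
  let K : Ideal D := ∏ P ∈ T, P
  have hKle : ∀ P ∈ T, K ≤ P := fun P hP =>
    Ideal.le_of_dvd (Finset.dvd_prod_of_mem (fun P : Ideal D => P) hP)
  have hKm₂ : K ≤ m₂ :=
    hKle m₂ (Finset.mem_erase.mpr ⟨fun h => hne h.symm, hfin.mem_toFinset.mpr (hmem m₂ h₂)⟩)
  have hKm₁ : ¬ K ≤ m₁ := by
    intro h
    obtain ⟨P, hPT, hPm⟩ := (h₁.isPrime.prod_le).mp h
    have hP := Finset.mem_erase.mp hPT
    have hPmax := hSmax P (hfin.mem_toFinset.mp hP.2)
    exact hP.1 (hPmax.eq_of_le h₁.ne_top hPm)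
  have hsup : m₁ ⊔ K = ⊤ := by
    by_contra h
    have heq : m₁ = m₁ ⊔ K := h₁.eq_of_le h le_sup_left
    exact hKm₁ (le_sup_right.trans heq.ge)
  have hsup' : m₁ ^ (N + 1) ⊔ K ^ (N + 1) = ⊤ := Ideal.pow_sup_pow_eq_top hsup
  obtain ⟨e₀, he₀, f₀, hf₀, hsum⟩ := Submodule.mem_sup.mp ((Ideal.eq_top_iff_one _).mp hsup')
  have hrad : m₁ * K ≤ J.radical := by
    rw [← Ideal.sInf_minimalPrimes]
    refine le_sInf fun P hP => ?_
    by_cases hPm : P = m₁
    · rw [hPm]
      exact Ideal.mul_le_left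
    · exact Ideal.mul_le_right.trans
        (hKle P (Finset.mem_erase.mpr ⟨hPm, hfin.mem_toFinset.mpr hP⟩))
  have hprod : e₀ * f₀ ∈ J := by
    have h1 : e₀ * f₀ ∈ (m₁ * K) ^ (N + 1) := by
      rw [mul_pow]
      exact Ideal.mul_mem_mul he₀ hf₀
    have h2 : (m₁ * K) ^ (N + 1) ≤ J :=
      (Ideal.pow_right_mono hrad (N + 1)).trans
        ((Ideal.pow_le_pow_right (Nat.le_succ N)).trans hN)
    exact h2 h1
  have hf₀' : f₀ = 1 - e₀ := by
    rw [← hsum]
    ring
  have hb : e₀ ^ 2 - e₀ ∈ J := by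
    have : e₀ ^ 2 - e₀ = -(e₀ * f₀) := by
      rw [hf₀']
      ring
    rw [this]
    exact J.neg_mem hprod
  obtain ⟨e, he, heJ⟩ := exists_idem J e₀ hb
  rcases IsIdempotentElem.iff_eq_zero_or_one.mp he with h0 | h1
  · have he₀J : e₀ ∈ J := by
      have : e₀ = -(e - e₀) := by
        rw [h0]
        ring
      rw [this]
      exact J.neg_mem heJ
    have hone : (1 : D) ∈ m₂ := by
      rw [← hsum]
      exact m₂.add_mem (hjac m₂ h₂ he₀J) (hKm₂ (Ideal.pow_le_self (Nat.succ_ne_zero N) hf₀))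
    exact h₂.ne_top ((Ideal.eq_top_iff_one _).mpr hone)
  · have h1e : 1 - e₀ ∈ J := by
      rw [h1] at heJ
      exact heJ
    have hone : (1 : D) ∈ m₁ := by
      have : (1 : D) = (1 - e₀) + e₀ := by ring
      rw [this]
      exact m₁.add_mem (hjac m₁ h₁ h1e) (Ideal.pow_le_self (Nat.succ_ne_zero N) he₀)
    exact h₁.ne_top ((Ideal.eq_top_iff_one _).mpr hone)

/-- Let A be a Noetherian ring which is complete for the adic topology of an ideal I, and let q be a
prime ideal of A. The following are equivalent: (1) I ⊄ q and q is maximal among the primes not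
containing I; (5) dim(A/q) = 1 and I ⊄ q; (8) A/q is a one-dimensional complete local ring whose
maximal ideal is the radical of the image of I (stated as: the Krull dimension of A/q is 1, every
maximal ideal of A/q equals the radical of I(A/q), and A/q is adically complete for that radical).
(The other equivalent forms, for other ideals of definition or for the induced topology, are not
stated.) -/
theorem result (A : Type u) [CommRing A] [IsNoetherianRing A] (I : Ideal A) [IsAdicComplete I A] (q : PrimeSpectrum A) : List.TFAE [¬ I ≤ q.asIdeal ∧ ∀ q' : PrimeSpectrum A, q ≤ q' → ¬ I ≤ q'.asIdeal → q' = q, ringKrullDim (A ⧸ q.asIdeal) = 1 ∧ ¬ I ≤ q.asIdeal, ringKrullDim (A ⧸ q.asIdeal) = 1 ∧ (∀ m : Ideal (A ⧸ q.asIdeal), m.IsMaximal → m = (I.map (Ideal.Quotient.mk q.asIdeal)).radical) ∧ IsAdicComplete (I.map (Ideal.Quotient.mk q.asIdeal)).radical (A ⧸ q.asIdeal)] := by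
  have := q.isPrime
  have hsurj : Function.Surjective (Ideal.Quotient.mk q.asIdeal) := Ideal.Quotient.mk_surjective
  have hcomp : IsAdicComplete (I.map (Ideal.Quotient.mk q.asIdeal)) (A ⧸ q.asIdeal) :=
    isAdicComplete_quotient I q.asIdeal
  have hjac : ∀ m : Ideal (A ⧸ q.asIdeal), m.IsMaximal →
      I.map (Ideal.Quotient.mk q.asIdeal) ≤ m := fun m hm =>
    (IsAdicComplete.le_jacobson_bot (I.map (Ideal.Quotient.mk q.asIdeal))).trans
      (sInf_le ⟨bot_le, hm⟩)
  have hJbot : I.map (Ideal.Quotient.mk q.asIdeal) = ⊥ ↔ I ≤ q.asIdeal := by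
    rw [Ideal.map_eq_bot_iff_le_ker, Ideal.mk_ker]
  have hker : Ideal.comap (Ideal.Quotient.mk q.asIdeal) ⊥ = q.asIdeal := by
    rw [← RingHom.ker_eq_comap_bot, Ideal.mk_ker]
  -- transfer of (1)
  have h1iff : (¬ I ≤ q.asIdeal ∧ ∀ q' : PrimeSpectrum A, q ≤ q' → ¬ I ≤ q'.asIdeal → q' = q) ↔
      (I.map (Ideal.Quotient.mk q.asIdeal) ≠ ⊥ ∧ ∀ P : Ideal (A ⧸ q.asIdeal), P.IsPrime → P ≠ ⊥ →
        I.map (Ideal.Quotient.mk q.asIdeal) ≤ P) := by
    constructor
    · rintro ⟨h1, h2⟩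
      refine ⟨fun h => h1 (hJbot.mp h), fun P hP hP0 => ?_⟩
      by_contra hJP
      have := hP
      let q' : PrimeSpectrum A := ⟨P.comap (Ideal.Quotient.mk q.asIdeal), inferInstance⟩
      have hqq' : q ≤ q' := by
        show q.asIdeal ≤ P.comap (Ideal.Quotient.mk q.asIdeal)
        exact hker.ge.trans (Ideal.comap_mono bot_le)
      have hnI : ¬ I ≤ q'.asIdeal := fun h => hJP (Ideal.map_le_iff_le_comap.mpr h)
      have hq'q := h2 q' hqq' hnI
      apply hP0
      apply Ideal.comap_injective_of_surjective (Ideal.Quotient.mk q.asIdeal) hsurj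
      rw [hker]
      exact congrArg PrimeSpectrum.asIdeal hq'q
    · rintro ⟨h1, h2⟩
      refine ⟨fun h => h1 (hJbot.mpr h), fun q' hqq' hnI => ?_⟩
      have := q'.isPrime
      have hle : q.asIdeal ≤ q'.asIdeal := hqq'
      have hPprime : (q'.asIdeal.map (Ideal.Quotient.mk q.asIdeal)).IsPrime :=
        Ideal.map_isPrime_of_surjective hsurj (by rw [Ideal.mk_ker]; exact hle)
      have hcm : (q'.asIdeal.map (Ideal.Quotient.mk q.asIdeal)).comap
          (Ideal.Quotient.mk q.asIdeal) = q'.asIdeal := by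
        rw [Ideal.comap_map_of_surjective (Ideal.Quotient.mk q.asIdeal) hsurj, hker]
        exact sup_eq_left.mpr hle
      have hP0 : q'.asIdeal.map (Ideal.Quotient.mk q.asIdeal) = ⊥ := by
        by_contra hP0
        have hJle := h2 _ hPprime hP0
        apply hnI
        rw [← hcm]
        exact Ideal.map_le_iff_le_comap.mp hJle
      apply PrimeSpectrum.ext
      rw [← hcm, hP0, hker]
  have hD1 : (I.map (Ideal.Quotient.mk q.asIdeal) ≠ ⊥ ∧ ∀ P : Ideal (A ⧸ q.asIdeal), P.IsPrime →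
      P ≠ ⊥ → I.map (Ideal.Quotient.mk q.asIdeal) ≤ P) → ringKrullDim (A ⧸ q.asIdeal) = 1 := by
    rintro ⟨h1, h2⟩
    rw [dim_eq_one_iff]
    refine ⟨?_, fun P hP0 hP => isMaximal_of_forall_le _ h1 h2 P hP hP0⟩
    intro hF
    have hbm : (⊥ : Ideal (A ⧸ q.asIdeal)).IsMaximal := Ring.isField_iff_maximal_bot.mp hF
    exact h1 (le_bot_iff.mp (hjac ⊥ hbm))
  tfae_have 1 → 2 := by
    intro h
    exact ⟨hD1 (h1iff.mp h), h.1⟩
  tfae_have 2 → 3 := by
    rintro ⟨hdim, hnI⟩
    have hJ0 : I.map (Ideal.Quotient.mk q.asIdeal) ≠ ⊥ := fun h => hnI (hJbot.mp h)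
    have hmax := ((dim_eq_one_iff (A ⧸ q.asIdeal)).mp hdim).2
    have hmax' : ∀ P : Ideal (A ⧸ q.asIdeal), P.IsPrime → P ≠ ⊥ → P.IsMaximal :=
      fun P hP hP0 => hmax P hP0 hP
    have huniq := maximal_unique (I.map (Ideal.Quotient.mk q.asIdeal)) hmax' hJ0
    have hrad : ∀ m : Ideal (A ⧸ q.asIdeal), m.IsMaximal →
        m = (I.map (Ideal.Quotient.mk q.asIdeal)).radical := by
      intro m hm
      apply le_antisymm
      · rw [Ideal.radical_eq_sInf]
        refine le_sInf fun P hP => ?_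
        have hP0 : P ≠ ⊥ := fun h => hJ0 (le_bot_iff.mp (h ▸ hP.1))
        exact (huniq m P hm (hmax' P hP.2 hP0)).le
      · exact hm.isPrime.radical_le_iff.mpr (hjac m hm)
    refine ⟨hdim, hrad, ?_⟩
    obtain ⟨N, hN⟩ := Ideal.exists_radical_pow_le_of_fg (I.map (Ideal.Quotient.mk q.asIdeal))
      (IsNoetherian.noetherian _)
    exact isAdicComplete_of_pow_le (I.map (Ideal.Quotient.mk q.asIdeal))
      (I.map (Ideal.Quotient.mk q.asIdeal)).radical N Ideal.le_radical
      ((Ideal.pow_le_pow_right (Nat.le_succ N)).trans hN)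
  tfae_have 3 → 1 := by
    rintro ⟨hdim, hrad, -⟩
    rw [h1iff]
    have hd := (dim_eq_one_iff (A ⧸ q.asIdeal)).mp hdim
    have hJ0 : I.map (Ideal.Quotient.mk q.asIdeal) ≠ ⊥ := by
      intro h
      obtain ⟨m, hm⟩ := Ideal.exists_maximal (A ⧸ q.asIdeal)
      have hm0 : m = ⊥ := by
        rw [hrad m hm, h]
        exact Ideal.radical_bot_of_isReduced
      exact hd.1 (Ring.isField_iff_maximal_bot.mpr (hm0 ▸ hm))
    exact ⟨hJ0, fun P hP hP0 => hjac P (hd.2 P hP0 hP)⟩
  tfae_finish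

end Groth.Agent.S8804
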