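import Groth.Statements.S4740
import Mathlib
import Groth.Agent.H23.SemilocalCpl
import Groth.Agent.H23.CplFlat2
import Groth.Agent.H23.CplQuot
import Groth.Agent.H23.FinQuotPow
import Groth.Agent.Lead.CompleteNoetherian
import Groth.Agent.Lead.FlatKrull

set_option autoImplicit false
universe u
attribute [local instance] Algebra.TensorProduct.rightAlgebra
open EGA4

namespace Groth.Agent.S4740

open TensorProduct

section Aux

open IsLocalRing

/-- `(A ⊗[k] B) ⧸ 𝔟` is a finite `B`-module when `𝔟 ⊇ 𝔞 (A ⊗[k] B)` and `A ⧸ 𝔞` is finite over `k`. -/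
theorem finite_quotient_of_finite (k A B : Type u) [Field k] [CommRing A] [CommRing B]
    [Algebra k A] [Algebra k B] (𝔞 : Ideal A) [Module.Finite k (A ⧸ 𝔞)] (𝔟 : Ideal (A ⊗[k] B))
    (h𝔟 : 𝔞.map (algebraMap A (A ⊗[k] B)) ≤ 𝔟) : Module.Finite B ((A ⊗[k] B) ⧸ 𝔟) := by
  classical
  obtain ⟨s, hs⟩ := Module.finite_def.mp (inferInstance : Module.Finite k (A ⧸ 𝔞))
  choose lift hlift using (fun x : A ⧸ 𝔞 => Ideal.Quotient.mk_surjective x)
  have h0 : ∀ a ∈ 𝔞, ∀ c : B, Ideal.Quotient.mk 𝔟 (a ⊗ₜ[k] c) = 0 := by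
    intro a ha c
    rw [Ideal.Quotient.eq_zero_iff_mem]
    have h1 : a ⊗ₜ[k] c = algebraMap A (A ⊗[k] B) a * (1 ⊗ₜ[k] c) := by
      rw [Algebra.TensorProduct.algebraMap_apply, Algebra.TensorProduct.tmul_mul_tmul]
      simp
    rw [h1]
    exact 𝔟.mul_mem_right _ (h𝔟 (Ideal.mem_map_of_mem _ ha))
  refine ⟨⟨s.image (fun x => Ideal.Quotient.mk 𝔟 (lift x ⊗ₜ[k] (1 : B))), ?_⟩⟩
  rw [eq_top_iff]
  rintro x -
  obtain ⟨t, rfl⟩ := Ideal.Quotient.mk_surjective x
  have key : ∀ y ∈ Submodule.span k (s : Set (A ⧸ 𝔞)), ∀ a : A,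
      Ideal.Quotient.mk 𝔞 a = y → ∀ c : B, Ideal.Quotient.mk 𝔟 (a ⊗ₜ[k] c) ∈
        Submodule.span B (↑(s.image (fun x => Ideal.Quotient.mk 𝔟 (lift x ⊗ₜ[k] (1 : B)))) :
          Set ((A ⊗[k] B) ⧸ 𝔟)) := by
    intro y hy
    induction hy using Submodule.span_induction with
    | mem y hy =>
      intro a ha c
      have h1 : a - lift y ∈ 𝔞 := by
        rw [← Ideal.Quotient.eq_zero_iff_mem, map_sub, ha, hlift, sub_self]
      have h2 : a ⊗ₜ[k] c = (a - lift y) ⊗ₜ[k] c + lift y ⊗ₜ[k] c := by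
        rw [← TensorProduct.add_tmul, sub_add_cancel]
      rw [h2, map_add, h0 _ h1, zero_add]
      have h3 : lift y ⊗ₜ[k] c = (1 ⊗ₜ[k] c) * (lift y ⊗ₜ[k] (1 : B)) := by
        rw [Algebra.TensorProduct.tmul_mul_tmul]
        simp
      rw [h3, map_mul]
      have h4 : Ideal.Quotient.mk 𝔟 ((1 : A) ⊗ₜ[k] c) * Ideal.Quotient.mk 𝔟 (lift y ⊗ₜ[k] (1 : B)) =
          c • Ideal.Quotient.mk 𝔟 (lift y ⊗ₜ[k] (1 : B)) := by
        rw [← map_mul]
        have h5 : c • (lift y ⊗ₜ[k] (1 : B) : A ⊗[k] B) = (1 ⊗ₜ[k] c) * (lift y ⊗ₜ[k] (1 : B)) := by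
          rw [Algebra.smul_def]
          rfl
        rw [← h5]
        rfl
      rw [h4]
      exact Submodule.smul_mem _ _ (Submodule.subset_span
        (Finset.mem_coe.2 (Finset.mem_image_of_mem _ hy)))
    | zero =>
      intro a ha c
      rw [h0 a (Ideal.Quotient.eq_zero_iff_mem.mp ha) c]
      exact Submodule.zero_mem _
    | add y z _ _ hy hz =>
      intro a ha c
      obtain ⟨b, hb⟩ := Ideal.Quotient.mk_surjective y
      have h1 : Ideal.Quotient.mk 𝔞 (a - b) = z := by
        rw [map_sub, ha, hb, add_sub_cancel_left]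
      have h2 : a ⊗ₜ[k] c = b ⊗ₜ[k] c + (a - b) ⊗ₜ[k] c := by
        rw [← TensorProduct.add_tmul, add_sub_cancel]
      rw [h2, map_add]
      exact Submodule.add_mem _ (hy b hb c) (hz (a - b) h1 c)
    | smul l y _ hy =>
      intro a ha c
      obtain ⟨b, hb⟩ := Ideal.Quotient.mk_surjective y
      have h1 : Ideal.Quotient.mk 𝔞 (l • b) = l • y := by
        rw [← hb]
        rfl
      have h2 : a - l • b ∈ 𝔞 := by
        rw [← Ideal.Quotient.eq_zero_iff_mem, map_sub, ha, h1, sub_self]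
      have h3 : a ⊗ₜ[k] c = (a - l • b) ⊗ₜ[k] c + b ⊗ₜ[k] (l • c) := by
        rw [← TensorProduct.smul_tmul, ← TensorProduct.add_tmul, sub_add_cancel]
      rw [h3, map_add, h0 _ h2, zero_add]
      exact hy b hb (l • c)
  induction t using TensorProduct.induction_on with
  | zero => rw [map_zero]; exact Submodule.zero_mem _
  | add x y hx hy => rw [map_add]; exact Submodule.add_mem _ hx hy
  | tmul a c =>
    exact key _ (by rw [hs]; trivial) a rfl c

/-- `r • x ∈ 𝔫 X` for `r ∈ 𝔫 T`. -/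
theorem smul_mem_smul_top_of_mem_map {B T X : Type*} [CommRing B] [CommRing T] [Algebra B T]
    [AddCommGroup X] [Module B X] [Module T X] [IsScalarTower B T X] (𝔫 : Ideal B) (r : T)
    (hr : r ∈ 𝔫.map (algebraMap B T)) (x : X) : r • x ∈ (𝔫 • ⊤ : Submodule B X) := by
  revert x
  refine Submodule.span_induction (p := fun r _ => ∀ x : X, r • x ∈ (𝔫 • ⊤ : Submodule B X))
    ?_ ?_ ?_ ?_ hr
  · rintro _ ⟨b, hb, rfl⟩ x
    rw [algebraMap_smul]
    exact Submodule.smul_mem_smul hb Submodule.mem_top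
  · intro x
    rw [zero_smul]
    exact Submodule.zero_mem _
  · intro r s _ _ hr hs x
    rw [add_smul]
    exact Submodule.add_mem _ (hr x) (hs x)
  · intro t r _ hr x
    rw [smul_eq_mul, mul_comm, mul_smul]
    exact hr (t • x)

/-- `(A ⊗[k] B) ⧸ 𝔞 (A ⊗[k] B)` is complete for the tensor product topology when `𝔞 ⊇ 𝔪_A ^ n`. -/
theorem isAdicComplete_quotient (k A B : Type u) [Field k] [CommRing A] [CommRing B]
    [Algebra k A] [Algebra k B] [IsNoetherianRing A] [IsNoetherianRing B] [IsLocalRing A]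
    [IsLocalRing B] [IsAdicComplete (maximalIdeal B) B] [Module.Finite k (ResidueField A)]
    (𝔞 : Ideal A) (n : ℕ) (h𝔞 : maximalIdeal A ^ n ≤ 𝔞) :
    IsAdicComplete (EGA4.cTensorIdeal k A B)
      ((A ⊗[k] B) ⧸ 𝔞.map (algebraMap A (A ⊗[k] B))) := by
  haveI : Module.Finite k (A ⧸ 𝔞) := by
    haveI := Groth.Agent.H23.FinQuotPow.finite_quot_pow k A n
    exact Module.Finite.of_surjective ((Ideal.Quotient.factorₐ k h𝔞).toLinearMap)
      (Ideal.Quotient.factor_surjective h𝔞)
  haveI : Module.Finite B ((A ⊗[k] B) ⧸ 𝔞.map (algebraMap A (A ⊗[k] B))) :=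
    finite_quotient_of_finite k A B 𝔞 _ le_rfl
  haveI : IsAdicComplete (maximalIdeal B) ((A ⊗[k] B) ⧸ 𝔞.map (algebraMap A (A ⊗[k] B))) :=
    Groth.Agent.Lead.isAdicComplete_of_finite (maximalIdeal B) _
  have hJ : EGA4.cTensorIdeal k A B = (maximalIdeal A).map (algebraMap A (A ⊗[k] B)) ⊔
      (maximalIdeal B).map (algebraMap B (A ⊗[k] B)) := rfl
  refine Groth.Agent.H23.CplQuot.isAdicComplete_of_cofinal (maximalIdeal B)
    (EGA4.cTensorIdeal k A B) n ?_ ?_
  · intro N x hx
    refine Submodule.smul_induction_on hx ?_ ?_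
    · intro r hr y _
      rw [← algebraMap_smul (A ⊗[k] B) r y]
      refine Submodule.smul_mem_smul ?_ Submodule.mem_top
      have h1 : algebraMap B (A ⊗[k] B) r ∈
          ((maximalIdeal B).map (algebraMap B (A ⊗[k] B))) ^ N := by
        rw [← Ideal.map_pow]
        exact Ideal.mem_map_of_mem _ hr
      rw [hJ]
      exact Ideal.pow_right_mono le_sup_right N h1
    · intro y z hy hz
      exact Submodule.add_mem _ hy hz
  · intro N x hx
    refine Submodule.smul_induction_on hx ?_ ?_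
    · intro r hr y _
      have hr' : r ∈ ((maximalIdeal A).map (algebraMap A (A ⊗[k] B))) ^ n ⊔
          ((maximalIdeal B).map (algebraMap B (A ⊗[k] B))) ^ N := by
        rw [hJ, add_comm] at hr
        exact Ideal.sup_pow_add_le_pow_sup_pow hr
      obtain ⟨r1, hr1, r2, hr2, rfl⟩ := Submodule.mem_sup.mp hr'
      rw [add_smul]
      have e1 : r1 • y = 0 := by
        obtain ⟨t, rfl⟩ := Ideal.Quotient.mk_surjective y
        change Ideal.Quotient.mk _ (r1 * t) = 0
        rw [Ideal.Quotient.eq_zero_iff_mem]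
        refine Ideal.mul_mem_right _ _ ?_
        rw [← Ideal.map_pow] at hr1
        exact Ideal.map_mono h𝔞 hr1
      rw [e1, zero_add]
      rw [← Ideal.map_pow] at hr2
      exact smul_mem_smul_top_of_mem_map (maximalIdeal B ^ N) r2 hr2 y
    · intro y z hy hz
      exact Submodule.add_mem _ hy hz

end Aux

open TensorProduct in
/-- Let k be a field and A, B complete Noetherian local rings containing k, the residue field of A being
a finite extension of k; let C be the completed tensor product of A and B over k (the completion of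
A ⊗_k B at the ideal m_A ⊗ B + A ⊗ m_B). Then (i) C is Noetherian with finitely many maximal ideals;
(ii) C is flat over A and over B; (iii) m_A C is contained in the Jacobson radical of C and C/m_A C
is isomorphic to (A/m_A) ⊗_k B; (iv) the residue field of C at each of its maximal ideals is a
finite B-module. (Completeness of C, also asserted in the published item, is not restated; the
isomorphism in (iii) is asserted to exist only.) -/
theorem result (k A B : Type u) [Field k] [CommRing A] [CommRing B] [Algebra k A] [Algebra k B]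
    [IsNoetherianRing A] [IsNoetherianRing B] [IsLocalRing A] [IsLocalRing B]
    [IsAdicComplete (IsLocalRing.maximalIdeal A) A] [IsAdicComplete (IsLocalRing.maximalIdeal B) B]
    [Module.Finite k (IsLocalRing.ResidueField A)] :
    (IsNoetherianRing (EGA4.CTensor k A B) ∧ (Set.univ : Set (MaximalSpectrum (EGA4.CTensor k A B))).Finite) ∧
      (Module.Flat A (EGA4.CTensor k A B) ∧ Module.Flat B (EGA4.CTensor k A B)) ∧
      ((IsLocalRing.maximalIdeal A).map (algebraMap A (EGA4.CTensor k A B)) ≤ (⊥ : Ideal (EGA4.CTensor k A B)).jacobson ∧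
        Nonempty ((EGA4.CTensor k A B ⧸ (IsLocalRing.maximalIdeal A).map (algebraMap A (EGA4.CTensor k A B))) ≃+*
          ((A ⧸ IsLocalRing.maximalIdeal A) ⊗[k] B))) ∧
      (∀ (M : Ideal (EGA4.CTensor k A B)) [M.IsMaximal], Module.Finite B (EGA4.CTensor k A B ⧸ M)) := by
  classical
  have hmAfg : (IsLocalRing.maximalIdeal A).FG := IsNoetherian.noetherian _
  have hmBfg : (IsLocalRing.maximalIdeal B).FG := IsNoetherian.noetherian _
  have hJ : EGA4.cTensorIdeal k A B =
      (IsLocalRing.maximalIdeal A).map (algebraMap A (A ⊗[k] B)) ⊔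
      (IsLocalRing.maximalIdeal B).map (algebraMap B (A ⊗[k] B)) := rfl
  have hJfg : (EGA4.cTensorIdeal k A B).FG := by
    rw [hJ]
    exact Submodule.FG.sup (hmAfg.map _) (hmBfg.map _)
  haveI hfinB : Module.Finite B ((A ⊗[k] B) ⧸ EGA4.cTensorIdeal k A B) := by
    haveI : Module.Finite k (A ⧸ IsLocalRing.maximalIdeal A) :=
      ‹Module.Finite k (IsLocalRing.ResidueField A)›
    exact finite_quotient_of_finite k A B (IsLocalRing.maximalIdeal A) _
      (by rw [hJ]; exact le_sup_left)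
  haveI hart : IsArtinianRing ((A ⊗[k] B) ⧸ EGA4.cTensorIdeal k A B) := by
    let φ : B ⧸ IsLocalRing.maximalIdeal B →+* (A ⊗[k] B) ⧸ EGA4.cTensorIdeal k A B :=
      Ideal.Quotient.lift (IsLocalRing.maximalIdeal B)
        (algebraMap B ((A ⊗[k] B) ⧸ EGA4.cTensorIdeal k A B)) (by
        intro b hb
        change Ideal.Quotient.mk _ (algebraMap B (A ⊗[k] B) b) = 0
        rw [Ideal.Quotient.eq_zero_iff_mem, hJ]
        exact Ideal.mem_sup_right (Ideal.mem_map_of_mem _ hb))
    have hφ : φ.Finite := by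
      refine RingHom.Finite.of_comp_finite (f := Ideal.Quotient.mk (IsLocalRing.maximalIdeal B)) ?_
      have h1 : φ.comp (Ideal.Quotient.mk (IsLocalRing.maximalIdeal B)) =
          algebraMap B ((A ⊗[k] B) ⧸ EGA4.cTensorIdeal k A B) :=
        Ideal.Quotient.lift_comp_mk _ _ _
      rw [h1]
      exact RingHom.finite_algebraMap.mpr hfinB
    letI := Ideal.Quotient.field (IsLocalRing.maximalIdeal B)
    letI := φ.toAlgebra
    haveI : Module.Finite (B ⧸ IsLocalRing.maximalIdeal B)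
        ((A ⊗[k] B) ⧸ EGA4.cTensorIdeal k A B) := hφ
    exact IsArtinianRing.of_finite (B ⧸ IsLocalRing.maximalIdeal B) _
  haveI hCn : IsNoetherianRing (EGA4.CTensor k A B) :=
    Groth.Agent.Lead.isNoetherianRing_adicCompletion _ hJfg
  haveI hc : IsAdicComplete ((EGA4.cTensorIdeal k A B).map
      (algebraMap (A ⊗[k] B) (EGA4.CTensor k A B))) (EGA4.CTensor k A B) :=
    (IsAdicComplete.map_algebraMap_iff (I := EGA4.cTensorIdeal k A B)
      (S := EGA4.CTensor k A B) (M := EGA4.CTensor k A B)).2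
      (AdicCompletion.isAdicComplete hJfg)
  have hjacJ : (EGA4.cTensorIdeal k A B).map
      (algebraMap (A ⊗[k] B) (EGA4.CTensor k A B)) ≤ Ideal.jacobson ⊥ :=
    IsAdicComplete.le_jacobson_bot _
  have hker := AdicCompletion.ker_evalOneₐ_eq_map (EGA4.cTensorIdeal k A B) hJfg
  haveI hartC : IsArtinianRing (EGA4.CTensor k A B ⧸ (EGA4.cTensorIdeal k A B).map
      (algebraMap (A ⊗[k] B) (EGA4.CTensor k A B))) := by
    have e1 := (Ideal.quotEquivOfEq hker.symm).trans (RingHom.quotientKerEquivOfSurjective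
      (f := (AdicCompletion.evalOneₐ (EGA4.cTensorIdeal k A B)).toRingHom)
      (AdicCompletion.evalOneₐ_surjective (EGA4.cTensorIdeal k A B)))
    exact e1.symm.isArtinianRing
  obtain ⟨hfin, hM⟩ := Groth.Agent.H23.SemilocalCpl.semilocal_complete
    (EGA4.CTensor k A B)
    ((EGA4.cTensorIdeal k A B).map (algebraMap (A ⊗[k] B) (EGA4.CTensor k A B)))
  -- `𝔪_A C` is inside the radical
  have hmapA : (IsLocalRing.maximalIdeal A).map (algebraMap A (EGA4.CTensor k A B)) ≤
      (EGA4.cTensorIdeal k A B).map (algebraMap (A ⊗[k] B) (EGA4.CTensor k A B)) := by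
    rw [IsScalarTower.algebraMap_eq A (A ⊗[k] B) (EGA4.CTensor k A B), ← Ideal.map_map]
    exact Ideal.map_mono (by rw [hJ]; exact le_sup_left)
  have hjacA : (IsLocalRing.maximalIdeal A).map (algebraMap A (EGA4.CTensor k A B)) ≤
      Ideal.jacobson ⊥ := hmapA.trans hjacJ
  -- bijections modulo ideals containing a power of `𝔪_A`
  have hbij : ∀ (𝔞 : Ideal A) (n : ℕ), IsLocalRing.maximalIdeal A ^ n ≤ 𝔞 →
      Function.Bijective (Ideal.quotientMap
        ((𝔞.map (algebraMap A (A ⊗[k] B))).map (algebraMap (A ⊗[k] B) (EGA4.CTensor k A B)))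
        (algebraMap (A ⊗[k] B) (EGA4.CTensor k A B)) Ideal.le_comap_map) := by
    intro 𝔞 n h𝔞
    haveI := isAdicComplete_quotient k A B 𝔞 n h𝔞
    exact Groth.Agent.H23.CplQuot.bijective_quotientMap (EGA4.cTensorIdeal k A B) hJfg
      (𝔞.map (algebraMap A (A ⊗[k] B)))
  haveI hflatA : Module.Flat A (EGA4.CTensor k A B) :=
    Groth.Agent.H23.CplFlat.flat_of_bijective_quotients (T := A ⊗[k] B)
      (IsLocalRing.maximalIdeal A) hjacA (fun n => hbij _ n le_rfl)
  -- flatness over `B` of the quotients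
  have hflatQ : ∀ (𝔞 : Ideal A) (n : ℕ), IsLocalRing.maximalIdeal A ^ n ≤ 𝔞 →
      Module.Flat B (EGA4.CTensor k A B ⧸
        (𝔞.map (algebraMap A (A ⊗[k] B))).map (algebraMap (A ⊗[k] B) (EGA4.CTensor k A B))) := by
    intro 𝔞 n h𝔞
    haveI hVB : Module.Flat B ((A ⧸ 𝔞) ⊗[k] B) := by
      rw [← RingHom.flat_algebraMap_iff]
      exact RingHom.Flat.isStableUnderBaseChange k (A ⧸ 𝔞) B ((A ⧸ 𝔞) ⊗[k] B)
        (RingHom.flat_algebraMap_iff.mpr inferInstance)
    let r : (A ⧸ 𝔞) ⊗[k] B ≃+* EGA4.CTensor k A B ⧸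
        (𝔞.map (algebraMap A (A ⊗[k] B))).map (algebraMap (A ⊗[k] B) (EGA4.CTensor k A B)) :=
      (Algebra.TensorProduct.quotientTensorEquiv (R := k) k B A 𝔞).toRingEquiv.trans
        (RingEquiv.ofBijective _ (hbij 𝔞 n h𝔞))
    have hr : ∀ b : B, r (algebraMap B ((A ⧸ 𝔞) ⊗[k] B) b) =
        Ideal.Quotient.mk _ (algebraMap B (EGA4.CTensor k A B) b) := fun b => rfl
    let rl : (A ⧸ 𝔞) ⊗[k] B ≃ₗ[B] EGA4.CTensor k A B ⧸
        (𝔞.map (algebraMap A (A ⊗[k] B))).map (algebraMap (A ⊗[k] B) (EGA4.CTensor k A B)) :=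
      { r with
        map_smul' := fun b x => by
          simp only [RingHom.id_apply]
          change r (b • x) = b • r x
          rw [Algebra.smul_def, map_mul, hr]
          obtain ⟨c, hc⟩ := Ideal.Quotient.mk_surjective (r x)
          rw [← hc, ← map_mul, ← Algebra.smul_def]
          rfl }
    exact Module.Flat.of_linearEquiv rl.symm
  haveI hflatB : Module.Flat B (EGA4.CTensor k A B) := by
    refine Groth.Agent.Lead.flat_of_forall_flat_quotient_pow (A := B) (B := EGA4.CTensor k A B)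
      (M := EGA4.CTensor k A B)
      ((IsLocalRing.maximalIdeal A).map (algebraMap A (EGA4.CTensor k A B))) hjacA ?_
    intro n
    have heq : (((IsLocalRing.maximalIdeal A).map (algebraMap A (EGA4.CTensor k A B))) ^ (n + 1) •
        (⊤ : Submodule (EGA4.CTensor k A B) (EGA4.CTensor k A B))) =
        (((IsLocalRing.maximalIdeal A) ^ (n + 1)).map (algebraMap A (A ⊗[k] B))).map
          (algebraMap (A ⊗[k] B) (EGA4.CTensor k A B)) := by
      rw [smul_eq_mul, Ideal.mul_top, ← Ideal.map_pow,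
        IsScalarTower.algebraMap_eq A (A ⊗[k] B) (EGA4.CTensor k A B), ← Ideal.map_map]
    rw [heq]
    exact hflatQ _ (n + 1) le_rfl
  refine ⟨⟨hCn, @Set.finite_univ _ hfin⟩, ⟨hflatA, hflatB⟩, ⟨hjacA, ?_⟩, ?_⟩
  · have heq : (IsLocalRing.maximalIdeal A).map (algebraMap A (EGA4.CTensor k A B)) =
        ((IsLocalRing.maximalIdeal A).map (algebraMap A (A ⊗[k] B))).map
          (algebraMap (A ⊗[k] B) (EGA4.CTensor k A B)) := by
      rw [IsScalarTower.algebraMap_eq A (A ⊗[k] B) (EGA4.CTensor k A B), ← Ideal.map_map]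
    have hle : IsLocalRing.maximalIdeal A ^ 1 ≤ IsLocalRing.maximalIdeal A := by rw [pow_one]
    exact ⟨(Ideal.quotEquivOfEq heq).trans
      ((Algebra.TensorProduct.quotientTensorEquiv (R := k) k B A
        (IsLocalRing.maximalIdeal A)).toRingEquiv.trans
        (RingEquiv.ofBijective _ (hbij (IsLocalRing.maximalIdeal A) 1 hle))).symm⟩
  · intro M hMmax
    have hJM : (EGA4.cTensorIdeal k A B).map
        (algebraMap (A ⊗[k] B) (EGA4.CTensor k A B)) ≤ M :=
      hjacJ.trans (sInf_le (by exact ⟨bot_le, hMmax⟩ :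
        M ∈ {J : Ideal (EGA4.CTensor k A B) | ⊥ ≤ J ∧ J.IsMaximal}))
    let l : ((A ⊗[k] B) ⧸ EGA4.cTensorIdeal k A B) →+* (EGA4.CTensor k A B ⧸ M) :=
      Ideal.Quotient.lift (EGA4.cTensorIdeal k A B) ((Ideal.Quotient.mk M).comp
        (algebraMap (A ⊗[k] B) (EGA4.CTensor k A B))) (by
        intro t ht
        rw [RingHom.comp_apply, Ideal.Quotient.eq_zero_iff_mem]
        exact hJM (Ideal.mem_map_of_mem _ ht))
    have hl : Function.Surjective l := by
      intro y
      obtain ⟨c, rfl⟩ := Ideal.Quotient.mk_surjective y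
      obtain ⟨t, ht⟩ := Ideal.Quotient.mk_surjective
        (AdicCompletion.evalOneₐ (EGA4.cTensorIdeal k A B) c)
      refine ⟨Ideal.Quotient.mk _ t, ?_⟩
      rw [Ideal.Quotient.lift_mk, RingHom.comp_apply]
      rw [Ideal.Quotient.eq]
      apply hJM
      rw [← hker, RingHom.mem_ker, map_sub, sub_eq_zero]
      change AdicCompletion.evalOneₐ (EGA4.cTensorIdeal k A B) (algebraMap _ _ t) =
        AdicCompletion.evalOneₐ (EGA4.cTensorIdeal k A B) c
      rw [← ht]
      exact AdicCompletion.evalOneₐ_of (EGA4.cTensorIdeal k A B) t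
    have hcomp := RingHom.Finite.comp (RingHom.Finite.of_surjective l hl)
      (RingHom.finite_algebraMap.mpr hfinB)
    have heq : l.comp (algebraMap B ((A ⊗[k] B) ⧸ EGA4.cTensorIdeal k A B)) =
        algebraMap B (EGA4.CTensor k A B ⧸ M) := by
      ext b
      rfl
    rw [heq] at hcomp
    exact RingHom.finite_algebraMap.mp hcomp

end Groth.Agent.S4740
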