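import Groth.Statements.S10837
import Mathlib.AlgebraicGeometry.Morphisms.UnderlyingMap
import Mathlib.AlgebraicGeometry.AffineScheme

set_option autoImplicit false
universe u
open CategoryTheory AlgebraicGeometry Topology
open Mor

namespace Groth.Agent.S10837

theorem generalizing_comap_of_isOpenMap {A B : Type u} [CommRing A] [CommRing B] (φ : B →+* A)
    (h : IsOpenMap (PrimeSpectrum.comap φ)) : GeneralizingMap (PrimeSpectrum.comap φ) := by
  intro p q' hq'
  set I : Ideal A := q'.asIdeal.map φ with hI
  set S : Submonoid A := p.asIdeal.primeCompl ⊔ q'.asIdeal.primeCompl.map φ with hS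
  have hdisj : Disjoint (I : Set A) S := by
    rw [Set.disjoint_left]
    intro x hxI hxS
    obtain ⟨a, ha, c, hc, rfl⟩ := Submonoid.mem_sup.mp hxS
    obtain ⟨b, hb, rfl⟩ := hc
    have hopen : IsOpen (PrimeSpectrum.comap φ '' (PrimeSpectrum.basicOpen a : Set (PrimeSpectrum A))) :=
      h _ (PrimeSpectrum.basicOpen a).isOpen
    have hmem : PrimeSpectrum.comap φ p ∈
        PrimeSpectrum.comap φ '' (PrimeSpectrum.basicOpen a : Set (PrimeSpectrum A)) :=
      ⟨p, ha, rfl⟩
    obtain ⟨P, hPa, hPq⟩ := hq'.mem_open hopen hmem
    have hIP : I ≤ P.asIdeal := by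
      rw [hI, Ideal.map_le_iff_le_comap, ← hPq]
      exact le_rfl
    have hx : a * φ b ∈ P.asIdeal := hIP hxI
    rcases P.isPrime.mem_or_mem hx with h1 | h1
    · exact hPa h1
    · apply hb
      rw [← hPq]
      exact h1
  obtain ⟨p', hp'prime, hIp', hp'S⟩ := Ideal.exists_le_prime_disjoint I S hdisj
  rw [Set.disjoint_left] at hp'S
  refine ⟨⟨p', hp'prime⟩, ?_, ?_⟩
  · show _ ⤳ _
    rw [← PrimeSpectrum.le_iff_specializes]
    intro x hx
    by_contra hxp
    exact hp'S hx (Submonoid.mem_sup_left (show x ∈ p.asIdeal.primeCompl from hxp))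
  · apply PrimeSpectrum.ext
    apply le_antisymm
    · intro b hb
      by_contra hbq
      exact hp'S hb (Submonoid.mem_sup_right ⟨b, hbq, rfl⟩)
    · intro b hb
      exact hIp' (Ideal.mem_map_of_mem φ hb)

/-- For a morphism of schemes f : X → Y which is open as a map of topological spaces, generalizations
lift along f: every generalization of f(x) is the image of a generalization of x. -/
theorem result {X Y : Scheme.{u}} (f : X ⟶ Y) (hf : IsOpenMap f.base) :
    GeneralizingMap f.base := by
  change topologically GeneralizingMap f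
  replace hf : topologically IsOpenMap f := hf
  wlog hY : IsAffine Y generalizing X Y
  · rw [IsZariskiLocalAtTarget.iff_of_openCover (P := topologically GeneralizingMap) Y.affineCover]
    intro i
    apply this
    · exact (IsZariskiLocalAtTarget.iff_of_openCover (P := topologically IsOpenMap)
        Y.affineCover).mp hf i
    · infer_instance
  wlog hX : IsAffine X generalizing X
  · rw [IsZariskiLocalAtSource.iff_of_openCover (P := topologically GeneralizingMap) X.affineCover]
    intro i
    apply this
    · exact (IsZariskiLocalAtSource.iff_of_openCover (P := topologically IsOpenMap)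
        X.affineCover).mp hf i
    · infer_instance
  rw [(topologically GeneralizingMap).arrow_mk_iso_iff (arrowIsoSpecΓOfIsAffine f)]
  rw [(topologically IsOpenMap).arrow_mk_iso_iff (arrowIsoSpecΓOfIsAffine f)] at hf
  exact generalizing_comap_of_isOpenMap _ hf

end Groth.Agent.S10837
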