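import Groth.Statements.S10838
import Groth.Agent.S10837
import Mathlib.Topology.Sober
import Mathlib.AlgebraicGeometry.Properties
import Mathlib.Topology.KrullDimension

set_option autoImplicit false
universe u
open CategoryTheory AlgebraicGeometry Topology
open Mor

namespace Groth.Agent.S10838

theorem krullDim_le_of_surjective_of_lifts {α β : Type*} [Preorder α] [Preorder β]
    (f : α → β) (hsurj : Function.Surjective f)
    (hup : ∀ a b, f a < b → ∃ a', a < a' ∧ f a' = b) : Order.krullDim β ≤ Order.krullDim α := by
  have key : ∀ l : LTSeries β, ∃ L : LTSeries α, L.length = l.length ∧ f L.last = l.last := by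
    intro l
    induction l using RelSeries.inductionOn' with
    | singleton b =>
      obtain ⟨a, rfl⟩ := hsurj b
      exact ⟨RelSeries.singleton _ a, rfl, rfl⟩
    | snoc l q hlt ih =>
      obtain ⟨L, hlen, hlast⟩ := ih
      obtain ⟨a', ha', hfa'⟩ := hup L.last q (hlast ▸ hlt)
      exact ⟨L.snoc a' ha', by simp [hlen], by simp [hfa']⟩
  rw [Order.krullDim]
  apply iSup_le
  intro l
  obtain ⟨L, hlen, -⟩ := key l
  rw [← hlen]
  exact Order.LTSeries.length_le_krullDim L

theorem dim_le_of_generalizing_surjective {X Y : Type*} [TopologicalSpace X] [TopologicalSpace Y]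
    [T0Space X] [QuasiSober X] [T0Space Y] [QuasiSober Y] (f : X → Y)
    (hs : Function.Surjective f) (hg : GeneralizingMap f) :
    topologicalKrullDim Y ≤ topologicalKrullDim X := by
  letI := specializationOrder X
  letI := specializationOrder Y
  unfold topologicalKrullDim
  rw [Order.krullDim_eq_of_orderIso (irreducibleSetEquivPoints (α := X)),
      Order.krullDim_eq_of_orderIso (irreducibleSetEquivPoints (α := Y))]
  apply krullDim_le_of_surjective_of_lifts f hs
  intro a b hab
  have h1 : b ⤳ f a := hab.le
  obtain ⟨a', ha', rfl⟩ := hg h1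
  refine ⟨a', lt_of_le_of_ne ha' ?_, rfl⟩
  rintro rfl
  exact lt_irrefl _ hab

/-- For a morphism of schemes f : X → Y which is open as a map of topological spaces, the Krull
dimension of the image f(X) (with the subspace topology from Y) is at most the Krull dimension of X. -/
theorem result {X Y : Scheme.{u}} (f : X ⟶ Y) (hf : IsOpenMap f.base) :
    topologicalKrullDim ↥(Set.range f.base) ≤ topologicalKrullDim ↥X := by
  have hgen := Groth.Agent.S10837.result f hf
  haveI : QuasiSober (Set.range f.base) :=
    (hf.isOpen_range.isOpenEmbedding_subtypeVal).quasiSober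
  apply dim_le_of_generalizing_surjective (Set.rangeFactorization f.base)
    Set.rangeFactorization_surjective
  intro x y' hy'
  have h1 : (y' : Y) ⤳ f.base x := (subtype_specializes_iff _ _).mp hy'
  obtain ⟨x', hx', hfx'⟩ := hgen h1
  exact ⟨x', hx', Subtype.ext hfx'⟩

end Groth.Agent.S10838
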