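import Groth.Statements.S10825
import Groth.Agent.S10838
import Mathlib.RingTheory.Norm.Transitivity
import Mathlib.RingTheory.Norm.Basic
import Mathlib.FieldTheory.Minpoly.IsIntegrallyClosed
import Mathlib.RingTheory.Ideal.GoingUp
import Mathlib.RingTheory.Spectrum.Prime.Topology
import Mathlib.RingTheory.KrullDimension.NonZeroDivisors
import Mathlib.Topology.KrullDimension

set_option autoImplicit false
universe u
open Topology
open CAlg

namespace Groth.Agent.S10825

section

variable (A B K L : Type u) [CommRing A] [IsDomain A] [CommRing B] [IsDomain B] [Algebra A B]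
    [Field K] [Field L] [Algebra A K] [IsFractionRing A K] [Algebra B L] [IsFractionRing B L]
    [Algebra A L] [Algebra K L] [IsScalarTower A B L] [IsScalarTower A K L]
    [FiniteDimensional K L] [Algebra.IsIntegral A B] [IsIntegrallyClosed A]

include K L in
open Polynomial IntermediateField in
/-- The norm of `b` is a multiple of `b` in `B`. -/
theorem norm_mem_span (b : B) (a : A)
    (ha : algebraMap A K a = Algebra.norm K (algebraMap B L b)) :
    ∃ b' : B, algebraMap A B a = b * b' := by
  set β := algebraMap B L b with hβ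
  have hbint : IsIntegral A b := Algebra.IsIntegral.isIntegral b
  have hβint : IsIntegral A β := hbint.algebraMap
  have hβK : IsIntegral K β := Algebra.IsIntegral.isIntegral β
  have hmin : minpoly K β = (minpoly A β).map (algebraMap A K) :=
    minpoly.isIntegrallyClosed_eq_field_fractions' K hβint
  have hinjBL : Function.Injective (algebraMap B L) := IsFractionRing.injective B L
  have hminb : minpoly A β = minpoly A b := minpoly.algebraMap_eq hinjBL b
  -- the constant coefficient is a multiple of b
  set m := minpoly A b with hm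
  have haev : aeval b m = 0 := minpoly.aeval A b
  have hc0 : algebraMap A B (m.coeff 0) = b * (- aeval b (divX m)) := by
    have h1 : aeval b (divX m * X + C (m.coeff 0)) = 0 := by rw [divX_mul_X_add]; exact haev
    rw [map_add, map_mul, aeval_X, aeval_C] at h1
    have h2 : algebraMap A B (m.coeff 0) = - (aeval b (divX m) * b) := eq_neg_of_add_eq_zero_right h1
    rw [h2]; ring
  -- norm in terms of the constant coefficient
  have hnorm : Algebra.norm K β =
      ((-1) ^ (adjoin.powerBasis hβK).dim * algebraMap A K (m.coeff 0)) ^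
        Module.finrank K⟮β⟯ L := by
    rw [Algebra.norm_eq_norm_adjoin K β]
    congr 1
    have h3 := Algebra.PowerBasis.norm_gen_eq_coeff_zero_minpoly (adjoin.powerBasis hβK)
    rw [adjoin.powerBasis_gen, minpoly_gen, hmin, hminb, coeff_map] at h3
    exact h3
  have hepos : 0 < Module.finrank K⟮β⟯ L := Module.finrank_pos
  obtain ⟨e', he'⟩ : ∃ e', Module.finrank K⟮β⟯ L = e' + 1 := ⟨_, (Nat.succ_pred_eq_of_pos hepos).symm⟩
  set c : A := (-1) ^ (adjoin.powerBasis hβK).dim * m.coeff 0 with hc
  have hac : a = c ^ (e' + 1) := by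
    apply IsFractionRing.injective A K
    rw [ha, hnorm, he', hc]
    simp only [map_pow, map_mul, map_neg, map_one]
  refine ⟨- aeval b (divX m) * (algebraMap A B ((-1) ^ (adjoin.powerBasis hβK).dim) *
    algebraMap A B (c ^ e')), ?_⟩
  rw [hac, pow_succ, map_mul, hc, map_mul, hc0]
  ring

include K L in
/-- If a multiple of `b` lies in `A`, it lies in every prime containing the norm. -/
theorem mem_of_mem_span (b : B) (a : A)
    (ha : algebraMap A K a = Algebra.norm K (algebraMap B L b))
    (x : A) (hx : algebraMap A B x ∈ Ideal.span {b}) (p : Ideal A) [p.IsPrime] (hap : a ∈ p) :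
    x ∈ p := by
  obtain ⟨b'', hb''⟩ := Ideal.mem_span_singleton'.mp hx
  have hint : IsIntegral A (algebraMap B L b'') :=
    (Algebra.IsIntegral.isIntegral b'').algebraMap
  obtain ⟨a'', ha''⟩ := IsIntegrallyClosed.algebraMap_eq_of_integral
    (Algebra.isIntegral_norm K hint)
  have h1 : algebraMap A L x = algebraMap B L b'' * algebraMap B L b := by
    rw [← map_mul, hb'', ← IsScalarTower.algebraMap_apply]
  have h2 : Algebra.norm K (algebraMap A L x) = (algebraMap A K x) ^ Module.finrank K L := by
    rw [IsScalarTower.algebraMap_apply A K L, Algebra.norm_algebraMap]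
  have h3 : algebraMap A K (x ^ Module.finrank K L) = algebraMap A K (a'' * a) := by
    rw [map_pow, ← h2, h1, map_mul, map_mul, ha'', ha]
  have h4 : x ^ Module.finrank K L = a'' * a := IsFractionRing.injective A K h3
  have h5 : x ^ Module.finrank K L ∈ p := by rw [h4]; exact p.mul_mem_left _ hap
  exact Ideal.IsPrime.mem_of_pow_mem inferInstance _ h5

end

theorem topologicalKrullDim_zeroLocus {R : Type u} [CommRing R] (s : Set R) :
    topologicalKrullDim ↥(PrimeSpectrum.zeroLocus s) =
      Order.krullDim ↥(PrimeSpectrum.zeroLocus s) := by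
  unfold topologicalKrullDim
  rw [Order.krullDim_eq_of_orderIso (PrimeSpectrum.zeroLocusEquivIrreducibleCloseds s),
    Order.krullDim_orderDual]

/-- Let A → B be an injective integral homomorphism of integral domains with fraction fields K and L, L
a finite extension of K, and A integrally closed. For b in B the norm N_{L/K}(b) lies in A; if a
denotes this element of A, then the image of the closed set V(b) of Spec B under Spec B → Spec A is
exactly V(a), and V(b) and V(a) have the same dimension. -/
theorem result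
    (A B K L : Type u) [CommRing A] [IsDomain A] [CommRing B] [IsDomain B] [Algebra A B]
    [Field K] [Field L] [Algebra A K] [IsFractionRing A K] [Algebra B L] [IsFractionRing B L]
    [Algebra A L] [Algebra K L] [IsScalarTower A B L] [IsScalarTower A K L]
    [FiniteDimensional K L] [Algebra.IsIntegral A B] [IsIntegrallyClosed A]
    (hinj : Function.Injective (algebraMap A B))
    (b : B) (a : A) (ha : algebraMap A K a = Algebra.norm K (algebraMap B L b)) :
    PrimeSpectrum.comap (algebraMap A B) '' PrimeSpectrum.zeroLocus ({b} : Set B) =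
        PrimeSpectrum.zeroLocus ({a} : Set A) ∧
      topologicalKrullDim ↥(PrimeSpectrum.zeroLocus ({b} : Set B)) =
        topologicalKrullDim ↥(PrimeSpectrum.zeroLocus ({a} : Set A)) := by
  have hF1 := norm_mem_span A B K L b a ha
  obtain ⟨b', hb'⟩ := hF1
  have hF2 : ∀ q : PrimeSpectrum B, q ∈ PrimeSpectrum.zeroLocus ({b} : Set B) →
      PrimeSpectrum.comap (algebraMap A B) q ∈ PrimeSpectrum.zeroLocus ({a} : Set A) := by
    intro q hq
    rw [PrimeSpectrum.mem_zeroLocus, Set.singleton_subset_iff] at hq ⊢
    change algebraMap A B a ∈ q.asIdeal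
    rw [hb']
    exact q.asIdeal.mul_mem_right _ hq
  have hF3 : ∀ p : PrimeSpectrum A, p ∈ PrimeSpectrum.zeroLocus ({a} : Set A) →
      ∀ I : Ideal B, Ideal.span {b} ≤ I → I.comap (algebraMap A B) ≤ p.asIdeal →
      ∃ q : PrimeSpectrum B, I ≤ q.asIdeal ∧ PrimeSpectrum.comap (algebraMap A B) q = p := by
    intro p _ I _ hI
    obtain ⟨Q, hQ, hQp, hQc⟩ := Ideal.exists_ideal_over_prime_of_isIntegral p.asIdeal I hI
    exact ⟨⟨Q, hQp⟩, hQ, PrimeSpectrum.ext hQc⟩
  have hcomap_le : ∀ p : PrimeSpectrum A, p ∈ PrimeSpectrum.zeroLocus ({a} : Set A) →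
      (Ideal.span {b}).comap (algebraMap A B) ≤ p.asIdeal := by
    intro p hp x hx
    rw [PrimeSpectrum.mem_zeroLocus, Set.singleton_subset_iff] at hp
    exact mem_of_mem_span A B K L b a ha x hx p.asIdeal hp
  have hsurj : ∀ p : PrimeSpectrum A, p ∈ PrimeSpectrum.zeroLocus ({a} : Set A) →
      ∃ q : PrimeSpectrum B, q ∈ PrimeSpectrum.zeroLocus ({b} : Set B) ∧
        PrimeSpectrum.comap (algebraMap A B) q = p := by
    intro p hp
    obtain ⟨q, hq, hqp⟩ := hF3 p hp (Ideal.span {b}) le_rfl (hcomap_le p hp)
    refine ⟨q, ?_, hqp⟩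
    rw [PrimeSpectrum.mem_zeroLocus, Set.singleton_subset_iff]
    exact hq (Ideal.mem_span_singleton_self b)
  refine ⟨?_, ?_⟩
  · apply Set.Subset.antisymm
    · rintro _ ⟨q, hq, rfl⟩
      exact hF2 q hq
    · intro p hp
      obtain ⟨q, hq, hqp⟩ := hsurj p hp
      exact ⟨q, hq, hqp⟩
  · rw [topologicalKrullDim_zeroLocus, topologicalKrullDim_zeroLocus]
    let f : ↥(PrimeSpectrum.zeroLocus ({b} : Set B)) → ↥(PrimeSpectrum.zeroLocus ({a} : Set A)) :=
      fun q => ⟨PrimeSpectrum.comap (algebraMap A B) q.1, hF2 q.1 q.2⟩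
    apply le_antisymm
    · apply Order.krullDim_le_of_strictMono f
      intro q q' hqq'
      have h1 : q.1.asIdeal < q'.1.asIdeal := hqq'
      exact Ideal.IsIntegral.comap_lt_comap (R := A) h1
    · apply Groth.Agent.S10838.krullDim_le_of_surjective_of_lifts f
      · rintro ⟨p, hp⟩
        obtain ⟨q, hq, hqp⟩ := hsurj p hp
        exact ⟨⟨q, hq⟩, Subtype.ext hqp⟩
      · rintro ⟨q, hq⟩ ⟨p', hp'⟩ hlt
        have hlt' : (PrimeSpectrum.comap (algebraMap A B) q).asIdeal < p'.asIdeal := hlt
        obtain ⟨Q, hQ, hQp, hQc⟩ :=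
          Ideal.exists_ideal_over_prime_of_isIntegral_of_isPrime p'.asIdeal q.asIdeal hlt'.le
        have hbQ : (⟨Q, hQp⟩ : PrimeSpectrum B) ∈ PrimeSpectrum.zeroLocus ({b} : Set B) := by
          rw [PrimeSpectrum.mem_zeroLocus, Set.singleton_subset_iff] at hq ⊢
          exact hQ hq
        refine ⟨⟨⟨Q, hQp⟩, hbQ⟩, ?_, Subtype.ext (PrimeSpectrum.ext hQc)⟩
        change q.asIdeal < Q
        refine lt_of_le_of_ne hQ ?_
        intro heq
        rw [← hQc, ← heq] at hlt'
        exact lt_irrefl _ hlt'

end Groth.Agent.S10825
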