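import Groth.Statements.S2463
import Groth.Agent.H14.ZarJac3

set_option autoImplicit false
universe u
open EGA41

namespace Groth.Agent.S2463

open TensorProduct KaehlerDifferential in
/-- Let B be a formally smooth A-algebra (discrete topologies), B → C a surjection with kernel J such
that J/J² is a finitely generated module (over B, equivalently over C), and p a prime of C. The
following are equivalent: the local ring C_p is formally smooth over A; the map κ(p) ⊗ J/J² → κ(p) ⊗
(C ⊗_B Ω_{B/A}) induced by d is injective (tensor products over B, which agree with those over C =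
B/J); there is f ∈ C outside p with C_f formally smooth over A. -/
theorem result {A B C : Type u} [CommRing A] [CommRing B] [CommRing C] [Algebra A B] [Algebra B C] [Algebra A C]
    [IsScalarTower A B C] [Algebra.FormallySmooth A B] (hsurj : Function.Surjective (algebraMap B C))
    [Module.Finite B (RingHom.ker (algebraMap B C)).Cotangent] (p : Ideal C) [p.IsPrime] :
    [Algebra.FormallySmooth A (Localization.AtPrime p),
     Function.Injective ((kerCotangentToTensor A B C).lTensor p.ResidueField),
     ∃ f : C, f ∉ p ∧ Algebra.FormallySmooth A (Localization.Away f)].TFAE := by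
  have hκ1 : ∀ s : B, algebraMap B p.ResidueField s ≠ 0 ↔ algebraMap B C s ∉ p := by
    intro s
    rw [IsScalarTower.algebraMap_apply B C p.ResidueField, Ne,
      Ideal.algebraMap_residueField_eq_zero]
  have hfrac : ∀ x : p.ResidueField, ∃ v c : B, algebraMap B p.ResidueField v ≠ 0 ∧
      algebraMap B p.ResidueField v * x = algebraMap B p.ResidueField c := by
    intro x
    obtain ⟨z, rfl⟩ := IsLocalRing.residue_surjective x
    obtain ⟨⟨c, t⟩, hz⟩ := IsLocalization.surj p.primeCompl z
    obtain ⟨c₀, hc₀⟩ := hsurj c
    obtain ⟨v, hv⟩ := hsurj t.1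
    refine ⟨v, c₀, (hκ1 v).mpr (hv ▸ t.2), ?_⟩
    have e : ∀ b : B, algebraMap B p.ResidueField b =
        IsLocalRing.residue _ (algebraMap C (Localization.AtPrime p) (algebraMap B C b)) :=
      fun b => by
        rw [IsScalarTower.algebraMap_apply B C p.ResidueField]; rfl
    rw [e, e, hv, hc₀, ← map_mul, mul_comm]
    exact congrArg _ hz
  tfae_have 1 → 2 := by
    intro h
    haveI : Algebra.FormallySmooth A (Localization p.primeCompl) := h
    obtain ⟨s, hsT, hs⟩ := Groth.Agent.H14.exists_good_of_formallySmooth_localization (A := A)
      hsurj p.primeCompl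
    exact Groth.Agent.H14.injective_lTensor_of_good hsurj _ s ((hκ1 s).mpr hsT) hs
  tfae_have 2 → 3 := by
    intro h
    obtain ⟨s, hs0, hs⟩ := Groth.Agent.H14.exists_good_of_injective_lTensor _ hfrac h
    refine ⟨algebraMap B C s, (hκ1 s).mp hs0, ?_⟩
    exact Groth.Agent.H14.formallySmooth_localization_of_good hsurj
      (Submonoid.powers (algebraMap B C s)) s (Submonoid.mem_powers _) hs
  tfae_have 3 → 1 := by
    rintro ⟨f, hf, h⟩
    haveI : Algebra.FormallySmooth A (Localization (Submonoid.powers f)) := h
    obtain ⟨s, ⟨k, hk⟩, hs⟩ := Groth.Agent.H14.exists_good_of_formallySmooth_localization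
      (A := A) hsurj (Submonoid.powers f)
    refine Groth.Agent.H14.formallySmooth_localization_of_good hsurj p.primeCompl s ?_ hs
    rw [← hk]
    exact fun hmem => hf (Ideal.IsPrime.mem_of_pow_mem inferInstance _ hmem)
  tfae_finish

end Groth.Agent.S2463
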