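import Groth.Statements.S4577
import Groth.Agent.H14.ZarJac2

set_option autoImplicit false
universe u
open EGA41

namespace Groth.Agent.S4577

/-- Let B be a formally smooth A-algebra (discrete topologies) and C = B/J a quotient with J/J² finitely
generated. Then C is formally smooth over A if and only if C_m is formally smooth over A for every
maximal ideal m of C (hence also if and only if every C_p, p prime, is). (Not stated: the variant of
the localised condition with C_m formally smooth over A_q, q the contraction of m to A, and the
further assertion that for B Noetherian the discrete topologies in the localised condition may be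
replaced by the adic ones.) -/
theorem result {A B C : Type u} [CommRing A] [CommRing B] [CommRing C]
    [Algebra A B] [Algebra B C] [Algebra A C] [IsScalarTower A B C] [Algebra.FormallySmooth A B]
    (hsurj : Function.Surjective (algebraMap B C)) [Module.Finite B (RingHom.ker (algebraMap B C)).Cotangent] :
    Algebra.FormallySmooth A C ↔
      ∀ (m : Ideal C) [m.IsMaximal], Algebra.FormallySmooth A (Localization.AtPrime m) := by
  classical
  constructor
  · intro h m _
    infer_instance
  · intro h
    by_contra hns
    let 𝔞 : Ideal B :=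
      { carrier := {g | Groth.Agent.H14.Good A C g}
        add_mem' := by
          rintro g₁ g₂ ⟨L₁, h₁⟩ ⟨L₂, h₂⟩
          exact ⟨L₁ + L₂, fun j => by rw [LinearMap.add_apply, h₁, h₂, add_smul]⟩
        zero_mem' := ⟨0, fun j => by rw [LinearMap.zero_apply, zero_smul]⟩
        smul_mem' := by
          rintro b g ⟨L, hL⟩
          exact ⟨b • L, fun j => by rw [LinearMap.smul_apply, hL, smul_eq_mul, mul_smul]⟩ }
    have h1 : (1 : B) ∉ 𝔞 := by
      rintro ⟨L₀, hL₀⟩
      exact hns (Groth.Agent.H14.formallySmooth_of_retraction_D hsurj L₀
        (fun y => by rw [hL₀, one_smul]))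
    have hne : 𝔞 ≠ ⊤ := (Ideal.ne_top_iff_one _).mpr h1
    obtain ⟨𝔫, h𝔫max, h𝔫⟩ := Ideal.exists_le_maximal 𝔞 hne
    have hJ𝔫 : RingHom.ker (algebraMap B C) ≤ 𝔫 := by
      intro g hg
      refine h𝔫 ⟨0, fun j => ?_⟩
      rw [LinearMap.zero_apply, Groth.Agent.H14.smul_cotangent_eq_zero _ g hg]
    have hcomap : (𝔫.map (algebraMap B C)).comap (algebraMap B C) = 𝔫 := by
      rw [Ideal.comap_map_of_surjective _ hsurj]
      have : Ideal.comap (algebraMap B C) ⊥ = RingHom.ker (algebraMap B C) := rfl
      rw [this]
      exact sup_eq_left.mpr hJ𝔫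
    have hmmax : (𝔫.map (algebraMap B C)).IsMaximal := by
      refine (Ideal.map_eq_top_or_isMaximal_of_surjective _ hsurj h𝔫max).resolve_left ?_
      intro htop
      apply h𝔫max.ne_top
      rw [← hcomap, htop, Ideal.comap_top]
    haveI := hmmax
    haveI : Algebra.FormallySmooth A (Localization (𝔫.map (algebraMap B C)).primeCompl) :=
      h (𝔫.map (algebraMap B C))
    obtain ⟨s, hsT, hs⟩ := Groth.Agent.H14.exists_good_of_formallySmooth_localization (A := A)
      hsurj (𝔫.map (algebraMap B C)).primeCompl
    exact hsT (Ideal.mem_map_of_mem _ (h𝔫 hs))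

end Groth.Agent.S4577
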