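import Groth.Statements.S4576
import Groth.Agent.H14.ZarJac3

set_option autoImplicit false
universe u
open EGA41

namespace Groth.Agent.S4576


open Groth.Agent.H14


/-- Let B be a formally smooth A-algebra (discrete topologies), C = B/J a quotient with J/J² finitely
generated. Then the set of primes p of C with C_p formally smooth over A is open in Spec C. (The
equivalent variant with C_p formally smooth over A_q, q the contraction of p to A, is not stated.) -/
theorem result {A B C : Type u} [CommRing A] [CommRing B] [CommRing C]
    [Algebra A B] [Algebra B C] [Algebra A C] [IsScalarTower A B C] [Algebra.FormallySmooth A B]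
    (hsurj : Function.Surjective (algebraMap B C)) [Module.Finite B (RingHom.ker (algebraMap B C)).Cotangent] :
    IsOpen {p : PrimeSpectrum C | Algebra.FormallySmooth A (Localization.AtPrime p.asIdeal)} := by
  rw [isOpen_iff_forall_mem_open]
  intro p hp
  haveI : Algebra.FormallySmooth A (Localization p.asIdeal.primeCompl) := hp
  obtain ⟨s, hs, hg⟩ := exists_good_of_formallySmooth_localization (A := A) hsurj p.asIdeal.primeCompl
  refine ⟨PrimeSpectrum.basicOpen (algebraMap B C s), ?_, (PrimeSpectrum.basicOpen _).2, hs⟩
  intro p' hp'
  exact formallySmooth_localization_of_good hsurj p'.asIdeal.primeCompl s hp' hg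

end Groth.Agent.S4576
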