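import Groth.Statements.S1191
import Mathlib.RingTheory.FiniteStability
import Mathlib.RingTheory.Ideal.AssociatedPrime.Finiteness
import Mathlib.RingTheory.FiniteType

set_option autoImplicit false
universe u
open FlatMor

namespace Groth.Agent.S1191

attribute [local instance] Algebra.TensorProduct.rightAlgebra

section Helpers

open TensorProduct

variable {R S : Type u} [CommRing R] [CommRing S] [Algebra R S] (p : Ideal R) [p.IsPrime]

/-- clearing denominators in the fibre ring -/
lemma exists_smul_eq_one_tmul (x : p.Fiber S) :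
    ∃ (t : R) (g : S), t ∉ p ∧ t • x = (1 : p.ResidueField) ⊗ₜ[R] g := by
  induction x using TensorProduct.induction_on with
  | zero => exact ⟨1, 0, (Ideal.ne_top_iff_one p).1 (Ideal.IsPrime.ne_top ‹_›), by simp⟩
  | tmul c s =>
    obtain ⟨⟨a', t'⟩, h⟩ := IsLocalization.surj (nonZeroDivisors (R ⧸ p)) c
    obtain ⟨a, rfl⟩ := Ideal.Quotient.mk_surjective a'
    obtain ⟨t, ht⟩ := Ideal.Quotient.mk_surjective (t' : R ⧸ p)
    have htp : t ∉ p := by
      intro h'
      have h0 : (t' : R ⧸ p) = 0 := by
        rw [← ht]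
        exact Ideal.Quotient.eq_zero_iff_mem.2 h'
      exact nonZeroDivisors.coe_ne_zero t' h0
    refine ⟨t, a • s, htp, ?_⟩
    have e : t • c = algebraMap R p.ResidueField a := by
      rw [Algebra.smul_def, IsScalarTower.algebraMap_apply R (R ⧸ p) p.ResidueField,
        IsScalarTower.algebraMap_apply R (R ⧸ p) p.ResidueField a, Ideal.Quotient.algebraMap_eq,
        ht, mul_comm]
      exact h
    rw [TensorProduct.smul_tmul', e, Algebra.algebraMap_eq_smul_one, TensorProduct.smul_tmul]
  | add x y hx hy =>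
    obtain ⟨t₁, g₁, h₁, e₁⟩ := hx
    obtain ⟨t₂, g₂, h₂, e₂⟩ := hy
    refine ⟨t₁ * t₂, t₂ • g₁ + t₁ • g₂, ?_, ?_⟩
    · exact fun h => (Ideal.IsPrime.mem_or_mem ‹_› h).elim h₁ h₂
    · rw [smul_add, mul_comm t₁ t₂, mul_smul, e₁, mul_comm t₂ t₁, mul_smul, e₂,
        TensorProduct.tmul_add, TensorProduct.tmul_smul, TensorProduct.tmul_smul]

lemma smul_mem_iff_of_notMem (r : Ideal (p.Fiber S)) (t : R) (ht : t ∉ p) (x : p.Fiber S) :
    t • x ∈ r ↔ x ∈ r := by
  have hu : IsUnit (algebraMap R (p.Fiber S) t) := by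
    have h1 : algebraMap R (p.Fiber S) t =
        Algebra.TensorProduct.includeLeft (R := R) (S := R) (A := p.ResidueField) (B := S)
          (algebraMap R p.ResidueField t) := by
      rw [Algebra.TensorProduct.algebraMap_apply]
      rfl
    rw [h1]
    apply IsUnit.map
    rw [isUnit_iff_ne_zero]
    exact fun h0 => ht (Ideal.algebraMap_residueField_eq_zero.1 h0)
  rw [Algebra.smul_def]
  exact Ideal.unit_mul_mem_iff_mem r hu

end Helpers

open TensorProduct in
/-- For a finitely presented algebra S over R, a finitely presented S-module N and a prime q of S over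
p, some element of S outside q maps into every associated prime of the fibre module of N over p that
is not contained in the extension of q to the fibre ring. -/
theorem result {R S : Type u} [CommRing R] [CommRing S] [Algebra R S] [Algebra.FinitePresentation R S]
    (N : Type u) [AddCommGroup N] [Module S N] [Module R N] [IsScalarTower R S N] [Module.FinitePresentation S N]
    (p : Ideal R) [p.IsPrime] (q : Ideal S) [q.IsPrime] [q.LiesOver p] :
    ∃ g : S, g ∉ q ∧ ∀ r ∈ associatedPrimes (p.Fiber S) (FlatCA.fiberMod p S N),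
      ¬ r ≤ FlatCA.fiberIdeal p q → (1 : p.ResidueField) ⊗ₜ[R] g ∈ r := by
  classical
  haveI : IsNoetherianRing (p.Fiber S) :=
    Algebra.FiniteType.isNoetherianRing p.ResidueField (p.Fiber S)
  haveI : Module.Finite (p.Fiber S) (FlatCA.fiberMod p S N) := by
    unfold FlatCA.fiberMod
    exact Module.Finite.base_change S (p.Fiber S) N
  have hfin := associatedPrimes.finite (p.Fiber S) (FlatCA.fiberMod p S N)
  have hbad : ∀ r ∈ associatedPrimes (p.Fiber S) (FlatCA.fiberMod p S N),
      ¬ r ≤ FlatCA.fiberIdeal p q → ∃ g : S, g ∉ q ∧ (1 : p.ResidueField) ⊗ₜ[R] g ∈ r := by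
    intro r _ hr
    obtain ⟨x, hxr, hxq⟩ := SetLike.not_le_iff_exists.1 hr
    obtain ⟨t, g, ht, e⟩ := exists_smul_eq_one_tmul p x
    refine ⟨g, ?_, ?_⟩
    · intro hg
      apply hxq
      rw [← smul_mem_iff_of_notMem p _ t ht, e]
      exact Ideal.mem_map_of_mem _ hg
    · rw [← e, smul_mem_iff_of_notMem p _ t ht]
      exact hxr
  choose! G hG using hbad
  refine ⟨∏ r ∈ hfin.toFinset.filter (fun r => ¬ r ≤ FlatCA.fiberIdeal p q), G r, ?_, ?_⟩
  · rw [Ideal.IsPrime.prod_mem_iff]
    rintro ⟨r, hr, hrq⟩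
    rw [Finset.mem_filter, Set.Finite.mem_toFinset] at hr
    exact (hG r hr.1 hr.2).1 hrq
  · intro r hr hrbad
    have hmem : r ∈ hfin.toFinset.filter (fun r => ¬ r ≤ FlatCA.fiberIdeal p q) := by
      rw [Finset.mem_filter, Set.Finite.mem_toFinset]
      exact ⟨hr, hrbad⟩
    have e : (1 : p.ResidueField) ⊗ₜ[R]
        (∏ r ∈ hfin.toFinset.filter (fun r => ¬ r ≤ FlatCA.fiberIdeal p q), G r) =
        ∏ r ∈ hfin.toFinset.filter (fun r => ¬ r ≤ FlatCA.fiberIdeal p q),
          (Algebra.TensorProduct.includeRight (R := R) (A := p.ResidueField) (B := S)) (G r) :=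
      map_prod (Algebra.TensorProduct.includeRight (R := R) (A := p.ResidueField) (B := S)) _ _
    rw [e]
    obtain ⟨c, hc⟩ := Finset.dvd_prod_of_mem
      (fun r => (Algebra.TensorProduct.includeRight (R := R) (A := p.ResidueField) (B := S)) (G r))
      hmem
    rw [hc]
    exact r.mul_mem_right _ (hG r hr hrbad).2

end Groth.Agent.S1191
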