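import Groth.Statements.S1200
import Groth.Agent.H99.UnivInjCompl
import Groth.Agent.H82.AssFiber
import Groth.Agent.S1191

set_option autoImplicit false
universe u
open FlatMor

namespace Groth.Agent.S1200

/-- A (prime) ideal of the fibre ring whose contraction is `q` is the extension of `q`. -/
theorem fiberIdeal_eq_of_comap_eq {R S : Type u} [CommRing R] [CommRing S] [Algebra R S]
    (p : Ideal R) [p.IsPrime] (q : Ideal S) (Q : Ideal (p.Fiber S))
    (hQ : Q.comap (Algebra.TensorProduct.includeRight (R := R) (A := p.ResidueField)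
      (B := S)).toRingHom = q) :
    FlatCA.fiberIdeal p q = Q := by
  apply le_antisymm
  · unfold FlatCA.fiberIdeal
    rw [Ideal.map_le_iff_le_comap, hQ]
  · intro τ hτ
    obtain ⟨t, g, ht, e⟩ := Groth.Agent.S1191.exists_smul_eq_one_tmul p τ
    have h1 : t • τ ∈ Q := by
      rw [Algebra.smul_def]
      exact Q.mul_mem_left _ hτ
    rw [e] at h1
    have h2 : g ∈ q := by
      have h2' : g ∈ Q.comap (Algebra.TensorProduct.includeRight (R := R) (A := p.ResidueField)
        (B := S)).toRingHom := h1
      rwa [hQ] at h2'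
    have h3 : (Algebra.TensorProduct.includeRight (R := R) (A := p.ResidueField)
        (B := S)).toRingHom g ∈ FlatCA.fiberIdeal p q :=
      Ideal.mem_map_of_mem _ h2
    have h4 : t • τ ∈ FlatCA.fiberIdeal p q := by
      rw [e]
      exact h3
    exact (Groth.Agent.S1191.smul_mem_iff_of_notMem p _ t ht τ).1 h4

/-- Associated primes of `N ⊗ Q` (with `N` flat and `Q` finite) give associated primes of the
fibre module (via helper82's library). -/
theorem fiberIdeal_mem_associatedPrimes {R S : Type u} [CommRing R] [CommRing S] [Algebra R S]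
    [IsNoetherianRing R] [IsNoetherianRing S]
    (N : Type u) [AddCommGroup N] [Module S N] [Module R N] [IsScalarTower R S N]
    [Module.Flat R N]
    (Q : Type u) [AddCommGroup Q] [Module R Q] [Module.Finite R Q]
    (q : Ideal S) (hq : q ∈ associatedPrimes S (TensorProduct R N Q))
    (p : Ideal R) [p.IsPrime] (hpq : q.comap (algebraMap R S) = p) :
    FlatCA.fiberIdeal p q ∈ associatedPrimes (p.Fiber S) (FlatCA.fiberMod p S N) := by
  obtain ⟨hqp, y, hy⟩ := (isAssociatedPrime_iff (M := TensorProduct R N Q)).1 hq
  haveI := hqp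
  have hass : q ∈ FlatCA.ass S (TensorProduct R N Q) := by
    rw [Groth.Agent.H82.AssFiber.ass_iff]
    refine ⟨hqp, y, fun s => ?_⟩
    rw [hy, Submodule.mem_colon_singleton, Submodule.mem_bot]
  have h1 := Groth.Agent.H82.AssFiber.ass_tensor_finite S N Q q hass
  rw [hpq] at h1
  have h2 := Groth.Agent.H82.AssFiber.mem_ass_fiberMod_of_mem_ass_quot p S N q hpq h1
  obtain ⟨Q', hQ'ass, hQ'q⟩ := (Groth.Agent.H82.AssFiber.mem_ass_fiber_iff p S N q).1 h2
  obtain ⟨hQ'p, x, hx⟩ := hQ'ass
  have hfi := fiberIdeal_eq_of_comap_eq p q Q' hQ'q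
  have hcol : (⊥ : Submodule (p.Fiber S) (FlatCA.fiberMod p S N)).colon {x} = Q' := by
    ext s
    rw [Submodule.mem_colon_singleton, Submodule.mem_bot, hx, Groth.Agent.H82.AssFiber.mem_ann]
  rw [hfi]
  refine ⟨hQ'p, x, ?_⟩
  rw [hcol, hQ'p.radical]


/-- Let R → S be a map of Noetherian rings, I an ideal of R and N a finite S-module which is flat over
R. Assume that for every prime q of S, over p in R, whose extension to the fibre ring over p is an
associated prime of the fibre module of N, the ideal IS + q is proper. Then the canonical map from N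
to its I-adic completion is universally injective as a map of R-modules. -/
theorem result {R S : Type u} [CommRing R] [CommRing S] [Algebra R S] [IsNoetherianRing R] [IsNoetherianRing S] (I : Ideal R)
    (N : Type u) [AddCommGroup N] [Module S N] [Module R N] [IsScalarTower R S N] [Module.Finite S N] [Module.Flat R N]
    (h : ∀ (p : Ideal R) (q : Ideal S) [p.IsPrime] [q.IsPrime] [q.LiesOver p],
      FlatCA.fiberIdeal p q ∈ associatedPrimes (p.Fiber S) (FlatCA.fiberMod p S N) → I.map (algebraMap R S) ⊔ q ≠ ⊤) :
    FlatCA.UnivInj R (AdicCompletion.of I N) := by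
  classical
  apply Groth.Agent.H99.UnivInjCompl.univInj_of (S := S) N I
  intro Q _ _ hQfin q hq
  haveI := hQfin
  haveI hqp : q.IsPrime := hq.isPrime
  haveI : (q.comap (algebraMap R S)).IsPrime := Ideal.comap_isPrime _ _
  haveI : q.LiesOver (q.comap (algebraMap R S)) := ⟨rfl⟩
  exact h (q.comap (algebraMap R S)) q
    (fiberIdeal_mem_associatedPrimes N Q q hq (q.comap (algebraMap R S)) rfl)

end Groth.Agent.S1200
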