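import Groth.Statements.S3557
import Groth.Agent.H18.ProjIrred
import Groth.Agent.H18.ProjReduced

set_option autoImplicit false
universe u
open CategoryTheory CategoryTheory.Limits AlgebraicGeometry
open EGA2

namespace Groth.Agent.S3557

/-- Let S be a graded ring which is essentially reduced (S_+ contains no nonzero nilpotent). Then Proj S
is an integral scheme if and only if S is essentially integral, i.e. S_+ is nonzero and the product
of two nonzero elements of S_+ is nonzero. -/
theorem result {R A : Type u} [CommRing R] [CommRing A] [Algebra R A] (𝒜 : ℕ → Submodule R A) [GradedAlgebra 𝒜]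
    (hred : ∀ f ∈ (HomogeneousIdeal.irrelevant 𝒜).toIdeal, IsNilpotent f → f = 0) :
    AlgebraicGeometry.IsIntegral (Proj 𝒜) ↔
      ((∃ f ∈ (HomogeneousIdeal.irrelevant 𝒜).toIdeal, f ≠ 0) ∧
        ∀ f ∈ (HomogeneousIdeal.irrelevant 𝒜).toIdeal, ∀ g ∈ (HomogeneousIdeal.irrelevant 𝒜).toIdeal,
          f * g = 0 → f = 0 ∨ g = 0) := by
  have hR : AlgebraicGeometry.IsReduced (Proj 𝒜) := Groth.Agent.H18.proj_isReduced 𝒜 hred
  -- membership in the vanishing ideal of the whole space, for elements of the irrelevant ideal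
  have hJ : ∀ f ∈ (HomogeneousIdeal.irrelevant 𝒜).toIdeal,
      (f ∈ (ProjectiveSpectrum.vanishingIdeal (Set.univ : Set (ProjectiveSpectrum 𝒜))).toIdeal ↔
        f = 0) := by
    intro f hf
    constructor
    · intro h
      exact hred f hf (Groth.Agent.H18.isNilpotent_of_mem_vanishingIdeal_univ 𝒜 hf h)
    · rintro rfl
      exact Ideal.zero_mem _
  have hirr : IrreducibleSpace (Proj 𝒜) ↔
      IsIrreducible (Set.univ : Set (ProjectiveSpectrum 𝒜)) :=
    irreducibleSpace_def (ProjectiveSpectrum 𝒜)
  rw [isIntegral_iff_irreducibleSpace_and_isReduced, and_iff_left hR, hirr,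
    Groth.Agent.H18.isIrreducible_iff_vanishingIdeal]
  constructor
  · rintro ⟨h1, h2⟩
    refine ⟨?_, ?_⟩
    · by_contra hcon
      push Not at hcon
      apply h1
      intro f hf
      rw [hJ f hf]
      exact hcon f hf
    · intro f hf g hg hfg
      have := h2 f hf g hg (by rw [hfg]; exact Ideal.zero_mem _)
      rwa [hJ f hf, hJ g hg] at this
  · rintro ⟨⟨f, hf, hf0⟩, h2⟩
    refine ⟨fun hle => hf0 ((hJ f hf).mp (hle hf)), ?_⟩
    intro f hf g hg hfg
    rw [hJ f hf, hJ g hg]
    exact h2 f hf g hg ((hJ _ (Ideal.mul_mem_left _ _ hg)).mp hfg)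

end Groth.Agent.S3557
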