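import Groth.Statements.S2331
import Mathlib
import Groth.Agent.H22.CompAmple
import Groth.Agent.H22.PullBC
import Groth.Agent.H22.RelTwistGG
import Groth.Agent.S4417
-- import your own Groth.Agent.* helpers here

set_option autoImplicit false
universe u
open CategoryTheory CategoryTheory.Limits AlgebraicGeometry
open EGA2

namespace Groth.Agent.S2331

open Groth.Agent.H22.CompAmple Groth.Agent.H22.PullBC Groth.Agent.H22.PullGen
open Groth.Agent.H22.PullAmple Groth.Agent.H22.AmpleLocal TopologicalSpace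
open Groth.Agent.H18 Groth.Agent.H18.TensorGen Groth.Agent.H18.RestrictTensor

/-- Absolute form of EGA II 4.6.13 (ii). -/
theorem thmA {X Y : Scheme.{u}} (f : X ⟶ Y) [QuasiCompact f] {L : X.Modules} {K : Y.Modules}
    (hL : RelAmple.IsRelAmple f L) (hK : CohB1.IsAmple K) :
    ∃ n₁ : ℕ, ∀ n, n₁ ≤ n → CohB1.IsAmple
      (CohB1.tensorMod L (CohB1.tensorPow ((Scheme.Modules.pullback f).obj K) n)) := by
  haveI : CompactSpace Y := hK.2.1
  haveI : CompactSpace X := QuasiCompact.compactSpace_of_compactSpace f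
  haveI : QuasiSeparatedSpace Y := AmpleBasis.quasiSeparatedSpace_of_isAmple hK
  haveI : IsSeparated f := isSeparated_of_isRelAmple f L hL
  haveI : QuasiSeparatedSpace X := quasiSeparatedSpace_of_quasiSeparated f
  have hLinv := Groth.Agent.S4417.isInvertible_of_isRelAmple f L hL
  have hA := isInvertible_pullback f hK.1
  refine exists_isAmple_tensor_pow hLinv hA (fun x => ?_)
  obtain ⟨m, s, hy, haff⟩ := hK.2.2 (f x)
  obtain ⟨σ, hσ⟩ := exists_pbSecPow f hK.1 (m + 1) s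
  refine ⟨m, σ, ?_, ?_⟩
  · rw [hσ]
    exact hy
  · rw [hσ]
    exact hL.2 ⟨_, haff⟩

theorem isAmple_restrict_of_le {X : Scheme.{u}} (M : X.Modules) {V' V : X.Opens} (hle : V' ≤ V)
    [CompactSpace V'] (h : CohB1.IsAmple (M.restrict V.ι)) : CohB1.IsAmple (M.restrict V'.ι) := by
  have h1 := RestrictTensor.isAmple_restrict (X.homOfLE hle) h
  rw [isAmple_restrict_restrict_iff] at h1
  exact AmpleIso.isAmple_of_iso
    ((Scheme.Modules.restrictFunctorCongr (X.homOfLE_ι hle)).app M) h1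

theorem stepA {X Y Z : Scheme.{u}} (f : X ⟶ Y) (g : Y ⟶ Z) [QuasiCompact f] [QuasiCompact g]
    (L : X.Modules) (K : Y.Modules) (hL : RelAmple.IsRelAmple f L)
    (hK : RelAmple.IsRelAmple g K) (W : Z.Opens) (hW : IsAffineOpen W) :
    ∃ n₁ : ℕ, ∀ n, n₁ ≤ n → CohB1.IsAmple ((CohB1.tensorMod L ((Scheme.Modules.pullback f).obj
      (CohB1.tensorPow K n))).restrict ((f ≫ g) ⁻¹ᵁ W).ι) := by
  obtain ⟨Y', hY'⟩ : ∃ Y' : Y.Opens, Y' = g ⁻¹ᵁ W := ⟨_, rfl⟩
  have hX' : (f ≫ g) ⁻¹ᵁ W = f ⁻¹ᵁ Y' := by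
    rw [hY']
    rfl
  rw [hX']
  have hK' : CohB1.IsAmple (K.restrict Y'.ι) := by
    rw [hY']
    exact hK.2 ⟨W, hW⟩
  have hL' : RelAmple.IsRelAmple (f ∣_ Y') (L.restrict (f ⁻¹ᵁ Y').ι) :=
    isRelAmple_restrict_of_forall f L Y' (fun V hV _ => hL.2 ⟨V, hV⟩)
  obtain ⟨n₁, hn₁⟩ := thmA (f ∣_ Y') hL' hK'
  refine ⟨n₁, fun n hn => ?_⟩
  have h1 := hn₁ n hn
  have hKinv : PicF.IsInvertible K := Groth.Agent.S4417.isInvertible_of_isRelAmple g K hK
  have hP : PicF.IsInvertible ((Scheme.Modules.pullback f).obj (CohB1.tensorPow K n)) :=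
    isInvertible_pullback f (isInvertible_tensorPow hKinv n)
  obtain ⟨e₀⟩ := Groth.Agent.H22.RelTwistGG.nonempty_restrict_tensorMod_right (f ⁻¹ᵁ Y').ι L
    (B := (Scheme.Modules.pullback f).obj (CohB1.tensorPow K n))
    (Groth.Agent.H8.isInvertible_restrict _ hP)
  have e₁ : ((Scheme.Modules.pullback f).obj (CohB1.tensorPow K n)).restrict (f ⁻¹ᵁ Y').ι ≅
      (Scheme.Modules.pullback (f ∣_ Y')).obj ((CohB1.tensorPow K n).restrict Y'.ι) := by
    rw [← Scheme.Hom.resLE_eq_morphismRestrict]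
    exact (bcIsoLE f Y' (f ⁻¹ᵁ Y') le_rfl).app _
  obtain ⟨e₂⟩ := nonempty_restrict_tensorPow Y'.ι hK'.1 n
  obtain ⟨e₃⟩ := nonempty_pullback_tensorPow (f ∣_ Y') (K.restrict Y'.ι) n
  obtain ⟨e₅⟩ := TensorModIso.nonempty_tensorMod_congr (Iso.refl (L.restrict (f ⁻¹ᵁ Y').ι))
    (e₁ ≪≫ (Scheme.Modules.pullback (f ∣_ Y')).mapIso e₂ ≪≫ e₃)
  exact AmpleIso.isAmple_of_iso (e₅.symm ≪≫ e₀) h1


/-- Let Z be quasi-compact, f : X → Y and g : Y → Z quasi-compact morphisms, L an O_X-module ample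
relative to f and K an O_Y-module ample relative to g. Then there is n₀ > 0 such that L ⊗
f^*(K^{⊗n}) is ample relative to g ∘ f for every n ≥ n₀. -/
theorem result {X Y Z : Scheme.{u}} [CompactSpace Z] (f : X ⟶ Y) (g : Y ⟶ Z)
    [QuasiCompact f] [QuasiCompact g] (L : X.Modules) (K : Y.Modules)
    (hL : RelAmple.IsRelAmple f L) (hK : RelAmple.IsRelAmple g K) :
    ∃ n₀ : ℕ, 0 < n₀ ∧ ∀ n, n₀ ≤ n →
      RelAmple.IsRelAmple (f ≫ g) (CohB1.tensorMod L ((Scheme.Modules.pullback f).obj (CohB1.tensorPow K n))) := by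
  choose n₁ hn₁ using fun W : Z.affineOpens => stepA f g L K hL hK W.1 W.2
  obtain ⟨t, ht⟩ : ∃ t : Finset Z.affineOpens, (Set.univ : Set Z) ⊆ ⋃ V ∈ t, (V.1 : Set Z) := by
    refine isCompact_univ.elim_finite_subcover (fun V : Z.affineOpens => (V.1 : Set Z))
      (fun V => V.1.2) ?_
    intro x _
    have hx : x ∈ (⊤ : Z.Opens) := trivial
    rw [← iSup_affineOpens_eq_top Z, Opens.mem_iSup] at hx
    obtain ⟨V, hV⟩ := hx
    exact Set.mem_iUnion.mpr ⟨V, hV⟩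
  refine ⟨t.sup n₁ + 1, Nat.succ_pos _, fun n hn => ?_⟩
  apply isRelAmple_of_local
  intro z
  obtain ⟨V, hVt, hzV⟩ : ∃ V ∈ t, z ∈ (V.1 : Set Z) := by
    have := ht (Set.mem_univ z)
    simpa only [Set.mem_iUnion, exists_prop] using this
  refine ⟨V.1, hzV, fun W hW hWV => ?_⟩
  have h1 := hn₁ V n (((Finset.le_sup hVt).trans (Nat.le_succ _)).trans hn)
  haveI : CompactSpace ((f ≫ g) ⁻¹ᵁ W) := isCompact_iff_compactSpace.mp
    (QuasiCompact.isCompact_preimage (f := f ≫ g) _ W.2 hW.isCompact)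
  exact isAmple_restrict_of_le _ ((f ≫ g).preimage_mono hWV) h1

end Groth.Agent.S2331
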