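import Groth.Statements.S1496
import Groth.Agent.H22.VeryAmpleIso
import Groth.Agent.H22.VeryAmpleConv
import Groth.Agent.S2331
import Groth.Agent.S9705
-- import your own Groth.Agent.* helpers here

set_option autoImplicit false
universe u
attribute [local instance] HasDerivedCategory.standard
open FlatMor

namespace Groth.Agent.S1496
open AlgebraicGeometry CategoryTheory Limits

open AlgebraicGeometry CategoryTheory Limits in
/-- Let S be a scheme carrying an ample invertible sheaf and f : X → S a morphism. Then f is a closed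
immersion into some projective space over S (f factors as a closed immersion X → Pⁿ_S followed by
the projection Pⁿ_S → S, for some n) if and only if f is proper and X carries an ample invertible
sheaf; and the latter holds if and only if f is proper and some O_X-module is ample relative to f. -/
theorem result {X S : Scheme.{u}} (hS : ∃ N : S.Modules, CohB1.IsAmple N) (f : X ⟶ S) :
    ((∃ (n : ℕ) (i : X ⟶ CohB1.ProjSpaceOver n S), IsClosedImmersion i ∧ i ≫ pullback.snd (CohB1.ProjSpace.toSpec n (ULift.{u} ℤ)) (specULiftZIsTerminal.from S) = f) ↔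
      (IsProper f ∧ ∃ L : X.Modules, CohB1.IsAmple L)) ∧
    ((IsProper f ∧ ∃ L : X.Modules, CohB1.IsAmple L) ↔ (IsProper f ∧ ∃ L : X.Modules, RelAmple.IsRelAmple f L)) := by
  obtain ⟨N, hN⟩ := hS
  have : CompactSpace S := hN.2.1
  refine ⟨⟨?_, ?_⟩, ⟨?_, ?_⟩⟩
  · rintro ⟨n, i, hi, hfac⟩
    have hfac' : i ≫ CohB1.ProjSpaceOver.toBase n S = f := hfac
    have : IsProper f := by rw [← hfac']; infer_instance
    refine ⟨inferInstance, ?_⟩
    have hrel := Groth.Agent.H22.VeryAmpleConv.isRelAmple_of_isRelVeryAmplePn f _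
      ⟨n, i, inferInstance, hfac, ⟨Iso.refl _⟩⟩
    obtain ⟨n₁, hn₁⟩ := Groth.Agent.S2331.thmA f hrel hN
    exact ⟨_, hn₁ n₁ le_rfl⟩
  · rintro ⟨hp, L, hL⟩
    have : LocallyOfFiniteType f := inferInstance
    obtain ⟨d₀, -, hd⟩ := Groth.Agent.H22.VeryAmpleIso.eventually_isRelVeryAmplePn_tensorPow f hL
    obtain ⟨r, i, hi, hfac, -⟩ := hd d₀ le_rfl
    have hfac' : i ≫ CohB1.ProjSpaceOver.toBase r S = f := hfac
    have : IsProper (i ≫ CohB1.ProjSpaceOver.toBase r S) := by rw [hfac']; exact hp
    have : IsProper i := IsProper.of_comp i (CohB1.ProjSpaceOver.toBase r S)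
    exact ⟨r, i, IsClosedImmersion.of_isPreimmersion i i.isClosedMap.isClosed_range, hfac⟩
  · rintro ⟨hp, L, hL⟩
    refine ⟨hp, L, inferInstance, fun V => ?_⟩
    have : CompactSpace ↥((f ⁻¹ᵁ V.1).toScheme) :=
      isCompact_iff_compactSpace.mp (QuasiCompact.isCompact_preimage (f := f) _ V.1.2 V.2.isCompact)
    exact Groth.Agent.H18.RestrictTensor.isAmple_restrict (f ⁻¹ᵁ V.1).ι hL
  · rintro ⟨hp, L, hL⟩
    have : QuasiCompact f := hL.1
    obtain ⟨n₁, hn₁⟩ := Groth.Agent.S2331.thmA f hL hN
    exact ⟨hp, _, hn₁ n₁ le_rfl⟩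

end Groth.Agent.S1496
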