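import Groth.Statements.S1576
import Groth.Agent.H8.Coh
import Mathlib.RingTheory.Ideal.AssociatedPrime.Localization
import Mathlib.RingTheory.Ideal.AssociatedPrime.Finiteness
import Mathlib.AlgebraicGeometry.Noetherian
import Mathlib.AlgebraicGeometry.Morphisms.QuasiCompact

set_option autoImplicit false
universe u
open CategoryTheory CategoryTheory.Limits AlgebraicGeometry
open Divisors

namespace Groth.Agent.S1576

/-- Associated points of a coherent module in an affine open of a locally Noetherian scheme are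
finite in number. -/
theorem finite_assPoints_affine (X : Scheme.{u}) [IsLocallyNoetherian X]
    (F : X.Modules) (hF : Coh.IsCoh F) (V : X.affineOpens) :
    {x : X | x ∈ V.1 ∧ Curv2.IsAssPoint F x}.Finite := by
  haveI : F.IsQuasicoherent := hF.1
  haveI : IsNoetherianRing Γ(X, V.1) := IsLocallyNoetherian.component_noetherian V
  haveI : Module.Finite Γ(X, V.1) Γ(F, V.1) := H8.finite_sections_of_isCoh F hF V.2
  have hfin : (associatedPrimes Γ(X, V.1) Γ(F, V.1)).Finite := associatedPrimes.finite _ _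
  have hfin' : {q : PrimeSpectrum Γ(X, V.1) | q.asIdeal ∈ associatedPrimes Γ(X, V.1) Γ(F, V.1)}.Finite :=
    hfin.preimage (fun q _ q' _ h => PrimeSpectrum.ext h)
  refine (hfin'.image V.2.fromSpec).subset ?_
  rintro x ⟨hxV, hx⟩
  refine ⟨V.2.primeIdealOf ⟨x, hxV⟩, ?_, V.2.fromSpec_primeIdealOf ⟨x, hxV⟩⟩
  letI := X.presheaf.algebra_section_stalk ⟨x, hxV⟩
  haveI := V.2.isLocalization_stalk ⟨x, hxV⟩
  letI := H8.moduleSectionStalk F x hxV
  haveI := H8.isScalarTower_sectionStalk F x hxV
  haveI := H8.isLocalizedModule_germₗ F V.2 x hxV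
  have hcomap : (IsLocalRing.maximalIdeal (X.presheaf.stalk x)).comap
      (algebraMap Γ(X, V.1) (X.presheaf.stalk x)) = (V.2.primeIdealOf ⟨x, hxV⟩).asIdeal :=
    IsLocalization.AtPrime.comap_maximalIdeal _ _
  have := Module.associatedPrimes.comap_mem_associatedPrimes_of_mem_associatedPrimes_of_isLocalizedModule_of_fg
    (V.2.primeIdealOf ⟨x, hxV⟩).asIdeal.primeCompl (H8.germₗ F x hxV) _ hx
    ((isNoetherianRing_iff_ideal_fg Γ(X, V.1)).mp inferInstance _)
  rw [hcomap] at this
  exact this

/-- Let X be locally Noetherian and F coherent. Then the associated points of F lying in any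
quasi-compact open subset form a finite set. -/
theorem result (X : Scheme.{u}) [IsLocallyNoetherian X]
    (F : X.Modules) (hF : Coh.IsCoh F) (U : X.Opens) (hU : IsCompact (U : Set X)) :
    {x : X | x ∈ U ∧ Curv2.IsAssPoint F x}.Finite := by
  obtain ⟨s, hs, hUs⟩ := isCompact_iff_finite_and_eq_biUnion_affineOpens.mp hU
  have : {x : X | x ∈ U ∧ Curv2.IsAssPoint F x} ⊆
      ⋃ V ∈ s, {x : X | x ∈ V.1 ∧ Curv2.IsAssPoint F x} := by
    rintro x ⟨hxU, hx⟩
    rw [hUs] at hxU
    simp only [TopologicalSpace.Opens.mem_iSup] at hxU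
    obtain ⟨V, hVs, hxV⟩ := hxU
    exact Set.mem_biUnion hVs ⟨hxV, hx⟩
  exact (hs.biUnion fun V _ => finite_assPoints_affine X F hF V).subset this

end Groth.Agent.S1576
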