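import Groth.Statements.S9525
import Groth.Agent.H8.StalkLocal
import Groth.Agent.H8.CohKerCoker

set_option autoImplicit false
universe u
open Coherent

namespace Groth.Agent.S9525

open CategoryTheory CategoryTheory.Limits AlgebraicGeometry in
/-- Let X be a locally Noetherian scheme, F and G coherent O_X-modules, φ : G → F a morphism and x ∈ X.
(1) If F_x = 0 there is an open neighbourhood U of x with F|_U = 0. (2) If the stalk map φ_x : G_x →
F_x is injective there is an open neighbourhood U of x with φ|_U injective. (4) If φ_x is bijective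
there is an open neighbourhood U of x with φ|_U an isomorphism. (Part (3), surjectivity, is the
finite-type statement valid on any ringed space and is not restated.) -/
theorem result (X : Scheme.{u}) [IsLocallyNoetherian X]
    (F G : X.Modules) (hF : Coh.IsCoh F) (hG : Coh.IsCoh G) (φ : G ⟶ F) (x : X) :
    (Subsingleton ↑(F.presheaf.stalk x) →
      ∃ U : X.Opens, x ∈ U ∧ IsZero ((Scheme.Modules.restrictFunctor U.ι).obj F)) ∧
    (Function.Injective ((TopCat.Presheaf.stalkFunctor _ x).map φ.mapPresheaf).hom →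
      ∃ U : X.Opens, x ∈ U ∧ Mono ((Scheme.Modules.restrictFunctor U.ι).map φ)) ∧
    (Function.Bijective ((TopCat.Presheaf.stalkFunctor _ x).map φ.mapPresheaf).hom →
      ∃ U : X.Opens, x ∈ U ∧ IsIso ((Scheme.Modules.restrictFunctor U.ι).map φ)) := by
  have hK := Groth.Agent.H8.isCoh_kernel hG hF φ
  have hQ := Groth.Agent.H8.isCoh_cokernel hG hF φ
  refine ⟨fun hx => ?_, fun hinj => ?_, fun hbij => ?_⟩
  · obtain ⟨W, hxW, hW⟩ := @Groth.Agent.H8.exists_open_subsingleton_stalk X F hF.2 x hx
    exact ⟨W, hxW, Groth.Agent.H8.isZero_restrict_of_stalks F W hW⟩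
  · have hKx : Subsingleton ↑((kernel φ).presheaf.stalk x) :=
      (Groth.Agent.H8.stalkMap_injective_iff φ x).mp hinj
    obtain ⟨W, hxW, hW⟩ :=
      @Groth.Agent.H8.exists_open_subsingleton_stalk X (kernel φ) hK.2 x hKx
    exact ⟨W, hxW, Groth.Agent.H8.mono_restrict_of_stalks φ W hW⟩
  · have hb := (Groth.Agent.H8.stalkMap_bijective_iff φ x).mp hbij
    obtain ⟨W, hxW, hW⟩ :=
      @Groth.Agent.H8.exists_open_subsingleton_stalk X (kernel φ) hK.2 x hb.1
    obtain ⟨W', hxW', hW'⟩ :=
      @Groth.Agent.H8.exists_open_subsingleton_stalk X (cokernel φ) hQ.2 x hb.2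
    exact ⟨W ⊓ W', ⟨hxW, hxW'⟩, Groth.Agent.H8.isIso_restrict_of_stalks φ (W ⊓ W')
      (fun y hy => hW y hy.1) (fun y hy => hW' y hy.2)⟩

end Groth.Agent.S9525
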