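import Groth.Statements.S3844
import Mathlib
import Groth.Agent.H8.QCohQcqs
import Groth.Agent.H8.QCohAffine
import Groth.Agent.H8.StructureCoh

set_option autoImplicit false
set_option linter.style.haveILetI false
universe u
open CategoryTheory CategoryTheory.Limits AlgebraicGeometry
open Rat20

namespace Groth.Agent.S3844

open Groth.Agent.H8 TensorProduct

/-- Flat base change of an injectivity statement for a finite family of multiplications. -/
lemma flat_injective {A B : Type u} [CommRing A] [CommRing B] [Algebra A B] [Module.Flat A B]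
    {ι : Type u} [Fintype ι] [DecidableEq ι] (c : ι → A)
    (hc : ∀ r : A, (∀ j, c j * r = 0) → r = 0)
    (b : B) (hb : ∀ j, algebraMap A B (c j) * b = 0) : b = 0 := by
  let g : A →ₗ[A] (ι → A) := LinearMap.pi (fun j => LinearMap.mulLeft A (c j))
  have hg : Function.Injective g := by
    rw [injective_iff_map_eq_zero]
    intro r hr
    apply hc
    intro j
    exact congrFun hr j
  have hinj := Module.Flat.lTensor_preserves_injective_linearMap (M := B) g hg
  have h1 : (g.lTensor B) (b ⊗ₜ[A] (1 : A)) = 0 := by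
    rw [LinearMap.lTensor_tmul]
    have h2 : g 1 = ∑ j, c j • (Pi.single j (1 : A) : ι → A) := by
      ext i
      simp [g, Finset.sum_apply, Pi.single_apply]
    rw [h2, TensorProduct.tmul_sum]
    apply Finset.sum_eq_zero
    intro j _
    rw [TensorProduct.tmul_smul, TensorProduct.smul_tmul', Algebra.smul_def, hb j,
      TensorProduct.zero_tmul]
  have h3 : b ⊗ₜ[A] (1 : A) = 0 := hinj (by rw [h1, map_zero])
  have h4 := congrArg (TensorProduct.rid A B) h3
  simpa using h4

lemma key {X X' : Scheme.{u}} (f : X' ⟶ X) [Flat f] [IsLocallyNoetherian X] (V : X.Opens)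
    (hV : CInt.IsSchematicallyDense V) (U : X.Opens) (hU : IsAffineOpen U) (U' : X'.Opens)
    (hU' : IsAffineOpen U') (e : U' ≤ f ⁻¹ᵁ U) (b : Γ(X', U'))
    (hb : X'.presheaf.map (homOfLE (inf_le_left : U' ⊓ f ⁻¹ᵁ V ≤ U')).op b = 0) : b = 0 := by
  classical
  have hcpt : IsCompact ((U ⊓ V : X.Opens) : Set X) := by
    haveI : IsNoetherianRing Γ(X, U) := IsLocallyNoetherian.component_noetherian ⟨U, hU⟩
    exact (TopologicalSpace.noetherianSpace_set_iff (U : Set X)).mp
      (noetherianSpace_of_isAffineOpen U hU) _ (fun x hx => hx.1)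
  choose F hF1 hF2 using fun x : ↥(U ⊓ V) => hU.exists_basicOpen_le ⟨x.1, x.2.2⟩ x.2.1
  obtain ⟨t, ht⟩ := hcpt.elim_finite_subcover
    (fun x : ↥(U ⊓ V) => (X.basicOpen (F x) : Set X)) (fun x => (X.basicOpen (F x)).2)
    (fun y hy => Set.mem_iUnion.mpr ⟨⟨y, hy⟩, hF2 ⟨y, hy⟩⟩)
  have hflat : (f.appLE U U' e).hom.Flat :=
    HasRingHomProperty.appLE (P := @Flat) f inferInstance ⟨U, hU⟩ ⟨U', hU'⟩ e
  have hn : ∀ x : ↥(U ⊓ V), ∃ n : ℕ, (f.appLE U U' e).hom (F x) ^ n * b = 0 := by
    intro x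
    have h1 : X'.basicOpen ((f.appLE U U' e).hom (F x)) ≤ U' ⊓ f ⁻¹ᵁ V := by
      rw [Scheme.basicOpen_appLE]
      exact inf_le_inf_left _ (fun y hy => hF1 x hy)
    have h2 : X'.presheaf.map (homOfLE (X'.basicOpen_le ((f.appLE U U' e).hom (F x)))).op b =
        0 := by
      have h3 := congrArg (X'.presheaf.map (homOfLE h1).op) hb
      rw [ringRes_res, map_zero] at h3
      exact h3
    haveI := isQuasicoherent_structureModule' X'
    obtain ⟨n, hn⟩ := exists_smul_eq_zero hU' (Coh.structureModule X')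
      ((f.appLE U U' e).hom (F x)) (show Γ(Coh.structureModule X', U') from b) h2
    exact ⟨n, hn⟩
  choose N hN using hn
  obtain ⟨n, hn⟩ : ∃ n : ℕ, n = t.sup N := ⟨_, rfl⟩
  have hn' : ∀ x ∈ t, (f.appLE U U' e).hom (F x) ^ n * b = 0 := by
    intro x hx
    have h4 : N x ≤ n := hn ▸ Finset.le_sup hx
    obtain ⟨d, hd⟩ := Nat.exists_eq_add_of_le h4
    rw [hd, pow_add, mul_comm (_ ^ N x), mul_assoc, hN x, mul_zero]
  have hinjA : ∀ r : Γ(X, U), (∀ x : ↥t, F x.1 ^ n * r = 0) → r = 0 := by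
    intro r hr
    apply hV U
    rw [map_zero]
    have h5 : (show Γ(Coh.structureModule X, U ⊓ V) from
        X.presheaf.map (homOfLE (inf_le_left : U ⊓ V ≤ U)).op r) = 0 := by
      apply section_eq_of_cover
      intro x hx
      obtain ⟨y, hy⟩ := Set.mem_iUnion.mp (ht hx)
      obtain ⟨hyt, hxy⟩ := Set.mem_iUnion.mp hy
      have hle : X.basicOpen (F y) ≤ U ⊓ V := le_inf (X.basicOpen_le _) (hF1 y)
      refine ⟨X.basicOpen (F y), hle, hxy, ?_⟩
      rw [map_zero]
      show X.presheaf.map (homOfLE hle).op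
        (X.presheaf.map (homOfLE (inf_le_left : U ⊓ V ≤ U)).op r) = 0
      rw [ringRes_res]
      have h6 := congrArg (X.presheaf.map (homOfLE (X.basicOpen_le (F y))).op) (hr ⟨y, hyt⟩)
      rw [map_mul, map_pow, map_zero] at h6
      have hu : IsUnit (X.presheaf.map (homOfLE (X.basicOpen_le (F y))).op (F y)) :=
        X.toRingedSpace.isUnit_res_basicOpen (F y)
      exact (hu.pow n).mul_right_eq_zero.mp h6
    exact h5
  letI := (f.appLE U U' e).hom.toAlgebra
  haveI : Module.Flat Γ(X, U) Γ(X', U') := hflat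
  refine flat_injective (A := Γ(X, U)) (B := Γ(X', U')) (ι := ↥t) (fun x => F x.1 ^ n) hinjA b ?_
  intro x
  show (f.appLE U U' e).hom (F x.1 ^ n) * b = 0
  rw [map_pow]
  exact hn' x.1 x.2

/-- For the open subset U = X: let f : X' → X be flat with X locally Noetherian. Then for every
schematically dense open subset V of X, the preimage f⁻¹(V) is schematically dense in X'. -/
theorem result {X X' : Scheme.{u}} (f : X' ⟶ X) [Flat f]
    [IsLocallyNoetherian X] (V : X.Opens) (hV : CInt.IsSchematicallyDense V) :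
    CInt.IsSchematicallyDense (f ⁻¹ᵁ V) := by
  intro W'
  rw [injective_iff_map_eq_zero]
  intro s hs
  have h0 : (show Γ(Coh.structureModule X', W') from s) = 0 := by
    apply section_eq_of_cover
    intro x' hx'
    obtain ⟨_, ⟨U, hU, rfl⟩, hxU, -⟩ := X.isBasis_affineOpens.exists_subset_of_mem_open
      (Set.mem_univ (f x')) isOpen_univ
    obtain ⟨_, ⟨U', hU', rfl⟩, hx'U', hU'sub⟩ :=
      X'.isBasis_affineOpens.exists_subset_of_mem_open
        (show x' ∈ ((W' ⊓ f ⁻¹ᵁ U : X'.Opens) : Set X') from ⟨hx', hxU⟩) (W' ⊓ f ⁻¹ᵁ U).2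
    have hU'W : U' ≤ W' := fun y hy => (hU'sub hy).1
    have e : U' ≤ f ⁻¹ᵁ U := fun y hy => (hU'sub hy).2
    refine ⟨U', hU'W, hx'U', ?_⟩
    rw [map_zero]
    apply key f V hV U hU U' hU' e
    have h1 : U' ⊓ f ⁻¹ᵁ V ≤ W' ⊓ f ⁻¹ᵁ V := inf_le_inf_right _ hU'W
    have h2 := congrArg (X'.presheaf.map (homOfLE h1).op) hs
    rw [ringRes_res, map_zero] at h2
    show X'.presheaf.map (homOfLE (inf_le_left : U' ⊓ f ⁻¹ᵁ V ≤ U')).op
      (X'.presheaf.map (homOfLE hU'W).op s) = 0
    rw [ringRes_res]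
    exact h2
  exact h0

end Groth.Agent.S3844
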