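import Groth.Statements.S10820
import Mathlib
import Groth.Agent.H21.ProjHyper

set_option autoImplicit false
universe u
open AlgebraicGeometry Topology TopologicalSpace
open Variety

namespace Groth.Agent.S10820

open Groth.Agent.S10915 (irr mem_irr_iff irr_isMaximal le_irr_of_isHomogeneous)
open Groth.Agent.H21.ProjTop Groth.Agent.H21.ProjDim Groth.Agent.H21.ProjInter Groth.Agent.H21.ProjHyper

section Aux

variable {k : Type u} [Field k] {n : ℕ}

/-- A prime of height at most one in `k[X_0, …, X_n]` has quotient of dimension at least `n`. -/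
theorem dim_ge_of_height_le_one {P : Ideal (MvPolynomial (Fin (n + 1)) k)} [hP : P.IsPrime]
    (h : P.height ≤ 1) :
    ∃ e : ℕ, ringKrullDim (MvPolynomial (Fin (n + 1)) k ⧸ P) = (e : WithBot ℕ∞) ∧ n ≤ e := by
  obtain ⟨e, he, -⟩ := exists_nat_dim k n P hP.ne_top
  refine ⟨e, he, ?_⟩
  have h1 := height_add_dim k n P
  rw [he] at h1
  have h' : (P.height : WithBot ℕ∞) ≤ ((1 : ℕ) : WithBot ℕ∞) := by exact_mod_cast h
  have h2 : ((n + 1 : ℕ) : WithBot ℕ∞) ≤ ((1 + e : ℕ) : WithBot ℕ∞) := by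
    rw [← h1]
    push_cast
    exact add_le_add_left h' _
  have h3 : n + 1 ≤ 1 + e := by exact_mod_cast h2
  omega

/-- Cutting by one equation drops the dimension by at most one. -/
theorem dim_le_of_mem_minimalPrimes_sup_singleton {p q : Ideal (MvPolynomial (Fin (n + 1)) k)}
    [hp : p.IsPrime] {g : MvPolynomial (Fin (n + 1)) k}
    (hq : q ∈ (p ⊔ Ideal.span {g}).minimalPrimes) :
    ringKrullDim (MvPolynomial (Fin (n + 1)) k ⧸ p) ≤
      ringKrullDim (MvPolynomial (Fin (n + 1)) k ⧸ q) + 1 := by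
  haveI hqprime : q.IsPrime := hq.1.1
  have hpq : p ≤ q := le_sup_left.trans hq.1.2
  have hht : (q.map (Ideal.Quotient.mk p)).height ≤ 1 :=
    Ideal.map_height_le_one_of_mem_minimalPrimes hq
  have hht' : ((q.map (Ideal.Quotient.mk p)).height : WithBot ℕ∞) ≤ 1 := by
    exact_mod_cast hht
  rw [← height_map_add_dim k n hpq, add_comm]
  exact add_le_add_right hht' _

/-- Two minimal primes over a nonzero homogeneous polynomial in at least three variables are both
contained in a common relevant homogeneous prime. -/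
theorem exists_common_point (hn : 2 ≤ n) {f : MvPolynomial (Fin (n + 1)) k} {d : ℕ}
    (hf : f.IsHomogeneous d) (hf0 : f ≠ 0)
    {P₁ P₂ : Ideal (MvPolynomial (Fin (n + 1)) k)}
    (hP₁ : P₁ ∈ (Ideal.span {f}).minimalPrimes) (hP₂ : P₂ ∈ (Ideal.span {f}).minimalPrimes)
    (hP₁ne : P₁ ≠ irr k n) (hP₂ne : P₂ ≠ irr k n) :
    ∃ w : ProjectiveSpectrum (CohB1.polyGrading n k),
      P₁ ≤ w.asHomogeneousIdeal.toIdeal ∧ P₂ ≤ w.asHomogeneousIdeal.toIdeal := by
  haveI hP₁prime : P₁.IsPrime := hP₁.1.1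
  haveI hP₂prime : P₂.IsPrime := hP₂.1.1
  have hfhom := span_singleton_isHomogeneous hf
  have hP₁hom : P₁.IsHomogeneous (CohB1.polyGrading n k) :=
    isHomogeneous_of_mem_minimalPrimes hfhom hP₁
  have hP₂hom : P₂.IsHomogeneous (CohB1.polyGrading n k) :=
    isHomogeneous_of_mem_minimalPrimes hfhom hP₂
  have hht₁ : P₁.height ≤ 1 :=
    Ideal.height_le_one_of_isPrincipal_of_mem_minimalPrimes (Ideal.span {f}) P₁ hP₁
  have hht₂ : P₂.height ≤ 1 :=
    Ideal.height_le_one_of_isPrincipal_of_mem_minimalPrimes (Ideal.span {f}) P₂ hP₂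
  have hP₂0 : P₂ ≠ ⊥ := by
    intro h
    have hfP : f ∈ P₂ := hP₂.1.2 (Ideal.mem_span_singleton_self f)
    rw [h, Ideal.mem_bot] at hfP
    exact hf0 hfP
  obtain ⟨π, hπ, hP₂π⟩ := exists_prime_span_of_height_le_one hP₂0 hht₂
  have hIhom : (P₁ ⊔ Ideal.span {π}).IsHomogeneous (CohB1.polyGrading n k) := by
    rw [← hP₂π]
    exact hP₁hom.sup hP₂hom
  have hIle : P₁ ⊔ Ideal.span {π} ≤ irr k n := by
    rw [← hP₂π]
    exact sup_le (le_irr_of_isHomogeneous k n hP₁hom hP₁prime.ne_top)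
      (le_irr_of_isHomogeneous k n hP₂hom hP₂prime.ne_top)
  have hIne : P₁ ⊔ Ideal.span {π} ≠ ⊤ := by
    intro h
    rw [h] at hIle
    exact (irr_isMaximal k n).ne_top (top_le_iff.mp hIle)
  obtain ⟨⟨Q, hQ⟩⟩ := Ideal.nonempty_minimalPrimes hIne
  haveI hQprime : Q.IsPrime := hQ.1.1
  have hQhom : Q.IsHomogeneous (CohB1.polyGrading n k) :=
    isHomogeneous_of_mem_minimalPrimes hIhom hQ
  obtain ⟨e₁, he₁, hne₁⟩ := dim_ge_of_height_le_one hht₁
  obtain ⟨eQ, heQ, -⟩ := exists_nat_dim k n Q hQprime.ne_top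
  have hdim := dim_le_of_mem_minimalPrimes_sup_singleton hQ
  rw [he₁, heQ] at hdim
  have hdim' : e₁ ≤ eQ + 1 := by exact_mod_cast hdim
  have hQne : Q ≠ irr k n := ne_irr_of_dim heQ (by omega)
  refine ⟨mkPoint Q hQprime hQhom hQne, ?_, ?_⟩
  · rw [mkPoint_toIdeal]
    exact le_sup_left.trans hQ.1.2
  · rw [mkPoint_toIdeal, hP₂π]
    exact le_sup_right.trans hQ.1.2

end Aux


/-- For a field k, n ≥ 2 and a nonzero homogeneous polynomial f of degree d ≥ 1 in n + 1 variables, the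
hypersurface V_+(f) in projective n-space over k (as a subspace of Proj of the polynomial ring
graded by degree) is connected and nonempty. -/
theorem result (k : Type u) [Field k] (n d : ℕ) (hn : 2 ≤ n)
    (f : MvPolynomial (Fin (n + 1)) k) (hf : f.IsHomogeneous d) (hd : 0 < d) (hf0 : f ≠ 0) :
    IsConnected (ProjectiveSpectrum.zeroLocus (CohB1.polyGrading n k)
      ({f} : Set (MvPolynomial (Fin (n + 1)) k))) := by
  classical
  have hfhom := span_singleton_isHomogeneous (n := n) hf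
  have hfirr : f ∈ irr k n := mem_irr_of_isHomogeneous hf hd
  have hspan_ne : Ideal.span {f} ≠ ⊤ := by
    intro h
    have hle : Ideal.span {f} ≤ irr k n := Ideal.span_le.mpr (Set.singleton_subset_iff.mpr hfirr)
    rw [h] at hle
    exact (irr_isMaximal k n).ne_top (top_le_iff.mp hle)
  -- every minimal prime over `f` is relevant
  have hrel : ∀ P ∈ (Ideal.span {f}).minimalPrimes, P ≠ irr k n := by
    intro P hP
    haveI : P.IsPrime := hP.1.1
    have hht : P.height ≤ 1 :=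
      Ideal.height_le_one_of_isPrincipal_of_mem_minimalPrimes (Ideal.span {f}) P hP
    obtain ⟨e, he, hne⟩ := dim_ge_of_height_le_one hht
    exact ne_irr_of_dim he (by omega)
  -- the irreducible closed set attached to a minimal prime
  have hsub : ∀ (P : Ideal (MvPolynomial (Fin (n + 1)) k)) (hP : P ∈ (Ideal.span {f}).minimalPrimes),
      {y : ProjectiveSpectrum (CohB1.polyGrading n k) |
        mkPoint P hP.1.1 (isHomogeneous_of_mem_minimalPrimes hfhom hP) (hrel P hP) ≤ y} ⊆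
      ProjectiveSpectrum.zeroLocus (CohB1.polyGrading n k)
        ({f} : Set (MvPolynomial (Fin (n + 1)) k)) := by
    intro P hP y hy
    rw [ProjectiveSpectrum.mem_zeroLocus, Set.singleton_subset_iff]
    have hle := (toIdeal_le_iff _ _).mpr hy
    rw [mkPoint_toIdeal] at hle
    exact hle (hP.1.2 (Ideal.mem_span_singleton_self f))
  constructor
  · obtain ⟨⟨P, hP⟩⟩ := Ideal.nonempty_minimalPrimes hspan_ne
    exact ⟨mkPoint P hP.1.1 (isHomogeneous_of_mem_minimalPrimes hfhom hP) (hrel P hP),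
      hsub P hP (show mkPoint P hP.1.1 (isHomogeneous_of_mem_minimalPrimes hfhom hP) (hrel P hP) ≤
        mkPoint P hP.1.1 (isHomogeneous_of_mem_minimalPrimes hfhom hP) (hrel P hP) from le_refl _)⟩
  · apply isPreconnected_of_forall_pair
    intro z₁ hz₁ z₂ hz₂
    rw [ProjectiveSpectrum.mem_zeroLocus, Set.singleton_subset_iff] at hz₁ hz₂
    obtain ⟨P₁, hP₁, hP₁z⟩ := Ideal.exists_minimalPrimes_le
      (I := Ideal.span {f}) (J := z₁.asHomogeneousIdeal.toIdeal)
      (Ideal.span_le.mpr (Set.singleton_subset_iff.mpr hz₁))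
    obtain ⟨P₂, hP₂, hP₂z⟩ := Ideal.exists_minimalPrimes_le
      (I := Ideal.span {f}) (J := z₂.asHomogeneousIdeal.toIdeal)
      (Ideal.span_le.mpr (Set.singleton_subset_iff.mpr hz₂))
    obtain ⟨w, hw₁, hw₂⟩ := exists_common_point hn hf hf0 hP₁ hP₂ (hrel P₁ hP₁) (hrel P₂ hP₂)
    refine ⟨{y | mkPoint P₁ hP₁.1.1 (isHomogeneous_of_mem_minimalPrimes hfhom hP₁) (hrel P₁ hP₁) ≤ y} ∪
      {y | mkPoint P₂ hP₂.1.1 (isHomogeneous_of_mem_minimalPrimes hfhom hP₂) (hrel P₂ hP₂) ≤ y},
      Set.union_subset (hsub P₁ hP₁) (hsub P₂ hP₂), ?_, ?_, ?_⟩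
    · exact Or.inl ((toIdeal_le_iff _ _).mp hP₁z)
    · exact Or.inr ((toIdeal_le_iff _ _).mp hP₂z)
    · exact IsPreconnected.union w ((toIdeal_le_iff _ _).mp hw₁) ((toIdeal_le_iff _ _).mp hw₂)
        (isIrreducible_Ici _).isPreirreducible.isPreconnected
        (isIrreducible_Ici _).isPreirreducible.isPreconnected

end Groth.Agent.S10820
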