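import Groth.Statements.S1574
import Groth.Agent.H2.AffPunct
import Groth.Agent.H58.LCFG
import Groth.Agent.H2.LCNonvanish

set_option autoImplicit false
universe u
open CategoryTheory CategoryTheory.Limits AlgebraicGeometry
open Divisors

namespace Groth.Agent.S1574

/-- For a Noetherian local ring A, the punctured spectrum (Spec A minus the closed point, as an open
subscheme) is affine if and only if dim A ≤ 1. -/
theorem result (A : Type u) [CommRing A] [IsLocalRing A] [IsNoetherianRing A] :
    IsAffine (FEt.puncturedSpec A : Scheme.{u}) ↔ ringKrullDim A ≤ 1 := by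
  have hU : FEt.puncturedSpec A = LocCoh.puncturedOpen A (IsLocalRing.maximalIdeal A) := by
    apply TopologicalSpace.Opens.ext
    show ({IsLocalRing.closedPoint A}ᶜ : Set (PrimeSpectrum A)) =
      (PrimeSpectrum.zeroLocus (IsLocalRing.maximalIdeal A : Set A))ᶜ
    congr 1
    ext p
    rw [Set.mem_singleton_iff, PrimeSpectrum.mem_zeroLocus, SetLike.coe_subset_coe]
    constructor
    · rintro rfl
      exact le_rfl
    · intro h
      apply PrimeSpectrum.ext
      exact ((IsLocalRing.maximalIdeal.isMaximal A).eq_of_le p.2.ne_top h).symm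
  rw [hU]
  refine (Groth.Agent.H2.AffPunct.isAffineOpen_punctured_iff_cdLE_one A
    (IsLocalRing.maximalIdeal A)).trans ?_
  constructor
  · intro h
    by_contra hlt
    rw [not_le] at hlt
    obtain ⟨d, hd⟩ : ∃ d : ℕ, ringKrullDim A = (d : WithBot ℕ∞) := by
      have h1 : ringKrullDim A ≠ ⊤ := (ringKrullDim_lt_top (R := A)).ne
      have h2 : ringKrullDim A ≠ ⊥ := ringKrullDim_ne_bot
      obtain ⟨e, he⟩ := WithBot.ne_bot_iff_exists.1 h2
      have he' : e ≠ ⊤ := by
        rintro rfl
        exact h1 he.symm
      obtain ⟨d, rfl⟩ := ENat.ne_top_iff_exists.1 he'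
      exact ⟨d, he.symm⟩
    have hd1 : 1 < d := by
      rw [hd] at hlt
      exact_mod_cast hlt
    haveI := Groth.Agent.H2.LCNonvanish.nontrivial_H_top d A hd
    haveI := h A d hd1
    exact false_of_nontrivial_of_subsingleton (LocCoh.H (IsLocalRing.maximalIdeal A) d A)
  · intro h M _ _ i hi
    refine Groth.Agent.H58.LC.subsingleton_H_of_supportDim_lt (IsLocalRing.maximalIdeal A) M i ?_
    refine lt_of_le_of_lt (Module.supportDim_le_ringKrullDim A M) (lt_of_le_of_lt h ?_)
    exact_mod_cast hi

end Groth.Agent.S1574
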