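import Groth.Statements.S17649
import Mathlib
import Groth.Agent.H8.QCohPush
import Groth.Agent.H22.QCohLimits

set_option linter.style.haveILetI false

set_option autoImplicit false
universe u
open CategoryTheory CategoryTheory.Limits AlgebraicGeometry
open QCohCat

namespace Groth.Agent.S17649

open Groth.Agent.H8 in
lemma res_self {X : Scheme.{u}} (M : X.Modules) (A : X.Opens) (s : Γ(M, A)) :
    M.presheaf.map (homOfLE (le_refl A)).op s = s := by
  have h : (homOfLE (le_refl A)).op = 𝟙 (Opposite.op A) := rfl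
  rw [h, M.presheaf.map_id]
  rfl

lemma isZero_of_sections {X : Scheme.{u}} {M : X.Modules}
    (h : ∀ (U : X.Opens) (s : Γ(M, U)), s = 0) : IsZero M := by
  rw [IsZero.iff_id_eq_zero]
  apply Scheme.Modules.hom_ext
  intro U
  ext x
  exact h U x

lemma sections_eq_zero_of_isZero {X : Scheme.{u}} {M : X.Modules} (h : IsZero M) (U : X.Opens)
    (s : Γ(M, U)) : s = 0 := by
  have h1 : 𝟙 M = 0 := (IsZero.iff_id_eq_zero M).mp h
  have h2 := congrArg (fun φ : M ⟶ M => φ.app U s) h1
  exact h2

/-- a section over `O ≤ U` is determined by its restriction to `U.ι ''ᵁ (U.ι ⁻¹ᵁ O)` -/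
lemma eq_zero_of_res_image_preimage {X : Scheme.{u}} (M : X.Modules) (U O : X.Opens) (hO : O ≤ U)
    (y : Γ(M, O))
    (hy : M.presheaf.map (homOfLE (U.ι.image_preimage_le O)).op y = 0) : y = 0 := by
  have e : O ≤ U.ι ''ᵁ (U.ι ⁻¹ᵁ O) := by
    rw [Scheme.Hom.image_preimage_eq_opensRange_inf, Scheme.Opens.opensRange_ι]
    exact le_inf hO le_rfl
  have h1 := Groth.Agent.H8.res_res M e (U.ι.image_preimage_le O) y
  rw [hy, map_zero] at h1
  rw [← res_self M O y]
  exact h1.symm

/-- Suppose the scheme X is quasi-compact and quasi-separated, and take two quasi-compact opens U, V ⊆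
X. Given a quasi-compact open W, denote by S_W the class of quasi-coherent O_X-modules that restrict
to zero on W. Then S_{U ∩ V} is the smallest localizing subcategory of Qcoh(X) that contains both
S_U and S_V; concretely (this is the inclusion that is not formal): any quasi-coherent O_X-module F
satisfying F|_{U ∩ V} = 0 arises as an extension of a quasi-coherent module that is zero on V by a
quasi-coherent submodule that is zero on U — one can find a monomorphism A ⟶ F where A is
quasi-coherent, A|_U = 0 and (F/A)|_V = 0. -/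
theorem result {X : Scheme.{u}}
    [CompactSpace X] [QuasiSeparatedSpace X] (U V : X.Opens) [QuasiCompact U.ι] [QuasiCompact V.ι]
    (F : X.Modules) (hF : Coh.IsQCoh F) (h : IsZero ((Scheme.Modules.restrictFunctor (U ⊓ V).ι).obj F)) :
    ∃ (A : X.Modules) (i : A ⟶ F), Mono i ∧ Coh.IsQCoh A ∧
      IsZero ((Scheme.Modules.restrictFunctor U.ι).obj A) ∧
      IsZero ((Scheme.Modules.restrictFunctor V.ι).obj (cokernel i)) := by
  haveI : F.IsQuasicoherent := hF
  haveI h1 : ((𝟭 X.Modules).obj F).IsQuasicoherent := hF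
  haveI h2 : ((Scheme.Modules.restrictFunctor U.ι ⋙
      Scheme.Modules.pushforward U.ι).obj F).IsQuasicoherent :=
    Groth.Agent.H8.isQuasicoherent_pushforward U.ι ((Scheme.Modules.restrictFunctor U.ι).obj F)
  let η := (Scheme.Modules.restrictAdjunction U.ι).unit.app F
  have hA : (kernel η).IsQuasicoherent := Groth.Agent.H22.QCohLimits.isQuasicoherent_kernel η
  -- sections of `F` over opens inside `U ⊓ V` vanish
  have hF0 : ∀ (O' : X.Opens), O' ≤ U ⊓ V → ∀ s : Γ(F, O'), s = 0 := by
    intro O' hO' s
    apply eq_zero_of_res_image_preimage F (U ⊓ V) O' hO' s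
    exact sections_eq_zero_of_isZero h ((U ⊓ V).ι ⁻¹ᵁ O') _
  refine ⟨kernel η, kernel.ι η, inferInstance, hA, ?_, ?_⟩
  · apply isZero_of_sections
    intro W s
    have hO : U.ι ''ᵁ W ≤ U := by
      have := Scheme.Hom.image_le_opensRange U.ι W
      rwa [Scheme.Opens.opensRange_ι] at this
    change Γ(kernel η, U.ι ''ᵁ W) at s
    have h3 : η.app _ ((kernel.ι η).app _ s) = 0 := by
      have h4 : (kernel.ι η ≫ η).app (U.ι ''ᵁ W) = 0 := by rw [kernel.condition]; rfl
      exact congr($h4 s)
    have h5 : (kernel.ι η).app _ s = 0 :=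
      eq_zero_of_res_image_preimage F U _ hO _ h3
    exact Groth.Agent.H8.app_injective_of_mono (kernel.ι η) _ (h5.trans (map_zero _).symm)
  · apply isZero_of_sections
    intro W s
    have hO : V.ι ''ᵁ W ≤ V := by
      have := Scheme.Hom.image_le_opensRange V.ι W
      rwa [Scheme.Opens.opensRange_ι] at this
    change Γ(cokernel (kernel.ι η), V.ι ''ᵁ W) at s
    have hle : U.ι ''ᵁ (U.ι ⁻¹ᵁ (V.ι ''ᵁ W)) ≤ U ⊓ V := by
      rw [Scheme.Hom.image_preimage_eq_opensRange_inf, Scheme.Opens.opensRange_ι]
      exact inf_le_inf_left _ hO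
    have h6 : (Abelian.factorThruCoimage η).app _ s = 0 := hF0 _ hle _
    exact Groth.Agent.H8.app_injective_of_mono (Abelian.factorThruCoimage η) _
      (h6.trans (map_zero _).symm)

end Groth.Agent.S17649
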