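import Mathlib
import Groth.Statements.S8914
import Groth.Agent.H8.IsoCover
import Groth.Agent.H22.SerreAffine
import Groth.Agent.H22.GenLocus
import Groth.Agent.S17649

set_option autoImplicit false
set_option linter.style.haveILetI false
universe u
open CategoryTheory CategoryTheory.Limits AlgebraicGeometry TopologicalSpace
open SDiv

namespace Groth.Agent.S8914

open Opposite Groth.Agent.H8 Groth.Agent.H22.QCohLimits Groth.Agent.H22.SerreAffine
  Groth.Agent.H22.GenLocus

section Aux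

variable {S : Scheme.{u}} (𝓘 : S.IdealSheafData)

lemma ι_injective (V : S.Opens) : Function.Injective ((ClSub.idealModι 𝓘).app V) := by
  haveI : Mono (ClSub.idealModι 𝓘) := inferInstanceAs (Mono (kernel.ι (ClSub.toSubscheme 𝓘)))
  exact app_injective_of_mono _ V

lemma ι_mem_ideal (U : S.affineOpens) (t : Γ(ClSub.idealMod 𝓘, U.1)) :
    (show Γ(S, U.1) from (ClSub.idealModι 𝓘).app U.1 t) ∈ 𝓘.ideal U := by
  rw [← Scheme.IdealSheafData.ker_subschemeι_app, RingHom.mem_ker]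
  exact app_comp_eq_zero (ShortComplex.mk (kernel.ι (ClSub.toSubscheme 𝓘))
    (ClSub.toSubscheme 𝓘) (kernel.condition _)) U.1 t

lemma exists_of_mem_ideal (U : S.affineOpens) (a : Γ(S, U.1)) (ha : a ∈ 𝓘.ideal U) :
    ∃ t : Γ(ClSub.idealMod 𝓘, U.1),
      (ClSub.idealModι 𝓘).app U.1 t = (show Γ(Coh.structureModule S, U.1) from a) := by
  let SC : ShortComplex S.Modules := ShortComplex.mk (kernel.ι (ClSub.toSubscheme 𝓘))
    (ClSub.toSubscheme 𝓘) (kernel.condition _)
  have hS : SC.Exact := ShortComplex.exact_of_f_is_kernel SC (kernelIsKernel _)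
  haveI : Mono SC.f := inferInstanceAs (Mono (kernel.ι (ClSub.toSubscheme 𝓘)))
  refine exists_app_eq_of_exact SC hS U.1 _ ?_
  rw [← Scheme.IdealSheafData.ker_subschemeι_app, RingHom.mem_ker] at ha
  exact ha

lemma ι_smul (V : S.Opens) (r : Γ(S, V)) (t : Γ(ClSub.idealMod 𝓘, V)) :
    (show Γ(S, V) from (ClSub.idealModι 𝓘).app V (r • t)) =
      r * (show Γ(S, V) from (ClSub.idealModι 𝓘).app V t) :=
  Scheme.Modules.Hom.app_smul (ClSub.idealModι 𝓘) r t

/-- Key bijectivity: if `𝓘(U) = (f)` with `f` a nonzerodivisor and `σ ↦ f`, then `σ` freely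
generates the sections over (any open equal to) `U`. -/
lemma bijective_smul (U : S.affineOpens) (f : Γ(S, U.1)) (hf : f ∈ nonZeroDivisors Γ(S, U.1))
    (hI : 𝓘.ideal U = Ideal.span {f}) (σ : Γ(ClSub.idealMod 𝓘, U.1))
    (hσ : (ClSub.idealModι 𝓘).app U.1 σ = (show Γ(Coh.structureModule S, U.1) from f))
    (V' : S.Opens) (h1 : V' ≤ U.1) (h2 : U.1 ≤ V') :
    Function.Bijective (fun r : Γ(S, V') =>
      r • (ClSub.idealMod 𝓘).presheaf.map (homOfLE h1).op σ) := by
  obtain rfl : V' = U.1 := le_antisymm h1 h2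
  have hres : (ClSub.idealMod 𝓘).presheaf.map (homOfLE h1).op σ = σ :=
    Groth.Agent.S17649.res_self _ _ σ
  rw [hres]
  have hσ' : (show Γ(S, U.1) from (ClSub.idealModι 𝓘).app U.1 σ) = f := hσ
  constructor
  · intro r r' hrr
    have h3 : (r - r') • σ = 0 := by
      rw [sub_smul]
      exact sub_eq_zero.mpr hrr
    have h4 : (r - r') * f = 0 := by
      have h5 := ι_smul 𝓘 U.1 (r - r') σ
      rw [hσ'] at h5
      rw [← h5]
      exact (congrArg (fun z => (show Γ(S, U.1) from (ClSub.idealModι 𝓘).app U.1 z)) h3).trans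
        (map_zero (ConcreteCategory.hom ((ClSub.idealModι 𝓘).app U.1)))
    have h6 := (mem_nonZeroDivisors_iff_right.mp hf) _ h4
    exact sub_eq_zero.mp h6
  · intro t
    have h3 := ι_mem_ideal 𝓘 U t
    rw [hI, Ideal.mem_span_singleton'] at h3
    obtain ⟨r, hr⟩ := h3
    refine ⟨r, ?_⟩
    apply ι_injective 𝓘 U.1
    have h5 := ι_smul 𝓘 U.1 r σ
    rw [hσ'] at h5
    exact h5.trans hr

end Aux

/-- A section over an affine open `U` which freely generates the sections over `U` trivialises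
a quasi-coherent module over `U`. -/
lemma nonempty_iso_of_bijective {S : Scheme.{u}} (L : S.Modules) [L.IsQuasicoherent]
    (U : S.Opens) (hU : IsAffineOpen U) (σ : Γ(L, U)) (h1 : U.ι ''ᵁ ⊤ ≤ U)
    (hbij : Function.Bijective (fun r : Γ(S, U.ι ''ᵁ ⊤) =>
      r • L.presheaf.map (homOfLE h1).op σ)) :
    Nonempty (L.restrict U.ι ≅ Coh.structureModule (↑U : Scheme.{u})) := by
  obtain ⟨τ, hτ⟩ : ∃ τ : Γ(L.restrict U.ι, ⊤),
      τ = (show Γ(L.restrict U.ι, ⊤) from L.presheaf.map (homOfLE h1).op σ) := ⟨_, rfl⟩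
  let φ : Coh.structureModule (↑U : Scheme.{u}) ⟶ L.restrict U.ι :=
    (SheafOfModules.unitHomEquiv _).symm (Groth.Agent.S4407.secOfTop (L.restrict U.ι) τ)
  have hφ1 : φ.app ⊤ (show Γ(Coh.structureModule (↑U : Scheme.{u}), ⊤) from
      (1 : Γ((↑U : Scheme.{u}), ⊤))) = τ := by
    have h := SheafOfModules.unitHomEquiv_apply_coe (L.restrict U.ι) φ (op ⊤)
    rw [Equiv.apply_symm_apply] at h
    refine h.symm.trans ?_
    exact Groth.Agent.S17649.res_self (L.restrict U.ι) ⊤ τ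
  have hφ : ∀ r : Γ((↑U : Scheme.{u}), ⊤),
      φ.app ⊤ (show Γ(Coh.structureModule (↑U : Scheme.{u}), ⊤) from r) = r • τ := by
    intro r
    rw [← hφ1]
    have h2 := Scheme.Modules.Hom.app_smul φ r
      (show Γ(Coh.structureModule (↑U : Scheme.{u}), ⊤) from (1 : Γ((↑U : Scheme.{u}), ⊤)))
    refine Eq.trans ?_ h2
    exact congrArg (φ.app ⊤) (mul_one r).symm
  have hφbij : Function.Bijective (φ.app ⊤) := by
    have hfun : (fun r : Γ(S, U.ι ''ᵁ ⊤) => r • L.presheaf.map (homOfLE h1).op σ) =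
        fun r => φ.app ⊤ (show Γ(Coh.structureModule (↑U : Scheme.{u}), ⊤) from r) := by
      funext r
      rw [hφ, hτ]
      exact (smul_restrict_ι L ⊤ r _).symm
    rw [hfun] at hbij
    exact hbij
  haveI : IsAffine (↑U : Scheme.{u}) := hU
  haveI := isQuasicoherent_structureModule' (↑U : Scheme.{u})
  haveI : IsIso φ := by
    refine isIso_of_bijective_affine_cover φ (fun _ : Unit => (⊤ : (↑U : Scheme.{u}).Opens))
      ?_ (fun _ => isAffineOpen_top _) (fun _ => hφbij)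
    exact iSup_const
  exact ⟨(asIso φ).symm⟩

/-- Let S be a scheme and D ⊆ S a closed subscheme with quasi-coherent ideal sheaf 𝓘. Then the ideal
sheaf of D is an invertible O_S-module (that is, D is an effective Cartier divisor) if and only if
every point has an affine open neighbourhood Spec A in S with D ∩ Spec A = Spec A/(f) for a
nonzerodivisor f ∈ A. -/
theorem result {S : Scheme.{u}} (𝓘 : S.IdealSheafData) :
    PicF.IsInvertible (ClSub.idealMod 𝓘) ↔ BlowUp.IsEffCartierIdeal 𝓘 := by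
  constructor
  · intro hL x
    obtain ⟨U, hxU, ⟨e⟩⟩ := hL x
    obtain ⟨σ, hσ⟩ := exists_generator (ClSub.idealMod 𝓘) U e
    obtain ⟨V, hV, hxV, hVU⟩ : ∃ V : S.Opens, IsAffineOpen V ∧ x ∈ V ∧ V ≤ U := by
      obtain ⟨_, ⟨V, hV, rfl⟩, hxV, hVU⟩ :=
        S.isBasis_affineOpens.exists_subset_of_mem_open hxU U.2
      exact ⟨V, hV, hxV, hVU⟩
    obtain ⟨σV, hσV⟩ : ∃ σV, σV = (ClSub.idealMod 𝓘).presheaf.map (homOfLE hVU).op σ := ⟨_, rfl⟩
    have hb := hσ V hVU
    rw [← hσV] at hb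
    obtain ⟨f, hfdef⟩ : ∃ f : Γ(S, V), f = (show Γ(S, V) from (ClSub.idealModι 𝓘).app V σV) :=
      ⟨_, rfl⟩
    refine ⟨⟨V, hV⟩, hxV, f, ?_, ?_⟩
    · rw [mem_nonZeroDivisors_iff_right]
      intro r hr
      have h1 := ι_smul 𝓘 V r σV
      rw [← hfdef, hr] at h1
      have h2 : r • σV = 0 := by
        apply ι_injective 𝓘 V
        exact h1.trans (map_zero (ConcreteCategory.hom ((ClSub.idealModι 𝓘).app V))).symm
      have h3 : (fun r : Γ(S, V) => r • σV) r = (fun r : Γ(S, V) => r • σV) 0 := by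
        show r • σV = (0 : Γ(S, V)) • σV
        rw [zero_smul]
        exact h2
      exact hb.1 h3
    · apply le_antisymm
      · intro a ha
        obtain ⟨t, ht⟩ := exists_of_mem_ideal 𝓘 ⟨V, hV⟩ a ha
        obtain ⟨r, hr⟩ := hb.2 t
        rw [Ideal.mem_span_singleton']
        refine ⟨r, ?_⟩
        have h1 := ι_smul 𝓘 V r σV
        rw [← hfdef] at h1
        rw [← h1]
        have hr' : r • σV = t := hr
        rw [hr']
        exact ht
      · rw [Ideal.span_le, Set.singleton_subset_iff, hfdef]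
        exact ι_mem_ideal 𝓘 ⟨V, hV⟩ σV
  · intro hC y
    obtain ⟨U, hyU, f, hf, hI⟩ := hC y
    refine ⟨U.1, hyU, ?_⟩
    have hfI : f ∈ 𝓘.ideal U := by
      rw [hI]
      exact Ideal.mem_span_singleton_self f
    obtain ⟨σ, hσ⟩ := exists_of_mem_ideal 𝓘 U f hfI
    have h1 : U.1.ι ''ᵁ ⊤ ≤ U.1 := U.1.ι_image_le ⊤
    have h2 : U.1 ≤ U.1.ι ''ᵁ ⊤ := le_of_eq (Scheme.Opens.ι_image_top U.1).symm
    have hbij := bijective_smul 𝓘 U f hf hI σ hσ _ h1 h2
    haveI : (ClSub.idealMod 𝓘).IsQuasicoherent :=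
      inferInstanceAs ((kernel (ClSub.toSubscheme 𝓘)).IsQuasicoherent)
    exact nonempty_iso_of_bijective (ClSub.idealMod 𝓘) U.1 U.2 σ h1 hbij

end Groth.Agent.S8914
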