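import Groth.Statements.S1699
import Mathlib.RingTheory.Ideal.AssociatedPrime.Localization
import Mathlib.AlgebraicGeometry.Noetherian

set_option autoImplicit false
universe u
open CategoryTheory CategoryTheory.Limits AlgebraicGeometry TopologicalSpace
open SDiv

namespace Groth.Agent.S1699

/-- On a Noetherian affine open `W`, a point `x ∈ W` is an associated point of `X` iff its prime is
an associated prime of `Γ(X, W)`. -/
theorem assoc_iff {X : Scheme.{u}} {W : X.Opens} (hW : IsAffineOpen W)
    (hN : IsNoetherianRing Γ(X, W)) (x : X) (hx : x ∈ W) :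
    IsAssociatedPrime (IsLocalRing.maximalIdeal (X.presheaf.stalk x)) (X.presheaf.stalk x) ↔
      IsAssociatedPrime (hW.primeIdealOf ⟨x, hx⟩).asIdeal Γ(X, W) := by
  letI : Algebra Γ(X, W) (X.presheaf.stalk x) := X.presheaf.algebra_section_stalk ⟨x, hx⟩
  haveI hloc : IsLocalization.AtPrime (X.presheaf.stalk x) (hW.primeIdealOf ⟨x, hx⟩).asIdeal :=
    hW.isLocalization_stalk ⟨x, hx⟩
  have hcomap : (IsLocalRing.maximalIdeal (X.presheaf.stalk x)).comap
      (algebraMap Γ(X, W) (X.presheaf.stalk x)) = (hW.primeIdealOf ⟨x, hx⟩).asIdeal :=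
    IsLocalization.AtPrime.under_maximalIdeal (X.presheaf.stalk x)
      (hW.primeIdealOf ⟨x, hx⟩).asIdeal inferInstance
  constructor
  · intro h
    have := Module.associatedPrimes.comap_mem_associatedPrimes_of_mem_associatedPrimes_of_isLocalizedModule_of_fg
      (hW.primeIdealOf ⟨x, hx⟩).asIdeal.primeCompl
      (Algebra.linearMap Γ(X, W) (X.presheaf.stalk x))
      (IsLocalRing.maximalIdeal (X.presheaf.stalk x)) h
      ((isNoetherianRing_iff_ideal_fg _).mp hN _)
    rwa [hcomap] at this
  · intro h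
    exact Module.associatedPrimes.mem_associatedPrimes_of_comap_mem_associatedPrimes_of_isLocalizedModule
      (hW.primeIdealOf ⟨x, hx⟩).asIdeal.primeCompl
      (Algebra.linearMap Γ(X, W) (X.presheaf.stalk x))
      (IsLocalRing.maximalIdeal (X.presheaf.stalk x)) (by rw [hcomap]; exact h)

theorem eq_zero_of_germ {X : Scheme.{u}} (V : X.Opens) (s : Γ(X, V))
    (h : ∀ (x : X) (hx : x ∈ V), X.presheaf.germ V x hx s = 0) : s = 0 := by
  refine TopCat.Presheaf.section_ext X.sheaf V s 0 (fun x hx => ?_)
  exact (h x hx).trans (map_zero _).symm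

theorem primeIdealOf_fromSpec {X : Scheme.{u}} {W : X.Opens} (hW : IsAffineOpen W)
    (p : PrimeSpectrum Γ(X, W)) (hy : hW.fromSpec p ∈ W) :
    hW.primeIdealOf ⟨hW.fromSpec p, hy⟩ = p := by
  apply hW.fromSpec.isOpenEmbedding.injective
  exact hW.fromSpec_primeIdealOf ⟨hW.fromSpec p, hy⟩

/-- (1) if and only if (3): let X be a locally Noetherian scheme and U an open subscheme. Then U is
scheme-theoretically dense in X if and only if U contains every associated point of X (every point
whose local ring has its maximal ideal as an associated prime). -/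
theorem result (X : Scheme.{u}) [IsLocallyNoetherian X] (U : X.Opens) :
    CInt.IsSchematicallyDense U ↔ ∀ x : ↥X, IsAssociatedPrime (IsLocalRing.maximalIdeal ↑(X.presheaf.stalk x)) ↑(X.presheaf.stalk x) → x ∈ U := by
  constructor
  · intro hdense x hass
    by_contra hxU
    obtain ⟨W, hW, hxW, -⟩ := exists_isAffineOpen_mem_and_subset (x := x) (U := ⊤) trivial
    have hN : IsNoetherianRing Γ(X, W) := IsLocallyNoetherian.component_noetherian ⟨W, hW⟩
    rw [assoc_iff hW hN x hxW] at hass
    obtain ⟨hP, a, ha⟩ := (isAssociatedPrime_iff).1 hass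
    have ha0 : a ≠ 0 := by
      rintro rfl
      apply hP.ne_top
      rw [ha]
      ext r
      simp [Submodule.mem_colon_singleton]
    have hres : X.presheaf.map (homOfLE (inf_le_left : W ⊓ U ≤ W)).op a = 0 := by
      apply eq_zero_of_germ
      intro y hy
      rw [TopCat.Presheaf.germ_res_apply]
      have hnle : ¬ (hW.primeIdealOf ⟨x, hxW⟩).asIdeal ≤ (hW.primeIdealOf ⟨y, hy.1⟩).asIdeal := by
        intro hle
        apply hxU
        have hsp : hW.primeIdealOf ⟨x, hxW⟩ ⤳ hW.primeIdealOf ⟨y, hy.1⟩ :=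
          (PrimeSpectrum.le_iff_specializes _ _).1 hle
        have := hsp.map hW.fromSpec.continuous
        rw [hW.fromSpec_primeIdealOf, hW.fromSpec_primeIdealOf] at this
        exact this.mem_open U.isOpen hy.2
      obtain ⟨b, hbP, hby⟩ := SetLike.not_le_iff_exists.1 hnle
      have hba : b * a = 0 := by
        have : b ∈ (⊥ : Submodule Γ(X, W) Γ(X, W)).colon {a} := ha ▸ hbP
        simpa [Submodule.mem_colon_singleton] using this
      have hunit : IsUnit (X.presheaf.germ W y hy.1 b) := by
        letI : Algebra Γ(X, W) (X.presheaf.stalk y) := X.presheaf.algebra_section_stalk ⟨y, hy.1⟩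
        haveI := hW.isLocalization_stalk ⟨y, hy.1⟩
        exact IsLocalization.map_units (X.presheaf.stalk y)
          (⟨b, hby⟩ : (hW.primeIdealOf ⟨y, hy.1⟩).asIdeal.primeCompl)
      have h0 : X.presheaf.germ W y hy.1 b * X.presheaf.germ W y hy.1 a = 0 := by
        rw [← map_mul, hba, map_zero]
      exact (hunit.mul_right_eq_zero).1 h0
    have h0 : a = 0 := hdense W (by rw [hres, map_zero])
    exact ha0 h0
  · intro hU V
    rw [injective_iff_map_eq_zero]
    intro s hs
    apply eq_zero_of_germ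
    intro x hxV
    obtain ⟨W, hW, hxW, hWV⟩ := exists_isAffineOpen_mem_and_subset (x := x) (U := V) hxV
    have hN : IsNoetherianRing Γ(X, W) := IsLocallyNoetherian.component_noetherian ⟨W, hW⟩
    have hWV' : W ≤ V := hWV
    set t := X.presheaf.map (homOfLE hWV').op s with ht
    suffices h : t = 0 by
      rw [← X.presheaf.germ_res_apply (homOfLE hWV') x hxW s, ← ht, h, map_zero]
    by_contra ht0
    obtain ⟨P, hP, hle⟩ := exists_le_isAssociatedPrime_of_isNoetherianRing Γ(X, W) t ht0
    have hPp : P.IsPrime := hP.isPrime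
    have hyW : hW.fromSpec ⟨P, hPp⟩ ∈ W := by
      have : hW.fromSpec ⟨P, hPp⟩ ∈ Set.range hW.fromSpec := ⟨_, rfl⟩
      rw [hW.range_fromSpec] at this
      exact this
    have hPy := primeIdealOf_fromSpec hW ⟨P, hPp⟩ hyW
    have hyass := (assoc_iff hW hN _ hyW).2 (by rw [hPy]; exact hP)
    have hyU : hW.fromSpec ⟨P, hPp⟩ ∈ U := hU _ hyass
    have hgerm : X.presheaf.germ W _ hyW t = 0 := by
      have h1 : X.presheaf.map (homOfLE (inf_le_left : W ⊓ U ≤ W)).op t = 0 := by
        have : X.presheaf.map (homOfLE (inf_le_left : W ⊓ U ≤ W)).op t =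
            X.presheaf.map (homOfLE (inf_le_inf_right U hWV' : W ⊓ U ≤ V ⊓ U)).op
              (X.presheaf.map (homOfLE (inf_le_left : V ⊓ U ≤ V)).op s) := by
          simp only [ht, ← ConcreteCategory.comp_apply, ← Functor.map_comp]
          rfl
        rw [this, hs, map_zero]
      rw [← X.presheaf.germ_res_apply (homOfLE (inf_le_left : W ⊓ U ≤ W)) _ ⟨hyW, hyU⟩ t, h1,
        map_zero]
    letI : Algebra Γ(X, W) (X.presheaf.stalk (hW.fromSpec ⟨P, hPp⟩)) :=
      X.presheaf.algebra_section_stalk ⟨_, hyW⟩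
    haveI := hW.isLocalization_stalk ⟨_, hyW⟩
    obtain ⟨⟨b, hb⟩, hbt⟩ := (IsLocalization.map_eq_zero_iff
      (hW.primeIdealOf ⟨_, hyW⟩).asIdeal.primeCompl
      (X.presheaf.stalk (hW.fromSpec ⟨P, hPp⟩)) t).1 hgerm
    have hbP : b ∈ P := hle (by rw [Submodule.mem_colon_singleton]; simpa using hbt)
    rw [hPy] at hb
    exact hb hbP

end Groth.Agent.S1699
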