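import Groth.Statements.S1700
import Groth.Agent.H9.SpreadPrincipal
import Groth.Agent.H9.AssPrincipal
import Groth.Agent.S1699
import Mathlib.RingTheory.UniqueFactorizationDomain.Ideal
import Mathlib.RingTheory.Ideal.Height
import Mathlib.RingTheory.Ideal.AssociatedPrime.Localization
import Mathlib.RingTheory.LocalProperties.Basic
import Mathlib.Algebra.Module.LocalizedModule.Submodule

set_option autoImplicit false
universe u
open CategoryTheory CategoryTheory.Limits AlgebraicGeometry TopologicalSpace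
open SDiv

namespace Groth.Agent.S1700

/-- Let X be a Noetherian scheme and 𝓘 a quasi-coherent ideal sheaf with closed subscheme Z such that
(1) Z has no embedded points: every point of Z whose local ring has its maximal ideal associated is
a maximal point of Z; (2) every maximal point of Z has codimension 1 in X (the local ring of X there
has dimension 1); (3) the local ring of X at every point of Z is a unique factorisation domain. Then
𝓘 is the ideal sheaf of an effective Cartier divisor. -/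
theorem result (X : Scheme.{u}) [IsNoetherian X] (𝓘 : X.IdealSheafData)
    (h1 : ∀ z : ↥𝓘.subscheme, IsAssociatedPrime (IsLocalRing.maximalIdeal ↑(𝓘.subscheme.presheaf.stalk z)) ↑(𝓘.subscheme.presheaf.stalk z) → ∀ z' : ↥𝓘.subscheme, z' ⤳ z → z' = z)
    (h2 : ∀ z : ↥𝓘.subscheme, (∀ z' : ↥𝓘.subscheme, z' ⤳ z → z' = z) →
      ringKrullDim (X.presheaf.stalk (𝓘.subschemeι z)) = 1)
    (h3 : ∀ x : ↥X, x ∈ 𝓘.support → IsDomain (X.presheaf.stalk x) ∧ UniqueFactorizationMonoid (X.presheaf.stalk x)) :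
    BlowUp.IsEffCartierIdeal 𝓘 := by
  intro x
  by_cases hx : x ∈ 𝓘.support
  swap
  · -- away from the support the ideal is the unit ideal near `x`
    obtain ⟨U, hU, hxU, -⟩ := exists_isAffineOpen_mem_and_subset (x := x) (U := ⊤) trivial
    have hnz : x ∉ X.zeroLocus (U := U) (𝓘.ideal ⟨U, hU⟩ : Set Γ(X, U)) := fun h =>
      hx ((Scheme.IdealSheafData.mem_support_iff_of_mem (U := ⟨U, hU⟩) hxU).2 h)
    rw [Scheme.mem_zeroLocus_iff] at hnz
    push Not at hnz
    obtain ⟨f, hfI, hxf⟩ := hnz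
    have := hU.isLocalization_basicOpen f
    refine ⟨X.affineBasicOpen (U := ⟨U, hU⟩) f, hxf, 1, one_mem _, ?_⟩
    rw [Ideal.span_singleton_one, ← 𝓘.map_ideal_basicOpen ⟨U, hU⟩ f]
    apply Ideal.eq_top_of_isUnit_mem _ (Ideal.mem_map_of_mem _ hfI)
    exact IsLocalization.Away.algebraMap_isUnit f
  · obtain ⟨U, hU, hxU, -⟩ := exists_isAffineOpen_mem_and_subset (x := x) (U := ⊤) trivial
    have hN : IsNoetherianRing Γ(X, U) := IsLocallyNoetherian.component_noetherian ⟨U, hU⟩
    set ι := 𝓘.subschemeι with hι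
    set I := 𝓘.ideal ⟨U, hU⟩ with hI
    obtain ⟨hAdom, hAufd⟩ := h3 x hx
    let _ : Algebra Γ(X, U) (X.presheaf.stalk x) := X.presheaf.algebra_section_stalk ⟨x, hxU⟩
    have hloc : IsLocalization.AtPrime (X.presheaf.stalk x) (hU.primeIdealOf ⟨x, hxU⟩).asIdeal :=
      hU.isLocalization_stalk ⟨x, hxU⟩
    set 𝔭 := (hU.primeIdealOf ⟨x, hxU⟩).asIdeal with h𝔭
    have hAN : IsNoetherianRing (X.presheaf.stalk x) :=
      IsLocalization.isNoetherianRing 𝔭.primeCompl _ hN
    set J : Ideal (X.presheaf.stalk x) := Submodule.localized' (X.presheaf.stalk x) 𝔭.primeCompl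
      (Algebra.linearMap Γ(X, U) (X.presheaf.stalk x)) I with hJdef
    have hJmap : J = I.map (algebraMap Γ(X, U) (X.presheaf.stalk x)) :=
      Ideal.localized'_eq_map _ _ I
    have hkey : ∀ 𝔮 ∈ associatedPrimes (X.presheaf.stalk x) (X.presheaf.stalk x ⧸ J),
        𝔮.height = 1 := by
      intro 𝔮 h𝔮
      have h𝔮prime : 𝔮.IsPrime := IsAssociatedPrime.isPrime h𝔮
      have h1' := Module.associatedPrimes.comap_mem_associatedPrimes_of_mem_associatedPrimes_of_isLocalizedModule_of_fg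
        𝔭.primeCompl (Submodule.toLocalizedQuotient' (X.presheaf.stalk x) 𝔭.primeCompl
          (Algebra.linearMap Γ(X, U) (X.presheaf.stalk x)) I) 𝔮 h𝔮
        ((isNoetherianRing_iff_ideal_fg _).1 hN _)
      set 𝔮' := 𝔮.comap (algebraMap Γ(X, U) (X.presheaf.stalk x)) with h𝔮'
      have h𝔮'prime : 𝔮'.IsPrime := IsAssociatedPrime.isPrime h1'
      have hyU : hU.fromSpec ⟨𝔮', h𝔮'prime⟩ ∈ U := by
        rw [← SetLike.mem_coe, ← hU.range_fromSpec]; exact ⟨_, rfl⟩
      have hpy : hU.primeIdealOf ⟨hU.fromSpec ⟨𝔮', h𝔮'prime⟩, hyU⟩ = ⟨𝔮', h𝔮'prime⟩ :=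
        Groth.Agent.S1699.primeIdealOf_fromSpec hU _ hyU
      obtain ⟨-, m, hm⟩ := isAssociatedPrime_iff.1 h1'
      obtain ⟨m, rfl⟩ := Ideal.Quotient.mk_surjective m
      have hmem : ∀ r, r ∈ 𝔮' ↔ r * m ∈ I := by
        intro r
        rw [hm, Submodule.mem_colon_singleton, Submodule.mem_bot]
        change Ideal.Quotient.mk I (r * m) = 0 ↔ _
        rw [Ideal.Quotient.eq_zero_iff_mem]
      have hI𝔮' : I ≤ 𝔮' := fun j hj => (hmem j).2 (Ideal.mul_mem_right m I hj)
      have hysupp : hU.fromSpec ⟨𝔮', h𝔮'prime⟩ ∈ 𝓘.support := by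
        rw [Scheme.IdealSheafData.mem_support_iff_of_mem (U := ⟨U, hU⟩) hyU,
          Scheme.mem_zeroLocus_iff]
        intro f hf
        rw [← Groth.Agent.H9.mem_primeIdealOf_iff hU _ hyU f, hpy]
        exact hI𝔮' hf
      obtain ⟨z, hz⟩ : hU.fromSpec ⟨𝔮', h𝔮'prime⟩ ∈ Set.range ι := by
        rw [hι, 𝓘.range_subschemeι]; exact hysupp
      have hzW : z ∈ ι ⁻¹ᵁ U := by change ι z ∈ U; rw [hz]; exact hyU
      have hW : IsAffineOpen (ι ⁻¹ᵁ U) := hU.preimage ι
      have hφsurj : Function.Surjective (ι.app U).hom := 𝓘.subschemeι_app_surjective ⟨U, hU⟩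
      have hφker : RingHom.ker (ι.app U).hom = I := 𝓘.ker_subschemeι_app ⟨U, hU⟩
      have hCN : IsNoetherianRing Γ(𝓘.subscheme, ι ⁻¹ᵁ U) :=
        isNoetherianRing_of_surjective _ _ (ι.app U).hom hφsurj
      have hpz : hU.primeIdealOf ⟨ι z, hzW⟩ = ⟨𝔮', h𝔮'prime⟩ := by
        apply hU.fromSpec.isOpenEmbedding.injective
        rw [hU.fromSpec_primeIdealOf]
        exact hz
      have hcomap : (hW.primeIdealOf ⟨z, hzW⟩).asIdeal.comap (ι.app U).hom = 𝔮' := by
        have h := IsAffineOpen.comap_primeIdealOf_appLE U hU (ι ⁻¹ᵁ U) hW le_rfl hzW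
        rw [hpz, Scheme.Hom.appLE_eq_app] at h
        exact congrArg PrimeSpectrum.asIdeal h
      have hass : IsAssociatedPrime (hW.primeIdealOf ⟨z, hzW⟩).asIdeal
          Γ(𝓘.subscheme, ι ⁻¹ᵁ U) := by
        rw [isAssociatedPrime_iff]
        refine ⟨(hW.primeIdealOf ⟨z, hzW⟩).isPrime, (ι.app U).hom m, ?_⟩
        ext a
        obtain ⟨r, rfl⟩ := hφsurj a
        rw [Submodule.mem_colon_singleton, Submodule.mem_bot, smul_eq_mul, ← map_mul,
          ← RingHom.mem_ker, hφker, ← hmem, ← hcomap, Ideal.mem_comap]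
      have hassz := (Groth.Agent.S1699.assoc_iff hW hCN z hzW).2 hass
      have hmax := h1 z hassz
      have hdim := h2 z hmax
      have hheight : 𝔮'.height = 1 := by
        let _ : Algebra Γ(X, U) (X.presheaf.stalk (ι z)) :=
          X.presheaf.algebra_section_stalk ⟨ι z, hzW⟩
        have : IsLocalization.AtPrime (X.presheaf.stalk (ι z))
            (hU.primeIdealOf ⟨ι z, hzW⟩).asIdeal := hU.isLocalization_stalk ⟨ι z, hzW⟩
        have e1 := IsLocalization.AtPrime.ringKrullDim_eq_height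
          (hU.primeIdealOf ⟨ι z, hzW⟩).asIdeal (X.presheaf.stalk (ι z))
        rw [hdim] at e1
        have e2 : (hU.primeIdealOf ⟨ι z, hzW⟩).asIdeal.height = 1 := by
          have : ((1 : ℕ∞) : WithBot ℕ∞) =
              (((hU.primeIdealOf ⟨ι z, hzW⟩).asIdeal.height : ℕ∞) : WithBot ℕ∞) := by
            rw [← e1]; rfl
          exact (WithBot.coe_injective this).symm
        rw [hpz] at e2
        exact e2
      rw [← IsLocalization.height_under 𝔭.primeCompl 𝔮]
      exact hheight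
    have hprinc : ∀ 𝔮 ∈ associatedPrimes (X.presheaf.stalk x) (X.presheaf.stalk x ⧸ J),
        ∃ p, 𝔮 = Ideal.span {p} := by
      intro 𝔮 h𝔮
      have h𝔮prime : 𝔮.IsPrime := IsAssociatedPrime.isPrime h𝔮
      have hh := hkey 𝔮 h𝔮
      obtain ⟨p, hp𝔮, hp⟩ := h𝔮prime.exists_mem_prime_of_ne_bot (Ideal.ne_bot_of_height_eq_one hh)
      exact ⟨p, Ideal.eq_span_singleton_of_height_eq_one hh hp𝔮 hp⟩
    obtain ⟨b, hb⟩ := Groth.Agent.H9.exists_eq_span_singleton_of_associatedPrimes J hprinc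
    have hb0 : b ≠ 0 := by
      rintro rfl
      have hJbot : J = ⊥ := by rw [hb]; exact Ideal.span_singleton_eq_bot.2 rfl
      have hbotass : (⊥ : Ideal (X.presheaf.stalk x)) ∈
          associatedPrimes (X.presheaf.stalk x) (X.presheaf.stalk x ⧸ J) := by
        refine isAssociatedPrime_iff.2 ⟨Ideal.isPrime_bot, Ideal.Quotient.mk J 1, ?_⟩
        ext r
        rw [Submodule.mem_colon_singleton, Submodule.mem_bot]
        change _ ↔ Ideal.Quotient.mk J (r * 1) = 0
        rw [Ideal.Quotient.eq_zero_iff_mem, mul_one, hJbot]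
        exact Ideal.mem_bot.symm
      have h0 := hkey ⊥ hbotass
      rw [Ideal.height_bot] at h0
      exact zero_ne_one h0
    obtain ⟨V, hxV, -, f, hf, hfI⟩ := Groth.Agent.H9.exists_affine_principal_of_stalk 𝓘 ⟨U, hU⟩ x
      hxU b (mem_nonZeroDivisors_of_ne_zero hb0) (hJmap.symm.trans hb)
    exact ⟨V, hxV, f, hf, hfI⟩

end Groth.Agent.S1700
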