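import Mathlib
import Groth.Statements.S19694
import Groth.Agent.H22.TraceLoc
import Groth.Agent.H22.QCAlgGen
import Groth.Agent.H41.ModGlue
import Groth.Agent.H8.FreeMod
import Groth.Agent.H8.StructureCoh

set_option autoImplicit false
set_option linter.style.haveILetI false
universe u
open CategoryTheory CategoryTheory.Limits AlgebraicGeometry Opposite
open FinCov

namespace Groth.Agent.S19694

open Groth.Agent.H22 Groth.Agent.H8 TopologicalSpace

variable {X : Scheme.{u}} (A : RelSpec.QCAlg X)

/-- The trace on the sections over `U`, as a linear map. -/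
noncomputable def trU (U : X.Opens) :
    Γ(A.toModule, U) →ₗ[Γ(X, U)] Γ(Coh.structureModule X, U) :=
  letI : Algebra Γ(X, U) (A.presheaf.obj (op U)) := (A.str.app (op U)).hom.toAlgebra
  { toFun := fun a => Algebra.trace Γ(X, U) (A.presheaf.obj (op U)) (toB A U a)
    map_add' := fun _ _ => map_add (Algebra.trace Γ(X, U) (A.presheaf.obj (op U))) _ _
    map_smul' := fun r a =>
      (Algebra.trace Γ(X, U) (A.presheaf.obj (op U))).map_smul r (toB A U a) }

lemma trU_apply (U : X.Opens) (a : Γ(A.toModule, U)) :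
    trU A U a = @Algebra.trace Γ(X, U) (A.presheaf.obj (op U)) _ _
      (A.str.app (op U)).hom.toAlgebra (toB A U a) := rfl

/-- Freeness of the sections in terms of the algebra structure. -/
lemma free_finite_of_equiv (U : X.Opens) (n : ℕ)
    (e : Γ(A.toModule, U) ≃ₗ[Γ(X, U)] (Fin n → Γ(X, U))) :
    @Module.Free Γ(X, U) (A.presheaf.obj (op U)) _ _ (A.str.app (op U)).hom.toAlgebra.toModule ∧
    @Module.Finite Γ(X, U) (A.presheaf.obj (op U)) _ _
      (A.str.app (op U)).hom.toAlgebra.toModule := by
  letI : Algebra Γ(X, U) (A.presheaf.obj (op U)) := (A.str.app (op U)).hom.toAlgebra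
  let e' : A.presheaf.obj (op U) ≃ₗ[Γ(X, U)] (Fin n → Γ(X, U)) :=
    { toFun := fun a => e (ofB A U a)
      map_add' := fun a b => e.map_add _ _
      map_smul' := fun r a => e.map_smul r (ofB A U a)
      invFun := fun v => toB A U (e.symm v)
      left_inv := e.left_inv
      right_inv := e.right_inv }
  exact ⟨Module.Free.of_equiv e'.symm, Module.Finite.equiv e'.symm⟩

lemma exists_equiv_of_free_finite (U : X.Opens)
    (hfree : @Module.Free Γ(X, U) (A.presheaf.obj (op U)) _ _
      (A.str.app (op U)).hom.toAlgebra.toModule)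
    (hfin : @Module.Finite Γ(X, U) (A.presheaf.obj (op U)) _ _
      (A.str.app (op U)).hom.toAlgebra.toModule) :
    ∃ n : ℕ, Nonempty (Γ(A.toModule, U) ≃ₗ[Γ(X, U)] (Fin n → Γ(X, U))) := by
  letI : Algebra Γ(X, U) (A.presheaf.obj (op U)) := (A.str.app (op U)).hom.toAlgebra
  let b := Module.Free.chooseBasis Γ(X, U) (A.presheaf.obj (op U))
  let e₀ : A.presheaf.obj (op U) ≃ₗ[Γ(X, U)] (Fin _ → Γ(X, U)) :=
    b.equivFun.trans (LinearEquiv.funCongrLeft Γ(X, U) Γ(X, U) (Fintype.equivFin _).symm)
  refine ⟨_, ⟨{ toFun := fun a => e₀ (toB A U a)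
                map_add' := fun a b => e₀.map_add _ _
                map_smul' := fun r a => e₀.map_smul r (toB A U a)
                invFun := fun v => ofB A U (e₀.symm v)
                left_inv := e₀.left_inv
                right_inv := e₀.right_inv }⟩⟩

/-- The trace is compatible with restriction to a basic open. -/
lemma trU_res {U W : X.Opens} (hU : IsAffineOpen U) (g : Γ(X, U)) (hW : W = X.basicOpen g)
    (hle : W ≤ U)
    (hfree : @Module.Free Γ(X, U) (A.presheaf.obj (op U)) _ _
      (A.str.app (op U)).hom.toAlgebra.toModule)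
    (hfin : @Module.Finite Γ(X, U) (A.presheaf.obj (op U)) _ _
      (A.str.app (op U)).hom.toAlgebra.toModule) (a : Γ(A.toModule, U)) :
    trU A W (A.toModule.presheaf.map (homOfLE hle).op a) =
      (Coh.structureModule X).presheaf.map (homOfLE hle).op (trU A U a) := by
  subst hW
  rw [trU_apply, trU_apply]
  exact TraceLoc.trace_comm (A.str.app (op U)).hom (A.str.app (op (X.basicOpen g))).hom
    (X.presheaf.map (homOfLE hle).op).hom (A.presheaf.map (homOfLE hle).op).hom
    (fun r => (str_res A hle r).symm) g (hU.isLocalization_basicOpen g) (A.isQC U hU g)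
    hfree hfin (toB A U a)

/-- Let X be a scheme and A a quasi-coherent O_X-algebra which is finite locally free as an O_X-module
(the rank may vary). Then exactly one O_X-linear map τ : A → O_X has the following property: over
each affine open U of X with A(U) finite free over O_X(U), the component τ_U is the trace map of the
algebra A(U) over O_X(U) (the trace of multiplication, computed in any basis). -/
theorem result {X : Scheme.{u}} (A : RelSpec.QCAlg X)
    (hA : FlatMod.IsFinLocFree A.toModule) :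
    ∃! τ : A.toModule ⟶ Coh.structureModule X, FinCov.IsTrace A τ := by
  haveI : A.toModule.IsQuasicoherent := toModule_isQuasicoherent A
  haveI : (Coh.structureModule X).IsQuasicoherent :=
    Groth.Agent.H8.isQuasicoherent_structureModule' X
  let Idx := {U : X.Opens // IsAffineOpen U ∧
    ∃ n, Nonempty (A.toModule.restrict U.ι ≅ FlatMod.freeMod (↑U) n)}
  have hfam : ∀ i : Idx,
      @Module.Free Γ(X, i.1) (A.presheaf.obj (op i.1)) _ _
        (A.str.app (op i.1)).hom.toAlgebra.toModule ∧
      @Module.Finite Γ(X, i.1) (A.presheaf.obj (op i.1)) _ _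
        (A.str.app (op i.1)).hom.toAlgebra.toModule := fun i => by
    obtain ⟨n, ⟨e⟩⟩ := i.2.2
    obtain ⟨e'⟩ := nonempty_sections_equiv_of_le A.toModule e (le_refl i.1)
    exact free_finite_of_equiv A i.1 n e'
  have hcover : IsOpenCover (fun i : Idx => i.1) := by
    refine eq_top_iff.mpr fun x _ => ?_
    obtain ⟨U, n, hxU, ⟨e⟩⟩ := hA x
    obtain ⟨_, ⟨V, hV, rfl⟩, hxV, hVU⟩ := X.isBasis_affineOpens.exists_subset_of_mem_open hxU U.2
    exact Opens.mem_iSup.mpr ⟨⟨V, hV, n, nonempty_restrict_iso_freeMod_of_le A.toModule hVU n e⟩, hxV⟩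
  have hdir : Groth.Agent.H41.ModGlue.FamDirected (F := A.toModule) (G := Coh.structureModule X)
      (fun i : Idx => i.1) (fun i => trU A i.1) := by
    intro i j y hyi hyj
    obtain ⟨f, g, e, hyf⟩ := exists_basicOpen_le_affine_inter i.2.1 j.2.1 y ⟨hyi, hyj⟩
    have hle_i : X.basicOpen f ≤ i.1 := X.basicOpen_le f
    have hle_j : X.basicOpen f ≤ j.1 := e ▸ X.basicOpen_le g
    obtain ⟨n, ⟨ei⟩⟩ := i.2.2
    refine ⟨⟨X.basicOpen f, i.2.1.basicOpen f, n,
      nonempty_restrict_iso_freeMod_of_le A.toModule hle_i n ei⟩, hyf, hle_i, hle_j,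
      fun x => ?_, fun x => ?_⟩
    · exact trU_res A i.2.1 f rfl hle_i (hfam i).1 (hfam i).2 x
    · exact trU_res A j.2.1 g e hle_j (hfam j).1 (hfam j).2 x
  obtain ⟨τ, hτ⟩ := Groth.Agent.H41.ModGlue.exists_hom_of_affine_family (fun i : Idx => i.1)
    (fun i => i.2.1) (fun i => trU A i.1) hdir hcover
  refine ⟨τ, ?_, ?_⟩
  · intro U hU hfree hfin a
    obtain ⟨n, ⟨e⟩⟩ := exists_equiv_of_free_finite A U hfree hfin
    obtain ⟨e'⟩ := nonempty_restrict_iso_freeMod hU A.toModule n e
    exact hτ ⟨U, hU, n, ⟨e'⟩⟩ (ofB A U a)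
  · intro τ' hτ'
    refine Groth.Agent.H41.ModGlue.hom_ext_of_affine_cover τ' τ (fun i : Idx => i.1) hcover
      (fun i => i.2.1) (fun i x => ?_)
    rw [hτ i x]
    exact hτ' i.1 i.2.1 (hfam i).1 (hfam i).2 (toB A i.1 x)

end Groth.Agent.S19694
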