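import Groth.Statements.S14090
import Groth.Agent.H54.BlowUpAffine

set_option autoImplicit false
universe u
open CategoryTheory AlgebraicGeometry
open BlowUp

namespace Groth.Agent.S14090


open Groth.Agent.H54.BlowUpAffine TopologicalSpace

theorem comap_idealSheaf_ideal {T : Scheme.{u}} (A : Type u) [CommRing A] (I : Ideal A)
    (g : T ⟶ Spec (CommRingCat.of A)) (W : T.affineOpens) :
    ((Curv2.idealSheaf A I).comap g).ideal W =
      Ideal.map ((T.presheaf.map (homOfLE (le_top : W.1 ≤ ⊤)).op).hom.comp (sharp g)) I := by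
  have e : W.1 ≤ g ⁻¹ᵁ (⊤ : (Spec (CommRingCat.of A)).Opens) := le_top
  rw [Groth.Agent.H9.comap_ideal g _ ⟨⊤, isAffineOpen_top _⟩ W e]
  unfold Curv2.idealSheaf
  rw [Scheme.IdealSheafData.ofIdealTop_ideal, Ideal.map_map, Ideal.map_map]
  congr 1


/-- Let A → B be an injective ring homomorphism and I an ideal of A such that the ideal I·B of B is
contained in the image of I (so I is an ideal of B as well) and I·B is generated by one
nonzerodivisor of B (I is free of rank one over B). Then Spec B → Spec A is a blowing up of Spec A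
in I. (This is the affine statement behind recovering a pair (X̃, D̃), D̃ an effective Cartier
divisor finite flat over D, as the blow-up of the pushout X̃ ⨿_D̃ D along D.) -/
theorem result (A B : Type u) [CommRing A] [CommRing B] [Algebra A B]
    (hinj : Function.Injective (algebraMap A B)) (I : Ideal A)
    (hIB : (Ideal.map (algebraMap A B) I : Set B) ⊆ algebraMap A B '' (I : Set A))
    (f : B) (hf : f ∈ nonZeroDivisors B) (hgen : Ideal.map (algebraMap A B) I = Ideal.span {f}) :
    BlowUp.IsBlowUp (Spec.map (CommRingCat.ofHom (algebraMap A B))) (Curv2.idealSheaf A I) := by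

  classical
  have hfmem : f ∈ Ideal.map (algebraMap A B) I := by
    rw [hgen]; exact Ideal.mem_span_singleton_self f
  obtain ⟨t₀, ht₀I, ht₀⟩ := hIB hfmem
  have hmemB : ∀ b : B, ∃ a ∈ I, algebraMap A B a = f * b := by
    intro b
    have : f * b ∈ Ideal.map (algebraMap A B) I := by
      rw [hgen]; exact Ideal.mul_mem_right _ _ (Ideal.mem_span_singleton_self f)
    obtain ⟨a, ha, hab⟩ := hIB this
    exact ⟨a, ha, hab⟩
  choose aOf haOfI haOf using hmemB
  have haOf1 : aOf 1 = t₀ := hinj (by rw [haOf, ht₀, mul_one])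
  refine ⟨?_, ?_⟩
  · -- the inverse image ideal on `Spec B` is generated by (the image of) `f`
    intro x
    refine ⟨⟨⊤, isAffineOpen_top _⟩, trivial,
      (Scheme.ΓSpecIso (CommRingCat.of B)).inv.hom f, ?_, ?_⟩
    · rw [mem_nonZeroDivisors_iff_right]
      intro z hz
      have h1 : (Scheme.ΓSpecIso (CommRingCat.of B)).hom.hom z * f = 0 := by
        have := congrArg (Scheme.ΓSpecIso (CommRingCat.of B)).hom.hom hz
        rw [map_mul, map_zero] at this
        rwa [show (Scheme.ΓSpecIso (CommRingCat.of B)).hom.hom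
          ((Scheme.ΓSpecIso (CommRingCat.of B)).inv.hom f) = f from
          Iso.inv_hom_id_apply (Scheme.ΓSpecIso (CommRingCat.of B)) f] at this
      have h2 := (mem_nonZeroDivisors_iff_right.1 hf) _ h1
      have h3 := congrArg (Scheme.ΓSpecIso (CommRingCat.of B)).inv.hom h2
      rw [map_zero] at h3
      rwa [show (Scheme.ΓSpecIso (CommRingCat.of B)).inv.hom
        ((Scheme.ΓSpecIso (CommRingCat.of B)).hom.hom z) = z from
        Iso.hom_inv_id_apply (Scheme.ΓSpecIso (CommRingCat.of B)) z] at h3
    · rw [comap_idealSheaf_ideal]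
      have hsh : sharp (Spec.map (CommRingCat.ofHom (algebraMap A B))) =
          (Scheme.ΓSpecIso (CommRingCat.of B)).inv.hom.comp (algebraMap A B) := by
        have := sharp_comp_SpecMap (A := A) (B := B) (𝟙 (Spec (CommRingCat.of B)))
        rw [Category.id_comp] at this
        rw [this]
        congr 1
      rw [hsh, ← RingHom.comp_assoc, ← Ideal.map_map, hgen, Ideal.map_span, Set.image_singleton]
      congr 2
  · intro T g hg
    -- local data
    have hloc : ∀ t : T, ∃ W : T.affineOpens, t ∈ W.1 ∧
        (T.presheaf.map (homOfLE (le_top : W.1 ≤ ⊤)).op).hom (sharp g t₀) ∈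
          nonZeroDivisors Γ(T, W.1) ∧
        ∀ a ∈ I, ∃ x : Γ(T, W.1),
          (T.presheaf.map (homOfLE (le_top : W.1 ≤ ⊤)).op).hom (sharp g t₀) * x =
            (T.presheaf.map (homOfLE (le_top : W.1 ≤ ⊤)).op).hom (sharp g a) := by
      intro t
      obtain ⟨W, htW, c, hc, hcW⟩ := hg t
      rw [comap_idealSheaf_ideal] at hcW
      have := alg_key hinj I hIB f hgen t₀ ht₀
        ((T.presheaf.map (homOfLE (le_top : W.1 ≤ ⊤)).op).hom.comp (sharp g)) c hc hcW
      exact ⟨W, htW, this.1, this.2⟩
    have hs : ∀ t : T, T.presheaf.germ ⊤ t trivial (sharp g t₀) ∈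
        nonZeroDivisors (T.presheaf.stalk t) := by
      intro t
      obtain ⟨W, htW, hnzd, -⟩ := hloc t
      have := Groth.Agent.H9.germ_mem_nonZeroDivisors W.2 hnzd t htW
      rwa [germ_res'] at this
    have hcancel : ∀ z z' : Γ(T, ⊤), sharp g t₀ * z = sharp g t₀ * z' → z = z' := by
      intro z z' hzz
      have h1 : (T.presheaf.map (homOfLE (le_top : (⊤ : T.Opens) ≤ ⊤)).op).hom (sharp g t₀) *
          (z - z') = 0 := by
        have : (T.presheaf.map (homOfLE (le_top : (⊤ : T.Opens) ≤ ⊤)).op).hom (sharp g t₀) =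
            sharp g t₀ := by simp
        rw [this, mul_sub, hzz, sub_self]
      exact sub_eq_zero.1 (eq_zero_of_mul _ hs ⊤ _ h1)
    have hdiv : ∀ a ∈ I, ∃ x : Γ(T, ⊤), sharp g t₀ * x = sharp g a := by
      intro a ha
      apply exists_div _ _ hs
      intro t
      obtain ⟨W, htW, -, hW⟩ := hloc t
      exact ⟨W.1, htW, hW a ha⟩
    have hdivB : ∀ b : B, ∃ x : Γ(T, ⊤), sharp g t₀ * x = sharp g (aOf b) :=
      fun b => hdiv _ (haOfI b)
    choose φ hφ using hdivB
    have hφ1 : φ 1 = 1 := hcancel _ _ (by rw [hφ, haOf1, mul_one])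
    have hφmul : ∀ b b', φ (b * b') = φ b * φ b' := by
      intro b b'
      apply hcancel; apply hcancel
      have h1 : aOf b * aOf b' = t₀ * aOf (b * b') := hinj (by
        rw [map_mul, map_mul, haOf, haOf, haOf, ht₀]; ring)
      calc sharp g t₀ * (sharp g t₀ * φ (b * b')) = sharp g (t₀ * aOf (b * b')) := by
            rw [hφ, map_mul]
        _ = sharp g (aOf b) * sharp g (aOf b') := by rw [← h1, map_mul]
        _ = sharp g t₀ * (sharp g t₀ * (φ b * φ b')) := by rw [← hφ b, ← hφ b']; ring
    have hφadd : ∀ b b', φ (b + b') = φ b + φ b' := by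
      intro b b'
      apply hcancel
      have h1 : aOf (b + b') = aOf b + aOf b' := hinj (by
        rw [map_add, haOf, haOf, haOf]; ring)
      rw [hφ, h1, map_add, mul_add, hφ, hφ]
    let φM : B →* Γ(T, ⊤) := { toFun := φ, map_one' := hφ1, map_mul' := hφmul }
    let φR : B →+* Γ(T, ⊤) := RingHom.mk' φM hφadd
    have hφR : ∀ b, φR b = φ b := fun _ => rfl
    have hφalg : φR.comp (algebraMap A B) = sharp g := by
      ext a
      rw [RingHom.comp_apply, hφR]
      apply hcancel
      have h1 : aOf (algebraMap A B a) = t₀ * a := hinj (by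
        rw [haOf, map_mul, ht₀])
      rw [hφ, h1, map_mul]
    refine ⟨T.toSpecΓ ≫ Spec.map (CommRingCat.ofHom φR), ?_, ?_⟩
    · apply sharp_injective
      rw [sharp_comp_SpecMap, sharp_mk, hφalg]
    · intro h' hh'
      apply sharp_injective
      rw [sharp_mk]
      have h1 : (sharp h').comp (algebraMap A B) = sharp g := by
        rw [← sharp_comp_SpecMap, hh']
      ext b
      rw [hφR]
      apply hcancel
      rw [hφ, ← h1, RingHom.comp_apply, RingHom.comp_apply, ← map_mul, haOf, ht₀]

end Groth.Agent.S14090
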