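import Groth.Statements.S9827
import Groth.Agent.H8.FPAffine

set_option autoImplicit false
universe u
open CategoryTheory CategoryTheory.Limits AlgebraicGeometry TopologicalSpace Opposite
open Props

namespace Groth.Agent.S9827

section Helpers
open CategoryTheory CategoryTheory.Limits AlgebraicGeometry TopologicalSpace Opposite

set_option backward.isDefEq.respectTransparency false in
/-- A module with a finite global presentation is of finite presentation. -/
theorem isFP_of_presentation {X : Scheme.{u}} (N : X.Modules)
    (P : SheafOfModules.Presentation N) [P.IsFinite] :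
    SheafOfModules.IsFinitePresentation (R := X.ringCatSheaf) N := by
  have h : P.quasicoherentData.IsFinitePresentation := by
    constructor
    intro x
    exact ⟨⟨inferInstanceAs (Finite P.generators.I)⟩, ⟨inferInstanceAs (Finite P.relations.I)⟩⟩
  constructor
  exact Exists.intro _ h

theorem finitePresentation_of_isFP (R : CommRingCat.{u}) (M : ModuleCat.{u} R)
    (h : CohB1.IsFP (tilde M)) : Module.FinitePresentation R M := by
  have : SheafOfModules.IsFinitePresentation (R := (Spec R).ringCatSheaf) (tilde M) := h
  have hfp : Module.FinitePresentation Γ(Spec R, ⊤) Γ(tilde M, ⊤) :=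
    Groth.Agent.H8.finitePresentation_sections_of_isAffineOpen (tilde M) (isAffineOpen_top (Spec R))
  have hbij : Function.Bijective (algebraMap R Γ(Spec R, ⊤)) :=
    ConcreteCategory.bijective_of_isIso (Scheme.ΓSpecIso R).inv
  have : Module.FinitePresentation R Γ(Spec R, ⊤) :=
    Module.FinitePresentation.of_equiv
      (LinearEquiv.ofBijective (Algebra.linearMap R Γ(Spec R, ⊤)) hbij)
  have hR : Module.FinitePresentation R Γ(tilde M, ⊤) :=
    Module.FinitePresentation.trans R Γ(tilde M, ⊤) Γ(Spec R, ⊤)
  exact @Module.FinitePresentation.of_equiv R _ _ _ _ _ _ _ (tilde.isoTop M).toLinearEquiv.symm hR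

set_option backward.isDefEq.respectTransparency false in
theorem isFP_of_finitePresentation (R : CommRingCat.{u}) (M : ModuleCat.{u} R)
    (h : Module.FinitePresentation R M) : CohB1.IsFP (tilde M) := by
  obtain ⟨s, hs, t, ht⟩ := h.out
  let P : (tilde M).Presentation :=
    presentationTilde.{u} M (↑s) hs (show Set ((↑s : Set M) →₀ R) from (↑t : Set (s →₀ R))) ht
  have : P.IsFinite := ⟨⟨(inferInstance : Finite (↑s : Set M))⟩,
    ⟨(inferInstance : Finite (↑t : Set (s →₀ R)))⟩⟩
  exact isFP_of_presentation (tilde M) P

end Helpers

/-- The sheaf associated to a module over a ring is of finite presentation on the spectrum if and only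
if the module is finitely presented. -/
theorem result (R : CommRingCat.{u}) (M : ModuleCat.{u} R) :
    CohB1.IsFP (tilde M) ↔ Module.FinitePresentation R M := by
  exact ⟨finitePresentation_of_isFP R M, isFP_of_finitePresentation R M⟩

end Groth.Agent.S9827
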