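import Groth.Statements.S9818
import Mathlib
import Groth.Agent.H8.QCohPush
import Groth.Agent.H22.QCohLimits
import Groth.Agent.H42.CmpLib
-- import your own Groth.Agent.* helpers here

set_option autoImplicit false
universe u
open CategoryTheory CategoryTheory.Limits AlgebraicGeometry TopologicalSpace Opposite
open Props

namespace Groth.Agent.S9818

open AlgebraicGeometry.Scheme.Modules


/-- For an open subscheme U of a scheme X with quasi-compact inclusion, a quasi-coherent module G on U
with a map to the restriction of a quasi-coherent module F on X extends to a quasi-coherent module H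
on X with a map to F restricting to the given one. Taking F = 0, every quasi-coherent module on U
extends to a quasi-coherent module on X. -/
theorem result {X : Scheme.{u}} (U : X.Opens) [QuasiCompact U.ι]
    (F : X.Modules) [Coh.IsQCoh F] (G : (U : Scheme.{u}).Modules) [Coh.IsQCoh G] (φ : G ⟶ F.restrict U.ι) :
    ∃ (H : X.Modules) (ψ : H ⟶ F) (e : H.restrict U.ι ≅ G), Coh.IsQCoh H ∧
      e.hom ≫ φ = (Scheme.Modules.restrictFunctor U.ι).map ψ := by
  haveI hF : F.IsQuasicoherent := inferInstanceAs (Coh.IsQCoh F)
  haveI hG : G.IsQuasicoherent := inferInstanceAs (Coh.IsQCoh G)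
  let R := restrictFunctor U.ι
  let P := pushforward U.ι
  let adj := restrictAdjunction U.ι
  let a : F ⟶ P.obj (R.obj F) := adj.unit.app F
  let b : P.obj G ⟶ P.obj (R.obj F) := P.map φ
  haveI : (R.obj F).IsQuasicoherent := inferInstance
  haveI : (P.obj (R.obj F)).IsQuasicoherent :=
    Groth.Agent.H8.isQuasicoherent_pushforward U.ι (R.obj F)
  haveI : (P.obj G).IsQuasicoherent := Groth.Agent.H8.isQuasicoherent_pushforward U.ι G
  have h5 : R.map a ≫ adj.counit.app (R.obj F) = 𝟙 _ := adj.left_triangle_components F
  have hRa : IsIso (R.map a) := by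
    have h2 : IsIso (R.map a ≫ adj.counit.app (R.obj F)) := by rw [h5]; infer_instance
    exact IsIso.of_isIso_comp_right (R.map a) (adj.counit.app (R.obj F))
  haveI : PreservesFiniteLimits R := Groth.Agent.H42.CmpLib.preservesFiniteLimits_restrictFunctor U.ι
  let e1 : R.obj (pullback a b) ≅ pullback (R.map a) (R.map b) := PreservesPullback.iso R a b
  haveI : IsIso (pullback.snd (R.map a) (R.map b)) := inferInstance
  refine ⟨pullback a b, pullback.fst a b,
    e1 ≪≫ asIso (pullback.snd (R.map a) (R.map b)) ≪≫ asIso (adj.counit.app G),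
    Groth.Agent.H22.QCohLimits.isQuasicoherent_pullback a b, ?_⟩
  have h3 : R.map (pullback.fst a b) = e1.hom ≫ pullback.fst (R.map a) (R.map b) :=
    (PreservesPullback.iso_hom_fst R a b).symm
  have h6 : R.map b ≫ adj.counit.app (R.obj F) = adj.counit.app G ≫ φ :=
    adj.counit.naturality φ
  have h4 : pullback.fst (R.map a) (R.map b) =
      pullback.snd (R.map a) (R.map b) ≫ adj.counit.app G ≫ φ := by
    calc pullback.fst (R.map a) (R.map b)
        = pullback.fst (R.map a) (R.map b) ≫ R.map a ≫ adj.counit.app (R.obj F) := by
          rw [h5, Category.comp_id]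
      _ = pullback.snd (R.map a) (R.map b) ≫ R.map b ≫ adj.counit.app (R.obj F) := by
          rw [← Category.assoc, pullback.condition, Category.assoc]
      _ = _ := by rw [h6]
  show _ = R.map (pullback.fst a b)
  rw [h3, h4]
  simp only [Iso.trans_hom, asIso_hom, Category.assoc]

end Groth.Agent.S9818
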