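import Groth.Statements.S0835
-- import your own Groth.Agent.* helpers here
import Groth.Agent.H8.PullbackFinType

set_option autoImplicit false
universe u
open Formal2

namespace Groth.Agent.S0835

section Aux
open CategoryTheory CategoryTheory.Limits AlgebraicGeometry Opposite

variable {X Y : Scheme.{u}}

theorem smulModΓ_app (M : X.Modules) (r : Coh.Γtop X) (U : X.Opens) (m : Γ(M, U)) :
    (Formal.smulModΓ M r).app U m = (show Γ(X, U) from Coh.resTop X (op U) r) • m := rfl

/-- Every morphism of modules commutes with multiplication by a global function. -/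
theorem smulModΓ_naturality {M N : X.Modules} (φ : M ⟶ N) (r : Coh.Γtop X) :
    Formal.smulModΓ M r ≫ φ = φ ≫ Formal.smulModΓ N r := by
  ext U m
  change φ.app U ((Formal.smulModΓ M r).app U m) = (Formal.smulModΓ N r).app U (φ.app U m)
  rw [smulModΓ_app, smulModΓ_app]
  exact Scheme.Modules.Hom.app_smul φ _ m

/-- Pushforward is compatible with multiplication by global functions. -/
theorem pushforward_smulModΓ (f : X ⟶ Y) (N : X.Modules) (r : Coh.Γtop Y) :
    (Scheme.Modules.pushforward f).map (Formal.smulModΓ N (f.appTop.hom r)) =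
      Formal.smulModΓ ((Scheme.Modules.pushforward f).obj N) r := by
  ext U m
  change (show Γ(X, f ⁻¹ᵁ U) from Coh.resTop X (op (f ⁻¹ᵁ U)) (f.appTop.hom r)) • (show Γ(N, f ⁻¹ᵁ U) from m) =
    (show Γ(X, f ⁻¹ᵁ U) from (f.app U).hom (Coh.resTop Y (op U) r)) • (show Γ(N, f ⁻¹ᵁ U) from m)
  congr 1
  have := congrArg (fun φ => φ.hom r) (f.naturality (homOfLE (le_top : U ≤ ⊤)).op)
  exact this.symm

/-- Pullback is compatible with multiplication by global functions. -/
theorem pullback_map_smulModΓ (f : X ⟶ Y) (M : Y.Modules) (r : Coh.Γtop Y) :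
    (Scheme.Modules.pullback f).map (Formal.smulModΓ M r) =
      Formal.smulModΓ ((Scheme.Modules.pullback f).obj M) (f.appTop.hom r) := by
  let adj := Scheme.Modules.pullbackPushforwardAdjunction f
  apply (adj.homEquiv M _).injective
  rw [Adjunction.homEquiv_unit, Adjunction.homEquiv_unit, pushforward_smulModΓ]
  exact (adj.unit.naturality (Formal.smulModΓ M r)).symm.trans
    (smulModΓ_naturality (adj.unit.app M) r)

theorem pullback_map_smulMod {A : Type u} [CommRing A] [X.Over (Spec (CommRingCat.of A))]
    [Y.Over (Spec (CommRingCat.of A))] (f : X ⟶ Y)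
    (hf : f ≫ (Y ↘ Spec (CommRingCat.of A)) = X ↘ Spec (CommRingCat.of A)) (M : Y.Modules) (a : A) :
    (Scheme.Modules.pullback f).map (Formal.smulMod A M a) =
      Formal.smulMod A ((Scheme.Modules.pullback f).obj M) a := by
  unfold Formal.smulMod
  rw [pullback_map_smulModΓ]
  congr 1
  unfold Coh.toGlobal
  rw [← hf]
  simp
  rfl

theorem isColimit_of_isIso_desc {C : Type*} [Category C] [HasZeroMorphisms C] {K M N : C}
    (s : K ⟶ M) [HasCokernel s] (t : M ⟶ N) (h : s ≫ t = 0) [IsIso (cokernel.desc s t h)] :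
    Nonempty (IsColimit (CokernelCofork.ofπ t h)) :=
  ⟨IsColimit.ofIsoColimit (cokernelIsCokernel s)
    (Cofork.ext (asIso (cokernel.desc s t h)) (by simp))⟩

theorem isIso_desc_of_isColimit {C : Type*} [Category C] [HasZeroMorphisms C] {K M N : C}
    (s : K ⟶ M) [HasCokernel s] (t : M ⟶ N) (h : s ≫ t = 0)
    (hc : IsColimit (CokernelCofork.ofπ t h)) : IsIso (cokernel.desc s t h) := by
  let e := IsColimit.coconePointUniqueUpToIso (cokernelIsCokernel s) hc
  have he : e.hom = cokernel.desc s t h := by
    apply coequalizer.hom_ext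
    have := IsColimit.comp_coconePointUniqueUpToIso_hom (cokernelIsCokernel s) hc
      WalkingParallelPair.one
    simpa using this
  rw [← he]
  infer_instance

theorem smulFamily_pullback {A : Type u} [CommRing A] [X.Over (Spec (CommRingCat.of A))]
    [Y.Over (Spec (CommRingCat.of A))] (f : X ⟶ Y)
    (hf : f ≫ (Y ↘ Spec (CommRingCat.of A)) = X ↘ Spec (CommRingCat.of A)) (J : Ideal A)
    (M : Y.Modules) :
    Formal.smulFamily J ((Scheme.Modules.pullback f).obj M) =
      sigmaComparison (Scheme.Modules.pullback f) (fun _ : J => M) ≫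
        (Scheme.Modules.pullback f).map (Formal.smulFamily J M) := by
  unfold Formal.smulFamily
  rw [sigmaComparison_map_desc]
  congr 1
  funext a
  exact (pullback_map_smulMod f hf M a).symm

theorem aux {A : Type u} [CommRing A] [X.Over (Spec (CommRingCat.of A))]
    [Y.Over (Spec (CommRingCat.of A))] (f : X ⟶ Y)
    (hf : f ≫ (Y ↘ Spec (CommRingCat.of A)) = X ↘ Spec (CommRingCat.of A)) (J : Ideal A)
    {M N : Y.Modules} (t : M ⟶ N) (h : Formal.smulFamily J M ≫ t = 0)
    (hi : IsIso (cokernel.desc _ _ h)) :
    ∃ h' : Formal.smulFamily J ((Scheme.Modules.pullback f).obj M) ≫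
        (Scheme.Modules.pullback f).map t = 0,
      IsIso (cokernel.desc _ _ h') := by
  obtain ⟨hc₀⟩ := isColimit_of_isIso_desc _ _ h
  have hc₁ := CokernelCofork.mapIsColimit _ hc₀ (Scheme.Modules.pullback f)
  have hc₂ := isCokernelEpiComp hc₁
    (sigmaComparison (Scheme.Modules.pullback f) (fun _ : J => M)) (smulFamily_pullback f hf J M)
  have h' : Formal.smulFamily J ((Scheme.Modules.pullback f).obj M) ≫
      (Scheme.Modules.pullback f).map t = 0 := by
    rw [smulFamily_pullback f hf J M, Category.assoc, ← Functor.map_comp, h, Functor.map_zero,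
      comp_zero]
  exact ⟨h', isIso_desc_of_isColimit _ _ h' hc₂⟩

end Aux


open CategoryTheory AlgebraicGeometry in
/-- First assertion, for ideal sheaves generated by an ideal I of a base ring A. Let f : X → Y be a
morphism of Noetherian schemes over Spec A and (G_n) a coherent formal module for I on Y. Then the
componentwise pullback (f^* G_n) is a coherent formal module for I on X. (Exactness properties of
this functor are not stated.) -/
theorem result (A : Type u) [CommRing A] (I : Ideal A) (X Y : Scheme.{u})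
    [X.Over (Spec (CommRingCat.of A))] [Y.Over (Spec (CommRingCat.of A))] [IsNoetherian X] [IsNoetherian Y]
    (f : X ⟶ Y) (hf : f ≫ (Y ↘ Spec (CommRingCat.of A)) = X ↘ Spec (CommRingCat.of A))
    (G : ℕᵒᵖ ⥤ Y.Modules) (hG : Formal.IsCohFormal I G) :
    Formal.IsCohFormal I (G ⋙ Scheme.Modules.pullback f) := by
  obtain ⟨hcoh, hkill, hiso⟩ := hG
  refine ⟨fun n => ?_, fun n a ha => ?_, fun n => ?_⟩
  · haveI : (G.obj (Opposite.op n)).IsQuasicoherent := (hcoh n).1
    haveI : SheafOfModules.IsFiniteType (R := Y.ringCatSheaf) (G.obj (Opposite.op n)) := (hcoh n).2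
    exact ⟨Groth.Agent.H8.isQuasicoherent_pullback f _, Groth.Agent.H8.isFiniteType_pullback f _⟩
  · change Formal.smulMod A ((Scheme.Modules.pullback f).obj (G.obj (Opposite.op n))) a = 0
    rw [← pullback_map_smulMod f hf, hkill n a ha, Functor.map_zero]
  · obtain ⟨h, hi⟩ := hiso n
    exact aux f hf _ _ h hi

end Groth.Agent.S0835
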