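import Groth.Statements.S0832
-- import your own Groth.Agent.* helpers here
import Groth.Agent.S0835

set_option autoImplicit false
universe u
open Formal2

namespace Groth.Agent.S0832

section Aux
open CategoryTheory CategoryTheory.Limits AlgebraicGeometry Opposite

variable {A : Type u} [CommRing A] {X : Scheme.{u}} [X.Over (Spec (CommRingCat.of A))]

theorem smulMod_naturality {M N : X.Modules} (φ : M ⟶ N) (a : A) :
    Formal.smulMod A M a ≫ φ = φ ≫ Formal.smulMod A N a :=
  Groth.Agent.S0835.smulModΓ_naturality φ _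

theorem ι_smulFamily (J : Ideal A) (M : X.Modules) (a : J) :
    Sigma.ι (fun _ : J => M) a ≫ Formal.smulFamily J M = Formal.smulMod A M (a : A) := by
  simp [Formal.smulFamily]

theorem smulFamily_comp_eq_zero_iff (J : Ideal A) {M N : X.Modules} (g : M ⟶ N) :
    Formal.smulFamily J M ≫ g = 0 ↔ ∀ a ∈ J, Formal.smulMod A M a ≫ g = 0 := by
  constructor
  · intro h a ha
    rw [← ι_smulFamily J M ⟨a, ha⟩, Category.assoc, h, comp_zero]
  · intro h
    apply Sigma.hom_ext
    intro a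
    rw [← Category.assoc, ι_smulFamily, comp_zero]
    exact h a a.2

theorem smulFamily_eq_zero {J : Ideal A} {M : X.Modules} (h : Formal.KilledBy J M) :
    Formal.smulFamily J M = 0 := by
  apply Sigma.hom_ext
  intro a
  rw [ι_smulFamily, comp_zero]
  exact h a a.2

/-- Composition of two "quotient by an ideal" presentations. -/
theorem isColimit_comp {J' J : Ideal A} (hJ : J' ≤ J) {M' M'' N : X.Modules} (t : M' ⟶ M'')
    (q : M'' ⟶ N) (ht : Formal.smulFamily J' M' ≫ t = 0)
    (hct : IsColimit (CokernelCofork.ofπ t ht))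
    (hq : Formal.smulFamily J M'' ≫ q = 0) (hcq : IsColimit (CokernelCofork.ofπ q hq)) :
    ∃ h : Formal.smulFamily J M' ≫ t ≫ q = 0,
      Nonempty (IsColimit (CokernelCofork.ofπ (t ≫ q) h)) := by
  have h : Formal.smulFamily J M' ≫ t ≫ q = 0 := by
    rw [smulFamily_comp_eq_zero_iff]
    intro a ha
    rw [← Category.assoc, smulMod_naturality, Category.assoc,
      (smulFamily_comp_eq_zero_iff J q).1 hq a ha, comp_zero]
  haveI et : Epi t := epi_of_isColimit_cofork hct
  haveI eq : Epi q := epi_of_isColimit_cofork hcq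
  refine ⟨h, ⟨CokernelCofork.IsColimit.ofπ' _ _ (fun {Z} g hg => ?_)⟩⟩
  have hg' : Formal.smulFamily J' M' ≫ g = 0 := by
    rw [smulFamily_comp_eq_zero_iff]
    intro a ha
    exact (smulFamily_comp_eq_zero_iff J g).1 hg a (hJ ha)
  obtain ⟨g₁, hg₁⟩ := CokernelCofork.IsColimit.desc' hct g hg'
  have hg₁' : Formal.smulFamily J M'' ≫ g₁ = 0 := by
    rw [smulFamily_comp_eq_zero_iff]
    intro a ha
    rw [← cancel_epi t, ← Category.assoc, ← smulMod_naturality, Category.assoc, comp_zero]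
    change Formal.smulMod A M' a ≫ t ≫ g₁ = 0
    have : t ≫ g₁ = g := hg₁
    rw [this]
    exact (smulFamily_comp_eq_zero_iff J g).1 hg a ha
  obtain ⟨g₂, hg₂⟩ := CokernelCofork.IsColimit.desc' hcq g₁ hg₁'
  refine ⟨g₂, ?_⟩
  have h1 : q ≫ g₂ = g₁ := hg₂
  have h2 : t ≫ g₁ = g := hg₁
  rw [Category.assoc, h1, h2]

/-- The identity presents `M` as `M / J M` when `J` kills `M`. -/
theorem isColimit_id {J : Ideal A} {M : X.Modules} (h : Formal.KilledBy J M) :
    ∃ h0 : Formal.smulFamily J M ≫ 𝟙 M = 0,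
      Nonempty (IsColimit (CokernelCofork.ofπ (𝟙 M) h0)) := by
  have h0 : Formal.smulFamily J M ≫ 𝟙 M = 0 := by rw [smulFamily_eq_zero h, zero_comp]
  exact ⟨h0, ⟨CokernelCofork.IsColimit.ofπ' _ _ (fun {Z} g _ => ⟨g, Category.id_comp g⟩)⟩⟩

variable {I : Ideal A} {F : ℕᵒᵖ ⥤ X.Modules}

theorem map_succ (F : ℕᵒᵖ ⥤ X.Modules) {n m : ℕ} (h : n ≤ m) :
    F.map (homOfLE (Nat.le_succ m)).op ≫ F.map (homOfLE h).op =
      F.map (homOfLE (h.trans (Nat.le_succ m))).op := by
  rw [← F.map_comp]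
  rfl

/-- `F_{n+k} / I^(n+1) F_{n+k} ≅ F_n` through the transition map. -/
theorem key (hF : Formal.IsCohFormal I F) (n : ℕ) : ∀ (k : ℕ) (h : n ≤ n + k),
    ∃ h0 : Formal.smulFamily (I ^ (n + 1)) (F.obj (op (n + k))) ≫ F.map (homOfLE h).op = 0,
      Nonempty (IsColimit (CokernelCofork.ofπ (F.map (homOfLE h).op) h0)) := by
  intro k
  induction k with
  | zero =>
    intro h
    have e : F.map (homOfLE h).op = 𝟙 _ := by
      rw [← F.map_id]
      rfl
    rw [e]
    exact isColimit_id (hF.2.1 n)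
  | succ k ih =>
    intro h
    obtain ⟨h0, ⟨hc⟩⟩ := ih (Nat.le_add_right n k)
    obtain ⟨h1, hi⟩ := hF.2.2 (n + k)
    obtain ⟨hc1⟩ := Groth.Agent.S0835.isColimit_of_isIso_desc _ _ h1
    obtain ⟨h2, ⟨hc2⟩⟩ := isColimit_comp
      (Ideal.pow_le_pow_right (by omega : n + 1 ≤ n + k + 1)) _ _ h1 hc1 h0 hc
    have e : F.map (homOfLE (Nat.le_succ (n + k))).op ≫ F.map (homOfLE (Nat.le_add_right n k)).op =
        F.map (homOfLE h).op := map_succ F _
    rw [← e]
    exact ⟨h2, ⟨hc2⟩⟩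

theorem key' (hF : Formal.IsCohFormal I F) {n m : ℕ} (h : n ≤ m) :
    ∃ h0 : Formal.smulFamily (I ^ (n + 1)) (F.obj (op m)) ≫ F.map (homOfLE h).op = 0,
      Nonempty (IsColimit (CokernelCofork.ofπ (F.map (homOfLE h).op) h0)) := by
  obtain ⟨k, rfl⟩ := Nat.exists_eq_add_of_le h
  exact key hF n k h

theorem isIso_of_isColimit_of_eq_zero {K M N : X.Modules} (s : K ⟶ M) (t : M ⟶ N)
    (h : s ≫ t = 0) (hc : IsColimit (CokernelCofork.ofπ t h)) (hs : s = 0) : IsIso t := by
  haveI : Epi t := epi_of_isColimit_cofork hc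
  obtain ⟨g, hg⟩ := CokernelCofork.IsColimit.desc' hc (𝟙 M) (by rw [hs, zero_comp])
  have hg' : t ≫ g = 𝟙 M := hg
  refine ⟨g, hg', ?_⟩
  rw [← cancel_epi t, ← Category.assoc, hg', Category.id_comp, Category.comp_id]

theorem isColimit_iso_comp {J : Ideal A} {M M' N : X.Modules} (v : M ⟶ M') [IsIso v]
    (q : M' ⟶ N) (hq : Formal.smulFamily J M' ≫ q = 0)
    (hcq : IsColimit (CokernelCofork.ofπ q hq)) :
    ∃ h : Formal.smulFamily J M ≫ v ≫ q = 0,
      Nonempty (IsColimit (CokernelCofork.ofπ (v ≫ q) h)) := by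
  have h : Formal.smulFamily J M ≫ v ≫ q = 0 := by
    rw [smulFamily_comp_eq_zero_iff]
    intro a ha
    rw [← Category.assoc, smulMod_naturality, Category.assoc,
      (smulFamily_comp_eq_zero_iff J q).1 hq a ha, comp_zero]
  haveI eq : Epi q := epi_of_isColimit_cofork hcq
  refine ⟨h, ⟨CokernelCofork.IsColimit.ofπ' _ _ (fun {Z} g hg => ?_)⟩⟩
  have hg' : Formal.smulFamily J M' ≫ inv v ≫ g = 0 := by
    rw [smulFamily_comp_eq_zero_iff]
    intro a ha
    rw [← Category.assoc, smulMod_naturality, Category.assoc,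
      (smulFamily_comp_eq_zero_iff J g).1 hg a ha, comp_zero]
  obtain ⟨g₂, hg₂⟩ := CokernelCofork.IsColimit.desc' hcq (inv v ≫ g) hg'
  have h1 : q ≫ g₂ = inv v ≫ g := hg₂
  exact ⟨g₂, by rw [Category.assoc, h1, IsIso.hom_inv_id_assoc]⟩

theorem map_comp_le (F : ℕᵒᵖ ⥤ X.Modules) {a b c : ℕ} (h₁ : a ≤ b) (h₂ : b ≤ c) :
    F.map (homOfLE h₂).op ≫ F.map (homOfLE h₁).op = F.map (homOfLE (h₁.trans h₂)).op := by
  rw [← F.map_comp]
  rfl

/-- If `I^c` kills every term, the transition maps are isomorphisms from `c - 1` on. -/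
theorem isIso_map (hF : Formal.IsCohFormal I F) {c : ℕ}
    (hc : ∀ n : ℕ, Formal.KilledBy (I ^ c) (F.obj (op n))) {n m : ℕ} (hn : c ≤ n + 1) (h : n ≤ m) :
    IsIso (F.map (homOfLE h).op) := by
  obtain ⟨h0, ⟨hcol⟩⟩ := key' hF h
  refine isIso_of_isColimit_of_eq_zero _ _ h0 hcol (smulFamily_eq_zero ?_)
  intro a ha
  exact hc m a (Ideal.pow_le_pow_right hn ha)

theorem main (hF : Formal.IsCohFormal I F) {c : ℕ}
    (hc : ∀ n : ℕ, Formal.KilledBy (I ^ c) (F.obj (op n))) :
    Nonempty (Formal.completion I (F.obj (op c)) ≅ F) := by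
  have hiso : ∀ {m : ℕ} (h : c ≤ m), IsIso (F.map (homOfLE h).op) :=
    fun h => isIso_map hF hc (Nat.le_succ c) h
  let q : ∀ (m n : ℕ) (_ : c ≤ m) (_ : n ≤ m), F.obj (op c) ⟶ F.obj (op n) :=
    fun m n hm hn => @inv _ _ _ _ (F.map (homOfLE hm).op) (hiso hm) ≫ F.map (homOfLE hn).op
  have hq : ∀ (m m' n : ℕ) (hm : c ≤ m) (hmm' : m ≤ m') (hn : n ≤ m),
      q m' n (hm.trans hmm') (hn.trans hmm') = q m n hm hn := by
    intro m m' n hm hmm' hn
    haveI := hiso hm
    haveI := hiso (hm.trans hmm')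
    change inv (F.map (homOfLE (hm.trans hmm')).op) ≫ F.map (homOfLE (hn.trans hmm')).op =
      inv (F.map (homOfLE hm).op) ≫ F.map (homOfLE hn).op
    rw [← map_comp_le F hn hmm', ← Category.assoc]
    congr 1
    rw [IsIso.inv_comp_eq, IsIso.eq_comp_inv, map_comp_le F hm hmm']
  let p : ∀ n : ℕ, F.obj (op c) ⟶ F.obj (op n) :=
    fun n => q (max n c) n (le_max_right n c) (le_max_left n c)
  have hp : ∀ n : ℕ, p (n + 1) ≫ F.map (homOfLE (Nat.le_succ n)).op = p n := by
    intro n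
    have h1 : max n c ≤ max (n + 1) c := max_le_max (Nat.le_succ n) le_rfl
    have h2 : p (n + 1) ≫ F.map (homOfLE (Nat.le_succ n)).op =
        q (max (n + 1) c) n (le_max_right _ _) ((le_max_left n c).trans h1) := by
      haveI := hiso (le_max_right (n + 1) c)
      change (inv (F.map (homOfLE (le_max_right (n + 1) c)).op) ≫
        F.map (homOfLE (le_max_left (n + 1) c)).op) ≫ F.map (homOfLE (Nat.le_succ n)).op =
        inv (F.map (homOfLE (le_max_right (n + 1) c)).op) ≫ F.map (homOfLE _).op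
      rw [Category.assoc, map_comp_le F (Nat.le_succ n) (le_max_left (n + 1) c)]
    rw [h2]
    exact hq (max n c) (max (n + 1) c) n (le_max_right n c) h1 (le_max_left n c)
  have hcol : ∀ n : ℕ, ∃ h : Formal.smulFamily (I ^ (n + 1)) (F.obj (op c)) ≫ p n = 0,
      Nonempty (IsColimit (CokernelCofork.ofπ (p n) h)) := by
    intro n
    obtain ⟨h0, ⟨hc0⟩⟩ := key' hF (le_max_left n c)
    haveI := hiso (le_max_right n c)
    exact isColimit_iso_comp (inv (F.map (homOfLE (le_max_right n c)).op)) _ h0 hc0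
  choose h hcol' using hcol
  let e : ∀ n : ℕ, Formal.modPow I (n + 1) (F.obj (op c)) ⟶ F.obj (op n) :=
    fun n => cokernel.desc _ (p n) (h n)
  have he : ∀ n, IsIso (e n) := fun n =>
    Groth.Agent.S0835.isIso_desc_of_isColimit _ _ (h n) (hcol' n).some
  let α : Formal.completion I (F.obj (op c)) ⟶ F :=
    NatTrans.ofOpSequence (F := Formal.completion I (F.obj (op c))) (G := F) e (by
      intro n
      have h1 : (Formal.completion I (F.obj (op c))).map (homOfLE (n.le_add_right 1)).op =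
          Formal.modPowTrans I (n + 1) (F.obj (op c)) :=
        Functor.ofOpSequence_map_homOfLE_succ _ n
      rw [h1]
      apply coequalizer.hom_ext
      change Formal.modPowπ I (n + 1 + 1) (F.obj (op c)) ≫
          Formal.modPowTrans I (n + 1) (F.obj (op c)) ≫ e n =
        cokernel.π _ ≫ cokernel.desc _ (p (n + 1)) (h (n + 1)) ≫ F.map (homOfLE _).op
      rw [← Category.assoc, Formal.modPowπ_trans, ← Category.assoc, cokernel.π_desc]
      change cokernel.π _ ≫ cokernel.desc _ (p n) (h n) = _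
      rw [cokernel.π_desc]
      exact (hp n).symm)
  haveI : ∀ k : ℕᵒᵖ, IsIso (α.app k) := fun k => he k.unop
  haveI : IsIso α := NatIso.isIso_of_isIso_app α
  exact ⟨asIso α⟩

end Aux


open CategoryTheory AlgebraicGeometry Opposite in
/-- First assertion, for the ideal sheaf I·O_X of an ideal I of a base ring A. Let X be a Noetherian
scheme over Spec A and (F_n) a coherent formal module for I such that some fixed power I^c
annihilates every F_n. Then (F_n) is isomorphic to the system (M/I^nM) of a coherent O_X-module M. -/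
theorem result (A : Type u) [CommRing A] (I : Ideal A) (X : Scheme.{u})
    [X.Over (Spec (CommRingCat.of A))] [IsNoetherian X] (F : ℕᵒᵖ ⥤ X.Modules) (hF : Formal.IsCohFormal I F)
    (hc : ∃ c : ℕ, ∀ n : ℕ, Formal.KilledBy (I ^ c) (F.obj (op n))) :
    ∃ M : X.Modules, Coh.IsCoh M ∧ Nonempty (Formal.completion I M ≅ F) := by
  obtain ⟨c, hc⟩ := hc
  exact ⟨F.obj (Opposite.op c), hF.1 c, main hF hc⟩

end Groth.Agent.S0832
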