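import Groth.Statements.S0827
-- import your own Groth.Agent.* helpers here
import Groth.Agent.H5.Rlim.Tower
import Groth.Agent.H45.AffineOpenVanishing
import Groth.Agent.H22.QCohH1
import Groth.Agent.H22.QCohLimits
import Groth.Agent.H33.HMapSite

set_option autoImplicit false
universe u
open Formal2

namespace Groth.Agent.S0827

section Aux
open CategoryTheory CategoryTheory.Limits AlgebraicGeometry Opposite

theorem epi_of_isIso_desc {C : Type*} [Category C] [Abelian C] {K M N : C} (s : K ⟶ M) (f : M ⟶ N)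
    (h : s ≫ f = 0) (hi : IsIso (cokernel.desc s f h)) : Epi f := by
  have : f = cokernel.π s ≫ cokernel.desc s f h := (cokernel.π_desc s f h).symm
  rw [this]
  infer_instance

/-- `toSheaf` preserves sequential limits. -/
theorem preservesLimitsOfShape_toSheaf {C : Type u} [SmallCategory C] {J : GrothendieckTopology C}
    (R : Sheaf J RingCat.{u}) :
    PreservesLimitsOfShape ℕᵒᵖ (SheafOfModules.toSheaf.{u} R) := by
  haveI : PreservesLimitsOfShape ℕᵒᵖ (SheafOfModules.toSheaf.{u} R ⋙ sheafToPresheaf _ _) :=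
    comp_preservesLimitsOfShape (SheafOfModules.forget.{u} R) (PresheafOfModules.toPresheaf R.obj)
  exact preservesLimitsOfShape_of_reflects_of_preserves _ (sheafToPresheaf _ _)

/-- Abstract group-theoretic packaging. -/
theorem package {P Q : ℕ → Type u} [∀ n, AddCommGroup (P n)] [∀ n, AddCommGroup (Q n)]
    {L L' : Type u} [AddCommGroup L] [AddCommGroup L']
    (tP : ∀ n, P (n + 1) →+ P n) (tQ : ∀ n, Q (n + 1) →+ Q n) (π : ∀ n, L →+ Q n)
    (hπ : ∀ n x, tQ n (π (n + 1) x) = π n x)
    (hlift : ∀ ξ : ∀ n, Q n, (∀ n, tQ n (ξ (n + 1)) = ξ n) → ∃ η : L, ∀ n, π n η = ξ n)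
    (ε : (AddMonoidHom.pi π).ker ≃+ limOne P tP) (c : L' ≃+ L) :
    ∃ (α : limOne P tP →+ L') (β : L' →+ limZero Q tQ),
      Function.Injective α ∧ Function.Surjective β ∧ α.range = β.ker ∧
      ∀ (x : L') (n : ℕ), (β x : ∀ n, Q n) n = π n (c x) := by
  have hmem : ∀ x : L', (fun n => π n (c x)) ∈ limZero Q tQ := by
    intro x
    rw [AddMonoidHom.mem_ker]
    funext n
    change π n (c x) - tQ n (π (n + 1) (c x)) = 0
    rw [hπ, sub_self]
  let β : L' →+ limZero Q tQ :=
    { toFun := fun x => ⟨fun n => π n (c x), hmem x⟩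
      map_zero' := by
        apply Subtype.ext
        funext n
        simp
      map_add' := fun x y => by
        apply Subtype.ext
        funext n
        simp }
  let α : limOne P tP →+ L' :=
    c.symm.toAddMonoidHom.comp ((AddSubgroup.subtype _).comp ε.symm.toAddMonoidHom)
  refine ⟨α, β, ?_, ?_, ?_, fun x n => rfl⟩
  · intro a b hab
    have h1 := c.symm.injective hab
    have h2 := Subtype.ext_iff.2 h1
    exact ε.symm.injective h2
  · rintro ⟨ξ, hξ⟩
    have hξ' : ∀ n, tQ n (ξ (n + 1)) = ξ n := by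
      intro n
      have := congrFun (AddMonoidHom.mem_ker.1 hξ) n
      change ξ n - tQ n (ξ (n + 1)) = 0 at this
      exact (sub_eq_zero.1 this).symm
    obtain ⟨η, hη⟩ := hlift ξ hξ'
    refine ⟨c.symm η, ?_⟩
    apply Subtype.ext
    funext n
    change π n (c (c.symm η)) = ξ n
    rw [AddEquiv.apply_symm_apply, hη]
  · ext x
    constructor
    · rintro ⟨a, rfl⟩
      rw [AddMonoidHom.mem_ker]
      apply Subtype.ext
      funext n
      change π n (c (c.symm ((ε.symm a : (AddMonoidHom.pi π).ker) : L))) = 0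
      rw [AddEquiv.apply_symm_apply]
      have := (ε.symm a).2
      rw [AddMonoidHom.mem_ker] at this
      exact congrFun this n
    · intro hx
      rw [AddMonoidHom.mem_ker] at hx
      have hx' : c x ∈ (AddMonoidHom.pi π).ker := by
        rw [AddMonoidHom.mem_ker]
        funext n
        exact congrFun (congrArg Subtype.val hx) n
      refine ⟨ε ⟨c x, hx'⟩, ?_⟩
      change c.symm ((ε.symm (ε ⟨c x, hx'⟩) : (AddMonoidHom.pi π).ker) : L) = x
      rw [AddEquiv.symm_apply_apply]
      exact c.symm_apply_apply x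

theorem surj_aux {X : Scheme.{u}} (G : ℕᵒᵖ ⥤ X.Modules) (hq : ∀ n, Coh.IsQCoh (G.obj (op n)))
    (ht : ∀ n, Epi (G.map (homOfLE (Nat.le_succ n)).op)) (U : X.Opens) (hU : IsAffineOpen U)
    (n : ℕ) : Function.Surjective ((G.map (homOfLE (Nat.le_succ n)).op).app U) := by
  haveI : (G.obj (op n)).IsQuasicoherent := hq n
  haveI : (G.obj (op (n + 1))).IsQuasicoherent := hq (n + 1)
  let t := G.map (homOfLE (Nat.le_succ n)).op
  haveI : Epi t := ht n
  let S : ShortComplex X.Modules := ShortComplex.mk (kernel.ι t) t (kernel.condition t)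
  have hS : S.ShortExact :=
    { exact := ShortComplex.exact_of_f_is_kernel S (kernelIsKernel t)
      mono_f := inferInstanceAs (Mono (kernel.ι t))
      epi_g := inferInstanceAs (Epi t) }
  haveI : S.X₁.IsQuasicoherent := Groth.Agent.H22.QCohLimits.isQuasicoherent_kernel t
  exact Groth.Agent.H22.QCohH1.app_surjective S hS hU

theorem h2_aux {X : Scheme.{u}} (G : ℕᵒᵖ ⥤ X.Modules) (hq : ∀ n, Coh.IsQCoh (G.obj (op n)))
    (ht : ∀ n, Epi (G.map (homOfLE (Nat.le_succ n)).op)) (U : X.Opens) (hU : IsAffineOpen U) :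
    CohCx.LimOneIsZero
      (fun n => ((G ⋙ SheafOfModules.toSheaf X.ringCatSheaf).obj (op n)).obj.obj (op U))
      (fun n => (((G ⋙ SheafOfModules.toSheaf X.ringCatSheaf).map
        (homOfLE (Nat.le_succ n)).op).hom.app (op U)).hom) :=
  Groth.Agent.H5.Rlim.limOneIsZero_of_surjective _ _ (fun n => surj_aux G hq ht U hU n)

theorem h1_aux {X : Scheme.{u}} (G : ℕᵒᵖ ⥤ X.Modules) (hq : ∀ n, Coh.IsQCoh (G.obj (op n)))
    (U : X.Opens) (hU : IsAffineOpen U) (p n : ℕ) :
    Subsingleton (CohSite.HU ((SheafOfModules.toSheaf X.ringCatSheaf).obj (G.obj (op n)))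
      (p + 1) U) := by
  haveI : (G.obj (op n)).IsQuasicoherent := hq n
  exact Groth.Agent.H45.AffineVanishing.subsingleton_HU_of_isAffineOpen (G.obj (op n)) hU p

/-- The Milnor sequence for towers of sheaves of modules on a small ringed site, under
basis-acyclicity and Mittag-Leffler-on-the-basis hypotheses. -/
theorem generic {C : Type u} [SmallCategory C] {J : GrothendieckTopology C}
    (R : Sheaf J RingCat.{u}) [HasExt.{u} (Sheaf J AddCommGrpCat.{u})]
    (G : ℕᵒᵖ ⥤ SheafOfModules.{u} R) (B : Set C)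
    (hB : ∀ U : C, ∃ (ι : Type u) (Y : ι → C) (f : ∀ i, Y i ⟶ U),
      Sieve.ofArrows Y f ∈ J U ∧ ∀ i, Y i ∈ B)
    (h1 : ∀ U ∈ B, ∀ (p n : ℕ), Subsingleton
      (CohSite.HU ((SheafOfModules.toSheaf.{u} R).obj (G.obj (op n))) (p + 1) U))
    (h2 : ∀ U ∈ B, CohCx.LimOneIsZero
      (fun n => ((SheafOfModules.toSheaf.{u} R).obj (G.obj (op n))).obj.obj (op U))
      (fun n => (((SheafOfModules.toSheaf.{u} R).map
        (G.map (homOfLE (Nat.le_succ n)).op)).hom.app (op U)).hom))
    (p : ℕ) :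
    ∃ (α : Formal2.limOne (fun n => Sheaf.H ((SheafOfModules.toSheaf.{u} R).obj (G.obj (op n))) p)
          (fun n => Sheaf.H.map ((SheafOfModules.toSheaf.{u} R).map
            (G.map (homOfLE (Nat.le_succ n)).op)) p) →+
        Sheaf.H ((SheafOfModules.toSheaf.{u} R).obj (limit G)) (p + 1))
      (β : Sheaf.H ((SheafOfModules.toSheaf.{u} R).obj (limit G)) (p + 1) →+
        Formal2.limZero (fun n => Sheaf.H ((SheafOfModules.toSheaf.{u} R).obj (G.obj (op n))) (p + 1))
          (fun n => Sheaf.H.map ((SheafOfModules.toSheaf.{u} R).map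
            (G.map (homOfLE (Nat.le_succ n)).op)) (p + 1))),
      Function.Injective α ∧ Function.Surjective β ∧ α.range = β.ker ∧
      ∀ (x : Sheaf.H ((SheafOfModules.toSheaf.{u} R).obj (limit G)) (p + 1)) (n : ℕ),
        (β x : ∀ n, Sheaf.H ((SheafOfModules.toSheaf.{u} R).obj (G.obj (op n))) (p + 1)) n =
          Sheaf.H.map ((SheafOfModules.toSheaf.{u} R).map (limit.π G (op n))) (p + 1) x := by
  let T : SheafOfModules.{u} R ⥤ Sheaf J AddCommGrpCat.{u} := SheafOfModules.toSheaf.{u} R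
  haveI : PreservesLimitsOfShape ℕᵒᵖ T := preservesLimitsOfShape_toSheaf R
  let F : ℕᵒᵖ ⥤ Sheaf J AddCommGrpCat.{u} := G ⋙ T
  letI : HasDerivedCategory.{u} (Sheaf J AddCommGrpCat.{u}) :=
    Groth.Agent.H33.BrownD.hasDerivedCategorySmall _
  haveI := Groth.Agent.H5.Rlim.hasProduct_nat
    (fun n => (Groth.Agent.H5.Rlim.s0 J).obj (F.obj (op n)))
  have hL := Groth.Agent.H5.Rlim.main_tower F B hB h1 h2
  obtain ⟨hlift, ⟨ε⟩⟩ := Groth.Agent.H5.Rlim.ext_tower F hL
    ((constantSheaf J AddCommGrpCat.{u}).obj (AddCommGrpCat.of (ULift ℤ))) (p + 1) p rfl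
  let χ : T.obj (limit G) ≅ limit F := preservesLimitIso T G
  have hχ : ∀ n, χ.hom ≫ limit.π F (op n) = T.map (limit.π G (op n)) := fun n =>
    preservesLimitIso_hom_π T G (op n)
  let c : Sheaf.H (T.obj (limit G)) (p + 1) ≃+ Sheaf.H (limit F) (p + 1) :=
    { toFun := Sheaf.H.map χ.hom (p + 1)
      invFun := Sheaf.H.map χ.inv (p + 1)
      left_inv := fun x => by
        rw [← Sheaf.H.map_comp_apply, Iso.hom_inv_id, Sheaf.H.map_id_apply]
      right_inv := fun x => by
        rw [← Sheaf.H.map_comp_apply, Iso.inv_hom_id, Sheaf.H.map_id_apply]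
      map_add' := map_add _ }
  obtain ⟨α, β, hα, hβ, hαβ, hβπ⟩ := package
    (P := fun n => Sheaf.H (T.obj (G.obj (op n))) p)
    (Q := fun n => Sheaf.H (T.obj (G.obj (op n))) (p + 1))
    (fun n => Sheaf.H.map (T.map (G.map (homOfLE (Nat.le_succ n)).op)) p)
    (fun n => Sheaf.H.map (T.map (G.map (homOfLE (Nat.le_succ n)).op)) (p + 1))
    (fun n => Sheaf.H.map (limit.π F (op n)) (p + 1))
    (fun n x => by
      rw [← Sheaf.H.map_comp_apply]
      congr 2
      exact limit.w F (homOfLE (Nat.le_succ n)).op)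
    hlift ε c
  refine ⟨α, β, hα, hβ, hαβ, fun x n => (hβπ x n).trans ?_⟩
  have h3 := Sheaf.H.map_comp_apply χ.hom (limit.π F (op n)) (n := p + 1) x
  rw [hχ n] at h3
  exact h3.symm

theorem aux {X : Scheme.{u}} (G : ℕᵒᵖ ⥤ X.Modules) (hq : ∀ n, Coh.IsQCoh (G.obj (op n)))
    (ht : ∀ n, Epi (G.map (homOfLE (Nat.le_succ n)).op)) (p : ℕ) :
    ∃ (α : Formal2.limOne (fun n => Coh.HH X (G.obj (op n)) p) (Formal2.HHsysMap G p) →+
        Coh.HH X (limit G) (p + 1))
      (β : Coh.HH X (limit G) (p + 1) →+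
        Formal2.limZero (fun n => Coh.HH X (G.obj (op n)) (p + 1)) (Formal2.HHsysMap G (p + 1))),
      Function.Injective α ∧ Function.Surjective β ∧ α.range = β.ker ∧
      ∀ (x : Coh.HH X (limit G) (p + 1)) (n : ℕ),
        (β x : ∀ n, Coh.HH X (G.obj (op n)) (p + 1)) n =
          Sheaf.H.map ((SheafOfModules.toSheaf _).map (limit.π G (op n))) (p + 1) x :=
  generic X.ringCatSheaf G X.affineOpens
    (Groth.Agent.H33.HMapSite.basis_cover (X := X.carrier) X.affineOpens X.isBasis_affineOpens)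
    (fun U hU p n => h1_aux G hq U hU p n) (fun U hU => h2_aux G hq ht U hU) p

end Aux


open CategoryTheory CategoryTheory.Limits AlgebraicGeometry Opposite in
/-- Part (3), for the ideal sheaf generated by an ideal I of a base ring A. Let X be a scheme over Spec
A and (G_n) an inverse system of quasi-coherent O_X-modules with G_n killed by I^(n+1) and G_n =
G_{n+1}/I^(n+1)G_{n+1}. Then for every p there is a short exact sequence 0 → R^1 lim_n H^p(X, G_n) →
H^(p+1)(X, lim G_n) → lim_n H^(p+1)(X, G_n) → 0 of abelian groups, the second map being induced by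
the projections lim G_n → G_n (the degree-0 statement is not restated). -/
theorem result (A : Type u) [CommRing A] (I : Ideal A) (X : Scheme.{u})
    [X.Over (Spec (CommRingCat.of A))] (G : ℕᵒᵖ ⥤ X.Modules) (hG : Formal2.IsQCohFormal I G) (p : ℕ) :
    ∃ (α : Formal2.limOne (fun n => Coh.HH X (G.obj (op n)) p) (Formal2.HHsysMap G p) →+
        Coh.HH X (limit G) (p + 1))
      (β : Coh.HH X (limit G) (p + 1) →+
        Formal2.limZero (fun n => Coh.HH X (G.obj (op n)) (p + 1)) (Formal2.HHsysMap G (p + 1))),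
      Function.Injective α ∧ Function.Surjective β ∧ α.range = β.ker ∧
      ∀ (x : Coh.HH X (limit G) (p + 1)) (n : ℕ),
        (β x : ∀ n, Coh.HH X (G.obj (op n)) (p + 1)) n =
          Sheaf.H.map ((SheafOfModules.toSheaf _).map (limit.π G (op n))) (p + 1) x := by
  obtain ⟨hq, -, hiso⟩ := hG
  refine aux G hq (fun n => ?_) p
  obtain ⟨h, hi⟩ := hiso n
  exact epi_of_isIso_desc _ _ h hi

end Groth.Agent.S0827
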