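import Groth.Statements.S0852
-- import your own Groth.Agent.* helpers here
import Groth.Agent.S0827
import Groth.Agent.S0832
import Groth.Agent.H95.QCohColim

set_option autoImplicit false
universe u
open Formal2

namespace Groth.Agent.S0852

section Alg
variable {A : Type u} [CommRing A]

/-- Elements of `(span (range b)) • N` are `Σ_j b_j • w_j` with `w_j ∈ N`. -/
theorem exists_sum_of_mem_span_smul {M : Type u} [AddCommGroup M] [Module A M] {ι : Type*}
    [Fintype ι] (b : ι → A) (N : Submodule A M) {x : M}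
    (hx : x ∈ Ideal.span (Set.range b) • N) :
    ∃ w : ι → M, (∀ j, w j ∈ N) ∧ x = ∑ j, b j • w j := by
  refine Submodule.smul_induction_on hx ?_ ?_
  · intro r hr n hn
    obtain ⟨c, rfl⟩ := Ideal.mem_span_range_iff_exists_fun.1 hr
    refine ⟨fun j => c j • n, fun j => N.smul_mem _ hn, ?_⟩
    rw [Finset.sum_smul]
    refine Finset.sum_congr rfl (fun j _ => ?_)
    rw [smul_smul, mul_comm]
  · rintro x y ⟨w, hw, rfl⟩ ⟨w', hw', rfl⟩
    refine ⟨w + w', fun j => N.add_mem (hw j) (hw' j), ?_⟩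
    simp [smul_add, Finset.sum_add_distrib]

variable (M : ℕ → Type u) [∀ k, AddCommGroup (M k)] [∀ k, Module A (M k)]
  (T : ∀ l K : ℕ, l ≤ K → (M K →ₗ[A] M l))
  (T_comp : ∀ (l K K' : ℕ) (h₁ : l ≤ K) (h₂ : K ≤ K') (x : M K'),
    T l K h₁ (T K K' h₂ x) = T l K' (h₁.trans h₂) x)
  (T_id : ∀ (l : ℕ) (x : M l), T l l le_rfl x = x)

include T_comp T_id in
/-- Successive compatibility implies compatibility for all pairs. -/
theorem compat_of_succ (z : ∀ k, M k)
    (hz : ∀ k, T k (k + 1) (Nat.le_succ k) (z (k + 1)) = z k) :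
    ∀ (l K : ℕ) (h : l ≤ K), T l K h (z K) = z l := by
  intro l K h
  obtain ⟨d, rfl⟩ := Nat.exists_eq_add_of_le h
  induction d with
  | zero => exact T_id l (z l)
  | succ d ih =>
    have := T_comp l (l + d) (l + d + 1) (Nat.le_add_right l d) (Nat.le_succ _) (z (l + d + 1))
    rw [hz (l + d), ih (Nat.le_add_right l d)] at this
    exact this.symm

variable (hsurj : ∀ K, Function.Surjective (T K (K + 1) (Nat.le_succ K)))

include T_comp T_id hsurj in
/-- Every element of `M n` extends to a compatible sequence. -/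
theorem exists_compat_of_surjective (n : ℕ) (s : M n) :
    ∃ z : ∀ k, M k, (∀ (l K : ℕ) (h : l ≤ K), T l K h (z K) = z l) ∧ z n = s := by
  let w : ∀ k, M k := fun k => Nat.rec (motive := fun k => M k)
    (T 0 n (Nat.zero_le n) s)
    (fun k wk => if h : k + 1 ≤ n then T (k + 1) n h s else Classical.choose (hsurj k wk)) k
  have hw1 : ∀ k (h : k ≤ n), w k = T k n h s := by
    intro k h
    cases k with
    | zero => rfl
    | succ k =>
      change (if h' : k + 1 ≤ n then T (k + 1) n h' s else _) = _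
      rw [dif_pos h]
  have hw2 : ∀ k, T k (k + 1) (Nat.le_succ k) (w (k + 1)) = w k := by
    intro k
    by_cases h : k + 1 ≤ n
    · rw [hw1 (k + 1) h, hw1 k (Nat.le_of_succ_le h), T_comp]
    · change T k (k + 1) _ (if h' : k + 1 ≤ n then T (k + 1) n h' s else
        Classical.choose (hsurj k (w k))) = w k
      rw [dif_neg h]
      exact Classical.choose_spec (hsurj k (w k))
  refine ⟨w, compat_of_succ M T T_comp T_id w hw2, ?_⟩
  rw [hw1 n le_rfl, T_id]

variable (I : Ideal A)
  (hker : ∀ (K : ℕ) (x : M (K + 1)), T K (K + 1) (Nat.le_succ K) x = 0 →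
    x ∈ I ^ (K + 1) • (⊤ : Submodule A (M (K + 1))))
  (hkill : ∀ (l : ℕ) (a : A), a ∈ I ^ (l + 1) → ∀ m : M l, a • m = 0)

include hkill in
theorem T_eq_zero_of_mem {l K : ℕ} (h : l ≤ K) {e : ℕ} (he : l + 1 ≤ e) {x : M K}
    (hx : x ∈ I ^ e • (⊤ : Submodule A (M K))) : T l K h x = 0 := by
  refine Submodule.smul_induction_on hx ?_ ?_
  · intro r hr n _
    rw [map_smul]
    exact hkill l r (Ideal.pow_le_pow_right he hr) _
  · intro x y hx hy
    rw [map_add, hx, hy, add_zero]

include T_comp T_id hsurj hker hkill in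
/-- The key algebraic statement: a compatible sequence vanishing at level `n` is an
`I^(n+1)`-combination of compatible sequences (for `I^(n+1)` generated by the finite family `b`). -/
theorem exists_decomposition (n : ℕ) {ι : Type*} [Fintype ι] (b : ι → A)
    (hb : Ideal.span (Set.range b) = I ^ (n + 1))
    (y : ∀ k, M k) (hy : ∀ (l K : ℕ) (h : l ≤ K), T l K h (y K) = y l) (hyn : y n = 0) :
    ∃ z : ι → ∀ k, M k, (∀ j (l K : ℕ) (h : l ≤ K), T l K h (z j K) = z j l) ∧
      ∀ k, y k = ∑ j, b j • z j k := by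
  -- decomposition of `I^(n+1+i) • ⊤`
  have hdec : ∀ (i K : ℕ) (x : M K), x ∈ I ^ (n + 1 + i) • (⊤ : Submodule A (M K)) →
      ∃ w : ι → M K, (∀ j, w j ∈ I ^ i • (⊤ : Submodule A (M K))) ∧ x = ∑ j, b j • w j := by
    intro i K x hx
    rw [pow_add, Submodule.mul_smul, ← hb] at hx
    exact exists_sum_of_mem_span_smul b _ hx
  -- the recursive construction
  have hstart : ∃ μ : ι → M (n + 1 + 0), y (n + 1 + 0) = ∑ j, b j • μ j := by
    have h0 : T n (n + 1) (Nat.le_succ n) (y (n + 1)) = 0 := by rw [hy, hyn]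
    obtain ⟨w, -, hw⟩ := hdec 0 (n + 1) (y (n + 1)) (hker n _ h0)
    exact ⟨w, hw⟩
  have hstep : ∀ (i : ℕ) (μ : ι → M (n + 1 + i)), y (n + 1 + i) = ∑ j, b j • μ j →
      ∃ μ' : ι → M (n + 1 + i + 1), y (n + 1 + i + 1) = ∑ j, b j • μ' j ∧
        ∀ j, T (n + 1 + i) (n + 1 + i + 1) (Nat.le_succ _) (μ' j) - μ j ∈
          I ^ (i + 1) • (⊤ : Submodule A (M (n + 1 + i))) := by
    intro i μ hμ
    choose μt hμt using fun j => hsurj (n + 1 + i) (μ j)
    have hd : T (n + 1 + i) (n + 1 + i + 1) (Nat.le_succ _)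
        (y (n + 1 + i + 1) - ∑ j, b j • μt j) = 0 := by
      rw [map_sub, hy, map_sum, hμ, sub_eq_zero]
      refine Finset.sum_congr rfl (fun j _ => ?_)
      rw [map_smul, hμt]
    obtain ⟨w, hw, hw'⟩ := hdec (i + 1) (n + 1 + i + 1) _
      (by
        have := hker (n + 1 + i) _ hd
        have e : n + 1 + (i + 1) = n + 1 + i + 1 := rfl
        rw [e]
        exact this)
    refine ⟨fun j => μt j + w j, ?_, fun j => ?_⟩
    · rw [sub_eq_iff_eq_add] at hw'
      rw [hw']
      simp only [smul_add, Finset.sum_add_distrib]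
      exact add_comm _ _
    · rw [map_add, hμt, add_sub_cancel_left]
      have := Submodule.mem_map_of_mem (f := T (n + 1 + i) (n + 1 + i + 1) (Nat.le_succ _)) (hw j)
      rw [Submodule.map_smul''] at this
      exact Submodule.smul_mono le_rfl le_top this
  let μ : ∀ i, {μ : ι → M (n + 1 + i) // y (n + 1 + i) = ∑ j, b j • μ j} := fun i =>
    Nat.rec (motive := fun i => {μ : ι → M (n + 1 + i) // y (n + 1 + i) = ∑ j, b j • μ j})
      ⟨Classical.choose hstart, Classical.choose_spec hstart⟩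
      (fun i μi => ⟨Classical.choose (hstep i μi.1 μi.2),
        (Classical.choose_spec (hstep i μi.1 μi.2)).1⟩) i
  have hμ2 : ∀ i j, T (n + 1 + i) (n + 1 + i + 1) (Nat.le_succ _) ((μ (i + 1)).1 j) - (μ i).1 j ∈
      I ^ (i + 1) • (⊤ : Submodule A (M (n + 1 + i))) := fun i j =>
    (Classical.choose_spec (hstep i (μ i).1 (μ i).2)).2 j
  let z : ι → ∀ k, M k := fun j l => T l (n + 1 + l) (Nat.le_add_left l (n + 1)) ((μ l).1 j)
  have hz : ∀ j k, T k (k + 1) (Nat.le_succ k) (z j (k + 1)) = z j k := by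
    intro j k
    change T k (k + 1) _ (T (k + 1) (n + 1 + (k + 1)) _ ((μ (k + 1)).1 j)) =
      T k (n + 1 + k) _ ((μ k).1 j)
    rw [T_comp]
    have e1 := T_comp k (n + 1 + k) (n + 1 + k + 1) (Nat.le_add_left k (n + 1)) (Nat.le_succ _)
      ((μ (k + 1)).1 j)
    have e2 : T k (n + 1 + k + 1) ((Nat.le_add_left k (n + 1)).trans (Nat.le_succ _))
        ((μ (k + 1)).1 j) = T k (n + 1 + (k + 1)) ((Nat.le_succ k).trans
          (Nat.le_add_left (k + 1) (n + 1))) ((μ (k + 1)).1 j) := rfl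
    rw [← e2, ← e1, ← sub_eq_zero, ← map_sub]
    exact T_eq_zero_of_mem M T I hkill _ le_rfl (hμ2 k j)
  refine ⟨z, fun j => compat_of_succ M T T_comp T_id (z j) (hz j), fun k => ?_⟩
  have h1 := (μ k).2
  have h2 := hy k (n + 1 + k) (Nat.le_add_left k (n + 1))
  rw [← h2, h1, map_sum]
  refine Finset.sum_congr rfl (fun j _ => ?_)
  rw [map_smul]

end Alg

section Sheaf
open CategoryTheory CategoryTheory.Limits AlgebraicGeometry Opposite

variable {A : Type u} [CommRing A] {X : Scheme.{u}} [X.Over (Spec (CommRingCat.of A))]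

/-- The ring map `A → Γ(X, U)`. -/
noncomputable def ρ (U : X.Opens) : A →+* Γ(X, U) where
  toFun a := (show Γ(X, U) from Coh.resTop X (op U) (Coh.toGlobal (X ↘ Spec (CommRingCat.of A)) a))
  map_one' := by
    change Coh.resTop X (op U) (Coh.toGlobal (X ↘ Spec (CommRingCat.of A)) 1) = 1
    rw [map_one, map_one]
  map_mul' a b := by
    change Coh.resTop X (op U) (Coh.toGlobal (X ↘ Spec (CommRingCat.of A)) (a * b)) =
      Coh.resTop X (op U) (Coh.toGlobal (X ↘ Spec (CommRingCat.of A)) a) *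
        Coh.resTop X (op U) (Coh.toGlobal (X ↘ Spec (CommRingCat.of A)) b)
    rw [map_mul, map_mul]
  map_zero' := by
    change Coh.resTop X (op U) (Coh.toGlobal (X ↘ Spec (CommRingCat.of A)) 0) = 0
    rw [map_zero, map_zero]
  map_add' a b := by
    change Coh.resTop X (op U) (Coh.toGlobal (X ↘ Spec (CommRingCat.of A)) (a + b)) =
      Coh.resTop X (op U) (Coh.toGlobal (X ↘ Spec (CommRingCat.of A)) a) +
        Coh.resTop X (op U) (Coh.toGlobal (X ↘ Spec (CommRingCat.of A)) b)
    rw [map_add, map_add]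

theorem smulMod_app (M : X.Modules) (a : A) (U : X.Opens) (m : Γ(M, U)) :
    (Formal.smulMod A M a).app U m = ρ U a • m := rfl

/-- The `A`-module structure on sections. -/
@[reducible] noncomputable def secMod (M : X.Modules) (U : X.Opens) : Module A Γ(M, U) :=
  Module.compHom _ (ρ (A := A) U)

theorem secMod_smul (M : X.Modules) (U : X.Opens) (a : A) (m : Γ(M, U)) :
    (letI := secMod (A := A) M U; a • m) = ρ U a • m := rfl

theorem smulMod_comp_eq_zero_of_span {M N : X.Modules} (g : M ⟶ N) {ι : Type*} (c : ι → A)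
    (h : ∀ j, Formal.smulMod A M (c j) ≫ g = 0) {a : A} (ha : a ∈ Ideal.span (Set.range c)) :
    Formal.smulMod A M a ≫ g = 0 := by
  ext U m
  change g.app U ((Formal.smulMod A M a).app U m) = 0
  rw [smulMod_app]
  induction ha using Submodule.span_induction generalizing m with
  | mem x hx =>
    obtain ⟨j, rfl⟩ := hx
    exact congrArg (fun φ : M ⟶ N => φ.app U m) (h j)
  | zero => rw [map_zero, zero_smul, map_zero]
  | add x y _ _ hx hy => rw [map_add, add_smul, map_add, hx, hy, add_zero]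
  | smul r x _ hx =>
    rw [smul_eq_mul, map_mul, mul_comm, mul_smul]
    exact hx _

/-- Application to sections, as an additive map in the morphism. -/
noncomputable def appHom (M N : X.Modules) (U : X.Opens) : (M ⟶ N) →+ (Γ(M, U) →+ Γ(N, U)) where
  toFun φ := (φ.app U).hom
  map_zero' := rfl
  map_add' _ _ := rfl

theorem sum_app {M N : X.Modules} {ι : Type*} (s : Finset ι) (φ : ι → (M ⟶ N)) (U : X.Opens)
    (m : Γ(M, U)) : (∑ j ∈ s, φ j).app U m = ∑ j ∈ s, (φ j).app U m := by
  have := map_sum (appHom M N U) φ s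
  have h2 := DFunLike.congr_fun this m
  rw [AddMonoidHom.finsetSum_apply] at h2
  exact h2

theorem ker_le {M N : X.Modules} [M.IsQuasicoherent] [N.IsQuasicoherent] (t : M ⟶ N) (J : Ideal A)
    {ι : Type u} [Fintype ι] (c : ι → A) (hc : Ideal.span (Set.range c) = J)
    (h : Formal.smulFamily J M ≫ t = 0) (hcol : IsColimit (CokernelCofork.ofπ t h))
    {U : X.Opens} (hU : IsAffineOpen U) (m : Γ(M, U)) (hm : t.app U m = 0) :
    ∃ w : ι → Γ(M, U), m = ∑ j, ρ U (c j) • w j := by
  classical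
  haveI : HasFiniteBiproducts X.Modules := Abelian.hasFiniteBiproducts
  let ψ : (⨁ fun _ : ι => M) ⟶ M := biproduct.desc (fun j => Formal.smulMod A M (c j))
  have hcj : ∀ j, c j ∈ J := fun j => hc ▸ Ideal.subset_span ⟨j, rfl⟩
  have hψt : ψ ≫ t = 0 := by
    apply biproduct.hom_ext'
    intro j
    rw [← Category.assoc, biproduct.ι_desc, comp_zero]
    exact (Groth.Agent.S0832.smulFamily_comp_eq_zero_iff J t).1 h _ (hcj j)
  haveI : Epi t := epi_of_isColimit_cofork hcol
  have hcol' : IsColimit (CokernelCofork.ofπ t hψt) := by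
    refine CokernelCofork.IsColimit.ofπ' _ _ (fun {Z} g hg => ?_)
    have hg' : Formal.smulFamily J M ≫ g = 0 := by
      rw [Groth.Agent.S0832.smulFamily_comp_eq_zero_iff]
      intro a ha
      refine smulMod_comp_eq_zero_of_span g c (fun j => ?_) (hc ▸ ha)
      rw [← biproduct.ι_desc (fun j => Formal.smulMod A M (c j)) j, Category.assoc, hg, comp_zero]
    exact CokernelCofork.IsColimit.desc' hcol g hg'
  let S : ShortComplex X.Modules := ShortComplex.mk ψ t hψt
  have hS : S.Exact := ShortComplex.exact_of_g_is_cokernel S hcol'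
  let ψ' : (⨁ fun _ : ι => M) ⟶ kernel t := kernel.lift t ψ hψt
  haveI : Epi ψ' := (ShortComplex.exact_iff_epi_kernel_lift S).1 hS
  haveI : (kernel t).IsQuasicoherent := Groth.Agent.H22.QCohLimits.isQuasicoherent_kernel t
  haveI : (⨁ fun _ : ι => M).IsQuasicoherent :=
    Groth.Agent.H95.QCohColim.isQuasicoherent_of_isColimit _ (biproduct.isColimit _)
      (fun _ => (inferInstance : M.IsQuasicoherent))
  let S' : ShortComplex X.Modules := ShortComplex.mk (kernel.ι ψ') ψ' (kernel.condition ψ')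
  have hS' : S'.ShortExact :=
    { exact := ShortComplex.exact_of_f_is_kernel S' (kernelIsKernel ψ')
      mono_f := inferInstanceAs (Mono (kernel.ι ψ'))
      epi_g := inferInstanceAs (Epi ψ') }
  haveI : S'.X₁.IsQuasicoherent := Groth.Agent.H22.QCohLimits.isQuasicoherent_kernel ψ'
  have hsurj := Groth.Agent.H22.QCohH1.app_surjective S' hS' hU
  let S'' : ShortComplex X.Modules := ShortComplex.mk (kernel.ι t) t (kernel.condition t)
  have hS'' : S''.Exact := ShortComplex.exact_of_f_is_kernel S'' (kernelIsKernel t)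
  haveI : Mono S''.f := inferInstanceAs (Mono (kernel.ι t))
  obtain ⟨m', hm'⟩ := Groth.Agent.H8.exists_app_eq_of_exact S'' hS'' U m hm
  obtain ⟨z, hz⟩ := hsurj m'
  refine ⟨fun j => (biproduct.π (fun _ : ι => M) j).app U z, ?_⟩
  have h1 : ψ.app U z = m := by
    have e : ψ' ≫ kernel.ι t = ψ := kernel.lift_ι _ _ _
    rw [← e]
    change (kernel.ι t).app U (ψ'.app U z) = m
    rw [show ψ'.app U z = m' from hz]
    exact hm'
  rw [← h1]
  have h2 : z = ∑ j, (biproduct.ι (fun _ : ι => M) j).app U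
      ((biproduct.π (fun _ : ι => M) j).app U z) := by
    have htot : ∑ j, biproduct.π (fun _ : ι => M) j ≫ biproduct.ι (fun _ : ι => M) j =
        𝟙 (⨁ fun _ : ι => M) := by
      apply biproduct.hom_ext
      intro k
      rw [Preadditive.sum_comp, Category.id_comp]
      simp only [Category.assoc, biproduct.ι_π, comp_dite, comp_zero]
      simp
    have := congrArg (fun φ : (⨁ fun _ : ι => M) ⟶ (⨁ fun _ : ι => M) => φ.app U z) htot
    simp only [sum_app] at this
    exact this.symm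
  conv_lhs => rw [h2]
  rw [map_sum]
  refine Finset.sum_congr rfl (fun j _ => ?_)
  change (biproduct.ι _ j ≫ ψ).app U _ = _
  rw [biproduct.ι_desc]
  rfl

/-- The sections functor to types. -/
noncomputable abbrev secF (U : X.Opens) : X.Modules ⥤ Type u :=
  (Scheme.Modules.toPresheaf X ⋙ (evaluation _ _).obj (op U)) ⋙ forget Ab

theorem preservesLimitsOfShape_secF (U : X.Opens) :
    PreservesLimitsOfShape ℕᵒᵖ (secF (X := X) U) := by
  haveI : PreservesLimitsOfSize.{0, 0} (Scheme.Modules.toPresheaf X) :=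
    preservesSmallestLimits_of_preservesLimits _
  haveI h1 : PreservesLimitsOfShape ℕᵒᵖ (Scheme.Modules.toPresheaf X) := inferInstance
  haveI h2 : PreservesLimitsOfShape ℕᵒᵖ ((evaluation X.Opensᵒᵖ Ab.{u}).obj (op U)) := inferInstance
  haveI h3 : PreservesLimitsOfShape ℕᵒᵖ (forget Ab.{u}) := inferInstance
  haveI h4 : PreservesLimitsOfShape ℕᵒᵖ
    (Scheme.Modules.toPresheaf X ⋙ (evaluation X.Opensᵒᵖ Ab.{u}).obj (op U)) :=
    comp_preservesLimitsOfShape _ _
  exact comp_preservesLimitsOfShape _ _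

theorem exists_section_limit (G : ℕᵒᵖ ⥤ X.Modules) (U : X.Opens)
    (z : ∀ k : ℕ, Γ(G.obj (op k), U))
    (hz : ∀ (l K : ℕ) (h : l ≤ K), (G.map (homOfLE h).op).app U (z K) = z l) :
    ∃ x : Γ(limit G, U), ∀ k, (limit.π G (op k)).app U x = z k := by
  haveI := preservesLimitsOfShape_secF (X := X) U
  have hl := isLimitOfPreserves (secF U) (limit.isLimit G)
  let s : (G ⋙ secF U).sections := ⟨fun k => z k.unop, by
    intro j j' f
    have := hz j'.unop j.unop (leOfHom f.unop)
    exact this⟩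
  refine ⟨(Types.isLimitEquivSections hl).symm s, fun k => ?_⟩
  exact Types.isLimitEquivSections_symm_apply hl s (op k)

theorem section_limit_ext (G : ℕᵒᵖ ⥤ X.Modules) (U : X.Opens) (x y : Γ(limit G, U))
    (h : ∀ k, (limit.π G (op k)).app U x = (limit.π G (op k)).app U y) : x = y := by
  haveI := preservesLimitsOfShape_secF (X := X) U
  have hl := isLimitOfPreserves (secF U) (limit.isLimit G)
  apply (Types.isLimitEquivSections hl).injective
  apply Subtype.ext
  funext k
  exact h k.unop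

end Sheaf

section Main
open CategoryTheory CategoryTheory.Limits AlgebraicGeometry Opposite

variable {A : Type u} [CommRing A] {X : Scheme.{u}} [X.Over (Spec (CommRingCat.of A))]

/-- A morphism of modules is an epimorphism as soon as it is locally surjective. -/
theorem epi_of_locally_surjective {P : Scheme.{u}} {F G : P.Modules} (φ : F ⟶ G)
    (h : ∀ (W : P.Opens) (t : Γ(G, W)) (x : P), x ∈ W → ∃ (W' : P.Opens) (hW' : W' ≤ W),
      x ∈ W' ∧ ∃ s : Γ(F, W'), φ.app W' s = G.presheaf.map (homOfLE hW').op t) : Epi φ := by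
  have h1 : Epi ((SheafOfModules.toSheaf P.ringCatSheaf).map φ) := by
    refine (TopCat.Sheaf.isLocallySurjective_iff_epi (X := P.toTopCat) (C := AddCommGrpCat.{u})
      _).mp ?_
    rw [TopCat.Presheaf.isLocallySurjective_iff]
    intro W t x hx
    obtain ⟨W', hW', hxW', s, hs⟩ := h W t x hx
    exact ⟨W', hW', ⟨s, hs⟩, hxW'⟩
  exact (SheafOfModules.toSheaf _).epi_of_epi_map h1

/-- A complex of modules which is locally exact on sections is exact. -/
theorem exact_of_locally_exact {P : Scheme.{u}} (S : ShortComplex P.Modules)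
    (h : ∀ (W : P.Opens) (t : Γ(S.X₂, W)), S.g.app W t = 0 → ∀ x : P, x ∈ W →
      ∃ (W' : P.Opens) (hW' : W' ≤ W), x ∈ W' ∧ ∃ s : Γ(S.X₁, W'),
        S.f.app W' s = S.X₂.presheaf.map (homOfLE hW').op t) : S.Exact := by
  rw [ShortComplex.exact_iff_epi_kernel_lift]
  refine epi_of_locally_surjective _ fun W k x hx => ?_
  have hk : S.g.app W ((kernel.ι S.g).app W k) = 0 :=
    congrArg (fun φ : kernel S.g ⟶ S.X₃ => φ.app W k) (kernel.condition S.g)
  obtain ⟨W', hW', hxW', s, hs⟩ := h W _ hk x hx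
  refine ⟨W', hW', hxW', s, ?_⟩
  apply Groth.Agent.H8.app_injective_of_mono (kernel.ι S.g) W'
  have e : (kernel.ι S.g).app W' ((kernel.lift S.g S.f S.zero).app W' s) = S.f.app W' s :=
    congrArg (fun φ : S.X₁ ⟶ S.X₂ => φ.app W' s) (kernel.lift_ι S.g S.f S.zero)
  rw [e, hs, Groth.Agent.H22.QCohLimits.app_res]

theorem exists_affine_nbhd {W : X.Opens} {x : X} (hx : x ∈ W) :
    ∃ U : X.Opens, IsAffineOpen U ∧ x ∈ U ∧ U ≤ W := by
  obtain ⟨U, hU, hxU, hUW⟩ := TopologicalSpace.Opens.isBasis_iff_nbhd.mp X.isBasis_affineOpens hx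
  exact ⟨U, hU, hxU, hUW⟩

attribute [local instance] secMod

variable (A) in
/-- Transition maps on sections, as `A`-linear maps. -/
noncomputable def T (G : ℕᵒᵖ ⥤ X.Modules) (U : X.Opens) (l K : ℕ) (h : l ≤ K) :
    Γ(G.obj (op K), U) →ₗ[A] Γ(G.obj (op l), U) where
  toFun := (G.map (homOfLE h).op).app U
  map_add' := map_add _
  map_smul' _ _ := Scheme.Modules.Hom.app_smul _ _ _

theorem T_comp (G : ℕᵒᵖ ⥤ X.Modules) (U : X.Opens) (l K K' : ℕ) (h₁ : l ≤ K) (h₂ : K ≤ K')
    (x : Γ(G.obj (op K'), U)) :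
    T A G U l K h₁ (T A G U K K' h₂ x) = T A G U l K' (h₁.trans h₂) x :=
  congrArg (fun φ : G.obj (op K') ⟶ G.obj (op l) => φ.app U x)
    (Groth.Agent.S0832.map_comp_le G h₁ h₂)

theorem T_id (G : ℕᵒᵖ ⥤ X.Modules) (U : X.Opens) (l : ℕ) (x : Γ(G.obj (op l), U)) :
    T A G U l l le_rfl x = x := by
  change (G.map (homOfLE le_rfl).op).app U x = x
  have : (homOfLE (le_refl l)).op = 𝟙 (op l) := rfl
  rw [this, G.map_id]
  rfl

variable {I : Ideal A} {G : ℕᵒᵖ ⥤ X.Modules}

theorem epi_succ (hG : Formal2.IsQCohFormal I G) (k : ℕ) :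
    Epi (G.map (homOfLE (Nat.le_succ k)).op) := by
  obtain ⟨h, hi⟩ := hG.2.2 k
  exact Groth.Agent.S0827.epi_of_isIso_desc _ _ h hi

theorem T_surjective (hG : Formal2.IsQCohFormal I G) {U : X.Opens} (hU : IsAffineOpen U) (K : ℕ) :
    Function.Surjective (T A G U K (K + 1) (Nat.le_succ K)) :=
  Groth.Agent.S0827.surj_aux G hG.1 (epi_succ hG) U hU K

theorem T_kill (hG : Formal2.IsQCohFormal I G) (U : X.Opens) (l : ℕ) (a : A)
    (ha : a ∈ I ^ (l + 1)) (m : Γ(G.obj (op l), U)) : a • m = 0 := by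
  have h := hG.2.1 l a ha
  change (Formal.smulMod A (G.obj (op l)) a).app U m = 0
  rw [h]
  rfl

theorem T_ker (hI : I.FG) (hG : Formal2.IsQCohFormal I G) {U : X.Opens} (hU : IsAffineOpen U)
    (K : ℕ) (x : Γ(G.obj (op (K + 1)), U)) (hx : T A G U K (K + 1) (Nat.le_succ K) x = 0) :
    x ∈ I ^ (K + 1) • (⊤ : Submodule A Γ(G.obj (op (K + 1)), U)) := by
  obtain ⟨S, hS⟩ := hI.pow (n := K + 1)
  have hb : Ideal.span (Set.range (Subtype.val : ↥S → A)) = I ^ (K + 1) := by
    rw [Subtype.range_coe]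
    exact hS
  obtain ⟨h, hi⟩ := hG.2.2 K
  haveI := hi
  obtain ⟨hcol⟩ := Groth.Agent.S0835.isColimit_of_isIso_desc _ _ h
  haveI : (G.obj (op (K + 1))).IsQuasicoherent := hG.1 (K + 1)
  haveI : (G.obj (op K)).IsQuasicoherent := hG.1 K
  obtain ⟨w, hw⟩ := ker_le (G.map (homOfLE (Nat.le_succ K)).op) (I ^ (K + 1))
    (Subtype.val : ↥S → A) hb h hcol hU x hx
  rw [hw]
  refine Submodule.sum_mem _ (fun j _ => ?_)
  have hj : (j : A) ∈ I ^ (K + 1) := hb ▸ Ideal.subset_span ⟨j, rfl⟩
  exact Submodule.smul_mem_smul hj (Submodule.mem_top (x := w j))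

theorem epi_π (hG : Formal2.IsQCohFormal I G) (n : ℕ) : Epi (limit.π G (op n)) := by
  refine epi_of_locally_surjective _ (fun W t x hx => ?_)
  obtain ⟨U, hU, hxU, hUW⟩ := exists_affine_nbhd hx
  obtain ⟨z, hz, hzn⟩ := exists_compat_of_surjective (fun k => Γ(G.obj (op k), U)) (T A G U)
    (T_comp G U) (T_id G U) (T_surjective hG hU) n
    ((G.obj (op n)).presheaf.map (homOfLE hUW).op t)
  obtain ⟨ξ, hξ⟩ := exists_section_limit G U z hz
  exact ⟨U, hUW, hxU, ξ, (hξ n).trans hzn⟩

theorem exact_limit (hI : I.FG) (hG : Formal2.IsQCohFormal I G) (n : ℕ)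
    (h : Formal.smulFamily (I ^ (n + 1)) (limit G) ≫ limit.π G (op n) = 0) :
    (ShortComplex.mk _ _ h).Exact := by
  classical
  refine exact_of_locally_exact _ (fun W y hy x hx => ?_)
  obtain ⟨U, hU, hxU, hUW⟩ := exists_affine_nbhd hx
  obtain ⟨S, hS⟩ := hI.pow (n := n + 1)
  have hb : Ideal.span (Set.range (Subtype.val : ↥S → A)) = I ^ (n + 1) := by
    rw [Subtype.range_coe]
    exact hS
  have hbj : ∀ j : ↥S, (j : A) ∈ I ^ (n + 1) := fun j => hb ▸ Ideal.subset_span ⟨j, rfl⟩
  let y' : Γ(limit G, U) := (limit G).presheaf.map (homOfLE hUW).op y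
  let yk : ∀ k, Γ(G.obj (op k), U) := fun k => (limit.π G (op k)).app U y'
  have hyk : ∀ (l K : ℕ) (h : l ≤ K), T A G U l K h (yk K) = yk l := fun l K h =>
    congrArg (fun φ : limit G ⟶ G.obj (op l) => φ.app U y') (limit.w G (homOfLE h).op)
  have hyn : yk n = 0 := by
    change (limit.π G (op n)).app U ((limit G).presheaf.map (homOfLE hUW).op y) = 0
    rw [Groth.Agent.H22.QCohLimits.app_res]
    change (G.obj (op n)).presheaf.map (homOfLE hUW).op ((limit.π G (op n)).app W y) = 0
    rw [show (limit.π G (op n)).app W y = 0 from hy, map_zero]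
  obtain ⟨z, hz, hyz⟩ := exists_decomposition (fun k => Γ(G.obj (op k), U)) (T A G U)
    (T_comp G U) (T_id G U) (T_surjective hG hU) I (T_ker hI hG hU) (T_kill hG U) n
    (Subtype.val : ↥S → A) hb yk hyk hyn
  choose ξ hξ using fun j => exists_section_limit G U (z j) (hz j)
  refine ⟨U, hUW, hxU,
    ∑ j : ↥S, (Sigma.ι (fun _ : ↥(I ^ (n + 1)) => limit G) ⟨(j : A), hbj j⟩).app U (ξ j), ?_⟩
  change (Formal.smulFamily (I ^ (n + 1)) (limit G)).app U _ = y'
  apply section_limit_ext
  intro k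
  rw [map_sum, map_sum]
  change _ = yk k
  rw [hyz k]
  refine Finset.sum_congr rfl (fun j _ => ?_)
  have e1 : (Formal.smulFamily (I ^ (n + 1)) (limit G)).app U
      ((Sigma.ι (fun _ : ↥(I ^ (n + 1)) => limit G) ⟨j, hbj j⟩).app U (ξ j)) =
      ρ U (j : A) • ξ j :=
    congrArg (fun φ : limit G ⟶ limit G => φ.app U (ξ j))
      (Groth.Agent.S0832.ι_smulFamily (I ^ (n + 1)) (limit G) ⟨j, hbj j⟩)
  rw [e1, Scheme.Modules.Hom.app_smul, hξ j k]
  rfl

theorem main (hI : I.FG) (hG : Formal2.IsQCohFormal I G) (n : ℕ) :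
    ∃ h : Formal.smulFamily (I ^ (n + 1)) (limit G) ≫ limit.π G (op n) = 0,
      IsIso (cokernel.desc _ _ h) := by
  have h : Formal.smulFamily (I ^ (n + 1)) (limit G) ≫ limit.π G (op n) = 0 := by
    rw [Groth.Agent.S0832.smulFamily_comp_eq_zero_iff]
    intro a ha
    rw [Groth.Agent.S0832.smulMod_naturality, hG.2.1 n a ha, comp_zero]
  refine ⟨h, ?_⟩
  haveI : Epi (ShortComplex.mk _ _ h).g := epi_π hG n
  have hex := exact_limit hI hG n h
  exact Groth.Agent.S0835.isIso_desc_of_isColimit _ _ h hex.gIsCokernel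

end Main


open CategoryTheory CategoryTheory.Limits AlgebraicGeometry Opposite in
/-- Part (4), for the ideal sheaf generated by a finitely generated ideal I of a base ring A. Let X be a
scheme over Spec A and (G_n) an inverse system of quasi-coherent O_X-modules with G_n killed by
I^(n+1) and G_n = G_{n+1}/I^(n+1)G_{n+1} (indices shifted by one), and let F = lim G_n in the
category of O_X-modules. Then each projection F → G_n identifies G_n with F/I^(n+1)F. -/
theorem result (A : Type u) [CommRing A] (I : Ideal A) (hI : I.FG) (X : Scheme.{u})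
    [X.Over (Spec (CommRingCat.of A))] (G : ℕᵒᵖ ⥤ X.Modules) (hG : Formal2.IsQCohFormal I G) (n : ℕ) :
    ∃ h : Formal.smulFamily (I ^ (n + 1)) (limit G) ≫ limit.π G (op n) = 0,
      IsIso (cokernel.desc _ _ h) := by
  exact main hI hG n

end Groth.Agent.S0852
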