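import Groth.Statements.S4389
import Mathlib

set_option autoImplicit false
universe u
open EGA2

namespace Groth.Agent.S4389

theorem mem_of_mem_span_homogeneous' {R A : Type u} [CommRing R] [CommRing A] [Algebra R A]
    (𝒜 : ℕ → Submodule R A) [GradedAlgebra 𝒜]
    (E : Set A) (deg : A → ℕ) (hE : ∀ e ∈ E, e ∈ 𝒜 (deg e)) {m : ℕ} {x : A} (hx : x ∈ 𝒜 m)
    (hxE : x ∈ Ideal.span E) (T : AddSubmonoid A)
    (hT : ∀ e ∈ E, deg e ≤ m → ∀ c ∈ 𝒜 (m - deg e), c * e ∈ T) : x ∈ T := by
  classical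
  obtain ⟨l, rfl⟩ := (Finsupp.mem_span_iff_linearCombination A E x).mp hxE
  have hx' : GradedRing.proj 𝒜 m (Finsupp.linearCombination A Subtype.val l) =
      Finsupp.linearCombination A Subtype.val l := by
    rw [GradedRing.proj_apply]; exact DirectSum.decompose_of_mem_same 𝒜 hx
  rw [← hx', Finsupp.linearCombination_apply, Finsupp.sum, map_sum]
  refine T.sum_mem fun e _ => ?_
  have hd := hE e e.2
  rw [GradedRing.proj_apply, smul_eq_mul]
  by_cases hdm : deg e ≤ m
  · rw [DirectSum.coe_decompose_mul_of_right_mem_of_le 𝒜 hd hdm]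
    exact hT e e.2 hdm _ (SetLike.coe_mem _)
  · rw [DirectSum.coe_decompose_mul_of_right_mem_of_not_le 𝒜 hd hdm]
    exact T.zero_mem

theorem mem_of_mem_span_homogeneous {R A : Type u} [CommRing R] [CommRing A] [Algebra R A]
    (𝒜 : ℕ → Submodule R A) [GradedAlgebra 𝒜]
    (E : Set A) (hE : ∀ e ∈ E, ∃ d : ℕ, 0 < d ∧ e ∈ 𝒜 d) {m : ℕ} {x : A} (hx : x ∈ 𝒜 m)
    (hxE : x ∈ Ideal.span E) (T : AddSubmonoid A)
    (hT : ∀ e ∈ E, ∀ d, 0 < d → e ∈ 𝒜 d → d ≤ m → ∀ c ∈ 𝒜 (m - d), c * e ∈ T) : x ∈ T := by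
  choose! deg hdeg using hE
  exact mem_of_mem_span_homogeneous' 𝒜 E deg (fun e he => (hdeg e he).2) hx hxE T
    (fun e he hle c hc => hT e he (deg e) (hdeg e he).1 (hdeg e he).2 hle c hc)

theorem mem_irrelevant_of_mem_pos {R A : Type u} [CommRing R] [CommRing A] [Algebra R A]
    (𝒜 : ℕ → Submodule R A) [GradedAlgebra 𝒜] {d : ℕ} (hd0 : 0 < d) {e : A} (hd : e ∈ 𝒜 d) :
    e ∈ (HomogeneousIdeal.irrelevant 𝒜).toIdeal := by
  show GradedRing.proj 𝒜 0 e = 0
  rw [GradedRing.proj_apply, DirectSum.decompose_of_mem_ne 𝒜 hd hd0.ne']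

theorem eq_zero_of_mem_irrelevant_of_mem_zero {R A : Type u} [CommRing R] [CommRing A]
    [Algebra R A] (𝒜 : ℕ → Submodule R A) [GradedAlgebra 𝒜] {a : A} (ha : a ∈ 𝒜 0)
    (h : a ∈ (HomogeneousIdeal.irrelevant 𝒜).toIdeal) : a = 0 := by
  have h0 : GradedRing.proj 𝒜 0 a = 0 := h
  rwa [GradedRing.proj_apply, DirectSum.decompose_of_mem_same 𝒜 ha] at h0

/-- Let S be a ring graded in nonnegative degrees, S_0 its degree-zero subring, S_+ its irrelevant
ideal, and E a set of homogeneous elements of positive degree. Then E generates S_+ as an ideal of S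
if and only if E generates S as an S_0-algebra. -/
theorem result {R A : Type u} [CommRing R] [CommRing A] [Algebra R A] (𝒜 : ℕ → Submodule R A) [GradedAlgebra 𝒜]
    (E : Set A) (hE : ∀ e ∈ E, ∃ d : ℕ, 0 < d ∧ e ∈ 𝒜 d) :
    (HomogeneousIdeal.irrelevant 𝒜).toIdeal = Ideal.span E ↔ Algebra.adjoin (𝒜 0) E = ⊤ := by
  classical
  constructor
  · intro h
    have hdeg : ∀ m : ℕ, ∀ x ∈ 𝒜 m, x ∈ Algebra.adjoin (𝒜 0) E := by
      intro m
      induction m using Nat.strong_induction_on with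
      | _ m ih =>
        intro x hx
        rcases Nat.eq_zero_or_pos m with rfl | hm
        · exact (Algebra.adjoin (𝒜 0) E).algebraMap_mem ⟨x, hx⟩
        · have hxirr : x ∈ (HomogeneousIdeal.irrelevant 𝒜).toIdeal :=
            mem_irrelevant_of_mem_pos 𝒜 hm hx
          rw [h] at hxirr
          refine mem_of_mem_span_homogeneous 𝒜 E hE hx hxirr
            (Algebra.adjoin (𝒜 0) E).toSubsemiring.toAddSubmonoid ?_
          intro e he d hd0 hd hdm c hc
          exact (Algebra.adjoin (𝒜 0) E).mul_mem (ih (m - d) (by omega) c hc)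
            (Algebra.subset_adjoin he)
    rw [eq_top_iff]
    intro x _
    rw [← DirectSum.sum_support_decompose 𝒜 x]
    exact (Algebra.adjoin (𝒜 0) E).sum_mem fun i _ => hdeg i _ (SetLike.coe_mem _)
  · intro h
    have hle : Ideal.span E ≤ (HomogeneousIdeal.irrelevant 𝒜).toIdeal := by
      rw [Ideal.span_le]
      intro e he
      obtain ⟨d, hd0, hd⟩ := hE e he
      exact mem_irrelevant_of_mem_pos 𝒜 hd0 hd
    apply le_antisymm _ hle
    intro x hx
    have hclaim : ∀ y ∈ Algebra.adjoin (𝒜 0) E, ∃ a ∈ 𝒜 0, y - a ∈ Ideal.span E := by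
      intro y hy
      induction hy using Algebra.adjoin_induction with
      | mem y hy => exact ⟨0, zero_mem _, by simpa using Ideal.subset_span hy⟩
      | algebraMap r => exact ⟨r, r.2, by simp⟩
      | add y z _ _ hy hz =>
        obtain ⟨a, ha, hya⟩ := hy
        obtain ⟨b, hb, hzb⟩ := hz
        refine ⟨a + b, add_mem ha hb, ?_⟩
        have : y + z - (a + b) = (y - a) + (z - b) := by ring
        rw [this]
        exact add_mem hya hzb
      | mul y z _ _ hy hz =>
        obtain ⟨a, ha, hya⟩ := hy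
        obtain ⟨b, hb, hzb⟩ := hz
        refine ⟨a * b, ?_, ?_⟩
        · have := SetLike.mul_mem_graded ha hb
          rwa [zero_add] at this
        · have : y * z - a * b = (y - a) * z + a * (z - b) := by ring
          rw [this]
          exact add_mem (Ideal.mul_mem_right _ _ hya) (Ideal.mul_mem_left _ _ hzb)
    obtain ⟨a, ha, hxa⟩ := hclaim x (by rw [h]; trivial)
    have ha0 : a = 0 := by
      apply eq_zero_of_mem_irrelevant_of_mem_zero 𝒜 ha
      have := sub_mem hx (hle hxa)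
      simpa using this
    rw [ha0, sub_zero] at hxa
    exact hxa

end Groth.Agent.S4389
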