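import Groth.Statements.S4394
import Mathlib
import Groth.Agent.S4389

set_option autoImplicit false
universe u
open EGA2

namespace Groth.Agent.S4394

/-- Let S be a ring graded in nonnegative degrees which is an S_0-algebra of finite type. Then for every
integer n > 0 there is m₀ such that S_m ⊆ (S_+)^n for all m ≥ m₀. -/
theorem result {R A : Type u} [CommRing R] [CommRing A] [Algebra R A] (𝒜 : ℕ → Submodule R A) [GradedAlgebra 𝒜] [Algebra.FiniteType (𝒜 0) A]
    (n : ℕ) (hn : 0 < n) :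
    ∃ m₀ : ℕ, ∀ m : ℕ, m₀ ≤ m → (𝒜 m : Set A) ⊆ ((HomogeneousIdeal.irrelevant 𝒜).toIdeal ^ n : Ideal A) := by
  classical
  obtain ⟨s, hs1, hs2⟩ := GradedAlgebra.exists_finset_adjoin_eq_top_and_homogeneous_ne_zero 𝒜
  have hE : ∀ e ∈ (s : Set A), ∃ d : ℕ, 0 < d ∧ e ∈ 𝒜 d := by
    intro e he
    obtain ⟨n, hn, hen⟩ := hs2 e (Finset.mem_coe.mp he)
    exact ⟨n, Nat.pos_of_ne_zero hn, hen⟩
  have hspan := (Groth.Agent.S4389.result 𝒜 (s : Set A) hE).mpr hs1
  choose! deg hdeg using hE
  let D : ℕ := s.sup deg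
  have key : ∀ k : ℕ, ∀ m : ℕ, k * D + 1 ≤ m →
      (𝒜 m : Set A) ⊆ ((HomogeneousIdeal.irrelevant 𝒜).toIdeal ^ k : Ideal A) := by
    intro k
    induction k with
    | zero =>
      intro m _ x _
      rw [pow_zero, Ideal.one_eq_top]
      trivial
    | succ k ih =>
      intro m hm x hx
      have hm0 : 0 < m := by omega
      have hxirr : x ∈ (HomogeneousIdeal.irrelevant 𝒜).toIdeal :=
        Groth.Agent.S4389.mem_irrelevant_of_mem_pos 𝒜 hm0 hx
      rw [hspan] at hxirr
      refine Groth.Agent.S4389.mem_of_mem_span_homogeneous' 𝒜 (s : Set A) deg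
        (fun e he => (hdeg e he).2) hx hxirr
        ((HomogeneousIdeal.irrelevant 𝒜).toIdeal ^ (k + 1)).toAddSubmonoid ?_
      intro e he hle c hc
      have hD : deg e ≤ D := Finset.le_sup (f := deg) (Finset.mem_coe.mp he)
      have hcm : c ∈ ((HomogeneousIdeal.irrelevant 𝒜).toIdeal ^ k : Ideal A) := by
        refine ih (m - deg e) ?_ hc
        have h1 : (k + 1) * D = k * D + D := Nat.succ_mul k D
        generalize k * D = t at *
        omega
      have hee : e ∈ (HomogeneousIdeal.irrelevant 𝒜).toIdeal :=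
        Groth.Agent.S4389.mem_irrelevant_of_mem_pos 𝒜 (hdeg e he).1 (hdeg e he).2
      show c * e ∈ ((HomogeneousIdeal.irrelevant 𝒜).toIdeal ^ (k + 1) : Ideal A)
      rw [pow_succ]
      exact Ideal.mul_mem_mul hcm hee
  exact ⟨n * D + 1, fun m hm => key n m hm⟩

end Groth.Agent.S4394
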