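import Groth.Statements.S1974
import Groth.Agent.H10.WEtField

set_option autoImplicit false
universe u
open EtAlg

namespace Groth.Agent.S1974

/-- Let A -> B be weakly etale and q a prime of B lying over the prime p of A. Then the residue field of
q is a separable algebraic extension of the residue field of p. -/
theorem result (A B : Type u) [CommRing A] [CommRing B] [Algebra A B]
    [Algebra.WeaklyEtale A B] (p : Ideal A) [p.IsPrime] (q : Ideal B) [q.IsPrime] [q.LiesOver p]
    [Algebra (Localization.AtPrime p) (Localization.AtPrime q)] [Localization.AtPrime.IsLiesOverAlgebra p q] :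
    Algebra.IsSeparable p.ResidueField q.ResidueField := by
  let k := p.ResidueField
  let l := q.ResidueField
  let F := TensorProduct A k B
  have hF : Algebra.WeaklyEtale k F := inferInstance
  let ψ : F →ₐ[k] l :=
    Algebra.TensorProduct.productLeftAlgHom (Algebra.ofId k l) (IsScalarTower.toAlgHom A B l)
  have hB : ∀ b : B, IsSeparable k (algebraMap B l b) := by
    intro b
    have h := Groth.Agent.H10.WEtField.isSeparable_map ψ
      (Groth.Agent.H10.WEtField.isSeparable_of_weaklyEtale (K := k)
        (TensorProduct.tmul A (1 : k) b : F))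
    have e1 : ψ (TensorProduct.tmul A (1 : k) b) = algebraMap B l b := by
      show Algebra.TensorProduct.lift (Algebra.ofId k l) (IsScalarTower.toAlgHom A B l)
        (fun _ _ => Commute.all _ _) (TensorProduct.tmul A (1 : k) b) = algebraMap B l b
      rw [Algebra.TensorProduct.lift_tmul, map_one, one_mul]
      rfl
    rwa [e1] at h
  refine ⟨fun z => ?_⟩
  rw [← mem_separableClosure_iff]
  obtain ⟨x, y, hy, rfl⟩ := IsFractionRing.div_surjective (A := B ⧸ q) z
  obtain ⟨b, rfl⟩ := Ideal.Quotient.mk_surjective x
  obtain ⟨s, rfl⟩ := Ideal.Quotient.mk_surjective y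
  apply div_mem
  · rw [mem_separableClosure_iff, ← Ideal.Quotient.algebraMap_eq,
      ← IsScalarTower.algebraMap_apply]
    exact hB b
  · rw [mem_separableClosure_iff, ← Ideal.Quotient.algebraMap_eq,
      ← IsScalarTower.algebraMap_apply]
    exact hB s

end Groth.Agent.S1974
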