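import Groth.Statements.S7127
import Groth.Agent.S7126
import Mathlib

set_option autoImplicit false
universe u
open EtAlg

namespace Groth.Agent.S7127

open TensorProduct

/-- If `R → R'` is surjective and an `R'`-module `M` is flat over `R`, then it is flat over `R'`. -/
theorem flat_of_surjective {R R' M : Type*} [CommRing R] [CommRing R'] [AddCommGroup M]
    [Module R M] [Module R' M] (q : R →+* R') (hq : Function.Surjective q)
    (hsmul : ∀ (r : R) (m : M), r • m = q r • m) [Module.Flat R M] : Module.Flat R' M := by
  rw [Module.Flat.iff_forall_isTrivialRelation]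
  intro l f' x hrel
  choose f hf using fun i => hq (f' i)
  have hrel' : ∑ i, f i • x i = 0 := by
    rw [← hrel]
    apply Finset.sum_congr rfl
    intro i _
    rw [hsmul, hf]
  obtain ⟨k, a, y, h1, h2⟩ := Module.Flat.isTrivialRelation_of_sum_smul_eq_zero hrel'
  refine ⟨k, fun i j => q (a i j), y, ?_, ?_⟩
  · intro i
    rw [h1 i]
    apply Finset.sum_congr rfl
    intro j _
    rw [hsmul]
  · intro j
    have := congrArg q (h2 j)
    rw [map_sum, map_zero] at this
    rw [← this]
    apply Finset.sum_congr rfl
    intro i _
    rw [map_mul, hf]

/-- If `R → R'` is surjective and `R → R' → S` is flat then `R' → S` is flat. -/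
theorem flat_of_comp_surjective {R R' S : Type*} [CommRing R] [CommRing R'] [CommRing S]
    (q : R →+* R') (g : R' →+* S) (hq : Function.Surjective q) (h : (g.comp q).Flat) :
    g.Flat := by
  unfold RingHom.Flat at h ⊢
  letI algR' : Algebra R' S := g.toAlgebra
  letI algR : Algebra R S := (g.comp q).toAlgebra
  have hsmul : ∀ (r : R) (s : S), r • s = q r • s := by
    intro r s
    rw [Algebra.smul_def, Algebra.smul_def, RingHom.algebraMap_toAlgebra,
      RingHom.algebraMap_toAlgebra, RingHom.comp_apply]
  exact flat_of_surjective q hq hsmul

/-- Let A be a ring and B → C an A-algebra homomorphism between weakly étale A-algebras. Then C is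
weakly étale over B. -/
theorem result (A B C : Type u) [CommRing A] [CommRing B] [CommRing C]
    [Algebra A B] [Algebra A C] [Algebra B C] [IsScalarTower A B C] [Algebra.WeaklyEtale A B]
    [Algebra.WeaklyEtale A C] : Algebra.WeaklyEtale B C := by
  have hflat : Module.Flat B C :=
    Groth.Agent.S7126.result A B (Algebra.WeaklyEtale.flat_lmul' A B) C
  refine ⟨hflat, ?_⟩
  have hA : (Algebra.TensorProduct.lmul' A (S := C)).Flat := Algebra.WeaklyEtale.flat_lmul' A C
  have hcomp : (Algebra.TensorProduct.lmul' B (S := C)).toRingHom.comp
      (Algebra.TensorProduct.mapOfCompatibleSMul B A A C C).toRingHom =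
      (Algebra.TensorProduct.lmul' A (S := C)).toRingHom := by
    apply RingHom.ext
    intro x
    induction x using TensorProduct.induction_on with
    | zero => simp
    | tmul c c' => simp
    | add x y hx hy => simp only [map_add, hx, hy]
  refine flat_of_comp_surjective
    (Algebra.TensorProduct.mapOfCompatibleSMul B A A C C).toRingHom
    (Algebra.TensorProduct.lmul' B (S := C)).toRingHom
    (Algebra.TensorProduct.mapOfCompatibleSMul_surjective B A A C C) ?_
  rw [hcomp]
  exact hA

end Groth.Agent.S7127
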