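import Groth.Statements.S0736
import Mathlib

set_option autoImplicit false
open CategoryTheory CategoryTheory.Limits AlgebraicGeometry Opposite Topology
universe u
open ProEtW

namespace Groth.Agent.S0736


open TensorProduct

theorem exists_eq_mul_of_flat_surjective {R S : Type u} [CommRing R] [CommRing S] (f : R →+* S)
    (hf : f.Flat) (hs : Function.Surjective f) {x : R} (hx : f x = 0) :
    ∃ y, f y = 0 ∧ x = x * y := by
  let e := RingHom.quotientKerEquivOfSurjective hs
  have h1 : (e.symm.toRingHom.comp f).Flat :=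
    RingHom.Flat.comp hf (RingHom.Flat.of_bijective e.symm.bijective)
  have h2 : e.symm.toRingHom.comp f = algebraMap R (R ⧸ RingHom.ker f) :=
    RingHom.quotientKerEquivOfSurjective_symm_comp hs
  rw [h2, RingHom.flat_algebraMap_iff] at h1
  haveI : (RingHom.ker f).Pure := h1
  obtain ⟨y, hy, hxy⟩ := Ideal.exists_eq_mul_of_pure (I := RingHom.ker f)
    (show x ∈ RingHom.ker f from hx)
  exact ⟨y, hy, hxy⟩

theorem flat_of_forall_exists_eq_mul {R S : Type u} [CommRing R] [CommRing S] (f : R →+* S)
    (hs : Function.Surjective f) (h : ∀ x, f x = 0 → ∃ y, f y = 0 ∧ x = x * y) : f.Flat := by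
  let e := RingHom.quotientKerEquivOfSurjective hs
  have hpure : (RingHom.ker f).Pure :=
    Ideal.Pure.of_inf_eq_mul _ (fun K _ => le_antisymm (by
      rintro x ⟨hxI, hxK⟩
      obtain ⟨y, hy, hxy⟩ := h x hxI
      have h3 : y * x ∈ RingHom.ker f * K := Ideal.mul_mem_mul hy hxK
      rwa [mul_comm y x, ← hxy] at h3) Ideal.mul_le_inf)
  have h1 : (algebraMap R (R ⧸ RingHom.ker f)).Flat := RingHom.flat_algebraMap_iff.2 hpure
  have h2 : f = e.toRingHom.comp (algebraMap R (R ⧸ RingHom.ker f)) := by
    ext r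
    exact (RingHom.quotientKerEquivOfSurjective_apply_mk hs r).symm
  rw [h2]
  exact RingHom.Flat.comp h1 (RingHom.Flat.of_bijective e.bijective)

theorem weaklyEtale_of_filtered {A B : Type u} [CommRing A] [CommRing B] [Algebra A B]
    {J : Type u} [SmallCategory J] [IsFiltered J]
    (R : J → Type u) [∀ j, CommRing (R j)] [∀ j, Algebra A (R j)]
    [∀ j, Algebra.WeaklyEtale A (R j)]
    (t : ∀ {j k : J}, (j ⟶ k) → (R j →ₐ[A] R k))
    (ψ : ∀ j, R j →ₐ[A] B)
    (hψt : ∀ {j k : J} (f : j ⟶ k) (y : R j), ψ k (t f y) = ψ j y)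
    (hsurj : ∀ b : B, ∃ j, ∃ y : R j, ψ j y = b)
    (hinj : ∀ (j : J) (y y' : R j), ψ j y = ψ j y' → ∃ (k : J) (f : j ⟶ k), t f y = t f y') :
    Algebra.WeaklyEtale A B := by
  classical
  have hfin : ∀ (l : ℕ) (x : Fin l → B), ∃ (j : J) (y : Fin l → R j),
      ∀ i, ψ j (y i) = x i := by
    intro l x
    choose jf yf hyf using fun i => hsurj (x i)
    obtain ⟨S, hS⟩ := IsFiltered.sup_objs_exists (Finset.univ.image jf)
    have hmor : ∀ i, Nonempty (jf i ⟶ S) := fun i =>
      hS (Finset.mem_image_of_mem jf (Finset.mem_univ i))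
    refine ⟨S, fun i => t (hmor i).some (yf i), fun i => ?_⟩
    rw [hψt, hyf]
  have hflat : Module.Flat A B := by
    rw [Module.Flat.iff_forall_isTrivialRelation]
    intro l f x hfx
    obtain ⟨j, y, hy⟩ := hfin l x
    have h0 : ψ j (∑ i, f i • y i) = ψ j 0 := by
      rw [map_sum, map_zero]
      simp only [map_smul, hy]
      exact hfx
    obtain ⟨k, g, hg⟩ := hinj j _ _ h0
    rw [map_sum, map_zero] at hg
    simp only [map_smul] at hg
    obtain ⟨κ, a, y', h1, h2⟩ := Module.Flat.isTrivialRelation_of_sum_smul_eq_zero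
      (R := A) (M := R k) (f := f) (x := fun i => t g (y i)) hg
    refine ⟨κ, a, fun m => ψ k (y' m), ?_, h2⟩
    intro i
    have h1' : t g (y i) = ∑ j, a i j • y' j := h1 i
    rw [← hy i, ← hψt g (y i), h1', map_sum]
    simp only [map_smul]
  refine ⟨hflat, ?_⟩
  have N1 : ∀ j (z : R j ⊗[A] R j),
      Algebra.TensorProduct.lmul' A (S := B) (Algebra.TensorProduct.map (ψ j) (ψ j) z) =
        ψ j (Algebra.TensorProduct.lmul' A (S := R j) z) := by
    intro j z
    induction z using TensorProduct.induction_on with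
    | zero => simp
    | tmul a b => simp
    | add a b ha hb => simp only [map_add, ha, hb]
  have N2 : ∀ {j k : J} (g : j ⟶ k) (z : R j ⊗[A] R j),
      Algebra.TensorProduct.lmul' A (S := R k) (Algebra.TensorProduct.map (t g) (t g) z) =
        t g (Algebra.TensorProduct.lmul' A (S := R j) z) := by
    intro j k g z
    induction z using TensorProduct.induction_on with
    | zero => simp
    | tmul a b => simp
    | add a b ha hb => simp only [map_add, ha, hb]
  have N3 : ∀ {j k : J} (g : j ⟶ k) (z : R j ⊗[A] R j),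
      Algebra.TensorProduct.map (ψ k) (ψ k) (Algebra.TensorProduct.map (t g) (t g) z) =
        Algebra.TensorProduct.map (ψ j) (ψ j) z := by
    intro j k g z
    induction z using TensorProduct.induction_on with
    | zero => simp
    | tmul a b => simp [hψt]
    | add a b ha hb => simp only [map_add, ha, hb]
  have G1 : ∀ z : B ⊗[A] B, ∃ (j : J) (w : R j ⊗[A] R j),
      Algebra.TensorProduct.map (ψ j) (ψ j) w = z := by
    intro z
    induction z using TensorProduct.induction_on with
    | zero => exact ⟨(IsFiltered.nonempty (C := J)).some, 0, map_zero _⟩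
    | tmul b b' =>
      obtain ⟨j₁, y₁, h₁⟩ := hsurj b
      obtain ⟨j₂, y₂, h₂⟩ := hsurj b'
      refine ⟨IsFiltered.max j₁ j₂,
        t (IsFiltered.leftToMax j₁ j₂) y₁ ⊗ₜ[A] t (IsFiltered.rightToMax j₁ j₂) y₂, ?_⟩
      rw [Algebra.TensorProduct.map_tmul, hψt, hψt, h₁, h₂]
    | add z z' hz hz' =>
      obtain ⟨j, w, hw⟩ := hz
      obtain ⟨j', w', hw'⟩ := hz'
      refine ⟨IsFiltered.max j j',
        Algebra.TensorProduct.map (t (IsFiltered.leftToMax j j')) (t (IsFiltered.leftToMax j j')) w +
        Algebra.TensorProduct.map (t (IsFiltered.rightToMax j j')) (t (IsFiltered.rightToMax j j')) w',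
        ?_⟩
      rw [map_add, N3, N3, hw, hw']
  have hsurjμ : ∀ (S : Type u) [CommRing S] [Algebra A S],
      Function.Surjective (Algebra.TensorProduct.lmul' A (S := S)).toRingHom := by
    intro S _ _ b
    exact ⟨b ⊗ₜ[A] 1, by simp⟩
  apply flat_of_forall_exists_eq_mul _ (hsurjμ B)
  intro z hz
  obtain ⟨j, w, rfl⟩ := G1 z
  have hz' : Algebra.TensorProduct.lmul' A (S := B) (Algebra.TensorProduct.map (ψ j) (ψ j) w) = 0 :=
    hz
  have h0 : ψ j (Algebra.TensorProduct.lmul' A (S := R j) w) = ψ j 0 := by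
    rw [← N1, map_zero]
    exact hz'
  obtain ⟨k, g, hg⟩ := hinj j _ _ h0
  rw [map_zero, ← N2] at hg
  obtain ⟨y, hy, hxy⟩ := exists_eq_mul_of_flat_surjective
    (Algebra.TensorProduct.lmul' A (S := R k)).toRingHom
    (Algebra.WeaklyEtale.flat_lmul' A (R k)) (hsurjμ (R k)) hg
  refine ⟨Algebra.TensorProduct.map (ψ k) (ψ k) y, ?_, ?_⟩
  · show Algebra.TensorProduct.lmul' A (S := B) (Algebra.TensorProduct.map (ψ k) (ψ k) y) = 0
    rw [N1]
    have hy' : Algebra.TensorProduct.lmul' A (S := R k) y = 0 := hy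
    rw [hy', map_zero]
  · rw [← N3 g w, ← map_mul, ← hxy]

/-- An ind-etale ring map A -> B is weakly etale (A -> B and B (x)_A B -> B flat), in Mathlib's sense
Algebra.WeaklyEtale. -/
theorem result (A B : Type u) [CommRing A] [CommRing B] [Algebra A B]
    (h : EtPBC.IsIndEtale A B) : Algebra.WeaklyEtale A B := by
  obtain ⟨J, iJ, iF, D, c, hc, hD, ⟨e⟩⟩ := h
  letI algR : ∀ j, Algebra A (D.obj j).right := fun j => (D.obj j).hom.hom.toAlgebra
  haveI hEt : ∀ j, Algebra.Etale A (D.obj j).right := hD
  haveI : ∀ j, Algebra.WeaklyEtale A (D.obj j).right := fun j => inferInstance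
  let t : ∀ {j k : J}, (j ⟶ k) → ((D.obj j).right →ₐ[A] (D.obj k).right) := fun {j k} g =>
    { (D.map g).right.hom with
      commutes' := fun a => congrArg (fun f => f.hom a) (Under.w (D.map g)) }
  let ψ : ∀ j, (D.obj j).right →ₐ[A] B := fun j =>
    { ((c.ι.app j) ≫ e.hom).right.hom with
      commutes' := fun a => congrArg (fun f => f.hom a) (Under.w ((c.ι.app j) ≫ e.hom)) }
  let F : Under (CommRingCat.of A) ⥤ Type u := Under.forget (CommRingCat.of A) ⋙ forget CommRingCat
  haveI : PreservesColimitsOfShape J (Under.forget (CommRingCat.of A)) :=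
    PreservesFilteredColimitsOfSize.preserves_filtered_colimits J
  haveI : PreservesColimitsOfShape J (forget CommRingCat.{u}) :=
    PreservesFilteredColimitsOfSize.preserves_filtered_colimits J
  have hc' : IsColimit (F.mapCocone c) := isColimitOfPreserves F hc
  refine weaklyEtale_of_filtered (fun j => (D.obj j).right) t ψ ?_ ?_ ?_
  · intro j k g y
    have h1 := congrArg (fun f => (f ≫ e.hom).right.hom y) (c.w g)
    exact h1
  · intro b
    obtain ⟨j, y, hy⟩ := Types.jointly_surjective_of_isColimit hc' (e.inv.right.hom b)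
    refine ⟨j, y, ?_⟩
    have h1 : (c.ι.app j).right.hom y = e.inv.right.hom b := hy
    show e.hom.right.hom ((c.ι.app j).right.hom y) = b
    rw [h1]
    exact congrArg (fun f => f.right.hom b) e.inv_hom_id
  · intro j y y' hyy'
    have h1 : e.hom.right.hom ((c.ι.app j).right.hom y) =
        e.hom.right.hom ((c.ι.app j).right.hom y') := hyy'
    have h2 : (c.ι.app j).right.hom y = (c.ι.app j).right.hom y' := by
      have h3 := congrArg (fun z => e.inv.right.hom z) h1
      have h4 : ∀ z, e.inv.right.hom (e.hom.right.hom z) = z := fun z =>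
        congrArg (fun f => f.right.hom z) e.hom_inv_id
      simpa only [h4] using h3
    have h5 : (F.mapCocone c).ι.app j y = (F.mapCocone c).ι.app j y' := h2
    obtain ⟨k, g, hg⟩ := (Types.FilteredColimit.isColimit_eq_iff' hc' y y').1 h5
    exact ⟨k, g, hg⟩

end Groth.Agent.S0736
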