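import Groth.Statements.S0675
import Mathlib

set_option autoImplicit false
open CategoryTheory CategoryTheory.Limits AlgebraicGeometry Opposite Topology
universe u
open ProEtW

namespace Groth.Agent.S0675


open TensorProduct Polynomial

/-- A two-member family of types, used to form binary products as `Pi` types. -/
def Fam (S T : Type u) : Bool → Type u := fun b => cond b S T

section FamInst

variable (A : Type u) [CommRing A] (S T : Type u) [CommRing S] [CommRing T]
  [Algebra A S] [Algebra A T]

instance famCommRing (b : Bool) : CommRing (Fam S T b) :=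
  match b with
  | true => inferInstanceAs (CommRing S)
  | false => inferInstanceAs (CommRing T)

instance famAlgebra (b : Bool) : Algebra A (Fam S T b) :=
  match b with
  | true => inferInstanceAs (Algebra A S)
  | false => inferInstanceAs (Algebra A T)

instance famEtale [Algebra.Etale A S] [Algebra.Etale A T] (b : Bool) :
    Algebra.Etale A (Fam S T b) :=
  match b with
  | true => inferInstanceAs (Algebra.Etale A S)
  | false => inferInstanceAs (Algebra.Etale A T)

end FamInst

/-- Key lemma: an étale `A`-algebra with a point over the maximal ideal `m` maps to `A_m`. -/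
theorem exists_algHom_localization (A : Type u) [CommRing A]
    (h : ProEtW.HasEtaleRetractions A) (m : Ideal A) [m.IsMaximal]
    (B : Type u) [CommRing B] [Algebra A B] [Algebra.Etale A B]
    (K : Type u) [Field K] [Algebra A K] (hK : RingHom.ker (algebraMap A K) = m)
    (φ₀ : B →ₐ[A] K) : Nonempty (B →ₐ[A] Localization.AtPrime m) := by
  have hm : (⟨m, inferInstance⟩ : PrimeSpectrum A) ∈
      Set.range (PrimeSpectrum.comap (algebraMap A B)) := by
    refine ⟨⟨RingHom.ker φ₀.toRingHom, RingHom.ker_isPrime _⟩, ?_⟩
    apply PrimeSpectrum.ext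
    show Ideal.comap (algebraMap A B) (RingHom.ker φ₀.toRingHom) = m
    rw [← hK]
    ext a
    rw [Ideal.mem_comap, RingHom.mem_ker, RingHom.mem_ker]
    show φ₀ (algebraMap A B a) = 0 ↔ _
    rw [φ₀.commutes]
  have hopen : IsOpen (Set.range (PrimeSpectrum.comap (algebraMap A B))) :=
    (PrimeSpectrum.isOpenMap_comap_of_hasGoingDown_of_finitePresentation
      (R := A) (S := B)).isOpen_range
  obtain ⟨J, hJ⟩ := (PrimeSpectrum.isClosed_iff_zeroLocus_ideal _).1 hopen.isClosed_compl
  have hJm : ¬ J ≤ m := by
    intro hle
    have hmem : (⟨m, inferInstance⟩ : PrimeSpectrum A) ∈ PrimeSpectrum.zeroLocus (J : Set A) :=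
      (PrimeSpectrum.mem_zeroLocus _ _).2 hle
    rw [← hJ] at hmem
    exact hmem hm
  obtain ⟨j, hjJ, hjm⟩ := SetLike.not_le_iff_exists.1 hJm
  obtain ⟨y, g, hgm, hyg⟩ := Ideal.IsMaximal.exists_inv ‹m.IsMaximal› hjm
  have hsurj : Function.Surjective
      (PrimeSpectrum.comap (algebraMap A (∀ b : Bool, Fam B (Localization.Away g) b))) := by
    intro p
    by_cases hgp : g ∈ p.asIdeal
    · have hp : p ∈ Set.range (PrimeSpectrum.comap (algebraMap A B)) := by
        by_contra hnot
        have hpJ : p ∈ PrimeSpectrum.zeroLocus (J : Set A) := by rw [← hJ]; exact hnot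
        have hjp : y * j ∈ p.asIdeal := p.asIdeal.mul_mem_left y (hpJ hjJ)
        have h1 : (1 : A) ∈ p.asIdeal := hyg ▸ p.asIdeal.add_mem hjp hgp
        exact p.isPrime.ne_top ((Ideal.eq_top_iff_one _).2 h1)
      obtain ⟨q, rfl⟩ := hp
      exact ⟨PrimeSpectrum.comap (Pi.evalRingHom (Fam B (Localization.Away g)) true) q,
        PrimeSpectrum.ext (Ideal.ext fun a => Iff.rfl)⟩
    · have hp : p ∈ Set.range (PrimeSpectrum.comap (algebraMap A (Localization.Away g))) := by
        rw [PrimeSpectrum.localization_away_comap_range (Localization.Away g) g]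
        exact hgp
      obtain ⟨q, rfl⟩ := hp
      exact ⟨PrimeSpectrum.comap (Pi.evalRingHom (Fam B (Localization.Away g)) false) q,
        PrimeSpectrum.ext (Ideal.ext fun a => Iff.rfl)⟩
  haveI : Module.FaithfullyFlat A (∀ b : Bool, Fam B (Localization.Away g) b) :=
    Module.FaithfullyFlat.of_comap_surjective hsurj
  obtain ⟨σ⟩ := h (∀ b : Bool, Fam B (Localization.Away g) b) inferInstance inferInstance
  let x₀ : Fam B (Localization.Away g) false :=
    (IsLocalization.Away.invSelf (S := Localization.Away g) g : Localization.Away g)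
  have hx₀ : algebraMap A (Fam B (Localization.Away g) false) g * x₀ = 1 :=
    IsLocalization.Away.mul_invSelf (S := Localization.Away g) g
  have hsm : (Pi.single false (1 : Fam B (Localization.Away g) false) :
      ∀ b : Bool, Fam B (Localization.Away g) b) = g • Pi.single false x₀ := by
    rw [← Pi.single_smul, Algebra.smul_def, hx₀]
  have he1 : σ (Pi.single false (1 : Fam B (Localization.Away g) false)) ∈ m := by
    rw [hsm, map_smul, smul_eq_mul]
    exact m.mul_mem_right _ hgm
  have hidem : σ (Pi.single false (1 : Fam B (Localization.Away g) false)) *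
      σ (Pi.single false (1 : Fam B (Localization.Away g) false)) =
      σ (Pi.single false (1 : Fam B (Localization.Away g) false)) := by
    rw [← map_mul, ← Pi.single_mul, mul_one]
  have hzero : algebraMap A (Localization.AtPrime m)
      (σ (Pi.single false (1 : Fam B (Localization.Away g) false))) = 0 := by
    have hεm : algebraMap A (Localization.AtPrime m)
        (σ (Pi.single false (1 : Fam B (Localization.Away g) false))) ∈
        IsLocalRing.maximalIdeal (Localization.AtPrime m) :=
      (IsLocalization.AtPrime.to_map_mem_maximal_iff (Localization.AtPrime m) m _).2 he1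
    have hεε := congrArg (algebraMap A (Localization.AtPrime m)) hidem
    rw [map_mul] at hεε
    have hu := IsLocalRing.isUnit_one_sub_self_of_mem_nonunits _
      ((IsLocalRing.mem_maximalIdeal _).1 hεm)
    have hmul : algebraMap A (Localization.AtPrime m)
        (σ (Pi.single false (1 : Fam B (Localization.Away g) false))) *
        (1 - algebraMap A (Localization.AtPrime m)
        (σ (Pi.single false (1 : Fam B (Localization.Away g) false)))) = 0 := by
      rw [mul_sub, mul_one, hεε, sub_self]
    exact (hu.mul_left_eq_zero).1 hmul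
  have h0 : algebraMap A (Localization.AtPrime m)
      (σ (Pi.single true (1 : Fam B (Localization.Away g) true))) = 1 := by
    have hsum : (Pi.single true (1 : Fam B (Localization.Away g) true) :
        ∀ b : Bool, Fam B (Localization.Away g) b) +
        Pi.single false (1 : Fam B (Localization.Away g) false) = 1 := by
      funext b
      cases b <;> simp
    have := congrArg (fun x => algebraMap A (Localization.AtPrime m) (σ x)) hsum
    simp only [map_add, map_one, hzero, add_zero] at this
    exact this
  let τ' : Fam B (Localization.Away g) true →ₐ[A] Localization.AtPrime m :=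
    { toFun := fun s => algebraMap A (Localization.AtPrime m) (σ (Pi.single true s))
      map_one' := h0
      map_mul' := fun s s' => by rw [Pi.single_mul, map_mul, map_mul]
      map_zero' := by rw [Pi.single_zero, map_zero, map_zero]
      map_add' := fun s s' => by rw [Pi.single_add, map_add, map_add]
      commutes' := fun a => by
        have hsm' : (Pi.single true (algebraMap A (Fam B (Localization.Away g) true) a) :
            ∀ b : Bool, Fam B (Localization.Away g) b) =
            a • Pi.single true (1 : Fam B (Localization.Away g) true) := by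
          rw [← Pi.single_smul, Algebra.smul_def, mul_one]
        show algebraMap A (Localization.AtPrime m) (σ (Pi.single true
          (algebraMap A (Fam B (Localization.Away g) true) a))) = _
        rw [hsm', map_smul, smul_eq_mul, map_mul, h0, mul_one] }
  exact ⟨τ'⟩

theorem scaleRoots_comp {R : Type*} [CommRing R] (f : R[X]) (u : R) :
    (f.scaleRoots u).comp (C u * X) = C (u ^ f.natDegree) * f := by
  ext i
  rw [comp_C_mul_X_coeff, coeff_scaleRoots, coeff_C_mul]
  by_cases hi : i ≤ f.natDegree
  · rw [mul_assoc, ← pow_add, Nat.sub_add_cancel hi, mul_comm]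
  · rw [coeff_eq_zero_of_natDegree_lt (not_le.1 hi), zero_mul, zero_mul, mul_zero]

theorem henselian (A : Type u) [CommRing A] (h : ProEtW.HasEtaleRetractions A)
    (m : Ideal A) [m.IsMaximal] : HenselianLocalRing (Localization.AtPrime m) := by
  refine ((HenselianLocalRing.TFAE (Localization.AtPrime m)).out 0 1).2 ?_
  intro f hf a₀ h₁ h₂
  have hu : IsUnit (algebraMap A (Localization.AtPrime m)
      (IsLocalization.commonDenom m.primeCompl f.support f.coeff)) :=
    IsLocalization.map_units _ (IsLocalization.commonDenom m.primeCompl f.support f.coeff)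
  have hl := IsLocalization.scaleRoots_commonDenom_mem_lifts m.primeCompl f
    (by rw [hf.leadingCoeff]; exact ⟨1, map_one _⟩)
  obtain ⟨G, hGmap, -, hGmonic⟩ :=
    lifts_and_natDegree_eq_and_monic hl ((monic_scaleRoots_iff _).2 hf)
  obtain ⟨u, hu_def⟩ : ∃ u : Localization.AtPrime m, u = algebraMap A (Localization.AtPrime m)
      (IsLocalization.commonDenom m.primeCompl f.support f.coeff) := ⟨_, rfl⟩
  rw [← hu_def] at hu hGmap
  have hū : algebraMap (Localization.AtPrime m)
      (IsLocalRing.ResidueField (Localization.AtPrime m)) u ≠ 0 := (hu.map _).ne_zero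
  have hb₀ : eval₂ (algebraMap (Localization.AtPrime m)
      (IsLocalRing.ResidueField (Localization.AtPrime m)))
      (algebraMap (Localization.AtPrime m)
        (IsLocalRing.ResidueField (Localization.AtPrime m)) u * a₀) (f.scaleRoots u) = 0 := by
    rw [scaleRoots_eval₂_mul, ← aeval_def, h₁, mul_zero]
  have hb₀' : eval₂ (algebraMap (Localization.AtPrime m)
      (IsLocalRing.ResidueField (Localization.AtPrime m)))
      (algebraMap (Localization.AtPrime m)
        (IsLocalRing.ResidueField (Localization.AtPrime m)) u * a₀)
      (derivative (f.scaleRoots u)) ≠ 0 := by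
    have hid := congrArg derivative (scaleRoots_comp f u)
    simp only [derivative_comp, derivative_C_mul, derivative_X, mul_one] at hid
    have hev := congrArg (eval₂ (algebraMap (Localization.AtPrime m)
      (IsLocalRing.ResidueField (Localization.AtPrime m))) a₀) hid
    rw [eval₂_mul, eval₂_mul, eval₂_C, eval₂_C, eval₂_comp, eval₂_mul, eval₂_C, eval₂_X] at hev
    intro hzero
    rw [hzero, mul_zero] at hev
    have hne : algebraMap (Localization.AtPrime m)
        (IsLocalRing.ResidueField (Localization.AtPrime m)) (u ^ f.natDegree) *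
        eval₂ (algebraMap (Localization.AtPrime m)
          (IsLocalRing.ResidueField (Localization.AtPrime m))) a₀ (derivative f) ≠ 0 :=
      mul_ne_zero (by rw [map_pow]; exact pow_ne_zero _ hū) (by rwa [← aeval_def])
    exact hne hev.symm
  have hGk : G.map (algebraMap A (IsLocalRing.ResidueField (Localization.AtPrime m))) =
      (f.scaleRoots u).map (algebraMap (Localization.AtPrime m)
        (IsLocalRing.ResidueField (Localization.AtPrime m))) := by
    rw [← hGmap, Polynomial.map_map, ← IsScalarTower.algebraMap_eq]
  have hroot : (G.map (algebraMap A (IsLocalRing.ResidueField (Localization.AtPrime m)))).IsRoot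
      (algebraMap (Localization.AtPrime m)
        (IsLocalRing.ResidueField (Localization.AtPrime m)) u * a₀) := by
    rw [IsRoot.def, hGk, Polynomial.eval_map]; exact hb₀
  have hder : (derivative (G.map (algebraMap A
      (IsLocalRing.ResidueField (Localization.AtPrime m))))).eval
      (algebraMap (Localization.AtPrime m)
        (IsLocalRing.ResidueField (Localization.AtPrime m)) u * a₀) ≠ 0 := by
    rw [hGk, derivative_map, Polynomial.eval_map]; exact hb₀'
  have hfac := (mul_divByMonic_eq_iff_isRoot
    (p := G.map (algebraMap A (IsLocalRing.ResidueField (Localization.AtPrime m))))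
    (a := algebraMap (Localization.AtPrime m)
        (IsLocalRing.ResidueField (Localization.AtPrime m)) u * a₀)).2 hroot
  obtain ⟨qbar, hqbar⟩ : ∃ qbar, qbar =
      (G.map (algebraMap A (IsLocalRing.ResidueField (Localization.AtPrime m)))) /ₘ
      (X - C (algebraMap (Localization.AtPrime m)
        (IsLocalRing.ResidueField (Localization.AtPrime m)) u * a₀)) := ⟨_, rfl⟩
  rw [← hqbar] at hfac
  have hq0 : qbar.eval (algebraMap (Localization.AtPrime m)
        (IsLocalRing.ResidueField (Localization.AtPrime m)) u * a₀) ≠ 0 := by
    have hd := congrArg (fun p => (derivative p).eval (algebraMap (Localization.AtPrime m)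
        (IsLocalRing.ResidueField (Localization.AtPrime m)) u * a₀)) hfac
    simp only [derivative_mul, derivative_sub, derivative_X, derivative_C, sub_zero, one_mul,
      eval_add, eval_mul, eval_sub, eval_X, eval_C, sub_self, zero_mul, add_zero] at hd
    rw [hd]; exact hder
  obtain ⟨Q, hQ⟩ := Polynomial.map_surjective
    (algebraMap A (IsLocalRing.ResidueField (Localization.AtPrime m)))
    (Ideal.algebraMap_residueField_surjective m) qbar
  let P₀ : StandardEtalePair A := ⟨G, hGmonic, derivative G * Q, ⟨Q, 0, 1, by ring⟩⟩
  have hmap₀ : P₀.HasMap (algebraMap (Localization.AtPrime m)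
        (IsLocalRing.ResidueField (Localization.AtPrime m)) u * a₀) := by
    constructor
    · show aeval _ G = 0
      rw [aeval_def, eval₂_eq_eval_map]; exact hroot
    · show IsUnit (aeval _ (derivative G * Q))
      rw [map_mul, aeval_def, aeval_def, eval₂_eq_eval_map, eval₂_eq_eval_map, ← derivative_map,
        hQ]
      exact isUnit_iff_ne_zero.2 (mul_ne_zero hder hq0)
  obtain ⟨φ⟩ := exists_algHom_localization A h m P₀.Ring
    (IsLocalRing.ResidueField (Localization.AtPrime m)) (Ideal.ker_algebraMap_residueField m)
    (P₀.lift _ hmap₀)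
  obtain ⟨hx1, hx2⟩ : P₀.HasMap (φ P₀.X) := P₀.hasMap_X.map φ
  have hx1' : aeval (φ P₀.X) G = 0 := hx1
  have hx2' : IsUnit (aeval (φ P₀.X) (derivative G * Q)) := hx2
  have hxQ : IsUnit (aeval (φ P₀.X) Q) := by
    rw [map_mul] at hx2'; exact isUnit_of_mul_isUnit_right hx2'
  have hρroot : (G.map (algebraMap A (IsLocalRing.ResidueField (Localization.AtPrime m)))).eval
      (algebraMap (Localization.AtPrime m)
        (IsLocalRing.ResidueField (Localization.AtPrime m)) (φ P₀.X)) = 0 := by
    rw [Polynomial.eval_map, ← aeval_def]
    have := aeval_algHom_apply (IsScalarTower.toAlgHom A (Localization.AtPrime m)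
      (IsLocalRing.ResidueField (Localization.AtPrime m))) (φ P₀.X) G
    rw [hx1', map_zero] at this
    exact this
  have hρQ : qbar.eval (algebraMap (Localization.AtPrime m)
        (IsLocalRing.ResidueField (Localization.AtPrime m)) (φ P₀.X)) ≠ 0 := by
    rw [← hQ, Polynomial.eval_map, ← aeval_def]
    have := aeval_algHom_apply (IsScalarTower.toAlgHom A (Localization.AtPrime m)
      (IsLocalRing.ResidueField (Localization.AtPrime m))) (φ P₀.X) Q
    intro h0
    have h0' : (IsScalarTower.toAlgHom A (Localization.AtPrime m)
      (IsLocalRing.ResidueField (Localization.AtPrime m))) (aeval (φ P₀.X) Q) = 0 := by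
      rw [← this]; exact h0
    exact (hxQ.map _).ne_zero h0'
  have hρx : algebraMap (Localization.AtPrime m)
        (IsLocalRing.ResidueField (Localization.AtPrime m)) (φ P₀.X) =
      algebraMap (Localization.AtPrime m)
        (IsLocalRing.ResidueField (Localization.AtPrime m)) u * a₀ := by
    rw [← hfac, eval_mul, eval_sub, eval_X, eval_C] at hρroot
    rcases mul_eq_zero.1 hρroot with h' | h'
    · exact sub_eq_zero.1 h'
    · exact absurd h' hρQ
  refine ⟨φ P₀.X * ↑hu.unit⁻¹, ?_, ?_⟩
  · have hx_eq : φ P₀.X = u * (φ P₀.X * ↑hu.unit⁻¹) := by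
      rw [mul_comm (φ P₀.X), ← mul_assoc, IsUnit.mul_val_inv, one_mul]
    have h0 : eval (φ P₀.X) (f.scaleRoots u) = 0 := by
      rw [← hGmap, Polynomial.eval_map, ← aeval_def]; exact hx1'
    rw [hx_eq, scaleRoots_eval_mul] at h0
    exact ((hu.pow _).mul_right_eq_zero).1 h0
  · show algebraMap (Localization.AtPrime m)
        (IsLocalRing.ResidueField (Localization.AtPrime m)) (φ P₀.X * ↑hu.unit⁻¹) = a₀
    have h2 : algebraMap (Localization.AtPrime m)
        (IsLocalRing.ResidueField (Localization.AtPrime m)) (φ P₀.X * ↑hu.unit⁻¹) *
        algebraMap (Localization.AtPrime m)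
        (IsLocalRing.ResidueField (Localization.AtPrime m)) u =
        algebraMap (Localization.AtPrime m)
        (IsLocalRing.ResidueField (Localization.AtPrime m)) u * a₀ := by
      rw [← map_mul, mul_assoc, IsUnit.val_inv_mul, mul_one]; exact hρx
    rw [mul_comm] at h2
    exact mul_left_cancel₀ hū h2

theorem sepClosed (A : Type u) [CommRing A] (h : ProEtW.HasEtaleRetractions A)
    (m : Ideal A) [m.IsMaximal] :
    IsSepClosed (IsLocalRing.ResidueField (Localization.AtPrime m)) := by
  apply IsSepClosed.of_exists_root
  intro p hpm hpirr hpsep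
  obtain ⟨G, hGmap, -, hGmonic⟩ := lifts_and_natDegree_eq_and_monic
    (f := algebraMap A (IsLocalRing.ResidueField (Localization.AtPrime m))) (p := p)
    (by
      rw [Polynomial.mem_lifts]
      exact Polynomial.map_surjective _ (Ideal.algebraMap_residueField_surjective m) p) hpm
  haveI : Fact (Irreducible p) := ⟨hpirr⟩
  let P₀ : StandardEtalePair A := ⟨G, hGmonic, derivative G, ⟨1, 0, 1, by ring⟩⟩
  have hroot : aeval (AdjoinRoot.root p) G = 0 := by
    rw [← aeval_map_algebraMap (IsLocalRing.ResidueField (Localization.AtPrime m)), hGmap,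
      AdjoinRoot.aeval_eq, AdjoinRoot.mk_self]
  have hder : IsUnit (aeval (AdjoinRoot.root p) (derivative G)) := by
    rw [← aeval_map_algebraMap (IsLocalRing.ResidueField (Localization.AtPrime m)),
      ← derivative_map, hGmap]
    refine isUnit_iff_ne_zero.2 (hpsep.aeval_derivative_ne_zero ?_)
    rw [AdjoinRoot.aeval_eq, AdjoinRoot.mk_self]
  have hK : RingHom.ker (algebraMap A (AdjoinRoot p)) = m := by
    rw [IsScalarTower.algebraMap_eq A (IsLocalRing.ResidueField (Localization.AtPrime m))
      (AdjoinRoot p), ← RingHom.comap_ker,
      (RingHom.injective_iff_ker_eq_bot _).1 (algebraMap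
        (IsLocalRing.ResidueField (Localization.AtPrime m)) (AdjoinRoot p)).injective,
      ← RingHom.ker_eq_comap_bot]
    exact Ideal.ker_algebraMap_residueField m
  obtain ⟨φ⟩ := exists_algHom_localization A h m P₀.Ring (AdjoinRoot p) hK
    (P₀.lift (AdjoinRoot.root p) ⟨hroot, hder⟩)
  obtain ⟨hx1, -⟩ : P₀.HasMap (φ P₀.X) := P₀.hasMap_X.map φ
  have hx1' : aeval (φ P₀.X) G = 0 := hx1
  refine ⟨algebraMap (Localization.AtPrime m)
    (IsLocalRing.ResidueField (Localization.AtPrime m)) (φ P₀.X), ?_⟩
  rw [← hGmap, Polynomial.eval_map, ← aeval_def]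
  have := aeval_algHom_apply (IsScalarTower.toAlgHom A (Localization.AtPrime m)
    (IsLocalRing.ResidueField (Localization.AtPrime m))) (φ P₀.X) G
  rw [hx1', map_zero] at this
  exact this

/-- If every faithfully flat etale A-algebra has an A-algebra retraction, then for every maximal ideal m
of A the localization A_m is a strictly henselian local ring (henselian with separably closed
residue field). -/
theorem result (A : Type u) [CommRing A]
    (h : ProEtW.HasEtaleRetractions A) (m : Ideal A) [m.IsMaximal] :
    EtCoh.IsStrictlyHenselianLocalRing (Localization.AtPrime m) := by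
  exact ⟨henselian A h m, sepClosed A h m⟩

end Groth.Agent.S0675
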