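import Groth.Statements.S0733

set_option autoImplicit false
open CategoryTheory CategoryTheory.Limits AlgebraicGeometry Opposite Topology
universe u
open scoped TensorProduct
open ProEtW

namespace Groth.Agent.S0733

theorem aux_iso {A B A' : Type u} [CommRing A] [CommRing B] [CommRing A'] [Algebra A A']
    (i1 i2 : Algebra A B) (h : i1 = i2) :
    Nonempty ((letI := i1; (Under.mk (CommRingCat.ofHom (algebraMap A' (A' ⊗[A] B))) :
        Under (CommRingCat.of A'))) ≅
      (letI := i2; (Under.mk (CommRingCat.ofHom (algebraMap A' (A' ⊗[A] B))) :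
        Under (CommRingCat.of A')))) := by
  subst h
  exact ⟨Iso.refl _⟩

/-- If A -> B is ind-etale (a filtered colimit of etale A-algebras) and A -> A' is any ring map, then A'
-> A' (x)_A B is ind-etale. -/
theorem result (A B A' : Type u) [CommRing A] [CommRing B] [CommRing A']
    [Algebra A B] [Algebra A A'] (h : EtPBC.IsIndEtale A B) :
    EtPBC.IsIndEtale A' (A' ⊗[A] B) := by
  obtain ⟨J, iJ, iF, D, c, hc, hD, ⟨e⟩⟩ := h
  let F : Under (CommRingCat.of A) ⥤ Under (CommRingCat.of A') :=
    CommRingCat.tensorProd (CommRingCat.of A) (CommRingCat.of A')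
  haveI hF : PreservesColimitsOfSize.{u, u} F := by
    haveI : PreservesColimitsOfSize.{u, u}
        (Under.pushout (CommRingCat.ofHom <| algebraMap (CommRingCat.of A) (CommRingCat.of A'))) :=
      (Under.mapPushoutAdj _).leftAdjoint_preservesColimits
    exact preservesColimits_of_natIso
      (CommRingCat.tensorProdIsoPushout (CommRingCat.of A) (CommRingCat.of A')).symm
  refine ⟨J, iJ, iF, D ⋙ F, F.mapCocone c, isColimitOfPreserves F hc, ?_, ?_⟩
  · intro j
    letI iA : Algebra A (D.obj j).right := (D.obj j).hom.hom.toAlgebra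
    haveI : Algebra.Etale A (D.obj j).right := hD j
    have hE : Algebra.Etale A' (A' ⊗[A] (D.obj j).right) := inferInstance
    have heq : (algebraMap A' (A' ⊗[A] (D.obj j).right)).toAlgebra =
        (inferInstance : Algebra A' (A' ⊗[A] (D.obj j).right)) :=
      Algebra.algebra_ext _ _ (fun r => rfl)
    show @Algebra.Etale A' (A' ⊗[A] (D.obj j).right) _ _
      (algebraMap A' (A' ⊗[A] (D.obj j).right)).toAlgebra
    rw [heq]
    exact hE
  · have h1 : F.obj c.pt ≅ F.obj (Under.mk (CommRingCat.ofHom (algebraMap A B))) := F.mapIso e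
    have heq : (RingHom.toAlgebra (algebraMap A B) : Algebra A B) = (inferInstance : Algebra A B) :=
      Algebra.algebra_ext _ _ (fun r => rfl)
    obtain ⟨h2⟩ := aux_iso (A := A) (B := B) (A' := A') _ _ heq
    exact ⟨h1 ≪≫ h2⟩

end Groth.Agent.S0733
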