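import Groth.Statements.S0698
import Mathlib
import Groth.Agent.H4.SpectralProd

set_option autoImplicit false
open CategoryTheory CategoryTheory.Limits AlgebraicGeometry Opposite Topology
universe u
open ProEtW

namespace Groth.Agent.S0698


theorem isIndZariski_quotient_sSup {A : Type u} [CommRing A] (S : Set (Ideal A))
    (hne : S.Nonempty) (hdir : DirectedOn (· ≤ ·) S)
    (hloc : ∀ K ∈ S, Algebra.IsLocalIso A (A ⧸ K)) :
    EtPBC.IsIndZariski A (A ⧸ sSup S) := by
  haveI : Nonempty ↥S := hne.to_subtype
  haveI : IsDirected ↥S (· ≤ ·) := ⟨fun a b => by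
    obtain ⟨c, hc, hac, hbc⟩ := hdir a.1 a.2 b.1 b.2
    exact ⟨⟨c, hc⟩, hac, hbc⟩⟩
  let D : ↥S ⥤ Under (CommRingCat.of A) :=
    { obj := fun K => Under.mk (CommRingCat.ofHom (algebraMap A (A ⧸ K.1)))
      map := fun {K K'} h => Under.homMk
        (CommRingCat.ofHom (Ideal.Quotient.factor (leOfHom h))) (by ext a; rfl)
      map_id := fun K => by
        apply Under.UnderMorphism.ext
        apply CommRingCat.hom_ext
        apply Ideal.Quotient.ringHom_ext
        ext a
        rfl
      map_comp := fun {K K' K''} f g => by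
        apply Under.UnderMorphism.ext
        apply CommRingCat.hom_ext
        apply Ideal.Quotient.ringHom_ext
        ext a
        rfl }
  let c : Cocone D :=
    { pt := Under.mk (CommRingCat.ofHom (algebraMap A (A ⧸ sSup S)))
      ι :=
        { app := fun K => Under.homMk
            (CommRingCat.ofHom (Ideal.Quotient.factor (le_sSup K.2))) (by ext a; rfl)
          naturality := fun K K' h => by
            apply Under.UnderMorphism.ext
            apply CommRingCat.hom_ext
            apply Ideal.Quotient.ringHom_ext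
            ext a
            rfl } }
  have hkill : ∀ (s : Cocone D), ∀ a ∈ sSup S, s.pt.hom.hom a = 0 := by
    intro s
    have hle : sSup S ≤ RingHom.ker s.pt.hom.hom := by
      apply sSup_le
      intro K hK a ha
      rw [RingHom.mem_ker]
      have h1 := congrArg (fun f => f.hom a) (Under.w (s.ι.app ⟨K, hK⟩))
      have h2 : (algebraMap A (A ⧸ K)) a = 0 := by
        rw [Ideal.Quotient.algebraMap_eq]
        exact Ideal.Quotient.eq_zero_iff_mem.2 ha
      have h3 : s.pt.hom.hom a = (s.ι.app ⟨K, hK⟩).right.hom ((algebraMap A (A ⧸ K)) a) :=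
        h1.symm
      rw [h3, h2, map_zero]
    intro a ha
    exact hle ha
  have hc : IsColimit c :=
    { desc := fun s => Under.homMk
        (CommRingCat.ofHom (Ideal.Quotient.lift (sSup S) s.pt.hom.hom (hkill s)))
        (by ext a; rfl)
      fac := fun s K => by
        apply Under.UnderMorphism.ext
        apply CommRingCat.hom_ext
        apply Ideal.Quotient.ringHom_ext
        ext a
        have h1 := congrArg (fun f => f.hom a) (Under.w (s.ι.app K))
        exact h1.symm
      uniq := fun s m hm => by
        apply Under.UnderMorphism.ext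
        apply CommRingCat.hom_ext
        apply Ideal.Quotient.ringHom_ext
        ext a
        have h1 := congrArg (fun f => f.hom a) (Under.w m)
        exact h1 }
  refine ⟨↥S, inferInstance, inferInstance, D, c, hc, ?_, ⟨Iso.refl _⟩⟩
  intro K
  have heq : ((D.obj K).hom.hom.toAlgebra : Algebra A (A ⧸ K.1)) =
      (inferInstance : Algebra A (A ⧸ K.1)) := Algebra.algebra_ext _ _ (fun r => rfl)
  show @Algebra.IsLocalIso A (A ⧸ K.1) _ _ (D.obj K).hom.hom.toAlgebra
  rw [heq]
  exact hloc K.1 K.2

theorem isLocalIso_quotient_idempotent {A : Type u} [CommRing A] {e : A}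
    (he : IsIdempotentElem e) : Algebra.IsLocalIso A (A ⧸ Ideal.span {1 - e}) := by
  haveI : IsLocalization.Away e (A ⧸ Ideal.span {1 - e}) :=
    IsLocalization.away_of_isIdempotentElem he
      (by rw [Ideal.Quotient.algebraMap_eq, Ideal.mk_ker]) Ideal.Quotient.mk_surjective
  haveI : Algebra.IsStandardOpenImmersion A (A ⧸ Ideal.span {1 - e}) := ⟨e, inferInstance⟩
  infer_instance

/-- Let A be a ring, X = Spec A and T a closed subset of pi_0(X). Then A has an ind-Zariski quotient
ring B (the map A -> B is surjective) whose spectrum maps homeomorphically onto the preimage of T in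
X. -/
theorem result (A : Type u) [CommRing A]
    (T : Set (_root_.ConnectedComponents (PrimeSpectrum A))) (hT : IsClosed T) :
    ∃ (B : Type u) (_ : CommRing B) (_ : Algebra A B),
      EtPBC.IsIndZariski A B ∧ Function.Surjective (algebraMap A B) ∧
      Topology.IsEmbedding (PrimeSpectrum.comap (algebraMap A B)) ∧
      Set.range (PrimeSpectrum.comap (algebraMap A B)) = _root_.ConnectedComponents.mk ⁻¹' T := by
  classical
  let P : Set (PrimeSpectrum A) := _root_.ConnectedComponents.mk ⁻¹' T
  let S : Set (Ideal A) := {K | ∃ e : A, IsIdempotentElem e ∧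
    P ⊆ (PrimeSpectrum.basicOpen e : Set (PrimeSpectrum A)) ∧ K = Ideal.span {1 - e}}
  have hne : S.Nonempty := ⟨Ideal.span {1 - 1}, 1, IsIdempotentElem.one, by simp, rfl⟩
  have hdir : DirectedOn (· ≤ ·) S := by
    rintro _ ⟨e, he, hPe, rfl⟩ _ ⟨e', he', hPe', rfl⟩
    refine ⟨Ideal.span {1 - e * e'}, ⟨e * e', he.mul he', ?_, rfl⟩, ?_, ?_⟩
    · intro p hp
      rw [PrimeSpectrum.basicOpen_mul]
      exact ⟨hPe hp, hPe' hp⟩
    · show Ideal.span {1 - e} ≤ Ideal.span {1 - e * e'}
      rw [Ideal.span_singleton_le_span_singleton]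
      exact Dvd.intro (1 - e) (by
        have h := he.eq
        linear_combination e' * h)
    · show Ideal.span {1 - e'} ≤ Ideal.span {1 - e * e'}
      rw [Ideal.span_singleton_le_span_singleton]
      exact Dvd.intro (1 - e') (by
        have h := he'.eq
        linear_combination e * h)
  have hloc : ∀ K ∈ S, Algebra.IsLocalIso A (A ⧸ K) := by
    rintro _ ⟨e, he, -, rfl⟩
    exact isLocalIso_quotient_idempotent he
  refine ⟨A ⧸ sSup S, inferInstance, inferInstance,
    isIndZariski_quotient_sSup S hne hdir hloc, Ideal.Quotient.mk_surjective,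
    (PrimeSpectrum.isClosedEmbedding_comap_of_surjective _ _
      Ideal.Quotient.mk_surjective).isEmbedding, ?_⟩
  have hr : Set.range (PrimeSpectrum.comap (algebraMap A (A ⧸ sSup S))) =
      PrimeSpectrum.zeroLocus (sSup S : Ideal A) := by
    have := range_comap_of_surjective _ (algebraMap A (A ⧸ sSup S)) Ideal.Quotient.mk_surjective
    rw [this, Ideal.Quotient.algebraMap_eq, Ideal.mk_ker]
  rw [hr]
  haveI : T2Space (_root_.ConnectedComponents (PrimeSpectrum A)) :=
    Groth.Agent.H4.connectedComponents_t2_of_spectral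
  ext p
  constructor
  · intro hp
    by_contra hpT
    have hpT' : _root_.ConnectedComponents.mk p ∈ Tᶜ := hpT
    obtain ⟨V, hV, hpV, hVT⟩ := compact_exists_isClopen_in_isOpen hT.isOpen_compl hpT'
    have hC : IsClopen (_root_.ConnectedComponents.mk ⁻¹' Vᶜ : Set (PrimeSpectrum A)) :=
      hV.compl.preimage _root_.ConnectedComponents.continuous_coe
    obtain ⟨e, he, hCe⟩ := PrimeSpectrum.isClopen_iff.1 hC
    have hK : Ideal.span {1 - e} ∈ S := by
      refine ⟨e, he, ?_, rfl⟩
      rw [← hCe]
      intro q hq hqV
      exact hVT hqV hq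
    have h1 : (1 - e) ∈ p.asIdeal :=
      hp (le_sSup hK (Ideal.mem_span_singleton_self _))
    have h2 : e ∈ p.asIdeal := by
      by_contra hne'
      have : p ∈ (PrimeSpectrum.basicOpen e : Set (PrimeSpectrum A)) := hne'
      rw [← hCe] at this
      exact this hpV
    have h3 : (1 : A) ∈ p.asIdeal := by
      have := p.asIdeal.add_mem h1 h2
      simpa using this
    exact p.2.ne_top ((Ideal.eq_top_iff_one _).2 h3)
  · intro hp
    show ((sSup S : Ideal A) : Set A) ⊆ p.asIdeal
    have hle : sSup S ≤ p.asIdeal := by
      apply sSup_le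
      rintro _ ⟨e, he, hPe, rfl⟩
      rw [Ideal.span_singleton_le_iff_mem]
      have hpe : e ∉ p.asIdeal := hPe hp
      have h0 : e * (1 - e) ∈ p.asIdeal := by
        have : e * (1 - e) = 0 := by
          have h := he.eq
          linear_combination -h
        rw [this]
        exact p.asIdeal.zero_mem
      exact (p.2.mem_or_mem h0).resolve_left hpe
    exact hle

end Groth.Agent.S0698
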