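import Groth.Statements.S0699
import Mathlib
import Groth.Agent.H4.WLocalTop

set_option autoImplicit false
open CategoryTheory CategoryTheory.Limits AlgebraicGeometry Opposite Topology
universe u
open ProEtW

namespace Groth.Agent.S0699

/-- Let A -> B identify local rings, with Spec A and Spec B w-local, Spec B -> Spec A w-local, and
pi_0(Spec B) -> pi_0(Spec A) bijective. Then A -> B is bijective. -/
theorem result (A B : Type u) [CommRing A] [CommRing B]
    [Algebra A B] (h1 : EtPBC.IdentifiesLocalRings A B) (h2 : ProEtW.IsWLocal (PrimeSpectrum A))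
    (h3 : ProEtW.IsWLocal (PrimeSpectrum B))
    (h4 : ProEtW.IsWLocalMap (PrimeSpectrum.comap (algebraMap A B)))
    (h5 : Function.Bijective
      (PrimeSpectrum.continuous_comap (algebraMap A B)).connectedComponentsMap) :
    Function.Bijective (algebraMap A B) := by
  obtain ⟨hsA, hcA, huA⟩ := h2
  obtain ⟨hsB, hcB, huB⟩ := h3
  obtain ⟨hspec, hcl⟩ := h4
  have hcont : Continuous (PrimeSpectrum.comap (algebraMap A B)) :=
    PrimeSpectrum.continuous_comap _
  have bijA := Groth.Agent.H4.closedPoints_bijective_connectedComponents (PrimeSpectrum A) hcA huA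
  have bijB := Groth.Agent.H4.closedPoints_bijective_connectedComponents (PrimeSpectrum B) hcB huB
  have K1 : ∀ n n' : PrimeSpectrum B, IsClosed ({n} : Set (PrimeSpectrum B)) →
      IsClosed ({n'} : Set (PrimeSpectrum B)) →
      PrimeSpectrum.comap (algebraMap A B) n = PrimeSpectrum.comap (algebraMap A B) n' →
      n = n' := by
    intro n n' hn hn' h
    have e1 : (_root_.ConnectedComponents.mk n : _root_.ConnectedComponents (PrimeSpectrum B)) =
        _root_.ConnectedComponents.mk n' := by
      apply h5.1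
      show (_root_.ConnectedComponents.mk (PrimeSpectrum.comap (algebraMap A B) n) :
          _root_.ConnectedComponents (PrimeSpectrum A)) =
        _root_.ConnectedComponents.mk (PrimeSpectrum.comap (algebraMap A B) n')
      rw [h]
    have := @bijB.1 ⟨n, hn⟩ ⟨n', hn'⟩ e1
    exact congrArg Subtype.val this
  have K2 : ∀ m : PrimeSpectrum A, IsClosed ({m} : Set (PrimeSpectrum A)) →
      ∃ n : PrimeSpectrum B, IsClosed ({n} : Set (PrimeSpectrum B)) ∧
        PrimeSpectrum.comap (algebraMap A B) n = m := by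
    intro m hm
    obtain ⟨c, hc⟩ := h5.2 (_root_.ConnectedComponents.mk m)
    obtain ⟨⟨n, hn⟩, hn'⟩ := bijB.2 c
    subst hn'
    refine ⟨n, hn, ?_⟩
    have e1 : (_root_.ConnectedComponents.mk (PrimeSpectrum.comap (algebraMap A B) n) :
        _root_.ConnectedComponents (PrimeSpectrum A)) = _root_.ConnectedComponents.mk m := by
      rw [← hc]
      rfl
    have := @bijA.1 ⟨_, hcl n hn⟩ ⟨m, hm⟩ e1
    exact congrArg Subtype.val this
  have K3 : ∀ (n q : PrimeSpectrum B), IsClosed ({n} : Set (PrimeSpectrum B)) →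
      (PrimeSpectrum.comap (algebraMap A B) q).asIdeal ≤
        (PrimeSpectrum.comap (algebraMap A B) n).asIdeal →
      q.asIdeal ≤ n.asIdeal := by
    intro n q hn hle
    obtain ⟨n', hn'max, hqn'⟩ := Ideal.exists_le_maximal q.asIdeal q.2.ne_top
    let n'' : PrimeSpectrum B := ⟨n', hn'max.isPrime⟩
    have hn''cl : IsClosed ({n''} : Set (PrimeSpectrum B)) :=
      (PrimeSpectrum.isClosed_singleton_iff_isMaximal n'').2 hn'max
    have hq'' : q ≤ n'' := hqn'
    have s1 : PrimeSpectrum.comap (algebraMap A B) q ⤳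
        PrimeSpectrum.comap (algebraMap A B) n'' :=
      ((PrimeSpectrum.le_iff_specializes q n'').1 hq'').map hcont
    have hle' : PrimeSpectrum.comap (algebraMap A B) q ≤
        PrimeSpectrum.comap (algebraMap A B) n := hle
    have s2 : PrimeSpectrum.comap (algebraMap A B) q ⤳
        PrimeSpectrum.comap (algebraMap A B) n :=
      (PrimeSpectrum.le_iff_specializes _ _).1 hle'
    have e := (huA (PrimeSpectrum.comap (algebraMap A B) q)).unique
      ⟨hcl n'' hn''cl, s1⟩ ⟨hcl n hn, s2⟩
    have e' := K1 n'' n hn''cl hn e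
    rw [← e']
    exact hqn'
  constructor
  · rw [injective_iff_map_eq_zero]
    intro a ha
    apply eq_zero_of_localization
    intro J hJ
    obtain ⟨n, hn, hfn⟩ := K2 ⟨J, hJ.isPrime⟩
      ((PrimeSpectrum.isClosed_singleton_iff_isMaximal _).2 hJ)
    have hJ' : J = n.asIdeal.comap (algebraMap A B) :=
      (congrArg PrimeSpectrum.asIdeal hfn).symm
    subst hJ'
    apply (h1 n).1
    rw [Localization.localRingHom_to_map, ha, map_zero, map_zero]
  · intro b
    let 𝔞 : Ideal A :=
      { carrier := {a | ∃ a', algebraMap A B a * b = algebraMap A B a'}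
        zero_mem' := ⟨0, by simp⟩
        add_mem' := by
          rintro a₁ a₂ ⟨a₁', h₁⟩ ⟨a₂', h₂⟩
          exact ⟨a₁' + a₂', by rw [map_add, add_mul, h₁, h₂, map_add]⟩
        smul_mem' := by
          rintro c a ⟨a', h⟩
          exact ⟨c * a', by rw [smul_eq_mul, map_mul, mul_assoc, h, map_mul]⟩ }
    by_contra hb
    have hne : 𝔞 ≠ ⊤ := by
      intro htop
      have h1mem : (1 : A) ∈ 𝔞 := htop ▸ Submodule.mem_top
      obtain ⟨a', ha'⟩ := h1mem
      exact hb ⟨a', by rw [← ha', map_one, one_mul]⟩
    obtain ⟨J, hJ, hle⟩ := Ideal.exists_le_maximal 𝔞 hne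
    obtain ⟨n, hn, hfn⟩ := K2 ⟨J, hJ.isPrime⟩
      ((PrimeSpectrum.isClosed_singleton_iff_isMaximal _).2 hJ)
    have hJ' : J = n.asIdeal.comap (algebraMap A B) :=
      (congrArg PrimeSpectrum.asIdeal hfn).symm
    subst hJ'
    obtain ⟨x, hx⟩ := (h1 n).2 (algebraMap B (Localization.AtPrime n.asIdeal) b)
    obtain ⟨⟨a, s⟩, rfl⟩ := IsLocalization.mk'_surjective
      (n.asIdeal.comap (algebraMap A B)).primeCompl x
    rw [Localization.localRingHom_mk', IsLocalization.mk'_eq_iff_eq_mul, ← map_mul,
      IsLocalization.eq_iff_exists n.asIdeal.primeCompl] at hx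
    obtain ⟨t, ht⟩ := hx
    have ht' : (t : B) * algebraMap A B a = (t : B) * (b * algebraMap A B (s : A)) := ht
    have hstar : ∃ (b'' : B) (s₁ : A), s₁ ∉ n.asIdeal.comap (algebraMap A B) ∧
        b'' * (t : B) = algebraMap A B s₁ := by
      by_contra hcon
      have hdisj : Disjoint ((Ideal.span {(t : B)} : Ideal B) : Set B)
          (((n.asIdeal.comap (algebraMap A B)).primeCompl.map (algebraMap A B) :
            Submonoid B) : Set B) := by
        rw [Set.disjoint_left]
        rintro x hx1 ⟨s₁, hs₁, rfl⟩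
        obtain ⟨b'', hb''⟩ := Ideal.mem_span_singleton'.1 hx1
        exact hcon ⟨b'', s₁, hs₁, hb''⟩
      obtain ⟨p, hp, htp, hpd⟩ := Ideal.exists_le_prime_disjoint _ _ hdisj
      have hle2 : (PrimeSpectrum.comap (algebraMap A B) ⟨p, hp⟩).asIdeal ≤
          (PrimeSpectrum.comap (algebraMap A B) n).asIdeal := by
        intro x hx
        by_contra hxn
        exact Set.disjoint_left.1 hpd (show algebraMap A B x ∈ (p : Set B) from hx)
          ⟨x, hxn, rfl⟩
      have h3 := K3 n ⟨p, hp⟩ hn hle2
      exact t.2 (h3 (htp (Ideal.mem_span_singleton_self _)))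
    obtain ⟨b'', s₁, hs₁, hbt⟩ := hstar
    have hmem : s₁ * (s : A) ∈ 𝔞 := by
      refine ⟨s₁ * a, ?_⟩
      rw [map_mul, map_mul, ← hbt]
      calc b'' * (t : B) * algebraMap A B (s : A) * b
          = b'' * ((t : B) * (b * algebraMap A B (s : A))) := by ring
        _ = b'' * ((t : B) * algebraMap A B a) := by rw [← ht']
        _ = b'' * (t : B) * algebraMap A B a := by ring
    exact (hJ.isPrime.mem_or_mem (hle hmem)).elim hs₁ s.2

end Groth.Agent.S0699
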