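import Groth.Statements.S0704
import Groth.Agent.H4.SpectralProd

set_option autoImplicit false
open Topology
universe u
open ProEtW

namespace Groth.Agent.S0704

/-- With X, T, g and the fibre product Y of X and T over pi_0(X) as in the first part, if X is moreover
w-local then Y is w-local, the projection Y -> X is w-local, and the closed points of Y are exactly
the points mapping to closed points of X. -/
theorem result (X T : Type u) [TopologicalSpace X]
    [TopologicalSpace T] [CompactSpace T] [T2Space T] [TotallyDisconnectedSpace T]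
    (hX : ProEtW.IsWLocal X) (g : C(T, _root_.ConnectedComponents X)) :
    ProEtW.IsWLocal {p : X × T // _root_.ConnectedComponents.mk p.1 = g p.2} ∧
      ProEtW.IsWLocalMap (fun y : {p : X × T // _root_.ConnectedComponents.mk p.1 = g p.2} => y.1.1) ∧
      ProEtW.closedPoints {p : X × T // _root_.ConnectedComponents.mk p.1 = g p.2} =
        (fun y : {p : X × T // _root_.ConnectedComponents.mk p.1 = g p.2} => y.1.1) ⁻¹' ProEtW.closedPoints X := by
  haveI : SpectralSpace X := hX.1
  have hcl : ∀ y : {p : X × T // _root_.ConnectedComponents.mk p.1 = g p.2},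
      IsClosed ({y} : Set {p : X × T // _root_.ConnectedComponents.mk p.1 = g p.2}) ↔
        IsClosed ({y.1.1} : Set X) := H4.isClosed_singleton_fib_iff g
  have hset : ProEtW.closedPoints {p : X × T // _root_.ConnectedComponents.mk p.1 = g p.2} =
      (fun y : {p : X × T // _root_.ConnectedComponents.mk p.1 = g p.2} => y.1.1) ⁻¹'
        ProEtW.closedPoints X := by
    ext y; exact hcl y
  refine ⟨⟨H4.spectralSpace_fib g, ?_, ?_⟩,
    ⟨H4.isSpectralMap_fib_fst g, fun y hy => (hcl y).1 hy⟩, hset⟩
  · have hset' : {y : {p : X × T // _root_.ConnectedComponents.mk p.1 = g p.2} |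
        IsClosed ({y} : Set {p : X × T // _root_.ConnectedComponents.mk p.1 = g p.2})} =
        (fun y : {p : X × T // _root_.ConnectedComponents.mk p.1 = g p.2} => y.1.1) ⁻¹'
          {x : X | IsClosed ({x} : Set X)} := by
      ext y; exact hcl y
    rw [hset']
    exact hX.2.1.preimage (continuous_fst.comp continuous_subtype_val)
  · intro y
    obtain ⟨x₀, ⟨hx₀c, hx₀s⟩, hx₀u⟩ := hX.2.2 y.1.1
    have hmem : _root_.ConnectedComponents.mk x₀ = g y.1.2 := by
      rw [← y.2, ConnectedComponents.coe_eq_coe']
      exact (isPreconnected_singleton.closure.subset_connectedComponent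
        (subset_closure (Set.mem_singleton _))) (specializes_iff_mem_closure.1 hx₀s)
    have hind : IsInducing
        (Subtype.val : {p : X × T // _root_.ConnectedComponents.mk p.1 = g p.2} → X × T) :=
      IsInducing.subtypeVal
    refine ⟨⟨(x₀, y.1.2), hmem⟩, ⟨(hcl _).2 hx₀c, ?_⟩, ?_⟩
    · refine hind.specializes_iff.1 ?_
      exact hx₀s.prod specializes_rfl
    · rintro y' ⟨hy'c, hy's⟩
      have h12 := specializes_prod.1
        (show (y.1.1, y.1.2) ⤳ (y'.1.1, y'.1.2) from hind.specializes_iff.2 hy's)
      have ht : y.1.2 = y'.1.2 := h12.2.eq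
      have hx : y'.1.1 = x₀ := hx₀u _ ⟨(hcl y').1 hy'c, h12.1⟩
      exact Subtype.ext (Prod.ext hx ht.symm)

end Groth.Agent.S0704
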