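import Groth.Statements.S14017
import Mathlib

set_option autoImplicit false
open CategoryTheory CategoryTheory.Limits AlgebraicGeometry Opposite
universe u
open EtModW

namespace Groth.Agent.S14017


variable (Λ : Type (u + 1)) [CommRing Λ] (X : Scheme.{u})

theorem surj_of_epi {F G : EtModW.ModP Λ X} (φ : F ⟶ G) [Epi φ]
    (U : X.ProEt) (hU : ProEtS.IsWC U) : Function.Surjective (φ.hom.app (op U)).hom := by
  have h1 : Sheaf.IsLocallySurjective φ := (Sheaf.isLocallySurjective_iff_epi' _ φ).2 inferInstance
  have h2 : Sheaf.IsLocallySurjective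
      ((sheafCompose (Scheme.ProEt.topology X) (forget (ModuleCat.{u + 1} Λ))).map φ) :=
    inferInstance
  have h3 : Epi ((sheafCompose (Scheme.ProEt.topology X) (forget (ModuleCat.{u + 1} Λ))).map φ) :=
    inferInstance
  intro y
  obtain ⟨x, hx⟩ := hU _ _ _ h3 y
  exact ⟨x, hx⟩

/-- sections over `U`. -/
noncomputable abbrev ev (U : X.ProEt) : EtModW.ModP Λ X ⥤ ModuleCat.{u + 1} Λ :=
  sheafToPresheaf _ _ ⋙ (evaluation _ _).obj (op U)

instance (U : X.ProEt) : (ev Λ X U).Additive where
  map_add := rfl

variable {Λ X}

theorem epi_of_isQuot {I : Ideal Λ} {F Q : EtModW.ModP Λ X} (p : F ⟶ Q) (hp : ARSys.IsQuot I p) :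
    Epi p := by
  constructor
  intro Z ψ₁ ψ₂ h
  have hk : ARSys.HomKilledBy I (p ≫ ψ₁) := by
    intro a ha
    have : a • (p ≫ ψ₁) = p ≫ (a • 𝟙 Q) ≫ ψ₁ := by
      rw [Linear.smul_comp, Category.id_comp, Linear.comp_smul]
    rw [this, hp.1 a ha, zero_comp, comp_zero]
  obtain ⟨ψ, _, hψ⟩ := hp.2 Z (p ≫ ψ₁) hk
  rw [hψ ψ₁ rfl, hψ ψ₂ h.symm]

theorem main (I : Ideal Λ) (hI : I.FG) (F Q : EtModW.ModP Λ X) (p : F ⟶ Q)
    (hp : ARSys.IsQuot I p) (U : X.ProEt) (hU : ProEtS.IsWC U) :
    Function.Surjective (p.hom.app (op U)).hom ∧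
      LinearMap.ker (p.hom.app (op U)).hom = I • (⊤ : Submodule Λ (F.obj.obj (op U))) := by
  haveI := epi_of_isQuot p hp
  refine ⟨surj_of_epi Λ X p U hU, ?_⟩
  apply le_antisymm
  · -- kernel ⊆ I F(U)
    obtain ⟨r, a, ha⟩ := Submodule.fg_iff_exists_fin_generating_family.1 hI
    haveI : HasFiniteBiproducts (EtModW.ModP Λ X) := Abelian.hasFiniteBiproducts
    let g : (⨁ fun _ : Fin r => F) ⟶ F := biproduct.desc (fun k => a k • 𝟙 F)
    -- the cokernel projection is killed by I
    have hπ' : ∀ b ∈ Submodule.span Λ (Set.range a), b • cokernel.π g = 0 := by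
      intro b hb'
      induction hb' using Submodule.span_induction with
      | mem x hx =>
        obtain ⟨k, rfl⟩ := hx
        have : a k • cokernel.π g = (biproduct.ι (fun _ : Fin r => F) k ≫ g) ≫ cokernel.π g := by
          rw [biproduct.ι_desc, Linear.smul_comp, Category.id_comp]
        rw [this, Category.assoc, cokernel.condition, comp_zero]
      | zero => exact zero_smul _ _
      | add x y _ _ hx hy => rw [add_smul, hx, hy, add_zero]
      | smul c x _ hx => rw [smul_eq_mul, mul_smul, hx, smul_zero]
    have hπ : ARSys.HomKilledBy I (cokernel.π g) := by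
      intro b hb
      exact hπ' b (by rw [ha]; exact hb)
    obtain ⟨ψ, hψ, _⟩ := hp.2 _ (cokernel.π g) hπ
    -- exactness of sections
    let S : ShortComplex (EtModW.ModP Λ X) :=
      ShortComplex.mk (kernel.ι (cokernel.π g)) (cokernel.π g) (kernel.condition _)
    have hS : S.Exact := ShortComplex.exact_of_f_is_kernel S (kernelIsKernel _)
    haveI : Mono S.f := by dsimp [S]; infer_instance
    have hS' : (S.map (ev Λ X U)).Exact :=
      hS.map_of_mono_of_preservesKernel (ev Λ X U) inferInstance inferInstance
    intro x hx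
    have hx0 : (p.hom.app (op U)).hom x = 0 := hx
    have hx1 : ((cokernel.π g).hom.app (op U)).hom x = 0 := by
      rw [← hψ]
      show (ψ.hom.app (op U)).hom ((p.hom.app (op U)).hom x) = 0
      rw [hx0, map_zero]
    obtain ⟨k, hk⟩ := (ShortComplex.moduleCat_exact_iff _).1 hS' x hx1
    -- lift along the epi `factorThruImage`
    obtain ⟨y, hy⟩ := surj_of_epi Λ X (Abelian.factorThruImage g) U hU k
    have hfac : ((Abelian.factorThruImage g ≫ Abelian.image.ι g).hom.app (op U)).hom y =
        (g.hom.app (op U)).hom y := by rw [Abelian.image.fac]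
    have hxy : x = (g.hom.app (op U)).hom y := by
      rw [← hfac, ← hk, ← hy]
      rfl
    -- decompose g
    have hg : g = ∑ k : Fin r, a k • biproduct.π (fun _ : Fin r => F) k := by
      apply biproduct.hom_ext'
      intro j
      rw [biproduct.ι_desc, Preadditive.comp_sum]
      rw [Finset.sum_eq_single j]
      · rw [Linear.comp_smul, biproduct.ι_π_self]
      · intro b _ hbj
        rw [Linear.comp_smul, biproduct.ι_π_ne _ (Ne.symm hbj), smul_zero]
      · intro h; exact absurd (Finset.mem_univ j) h
    have hgU : (g.hom.app (op U)).hom y =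
        ∑ k : Fin r, a k • ((biproduct.π (fun _ : Fin r => F) k).hom.app (op U)).hom y := by
      rw [hg]
      have : ∀ (s : Finset (Fin r)),
          (((∑ k ∈ s, a k • biproduct.π (fun _ : Fin r => F) k : (⨁ fun _ : Fin r => F) ⟶ F)).hom.app
            (op U)).hom y =
          ∑ k ∈ s, a k • ((biproduct.π (fun _ : Fin r => F) k).hom.app (op U)).hom y := by
        intro s
        induction s using Finset.induction_on with
        | empty => simp
        | insert b s hb ih =>
          rw [Finset.sum_insert hb, Finset.sum_insert hb, ← ih]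
          rfl
      exact this _
    rw [hxy, hgU]
    refine Submodule.sum_mem _ (fun k _ => ?_)
    refine Submodule.smul_mem_smul ?_ Submodule.mem_top
    rw [← ha]
    exact Submodule.subset_span ⟨k, rfl⟩
  · -- I F(U) ⊆ kernel
    rw [Submodule.smul_le]
    intro b hb s _
    show (p.hom.app (op U)).hom (b • s) = 0
    rw [map_smul]
    have h := hp.1 b hb
    have h2 : ((b • 𝟙 Q : Q ⟶ Q).hom.app (op U)).hom ((p.hom.app (op U)).hom s) = 0 := by
      rw [h]; rfl
    exact h2



/-- Let X be a scheme, Λ a commutative ring and I a finitely generated ideal of Λ; let F be a sheaf of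
Λ-modules on the small pro-étale site of X and p : F ⟶ Q a quotient map modulo I (Q is killed by I
and every morphism out of F killed by I factors uniquely through p, so Q = F/IF); let U be a weakly
contractible object of the pro-étale site. Then the map on sections F(U) → Q(U) is surjective and
its kernel is exactly the submodule I·F(U): sections over a weakly contractible object commute with
forming IF and F/IF. (The published lemma is for sheaves of Λ-modules on an arbitrary site and a
weakly contractible object of it; this row states the case of the small pro-étale site of a scheme.) -/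
theorem result
    (Λ : Type (u + 1)) [CommRing Λ] (I : Ideal Λ) (hI : I.FG)
    (X : Scheme.{u}) (F Q : EtModW.ModP Λ X) (p : F ⟶ Q) (hp : ARSys.IsQuot I p)
    (U : X.ProEt) (hU : ProEtS.IsWC U) :
    Function.Surjective (p.hom.app (op U)).hom ∧
      LinearMap.ker (p.hom.app (op U)).hom = I • (⊤ : Submodule Λ (F.obj.obj (op U))) := by
  exact main I hI F Q p hp U hU

end Groth.Agent.S14017
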