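import Groth.Statements.S0069
import Mathlib
import Groth.Agent.H4.EtaleRes

set_option autoImplicit false
open CategoryTheory CategoryTheory.Limits AlgebraicGeometry Opposite
universe u
open EtBase

namespace Groth.Agent.S0069


open Groth.Agent.H4

/-- Abelian case, first half — the pushforward along a closed immersion has zero stalk at geometric
points outside the closed subscheme. -/
theorem result {Z X : Scheme.{u}} (i : Z ⟶ X) [IsClosedImmersion i] [EtCoh.BCCont i]
    (G : EtCoh.Ab Z) {Ω : Type u} [Field Ω] [IsSepClosed Ω] (ξ : Spec (CommRingCat.of Ω) ⟶ X)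
    (hξ : Disjoint (Set.range ξ.base) (Set.range i.base)) :
    IsZero ((EtCoh.stalk ξ).obj ((EtCoh.push i).obj G)) := by
  let Φ := Scheme.pointSmallEtale ξ
  let P' : X.Etaleᵒᵖ ⥤ AddCommGrpCat.{u + 1} := ((EtCoh.push i).obj G).obj
  have hall : ∀ t : ToType (Φ.presheafFiber.obj P'), t = 0 := by
    intro t
    obtain ⟨U, τ, z, rfl⟩ := Φ.toPresheafFiber_jointly_surjective t
    let C : X.Opens := ⟨(Set.range i.base)ᶜ, i.isClosedEmbedding.isClosed_range.isOpen_compl⟩
    let O : U.left.Opens := U.hom ⁻¹ᵁ C
    have hτ : τ.left.base (default : Spec (CommRingCat.of Ω)) ∈ O := by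
      show U.hom.base (τ.left.base (default : Spec (CommRingCat.of Ω))) ∈ (Set.range i.base)ᶜ
      have h2 : τ.left ≫ U.hom = ξ := Over.w τ
      have h3 : U.hom.base (τ.left.base (default : Spec (CommRingCat.of Ω))) =
          ξ.base (default : Spec (CommRingCat.of Ω)) :=
        congrArg (fun q : Spec (CommRingCat.of Ω) ⟶ X =>
          q.base (default : Spec (CommRingCat.of Ω))) h2
      rw [h3]
      intro hmem
      exact Set.disjoint_left.1 hξ ⟨default, rfl⟩ hmem
    obtain ⟨τ', hτ'⟩ := exists_res_lift ξ U O τ hτ
    haveI : IsEmpty ((EtCoh.bc i).obj (res U O)).left := by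
      constructor
      intro p
      have hc := congrArg (fun q => q.base p)
        (pullback.condition (f := (res U O).hom) (g := i))
      have h4 : (res U O).hom.base ((pullback.fst (res U O).hom i).base p) ∈
          (Set.range i.base)ᶜ :=
        ((pullback.fst (res U O).hom i).base p).2
      exact h4 ⟨(pullback.snd (res U O).hom i).base p, hc.symm⟩
    have hss : Subsingleton ↑(P'.obj (op (res U O))) :=
      subsingleton_sections_of_isEmpty G ((EtCoh.bc i).obj (res U O))
    have h5 : P'.map (resMap U O).op z = 0 := Subsingleton.elim _ _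
    have h6 := GrothendieckTopology.Point.toPresheafFiber_w_apply Φ (resMap U O) τ' P' z
    rw [hτ'] at h6
    rw [← h6, h5, map_zero]
  haveI : Subsingleton ((EtCoh.stalk ξ).obj ((EtCoh.push i).obj G)) :=
    ⟨fun a b => (hall a).trans (hall b).symm⟩
  exact AddCommGrpCat.isZero_of_subsingleton _

end Groth.Agent.S0069
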