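import Groth.Statements.S0100
import Mathlib
import Groth.Agent.S19885

set_option autoImplicit false
open CategoryTheory CategoryTheory.Limits AlgebraicGeometry Opposite
universe u
open EtBase

namespace Groth.Agent.S0100

open Groth.Agent.S19885

section general

universe w u₁

theorem initiallySmall_elements_of_iso {C : Type u₁} [Category.{w} C] {F₁ F₂ : C ⥤ Type w}
    (θ : F₁ ≅ F₂) [IsCofilteredOrEmpty F₂.Elements] [InitiallySmall.{w} F₁.Elements] :
    InitiallySmall.{w} F₂.Elements := by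
  obtain ⟨s₀, hs₀, h₀⟩ := InitiallySmall.exists_small_weakly_initial_set.{w} F₁.Elements
  haveI := hs₀
  refine initiallySmall_of_small_weakly_initial_set
    ((CategoryOfElements.map θ.hom).obj '' s₀) (fun i => ?_)
  obtain ⟨X, y⟩ := i
  obtain ⟨j₀, hj₀, ⟨k⟩⟩ := h₀ ⟨X, θ.inv.app X y⟩
  refine ⟨_, ⟨j₀, hj₀, rfl⟩, ⟨?_⟩⟩
  have hk := (CategoryOfElements.map θ.hom).map k
  have e : (CategoryOfElements.map θ.hom).obj ⟨X, θ.inv.app X y⟩ = ⟨X, y⟩ := by
    show (⟨X, θ.hom.app X (θ.inv.app X y)⟩ : F₂.Elements) = ⟨X, y⟩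
    have : θ.hom.app X (θ.inv.app X y) = y := by
      have h1 := congrArg (fun q => (ConcreteCategory.hom q) y) (θ.inv_hom_id_app X)
      simpa using h1
    rw [this]
  exact hk ≫ eqToHom e

end general

section helpers

variable {X Y : Scheme.{u}} (f : X ⟶ Y)
  {Ω : Type u} [Field Ω] [IsSepClosed Ω] (ξ : Spec (CommRingCat.of Ω) ⟶ X)

set_option backward.isDefEq.respectTransparency.types false in
/-- A geometric point of `U ×_Y X` over `ξ` gives a geometric point of `U` over `ξ ≫ f`. -/
noncomputable def downPt (U : Y.Etale)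
    (σ : (Scheme.pointSmallEtale ξ).fiber.obj ((EtCoh.bc f).obj U)) :
    (Scheme.pointSmallEtale (ξ ≫ f)).fiber.obj U :=
  (Over.homMk (σ.left ≫ pullback.fst U.hom f) (by
    have hσ : σ.left ≫ pullback.snd U.hom f = ξ := Over.w σ
    show (σ.left ≫ pullback.fst U.hom f) ≫ U.hom = ξ ≫ f
    erw [Category.assoc, pullback.condition, ← Category.assoc, hσ]) :
    (Over.mk (ξ ≫ f) : Over Y) ⟶ (Scheme.Etale.forget Y).obj U)

set_option backward.isDefEq.respectTransparency.types false in
theorem downPt_left (U : Y.Etale)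
    (σ : (Scheme.pointSmallEtale ξ).fiber.obj ((EtCoh.bc f).obj U)) :
    (downPt f ξ U σ).left = σ.left ≫ pullback.fst U.hom f := rfl

set_option backward.isDefEq.respectTransparency.types false in
theorem downPt_liftPt (U : Y.Etale) (τ : (Scheme.pointSmallEtale (ξ ≫ f)).fiber.obj U) :
    downPt f ξ U (liftPt f ξ U τ) = τ := by
  apply Over.OverMorphism.ext
  show (liftPt f ξ U τ).left ≫ pullback.fst U.hom f = τ.left
  exact liftPt_fst f ξ U τ

set_option backward.isDefEq.respectTransparency.types false in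
theorem liftPt_downPt (U : Y.Etale)
    (σ : (Scheme.pointSmallEtale ξ).fiber.obj ((EtCoh.bc f).obj U)) :
    liftPt f ξ U (downPt f ξ U σ) = σ := by
  apply Over.OverMorphism.ext
  have hσ : σ.left ≫ pullback.snd U.hom f = ξ := Over.w σ
  refine pullback.hom_ext (f := U.hom) (g := f) ?_ ?_
  · exact (liftPt_fst f ξ U (downPt f ξ U σ)).trans (downPt_left f ξ U σ)
  · exact (liftPt_snd f ξ U (downPt f ξ U σ)).trans hσ.symm

/-- The fibre functor of the geometric point `ξ ≫ f` is base change followed by the fibre functor of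
`ξ`. -/
noncomputable def fiberIso :
    (Scheme.pointSmallEtale (ξ ≫ f)).fiber ≅ EtCoh.bc f ⋙ (Scheme.pointSmallEtale ξ).fiber :=
  NatIso.ofComponents
    (fun U => Equiv.toIso ⟨liftPt f ξ U, downPt f ξ U, downPt_liftPt f ξ U, liftPt_downPt f ξ U⟩)
    (by
      intro U' U g
      ext τ'
      exact (liftPt_map f ξ g τ').symm)

end helpers

/-- Let f : X ⟶ Y be a morphism of schemes, G an abelian sheaf on the small étale site of Y and ξ : Spec
Ω ⟶ X a geometric point of X (Ω a separably closed field). Then the stalk of the inverse image f⁻¹G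
at ξ is isomorphic to the stalk of G at the image geometric point ξ ≫ f of Y. Only the existence of
an isomorphism is asserted; the published identification is canonical. -/
theorem result {X Y : Scheme.{u}} (f : X ⟶ Y) [EtCoh.BCCont f] (G : EtCoh.Ab Y)
    {Ω : Type u} [Field Ω] [IsSepClosed Ω] (ξ : Spec (CommRingCat.of Ω) ⟶ X) :
    Nonempty ((EtCoh.stalk ξ).obj ((EtCoh.pull f).obj G) ≅ (EtCoh.stalk (ξ ≫ f)).obj G) := by
  let Ψ := Scheme.pointSmallEtale ξ
  let Φ := Scheme.pointSmallEtale (ξ ≫ f)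
  have hF := EtCoh.coverPreserving_bc f
  let θ : Φ.fiber ≅ EtCoh.bc f ⋙ Ψ.fiber := fiberIso f ξ
  haveI : InitiallySmall.{u} (EtCoh.bc f ⋙ Ψ.fiber).Elements :=
    initiallySmall_elements_of_iso θ
  let Ψ' : Y.smallEtaleTopology.Point := Ψ.comap (EtCoh.bc f) hF
  let e1 : Ψ' ⟶ Φ := ⟨θ.hom⟩
  let e2 : Φ ⟶ Ψ' := ⟨θ.inv⟩
  have h12 : e1 ≫ e2 = 𝟙 Ψ' := by
    apply GrothendieckTopology.Point.hom_ext
    exact θ.inv_hom_id
  have h21 : e2 ≫ e1 = 𝟙 Φ := by
    apply GrothendieckTopology.Point.hom_ext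
    exact θ.hom_inv_id
  let iso1 : Ψ'.sheafFiber (A := AddCommGrpCat.{u + 1}) ≅ Φ.sheafFiber :=
    { hom := GrothendieckTopology.Point.Hom.sheafFiber e2
      inv := GrothendieckTopology.Point.Hom.sheafFiber e1
      hom_inv_id := by
        rw [← GrothendieckTopology.Point.Hom.sheafFiber_comp, h12,
          GrothendieckTopology.Point.Hom.sheafFiber_id]
      inv_hom_id := by
        rw [← GrothendieckTopology.Point.Hom.sheafFiber_comp, h21,
          GrothendieckTopology.Point.Hom.sheafFiber_id] }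
  let iso2 := Ψ.sheafFiberComapIso (EtCoh.bc f) hF AddCommGrpCat.{u + 1}
  exact ⟨(iso2.symm.app G).trans (iso1.app G)⟩

end Groth.Agent.S0100
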