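import Groth.Statements.S0622
import Mathlib
import Groth.Agent.H4.GeomPoints

set_option autoImplicit false
open CategoryTheory CategoryTheory.Limits AlgebraicGeometry Opposite
universe u
open EtCore

namespace Groth.Agent.S0622


open ZeroObject Groth.Agent.H4

theorem mono_iff {X : Scheme.{u}} {F G : EtCoh.Ab X} (a : F ⟶ G) :
    Mono a ↔ ∀ (Ω : Type u) [Field Ω] [IsSepClosed Ω] (ξ : Spec (CommRingCat.of Ω) ⟶ X),
      Function.Injective ((EtCoh.stalk ξ).map a) := by
  constructor
  · intro hv Ω _ _ ξ
    haveI : Sheaf.IsLocallyInjective a := by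
      rw [Sheaf.isLocallyInjective_iff_injective]
      intro U
      have h1 : Mono a.hom := (Sheaf.Hom.mono_iff_presheaf_mono _ _ a).1 hv
      have h2 : Mono (a.hom.app U) := inferInstance
      exact (AddCommGrpCat.mono_iff_injective _).1 h2
    exact (Scheme.pointSmallEtale ξ).toPresheafFiber_map_injective a.hom
  · intro h
    haveI : Sheaf.IsLocallyInjective a :=
      Groth.Agent.H4.isLocallyInjective_of_stalks a.hom h
    exact Sheaf.mono_of_isLocallyInjective a

theorem epi_iff {X : Scheme.{u}} {F G : EtCoh.Ab X} (a : F ⟶ G) :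
    Epi a ↔ ∀ (Ω : Type u) [Field Ω] [IsSepClosed Ω] (ξ : Spec (CommRingCat.of Ω) ⟶ X),
      Function.Surjective ((EtCoh.stalk ξ).map a) := by
  constructor
  · intro hv Ω _ _ ξ
    haveI : Sheaf.IsLocallySurjective a := (Sheaf.isLocallySurjective_iff_epi' _ a).2 hv
    exact (Scheme.pointSmallEtale ξ).toPresheafFiber_map_surjective a.hom
  · intro h
    haveI : Sheaf.IsLocallySurjective a :=
      Groth.Agent.H4.isLocallySurjective_of_stalks a.hom h
    infer_instance

/-- Exactness of a three-term complex of abelian etale sheaves can be tested on stalks at all geometric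
points; likewise a morphism of abelian etale sheaves is a monomorphism, respectively an epimorphism,
exactly when every geometric stalk map is injective, respectively surjective. -/
theorem result {X : Scheme.{u}} (S : ShortComplex (EtCoh.Ab X)) {F G : EtCoh.Ab X} (a : F ⟶ G) :
    (S.Exact ↔ ∀ (Ω : Type u) [Field Ω] [IsSepClosed Ω] (ξ : Spec (CommRingCat.of Ω) ⟶ X),
      (S.map (EtCoh.stalk ξ)).Exact) ∧
    (Mono a ↔ ∀ (Ω : Type u) [Field Ω] [IsSepClosed Ω] (ξ : Spec (CommRingCat.of Ω) ⟶ X),
      Function.Injective ((EtCoh.stalk ξ).map a)) ∧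
    (Epi a ↔ ∀ (Ω : Type u) [Field Ω] [IsSepClosed Ω] (ξ : Spec (CommRingCat.of Ω) ⟶ X),
      Function.Surjective ((EtCoh.stalk ξ).map a)) := by
  refine ⟨⟨fun hS Ω _ _ ξ => ?_, fun h => ?_⟩, mono_iff a, epi_iff a⟩
  · haveI : PreservesFiniteLimits (EtCoh.stalk ξ) := inferInstance
    haveI : PreservesFiniteColimits (EtCoh.stalk ξ) := inferInstance
    exact hS.map (EtCoh.stalk ξ)
  · rw [ShortComplex.exact_iff_isZero_homology]
    have hepi : Epi (0 : (0 : EtCoh.Ab X) ⟶ S.homology) := by
      rw [epi_iff]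
      intro Ω _ _ ξ
      haveI : PreservesFiniteLimits (EtCoh.stalk ξ) := inferInstance
      haveI : PreservesFiniteColimits (EtCoh.stalk ξ) := inferInstance
      have hz : IsZero ((EtCoh.stalk ξ).obj S.homology) := by
        have h1 := h Ω ξ
        rw [ShortComplex.exact_iff_isZero_homology] at h1
        exact h1.of_iso (S.mapHomologyIso (EtCoh.stalk ξ)).symm
      haveI := AddCommGrpCat.subsingleton_of_isZero hz
      intro y
      exact ⟨0, Subsingleton.elim _ _⟩
    exact IsZero.of_epi_eq_zero (0 : (0 : EtCoh.Ab X) ⟶ S.homology) rfl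

end Groth.Agent.S0622
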