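import Groth.Statements.S0651
import Mathlib.CategoryTheory.Adjunction.Triple
import Mathlib.CategoryTheory.Monad.Adjunction
import Mathlib.CategoryTheory.Adjunction.FullyFaithful

set_option autoImplicit false
open CategoryTheory CategoryTheory.Limits AlgebraicGeometry Opposite
universe u
open EtCore

namespace Groth.Agent.S0651

/-- For an open immersion j : U -> X and an abelian sheaf F on the small etale site of U, the counit
j^{-1} j_* F -> F of the pullback/direct image adjunction and the unit F -> j^{-1} j_! F of the
extension-by-zero/restriction adjunction are isomorphisms. (Continuity of the composition functor of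
etale sites, which always holds, is carried as an instance hypothesis.) -/
theorem result {U X : Scheme.{u}} (j : U ⟶ X) [IsOpenImmersion j]
    [AlgebraicGeometry.Etale j] [EtShriek.JCont j] (F : EtCoh.Ab U) :
    IsIso ((EtCoh.pullPushAdj j).counit.app F) ∧ IsIso ((EtShriek.extZeroAdj j).unit.app F) := by
  have hj : EtCoh.etaleMP j := ‹AlgebraicGeometry.Etale j›
  let adj : EtShriek.compEtale j ⊣ EtCoh.bc j :=
    MorphismProperty.Over.mapPullbackAdj EtCoh.etaleMP ⊤ j hj trivial
  haveI : IsIso adj.unit := inferInstance
  let e : EtShriek.compEtale j ⋙ EtCoh.bc j ≅ 𝟭 U.Etale := (asIso adj.unit).symm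
  let adj₂ : EtShriek.restrAlong j ⊣ EtCoh.push j :=
    adj.sheafPushforwardContinuous (E := AddCommGrpCat.{u+1}) U.smallEtaleTopology X.smallEtaleTopology
  let i : EtCoh.push j ⋙ EtShriek.restrAlong j ≅ 𝟭 (EtCoh.Ab U) :=
    Functor.sheafPushforwardContinuousComp' (F := EtShriek.compEtale j) (G := EtCoh.bc j)
      (FG := 𝟭 U.Etale) e
      AddCommGrpCat.{u+1} U.smallEtaleTopology X.smallEtaleTopology U.smallEtaleTopology ≪≫
      Functor.sheafPushforwardContinuousId _ _
  haveI h2 : IsIso adj₂.counit := adj₂.isIso_counit_of_iso i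
  let t : Adjunction.Triple (EtShriek.extZero j) (EtShriek.restrAlong j) (EtCoh.push j) :=
    ⟨EtShriek.extZeroAdj j, adj₂⟩
  haveI h1 : IsIso (EtShriek.extZeroAdj j).unit := t.isIso_unit_iff_isIso_counit.2 h2
  constructor
  · let ff := adj₂.fullyFaithfulROfIsIsoCounit
    haveI := ff.full
    haveI := ff.faithful
    infer_instance
  · infer_instance

end Groth.Agent.S0651
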