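import Groth.Statements.S6642
import Mathlib
import Groth.Agent.H4.PullLC
import Groth.Agent.H4.PullLCMod

set_option autoImplicit false
open CategoryTheory CategoryTheory.Limits AlgebraicGeometry Opposite
universe u
open EtCore

namespace Groth.Agent.S6642

/-- Abelian sheaves and sheaves of modules: for a morphism of schemes f : X ⟶ Y, inverse image along f
on the small etale sites preserves locally constant abelian sheaves, finite locally constant abelian
sheaves, and finite type locally constant sheaves of Λ-modules. (The published statement also covers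
sheaves of sets and all locally constant sheaves of modules; this row treats the abelian and
finite-type module cases.) -/
theorem result {X Y : Scheme.{u}} (f : X ⟶ Y) :
    (∀ G : EtCoh.Ab Y, EtRest.IsLocallyConstant G → EtRest.IsLocallyConstant ((EtCoh.pull f).obj G)) ∧
    (∀ G : EtCoh.Ab Y, EtCoh.IsFiniteLocallyConstant G → EtCoh.IsFiniteLocallyConstant ((EtCoh.pull f).obj G)) ∧
    (∀ (Λ : Type (u + 1)) [CommRing Λ] (G : EtModW.Mod Λ Y),
      EtModW.IsFTLocConst Λ G → EtModW.IsFTLocConst Λ ((EtModW.pull Λ f).obj G)) := by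
  refine ⟨?_, ?_, ?_⟩
  · rintro G ⟨ι, U, hU, hloc⟩
    refine ⟨ι, fun i => (EtCoh.bc f).obj (U i), Groth.Agent.H4.PullLC.covers_bc f U hU, ?_⟩
    intro i
    obtain ⟨M, hM, ⟨e⟩⟩ := hloc i
    let a : G.over (U i) ≅
        (Groth.Agent.H4.GenStalk.cs (X := Y) (AddCommGrpCat.of M)).over (U i) :=
      e ≪≫ Groth.Agent.H4.OverConst.constOverIso (U i) (AddCommGrpCat.of M)
    obtain ⟨b⟩ := Groth.Agent.H4.PullLC.pull_over_iso f G (U i) (AddCommGrpCat.of M) a
    exact ⟨M, hM, ⟨b ≪≫ (Groth.Agent.H4.OverConst.constOverIso ((EtCoh.bc f).obj (U i))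
      (AddCommGrpCat.of M)).symm⟩⟩
  · rintro G ⟨ι, U, hU, hloc⟩
    refine ⟨ι, fun i => (EtCoh.bc f).obj (U i), Groth.Agent.H4.PullLC.covers_bc f U hU, ?_⟩
    intro i
    obtain ⟨M, hM, hfin, ⟨e⟩⟩ := hloc i
    let a : G.over (U i) ≅
        (Groth.Agent.H4.GenStalk.cs (X := Y) (AddCommGrpCat.of (ULift.{u + 1} M))).over (U i) :=
      e ≪≫ Groth.Agent.H4.OverConst.constOverIso (U i) (AddCommGrpCat.of (ULift.{u + 1} M))
    obtain ⟨b⟩ := Groth.Agent.H4.PullLC.pull_over_iso f G (U i)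
      (AddCommGrpCat.of (ULift.{u + 1} M)) a
    exact ⟨M, hM, hfin, ⟨b ≪≫ (Groth.Agent.H4.OverConst.constOverIso ((EtCoh.bc f).obj (U i))
      (AddCommGrpCat.of (ULift.{u + 1} M))).symm⟩⟩
  · intro Λ _ G
    rintro ⟨ι, U, hU, hloc⟩
    refine ⟨ι, fun i => (EtCoh.bc f).obj (U i), Groth.Agent.H4.PullLC.covers_bc f U hU, ?_⟩
    intro i
    obtain ⟨M, hM, hmod, hfin, ⟨e⟩⟩ := hloc i
    let a : G.over (U i) ≅
        (Groth.Agent.H4.GenStalkMod.cs (X := Y) (ModuleCat.of Λ M)).over (U i) :=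
      e ≪≫ Groth.Agent.H4.OverConstMod.constOverIso (U i) (ModuleCat.of Λ M)
    obtain ⟨b⟩ := Groth.Agent.H4.PullLCMod.pull_over_iso f G (U i) (ModuleCat.of Λ M) a
    exact ⟨M, hM, hmod, hfin, ⟨b ≪≫ (Groth.Agent.H4.OverConstMod.constOverIso
      ((EtCoh.bc f).obj (U i)) (ModuleCat.of Λ M)).symm⟩⟩

end Groth.Agent.S6642
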