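import Groth.Statements.S9392
import Mathlib
import Groth.Agent.H47.IntegralClosureLoc

set_option autoImplicit false
universe u
open CAlg

namespace Groth.Agent.S9392

/-- A localization of an N-2 (Japanese) domain which is again a domain is N-2. -/
theorem result (R : Type u) [CommRing R] [IsDomain R] (M : Submonoid R)
    (S : Type u) [CommRing S] [IsDomain S] [Algebra R S] [IsLocalization M S]
    (h : CAlg.IsN2 R) : CAlg.IsN2 S := by
  intro L _ _ _ _ hfd
  haveI : IsFractionRing R (FractionRing S) :=
    Groth.Agent.H47.isFractionRing_of_isLocalization_of_isFractionRing (S := S) M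
  let e : FractionRing R ≃ₐ[R] FractionRing S := FractionRing.algEquiv R (FractionRing S)
  letI algRL : Algebra R L := ((algebraMap S L).comp (algebraMap R S)).toAlgebra
  haveI : IsScalarTower R S L := IsScalarTower.of_algebraMap_eq (fun _ => rfl)
  letI algFF : Algebra (FractionRing R) (FractionRing S) := (e : FractionRing R →+* FractionRing S).toAlgebra
  letI algFL : Algebra (FractionRing R) L :=
    ((algebraMap (FractionRing S) L).comp (algebraMap (FractionRing R) (FractionRing S))).toAlgebra
  haveI : IsScalarTower (FractionRing R) (FractionRing S) L :=
    IsScalarTower.of_algebraMap_eq (fun _ => rfl)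
  haveI : IsScalarTower R (FractionRing R) L := IsScalarTower.of_algebraMap_eq (fun r => by
    show algebraMap S L (algebraMap R S r) =
      algebraMap (FractionRing S) L (e (algebraMap R (FractionRing R) r))
    rw [e.commutes, IsScalarTower.algebraMap_apply R S (FractionRing S),
      ← IsScalarTower.algebraMap_apply S (FractionRing S) L])
  haveI : Module.Finite (FractionRing R) (FractionRing S) :=
    RingHom.finite_algebraMap.mp (RingHom.Finite.of_surjective _ e.surjective)
  haveI : Module.Finite (FractionRing S) L := hfd
  haveI : Module.Finite (FractionRing R) L := Module.Finite.trans (FractionRing S) L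
  have h1 : Module.Finite R (integralClosure R L) := h L inferInstance
  exact Groth.Agent.H47.finite_integralClosure_of_isLocalization M h1

end Groth.Agent.S9392
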