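import Groth.Statements.S2150
import Mathlib
import Groth.Agent.H13.GeomIrr
-- import your own Groth.Agent.* helpers here

set_option autoImplicit false
universe u
open CAlg

namespace Groth.Agent.S2150

open TensorProduct Polynomial Groth.Agent.H13.GeomIrr

/-- If `k` is separably closed in `K`, then `k' ⊗[k] K` has prime nilradical for all fields `k'`. -/
theorem backward {k K : Type u} [Field k] [Field K] [Algebra k K]
    (hK : ∀ α : K, IsSeparable k α → α ∈ Set.range (algebraMap k K))
    (k' : Type u) [Field k'] [Algebra k k'] : (nilradical (k' ⊗[k] K)).IsPrime := by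
  let Ω₁ := AlgebraicClosure k'
  let Ω₂ := AlgebraicClosure K
  let F : IntermediateField k Ω₁ := algebraicClosure k Ω₁
  haveI : IsAlgClosed F := IsAlgClosure.isAlgClosed k
  let E : IntermediateField k F := separableClosure k F
  let j₂ : F →ₐ[k] Ω₂ := IsAlgClosed.lift
  letI : Algebra F Ω₂ := j₂.toRingHom.toAlgebra
  haveI : IsScalarTower k F Ω₂ := IsScalarTower.of_algebraMap_eq (fun x => (j₂.commutes x).symm)
  have hΩ : (nilradical (Ω₁ ⊗[k] K)).IsPrime := core (E := E) (F := F) (Ω₂ := Ω₂) hK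
  let f : k' →ₐ[k] Ω₁ := IsScalarTower.toAlgHom k k' Ω₁
  let g : k' ⊗[k] K →ₐ[k] Ω₁ ⊗[k] K := Algebra.TensorProduct.map f (AlgHom.id k K)
  have hg : Function.Injective g := map_injective_of_injective f (algebraMap k' Ω₁).injective
  exact nilradical_isPrime_of_injective g.toRingHom hg hΩ

/-- If all `k' ⊗[k] K` have prime nilradical, then `k` is separably closed in `K`. -/
theorem forward {k K : Type u} [Field k] [Field K] [Algebra k K]
    (h : ∀ (k' : Type u) [Field k'] [Algebra k k'], (nilradical (k' ⊗[k] K)).IsPrime)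
    (α : K) (hα : IsSeparable k α) : α ∈ Set.range (algebraMap k K) := by
  classical
  by_contra hna
  have hint : IsIntegral k α := hα.isIntegral
  let f : k[X] := minpoly k α
  have hirr : Irreducible f := minpoly.irreducible hint
  haveI : Fact (Irreducible f) := ⟨hirr⟩
  have hfsep : f.Separable := hα
  have hdeg : 2 ≤ f.natDegree := (minpoly.two_le_natDegree_iff hint).2 (fun hmem => hna hmem)
  let fK : K[X] := f.map (algebraMap k K)
  have hroot : fK.IsRoot α := by
    rw [Polynomial.IsRoot.def, Polynomial.eval_map_algebraMap]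
    exact minpoly.aeval k α
  let g : K[X] := fK /ₘ (X - C α)
  have hg : (X - C α) * g = fK := Polynomial.mul_divByMonic_eq_iff_isRoot.2 hroot
  have hfKsep : fK.Separable := hfsep.map
  have hcop : IsCoprime (X - C α) g := by
    have h1 : ((X - C α) * g).Separable := by
      rw [hg]
      exact hfKsep
    exact h1.isCoprime
  have hgα : g.eval α ≠ 0 := by
    obtain ⟨a, b, hab⟩ := hcop
    intro h0
    have h1 := congrArg (Polynomial.eval α) hab
    simp [h0] at h1
  have hg0 : g ≠ 0 := by
    rintro h0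
    rw [h0] at hgα
    simp at hgα
  have hgdeg : 1 ≤ g.natDegree := by
    have h1 := congrArg Polynomial.natDegree hg
    rw [Polynomial.natDegree_mul (Polynomial.X_sub_C_ne_zero α) hg0, Polynomial.natDegree_X_sub_C,
      Polynomial.natDegree_map] at h1
    omega
  let L := AlgebraicClosure K
  obtain ⟨α', hα'⟩ := IsAlgClosed.exists_aeval_eq_zero L g
    (Polynomial.natDegree_pos_iff_degree_pos.1 hgdeg).ne'
  have hα'ne : α' ≠ algebraMap K L α := by
    rintro rfl
    rw [Polynomial.aeval_algebraMap_apply_eq_algebraMap_eval] at hα'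
    have h1 : g.eval α = 0 := (algebraMap K L).injective (by rw [hα', map_zero])
    exact hgα h1
  have hα'f : Polynomial.aeval α' f = 0 := by
    have h1 : Polynomial.aeval α' fK = 0 := by
      rw [← hg, map_mul, hα', mul_zero]
    rwa [Polynomial.aeval_map_algebraMap] at h1
  let r : AdjoinRoot f := AdjoinRoot.root f
  let σ₁ : AdjoinRoot f →ₐ[k] K := AdjoinRoot.liftAlgHom f (Algebra.ofId k K) α (by
    have h1 := minpoly.aeval k α
    rw [Polynomial.aeval_def] at h1
    exact h1)
  let σ₂ : AdjoinRoot f →ₐ[k] L := AdjoinRoot.liftAlgHom f (Algebra.ofId k L) α' (by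
    rw [Polynomial.aeval_def] at hα'f
    exact hα'f)
  let μ₁ : AdjoinRoot f ⊗[k] K →ₐ[k] K :=
    Algebra.TensorProduct.lift σ₁ (AlgHom.id k K) (fun _ _ => Commute.all _ _)
  let μ₂ : AdjoinRoot f ⊗[k] K →ₐ[k] L :=
    Algebra.TensorProduct.lift σ₂ (IsScalarTower.toAlgHom k K L) (fun _ _ => Commute.all _ _)
  let ι₂ : K →+* AdjoinRoot f ⊗[k] K := (Algebra.TensorProduct.includeRight : K →ₐ[k] AdjoinRoot f ⊗[k] K).toRingHom
  let u : AdjoinRoot f ⊗[k] K := r ⊗ₜ[k] (1 : K) - (1 : AdjoinRoot f) ⊗ₜ[k] α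
  let v : AdjoinRoot f ⊗[k] K := g.eval₂ ι₂ (r ⊗ₜ[k] (1 : K))
  have huv : u * v = 0 := by
    have hu : u = (X - C α : K[X]).eval₂ ι₂ (r ⊗ₜ[k] (1 : K)) := by
      simp [u, ι₂]
    rw [hu, ← Polynomial.eval₂_mul, hg]
    show (f.map (algebraMap k K)).eval₂ ι₂ (r ⊗ₜ[k] (1 : K)) = 0
    rw [Polynomial.eval₂_map]
    have hcomp : ι₂.comp (algebraMap k K) = algebraMap k (AdjoinRoot f ⊗[k] K) := by
      ext c
      simp [ι₂]
    rw [hcomp, ← Polynomial.aeval_def]
    have h1 : r ⊗ₜ[k] (1 : K) = (Algebra.TensorProduct.includeLeft : AdjoinRoot f →ₐ[k] AdjoinRoot f ⊗[k] K) r := rfl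
    rw [h1, Polynomial.aeval_algHom_apply, AdjoinRoot.aeval_eq, AdjoinRoot.mk_self, map_zero]
  have hμ₁v : μ₁ v = g.eval α := by
    have h1 := Polynomial.hom_eval₂ g ι₂ (μ₁ : AdjoinRoot f ⊗[k] K →+* K) (r ⊗ₜ[k] (1 : K))
    have hc : (μ₁ : AdjoinRoot f ⊗[k] K →+* K).comp ι₂ = RingHom.id K := by
      ext b
      simp [μ₁, ι₂]
    have hr : (μ₁ : AdjoinRoot f ⊗[k] K →+* K) (r ⊗ₜ[k] (1 : K)) = α := by
      simp [μ₁, σ₁, r]
    rw [hc, hr, Polynomial.eval₂_id] at h1
    exact h1
  have hμ₂u : μ₂ u = α' - algebraMap K L α := by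
    simp [μ₂, σ₂, u, r]
  have hprime := h (AdjoinRoot f)
  have hmem : u * v ∈ nilradical (AdjoinRoot f ⊗[k] K) := by
    rw [huv]
    exact zero_mem _
  rcases hprime.mem_or_mem hmem with hu | hv
  · have h1 : IsNilpotent (μ₂ u) := (mem_nilradical.1 hu).map μ₂
    rw [hμ₂u] at h1
    exact hα'ne (sub_eq_zero.1 h1.eq_zero)
  · have h1 : IsNilpotent (μ₁ v) := (mem_nilradical.1 hv).map μ₁
    rw [hμ₁v] at h1
    exact hgα h1.eq_zero

open TensorProduct in
/-- For a field extension `K/k`, the spectrum of `k' ⊗_k K` is irreducible for every field extension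
`k'/k` (geometric irreducibility, extensions in the same universe) if and only if every element of
`K` which is separable algebraic over `k` lies in `k`. -/
theorem result {k K : Type u} [Field k] [Field K] [Algebra k K] :
    (∀ (k' : Type u) [Field k'] [Algebra k k'], IrreducibleSpace (PrimeSpectrum (k' ⊗[k] K))) ↔
      ∀ α : K, IsSeparable k α → α ∈ Set.range (algebraMap k K) := by
  constructor
  · intro h α hα
    refine forward (fun k' _ _ => ?_) α hα
    rw [← PrimeSpectrum.irreducibleSpace_iff_isPrime_nilradical]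
    exact h k'
  · intro h k' _ _
    rw [PrimeSpectrum.irreducibleSpace_iff_isPrime_nilradical]
    exact backward h k'

end Groth.Agent.S2150
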