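import Groth.Statements.S10831
-- import your own Groth.Agent.* helpers here

set_option autoImplicit false
universe u
open Topology TopologicalSpace
open TopDim

namespace Groth.Agent.S10831

theorem isIrreducible_preimage_val {X : Type u} [TopologicalSpace X] {C s : Set X}
    (hs : IsIrreducible s) (hsC : s ⊆ C) : IsIrreducible ((Subtype.val : C → X) ⁻¹' s) := by
  obtain ⟨⟨x, hx⟩, hpre⟩ := hs
  refine ⟨⟨⟨x, hsC hx⟩, hx⟩, ?_⟩
  intro U' V' hU' hV' hU hV
  obtain ⟨U, hUo, rfl⟩ := isOpen_induced_iff.mp hU'
  obtain ⟨V, hVo, rfl⟩ := isOpen_induced_iff.mp hV'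
  obtain ⟨a, ha, haU⟩ := hU
  obtain ⟨b, hb, hbV⟩ := hV
  obtain ⟨c, hc, hcUV⟩ := hpre U V hUo hVo ⟨a.1, ha, haU⟩ ⟨b.1, hb, hbV⟩
  exact ⟨⟨c, hsC hc⟩, hc, hcUV⟩

/-- The Krull dimension of a topological space is the supremum of the Krull dimensions of its
irreducible components. -/
theorem result (X : Type u) [TopologicalSpace X] :
    topologicalKrullDim X = ⨆ Y ∈ irreducibleComponents X, topologicalKrullDim ↥Y := by
  apply le_antisymm
  · unfold topologicalKrullDim
    rw [Order.krullDim]
    apply iSup_le
    intro p
    obtain ⟨C, hC, hpC⟩ := exists_mem_irreducibleComponents_subset_of_isIrreducible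
      (p.last : Set X) p.last.isIrreducible
    have hsub : ∀ i, (p i : Set X) ⊆ C := fun i =>
      (show (p i : Set X) ⊆ (p.last : Set X) from p.monotone (Fin.le_last i)).trans hpC
    let q : LTSeries (IrreducibleCloseds C) := LTSeries.mk p.length
      (fun i => ⟨Subtype.val ⁻¹' (p i : Set X), isIrreducible_preimage_val (p i).isIrreducible (hsub i),
        (p i).isClosed.preimage continuous_subtype_val⟩)
      (by
        intro i j hij
        have h := p.strictMono hij
        refine lt_of_le_of_ne (fun x hx => (le_of_lt h) hx) ?_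
        intro heq
        apply ne_of_lt h
        apply IrreducibleCloseds.ext
        have h2 : (Subtype.val : C → X) ⁻¹' (p i : Set X) = Subtype.val ⁻¹' (p j : Set X) :=
          congrArg (fun Z : IrreducibleCloseds C => (Z : Set C)) heq
        have hi : (p i : Set X) = Subtype.val '' ((Subtype.val : C → X) ⁻¹' (p i : Set X)) := by
          rw [Subtype.image_preimage_coe, Set.inter_eq_right.mpr (hsub i)]
        have hj : (p j : Set X) = Subtype.val '' ((Subtype.val : C → X) ⁻¹' (p j : Set X)) := by
          rw [Subtype.image_preimage_coe, Set.inter_eq_right.mpr (hsub j)]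
        rw [hi, hj, h2])
    calc (p.length : WithBot ℕ∞) = q.length := rfl
      _ ≤ Order.krullDim (IrreducibleCloseds C) := Order.LTSeries.length_le_krullDim q
      _ ≤ _ := le_iSup₂ (f := fun (Y : Set X) (_ : Y ∈ irreducibleComponents X) =>
          Order.krullDim (IrreducibleCloseds Y)) C hC
  · exact iSup₂_le fun Y _ => topologicalKrullDim_subspace_le X Y

end Groth.Agent.S10831
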