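import Groth.Statements.S8384
import Mathlib.AlgebraicGeometry.Stalk
import Mathlib.RingTheory.AdicCompletion.RingHom

set_option autoImplicit false
universe u
open CategoryTheory MonoidalCategory CartesianMonoidalCategory MonObj GrpObj AlgebraicGeometry
open SGA3x

namespace Groth.Agent.S8384

section helpers

variable (A : Type u) [CommRing A] [IsLocalRing A]

local notation "𝔪" => IsLocalRing.maximalIdeal A

theorem pow_succ_ne_top (n : ℕ) : (𝔪) ^ (n + 1) ≠ ⊤ := by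
  intro h
  have h1 : (𝔪) ^ (n + 1) ≤ 𝔪 := Ideal.pow_le_self (Nat.succ_ne_zero n)
  rw [h] at h1
  exact (IsLocalRing.maximalIdeal.isMaximal A).ne_top (top_le_iff.mp h1)

theorem nontriv (n : ℕ) : Nontrivial (A ⧸ (𝔪) ^ (n + 1)) :=
  Ideal.Quotient.nontrivial_iff.mpr (pow_succ_ne_top A n)

theorem locQ (n : ℕ) : IsLocalRing (A ⧸ (𝔪) ^ (n + 1)) :=
  haveI := nontriv A n
  IsLocalRing.of_surjective' (Ideal.Quotient.mk _) Ideal.Quotient.mk_surjective

theorem locHomMk (n : ℕ) : IsLocalHom (Ideal.Quotient.mk ((𝔪) ^ (n + 1))) :=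
  haveI := nontriv A n
  IsLocalHom.of_surjective _ Ideal.Quotient.mk_surjective

theorem stalk_ext [IsHausdorff (𝔪) A] {X : Scheme.{u}} (x : X)
    (φ ψ : X.presheaf.stalk x ⟶ CommRingCat.of A)
    (h : ∀ n : ℕ, Spec.map (CommRingCat.ofHom (Ideal.Quotient.mk ((𝔪) ^ n))) ≫ Spec.map φ ≫ X.fromSpecStalk x =
      Spec.map (CommRingCat.ofHom (Ideal.Quotient.mk ((𝔪) ^ n))) ≫ Spec.map ψ ≫ X.fromSpecStalk x) :
    φ = ψ := by
  have h1 : ∀ n : ℕ, φ ≫ CommRingCat.ofHom (Ideal.Quotient.mk ((𝔪) ^ n)) =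
      ψ ≫ CommRingCat.ofHom (Ideal.Quotient.mk ((𝔪) ^ n)) := by
    intro n
    have := h n
    rw [← Category.assoc, ← Category.assoc, cancel_mono, ← Spec.map_comp, ← Spec.map_comp] at this
    exact Spec.map_injective this
  ext a
  rw [← sub_eq_zero]
  apply IsHausdorff.haus' (I := 𝔪)
  intro n
  rw [SModEq.zero, smul_eq_mul, Ideal.mul_top]
  have := congr($(h1 n) a)
  simp only [CommRingCat.comp_apply, CommRingCat.ofHom_hom] at this
  exact Ideal.Quotient.eq.mp this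


theorem part1 [IsHausdorff (𝔪) A] (X : Scheme.{u}) (f g : (Spec (CommRingCat.of A)) ⟶ X)
    (h : ∀ n : ℕ, (Spec.map (CommRingCat.ofHom (Ideal.Quotient.mk ((𝔪) ^ n)))) ≫ f =
      (Spec.map (CommRingCat.ofHom (Ideal.Quotient.mk ((𝔪) ^ n)))) ≫ g) : f = g := by
  have hpt : f (IsLocalRing.closedPoint A) = g (IsLocalRing.closedPoint A) := by
    have := locQ A 0
    have : IsLocalHom (CommRingCat.ofHom (Ideal.Quotient.mk ((𝔪) ^ (0 + 1)))).hom := locHomMk A 0
    have h0 := h (0 + 1)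
    have h2 : (Spec.map (CommRingCat.ofHom (Ideal.Quotient.mk ((𝔪) ^ (0 + 1))))).base
        (IsLocalRing.closedPoint (A ⧸ (𝔪) ^ (0 + 1))) = IsLocalRing.closedPoint A :=
      Spec_closedPoint (R := CommRingCat.of A) (S := CommRingCat.of (A ⧸ (𝔪) ^ (0 + 1)))
    have h1 : f.base ((Spec.map (CommRingCat.ofHom (Ideal.Quotient.mk ((𝔪) ^ (0 + 1))))).base
        (IsLocalRing.closedPoint (A ⧸ (𝔪) ^ (0 + 1)))) =
        g.base ((Spec.map (CommRingCat.ofHom (Ideal.Quotient.mk ((𝔪) ^ (0 + 1))))).base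
        (IsLocalRing.closedPoint (A ⧸ (𝔪) ^ (0 + 1)))) :=
      congrArg (fun t : Spec (CommRingCat.of (A ⧸ (𝔪) ^ (0 + 1))) ⟶ X =>
        t.base (IsLocalRing.closedPoint (A ⧸ (𝔪) ^ (0 + 1)))) h0
    have key : ∀ y : Spec (CommRingCat.of A), y = IsLocalRing.closedPoint A → f.base y = g.base y →
        f (IsLocalRing.closedPoint A) = g (IsLocalRing.closedPoint A) := by
      rintro y rfl hy; exact hy
    exact key _ h2 h1
  obtain ⟨φg, hφg⟩ : ∃ φ : X.presheaf.stalk (f (IsLocalRing.closedPoint A)) ⟶ CommRingCat.of A,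
      g = Spec.map φ ≫ X.fromSpecStalk (f (IsLocalRing.closedPoint A)) := by
    rw [hpt]
    exact ⟨_, (Scheme.Spec_stalkClosedPointTo_fromSpecStalk g).symm⟩
  have hf := (Scheme.Spec_stalkClosedPointTo_fromSpecStalk f).symm
  rw [hf, hφg]
  rw [stalk_ext A _ (Scheme.stalkClosedPointTo f) φg]
  intro n
  rw [← hf, ← hφg]
  exact h n


theorem locHomFactor (n : ℕ) : IsLocalHom (Ideal.Quotient.factor
    (Ideal.pow_le_pow_right (I := 𝔪) (Nat.le_succ (n + 1)))) :=
  haveI := nontriv A n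
  haveI := locQ A (n + 1)
  IsLocalHom.of_surjective _ (Ideal.Quotient.factor_surjective _)

theorem part2 [IsAdicComplete (𝔪) A] (X : Scheme.{u})
    (u : (n : ℕ) → (Spec (CommRingCat.of (A ⧸ (𝔪) ^ n)) ⟶ X))
    (hu : ∀ n : ℕ, (Spec.map (CommRingCat.ofHom (Ideal.Quotient.factor
          (Ideal.pow_le_pow_right (I := 𝔪) (Nat.le_succ n))))) ≫ u (n + 1) = u n) :
    ∃ f : (Spec (CommRingCat.of A)) ⟶ X, ∀ n : ℕ,
      (Spec.map (CommRingCat.ofHom (Ideal.Quotient.mk ((𝔪) ^ n)))) ≫ f = u n := by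
  have hloc := locQ A
  let x : ℕ → X := fun n => (u (n + 1)).base (IsLocalRing.closedPoint (A ⧸ (𝔪) ^ (n + 1)))
  have hx1 : ∀ n, x (n + 1) = x n := by
    intro n
    have : IsLocalHom (CommRingCat.ofHom (Ideal.Quotient.factor
      (Ideal.pow_le_pow_right (I := 𝔪) (Nat.le_succ (n + 1))))).hom := locHomFactor A n
    have h2 : (Spec.map (CommRingCat.ofHom (Ideal.Quotient.factor
        (Ideal.pow_le_pow_right (I := 𝔪) (Nat.le_succ (n + 1)))))).base
        (IsLocalRing.closedPoint (A ⧸ (𝔪) ^ (n + 1))) = IsLocalRing.closedPoint (A ⧸ (𝔪) ^ (n + 1 + 1)) :=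
      Spec_closedPoint (R := CommRingCat.of (A ⧸ (𝔪) ^ (n + 1 + 1))) (S := CommRingCat.of (A ⧸ (𝔪) ^ (n + 1)))
    have h1 : (u (n + 1 + 1)).base ((Spec.map (CommRingCat.ofHom (Ideal.Quotient.factor
        (Ideal.pow_le_pow_right (I := 𝔪) (Nat.le_succ (n + 1)))))).base
        (IsLocalRing.closedPoint (A ⧸ (𝔪) ^ (n + 1)))) = x n :=
      congrArg (fun t : Spec (CommRingCat.of (A ⧸ (𝔪) ^ (n + 1))) ⟶ X =>
        t.base (IsLocalRing.closedPoint (A ⧸ (𝔪) ^ (n + 1)))) (hu (n + 1))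
    have key : ∀ y : Spec (CommRingCat.of (A ⧸ (𝔪) ^ (n + 1 + 1))),
        y = IsLocalRing.closedPoint (A ⧸ (𝔪) ^ (n + 1 + 1)) → (u (n + 1 + 1)).base y = x n →
        x (n + 1) = x n := by
      rintro y rfl hy; exact hy
    exact key _ h2 h1
  have hx : ∀ n, x n = x 0 := by
    intro n
    induction n with
    | zero => rfl
    | succ n ih => rw [hx1, ih]
  have hex : ∀ n, ∃ ψ : X.presheaf.stalk (x 0) ⟶ CommRingCat.of (A ⧸ (𝔪) ^ (n + 1)),
      u (n + 1) = Spec.map ψ ≫ X.fromSpecStalk (x 0) := by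
    intro n
    rw [← hx n]
    exact ⟨_, (Scheme.Spec_stalkClosedPointTo_fromSpecStalk (u (n + 1))).symm⟩
  choose ψ hψ using hex
  have hcompat : ∀ n, ψ (n + 1) ≫ CommRingCat.ofHom (Ideal.Quotient.factor
      (Ideal.pow_le_pow_right (I := 𝔪) (Nat.le_succ (n + 1)))) = ψ n := by
    intro n
    have := hu (n + 1)
    rw [hψ (n + 1), hψ n, ← Category.assoc, cancel_mono, ← Spec.map_comp] at this
    exact Spec.map_injective this
  have hcompat' : ∀ n, (Ideal.Quotient.factor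
      (Ideal.pow_le_pow_right (I := 𝔪) (Nat.le_succ (n + 1)))).comp (ψ (n + 1)).hom = (ψ n).hom := by
    intro n
    have := congrArg CommRingCat.Hom.hom (hcompat n)
    simpa using this
  have hgen : ∀ m n (hle : m ≤ n), (Ideal.Quotient.factor
      (Ideal.pow_le_pow_right (I := 𝔪) (Nat.succ_le_succ hle))).comp (ψ n).hom = (ψ m).hom := by
    intro m n hle
    induction n, hle using Nat.le_induction with
    | base =>
      ext a
      simp
    | succ n hmn ih =>
      rw [← ih, ← hcompat' n, ← RingHom.comp_assoc, Ideal.Quotient.factor_comp]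
  let f : (n : ℕ) → X.presheaf.stalk (x 0) →+* A ⧸ (𝔪) ^ n := fun n =>
    (Ideal.Quotient.factor (Ideal.pow_le_pow_right (I := 𝔪) (Nat.le_succ n))).comp (ψ n).hom
  have hf : ∀ {m n : ℕ} (hle : m ≤ n), (Ideal.Quotient.factorPow (𝔪) hle).comp (f n) = f m := by
    intro m n hle
    simp only [f]
    rw [← hgen m n hle, ← RingHom.comp_assoc, ← RingHom.comp_assoc, Ideal.Quotient.factor_comp,
      Ideal.Quotient.factor_comp]
  let Ψ : X.presheaf.stalk (x 0) →+* A := IsAdicComplete.liftRingHom (𝔪) f hf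
  have hΨ : ∀ n, (Ideal.Quotient.mk ((𝔪) ^ (n + 1))).comp Ψ = (ψ n).hom := by
    intro n
    rw [IsAdicComplete.mk_comp_liftRingHom]
    simp only [f]
    exact hcompat' n
  refine ⟨Spec.map (CommRingCat.ofHom Ψ) ≫ X.fromSpecStalk (x 0), fun n => ?_⟩
  cases n with
  | zero =>
    have : Subsingleton (A ⧸ (𝔪) ^ 0) := by
      rw [pow_zero, Ideal.one_eq_top]
      exact Ideal.Quotient.subsingleton_iff.mpr rfl
    have : IsEmpty (Spec (CommRingCat.of (A ⧸ (𝔪) ^ 0))) :=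
      inferInstanceAs (IsEmpty (PrimeSpectrum (A ⧸ (𝔪) ^ 0)))
    exact isInitialOfIsEmpty.hom_ext _ _
  | succ n =>
    rw [hψ n, ← Category.assoc, ← Spec.map_comp]
    congr 2
    ext a
    exact congr($(hΨ n) a)


end helpers

/-- Let A be a local ring, separated and complete for the topology defined by its maximal ideal m, S =
Spec A and Sₙ = Spec(A/mⁿ). Then for every scheme X the canonical map Hom(S, X) → lim Hom(Sₙ, X) is
bijective: two morphisms S → X that agree on every Sₙ are equal, and every family of morphisms Sₙ →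
X compatible with the closed immersions Sₙ → Sₙ₊₁ is induced by a morphism S → X. -/
theorem result (A : Type u) [CommRing A] [IsLocalRing A]
    [IsAdicComplete (IsLocalRing.maximalIdeal A) A] (X : Scheme.{u}) :
    (∀ f g : (Spec (CommRingCat.of A)) ⟶ X,
      (∀ n : ℕ, (Spec.map (CommRingCat.ofHom (Ideal.Quotient.mk ((IsLocalRing.maximalIdeal A) ^ n)))) ≫ f = (Spec.map (CommRingCat.ofHom (Ideal.Quotient.mk ((IsLocalRing.maximalIdeal A) ^ n)))) ≫ g) → f = g) ∧
    (∀ u : (n : ℕ) → (Spec (CommRingCat.of (A ⧸ (IsLocalRing.maximalIdeal A) ^ n)) ⟶ X),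
      (∀ n : ℕ, (Spec.map (CommRingCat.ofHom (Ideal.Quotient.factor
          (Ideal.pow_le_pow_right (I := (IsLocalRing.maximalIdeal A)) (Nat.le_succ n))))) ≫ u (n + 1) = u n) →
      ∃ f : (Spec (CommRingCat.of A)) ⟶ X, ∀ n : ℕ, (Spec.map (CommRingCat.ofHom (Ideal.Quotient.mk ((IsLocalRing.maximalIdeal A) ^ n)))) ≫ f = u n) := by
  exact ⟨fun f g h => part1 A X f g h, fun u hu => part2 A X u hu⟩

end Groth.Agent.S8384
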