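import Groth.Statements.S7178
import Mathlib

set_option autoImplicit false
set_option backward.isDefEq.respectTransparency.types false
universe u
open FlatMor

namespace Groth.Agent.S7178

open AlgebraicGeometry CategoryTheory Limits TensorProduct

/-- The affine case. -/
theorem weaklyEtale_SpecMap_iff {R S : CommRingCat.{u}} (φ : R ⟶ S) :
    WeaklyEtale (Spec.map φ) ↔
      (letI := φ.hom.toAlgebra
       Algebra.WeaklyEtale R S) := by
  algebraize [φ.hom]
  have hφ : φ = CommRingCat.ofHom (algebraMap R S) := rfl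
  rw [weaklyEtale_iff, Algebra.weaklyEtale_iff]
  have h1 : Flat (Spec.map φ) ↔ Module.Flat R S := by
    rw [HasRingHomProperty.Spec_iff (P := @Flat)]
    rfl
  have h2 : Flat (pullback.diagonal (Spec.map φ)) ↔
      (Algebra.TensorProduct.lmul' R (S := S)).Flat := by
    rw [hφ, diagonal_SpecMap R S,
      MorphismProperty.cancel_right_of_respectsIso (P := @Flat),
      HasRingHomProperty.Spec_iff (P := @Flat)]
    rfl
  rw [h1, h2]

instance : MorphismProperty.RespectsRight @WeaklyEtale @IsOpenImmersion where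
  postcomp i hi f hf := by
    have : IsOpenImmersion i := hi
    have : WeaklyEtale f := hf
    infer_instance

open AlgebraicGeometry CategoryTheory Limits in
/-- (1) ⇔ (2): f : X → S is weakly étale if and only if, whenever U ⊆ X and V ⊆ S are affine opens and f
maps U into V, the ring O_X(U) is a weakly étale O_S(V)-algebra (flat, with flat multiplication map
O_X(U) ⊗ O_X(U) → O_X(U) over O_S(V)). -/
theorem result {X S : Scheme.{u}} (f : X ⟶ S) :
    WeaklyEtale f ↔ ∀ (U : X.Opens) (V : S.Opens) (_ : IsAffineOpen U) (_ : IsAffineOpen V) (hUV : U ≤ f ⁻¹ᵁ V),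
      (letI := (f.appLE V U hUV).hom.toAlgebra
       Algebra.WeaklyEtale Γ(S, V) Γ(X, U)) := by
  constructor
  · intro hf U V hU hV hUV
    rw [← weaklyEtale_SpecMap_iff]
    have h1 : WeaklyEtale (Spec.map (f.appLE V U hUV) ≫ hV.fromSpec) := by
      rw [IsAffineOpen.SpecMap_appLE_fromSpec f hV hU hUV]
      infer_instance
    exact WeaklyEtale.of_comp _ hV.fromSpec
  · intro H
    rw [IsZariskiLocalAtSource.iff_exists_resLE (P := @WeaklyEtale)]
    intro x
    obtain ⟨_, ⟨V, hV : IsAffineOpen V, rfl⟩, hxV, -⟩ :=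
      (S.isBasis_affineOpens).exists_subset_of_mem_open (Set.mem_univ (f x)) isOpen_univ
    obtain ⟨_, ⟨U, hU : IsAffineOpen U, rfl⟩, hxU, hUV⟩ :=
      (X.isBasis_affineOpens).exists_subset_of_mem_open (show x ∈ (f ⁻¹ᵁ V : Set X) from hxV)
        (f ⁻¹ᵁ V).isOpen
    refine ⟨V, U, hxU, hUV, ?_⟩
    have h1 : WeaklyEtale (Spec.map (f.appLE V U hUV)) :=
      (weaklyEtale_SpecMap_iff _).mpr (H U V hU hV hUV)
    have h2 : WeaklyEtale (hU.fromSpec ≫ f) := by
      rw [← IsAffineOpen.SpecMap_appLE_fromSpec f hV hU hUV]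
      infer_instance
    have h3 : WeaklyEtale (Scheme.Opens.ι U ≫ f) := by
      rw [← hU.isoSpec_hom_fromSpec, Category.assoc]
      infer_instance
    have h4 : WeaklyEtale (f.resLE V U hUV ≫ Scheme.Opens.ι V) := by
      rw [Scheme.Hom.resLE_comp_ι]
      exact h3
    exact WeaklyEtale.of_comp _ (Scheme.Opens.ι V)

end Groth.Agent.S7178
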