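import Groth.Statements.S5947
-- import your own Groth.Agent.* helpers here
import Groth.Agent.H39.DerAff

set_option autoImplicit false
universe u
open CategoryTheory AlgebraicGeometry TopologicalSpace
open Nrm16

namespace Groth.Agent.S5947

lemma smul_top {R : CommRingCat.{u}} (M : (Spec R).Modules) (r : R) (x : Γ(M, ⊤)) :
    r • x = ((Scheme.ΓSpecIso R).inv r) • x := by
  rw [Scheme.Modules.smul_Spec_def]
  have h1 : (Spec R).presheaf.map (⊤ : (Spec R).Opens).leTop.op = 𝟙 _ := by
    rw [← (Spec R).presheaf.map_id]; rfl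
  rw [h1]; rfl

lemma hom_inv {R : CommRingCat.{u}} (s : Γ(Spec R, ⊤)) :
    (Scheme.ΓSpecIso R).inv ((Scheme.ΓSpecIso R).hom s) = s :=
  congrArg (fun f => f.hom s) (Scheme.ΓSpecIso R).hom_inv_id

lemma inv_hom {R : CommRingCat.{u}} (r : R) :
    (Scheme.ΓSpecIso R).hom ((Scheme.ΓSpecIso R).inv r) = r :=
  congrArg (fun f => f.hom r) (Scheme.ΓSpecIso R).inv_hom_id

section

variable {R : CommRingCat.{u}} (M : ModuleCat.{u} R)

/-- `M → Γ(M~, ⊤)`. -/
noncomputable def toΓ : M →+ Γ(tilde M, ⊤) := (tilde.isoTop M).hom.hom.toAddMonoidHom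

/-- `Γ(M~, ⊤) → M`. -/
noncomputable def ofΓ : Γ(tilde M, ⊤) →+ M := (tilde.isoTop M).inv.hom.toAddMonoidHom

lemma toΓ_apply (m : M) : toΓ M m = (tilde.isoTop M).hom m := rfl

lemma toΓ_ofΓ (x : Γ(tilde M, ⊤)) : toΓ M (ofΓ M x) = x :=
  (tilde.isoTop M).inv_hom_id_apply x

lemma ofΓ_toΓ (m : M) : ofΓ M (toΓ M m) = m :=
  (tilde.isoTop M).hom_inv_id_apply m

lemma toΓ_smul (r : R) (m : M) : toΓ M (r • m) = ((Scheme.ΓSpecIso R).inv r) • toΓ M m := by
  rw [← smul_top]
  exact (tilde.isoTop M).hom.hom.map_smul r m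

lemma ofΓ_smul (s : Γ(Spec R, ⊤)) (x : Γ(tilde M, ⊤)) :
    ofΓ M (s • x) = ((Scheme.ΓSpecIso R).hom s) • ofΓ M x := by
  have h : s • x = ((Scheme.ΓSpecIso R).hom s) • x := by rw [smul_top, hom_inv]
  rw [h]
  exact (tilde.isoTop M).inv.hom.map_smul _ x

end



/-- Let A be a commutative ring, B an A-algebra and L a B-module; put S = Spec A, X = Spec B and let F
be the O_X-module associated with L. For an S-derivation D of O_X into F write Γ(D) : B → L for its
effect on global sections (global sections of O_X and of F being identified with B and L by the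
canonical isomorphisms). Then D ↦ Γ(D) is a bijection from the set of S-derivations of O_X into F
onto the set of A-derivations of B into L: every Γ(D) is an A-derivation, and every A-derivation of
B into L is Γ(D) for exactly one D. (The published statement asserts an isomorphism of B-modules; no
module structure is placed on sheaf derivations here, so this row states the bijection.) -/
theorem result (A B : Type u) [CommRing A] [CommRing B] [Algebra A B]
    (L : Type u) [AddCommGroup L] [Module B L] [Module A L] [IsScalarTower A B L] :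
    (∀ D : OmegaSh.Der (Spec.map (CommRingCat.ofHom (algebraMap A B))) (tilde (ModuleCat.of (CommRingCat.of B) L)),
      ∃ δ : Derivation A B L, ∀ t : B, D.app ⊤ ((Scheme.ΓSpecIso (CommRingCat.of B)).inv t) =
        (tilde.isoTop (ModuleCat.of (CommRingCat.of B) L)).hom (δ t)) ∧
    ∀ δ : Derivation A B L,
      ∃! D : OmegaSh.Der (Spec.map (CommRingCat.ofHom (algebraMap A B))) (tilde (ModuleCat.of (CommRingCat.of B) L)),
        ∀ t : B, D.app ⊤ ((Scheme.ΓSpecIso (CommRingCat.of B)).inv t) =
          (tilde.isoTop (ModuleCat.of (CommRingCat.of B) L)).hom (δ t) := by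
  have hnat : ∀ c : Γ(Spec (CommRingCat.of A), ⊤),
      (Scheme.ΓSpecIso (CommRingCat.of B)).hom
        ((Spec.map (CommRingCat.ofHom (algebraMap A B))).appTop c) =
      algebraMap A B ((Scheme.ΓSpecIso (CommRingCat.of A)).hom c) := by
    intro c
    exact congr($(Scheme.ΓSpecIso_naturality (CommRingCat.ofHom (algebraMap A B))) c)
  have hnat' : ∀ a : A, (Scheme.ΓSpecIso (CommRingCat.of B)).inv (algebraMap A B a) =
      (Spec.map (CommRingCat.ofHom (algebraMap A B))).appTop
        ((Scheme.ΓSpecIso (CommRingCat.of A)).inv a) := by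
    intro a
    exact congr($(Scheme.ΓSpecIso_inv_naturality (CommRingCat.ofHom (algebraMap A B))) a)
  constructor
  · intro D
    let δ₀ : B →+ L :=
      (ofΓ (ModuleCat.of (CommRingCat.of B) L)).comp
        ((D.app ⊤).comp (Scheme.ΓSpecIso (CommRingCat.of B)).inv.hom.toAddMonoidHom)
    have hδ₀ : ∀ t, δ₀ t = ofΓ (ModuleCat.of (CommRingCat.of B) L)
        (D.app ⊤ ((Scheme.ΓSpecIso (CommRingCat.of B)).inv t)) := fun t => rfl
    have hleib : ∀ t t' : B, δ₀ (t * t') = t • δ₀ t' + t' • δ₀ t := by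
      intro t t'
      rw [hδ₀, hδ₀, hδ₀, map_mul, Groth.Agent.H39.DerAff.der_app_mul, map_add, ofΓ_smul, ofΓ_smul,
        inv_hom, inv_hom]
    have hz : ∀ a : A, δ₀ (algebraMap A B a) = 0 := by
      intro a
      rw [hδ₀, hnat']
      have := Groth.Agent.H39.DerAff.der_app_app _ D ⊤
        ((Scheme.ΓSpecIso (CommRingCat.of A)).inv a)
      erw [this]
      exact map_zero _
    let lin : B →ₗ[A] L :=
      { toFun := δ₀
        map_add' := δ₀.map_add
        map_smul' := fun a t => by
          show δ₀ (a • t) = a • δ₀ t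
          rw [Algebra.smul_def, hleib, hz, smul_zero, add_zero, algebraMap_smul] }
    refine ⟨Derivation.mk' lin hleib, fun t => ?_⟩
    show D.app ⊤ ((Scheme.ΓSpecIso (CommRingCat.of B)).inv t) =
      toΓ (ModuleCat.of (CommRingCat.of B) L) (δ₀ t)
    rw [hδ₀, toΓ_ofΓ]
  · intro δ
    let δ' : Γ(Spec (CommRingCat.of B), ⊤) →+ Γ(tilde (ModuleCat.of (CommRingCat.of B) L), ⊤) :=
      (toΓ (ModuleCat.of (CommRingCat.of B) L)).comp
        ((δ : B →ₗ[A] L).toAddMonoidHom.comp
          (Scheme.ΓSpecIso (CommRingCat.of B)).hom.hom.toAddMonoidHom)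
    have hδ' : ∀ s, δ' s = toΓ (ModuleCat.of (CommRingCat.of B) L)
        (δ ((Scheme.ΓSpecIso (CommRingCat.of B)).hom s)) := fun s => rfl
    have hL : ∀ a b, δ' (a * b) = a • δ' b + b • δ' a := by
      intro a b
      rw [hδ', hδ', hδ', map_mul, Derivation.leibniz, map_add]
      erw [toΓ_smul, toΓ_smul]
      rw [hom_inv, hom_inv]
    have h0 : ∀ c, δ' ((Spec.map (CommRingCat.ofHom (algebraMap A B))).appTop c) = 0 := by
      intro c
      rw [hδ', hnat, Derivation.map_algebraMap]
      exact map_zero _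
    obtain ⟨D, hD⟩ := (Groth.Agent.H39.DerAff.exists_der_iff
      (tilde (ModuleCat.of (CommRingCat.of B) L))
      (Spec.map (CommRingCat.ofHom (algebraMap A B))) δ').mp ⟨hL, h0⟩
    refine ⟨D, fun t => ?_, fun D' hD' => ?_⟩
    · rw [hD, hδ', inv_hom]
      rfl
    · apply Groth.Agent.H39.DerAff.der_ext_of_top
      intro s
      have := hD' ((Scheme.ΓSpecIso (CommRingCat.of B)).hom s)
      rw [hom_inv] at this
      rw [this, hD, hδ']
      rfl

end Groth.Agent.S5947
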