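import Groth.Statements.S15545
import Mathlib

set_option autoImplicit false
open CategoryTheory AlgebraicGeometry
universe u
open FDesc

namespace Groth.Agent.S15545

open Topology in
theorem aux_union {U : Type*} (t : TopologicalSpace U) {a b : Set U} (ha : IsOpen[t] a)
    (hb : IsOpen[t] b) : IsOpen[t] (a ∪ b) := by
  letI := t; exact ha.union hb

open Topology in
theorem aux_inter {U : Type*} (t : TopologicalSpace U) {a b : Set U} (ha : IsOpen[t] a)
    (hb : IsOpen[t] b) : IsOpen[t] (a ∩ b) := by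
  letI := t; exact ha.inter hb

open Topology in
theorem aux_closed {U : Type*} (t : TopologicalSpace U) {a : Set U} (ha : IsOpen[t] aᶜ) :
    IsClosed[t] a := by
  letI := t; exact isOpen_compl_iff.mp ha

open Topology in
theorem isClopen_constructible {U : Type*} [TopologicalSpace U] [CompactSpace U]
    {T : Set U} (hT : IsConstructible T) :
    IsOpen[constructibleTopology U] T ∧ IsOpen[constructibleTopology U] Tᶜ := by
  induction hT using IsConstructible.empty_union_induction with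
  | open_retrocompact V hVo hVc =>
    refine ⟨hVc.isCompact.isOpen_constructibleTopology_of_isOpen hVo, ?_⟩
    refine IsCompact.isOpen_constructibleTopology_of_isClosed ?_ hVo.isClosed_compl
    rw [compl_compl]; exact hVc.isCompact
  | union s hs t ht ihs iht =>
    refine ⟨aux_union _ ihs.1 iht.1, ?_⟩
    rw [Set.compl_union]
    exact aux_inter _ ihs.2 iht.2
  | compl s hs ih =>
    refine ⟨ih.2, ?_⟩
    rw [compl_compl]; exact ih.1

open Topology in
theorem exists_specializes_of_mem_closure {U : Type*} [TopologicalSpace U] [CompactSpace U]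
    [QuasiSober U] [PrespectralSpace U] [QuasiSeparatedSpace U] (S : Set (Set U))
    (hS : ∀ T ∈ S, IsConstructible T) (η : U) (hη : η ∈ closure (⋂₀ S)) :
    ∃ e ∈ ⋂₀ S, e ⤳ η := by
  have hcpt : @CompactSpace U (constructibleTopology U) :=
    @Function.Surjective.compactSpace (WithTopology U (constructibleTopology U)) U _
      (constructibleTopology U) _ (WithTopology.continuous_ofTopology _) _
      (WithTopology.ofTopology_surjective _)
  obtain ⟨𝒩, h𝒩⟩ : ∃ 𝒩 : Set (Set U), 𝒩 = {N | IsOpen N ∧ IsCompact N ∧ η ∈ N} := ⟨_, rfl⟩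
  have hclosed : ∀ K ∈ S ∪ 𝒩, IsClosed[constructibleTopology U] K := by
    intro K hK
    rcases hK with hK | hK
    · exact aux_closed _ (isClopen_constructible (hS K hK)).2
    · rw [h𝒩] at hK
      have := isClopen_constructible (hK.2.1.isConstructible hK.1)
      exact aux_closed _ this.2
  have hfip : ∀ 𝒦₀ ⊆ S ∪ 𝒩, 𝒦₀.Finite → (⋂₀ 𝒦₀).Nonempty := by
    intro 𝒦₀ hsub hfin
    obtain ⟨N₀, hN₀⟩ : ∃ N₀ : Set U, N₀ = ⋂₀ {K ∈ 𝒦₀ | IsOpen K ∧ η ∈ K} := ⟨_, rfl⟩
    have hN₀open : IsOpen N₀ := by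
      rw [hN₀]
      exact (hfin.subset (fun K hK => hK.1)).isOpen_sInter (fun K hK => hK.2.1)
    have hηN₀ : η ∈ N₀ := by
      rw [hN₀]; exact fun K hK => hK.2.2
    obtain ⟨e, heN, heE⟩ := mem_closure_iff.mp hη N₀ hN₀open hηN₀
    refine ⟨e, fun K hK => ?_⟩
    rcases hsub hK with hKS | hKN
    · exact heE K hKS
    · rw [h𝒩] at hKN
      rw [hN₀] at heN
      exact heN K ⟨hK, hKN.1, hKN.2.2⟩
  obtain ⟨e, he⟩ := @CompactSpace.nonempty_sInter U (constructibleTopology U) hcpt _ hclosed hfip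
  refine ⟨e, fun T hT => he T (Or.inl hT), ?_⟩
  rw [specializes_iff_forall_open]
  intro s hs hηs
  obtain ⟨N, ⟨hNo, hNc⟩, hηN, hNs⟩ :=
    PrespectralSpace.isTopologicalBasis.exists_subset_of_mem_open hηs hs
  apply hNs
  apply he N
  right
  rw [h𝒩]
  exact ⟨hNo, hNc, hηN⟩

theorem exists_maximal_point {X : Type*} [TopologicalSpace X] [QuasiSober X] [T0Space X]
    (W : Set X) (hW : IsOpen W) (x : X) (hx : x ∈ W) :
    ∃ ξ ∈ W, ∀ y : X, y ⤳ ξ → y = ξ := by
  have hC : IsIrreducible (irreducibleComponent x) := isIrreducible_irreducibleComponent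
  have hCc : IsClosed (irreducibleComponent x) := isClosed_irreducibleComponent
  have hξ : IsGenericPoint hC.genericPoint (irreducibleComponent x) :=
    hC.isGenericPoint_genericPoint hCc
  refine ⟨hC.genericPoint, ?_, ?_⟩
  · rw [hξ.mem_open_set_iff hW]
    exact ⟨x, mem_irreducibleComponent, hx⟩
  · intro y hy
    have h1 : irreducibleComponent x ⊆ closure {y} := by
      rw [← hξ.def]
      exact specializes_iff_closure_subset.mp hy
    have h2 : closure {y} = irreducibleComponent x :=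
      eq_irreducibleComponent isIrreducible_singleton.closure.isPreirreducible h1
    have hy' : IsGenericPoint y (irreducibleComponent x) := h2
    exact hy'.eq hξ

/-- Let f : X' ⟶ X be flat, quasi-compact and surjective, and Z a pro-constructible subset of X (locally
on X an intersection of locally constructible subsets) which is dense in X. Then the preimage of Z
under f is dense in X'. -/
theorem result {X' X : Scheme.{u}} (f : X' ⟶ X)
    [Flat f] [QuasiCompact f] [Surjective f] (Z : Set X) (hZ : ProCons.IsProConstructible Z)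
    (hd : Dense Z) : Dense (f.base ⁻¹' Z) := by

  rw [dense_iff_inter_open]
  rintro V' hV'o ⟨x', hx'⟩
  obtain ⟨U₀, hU₀o, hxU₀, S₀, hS₀, hE₀⟩ := hZ (f.base x')
  obtain ⟨_, ⟨U, hU, rfl⟩, hxU, hUU₀⟩ :=
    X.isBasis_affineOpens.exists_subset_of_mem_open hxU₀ hU₀o
  have hU' : IsAffineOpen U := hU
  have hW'o : IsOpen (V' ∩ f.base ⁻¹' (U : Set X)) :=
    hV'o.inter (U.isOpen.preimage f.continuous)
  obtain ⟨ξ', hξ'W, hξ'max⟩ := exists_maximal_point _ hW'o x' ⟨hx', hxU⟩
  refine ⟨ξ', hξ'W.1, ?_⟩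
  show f.base ξ' ∈ Z
  have : CompactSpace ↥U := isCompact_iff_compactSpace.mp hU'.isCompact
  have : QuasiSeparatedSpace ↥U :=
    (isQuasiSeparated_iff_quasiSeparatedSpace _ U.isOpen).mp hU'.isQuasiSeparated
  have : QuasiSober ↥U := U.isOpen.isOpenEmbedding_subtypeVal.quasiSober
  have : PrespectralSpace ↥U := U.isOpen.isOpenEmbedding_subtypeVal.prespectralSpace
  obtain ⟨ι, hι⟩ : ∃ ι : ↥U → ↥U₀, ∀ u, (ι u : X) = u := ⟨Set.inclusion hUU₀, fun u => rfl⟩
  have hιemb : Topology.IsOpenEmbedding ι := by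
    have h1 : Topology.IsOpenEmbedding ((Subtype.val : ↥U₀ → X) ∘ ι) := by
      have : (Subtype.val : ↥U₀ → X) ∘ ι = (Subtype.val : ↥U → X) := funext hι
      rw [this]; exact U.isOpen.isOpenEmbedding_subtypeVal
    exact Topology.IsOpenEmbedding.of_comp _ hU₀o.isOpenEmbedding_subtypeVal h1
  obtain ⟨S, hSdef⟩ : ∃ S : Set (Set ↥U), S = (fun T => ι ⁻¹' T) '' S₀ := ⟨_, rfl⟩
  have hS : ∀ T ∈ S, Topology.IsConstructible T := by
    rw [hSdef]
    rintro _ ⟨T, hT, rfl⟩
    exact ((hS₀ T hT).preimage_of_isOpenEmbedding hιemb).isConstructible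
  have hE : (Subtype.val ⁻¹' Z : Set ↥U) = ⋂₀ S := by
    ext u
    have h1 : (ι u) ∈ (Subtype.val ⁻¹' Z : Set ↥U₀) ↔ ι u ∈ ⋂₀ S₀ := by rw [hE₀]
    rw [Set.mem_preimage, hι] at h1
    rw [Set.mem_preimage, h1, hSdef, Set.sInter_image]
    simp only [Set.mem_sInter, Set.mem_iInter, Set.mem_preimage]
  have hdense : Dense (Subtype.val ⁻¹' Z : Set ↥U) :=
    hd.preimage U.isOpen.isOpenEmbedding_subtypeVal.isOpenMap
  obtain ⟨ξU, hξU⟩ : ∃ ξU : ↥U, (ξU : X) = f.base ξ' := ⟨⟨f.base ξ', hξ'W.2⟩, rfl⟩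
  obtain ⟨e, heS, heξ⟩ := exists_specializes_of_mem_closure S hS ξU
    (by rw [← hE]; exact hdense ξU)
  have heZ : (e : X) ∈ Z := by
    have : e ∈ (Subtype.val ⁻¹' Z : Set ↥U) := by rw [hE]; exact heS
    exact this
  have hspec : (e : X) ⤳ f.base ξ' := by
    have := heξ.map continuous_subtype_val
    rwa [hξU] at this
  obtain ⟨y, hy1, hy2⟩ := (Flat.generalizingMap (f := f)) hspec
  rw [hξ'max y hy1] at hy2
  have hy2' : f.base ξ' = (e : X) := hy2
  rw [hy2']; exact heZ

end Groth.Agent.S15545
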