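import Groth.Statements.S4764
import Mathlib
import Groth.Agent.H24.LimFlat

set_option autoImplicit false
universe u
open CategoryTheory AlgebraicGeometry
open Lim8

namespace Groth.Agent.S4764

/-- Let S = lim S_i be a cofiltered limit of schemes with affine transition maps and let i be an index
such that every transition map S_j ⟶ S_i is flat. Then the canonical projection S ⟶ S_i is flat. -/
theorem result {I : Type u} [SmallCategory I] [IsCofiltered I]
    (D : I ⥤ Scheme.{u}) (c : Limits.Cone D) (hc : Limits.IsLimit c)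
    [∀ (i j : I) (f : i ⟶ j), IsAffineHom (D.map f)] (i : I)
    (hf : ∀ (j : I) (φ : j ⟶ i), Flat (D.map φ)) : Flat (c.π.app i) := by
  have hAff : ∀ {i j : I} (f : i ⟶ j), IsAffineHom (D.map f) := fun f => inferInstance
  apply Flat.of_stalkMap
  intro s
  obtain ⟨_, ⟨V, hV : IsAffineOpen V, rfl⟩, hsV, -⟩ :=
    (D.obj i).isBasis_affineOpens.exists_subset_of_mem_open
      (Set.mem_univ (c.π.app i s)) isOpen_univ
  have hlim := isLimitOpensCone D c hc i V
  have hAffD : ∀ j, IsAffine ((opensDiagram D i V).obj j) := fun j => hV.preimage _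
  have hflatD : ∀ (j : Over i) (φ : j ⟶ Over.mk (𝟙 i)), Flat ((opensDiagram D i V).map φ) := by
    intro j φ
    have := hf j.left φ.left
    change Flat ((D.map φ.left).resLE _ _ _)
    infer_instance
  have h1 := H24.flat_θΓ_of_isAffine (opensDiagram D i V) (opensCone D c i V) hlim (Over.mk (𝟙 i)) hflatD
  have hAffc : IsAffine (opensCone D c i V).pt := Scheme.isAffine_of_isLimit _ hlim
  have h2 : Flat ((opensCone D c i V).π.app (Over.mk (𝟙 i))) := by
    have : IsAffine (((Functor.const (Over i)).obj (opensCone D c i V).pt).obj (Over.mk (𝟙 i))) :=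
      hAffc
    rw [HasRingHomProperty.iff_of_isAffine (P := @Flat)]
    exact h1
  have h3 := Flat.stalkMap ((opensCone D c i V).π.app (Over.mk (𝟙 i))) ⟨s, hsV⟩
  have e : c.π.app i ⁻¹ᵁ V ≤ c.π.app i ⁻¹ᵁ (D.map (𝟙 i) ⁻¹ᵁ V) := by
    rw [← Scheme.Hom.comp_preimage, c.w]
  exact (RingHom.Flat.respectsIso.arrow_mk_iso_iff
    (Scheme.Hom.resLEStalkMap (c.π.app i) e ⟨s, hsV⟩)).mp h3

end Groth.Agent.S4764
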