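import Groth.Statements.S3398
import Groth.Agent.H17.ProConsImage
import Mathlib.AlgebraicGeometry.Properties
-- import your own Groth.Agent.* helpers here

set_option autoImplicit false
open CategoryTheory AlgebraicGeometry
universe u
open EGA41

namespace Groth.Agent.S3398

/-- Let f : X' ⟶ X be a quasi-compact morphism of schemes and E' a pro-constructible subset of X'. Then
f(E') is pro-constructible in X; in particular f(X') is pro-constructible. -/
theorem result {X' X : Scheme.{u}} (f : X' ⟶ X) [QuasiCompact f]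
    (E' : Set X') (hE' : ProCons.IsProConstructible E') :
    ProCons.IsProConstructible (f.base '' E') := by
  intro y
  obtain ⟨U, hU, hyU, -⟩ : ∃ U : X.Opens, U ∈ X.affineOpens ∧ y ∈ U ∧ U ≤ ⊤ :=
    TopologicalSpace.Opens.isBasis_iff_nbhd.mp X.isBasis_affineOpens (U := ⊤) (x := y) trivial
  have hUaff : IsAffineOpen U := hU
  have : IsAffine (U : Scheme.{u}) := hUaff
  have hqc : QuasiCompact (f ∣_ U) := inferInstance
  have : CompactSpace ↥(f ⁻¹ᵁ U : Scheme.{u}) :=
    (HasAffineProperty.iff_of_isAffine (P := @QuasiCompact)).mp hqc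
  let E'' : Set ↥(f ⁻¹ᵁ U : Scheme.{u}) := (f ⁻¹ᵁ U).ι.base ⁻¹' E'
  have hE'' : ProCons.IsProConstructible E'' :=
    H17.isProConstructible_preimage hE' (f ⁻¹ᵁ U).ι.isOpenEmbedding
  let 𝒰 := (f ⁻¹ᵁ U : Scheme.{u}).affineCover.finiteSubcover
  have haff : ∀ k : 𝒰.I₀, IsAffine (𝒰.X k) := fun k => by
    dsimp [𝒰]; infer_instance
  have key : ∀ k : 𝒰.I₀, ∃ S : Set (Set ↥(U : Scheme.{u})), (∀ T ∈ S, Topology.IsConstructible T) ∧
      (𝒰.f k ≫ f ∣_ U).base '' ((𝒰.f k).base ⁻¹' E'') = ⋂₀ S := by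
    intro k
    have := haff k
    apply H17.exists_eq_sInter_image
    · intro s hs
      exact (𝒰.f k ≫ f ∣_ U).isConstructible_preimage hs
    · exact H17.isClosed_constructibleTopology_of_isProConstructible
        (H17.isProConstructible_preimage hE'' (𝒰.f k).isOpenEmbedding)
  obtain ⟨S, hS, hES⟩ := H17.exists_eq_sInter_iUnion _ key
  refine ⟨(U : Set X), U.isOpen, hyU, S, fun T hT => (hS T hT).isLocallyConstructible, ?_⟩
  refine Eq.trans ?_ hES
  apply Set.Subset.antisymm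
  · rintro z ⟨e, he, hez⟩
    have heU : e ∈ f ⁻¹ᵁ U := by
      show f.base e ∈ U
      rw [hez]; exact z.2
    let e' : ↥(f ⁻¹ᵁ U : Scheme.{u}) := ⟨e, heU⟩
    have he' : e' ∈ E'' := he
    obtain ⟨k, w, hw⟩ := 𝒰.exists_eq e'
    refine Set.mem_iUnion.mpr ⟨k, w, ?_, ?_⟩
    · show (𝒰.f k).base w ∈ E''
      rw [hw]; exact he'
    · apply Subtype.ext
      have h1 : ((f ∣_ U).base e').1 = f.base e'.1 := morphismRestrict_base_coe f U e'
      rw [← hez]
      rw [← h1, ← hw]
      rfl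
  · intro z hz
    obtain ⟨k, w, hw, rfl⟩ := Set.mem_iUnion.mp hz
    refine ⟨(f ⁻¹ᵁ U).ι.base ((𝒰.f k).base w), hw, ?_⟩
    exact (morphismRestrict_base_coe f U ((𝒰.f k).base w)).symm

end Groth.Agent.S3398
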