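import Groth.Statements.S4769
import Mathlib
import Groth.Agent.H24.LimConn
import Groth.Agent.H24.LimDominant
import Groth.Agent.H24.IrredComp

set_option autoImplicit false
universe u
open CategoryTheory AlgebraicGeometry
open Lim8

namespace Groth.Agent.S4769

/-- Let S = lim S_i be a cofiltered limit of schemes whose transition maps are affine and dominant, some
stage S_{i₀} being quasi-compact, and assume that the underlying topological space of S is
Noetherian. Then there is an index i over i₀ such that, for every j over i, the map sending an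
irreducible component Y of S to the closure of its image under S ⟶ S_j is a bijection from the set
of irreducible components of S onto the set of irreducible components of S_j. -/
theorem result {I : Type u} [SmallCategory I] [IsCofiltered I]
    (D : I ⥤ Scheme.{u}) (c : Limits.Cone D) (hc : Limits.IsLimit c)
    [∀ (i j : I) (f : i ⟶ j), IsAffineHom (D.map f)] (i₀ : I)
    [CompactSpace (D.obj i₀)] [TopologicalSpace.NoetherianSpace c.pt]
    (hd : ∀ (i j : I) (φ : i ⟶ j), IsDominant (D.map φ)) :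
    ∃ (i : I) (_ : i ⟶ i₀), ∀ (j : I) (_ : j ⟶ i),
      Set.BijOn (fun Y : Set c.pt => closure (⇑(c.π.app j) '' (Y : Set c.pt) : Set (D.obj j)))
        (irreducibleComponents c.pt) (irreducibleComponents (D.obj j)) := by
  classical
  have hAff : ∀ {i j : I} (f : i ⟶ j), IsAffineHom (D.map f) := fun f => inferInstance
  have hdom := H24.isDominant_π_app D c hc hd
  have hfin : (irreducibleComponents c.pt).Finite := TopologicalSpace.NoetherianSpace.finite_irreducibleComponents
  let T : Set (Set c.pt × Set c.pt) :=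
    {p | p.1 ∈ irreducibleComponents c.pt ∧ p.2 ∈ irreducibleComponents c.pt ∧ p.1 ≠ p.2}
  have hT : T.Finite := (hfin.prod hfin).subset (fun p hp => ⟨hp.1, hp.2.1⟩)
  let P : I → (Set c.pt × Set c.pt) → Prop := fun j p =>
    ∃ U : Set (D.obj j), IsOpen U ∧ (U ∩ c.π.app j '' p.1).Nonempty ∧ c.π.app j ⁻¹' U ∩ p.2 = ∅
  have hP : ∀ p ∈ T, ∀ i₁ : I, ∃ (i : I) (_ : i ⟶ i₁), ∀ (j : I) (_ : j ⟶ i), P j p := by
    rintro ⟨W, W'⟩ ⟨hW, hW', hne⟩ i₁
    simp only at hW hW' hne
    -- the open set `W'ᶜ` is compact and meets `W`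
    have hO : IsOpen (W'ᶜ : Set c.pt) := (isClosed_of_mem_irreducibleComponents W' hW').isOpen_compl
    have hOc : IsCompact (W'ᶜ : Set c.pt) := TopologicalSpace.NoetherianSpace.isCompact _
    have hmeet : (W ∩ W'ᶜ).Nonempty := by
      by_contra hcon
      rw [Set.not_nonempty_iff_eq_empty, ← Set.sdiff_eq, Set.sdiff_eq_empty] at hcon
      exact hne (Set.Subset.antisymm hcon (hW.2 hW'.1 hcon))
    obtain ⟨i, a, O, -, hOeq⟩ := H24.exists_preimage_eq_over D c hc ⟨W'ᶜ, hO⟩ hOc i₁
    refine ⟨i, a, fun j φ => ?_⟩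
    have hj : c.π.app j ⁻¹ᵁ (D.map φ ⁻¹ᵁ O) = ⟨W'ᶜ, hO⟩ := by
      rw [← hOeq, ← Scheme.Hom.comp_preimage, c.w]
    have hj' : c.π.app j ⁻¹' ((D.map φ ⁻¹ᵁ O : (D.obj j).Opens) : Set (D.obj j)) = W'ᶜ :=
      congrArg (fun U : c.pt.Opens => (U : Set c.pt)) hj
    refine ⟨((D.map φ ⁻¹ᵁ O : (D.obj j).Opens) : Set (D.obj j)), TopologicalSpace.Opens.isOpen _, ?_, ?_⟩
    · obtain ⟨x, hxW, hxW'⟩ := hmeet
      refine ⟨c.π.app j x, ?_, x, hxW, rfl⟩
      have : x ∈ c.π.app j ⁻¹' ((D.map φ ⁻¹ᵁ O : (D.obj j).Opens) : Set (D.obj j)) := by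
        rw [hj']; exact hxW'
      exact this
    · rw [hj']
      exact Set.compl_inter_self W'
  obtain ⟨i, a, hi⟩ := H24.exists_index_forall_finite T hT P hP i₀
  refine ⟨i, a, fun j φ => ?_⟩
  exact H24.bijOn_irreducibleComponents_of_denseRange (c.π.app j).continuous
    (c.π.app j).denseRange hfin
    (fun W hW W' hW' hne => hi j φ (W, W') ⟨hW, hW', hne⟩)

end Groth.Agent.S4769
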