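import Groth.Statements.S8869
-- import your own Groth.Agent.* helpers here

set_option autoImplicit false
universe u
open CategoryTheory CategoryTheory.Limits AlgebraicGeometry TopologicalSpace Opposite
open SDiv

namespace Groth.Agent.S8869

section
variable (X : Scheme.{u}) (x : X)

/-- germ of the structure module -/
noncomputable abbrev gM (U : X.Opens) (hx : x ∈ U) (s : Γ(X, U)) :
    (Coh.structureModule X).presheaf.stalk x :=
  TopCat.Presheaf.germ (Coh.structureModule X).presheaf U x hx s

lemma gM_smul (U : X.Opens) (hx : x ∈ U) (r s : Γ(X, U)) :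
    X.presheaf.germ U x hx r • gM X x U hx s = gM X x U hx (r * s) := by
  have := PresheafOfModules.germ_smul (R := X.presheaf) (Coh.structureModule X).val x U hx r s
  exact this.symm

lemma gM_res (U W : X.Opens) (i : W ⟶ U) (hx : x ∈ W) (s : Γ(X, U)) :
    gM X x W hx (X.presheaf.map i.op s) = gM X x U (i.le hx) s :=
  TopCat.Presheaf.germ_res_apply (Coh.structureModule X).presheaf i x hx s

set_option backward.isDefEq.respectTransparency false in
lemma gM_zero (U : X.Opens) (hx : x ∈ U) : gM X x U hx 0 = 0 :=
  (TopCat.Presheaf.germ (Coh.structureModule X).presheaf U x hx).hom.map_zero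

lemma gM_eq_zero_iff (U : X.Opens) (hx : x ∈ U) (r : Γ(X, U)) :
    gM X x U hx r = 0 ↔ X.presheaf.germ U x hx r = 0 := by
  constructor
  · intro h
    have h0 : gM X x U hx r = gM X x U hx 0 := by rw [h, gM_zero]
    obtain ⟨W, hxW, iU, iV, e⟩ :=
      TopCat.Presheaf.germ_eq (Coh.structureModule X).presheaf x hx hx r 0 h0
    have e' : X.presheaf.map iU.op r = 0 := by
      have : X.presheaf.map iU.op r = X.presheaf.map iV.op 0 := e
      rw [this, map_zero]
    rw [← X.presheaf.germ_res_apply iU x hxW r, e', map_zero]
  · intro h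
    have h0 : X.presheaf.germ U x hx r = X.presheaf.germ U x hx 0 := by rw [h, map_zero]
    obtain ⟨W, hxW, iU, iV, e⟩ := TopCat.Presheaf.germ_eq X.presheaf x hx hx r 0 h0
    have e' : X.presheaf.map iU.op r = 0 := by rw [e, map_zero]
    rw [← gM_res X x U W iU hxW r, e', gM_zero]

/-- the comparison map from the local ring to the stalk of the structure module -/
noncomputable def eMap : X.presheaf.stalk x →ₗ[X.presheaf.stalk x]
    (Coh.structureModule X).presheaf.stalk x :=
  LinearMap.toSpanSingleton _ _ (gM X x ⊤ trivial 1)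

lemma eMap_germ (U : X.Opens) (hx : x ∈ U) (r : Γ(X, U)) :
    eMap X x (X.presheaf.germ U x hx r) = gM X x U hx r := by
  change X.presheaf.germ U x hx r • gM X x ⊤ trivial 1 = _
  rw [← gM_res X x ⊤ U (homOfLE le_top) hx 1, map_one, gM_smul, mul_one]

lemma eMap_injective : Function.Injective (eMap X x) := by
  rw [injective_iff_map_eq_zero]
  intro a ha
  obtain ⟨U, hx, r, rfl⟩ := TopCat.Presheaf.exists_germ_eq X.presheaf a
  rw [eMap_germ, gM_eq_zero_iff] at ha
  exact ha

lemma eMap_surjective : Function.Surjective (eMap X x) := by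
  intro t
  obtain ⟨U, hx, s, rfl⟩ := TopCat.Presheaf.exists_germ_eq (Coh.structureModule X).presheaf t
  exact ⟨X.presheaf.germ U x hx s, eMap_germ X x U hx s⟩

lemma isWeakAssPoint_iff :
    Curv2.IsWeakAssPoint (Coh.structureModule X) x ↔
      ∃ t : X.presheaf.stalk x, Ideal.radical (LinearMap.ker
        (LinearMap.toSpanSingleton (X.presheaf.stalk x) (X.presheaf.stalk x) t)) =
        IsLocalRing.maximalIdeal (X.presheaf.stalk x) := by
  have key : ∀ t : X.presheaf.stalk x,
      LinearMap.ker (LinearMap.toSpanSingleton (X.presheaf.stalk x)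
        ((Coh.structureModule X).presheaf.stalk x) (eMap X x t)) =
      LinearMap.ker (LinearMap.toSpanSingleton (X.presheaf.stalk x) (X.presheaf.stalk x) t) := by
    intro t
    ext a
    simp only [LinearMap.mem_ker, LinearMap.toSpanSingleton_apply]
    rw [← map_smul, map_eq_zero_iff _ (eMap_injective X x)]
  constructor
  · rintro ⟨m, hm⟩
    obtain ⟨t, rfl⟩ := eMap_surjective X x m
    exact ⟨t, by rw [← key]; exact hm⟩
  · rintro ⟨t, ht⟩
    exact ⟨eMap X x t, by rw [key]; exact ht⟩

lemma alg_iff {A : Type*} [CommRing A] [IsLocalRing A] [IsReduced A] :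
    (∃ t : A, Ideal.radical (LinearMap.ker (LinearMap.toSpanSingleton A A t)) =
      IsLocalRing.maximalIdeal A) ↔ IsLocalRing.maximalIdeal A = ⊥ := by
  constructor
  · rintro ⟨t, ht⟩
    have ht0 : t ≠ 0 := by
      rintro rfl
      have h1 : LinearMap.ker (LinearMap.toSpanSingleton A A 0) = ⊤ := by
        ext a; simp
      rw [h1, Ideal.radical_top] at ht
      exact (IsLocalRing.maximalIdeal.isMaximal A).ne_top ht.symm
    have hex : ∃ p : Ideal A, p.IsPrime ∧ t ∉ p := by
      by_contra hcon
      push Not at hcon
      have h2 : t ∈ nilradical A := by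
        rw [nilradical_eq_sInf, Ideal.mem_sInf]
        exact fun {p} hp => hcon p hp
      rw [nilradical_eq_zero] at h2
      exact ht0 h2
    obtain ⟨p, hp, htp⟩ := hex
    have hle : LinearMap.ker (LinearMap.toSpanSingleton A A t) ≤ p := by
      intro a ha
      have h3 : a * t = 0 := by simpa using ha
      have h4 : a * t ∈ p := by rw [h3]; exact p.zero_mem
      exact (hp.mem_or_mem h4).resolve_right htp
    have hmp : IsLocalRing.maximalIdeal A ≤ p := by
      rw [← ht]
      exact hp.radical_le_iff.mpr hle
    have htu : IsUnit t := by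
      by_contra hnu
      exact htp (hmp ((IsLocalRing.mem_maximalIdeal t).mpr hnu))
    have hann : LinearMap.ker (LinearMap.toSpanSingleton A A t) = ⊥ := by
      ext a
      simp [htu.mul_left_eq_zero]
    rw [hann] at ht
    rw [← ht]
    exact nilradical_eq_zero A
  · intro h
    refine ⟨1, ?_⟩
    have hann : LinearMap.ker (LinearMap.toSpanSingleton A A 1) = ⊥ := by
      ext a
      simp
    rw [hann, h]
    exact nilradical_eq_zero A

lemma top_iff [IsReduced X] :
    (∀ y : X, y ⤳ x → y = x) ↔ IsLocalRing.maximalIdeal (X.presheaf.stalk x) = ⊥ := by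
  constructor
  · intro h
    have hall : ∀ p : PrimeSpectrum (X.presheaf.stalk x),
        p.asIdeal = IsLocalRing.maximalIdeal (X.presheaf.stalk x) := by
      intro p
      have hy : (X.fromSpecStalk x) p ⤳ x := by
        have : (X.fromSpecStalk x) p ∈ Set.range (X.fromSpecStalk x) := ⟨p, rfl⟩
        rw [Scheme.range_fromSpecStalk] at this
        exact this
      have e := (h _ hy).trans (Scheme.fromSpecStalk_closedPoint (x := x)).symm
      have e2 := (X.fromSpecStalk x).isEmbedding.injective e
      rw [e2]
      rfl
    have h2 : IsLocalRing.maximalIdeal (X.presheaf.stalk x) ≤ nilradical (X.presheaf.stalk x) := by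
      rw [nilradical_eq_sInf]
      refine le_sInf ?_
      intro p hp
      have := hall ⟨p, hp⟩
      exact this.ge
    rw [nilradical_eq_zero] at h2
    exact le_bot_iff.mp h2
  · intro h y hy
    have : y ∈ Set.range (X.fromSpecStalk x) := by
      rw [Scheme.range_fromSpecStalk]; exact hy
    obtain ⟨p, rfl⟩ := this
    have hp : p.asIdeal = IsLocalRing.maximalIdeal (X.presheaf.stalk x) := by
      apply le_antisymm (IsLocalRing.le_maximalIdeal p.2.ne_top)
      rw [h]
      exact bot_le
    have hp' : p = IsLocalRing.closedPoint (X.presheaf.stalk x) := PrimeSpectrum.ext hp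
    rw [hp']
    exact Scheme.fromSpecStalk_closedPoint

end

/-- Assume X is a reduced scheme and x is a point of X. Then x is weakly associated to the structure
sheaf O_X exactly when every generization of x equals x itself; equivalently, x is a generic point
of some irreducible component of X. -/
theorem result (X : Scheme.{u}) [IsReduced X] (x : ↥X) :
    Curv2.IsWeakAssPoint (Coh.structureModule X) x ↔ ∀ y : ↥X, y ⤳ x → y = x := by
  exact (isWeakAssPoint_iff X x).trans (alg_iff.trans (top_iff X x).symm)

end Groth.Agent.S8869
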