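import Groth.Statements.S12447
import Groth.Agent.H38.CatLocal
import Groth.Agent.H38.DimFunExists

set_option autoImplicit false
universe u
open CategoryTheory AlgebraicGeometry
open Props

namespace Groth.Agent.S12447

/-- Let S be a locally Noetherian scheme. Then the underlying topological space of S is catenary if and
only if locally in the Zariski topology there is a dimension function, i.e. every point has an open
neighbourhood U carrying a function δ : U → ℤ which strictly decreases along nontrivial
specializations and drops by exactly one along immediate specializations. -/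
theorem result (S : Scheme.{u}) [IsLocallyNoetherian S] :
    PtTop.IsCatenarySpace S ↔
      ∀ s : S, ∃ U : S.Opens, s ∈ U ∧ ∃ δ : U → ℤ, PtTop.IsDimensionFunction δ := by
  constructor
  · intro hcat s
    obtain ⟨U₀, hU₀aff, hsU₀, -⟩ :=
      AlgebraicGeometry.exists_isAffineOpen_mem_and_subset (X := S) (x := s) (U := ⊤) trivial
    haveI : IsNoetherianRing Γ(S, U₀) := IsLocallyNoetherian.component_noetherian ⟨U₀, hU₀aff⟩
    exact @Groth.Agent.H38.exists_dimFun _ _ _ _ hcat U₀
      (noetherianSpace_of_isAffineOpen U₀ hU₀aff) s hsU₀
  · intro H
    refine Groth.Agent.H38.isCatenarySpace_of_open_cover fun s => ?_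
    obtain ⟨U, hsU, δ, hδ⟩ := H s
    exact ⟨U, hsU, @Groth.Agent.H38.isCatenarySpace_of_dimFun _ _
      U.isOpenEmbedding'.quasiSober _ δ hδ⟩

end Groth.Agent.S12447
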