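import Groth.Statements.S0553
import Mathlib
import Groth.Agent.S0552
import Groth.Agent.S9124
import Groth.Agent.S9126

set_option autoImplicit false
universe u
open CAlg

namespace Groth.Agent.S0553

/-- A Noetherian ring is universally catenary exactly when its localization at every maximal ideal is
universally catenary. -/
theorem result (R : Type u) [CommRing R]
    [IsNoetherianRing R] :
    CAlg.IsUniversallyCatenary R ↔
      ∀ (m : Ideal R) [m.IsMaximal], CAlg.IsUniversallyCatenary (Localization.AtPrime m) := by
  constructor
  · intro hR m hm
    haveI : Algebra.EssFiniteType R (Localization.AtPrime m) :=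
      Algebra.EssFiniteType.of_isLocalization (Localization.AtPrime m) m.primeCompl
    exact Groth.Agent.S9126.result R (Localization.AtPrime m) hR
  · intro h
    refine ⟨inferInstance, ?_⟩
    intro S _ _ hS
    apply Groth.Agent.S0552.isCatenary_of_forall_maximal S
    intro n hn
    haveI : (n.comap (algebraMap R S)).IsPrime := Ideal.comap_isPrime _ n
    obtain ⟨m, hm, hpm⟩ := Ideal.exists_le_maximal (n.comap (algebraMap R S))
      (Ideal.IsPrime.ne_top inferInstance)
    haveI := hm
    have hMn : m.primeCompl.map (algebraMap R S) ≤ n.primeCompl := by
      rintro _ ⟨r, hr, rfl⟩
      intro hrn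
      exact hr (hpm hrn)
    letI : Algebra (Localization.AtPrime m) (Localization (m.primeCompl.map (algebraMap R S))) :=
      (IsLocalization.map (Localization (m.primeCompl.map (algebraMap R S))) (algebraMap R S)
        (Submonoid.le_comap_map m.primeCompl) :
          Localization.AtPrime m →+* Localization (m.primeCompl.map (algebraMap R S))).toAlgebra
    have hft : Algebra.FiniteType (Localization.AtPrime m)
        (Localization (m.primeCompl.map (algebraMap R S))) :=
      RingHom.finiteType_localizationPreserves (algebraMap R S) m.primeCompl
        (Localization.AtPrime m) (Localization (m.primeCompl.map (algebraMap R S)))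
        (RingHom.finiteType_algebraMap.mpr hS)
    have hcat : CAlg.IsCatenary (Localization (m.primeCompl.map (algebraMap R S))) :=
      (h m).2 _ hft
    letI : Algebra (Localization (m.primeCompl.map (algebraMap R S))) (Localization.AtPrime n) :=
      (IsLocalization.lift (M := m.primeCompl.map (algebraMap R S))
        (g := algebraMap S (Localization.AtPrime n))
        (fun y => IsLocalization.map_units (M := n.primeCompl) _ ⟨y.1, hMn y.2⟩)).toAlgebra
    haveI : IsScalarTower S (Localization (m.primeCompl.map (algebraMap R S)))
        (Localization.AtPrime n) :=
      IsScalarTower.of_algebraMap_eq (fun x => (IsLocalization.lift_eq _ x).symm)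
    haveI : IsLocalization (n.primeCompl.map
        (algebraMap S (Localization (m.primeCompl.map (algebraMap R S)))))
        (Localization.AtPrime n) :=
      IsLocalization.isLocalization_of_submonoid_le
        (Localization (m.primeCompl.map (algebraMap R S))) (Localization.AtPrime n)
        (m.primeCompl.map (algebraMap R S)) n.primeCompl hMn
    exact Groth.Agent.S9124.result (Localization (m.primeCompl.map (algebraMap R S)))
      (n.primeCompl.map (algebraMap S (Localization (m.primeCompl.map (algebraMap R S)))))
      (Localization.AtPrime n) hcat

end Groth.Agent.S0553
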