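import Groth.Statements.S12445
import Groth.Agent.H38.CatRing

set_option autoImplicit false
universe u
open CategoryTheory AlgebraicGeometry
open Props

namespace Groth.Agent.S12445

open Groth.Agent.H38 in
/-- (1) ⇔ (3) ⇔ (4): for a scheme S, the underlying topological space of S is catenary if and only if
the coordinate ring of every affine open of S is a catenary ring, if and only if S is covered by
affine opens with catenary coordinate rings. (Clause (2), openness of catenarity, and the final
assertion on locally closed subschemes are the topological statement for open coverings and locally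
closed subspaces.) -/
theorem result (S : Scheme.{u}) :
    (PtTop.IsCatenarySpace S ↔ ∀ U : S.affineOpens, CAlg.IsCatenary Γ(S, U)) ∧
    (PtTop.IsCatenarySpace S ↔
      ∀ s : S, ∃ U : S.affineOpens, s ∈ (U : S.Opens) ∧ CAlg.IsCatenary Γ(S, U)) := by
  have key : ∀ U : S.affineOpens,
      PtTop.IsCatenarySpace {x // x ∈ U.1} ↔ CAlg.IsCatenary Γ(S, U) := by
    intro U
    rw [← isCatenarySpace_primeSpectrum_iff]
    let f : {x // x ∈ U.1} ≃ₜ PrimeSpectrum Γ(S, U.1) := (U.2.isoSpec.hom).homeomorph
    exact ⟨isCatenarySpace_of_homeomorph f.symm, isCatenarySpace_of_homeomorph f⟩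
  have h2 : (∀ s : S, ∃ U : S.affineOpens, s ∈ (U : S.Opens) ∧ CAlg.IsCatenary Γ(S, U)) →
      PtTop.IsCatenarySpace S := by
    intro H
    refine isCatenarySpace_of_open_cover fun s => ?_
    obtain ⟨U, hsU, hU⟩ := H s
    exact ⟨U.1, hsU, (key U).mpr hU⟩
  have h1 : PtTop.IsCatenarySpace S → ∀ U : S.affineOpens, CAlg.IsCatenary Γ(S, U) :=
    fun hS U => (key U).mp (isCatenarySpace_opens hS U.1)
  have hex : ∀ s : S, ∃ U : S.affineOpens, s ∈ (U : S.Opens) := by
    intro s
    obtain ⟨U, hU, hsU, -⟩ :=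
      AlgebraicGeometry.exists_isAffineOpen_mem_and_subset (X := S) (x := s) (U := ⊤) trivial
    exact ⟨⟨U, hU⟩, hsU⟩
  refine ⟨⟨h1, fun H => h2 fun s => ?_⟩, ⟨fun hS s => ?_, h2⟩⟩
  · obtain ⟨U, hsU⟩ := hex s
    exact ⟨U, hsU, H U⟩
  · obtain ⟨U, hsU⟩ := hex s
    exact ⟨U, hsU, h1 hS U⟩

end Groth.Agent.S12445
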