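import Groth.Statements.S12459
import Groth.Agent.H38.CatRing
import Groth.Agent.S12445
import Groth.Agent.S0553
import Groth.Agent.S9126

set_option autoImplicit false
universe u
open CategoryTheory AlgebraicGeometry
open Props

namespace Groth.Agent.S12459

theorem isUniversallyCatenary_of_ringEquiv {A B : Type u} [CommRing A] [CommRing B]
    (e : A ≃+* B) (hA : CAlg.IsUniversallyCatenary A) : CAlg.IsUniversallyCatenary B := by
  letI : Algebra A B := e.toRingHom.toAlgebra
  haveI : Algebra.FiniteType A B := RingHom.FiniteType.of_surjective e.toRingHom e.surjective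
  exact Groth.Agent.S9126.result A B hA

/-- For a locally Noetherian scheme S, the scheme S is universally catenary — every scheme X locally of
finite type over S has catenary underlying topological space — if and only if all local rings
O_{S,s} are universally catenary rings. (Schemes X over S are taken in the universe of S.) -/
theorem result (S : Scheme.{u}) [IsLocallyNoetherian S] :
    (∀ (X : Scheme.{u}) (f : X ⟶ S), LocallyOfFiniteType f → PtTop.IsCatenarySpace X) ↔
      ∀ s : S, CAlg.IsUniversallyCatenary (S.presheaf.stalk s) := by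
  have hNoeth : ∀ U : S.affineOpens, IsNoetherianRing Γ(S, U) := fun U =>
    IsLocallyNoetherian.component_noetherian U
  -- affine coordinate rings universally catenary ⇒ stalks universally catenary
  have hb : (∀ U : S.affineOpens, CAlg.IsUniversallyCatenary Γ(S, U)) →
      ∀ s : S, CAlg.IsUniversallyCatenary (S.presheaf.stalk s) := by
    intro H s
    obtain ⟨U, hU, hsU, -⟩ :=
      AlgebraicGeometry.exists_isAffineOpen_mem_and_subset (X := S) (x := s) (U := ⊤) trivial
    letI := TopCat.Presheaf.algebra_section_stalk S.presheaf (⟨s, hsU⟩ : U)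
    haveI := hU.isLocalization_stalk ⟨s, hsU⟩
    haveI : Algebra.EssFiniteType Γ(S, U) (S.presheaf.stalk s) :=
      Algebra.EssFiniteType.of_isLocalization (S.presheaf.stalk s)
        (hU.primeIdealOf ⟨s, hsU⟩).asIdeal.primeCompl
    exact Groth.Agent.S9126.result Γ(S, U) (S.presheaf.stalk s) (H ⟨U, hU⟩)
  -- stalks ⇒ affine coordinate rings
  have hc : (∀ s : S, CAlg.IsUniversallyCatenary (S.presheaf.stalk s)) →
      ∀ U : S.affineOpens, CAlg.IsUniversallyCatenary Γ(S, U) := by
    intro H U
    haveI := hNoeth U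
    refine (Groth.Agent.S0553.result Γ(S, U)).mpr fun m hm => ?_
    let y : PrimeSpectrum Γ(S, U.1) := ⟨m, hm.isPrime⟩
    have hy : U.2.fromSpec y ∈ U.1 := by
      have h1 : U.2.fromSpec y ∈ Set.range U.2.fromSpec := Set.mem_range_self y
      rw [U.2.range_fromSpec] at h1
      exact h1
    letI := TopCat.Presheaf.algebra_section_stalk S.presheaf (⟨U.2.fromSpec y, hy⟩ : U.1)
    haveI : IsLocalization.AtPrime (S.presheaf.stalk (U.2.fromSpec y)) m :=
      U.2.isLocalization_stalk' y hy
    exact isUniversallyCatenary_of_ringEquiv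
      (IsLocalization.algEquiv m.primeCompl (S.presheaf.stalk (U.2.fromSpec y))
        (Localization.AtPrime m)).toRingEquiv (H _)
  -- universally catenary scheme ⇒ affine coordinate rings
  have ha : (∀ (X : Scheme.{u}) (f : X ⟶ S), LocallyOfFiniteType f → PtTop.IsCatenarySpace X) →
      ∀ U : S.affineOpens, CAlg.IsUniversallyCatenary Γ(S, U) := by
    intro H U
    refine ⟨hNoeth U, fun B _ _ hB => ?_⟩
    let φ : Γ(S, U.1) ⟶ CommRingCat.of B := CommRingCat.ofHom (algebraMap Γ(S, U.1) B)
    haveI hφ : LocallyOfFiniteType (Spec.map φ) := by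
      rw [HasRingHomProperty.Spec_iff (P := @LocallyOfFiniteType)]
      exact RingHom.finiteType_algebraMap.mpr hB
    have hcomp : LocallyOfFiniteType (Spec.map φ ≫ U.2.fromSpec) := inferInstance
    have hX := H (Spec (CommRingCat.of B)) (Spec.map φ ≫ U.2.fromSpec) hcomp
    exact (Groth.Agent.H38.isCatenarySpace_primeSpectrum_iff B).mp hX
  -- affine coordinate rings ⇒ universally catenary scheme
  have hd : (∀ U : S.affineOpens, CAlg.IsUniversallyCatenary Γ(S, U)) →
      ∀ (X : Scheme.{u}) (f : X ⟶ S), LocallyOfFiniteType f → PtTop.IsCatenarySpace X := by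
    intro H X f hf
    refine (Groth.Agent.S12445.result X).2.mpr fun x => ?_
    obtain ⟨U, hU, hfxU, -⟩ :=
      AlgebraicGeometry.exists_isAffineOpen_mem_and_subset (X := S) (x := f x) (U := ⊤) trivial
    have hxpre : x ∈ f ⁻¹ᵁ U := hfxU
    obtain ⟨V, hV, hxV, hVU⟩ :=
      AlgebraicGeometry.exists_isAffineOpen_mem_and_subset (X := X) (x := x) (U := f ⁻¹ᵁ U) hxpre
    have hVU' : V ≤ f ⁻¹ᵁ U := hVU
    refine ⟨⟨V, hV⟩, hxV, ?_⟩
    have hft : (f.appLE U V hVU').hom.FiniteType :=
      HasRingHomProperty.appLE (P := @LocallyOfFiniteType) f hf ⟨U, hU⟩ ⟨V, hV⟩ hVU'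
    letI : Algebra Γ(S, U) Γ(X, V) := (f.appLE U V hVU').hom.toAlgebra
    exact (H ⟨U, hU⟩).2 Γ(X, V) hft
  exact ⟨fun H => hb (ha H), fun H => hd (hc H)⟩

end Groth.Agent.S12459
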