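import Groth.Statements.S3392
import Mathlib
import Groth.Agent.S3447
import Groth.Agent.H9.FibreFormula

set_option linter.style.haveILetI false

set_option autoImplicit false
open CategoryTheory AlgebraicGeometry
universe u
open EGA43

namespace Groth.Agent.S3392

open Groth.Agent.H54

lemma coheight_last_add_length_le {α : Type*} [Preorder α] (l : LTSeries α) :
    Order.coheight l.last + l.length ≤ Order.coheight l.head := by
  have key : ∀ (i : ℕ) (hi : i < l.length + 1),
      Order.coheight l.last + (i : ℕ∞) ≤ Order.coheight (l ⟨l.length - i, by omega⟩) := by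
    intro i
    induction i with
    | zero =>
      intro hi
      rw [Nat.cast_zero, add_zero]
      exact le_of_eq rfl
    | succ k ih =>
      intro hi
      have hk : k < l.length + 1 := by omega
      have hlt : l ⟨l.length - (k + 1), by omega⟩ < l ⟨l.length - k, by omega⟩ :=
        l.strictMono (by simp [Fin.lt_def]; omega)
      calc Order.coheight l.last + ((k + 1 : ℕ) : ℕ∞)
          = (Order.coheight l.last + (k : ℕ∞)) + 1 := by push_cast; rw [add_assoc]
        _ ≤ Order.coheight (l ⟨l.length - k, by omega⟩) + 1 := add_le_add (ih hk) le_rfl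
        _ ≤ Order.coheight (l ⟨l.length - (k + 1), by omega⟩) := Order.coheight_add_one_le hlt
  have h := key l.length (Nat.lt_succ_self _)
  have h0 : l ⟨l.length - l.length, by omega⟩ = l.head := by
    simp [RelSeries.head]
  rwa [h0] at h

/-- The local ring of the fibre at a point, independent of how the fibre is indexed. -/
lemma stalk_dim_congr {X Y : Scheme.{u}} (f : X ⟶ Y) (y : Y) (w : f.fiber y) :
    ringKrullDim ((f.fiber (f.base (f.fiberι y w))).presheaf.stalk (f.asFiber (f.fiberι y w))) =
      ringKrullDim ((f.fiber y).presheaf.stalk w) := by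
  have key : ∀ (x : X) (y : Y) (h : f.base x = y) (w : f.fiber y), f.fiberι y w = x →
      ringKrullDim ((f.fiber (f.base x)).presheaf.stalk (f.asFiber x)) =
        ringKrullDim ((f.fiber y).presheaf.stalk w) := by
    intro x y h w hw
    subst h
    have : w = f.asFiber x := by
      apply (f.fiberι (f.base x)).isEmbedding.injective
      rw [hw, f.fiberι_asFiber]
    rw [this]
  exact key _ y (fiberι_mem f y w) w rfl

theorem ge_aux {X Y : Scheme.{u}} [IsLocallyNoetherian Y] (f : X ⟶ Y) [LocallyOfFiniteType f]
    (x : X)
    (hb : ∀ z : X, f.base z = f.base x →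
      ringKrullDim ((f.fiber (f.base z)).presheaf.stalk (f.asFiber z)) = 0 →
        ringKrullDim (X.presheaf.stalk z) = ringKrullDim (Y.presheaf.stalk (f.base z))) :
    ringKrullDim (Y.presheaf.stalk (f.base x)) +
      ringKrullDim ((f.fiber (f.base x)).presheaf.stalk (f.asFiber x)) ≤
      ringKrullDim (X.presheaf.stalk x) := by
  obtain ⟨b, hb'⟩ := ENat.ne_top_iff_exists.mp
    (coheight_ne_top (fiberQ f (f.base x)) (f.asFiber x))
  obtain ⟨p, hp1, hp2⟩ := Order.exists_series_of_le_coheight (f.asFiber x) (n := b)
    (by rw [← hb'])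
  have h0 : Order.coheight p.last = 0 := by
    have h := coheight_last_add_length_le p
    rw [hp1, ← hb', hp2] at h
    obtain ⟨c, hc⟩ := ENat.ne_top_iff_exists.mp
      (coheight_ne_top (fiberQ f (f.base x)) p.last)
    rw [← hc] at h ⊢
    have : c + b ≤ b := by exact_mod_cast h
    have : c = 0 := by omega
    rw [this]; rfl
  set z' : X := f.fiberι (f.base x) p.last with hz'
  have hfz : f.base z' = f.base x := fiberι_mem f (f.base x) p.last
  have hz0 : ringKrullDim ((f.fiber (f.base z')).presheaf.stalk (f.asFiber z')) = 0 := by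
    rw [hz', stalk_dim_congr, ringKrullDim_stalk_eq_coheight, h0]
    rfl
  have hz1 := hb z' hfz hz0
  rw [hfz] at hz1
  have hsm : StrictMono (f.fiberι (f.base x)).base := by
    intro a c hac
    rw [scheme_lt_iff] at hac ⊢
    refine ⟨hac.1.map (f.fiberι (f.base x)).continuous, fun h => hac.2 ?_⟩
    exact (f.fiberι (f.base x)).isEmbedding.injective h
  have hq := coheight_last_add_length_le (p.map _ hsm)
  rw [LTSeries.last_map, LTSeries.head_map, hp1, f.fiberι_asFiber] at hq
  have hlen : (p.map _ hsm).length = b := hp2
  rw [hlen] at hq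
  rw [ringKrullDim_stalk_eq_coheight (f.asFiber x), ← hb', ringKrullDim_stalk_eq_coheight x,
    ← hz1, ringKrullDim_stalk_eq_coheight z']
  exact_mod_cast hq

theorem result' {X Y : Scheme.{u}} [IrreducibleSpace Y] [IsLocallyNoetherian Y]
    (f : X ⟶ Y) [LocallyOfFiniteType f] [QuasiCompact f] (y : Y) :
    ((∀ x : X, f.base x = y → ringKrullDim (X.presheaf.stalk x) =
        ringKrullDim (Y.presheaf.stalk (f.base x)) + ringKrullDim ((f.fiber (f.base x)).presheaf.stalk (f.asFiber x))) →
      (∀ z : X, f.base z = y → ringKrullDim ((f.fiber (f.base z)).presheaf.stalk (f.asFiber z)) = 0 →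
        ringKrullDim (X.presheaf.stalk z) = ringKrullDim (Y.presheaf.stalk (f.base z)))) ∧
    (CAlg.IsUniversallyCatenary (Y.presheaf.stalk y) →
      (∀ z : X, f.base z = y → ringKrullDim ((f.fiber (f.base z)).presheaf.stalk (f.asFiber z)) = 0 →
        ringKrullDim (X.presheaf.stalk z) = ringKrullDim (Y.presheaf.stalk (f.base z))) →
      (∀ x : X, f.base x = y → ringKrullDim (X.presheaf.stalk x) =
        ringKrullDim (Y.presheaf.stalk (f.base x)) + ringKrullDim ((f.fiber (f.base x)).presheaf.stalk (f.asFiber x)))) := by
  refine ⟨fun ha z hz h0 => ?_, fun _ hb x hx => ?_⟩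
  · rw [ha z hz, h0, add_zero]
  · subst hx
    refine le_antisymm ?_ (ge_aux f x hb)
    have h := Groth.Agent.S3447.main f (f.base x) (f.asFiber x)
    rwa [f.fiberι_asFiber] at h


/-- Let Y be an irreducible locally Noetherian scheme, f : X ⟶ Y a morphism of finite type and y a point
of Y. Condition (a): for every point x of the fibre over y, dim O_{X,x} = dim O_{Y,y} + dim
O_{X_y,x}. Condition (b): for every point z of the fibre over y at which the local ring of the fibre
has dimension 0 (the generic points of the irreducible components of the fibre), dim O_{X,z} = dim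
O_{Y,y}. Then (a) implies (b), and (b) implies (a) if O_{Y,y} is universally catenary. -/
theorem result {X Y : Scheme.{u}} [IrreducibleSpace Y] [IsLocallyNoetherian Y]
    (f : X ⟶ Y) [LocallyOfFiniteType f] [QuasiCompact f] (y : Y) :
    ((∀ x : X, f.base x = y → ringKrullDim (X.presheaf.stalk x) =
        ringKrullDim (Y.presheaf.stalk (f.base x)) + ringKrullDim ((f.fiber (f.base x)).presheaf.stalk (f.asFiber x))) →
      (∀ z : X, f.base z = y → ringKrullDim ((f.fiber (f.base z)).presheaf.stalk (f.asFiber z)) = 0 →
        ringKrullDim (X.presheaf.stalk z) = ringKrullDim (Y.presheaf.stalk (f.base z)))) ∧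
    (CAlg.IsUniversallyCatenary (Y.presheaf.stalk y) →
      (∀ z : X, f.base z = y → ringKrullDim ((f.fiber (f.base z)).presheaf.stalk (f.asFiber z)) = 0 →
        ringKrullDim (X.presheaf.stalk z) = ringKrullDim (Y.presheaf.stalk (f.base z))) →
      (∀ x : X, f.base x = y → ringKrullDim (X.presheaf.stalk x) =
        ringKrullDim (Y.presheaf.stalk (f.base x)) + ringKrullDim ((f.fiber (f.base x)).presheaf.stalk (f.asFiber x)))) := by
  exact result' f y

end Groth.Agent.S3392
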