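import Groth.Statements.S4943
import Mathlib
import Groth.Agent.H9.Equidim
import Groth.Agent.S3392

set_option linter.style.haveILetI false

set_option autoImplicit false
open CategoryTheory AlgebraicGeometry
universe u v w
open EGA43

namespace Groth.Agent.S4943

open Groth.Agent.H54 Groth.Agent.H9.DimFormulaGen Groth.Agent.H9.DimFormulaApp
  Groth.Agent.H9.DimFormulaEq Groth.Agent.H9.FibreGeneric Groth.Agent.H71.DimFun
  Groth.Agent.H9.DimFormulaScheme Groth.Agent.H9.SubschemeDim Groth.Agent.H9.FibreFormula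
  Groth.Agent.H9.Equidim Groth.Agent.H9.FibDim

/-- The local ring of the fibre has dimension at most that of the local ring of the total space. -/
theorem stalk_fibre_dim_le {X Y : Scheme.{u}} (f : X ⟶ Y) (x : X) :
    ringKrullDim ((f.fiber (f.base x)).presheaf.stalk (f.asFiber x)) ≤
      ringKrullDim (X.presheaf.stalk x) := by
  rw [ringKrullDim_stalk_eq_coheight, ringKrullDim_stalk_eq_coheight]
  apply WithBot.coe_le_coe.mpr
  have hsm : StrictMono (f.fiberι (f.base x)).base := by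
    intro a c hac
    rw [scheme_lt_iff] at hac ⊢
    refine ⟨hac.1.map (f.fiberι (f.base x)).continuous, fun h => hac.2 ?_⟩
    exact (f.fiberι (f.base x)).isEmbedding.injective h
  have := Order.coheight_le_coheight_apply_of_strictMono _ hsm (f.asFiber x)
  rwa [f.fiberι_asFiber] at this

/-- If the local ring of the fibre at `x` has the same dimension as the local ring of `X` at `x`,
some maximal point of `X` lies in the fibre through `x` and specializes to `x`. -/
theorem exists_max_of_stalk_dim_eq {X Y : Scheme.{u}} (f : X ⟶ Y) [LocallyOfFiniteType f]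
    (x : X) (b : ℕ)
    (h1 : ringKrullDim ((f.fiber (f.base x)).presheaf.stalk (f.asFiber x)) = (b : WithBot ℕ∞))
    (h2 : ringKrullDim (X.presheaf.stalk x) = (b : WithBot ℕ∞)) :
    ∃ z : X, z ⤳ x ∧ f.base z = f.base x ∧ ∀ t : X, t ⤳ z → t = z := by
  rw [ringKrullDim_stalk_eq_coheight] at h1 h2
  have h1' : Order.coheight (f.asFiber x) = (b : ℕ∞) := by exact_mod_cast h1
  have h2' : Order.coheight x = (b : ℕ∞) := by exact_mod_cast h2
  obtain ⟨p, hp1, hp2⟩ := Order.exists_series_of_le_coheight (f.asFiber x) (n := b)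
    (by rw [h1'])
  have hsm : StrictMono (f.fiberι (f.base x)).base := by
    intro a c hac
    rw [scheme_lt_iff] at hac ⊢
    refine ⟨hac.1.map (f.fiberι (f.base x)).continuous, fun h => hac.2 ?_⟩
    exact (f.fiberι (f.base x)).isEmbedding.injective h
  have hq := Groth.Agent.S3392.coheight_last_add_length_le (p.map _ hsm)
  rw [LTSeries.last_map, LTSeries.head_map, hp1, f.fiberι_asFiber] at hq
  have hlen : (p.map _ hsm).length = b := hp2
  rw [hlen, h2'] at hq
  have h0 : Order.coheight ((f.fiberι (f.base x)).base p.last) = 0 := by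
    have h3 : Order.coheight ((f.fiberι (f.base x)).base p.last) ≠ ⊤ := by
      intro htop
      rw [htop, top_add] at hq
      exact ENat.natCast_ne_top b (top_le_iff.mp hq)
    obtain ⟨c, hc⟩ := ENat.ne_top_iff_exists.mp h3
    rw [← hc] at hq ⊢
    have : c + b ≤ b := by exact_mod_cast hq
    have : c = 0 := by omega
    rw [this]; rfl
  refine ⟨(f.fiberι (f.base x)).base p.last, ?_, fiberι_mem f (f.base x) p.last, ?_⟩
  · have h : p.head ≤ p.last := LTSeries.head_le_last p
    rw [hp1] at h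
    have := (Scheme.le_iff_specializes.mp h).map (f.fiberι (f.base x)).continuous
    rwa [f.fiberι_asFiber] at this
  · intro t ht
    rw [Order.coheight_eq_zero] at h0
    have h4 : (f.fiberι (f.base x)).base p.last ≤ t := Scheme.le_iff_specializes.mpr ht
    have h5 := h0 h4
    exact ((Scheme.le_iff_specializes.mp h5).antisymm ht).eq.symm

/-- An element of `WithBot ℕ∞` squeezed between two naturals is a natural. -/
theorem exists_nat_of_le_of_le (L : WithBot ℕ∞) (a c : ℕ) (h1 : (a : WithBot ℕ∞) ≤ L)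
    (h2 : L ≤ (c : WithBot ℕ∞)) : ∃ ℓ : ℕ, L = (ℓ : WithBot ℕ∞) := by
  induction L using WithBot.recBotCoe with
  | bot =>
    exfalso
    have : (a : WithBot ℕ∞) = ⊥ := le_bot_iff.mp h1
    exact absurd this (by
      rw [show ((a : ℕ) : WithBot ℕ∞) = (((a : ℕ) : ℕ∞) : WithBot ℕ∞) from rfl]
      exact WithBot.coe_ne_bot)
  | coe d =>
    induction d using ENat.recTopCoe with
    | top =>
      exfalso
      have h3 : (⊤ : ℕ∞) ≤ (c : ℕ∞) := by exact_mod_cast h2
      exact ENat.natCast_ne_top c (top_le_iff.mp h3)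
    | coe m => exact ⟨m, rfl⟩

theorem core {Z X Y : Scheme.{u}} [IrreducibleSpace Y] [IsLocallyNoetherian Y] (f : X ⟶ Y)
    [LocallyOfFiniteType f] (x : X) (hf : EGA43.IsEquidimAt f x)
    (j : Z ⟶ X) [IsClosedImmersion j] (X' : Set X) (hr : Set.range j.base = X') (x' : X)
    (hx' : closure ({x'} : Set X) = X') (hx : x ∈ X') (n : ℕ)
    (hcodim : ringKrullDim (X.presheaf.stalk x') ≤ n)
    (hdim : FlatMor.localDim ↥(X' ∩ f.base ⁻¹' {f.base x}) ⟨x, ⟨hx, rfl⟩⟩ + n ≤
      FlatMor.fibreDimAt f x) :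
    ringKrullDim (X.presheaf.stalk x') = n ∧
      FlatMor.localDim ↥(X' ∩ f.base ⁻¹' {f.base x}) ⟨x, ⟨hx, rfl⟩⟩ + n = FlatMor.fibreDimAt f x ∧
      ∀ w : Z, j.base w = x → EGA43.IsEquidimAt (j ≫ f) w := by
  haveI : IsLocallyNoetherian X := LocallyOfFiniteType.isLocallyNoetherian f
  have hjemb : Topology.IsEmbedding j.base := j.isEmbedding
  obtain ⟨e₀, U, hxU, hA, hB⟩ := exists_of_isEquidimAt f x hf
  have hx'x : x' ⤳ x := by rw [specializes_iff_mem_closure, hx']; exact hx
  have hx'U : x' ∈ U := hx'x.mem_open U.2 hxU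
  obtain ⟨w₀, hw₀⟩ : ∃ w₀ : Z, j.base w₀ = x := by rw [← hr] at hx; exact hx
  obtain ⟨ξ', hξ'⟩ : ∃ ξ' : Z, j.base ξ' = x' := by
    have : x' ∈ X' := by rw [← hx']; exact subset_closure rfl
    rw [← hr] at this; exact this
  have hξall : ∀ a : Z, ξ' ⤳ a := by
    intro a
    rw [← hjemb.isInducing.specializes_iff, hξ', specializes_iff_mem_closure, hx', ← hr]
    exact ⟨a, rfl⟩
  have hξmax : ∀ t : Z, t ⤳ ξ' → t = ξ' := fun t ht => (ht.antisymm (hξall t)).eq
  -- transcendence degrees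
  obtain ⟨E', hE'⟩ := exists_trdeg_eq_nat (j ≫ f) ξ'
  obtain ⟨n₁, b', hn₁, hb', hfd⟩ := fibre_formula f (j.base ξ')
  have hn₁E : n₁ = E' := by
    have h1 := trdeg_comp_of_surjectiveOnStalks j f ξ'
    have h2 : (n₁ : Cardinal.{u}) = (E' : Cardinal.{u}) := hn₁.symm.trans (h1.symm.trans hE')
    exact_mod_cast h2
  subst hn₁E
  rw [hξ'] at hfd hb'
  rw [hA x' hx'U] at hfd
  have he₀ : e₀ = n₁ + b' := by exact_mod_cast hfd
  -- local dimension of the fibre of `X'`
  have hL := localDim_inter_fibre_eq j hjemb X' hr f w₀ x hw₀ hx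
  rw [hL, hA x hxU] at hdim ⊢
  -- Chevalley
  have hfξ := fibreDimAt_eq_trdeg_of_forall (j ≫ f) ξ' hξmax n₁ hE'
  have hC := Groth.Agent.S1554.fibreDimAt_le_of_specializes (j ≫ f) (hξall w₀)
  rw [hfξ] at hC
  obtain ⟨ℓ, hℓ⟩ := exists_nat_of_le_of_le (FlatMor.fibreDimAt (j ≫ f) w₀) n₁ e₀ hC
    (le_trans (le_add_of_nonneg_right (by exact_mod_cast Nat.zero_le n)) hdim)
  rw [hℓ] at hC hdim ⊢
  have c1 : n₁ ≤ ℓ := by exact_mod_cast hC
  have c2 : ℓ + n ≤ e₀ := by exact_mod_cast hdim
  -- stalks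
  obtain ⟨n₀, hn₀⟩ := exists_ringKrullDim_eq_nat (X.presheaf.stalk x')
  have c3 : n₀ ≤ n := by rw [hn₀] at hcodim; exact_mod_cast hcodim
  have c4 : b' ≤ n₀ := by
    have := stalk_fibre_dim_le f x'
    rw [hb', hn₀] at this
    exact_mod_cast this
  have c5 : n₀ = n := by omega
  have c6 : b' = n₀ := by omega
  have c7 : ℓ + n = e₀ := by omega
  have c8 : ℓ = n₁ := by omega
  refine ⟨by rw [hn₀, c5], by exact_mod_cast c7, ?_⟩
  intro w hw
  have hww : w = w₀ := hjemb.injective (hw.trans hw₀.symm)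
  subst hww
  -- the generic point of `X'` maps to the generic point of `Y`
  have hgξ : (j ≫ f).base ξ' = genericPoint Y := by
    obtain ⟨z, hzx, hfz, hzmax⟩ := exists_max_of_stalk_dim_eq f x' b' hb' (by rw [hn₀, c6])
    have hzU : z ∈ U := hzx.mem_open U.2 hx'U
    have := hB z hzU hzmax
    rw [hfz, ← hξ'] at this
    exact this
  let U' : Z.Opens := (j ⁻¹ᵁ U) ⊓ ⟨{z | FlatMor.fibreDimAt (j ≫ f) z ≤ (n₁ : WithBot ℕ∞)},
    isOpen_setOf_fibreDimAt_le (j ≫ f) n₁⟩
  have hwU' : w ∈ U' := by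
    refine ⟨?_, ?_⟩
    · show j.base w ∈ U
      rw [hw]; exact hxU
    · show FlatMor.fibreDimAt (j ≫ f) w ≤ (n₁ : WithBot ℕ∞)
      rw [hℓ, c8]
  refine isEquidimAt_of_forall (j ≫ f) w n₁ U' hwU' ?_ ?_
  · intro ξ _ hξ
    have : ξ' = ξ := hξ ξ' (hξall ξ)
    rw [← this]
    exact hgξ
  · intro z hz
    apply le_antisymm hz.2
    have := Groth.Agent.S1554.fibreDimAt_le_of_specializes (j ≫ f) (hξall z)
    rwa [hfξ] at this

theorem result' {X Y : Scheme.{u}} [IrreducibleSpace Y]
    [IsLocallyNoetherian Y] (f : X ⟶ Y) [LocallyOfFiniteType f] (x : X) (hf : EGA43.IsEquidimAt f x)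
    (X' : TopologicalSpace.Closeds X) (x' : X) (hx' : closure ({x'} : Set X) = (X' : Set X)) (hx : x ∈ X') (n : ℕ)
    (hcodim : ringKrullDim (X.presheaf.stalk x') ≤ n)
    (hdim : FlatMor.localDim ↥((X' : Set X) ∩ f.base ⁻¹' {f.base x}) ⟨x, ⟨hx, rfl⟩⟩ + n ≤ FlatMor.fibreDimAt f x) :
    ringKrullDim (X.presheaf.stalk x') = n ∧
      FlatMor.localDim ↥((X' : Set X) ∩ f.base ⁻¹' {f.base x}) ⟨x, ⟨hx, rfl⟩⟩ + n = FlatMor.fibreDimAt f x ∧
      ∀ w : ↥(Scheme.IdealSheafData.vanishingIdeal X').subscheme,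
        (Scheme.IdealSheafData.vanishingIdeal X').subschemeι.base w = x →
        EGA43.IsEquidimAt ((Scheme.IdealSheafData.vanishingIdeal X').subschemeι ≫ f) w := by
  have hr1 : Set.range (Scheme.IdealSheafData.vanishingIdeal X').subschemeι.base = (X' : Set X) := by
    rw [Scheme.IdealSheafData.range_subschemeι, Scheme.IdealSheafData.coe_support_vanishingIdeal]
  exact core f x hf (Scheme.IdealSheafData.vanishingIdeal X').subschemeι (X' : Set X) hr1 x' hx' hx n
    hcodim hdim


/-- Let Y be an irreducible locally Noetherian scheme, f : X ⟶ Y a morphism locally of finite type which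
is equidimensional at the point x, y = f x and e = dim_x(X_y). Let X' be an irreducible closed
subset of X containing x, with generic point x', and n a natural number such that codim(X', X) ≤ n
(the codimension being dim O_{X,x'}) and dim_x(X' ∩ X_y) ≤ e − n. Then codim(X', X) = n, dim_x(X' ∩
X_y) = e − n, and the restriction of f to X' with its reduced subscheme structure is equidimensional
at x. -/
theorem result {X Y : Scheme.{u}} [IrreducibleSpace Y]
    [IsLocallyNoetherian Y] (f : X ⟶ Y) [LocallyOfFiniteType f] (x : X) (hf : EGA43.IsEquidimAt f x)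
    (X' : TopologicalSpace.Closeds X) (x' : X) (hx' : closure ({x'} : Set X) = (X' : Set X)) (hx : x ∈ X') (n : ℕ)
    (hcodim : ringKrullDim (X.presheaf.stalk x') ≤ n)
    (hdim : FlatMor.localDim ↥((X' : Set X) ∩ f.base ⁻¹' {f.base x}) ⟨x, ⟨hx, rfl⟩⟩ + n ≤ FlatMor.fibreDimAt f x) :
    ringKrullDim (X.presheaf.stalk x') = n ∧
      FlatMor.localDim ↥((X' : Set X) ∩ f.base ⁻¹' {f.base x}) ⟨x, ⟨hx, rfl⟩⟩ + n = FlatMor.fibreDimAt f x ∧
      ∀ w : ↥(Scheme.IdealSheafData.vanishingIdeal X').subscheme,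
        (Scheme.IdealSheafData.vanishingIdeal X').subschemeι.base w = x →
        EGA43.IsEquidimAt ((Scheme.IdealSheafData.vanishingIdeal X').subschemeι ≫ f) w := by
  exact result' f x hf X' x' hx' hx n hcodim hdim

end Groth.Agent.S4943
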