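import Groth.Statements.S10096
import Mathlib.CategoryTheory.Sites.LocallySurjective
import Groth.Agent.H52.Topology

set_option autoImplicit false
universe u
open CategoryTheory CategoryTheory.Limits AlgebraicGeometry
open AlgSp

namespace Groth.Agent.S10096

open Groth.Agent.H52 Opposite

/-- A flat, surjective, locally finitely presented morphism of schemes over `S` generates a covering
sieve of the fppf topology. -/
theorem generate_singleton_mem_J {S : Scheme.{u}} {W T : Over S} (h : W ⟶ T) [Flat h.left]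
    [Surjective h.left] [LocallyOfFinitePresentation h.left] :
    Sieve.generate (Presieve.singleton h) ∈ AlgSp.J S T := by
  rw [AlgSp.J_eq, GrothendieckTopology.mem_over_iff]
  refine Scheme.fppfTopology.superset_covering ?_
    (Precoverage.generate_mem_toGrothendieck h.left.singleton_mem_fppfPrecoverage)
  rintro Z g ⟨Y, k, f, ⟨⟩, rfl⟩
  rw [Sieve.overEquiv_iff]
  refine ⟨W, Over.homMk k (by simp), h, Presieve.singleton.mk, ?_⟩
  ext
  simp


/-- Let `a : F ⟶ G` be a map of fppf sheaves of sets over `S` that is flat, surjective, locally of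
finite presentation and representable by algebraic spaces (every base change `h_U ×_G F ⟶ h_U` to a
scheme is such a morphism of algebraic spaces). Then `a` is surjective as a map of sheaves (an
epimorphism of fppf sheaves). -/
theorem result (S : Scheme.{u}) (F G : AlgSp.Sp S) (a : F ⟶ G)
    (ha : AlgSp.RepBySpWith (AlgSp.IsSurjectiveMor ⊓ AlgSp.LocP @Flat ⊓ AlgSp.LocP @LocallyOfFinitePresentation) a.hom) :
    Epi a := by
  have hls : Presheaf.IsLocallySurjective (AlgSp.J S) a.hom := by
    constructor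
    intro T y
    obtain ⟨ξ, hξ⟩ : ∃ ξ : (AlgSp.yon S).obj T ⟶ G, ξ.hom = uliftYonedaEquiv.symm y :=
      ⟨ObjectProperty.homMk (uliftYonedaEquiv.symm y), rfl⟩
    have sqF := IsPullback.of_hasPullback a ξ
    obtain ⟨hF', hQ⟩ := (AlgSp.repBySpWith_hom_iff _ a).1 ha ξ _ _ sqF
    obtain ⟨⟨hsurj, hflat⟩, hlfp⟩ := hQ
    obtain ⟨W, r, hr1, hr2⟩ := hF'.atlas
    obtain ⟨h, hh⟩ : ∃ h : W ⟶ T, (AlgSp.yon S).map h = r ≫ pullback.snd a ξ :=
      ⟨(AlgSp.yon S).preimage _, (AlgSp.yon S).map_preimage _⟩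
    have hcomm : r ≫ pullback.snd a ξ = (AlgSp.yon S).map h ≫ 𝟙 _ := by
      rw [Category.comp_id, hh]
    have hflat' : Flat h.left := hflat r (𝟙 _) h hr1 (AlgSp.repWith_id _ T) hcomm
    have hlfp' : LocallyOfFinitePresentation h.left :=
      hlfp r (𝟙 _) h hr1 (AlgSp.repWith_id _ T) hcomm
    have hsurj' : Surjective h.left := ⟨fun τ => by
      obtain ⟨z, hz⟩ := hsurj (AlgSp.Points.ofScheme T τ)
      obtain ⟨w, rfl⟩ := surjective_ofPt_of_surjective r hr2 z
      rw [AlgSp.Points.map_ofPt, ← hh, AlgSp.Points.ofPt_eq_map_ofScheme,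
        map_yon_map_ofScheme] at hz
      exact ⟨w, ofScheme_injective T hz⟩⟩
    refine (AlgSp.J S).superset_covering ?_ (generate_singleton_mem_J h)
    rintro Z g ⟨Y, k, f, ⟨⟩, rfl⟩
    apply (Presheaf.imageSieve a.hom y).downward_closed
    refine ⟨uliftYonedaEquiv (r ≫ pullback.fst a ξ).hom, ?_⟩
    have e : (r ≫ pullback.fst a ξ).hom ≫ a.hom = (AlgSp.pyon S).map h ≫ ξ.hom := by
      have h0 : (r ≫ pullback.fst a ξ) ≫ a = (AlgSp.yon S).map h ≫ ξ := by
        rw [Category.assoc, sqF.w, ← Category.assoc, hh]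
      exact congrArg (fun m => m.hom) h0
    calc a.hom.app (op W) (uliftYonedaEquiv (r ≫ pullback.fst a ξ).hom)
        = uliftYonedaEquiv ((r ≫ pullback.fst a ξ).hom ≫ a.hom) := rfl
      _ = uliftYonedaEquiv ((AlgSp.pyon S).map h ≫ ξ.hom) :=
          congrArg (fun m : (AlgSp.pyon S).obj W ⟶ G.obj => uliftYonedaEquiv m) e
      _ = G.obj.map h.op (uliftYonedaEquiv ξ.hom) :=
          (uliftYonedaEquiv_naturality ξ.hom h.op).symm
      _ = G.obj.map h.op y := by rw [hξ, Equiv.apply_symm_apply]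
  exact Sheaf.epi_of_isLocallySurjective' a

end Groth.Agent.S10096
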