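import Groth.Statements.S10179
import Groth.Agent.H52.Topology

set_option autoImplicit false
universe u
open CategoryTheory CategoryTheory.Limits AlgebraicGeometry Topology TopologicalSpace
open AlgSp AlgSp.Points

namespace Groth.Agent.S10179

/-- For an algebraic space X over a scheme S, every point x of |X| has a fundamental system of
quasi-compact open neighbourhoods: every open subset of |X| containing x contains a quasi-compact
open subset containing x. In particular |X| is locally quasi-compact. -/
theorem result {S : Scheme.{u}} (X : AlgSp.Space S) (x : AlgSp.Points X.obj)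
    (W : Set (AlgSp.Points X.obj)) (hW : IsOpen W) (hx : x ∈ W) :
    ∃ V : Set (AlgSp.Points X.obj), IsOpen V ∧ IsCompact V ∧ x ∈ V ∧ V ⊆ W := by
  obtain ⟨U, p, hpe, hps⟩ := X.property.atlas
  obtain ⟨u, rfl⟩ := Groth.Agent.H52.surjective_ofPt_of_surjective p hps x
  have hopen : IsOpen (AlgSp.Points.ofPt p ⁻¹' W) := hW.preimage (AlgSp.Points.continuous_ofPt p)
  obtain ⟨_, ⟨V, hV, rfl⟩, huV, hVW⟩ :=
    (U.left.isBasis_affineOpens).exists_subset_of_mem_open (show u ∈ AlgSp.Points.ofPt p ⁻¹' W from hx) hopen
  refine ⟨AlgSp.Points.ofPt p '' (V : Set ↥U.left), ?_, ?_, ⟨u, huV, rfl⟩, ?_⟩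
  · exact Groth.Agent.H52.isOpenMap_ofPt_of_etale p hpe _ V.2
  · exact (show IsAffineOpen V from hV).isCompact.image (AlgSp.Points.continuous_ofPt p)
  · rintro _ ⟨v, hv, rfl⟩
    exact hVW hv

end Groth.Agent.S10179
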