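import Groth.Statements.S10180
import Groth.Agent.H52.Charts
import Mathlib.AlgebraicGeometry.Limits

set_option autoImplicit false
universe u
open CategoryTheory CategoryTheory.Limits AlgebraicGeometry Topology TopologicalSpace
open AlgSp

namespace Groth.Agent.S10180

/-- An algebraic space X over a scheme S is quasi-compact if and only if there exist an affine scheme U
over S and a representable etale, representable surjective map h_U ⟶ X. -/
theorem result {S : Scheme.{u}} (X : AlgSp.Space S) :
    AlgSp.IsQuasiCompactSp X.obj ↔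
      ∃ (U : Over S) (p : (AlgSp.yon S).obj U ⟶ X.obj),
        IsAffine U.left ∧ AlgSp.RepWith @Etale p ∧ AlgSp.RepWith @Surjective p := by
  constructor
  · rintro ⟨U, p, hpe, hps, hU⟩
    have : CompactSpace ↥U.left := hU
    let 𝒰 := U.left.affineCover.finiteSubcover
    let d : (∐ 𝒰.X) ⟶ U.left := Sigma.desc 𝒰.f
    have hd1 : Etale d := IsZariskiLocalAtSource.sigmaDesc (fun _ => inferInstance)
    have hd2 : Surjective d := inferInstanceAs (Surjective (Sigma.desc fun i => 𝒰.f i))
    have haff : ∀ i, IsAffine (𝒰.X i) := fun i => by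
      dsimp only [𝒰, Scheme.OpenCover.finiteSubcover]
      infer_instance
    let ψ : Groth.Agent.H52.overOf (U := U) d ⟶ U := Groth.Agent.H52.overOfHom d
    refine ⟨Groth.Agent.H52.overOf (U := U) d, (AlgSp.yon S).map ψ ≫ p, ?_, ?_, ?_⟩
    · change IsAffine (∐ 𝒰.X)
      infer_instance
    · exact Groth.Agent.H52.repWith_yon_map_comp @Etale ψ hd1 p hpe
    · exact Groth.Agent.H52.repWith_yon_map_comp @Surjective ψ hd2 p hps
  · rintro ⟨U, p, hU, hpe, hps⟩
    exact ⟨U, p, hpe, hps, inferInstance⟩

end Groth.Agent.S10180
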