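import Groth.Statements.S9334
import Mathlib.AlgebraicGeometry.Noetherian
import Mathlib.Topology.NoetherianSpace
import Mathlib.Topology.Sober

set_option autoImplicit false
universe u
open QFin

namespace Groth.Agent.S9334

open TopologicalSpace in
lemma isOpen_singleton_of_noGenerization {α : Type*} [TopologicalSpace α] [NoetherianSpace α]
    [QuasiSober α] (y : α) (hc : IsClosed ({y} : Set α)) (hg : ∀ x', x' ⤳ y → x' = y) :
    IsOpen ({y} : Set α) := by
  have hfin := NoetherianSpace.finite_irreducibleComponents (α := α)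
  have hB : IsClosed (⋃ Z ∈ {Z ∈ irreducibleComponents α | y ∉ Z}, Z) :=
    (hfin.subset (Set.sep_subset _ _)).isClosed_biUnion
      (fun Z hZ => isClosed_of_mem_irreducibleComponents Z hZ.1)
  have heq : ({y} : Set α) = (⋃ Z ∈ {Z ∈ irreducibleComponents α | y ∉ Z}, Z)ᶜ := by
    ext w
    simp only [Set.mem_singleton_iff, Set.mem_compl_iff]
    constructor
    · rintro rfl hw
      simp only [Set.mem_iUnion, Set.mem_setOf_eq] at hw
      obtain ⟨Z, ⟨_, h1⟩, h2⟩ := hw
      exact h1 h2
    · intro hw
      have hZ := irreducibleComponent_mem_irreducibleComponents w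
      have hyZ : y ∈ irreducibleComponent w := by
        by_contra h
        exact hw (Set.mem_biUnion (⟨hZ, h⟩ : irreducibleComponent w ∈
          {Z ∈ irreducibleComponents α | y ∉ Z}) mem_irreducibleComponent)
      obtain ⟨η, hη⟩ := QuasiSober.sober (isIrreducible_irreducibleComponent (x := w))
        (isClosed_irreducibleComponent (x := w))
      have h1 : η ⤳ y := by
        rw [specializes_iff_mem_closure, hη.def]
        exact hyZ
      have h2 := hg η h1
      subst h2
      have h3 : w ∈ closure {η} := by
        rw [hη.def]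
        exact mem_irreducibleComponent
      rw [hc.closure_eq] at h3
      exact h3
  rw [heq]
  exact hB.isOpen_compl

open TopologicalSpace in
lemma isOpen_singleton_of_open_nhd {α : Type*} [TopologicalSpace α] (V : Set α) (hV : IsOpen V)
    (hN : NoetherianSpace V) (hQ : QuasiSober V) (y : α) (hy : y ∈ V)
    (hc : IsClosed ({y} : Set α)) (hg : ∀ x' : α, x' ⤳ y → x' = y) : IsOpen ({y} : Set α) := by
  have hemb : Topology.IsOpenEmbedding (Subtype.val : V → α) := hV.isOpenEmbedding_subtypeVal
  have h1 : IsOpen ({(⟨y, hy⟩ : V)} : Set V) := by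
    apply isOpen_singleton_of_noGenerization
    · have h0 : ({(⟨y, hy⟩ : V)} : Set V) = (Subtype.val : V → α) ⁻¹' {y} := by
        ext z
        rw [Set.mem_singleton_iff, Set.mem_preimage, Set.mem_singleton_iff]
        exact Subtype.ext_iff
      rw [h0]
      exact hc.preimage continuous_subtype_val
    · intro x' hx'
      exact Subtype.ext (hg x'.1 (hx'.map continuous_subtype_val))
  have h2 := hemb.isOpenMap _ h1
  rwa [Set.image_singleton] at h2

open AlgebraicGeometry TopologicalSpace in
lemma isOpen_singleton_of_isLocallyNoetherian (F : Scheme.{u}) [IsLocallyNoetherian F] (y : F)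
    (hc : IsClosed ({y} : Set F)) (hg : ∀ x' : F, x' ⤳ y → x' = y) : IsOpen ({y} : Set F) := by
  obtain ⟨_, ⟨U, hU, rfl⟩, hyU0, -⟩ := F.isBasis_affineOpens.exists_subset_of_mem_open
    (Set.mem_univ y) isOpen_univ
  have : IsNoetherianRing Γ(F, U) := IsLocallyNoetherian.component_noetherian ⟨U, hU⟩
  have hN : NoetherianSpace U := noetherianSpace_of_isAffineOpen U hU
  have hemb : Topology.IsOpenEmbedding (Subtype.val : U → F) := U.isOpen.isOpenEmbedding_subtypeVal
  have hQ : QuasiSober U := hemb.quasiSober
  exact isOpen_singleton_of_open_nhd (U : Set F) U.isOpen hN hQ y hyU0 hc hg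

open AlgebraicGeometry CategoryTheory in
/-- Let f : X → S be locally of finite type, x ∈ X, and write s = f x. The morphism f is quasi-finite at
x exactly when x is a closed point of the fibre X_s and no point x' ≠ x of X_s specializes to x. -/
theorem result {X S : Scheme.{u}} (f : X ⟶ S) [LocallyOfFiniteType f] (x : X) :
    f.QuasiFiniteAt x ↔
      (IsClosed ({f.asFiber x} : Set ↑(f.fiber (f.base x))) ∧
        ∀ x' : ↑(f.fiber (f.base x)), x' ⤳ f.asFiber x → x' = f.asFiber x) := by
  have : IsLocallyNoetherian (f.fiber (f.base x)) := by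
    unfold Scheme.Hom.fiber
    infer_instance
  constructor
  · intro hx
    have h1 := hx.isClopen_singleton_asFiber
    refine ⟨h1.1, fun x' hx' => ?_⟩
    exact hx'.mem_open h1.2 rfl
  · rintro ⟨hc, hg⟩
    exact Scheme.Hom.quasiFiniteAt_iff_isOpen_singleton_asFiber.mpr
      (isOpen_singleton_of_isLocallyNoetherian _ _ hc hg)

end Groth.Agent.S9334
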