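import Groth.Statements.S1608
import Groth.Agent.S1554
import Groth.Agent.S9334

set_option linter.style.haveILetI false

set_option autoImplicit false
universe u
open CategoryTheory CategoryTheory.Limits AlgebraicGeometry
open Variety

namespace Groth.Agent.S1608

open AlgebraicGeometry CategoryTheory Groth.Agent.H9.FibreFormula
  Groth.Agent.H9.DimFormulaScheme Groth.Agent.H54 Groth.Agent.H9.FibreGeneric
  Groth.Agent.H9.DimFormulaRel Groth.Agent.H9.FibDim

set_option backward.isDefEq.respectTransparency.types false in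
/-- In a Jacobson scheme locally of finite type over a field, a point whose residue field is
algebraic over the base field is closed. -/
theorem isClosed_of_tdeg_eq_zero {k : Type u} [Field k] {F : Scheme.{u}}
    (s : F ⟶ Spec (CommRingCat.of k)) [LocallyOfFiniteType s] [JacobsonSpace F] (z : F)
    (hz : tdeg s z = 0) : IsClosed ({z} : Set F) := by
  obtain ⟨A, j, hj, ψ, hψ, hft, ⟨P, rfl⟩, -⟩ := exists_chart s z ⊤ trivial
  have h1 := ringKrullDim_quotient_chart s j ψ hψ hft P
  rw [hz] at h1
  haveI : Ring.KrullDimLE 0 (A ⧸ (P : PrimeSpectrum A).asIdeal) :=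
    Ring.krullDimLE_iff.mpr (by rw [h1])
  have hfield : IsField (A ⧸ (P : PrimeSpectrum A).asIdeal) := Ring.KrullDimLE.isField_of_isDomain
  have hmax : (P : PrimeSpectrum A).asIdeal.IsMaximal := Ideal.Quotient.maximal_of_isField _ hfield
  have hclP : IsClosed ({P} : Set (Spec A)) :=
    (PrimeSpectrum.isClosed_singleton_iff_isMaximal P).mpr hmax
  apply isClosed_singleton_of_isLocallyClosed_singleton
  rw [← Set.image_singleton]
  exact hclP.isLocallyClosed.image j.isOpenEmbedding.isInducing
    j.isOpenEmbedding.isOpen_range.isLocallyClosed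

/-- Quasi-finiteness at a point implies that the local fibre dimension is zero. -/
theorem fibreDimAt_eq_zero_of_quasiFiniteAt {X Y : Scheme.{u}} (f : X ⟶ Y) [LocallyOfFiniteType f]
    (x : X) (h : f.QuasiFiniteAt x) : FlatMor.fibreDimAt f x = ((0 : ℕ) : WithBot ℕ∞) := by
  have hopen : IsOpen ({f.asFiber x} : Set (f.fiber (f.base x))) :=
    Scheme.Hom.quasiFiniteAt_iff_isOpen_singleton_asFiber.mp h
  apply le_antisymm
  · have h1 := localDim_le_of_mem (f.fiber (f.base x)) (f.asFiber x) ⟨{f.asFiber x}, hopen⟩ rfl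
    refine h1.trans ?_
    haveI : Subsingleton ↥({f.asFiber x} : Set (f.fiber (f.base x))) :=
      (Set.subsingleton_coe _).mpr Set.subsingleton_singleton
    haveI : DiscreteTopology ↥({f.asFiber x} : Set (f.fiber (f.base x))) :=
      Subsingleton.discreteTopology
    exact topologicalKrullDim_zero_of_discreteTopology
      ↥({f.asFiber x} : Set (f.fiber (f.base x)))
  · have hne : FlatMor.fibreDimAt f x ≠ ⊥ := by
      rw [fibreDimAt_eq_tfd]; exact localDim_ne_bot _ _
    obtain ⟨a, ha⟩ := WithBot.ne_bot_iff_exists.mp hne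
    rw [← ha]
    exact WithBot.coe_le_coe.mpr zero_le

/-- Local fibre dimension zero implies quasi-finiteness at the point. -/
theorem quasiFiniteAt_of_fibreDimAt_eq_zero {X Y : Scheme.{u}} (f : X ⟶ Y)
    [LocallyOfFiniteType f] (x : X) (h : FlatMor.fibreDimAt f x = ((0 : ℕ) : WithBot ℕ∞)) :
    f.QuasiFiniteAt x := by
  rw [Groth.Agent.S9334.result]
  obtain ⟨n, b, hn, hb, hfd⟩ := fibre_formula_aux f (f.base x) (f.asFiber x)
  have hfd' : ((n + b : ℕ) : WithBot ℕ∞) = ((0 : ℕ) : WithBot ℕ∞) := hfd.symm.trans h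
  have hnb : n + b = 0 := by exact_mod_cast hfd'
  have hn0 : n = 0 := by omega
  have hb0 : b = 0 := by omega
  subst hn0 hb0
  constructor
  · apply isClosed_of_tdeg_eq_zero (fiberQ f (f.base x))
    have h1 := trdeg_fiber_eq f (f.base x) (f.asFiber x)
    have h2 : ((tdeg (fiberQ f (f.base x)) (f.asFiber x) : ℕ) : Cardinal.{u}) =
        ((0 : ℕ) : Cardinal.{u}) := h1.symm.trans hn
    exact_mod_cast h2
  · intro x' hx'
    rw [ringKrullDim_stalk_eq_coheight] at hb
    have hco : Order.coheight (f.asFiber x) = 0 := by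
      have : ((Order.coheight (f.asFiber x) : ℕ∞) : WithBot ℕ∞) = ((0 : ℕ∞) : WithBot ℕ∞) := by
        rw [hb]; rfl
      exact WithBot.coe_inj.mp this
    rw [Order.coheight_eq_zero] at hco
    have h1 : f.asFiber x ≤ x' := Scheme.le_iff_specializes.mpr hx'
    have h2 : x' ≤ f.asFiber x := hco h1
    exact (hx'.antisymm (Scheme.le_iff_specializes.mp h2)).eq

theorem result' {X Y : Scheme.{u}} (f : X ⟶ Y) [LocallyOfFiniteType f]
    (y : Y) [IsNoetherianRing (Y.presheaf.stalk y)] (hy : ringKrullDim (Y.presheaf.stalk y) ≤ 1)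
    (hgen : ∀ Z ∈ irreducibleComponents (X : Type u), ∀ η : X, IsGenericPoint η Z →
      f.QuasiFiniteAt η)
    (x : X) (hx : f.base x = y) : f.QuasiFiniteAt x := by
  subst hx
  apply quasiFiniteAt_of_fibreDimAt_eq_zero
  exact Groth.Agent.S1554.result f x hy 0 (fun Z hZ _ η hη =>
    fibreDimAt_eq_zero_of_quasiFiniteAt f η (hgen Z hZ η hη))


/-- Let f : X → Y be locally of finite type, and let y ∈ Y be a point whose local ring is Noetherian of
dimension at most one. Suppose f is quasi-finite at the generic point of each irreducible component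
of X. Then f is quasi-finite at each point x of X with f(x) = y. -/
theorem result {X Y : Scheme.{u}} (f : X ⟶ Y) [LocallyOfFiniteType f]
    (y : Y) [IsNoetherianRing (Y.presheaf.stalk y)] (hy : ringKrullDim (Y.presheaf.stalk y) ≤ 1)
    (hgen : ∀ Z ∈ irreducibleComponents (X : Type u), ∀ η : X, IsGenericPoint η Z → f.QuasiFiniteAt η)
    (x : X) (hx : f.base x = y) : f.QuasiFiniteAt x := by
  exact result' f y hy hgen x hx

end Groth.Agent.S1608
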