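import Groth.Statements.S10810
import Groth.Agent.H25.LocRingedEt

set_option autoImplicit false
universe u
open CategoryTheory CategoryTheory.Limits AlgebraicGeometry Topology TopologicalSpace
open AlgSp

namespace Groth.Agent.S10810

open Groth.Agent.H25.LocRingedEt in
theorem exists_primeAtPt_eq (U : Scheme.{u}) [IsAffine U] (p : Ideal Γ(U, ⊤)) [hp : p.IsPrime] :
    ∃ x : U, AlgSp.primeAtPt U x = p := by
  have hU := isAffineOpen_top U
  let x : (⊤ : U.Opens) := hU.isoSpec.inv (⟨p, hp⟩ : PrimeSpectrum Γ(U, ⊤))
  have h1 : hU.primeIdealOf x = ⟨p, hp⟩ := by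
    change hU.isoSpec.hom (hU.isoSpec.inv _) = _
    rw [← Scheme.Hom.comp_apply, Iso.inv_hom_id]
    rfl
  have h2 := hU.primeIdealOf_eq_map_closedPoint x
  refine ⟨x.1, ?_⟩
  have h3 := congrArg PrimeSpectrum.asIdeal (h2.symm.trans h1)
  exact h3

/-- Let X be an algebraic space over a scheme S and F a quasi-coherent O_X-module on the small etale
site of X. Then F = 0 if and only if the set of weakly associated points of F is empty. -/
theorem result {S : Scheme.{u}} (X : AlgSp.Space S)
    (M : AlgSp.ModEt X.obj) [M.IsQuasicoherent] :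
    IsZero M ↔ AlgSp.WeakAssEt M = ∅ := by
  constructor
  · intro hM
    rw [Set.eq_empty_iff_forall_notMem]
    rintro x ⟨E, hE, u, hux, s, hs⟩
    have h0 : 𝟙 M = 0 := (Limits.IsZero.iff_id_eq_zero M).1 hM
    have hs0 : s = 0 := by
      have hz : (0 : M ⟶ M).val = 0 :=
        (SheafOfModules.forget (AlgSp.OEtRing X.obj)).map_zero M M
      have h1 : ((𝟙 M : M ⟶ M).val.app (Opposite.op E)).hom s =
          ((0 : M ⟶ M).val.app (Opposite.op E)).hom s := by rw [h0]
      rw [hz] at h1
      simpa using h1
    have hann : AlgSp.annSect s = ⊤ := by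
      rw [Ideal.eq_top_iff_one, AlgSp.mem_annSect_iff, hs0, smul_zero]
    rw [hann, Ideal.minimalPrimes_top] at hs
    exact hs
  · intro hW
    -- vanishing on affine objects
    have hA : ∀ (E : AlgSp.EtOver X.obj) (_ : IsAffine E.obj.left.left)
        (s : AlgSp.sectModEt M E), s = 0 := by
      intro E hE s
      by_contra hs
      have hne : AlgSp.annSect s ≠ ⊤ := by
        intro htop
        have h1 : (1 : Γ(E.obj.left.left, ⊤)) ∈ AlgSp.annSect s := by
          rw [htop]; exact Submodule.mem_top
        rw [AlgSp.mem_annSect_iff, map_one, one_smul] at h1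
        exact hs h1
      obtain ⟨⟨p, hp⟩⟩ := Ideal.nonempty_minimalPrimes hne
      have : p.IsPrime := hp.1.1
      obtain ⟨u, hu⟩ := exists_primeAtPt_eq E.obj.left.left p
      have hmem : AlgSp.Points.ofPt E.obj.hom u ∈ AlgSp.WeakAssEt M :=
        ⟨E, hE, u, rfl, Exists.intro s (by rw [hu]; exact hp)⟩
      rw [hW] at hmem
      exact hmem
    -- vanishing on all objects, by the sheaf property
    have hB : ∀ (E : AlgSp.EtOver X.obj) (s : AlgSp.sectModEt M E), s = 0 := by
      intro E s
      have hsh : Presieve.IsSheaf (AlgSp.etTop X.obj)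
          (M.val.presheaf ⋙ CategoryTheory.forget AddCommGrpCat) :=
        (isSheaf_iff_isSheaf_of_type _ _).1
          ((Presheaf.isSheaf_iff_isSheaf_forget _ _ (CategoryTheory.forget AddCommGrpCat)).1
            M.isSheaf)
      have hcov : Sieve.ofArrows
          (fun O : E.obj.left.left.affineOpens => Groth.Agent.H25.LocRingedEt.openSub E O.1)
          (fun O => Groth.Agent.H25.LocRingedEt.openIncl E O.1) ∈ AlgSp.etTop X.obj E := by
        apply AlgSp.ofArrows_mem_etTop
        intro x
        obtain ⟨O, hO, hxO, -⟩ :=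
          (TopologicalSpace.Opens.isBasis_iff_nbhd.1 E.obj.left.left.isBasis_affineOpens)
            (show x ∈ (⊤ : E.obj.left.left.Opens) from trivial)
        refine ⟨⟨O, hO⟩, ?_⟩
        rw [Groth.Agent.H25.LocRingedEt.range_openIncl]
        exact hxO
      refine @Presieve.IsSeparatedFor.ext _ _ _ _ _ (hsh.isSeparated _ hcov) s
        (0 : AlgSp.sectModEt M E) ?_
      intro Y f hf
      obtain ⟨Z, h, g, ⟨O⟩, rfl⟩ := hf
      rw [op_comp, Functor.map_comp]
      have hO : IsAffine (Groth.Agent.H25.LocRingedEt.openSub E O.1).obj.left.left := O.2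
      have e1 := hA _ hO ((M.val.presheaf ⋙ CategoryTheory.forget AddCommGrpCat).map
        (Groth.Agent.H25.LocRingedEt.openIncl E O.1).op s)
      have e2 := hA _ hO ((M.val.presheaf ⋙ CategoryTheory.forget AddCommGrpCat).map
        (Groth.Agent.H25.LocRingedEt.openIncl E O.1).op (0 : AlgSp.sectModEt M E))
      exact congrArg ((M.val.presheaf ⋙ CategoryTheory.forget AddCommGrpCat).map h.op)
        (e1.trans e2.symm)
    rw [Limits.IsZero.iff_id_eq_zero]
    apply SheafOfModules.hom_ext
    apply PresheafOfModules.hom_ext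
    intro E
    apply ModuleCat.hom_ext
    apply LinearMap.ext
    intro s
    exact (hB E.unop _).trans (hB E.unop _).symm

end Groth.Agent.S10810
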