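import Groth.Statements.S6297
import Mathlib.LinearAlgebra.Matrix.Adjugate
import Mathlib.LinearAlgebra.Matrix.Determinant.Basic
import Mathlib.LinearAlgebra.Multilinear.Basic

set_option autoImplicit false
universe u
open CAlg

namespace Groth.Agent.S6297

open Matrix

/-- For a minor `d` of `A` there is `B` with `B * A = d • 1`. -/
theorem exists_mul_eq_minor {R : Type u} [CommRing R] {n m : ℕ}
    (A : Matrix (Fin n) (Fin m) R) (φ : Fin m → Fin n) (g : Fin m → Fin m) :
    ∃ B : Matrix (Fin m) (Fin n) R,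
      B * A = (A.submatrix φ g).det • (1 : Matrix (Fin m) (Fin m) R) := by
  by_cases hg : Function.Injective g
  · let σ : Equiv.Perm (Fin m) := Equiv.ofBijective g ⟨hg, Finite.surjective_of_injective hg⟩
    let A' : Matrix (Fin m) (Fin m) R := A.submatrix φ id
    let E : Matrix (Fin m) (Fin n) R := (1 : Matrix (Fin n) (Fin n) R).submatrix φ id
    have hE : E * A = A' := by
      have := Matrix.submatrix_mul (1 : Matrix (Fin n) (Fin n) R) A φ id id Function.bijective_id
      rw [Matrix.one_mul, Matrix.submatrix_id_id] at this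
      exact this.symm
    have hdet : (A.submatrix φ g).det = (Equiv.Perm.sign σ : ℤ) * A'.det := by
      have : A.submatrix φ g = A'.submatrix id σ := by
        ext i j; rfl
      rw [this, Matrix.det_permute']
    refine ⟨((Equiv.Perm.sign σ : ℤ) : R) • (A'.adjugate * E), ?_⟩
    rw [Matrix.smul_mul, Matrix.mul_assoc, hE, Matrix.adjugate_mul, smul_smul, hdet]
  · have : ∃ i j, i ≠ j ∧ g i = g j := by
      by_contra h
      push_neg at h
      exact hg fun i j hij => by_contra fun hne => h i j hne hij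
    obtain ⟨i, j, hij, hgij⟩ := this
    have hdet : (A.submatrix φ g).det = 0 :=
      Matrix.det_zero_of_column_eq hij (fun k => by simp [Matrix.submatrix_apply, hgij])
    exact ⟨0, by rw [hdet, zero_smul, Matrix.zero_mul]⟩

/-- Cauchy–Binet-type expansion along rows. -/
theorem det_mul_expand {R : Type u} [CommRing R] {n m : ℕ}
    (B : Matrix (Fin m) (Fin n) R) (A : Matrix (Fin n) (Fin m) R) :
    (B * A).det = ∑ κ : Fin m → Fin n, (∏ i, B i (κ i)) * (A.submatrix κ id).det := by
  have h1 : (B * A) = fun i => ∑ k ∈ (Finset.univ : Finset (Fin n)), B i k • A k := by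
    funext i j
    simp [Matrix.mul_apply, Finset.sum_apply]
  have h2 := (Matrix.detRowAlternating (R := R) (n := Fin m)).toMultilinearMap.map_sum_finset
    (fun (i : Fin m) (k : Fin n) => B i k • A k) (fun _ => (Finset.univ : Finset (Fin n)))
  have h3 : (B * A).det = Matrix.detRowAlternating (fun i => ∑ k ∈ (Finset.univ : Finset (Fin n)), B i k • A k) := by
    rw [← h1]; rfl
  rw [h3]
  erw [h2]
  rw [Fintype.piFinset_univ]
  refine Finset.sum_congr rfl fun κ _ => ?_
  have h4 := (Matrix.detRowAlternating (R := R) (n := Fin m)).toMultilinearMap.map_smul_univ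
    (fun i => B i (κ i)) (fun i => A (κ i))
  erw [h4]
  rw [smul_eq_mul]
  rfl

theorem result {R : Type u} [CommRing R] {n m : ℕ} (hmn : m ≤ n) (A : Matrix (Fin n) (Fin m) R) : (∀ f ∈ CAlgX.minorIdeal A m, ∃ B : Matrix (Fin m) (Fin n) R, B * A = f • (1 : Matrix (Fin m) (Fin m) R)) ∧ (∀ (f : R) (B : Matrix (Fin m) (Fin n) R), B * A = f • (1 : Matrix (Fin m) (Fin m) R) → f ^ m ∈ CAlgX.minorIdeal A m) := by
  constructor
  · intro f hf
    have hf' : f ∈ Submodule.span R (Set.range fun fg : (Fin m → Fin n) × (Fin m → Fin m) =>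
      Matrix.det (A.submatrix fg.1 fg.2)) := hf
    refine Submodule.span_induction
      (p := fun f _ => ∃ B : Matrix (Fin m) (Fin n) R, B * A = f • (1 : Matrix (Fin m) (Fin m) R))
      ?_ ?_ ?_ ?_ hf'
    · rintro _ ⟨⟨φ, g⟩, rfl⟩
      exact exists_mul_eq_minor A φ g
    · exact ⟨0, by rw [Matrix.zero_mul, zero_smul]⟩
    · rintro x y _ _ ⟨B₁, h₁⟩ ⟨B₂, h₂⟩
      exact ⟨B₁ + B₂, by rw [Matrix.add_mul, h₁, h₂, add_smul]⟩
    · rintro c x _ ⟨B₁, h₁⟩
      exact ⟨c • B₁, by rw [Matrix.smul_mul, h₁, smul_smul, smul_eq_mul]⟩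
  · intro f B hB
    have h1 : (B * A).det = f ^ m := by
      rw [hB, Matrix.det_smul, Matrix.det_one, mul_one, Fintype.card_fin]
    rw [← h1, det_mul_expand]
    refine Ideal.sum_mem _ fun κ _ => Ideal.mul_mem_left _ _ ?_
    exact Ideal.subset_span ⟨(κ, id), rfl⟩

end Groth.Agent.S6297
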