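import Groth.Statements.S11457
import Groth.Agent.H26.LiftRes
import Groth.Agent.S12906

set_option autoImplicit false
universe u
open DefT

namespace Groth.Agent.S11457

lemma mulVec_comp' {R S : Type u} [CommRing R] [CommRing S] (φ : R →+* S) {k m : ℕ}
    (B : Matrix (Fin m) (Fin k) R) (v : Fin k → R) :
    (B.map φ).mulVecLin (φ ∘ v) = φ ∘ (B.mulVecLin v) := by
  funext i
  exact (RingHom.map_mulVec φ B v i).symm

lemma mem_smul_top_pi_iff {C A : Type u} [CommRing C] [CommRing A] [Algebra C A] (J : Ideal C)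
    (n : ℕ) (v : Fin n → A) :
    v ∈ J • (⊤ : Submodule C (Fin n → A)) ↔ ∀ i, v i ∈ J.map (algebraMap C A) := by
  constructor
  · intro hv
    refine Submodule.smul_induction_on hv ?_ ?_
    · intro j hj w _ i
      rw [Pi.smul_apply, Algebra.smul_def]
      exact Ideal.mul_mem_right _ _ (Ideal.mem_map_of_mem _ hj)
    · intro x y hx hy i
      rw [Pi.add_apply]
      exact Ideal.add_mem _ (hx i) (hy i)
  · intro hv
    have h1 : v = ∑ i, Pi.single i (v i) := by
      funext k
      rw [Finset.sum_apply]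
      simp [Pi.single_apply]
    rw [h1]
    refine Submodule.sum_mem _ fun i _ => ?_
    have h2 : v i ∈ J • (⊤ : Submodule C A) := by
      rw [Ideal.smul_top_eq_map]
      exact hv i
    have h3 : (LinearMap.single C (fun _ : Fin n => A) i) (v i) ∈
        (J • (⊤ : Submodule C A)).map (LinearMap.single C (fun _ : Fin n => A) i) :=
      Submodule.mem_map_of_mem h2
    rw [Submodule.map_smul''] at h3
    exact Submodule.smul_mono le_rfl le_top h3

lemma comp_zero' {R : Type u} [CommRing R] (t : ℕ) (Φ : Matrix (Fin (t + 1)) (Fin t) R)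
    (v : Fin t → R) :
    Fintype.linearCombination R
      (fun i : Fin (t + 1) => (-1 : R) ^ (i : ℕ) * (Φ.submatrix i.succAbove id).det)
      (Φ.mulVecLin v) = 0 := by
  rw [Fintype.linearCombination_apply]
  have h : ∀ i : Fin (t + 1), (Φ.mulVecLin v) i •
      ((-1 : R) ^ (i : ℕ) * (Φ.submatrix i.succAbove id).det) =
      ∑ j, ((-1 : R) ^ (i : ℕ) * (Φ.submatrix i.succAbove id).det * Φ i j) * v j := by
    intro i
    have h0 : (Φ.mulVecLin v) i = ∑ j, Φ i j * v j := rfl
    rw [h0, smul_eq_mul, Finset.sum_mul]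
    refine Finset.sum_congr rfl fun j _ => ?_
    ring
  simp_rw [h]
  rw [Finset.sum_comm]
  refine Finset.sum_eq_zero fun j _ => ?_
  rw [← Finset.sum_mul, Groth.Agent.S12906.result t Φ j, zero_mul]

/-- Let C' be a local Artin ring, J ⊊ C' a proper ideal annihilated by the maximal ideal, C = C'/J, A' a
flat C'-algebra of finite type with smooth special fibre, and A = A'/JA'. Let φ be an (r+1) × r
matrix over A such that 0 → A^r → A^{r+1} → A is exact, the second map sending v to Σ_i v_i f_i with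
f_i = (−1)^i det(φ with row i removed), and such that A/(f_0, …, f_r) is flat over C. Then every
matrix φ' over A' lifting φ has the same property over A': multiplication by φ' is injective, its
image is the kernel of the map given by the signed maximal minors f'_i of φ', and A'/(f'_0, …, f'_r)
is flat over C' (its reduction to A is A/(f_0, …, f_r) since minors commute with reduction). -/
theorem result (C' : Type u) [CommRing C'] [IsLocalRing C'] [IsArtinianRing C'] (J : Ideal C')
    (hJ : IsLocalRing.maximalIdeal C' * J = ⊥) (hJne : J ≠ ⊤) (A' : Type u) [CommRing A'] [Algebra C' A'] [Module.Flat C' A']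
    [Algebra.FiniteType C' A']
    [Algebra.Smooth (C' ⧸ IsLocalRing.maximalIdeal C') (A' ⧸ (IsLocalRing.maximalIdeal C').map (algebraMap C' A'))]
    (r : ℕ) (φ' : Matrix (Fin (r + 1)) (Fin r) A')
    (hφ : (Function.Injective (φ'.map (Ideal.Quotient.mk (J.map (algebraMap C' A')))).mulVecLin ∧
        LinearMap.range (φ'.map (Ideal.Quotient.mk (J.map (algebraMap C' A')))).mulVecLin = LinearMap.ker (Fintype.linearCombination (A' ⧸ J.map (algebraMap C' A')) (fun i : Fin (r + 1) => (-1 : (A' ⧸ J.map (algebraMap C' A'))) ^ (i : ℕ) * ((φ'.map (Ideal.Quotient.mk (J.map (algebraMap C' A')))).submatrix i.succAbove id).det))))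
    [Module.Flat (C' ⧸ J) ((A' ⧸ J.map (algebraMap C' A')) ⧸ Ideal.span (Set.range (fun i : Fin (r + 1) => (-1 : (A' ⧸ J.map (algebraMap C' A'))) ^ (i : ℕ) * ((φ'.map (Ideal.Quotient.mk (J.map (algebraMap C' A')))).submatrix i.succAbove id).det)))] :
    Function.Injective φ'.mulVecLin ∧
      LinearMap.range φ'.mulVecLin = LinearMap.ker (Fintype.linearCombination A' (fun i : Fin (r + 1) => (-1 : A') ^ (i : ℕ) * ((φ').submatrix i.succAbove id).det)) ∧
      Module.Flat C' (A' ⧸ Ideal.span (Set.range (fun i : Fin (r + 1) => (-1 : A') ^ (i : ℕ) * ((φ').submatrix i.succAbove id).det))) := by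
  classical
  have hle : J ≤ IsLocalRing.maximalIdeal C' := IsLocalRing.le_maximalIdeal hJne
  have hJ2 : J * J = ⊥ := le_bot_iff.1 ((Ideal.mul_mono hle le_rfl).trans hJ.le)
  set 𝔍 : Ideal A' := J.map (algebraMap C' A') with h𝔍
  set mk : A' →+* A' ⧸ 𝔍 := Ideal.Quotient.mk 𝔍 with hmk
  set fb : Fin (r + 1) → A' ⧸ 𝔍 := fun i : Fin (r + 1) =>
    (-1 : (A' ⧸ 𝔍)) ^ (i : ℕ) * ((φ'.map mk).submatrix i.succAbove id).det with hfb
  set f' : Fin (r + 1) → A' := fun i : Fin (r + 1) =>
    (-1 : A') ^ (i : ℕ) * ((φ').submatrix i.succAbove id).det with hf'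
  have hf : ∀ i, mk (f' i) = fb i := by
    intro i
    show mk ((-1 : A') ^ (i : ℕ) * ((φ').submatrix i.succAbove id).det) =
      (-1 : (A' ⧸ 𝔍)) ^ (i : ℕ) * ((φ'.map mk).submatrix i.succAbove id).det
    rw [map_mul, map_pow, map_neg, map_one, RingHom.map_det, RingHom.mapMatrix_apply,
      Matrix.submatrix_map]
  haveI : Module.Flat C' (Fin (r + 1) → A') := Module.Flat.trans C' A' _
  let d₂ : (Fin r → A') →ₗ[C'] (Fin (r + 1) → A') := φ'.mulVecLin.restrictScalars C'
  let d₁ : (Fin (r + 1) → A') →ₗ[C'] A' := (Fintype.linearCombination A' f').restrictScalars C'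
  have hd : ∀ v, d₁ (d₂ v) = 0 := fun v => comp_zero' r φ' v
  have h1 : ∀ v, d₂ v ∈ J • (⊤ : Submodule C' (Fin (r + 1) → A')) →
      v ∈ J • (⊤ : Submodule C' (Fin r → A')) := by
    intro v hv
    rw [mem_smul_top_pi_iff] at hv ⊢
    have h3 : (φ'.map mk).mulVecLin (mk ∘ v) = 0 := by
      rw [mulVec_comp']
      funext i
      exact Ideal.Quotient.eq_zero_iff_mem.2 (hv i)
    have h4 : mk ∘ v = 0 := hφ.1 (h3.trans (map_zero _).symm)
    intro i
    exact Ideal.Quotient.eq_zero_iff_mem.1 (congrFun h4 i)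
  have h2 : ∀ w, d₁ w ∈ J • (⊤ : Submodule C' A') →
      ∃ v, w - d₂ v ∈ J • (⊤ : Submodule C' (Fin (r + 1) → A')) := by
    intro w hw
    rw [Ideal.smul_top_eq_map] at hw
    have hw' : d₁ w ∈ 𝔍 := hw
    have h3 : Fintype.linearCombination (A' ⧸ 𝔍) fb (mk ∘ w) = 0 := by
      have h4 : mk (d₁ w) = 0 := Ideal.Quotient.eq_zero_iff_mem.2 hw'
      rw [← h4]
      show _ = mk (Fintype.linearCombination A' f' w)
      rw [Fintype.linearCombination_apply, Fintype.linearCombination_apply, map_sum]
      refine Finset.sum_congr rfl fun i _ => ?_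
      rw [smul_eq_mul, smul_eq_mul, map_mul, hf]
      rfl
    have h5 : mk ∘ w ∈ LinearMap.range (φ'.map mk).mulVecLin := by
      rw [hφ.2]
      exact LinearMap.mem_ker.2 h3
    obtain ⟨vb, hvb⟩ := h5
    obtain ⟨v, hv⟩ := Function.Surjective.comp_left
      (Ideal.Quotient.mk_surjective (I := 𝔍)) (α := Fin r) vb
    have hv' : mk ∘ v = vb := hv
    subst hv'
    refine ⟨v, ?_⟩
    rw [mem_smul_top_pi_iff]
    intro i
    rw [mulVec_comp'] at hvb
    have h6 : mk (φ'.mulVecLin v i) = mk (w i) := congrFun hvb i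
    apply Ideal.Quotient.eq_zero_iff_mem.1
    show mk (w i - φ'.mulVecLin v i) = 0
    rw [map_sub, sub_eq_zero]
    exact h6.symm
  let Ib : Ideal (A' ⧸ 𝔍) := Ideal.span (Set.range fb)
  let q : A' →ₗ[C'] ((A' ⧸ 𝔍) ⧸ Ib) :=
    (Ideal.Quotient.mkₐ C' Ib).toLinearMap ∘ₗ (Ideal.Quotient.mkₐ C' 𝔍).toLinearMap
  have hq : Function.Surjective q := by
    intro y
    obtain ⟨x, rfl⟩ := Ideal.Quotient.mk_surjective y
    obtain ⟨a, rfl⟩ := Ideal.Quotient.mk_surjective x
    exact ⟨a, rfl⟩
  have hIb : Ib = (Ideal.span (Set.range f')).map mk := by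
    rw [Ideal.map_span, ← Set.range_comp]
    have : fb = mk ∘ f' := by
      funext i
      exact (hf i).symm
    rw [← this]
  have hqker : LinearMap.ker q = LinearMap.range d₁ ⊔ J • (⊤ : Submodule C' A') := by
    ext a
    rw [LinearMap.mem_ker, Submodule.mem_sup]
    constructor
    · intro ha
      have ha' : mk a ∈ Ib := Ideal.Quotient.eq_zero_iff_mem.1 ha
      rw [hIb, Ideal.mem_map_iff_of_surjective mk Ideal.Quotient.mk_surjective] at ha'
      obtain ⟨b, hb, hba⟩ := ha'
      refine ⟨b, ?_, a - b, ?_, by ring⟩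
      · have hb' : b ∈ LinearMap.range (Fintype.linearCombination A' f') := by
          rw [Fintype.range_linearCombination]
          exact hb
        obtain ⟨w, hw⟩ := hb'
        exact ⟨w, hw⟩
      · rw [Ideal.smul_top_eq_map]
        show a - b ∈ 𝔍
        apply Ideal.Quotient.eq_zero_iff_mem.1
        show mk (a - b) = 0
        rw [map_sub, hba, sub_self]
    · rintro ⟨y, ⟨w, rfl⟩, z, hz, rfl⟩
      rw [Ideal.smul_top_eq_map] at hz
      have hz' : z ∈ 𝔍 := hz
      show Ideal.Quotient.mk Ib (mk (d₁ w + z)) = 0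
      apply Ideal.Quotient.eq_zero_iff_mem.2
      rw [hIb, map_add, show mk z = 0 from Ideal.Quotient.eq_zero_iff_mem.2 hz', add_zero]
      apply Ideal.mem_map_of_mem
      have hb' : d₁ w ∈ LinearMap.range (Fintype.linearCombination A' f') := ⟨w, rfl⟩
      rw [Fintype.range_linearCombination] at hb'
      exact hb'
  obtain ⟨hG1, hG2, hG3⟩ :=
    Groth.Agent.H26.LiftRes.lift_exact_flat J hJ2 d₂ d₁ hd h1 h2 q hq hqker
  refine ⟨hG1, ?_, ?_⟩
  · ext w
    constructor
    · rintro ⟨v, rfl⟩
      exact LinearMap.mem_ker.2 (comp_zero' r φ' v)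
    · intro hw
      have hw' : w ∈ LinearMap.ker d₁ := hw
      rw [hG2] at hw'
      obtain ⟨v, hv⟩ := hw'
      exact ⟨v, hv⟩
  · have hrange : LinearMap.range d₁ = (Ideal.span (Set.range f')).restrictScalars C' := by
      ext a
      rw [Submodule.restrictScalars_mem]
      constructor
      · rintro ⟨w, rfl⟩
        have hb' : d₁ w ∈ LinearMap.range (Fintype.linearCombination A' f') := ⟨w, rfl⟩
        rw [Fintype.range_linearCombination] at hb'
        exact hb'
      · intro hb
        have hb' : a ∈ LinearMap.range (Fintype.linearCombination A' f') := by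
          rw [Fintype.range_linearCombination]
          exact hb
        obtain ⟨w, hw⟩ := hb'
        exact ⟨w, hw⟩
    exact Module.Flat.of_linearEquiv ((Submodule.quotEquivOfEq _ _ hrange).trans
      (Submodule.Quotient.restrictScalarsEquiv C' _)).symm

end Groth.Agent.S11457
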