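import Groth.Statements.S12908
import Groth.Agent.H46.McCoy
import Mathlib

set_option autoImplicit false
set_option linter.style.haveILetI false
universe u
open CAlgX

namespace Groth.Agent.S12908

open Matrix

section aux

variable {R : Type u} [CommRing R] {t : ℕ}

/-- augmented matrix `[Ψ | v]` -/
def aug (Ψ : Matrix (Fin (t + 1)) (Fin t) R) (v : Fin (t + 1) → R) :
    Matrix (Fin (t + 1)) (Fin (t + 1)) R :=
  Matrix.of (fun i j => Fin.lastCases (v i) (fun j' => Ψ i j') j)

theorem aug_last (Ψ : Matrix (Fin (t + 1)) (Fin t) R) (v : Fin (t + 1) → R) (i : Fin (t + 1)) :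
    aug Ψ v i (Fin.last t) = v i := by simp [aug]

theorem aug_castSucc (Ψ : Matrix (Fin (t + 1)) (Fin t) R) (v : Fin (t + 1) → R)
    (i : Fin (t + 1)) (j : Fin t) :
    aug Ψ v i (Fin.castSucc j) = Ψ i j := by simp [aug]

theorem aug_submatrix (Ψ : Matrix (Fin (t + 1)) (Fin t) R) (v : Fin (t + 1) → R)
    (i : Fin (t + 1)) :
    (aug Ψ v).submatrix i.succAbove (Fin.last t).succAbove = Ψ.submatrix i.succAbove id := by
  ext a b
  simp [aug, Fin.succAbove_last]

theorem det_aug (Ψ : Matrix (Fin (t + 1)) (Fin t) R) (v : Fin (t + 1) → R) :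
    (aug Ψ v).det = ∑ i : Fin (t + 1),
      (-1) ^ ((i : ℕ) + t) * v i * (Ψ.submatrix i.succAbove id).det := by
  rw [Matrix.det_succ_column _ (Fin.last t)]
  apply Finset.sum_congr rfl
  intro i _
  rw [aug_last, aug_submatrix, Fin.val_last]

theorem neg_one_pow_mul_self (k : ℕ) : ((-1 : R)) ^ k * (-1) ^ k = 1 := by
  rw [← mul_pow]
  simp

theorem sum_eq (Ψ : Matrix (Fin (t + 1)) (Fin t) R) (v : Fin (t + 1) → R) :
    ∑ i : Fin (t + 1), v i * ((-1 : R) ^ (i : ℕ) * (Ψ.submatrix i.succAbove id).det) =
      (-1) ^ t * (aug Ψ v).det := by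
  rw [det_aug, Finset.mul_sum]
  apply Finset.sum_congr rfl
  intro i _
  rw [pow_add]
  linear_combination (-(v i * (-1 : R) ^ (i : ℕ) * (Ψ.submatrix i.succAbove id).det)) *
    neg_one_pow_mul_self (R := R) t

theorem minor_smul_mem (Ψ : Matrix (Fin (t + 1)) (Fin t) R) (v : Fin (t + 1) → R)
    (hdet : (aug Ψ v).det = 0) (i : Fin (t + 1)) :
    (Ψ.submatrix i.succAbove id).det • v ∈ LinearMap.range Ψ.mulVecLin := by
  have h1 : aug Ψ v * (aug Ψ v).adjugate = 0 := by rw [Matrix.mul_adjugate, hdet, zero_smul]
  set c : Fin (t + 1) → R := fun k => (aug Ψ v).adjugate k i with hc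
  have h3 : ∀ r, (Ψ *ᵥ (fun j => c (Fin.castSucc j))) r + v r * c (Fin.last t) = 0 := by
    intro r
    have := congrFun (congrFun h1 r) i
    simp only [Matrix.mul_apply, Matrix.zero_apply] at this
    rw [Fin.sum_univ_castSucc] at this
    simp only [aug_castSucc, aug_last] at this
    simpa [Matrix.mulVec, dotProduct, hc] using this
  have h4 : c (Fin.last t) = (-1) ^ ((i : ℕ) + t) * (Ψ.submatrix i.succAbove id).det := by
    simp only [hc]
    rw [Matrix.adjugate_fin_succ_eq_det_submatrix, aug_submatrix, Fin.val_last]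
  refine ⟨(-((-1 : R) ^ ((i : ℕ) + t))) • (fun j => c (Fin.castSucc j)), ?_⟩
  rw [Matrix.mulVecLin_apply, Matrix.mulVec_smul]
  funext r
  have h5 := h3 r
  rw [h4] at h5
  simp only [Pi.smul_apply, smul_eq_mul]
  linear_combination (-((-1 : R) ^ ((i : ℕ) + t))) * h5 +
    (v r * (Ψ.submatrix i.succAbove id).det) * neg_one_pow_mul_self (R := R) ((i : ℕ) + t)

theorem minor_mem_span (Ψ : Matrix (Fin (t + 1)) (Fin t) R) (f : Fin t → Fin (t + 1))
    (g : Fin t → Fin t) :
    (Ψ.submatrix f g).det ∈
      Ideal.span (Set.range fun i : Fin (t + 1) => (Ψ.submatrix i.succAbove id).det) := by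
  classical
  by_cases hg : Function.Injective g
  swap
  · rw [Groth.Agent.H46.minor_eq_zero_of_not_injective Ψ f g hg]
    exact zero_mem _
  by_cases hf : Function.Injective f
  swap
  · rw [Function.Injective] at hf
    push Not at hf
    obtain ⟨b, b', hbb', hne⟩ := hf
    rw [Matrix.det_zero_of_row_eq hne (by ext k; simp [hbb'])]
    exact zero_mem _
  obtain ⟨i, hi⟩ : ∃ i, ∀ k, f k ≠ i := by
    by_contra hcon
    push Not at hcon
    have := Fintype.card_le_of_surjective f (fun i => hcon i)
    simp at this
  choose τ hτ using fun k => Fin.exists_succAbove_eq (hi k)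
  have hτinj : Function.Injective τ := by
    intro k k' h
    apply hf
    rw [← hτ k, ← hτ k', h]
  let eτ : Equiv.Perm (Fin t) := Equiv.ofBijective τ (Finite.injective_iff_bijective.mp hτinj)
  let eg : Equiv.Perm (Fin t) := Equiv.ofBijective g (Finite.injective_iff_bijective.mp hg)
  have heq : Ψ.submatrix f g =
      ((Ψ.submatrix i.succAbove id).submatrix eτ id).submatrix id eg := by
    ext a b
    simp [eτ, eg, hτ]
  rw [heq, Matrix.det_permute', Matrix.det_permute]
  apply Ideal.mul_mem_left
  apply Ideal.mul_mem_left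
  exact Ideal.subset_span ⟨i, rfl⟩

theorem minorIdeal_eq (Ψ : Matrix (Fin (t + 1)) (Fin t) R) :
    minorIdeal Ψ t =
      Ideal.span (Set.range fun i : Fin (t + 1) => (Ψ.submatrix i.succAbove id).det) := by
  apply le_antisymm
  · unfold minorIdeal
    rw [Ideal.span_le]
    rintro _ ⟨⟨f, g⟩, rfl⟩
    exact minor_mem_span Ψ f g
  · rw [Ideal.span_le]
    rintro _ ⟨i, rfl⟩
    exact Ideal.subset_span ⟨(i.succAbove, id), rfl⟩

/-- extraction of a regular sequence of length two -/
theorem exists_regular_pair (I : Ideal R) (hdepth : 2 ≤ LocCoh.idealDepth I R) :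
    ∃ x ∈ I, ∃ y ∈ I, (∀ c, x * c = 0 → c = 0) ∧
      (∀ c d, y * c = x * d → ∃ c', c = x * c') := by
  unfold LocCoh.idealDepth at hdepth
  split_ifs at hdepth with htop
  · have hI : I = ⊤ := by
      rw [smul_eq_mul, Ideal.mul_top] at htop
      exact htop
    refine ⟨1, by rw [hI]; trivial, 1, by rw [hI]; trivial, ?_, ?_⟩
    · intro c hc
      rwa [one_mul] at hc
    · intro c d _
      exact ⟨c, (one_mul c).symm⟩
  · obtain ⟨rs, hrs, hlen⟩ : ∃ rs : List R,
        (RingTheory.Sequence.IsWeaklyRegular R rs ∧ ∀ r ∈ rs, r ∈ I) ∧ 2 ≤ rs.length := by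
      by_contra hcon
      push Not at hcon
      have hle : (⨆ (rs : List R)
          (_ : RingTheory.Sequence.IsWeaklyRegular R rs ∧ ∀ r ∈ rs, r ∈ I),
          (rs.length : ℕ∞)) ≤ 1 := by
        apply iSup₂_le
        intro rs h
        have := hcon rs h
        have h1 : rs.length ≤ 1 := by omega
        exact_mod_cast h1
      have := hdepth.trans hle
      norm_num at this
    match rs, hrs, hlen with
    | [], _, hlen => simp at hlen
    | [_], _, hlen => simp at hlen
    | x :: y :: rest, ⟨hwr, hmem⟩, _ =>
      have h1 := (RingTheory.Sequence.isWeaklyRegular_cons_iff R x (y :: rest)).mp hwr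
      have h2 := (RingTheory.Sequence.isWeaklyRegular_cons_iff (QuotSMulTop x R) y rest).mp h1.2
      refine ⟨x, hmem x (by simp), y, hmem y (by simp), ?_, ?_⟩
      · intro c hc
        apply h1.1
        simpa using hc
      · intro c d hcd
        have h3 : y • (Submodule.Quotient.mk c : QuotSMulTop x R) =
            y • (Submodule.Quotient.mk 0 : QuotSMulTop x R) := by
          rw [← Submodule.Quotient.mk_smul, ← Submodule.Quotient.mk_smul, smul_zero,
            Submodule.Quotient.mk_zero, Submodule.Quotient.mk_eq_zero, smul_eq_mul, hcd]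
          exact Submodule.smul_mem_pointwise_smul d x ⊤ Submodule.mem_top
        have h4 := h2.1 h3
        rw [Submodule.Quotient.mk_zero, Submodule.Quotient.mk_eq_zero,
          Submodule.mem_smul_pointwise_iff_exists] at h4
        obtain ⟨c', -, hc'⟩ := h4
        exact ⟨c', by rw [← hc', smul_eq_mul]⟩

end aux

/-- Let R be a Noetherian ring, t a natural number, Ψ a (t+1) × t matrix over R such that the
I_t(Ψ)-depth of R is at least 2, where I_t(Ψ) is the ideal generated by the t × t minors of Ψ, and a
a non-zero-divisor of R. Put Δ_i = a · (-1)^i det Ψ_i, where Ψ_i is Ψ with row i deleted. Then 0 →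
R^t → R^{t+1} → R, with first map Ψ and second map v ↦ Σ_i Δ_i v_i, is exact: Ψ is injective and the
kernel of the second map equals the image of Ψ; moreover the image of the second map is the ideal a
· I_t(Ψ). (The published statement adds that this ideal has depth 2 exactly when a is a unit; that
clause is not stated here.) -/
theorem result {R : Type u} [CommRing R] [IsNoetherianRing R] (t : ℕ)
    (Ψ : Matrix (Fin (t + 1)) (Fin t) R) (hdepth : 2 ≤ LocCoh.idealDepth (CAlgX.minorIdeal Ψ t) R)
    (a : R) (ha : a ∈ nonZeroDivisors R) :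
    LinearMap.ker Ψ.mulVecLin = ⊥ ∧
      LinearMap.ker (Fintype.linearCombination R
          (fun i : Fin (t + 1) => a * ((-1 : R) ^ (i : ℕ) * (Ψ.submatrix i.succAbove id).det))) =
        LinearMap.range Ψ.mulVecLin ∧
      LinearMap.range (Fintype.linearCombination R
          (fun i : Fin (t + 1) => a * ((-1 : R) ^ (i : ℕ) * (Ψ.submatrix i.succAbove id).det))) =
        Ideal.span {a} * CAlgX.minorIdeal Ψ t := by
  classical
  obtain ⟨x, hxI, y, hyI, hxreg, hyreg⟩ := exists_regular_pair _ hdepth
  -- injectivity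
  have hann : (minorIdeal Ψ t).annihilator = ⊥ := by
    rw [eq_bot_iff]
    intro b hb
    rw [Submodule.mem_annihilator] at hb
    have := hb x hxI
    rw [smul_eq_mul, mul_comm] at this
    exact (Submodule.mem_bot R).mpr (hxreg b this)
  have hinj : Function.Injective Ψ.mulVecLin :=
    Groth.Agent.H46.injective_of_annihilator_eq_bot Ψ hann
  have hlin : ∀ v : Fin (t + 1) → R, Fintype.linearCombination R
      (fun i : Fin (t + 1) => a * ((-1 : R) ^ (i : ℕ) * (Ψ.submatrix i.succAbove id).det)) v =
      a * ((-1) ^ t * (aug Ψ v).det) := by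
    intro v
    rw [Fintype.linearCombination_apply, ← sum_eq, Finset.mul_sum]
    apply Finset.sum_congr rfl
    intro i _
    rw [smul_eq_mul]
    ring
  refine ⟨LinearMap.ker_eq_bot.mpr hinj, ?_, ?_⟩
  · apply le_antisymm
    · intro v hv
      rw [LinearMap.mem_ker, hlin] at hv
      have h1 : (-1 : R) ^ t * (aug Ψ v).det = 0 :=
        (mul_left_mem_nonZeroDivisors_eq_zero_iff ha).mp hv
      have hdet : (aug Ψ v).det = 0 := by
        have := congrArg (fun z => (-1 : R) ^ t * z) h1
        simp only [mul_zero] at this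
        rw [← mul_assoc, neg_one_pow_mul_self, one_mul] at this
        exact this
      have hmem : ∀ z ∈ minorIdeal Ψ t, z • v ∈ LinearMap.range Ψ.mulVecLin := by
        intro z hz
        rw [minorIdeal_eq] at hz
        refine Submodule.span_induction ?_ ?_ ?_ ?_ hz
        · rintro _ ⟨i, rfl⟩
          exact minor_smul_mem Ψ v hdet i
        · rw [zero_smul]
          exact zero_mem _
        · intro z₁ z₂ _ _ h₁ h₂
          rw [add_smul]
          exact add_mem h₁ h₂
        · intro r z₁ _ h₁
          rw [smul_eq_mul, mul_smul]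
          exact Submodule.smul_mem _ r h₁
      obtain ⟨u₁, hu₁⟩ := hmem x hxI
      obtain ⟨u₂, hu₂⟩ := hmem y hyI
      rw [Matrix.mulVecLin_apply] at hu₁ hu₂
      have h2 : y • u₁ = x • u₂ := by
        apply hinj
        rw [Matrix.mulVecLin_apply, Matrix.mulVecLin_apply, Matrix.mulVec_smul, Matrix.mulVec_smul,
          hu₁, hu₂, smul_smul, smul_smul, mul_comm]
      have h3 : ∀ j, ∃ c', u₁ j = x * c' := by
        intro j
        have := congrFun h2 j
        simp only [Pi.smul_apply, smul_eq_mul] at this
        exact hyreg _ _ this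
      choose c hc using h3
      refine ⟨c, ?_⟩
      rw [Matrix.mulVecLin_apply]
      have h4 : x • (Ψ *ᵥ c) = x • v := by
        rw [← Matrix.mulVec_smul, ← hu₁]
        congr 1
        funext j
        rw [Pi.smul_apply, smul_eq_mul, hc j]
      funext r
      have h5 := congrFun h4 r
      simp only [Pi.smul_apply, smul_eq_mul] at h5
      have h6 : x * ((Ψ *ᵥ c) r - v r) = 0 := by rw [mul_sub, h5, sub_self]
      exact sub_eq_zero.mp (hxreg _ h6)
    · rintro v ⟨w, rfl⟩
      rw [LinearMap.mem_ker, hlin]
      have hdet : (aug Ψ (Ψ.mulVecLin w)).det = 0 := by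
        -- the last column is a combination of the others
        have hcol : ∀ j : Fin t, (aug Ψ (fun i => Ψ i j)).det = 0 := by
          intro j
          apply Matrix.det_zero_of_column_eq (i := Fin.castSucc j) (j := Fin.last t)
            (Fin.castSucc_lt_last j).ne
          intro k
          rw [aug_castSucc, aug_last]
        have hsum : ∀ v' : Fin (t + 1) → R, (aug Ψ v').det = (-1) ^ t *
            ∑ i : Fin (t + 1), v' i * ((-1 : R) ^ (i : ℕ) * (Ψ.submatrix i.succAbove id).det) := by
          intro v'
          rw [sum_eq, ← mul_assoc, neg_one_pow_mul_self, one_mul]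
        rw [hsum]
        have : ∑ i : Fin (t + 1), (Ψ.mulVecLin w) i *
            ((-1 : R) ^ (i : ℕ) * (Ψ.submatrix i.succAbove id).det) =
            ∑ j : Fin t, w j * ∑ i : Fin (t + 1), Ψ i j *
              ((-1 : R) ^ (i : ℕ) * (Ψ.submatrix i.succAbove id).det) := by
          simp only [Matrix.mulVecLin_apply, Matrix.mulVec, dotProduct, Finset.sum_mul,
            Finset.mul_sum]
          rw [Finset.sum_comm]
          apply Finset.sum_congr rfl
          intro j _
          apply Finset.sum_congr rfl
          intro i _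
          ring
        rw [this]
        have hz : ∀ j : Fin t, ∑ i : Fin (t + 1), Ψ i j *
            ((-1 : R) ^ (i : ℕ) * (Ψ.submatrix i.succAbove id).det) = 0 := by
          intro j
          rw [sum_eq Ψ (fun i => Ψ i j), hcol j, mul_zero]
        simp only [hz, mul_zero, Finset.sum_const_zero]
      rw [hdet, mul_zero, mul_zero]
  · rw [Fintype.range_linearCombination, minorIdeal_eq]
    apply le_antisymm
    · rw [Submodule.span_le]
      rintro _ ⟨i, rfl⟩
      exact Ideal.mul_mem_mul (Ideal.mem_span_singleton_self a)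
        (Ideal.mul_mem_left _ _ (Ideal.subset_span ⟨i, rfl⟩))
    · rw [Ideal.mul_le]
      intro r hr s hs
      obtain ⟨r', rfl⟩ := Ideal.mem_span_singleton'.mp hr
      have key : a * s ∈ Submodule.span R (Set.range
          (fun i : Fin (t + 1) => a * ((-1 : R) ^ (i : ℕ) * (Ψ.submatrix i.succAbove id).det))) := by
        refine Submodule.span_induction ?_ ?_ ?_ ?_ hs
        · rintro _ ⟨i, rfl⟩
          have : a * (Ψ.submatrix i.succAbove id).det = (-1 : R) ^ (i : ℕ) •
              (a * ((-1 : R) ^ (i : ℕ) * (Ψ.submatrix i.succAbove id).det)) := by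
            rw [smul_eq_mul]
            linear_combination (-(a * (Ψ.submatrix i.succAbove id).det)) *
              neg_one_pow_mul_self (R := R) (i : ℕ)
          rw [this]
          exact Submodule.smul_mem _ _ (Submodule.subset_span ⟨i, rfl⟩)
        · rw [mul_zero]
          exact zero_mem _
        · intro z₁ z₂ _ _ h₁ h₂
          rw [mul_add]
          exact add_mem h₁ h₂
        · intro r z₁ _ h₁
          rw [smul_eq_mul, mul_left_comm]
          exact Submodule.smul_mem _ r h₁
      have : r' * a * s = r' • (a * s) := by rw [smul_eq_mul, mul_assoc]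
      rw [this]
      exact Submodule.smul_mem _ r' key

end Groth.Agent.S12908
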