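import Groth.Statements.S12909
import Mathlib

set_option autoImplicit false
set_option linter.style.haveILetI false
universe u
open CAlgX

namespace Groth.Agent.S12909

open TensorProduct IsLocalRing Matrix

section depthZero

variable {L : Type u} [CommRing L] [IsLocalRing L]

theorem tmul_one_eq_zero_iff {P : Type u} [AddCommGroup P] [Module L P] (n : P) :
    ((1 : ResidueField L) ⊗ₜ[L] n = 0) ↔ n ∈ (maximalIdeal L) • (⊤ : Submodule L P) := by
  have h1 : TensorProduct.quotTensorEquivQuotSMul P (maximalIdeal L)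
      ((1 : L ⧸ maximalIdeal L) ⊗ₜ[L] n) = Submodule.Quotient.mk n :=
    TensorProduct.quotTensorEquivQuotSMul_mk_one_tmul _ _
  constructor
  · intro h
    have h2 : TensorProduct.quotTensorEquivQuotSMul P (maximalIdeal L)
      ((1 : L ⧸ maximalIdeal L) ⊗ₜ[L] n) = 0 := by
      have : ((1 : L ⧸ maximalIdeal L) ⊗ₜ[L] n) = 0 := h
      rw [this, map_zero]
    rw [h1] at h2
    exact (Submodule.Quotient.mk_eq_zero _).mp h2
  · intro h
    have h2 : (Submodule.Quotient.mk n : P ⧸ (maximalIdeal L) • (⊤ : Submodule L P)) = 0 :=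
      (Submodule.Quotient.mk_eq_zero _).mpr h
    rw [← h1] at h2
    exact (LinearEquiv.map_eq_zero_iff _).mp h2

theorem lTensor_injective_of_depthZero
    (y : L) (hy : y ≠ 0) (hmy : ∀ a ∈ maximalIdeal L, a * y = 0)
    {M N : Type u} [AddCommGroup M] [Module L M] [AddCommGroup N] [Module L N]
    [Module.Free L M] (f : M →ₗ[L] N) (hf : Function.Injective f) :
    Function.Injective (f.lTensor (ResidueField L)) := by
  rw [injective_iff_map_eq_zero]
  intro t ht
  obtain ⟨v, rfl⟩ := TensorProduct.mk_surjective L M (ResidueField L)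
    Ideal.Quotient.mk_surjective t
  simp only [TensorProduct.mk_apply, LinearMap.lTensor_tmul] at ht ⊢
  rw [tmul_one_eq_zero_iff] at ht ⊢
  have h1 : y • f v = 0 := by
    refine Submodule.smul_induction_on ht ?_ ?_
    · intro a ha n _
      rw [smul_smul, mul_comm, hmy a ha, zero_smul]
    · intro a b ha hb
      rw [smul_add, ha, hb, add_zero]
  have h2 : y • v = 0 := hf (by rw [map_smul, h1, map_zero])
  let b := Module.Free.chooseBasis L M
  have hcoord : ∀ i, b.repr v i ∈ maximalIdeal L := by
    intro i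
    by_contra hni
    have hu : IsUnit (b.repr v i) := by
      rwa [mem_maximalIdeal, mem_nonunits_iff, not_not] at hni
    have h3 : y * b.repr v i = 0 := by
      have := congrArg (fun w => b.repr w i) h2
      simpa using this
    exact hy (hu.mul_left_eq_zero.mp h3)
  rw [← b.linearCombination_repr v, Finsupp.linearCombination_apply, Finsupp.sum]
  exact Submodule.sum_mem _ (fun i _ => Submodule.smul_mem_smul (hcoord i) Submodule.mem_top)

theorem step
    (y : L) (hy : y ≠ 0) (hmy : ∀ a ∈ maximalIdeal L, a * y = 0)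
    {M N P : Type u} [AddCommGroup M] [Module L M] [AddCommGroup N] [Module L N]
    [AddCommGroup P] [Module L P]
    [Module.Free L M] [Module.Finite L M] [Module.Free L N] [Module.Finite L N]
    (f : M →ₗ[L] N) (g : N →ₗ[L] P) (hf : Function.Injective f) (hg : Function.Surjective g)
    (hex : Function.Exact f g) :
    Module.Free L P ∧ Module.Finite L P ∧
      Module.finrank L N = Module.finrank L M + Module.finrank L P := by
  have hfree : Module.Free L P :=
    Module.free_of_lTensor_residueField_injective f g hg hex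
      (lTensor_injective_of_depthZero y hy hmy f hf)
  have hfin : Module.Finite L P := Module.Finite.of_surjective g hg
  refine ⟨hfree, hfin, ?_⟩
  obtain ⟨s, hs⟩ := Module.projective_lifting_property g LinearMap.id hg
  have e := (hex.splitSurjectiveEquiv hf ⟨s, hs⟩).1
  rw [LinearEquiv.finrank_eq e, Module.finrank_prod]

/-- The alternating rank function. -/
def chi : ℕ → (ℕ → ℕ) → ℕ
  | 0, n => n 1
  | (len + 1), n => n 1 - chi len (fun i => n (i + 1))

theorem chain (y : L) (hy : y ≠ 0) (hmy : ∀ a ∈ maximalIdeal L, a * y = 0) :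
    ∀ (len : ℕ) (n : ℕ → ℕ) (B : (i : ℕ) → Matrix (Fin (n i)) (Fin (n (i + 1))) L),
      (∀ i, i < len → LinearMap.ker (B i).mulVecLin = LinearMap.range (B (i + 1)).mulVecLin) →
      LinearMap.ker (B len).mulVecLin = ⊥ →
      Module.Free L (LinearMap.range (B 0).mulVecLin) ∧
      Module.Finite L (LinearMap.range (B 0).mulVecLin) ∧
        Module.finrank L (LinearMap.range (B 0).mulVecLin) = chi len n := by
  intro len
  induction len with
  | zero =>
    intro n B _ hlast
    have hinj : Function.Injective (B 0).mulVecLin := LinearMap.ker_eq_bot.mp hlast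
    let e := LinearEquiv.ofInjective (B 0).mulVecLin hinj
    refine ⟨Module.Free.of_equiv e, Module.Finite.equiv e, ?_⟩
    rw [← LinearEquiv.finrank_eq e, Module.finrank_fin_fun]
    rfl
  | succ len ih =>
    intro n B h hlast
    obtain ⟨hfree, hfin, hrk⟩ := ih (fun i => n (i + 1)) (fun i => B (i + 1))
      (fun i hi => h (i + 1) (by omega)) hlast
    haveI := hfree
    haveI := hfin
    have hex : Function.Exact (LinearMap.range (B (0 + 1)).mulVecLin).subtype
        (B 0).mulVecLin.rangeRestrict := by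
      rw [LinearMap.exact_iff, LinearMap.ker_rangeRestrict, Submodule.range_subtype]
      exact h 0 (by omega)
    obtain ⟨h1, h2, h3⟩ := step y hy hmy _ _ (Submodule.injective_subtype _)
      (LinearMap.surjective_rangeRestrict _) hex
    refine ⟨h1, h2, ?_⟩
    rw [Module.finrank_fin_fun] at h3
    have e1 : n (0 + 1) = n 1 := rfl
    have e2 : chi (len + 1) n = n 1 - chi len (fun i => n (i + 1)) := rfl
    rw [e2]
    omega

end depthZero

section loc

variable {R : Type u} [CommRing R] (S : Submonoid R) (L : Type u) [CommRing L] [Algebra R L]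
  [IsLocalization S L]

include S

theorem exists_clear {k : ℕ} (v : Fin k → L) :
    ∃ (s : S) (r : Fin k → R), ∀ j, algebraMap R L (r j) = algebraMap R L s * v j := by
  obtain ⟨s, hs⟩ := IsLocalization.exist_integer_multiples_of_finite S v
  simp only [IsLocalization.IsInteger, RingHom.mem_rangeS] at hs
  choose r hr using hs
  exact ⟨s, r, fun j => by rw [hr j, Algebra.smul_def]⟩

omit S [IsLocalization S L] in
theorem map_mulVec' {a b : ℕ} (A : Matrix (Fin a) (Fin b) R) (r : Fin b → R) :
    (A.map (algebraMap R L)) *ᵥ (fun j => algebraMap R L (r j)) =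
      fun i => algebraMap R L ((A *ᵥ r) i) := by
  funext i
  simp [Matrix.mulVec, dotProduct, map_sum, map_mul]

theorem locExact {a b c : ℕ} (A : Matrix (Fin a) (Fin b) R) (B : Matrix (Fin b) (Fin c) R)
    (h : LinearMap.ker A.mulVecLin = LinearMap.range B.mulVecLin) :
    LinearMap.ker (A.map (algebraMap R L)).mulVecLin =
      LinearMap.range (B.map (algebraMap R L)).mulVecLin := by
  classical
  apply le_antisymm
  · intro v hv
    rw [LinearMap.mem_ker, Matrix.mulVecLin_apply] at hv
    obtain ⟨s, r, hr⟩ := exists_clear S L v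
    have h2 : (fun j => algebraMap R L (r j)) = algebraMap R L s • v := by
      funext j
      rw [hr j]
      rfl
    have h1 : ∀ i, algebraMap R L ((A *ᵥ r) i) = 0 := by
      intro i
      have := congrFun (map_mulVec' L A r) i
      rw [← this, h2, Matrix.mulVec_smul, hv, smul_zero]
      rfl
    have h3 : ∀ i, ∃ t : S, (t : R) * (A *ᵥ r) i = 0 :=
      fun i => (IsLocalization.map_eq_zero_iff S L _).mp (h1 i)
    choose t ht using h3
    set T : S := ∏ i, t i with hTdef
    have hT : ∀ i, (T : R) * (A *ᵥ r) i = 0 := by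
      intro i
      have : (T : R) = (∏ j ∈ Finset.univ.erase i, (t j : R)) * t i := by
        rw [hTdef, Submonoid.coe_finsetProd, Finset.prod_erase_mul _ _ (Finset.mem_univ i)]
      rw [this, mul_assoc, ht i, mul_zero]
    have h4 : (T : R) • r ∈ LinearMap.ker A.mulVecLin := by
      rw [LinearMap.mem_ker, Matrix.mulVecLin_apply, Matrix.mulVec_smul]
      funext i
      simp [hT i]
    rw [h] at h4
    obtain ⟨w, hw⟩ := h4
    rw [Matrix.mulVecLin_apply] at hw
    have hu : IsUnit (algebraMap R L ((T * s : S) : R)) := IsLocalization.map_units L (T * s)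
    obtain ⟨u, hu'⟩ := hu
    refine ⟨(↑u⁻¹ : L) • (fun j => algebraMap R L (w j)), ?_⟩
    rw [Matrix.mulVecLin_apply, Matrix.mulVec_smul, map_mulVec', hw]
    funext i
    simp only [Pi.smul_apply, smul_eq_mul]
    rw [Units.inv_mul_eq_iff_eq_mul, hu']
    simp only [map_mul, Submonoid.coe_mul]
    rw [hr i]
    ring
  · rintro v ⟨w, rfl⟩
    rw [LinearMap.mem_ker, Matrix.mulVecLin_apply, Matrix.mulVecLin_apply]
    obtain ⟨s, r, hr⟩ := exists_clear S L w
    have hAB : ∀ r' : Fin c → R, A *ᵥ (B *ᵥ r') = 0 := by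
      intro r'
      have : B.mulVecLin r' ∈ LinearMap.ker A.mulVecLin := by
        rw [h]
        exact ⟨r', rfl⟩
      simpa [LinearMap.mem_ker, Matrix.mulVecLin_apply] using this
    have hunit : IsUnit (algebraMap R L s) := IsLocalization.map_units L s
    have h2 : (fun j => algebraMap R L (r j)) = algebraMap R L s • w := by
      funext j
      rw [hr j]
      rfl
    have h5 : algebraMap R L s • ((A.map (algebraMap R L)) *ᵥ
        ((B.map (algebraMap R L)) *ᵥ w)) = 0 := by
      rw [← Matrix.mulVec_smul, ← Matrix.mulVec_smul, ← h2, map_mulVec', map_mulVec', hAB]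
      funext i
      simp
    exact hunit.smul_eq_zero.mp h5

theorem locKerBot {a b : ℕ} (A : Matrix (Fin a) (Fin b) R)
    (h : LinearMap.ker A.mulVecLin = ⊥) :
    LinearMap.ker (A.map (algebraMap R L)).mulVecLin = ⊥ := by
  have h0 : LinearMap.range (0 : Matrix (Fin b) (Fin 0) R).mulVecLin = ⊥ := by
    rw [LinearMap.range_eq_bot, Matrix.mulVecLin_zero]
  have h1 := locExact S L A (0 : Matrix (Fin b) (Fin 0) R) (by rw [h, h0])
  rw [h1, LinearMap.range_eq_bot]
  have : (0 : Matrix (Fin b) (Fin 0) R).map (algebraMap R L) = 0 := by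
    ext i j
    exact j.elim0
  rw [this, Matrix.mulVecLin_zero]

end loc

section atPrime

variable {R : Type u} [CommRing R]

theorem depthZero_atPrime (P : Ideal R) [P.IsPrime] (x : R)
    (hx : ∀ r, r ∈ P ↔ r * x = 0) :
    algebraMap R (Localization.AtPrime P) x ≠ 0 ∧
      ∀ a ∈ maximalIdeal (Localization.AtPrime P),
        a * algebraMap R (Localization.AtPrime P) x = 0 := by
  constructor
  · intro h0
    obtain ⟨t, ht⟩ := (IsLocalization.map_eq_zero_iff P.primeCompl (Localization.AtPrime P) x).mp h0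
    exact t.2 ((hx t).mpr ht)
  · intro a ha
    obtain ⟨r, s, rfl⟩ := IsLocalization.exists_mk'_eq P.primeCompl a
    rw [IsLocalization.AtPrime.mk'_mem_maximal_iff (Localization.AtPrime P) P] at ha
    rw [mul_comm, IsLocalization.mul_mk'_eq_mk'_of_mul, mul_comm, (hx r).mp ha,
      IsLocalization.mk'_zero]

theorem key (P : Ideal R) [P.IsPrime] (x : R) (hx : ∀ r, r ∈ P ↔ r * x = 0)
    (len : ℕ) (m : ℕ → ℕ) (B : (i : ℕ) → Matrix (Fin (m i)) (Fin (m (i + 1))) R)
    (h : ∀ i, i < len → LinearMap.ker (B i).mulVecLin = LinearMap.range (B (i + 1)).mulVecLin)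
    (hlast : LinearMap.ker (B len).mulVecLin = ⊥) :
    Module.Free (Localization.AtPrime P)
      (LinearMap.range ((B 0).map (algebraMap R (Localization.AtPrime P))).mulVecLin) ∧
    Module.Finite (Localization.AtPrime P)
      (LinearMap.range ((B 0).map (algebraMap R (Localization.AtPrime P))).mulVecLin) ∧
    Module.finrank (Localization.AtPrime P)
      (LinearMap.range ((B 0).map (algebraMap R (Localization.AtPrime P))).mulVecLin) =
        chi len m := by
  obtain ⟨hy, hmy⟩ := depthZero_atPrime P x hx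
  exact chain (algebraMap R (Localization.AtPrime P) x) hy hmy len m
    (fun i => (B i).map (algebraMap R (Localization.AtPrime P)))
    (fun i hi => locExact P.primeCompl (Localization.AtPrime P) _ _ (h i hi))
    (locKerBot P.primeCompl (Localization.AtPrime P) _ hlast)

/-- shifted dimensions -/
def n' (n : ℕ → ℕ) : ℕ → ℕ
  | 0 => 1
  | (i + 1) => n i

/-- shifted matrices -/
def A' (n : ℕ → ℕ) (A : (i : ℕ) → Matrix (Fin (n i)) (Fin (n (i + 1))) R)
    (Aπ : Matrix (Fin 1) (Fin (n 0)) R) :
    (i : ℕ) → Matrix (Fin (n' n i)) (Fin (n' n (i + 1))) R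
  | 0 => Aπ
  | (i + 1) => A i

end atPrime

/-- Let R be a Noetherian ring and I a nonzero ideal with a finite free resolution 0 → R^{n_e} → … →
R^{n_1} → R^{n_0} → I → 0 with e ≥ 1: the map R^{n_{i+1}} → R^{n_i} is the matrix A_i, the map π :
R^{n_0} → R is linear with image I, the kernel of π is the image of A_0, the kernel of A_i is the
image of A_{i+1} for 0 ≤ i ≤ e - 2, and A_{e-1} is injective. Then I contains a non-zero-divisor of
R. (The hypothesis that I is nonzero is implicit in the published statement: the zero ideal of a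
domain has a finite free resolution and contains no non-zero-divisor.) -/
theorem result {R : Type u} [CommRing R] [IsNoetherianRing R]
    (e : ℕ) (he : 1 ≤ e) (n : ℕ → ℕ) (A : (i : ℕ) → Matrix (Fin (n i)) (Fin (n (i + 1))) R)
    (π : (Fin (n 0) → R) →ₗ[R] R) (hI : LinearMap.range π ≠ ⊥)
    (h0 : LinearMap.ker π = LinearMap.range (A 0).mulVecLin)
    (hA : ∀ i, i + 2 ≤ e → LinearMap.ker (A i).mulVecLin = LinearMap.range (A (i + 1)).mulVecLin)
    (hlast : LinearMap.ker (A (e - 1)).mulVecLin = ⊥) :
    ∃ x : R, x ∈ LinearMap.range π ∧ x ∈ nonZeroDivisors R := by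
  classical
  obtain ⟨e', rfl⟩ : ∃ e', e = e' + 1 := ⟨e - 1, by omega⟩
  rw [Nat.add_sub_cancel] at hlast
  set a : Fin (n 0) → R := fun j => π (fun k => if j = k then 1 else 0) with ha
  set Aπ : Matrix (Fin 1) (Fin (n 0)) R := Matrix.of (fun _ j => a j) with hAπ
  have hπ : ∀ w, π w = ∑ j, w j * a j := by
    intro w
    rw [LinearMap.pi_apply_eq_sum_univ π w]
    rfl
  have hAπv : ∀ (w : Fin (n 0) → R) (i : Fin 1), (Aπ *ᵥ w) i = π w := by
    intro w i
    rw [hπ]
    simp only [Matrix.mulVec, dotProduct, hAπ, Matrix.of_apply]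
    exact Finset.sum_congr rfl (fun j _ => mul_comm _ _)
  have hkerπ : LinearMap.ker Aπ.mulVecLin = LinearMap.range (A 0).mulVecLin := by
    rw [← h0]
    ext w
    rw [LinearMap.mem_ker, LinearMap.mem_ker, Matrix.mulVecLin_apply]
    constructor
    · intro h
      have := congrFun h 0
      rwa [hAπv] at this
    · intro h
      funext i
      rw [hAπv, h]
      rfl
  have H : ∀ i, i < e' + 1 → LinearMap.ker (A' n A Aπ i).mulVecLin =
      LinearMap.range (A' n A Aπ (i + 1)).mulVecLin := by
    intro i hi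
    cases i with
    | zero => exact hkerπ
    | succ j => exact hA j (by omega)
  have Hlast : LinearMap.ker (A' n A Aπ (e' + 1)).mulVecLin = ⊥ := hlast
  set c : ℕ := chi (e' + 1) (n' n) with hc
  -- the key fact at associated primes
  have hkey : ∀ (P : Ideal R) [P.IsPrime] (x : R), (∀ r, r ∈ P ↔ r * x = 0) →
      Module.Free (Localization.AtPrime P)
        (LinearMap.range (Aπ.map (algebraMap R (Localization.AtPrime P))).mulVecLin) ∧
      Module.Finite (Localization.AtPrime P)
        (LinearMap.range (Aπ.map (algebraMap R (Localization.AtPrime P))).mulVecLin) ∧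
      Module.finrank (Localization.AtPrime P)
        (LinearMap.range (Aπ.map (algebraMap R (Localization.AtPrime P))).mulVecLin) = c := by
    intro P _ x hx
    exact key P x hx (e' + 1) (n' n) (A' n A Aπ) H Hlast
  by_contra hno
  push Not at hno
  -- Step A: c = 0
  have hsub : ((LinearMap.range π : Ideal R) : Set R) ⊆ ⋃ p ∈ associatedPrimes R R, p := by
    rw [biUnion_associatedPrimes_eq_compl_nonZeroDivisors]
    intro x hx hx'
    exact hno x hx hx'
  obtain ⟨P₀, hP₀ass, hIP₀⟩ : ∃ P ∈ associatedPrimes R R, (LinearMap.range π : Ideal R) ≤ P :=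
    (Ideal.subset_union_prime_finite (I := (LinearMap.range π : Ideal R))
      (associatedPrimes.finite ..) (f := id) 0 0 fun _ h _ _ ↦ h.1).1 hsub
  rw [AssociatedPrimes.mem_iff, isAssociatedPrime_iff] at hP₀ass
  obtain ⟨hP₀prime, x₀, hP₀eq⟩ := hP₀ass
  have hx₀ : ∀ r, r ∈ P₀ ↔ r * x₀ = 0 := by
    intro r
    rw [hP₀eq, Submodule.mem_colon_singleton, Submodule.mem_bot, smul_eq_mul]
  have hc0 : c = 0 := by
    by_contra hcne
    obtain ⟨hfree, hfin, hrk⟩ := hkey P₀ x₀ hx₀
    obtain ⟨hy, -⟩ := depthZero_atPrime P₀ x₀ hx₀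
    let b := Module.finBasisOfFinrankEq (Localization.AtPrime P₀) _ hrk
    let i₀ : Fin c := ⟨0, Nat.pos_of_ne_zero hcne⟩
    have hkill : ∀ z ∈ LinearMap.range
        (Aπ.map (algebraMap R (Localization.AtPrime P₀))).mulVecLin,
        algebraMap R (Localization.AtPrime P₀) x₀ • z = 0 := by
      rintro z ⟨w, rfl⟩
      rw [Matrix.mulVecLin_apply]
      funext i
      simp only [Pi.smul_apply, smul_eq_mul, Matrix.mulVec, dotProduct, Matrix.map_apply, hAπ,
        Matrix.of_apply, Pi.zero_apply, Finset.mul_sum]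
      apply Finset.sum_eq_zero
      intro j _
      have haj : a j * x₀ = 0 := (hx₀ (a j)).mp (hIP₀ ⟨_, rfl⟩)
      rw [← mul_assoc, ← map_mul, mul_comm x₀, haj, map_zero, zero_mul]
    have h1 : algebraMap R (Localization.AtPrime P₀) x₀ • b i₀ = 0 :=
      Subtype.ext (hkill _ (b i₀).2)
    have h2 := congrArg (fun z => b.repr z i₀) h1
    simp only [map_smul, Module.Basis.repr_self, Finsupp.smul_single, smul_eq_mul, mul_one,
      Finsupp.single_eq_same, map_zero, Finsupp.coe_zero, Pi.zero_apply] at h2
    exact hy h2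
  -- Step B
  obtain ⟨a₁, ha₁mem, ha₁ne⟩ := Submodule.exists_mem_ne_zero_of_ne_bot hI
  obtain ⟨w₁, rfl⟩ := ha₁mem
  obtain ⟨P₁, hP₁ass, hcolon⟩ := exists_le_isAssociatedPrime_of_isNoetherianRing R (π w₁) ha₁ne
  rw [isAssociatedPrime_iff] at hP₁ass
  obtain ⟨hP₁prime, x₁, hP₁eq⟩ := hP₁ass
  have hx₁ : ∀ r, r ∈ P₁ ↔ r * x₁ = 0 := by
    intro r
    rw [hP₁eq, Submodule.mem_colon_singleton, Submodule.mem_bot, smul_eq_mul]
  obtain ⟨hfree, hfin, hrk⟩ := hkey P₁ x₁ hx₁
  rw [hc0] at hrk
  let b := Module.finBasisOfFinrankEq (Localization.AtPrime P₁) _ hrk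
  haveI : Subsingleton (LinearMap.range
      (Aπ.map (algebraMap R (Localization.AtPrime P₁))).mulVecLin) :=
    b.repr.toEquiv.subsingleton
  have hz : (Aπ.map (algebraMap R (Localization.AtPrime P₁))) *ᵥ
      (fun j => algebraMap R (Localization.AtPrime P₁) (w₁ j)) ∈ LinearMap.range
      (Aπ.map (algebraMap R (Localization.AtPrime P₁))).mulVecLin := ⟨_, rfl⟩
  have hz0 : (Aπ.map (algebraMap R (Localization.AtPrime P₁))) *ᵥ
      (fun j => algebraMap R (Localization.AtPrime P₁) (w₁ j)) = 0 := by
    have := Subsingleton.elim (⟨_, hz⟩ : LinearMap.range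
      (Aπ.map (algebraMap R (Localization.AtPrime P₁))).mulVecLin) 0
    exact congrArg Subtype.val this
  rw [map_mulVec'] at hz0
  have h3 := congrFun hz0 0
  simp only [hAπv, Pi.zero_apply] at h3
  obtain ⟨t, ht⟩ := (IsLocalization.map_eq_zero_iff P₁.primeCompl
    (Localization.AtPrime P₁) _).mp h3
  apply t.2
  apply hcolon
  rw [Submodule.mem_colon_singleton, Submodule.mem_bot, smul_eq_mul]
  exact ht

end Groth.Agent.S12909
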