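import Groth.Statements.S12907
import Groth.Agent.S12908
import Groth.Agent.S12909
import Mathlib

set_option autoImplicit false
set_option linter.style.haveILetI false
universe u
open CAlgX

namespace Groth.Agent.S12907

open Matrix

section aux

variable {R : Type u} [CommRing R]

/-- dimensions of the three-term complex -/
def dims (n m : ℕ) : ℕ → ℕ
  | 0 => 1
  | 1 => n
  | (_ + 2) => m

/-- the matrices of the three-term complex -/
def fam (n m : ℕ) (Aπ : Matrix (Fin 1) (Fin n) R) (Ψ : Matrix (Fin n) (Fin m) R) :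
    (i : ℕ) → Matrix (Fin (dims n m i)) (Fin (dims n m (i + 1))) R
  | 0 => Aπ
  | 1 => Ψ
  | (_ + 2) => 0

theorem n_eq [IsNoetherianRing R] (m n : ℕ) (Ψ : Matrix (Fin n) (Fin m) R)
    (π : (Fin n → R) →ₗ[R] R)
    (hΨ : LinearMap.ker Ψ.mulVecLin = ⊥) (hex : LinearMap.ker π = LinearMap.range Ψ.mulVecLin)
    (hI : LinearMap.range π ≠ ⊥) : n = m + 1 := by
  classical
  set a : Fin n → R := fun j => π (fun k => if j = k then 1 else 0) with ha
  set Aπ : Matrix (Fin 1) (Fin n) R := Matrix.of (fun _ j => a j) with hAπ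
  have hπ : ∀ w, π w = ∑ j, w j * a j := by
    intro w
    rw [LinearMap.pi_apply_eq_sum_univ π w]
    rfl
  have hAπv : ∀ (w : Fin n → R) (i : Fin 1), (Aπ *ᵥ w) i = π w := by
    intro w i
    rw [hπ]
    simp only [Matrix.mulVec, dotProduct, hAπ, Matrix.of_apply]
    exact Finset.sum_congr rfl (fun j _ => mul_comm _ _)
  have hkerπ : LinearMap.ker Aπ.mulVecLin = LinearMap.range Ψ.mulVecLin := by
    rw [← hex]
    ext w
    rw [LinearMap.mem_ker, LinearMap.mem_ker, Matrix.mulVecLin_apply]
    constructor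
    · intro h
      have := congrFun h 0
      rwa [hAπv] at this
    · intro h
      funext i
      rw [hAπv, h]
      rfl
  have H : ∀ i, i < 1 → LinearMap.ker (fam n m Aπ Ψ i).mulVecLin =
      LinearMap.range (fam n m Aπ Ψ (i + 1)).mulVecLin := by
    intro i hi
    obtain rfl : i = 0 := by omega
    exact hkerπ
  have Hlast : LinearMap.ker (fam n m Aπ Ψ 1).mulVecLin = ⊥ := hΨ
  obtain ⟨a₁, ha₁mem, ha₁ne⟩ := Submodule.exists_mem_ne_zero_of_ne_bot hI
  obtain ⟨w₁, rfl⟩ := ha₁mem
  obtain ⟨P₁, hP₁ass, hcolon⟩ := exists_le_isAssociatedPrime_of_isNoetherianRing R (π w₁) ha₁ne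
  rw [isAssociatedPrime_iff] at hP₁ass
  obtain ⟨hP₁prime, x₁, hP₁eq⟩ := hP₁ass
  have hx₁ : ∀ r, r ∈ P₁ ↔ r * x₁ = 0 := by
    intro r
    rw [hP₁eq, Submodule.mem_colon_singleton, Submodule.mem_bot, smul_eq_mul]
  obtain ⟨hfree, hfin, hrk⟩ :=
    Groth.Agent.S12909.key P₁ x₁ hx₁ 1 (dims n m) (fam n m Aπ Ψ) H Hlast
  have hrk' : Module.finrank (Localization.AtPrime P₁)
      (LinearMap.range (Aπ.map (algebraMap R (Localization.AtPrime P₁))).mulVecLin) = n - m := hrk
  have hfree' : Module.Free (Localization.AtPrime P₁)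
      (LinearMap.range (Aπ.map (algebraMap R (Localization.AtPrime P₁))).mulVecLin) := hfree
  have hfin' : Module.Finite (Localization.AtPrime P₁)
      (LinearMap.range (Aπ.map (algebraMap R (Localization.AtPrime P₁))).mulVecLin) := hfin
  have hle : Module.finrank (Localization.AtPrime P₁)
      (LinearMap.range (Aπ.map (algebraMap R (Localization.AtPrime P₁))).mulVecLin) ≤ 1 := by
    have := Submodule.finrank_le (R := Localization.AtPrime P₁)
      (LinearMap.range (Aπ.map (algebraMap R (Localization.AtPrime P₁))).mulVecLin)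
    rwa [Module.finrank_fin_fun] at this
  have hne : Module.finrank (Localization.AtPrime P₁)
      (LinearMap.range (Aπ.map (algebraMap R (Localization.AtPrime P₁))).mulVecLin) ≠ 0 := by
    intro h0
    let b := Module.finBasisOfFinrankEq (Localization.AtPrime P₁) _ h0
    haveI : Subsingleton (LinearMap.range
        (Aπ.map (algebraMap R (Localization.AtPrime P₁))).mulVecLin) :=
      b.repr.toEquiv.subsingleton
    have hz : (Aπ.map (algebraMap R (Localization.AtPrime P₁))) *ᵥ
        (fun j => algebraMap R (Localization.AtPrime P₁) (w₁ j)) ∈ LinearMap.range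
        (Aπ.map (algebraMap R (Localization.AtPrime P₁))).mulVecLin := ⟨_, rfl⟩
    have hz0 : (Aπ.map (algebraMap R (Localization.AtPrime P₁))) *ᵥ
        (fun j => algebraMap R (Localization.AtPrime P₁) (w₁ j)) = 0 := by
      have := Subsingleton.elim (⟨_, hz⟩ : LinearMap.range
        (Aπ.map (algebraMap R (Localization.AtPrime P₁))).mulVecLin) 0
      exact congrArg Subtype.val this
    rw [Groth.Agent.S12909.map_mulVec'] at hz0
    have h3 := congrFun hz0 0
    simp only [hAπv, Pi.zero_apply] at h3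
    obtain ⟨t, ht⟩ := (IsLocalization.map_eq_zero_iff P₁.primeCompl
      (Localization.AtPrime P₁) _).mp h3
    apply t.2
    apply hcolon
    rw [Submodule.mem_colon_singleton, Submodule.mem_bot, smul_eq_mul]
    exact ht
  omega

theorem exists_nzd_of_annihilator [IsNoetherianRing R] (J : Ideal R)
    (hann : J.annihilator = ⊥) : ∃ x ∈ J, x ∈ nonZeroDivisors R := by
  by_contra hcon
  push Not at hcon
  have hdisj : Disjoint (J : Set R) (nonZeroDivisors R) :=
    Set.disjoint_left.mpr (fun z hz hz' => hcon z hz hz')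
  have h2 : (⊥ : Ideal R) < J.annihilator :=
    Ideal.bot_lt_annihilator_of_disjoint_nonZeroDivisors hdisj
  rw [hann] at h2
  exact lt_irrefl _ h2

theorem depth_ge_two [IsNoetherianRing R] (m n : ℕ) (Ψ : Matrix (Fin n) (Fin m) R)
    (π : (Fin n → R) →ₗ[R] R)
    (hΨ : LinearMap.ker Ψ.mulVecLin = ⊥) (hex : LinearMap.ker π = LinearMap.range Ψ.mulVecLin) :
    2 ≤ LocCoh.idealDepth (minorIdeal Ψ m) R := by
  classical
  unfold LocCoh.idealDepth
  split_ifs with htop
  · exact le_top
  have hinj : Function.Injective Ψ.mulVecLin := LinearMap.ker_eq_bot.mp hΨ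
  have hann := Groth.Agent.H46.annihilator_eq_bot_of_injective Ψ hinj
  obtain ⟨x, hxJ, hxnzd⟩ := exists_nzd_of_annihilator _ hann
  -- Ψ mod x is injective
  have hinjb : Function.Injective
      (Ψ.map (algebraMap R (R ⧸ Ideal.span {x}))).mulVecLin := by
    rw [injective_iff_map_eq_zero]
    intro ub hub
    obtain ⟨u, rfl⟩ : ∃ u : Fin m → R,
        (fun j => algebraMap R (R ⧸ Ideal.span {x}) (u j)) = ub := by
      choose u hu using fun j => Ideal.Quotient.mk_surjective (ub j)
      exact ⟨u, funext hu⟩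
    rw [Matrix.mulVecLin_apply, Groth.Agent.S12909.map_mulVec' (R ⧸ Ideal.span {x}) Ψ u] at hub
    have h1 : ∀ i, ∃ wi, wi * x = (Ψ *ᵥ u) i := by
      intro i
      have := congrFun hub i
      exact Ideal.mem_span_singleton'.mp (Ideal.Quotient.eq_zero_iff_mem.mp this)
    choose w hw using h1
    have h2 : π (Ψ *ᵥ u) = 0 := by
      have : Ψ.mulVecLin u ∈ LinearMap.ker π := by
        rw [hex]
        exact ⟨u, rfl⟩
      exact this
    have h3 : Ψ *ᵥ u = x • w := by
      funext i
      rw [← hw i, Pi.smul_apply, smul_eq_mul, mul_comm]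
    rw [h3, map_smul, smul_eq_mul] at h2
    have h4 : π w = 0 := (mul_left_mem_nonZeroDivisors_eq_zero_iff hxnzd).mp h2
    have h5 : w ∈ LinearMap.range Ψ.mulVecLin := by
      rw [← hex]
      exact h4
    obtain ⟨u', hu'⟩ := h5
    have h6 : u = x • u' := by
      apply hinj
      rw [Matrix.mulVecLin_apply, Matrix.mulVecLin_apply, Matrix.mulVec_smul, h3, ← hu',
        Matrix.mulVecLin_apply]
    funext j
    rw [h6]
    have hx0 : algebraMap R (R ⧸ Ideal.span {x}) x = 0 :=
      Ideal.Quotient.eq_zero_iff_mem.mpr (Ideal.mem_span_singleton_self x)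
    simp only [Pi.smul_apply, smul_eq_mul, map_mul, hx0, zero_mul, Pi.zero_apply]
  have hannb := Groth.Agent.H46.annihilator_eq_bot_of_injective
    (Ψ.map (algebraMap R (R ⧸ Ideal.span {x}))) hinjb
  have hmap : minorIdeal (Ψ.map (algebraMap R (R ⧸ Ideal.span {x}))) m =
      (minorIdeal Ψ m).map (algebraMap R (R ⧸ Ideal.span {x})) := by
    unfold minorIdeal
    rw [Ideal.map_span, ← Set.range_comp]
    congr 2
    funext fg
    simp only [Function.comp_apply]
    rw [RingHom.map_det, RingHom.mapMatrix_apply, Matrix.submatrix_map]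
  obtain ⟨yb, hybJ, hybnzd⟩ := exists_nzd_of_annihilator _ hannb
  rw [hmap] at hybJ
  obtain ⟨y, hyJ, rfl⟩ := (Ideal.mem_map_iff_of_surjective
    (algebraMap R (R ⧸ Ideal.span {x})) Ideal.Quotient.mk_surjective).mp hybJ
  have hregx : IsSMulRegular R x := by
    intro c c' h
    simp only [smul_eq_mul] at h
    have : x * (c - c') = 0 := by rw [mul_sub, h, sub_self]
    exact sub_eq_zero.mp ((mul_left_mem_nonZeroDivisors_eq_zero_iff hxnzd).mp this)
  have hregy : IsSMulRegular (QuotSMulTop x R) y := by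
    intro cb cb' h
    obtain ⟨c, rfl⟩ := Submodule.Quotient.mk_surjective _ cb
    obtain ⟨c', rfl⟩ := Submodule.Quotient.mk_surjective _ cb'
    simp only at h
    rw [← Submodule.Quotient.mk_smul, ← Submodule.Quotient.mk_smul, Submodule.Quotient.eq,
      Submodule.mem_smul_pointwise_iff_exists] at h
    rw [Submodule.Quotient.eq, Submodule.mem_smul_pointwise_iff_exists]
    obtain ⟨d, -, hd⟩ := h
    have h1 : algebraMap R (R ⧸ Ideal.span {x}) y *
        algebraMap R (R ⧸ Ideal.span {x}) (c - c') = 0 := by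
      rw [← map_mul]
      apply Ideal.Quotient.eq_zero_iff_mem.mpr
      rw [Ideal.mem_span_singleton']
      refine ⟨d, ?_⟩
      rw [mul_comm, ← smul_eq_mul, hd, smul_eq_mul, smul_eq_mul, mul_sub]
    have h2 : algebraMap R (R ⧸ Ideal.span {x}) (c - c') = 0 :=
      (mul_left_mem_nonZeroDivisors_eq_zero_iff hybnzd).mp h1
    obtain ⟨e, he⟩ := Ideal.mem_span_singleton'.mp (Ideal.Quotient.eq_zero_iff_mem.mp h2)
    exact ⟨e, trivial, by rw [smul_eq_mul, mul_comm, he]⟩
  have hwr : RingTheory.Sequence.IsWeaklyRegular R [x, y] :=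
    RingTheory.Sequence.IsWeaklyRegular.cons hregx
      (RingTheory.Sequence.IsWeaklyRegular.cons hregy (RingTheory.Sequence.IsWeaklyRegular.nil _ _))
  refine le_iSup₂_of_le [x, y] ⟨hwr, ?_⟩ (by norm_num)
  intro r hr
  simp only [List.mem_cons, List.not_mem_nil, or_false] at hr
  rcases hr with rfl | rfl
  · exact hxJ
  · exact hyJ

end aux

/-- Let R be a Noetherian ring and I a nonzero ideal admitting a free resolution 0 → R^m → R^n → I → 0:
an injective matrix Ψ with n rows and m columns, and a linear map π : R^n → R with image I whose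
kernel is the image of Ψ. Then n = m + 1; there is a non-zero-divisor a with I = a · I_m(Ψ), where
I_m(Ψ) is the ideal generated by the m × m minors of Ψ; and the I_m(Ψ)-depth of R is at least 2.
(The published statement also asserts that this depth is exactly 2; only the lower bound is stated
here. The hypothesis that I is nonzero is implicit in the published statement.) -/
theorem result {R : Type u} [CommRing R] [IsNoetherianRing R] (m n : ℕ)
    (Ψ : Matrix (Fin n) (Fin m) R) (π : (Fin n → R) →ₗ[R] R)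
    (hΨ : LinearMap.ker Ψ.mulVecLin = ⊥) (hex : LinearMap.ker π = LinearMap.range Ψ.mulVecLin)
    (hI : LinearMap.range π ≠ ⊥) :
    n = m + 1 ∧
      (∃ a : R, a ∈ nonZeroDivisors R ∧ LinearMap.range π = Ideal.span {a} * CAlgX.minorIdeal Ψ m) ∧
      2 ≤ LocCoh.idealDepth (CAlgX.minorIdeal Ψ m) R := by
  classical
  have hn := n_eq m n Ψ π hΨ hex hI
  have hdepth := depth_ge_two m n Ψ π hΨ hex
  refine ⟨hn, ?_, hdepth⟩
  subst hn
  obtain ⟨-, hkerD, hrangeD⟩ := Groth.Agent.S12908.result m Ψ hdepth 1 (one_mem _)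
  set D := Fintype.linearCombination R
    (fun i : Fin (m + 1) => (1 : R) * ((-1 : R) ^ (i : ℕ) * (Ψ.submatrix i.succAbove id).det))
    with hD
  rw [Ideal.span_singleton_one, Ideal.top_mul] at hrangeD
  obtain ⟨x, hxJ, y, hyJ, hxreg, hyreg⟩ := Groth.Agent.S12908.exists_regular_pair _ hdepth
  have hkerπD : LinearMap.ker π = LinearMap.ker D := by rw [hex, hkerD]
  obtain ⟨vx, hvx⟩ : x ∈ LinearMap.range D := by rw [hrangeD]; exact hxJ
  obtain ⟨vy, hvy⟩ : y ∈ LinearMap.range D := by rw [hrangeD]; exact hyJ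
  have h1 : y * π vx = x * π vy := by
    have hmem : y • vx - x • vy ∈ LinearMap.ker D := by
      rw [LinearMap.mem_ker, map_sub, map_smul, map_smul, hvx, hvy, smul_eq_mul, smul_eq_mul,
        mul_comm, sub_self]
    rw [← hkerπD, LinearMap.mem_ker, map_sub, map_smul, map_smul, smul_eq_mul, smul_eq_mul,
      sub_eq_zero] at hmem
    exact hmem
  obtain ⟨a, ha⟩ := hyreg _ _ h1
  have hπD : ∀ v, π v = a * D v := by
    intro v
    have hmem : x • v - D v • vx ∈ LinearMap.ker D := by
      rw [LinearMap.mem_ker, map_sub, map_smul, map_smul, hvx, smul_eq_mul, smul_eq_mul,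
        mul_comm, sub_self]
    rw [← hkerπD, LinearMap.mem_ker, map_sub, map_smul, map_smul, smul_eq_mul, smul_eq_mul,
      sub_eq_zero, ha] at hmem
    have h2 : x * (π v - a * D v) = 0 := by
      rw [mul_sub, hmem]
      ring
    exact sub_eq_zero.mp (hxreg _ h2)
  refine ⟨a, ?_, ?_⟩
  · rw [mem_nonZeroDivisors_iff_right]
    intro b hb
    have h3 : ∀ v, b • v ∈ LinearMap.ker D := by
      intro v
      rw [← hkerπD, LinearMap.mem_ker, map_smul, hπD, smul_eq_mul, ← mul_assoc, hb, zero_mul]
    have h4 := h3 vx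
    rw [LinearMap.mem_ker, map_smul, hvx, smul_eq_mul, mul_comm] at h4
    exact hxreg _ h4
  · apply le_antisymm
    · rintro _ ⟨v, rfl⟩
      rw [hπD]
      refine Ideal.mul_mem_mul (Ideal.mem_span_singleton_self a) ?_
      rw [← hrangeD]
      exact ⟨v, rfl⟩
    · rw [Ideal.mul_le]
      intro r hr s hs
      obtain ⟨r', rfl⟩ := Ideal.mem_span_singleton'.mp hr
      rw [← hrangeD] at hs
      obtain ⟨v, rfl⟩ := hs
      refine ⟨r' • v, ?_⟩
      rw [map_smul, hπD, smul_eq_mul, mul_assoc]

end Groth.Agent.S12907
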