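import Groth.Statements.S12612
import Mathlib.RingTheory.MvPolynomial.EulerIdentity
import Mathlib.RingTheory.Derivation.Basic
import Mathlib.LinearAlgebra.Matrix.Determinant.Basic
import Mathlib.Tactic.Module
import Mathlib.Tactic.LinearCombination
import Mathlib.Tactic.FieldSimp

set_option autoImplicit false
open FunFld

namespace Groth.Agent.S12612

/-- Chain rule for a derivation applied to a polynomial expression. -/
theorem deriv_aeval {R A M σ : Type*} [CommRing R] [CommRing A] [Algebra R A] [AddCommGroup M]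
    [Module A M] [Module R M] [Fintype σ] (d : Derivation R A M) (v : σ → A)
    (p : MvPolynomial σ R) :
    d (MvPolynomial.aeval v p) =
      ∑ i, MvPolynomial.aeval v (MvPolynomial.pderiv i p) • d (v i) := by
  classical
  induction p using MvPolynomial.induction_on with
  | C a =>
    simp only [MvPolynomial.aeval_C, Derivation.map_algebraMap, MvPolynomial.pderiv_C, map_zero,
      zero_smul, Finset.sum_const_zero]
  | add p q hp hq =>
    simp only [map_add, hp, hq, add_smul, Finset.sum_add_distrib]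
  | mul_X p n hp =>
    have h1 : ∀ i, MvPolynomial.aeval v (MvPolynomial.pderiv i (p * MvPolynomial.X n)) • d (v i) =
        v n • (MvPolynomial.aeval v (MvPolynomial.pderiv i p) • d (v i)) +
          (if n = i then MvPolynomial.aeval v p • d (v n) else 0) := by
      intro i
      rw [MvPolynomial.pderiv_mul, MvPolynomial.pderiv_X, Pi.single_apply, map_add, map_mul,
        map_mul, MvPolynomial.aeval_X, add_smul]
      split_ifs with h
      · subst h
        rw [map_one, mul_one, mul_comm, mul_smul]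
      · rw [map_zero, mul_zero, zero_smul, mul_comm, mul_smul]
    rw [map_mul, MvPolynomial.aeval_X, Derivation.leibniz, hp]
    simp only [h1, Finset.sum_add_distrib, Finset.sum_ite_eq, Finset.mem_univ, if_true,
      Finset.smul_sum]
    exact add_comm _ _

/-- Scaling the point of evaluation of a homogeneous polynomial. -/
theorem aeval_mul_of_isHomogeneous {R S σ : Type*} [CommRing R] [CommRing S] [Algebra R S]
    {p : MvPolynomial σ R} {n : ℕ} (hp : p.IsHomogeneous n) (c : S) (v : σ → S) :
    MvPolynomial.aeval (fun i => c * v i) p = c ^ n * MvPolynomial.aeval v p := by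
  rw [MvPolynomial.aeval_def, MvPolynomial.aeval_def, MvPolynomial.eval₂_eq, MvPolynomial.eval₂_eq,
    Finset.mul_sum]
  refine Finset.sum_congr rfl fun d hd => ?_
  have hdeg : n = ∑ i ∈ d.support, d i := hp.degree_eq_sum_deg_support hd
  simp only [mul_pow, Finset.prod_mul_distrib, Finset.prod_pow_eq_pow_sum, ← hdeg]
  ring

theorem core {K M : Type*} [CommRing K] [AddCommGroup M] [Module K M]
    (a00 a01 a02 a10 a11 a12 a20 a21 a22 u0 u1 u2 x y f0 f1 f2 : K) (e0 e1 e2 Dx Dy : M)
    (h0 : a00 * u0 + a01 * u1 + a02 * u2 = 1)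
    (h1 : a10 * u0 + a11 * u1 + a12 * u2 = x)
    (h2 : a20 * u0 + a21 * u1 + a22 * u2 = y)
    (d0 : a00 • e0 + a01 • e1 + a02 • e2 = 0)
    (d1 : a10 • e0 + a11 • e1 + a12 • e2 = Dx)
    (d2 : a20 • e0 + a21 • e1 + a22 • e2 = Dy)
    (E : f0 + x * f1 + y * f2 = 0)
    (R : f1 • Dx + f2 • Dy = 0) :
    (a02 * f0 + a12 * f1 + a22 * f2) • Dx =
      ((a00 * a11 * a22 - a00 * a12 * a21 - a01 * a10 * a22 + a01 * a12 * a20
        + a02 * a10 * a21 - a02 * a11 * a20) * f2) • (u0 • e1 - u1 • e0) := by
  subst h1 h2 d1 d2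
  linear_combination (norm := module)
    (a12 * (a00 * u0 + a01 * u1 + a02 * u2) - a02 * (a10 * u0 + a11 * u1 + a12 * u2)) • R
    + E • (a02 • (a10 • e0 + a11 • e1 + a12 • e2))
    + (a22 * f2 * (a10 * u0 + a11 * u1 + a12 * u2)
        - a12 * f2 * (a20 * u0 + a21 * u1 + a22 * u2)) • d0
    - h0 • ((a12 * f1 + a22 * f2) • (a10 • e0 + a11 • e1 + a12 • e2))

theorem final {K M : Type*} [Field K] [AddCommGroup M] [Module K M] (F2 G2 w2 det u0 : K)
    (Dx V Dq : M) (n : ℕ) (hF2 : F2 ≠ 0) (hG2 : G2 ≠ 0) (hu0 : u0 ≠ 0)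
    (hG : G2 = u0⁻¹ ^ n * w2)
    (hstar : w2 • Dx = (det * F2) • V)
    (hq : Dq = u0⁻¹ ^ 2 • V) :
    F2⁻¹ • Dx = (det * u0⁻¹ ^ (((n + 1 : ℕ) : ℤ) - 3) * G2⁻¹) • Dq := by
  have hz : u0⁻¹ ≠ 0 := inv_ne_zero hu0
  have hw2 : w2 ≠ 0 := by
    rintro rfl
    apply hG2
    rw [hG, mul_zero]
  have hexp : (((n + 1 : ℕ) : ℤ) - 3) = (n : ℤ) - 2 := by
    push_cast
    ring
  have hzp : u0⁻¹ ^ (((n + 1 : ℕ) : ℤ) - 3) = u0⁻¹ ^ n * u0 ^ 2 := by
    rw [hexp, zpow_sub₀ hz, zpow_natCast, zpow_two]
    field_simp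
  have hDx : Dx = (w2⁻¹ * (det * F2)) • V := by
    rw [mul_smul, ← hstar, smul_smul, inv_mul_cancel₀ hw2, one_smul]
  rw [hDx, hq, hzp, hG, smul_smul, smul_smul]
  congr 1
  field_simp

/-- For a plane curve given by a homogeneous `f` of degree `e` with `f(1, x, y) = 0` and a change of
projective coordinates `X = AX'` (`A` invertible over `k`), with new affine coordinates `x' =
u₁/u₀`, `y' = u₂/u₀`, `z = 1/u₀ = X₀/X₀'` where `u = A⁻¹(1, x, y)ᵗ`, and `f'(X') = f(AX')`, the
differentials satisfy `dx/f̂_y = det(A) z^(e-3) dx'/f̂'_{y'}`, where `f̂_y = (∂f/∂X₂)(1, x, y)` and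
`f̂'_{y'} = (∂f'/∂X₂')(1, x', y')` are assumed nonzero. (Stated for any field `K` over `k`
containing such `x`, `y`; the published setting is a plane model of a function field over an
algebraically closed field, and the computation uses only the relation `f(1, x, y) = 0`.) -/
theorem result
    (k K : Type*) [Field k] [Field K] [Algebra k K]
    (f : MvPolynomial (Fin 3) k) (e : ℕ) (hf : f.IsHomogeneous e)
    (x y : K) (hfxy : MvPolynomial.aeval ![(1 : K), x, y] f = 0)
    (A : Matrix (Fin 3) (Fin 3) k) (hA : A.det ≠ 0)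
    (u : Fin 3 → K) (hu : ∀ i, ∑ j, algebraMap k K (A i j) * u j = ![(1 : K), x, y] i)
    (hu0 : u 0 ≠ 0)
    (hfy : MvPolynomial.aeval ![(1 : K), x, y] (MvPolynomial.pderiv 2 f) ≠ 0)
    (hfy' : MvPolynomial.aeval ![(1 : K), u 1 / u 0, u 2 / u 0]
      (MvPolynomial.pderiv 2
        (MvPolynomial.aeval (fun i : Fin 3 => ∑ j, MvPolynomial.C (A i j) * MvPolynomial.X j) f)) ≠ 0) :
    (MvPolynomial.aeval ![(1 : K), x, y] (MvPolynomial.pderiv 2 f))⁻¹ • KaehlerDifferential.D k K x =
      (algebraMap k K A.det * (u 0)⁻¹ ^ ((e : ℤ) - 3) *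
        (MvPolynomial.aeval ![(1 : K), u 1 / u 0, u 2 / u 0]
          (MvPolynomial.pderiv 2
            (MvPolynomial.aeval (fun i : Fin 3 => ∑ j, MvPolynomial.C (A i j) * MvPolynomial.X j) f)))⁻¹) •
        KaehlerDifferential.D k K (u 1 / u 0) := by
  classical
  have he : e ≠ 0 := by
    rintro rfl
    apply hfy
    have h0 : f.totalDegree = 0 := Nat.le_zero.1 hf.totalDegree_le
    rw [MvPolynomial.totalDegree_eq_zero_iff_eq_C.1 h0, MvPolynomial.pderiv_C, map_zero]
  obtain ⟨n, rfl⟩ := Nat.exists_eq_succ_of_ne_zero he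
  have hpd : ∀ i : Fin 3, (MvPolynomial.pderiv i f).IsHomogeneous n := fun i => by
    simpa using hf.pderiv (i := i)
  set P : Fin 3 → K := ![(1 : K), x, y] with hP
  set Q : Fin 3 → K := ![(1 : K), u 1 / u 0, u 2 / u 0] with hQdef
  set g : Fin 3 → MvPolynomial (Fin 3) k :=
    fun i => ∑ j, MvPolynomial.C (A i j) * MvPolynomial.X j with hg
  set D := KaehlerDifferential.D k K with hD
  have h0 : algebraMap k K (A 0 0) * u 0 + algebraMap k K (A 0 1) * u 1
      + algebraMap k K (A 0 2) * u 2 = 1 := by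
    have h := hu 0
    rw [Fin.sum_univ_three] at h
    exact h
  have h1 : algebraMap k K (A 1 0) * u 0 + algebraMap k K (A 1 1) * u 1
      + algebraMap k K (A 1 2) * u 2 = x := by
    have h := hu 1
    rw [Fin.sum_univ_three] at h
    exact h
  have h2 : algebraMap k K (A 2 0) * u 0 + algebraMap k K (A 2 1) * u 1
      + algebraMap k K (A 2 2) * u 2 = y := by
    have h := hu 2
    rw [Fin.sum_univ_three] at h
    exact h
  have d0 : algebraMap k K (A 0 0) • D (u 0) + algebraMap k K (A 0 1) • D (u 1)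
      + algebraMap k K (A 0 2) • D (u 2) = 0 := by
    have h := congrArg D h0
    simpa only [map_add, Derivation.leibniz, Derivation.map_algebraMap, smul_zero, add_zero,
      Derivation.map_one_eq_zero] using h
  have d1 : algebraMap k K (A 1 0) • D (u 0) + algebraMap k K (A 1 1) • D (u 1)
      + algebraMap k K (A 1 2) • D (u 2) = D x := by
    have h := congrArg D h1
    simpa only [map_add, Derivation.leibniz, Derivation.map_algebraMap, smul_zero, add_zero]
      using h
  have d2 : algebraMap k K (A 2 0) • D (u 0) + algebraMap k K (A 2 1) • D (u 1)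
      + algebraMap k K (A 2 2) • D (u 2) = D y := by
    have h := congrArg D h2
    simpa only [map_add, Derivation.leibniz, Derivation.map_algebraMap, smul_zero, add_zero]
      using h
  have E : MvPolynomial.aeval P (MvPolynomial.pderiv 0 f)
      + x * MvPolynomial.aeval P (MvPolynomial.pderiv 1 f)
      + y * MvPolynomial.aeval P (MvPolynomial.pderiv 2 f) = 0 := by
    have h := congrArg (MvPolynomial.aeval P) hf.sum_X_mul_pderiv
    rw [map_sum, Fin.sum_univ_three, map_nsmul, hfxy, smul_zero] at h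
    simp only [map_mul, MvPolynomial.aeval_X] at h
    have h' : (1 : K) * MvPolynomial.aeval P (MvPolynomial.pderiv 0 f)
      + x * MvPolynomial.aeval P (MvPolynomial.pderiv 1 f)
      + y * MvPolynomial.aeval P (MvPolynomial.pderiv 2 f) = 0 := h
    linear_combination h'
  have R : MvPolynomial.aeval P (MvPolynomial.pderiv 1 f) • D x
      + MvPolynomial.aeval P (MvPolynomial.pderiv 2 f) • D y = 0 := by
    have h := deriv_aeval D P f
    rw [hfxy, map_zero, Fin.sum_univ_three] at h
    have h' : (0 : KaehlerDifferential k K) =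
        MvPolynomial.aeval P (MvPolynomial.pderiv 0 f) • D (1 : K)
        + MvPolynomial.aeval P (MvPolynomial.pderiv 1 f) • D x
        + MvPolynomial.aeval P (MvPolynomial.pderiv 2 f) • D y := h
    rw [Derivation.map_one_eq_zero, smul_zero, zero_add] at h'
    exact h'.symm
  have hG : MvPolynomial.aeval Q (MvPolynomial.pderiv 2 (MvPolynomial.aeval g f)) =
      (u 0)⁻¹ ^ n * (algebraMap k K (A 0 2) * MvPolynomial.aeval P (MvPolynomial.pderiv 0 f)
        + algebraMap k K (A 1 2) * MvPolynomial.aeval P (MvPolynomial.pderiv 1 f)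
        + algebraMap k K (A 2 2) * MvPolynomial.aeval P (MvPolynomial.pderiv 2 f)) := by
    have hch := deriv_aeval (MvPolynomial.pderiv (2 : Fin 3) :
      Derivation k (MvPolynomial (Fin 3) k) (MvPolynomial (Fin 3) k)) g f
    have hgi : ∀ i, MvPolynomial.pderiv (2 : Fin 3) (g i) = MvPolynomial.C (A i 2) := by
      intro i
      simp only [hg, Fin.sum_univ_three, map_add, MvPolynomial.pderiv_C_mul,
        MvPolynomial.pderiv_X_self,
        MvPolynomial.pderiv_X_of_ne (show (0 : Fin 3) ≠ 2 by decide),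
        MvPolynomial.pderiv_X_of_ne (show (1 : Fin 3) ≠ 2 by decide), mul_zero, mul_one, zero_add]
    have hQ : ∀ i, MvPolynomial.aeval Q (g i) = (u 0)⁻¹ * P i := by
      intro i
      rw [← hu i]
      simp only [hg, map_add, map_mul, MvPolynomial.aeval_C, MvPolynomial.aeval_X,
        Fin.sum_univ_three]
      show algebraMap k K (A i 0) * 1 + algebraMap k K (A i 1) * (u 1 / u 0)
        + algebraMap k K (A i 2) * (u 2 / u 0) = _
      field_simp
    have hcomp : ∀ p : MvPolynomial (Fin 3) k, p.IsHomogeneous n →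
        MvPolynomial.aeval Q (MvPolynomial.aeval g p) =
          (u 0)⁻¹ ^ n * MvPolynomial.aeval P p := by
      intro p hp
      rw [MvPolynomial.comp_aeval_apply]
      have hfun : (fun i => MvPolynomial.aeval Q (g i)) = fun i => (u 0)⁻¹ * P i := funext hQ
      rw [hfun]
      exact aeval_mul_of_isHomogeneous hp _ _
    rw [hch, map_sum, Fin.sum_univ_three]
    simp only [hgi, smul_eq_mul, map_mul, MvPolynomial.aeval_C, hcomp _ (hpd _)]
    ring
  have hstar := core (algebraMap k K (A 0 0)) (algebraMap k K (A 0 1)) (algebraMap k K (A 0 2))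
    (algebraMap k K (A 1 0)) (algebraMap k K (A 1 1)) (algebraMap k K (A 1 2))
    (algebraMap k K (A 2 0)) (algebraMap k K (A 2 1)) (algebraMap k K (A 2 2))
    (u 0) (u 1) (u 2) x y _ _ _ (D (u 0)) (D (u 1)) (D (u 2)) (D x) (D y)
    h0 h1 h2 d0 d1 d2 E R
  have hdet : algebraMap k K A.det =
      algebraMap k K (A 0 0) * algebraMap k K (A 1 1) * algebraMap k K (A 2 2)
      - algebraMap k K (A 0 0) * algebraMap k K (A 1 2) * algebraMap k K (A 2 1)
      - algebraMap k K (A 0 1) * algebraMap k K (A 1 0) * algebraMap k K (A 2 2)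
      + algebraMap k K (A 0 1) * algebraMap k K (A 1 2) * algebraMap k K (A 2 0)
      + algebraMap k K (A 0 2) * algebraMap k K (A 1 0) * algebraMap k K (A 2 1)
      - algebraMap k K (A 0 2) * algebraMap k K (A 1 1) * algebraMap k K (A 2 0) := by
    rw [Matrix.det_fin_three]
    simp only [map_add, map_sub, map_mul]
  exact final _ _ _ (algebraMap k K A.det) (u 0) (D x) (u 0 • D (u 1) - u 1 • D (u 0))
    (D (u 1 / u 0)) n hfy hfy' hu0 hG (by rw [hdet]; exact hstar)
    (Derivation.leibniz_div D (u 1) (u 0))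

end Groth.Agent.S12612
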