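import Groth.Statements.S12616
import Groth.Agent.S12612
import Groth.Agent.H27.DivDiff
import Groth.Agent.H27.MapDivOne

set_option autoImplicit false
open FunFld

namespace Groth.Agent.S12616

open WithZero Groth.Agent.H55 Groth.Agent.H27.DivDiff Groth.Agent.H27.MapDivOne Groth.Agent.H27.DiffExp


/-- Over an algebraically closed constant field, the adjoint divisor `Δ(φ) = (e - 3)[φ] - [dx/f̂_y]` of
an effective plane map `φ = (1 : x : y)` of degree `e`, with a homogeneous relation `f` of the same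
degree `e` satisfying `f(1, x, y) = 0`, depends only on the equivalence class of `φ`: it is
unchanged under a change of projective coordinates `X = AX'`, with `x' = u₁/u₀`, `y' = u₂/u₀`, `u =
A⁻¹(1, x, y)ᵗ`, `f'(X') = f(AX')`. Here `dx ≠ 0`, both `f̂_y` and `f̂'_{y'}` are nonzero, and
divisors of differentials are read through a family of Laurent expansions. (The published statement
takes `f` to be the minimal relation of `x` and `y` for a plane model `K = k(x, y)`, where the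
degree of the map equals the degree of `f`; this row assumes only that `f` is homogeneous of degree
equal to the degree of the map, which is all the change-of-coordinates computation uses — when the
two degrees differ the two sides differ by a multiple of the divisor of `u₀`.) -/
theorem result
    (k K : Type*) [Field k] [IsAlgClosed k] [Field K] [Algebra k K]
    (hK : FunFld.IsFunctionField k K) (f : MvPolynomial (Fin 3) k) (e : ℕ) (hf : f.IsHomogeneous e)
    (x y : K) (hfxy : MvPolynomial.aeval ![(1 : K), x, y] f = 0)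
    (hdx : KaehlerDifferential.D k K x ≠ 0)
    (he : (FunFld.mapDiv k ![(1 : K), x, y]).deg = e)
    (A : Matrix (Fin 3) (Fin 3) k) (hA : A.det ≠ 0)
    (u : Fin 3 → K) (hu : ∀ i, ∑ j, algebraMap k K (A i j) * u j = ![(1 : K), x, y] i)
    (hu0 : u 0 ≠ 0)
    (hfy : (MvPolynomial.aeval ![(1 : K), x, y] (MvPolynomial.pderiv 2 f)) ≠ 0)
    (hfy' : (MvPolynomial.aeval ![(1 : K), u 1 / u 0, u 2 / u 0] (MvPolynomial.pderiv 2 (MvPolynomial.aeval (fun i : Fin 3 => ∑ j, MvPolynomial.C (A i j) * MvPolynomial.X j) f))) ≠ 0)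
    (Φ : FunFld.Place k K → (K →ₐ[k] LaurentSeries k))
    (hΦ : ∀ P : FunFld.Place k K, LocRes.IsExpansionAt P.1 (Φ P)) :
    ((FunFld.mapDiv k ![(1 : K), x, y]).deg - 3) • FunFld.mapDiv k ![(1 : K), x, y] -
        FunFld.divDiff Φ (MvPolynomial.aeval ![(1 : K), x, y] (MvPolynomial.pderiv 2 f))⁻¹ x =
      ((FunFld.mapDiv k ![(1 : K), u 1 / u 0, u 2 / u 0]).deg - 3) •
          FunFld.mapDiv k ![(1 : K), u 1 / u 0, u 2 / u 0] -
        FunFld.divDiff Φ (MvPolynomial.aeval ![(1 : K), u 1 / u 0, u 2 / u 0] (MvPolynomial.pderiv 2 (MvPolynomial.aeval (fun i : Fin 3 => ∑ j, MvPolynomial.C (A i j) * MvPolynomial.X j) f)))⁻¹ (u 1 / u 0) := by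
  classical
  have hid := Groth.Agent.S12612.result k K f e hf x y hfxy A hA u hu hu0 hfy hfy'
  obtain ⟨fy, hfyd⟩ : ∃ fy : K, fy = MvPolynomial.aeval ![(1 : K), x, y] (MvPolynomial.pderiv 2 f) :=
    ⟨_, rfl⟩
  obtain ⟨fy', hfy'd⟩ : ∃ fy' : K, fy' = MvPolynomial.aeval ![(1 : K), u 1 / u 0, u 2 / u 0]
      (MvPolynomial.pderiv 2 (MvPolynomial.aeval
        (fun i : Fin 3 => ∑ j, MvPolynomial.C (A i j) * MvPolynomial.X j) f)) := ⟨_, rfl⟩
  rw [← hfyd] at hfy hid ⊢
  rw [← hfy'd] at hfy' hid ⊢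
  have hM := mapDiv_coord_change_eq hK A hA x y u hu hu0
  have hdeg : (FunFld.mapDiv k ![(1 : K), u 1 / u 0, u 2 / u 0]).deg =
      (FunFld.mapDiv k ![(1 : K), x, y]).deg := by
    rw [hM, deg_add, deg_div hK, add_zero]
  rw [hdeg, he]
  have hD1 : ∀ Q : FunFld.Place k K, FunFld.divDiff Φ fy⁻¹ x Q =
      Q.ord fy⁻¹ + LocRes.ordDiff (Φ Q) 1 x :=
    fun Q => divDiff_apply' hK hdx Φ hΦ (inv_ne_zero hfy) Q
  have hc0 : algebraMap k K A.det ≠ 0 := by
    rw [Ne, map_eq_zero_iff _ (algebraMap k K).injective]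
    exact hA
  have hzpow : ∀ (Q : FunFld.Place k K) (z : K) (n : ℤ), Q.ord (z ^ n) = n * Q.ord z := by
    intro Q z n
    unfold FunFld.Place.ord
    rw [map_zpow₀, WithZero.log_zpow]
    simp
  have hD2 : ∀ Q : FunFld.Place k K, LocRes.ordDiff (Φ Q) fy'⁻¹ (u 1 / u 0) =
      ((e : ℤ) - 3) * Q.ord (u 0) + (Q.ord fy⁻¹ + LocRes.ordDiff (Φ Q) 1 x) := by
    intro Q
    obtain ⟨a, ha⟩ : ∃ a : K, a = algebraMap k K A.det * (u 0)⁻¹ ^ ((e : ℤ) - 3) * fy'⁻¹ :=
      ⟨_, rfl⟩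
    rw [← ha] at hid
    have ha0 : a ≠ 0 := by
      rw [ha]
      exact mul_ne_zero (mul_ne_zero hc0 (zpow_ne_zero _ (inv_ne_zero hu0))) (inv_ne_zero hfy')
    have hrel : KaehlerDifferential.D k K (u 1 / u 0) =
        (a⁻¹ * fy⁻¹) • KaehlerDifferential.D k K x := by
      rw [mul_smul, hid, smul_smul, inv_mul_cancel₀ ha0, one_smul]
    have hch := chain_rule (Φ Q) (u 1 / u 0) x (a⁻¹ * fy⁻¹) hrel
    obtain ⟨w, hw⟩ : ∃ w : K, w = (algebraMap k K A.det)⁻¹ * (u 0) ^ ((e : ℤ) - 3) * fy⁻¹ :=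
      ⟨_, rfl⟩
    have hw0 : w ≠ 0 := by
      rw [hw]
      exact mul_ne_zero (mul_ne_zero (inv_ne_zero hc0) (zpow_ne_zero _ hu0)) (inv_ne_zero hfy)
    have hwe : fy'⁻¹ * (a⁻¹ * fy⁻¹) = w := by
      rw [hw, ha, inv_zpow, mul_inv, mul_inv, inv_inv, inv_inv]
      field_simp
    have h1 : LocRes.ordDiff (Φ Q) fy'⁻¹ (u 1 / u 0) = LocRes.ordDiff (Φ Q) w x := by
      unfold LocRes.ordDiff LocRes.vDiff
      rw [hch, ← mul_assoc, ← map_mul, hwe]
    rw [h1, ordDiff_smul hK hdx (Φ Q) Q (hΦ Q) hw0, hw,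
      pl_ord_mul Q (mul_ne_zero (inv_ne_zero hc0) (zpow_ne_zero _ hu0)) (inv_ne_zero hfy),
      pl_ord_mul Q (inv_ne_zero hc0) (zpow_ne_zero _ hu0), pl_ord_inv, pl_ord_const, hzpow]
    ring
  have hD3 : ∀ Q : FunFld.Place k K, FunFld.divDiff Φ fy'⁻¹ (u 1 / u 0) Q =
      (((e : ℤ) - 3) • FunFld.div k (u 0) + FunFld.divDiff Φ fy⁻¹ x) Q := by
    intro Q
    apply divDiff_apply_of_eq
    intro Q'
    rw [hD2 Q', Finsupp.add_apply, Finsupp.smul_apply, div_apply hK, hD1 Q', smul_eq_mul]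
  ext Q
  rw [Finsupp.sub_apply, Finsupp.sub_apply, Finsupp.smul_apply, Finsupp.smul_apply, hD3 Q,
    Finsupp.add_apply, Finsupp.smul_apply, hM, Finsupp.add_apply, div_apply hK]
  simp only [smul_eq_mul]
  ring

end Groth.Agent.S12616
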