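import Groth.Statements.S0633
import Mathlib
import Groth.Agent.S9436

set_option autoImplicit false
open CategoryTheory CategoryTheory.Limits AlgebraicGeometry Opposite
universe u
open EtCore

namespace Groth.Agent.S0633


open scoped TensorProduct

theorem affLift {R Rb Sb : CommRingCat.{u}} (φ : R ⟶ Rb) (hφ : Function.Surjective φ.hom)
    (ψb : Rb ⟶ Sb) (hψ : ψb.hom.Etale) :
    ∃ (S : CommRingCat.{u}) (ψ : R ⟶ S) (χ : S ⟶ Sb), ψ.hom.Etale ∧ IsPushout φ ψ ψb χ := by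
  let I : Ideal R := RingHom.ker φ.hom
  let e₀ : (R ⧸ I) ≃+* Rb := RingHom.quotientKerEquivOfSurjective hφ
  letI alg : Algebra (R ⧸ I) Sb := (ψb.hom.comp e₀.toRingHom).toAlgebra
  haveI : Algebra.Etale (R ⧸ I) Sb :=
    RingHom.Etale.stableUnderComposition _ _ (RingHom.Etale.of_bijective e₀.bijective) hψ
  obtain ⟨S, instS, instA, hS, ⟨e⟩⟩ := Groth.Agent.S9436.result R I Sb
  refine ⟨CommRingCat.of S, CommRingCat.ofHom (algebraMap R S),
    CommRingCat.ofHom (e.toRingEquiv.toRingHom.comp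
      (Algebra.TensorProduct.includeRight (R := R) (A := R ⧸ I) (B := S)).toRingHom), ?_, ?_⟩
  · exact (RingHom.etale_algebraMap).2 hS
  · refine (CommRingCat.isPushout_tensorProduct R (R ⧸ I) S).of_iso (Iso.refl _)
      e₀.toCommRingCatIso (Iso.refl _) e.toRingEquiv.toCommRingCatIso ?_ ?_ ?_ ?_
    · ext r
      rfl
    · rfl
    · ext a
      show e ((Ideal.Quotient.mk I a) ⊗ₜ[R] (1 : S)) = ψb.hom (e₀ (Ideal.Quotient.mk I a))
      have h1 : ((Ideal.Quotient.mk I a) ⊗ₜ[R] (1 : S)) =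
          algebraMap (R ⧸ I) ((R ⧸ I) ⊗[R] S) (Ideal.Quotient.mk I a) := rfl
      rw [h1, e.commutes]
      rfl
    · rw [Iso.refl_hom, Category.id_comp]
      rfl

theorem pointwise {X Y : Scheme.{u}} (f : X ⟶ Y) [IsClosedImmersion f] (U : X.Etale)
    (x : U.left) :
    ∃ (V : Y.Etale) (h : pullback V.hom f ⟶ U.left), h ≫ U.hom = pullback.snd V.hom f ∧
      IsOpenImmersion h ∧ ∃ y : ↥(pullback V.hom f), h.base y = x := by
  haveI : Etale U.hom := U.prop
  obtain ⟨W, hW, hxW, -⟩ := exists_isAffineOpen_mem_and_subset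
    (x := f.base (U.hom.base x)) (U := ⊤) trivial
  have hXW : IsAffineOpen (f ⁻¹ᵁ W) := hW.preimage f
  have hx1 : x ∈ U.hom ⁻¹ᵁ (f ⁻¹ᵁ W) := hxW
  obtain ⟨U', hU', hxU', hU'le⟩ := exists_isAffineOpen_mem_and_subset hx1
  have hle : U' ≤ U.hom ⁻¹ᵁ (f ⁻¹ᵁ W) := hU'le
  obtain ⟨S, ψ, χ, hψ, hpo⟩ := affLift (f.app W) (f.app_surjective W hW)
    (U.hom.appLE (f ⁻¹ᵁ W) U' hle) (U.hom.etale_appLE hXW hU' hle)
  have s := isPullback_SpecMap_of_isPushout _ _ _ _ hpo
  have H : hXW.fromSpec ≫ f = Spec.map (f.app W) ≫ hW.fromSpec := by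
    have := IsAffineOpen.SpecMap_appLE_fromSpec f hW hXW le_rfl
    rw [← this, Scheme.Hom.appLE_eq_app]
  have t := (IsOpenImmersion.isPullback (Spec.map (f.app W)) hXW.fromSpec hW.fromSpec f H
    (by rw [hW.opensRange_fromSpec, hXW.opensRange_fromSpec])).flip
  have big := (s.paste_horiz t).flip
  haveI : Etale (Spec.map ψ) := (HasRingHomProperty.Spec_iff (P := @Etale)).2 hψ
  let V : Y.Etale := Scheme.Etale.mk (Spec.map ψ ≫ hW.fromSpec)
  have big' : IsPullback (Spec.map χ) (Spec.map (U.hom.appLE (f ⁻¹ᵁ W) U' hle) ≫ hXW.fromSpec)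
      V.hom f := big
  have hcomp : hU'.fromSpec ≫ U.hom =
      Spec.map (U.hom.appLE (f ⁻¹ᵁ W) U' hle) ≫ hXW.fromSpec :=
    (IsAffineOpen.SpecMap_appLE_fromSpec U.hom hXW hU' hle).symm
  refine ⟨V, big'.isoPullback.inv ≫ hU'.fromSpec, ?_, inferInstance, ?_⟩
  · rw [Category.assoc, hcomp]
    exact big'.isoPullback_inv_snd
  · have hxr : x ∈ Set.range hU'.fromSpec := by
      rw [hU'.range_fromSpec]
      exact hxU'
    obtain ⟨z, hz⟩ := hxr
    refine ⟨big'.isoPullback.hom z, ?_⟩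
    rw [Scheme.Hom.comp_apply]
    exact (congrArg (fun p => hU'.fromSpec p) (Scheme.hom_inv_apply big'.isoPullback z)).trans hz

/-- Let X -> Y be a closed immersion and U -> X etale. Then there exist etale morphisms V_i -> Y and
X-morphisms V_i x_Y X -> U which are open immersions whose images cover U. -/
theorem result {X Y : Scheme.{u}} (f : X ⟶ Y) [IsClosedImmersion f]
    (U : X.Etale) :
    ∃ (κ : Type u) (V : κ → Y.Etale) (h : ∀ j, pullback (V j).hom f ⟶ U.left),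
      (∀ j, h j ≫ U.hom = pullback.snd (V j).hom f) ∧ (∀ j, IsOpenImmersion (h j)) ∧
      ∀ x : U.left, ∃ (j : κ) (y : ↥(pullback (V j).hom f)), (h j).base y = x := by
  choose V h h1 h2 h3 using pointwise f U
  exact ⟨U.left, V, h, h1, h2, fun x => ⟨x, h3 x⟩⟩

end Groth.Agent.S0633
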