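import Groth.Statements.S6629
import Mathlib
import Groth.Agent.H4.GlueDisjoint
import Groth.Agent.H4.ClosedDense

set_option autoImplicit false
open CategoryTheory CategoryTheory.Limits AlgebraicGeometry Opposite
universe u
open EtDesc

namespace Groth.Agent.S6629

open Groth.Agent.H4

theorem sym_fst {X Y V V₂ : Scheme.{u}} (f : X ⟶ Y) (v : V ⟶ Y) (v₂ : V₂ ⟶ V) :
    ((pullbackSymmetry (v₂ ≫ v) f).hom ≫
      pullback.map f (v₂ ≫ v) f v (𝟙 X) v₂ (𝟙 Y) (by simp) (by simp) ≫
        (pullbackSymmetry v f).inv) ≫ pullback.fst v f = pullback.fst (v₂ ≫ v) f ≫ v₂ := by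
  rw [Category.assoc, Category.assoc, pullbackSymmetry_inv_comp_fst]
  unfold pullback.map
  rw [pullback.lift_snd, ← Category.assoc, pullbackSymmetry_hom_comp_snd]

theorem sym_snd {X Y V V₂ : Scheme.{u}} (f : X ⟶ Y) (v : V ⟶ Y) (v₂ : V₂ ⟶ V) :
    ((pullbackSymmetry (v₂ ≫ v) f).hom ≫
      pullback.map f (v₂ ≫ v) f v (𝟙 X) v₂ (𝟙 Y) (by simp) (by simp) ≫
        (pullbackSymmetry v f).inv) ≫ pullback.snd v f = pullback.snd (v₂ ≫ v) f := by
  rw [Category.assoc, Category.assoc, pullbackSymmetry_inv_comp_snd]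
  unfold pullback.map
  rw [pullback.lift_fst, ← Category.assoc, pullbackSymmetry_hom_comp_fst, Category.comp_id]

/-- Let f : X ⟶ Y be a morphism of schemes satisfying condition (B) (for every etale V ⟶ Y and every
etale covering of X ×_Y V there is an etale covering of V by schemes V_j such that each X ×_Y V_j is
a disjoint union of open subschemes each mapping into X ×_Y V through a member of the given
covering). Then the direct image of sheaves of sets on the small etale sites along f sends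
epimorphisms to epimorphisms. -/
theorem result {X Y : Scheme.{u}} (f : X ⟶ Y) (hB : BigSite.PropB f) :
    (EtDesc.pushSh f).PreservesEpimorphisms := by
  constructor
  intro F G φ hφ
  haveI : Sheaf.IsLocallySurjective φ := (Sheaf.isLocallySurjective_iff_epi _).2 hφ
  rw [← Sheaf.isLocallySurjective_iff_epi]
  constructor
  intro V' t
  haveI : Etale V'.hom := V'.prop
  let v : V'.left ⟶ Y := V'.hom
  let σ : pullback v f ≅ pullback f v := pullbackSymmetry v f
  let t₀ : G.obj.obj (op ((EtCoh.bc f).obj V')) := t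
  have hS : Presheaf.imageSieve φ.hom t₀ ∈ X.smallEtaleTopology ((EtCoh.bc f).obj V') :=
    Presheaf.imageSieve_mem X.smallEtaleTopology φ.hom t₀
  have hloc : ∀ x : ↥(pullback f v), ∃ (W : X.Etale) (r : W ⟶ (EtCoh.bc f).obj V')
      (w : W.left), Presheaf.imageSieve φ.hom t₀ r ∧ r.left.base w = σ.inv.base x :=
    fun x => exists_of_mem_smallEtaleTopology _ _ hS (σ.inv.base x)
  choose W r w hr hw using hloc
  choose sx hsx using hr
  let gfam : ∀ x : ↥(pullback f v), (W x).left ⟶ pullback f v := fun x => (r x).left ≫ σ.hom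
  have hget : ∀ x, Etale (gfam x) := fun x => by
    haveI : Etale (r x).left := inferInstance
    exact inferInstanceAs (Etale ((r x).left ≫ σ.hom))
  have hgcov : ∀ x : ↥(pullback f v), ∃ i, x ∈ Set.range (gfam i).base := fun x => by
    refine ⟨x, w x, ?_⟩
    show σ.hom.base ((r x).left.base (w x)) = x
    rw [hw x]
    have h5 : (σ.inv ≫ σ.hom).base x = x := by
      rw [Iso.inv_hom_id]
      rfl
    exact h5
  obtain ⟨κ, V'', v'', hv'', hcov'', hW⟩ :=
    hB V'.left v ↥(pullback f v) (fun x => (W x).left) gfam hget hgcov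
  apply mem_smallEtaleTopology_of_forall
  intro y
  obtain ⟨j, y'', hy''⟩ := hcov'' y
  haveI := hv'' j
  let Vj : Y.Etale := Scheme.Etale.mk (v'' j ≫ v)
  let gen : Vj ⟶ V' := MorphismProperty.Over.homMk (v'' j) rfl trivial
  refine ⟨Vj, gen, y'', ?_, hy''⟩
  obtain ⟨μ, Wop, hdisj, hsup, hfac⟩ := hW j
  choose ia ha hha using hfac
  let B : X.Etale := (EtCoh.bc f).obj Vj
  let σj : pullback (v'' j ≫ v) f ≅ pullback f (v'' j ≫ v) := pullbackSymmetry (v'' j ≫ v) f
  let O : μ → B.left.Opens := fun a => σj.hom ⁻¹ᵁ (Wop a)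
  let pmap : pullback f (v'' j ≫ v) ⟶ pullback f v :=
    pullback.map f (v'' j ≫ v) f v (𝟙 X) (v'' j) (𝟙 Y) (by simp) (by simp)
  have key1 : bcLeft f gen = σj.hom ≫ pmap ≫ σ.inv := by
    have k1 : (σj.hom ≫ pmap ≫ σ.inv) ≫ pullback.fst v f =
        pullback.fst (v'' j ≫ v) f ≫ v'' j := sym_fst f v (v'' j)
    have k2 : (σj.hom ≫ pmap ≫ σ.inv) ≫ pullback.snd v f =
        pullback.snd (v'' j ≫ v) f := sym_snd f v (v'' j)
    refine pullback.hom_ext (f := v) (g := f) ?_ ?_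
    · exact (bcLeft_fst f gen).trans k1.symm
    · exact (bcLeft_snd f gen).trans k2.symm
  have hha' : ∀ a, ha a ≫ (r (ia a)).left = (Wop a).ι ≫ pmap ≫ σ.inv := by
    intro a
    have h6 : (ha a ≫ (r (ia a)).left) ≫ σ.hom = ((Wop a).ι ≫ pmap ≫ σ.inv) ≫ σ.hom := by
      simp only [Category.assoc, Iso.inv_hom_id, Category.comp_id]
      exact hha a
    exact (cancel_mono σ.hom).1 h6
  let ρ : ∀ a, (res B (O a)).left ⟶ ↑(Wop a) := fun a => σj.hom ∣_ (Wop a)
  let ιO : ∀ a, (res B (O a)).left ⟶ pullback (v'' j ≫ v) f := fun a => (O a).ι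
  have hρ : ∀ a, ρ a ≫ (Wop a).ι = ιO a ≫ σj.hom := fun a => morphismRestrict_ι _ _
  let ml : ∀ a, (res B (O a)).left ⟶ (W (ia a)).left := fun a => ρ a ≫ ha a
  let bg : pullback (v'' j ≫ v) f ⟶ pullback v f := bcLeft f gen
  have key1' : bg = σj.hom ≫ pmap ≫ σ.inv := key1
  have key2 : ∀ a, ml a ≫ (r (ia a)).left = ιO a ≫ bg := by
    intro a
    calc ml a ≫ (r (ia a)).left = ρ a ≫ (ha a ≫ (r (ia a)).left) :=
          Category.assoc _ _ _
      _ = ρ a ≫ ((Wop a).ι ≫ pmap ≫ σ.inv) := congrArg (fun q => ρ a ≫ q) (hha' a)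
      _ = (ρ a ≫ (Wop a).ι) ≫ pmap ≫ σ.inv := (Category.assoc _ _ _).symm
      _ = (ιO a ≫ σj.hom) ≫ pmap ≫ σ.inv := congrArg (fun q => q ≫ pmap ≫ σ.inv) (hρ a)
      _ = ιO a ≫ (σj.hom ≫ pmap ≫ σ.inv) := Category.assoc _ _ _
      _ = ιO a ≫ bg := congrArg (fun q => ιO a ≫ q) key1'.symm
  have hmw : ∀ a, ml a ≫ (W (ia a)).hom = (res B (O a)).hom := by
    intro a
    have hr1 : (r (ia a)).left ≫ pullback.snd v f = (W (ia a)).hom := Over.w (r (ia a)).hom
    have hbs : bg ≫ pullback.snd v f = pullback.snd (v'' j ≫ v) f := bcLeft_snd f gen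
    calc ml a ≫ (W (ia a)).hom = ml a ≫ ((r (ia a)).left ≫ pullback.snd v f) :=
          congrArg (fun q => ml a ≫ q) hr1.symm
      _ = (ml a ≫ (r (ia a)).left) ≫ pullback.snd v f := (Category.assoc _ _ _).symm
      _ = (ιO a ≫ bg) ≫ pullback.snd v f := congrArg (fun q => q ≫ pullback.snd v f) (key2 a)
      _ = ιO a ≫ (bg ≫ pullback.snd v f) := Category.assoc _ _ _
      _ = ιO a ≫ pullback.snd (v'' j ≫ v) f := congrArg (fun q => ιO a ≫ q) hbs
  let m : ∀ a, res B (O a) ⟶ W (ia a) := fun a =>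
    MorphismProperty.Over.homMk (ml a) (hmw a) trivial
  have hm : ∀ a, m a ≫ r (ia a) = resMap B (O a) ≫ (EtCoh.bc f).map gen := by
    intro a
    apply MorphismProperty.Over.Hom.ext
    exact key2 a
  have hdisjO : ∀ a b, a ≠ b → ∀ q : B.left, q ∈ O a → q ∈ O b → False := by
    intro a b hab q h1 h2
    exact (hdisj a b hab).le_bot ⟨h1, h2⟩
  have hcovO : ∀ q : B.left, ∃ a, q ∈ O a := by
    intro q
    have h7 : σj.hom.base q ∈ (⨆ a, Wop a) := by
      rw [hsup]
      trivial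
    obtain ⟨a, ha'⟩ := TopologicalSpace.Opens.mem_iSup.1 h7
    exact ⟨a, ha'⟩
  obtain ⟨s, hs⟩ := exists_glue_disjoint F B O hdisjO hcovO
    (fun a => F.obj.map (m a).op (sx (ia a)))
  refine ⟨s, ?_⟩
  show φ.hom.app (op B) s = G.obj.map ((EtCoh.bc f).map gen).op t₀
  apply eq_of_locally_eq_type G B
  intro b
  obtain ⟨a, hb⟩ := hcovO b
  refine ⟨res B (O a), resMap B (O a), ⟨b, hb⟩, rfl, ?_⟩
  have e1 : G.obj.map (resMap B (O a)).op (φ.hom.app (op B) s) =
      φ.hom.app _ (F.obj.map (resMap B (O a)).op s) :=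
    (NatTrans.naturality_apply φ.hom (resMap B (O a)).op s).symm
  have e2 : φ.hom.app _ (F.obj.map (m a).op (sx (ia a))) =
      G.obj.map (m a).op (φ.hom.app _ (sx (ia a))) :=
    NatTrans.naturality_apply φ.hom (m a).op (sx (ia a))
  rw [e1, hs a, e2, hsx (ia a)]
  have e3 : G.obj.map (m a).op (G.obj.map (r (ia a)).op t₀) =
      G.obj.map (m a ≫ r (ia a)).op t₀ := by
    rw [op_comp, Functor.map_comp_apply]
  rw [e3, hm a, op_comp, Functor.map_comp_apply]

end Groth.Agent.S6629
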