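import Groth.Statements.S0098
import Groth.Agent.H68.Unram

set_option autoImplicit false
open CategoryTheory CategoryTheory.Limits AlgebraicGeometry Opposite
universe u
open EtBase

namespace Groth.Agent.S0098


/-- A finite étale morphism whose fibre over a point s is a single point with the same residue field is
an isomorphism over an open neighbourhood of s. -/
theorem result {X S : Scheme.{u}} (f : X ⟶ S) [IsFinite f] [AlgebraicGeometry.Etale f] (s : S) (x : X)
    (hx : f.base ⁻¹' {s} = {x}) (hκ : Function.Surjective (f.residueFieldMap x)) :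
    ∃ U : S.Opens, s ∈ U ∧ IsIso (f ∣_ U) := by
  have hfx : f x = s := by
    have : x ∈ f.base ⁻¹' {s} := by rw [hx]; rfl
    exact this
  have hfib : ∀ y : X, f y = s → y = x := by
    intro y hy
    have : y ∈ f.base ⁻¹' {s} := hy
    rw [hx] at this
    exact this
  obtain ⟨U₀, hsU₀, hU₀⟩ := Groth.Agent.H68.Unram.exists_open f s x hfib hκ
  have hopen : IsOpen (Set.range f) := f.isOpenMap.isOpen_range
  let U : S.Opens := U₀ ⊓ ⟨Set.range f, hopen⟩
  have hsU : s ∈ U := ⟨hsU₀, ⟨x, hfx⟩⟩
  refine ⟨U, hsU, ?_⟩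
  have hm : Mono (f ∣_ U) :=
    Groth.Agent.H68.Unram.mono_restrict f U (fun z hz => hU₀ z hz.1)
  have hsurj : Surjective (f ∣_ U) := by
    refine ⟨fun u => ?_⟩
    obtain ⟨y, hy⟩ := u.2.2
    have hyU : y ∈ f ⁻¹ᵁ U := by
      show f y ∈ U
      rw [hy]; exact u.2
    refine ⟨⟨y, hyU⟩, ?_⟩
    apply Subtype.ext
    rw [morphismRestrict_base_coe]
    exact hy
  have hflat : Flat (f ∣_ U) := inferInstance
  have hqc : QuasiCompact (f ∣_ U) := inferInstance
  exact Flat.isIso_of_surjective_of_mono (f ∣_ U)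

end Groth.Agent.S0098
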