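import Groth.Statements.S9778
import Mathlib
import Groth.Agent.S1482

set_option autoImplicit false
universe u
open FlatMor

namespace Groth.Agent.S9778

open AlgebraicGeometry CategoryTheory Limits


open AlgebraicGeometry CategoryTheory Limits in
/-- Let f : X ⟶ S be separated and locally of finite type, s a point of S and x_1, …, x_n pairwise
distinct points of X over s at which f is quasi-finite (isolated points of the fibre). Then there
are an étale morphism g : U ⟶ S with a point u over s and finitely many pairwise disjoint open and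
closed subschemes V_{i,j} of X_U = X ×_S U, each finite over U and containing exactly one point
v_{i,j} over u, with v_{i,j} mapping to x_i and κ(v_{i,j}) purely inseparable over κ(u), such that
every point of X_U over u mapping to some x_i lies in one of the V_{i,j} (so the open and closed
complement W of their union has no point over u mapping to any x_i). -/
theorem result {X S : Scheme.{u}} (f : X ⟶ S) [LocallyOfFiniteType f] [IsSeparated f] (s : S)
    {ι : Type} [Finite ι] (x : ι → ↑X) (hinj : Function.Injective x) (hs : ∀ i, f (x i) = s) (hx : ∀ i, f.QuasiFiniteAt (x i)) :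
    ∃ (U : Scheme.{u}) (g : U ⟶ S) (u : U), Etale g ∧ g u = s ∧
      ∃ (J : ι → Type) (_ : ∀ i, Finite (J i)) (V : ∀ i, J i → (pullback f g).Opens) (v : ∀ i, J i → ↑(pullback f g)),
        (∀ i j, IsClopen ((V i j : Set ↑(pullback f g)))) ∧
        (∀ i j i' j', ((V i j : Set ↑(pullback f g)) ∩ (V i' j')).Nonempty → i = i' ∧ HEq j j') ∧
        (∀ i j, v i j ∈ V i j ∧ IsFinite ((V i j).ι ≫ pullback.snd f g) ∧ pullback.snd f g (v i j) = u ∧
          (∀ w : ↑(pullback f g), w ∈ V i j → pullback.snd f g w = u → w = v i j) ∧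
          (letI := ((pullback.snd f g).residueFieldMap (v i j)).hom.toAlgebra
           IsPurelyInseparable ↑(U.residueField (pullback.snd f g (v i j))) ↑((pullback f g).residueField (v i j))) ∧
          pullback.fst f g (v i j) = x i) ∧
        (∀ (w : ↑(pullback f g)) (i : ι), pullback.snd f g w = u → pullback.fst f g w = x i → ∃ j, w ∈ V i j) := by
  classical
  obtain ⟨U, g, u, hg, hgu, J, hJ, V, v, hV, hvinj, hvex⟩ :=
    Groth.Agent.S1482.result f s x hinj hs hx
  haveI := hJ
  have hclosed : ∀ i j, IsClosed (V i j : Set ↑(pullback f g)) := fun i j => by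
    haveI : IsFinite ((V i j).ι ≫ pullback.snd f g) := (hV i j).2.1
    haveI : IsProper (V i j).ι := IsProper.of_comp (V i j).ι (pullback.snd f g)
    have h := (V i j).ι.isClosedMap.isClosed_range
    rwa [Scheme.Opens.range_ι] at h
  let K := Σ i, J i
  haveI : Finite K := inferInstance
  let O : K → Set ↑(pullback f g) := fun k =>
    ⋃ k' : {k' : K // k' ≠ k}, (V k'.1.1 k'.1.2 : Set ↑(pullback f g))
  have hOcl : ∀ k, IsClosed (O k) := fun k => isClosed_iUnion_of_finite fun k' => hclosed _ _
  have hOop : ∀ k, IsOpen (O k) := fun k => isOpen_iUnion fun k' => (V k'.1.1 k'.1.2).2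
  let V' : ∀ i, J i → (pullback f g).Opens := fun i j =>
    V i j ⊓ ⟨(O ⟨i, j⟩)ᶜ, (hOcl ⟨i, j⟩).isOpen_compl⟩
  have hv_notin : ∀ i j, v i j ∉ O ⟨i, j⟩ := by
    intro i j h
    obtain ⟨⟨⟨i', j'⟩, hne⟩, hmem⟩ := Set.mem_iUnion.mp h
    have heq := (hV i' j').2.2.2.1 (v i j) hmem (hV i j).2.2.1
    obtain ⟨h1, h2⟩ := hvinj _ _ _ _ heq
    exact hne (Sigma.mk.inj_iff.mpr ⟨h1.symm, h2.symm⟩)
  have hV'closed : ∀ i j, IsClosed (V' i j : Set ↑(pullback f g)) := fun i j => by
    show IsClosed ((V i j : Set ↑(pullback f g)) ∩ (O ⟨i, j⟩)ᶜ)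
    exact (hclosed i j).inter (hOop _).isClosed_compl
  refine ⟨U, g, u, hg, hgu, J, hJ, V', v, ?_, ?_, ?_, ?_⟩
  · intro i j
    exact ⟨hV'closed i j, (V' i j).2⟩
  · rintro i j i' j' ⟨w, hw, hw'⟩
    by_contra hne
    have hk : (⟨i', j'⟩ : K) ≠ ⟨i, j⟩ := by
      intro h
      obtain ⟨h1, h2⟩ := Sigma.mk.inj_iff.mp h
      exact hne ⟨h1.symm, h2.symm⟩
    exact hw.2 (Set.mem_iUnion.mpr ⟨⟨⟨i', j'⟩, hk⟩, hw'.1⟩)
  · intro i j
    obtain ⟨a, b, c, d, e, e3⟩ := hV i j
    refine ⟨⟨a, hv_notin i j⟩, ?_, c, fun w hw hwu => d w hw.1 hwu, e.2, e3⟩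
    have hle : V' i j ≤ V i j := inf_le_left
    have hcl : IsClosedImmersion ((pullback f g).homOfLE hle) := by
      apply IsClosedImmersion.of_isPreimmersion
      have hr : Set.range ((pullback f g).homOfLE hle) =
          (V i j).ι ⁻¹' (V' i j : Set ↑(pullback f g)) := by
        ext a'
        constructor
        · rintro ⟨b', rfl⟩
          show (V i j).ι ((pullback f g).homOfLE hle b') ∈ V' i j
          rw [← Scheme.Hom.comp_apply, Scheme.homOfLE_ι]
          exact b'.2
        · intro ha'
          refine ⟨⟨a'.1, ha'⟩, ?_⟩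
          rw [Scheme.homOfLE_apply']; rfl
      rw [hr]
      exact (hV'closed i j).preimage (V i j).ι.continuous
    rw [← Scheme.homOfLE_ι_assoc _ hle]
    haveI := b
    infer_instance
  · intro w i hwu hwx
    obtain ⟨j, rfl⟩ := hvex w i hwu hwx
    exact ⟨j, (hV i j).1, hv_notin i j⟩

end Groth.Agent.S9778
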