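import Groth.Statements.S6627
import Mathlib
import Groth.Agent.S9778
import Groth.Agent.S0098

set_option autoImplicit false
open CategoryTheory CategoryTheory.Limits AlgebraicGeometry Opposite
universe u
open EtCore

namespace Groth.Agent.S6627

open AlgebraicGeometry CategoryTheory Limits

/-- Étale morphisms are locally quasi-finite. -/
theorem locallyQuasiFinite_of_etale {X Y : Scheme.{u}} (g : X ⟶ Y) [Etale g] :
    LocallyQuasiFinite g := by
  rw [HasRingHomProperty.iff_appLE (P := @LocallyQuasiFinite)]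
  intro U V e
  have h := HasRingHomProperty.appLE (P := @Etale) g inferInstance U V e
  letI := (g.appLE U V e).hom.toAlgebra
  have h' : Algebra.Etale Γ(Y, U.1) Γ(X, V.1) := h
  show Algebra.QuasiFinite Γ(Y, U.1) Γ(X, V.1)
  infer_instance

/-- The residue field extension of `m` at `t` is purely inseparable. -/
def PI {A C : Scheme.{u}} (m : A ⟶ C) (t : A) : Prop :=
  letI := (m.residueFieldMap t).hom.toAlgebra
  IsPurelyInseparable (C.residueField (m.base t)) (A.residueField t)

theorem pi_of_comp {A B C : Scheme.{u}} (a : A ⟶ B) (b : B ⟶ C) (t : A)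
    (h : PI (a ≫ b) t) : PI a t := by
  letI alg1 : Algebra (C.residueField ((a ≫ b).base t)) (A.residueField t) :=
    ((a ≫ b).residueFieldMap t).hom.toAlgebra
  letI alg2 : Algebra (B.residueField (a.base t)) (A.residueField t) :=
    (a.residueFieldMap t).hom.toAlgebra
  letI alg3 : Algebra (C.residueField ((a ≫ b).base t)) (B.residueField (a.base t)) :=
    (b.residueFieldMap (a.base t)).hom.toAlgebra
  haveI : IsScalarTower (C.residueField ((a ≫ b).base t)) (B.residueField (a.base t))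
      (A.residueField t) :=
    IsScalarTower.of_algebraMap_eq' (by
      show ((a ≫ b).residueFieldMap t).hom =
        (a.residueFieldMap t).hom.comp (b.residueFieldMap (a.base t)).hom
      rw [Scheme.residueFieldMap_comp]; rfl)
  haveI : IsPurelyInseparable (C.residueField ((a ≫ b).base t)) (A.residueField t) := h
  exact IsPurelyInseparable.tower_top (C.residueField ((a ≫ b).base t))
    (B.residueField (a.base t)) (A.residueField t)

theorem pi_precomp_openImmersion {A B C : Scheme.{u}} (a : A ⟶ B) [IsOpenImmersion a]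
    (b : B ⟶ C) (t : A) (h : PI b (a.base t)) : PI (a ≫ b) t := by
  letI alg1 : Algebra (C.residueField ((a ≫ b).base t)) (B.residueField (a.base t)) :=
    (b.residueFieldMap (a.base t)).hom.toAlgebra
  letI alg2 : Algebra (C.residueField ((a ≫ b).base t)) (A.residueField t) :=
    ((a ≫ b).residueFieldMap t).hom.toAlgebra
  haveI : IsPurelyInseparable (C.residueField ((a ≫ b).base t)) (B.residueField (a.base t)) := h
  let e : (B.residueField (a.base t)) ≃ₐ[C.residueField ((a ≫ b).base t)] (A.residueField t) :=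
    { (asIso (a.residueFieldMap t)).commRingCatIsoToRingEquiv with
      commutes' := fun r => by
        show (a.residueFieldMap t).hom ((b.residueFieldMap (a.base t)).hom r) =
          ((a ≫ b).residueFieldMap t).hom r
        rw [Scheme.residueFieldMap_comp]; rfl }
  exact e.isPurelyInseparable

theorem core {X Y : Scheme.{u}} (f : X ⟶ Y) [IsSeparated f] [LocallyQuasiFinite f]
    [LocallyOfFiniteType f] {U : Scheme.{u}} (g : U ⟶ X) [Etale g] [IsSeparated g] (u : U) :
    ∃ (V : Scheme.{u}) (v : V ⟶ Y) (_ : Etale v) (W : (pullback f v).Opens)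
      (_ : IsClosed (W : Set ↥(pullback f v))) (h : (W : Scheme.{u}) ⟶ U),
      h ≫ g = W.ι ≫ pullback.fst f v ∧ u ∈ Set.range h.base := by
  haveI : LocallyQuasiFinite g := locallyQuasiFinite_of_etale g
  obtain ⟨V, v, v₀, hv, hv₀, J, hJ, Vs, vs, hclopen, hdisj, hprops, hall⟩ :=
    Groth.Agent.S9778.result (g ≫ f) ((g ≫ f).base u) (ι := Unit) (fun _ => u)
      (fun _ _ _ => Subsingleton.elim _ _) (fun _ => rfl) (fun _ => (g ≫ f).quasiFiniteAt u)
  haveI := hv
  obtain ⟨w₀, hw₀1, hw₀2⟩ :=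
    Scheme.Pullback.exists_preimage_pullback (f := g ≫ f) (g := v) u v₀ hv₀.symm
  obtain ⟨j₀, hj₀⟩ := hall w₀ () hw₀2 hw₀1
  obtain ⟨hv₁mem, hfin, hv₁snd, huniq, hpi, hv₁fst⟩ := hprops () j₀
  clear hj₀ hclopen hdisj hprops hall
  generalize vs () j₀ = v₁ at hv₁mem hv₁snd huniq hpi hv₁fst
  generalize Vs () j₀ = V₁ at hv₁mem hfin huniq
  have ht : v₁ ∈ Set.range V₁.ι := by rw [Scheme.Opens.range_ι]; exact hv₁mem
  obtain ⟨t₁, rfl⟩ := ht
  let G : pullback (g ≫ f) v ⟶ pullback f v :=
    pullback.lift (pullback.fst (g ≫ f) v ≫ g) (pullback.snd (g ≫ f) v)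
      (by rw [Category.assoc, pullback.condition])
  have hG₁ : G ≫ pullback.fst f v = pullback.fst (g ≫ f) v ≫ g := pullback.lift_fst _ _ _
  have hG₂ : G ≫ pullback.snd f v = pullback.snd (g ≫ f) v := pullback.lift_snd _ _ _
  have hpbG : IsPullback G (pullback.fst (g ≫ f) v) (pullback.fst f v) g := by
    refine IsPullback.of_right ?_ hG₁ (IsPullback.of_hasPullback f v).flip
    rw [hG₂]
    exact (IsPullback.of_hasPullback (g ≫ f) v).flip
  haveI : Etale G := MorphismProperty.of_isPullback (P := @Etale) hpbG.flip inferInstance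
  let φ : (V₁ : Scheme.{u}) ⟶ pullback f v := V₁.ι ≫ G
  haveI : Etale φ := by dsimp only [φ]; infer_instance
  have hφs : φ ≫ pullback.snd f v = V₁.ι ≫ pullback.snd (g ≫ f) v := by
    dsimp only [φ]; rw [Category.assoc, hG₂]
  haveI : IsFinite φ := by
    have h1 : IsFinite (φ ≫ pullback.snd f v) := by rw [hφs]; exact hfin
    exact MorphismProperty.of_postcomp (W := @IsFinite) (W' := @IsSeparated) φ
      (pullback.snd f v) inferInstance h1
  have hfib : φ.base ⁻¹' {φ.base t₁} = {t₁} := by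
    ext t
    simp only [Set.mem_preimage, Set.mem_singleton_iff]
    constructor
    · intro ht
      have h1 : (pullback.snd (g ≫ f) v).base (V₁.ι.base t) = v₀ := by
        have h2 : (φ ≫ pullback.snd f v).base t = (φ ≫ pullback.snd f v).base t₁ := by
          show (pullback.snd f v).base (φ.base t) = (pullback.snd f v).base (φ.base t₁)
          rw [ht]
        rw [hφs] at h2
        exact h2.trans hv₁snd
      have h3 : V₁.ι.base t ∈ V₁ := by
        have := Set.mem_range_self (f := V₁.ι) t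
        rwa [Scheme.Opens.range_ι] at this
      have h4 := huniq (V₁.ι.base t) h3 h1
      exact V₁.ι.isOpenEmbedding.injective h4
    · rintro rfl; rfl
  have hpi1 : PI (V₁.ι ≫ pullback.snd (g ≫ f) v) t₁ := pi_precomp_openImmersion V₁.ι _ t₁ hpi
  have hpi2 : PI (φ ≫ pullback.snd f v) t₁ := by rw [hφs]; exact hpi1
  have hpi3 : PI φ t₁ := pi_of_comp φ (pullback.snd f v) t₁ hpi2
  have hκ : Function.Surjective (φ.residueFieldMap t₁) := by
    letI := (φ.residueFieldMap t₁).hom.toAlgebra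
    haveI : IsPurelyInseparable ((pullback f v).residueField (φ.base t₁))
      ((V₁ : Scheme.{u}).residueField t₁) := hpi3
    haveI : Algebra.IsSeparable ((pullback f v).residueField (φ.base t₁))
      ((V₁ : Scheme.{u}).residueField t₁) := inferInstance
    exact IsPurelyInseparable.surjective_algebraMap_of_isSeparable _ _
  obtain ⟨O, hx₁O, hOiso⟩ := Groth.Agent.S0098.result φ (φ.base t₁) t₁ hfib hκ
  haveI : Flat φ := (Etale.iff_flat_and_formallyUnramified.mp inferInstance).1
  haveI : LocallyOfFinitePresentation φ :=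
    (Etale.iff_flat_and_formallyUnramified.mp inferInstance).2.2
  have hrank1 : φ.finrank (φ.base t₁) = 1 := by
    obtain ⟨p, hp⟩ : ∃ p : ↥(O : Scheme.{u}), O.ι.base p = φ.base t₁ := by
      have : φ.base t₁ ∈ Set.range O.ι := by rw [Scheme.Opens.range_ι]; exact hx₁O
      exact this
    have h1 := Scheme.Hom.finrank_of_isPullback _ _ _ _ (isPullback_morphismRestrict φ O).flip p
    haveI := hOiso
    rw [Scheme.Hom.finrank_eq_one_of_isIso] at h1
    rw [← hp]
    exact h1.symm
  have hlc : IsLocallyConstant φ.finrank := Scheme.Hom.isLocallyConstant_finrank φ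
  let W : (pullback f v).Opens := ⟨{p | φ.finrank p = 1}, (hlc.isClopen_fiber 1).isOpen⟩
  have hWclosed : IsClosed (W : Set ↥(pullback f v)) := (hlc.isClopen_fiber 1).isClosed
  haveI : IsIso (φ ∣_ W) := by
    rw [Scheme.Hom.isIso_iff_finrank_eq]
    ext p
    rw [Scheme.Hom.finrank_of_isPullback _ _ _ _ (isPullback_morphismRestrict φ W).flip p]
    have : W.ι.base p ∈ W := by
      have := Set.mem_range_self (f := W.ι) p
      rwa [Scheme.Opens.range_ι] at this
    exact this
  let h : (W : Scheme.{u}) ⟶ U :=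
    inv (φ ∣_ W) ≫ (φ ⁻¹ᵁ W).ι ≫ V₁.ι ≫ pullback.fst (g ≫ f) v
  refine ⟨V, v, hv, W, hWclosed, h, ?_, ?_⟩
  · have e1 : (φ ⁻¹ᵁ W).ι ≫ V₁.ι ≫ pullback.fst (g ≫ f) v ≫ g =
        (φ ∣_ W) ≫ W.ι ≫ pullback.fst f v := by
      rw [← hG₁, ← Category.assoc (φ ∣_ W), morphismRestrict_ι]
      simp only [φ, Category.assoc]
    dsimp only [h]
    simp only [Category.assoc]
    rw [e1, IsIso.inv_hom_id_assoc]
  · have hx₁W : φ.base t₁ ∈ W := hrank1
    have ht₁W : t₁ ∈ φ ⁻¹ᵁ W := hx₁W
    obtain ⟨s₁, hs₁⟩ : ∃ s₁ : ↥((φ ⁻¹ᵁ W : (V₁ : Scheme.{u}).Opens) : Scheme.{u}),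
        (φ ⁻¹ᵁ W).ι.base s₁ = t₁ := by
      have : t₁ ∈ Set.range (φ ⁻¹ᵁ W).ι := by rw [Scheme.Opens.range_ι]; exact ht₁W
      exact this
    refine ⟨(φ ∣_ W).base s₁, ?_⟩
    have h1 : (φ ∣_ W ≫ h) = (φ ⁻¹ᵁ W).ι ≫ V₁.ι ≫ pullback.fst (g ≫ f) v := by
      dsimp only [h]; rw [IsIso.hom_inv_id_assoc]
    have h2 : (φ ∣_ W ≫ h).base s₁ = u := by
      rw [h1]
      show (pullback.fst (g ≫ f) v).base (V₁.ι.base ((φ ⁻¹ᵁ W).ι.base s₁)) = u
      rw [hs₁]; exact hv₁fst
    exact h2


/-- A separated morphism of schemes that is locally quasi-finite (locally of finite type with discrete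
fibres) satisfies condition (A): for every etale U ⟶ X and every point u of U there are an etale V ⟶
Y, an open and closed subscheme W of X ×_Y V and an X-morphism W ⟶ U whose image contains u.
(Locally of finite type is part of the meaning of locally quasi-finite here and is carried as a
separate hypothesis.) -/
theorem result {X Y : Scheme.{u}} (f : X ⟶ Y) [IsSeparated f]
    [LocallyQuasiFinite f] [LocallyOfFiniteType f] : BigSite.PropA f := by
  intro U g _ u
  obtain ⟨_, ⟨(X₀ : X.Opens), hX₀, rfl⟩, hxX₀, -⟩ :=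
    X.isBasis_affineOpens.exists_subset_of_mem_open (Set.mem_univ (g.base u)) isOpen_univ
  obtain ⟨_, ⟨(U₀ : U.Opens), hU₀, rfl⟩, huU₀, hU₀X₀ : U₀ ≤ g ⁻¹ᵁ X₀⟩ :=
    U.isBasis_affineOpens.exists_subset_of_mem_open hxX₀ (g ⁻¹ᵁ X₀).isOpen
  haveI : IsSeparated (U₀.ι ≫ g) := by
    have e : U₀.ι ≫ g = g.resLE X₀ U₀ hU₀X₀ ≫ X₀.ι := by simp
    rw [e]
    haveI : IsAffine (U₀ : Scheme.{u}) := hU₀
    haveI : IsAffine (X₀ : Scheme.{u}) := hX₀
    infer_instance
  obtain ⟨u₀, hu₀⟩ : ∃ u₀ : ↥(U₀ : Scheme.{u}), U₀.ι.base u₀ = u := by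
    have : u ∈ Set.range U₀.ι := by rw [Scheme.Opens.range_ι]; exact huU₀
    exact this
  obtain ⟨V, v, hv, W, hW, h, hh, hu⟩ := core f (U₀.ι ≫ g) u₀
  refine ⟨V, v, hv, W, hW, h ≫ U₀.ι, by rw [Category.assoc, hh], ?_⟩
  obtain ⟨w, hw⟩ := hu
  exact ⟨w, by show U₀.ι.base (h.base w) = u; rw [hw, hu₀]⟩

end Groth.Agent.S6627
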