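import Groth.Statements.S6628
import Mathlib
import Groth.Agent.S6627

set_option autoImplicit false
open CategoryTheory CategoryTheory.Limits AlgebraicGeometry Opposite
universe u
open EtCore

namespace Groth.Agent.S6628

open AlgebraicGeometry CategoryTheory CategoryTheory.Limits TopologicalSpace TensorProduct Polynomial

/-- the conclusion of condition (A) for a given étale `g` and point `u` -/
def Concl {X Y U : Scheme.{u}} (f : X ⟶ Y) (g : U ⟶ X) (u : U) : Prop :=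
  ∃ (V : Scheme.{u}) (v : V ⟶ Y) (_ : Etale v) (W : (pullback f v).Opens)
    (_ : IsClosed (W : Set ↥(pullback f v))) (h : (W : Scheme.{u}) ⟶ U),
    h ≫ g = W.ι ≫ pullback.fst f v ∧ u ∈ Set.range h.base

theorem exists_preimage_of_isPullback {P X Y S : Scheme.{u}} {p₁ : P ⟶ X} {p₂ : P ⟶ Y}
    {f : X ⟶ S} {g : Y ⟶ S} (H : IsPullback p₁ p₂ f g) (x : X) (y : Y)
    (hxy : f.base x = g.base y) : ∃ z : P, p₁.base z = x ∧ p₂.base z = y := by
  obtain ⟨z', h1, h2⟩ := Scheme.Pullback.exists_preimage_pullback x y hxy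
  refine ⟨H.isoPullback.inv.base z', ?_, ?_⟩
  · rw [← h1]
    exact congr($(H.isoPullback_inv_fst).base z')
  · rw [← h2]
    exact congr($(H.isoPullback_inv_snd).base z')

theorem concl_of_isPullback {X Y U V P : Scheme.{u}} {f : X ⟶ Y} {g : U ⟶ X} {u : U}
    (v : V ⟶ Y) [Etale v] {p₁ : P ⟶ X} {p₂ : P ⟶ V} (H : IsPullback p₁ p₂ f v)
    (W : P.Opens) (hW : IsClosed (W : Set P)) (h : (W : Scheme.{u}) ⟶ U)
    (hh : h ≫ g = W.ι ≫ p₁) (hu : u ∈ Set.range h.base) : Concl f g u := by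
  have he₁ : H.isoPullback.inv ≫ p₁ = pullback.fst f v := H.isoPullback_inv_fst
  refine ⟨V, v, inferInstance, H.isoPullback.inv ⁻¹ᵁ W, hW.preimage H.isoPullback.inv.continuous,
    (H.isoPullback.inv ∣_ W) ≫ h, ?_, ?_⟩
  · rw [Category.assoc, hh, ← Category.assoc, morphismRestrict_ι, Category.assoc, he₁]
  · obtain ⟨w, rfl⟩ := hu
    obtain ⟨w', rfl⟩ := (H.isoPullback.inv ∣_ W).surjective w
    exact ⟨w', rfl⟩

theorem concl_of_cartesian {X Y U X₁ Y₁ U₁ : Scheme.{u}} {f : X ⟶ Y} {g : U ⟶ X} {u : U}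
    {f₁ : X₁ ⟶ Y₁} {g₁ : U₁ ⟶ X₁} {u₁ : U₁} {a : X₁ ⟶ X} {b : Y₁ ⟶ Y} [Etale b] (c : U₁ ⟶ U)
    (H : IsPullback f₁ a b f) (hc : c ≫ g = g₁ ≫ a) (hu : c.base u₁ = u)
    (h₁ : Concl f₁ g₁ u₁) : Concl f g u := by
  obtain ⟨V, v₁, hv₁, W, hW, h, hh, hu₁⟩ := h₁
  haveI := hv₁
  have H1 : IsPullback (pullback.snd f₁ v₁) (pullback.fst f₁ v₁) v₁ f₁ :=
    (IsPullback.of_hasPullback f₁ v₁).flip
  have H2 : IsPullback (pullback.snd f₁ v₁) (pullback.fst f₁ v₁ ≫ a) (v₁ ≫ b) f :=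
    H1.paste_vert H
  refine concl_of_isPullback (v₁ ≫ b) H2.flip W hW (h ≫ c) ?_ ?_
  · rw [Category.assoc, hc, ← Category.assoc, hh, Category.assoc]
  · obtain ⟨w, hw⟩ := hu₁
    exact ⟨w, by show c.base (h.base w) = u; rw [hw, hu]⟩

section Alg

theorem pair_ext {R : Type*} [CommRing R] {P Q : StandardEtalePair R} (hf : P.f = Q.f)
    (hg : P.g = Q.g) : P = Q := by
  cases P; cases Q
  simp only at hf hg
  subst hf; subst hg
  rfl

noncomputable def ringEquivOfEq {R : Type*} [CommRing R] {P Q : StandardEtalePair R} (h : P = Q) :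
    P.Ring ≃ₐ[R] Q.Ring := by
  subst h
  exact AlgEquiv.refl

theorem exists_descent_pair {A B : Type u} [CommRing A] [CommRing B] [Algebra A B]
    (P : StandardEtalePair B) :
    ∃ (B₀ : Subalgebra A B), B₀.FG ∧
      ∃ P₀ : StandardEtalePair B₀, P₀.map (algebraMap B₀ B) = P := by
  classical
  obtain ⟨p₁, p₂, n, hcond⟩ := P.cond
  let s : Finset B := P.f.coeffs ∪ P.g.coeffs ∪ p₁.coeffs ∪ p₂.coeffs
  let B₀ : Subalgebra A B := Algebra.adjoin A (s : Set B)
  have hlift : ∀ q : B[X], q.coeffs ⊆ s → ∃ q₀ : B₀[X], q₀.map (algebraMap B₀ B) = q := by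
    intro q hq
    rw [← Polynomial.mem_lifts, Polynomial.lifts_iff_coeff_lifts]
    intro m
    by_cases hm : q.coeff m = 0
    · exact ⟨0, by rw [map_zero, hm]⟩
    · have : q.coeff m ∈ s := hq (Polynomial.coeff_mem_coeffs hm)
      exact ⟨⟨q.coeff m, Algebra.subset_adjoin (Finset.mem_coe.mpr this)⟩, rfl⟩
  have hinj : Function.Injective (algebraMap B₀ B) := Subtype.val_injective
  obtain ⟨f₀, hf₀⟩ := hlift P.f (by
    intro x hx; simp only [s, Finset.mem_union]; exact Or.inl (Or.inl (Or.inl hx)))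
  obtain ⟨g₀, hg₀⟩ := hlift P.g (by
    intro x hx; simp only [s, Finset.mem_union]; exact Or.inl (Or.inl (Or.inr hx)))
  obtain ⟨q₁, hq₁⟩ := hlift p₁ (by
    intro x hx; simp only [s, Finset.mem_union]; exact Or.inl (Or.inr hx))
  obtain ⟨q₂, hq₂⟩ := hlift p₂ (by
    intro x hx; simp only [s, Finset.mem_union]; exact Or.inr hx)
  have hmonic : f₀.Monic := Polynomial.monic_of_injective hinj (by rw [hf₀]; exact P.monic_f)
  refine ⟨B₀, Subalgebra.fg_adjoin_finset s, ⟨f₀, hmonic, g₀, q₁, q₂, n, ?_⟩, ?_⟩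
  · apply Polynomial.map_injective _ hinj
    simp only [Polynomial.map_add, Polynomial.map_mul, Polynomial.map_pow,
      ← Polynomial.derivative_map, hf₀, hg₀, hq₁, hq₂]
    exact hcond
  · exact pair_ext hf₀ hg₀

theorem exists_descent {A B C : Type u} [CommRing A] [CommRing B] [CommRing C] [Algebra A B]
    [Algebra B C] [Algebra.IsStandardEtale B C] :
    ∃ (B₀ : Subalgebra A B), B₀.FG ∧
      ∃ P₀ : StandardEtalePair B₀, Nonempty (C ≃ₐ[B] B ⊗[B₀] P₀.Ring) := by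
  obtain ⟨PP⟩ := Algebra.IsStandardEtale.nonempty_standardEtalePresentation (R := B) (S := C)
  obtain ⟨B₀, hfg, P₀, hP⟩ := exists_descent_pair (A := A) PP.P
  refine ⟨B₀, hfg, P₀, ⟨?_⟩⟩
  let PP₀ : StandardEtalePresentation B₀ P₀.Ring :=
    ⟨P₀, P₀.X, P₀.hasMap_X, by
      simpa [StandardEtalePair.lift_X_left] using Function.bijective_id⟩
  let e₁ : B ⊗[B₀] P₀.Ring ≃ₐ[B] (P₀.map (algebraMap B₀ B)).Ring :=
    (PP₀.baseChange (T := B)).equivRing
  let e₂ : (P₀.map (algebraMap B₀ B)).Ring ≃ₐ[B] PP.P.Ring := ringEquivOfEq hP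
  exact PP.equivRing.trans (e₂.symm.trans e₁.symm)

end Alg

theorem core_tensor {A B : Type u} [CommRing A] [CommRing B] [Algebra A B]
    [Algebra.IsIntegral A B] (B₀ : Subalgebra A B) (hfg : B₀.FG) (C₀ : Type u) [CommRing C₀]
    [Algebra B₀ C₀] [Algebra.Etale B₀ C₀] {C' : Type u} [CommRing C'] [Algebra B C']
    (e : C' ≃ₐ[B] B ⊗[B₀] C₀) (u : ↥(Spec (CommRingCat.of C'))) :
    Concl (Spec.map (CommRingCat.ofHom (algebraMap A B)))
      (Spec.map (CommRingCat.ofHom (algebraMap B C'))) u := by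
  haveI : Module.Finite A B₀ := by
    haveI : Algebra.FiniteType A B₀ := (Subalgebra.fg_iff_finiteType B₀).mp hfg
    haveI : Algebra.IsIntegral A B₀ :=
      ⟨fun x => (isIntegral_algHom_iff B₀.val Subtype.val_injective).mp
        (Algebra.IsIntegral.isIntegral (x : B))⟩
    exact Algebra.IsIntegral.finite
  have hf : Spec.map (CommRingCat.ofHom (algebraMap B₀ B)) ≫
      Spec.map (CommRingCat.ofHom (algebraMap A B₀)) =
      Spec.map (CommRingCat.ofHom (algebraMap A B)) := by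
    rw [← Spec.map_comp, ← CommRingCat.ofHom_comp]
    rfl
  generalize hfdef : Spec.map (CommRingCat.ofHom (algebraMap A B)) = f at hf ⊢
  haveI : IsFinite (Spec.map (CommRingCat.ofHom (algebraMap A B₀))) :=
    (IsFinite.SpecMap_iff _).mpr (RingHom.finite_algebraMap.mpr inferInstance)
  generalize hf₀def : Spec.map (CommRingCat.ofHom (algebraMap A B₀)) = f₀ at *
  generalize hθdef : Spec.map (CommRingCat.ofHom (algebraMap B₀ B)) = θ at *
  haveI : Etale (Spec.map (CommRingCat.ofHom (algebraMap B₀ C₀))) :=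
    (HasRingHomProperty.Spec_iff (P := @Etale)).mpr (RingHom.etale_algebraMap.mpr inferInstance)
  -- the pushout square for `C'`
  let ζ : C₀ →+* C' := (e.symm : B ⊗[B₀] C₀ →+* C').comp
    (Algebra.TensorProduct.includeRight : C₀ →ₐ[B₀] B ⊗[B₀] C₀).toRingHom
  have hpo : IsPushout (CommRingCat.ofHom (algebraMap B₀ B)) (CommRingCat.ofHom (algebraMap B₀ C₀))
      (CommRingCat.ofHom (algebraMap B C')) (CommRingCat.ofHom ζ) := by
    refine (CommRingCat.isPushout_tensorProduct B₀ B C₀).of_iso (Iso.refl _) (Iso.refl _)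
      (Iso.refl _) (e.symm.toRingEquiv.toCommRingCatIso) ?_ ?_ ?_ ?_
    · simp
    · simp
    · ext b
      show e.symm ((b : B) ⊗ₜ[B₀] (1 : C₀)) = algebraMap B C' b
      rw [← e.symm.commutes b]
      rfl
    · ext c
      rfl
  have hT := isPullback_SpecMap_of_isPushout _ _ _ _ hpo
  rw [hθdef] at hT
  generalize hg₀def : Spec.map (CommRingCat.ofHom (algebraMap B₀ C₀)) = g₀ at *
  generalize hπBdef : Spec.map (CommRingCat.ofHom (algebraMap B C')) = πB at *
  generalize hπCdef : Spec.map (CommRingCat.ofHom ζ) = πC at *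
  obtain ⟨V, v, hv, W₀, hW₀, h₀, hh₀, w₀, hw₀⟩ :=
    Groth.Agent.S6627.result f₀ _ g₀ (πC.base u)
  haveI := hv
  let χ : pullback f v ⟶ pullback f₀ v :=
    pullback.lift (pullback.fst f v ≫ θ) (pullback.snd f v)
      (by rw [Category.assoc, hf, pullback.condition])
  have hχ₁ : χ ≫ pullback.fst f₀ v = pullback.fst f v ≫ θ := pullback.lift_fst _ _ _
  have hχ₂ : χ ≫ pullback.snd f₀ v = pullback.snd f v := pullback.lift_snd _ _ _
  have hχ : IsPullback χ (pullback.fst f v) (pullback.fst f₀ v) θ := by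
    refine IsPullback.of_right ?_ hχ₁ (IsPullback.of_hasPullback f₀ v).flip
    rw [hχ₂, hf]
    exact (IsPullback.of_hasPullback f v).flip
  have hbig : IsPullback (χ ∣_ W₀) ((χ ⁻¹ᵁ W₀).ι ≫ pullback.fst f v)
      (W₀.ι ≫ pullback.fst f₀ v) θ :=
    (isPullback_morphismRestrict χ W₀).paste_vert hχ
  let h : ((χ ⁻¹ᵁ W₀ : (pullback f v).Opens) : Scheme.{u}) ⟶ Spec (CommRingCat.of C') :=
    hT.lift ((χ ⁻¹ᵁ W₀).ι ≫ pullback.fst f v) ((χ ∣_ W₀) ≫ h₀)
      (by rw [Category.assoc (χ ∣_ W₀), hh₀]; exact hbig.w.symm)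
  have hh₁ : h ≫ πB = (χ ⁻¹ᵁ W₀).ι ≫ pullback.fst f v := hT.lift_fst _ _ _
  have hh₂ : h ≫ πC = (χ ∣_ W₀) ≫ h₀ := hT.lift_snd _ _ _
  have hleft : IsPullback h (χ ∣_ W₀) πC h₀ := by
    refine IsPullback.of_right ?_ hh₂ hT
    rw [hh₁, hh₀]
    exact hbig.flip
  obtain ⟨w, hw1, -⟩ := exists_preimage_of_isPullback hleft u w₀ hw₀.symm
  exact concl_of_isPullback v (IsPullback.of_hasPullback f v) (χ ⁻¹ᵁ W₀)
    (hW₀.preimage χ.continuous) h hh₁ ⟨w, hw1⟩

theorem core_affine {A B C : Type u} [CommRing A] [CommRing B] [CommRing C] [Algebra A B]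
    [Algebra B C] [Algebra.IsIntegral A B] [Algebra.Etale B C]
    (u : ↥(Spec (CommRingCat.of C))) :
    Concl (Spec.map (CommRingCat.ofHom (algebraMap A B)))
      (Spec.map (CommRingCat.ofHom (algebraMap B C))) u := by
  let u₀ : PrimeSpectrum C := u
  let Q : Ideal C := u₀.asIdeal
  haveI : Q.IsPrime := u₀.isPrime
  haveI : Algebra.IsEtaleAt B Q := by
    haveI : Algebra.FormallyEtale C (Localization.AtPrime Q) :=
      Algebra.FormallyEtale.of_isLocalization Q.primeCompl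
    exact Algebra.FormallyEtale.comp B C (Localization.AtPrime Q)
  obtain ⟨c, hcQ, hstd⟩ := Algebra.IsEtaleAt.exists_isStandardEtale (R := B) Q
  haveI := hstd
  obtain ⟨B₀, hfg, P₀, ⟨e⟩⟩ := exists_descent (A := A) (B := B) (C := Localization.Away c)
  have hu : u₀ ∈ Set.range (PrimeSpectrum.comap (algebraMap C (Localization.Away c))) := by
    rw [PrimeSpectrum.localization_away_comap_range (Localization.Away c) c]
    exact hcQ
  obtain ⟨u', hu'⟩ := hu
  have h1 := core_tensor (A := A) B₀ hfg P₀.Ring e u'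
  refine concl_of_cartesian (Spec.map (CommRingCat.ofHom (algebraMap C (Localization.Away c))))
    (IsPullback.id_vert _) ?_ hu' h1
  rw [Category.comp_id, ← Spec.map_comp, ← CommRingCat.ofHom_comp,
    IsScalarTower.algebraMap_eq B C (Localization.Away c)]

theorem core_affine' {A B C : CommRingCat.{u}} (φ : A ⟶ B) (ψ : B ⟶ C) (hφ : φ.hom.IsIntegral)
    (hψ : ψ.hom.Etale) (u : ↥(Spec C)) : Concl (Spec.map φ) (Spec.map ψ) u := by
  letI := φ.hom.toAlgebra
  letI := ψ.hom.toAlgebra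
  haveI : Algebra.IsIntegral A B := ⟨hφ⟩
  haveI : Algebra.Etale B C := hψ
  exact core_affine (A := A) (B := B) (C := C) u


/-- An integral morphism of schemes satisfies condition (A): for every etale U ⟶ X and every point u of
U there are an etale V ⟶ Y, an open and closed subscheme W of X ×_Y V and an X-morphism W ⟶ U whose
image contains u. -/
theorem result {X Y : Scheme.{u}} (f : X ⟶ Y) [IsIntegralHom f] : BigSite.PropA f := by
  intro U g _ u
  obtain ⟨_, ⟨(Y₀ : Y.Opens), hY₀, rfl⟩, hyY₀, -⟩ :=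
    Y.isBasis_affineOpens.exists_subset_of_mem_open (Set.mem_univ (f.base (g.base u))) isOpen_univ
  have hX₀ : IsAffineOpen (f ⁻¹ᵁ Y₀) := hY₀.preimage f
  obtain ⟨_, ⟨(U₀ : U.Opens), hU₀, rfl⟩, huU₀, hU₀X₀⟩ :=
    U.isBasis_affineOpens.exists_subset_of_mem_open (show g.base u ∈ f ⁻¹ᵁ Y₀ from hyY₀)
      (g ⁻¹ᵁ (f ⁻¹ᵁ Y₀)).isOpen
  have hle : U₀ ≤ g ⁻¹ᵁ (f ⁻¹ᵁ Y₀) := hU₀X₀
  have hψ : (g.appLE (f ⁻¹ᵁ Y₀) U₀ hle).hom.Etale :=
    HasRingHomProperty.appLE @Etale g inferInstance ⟨_, hX₀⟩ ⟨U₀, hU₀⟩ hle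
  obtain ⟨u₁, hu₁⟩ : ∃ u₁ : ↥(Spec Γ(U, U₀)), hU₀.fromSpec.base u₁ = u := by
    have : u ∈ Set.range hU₀.fromSpec.base := by rw [hU₀.range_fromSpec]; exact huU₀
    exact this
  have key := core_affine' (f.app Y₀) (g.appLE (f ⁻¹ᵁ Y₀) U₀ hle) (f.isIntegral_app Y₀ hY₀) hψ u₁
  have hsq : hX₀.fromSpec ≫ f = Spec.map (f.app Y₀) ≫ hY₀.fromSpec := by
    have h := IsAffineOpen.SpecMap_appLE_fromSpec f hY₀ hX₀ le_rfl
    rw [Scheme.Hom.appLE_eq_app] at h
    exact h.symm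
  have H : IsPullback (Spec.map (f.app Y₀)) hX₀.fromSpec hY₀.fromSpec f :=
    IsOpenImmersion.isPullback _ _ _ _ hsq
      (by rw [hY₀.opensRange_fromSpec, hX₀.opensRange_fromSpec])
  exact concl_of_cartesian hU₀.fromSpec H
    (IsAffineOpen.SpecMap_appLE_fromSpec g hX₀ hU₀ hle).symm hu₁ key

end Groth.Agent.S6628
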