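import Groth.Statements.S6630
import Mathlib
import Groth.Agent.H68.PropB2

set_option autoImplicit false
open CategoryTheory CategoryTheory.Limits AlgebraicGeometry Opposite
universe u
open EtCore

namespace Groth.Agent.S6630

open Groth.Agent.H68.PropB1 Groth.Agent.H68.PropB2


/-- An integral morphism of schemes satisfies condition (B): for every etale V ⟶ Y and every etale
covering of X ×_Y V there is an etale covering of V by schemes V_j such that each X ×_Y V_j is a
disjoint union of open subschemes each mapping into X ×_Y V through a member of the given covering. -/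
theorem result {X Y : Scheme.{u}} (f : X ⟶ Y) [IsIntegralHom f] : BigSite.PropB f := by
  intro V v _ ι U g hg hcov
  haveI : IsIntegralHom (pullback.snd f v) :=
    MorphismProperty.pullback_snd (P := @IsIntegralHom) f v inferInstance
  have key := fun y : V => local_integral (pullback.snd f v) g hg hcov y
  choose V₀ v₀ hv₀ hy₀ hdec using key
  refine ⟨↥V, V₀, v₀, hv₀, fun y => ⟨y, hy₀ y⟩, fun y => ?_⟩
  haveI := hv₀ y
  have he : (pullbackLeftPullbackSndIso f v (v₀ y)).inv ≫
      pullback.fst (pullback.snd f v) (v₀ y) =
      pullback.map f (v₀ y ≫ v) f v (𝟙 X) (v₀ y) (𝟙 Y) (by simp) (by simp) := by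
    apply pullback.hom_ext
    · rw [Category.assoc, pullbackLeftPullbackSndIso_inv_fst]
      exact ((pullback.lift_fst _ _ _).trans (Category.comp_id _)).symm
    · rw [Category.assoc, pullbackLeftPullbackSndIso_inv_fst_snd]
      exact (pullback.lift_snd _ _ _).symm
  have h1 := (hdec y).comp (pullbackLeftPullbackSndIso f v (v₀ y)).inv
  rw [he] at h1
  exact h1

end Groth.Agent.S6630
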