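import Groth.Statements.S12599
import Groth.Agent.H27.Expn

set_option autoImplicit false
open FunFld

namespace Groth.Agent.S12599

/-- Over an algebraically closed constant field, for a place `P` with local parameter `t`, and a
linearly independent tuple `φ = (φ₀, …, φₙ)` of functions integral at `P`, the matrix of values at
`P` of the Hasse derivatives `D_t^(j)(φᵢ)`, `j = 0, 1, …`, has rank `n + 1`: its rows are linearly
independent over the residue field. -/
theorem result
    (k K : Type*) [Field k] [IsAlgClosed k] [Field K] [Algebra k K]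
    (hK : FunFld.IsFunctionField k K) {n : ℕ} (φ : Fin (n + 1) → K) (hφ : LinearIndependent k φ)
    (P : FunFld.Place k K) (hint : ∀ i, P.1 (φ i) ≤ 1) (t : K) (ht : P.1 t = WithZero.exp (-1))
    (Ht : K →ₐ[k] PowerSeries K) (hHt : LocRes.IsHasseFamily t Ht) :
    LinearIndependent (IsLocalRing.ResidueField P.O)
      (fun i : Fin (n + 1) => fun j : ℕ => FunFld.evalP P (LocRes.hasseD Ht j (φ i))) := by
  classical
  rw [Fintype.linearIndependent_iff]
  intro g hg i0
  have hbij := Groth.Agent.H27.Expn.resHom_bijective hK P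
  choose μ hμ using fun i => hbij.2 (g i)
  have hrow : ∀ i j, FunFld.evalP P (LocRes.hasseD Ht j (φ i)) =
      Groth.Agent.H27.Expn.resHom P (Groth.Agent.H27.Expn.dig P t j (φ i)) := by
    intro i j
    rw [Groth.Agent.H27.Expn.evalP_eq hK P
      (Groth.Agent.H27.Expn.hasseD_int hK P ht hHt (hint i) j),
      Groth.Agent.H27.Expn.cst_hasseD hK P ht hHt (hint i) j]
  have hint' : ∀ i ∈ (Finset.univ : Finset (Fin (n + 1))), P.1 (μ i • φ i) ≤ 1 :=
    fun i _ => Groth.Agent.H27.Expn.val_smul_le (hint i) (μ i)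
  have h1 : ∀ j, Groth.Agent.H27.Expn.dig P t j (∑ i, μ i • φ i) = 0 := by
    intro j
    have h2 := congrFun hg j
    simp only [Finset.sum_apply, Pi.smul_apply, smul_eq_mul, Pi.zero_apply] at h2
    apply (Groth.Agent.H27.Expn.resHom P).injective
    rw [map_zero, Groth.Agent.H27.Expn.dig_sum hK ht _ _ hint', map_sum, ← h2]
    refine Finset.sum_congr rfl (fun i _ => ?_)
    rw [Groth.Agent.H27.Expn.dig_smul hK ht (hint i), map_mul, hμ, hrow]
  have h3 : ∑ i, μ i • φ i = 0 :=
    Groth.Agent.H27.Expn.eq_zero_of_dig_eq_zero hK ht (Valuation.map_sum_le _ hint') h1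
  have h4 := Fintype.linearIndependent_iff.1 hφ μ h3 i0
  rw [← hμ i0, h4, map_zero]

end Groth.Agent.S12599
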