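import Groth.Statements.S12596
import Groth.Agent.H27.HasseBasic

set_option autoImplicit false
open FunFld

namespace Groth.Agent.S12596

/-- Over an algebraically closed constant field, replacing a projective map `φ` by `Aφ` for an
invertible matrix `A` over `k` does not change the `τ`-order sequence, and multiplies every
generalized Wronskian determinant `det [τ(φ) | D^(I₁) φ | ⋯ | D^(Iₙ) φ]` (Hasse derivatives taken
with `H`) by `det A`. -/
theorem result
    (k K : Type*) [Field k] [IsAlgClosed k] [Field K] [Algebra k K]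
    (hK : FunFld.IsFunctionField k K) {n : ℕ} (φ : Fin (n + 1) → K) (hφ : LinearIndependent k φ)
    (τ : K →ₐ[k] K) (s : K) (H : K →ₐ[k] PowerSeries K) (hH : LocRes.IsHasseFamily s H)
    (A : Matrix (Fin (n + 1)) (Fin (n + 1)) k) (hA : A.det ≠ 0)
    (φ' : Fin (n + 1) → K) (hφ' : ∀ i, φ' i = ∑ j, A i j • φ j) :
    (∀ J : Fin n → ℕ, FunFld.IsOrders K (FunFld.hcol τ H φ') J ↔ FunFld.IsOrders K (FunFld.hcol τ H φ) J) ∧
    ∀ I : Fin n → ℕ, (FunFld.wrMat τ H φ' I).det = algebraMap k K A.det * (FunFld.wrMat τ H φ I).det := by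
  classical
  let AK : Matrix (Fin (n + 1)) (Fin (n + 1)) K := A.map (algebraMap k K)
  have hdet : AK.det = algebraMap k K A.det := by
    rw [RingHom.map_det]
    rfl
  have hdet0 : AK.det ≠ 0 := by
    rw [hdet]
    exact (map_ne_zero _).2 hA
  have hinj : Function.Injective (Matrix.mulVecLin AK) := by
    rw [Matrix.coe_mulVecLin]
    exact Matrix.mulVec_injective_iff_isUnit.2
      ((Matrix.isUnit_iff_isUnit_det _).2 (isUnit_iff_ne_zero.2 hdet0))
  have hcol' : ∀ m, FunFld.hcol τ H φ' m = Matrix.mulVecLin AK (FunFld.hcol τ H φ m) := by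
    intro m
    ext i
    rw [Matrix.mulVecLin_apply]
    cases m with
    | zero =>
      show τ (φ' i) = _
      rw [hφ' i, map_sum]
      simp only [Matrix.mulVec, dotProduct, AK, Matrix.map_apply]
      refine Finset.sum_congr rfl (fun j _ => ?_)
      rw [map_smul, Algebra.smul_def]
      rfl
    | succ j =>
      show LocRes.hasseD H j (φ' i) = _
      rw [hφ' i, Groth.Agent.H27.Hasse.hasseD_sum]
      simp only [Matrix.mulVec, dotProduct, AK, Matrix.map_apply]
      refine Finset.sum_congr rfl (fun j' _ => ?_)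
      rw [Groth.Agent.H27.Hasse.hasseD_smul]
      rfl
  have hfun : FunFld.hcol τ H φ' = fun j => Matrix.mulVecLin AK (FunFld.hcol τ H φ j) :=
    funext hcol'
  refine ⟨fun J => ?_, fun I => ?_⟩
  · unfold FunFld.IsOrders
    rw [hfun]
    simp only [Groth.Agent.H27.Jump.isJump_map_iff _ hinj]
  · rw [← hdet, ← Matrix.det_mul, Groth.Agent.H27.Jump.wrMat_eq, Groth.Agent.H27.Jump.wrMat_eq]
    congr 1
    ext i x
    simp only [Matrix.of_apply, Matrix.mul_apply]
    rw [hcol' (Groth.Agent.H27.Jump.eIdx I x), Matrix.mulVecLin_apply]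
    rfl

end Groth.Agent.S12596
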