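import Groth.Statements.S12605
import Groth.Agent.S12596
import Groth.Agent.H27.LocDet

set_option autoImplicit false
open FunFld

namespace Groth.Agent.S12605

open WithZero Groth.Agent.H55 Groth.Agent.H27.Expn Groth.Agent.H27.LocOrd Groth.Agent.H27.LocDet


/-- Over an algebraically closed constant field, let `τ` be a `k`-endomorphism of `K`, `P` a fixed point
of `τ`, `φ = (φ₀, …, φₙ)` an effective projective map normalized at `P`, `t` a local parameter at
`P`, `J = (j₁ < ⋯ < jₙ)` the orders of `φ` at `P` and `I = (i₁ < ⋯ < iₙ)` strictly increasing. Then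
the order at `P` of `det [τ(φ) | D_t^(i₁) φ | ⋯ | D_t^(iₙ) φ]` is at least `Σ (jₗ - iₗ)`; if all `iₗ
> 0` or `P` is a strong fixed point of `τ`, it equals `Σ (jₗ - iₗ)` exactly when the matrix of
binomial coefficients `(j_r choose i_s)`, read in `k`, has nonzero determinant. -/
theorem result
    (k K : Type*) [Field k] [IsAlgClosed k] [Field K] [Algebra k K]
    (hK : FunFld.IsFunctionField k K) (τ : K →ₐ[k] K) (P : FunFld.Place k K) (hP : FunFld.IsFixedPt τ P)
    {n : ℕ} (φ : Fin (n + 1) → K) (hφ : LinearIndependent k φ)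
    (heff : (1 : K) ∈ Submodule.span k (Set.range φ)) (hnorm : ∀ i, P.1 (φ i) ≤ 1)
    (t : K) (ht : P.1 t = WithZero.exp (-1))
    (Ht : K →ₐ[k] PowerSeries K) (hHt : LocRes.IsHasseFamily t Ht)
    (J : Fin n → ℕ) (hJ : FunFld.IsOrders (IsLocalRing.ResidueField P.O) (FunFld.hcolAt P Ht φ) J)
    (I : Fin n → ℕ) (hI : StrictMono I) :
    P.1 (FunFld.wrMat τ Ht φ I).det ≤ WithZero.exp (-(∑ l, ((J l : ℤ) - I l))) ∧
    (((∀ l, 0 < I l) ∨ FunFld.IsStrongFixedPt τ P) →
      (P.1 (FunFld.wrMat τ Ht φ I).det = WithZero.exp (-(∑ l, ((J l : ℤ) - I l))) ↔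
        (FunFld.binomMat k J I).det ≠ 0)) := by
  classical
  obtain ⟨φ', hφ'li, hspan, hφ'0, hφ'⟩ :=
    Groth.Agent.H27.LocOrd.exists_adapted hK P ht hHt φ hφ heff hnorm J hJ
  obtain ⟨A, hA, hAφ⟩ := Groth.Agent.H27.LocDet.exists_matrix_of_span_eq φ φ' hφ'li hspan
  have hdetA := (Groth.Agent.S12596.result k K hK φ hφ τ t Ht hHt A hA φ' hAφ).2 I
  have hvalA : P.1 (wrMat τ Ht φ' I).det = P.1 (wrMat τ Ht φ I).det := by
    rw [hdetA, map_mul, Groth.Agent.H55.pl_val_const P hA, one_mul]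
  rw [← hvalA]
  let jr : Fin (n + 1) → ℕ := Fin.cases 0 J
  let ic : Fin (n + 1) → ℤ := Fin.cases 0 (fun c => (I c : ℤ))
  have hjr : ∀ l, P.1 (φ' l) ≤ exp (-(jr l : ℤ)) := by
    intro l
    refine Fin.cases ?_ (fun l' => ?_) l
    · simp [jr, hφ'0]
    · simp only [jr, Fin.cases_succ]
      exact (hφ' l').2.1.le
  have hdig : ∀ l, dig P t (jr l) (φ' l) = 1 := by
    intro l
    refine Fin.cases ?_ (fun l' => ?_) l
    · simp only [jr, Fin.cases_zero, hφ'0, dig_zero]
      have := cst_algebraMap P (1 : k)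
      rwa [map_one] at this
    · simp only [jr, Fin.cases_succ]
      exact (hφ' l').2.2
  have hM : ∀ l c, P.1 (wrMat τ Ht φ' I l c / t ^ ((jr l : ℤ) - ic c)) ≤ 1 := by
    intro l c
    rw [val_div_zpow_le_one_iff P ht]
    refine Fin.cases ?_ (fun c' => ?_) c
    · simp only [wrMat, Matrix.of_apply, Fin.cases_zero, ic, sub_zero]
      exact fix_pow hK P ht hP (hjr l)
    · simp only [wrMat, Matrix.of_apply, Fin.cases_succ, ic]
      exact hasse_val hK P ht hHt (hjr l) (I c')
  obtain ⟨h1, h2⟩ := val_det_of_leading hK P ht (wrMat τ Ht φ' I) (fun l => (jr l : ℤ)) ic hM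
  have hsum : (∑ l, (jr l : ℤ) - ∑ c, ic c) = ∑ l, ((J l : ℤ) - I l) := by
    rw [Fin.sum_univ_succ, Fin.sum_univ_succ (f := ic), Finset.sum_sub_distrib]
    simp [jr, ic]
  rw [hsum] at h1 h2
  refine ⟨h1, fun hcase => ?_⟩
  rw [h2]
  set a : Matrix (Fin (n + 1)) (Fin (n + 1)) k :=
    Matrix.of fun l c => cst P (wrMat τ Ht φ' I l c / t ^ ((jr l : ℤ) - ic c)) with ha
  have ha_succ : ∀ l c', a l (Fin.succ c') = ((jr l).choose (I c') : k) := by
    intro l c'
    simp only [ha, Matrix.of_apply, wrMat, Fin.cases_succ, ic]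
    rw [cst_hasse_div hK P ht hHt (hjr l) (I c'), hdig l, mul_one]
  have ha00 : a 0 0 = 1 := by
    simp only [ha, Matrix.of_apply, wrMat, Fin.cases_zero, ic, jr, hφ'0, map_one]
    have := cst_algebraMap P (1 : k)
    simpa using this
  have hsub : a.submatrix Fin.succ Fin.succ = binomMat k J I := by
    ext l c
    simp only [Matrix.submatrix_apply, ha_succ, binomMat, Matrix.of_apply, jr, Fin.cases_succ]
  suffices a.det = (binomMat k J I).det by rw [this]
  rcases hcase with hIpos | hstrong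
  · rw [Matrix.det_succ_row_zero, Fin.sum_univ_succ]
    have h0 : ∀ c' : Fin n, a 0 (Fin.succ c') = 0 := by
      intro c'
      rw [ha_succ]
      simp only [jr, Fin.cases_zero]
      rw [Nat.choose_eq_zero_of_lt (hIpos c'), Nat.cast_zero]
    simp only [h0, mul_zero, zero_mul, Finset.sum_const_zero, add_zero, ha00, Fin.val_zero,
      pow_zero, one_mul, Fin.succAbove_zero]
    rw [hsub]
  · rw [Matrix.det_succ_column_zero, Fin.sum_univ_succ]
    have h0 : ∀ l' : Fin n, a (Fin.succ l') 0 = 0 := by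
      intro l'
      simp only [ha, Matrix.of_apply, wrMat, Fin.cases_zero, ic, jr, Fin.cases_succ, sub_zero]
      apply cst_eq_zero
      rw [map_div₀, val_t_zpow P ht, div_lt_one₀ exp_pos]
      calc P.1 (τ (φ' l'.succ)) ≤ exp (-(2 * (J l' : ℤ))) :=
            strong_pow hK P ht hstrong (hφ' l').2.1.le
        _ < exp (-(J l' : ℤ)) := by
            rw [exp_lt_exp]
            have := (hφ' l').1
            omega
    simp only [h0, mul_zero, zero_mul, Finset.sum_const_zero, add_zero, ha00, Fin.val_zero,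
      pow_zero, one_mul, Fin.succAbove_zero]
    rw [hsub]

end Groth.Agent.S12605
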