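import Groth.Statements.S12600
import Groth.Agent.H27.HasseUniq

set_option autoImplicit false
open FunFld

namespace Groth.Agent.S12600

/-- Over an algebraically closed constant field, for a linearly independent tuple `φ = (φ₀, …, φₙ)`, a
`k`-endomorphism `τ` and a total Hasse derivative `H`, there are exactly `n` `τ`-orders `j₁ < ⋯ <
jₙ` and the Wronskian `det [τ(φ) | D^(j₁) φ | ⋯ | D^(jₙ) φ]` is nonzero. -/
theorem result
    (k K : Type*) [Field k] [IsAlgClosed k] [Field K] [Algebra k K]
    (hK : FunFld.IsFunctionField k K) {n : ℕ} (φ : Fin (n + 1) → K) (hφ : LinearIndependent k φ)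
    (τ : K →ₐ[k] K) (s : K) (H : K →ₐ[k] PowerSeries K) (hH : LocRes.IsHasseFamily s H) :
    ∃ J : Fin n → ℕ, FunFld.IsOrders K (FunFld.hcol τ H φ) J ∧ (FunFld.wrMat τ H φ J).det ≠ 0 := by
  classical
  have hφ0 : φ 0 ≠ 0 := hφ.ne_zero 0
  -- the columns span everything
  have hspan : Submodule.span K (Set.range (FunFld.hcol τ H φ)) = ⊤ := by
    by_contra hne
    obtain ⟨f, hf0, hf⟩ := Submodule.exists_le_ker_of_lt_top _ (lt_top_iff_ne_top.2 hne)
    let a : Fin (n + 1) → K := fun i => f (fun j => if i = j then 1 else 0)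
    have hfa : ∀ v : Fin (n + 1) → K, f v = ∑ i, a i * v i := by
      intro v
      rw [LinearMap.pi_apply_eq_sum_univ f v]
      exact Finset.sum_congr rfl (fun i _ => by rw [smul_eq_mul, mul_comm])
    have ha : ∀ j, ∑ i, a i * LocRes.hasseD H j (φ i) = 0 := by
      intro j
      have h1 : FunFld.hcol τ H φ (j + 1) ∈ LinearMap.ker f :=
        hf (Submodule.subset_span ⟨j + 1, rfl⟩)
      rw [LinearMap.mem_ker, hfa] at h1
      exact h1
    have ha0 := Groth.Agent.H27.Hasse.rank_lemma hK hH φ hφ a ha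
    apply hf0
    apply LinearMap.ext
    intro v
    rw [hfa v, ha0]
    simp
  obtain ⟨e, he, hej, heli⟩ := Groth.Agent.H27.Jump.exists_jump_enum (K := K) (N := n + 1)
    (by simp) (FunFld.hcol τ H φ) hspan
  have hj0 : FunFld.IsJump K (FunFld.hcol τ H φ) 0 := by
    rw [Groth.Agent.H27.Jump.isJump_zero_iff]
    intro h
    have : τ (φ 0) = 0 := congrFun h 0
    exact hφ0 ((map_eq_zero τ).1 this)
  have he0 : e 0 = 0 := by
    obtain ⟨x, hx⟩ := (hej 0).1 hj0
    have := he.monotone (Fin.zero_le x)
    omega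
  have hepos : ∀ l : Fin n, 1 ≤ e l.succ := fun l => by
    have := he (Fin.succ_pos l)
    omega
  let J : Fin n → ℕ := fun l => e l.succ - 1
  have hJe : ∀ x, Groth.Agent.H27.Jump.eIdx J x = e x := by
    intro x
    induction x using Fin.cases with
    | zero => simp [he0]
    | succ l =>
      have := hepos l
      simp only [Groth.Agent.H27.Jump.eIdx_succ, J]
      omega
  refine ⟨J, ⟨?_, ?_⟩, ?_⟩
  · intro a b hab
    have h1 := he (Fin.succ_lt_succ_iff.2 hab)
    have h2 := hepos a
    have h3 := hepos b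
    simp only [J]
    omega
  · intro j
    rw [hej (j + 1)]
    constructor
    · rintro ⟨l, rfl⟩
      refine ⟨l.succ, ?_⟩
      have := hepos l
      simp only [J]
      omega
    · rintro ⟨x, hx⟩
      obtain ⟨l, rfl⟩ : ∃ l, x = Fin.succ l := by
        rcases Fin.eq_zero_or_eq_succ x with rfl | h
        · omega
        · exact h
      refine ⟨l, ?_⟩
      simp only [J]
      omega
  · rw [Groth.Agent.H27.Jump.wrMat_eq]
    have h1 : (Matrix.of fun i x => FunFld.hcol τ H φ (Groth.Agent.H27.Jump.eIdx J x) i) =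
        (Matrix.of fun i x => FunFld.hcol τ H φ (e x) i) := by
      simp only [hJe]
    rw [h1]
    have hcols : LinearIndependent K
        (Matrix.of fun i x => FunFld.hcol τ H φ (e x) i : Matrix (Fin (n + 1)) (Fin (n + 1)) K).col :=
      heli
    exact ((Matrix.isUnit_iff_isUnit_det _).1
      (Matrix.linearIndependent_cols_iff_isUnit.1 hcols)).ne_zero

end Groth.Agent.S12600
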