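import Groth.Statements.S11000
import Groth.Agent.H55.GeomField
open Groth.Agent.H55

set_option autoImplicit false
universe u v
open FunFld

namespace Groth.Agent.S11000

/-- Over a perfect ground field every function field of one variable is geometric (`k' ⊗_k K` is a field
for all finite `k'/k`). -/
theorem result (k : Type u) (K : Type v) [Field k] [Field K] [Algebra k K] [PerfectField k]
    (hK : FunFld.IsFunctionField k K) : FunFld.IsGeometric k K := by
  intro k' _ _ hfin
  haveI := hfin
  haveI : Algebra.IsSeparable k k' := inferInstance
  obtain ⟨α, hα⟩ := Field.exists_primitive_element k k'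
  have h := isField_tensor_of_simple (k := k) (K := K) (k' := k')
    (fun y hy => hK.2 y hy.isAlgebraic) α (Algebra.IsIntegral.isIntegral α) hα
  exact (Algebra.TensorProduct.comm k k' K).toMulEquiv.isField h

end Groth.Agent.S11000
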