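import Groth.Statements.S11005
import Groth.Agent.H55.FFBasic
import Mathlib
-- import your own Groth.Agent.* helpers here

set_option autoImplicit false
universe u v
open FunFld

namespace Groth.Agent.S11005

open IntermediateField TensorProduct in
theorem finite_aux (k : Type u) (K : Type v) [Field k] [Field K] [Algebra k K]
    (K₀ : IntermediateField k K) (x : K) (hx : x ∈ K₀) [FiniteDimensional k⟮x⟯ K] :
    FiniteDimensional (k⟮(⟨x, hx⟩ : K₀)⟯) K₀ := by
  set x₀ : K₀ := ⟨x, hx⟩
  have hle : k⟮x⟯ ≤ K₀ := by
    rw [adjoin_le_iff]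
    rintro _ rfl
    exact hx
  have h1 : relrank (k⟮x₀⟯) (⊤ : IntermediateField k K₀) = Module.rank (k⟮x₀⟯) K₀ :=
    relrank_top_right _
  have h2 : relrank ((k⟮x₀⟯).map K₀.val) ((⊤ : IntermediateField k K₀).map K₀.val)
      = relrank (k⟮x₀⟯) (⊤ : IntermediateField k K₀) := relrank_map_map _ _ _
  have h3 : (k⟮x₀⟯).map K₀.val = k⟮x⟯ := by
    rw [adjoin_map]
    simp [x₀]
  have h4 : (⊤ : IntermediateField k K₀).map K₀.val = K₀ := by
    rw [← AlgHom.fieldRange_eq_map, fieldRange_val]
  rw [h3, h4, h1, relrank_eq_rank_of_le hle] at h2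
  have h5 : Module.rank (k⟮x⟯) (extendScalars hle) < Cardinal.aleph0 :=
    Module.rank_lt_aleph0 _ _
  rw [h2] at h5
  exact Module.rank_lt_aleph0_iff.mp h5

open TensorProduct in
theorem geom_aux (k : Type u) (K : Type v) [Field k] [Field K] [Algebra k K]
    (hg : FunFld.IsGeometric k K) (K₀ : IntermediateField k K) : FunFld.IsGeometric k K₀ := by
  intro k' _ _ hfin
  have hF : IsField (k' ⊗[k] K) := hg k' hfin
  -- the comparison map
  let φ : (K₀ ⊗[k] k') →ₐ[k] (k' ⊗[k] K) :=
    (Algebra.TensorProduct.map (AlgHom.id k k') K₀.val).comp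
      (Algebra.TensorProduct.comm k K₀ k').toAlgHom
  have hφ : Function.Injective φ := by
    have h1 : Function.Injective (Algebra.TensorProduct.map (AlgHom.id k k') K₀.val) := by
      have := Module.Flat.lTensor_preserves_injective_linearMap (M := k') (K₀.val.toLinearMap)
        (Subtype.val_injective)
      intro a b hab
      apply this
      have e : ∀ t : k' ⊗[k] K₀, (LinearMap.lTensor k' K₀.val.toLinearMap) t =
          Algebra.TensorProduct.map (AlgHom.id k k') K₀.val t := by
        intro t
        induction t using TensorProduct.induction_on with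
        | zero => simp
        | tmul a b => simp
        | add a b ha hb => simp only [map_add, ha, hb]
      rw [e, e, hab]
    exact h1.comp (Algebra.TensorProduct.comm k K₀ k').injective
  letI : Field (k' ⊗[k] K) := hF.toField
  have : IsDomain (K₀ ⊗[k] k') := Function.Injective.isDomain φ.toRingHom hφ
  have : Module.Finite K₀ (K₀ ⊗[k] k') := Module.Finite.base_change k K₀ k'
  have : Algebra.IsIntegral K₀ (K₀ ⊗[k] k') := Algebra.IsIntegral.of_finite K₀ _
  have hF₀ : IsField (K₀ ⊗[k] k') :=
    isField_of_isIntegral_of_isField' (R := K₀) (S := K₀ ⊗[k] k') (Field.toIsField K₀)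
  exact MulEquiv.isField hF₀ (Algebra.TensorProduct.comm k k' K₀).toMulEquiv

/-- An intermediate field `K₀` of a geometric function field of one variable `K/k` that is
transcendental over `k` is again a geometric function field of one variable over `k`. -/
theorem result (k : Type u) (K : Type v) [Field k] [Field K] [Algebra k K]
    (hK : FunFld.IsFunctionField k K) (hg : FunFld.IsGeometric k K) (K₀ : IntermediateField k K)
    (h₀ : ∃ x ∈ K₀, Transcendental k x) : FunFld.IsFunctionField k K₀ ∧ FunFld.IsGeometric k K₀ := by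
  refine ⟨⟨?_, ?_⟩, geom_aux k K hg K₀⟩
  · obtain ⟨x, hx, hxt⟩ := h₀
    have := Groth.Agent.H55.ff_finite hK hxt
    refine ⟨⟨x, hx⟩, ?_, finite_aux k K K₀ x hx⟩
    exact (transcendental_algebraMap_iff (A := K) (S := K₀)
      (algebraMap K₀ K).injective).mp hxt
  · intro y hy
    have hy' : IsAlgebraic k (y : K) :=
      (isAlgebraic_algebraMap_iff (A := K) (S := K₀) (algebraMap K₀ K).injective).mpr hy
    obtain ⟨c, hc⟩ := hK.2 _ hy'
    exact ⟨c, Subtype.ext hc⟩

end Groth.Agent.S11005
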