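import Groth.Statements.S11013
import Groth.Agent.H55.FFLoc2
open Groth.Agent.H55

set_option autoImplicit false
open FunFld

namespace Groth.Agent.S11013

/-- In a finite Galois extension `K'/K` of a geometric function field of one variable, the Galois group
acts transitively on the places of `K'` above a given place of `K`. -/
theorem result (k K K' : Type*) [Field k] [Field K] [Field K'] [Algebra k K] [Algebra K K'] [Algebra k K']
    [IsScalarTower k K K'] [FiniteDimensional K K'] (hK : FunFld.IsFunctionField k K) (hg : FunFld.IsGeometric k K) [IsGalois K K']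
    (Q₁ Q₂ : FunFld.Place k K')
    (h : (Q₁.1.comap (algebraMap K K')).IsEquiv (Q₂.1.comap (algebraMap K K'))) :
    ∃ σ : K' ≃ₐ[K] K', Q₁.1.comap (σ : K' →+* K') = Q₂.1 := by
  classical
  by_contra hcon
  push_neg at hcon
  have hk : ∀ (σ : K' ≃ₐ[K] K') (c : k), σ (algebraMap k K' c) = algebraMap k K' c := by
    intro σ c
    rw [IsScalarTower.algebraMap_apply k K K', σ.commutes]
  let R : FunFld.Place k K' → (K' ≃ₐ[K] K') → FunFld.Place k K' := fun Q σ =>
    ⟨Q.1.comap (σ : K' →+* K'), ⟨fun c => by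
        show Q.1 (σ (algebraMap k K' c)) ≤ 1
        rw [hk]
        exact Q.2.1 c,
      fun γ => by
        obtain ⟨y, hy⟩ := Q.2.2 γ
        refine ⟨σ.symm y, ?_⟩
        show Q.1 (σ (σ.symm y)) = γ
        rw [σ.apply_symm_apply]
        exact hy⟩⟩
  have hR : ∀ (Q : FunFld.Place k K') (σ : K' ≃ₐ[K] K') (x : K'), (R Q σ).1 x = Q.1 (σ x) :=
    fun _ _ _ => rfl
  obtain ⟨S₁, hS₁⟩ : ∃ S₁ : Finset (FunFld.Place k K'), S₁ = Finset.univ.image (R Q₁) := ⟨_, rfl⟩
  obtain ⟨S₂, hS₂⟩ : ∃ S₂ : Finset (FunFld.Place k K'), S₂ = Finset.univ.image (R Q₂) := ⟨_, rfl⟩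
  have hmem₁ : ∀ σ, R Q₁ σ ∈ S₁ := fun σ => by
    rw [hS₁]
    exact Finset.mem_image_of_mem _ (Finset.mem_univ σ)
  have hmem₂ : ∀ σ, R Q₂ σ ∈ S₂ := fun σ => by
    rw [hS₂]
    exact Finset.mem_image_of_mem _ (Finset.mem_univ σ)
  have hdisj : ∀ σ, R Q₂ σ ∉ S₁ := by
    intro σ hmem
    rw [hS₁] at hmem
    obtain ⟨σ', -, hσ'⟩ := Finset.mem_image.mp hmem
    apply hcon (σ.symm.trans σ')
    ext x
    have h1 : (R Q₁ σ').1 (σ.symm x) = (R Q₂ σ).1 (σ.symm x) := by rw [hσ']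
    rw [hR, hR, σ.apply_symm_apply] at h1
    exact h1
  obtain ⟨y, hy⟩ := weak_approx (S₁ ∪ S₂) (fun T => if T ∈ S₁ then (1 : K') else 0)
    (fun _ => -1)
  have hy1 : ∀ σ : K' ≃ₐ[K] K', Q₁.1 (σ y) = 1 := by
    intro σ
    have h1 := hy (R Q₁ σ) (Finset.mem_union_left _ (hmem₁ σ))
    rw [if_pos (hmem₁ σ)] at h1
    have h2 : (R Q₁ σ).1 (y - algebraMap k K' 1) < 1 := by
      rw [map_one, h1]
      exact (zm0_lt_one_iff _).mpr le_rfl
    have h3 := val_eq_one_of_sub_const (R Q₁ σ) h2 one_ne_zero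
    rw [hR] at h3
    exact h3
  have hy2 : ∀ σ : K' ≃ₐ[K] K', Q₂.1 (σ y) = WithZero.exp (-1 : ℤ) := by
    intro σ
    have h1 := hy (R Q₂ σ) (Finset.mem_union_right _ (hmem₂ σ))
    rw [if_neg (hdisj σ), sub_zero, hR] at h1
    exact h1
  have hnorm := Algebra.norm_eq_prod_automorphisms K y
  have hN1 : Q₁.1 (algebraMap K K' (Algebra.norm K y)) = 1 := by
    rw [hnorm, map_prod]
    exact Finset.prod_eq_one (fun σ _ => hy1 σ)
  have hN2 : Q₂.1 (algebraMap K K' (Algebra.norm K y)) < 1 := by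
    rw [hnorm, map_prod, Finset.prod_congr rfl (fun σ _ => hy2 σ), Finset.prod_const,
      exp_neg_one_pow, zm0_lt_one_iff, WithZero.exp_le_exp]
    have hpos : 0 < (Finset.univ : Finset (K' ≃ₐ[K] K')).card :=
      Finset.card_pos.mpr ⟨1, Finset.mem_univ _⟩
    omega
  have h3 := (h 1 (Algebra.norm K y)).mp (by
    rw [Valuation.comap_apply, Valuation.comap_apply, map_one, map_one, hN1])
  rw [Valuation.comap_apply, Valuation.comap_apply, map_one, map_one] at h3
  exact absurd (lt_of_le_of_lt h3 hN2) (lt_irrefl _)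

end Groth.Agent.S11013
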