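import Groth.Statements.S1833
import Groth.Agent.H17.Chi

set_option autoImplicit false
universe u v
open Pointwise
open CycAlg

namespace Groth.Agent.S1833

open Groth.Agent.H17.Chi Groth.Agent.H17.HS

/-- Let R be Noetherian local, M a finite R-module whose support has dimension at most 1, and x an
element with M/xM supported in dimension ≤ 0. Then length(M/xM) = length(ker(x : M → M)) + Σ_q
ord_{R/q}(x) · length_{R_q}(M_q), the sum running over the primes q of the support other than the
maximal ideal (stated in ℕ∞; all terms are finite under the hypotheses). -/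
theorem result (R : Type u) [CommRing R] [IsNoetherianRing R] [IsLocalRing R] (M : Type u) [AddCommGroup M] [Module R M] [Module.Finite R M] (x : R) (h1 : Module.supportDim R M ≤ 1) (h0 : Module.supportDim R (M ⧸ x • (⊤ : Submodule R M)) ≤ 0) : Module.length R (M ⧸ x • (⊤ : Submodule R M)) = Module.length R (LinearMap.ker (LinearMap.lsmul R M x)) + ∑ᶠ (p : PrimeSpectrum R) (_ : p ∈ Module.support R M ∧ p.asIdeal ≠ IsLocalRing.maximalIdeal R), Ring.ord (R ⧸ p.asIdeal) (Ideal.Quotient.mk p.asIdeal x) * Module.length (Localization.AtPrime p.asIdeal) (LocalizedModule p.asIdeal.primeCompl M) := by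
  by_cases hxu : IsUnit x
  · rw [length_quot_eq_zero_of_isUnit hxu, length_ker_eq_zero_of_isUnit hxu, zero_add]
    refine (finsum_mem_eq_zero_of_forall_eq_zero (fun p _ => ?_)).symm
    rw [ord_quotient_eq, length_quot_sup_span_eq_zero_of_isUnit hxu, zero_mul]
  · have hxm : x ∈ IsLocalRing.maximalIdeal R := (IsLocalRing.mem_maximalIdeal x).mpr hxu
    have H : HypH x M := by
      intro p hp hxp
      have hp' : p ∈ Module.support R (QuotSMulTop x M) := by
        rw [Module.support_quotSMulTop]
        refine ⟨hp, fun y hy => ?_⟩
        rw [Set.mem_singleton_iff.mp hy]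
        exact hxp
      exact eq_maximalIdeal_of_supportDim_le_zero h0 hp'
    have hmain := main hxm M H
    unfold wsum at hmain
    rw [hmain]
    congr 1
    refine Eq.trans (finsum_mem_inter_support_eq' _
      {p : PrimeSpectrum R | p.asIdeal ≠ IsLocalRing.maximalIdeal R}
      {p : PrimeSpectrum R | p ∈ Module.support R M ∧
        p.asIdeal ≠ IsLocalRing.maximalIdeal R}
      (fun p hp => ⟨fun h => ⟨mem_support_of_locLen_ne_zero (left_ne_zero_of_mul hp), h⟩,
        fun h => h.2⟩)) ?_
    refine finsum_mem_congr rfl (fun p _ => ?_)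
    rw [ord_quotient_eq, mul_comm]
    rfl


end Groth.Agent.S1833
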