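import Groth.Statements.S5450
import Groth.Agent.H27.RootD
import Mathlib.LinearAlgebra.RootSystem.Finite.Lemmas

set_option autoImplicit false
open RootD Groth.Agent.H27

namespace Groth.Agent.S5450

/-- A positive root (relative to a system of simple roots Δ) is simple if and only if it is not the sum
of two positive roots. -/
theorem result {ι M N : Type*} [AddCommGroup M] [AddCommGroup N]
    (P : RootPairing ι ℤ M N) [Finite ι] (Δ : Set ι) (hΔ : RootD.IsSimpleSys P Δ)
    (k : ι) (hk : k ∈ RootD.posOf P Δ) :
    k ∈ Δ ↔ ¬ ∃ i j : ι, i ∈ RootD.posOf P Δ ∧ j ∈ RootD.posOf P Δ ∧ P.root k = P.root i + P.root j := by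
  classical
  constructor
  · rintro hkΔ ⟨i, j, hi, hj, h⟩
    obtain ⟨c, hc0, hcS, hc⟩ := exists_coeff_of_mem_natSpan P hi
    obtain ⟨d, hd0, hdS, hd⟩ := exists_coeff_of_mem_natSpan P hj
    have h1 : Finsupp.linearCombination ℤ P.root (Finsupp.single k 1) =
        Finsupp.linearCombination ℤ P.root (c + d) := by
      rw [map_add, hc, hd, ← h]; simp
    have h2 := coeff_unique P hΔ.linInd (Finsupp.single_mem_supported ℤ 1 hkΔ) (add_mem hcS hdS) h1
    have h3 : ∀ l, (Finsupp.single k (1:ℤ)) l = c l + d l := fun l => by rw [h2]; simp
    by_cases hck : c k = 0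
    · have : c = 0 := by
        ext l
        by_cases hl : l = k
        · subst hl; simpa using hck
        · have := h3 l
          rw [Finsupp.single_apply, if_neg (Ne.symm hl)] at this
          have := hc0 l; have := hd0 l
          simp; omega
      rw [this] at hc
      simp at hc
      exact P.ne_zero i hc.symm
    · have : d = 0 := by
        ext l
        by_cases hl : l = k
        · subst hl
          have := h3 l
          rw [Finsupp.single_apply, if_pos rfl] at this
          have := hc0 l; have := hd0 l
          simp; omega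
        · have := h3 l
          rw [Finsupp.single_apply, if_neg (Ne.symm hl)] at this
          have := hc0 l; have := hd0 l
          simp; omega
      rw [this] at hd
      simp at hd
      exact P.ne_zero j hd.symm
  · intro hno
    by_contra hkΔ
    apply hno
    obtain ⟨c, hc0, hcS, hc⟩ := exists_coeff_of_mem_natSpan P hk
    have h2 : (2:ℤ) = c.sum (fun l a => a * P.pairing l k) := by
      have := P.root_coroot_two k
      rw [← hc, Finsupp.linearCombination_apply, Finsupp.sum, map_sum, LinearMap.sum_apply] at this
      rw [← this, Finsupp.sum]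
      apply Finset.sum_congr rfl
      intro l _
      rw [map_smul, LinearMap.smul_apply, P.root_coroot_eq_pairing, smul_eq_mul]
    obtain ⟨l, hl, hlpos⟩ : ∃ l ∈ c.support, 0 < c l * P.pairing l k := by
      by_contra hcon
      push Not at hcon
      have : c.sum (fun l a => a * P.pairing l k) ≤ 0 := Finset.sum_nonpos hcon
      omega
    have hlΔ : l ∈ Δ := hcS hl
    have hcl : 0 < c l := lt_of_le_of_ne (hc0 l) (Ne.symm (Finsupp.mem_support_iff.mp hl))
    have hplk : 0 < P.pairing l k := (pos_iff_pos_of_mul_pos hlpos).mp hcl
    have hpkl : 0 < P.pairingIn ℤ k l := by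
      rw [P.zero_lt_pairingIn_iff' ℤ]
      have : P.pairingIn ℤ l k = P.pairing l k := by simpa using P.algebraMap_pairingIn ℤ l k
      rwa [this]
    have hne : k ≠ l := fun h => hkΔ (h ▸ hlΔ)
    obtain ⟨m, hm⟩ := P.root_sub_root_mem_of_pairingIn_pos hpkl hne
    rcases hΔ.mem_or_neg_mem m with hmpos | hmneg
    · exact ⟨m, l, hmpos, root_mem_natSpan P hlΔ, by rw [hm]; abel⟩
    · exfalso
      obtain ⟨d, hd0, hdS, hd⟩ := exists_coeff_of_mem_natSpan P hmneg
      have h1 : Finsupp.linearCombination ℤ P.root c =
          Finsupp.linearCombination ℤ P.root (Finsupp.single l 1 - d) := by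
        rw [map_sub, hc, hd, hm]; simp
      have h3 := coeff_unique P hΔ.linInd hcS
        (sub_mem (Finsupp.single_mem_supported ℤ 1 hlΔ) hdS) h1
      have h4 : ∀ l', c l' = (Finsupp.single l (1:ℤ)) l' - d l' := fun l' => by rw [h3]; simp
      have h5 : c = Finsupp.single l 1 := by
        ext l'
        have := h4 l'
        by_cases hl' : l' = l
        · subst hl'
          rw [Finsupp.single_apply, if_pos rfl] at this ⊢
          have := hd0 l'
          omega
        · rw [Finsupp.single_apply, if_neg (Ne.symm hl')] at this ⊢
          have := hd0 l'; have := hc0 l'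
          omega
      rw [h5] at hc
      simp at hc
      exact hne hc.symm

end Groth.Agent.S5450
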