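import Groth.Statements.S5446
import Groth.Agent.H27.RootBase
import Mathlib.LinearAlgebra.RootSystem.Finite.Lemmas

set_option autoImplicit false
open RootD

namespace Groth.Agent.S5446

open Groth.Agent.H27 in
/-- A root that is a positive rational multiple of an indivisible root is that root or twice
it. -/
theorem prop_root {ι M N : Type*} [AddCommGroup M] [AddCommGroup N]
    (P : RootPairing ι ℤ M N) [Finite ι] {i j : ι} (hind : RootD.IsIndiv P i) {n a : ℕ}
    (hn : 0 < n) (ha : 0 < a) (h : n • P.root j = a • P.root i) :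
    j = i ∨ P.root j = (2 : ℤ) • P.root i := by
  have : Module.IsReflexive ℤ M := .of_isPerfPair P.toLinearMap
  have : Module.IsReflexive ℤ N := .of_isPerfPair P.flip.toLinearMap
  have h1 : (n : ℤ) * P.pairing j i = 2 * a := by
    have := congrArg (fun x => P.toLinearMap x (P.coroot i)) h
    simp only [map_nsmul, LinearMap.smul_apply, P.root_coroot_eq_pairing, P.pairing_same,
      nsmul_eq_mul] at this
    linarith
  have h2 : (2 : ℤ) * n = a * P.pairing i j := by
    have := congrArg (fun x => P.toLinearMap x (P.coroot j)) h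
    simp only [map_nsmul, LinearMap.smul_apply, P.root_coroot_eq_pairing, P.pairing_same,
      nsmul_eq_mul] at this
    linarith
  have hn' : (0 : ℤ) < n := by exact_mod_cast hn
  have ha' : (0 : ℤ) < a := by exact_mod_cast ha
  have hp1 : 0 < P.pairing j i := by
    by_contra hcon
    push Not at hcon
    have := mul_nonpos_of_nonneg_of_nonpos hn'.le hcon
    omega
  have hp2 : 0 < P.pairing i j := by
    by_contra hcon
    push Not at hcon
    have := mul_nonpos_of_nonneg_of_nonpos ha'.le hcon
    omega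
  have h4 : P.pairing i j * P.pairing j i = 4 := by
    have : ((n : ℤ) * a) * (P.pairing i j * P.pairing j i) = (n * a) * 4 := by
      calc ((n : ℤ) * a) * (P.pairing i j * P.pairing j i)
          = (n * P.pairing j i) * (a * P.pairing i j) := by ring
        _ = (2 * a) * (2 * n) := by rw [h1, h2]
        _ = (n * a) * 4 := by ring
    exact mul_left_cancel₀ (mul_pos hn' ha').ne' this
  have hset := P.pairingIn_pairingIn_mem_set_of_isCrystallographic i j
  rw [pairingIn_int_eq, pairingIn_int_eq] at hset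
  simp only [Set.mem_insert_iff, Set.mem_singleton_iff, Prod.mk.injEq] at hset
  rcases hset with ⟨e1, e2⟩ | ⟨e1, e2⟩ | ⟨e1, e2⟩ | ⟨e1, e2⟩ | ⟨e1, e2⟩ | ⟨e1, e2⟩ | ⟨e1, e2⟩ |
    ⟨e1, e2⟩ | ⟨e1, e2⟩ | ⟨e1, e2⟩ | ⟨e1, e2⟩ | ⟨e1, e2⟩ | ⟨e1, e2⟩ | ⟨e1, e2⟩ | ⟨e1, e2⟩ |
    ⟨e1, e2⟩ | ⟨e1, e2⟩ <;> rw [e1, e2] at h4 <;> try omega
  · -- (4,1): root i = 2 root j
    exfalso
    exact hind j ((P.pairing_one_four_iff j i).mp ⟨e2, e1⟩).symm
  · -- (1,4): root j = 2 root i
    exact Or.inr ((P.pairing_one_four_iff i j).mp ⟨e1, e2⟩)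
  · -- (2,2)
    exact Or.inl ((P.pairing_two_two_iff i j).mp ⟨e1, e2⟩).symm


/-- If the roots indexed by Δ are indivisible and linearly independent and every root is, up to sign, a
non-negative rational combination of them (some positive multiple is a non-negative integer
combination), then Δ is a system of simple roots: every root is, up to sign, a non-negative integer
combination of Δ. -/
theorem result {ι M N : Type*} [AddCommGroup M] [AddCommGroup N]
    (P : RootPairing ι ℤ M N) [Finite ι] (Δ : Set ι)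
    (hind : ∀ i ∈ Δ, RootD.IsIndiv P i) (hli : LinearIndepOn ℤ P.root Δ)
    (hcone : ∀ k : ι, ∃ n : ℕ, 0 < n ∧
      (n • P.root k ∈ RootD.natSpan P Δ ∨ n • (-P.root k) ∈ RootD.natSpan P Δ)) :
    RootD.IsSimpleSys P Δ := by
  classical
  have : Module.IsReflexive ℤ M := .of_isPerfPair P.toLinearMap
  have hTF : IsAddTorsionFree M := .of_isTorsionFree ℤ M
  let S : Set ι := {k | ∃ n : ℕ, 0 < n ∧ n • P.root k ∈ RootD.natSpan P Δ}
  have hΔS : Δ ⊆ S := fun i hi => ⟨1, one_pos, by
    rw [one_smul]; exact Groth.Agent.H27.root_mem_natSpan P hi⟩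
  have hsat : ∀ x ∈ RootD.natSpan P S, ∃ n : ℕ, 0 < n ∧ n • x ∈ RootD.natSpan P Δ := by
    intro x hx
    unfold RootD.natSpan at hx
    induction hx using AddSubmonoid.closure_induction with
    | mem x hx =>
      obtain ⟨j, ⟨n, hn, hj⟩, rfl⟩ := hx
      exact ⟨n, hn, hj⟩
    | zero => exact ⟨1, one_pos, by rw [smul_zero]; exact zero_mem _⟩
    | add x y _ _ hx hy =>
      obtain ⟨n, hn, hx⟩ := hx
      obtain ⟨m, hm, hy⟩ := hy
      refine ⟨n * m, Nat.mul_pos hn hm, ?_⟩
      rw [smul_add]
      apply add_mem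
      · rw [mul_comm, mul_smul]; exact AddSubmonoid.nsmul_mem _ hx m
      · rw [mul_smul]; exact AddSubmonoid.nsmul_mem _ hy n
  have hS : RootD.IsPosSys P S := by
    refine ⟨?_, ?_, ?_⟩
    · rintro k ⟨n, hn, hk⟩ ⟨m, hm, hk'⟩
      rw [Groth.Agent.H27.root_neg] at hk'
      have h1 : (n * m) • P.root k ∈ RootD.natSpan P Δ := by
        rw [mul_comm, mul_smul]; exact AddSubmonoid.nsmul_mem _ hk m
      have h2 : -((n * m) • P.root k) ∈ RootD.natSpan P Δ := by
        rw [← smul_neg, mul_smul]; exact AddSubmonoid.nsmul_mem _ hk' n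
      exact Groth.Agent.H27.nsmul_root_ne_zero P k (Nat.mul_pos hn hm)
        (Groth.Agent.H27.eq_zero_of_mem_natSpan_of_neg_mem P hli h1 h2)
    · intro k
      obtain ⟨n, hn, h | h⟩ := hcone k
      · exact Or.inl ⟨n, hn, h⟩
      · exact Or.inr ⟨n, hn, by rw [Groth.Agent.H27.root_neg]; exact h⟩
    · intro k n hn hk
      obtain ⟨m, hm, hk'⟩ := hsat _ hk
      exact ⟨m * n, Nat.mul_pos hm hn, by rw [mul_smul]; exact hk'⟩
  have hΔ' : RootD.IsSimpleSys P (Groth.Agent.H27.indec P S) := Groth.Agent.H27.isSimpleSys_indec P hS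
  -- Δ ⊆ indec S
  have hsub : Δ ⊆ Groth.Agent.H27.indec P S := by
    intro i hi
    refine ⟨hΔS hi, ?_⟩
    rintro j ⟨nj, hnj, hj⟩ k ⟨nk, hnk, hk⟩ hijk
    obtain ⟨a, ha0, haS, ha⟩ := Groth.Agent.H27.exists_coeff_of_mem_natSpan P hj
    obtain ⟨b, hb0, hbS, hb⟩ := Groth.Agent.H27.exists_coeff_of_mem_natSpan P hk
    have heq : Finsupp.single i ((nj * nk : ℕ) : ℤ) = (nk : ℤ) • a + (nj : ℤ) • b := by
      apply Groth.Agent.H27.coeff_unique P hli (Finsupp.single_mem_supported ℤ _ hi)
        (add_mem (Submodule.smul_mem _ _ haS) (Submodule.smul_mem _ _ hbS))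
      rw [map_add, map_smul, map_smul, ha, hb, Finsupp.linearCombination_single, hijk]
      simp only [natCast_zsmul, smul_add, mul_smul]
      rw [smul_comm nk nj (P.root j)]
    have hazero : ∀ l, l ≠ i → a l = 0 ∧ b l = 0 := by
      intro l hl
      have h1 := DFunLike.congr_fun heq l
      simp only [Finsupp.single_apply, if_neg (Ne.symm hl), Finsupp.add_apply, Finsupp.smul_apply,
        smul_eq_mul] at h1
      have h2 := ha0 l
      have h3 := hb0 l
      have h4 : (0:ℤ) < nk := by exact_mod_cast hnk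
      have h5 : (0:ℤ) < nj := by exact_mod_cast hnj
      have h6 : 0 ≤ (nk : ℤ) * a l := mul_nonneg h4.le h2
      have h7 : 0 ≤ (nj : ℤ) * b l := mul_nonneg h5.le h3
      have h8 : (nk : ℤ) * a l = 0 := by omega
      have h9 : (nj : ℤ) * b l = 0 := by omega
      exact ⟨(mul_eq_zero.mp h8).resolve_left h4.ne', (mul_eq_zero.mp h9).resolve_left h5.ne'⟩
    have ha' : a = Finsupp.single i (a i) := by
      ext l
      by_cases hl : l = i
      · subst hl; simp
      · rw [Finsupp.single_apply, if_neg (Ne.symm hl)]; exact (hazero l hl).1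
    have hb' : b = Finsupp.single i (b i) := by
      ext l
      by_cases hl : l = i
      · subst hl; simp
      · rw [Finsupp.single_apply, if_neg (Ne.symm hl)]; exact (hazero l hl).2
    rw [ha', Finsupp.linearCombination_single] at ha
    rw [hb', Finsupp.linearCombination_single] at hb
    have hai : 0 < a i := by
      rcases (ha0 i).lt_or_eq with h | h
      · exact h
      · rw [← h, zero_smul] at ha
        exact absurd ha.symm (Groth.Agent.H27.nsmul_root_ne_zero P j hnj)
    have hbi : 0 < b i := by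
      rcases (hb0 i).lt_or_eq with h | h
      · exact h
      · rw [← h, zero_smul] at hb
        exact absurd hb.symm (Groth.Agent.H27.nsmul_root_ne_zero P k hnk)
    have hj' : nj • P.root j = (a i).toNat • P.root i := by
      rw [← ha, ← natCast_zsmul (P.root i), Int.toNat_of_nonneg (ha0 i)]
    have hk' : nk • P.root k = (b i).toNat • P.root i := by
      rw [← hb, ← natCast_zsmul (P.root i), Int.toNat_of_nonneg (hb0 i)]
    have hjt := prop_root P (hind i hi) hnj (by omega) hj'
    have hkt := prop_root P (hind i hi) hnk (by omega) hk'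
    have hjt' : ∃ t : ℕ, 0 < t ∧ P.root j = t • P.root i := by
      rcases hjt with h | h
      · exact ⟨1, one_pos, by rw [h, one_smul]⟩
      · exact ⟨2, two_pos, by rw [h, two_smul, two_nsmul]⟩
    have hkt' : ∃ t : ℕ, 0 < t ∧ P.root k = t • P.root i := by
      rcases hkt with h | h
      · exact ⟨1, one_pos, by rw [h, one_smul]⟩
      · exact ⟨2, two_pos, by rw [h, two_smul, two_nsmul]⟩
    obtain ⟨tj, htj, hjt''⟩ := hjt'
    obtain ⟨tk, htk, hkt''⟩ := hkt'
    rw [hjt'', hkt'', ← add_smul] at hijk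
    obtain ⟨m, hm⟩ : ∃ m : ℕ, tj + tk = m + 1 := ⟨tj + tk - 1, by omega⟩
    rw [hm, add_smul, one_smul] at hijk
    have h0 : m • P.root i = 0 := by
      have := congrArg (fun x => x - P.root i) hijk
      simpa using this.symm
    exact Groth.Agent.H27.nsmul_root_ne_zero P i (by omega) h0
  -- indec S ⊆ Δ
  have hsup : Groth.Agent.H27.indec P S ⊆ Δ := by
    intro j hj
    obtain ⟨n, hn, hjn⟩ := hj.1
    obtain ⟨d, hd0, hdS, hd⟩ := Groth.Agent.H27.exists_coeff_of_mem_natSpan P hjn
    have heq : d = Finsupp.single j (n : ℤ) := by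
      apply Groth.Agent.H27.coeff_unique P hΔ'.linInd (Finsupp.supported_mono hsub hdS)
        (Finsupp.single_mem_supported ℤ _ hj)
      rw [hd, Finsupp.linearCombination_single, natCast_zsmul]
    apply hdS
    rw [Finset.mem_coe, Finsupp.mem_support_iff, heq, Finsupp.single_eq_same]
    exact_mod_cast hn.ne'
  rw [Set.Subset.antisymm hsub hsup]
  exact hΔ'

end Groth.Agent.S5446
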