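import Groth.Statements.S5452
import Groth.Agent.H27.RootAut

set_option autoImplicit false
open RootPairing
open scoped Pointwise
open RootD

namespace Groth.Agent.S5452

/-- The Weyl group of a root datum acts faithfully on the set of roots. -/
theorem result {ι M N : Type*} [AddCommGroup M] [AddCommGroup N]
    (P : RootPairing ι ℤ M N) [Finite ι] :
    Function.Injective P.weylGroupToPerm := by
  rw [injective_iff_map_eq_one]
  intro w hw
  have h1 : (w : P.Aut) = 1 := by
    apply Groth.Agent.H27.aut_eq_one P
    · intro m
      exact ⟨1, one_pos, by simpa using Groth.Agent.H27.weylGroup_smul_sub_mem P w w.2 m⟩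
    · intro i
      exact congrFun (congrArg DFunLike.coe hw) i
  exact Subtype.ext h1

end Groth.Agent.S5452
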