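import Groth.Statements.S5462
import Groth.Agent.H27.RootSimple
import Mathlib.LinearAlgebra.RootSystem.WeylGroup

set_option autoImplicit false
open RootPairing
open scoped Pointwise
open RootD

namespace Groth.Agent.S5462

/-- For Δ' contained in a system of simple roots Δ, the subgroup of the Weyl group generated by the
reflections in Δ' preserves the set of positive roots not lying in the span of Δ'. -/
theorem result {ι M N : Type*} [AddCommGroup M] [AddCommGroup N]
    (P : RootPairing ι ℤ M N) [Finite ι] (Δ Δ' : Set ι) (hΔ : RootD.IsSimpleSys P Δ) (hsub : Δ' ⊆ Δ)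
    (g : P.Aut) (hg : g ∈ Subgroup.closure ((fun i : ι => Equiv.reflection P i) '' Δ'))
    (k : ι) (hk : k ∈ RootD.posOf P Δ) (hk' : k ∉ RootD.inSpan P Δ') :
    g • k ∈ RootD.posOf P Δ ∧ g • k ∉ RootD.inSpan P Δ' := by
  classical
  -- the statement for a single simple reflection
  have hgen : ∀ i ∈ Δ', ∀ k : ι, k ∈ RootD.posOf P Δ → k ∉ RootD.inSpan P Δ' →
      P.reflectionPerm i k ∈ RootD.posOf P Δ ∧ P.reflectionPerm i k ∉ RootD.inSpan P Δ' := by
    intro i hi k hk hk'
    have hroot : P.root (P.reflectionPerm i k) = P.root k - P.pairing k i • P.root i := by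
      rw [P.root_reflectionPerm, P.reflection_apply_root]
    have hiS : P.root i ∈ Submodule.span ℤ (P.root '' Δ') :=
      Submodule.subset_span ⟨i, hi, rfl⟩
    refine ⟨?_, ?_⟩
    · obtain ⟨c, hc0, hcS, hc⟩ := Groth.Agent.H27.exists_coeff_of_mem_natSpan P hk
      by_cases hex : ∃ l, l ∉ Δ' ∧ 0 < c l
      · obtain ⟨l, hlΔ', hcl⟩ := hex
        have hli : l ≠ i := fun h => hlΔ' (h ▸ hi)
        exact Groth.Agent.H27.reflectionPerm_mem_posOf_of_coeff_pos P hΔ (hsub hi) hli c hcS hc hcl
      · exfalso
        push Not at hex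
        apply hk'
        show P.root k ∈ Submodule.span ℤ (P.root '' Δ')
        rw [← hc, Finsupp.linearCombination_apply, Finsupp.sum]
        apply Submodule.sum_mem
        intro l hl
        apply Submodule.smul_mem
        apply Submodule.subset_span
        refine ⟨l, ?_, rfl⟩
        by_contra hlΔ'
        have h1 := hex l hlΔ'
        have h2 := hc0 l
        have h3 := Finsupp.mem_support_iff.mp hl
        omega
    · intro hmem
      apply hk'
      show P.root k ∈ Submodule.span ℤ (P.root '' Δ')
      have hmem' : P.root (P.reflectionPerm i k) ∈ Submodule.span ℤ (P.root '' Δ') := hmem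
      rw [hroot] at hmem'
      have := Submodule.add_mem _ hmem' (Submodule.smul_mem _ (P.pairing k i) hiS)
      simpa using this
  have key : ∀ g' : P.Aut, g' ∈ Submonoid.closure (((fun i : ι => Equiv.reflection P i) '' Δ') ∪
      ((fun i : ι => Equiv.reflection P i) '' Δ')⁻¹) → ∀ k : ι, k ∈ RootD.posOf P Δ →
      k ∉ RootD.inSpan P Δ' → g' • k ∈ RootD.posOf P Δ ∧ g' • k ∉ RootD.inSpan P Δ' := by
    intro g' hg'
    induction hg' using Submonoid.closure_induction with
    | mem x hx =>
      intro k hk hk'
      have hx' : ∃ i ∈ Δ', x = Equiv.reflection P i := by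
        rcases hx with ⟨i, hi, rfl⟩ | hx
        · exact ⟨i, hi, rfl⟩
        · obtain ⟨i, hi, hxi⟩ := hx
          refine ⟨i, hi, ?_⟩
          have h1 : x = (Equiv.reflection P i)⁻¹ := by
            simp only at hxi
            rw [hxi, inv_inv]
          rw [h1, Equiv.reflection_inv]
      obtain ⟨i, hi, rfl⟩ := hx'
      exact hgen i hi k hk hk'
    | one =>
      intro k hk hk'
      rw [one_smul]
      exact ⟨hk, hk'⟩
    | mul x y _ _ hx hy =>
      intro k hk hk'
      rw [mul_smul]
      obtain ⟨h1, h2⟩ := hy k hk hk'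
      exact hx (y • k) h1 h2
  have hg' : g ∈ Submonoid.closure (((fun i : ι => Equiv.reflection P i) '' Δ') ∪
      ((fun i : ι => Equiv.reflection P i) '' Δ')⁻¹) := by
    rw [← Subgroup.closure_toSubmonoid]; exact hg
  exact key g hg' k hk hk'

end Groth.Agent.S5462
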