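import Groth.Statements.S5448
import Groth.Agent.H27.RootD

set_option autoImplicit false
open RootD

namespace Groth.Agent.S5448

open Groth.Agent.H27 in
/-- The elements of a system of simple roots (root-only sense) are indivisible, i.e. none of them is
twice a root. -/
theorem result {ι M N : Type*} [AddCommGroup M] [AddCommGroup N]
    (P : RootPairing ι ℤ M N) [Finite ι] (Δ : Set ι) (hΔ : RootD.IsSimpleSys P Δ)
    (i : ι) (hi : i ∈ Δ) : RootD.IsIndiv P i := by
  intro j hj
  have key : ∀ c : ι →₀ ℤ, c ∈ Finsupp.supported ℤ ℤ Δ → ∀ ε : ℤ,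
      P.root i = (2 * ε) • Finsupp.linearCombination ℤ P.root c → False := by
    intro c hc ε h
    have h1 : Finsupp.linearCombination ℤ P.root (Finsupp.single i 1) =
        Finsupp.linearCombination ℤ P.root ((2 * ε) • c) := by
      rw [map_smul, ← h]; simp
    have h2 := coeff_unique P hΔ.linInd (Finsupp.single_mem_supported ℤ 1 hi)
      (Submodule.smul_mem _ _ hc) h1
    have h3 := DFunLike.congr_fun h2 i
    simp at h3
    have h4 : (2:ℤ) ∣ 1 := ⟨ε * c i, by rw [h3]; ring⟩
    omega
  rcases hΔ.mem_or_neg_mem j with h | h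
  · obtain ⟨c, -, hcS, hc⟩ := exists_coeff_of_mem_natSpan P h
    apply key c hcS 1
    rw [hc, ← hj]; simp
  · obtain ⟨c, -, hcS, hc⟩ := exists_coeff_of_mem_natSpan P h
    apply key c hcS (-1)
    rw [hc, ← hj]; simp

end Groth.Agent.S5448
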