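import Groth.Statements.S5467
import Groth.Agent.H27.RootSimple

set_option autoImplicit false
open RootD

namespace Groth.Agent.S5467

/-- For an indivisible positive non-simple root α there is a simple root β with (β^v, α) > 0 such that
s_β(α) is positive; its order relative to Δ is then smaller than that of α by (β^v, α). -/
theorem result {ι M N : Type*} [AddCommGroup M] [AddCommGroup N]
    (P : RootPairing ι ℤ M N) [Finite ι] (Δ : Set ι) (hΔ : RootD.IsSimpleSys P Δ)
    (k : ι) (hk : k ∈ RootD.posOf P Δ) (hkΔ : k ∉ Δ) (hind : RootD.IsIndiv P k) :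
    ∃ i ∈ Δ, 0 < P.pairing k i ∧ P.reflectionPerm i k ∈ RootD.posOf P Δ := by
  classical
  obtain ⟨c, hc0, hcS, hc⟩ := Groth.Agent.H27.exists_coeff_of_mem_natSpan P hk
  obtain ⟨l, hcl, hpl⟩ := Groth.Agent.H27.exists_pos_coeff_pairing_pos P hc0 hc
  have hlΔ : l ∈ Δ := hcS (Finsupp.mem_support_iff.mpr (ne_of_gt hcl))
  refine ⟨l, hlΔ, Groth.Agent.H27.pairing_pos_symm P hpl, ?_⟩
  by_cases hex : ∃ l', l' ≠ l ∧ 0 < c l'
  · obtain ⟨l', hne, hcl'⟩ := hex
    exact Groth.Agent.H27.reflectionPerm_mem_posOf_of_coeff_pos P hΔ hlΔ hne c hcS hc hcl'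
  · exfalso
    push Not at hex
    have hc' : c = Finsupp.single l (c l) := by
      ext l'
      by_cases hl' : l' = l
      · subst hl'; simp
      · rw [Finsupp.single_apply, if_neg (Ne.symm hl')]
        have := hex l' hl'
        have := hc0 l'
        omega
    rw [hc'] at hc
    rcases Groth.Agent.H27.root_eq_or_eq_two_smul_of_single P (hc0 l) hc with h | h
    · exact hkΔ (h ▸ hlΔ)
    · exact hind l h

end Groth.Agent.S5467
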