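import Groth.Statements.S5488
-- import your own Groth.Agent.* helpers here

set_option autoImplicit false
open RootPairing
open scoped Pointwise
open RootD

namespace Groth.Agent.S5488

/-- The reduced datum of indivisible roots has the same Weyl group: the reflections in indivisible roots
generate W. -/
theorem result {ι M N : Type*} [AddCommGroup M] [AddCommGroup N]
    (P : RootPairing ι ℤ M N) [Finite ι] :
    Subgroup.closure ((fun i : ι => Equiv.reflection P i) '' {i : ι | RootD.IsIndiv P i}) = P.weylGroup := by
  have hM : Module.IsReflexive ℤ M := .of_isPerfPair P.toLinearMap
  have hN : Module.IsReflexive ℤ N := .of_isPerfPair P.flip.toLinearMap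
  have hM' : IsAddTorsionFree M := .of_isTorsionFree ℤ M
  have hN' : IsAddTorsionFree N := .of_isTorsionFree ℤ N
  apply le_antisymm
  · apply Subgroup.closure_mono
    rintro _ ⟨i, _, rfl⟩
    exact Set.mem_range_self i
  · unfold RootPairing.weylGroup
    rw [Subgroup.closure_le]
    rintro _ ⟨i, rfl⟩
    by_cases hi : RootD.IsIndiv P i
    · exact Subgroup.subset_closure ⟨i, hi, rfl⟩
    · unfold RootD.IsIndiv at hi
      push Not at hi
      obtain ⟨j, hj⟩ := hi
      have hjind : RootD.IsIndiv P j := by
        intro k hk
        have h4 : P.root i = (4 : ℤ) • P.root k := by
          rw [← hj, ← hk, smul_smul]; norm_num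
        have := congrArg (P.coroot' i) h4
        rw [map_smul] at this
        simp only [RootPairing.root_coroot'_eq_pairing, RootPairing.pairing_same, smul_eq_mul] at this
        omega
      have hco : P.coroot j = (2 : ℤ) • P.coroot i :=
        (RootPairing.coroot_eq_smul_coroot_iff).2 hj.symm
      have heq : Equiv.reflection P i = Equiv.reflection P j := by
        apply RootPairing.Equiv.weightHom_injective P
        ext x
        change P.reflection i x = P.reflection j x
        rw [P.reflection_apply, P.reflection_apply, ← hj]
        congr 1
        have : P.coroot' j x = 2 * P.coroot' i x := by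
          simp only [RootPairing.coroot', hco, map_smul, smul_eq_mul]
          simp
        rw [this, smul_smul, mul_comm]
      rw [heq]
      exact Subgroup.subset_closure ⟨j, hjind, rfl⟩

end Groth.Agent.S5488
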