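import Groth.Statements.S5503
-- import your own Groth.Agent.* helpers here

set_option autoImplicit false
open RootPairing
open scoped Pointwise
open RootD

namespace Groth.Agent.S5503

/-- For an automorphism u of a root datum and a root α, u s_α u⁻¹ = s_{u(α)}; hence W(R) is a normal
subgroup of Aut(R). -/
theorem result {ι M N : Type*} [AddCommGroup M] [AddCommGroup N]
    (P : RootPairing ι ℤ M N) [Finite ι] (u : P.Aut) (i : ι) :
    u * Equiv.reflection P i * u⁻¹ = Equiv.reflection P (u • i) := by
  apply RootPairing.Equiv.weightHom_injective P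
  rw [map_mul, map_mul, map_inv]
  ext x
  have hroot : u.toHom.weightMap (P.root i) = P.root (u • i) :=
    RootPairing.Hom.root_weightMap_apply P P i u.toHom
  have hco : u.toHom.coweightMap (P.coroot (u • i)) = P.coroot i := by
    have := RootPairing.Hom.coroot_coweightMap_apply P P (u • i) u.toHom
    rw [this]
    congr 1
    exact u.toHom.indexEquiv.symm_apply_apply i
  have htr : ∀ m : M, P.toLinearMap (u.toHom.weightMap m) (P.coroot (u • i)) =
      P.toLinearMap m (P.coroot i) := by
    intro m
    have := RootPairing.Hom.weight_coweight_transpose_apply P P (P.coroot (u • i)) u.toHom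
    have := congrArg (fun f => f m) this
    simp only [hco] at this
    simpa using this
  set U := RootPairing.Equiv.weightHom P u with hU
  have hUapp : ∀ m, U m = u.toHom.weightMap m := fun m => rfl
  have h1 : (RootPairing.Equiv.weightHom P (Equiv.reflection P i)) (U⁻¹ x) =
      P.reflection i (U⁻¹ x) := rfl
  have h2 : (RootPairing.Equiv.weightHom P (Equiv.reflection P (u • i))) x =
      P.reflection (u • i) x := rfl
  rw [h2]
  change U ((RootPairing.Equiv.weightHom P (Equiv.reflection P i)) (U⁻¹ x)) = _
  rw [h1, P.reflection_apply, P.reflection_apply, map_sub, map_smul]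
  have h3 : U (U⁻¹ x) = x := by
    change (U * U⁻¹) x = x
    rw [mul_inv_cancel]; rfl
  rw [h3, hUapp, hroot]
  congr 2
  have := htr (U⁻¹ x)
  rw [← hUapp, h3] at this
  exact this.symm

end Groth.Agent.S5503
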