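import Groth.Statements.S1134
import Groth.Agent.H51.DescAssemble
import Groth.Agent.H51.QAffEff
import Groth.Agent.H93.QAff

set_option autoImplicit false
open CategoryTheory CategoryTheory.Limits AlgebraicGeometry Opposite
universe u
open Desc

namespace Groth.Agent.S1134

/-- Let p : X → S be a surjective, flat and quasi-compact morphism of schemes. Every descent datum
relative to p whose underlying scheme is quasi-affine over X is effective: it is isomorphic to the
canonical descent datum of some scheme over S. Descent data are taken in functor-of-points form,
equivalent by the Yoneda lemma to the usual form of an isomorphism over X ×_S X satisfying the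
cocycle condition. -/
theorem result {X S : Scheme.{u}} (p : X ⟶ S) [Surjective p] [Flat p] [QuasiCompact p]
    (D : Desc.SchDD p) (hD : Mor2.IsQuasiAffine D.obj.hom) : ∃ U : Over S, Nonempty ((Desc.toDD p).obj U ≅ D) := by
  refine Groth.Agent.H51.DescAssemble.effective_of_local (fun f => Mor2.IsQuasiAffine f)
    (fun f g hf => Groth.Agent.H93.QAff.qaHom_baseChange f hf g)
    (fun p _ _ _ _ D hD => ?_) p D hD
  haveI : D.obj.left.IsQuasiAffine := Groth.Agent.H93.QAff.isQuasiAffine_of_qaHom D.obj.hom hD
  exact Groth.Agent.H51.QAffEff.effective_of_qaffine p D

end Groth.Agent.S1134
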