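import Groth.Statements.S12579
import Groth.Agent.H27.Tate.Global
import Groth.Agent.H55.FFDim

set_option autoImplicit false
universe u v w
open FunFld

namespace Groth.Agent.S12579

/-- For a function field of one variable `K/k` and `u, v ∈ K`, the local residues `Res_P(u dv)` vanish
for almost all places `P` and `∑_P Res_P(u dv) = 0`; stated through Laurent expansions over `k` at
every place (so for function fields all of whose places are separable), the residue at `P` being the
trace to `k` of the coefficient of `X⁻¹`. -/
theorem result (k : Type u) (K : Type v) [Field k] [Field K] [Algebra k K] (hK : FunFld.IsFunctionField k K)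
    (F : FunFld.Place k K → Type w) [∀ P, Field (F P)] [∀ P, Algebra k (F P)] [∀ P, FiniteDimensional k (F P)]
    (φ : ∀ P, K →ₐ[k] LaurentSeries (F P)) (hφ : ∀ P, LocRes.IsExpansionAt P.1 (φ P))
    (u v : K) :
    (Function.support fun P => LocRes.locRes (φ P) u v).Finite ∧ ∑ᶠ P, LocRes.locRes (φ P) u v = 0 := by
  classical
  set S : Finset (FunFld.Place k K) :=
    (Groth.Agent.H55.poles_finite hK u).toFinset ∪ (Groth.Agent.H55.poles_finite hK v).toFinset
    with hS
  have hu : u ∈ Groth.Agent.H27.Tate.OS (k := k) S := by
    intro P hP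
    rw [hS, Finset.mem_union, not_or, Set.Finite.mem_toFinset, Set.Finite.mem_toFinset] at hP
    exact not_lt.1 hP.1
  have hv : v ∈ Groth.Agent.H27.Tate.OS (k := k) S := by
    intro P hP
    rw [hS, Finset.mem_union, not_or, Set.Finite.mem_toFinset, Set.Finite.mem_toFinset] at hP
    exact not_lt.1 hP.2
  have hsupp : (Function.support fun P => LocRes.locRes (φ P) u v) ⊆ ↑S := by
    intro P hP
    by_contra hPS
    exact hP (Groth.Agent.H27.Tate.locRes_eq_zero_of_le_one φ (hφ P) (hu P hPS) (hv P hPS))
  refine ⟨S.finite_toSet.subset hsupp, ?_⟩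
  rw [finsum_eq_sum_of_support_subset _ hsupp]
  exact Groth.Agent.H27.Tate.sum_locRes_eq_zero φ hK hφ hu hv

end Groth.Agent.S12579
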