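import Groth.Statements.S12597
import Groth.Agent.H27.HasseBasic

set_option autoImplicit false
open FunFld

namespace Groth.Agent.S12597

/-- Over an algebraically closed constant field, multiplying a projective map `φ = (φ₀, …, φₙ)` by a
nonzero function `y` does not change its `τ`-order sequence `J`, and multiplies the Wronskian `det
[τ(φ) | D^(j₁) φ | ⋯ | D^(jₙ) φ]` taken at that sequence by `τ(y) yⁿ`. -/
theorem result
    (k K : Type*) [Field k] [IsAlgClosed k] [Field K] [Algebra k K]
    (hK : FunFld.IsFunctionField k K) {n : ℕ} (φ : Fin (n + 1) → K) (hφ : LinearIndependent k φ)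
    (τ : K →ₐ[k] K) (s : K) (H : K →ₐ[k] PowerSeries K) (hH : LocRes.IsHasseFamily s H) (y : K) (hy : y ≠ 0) :
    (∀ J : Fin n → ℕ, FunFld.IsOrders K (FunFld.hcol τ H (y • φ)) J ↔ FunFld.IsOrders K (FunFld.hcol τ H φ) J) ∧
    ∀ J : Fin n → ℕ, FunFld.IsOrders K (FunFld.hcol τ H φ) J →
      (FunFld.wrMat τ H (y • φ) J).det = τ y * y ^ n * (FunFld.wrMat τ H φ J).det := by
  have hτy : τ y ≠ 0 := (map_ne_zero τ).2 hy
  let d : ℕ → K := fun m => if m = 0 then τ y else y
  have hd : ∀ m, d m ≠ 0 := by
    intro m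
    by_cases h : m = 0 <;> simp [d, h, hτy, hy]
  have htri : ∀ m, FunFld.hcol τ H (y • φ) m - d m • FunFld.hcol τ H φ m ∈
      Submodule.span K (FunFld.hcol τ H φ '' Set.Iio m) := by
    intro m
    cases m with
    | zero =>
      have : FunFld.hcol τ H (y • φ) 0 - d 0 • FunFld.hcol τ H φ 0 = 0 := by
        ext i
        simp [FunFld.hcol, d]
      rw [this]
      exact Submodule.zero_mem _
    | succ j =>
      have : FunFld.hcol τ H (y • φ) (j + 1) - d (j + 1) • FunFld.hcol τ H φ (j + 1) =
          ∑ b ∈ Finset.range j, LocRes.hasseD H (j - b) y • FunFld.hcol τ H φ (b + 1) := by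
        ext i
        simp only [FunFld.hcol, d, Pi.sub_apply, Pi.smul_apply, smul_eq_mul, Finset.sum_apply,
          Nat.add_eq_zero_iff, one_ne_zero, and_false, if_false]
        rw [Groth.Agent.H27.Hasse.hasseD_mul_range hH]
        ring
      rw [this]
      exact Submodule.sum_mem _ (fun b hb => Submodule.smul_mem _ _
        (Groth.Agent.H27.Jump.mem_span_Iio _ (by have := Finset.mem_range.1 hb; omega)))
  refine ⟨fun J => Groth.Agent.H27.Jump.isOrders_iff_of_tri hd htri J, fun J hJ => ?_⟩
  rw [Groth.Agent.H27.Jump.wrMat_eq, Groth.Agent.H27.Jump.wrMat_eq,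
    Groth.Agent.H27.Jump.det_tri htri hJ, Fin.prod_univ_succ]
  simp [d]

end Groth.Agent.S12597
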