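import Groth.Statements.S12606
import Groth.Agent.S12596
import Groth.Agent.S12597
import Groth.Agent.S12601
import Groth.Agent.H27.LocDet2

set_option autoImplicit false
open FunFld

namespace Groth.Agent.S12606

open WithZero Groth.Agent.H55 Groth.Agent.H27.Expn Groth.Agent.H27.LocOrd Groth.Agent.H27.LocDet


/-- Over an algebraically closed constant field, let `P` be a strong fixed point of the `k`-endomorphism
`τ`, `φ = (φ₀, …, φₙ)` (`n ≥ 1`) an effective projective map normalized at `P` with `τ(φ)` not a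
`K`-multiple of `φ`, `t` a local parameter at `P`, `j₁, …, jₙ` the `τ`-orders of `φ` and `j'₁, …,
j'ₙ` the orders of `φ` at `P`. Then `jₗ ≤ j'ₗ - j'₁` for `1 ≤ l ≤ n`. -/
theorem result
    (k K : Type*) [Field k] [IsAlgClosed k] [Field K] [Algebra k K]
    (hK : FunFld.IsFunctionField k K) (τ : K →ₐ[k] K) (P : FunFld.Place k K) (hP : FunFld.IsStrongFixedPt τ P)
    {n : ℕ} (hn : 0 < n) (φ : Fin (n + 1) → K) (hφ : LinearIndependent k φ)
    (heff : (1 : K) ∈ Submodule.span k (Set.range φ)) (hnorm : ∀ i, P.1 (φ i) ≤ 1)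
    (hτφ : ¬ ∃ y : K, ∀ i, τ (φ i) = y * φ i)
    (t : K) (ht : P.1 t = WithZero.exp (-1))
    (Ht : K →ₐ[k] PowerSeries K) (hHt : LocRes.IsHasseFamily t Ht)
    (J : Fin n → ℕ) (hJ : FunFld.IsOrders K (FunFld.hcol τ Ht φ) J)
    (J' : Fin n → ℕ) (hJ' : FunFld.IsOrders (IsLocalRing.ResidueField P.O) (FunFld.hcolAt P Ht φ) J') :
    ∀ l, J l + J' ⟨0, hn⟩ ≤ J' l := by
  classical
  obtain ⟨φ', hφ'li, hspan, hφ'0, hφ'⟩ := exists_adapted hK P ht hHt φ hφ heff hnorm J' hJ'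
  obtain ⟨A, hA, hAφ⟩ := exists_matrix_of_span_eq φ φ' hφ'li hspan
  have hJφ' : IsOrders K (hcol τ Ht φ') J :=
    ((Groth.Agent.S12596.result k K hK φ hφ τ t Ht hHt A hA φ' hAφ).1 J).2 hJ
  obtain ⟨l0, hl0⟩ : ∃ l0 : Fin n, l0 = ⟨0, hn⟩ := ⟨_, rfl⟩
  rw [← hl0]
  obtain ⟨m, hm⟩ : ∃ m : ℕ, m = J' l0 := ⟨_, rfl⟩
  rw [← hm]
  obtain ⟨hm1, hφ1v, hφ1d⟩ := hφ' l0
  rw [← hm] at hm1 hφ1v hφ1d
  have hφ1ne : φ' l0.succ ≠ 0 := by
    intro h
    rw [h, map_zero] at hφ1v
    exact exp_ne_zero hφ1v.symm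
  obtain ⟨u, hu⟩ : ∃ u : K, u = (φ' l0.succ)⁻¹ := ⟨_, rfl⟩
  have hu0 : u ≠ 0 := by
    rw [hu]
    exact inv_ne_zero hφ1ne
  obtain ⟨ψ, hψ⟩ : ∃ ψ : Fin (n + 1) → K, ψ = u • φ' := ⟨_, rfl⟩
  have hJψ : IsOrders K (hcol τ Ht ψ) J := by
    rw [hψ]
    exact ((Groth.Agent.S12597.result k K hK φ' hφ'li τ t Ht hHt u hu0).1 J).2 hJφ'
  have hψli : LinearIndependent k ψ := by
    have : ψ = (LinearMap.mulLeft k u) ∘ φ' := by
      ext i
      simp [hψ]
    rw [this]
    exact hφ'li.map' _ (LinearMap.ker_eq_bot.2 (mul_right_injective₀ hu0))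
  have hJ'mono := hJ'.1
  have hmle : ∀ l, m ≤ J' l := fun l => by
    rw [hm]
    exact hJ'mono.monotone (by rw [hl0]; exact Fin.mk_le_mk.2 (Nat.zero_le _))
  obtain ⟨I, hIdef⟩ : ∃ I : Fin n → ℕ, I = fun l => J' l - m := ⟨_, rfl⟩
  have hIl : ∀ l, (I l : ℤ) = (J' l : ℤ) - m := fun l => by
    have := hmle l
    rw [hIdef]
    dsimp only
    omega
  have hI : StrictMono I := fun a b hab => by
    have h1 := hJ'mono hab
    have h2 := hIl a
    have h3 := hIl b
    omega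
  suffices hdet : (wrMat τ Ht ψ I).det ≠ 0 by
    intro l
    have h1 := Groth.Agent.S12601.result k K hK ψ hψli τ t Ht hHt J hJψ I hI hdet l
    have h2 := hIl l
    omega
  have hτt0 : τ t ≠ 0 := (map_ne_zero τ).2 (t_ne_zero ht)
  have hvτt : P.1 (τ t) ≠ 0 := (Valuation.ne_zero_iff _).2 hτt0
  obtain ⟨e, he⟩ : ∃ e : ℤ, P.1 (τ t) = exp (-e) :=
    ⟨-log (P.1 (τ t)), by rw [neg_neg, exp_log hvτt]⟩
  have he2 : 2 ≤ e := by
    have := hP t (val_t_lt_one ht)
    rw [he, exp_le_exp] at this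
    omega
  have hPf := strong_fixed P hP
  have hψ0 : ψ 0 = u := by
    simp [hψ, hφ'0]
  have hψv : ∀ l : Fin n, P.1 (ψ l.succ) = exp (-(I l : ℤ)) := by
    intro l
    simp only [hψ, Pi.smul_apply, smul_eq_mul, hu, map_mul, map_inv₀, hφ1v, (hφ' l).2.1]
    rw [← exp_neg, ← exp_add]
    congr 1
    have := hIl l
    omega
  have hτu : P.1 (τ u) = exp (e * m) := by
    rw [hu, map_inv₀, map_inv₀, fix_val hK P ht hPf hφ1v, he, ← exp_nsmul, ← exp_neg]
    congr 1
    simp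
    ring
  obtain ⟨r, hr⟩ : ∃ r : Fin (n + 1) → ℤ, r = Fin.cases (-(m : ℤ)) (fun l => (I l : ℤ)) := ⟨_, rfl⟩
  obtain ⟨s, hs⟩ : ∃ s : Fin (n + 1) → ℤ, s = Fin.cases ((e - 1) * m) (fun c => (I c : ℤ)) :=
    ⟨_, rfl⟩
  have hem : 0 < (e - 1) * (m : ℤ) := mul_pos (by omega) (by omega)
  have hM : ∀ l c, P.1 (wrMat τ Ht ψ I l c / t ^ (r l - s c)) ≤ 1 := by
    intro l c
    rw [val_div_zpow_le_one_iff P ht]
    refine Fin.cases ?_ (fun l' => ?_) l <;> refine Fin.cases ?_ (fun c' => ?_) c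
    · simp only [wrMat, Matrix.of_apply, Fin.cases_zero, hr, hs, hψ0]
      rw [hτu, exp_le_exp]
      linarith
    · simp only [wrMat, Matrix.of_apply, Fin.cases_zero, Fin.cases_succ, hr, hs, hψ0]
      rw [hu]
      refine (hasse_inv_val hK P ht hHt hφ1v (I c')).trans_eq ?_
      congr 1
      ring
    · simp only [wrMat, Matrix.of_apply, Fin.cases_zero, Fin.cases_succ, hr, hs]
      refine (fix_pow hK P ht hPf (hψv l').le).trans ?_
      rw [exp_le_exp]
      linarith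
    · simp only [wrMat, Matrix.of_apply, Fin.cases_succ, hr, hs]
      exact hasse_val hK P ht hHt (hψv l').le (I c')
  obtain ⟨-, h2⟩ := val_det_of_leading hK P ht (wrMat τ Ht ψ I) r s hM
  obtain ⟨a, ha⟩ : ∃ a : Matrix (Fin (n + 1)) (Fin (n + 1)) k,
      a = Matrix.of fun l c => cst P (wrMat τ Ht ψ I l c / t ^ (r l - s c)) := ⟨_, rfl⟩
  rw [← ha] at h2
  have hadet : a.det ≠ 0 := by
    have ha0 : ∀ l' : Fin n, a l'.succ 0 = 0 := by
      intro l'
      simp only [ha, Matrix.of_apply, wrMat, Fin.cases_zero, Fin.cases_succ, hr, hs]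
      apply cst_eq_zero
      rw [map_div₀, val_t_zpow P ht, div_lt_one₀ exp_pos]
      refine (fix_pow hK P ht hPf (hψv l').le).trans_lt ?_
      rw [exp_lt_exp]
      linarith
    have ha00 : a 0 0 ≠ 0 := by
      simp only [ha, Matrix.of_apply, wrMat, Fin.cases_zero, hr, hs, hψ0]
      have hv1 : P.1 (τ u / t ^ (-(m : ℤ) - (e - 1) * m)) = 1 := by
        rw [map_div₀, val_t_zpow P ht, hτu]
        have : -(-(m : ℤ) - (e - 1) * m) = e * m := by ring
        rw [this, div_self exp_ne_zero]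
      intro hc
      have := (val_lt_one_iff_cst hK P hv1.le).2 hc
      rw [hv1] at this
      exact lt_irrefl _ this
    have hsucc : ∀ l' c' : Fin n, a l'.succ c'.succ =
        ((I l').choose (I c') : k) * dig P t (I l') (ψ l'.succ) := by
      intro l' c'
      simp only [ha, Matrix.of_apply, wrMat, Fin.cases_succ, hr, hs]
      exact cst_hasse_div hK P ht hHt (hψv l').le (I c')
    have hdig : ∀ l', dig P t (I l') (ψ l'.succ) ≠ 0 := fun l' =>
      ((val_eq_exp_iff hK P ht ((hψv l').le.trans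
        (by rw [← exp_zero, exp_le_exp]; omega)) (I l')).1 (hψv l')).2
    rw [Matrix.det_succ_column_zero, Fin.sum_univ_succ]
    simp only [ha0, mul_zero, zero_mul, Finset.sum_const_zero, add_zero, Fin.val_zero, pow_zero,
      one_mul, Fin.succAbove_zero]
    refine mul_ne_zero ha00 ?_
    rw [Matrix.det_of_isLowerTriangular]
    · refine Finset.prod_ne_zero_iff.2 (fun l' _ => ?_)
      simp only [Matrix.submatrix_apply, hsucc, Nat.choose_self, Nat.cast_one, one_mul]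
      exact hdig l'
    · intro i j hij
      simp only [Matrix.submatrix_apply, hsucc]
      rw [Nat.choose_eq_zero_of_lt (hI (by simpa using hij)), Nat.cast_zero, zero_mul]
  intro h0
  have := h2.2 hadet
  rw [h0, map_zero] at this
  exact exp_ne_zero this.symm

end Groth.Agent.S12606
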