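import Groth.Statements.S12286
import Mathlib

set_option autoImplicit false
universe u w m
open scoped TensorProduct
open DefT

namespace Groth.Agent.S12286

/-- Let A → B be a ring homomorphism, P a presentation of B over A and M a B-module. The canonical
B-linear map from the A-derivations Der_A(B, M) = Hom_B(Ω_{B/A}, M) to T^0(B/A, M) (the kernel of
Hom_B(L₀, M) → Hom_B(L₁, M), L₀ = B ⊗_R Ω_{R/A}), sending a derivation D to b ⊗ dr ↦ b·D(r̄), is
bijective. -/
theorem result
    (A B : Type u) [CommRing A] [CommRing B] [Algebra A B] (ι σ : Type w) (P : Algebra.Presentation A B ι σ)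
    (M : Type m) [AddCommGroup M] [Module B M] [Module A M] [IsScalarTower A B M] :
    Function.Bijective (CotT.derToT0 P M) := by
  constructor
  · rw [injective_iff_map_eq_zero]
    intro D hD
    have h0 : CotT.derLift P M D = 0 := congrArg Subtype.val hD
    have hadj : Algebra.adjoin A (Set.range P.val) = ⊤ := by
      rw [Algebra.adjoin_range_eq_range_aeval, AlgHom.range_eq_top]
      exact P.aeval_val_surjective
    apply Derivation.ext_of_adjoin_eq_top _ hadj
    rintro _ ⟨i, rfl⟩
    have := CotT.derLift_basis P M D i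
    rw [h0] at this
    simpa using this.symm
  · intro φ
    obtain ⟨φ, hφ⟩ := φ
    have hφ' : φ ∘ₗ CotT.d1 P = 0 := by
      rw [LinearMap.mem_ker, CotT.d1Star_apply] at hφ
      exact hφ
    have hsurj : Function.Surjective (CotT.toCot P) := by
      intro x
      obtain ⟨y, rfl⟩ := Algebra.Extension.Cotangent.mk_surjective x
      have hy : (y : P.toExtension.Ring) ∈ LinearMap.range (CotT.jmap P) := by
        rw [CotT.range_jmap]; exact y.2
      obtain ⟨f, hf⟩ := hy
      refine ⟨1 ⊗ₜ f, ?_⟩
      rw [CotT.toCot_tmul, one_smul]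
      congr 1
      exact Subtype.ext hf
    have hker : LinearMap.ker P.toExtension.toKaehler ≤ LinearMap.ker φ := by
      intro x hx
      have hx' : x ∈ Set.range P.toExtension.cotangentComplex :=
        (P.toExtension.exact_cotangentComplex_toKaehler x).mp hx
      obtain ⟨c, rfl⟩ := hx'
      obtain ⟨l, rfl⟩ := hsurj c
      have := LinearMap.congr_fun hφ' l
      simpa [CotT.d1] using this
    obtain ⟨ψ, hψ⟩ : ∃ ψ : Ω[B⁄A] →ₗ[B] M, ∀ x, ψ (P.toExtension.toKaehler x) = φ x := by
      refine ⟨(LinearMap.ker P.toExtension.toKaehler).liftQ φ hker ∘ₗ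
        (P.toExtension.toKaehler.quotKerEquivOfSurjective
          P.toExtension.toKaehler_surjective).symm.toLinearMap, ?_⟩
      intro x
      simp only [LinearMap.coe_comp, LinearEquiv.coe_coe, Function.comp_apply]
      rw [LinearMap.quotKerEquivOfSurjective_symm_apply, Submodule.liftQ_apply]
    refine ⟨ψ.compDer (KaehlerDifferential.D A B), ?_⟩
    apply Subtype.ext
    show CotT.derLift P M _ = φ
    refine P.cotangentSpaceBasis.ext fun i => ?_
    rw [CotT.derLift_basis]
    show ψ (KaehlerDifferential.D A B (P.val i)) = _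
    rw [← Algebra.Generators.toKaehler_cotangentSpaceBasis, hψ]

end Groth.Agent.S12286
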