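import Groth.Statements.S12289
import Mathlib

set_option autoImplicit false
universe u w m
open scoped TensorProduct
open DefT

namespace Groth.Agent.S12289

/-- Let k be a commutative ring and B a k-algebra presented as R/I with R = k[x_i] a polynomial ring
(any set of variables) and chosen generators of I, and let M be a B-module; T^0(B/k, M) and T^1(B/k,
M) are computed from this presentation. Then the sequence 0 → T^0(B/k, M) → Hom_B(Ω_{R/k} ⊗_R B, M)
→ Hom_B(I/I², M) → T^1(B/k, M) → 0 is exact, where the middle map is composition with the conormal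
map d : I/I² → Ω_{R/k} ⊗_R B and the last map sends φ to the class of φ ∘ (F/IF → I/I²): the
submodule T^0(B/k, M) of Hom_B(Ω_{R/k} ⊗ B, M) is the kernel of composition with d, the kernel of
Hom_B(I/I², M) → T^1(B/k, M) is the image of composition with d, and Hom_B(I/I², M) → T^1(B/k, M) is
surjective. (The published statement takes finitely many variables over a field and adds that the
same holds over any base ring; this row allows any base ring and any set of variables.) -/
theorem result
    (k B : Type u) [CommRing k] [CommRing B] [Algebra k B] (ι σ : Type w) (P : Algebra.Presentation k B ι σ)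
    (M : Type m) [AddCommGroup M] [Module B M] :
    LinearMap.ker (CotT.d1Star P M) = LinearMap.ker (LinearMap.lcomp B M P.toExtension.cotangentComplex) ∧
    LinearMap.ker (CotT.homToT1 P M) = LinearMap.range (LinearMap.lcomp B M P.toExtension.cotangentComplex) ∧
    Function.Surjective (CotT.homToT1 P M) := by
  -- every element of L1 is `1 ⊗ f`
  have hB : ∀ x : CotT.L1 P, ∃ f : CotT.relMod P, x = (1 : B) ⊗ₜ[P.toExtension.Ring] f := by
    intro x
    induction x using TensorProduct.induction_on with
    | zero => exact ⟨0, (TensorProduct.tmul_zero _ _).symm⟩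
    | tmul b f =>
      obtain ⟨r, rfl⟩ := P.toExtension.algebraMap_surjective b
      refine ⟨r • f, ?_⟩
      rw [← TensorProduct.smul_tmul, Algebra.smul_def, mul_one]
    | add x y hx hy =>
      obtain ⟨f, rfl⟩ := hx
      obtain ⟨g, rfl⟩ := hy
      exact ⟨f + g, (TensorProduct.tmul_add _ _ _).symm⟩
  -- toCot is surjective
  have hsurj : Function.Surjective (CotT.toCot P) := by
    intro x
    obtain ⟨y, rfl⟩ := Algebra.Extension.Cotangent.mk_surjective x
    have hy : (y : P.toExtension.Ring) ∈ LinearMap.range (CotT.jmap P) := by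
      rw [CotT.range_jmap]; exact y.2
    obtain ⟨f, hf⟩ := hy
    refine ⟨1 ⊗ₜ f, ?_⟩
    rw [CotT.toCot_tmul, one_smul]
    congr 1
    exact Subtype.ext hf
  -- elements of I^2 come from IF
  have hC1 : ∀ r ∈ P.toExtension.ker ^ 2, ∃ g : CotT.relMod P, CotT.jmap P g = r ∧
      ((1 : B) ⊗ₜ[P.toExtension.Ring] g : CotT.L1 P) = 0 := by
    intro r hr
    rw [pow_two] at hr
    refine Submodule.mul_induction_on hr ?_ ?_
    · intro a ha b hb
      have ha' : a ∈ LinearMap.range (CotT.jmap P) := by
        rw [CotT.range_jmap]; exact ha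
      obtain ⟨ga, rfl⟩ := ha'
      refine ⟨b • ga, ?_, ?_⟩
      · rw [map_smul, smul_eq_mul, mul_comm]
      · rw [← TensorProduct.smul_tmul, Algebra.smul_def, mul_one]
        have : algebraMap P.toExtension.Ring B b = 0 := hb
        rw [this, TensorProduct.zero_tmul]
    · rintro x y ⟨g₁, h₁, h₁'⟩ ⟨g₂, h₂, h₂'⟩
      exact ⟨g₁ + g₂, by rw [map_add, h₁, h₂], by rw [TensorProduct.tmul_add, h₁', h₂', add_zero]⟩
  -- the kernel of toCot is the image of d2
  have hC : LinearMap.ker (CotT.toCot P) ≤ LinearMap.range (CotT.d2 P) := by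
    intro x hx
    obtain ⟨f, rfl⟩ := hB x
    rw [LinearMap.mem_ker, CotT.toCot_tmul, one_smul,
      Algebra.Extension.Cotangent.mk_eq_zero_iff] at hx
    obtain ⟨g, hg1, hg2⟩ := hC1 (CotT.jmap P f) hx
    have hq : f - g ∈ CotT.relKer P := by
      show CotT.jmap P (f - g) = 0
      rw [map_sub, hg1, sub_self]
    refine ⟨Submodule.Quotient.mk ((1 : B) ⊗ₜ ⟨f - g, hq⟩), ?_⟩
    rw [CotT.d2_mk_tmul]
    show (1 : B) ⊗ₜ[P.toExtension.Ring] (f - g) = 1 ⊗ₜ f
    rw [TensorProduct.tmul_sub, hg2, sub_zero]
  refine ⟨?_, ?_, ?_⟩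
  · ext φ
    rw [LinearMap.mem_ker, LinearMap.mem_ker, CotT.d1Star_apply, LinearMap.lcomp_apply']
    constructor
    · intro h
      refine LinearMap.ext fun c => ?_
      obtain ⟨l, rfl⟩ := hsurj c
      exact LinearMap.congr_fun h l
    · intro h
      rw [CotT.d1, ← LinearMap.comp_assoc, h, LinearMap.zero_comp]
  · ext φ
    rw [LinearMap.mem_ker, LinearMap.mem_range]
    have key : CotT.homToT1 P M φ = 0 ↔
        ∃ ψ : CotT.L0 P →ₗ[B] M, ψ ∘ₗ CotT.d1 P = φ ∘ₗ CotT.toCot P := by
      unfold CotT.homToT1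
      rw [LinearMap.comp_apply, Submodule.mkQ_apply, Submodule.Quotient.mk_eq_zero,
        Submodule.mem_comap, LinearMap.mem_range]
      rfl
    rw [key]
    constructor
    · rintro ⟨ψ, hψ⟩
      refine ⟨ψ, ?_⟩
      rw [LinearMap.lcomp_apply']
      refine LinearMap.ext fun c => ?_
      obtain ⟨l, rfl⟩ := hsurj c
      exact LinearMap.congr_fun hψ l
    · rintro ⟨ψ, rfl⟩
      exact ⟨ψ, by rw [LinearMap.lcomp_apply', CotT.d1, LinearMap.comp_assoc]⟩
  · intro t
    obtain ⟨c, rfl⟩ := Submodule.Quotient.mk_surjective _ t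
    have hc : (c : CotT.L1 P →ₗ[B] M) ∘ₗ CotT.d2 P = 0 := by
      have := c.2
      rw [LinearMap.mem_ker, CotT.d2Star_apply] at this
      exact this
    have hkc : LinearMap.ker (CotT.toCot P) ≤ LinearMap.ker (c : CotT.L1 P →ₗ[B] M) := by
      intro x hx
      obtain ⟨y, rfl⟩ := hC hx
      exact LinearMap.congr_fun hc y
    obtain ⟨φ, hφ⟩ : ∃ φ : P.toExtension.Cotangent →ₗ[B] M,
        ∀ l, φ (CotT.toCot P l) = (c : CotT.L1 P →ₗ[B] M) l := by
      refine ⟨(LinearMap.ker (CotT.toCot P)).liftQ (c : CotT.L1 P →ₗ[B] M) hkc ∘ₗ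
        ((CotT.toCot P).quotKerEquivOfSurjective hsurj).symm.toLinearMap, ?_⟩
      intro l
      simp only [LinearMap.coe_comp, LinearEquiv.coe_coe, Function.comp_apply]
      rw [LinearMap.quotKerEquivOfSurjective_symm_apply, Submodule.liftQ_apply]
    refine ⟨φ, ?_⟩
    unfold CotT.homToT1
    rw [LinearMap.comp_apply, Submodule.mkQ_apply]
    congr 1
    apply Subtype.ext
    refine LinearMap.ext fun l => ?_
    exact hφ l

end Groth.Agent.S12289
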