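import Groth.Statements.S2066
import Groth.Agent.H56.PCohAll
-- import your own Groth.Agent.* helpers here

set_option autoImplicit false
universe u
open CategoryTheory
attribute [local instance] HasDerivedCategory.standard
open CAlg

namespace Groth.Agent.S2066

/-- An object `K` of `D(A)` is `m`-pseudo-coherent for every integer `m` if and only if some bounded
above complex of finite free modules represents it in `D(A)` ((1) iff (2)), and also if and only if
some bounded above complex of finite projective modules represents it ((2) iff (3)). -/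
theorem result {A : Type u} [CommRing A] (K : Dual.D A) :
    ((∀ m : ℤ, DRing.IsPseudoCoherent A m K) ↔ DRing.IsPseudoCoherent' A K) ∧
      ((∀ m : ℤ, DRing.IsPseudoCoherent A m K) ↔ ∃ (E : DRing.Cx A) (b : ℤ), DRing.VanishesAbove E b ∧
        DRing.TermwiseFiniteProjective E ∧ Nonempty (DRing.toD E ≅ K)) := by
  have T1 : ∀ (E : DRing.Cx A) (b : ℤ), DRing.VanishesAbove E b →
      DRing.TermwiseFiniteProjective E → ∀ m : ℤ, DRing.IsPseudoCoherent A m (DRing.toD E) :=
    fun E b hv hp m => Groth.Agent.H56.isPseudoCoherent_of_bddAbove_finite_projective E b hv hp m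
  refine ⟨⟨fun h => Groth.Agent.H56.isPseudoCoherent'_of_forall_isPseudoCoherent K h, ?_⟩,
    ⟨fun h => ?_, ?_⟩⟩
  · rintro ⟨E, b, hv, hf, ⟨e⟩⟩ m
    exact Groth.Agent.H56.isPseudoCoherent_of_iso e m
      (T1 E b hv (Groth.Agent.H56.termwiseFiniteProjective_of_free hf) m)
  · obtain ⟨E, b, hv, hf, he⟩ := Groth.Agent.H56.isPseudoCoherent'_of_forall_isPseudoCoherent K h
    exact ⟨E, b, hv, Groth.Agent.H56.termwiseFiniteProjective_of_free hf, he⟩
  · rintro ⟨E, b, hv, hp, ⟨e⟩⟩ m
    exact Groth.Agent.H56.isPseudoCoherent_of_iso e m (T1 E b hv hp m)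

end Groth.Agent.S2066
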