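import Groth.Statements.S6292
import Mathlib.RingTheory.FiniteLength
import Mathlib.RingTheory.Length
import Mathlib.RingTheory.Finiteness.Ideal
import Mathlib.Algebra.Module.Torsion.Basic

set_option autoImplicit false
universe u
open CAlg

namespace Groth.Agent.S6292

theorem aux {R : Type u} [CommRing R] (m : Ideal R) [m.IsMaximal] (hm : m.FG) (n : ℕ) :
    ∀ (M : Type u) [AddCommGroup M] [Module R M] [Module.Finite R M],
      m ^ n • (⊤ : Submodule R M) = ⊥ → Module.length R M ≠ ⊤ := by
  induction n with
  | zero =>
    intro M _ _ _ h
    rw [pow_zero, Ideal.one_eq_top, Submodule.top_smul] at h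
    have : Subsingleton M := by
      constructor
      intro a b
      have ha : a ∈ (⊤ : Submodule R M) := trivial
      have hb : b ∈ (⊤ : Submodule R M) := trivial
      rw [h] at ha hb
      rw [(Submodule.mem_bot R).1 ha, (Submodule.mem_bot R).1 hb]
    rw [Module.length_eq_zero]
    exact ENat.zero_ne_top
  | succ n ih =>
    intro M _ _ _ h
    set N : Submodule R M := m • (⊤ : Submodule R M) with hN
    have hNfg : N.FG := Submodule.FG.smul hm (Module.Finite.fg_top)
    haveI : Module.Finite R N := Module.Finite.iff_fg.2 hNfg
    have h1 : m ^ n • (⊤ : Submodule R N) = ⊥ := by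
      apply Submodule.map_injective_of_injective N.subtype_injective
      rw [Submodule.map_smul'', Submodule.map_top, Submodule.range_subtype, Submodule.map_bot, hN,
        ← mul_smul, ← pow_succ, h]
    have hlN := ih N h1
    -- the quotient
    letI : Field (R ⧸ m) := Ideal.Quotient.field m
    have hQ : Module.length R (M ⧸ N) ≠ ⊤ := by
      have : Module.length R (M ⧸ N) = Module.length (R ⧸ m) (M ⧸ N) :=
        Module.length_eq_of_surjective Ideal.Quotient.mk_surjective
      rw [this]
      haveI : Module.Finite (R ⧸ m) (M ⧸ N) := Module.Finite.of_restrictScalars_finite R _ _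
      rw [Module.length_eq_finrank]
      exact ENat.natCast_ne_top _
    rw [Module.length_eq_add_of_exact N.subtype N.mkQ N.subtype_injective
      (Submodule.mkQ_surjective _) (LinearMap.exact_subtype_mkQ N)]
    exact WithTop.add_ne_top.2 ⟨hlN, hQ⟩

/-- Let R be a ring and m ⊆ R a finitely generated maximal ideal (for instance R Noetherian). If M is a
finite R-module with mⁿM = 0 for some n, then M has finite length. -/
theorem result {R : Type u} [CommRing R] (m : Ideal R) [m.IsMaximal] (hm : m.FG) (M : Type u) [AddCommGroup M] [Module R M] [Module.Finite R M] (n : ℕ) (hn : m ^ n • (⊤ : Submodule R M) = ⊥) : IsFiniteLength R M := by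
  rw [← Module.length_ne_top_iff]
  exact aux m hm n M hn

end Groth.Agent.S6292
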