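import Groth.Statements.S12451
import Groth.Agent.H8.LocFreeStalk

set_option autoImplicit false
universe u
open CategoryTheory AlgebraicGeometry
open Props

namespace Groth.Agent.S12451

section Helpers
open CategoryTheory CategoryTheory.Limits AlgebraicGeometry TopologicalSpace Opposite
open Groth.Agent.H8

theorem finite_projective_of_isFinLocFree {R : CommRingCat.{u}} (M : ModuleCat.{u} R)
    (h : FlatMod.IsFinLocFree (tilde M)) : Module.Finite R M ∧ Module.Projective R M := by
  obtain ⟨hfp, hproj⟩ :=
    finitePresentation_projective_sections_of_isFinLocFree (tilde M) h (isAffineOpen_top (Spec R))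
  have hbij : Function.Bijective (algebraMap R Γ(Spec R, ⊤)) :=
    ConcreteCategory.bijective_of_isIso (Scheme.ΓSpecIso R).inv
  let eA : R ≃ₗ[R] Γ(Spec R, ⊤) := LinearEquiv.ofBijective (Algebra.linearMap R Γ(Spec R, ⊤)) hbij
  have : Module.FinitePresentation R Γ(Spec R, ⊤) := Module.FinitePresentation.of_equiv eA
  have : Module.Flat R Γ(Spec R, ⊤) := Module.Flat.of_linearEquiv eA.symm
  have hR : Module.FinitePresentation R Γ(tilde M, ⊤) :=
    Module.FinitePresentation.trans R Γ(tilde M, ⊤) Γ(Spec R, ⊤)
  have hflat : Module.Flat R Γ(tilde M, ⊤) := Module.Flat.trans R Γ(Spec R, ⊤) Γ(tilde M, ⊤)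
  have hprojR : Module.Projective R Γ(tilde M, ⊤) := Module.Flat.projective_of_finitePresentation
  have hfinR : Module.Finite R Γ(tilde M, ⊤) := inferInstance
  exact ⟨@Module.Finite.equiv R _ _ _ _ _ _ _ hfinR (tilde.isoTop M).toLinearEquiv.symm,
    @Module.Projective.of_equiv' R _ _ _ _ _ _ _ hprojR (tilde.isoTop M).toLinearEquiv.symm⟩

set_option backward.isDefEq.respectTransparency false in
theorem isFinLocFree_of_finite_projective {R : CommRingCat.{u}} (M : ModuleCat.{u} R)
    [Module.Finite R M] [Module.Projective R M] : FlatMod.IsFinLocFree (tilde M) := by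
  intro x
  obtain ⟨r, hr, n, ⟨e⟩⟩ := exists_free_away_of_projective M x.asIdeal
  have hU : IsAffineOpen (X := Spec R) (PrimeSpectrum.basicOpen r) := by
    rw [← basicOpen_eq_of_affine]
    exact (isAffineOpen_top (Spec R)).basicOpen _
  refine ⟨PrimeSpectrum.basicOpen r, n, hr, ?_⟩
  let g : M →ₗ[R] Γ(tilde M, PrimeSpectrum.basicOpen r) :=
    (tilde.toOpen M (PrimeSpectrum.basicOpen r)).hom
  haveI : IsLocalizedModule (Submonoid.powers r) g :=
    inferInstanceAs (IsLocalizedModule.Away r (tilde.toOpen M (PrimeSpectrum.basicOpen r)).hom)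
  exact nonempty_restrict_iso_freeMod hU (tilde M) n
    (linearEquivOfIsLocalizedModule (Submonoid.powers r)
      (LocalizedModule.mkLinearMap (Submonoid.powers r) M) g e)

end Helpers

/-- For a commutative ring R and an R-module M, the associated quasi-coherent module M~ on Spec R is a
finite locally free O-module exactly when M is finitely generated and projective over R
(equivalently, a finite locally free R-module). -/
theorem result {R : CommRingCat.{u}} (M : ModuleCat.{u} R) :
    FlatMod.IsFinLocFree (tilde M) ↔ Module.Finite R M ∧ Module.Projective R M := by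
  constructor
  · exact finite_projective_of_isFinLocFree M
  · rintro ⟨h1, h2⟩
    exact isFinLocFree_of_finite_projective M

end Groth.Agent.S12451
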