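import Groth.Statements.S5602
import Mathlib.Algebra.Homology.ShortComplex.HomologicalComplex
import Mathlib.Algebra.Homology.ShortComplex.Exact

set_option autoImplicit false
universe w v u
open CategoryTheory CategoryTheory.Limits
open PCoh

namespace Groth.Agent.S5602

section helpers

variable {C : Type u} [Category.{v} C] [Abelian C] (E : CochainComplex C ℤ) (n : ℤ)

/-- Objects of the augmented truncation `0 → Zⁿ → Eⁿ → Eⁿ⁺¹ → ⋯`. -/
noncomputable def X' : ℕ → C
  | 0 => E.cycles (n + ((0 : ℕ) : ℤ))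
  | (j + 1) => E.X (n + (j : ℤ))

/-- Differentials of the augmented truncation. -/
noncomputable def d' : ∀ i : ℕ, X' E n i ⟶ X' E n (i + 1)
  | 0 => E.iCycles (n + ((0 : ℕ) : ℤ))
  | (j + 1) => E.d (n + (j : ℤ)) (n + ((j + 1 : ℕ) : ℤ))

theorem sq' : ∀ i : ℕ, d' E n i ≫ d' E n (i + 1) = 0
  | 0 => E.iCycles_d _ _
  | (_ + 1) => E.d_comp_d _ _ _

/-- The augmented truncation as an `ℕ`-indexed cochain complex. -/
noncomputable def K' : CochainComplex C ℕ := CochainComplex.of (X' E n) (d' E n) (sq' E n)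

theorem K'_d (i : ℕ) : (K' E n).d i (i + 1) = d' E n i := CochainComplex.of_d _ _ i

theorem K'_exact0 : (K' E n).ExactAt 0 := by
  rw [HomologicalComplex.exactAt_iff' _ 0 0 1 CochainComplex.prev_nat_zero (by simp)]
  rw [ShortComplex.exact_iff_mono _ ((K' E n).shape 0 0 (by simp))]
  change Mono ((K' E n).d 0 (0 + 1))
  rw [K'_d]
  change Mono (E.iCycles _)
  infer_instance

theorem K'_exact1 : (K' E n).ExactAt 1 := by
  rw [HomologicalComplex.exactAt_iff' _ 0 1 2 (CochainComplex.prev_nat_succ 0) (by simp)]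
  have h := E.cyclesIsKernel (n + ((0 : ℕ) : ℤ)) (n + ((0 + 1 : ℕ) : ℤ)) (by simp)
  have e1 : (K' E n).d 0 1 = E.iCycles (n + ((0 : ℕ) : ℤ)) := K'_d E n 0
  have e2 : (K' E n).d 1 2 = E.d (n + ((0 : ℕ) : ℤ)) (n + ((0 + 1 : ℕ) : ℤ)) := K'_d E n 1
  have hS : (ShortComplex.mk (E.iCycles (n + ((0 : ℕ) : ℤ)))
      (E.d (n + ((0 : ℕ) : ℤ)) (n + ((0 + 1 : ℕ) : ℤ))) (E.iCycles_d _ _)).Exact :=
    ShortComplex.exact_of_f_is_kernel _ h
  have iso : (K' E n).sc' 0 1 2 ≅ ShortComplex.mk (E.iCycles (n + ((0 : ℕ) : ℤ)))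
      (E.d (n + ((0 : ℕ) : ℤ)) (n + ((0 + 1 : ℕ) : ℤ))) (E.iCycles_d _ _) :=
    ShortComplex.isoMk (Iso.refl _) (Iso.refl _) (Iso.refl _)
      (by
        change 𝟙 _ ≫ E.iCycles _ = (K' E n).d 0 1 ≫ 𝟙 _
        rw [e1, Category.id_comp, Category.comp_id])
      (by
        change 𝟙 _ ≫ E.d _ _ = (K' E n).d 1 2 ≫ 𝟙 _
        rw [e2, Category.id_comp, Category.comp_id])
  exact (ShortComplex.exact_iff_of_iso iso).2 hS

theorem K'_exact_succ (hac : ∀ i : ℤ, n < i → IsZero (E.homology i)) (j : ℕ) :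
    (K' E n).ExactAt (j + 2) := by
  rw [HomologicalComplex.exactAt_iff' _ (j + 1) (j + 2) (j + 3)
    (CochainComplex.prev_nat_succ (j + 1)) (by simp)]
  have h := hac (n + ((j + 1 : ℕ) : ℤ)) (by push_cast; omega)
  rw [← HomologicalComplex.exactAt_iff_isZero_homology,
    HomologicalComplex.exactAt_iff' _ (n + (j : ℤ)) (n + ((j + 1 : ℕ) : ℤ))
      (n + ((j + 1 + 1 : ℕ) : ℤ)) (by simp; omega) (by simp; omega)] at h
  have e1 : (K' E n).d (j + 1) (j + 2) = E.d (n + (j : ℤ)) (n + ((j + 1 : ℕ) : ℤ)) :=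
    K'_d E n (j + 1)
  have e2 : (K' E n).d (j + 2) (j + 3) =
      E.d (n + ((j + 1 : ℕ) : ℤ)) (n + ((j + 1 + 1 : ℕ) : ℤ)) := K'_d E n (j + 2)
  have iso : (K' E n).sc' (j + 1) (j + 2) (j + 3) ≅
      E.sc' (n + (j : ℤ)) (n + ((j + 1 : ℕ) : ℤ)) (n + ((j + 1 + 1 : ℕ) : ℤ)) :=
    ShortComplex.isoMk (Iso.refl _) (Iso.refl _) (Iso.refl _)
      (by
        change 𝟙 _ ≫ E.d _ _ = (K' E n).d (j + 1) (j + 2) ≫ 𝟙 _
        rw [e1, Category.id_comp, Category.comp_id])
      (by
        change 𝟙 _ ≫ E.d _ _ = (K' E n).d (j + 2) (j + 3) ≫ 𝟙 _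
        rw [e2, Category.id_comp, Category.comp_id])
  exact (ShortComplex.exact_iff_of_iso iso).2 h

end helpers

/-- Let C be an abelian category and C₀ a class of objects, closed under isomorphisms and quasi-stable
under kernels of epimorphisms. If E is strictly n-pseudo-coherent (bounded above, terms in C₀ from
degree n on) and H^i(E) = 0 for i > n, then H^n(E) is of C₀-finite type. -/
theorem result {C : Type u} [Category.{v} C] [Abelian C]
    (P : ObjectProperty C) [P.IsClosedUnderIsomorphisms] (hqs : PCoh.IsQuasiStableUnderKernels P)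
    (n : ℤ) (E : CochainComplex C ℤ) (hE : PCoh.IsStrictPC P n E)
    (hac : ∀ i : ℤ, n < i → IsZero (E.homology i)) :
    PCoh.IsOfFiniteType P (E.homology n) := by
  obtain ⟨⟨b, hb⟩, hP⟩ := hE
  have hK : PCoh.IsOfFiniteType P ((K' E n).X 0) := by
    apply hqs (K' E n)
    · intro i
      match i with
      | 0 => exact K'_exact0 E n
      | 1 => exact K'_exact1 E n
      | (j + 2) => exact K'_exact_succ E n hac j
    · refine ⟨(b - n).toNat + 1, ?_⟩
      intro i hi
      match i with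
      | 0 => omega
      | (j + 1) =>
        apply hb
        have := Int.self_le_toNat (b - n)
        omega
    · intro i hi
      match i with
      | 0 => omega
      | (j + 1) =>
        apply hP
        omega
  change PCoh.IsOfFiniteType P (E.cycles (n + ((0 : ℕ) : ℤ))) at hK
  have h0 : n + ((0 : ℕ) : ℤ) = n := by simp
  rw [h0] at hK
  obtain ⟨E₀, π, hE₀, hπ⟩ := hK
  exact ⟨E₀, π ≫ E.homologyπ n, hE₀, epi_comp _ _⟩

end Groth.Agent.S5602
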