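import Groth.Statements.S5597
import Groth.Agent.H33.PCohCell

set_option autoImplicit false
universe w v u
open CategoryTheory CategoryTheory.Limits
open PCoh

namespace Groth.Agent.S5597

/-- Punctual site: let C be an abelian category and C₀ a strictly full additive subcategory,
quasi-stable under kernels of epimorphisms and quasi-liftable. If F is strictly n-pseudo-coherent
(bounded above, terms in C₀ from degree n on) and u : E ⟶ F is a quasi-isomorphism of cochain
complexes, then E receives a quasi-isomorphism from some strictly n-pseudo-coherent complex. -/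
theorem result {C : Type u} [Category.{v} C] [Abelian C]
    (P : ObjectProperty C) [P.IsClosedUnderIsomorphisms] [P.ContainsZero] (hsum : ∀ X Y : C, P X → P Y → P (X ⨯ Y))
    (hqs : PCoh.IsQuasiStableUnderKernels P) (hql : PCoh.IsQuasiLiftable P)
    (n : ℤ) (E F : CochainComplex C ℤ) (hF : PCoh.IsStrictPC P n F) (u : E ⟶ F) (hu : QuasiIso u) :
    ∃ (F' : CochainComplex C ℤ) (v : F' ⟶ E), PCoh.IsStrictPC P n F' ∧ QuasiIso v := by
  obtain ⟨G, v, b, hbn, hGP, hGz, hv⟩ :=
    Groth.Agent.H33.PCoh.exists_perfect_nqi P hsum hqs hql n hF u hu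
  obtain ⟨hv1, hv2⟩ := hv
  obtain ⟨E', j, v', hfac, hq, hm, hiso⟩ := Groth.Agent.H33.PCoh.factor_nqis n v hv1 hv2
  refine ⟨E', v', ⟨⟨b, fun i hi => ?_⟩, fun i hi => ?_⟩, hq⟩
  · have := hiso i (by omega)
    exact IsZero.of_iso (hGz i (Or.inr hi)) (asIso (j.f i)).symm
  · have := hiso i hi
    exact P.prop_of_iso (asIso (j.f i)) (hGP i)

end Groth.Agent.S5597
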