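import Groth.Statements.S9350
import Groth.Agent.H8.FlatTensor
import Groth.Agent.H8.PullbackStalk

set_option autoImplicit false
universe u
open FlatMod

namespace Groth.Agent.S9350

open AlgebraicGeometry CategoryTheory in
/-- Let h : X → Y be a morphism of S-schemes, q : Y → S, G a quasi-coherent O_Y-module and x ∈ X with h
flat at x. Flatness of G over S at h x is equivalent to flatness of h^*G over S at x. -/
theorem result {X Y S : Scheme.{u}} (h : X ⟶ Y) (q : Y ⟶ S)
    (G : Y.Modules) (hG : Coh.IsQCoh G) (x : X) (hflat : (h.stalkMap x).hom.Flat) :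
    FlatMod.IsFlatOverAt q G (h.base x) ↔ FlatMod.IsFlatOverAt (h ≫ q) ((Scheme.Modules.pullback h).obj G) x := by
  haveI : G.IsQuasicoherent := hG
  obtain ⟨E⟩ := Groth.Agent.H8.nonempty_stalk_pullback_equiv h G x
  letI aAB : Algebra (S.presheaf.stalk (q (h x))) (Y.presheaf.stalk (h x)) :=
    (q.stalkMap (h x)).hom.toAlgebra
  letI aBC : Algebra (Y.presheaf.stalk (h x)) (X.presheaf.stalk x) := (h.stalkMap x).hom.toAlgebra
  letI aAC : Algebra (S.presheaf.stalk (q (h x))) (X.presheaf.stalk x) :=
    ((h ≫ q).stalkMap x).hom.toAlgebra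
  haveI t1 : IsScalarTower (S.presheaf.stalk (q (h x))) (Y.presheaf.stalk (h x))
      (X.presheaf.stalk x) :=
    IsScalarTower.of_algebraMap_eq' (congrArg CommRingCat.Hom.hom (Scheme.Hom.stalkMap_comp h q x))
  letI mAM : Module (S.presheaf.stalk (q (h x))) (G.presheaf.stalk (h x)) :=
    Module.compHom _ (q.stalkMap (h x)).hom
  haveI t2 : IsScalarTower (S.presheaf.stalk (q (h x))) (Y.presheaf.stalk (h x))
      (G.presheaf.stalk (h x)) := IsScalarTower.of_algebraMap_smul fun r m => rfl
  haveI : IsLocalHom (algebraMap (Y.presheaf.stalk (h x)) (X.presheaf.stalk x)) :=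
    (inferInstance : IsLocalHom (h.stalkMap x).hom)
  haveI : Module.Flat (Y.presheaf.stalk (h x)) (X.presheaf.stalk x) := hflat
  haveI : Module.FaithfullyFlat (Y.presheaf.stalk (h x)) (X.presheaf.stalk x) :=
    Module.FaithfullyFlat.of_flat_of_isLocalHom
  letI mAM' : Module (S.presheaf.stalk (q (h x)))
      (((Scheme.Modules.pullback h).obj G).presheaf.stalk x) :=
    Module.compHom _ ((h ≫ q).stalkMap x).hom
  haveI t3 : IsScalarTower (S.presheaf.stalk (q (h x))) (X.presheaf.stalk x)
      (((Scheme.Modules.pullback h).obj G).presheaf.stalk x) :=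
    IsScalarTower.of_algebraMap_smul fun r m => rfl
  show Module.Flat (S.presheaf.stalk (q (h x))) (G.presheaf.stalk (h x)) ↔
    Module.Flat (S.presheaf.stalk (q (h x))) (((Scheme.Modules.pullback h).obj G).presheaf.stalk x)
  rw [Module.Flat.equiv_iff (E.restrictScalars (S.presheaf.stalk (q (h x))))]
  constructor
  · intro hM
    exact Groth.Agent.H8.flat_tensor_of_flat _ (Y.presheaf.stalk (h x)) _ _
  · intro hM
    exact Groth.Agent.H8.flat_of_flat_tensor_of_faithfullyFlat _ (Y.presheaf.stalk (h x))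
      (X.presheaf.stalk x) _

end Groth.Agent.S9350
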