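import Groth.Statements.S5484
import Mathlib.LinearAlgebra.RootSystem.Finite.Nondegenerate
import Mathlib.LinearAlgebra.Matrix.PosDef
import Mathlib.Analysis.Matrix.PosDef
import Mathlib.Algebra.Order.Star.Real
import Mathlib.LinearAlgebra.Matrix.DotProduct
import Mathlib.LinearAlgebra.Matrix.ToLinearEquiv

set_option autoImplicit false
open RootD

namespace Groth.Agent.S5484

open scoped Matrix

open Classical in
/-- Every principal minor of the Cartan matrix (a_{α,β} = (α^v, β), α, β simple) is strictly positive. -/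
theorem result {ι M N : Type*} [AddCommGroup M] [AddCommGroup N]
    (P : RootPairing ι ℤ M N) [Finite ι] (Δ : Finset ι) (hΔ : RootD.IsSimpleSys P (↑Δ : Set ι))
    (Δ' : Finset ι) (hsub : Δ' ⊆ Δ) :
    0 < Matrix.det (Matrix.of fun (a b : ↥Δ') => P.pairing (b : ι) (a : ι)) := by
  let _ : Fintype ι := Fintype.ofFinite ι
  have hrefl : Module.IsReflexive ℤ M := .of_isPerfPair P.toLinearMap
  have hsymm : ∀ x y : M, P.RootForm x y = P.RootForm y x := fun x y => by
    have := P.rootForm_symmetric.eq x y
    simpa using this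
  have h2 : ∀ i j : ι, 2 * P.RootForm (P.root i) (P.root j) =
      P.pairing i j * P.RootForm (P.root j) (P.root j) := by
    intro i j
    have := P.toInvariantForm.two_mul_apply_root_root i j
    simpa [RootPairing.toInvariantForm_form] using this
  have hpos : ∀ i : ι, 0 < P.RootForm (P.root i) (P.root i) := fun i =>
    P.rootForm_pos_of_ne_zero (Submodule.subset_span (Set.mem_range_self i)) (P.ne_zero i)
  have hli : LinearIndependent ℤ (fun a : ↥Δ' => P.root a) :=
    hΔ.linInd.mono (show (↑Δ' : Set ι) ⊆ ↑Δ from by exact_mod_cast hsub)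
  set C : Matrix ι ↥Δ' ℤ := Matrix.of fun i a => P.pairing (a : ι) i with hC
  have hinj : Function.Injective C.mulVec := by
    intro v v' hvv'
    rw [← sub_eq_zero]
    have h0 : C *ᵥ (v - v') = 0 := by rw [Matrix.mulVec_sub, hvv', sub_self]
    set u := v - v' with hu
    set w : M := ∑ a, u a • P.root a with hw
    have hcw : ∀ i, P.coroot' i w = 0 := by
      intro i
      have := congrFun h0 i
      simp only [Matrix.mulVec, dotProduct, hC, Matrix.of_apply, Pi.zero_apply] at this
      rw [hw, map_sum]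
      simp only [map_smul, smul_eq_mul, P.root_coroot'_eq_pairing]
      rw [← this]
      exact Finset.sum_congr rfl fun a _ => mul_comm _ _
    have hww : P.RootForm w w = 0 := by
      rw [P.rootForm_apply_apply]
      simp [hcw]
    have hwmem : w ∈ P.rootSpan ℤ := Submodule.sum_mem _ fun a _ =>
      Submodule.smul_mem _ _ (Submodule.subset_span (Set.mem_range_self _))
    have hw0 : w = 0 := P.eq_zero_of_mem_rootSpan_of_rootForm_self_eq_zero hwmem hww
    have := (Fintype.linearIndependent_iff.1 hli) u hw0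
    funext a
    exact this a
  set K : Matrix ↥Δ' ↥Δ' ℤ := Cᵀ * C with hK
  have hKdet : K.det ≠ 0 := by
    intro h0
    obtain ⟨v, hv, hKv⟩ := Matrix.exists_mulVec_eq_zero_iff.2 h0
    apply hv
    apply hinj
    rw [Matrix.mulVec_zero, ← dotProduct_self_eq_zero]
    have : (C *ᵥ v) ⬝ᵥ (C *ᵥ v) = v ⬝ᵥ (K *ᵥ v) := by
      rw [hK, ← Matrix.mulVec_mulVec, Matrix.mulVec_transpose, Matrix.dotProduct_mulVec,
        dotProduct_comm]
    rw [this, hKv, dotProduct_zero]
  have hKdetpos : 0 < K.det := by
    have h1 : (K.map (Int.castRingHom ℝ)) =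
        (C.map (Int.castRingHom ℝ))ᴴ * (C.map (Int.castRingHom ℝ)) := by
      rw [hK, Matrix.conjTranspose_eq_transpose_of_trivial, Matrix.map_mul, Matrix.transpose_map]
    have hpsd : (K.map (Int.castRingHom ℝ)).PosSemidef := by
      rw [h1]
      exact Matrix.posSemidef_conjTranspose_mul_self _
    have hdet : (K.map (Int.castRingHom ℝ)).det = ((K.det : ℤ) : ℝ) := by
      have := (Int.castRingHom ℝ).map_det K
      simpa [RingHom.mapMatrix_apply] using this.symm
    have h2' : (0 : ℝ) ≤ ((K.det : ℤ) : ℝ) := hdet ▸ hpsd.det_nonneg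
    have h3 : (0 : ℤ) ≤ K.det := by exact_mod_cast h2'
    exact lt_of_le_of_ne h3 (Ne.symm hKdet)
  set A : Matrix ↥Δ' ↥Δ' ℤ := Matrix.of fun a b => P.pairing (b : ι) (a : ι) with hA
  have hDA : Matrix.diagonal (fun a : ↥Δ' => P.RootForm (P.root a) (P.root a)) * A =
      (2 : ℤ) • K := by
    ext a b
    rw [Matrix.diagonal_mul, Matrix.smul_apply, hA, Matrix.of_apply, hK, Matrix.mul_apply]
    simp only [Matrix.transpose_apply, hC, Matrix.of_apply, smul_eq_mul]
    have hab : P.RootForm (P.root a) (P.root b) = ∑ i, P.pairing a i * P.pairing b i := by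
      rw [P.rootForm_apply_apply]
      rfl
    rw [← hab, hsymm (P.root a) (P.root b), h2]
    ring
  have hdet := congrArg Matrix.det hDA
  rw [Matrix.det_mul, Matrix.det_diagonal, Matrix.det_smul] at hdet
  have hprod : 0 < ∏ a : ↥Δ', P.RootForm (P.root a) (P.root a) :=
    Finset.prod_pos fun a _ => hpos a
  have hpos' : 0 < (∏ a : ↥Δ', P.RootForm (P.root a) (P.root a)) * A.det := by
    rw [hdet]
    positivity
  exact (mul_pos_iff_of_pos_left hprod).1 hpos'

end Groth.Agent.S5484
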