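import Groth.Statements.S14104
import Groth.Agent.H29.DepthChange
import Groth.Agent.H9.FiberStalk
set_option maxHeartbeats 400000
set_option linter.style.haveILetI false

set_option autoImplicit false
universe u
open CategoryTheory CategoryTheory.Limits AlgebraicGeometry Opposite TopologicalSpace
open CInt

namespace Groth.Agent.S14104

open TensorProduct IsLocalRing Groth.Agent.H15.Depth Groth.Agent.H15.DepthSpread in
theorem local_key {A B F : Type u} [CommRing A] [CommRing B] [CommRing F] [IsLocalRing A]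
    [IsLocalRing B] [IsLocalRing F] [IsNoetherianRing A] [IsNoetherianRing B] (φ : A →+* B)
    [IsLocalHom φ] (hflat : φ.Flat)
    (e : (B ⧸ Ideal.map φ (maximalIdeal A)) ≃+* F) (d : ℕ)
    (hd : (d : ℕ∞) ≤ LocCoh.depth F F) : (d : ℕ∞) ≤ LocCoh.depth B B := by
  letI : Algebra A B := φ.toAlgebra
  haveI : IsLocalHom (algebraMap A B) := ‹IsLocalHom φ›
  haveI : Module.Flat A B := hflat
  have hFne := Groth.Agent.H29.maximalIdeal_smul_top_ne_top F F
  have h1 : HasSeq (maximalIdeal F) F d := (le_idealDepth_iff hFne d).mp hd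
  have e' : EGA4.FibRing A B ≃+* F := e
  have h2 : HasSeq (maximalIdeal (EGA4.FibRing A B)) (EGA4.FibRing A B) d :=
    Groth.Agent.H29.DepthChange.hasSeq_ringEquiv e'.symm d h1
  have hsurj : Function.Surjective (algebraMap B (EGA4.FibRing A B)) :=
    Ideal.Quotient.mk_surjective
  have h3 : HasSeq (maximalIdeal B) (EGA4.FibRing A B) d :=
    (Groth.Agent.H29.DepthChange.hasSeq_maximalIdeal_iff_of_surjective hsurj d _).mp h2
  have hsmul : (EGA4.mB A B • (⊤ : Submodule B B)) = EGA4.mB A B := by simp
  have h4 : HasSeq (maximalIdeal B) (EGA4.FibMod A B B) d :=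
    h3.congr (Submodule.quotEquivOfEq _ _ hsmul).symm
  have h5 : (d : ℕ∞) ≤ LocCoh.depth B (EGA4.FibMod A B B) := le_idealDepth_of_hasSeq h4
  have h6 := Groth.Agent.H29.FlatDepthMod.depth_tensor (R := A) (S := B) A B
  have h7 : LocCoh.depth B B = LocCoh.depth B (B ⊗[A] A) :=
    (idealDepth_congr (I := maximalIdeal B) (AlgebraTensorModule.rid A B B)).symm
  rw [h7, h6]
  exact h5.trans le_add_self


/-- Let f : X → S be a flat morphism of locally Noetherian schemes, Y a closed subset of X and d a
natural number. If for every point y of Y the local ring at y of the fibre of f through y has depth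
at least d (the depth of O_{X_s} along Y_s is at least d for every s), then for every y ∈ Y the
local ring O_{X,y} has depth at least d (the depth of O_X along Y is at least d). -/
theorem result {X S : Scheme.{u}} [IsLocallyNoetherian X] [IsLocallyNoetherian S]
    (f : X ⟶ S) [Flat f] (Y : Set ↥X) (hY : IsClosed Y) (d : ℕ)
    (h : ∀ y : ↥X, y ∈ Y → (d : ℕ∞) ≤ LocCoh.depth ↑(CInt.fiberStalk f y) ↑(CInt.fiberStalk f y)) :
    ∀ y : ↥X, y ∈ Y → (d : ℕ∞) ≤ LocCoh.depth ↑(X.presheaf.stalk y) ↑(X.presheaf.stalk y) := by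
  intro y hy
  have hfib := h y hy
  have key : ∀ (s : S) (y' : ↥(f.fiber s)),
      (d : ℕ∞) ≤ LocCoh.depth ↑((f.fiber s).presheaf.stalk y')
        ↑((f.fiber s).presheaf.stalk y') →
      (d : ℕ∞) ≤ LocCoh.depth ↑(X.presheaf.stalk ((f.fiberι s).base y'))
        ↑(X.presheaf.stalk ((f.fiberι s).base y')) := by
    intro s y' hd
    exact local_key (f.stalkMap ((f.fiberι s).base y')).hom
      (AlgebraicGeometry.Flat.stalkMap f ((f.fiberι s).base y'))
      (Groth.Agent.H9.fiberStalkEquiv f s y') d hd
  have h1 := key (f.base y) (f.asFiber y) hfib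
  have e : (f.fiberι (f.base y)).base (f.asFiber y) = y := f.fiberι_asFiber y
  exact e ▸ h1

end Groth.Agent.S14104
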