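import Groth.Statements.S4718
import Groth.Agent.S2669
import Groth.Agent.H29.FinDimDepth
import Groth.Agent.H29.CM

set_option autoImplicit false
universe u
open EGA4

namespace Groth.Agent.S4718

open IsLocalRing

/-- For a nonzero finite module over a local ring, localizing at the maximal ideal does not change
the dimension of the support. -/
theorem supportDim_atMax (A : Type u) [CommRing A] [IsLocalRing A] (M : Type u) [AddCommGroup M]
    [Module A M] [Nontrivial M] :
    Module.supportDim (Localization.AtPrime (maximalIdeal A))
      (LocalizedModule (maximalIdeal A).primeCompl M) = Module.supportDim A M := by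
  obtain ⟨p, hp⟩ := Module.nonempty_support_of_nontrivial (R := A) (M := M)
  have hpm : p ≤ closedPoint A := by
    show p.asIdeal ≤ (closedPoint A).asIdeal
    exact IsLocalRing.le_maximalIdeal p.2.ne_top
  have hm : closedPoint A ∈ Module.support A M := Module.mem_support_mono hpm hp
  have h := Groth.Agent.H29.FinDimDepth.supportDim_atPrime_eq_height (M := M) (closedPoint A) hm
  have h' : Module.supportDim (Localization.AtPrime (maximalIdeal A))
      (LocalizedModule (maximalIdeal A).primeCompl M) =
      ((Order.height (⟨closedPoint A, hm⟩ : ↥(Module.support A M)) : ℕ∞) : WithBot ℕ∞) := h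
  rw [h']
  show _ = Order.krullDim ↥(Module.support A M)
  apply le_antisymm (Order.height_le_krullDim _)
  rw [Order.krullDim_eq_iSup_height]
  refine iSup_le (fun a => ?_)
  have ha : a ≤ (⟨closedPoint A, hm⟩ : ↥(Module.support A M)) := by
    show a.1.asIdeal ≤ (closedPoint A).asIdeal
    exact IsLocalRing.le_maximalIdeal a.1.2.ne_top
  exact_mod_cast Order.height_mono ha

end Groth.Agent.S4718

namespace Groth.Agent.S4718

/-- Let A be a Noetherian local ring, B a Noetherian ring, A → B a ring homomorphism and M a nonzero
B-module which is finite as an A-module. Then M is a Cohen–Macaulay A-module if and only if, for all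
primes q of B lying over the maximal ideal of A and belonging to the support of M, the B_q-module
M_q is Cohen–Macaulay and all these modules M_q have the same dimension. -/
theorem result (A B : Type u) [CommRing A] [CommRing B]
    [IsNoetherianRing A] [IsLocalRing A] [IsNoetherianRing B] [Algebra A B]
    (M : Type u) [AddCommGroup M] [Module B M] [Module A M] [IsScalarTower A B M] [Module.Finite A M]
    [Nontrivial M] :
    LocCoh.IsCohenMacaulayModule A M ↔
      (∀ q ∈ {q : PrimeSpectrum B | q.asIdeal.comap (algebraMap A B) = IsLocalRing.maximalIdeal A ∧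
          q ∈ Module.support B M},
        LocCoh.IsCohenMacaulayModule (Localization.AtPrime q.asIdeal) (LocalizedModule q.asIdeal.primeCompl M)) ∧
      (∀ q ∈ {q : PrimeSpectrum B | q.asIdeal.comap (algebraMap A B) = IsLocalRing.maximalIdeal A ∧
          q ∈ Module.support B M},
        ∀ q' ∈ {q : PrimeSpectrum B | q.asIdeal.comap (algebraMap A B) = IsLocalRing.maximalIdeal A ∧
          q ∈ Module.support B M},
          Module.supportDim (Localization.AtPrime q.asIdeal) (LocalizedModule q.asIdeal.primeCompl M) =
            Module.supportDim (Localization.AtPrime q'.asIdeal) (LocalizedModule q'.asIdeal.primeCompl M)) := by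
  classical
  haveI : Module.Finite B M := Module.Finite.of_restrictScalars_finite A B M
  have hdim : Module.supportDim A M =
      ⨆ q ∈ {q : PrimeSpectrum B | q.asIdeal.comap (algebraMap A B) = IsLocalRing.maximalIdeal A ∧
          q ∈ Module.support B M},
        Module.supportDim (Localization.AtPrime q.asIdeal)
          (LocalizedModule q.asIdeal.primeCompl M) := by
    rw [← supportDim_atMax A M]
    exact Groth.Agent.H29.FinDimDepth.supportDim_atPrime_eq_iSup (B := B)
      (IsLocalRing.maximalIdeal A)
  have hdep : LocCoh.depth A M =
      ⨅ q ∈ {q : PrimeSpectrum B | q.asIdeal.comap (algebraMap A B) = IsLocalRing.maximalIdeal A ∧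
          q ∈ Module.support B M},
        LocCoh.depth (Localization.AtPrime q.asIdeal)
          (LocalizedModule q.asIdeal.primeCompl M) :=
    Groth.Agent.H29.FinDimDepth.depth_eq_iInf_of_isLocalRing (B := B) M
  have hle : ∀ q ∈ {q : PrimeSpectrum B | q.asIdeal.comap (algebraMap A B) =
      IsLocalRing.maximalIdeal A ∧ q ∈ Module.support B M},
      ((LocCoh.depth (Localization.AtPrime q.asIdeal)
        (LocalizedModule q.asIdeal.primeCompl M) : ℕ∞) : WithBot ℕ∞) ≤
      Module.supportDim (Localization.AtPrime q.asIdeal)
        (LocalizedModule q.asIdeal.primeCompl M) := by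
    intro q hq
    haveI : Nontrivial (LocalizedModule q.asIdeal.primeCompl M) := Module.mem_support_iff.mp hq.2
    exact Groth.Agent.H29.CM.depth_le_supportDim
  have hne : {q : PrimeSpectrum B | q.asIdeal.comap (algebraMap A B) =
      IsLocalRing.maximalIdeal A ∧ q ∈ Module.support B M}.Nonempty := by
    by_contra hcon
    rw [Set.not_nonempty_iff_eq_empty] at hcon
    obtain ⟨n, hn⟩ := Groth.Agent.H29.CM.exists_nat_supportDim (A := A) (M := M)
    rw [hdim, hcon] at hn
    simp at hn
  constructor
  · intro hCM
    have hCM' : Module.supportDim A M = ((LocCoh.depth A M : ℕ∞) : WithBot ℕ∞) := hCM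
    have hall : ∀ q ∈ {q : PrimeSpectrum B | q.asIdeal.comap (algebraMap A B) =
        IsLocalRing.maximalIdeal A ∧ q ∈ Module.support B M},
        Module.supportDim (Localization.AtPrime q.asIdeal)
          (LocalizedModule q.asIdeal.primeCompl M) = Module.supportDim A M ∧
        Module.supportDim (Localization.AtPrime q.asIdeal)
          (LocalizedModule q.asIdeal.primeCompl M) =
          ((LocCoh.depth (Localization.AtPrime q.asIdeal)
            (LocalizedModule q.asIdeal.primeCompl M) : ℕ∞) : WithBot ℕ∞) := by
      intro q hq
      have h1 : Module.supportDim (Localization.AtPrime q.asIdeal)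
          (LocalizedModule q.asIdeal.primeCompl M) ≤ Module.supportDim A M := by
        rw [hdim]
        exact le_iSup₂ (f := fun (q : PrimeSpectrum B) (_ : q ∈ {q : PrimeSpectrum B |
          q.asIdeal.comap (algebraMap A B) = IsLocalRing.maximalIdeal A ∧
          q ∈ Module.support B M}) => Module.supportDim (Localization.AtPrime q.asIdeal)
          (LocalizedModule q.asIdeal.primeCompl M)) q hq
      have h2 : LocCoh.depth A M ≤ LocCoh.depth (Localization.AtPrime q.asIdeal)
          (LocalizedModule q.asIdeal.primeCompl M) := by
        rw [hdep]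
        exact iInf₂_le q hq
      have h3 : ((LocCoh.depth A M : ℕ∞) : WithBot ℕ∞) ≤
          ((LocCoh.depth (Localization.AtPrime q.asIdeal)
            (LocalizedModule q.asIdeal.primeCompl M) : ℕ∞) : WithBot ℕ∞) :=
        WithBot.coe_le_coe.mpr h2
      have h4 := hle q hq
      refine ⟨le_antisymm h1 ?_, le_antisymm ?_ h4⟩
      · rw [hCM']; exact h3.trans h4
      · exact h1.trans (hCM'.le.trans h3)
    exact ⟨fun q hq => (hall q hq).2, fun q hq q' hq' => (hall q hq).1.trans (hall q' hq').1.symm⟩
  · rintro ⟨hcm, heq⟩
    obtain ⟨q0, hq0⟩ := hne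
    have hD : Module.supportDim A M = Module.supportDim (Localization.AtPrime q0.asIdeal)
        (LocalizedModule q0.asIdeal.primeCompl M) := by
      rw [hdim]
      refine le_antisymm (iSup₂_le (fun q hq => (heq q hq q0 hq0).le)) ?_
      exact le_iSup₂ (f := fun (q : PrimeSpectrum B) (_ : q ∈ {q : PrimeSpectrum B |
        q.asIdeal.comap (algebraMap A B) = IsLocalRing.maximalIdeal A ∧
        q ∈ Module.support B M}) => Module.supportDim (Localization.AtPrime q.asIdeal)
        (LocalizedModule q.asIdeal.primeCompl M)) q0 hq0
    have hcm' : ∀ q ∈ {q : PrimeSpectrum B | q.asIdeal.comap (algebraMap A B) =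
        IsLocalRing.maximalIdeal A ∧ q ∈ Module.support B M},
        Module.supportDim (Localization.AtPrime q.asIdeal)
          (LocalizedModule q.asIdeal.primeCompl M) =
          ((LocCoh.depth (Localization.AtPrime q.asIdeal)
            (LocalizedModule q.asIdeal.primeCompl M) : ℕ∞) : WithBot ℕ∞) :=
      fun q hq => hcm q hq
    have hδ : LocCoh.depth A M = LocCoh.depth (Localization.AtPrime q0.asIdeal)
        (LocalizedModule q0.asIdeal.primeCompl M) := by
      rw [hdep]
      refine le_antisymm (iInf₂_le q0 hq0) (le_iInf₂ (fun q hq => ?_))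
      have e : ((LocCoh.depth (Localization.AtPrime q0.asIdeal)
            (LocalizedModule q0.asIdeal.primeCompl M) : ℕ∞) : WithBot ℕ∞) =
          ((LocCoh.depth (Localization.AtPrime q.asIdeal)
            (LocalizedModule q.asIdeal.primeCompl M) : ℕ∞) : WithBot ℕ∞) := by
        rw [← hcm' q0 hq0, ← hcm' q hq]
        exact heq q0 hq0 q hq
      exact (WithBot.coe_injective e).le
    show Module.supportDim A M = ((LocCoh.depth A M : ℕ∞) : WithBot ℕ∞)
    rw [hD, hδ]
    exact hcm' q0 hq0

end Groth.Agent.S4718
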