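import Groth.Statements.S18708
import Groth.Agent.H29.KollarFlat2

set_option maxHeartbeats 400000
set_option linter.style.haveILetI false
open Groth.Agent.H29.KollarFlat Groth.Agent.H15.DepthSpread Function

set_option autoImplicit false
universe u
open QGor

namespace Groth.Agent.S18708

/-- Affine-local form at a point of the equivalence (b) ⇔ (c) ⇔ (b″) and of the note after it. Let A → B
be a local homomorphism of Noetherian local rings, m the maximal ideal of A, J an ideal of B and 0 →
F → E⁰ → E¹ → G → 0 an exact sequence of finite B-modules with E⁰, E¹ flat over A, G_q flat over A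
for every prime q not containing J, depth_J (E⁰/mE⁰) ≥ 2 and depth_J (E¹/mE¹) ≥ 1. Then depth_J
(F/mF) ≥ 2 (the restriction map of the closed fibre of F off V(J) is bijective) if and only if G is
flat over A, if and only if depth_J (F/m^(n+1)F) ≥ 2 for all n; and when G is flat over A so is F. -/
theorem result (A B : Type u) [CommRing A] [CommRing B]
    [IsNoetherianRing A] [IsNoetherianRing B] [IsLocalRing A] [IsLocalRing B] [Algebra A B]
    [IsLocalHom (algebraMap A B)] (J : Ideal B)
    (F E0 E1 G : Type u) [AddCommGroup F] [Module B F] [Module A F] [IsScalarTower A B F] [Module.Finite B F]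
    [AddCommGroup E0] [Module B E0] [Module A E0] [IsScalarTower A B E0] [Module.Finite B E0] [Module.Flat A E0]
    [AddCommGroup E1] [Module B E1] [Module A E1] [IsScalarTower A B E1] [Module.Finite B E1] [Module.Flat A E1]
    [AddCommGroup G] [Module B G] [Module A G] [IsScalarTower A B G] [Module.Finite B G]
    (f : F →ₗ[B] E0) (u : E0 →ₗ[B] E1) (v : E1 →ₗ[B] G)
    (hf : Function.Injective f) (hfu : Function.Exact f u) (huv : Function.Exact u v) (hv : Function.Surjective v)
    (hGU : ∀ q : PrimeSpectrum B, ¬ J ≤ q.asIdeal → FlatCA.FlatAt A q.asIdeal G)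
    (h0 : 2 ≤ LocCoh.idealDepth J (EGA4.FibMod A B E0)) (h1 : 1 ≤ LocCoh.idealDepth J (EGA4.FibMod A B E1)) :
    (2 ≤ LocCoh.idealDepth J (EGA4.FibMod A B F) ↔ Module.Flat A G) ∧
    (Module.Flat A G ↔ ∀ n : ℕ, 2 ≤ LocCoh.idealDepth J (F ⧸ ((EGA4.mB A B) ^ (n + 1) • (⊤ : Submodule B F)))) ∧
    (Module.Flat A G → Module.Flat A F) := by
  have e2 : ((1 + 1 : ℕ) : ℕ∞) = 2 := by norm_num
  have e1 : ((1 : ℕ) : ℕ∞) = 1 := by norm_num
  have e2' : ((2 : ℕ) : ℕ∞) = 2 := by norm_num
  have hι : Injective (LinearMap.ker v).subtype := (LinearMap.ker v).injective_subtype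
  have hβ : Function.Exact (LinearMap.ker v).subtype v := LinearMap.exact_subtype_ker_map v
  obtain ⟨u', hu'E⟩ : ∃ u' : E0 →ₗ[B] LinearMap.ker v, ∀ e, (u' e : E1) = u e :=
    ⟨u.codRestrict (LinearMap.ker v) (fun e => huv.apply_apply_eq_zero e), fun e => rfl⟩
  have hu' : Surjective u' := by
    rintro ⟨y, hy⟩
    obtain ⟨e, he⟩ := (huv y).mp hy
    exact ⟨e, Subtype.ext ((hu'E e).trans he)⟩
  have hα : Function.Exact f u' := by
    intro e
    rw [← hfu e]
    constructor
    · intro h
      rw [← hu'E e, h]
      rfl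
    · intro h
      exact Subtype.ext ((hu'E e).trans h)
  have partI : Module.Flat A G →
      Module.Flat A F ∧ 2 ≤ LocCoh.idealDepth J (EGA4.FibMod A B F) := by
    intro hG
    haveI := hG
    haveI : Module.Flat A (LinearMap.ker v) :=
      flat_of_exact_flat_flat ((LinearMap.ker v).subtype.restrictScalars A)
        (v.restrictScalars A) hι hβ hv
    haveI : Module.Flat A F :=
      flat_of_exact_flat_flat (f.restrictScalars A) (u'.restrictScalars A) hf hα hu'
    refine ⟨inferInstance, ?_⟩
    have hfbar : Injective (fibMap A f) := fibMap_injective_of_flat f u' hf hα hu'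
    have hιbar : Injective (fibMap A (LinearMap.ker v).subtype) :=
      fibMap_injective_of_flat (LinearMap.ker v).subtype v hι hβ hv
    have hQ1 : 1 ≤ LocCoh.idealDepth J (EGA4.FibMod A B (LinearMap.ker v)) :=
      one_le_idealDepth_of_injective J (fibMap A (LinearMap.ker v).subtype) hιbar h1
    have := le_idealDepth_ker J (fibMap A f) (fibMap A u') hfbar (fibMap_exact A f u' hα hu')
      (fibMap_surjective A u' hu') 1 (by rw [e2]; exact h0) (by rw [e1]; exact hQ1)
    rw [e2] at this
    exact this
  have partII : 2 ≤ LocCoh.idealDepth J (EGA4.FibMod A B F) → Module.Flat A G := by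
    intro h2
    have hF1 : 1 ≤ LocCoh.idealDepth J (EGA4.FibMod A B F) := le_trans (by norm_num) h2
    have hQloc : ∀ q : PrimeSpectrum B, ¬ J ≤ q.asIdeal →
        Module.Flat A (LocalizedModule q.asIdeal.primeCompl (LinearMap.ker v)) := by
      intro q hq
      haveI : Module.Flat A (LocalizedModule q.asIdeal.primeCompl G) := hGU q hq
      exact flat_localized_ker (LinearMap.ker v).subtype v hι hβ hv q.asIdeal.primeCompl
    have hfbar : Injective (fibMap A f) :=
      fibMap_injective_of_local J f u' hf hα hu' hF1 hQloc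
    have hQ1 : 1 ≤ LocCoh.idealDepth J (EGA4.FibMod A B (LinearMap.ker v)) := by
      have := le_idealDepth_coker J (fibMap A f) (fibMap A u') hfbar
        (fibMap_exact A f u' hα hu') (fibMap_surjective A u' hu') 1
        (by rw [e1]; exact le_trans (by norm_num) h0) (by rw [e2]; exact h2)
      rw [e1] at this
      exact this
    have hιbar : Injective (fibMap A (LinearMap.ker v).subtype) :=
      fibMap_injective_of_local J (LinearMap.ker v).subtype v hι hβ hv hQ1
        (fun q hq => hGU q hq)
    exact flat_coker_of_fibMap_injective (LinearMap.ker v).subtype v hβ hv hιbar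
  refine ⟨⟨partII, fun hG => (partI hG).2⟩, ⟨fun hG n => ?_, fun h => ?_⟩,
    fun hG => (partI hG).1⟩
  · haveI := (partI hG).1
    have := le_idealDepth_quot_pow J F 2 (by rw [e2']; exact (partI hG).2) (n + 1)
    rw [e2'] at this
    exact this
  · apply partII
    have e : (F ⧸ ((EGA4.mB A B) ^ (0 + 1) • (⊤ : Submodule B F))) ≃ₗ[B] EGA4.FibMod A B F :=
      Submodule.quotEquivOfEq _ _ (by rw [zero_add, pow_one])
    rw [← idealDepth_congr e]
    exact h 0

end Groth.Agent.S18708
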