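import Groth.Statements.S14503
import Mathlib
import Groth.Agent.H46.LatMain

set_option autoImplicit false
set_option linter.style.haveILetI false
universe u
open IntTh

namespace Groth.Agent.S14503

/-- Let A ⊆ B be a module-finite extension of domains with A Noetherian local of Krull dimension one, K
⊆ L their fraction fields, and r ∈ B nonzero. Then B/rB has finite length as an A-module and
length_A(B/rB) equals the order at the closed point of A of the norm N_{L/K}(r), i.e.
length_A(A/(a)) − length_A(A/(b)) for N_{L/K}(r) = a/b. -/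
theorem result (A : Type u) [CommRing A] [IsDomain A]
    [IsNoetherianRing A] [IsLocalRing A] (hA : ringKrullDim A = 1) (B : Type u) [CommRing B]
    [IsDomain B] [Algebra A B] (hinj : Function.Injective (algebraMap A B)) [Module.Finite A B]
    (K L : Type u) [Field K] [Field L] [Algebra A K] [IsFractionRing A K] [Algebra B L]
    [IsFractionRing B L] [Algebra K L] [Algebra A L] [IsScalarTower A B L] [IsScalarTower A K L]
    [FiniteDimensional K L] (r : B) (hr : r ≠ 0) :
    Module.length A (B ⧸ Ideal.span {r}) < ⊤ ∧
      ((Module.length A (B ⧸ Ideal.span {r})).toNat : ℤ) =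
        CycAlg.ordFrac A K (Algebra.norm K (algebraMap B L r)) := by
  classical
  have hBL : Function.Injective (algebraMap B L) := IsFractionRing.injective B L
  set ι : B →ₗ[A] L := (IsScalarTower.toAlgHom A B L).toLinearMap with hι
  have hιapp : ∀ b, ι b = algebraMap B L b := fun b => rfl
  have hιinj : Function.Injective ι := hBL
  set M : Submodule A L := LinearMap.range ι with hM
  haveI : Nontrivial A := inferInstance
  haveI : Algebra.IsIntegral A B := Algebra.IsIntegral.of_finite A B
  -- M is a lattice
  have hMfg : M.FG := by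
    rw [hM, LinearMap.range_eq_map]
    exact (Module.Finite.fg_top (R := A) (M := B)).map ι
  have hMsp : Submodule.span K (M : Set L) = ⊤ := by
    rw [eq_top_iff]
    intro x _
    obtain ⟨b, s, hs, rfl⟩ := IsFractionRing.div_surjective (A := B) x
    have hs0 : s ≠ 0 := nonZeroDivisors.ne_zero hs
    have hne : (Ideal.span {s}).comap (algebraMap A B) ≠ ⊥ :=
      Ideal.comap_ne_bot_of_integral_mem hs0 (Ideal.subset_span rfl)
        (Algebra.IsIntegral.isIntegral s)
    obtain ⟨a, haI, ha0⟩ := Submodule.exists_mem_ne_zero_of_ne_bot hne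
    rw [Ideal.mem_comap, Ideal.mem_span_singleton'] at haI
    obtain ⟨c, hc⟩ := haI
    have haK : algebraMap A K a ≠ 0 := by
      rw [Ne, map_eq_zero_iff _ (IsFractionRing.injective A K)]; exact ha0
    have haL : algebraMap A L a ≠ 0 := by
      rw [IsScalarTower.algebraMap_apply A K L]
      exact (map_ne_zero_iff _ (algebraMap K L).injective).mpr haK
    have hsL : algebraMap B L s ≠ 0 := (map_ne_zero_iff _ hBL).mpr hs0
    have hcs : algebraMap B L c * algebraMap B L s = algebraMap A L a := by
      rw [← map_mul, hc, ← IsScalarTower.algebraMap_apply]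
    have hcL : algebraMap B L c ≠ 0 := fun h0 => haL (by rw [← hcs, h0, zero_mul])
    have hx : algebraMap B L b / algebraMap B L s = (algebraMap A K a)⁻¹ • ι (b * c) := by
      rw [hιapp, Algebra.smul_def, map_inv₀, ← IsScalarTower.algebraMap_apply A K L, ← hcs, map_mul]
      field_simp
    rw [hx]
    exact Submodule.smul_mem _ _ (Submodule.subset_span ⟨b * c, rfl⟩)
  haveI hlat : Submodule.IsLattice K M := ⟨hMfg, hMsp⟩
  -- the automorphism
  set x : L := algebraMap B L r with hx
  have hx0 : x ≠ 0 := (map_ne_zero_iff _ hBL).mpr hr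
  let φ : L ≃ₗ[K] L := LinearEquiv.ofLinearMap (Algebra.lmul K L x) (Algebra.lmul K L x⁻¹)
    (by ext; simp [hx0]) (by ext; simp [hx0])
  have hφapp : ∀ v, φ v = x * v := fun v => rfl
  have hdet : LinearMap.det φ.toLinearMap = Algebra.norm K x := rfl
  have h := Groth.Agent.H46.LatDist.main (A := A) (K := K) (V := L) hA.le M φ
  set M' := M.map (φ.toLinearMap.restrictScalars A) with hM'
  have hM'M : M' ≤ M := by
    rintro _ ⟨_, ⟨b, rfl⟩, rfl⟩
    refine ⟨r * b, ?_⟩
    show ι (r * b) = φ (ι b)
    rw [hφapp, hιapp, hιapp, map_mul]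
  have hinf : M ⊓ M' = M' := inf_eq_right.mpr hM'M
  rw [hinf] at h
  obtain ⟨-, h1, -, h3⟩ := h
  have h0 : Groth.Agent.H46.LatDist.idx M' M' = 0 := by
    unfold Groth.Agent.H46.LatDist.idx
    rw [Module.length_eq_zero_iff, Submodule.Quotient.subsingleton_iff, Submodule.submoduleOf_self]
  -- identify B / rB with M / M'
  have hlen : Module.length A (B ⧸ Ideal.span {r}) = Groth.Agent.H46.LatDist.idx M M' := by
    unfold Groth.Agent.H46.LatDist.idx
    rw [← (Submodule.Quotient.restrictScalarsEquiv A (Ideal.span {r})).length_eq]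
    let e : B ≃ₗ[A] M := LinearEquiv.ofInjective ι hιinj
    have he : ((Ideal.span {r} : Ideal B).restrictScalars A).map (e : B →ₗ[A] M) =
        M'.submoduleOf M := by
      ext ⟨y, hy⟩
      constructor
      · rintro ⟨b, hb, hby⟩
        have hb' : b ∈ Ideal.span {r} := hb
        rw [Ideal.mem_span_singleton'] at hb'
        obtain ⟨c, rfl⟩ := hb'
        have hy' : ι (c * r) = y := congrArg Subtype.val hby
        show y ∈ M'
        refine ⟨ι c, ⟨c, rfl⟩, ?_⟩
        show φ (ι c) = y
        rw [← hy', hφapp, hιapp, hιapp, map_mul, mul_comm]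
      · intro hy'
        have hy'' : y ∈ M' := hy'
        obtain ⟨_, ⟨c, rfl⟩, hcy⟩ := hy''
        refine ⟨r * c, ?_, ?_⟩
        · show r * c ∈ Ideal.span {r}
          exact Ideal.mul_mem_right _ _ (Ideal.subset_span rfl)
        · apply Subtype.ext
          show ι (r * c) = y
          rw [← hcy]
          show ι (r * c) = φ (ι c)
          rw [hφapp, hιapp, hιapp, map_mul]
    exact (Submodule.Quotient.equiv _ _ e he).length_eq
  rw [hlen]
  refine ⟨h1, ?_⟩
  rw [h0, hdet] at h3
  simpa using h3

end Groth.Agent.S14503
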