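import Groth.Statements.S5826
import Groth.Agent.H29.TopModAux

set_option autoImplicit false
universe u v w
open EGA41

namespace Groth.Agent.S5826

/-- Let A be a topological ring, M, N topological A-modules with the topologies deduced from that of A,
u : M → N a continuous linear map. Then u is formally left invertible if and only if, for every open
ideal J of A, the induced map M/JM → N/JN is left invertible, i.e. some linear map N → M/JM composes
with u to the projection M → M/JM. -/
theorem result {A : Type u} {M : Type v} {N : Type w}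
    [CommRing A] [TopologicalSpace A] [AddCommGroup M] [Module A M] [TopologicalSpace M] [AddCommGroup N]
    [Module A N] [TopologicalSpace N] (hM : TopMod.IsDeduced A M) (hN : TopMod.IsDeduced A N)
    (u : M →L[A] N) :
    TopMod.IsFormallyLeftInvertible u ↔
      ∀ J : Ideal A, IsOpen (J : Set A) →
        ∃ w : N →ₗ[A] M ⧸ (J • ⊤ : Submodule A M), ∀ x : M, w (u x) = Submodule.Quotient.mk x := by
  open Groth.Agent.H29.TopModAux in
  constructor
  · intro hfl J hJ
    letI t : TopologicalSpace (M ⧸ (J • ⊤ : Submodule A M)) := ⊥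
    haveI ht : DiscreteTopology (M ⧸ (J • ⊤ : Submodule A M)) := ⟨rfl⟩
    have hc : Continuous (Submodule.mkQ (J • ⊤ : Submodule A M)) := continuous_mkQ hM J hJ t ht
    obtain ⟨w, hw⟩ := hfl (M ⧸ (J • ⊤ : Submodule A M)) ⟨Submodule.mkQ (J • ⊤ : Submodule A M), hc⟩
    exact ⟨w.toLinearMap, hw⟩
  · intro H E _ _ _ _ v
    haveI := hM.1
    haveI := hN.1
    have hker : {x | v x = 0} ∈ nhds (0 : M) := by
      have h1 : IsOpen (v ⁻¹' {0}) := (isOpen_discrete _).preimage v.continuous
      exact h1.mem_nhds (by simp)
    obtain ⟨J, hJ, hJsub⟩ := exists_smul_top_subset hM _ hker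
    obtain ⟨w₀, hw₀⟩ := H J hJ
    have hle : (J • ⊤ : Submodule A M) ≤ LinearMap.ker v.toLinearMap := fun x hx => hJsub hx
    have hw₀0 : ∀ y ∈ (J • ⊤ : Submodule A N), w₀ y = 0 := by
      intro y hy
      refine Submodule.smul_induction_on hy ?_ ?_
      · intro j hj n _
        obtain ⟨m, hm⟩ := Submodule.Quotient.mk_surjective _ (w₀ n)
        rw [map_smul, ← hm, ← Submodule.Quotient.mk_smul, Submodule.Quotient.mk_eq_zero]
        exact Submodule.smul_mem_smul hj Submodule.mem_top
      · intro a b ha hb
        rw [map_add, ha, hb, add_zero]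
    let w₁ : N →ₗ[A] E := ((J • ⊤ : Submodule A M).liftQ v.toLinearMap hle).comp w₀
    have hw₁ : Continuous w₁ := by
      refine continuous_of_ker_mem_nhds w₁.toAddMonoidHom ?_
      refine Filter.mem_of_superset (smul_top_mem_nhds hN J hJ) (fun y hy => ?_)
      change ((J • ⊤ : Submodule A M).liftQ v.toLinearMap hle) (w₀ y) = 0
      rw [hw₀0 y hy, map_zero]
    refine ⟨⟨w₁, hw₁⟩, fun x => ?_⟩
    change ((J • ⊤ : Submodule A M).liftQ v.toLinearMap hle) (w₀ (u x)) = v x
    rw [hw₀]
    rfl

end Groth.Agent.S5826
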