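import Groth.Statements.S1368
import Groth.Agent.H57.RelAssGen.RowAvoid

set_option linter.style.haveILetI false

set_option autoImplicit false
universe u
open FlatMor

namespace Groth.Agent.S1368

open AlgebraicGeometry CategoryTheory Limits in
/-- Let f be of finite type with irreducible target, F a quasi-coherent module of finite type on the
source and U an open of the source. If the associated points of F restricted to the generic fibre
all lie in U, then over some nonempty open of the target the associated points of F restricted to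
every fibre lie in U. -/
theorem result {X Y : Scheme.{u}} (f : X ⟶ Y) [IrreducibleSpace ↑Y] [LocallyOfFiniteType f] [QuasiCompact f]
    (F : X.Modules) (hF : Coh.IsCoh F) (U : X.Opens)
    (h : ∀ x ∈ MoreMor.relAss f F, f x = genericPoint ↑Y → x ∈ U) :
    ∃ V : Y.Opens, (V : Set ↑Y).Nonempty ∧ ∀ x ∈ MoreMor.relAss f F, f x ∈ V → x ∈ U := by
  classical
  obtain ⟨_, ⟨V₀, hV₀, rfl⟩, hηV₀, -⟩ := Y.isBasis_affineOpens.exists_subset_of_mem_open
    (Set.mem_univ (genericPoint ↑Y)) isOpen_univ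
  replace hV₀ : IsAffineOpen V₀ := hV₀
  have hsp : ∀ y ∈ V₀, genericPoint ↑Y ⤳ y := fun y _ => genericPoint_specializes y
  have hcpt : IsCompact ((f ⁻¹ᵁ V₀ : X.Opens) : Set X) := f.isCompact_preimage hV₀.isCompact
  obtain ⟨s, hsfin, hs⟩ := isCompact_iff_finite_and_eq_biUnion_affineOpens.mp hcpt
  have hle : ∀ W ∈ s, (W : X.Opens) ≤ f ⁻¹ᵁ V₀ := by
    intro W hW
    rw [hs]
    exact le_iSup₂ (f := fun (i : X.affineOpens) (_ : i ∈ s) => (i : X.Opens)) W hW
  have key : ∀ t : Finset X.affineOpens, (∀ W ∈ t, (W : X.Opens) ≤ f ⁻¹ᵁ V₀) →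
      ∃ a : Γ(Y, V₀), a ∉ (hV₀.primeIdealOf ⟨genericPoint ↑Y, hηV₀⟩).asIdeal ∧
        ∀ W ∈ t, ∀ x ∈ MoreMor.relAss f F, x ∈ (W : X.Opens) → f x ∈ Y.basicOpen a → x ∈ U := by
    intro t
    induction t using Finset.induction_on with
    | empty =>
      exact fun _ => ⟨1, fun h1 => (hV₀.primeIdealOf ⟨genericPoint ↑Y, hηV₀⟩).isPrime.ne_top
        ((Ideal.eq_top_iff_one _).mpr h1), fun W hW => absurd hW (Finset.notMem_empty W)⟩
    | insert W t hWt ih =>
      intro hall
      obtain ⟨a₁, ha₁, h₁⟩ := ih (fun W' hW' => hall W' (Finset.mem_insert_of_mem hW'))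
      have eW := hall W (Finset.mem_insert_self W t)
      obtain ⟨a₂, ha₂, h₂⟩ := Groth.Agent.H57.RelAssGen.chart_avoid f F hF U hV₀
        (genericPoint ↑Y) hηV₀ hsp h W.2 eW
      refine ⟨a₂ * a₁, fun hmem => ?_, fun W' hW' x hx hxW hxf => ?_⟩
      · rcases (hV₀.primeIdealOf ⟨genericPoint ↑Y, hηV₀⟩).isPrime.mem_or_mem hmem with h' | h'
        · exact ha₂ h'
        · exact ha₁ h'
      · rw [Scheme.basicOpen_mul] at hxf
        rcases Finset.mem_insert.mp hW' with rfl | hW'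
        · exact h₂ x hx hxW hxf.1
        · exact h₁ W' hW' x hx hxW hxf.2
  obtain ⟨a, ha, hall⟩ := key hsfin.toFinset (fun W hW => hle W (hsfin.mem_toFinset.mp hW))
  refine ⟨Y.basicOpen a, ⟨genericPoint ↑Y, ?_⟩, fun x hx hfx => ?_⟩
  · exact (Groth.Agent.H8.mem_basicOpen_iff_notMem_primeIdealOf hV₀ (genericPoint ↑Y) hηV₀ a).mpr ha
  · have hxV : x ∈ f ⁻¹ᵁ V₀ := Y.basicOpen_le a hfx
    rw [hs] at hxV
    simp only [TopologicalSpace.Opens.mem_iSup] at hxV
    obtain ⟨W, hW, hxW⟩ := hxV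
    exact hall W (hsfin.mem_toFinset.mpr hW) x hx hxW hfx

end Groth.Agent.S1368
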