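import Groth.Statements.S1369
import Groth.Agent.H57.RelAssGen.RowGeneric

set_option linter.style.haveILetI false

set_option autoImplicit false
universe u
open FlatMor

namespace Groth.Agent.S1369

open AlgebraicGeometry CategoryTheory Limits in
/-- Let f be of finite type with irreducible target, F a quasi-coherent module of finite type on the
source and U an open of the source. If some associated point of F restricted to the generic fibre is
not in U, then over some nonempty open of the target every fibre carries an associated point of F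
(restricted to that fibre) outside U. -/
theorem result {X Y : Scheme.{u}} (f : X ⟶ Y) [IrreducibleSpace ↑Y] [LocallyOfFiniteType f] [QuasiCompact f]
    (F : X.Modules) (hF : Coh.IsCoh F) (U : X.Opens)
    (h : ∃ x ∈ MoreMor.relAss f F, f x = genericPoint ↑Y ∧ x ∉ U) :
    ∃ V : Y.Opens, (V : Set ↑Y).Nonempty ∧ ∀ y ∈ V, ∃ x ∈ MoreMor.relAss f F, f x = y ∧ x ∉ U := by
  classical
  obtain ⟨x₀, hx₀, hfx₀, hx₀U⟩ := h
  obtain ⟨_, ⟨V₀, hV₀, rfl⟩, hηV₀, -⟩ := Y.isBasis_affineOpens.exists_subset_of_mem_open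
    (Set.mem_univ (f x₀)) isOpen_univ
  replace hV₀ : IsAffineOpen V₀ := hV₀
  have hx₀V : x₀ ∈ f ⁻¹ᵁ V₀ := hηV₀
  obtain ⟨_, ⟨W, hW, rfl⟩, hx₀W, hWle⟩ := X.isBasis_affineOpens.exists_subset_of_mem_open
    hx₀V (f ⁻¹ᵁ V₀).2
  replace hW : IsAffineOpen W := hW
  have e : W ≤ f ⁻¹ᵁ V₀ := hWle
  obtain ⟨a, ha, -, h2⟩ := Groth.Agent.H57.RelAssGen.chart_generic f F hF hV₀ hW e x₀ hx₀W hx₀
  refine ⟨Y.basicOpen a, ⟨f x₀, ha⟩, fun y hy => ?_⟩
  have hsp : f x₀ ⤳ y := by
    rw [hfx₀]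
    exact genericPoint_specializes y
  obtain ⟨x, -, hx₀x, hfx, hx⟩ := h2 y hy hsp
  exact ⟨x, hx, hfx, fun hxU => hx₀U (hx₀x.mem_open U.2 hxU)⟩

end Groth.Agent.S1369
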