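import Groth.Statements.S18939
import Groth.Agent.H59.KoszH1Bridge

set_option autoImplicit false
universe u
open LCI

namespace Groth.Agent.S18939

lemma h1_cast {R : Type u} [CommRing R] : ∀ (c c' : ℕ) (h : c' = c) (g : Fin c → R),
    CAlgX.IsH1Regular (fun i : Fin c' => g (Fin.cast h i)) → CAlgX.IsH1Regular g := by
  intro c c' h g hg
  subst h
  exact hg

/-- in an H1-regular sequence, a relation modulo `I^2` has coefficients in `I` -/
lemma coeff_mem_of_h1 {R : Type u} [CommRing R] {r : ℕ} (g : Fin r → R)
    (hg : CAlgX.IsH1Regular g) (a : Fin r → R)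
    (ha : ∑ i, a i * g i ∈ Ideal.span (Set.range g) ^ 2) (k : Fin r) :
    a k ∈ Ideal.span (Set.range g) := by
  classical
  set I := Ideal.span (Set.range g) with hI
  rw [pow_two] at ha
  have ha' : ∑ i, a i * g i ∈ I • Submodule.span R (Set.range g) := ha
  rw [Submodule.mem_ideal_smul_span_iff_exists_sum] at ha'
  obtain ⟨b, hb, hsum⟩ := ha'
  have hsum' : ∑ i, b i * g i = ∑ i, a i * g i := by
    rw [← hsum, Finsupp.sum_fintype]
    · rfl
    · intro i; simp
  have hrel : ∑ i, (a - b) i * g i = 0 := by
    simp only [Pi.sub_apply, sub_mul, Finset.sum_sub_distrib, hsum', sub_self]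
  have hmem := hg (a - ⇑b) hrel
  have hall : ∀ v ∈ Submodule.span R {v : Fin r → R | ∃ i j : Fin r,
      v = Pi.single i (g j) - Pi.single j (g i)}, ∀ k, v k ∈ I := by
    intro v hv
    induction hv using Submodule.span_induction with
    | mem v hv =>
      obtain ⟨i, j, rfl⟩ := hv
      intro k
      simp only [Pi.sub_apply, Pi.single_apply]
      refine Ideal.sub_mem _ ?_ ?_
      · split_ifs
        · exact Ideal.subset_span ⟨j, rfl⟩
        · exact zero_mem _
      · split_ifs
        · exact Ideal.subset_span ⟨i, rfl⟩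
        · exact zero_mem _
    | zero => intro k; exact zero_mem _
    | add v w _ _ ihv ihw => intro k; exact Ideal.add_mem _ (ihv k) (ihw k)
    | smul c v _ ihv => intro k; exact Ideal.mul_mem_left _ _ (ihv k)
  have := hall _ hmem k
  have h2 : a k = (a - ⇑b) k + b k := by simp
  rw [h2]
  exact Ideal.add_mem _ this (hb k)

/-- Let R be a commutative ring, I a proper ideal of R and f_1, …, f_r a Koszul-regular sequence of
elements of I generating I. Then I/I² is a free R/I-module of rank r, with basis the classes of f_1,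
…, f_r. -/
theorem result {R : Type u} [CommRing R] {I : Ideal R} (hI : I ≠ ⊤)
    (r : ℕ) (f : Fin r → I) (hf : LCI.IsKoszulRegularSeq R (List.ofFn (fun i => (f i : R))))
    (hfI : Ideal.span (Set.range (fun i => (f i : R))) = I) :
    ∃ b : Module.Basis (Fin r) (R ⧸ I) I.Cotangent, ∀ i, b i = I.toCotangent (f i) := by
  classical
  set g : Fin r → R := fun i => (f i : R) with hg
  have hH1 : CAlgX.IsH1Regular g := by
    have h1 := Groth.Agent.H59.Kosz.isH1Regular_of_isKoszulRegularSeq _ hf
    have hlen : (List.ofFn g).length = r := List.length_ofFn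
    apply h1_cast r (List.ofFn g).length hlen g
    convert h1 using 1
    funext i
    simp
    rfl
  have hspan : ⊤ ≤ Submodule.span (R ⧸ I) (Set.range (fun i => I.toCotangent (f i))) := by
    intro y _
    obtain ⟨x, rfl⟩ := I.toCotangent_surjective y
    have hx : (x : R) ∈ Ideal.span (Set.range g) := by rw [hfI]; exact x.2
    obtain ⟨c, hc⟩ := Ideal.mem_span_range_iff_exists_fun.1 hx
    have hx' : x = ∑ i, c i • f i := by
      apply Subtype.ext
      rw [← hc]
      simp [hg]
    rw [hx', map_sum]
    refine Submodule.sum_mem _ (fun i _ => ?_)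
    rw [map_smul, ← algebraMap_smul (R ⧸ I) (c i)]
    exact Submodule.smul_mem _ _ (Submodule.subset_span ⟨i, rfl⟩)
  have hli : LinearIndependent (R ⧸ I) (fun i => I.toCotangent (f i)) := by
    rw [Fintype.linearIndependent_iff]
    intro c hc k
    have hsurj : ∀ i, ∃ a : R, Ideal.Quotient.mk I a = c i := fun i => Ideal.Quotient.mk_surjective (c i)
    choose a ha using hsurj
    have h0 : I.toCotangent (∑ i, a i • f i) = 0 := by
      rw [map_sum, ← hc]
      refine Finset.sum_congr rfl (fun i _ => ?_)
      rw [map_smul, ← ha i, ← algebraMap_smul (R ⧸ I) (a i)]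
      rfl
    rw [Ideal.toCotangent_eq_zero] at h0
    have h1 : ∑ i, a i * g i ∈ Ideal.span (Set.range g) ^ 2 := by
      rw [hfI]
      convert h0 using 1
      simp [hg]
    have := coeff_mem_of_h1 g hH1 a h1 k
    rw [hfI] at this
    rw [← ha k]
    exact Ideal.Quotient.eq_zero_iff_mem.2 this
  refine ⟨Module.Basis.mk hli hspan, fun i => ?_⟩
  simp

end Groth.Agent.S18939
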