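import Groth.Statements.S2103
import Mathlib

set_option autoImplicit false
universe u
open CAlg

namespace Groth.Agent.S2103

section aux
open MvPolynomial
variable {R : Type u} [CommRing R] {c : ℕ} (f : Fin c → R)

/-- θ v = Σ X_i v_i -/
noncomputable def theta (c : ℕ) (R : Type u) [CommRing R] :
    (Fin c → MvPolynomial (Fin c) R) →ₗ[MvPolynomial (Fin c) R] MvPolynomial (Fin c) R where
  toFun v := ∑ i, X i * v i
  map_add' v w := by simp [mul_add, Finset.sum_add_distrib]
  map_smul' a v := by
    simp only [Pi.smul_apply, smul_eq_mul, RingHom.id_apply, Finset.mul_sum]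
    exact Finset.sum_congr rfl (fun i _ => by ring)

/-- ψ v = Σ C(f_i) v_i -/
noncomputable def psi :
    (Fin c → MvPolynomial (Fin c) R) →ₗ[MvPolynomial (Fin c) R] MvPolynomial (Fin c) R where
  toFun v := ∑ i, C (f i) * v i
  map_add' v w := by simp [mul_add, Finset.sum_add_distrib]
  map_smul' a v := by
    simp only [Pi.smul_apply, smul_eq_mul, RingHom.id_apply, Finset.mul_sum]
    exact Finset.sum_congr rfl (fun i _ => by ring)

lemma theta_apply (v : Fin c → MvPolynomial (Fin c) R) : theta c R v = ∑ i, X i * v i := rfl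
lemma psi_apply (v : Fin c → MvPolynomial (Fin c) R) : psi f v = ∑ i, C (f i) * v i := rfl

lemma theta_single (i : Fin c) (p : MvPolynomial (Fin c) R) :
    theta c R (Pi.single i p) = X i * p := by
  rw [theta_apply, Finset.sum_eq_single i]
  · simp
  · intro b _ hb; rw [Pi.single_eq_of_ne hb, mul_zero]
  · intro h; exact absurd (Finset.mem_univ i) h

lemma psi_single (i : Fin c) (p : MvPolynomial (Fin c) R) :
    psi f (Pi.single i p) = C (f i) * p := by
  rw [psi_apply, Finset.sum_eq_single i]
  · simp
  · intro b _ hb; rw [Pi.single_eq_of_ne hb, mul_zero]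
  · intro h; exact absurd (Finset.mem_univ i) h

/-- the ideal of linear relations -/
noncomputable def Lid : Ideal (MvPolynomial (Fin c) R) :=
  Ideal.span {l | ∃ i j : Fin c, l = X i * C (f j) - X j * C (f i)}

/-- trivial relations over S -/
noncomputable def Wsub : Submodule (MvPolynomial (Fin c) R) (Fin c → MvPolynomial (Fin c) R) :=
  Submodule.span _ {v | ∃ i j : Fin c, v = Pi.single i (C (f j)) - Pi.single j (C (f i))}

lemma map_theta_W_le : (Wsub f).map (theta c R) ≤ Lid f := by
  rw [Wsub, Submodule.map_span, Lid, Ideal.span]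
  apply Submodule.span_mono
  rintro _ ⟨v, ⟨i, j, rfl⟩, rfl⟩
  refine ⟨i, j, ?_⟩
  rw [map_sub, theta_single, theta_single]

lemma Lid_le_map_psi : Lid f ≤ (LinearMap.ker (theta c R)).map (psi f) := by
  rw [Lid, Ideal.span, Submodule.span_le]
  rintro _ ⟨i, j, rfl⟩
  refine ⟨Pi.single j (X i) - Pi.single i (X j), ?_, ?_⟩
  · show theta c R _ = 0
    rw [map_sub, theta_single, theta_single]; ring
  · rw [map_sub, psi_single, psi_single]; ring

lemma Lid_le_map_C : Lid f ≤ Ideal.map C (Ideal.span (Set.range f)) := by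
  rw [Lid, Ideal.span_le]
  rintro _ ⟨i, j, rfl⟩
  refine Ideal.sub_mem _ (Ideal.mul_mem_left _ _ ?_) (Ideal.mul_mem_left _ _ ?_)
  · exact Ideal.mem_map_of_mem _ (Ideal.subset_span ⟨j, rfl⟩)
  · exact Ideal.mem_map_of_mem _ (Ideal.subset_span ⟨i, rfl⟩)

lemma C_comp_mem_W (a : Fin c → R)
    (ha : a ∈ Submodule.span R {v : Fin c → R | ∃ i j : Fin c, v = Pi.single i (f j) - Pi.single j (f i)}) :
    (fun i => (C (a i) : MvPolynomial (Fin c) R)) ∈ Wsub f := by
  induction ha using Submodule.span_induction with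
  | mem v hv =>
    obtain ⟨i, j, rfl⟩ := hv
    refine Submodule.subset_span ⟨i, j, ?_⟩
    funext k
    simp only [Pi.sub_apply, map_sub]
    congr 1
    · exact Pi.apply_single (fun _ => (C : R →+* MvPolynomial (Fin c) R)) (fun _ => map_zero _) i (f j) k
    · exact Pi.apply_single (fun _ => (C : R →+* MvPolynomial (Fin c) R)) (fun _ => map_zero _) j (f i) k
  | zero =>
    have : (fun i => (C ((0 : Fin c → R) i) : MvPolynomial (Fin c) R)) = 0 := by
      funext i; simp
    rw [this]; exact zero_mem _
  | add v w _ _ ihv ihw =>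
    have : (fun i => (C ((v + w) i) : MvPolynomial (Fin c) R)) =
        (fun i => C (v i)) + (fun i => C (w i)) := by
      funext i; simp
    rw [this]; exact add_mem ihv ihw
  | smul r v _ ihv =>
    have : (fun i => (C ((r • v) i) : MvPolynomial (Fin c) R)) =
        (C r : MvPolynomial (Fin c) R) • (fun i => C (v i)) := by
      funext i; simp
    rw [this]; exact Submodule.smul_mem _ _ ihv

lemma ker_psi_le (hf : CAlgX.IsH1Regular f) : LinearMap.ker (psi f) ≤ Wsub f := by
  classical
  intro v hv
  have hv0 : ∑ i, C (f i) * v i = 0 := hv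
  set s : Finset (Fin c →₀ ℕ) := Finset.univ.biUnion (fun i => (v i).support) with hs
  have hvs : v = ∑ d ∈ s, (monomial d (1 : R) : MvPolynomial (Fin c) R) •
      (fun i => (C (coeff d (v i)) : MvPolynomial (Fin c) R)) := by
    funext i
    simp only [Finset.sum_apply, Pi.smul_apply, smul_eq_mul]
    conv_lhs => rw [(v i).as_sum]
    have hsub : (v i).support ⊆ s := by
      intro d hd
      rw [hs, Finset.mem_biUnion]
      exact ⟨i, Finset.mem_univ _, hd⟩
    rw [Finset.sum_subset hsub (fun d _ hd => by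
      rw [notMem_support_iff.1 hd, monomial_zero])]
    refine Finset.sum_congr rfl (fun d _ => ?_)
    rw [mul_comm, C_mul_monomial, mul_one]
  rw [hvs]
  refine Submodule.sum_mem _ (fun d _ => Submodule.smul_mem _ _ ?_)
  apply C_comp_mem_W
  apply hf
  have := congrArg (coeff d) hv0
  rw [coeff_sum, coeff_zero] at this
  rw [← this]
  refine Finset.sum_congr rfl (fun i _ => ?_)
  rw [coeff_C_mul, mul_comm]

/-- homogeneous decomposition -/
lemma exists_decomp (n : ℕ) (F : MvPolynomial (Fin c) R) (hF : F.IsHomogeneous (n+1)) :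
    ∃ v : Fin c → MvPolynomial (Fin c) R, (∀ i, (v i).IsHomogeneous n) ∧ theta c R v = F := by
  have hF' : F ∈ homogeneousSubmodule (Fin c) R 1 * homogeneousSubmodule (Fin c) R n := by
    have : F ∈ homogeneousSubmodule (Fin c) R (n+1) := hF
    rw [← homogeneousSubmodule_one_pow, pow_succ', homogeneousSubmodule_one_pow] at this
    exact this
  refine Submodule.mul_induction_on hF' ?_ ?_
  · intro m hm q hq
    rw [homogeneousSubmodule_one_eq_span_X] at hm
    induction hm using Submodule.span_induction with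
    | mem x hx =>
      obtain ⟨i, rfl⟩ := hx
      refine ⟨Pi.single i q, ?_, theta_single i q⟩
      intro k
      by_cases hk : k = i
      · subst hk; simpa using hq
      · rw [Pi.single_eq_of_ne hk]; exact isHomogeneous_zero _ _ _
    | zero => exact ⟨0, fun _ => isHomogeneous_zero _ _ _, by simp⟩
    | add x y _ _ ihx ihy =>
      obtain ⟨v, hv, ev⟩ := ihx
      obtain ⟨w, hw, ew⟩ := ihy
      exact ⟨v + w, fun i => (hv i).add (hw i), by rw [map_add, ev, ew, add_mul]⟩
    | smul r x _ ihx =>
      obtain ⟨v, hv, ev⟩ := ihx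
      refine ⟨(C r : MvPolynomial (Fin c) R) • v, fun i => ?_, ?_⟩
      · simpa using (hv i).C_mul r
      · rw [map_smul, ev, smul_eq_mul, Algebra.smul_mul_assoc, MvPolynomial.smul_eq_C_mul]
  · intro x y ihx ihy
    obtain ⟨v, hv, ev⟩ := ihx
    obtain ⟨w, hw, ew⟩ := ihy
    exact ⟨v + w, fun i => (hv i).add (hw i), by rw [map_add, ev, ew]⟩

lemma eval_theta (v : Fin c → MvPolynomial (Fin c) R) :
    eval f (theta c R v) = ∑ i, f i * eval f (v i) := by
  simp [theta_apply, map_sum]

lemma eval_psi (v : Fin c → MvPolynomial (Fin c) R) :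
    eval f (psi f v) = ∑ i, f i * eval f (v i) := by
  simp [psi_apply, map_sum]

lemma psi_homog (n : ℕ) (v : Fin c → MvPolynomial (Fin c) R) (hv : ∀ i, (v i).IsHomogeneous n) :
    (psi f v).IsHomogeneous n := by
  rw [psi_apply]
  exact IsHomogeneous.sum _ _ _ (fun i _ => (hv i).C_mul (f i))

/-- linear type -/
lemma linear_type (hf : CAlgX.IsH1Regular f) : ∀ (n : ℕ) (F : MvPolynomial (Fin c) R),
    F.IsHomogeneous n → eval f F = 0 → F ∈ Lid f := by
  intro n
  induction n with
  | zero =>
    intro F hF h0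
    have h1 : F.totalDegree = 0 := (totalDegree_zero_iff_isHomogeneous _).2 hF
    rw [totalDegree_eq_zero_iff_eq_C] at h1
    rw [h1, eval_C] at h0
    rw [h1, h0, map_zero]
    exact zero_mem _
  | succ n ih =>
    intro F hF h0
    obtain ⟨v, hv, rfl⟩ := exists_decomp n F hF
    have hG : psi f v ∈ Lid f := by
      apply ih _ (psi_homog f n v hv)
      rw [eval_psi, ← eval_theta, h0]
    obtain ⟨Q, hQ, hQG⟩ := Lid_le_map_psi f hG
    have hP : v - Q ∈ LinearMap.ker (psi f) := by
      show psi f (v - Q) = 0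
      rw [map_sub, hQG, sub_self]
    have hW := ker_psi_le f hf hP
    have := map_theta_W_le f ⟨_, hW, rfl⟩
    have hQ0 : theta c R Q = 0 := hQ
    rwa [map_sub, hQ0, sub_zero] at this

end aux

/-- Case `M = R`: an `H_1`-regular sequence in a ring (first Koszul homology zero) is quasi-regular (the
associated graded of the ideal it generates is a polynomial ring over the quotient). -/
theorem result {R : Type u} [CommRing R] {c : ℕ} (f : Fin c → R) (hf : CAlgX.IsH1Regular f) :
    CAlgX.IsQuasiRegular f := by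
  intro n P hP hmem d
  obtain ⟨p, hp, hpe⟩ := (Ideal.mem_span_pow_iff_exists_isHomogeneous f _).1 hmem
  obtain ⟨v, hv, rfl⟩ := exists_decomp n p hp
  have hG := psi_homog f n v hv
  have h0 : MvPolynomial.eval f (P - psi f v) = 0 := by
    rw [map_sub, eval_psi, ← eval_theta, hpe, sub_self]
  have hL := linear_type f hf n _ (hP.sub hG) h0
  have hJ := (MvPolynomial.mem_map_C_iff.1 (Lid_le_map_C f hL)) d
  rw [MvPolynomial.coeff_sub] at hJ
  have hG' : MvPolynomial.coeff d (psi f v) ∈ Ideal.span (Set.range f) := by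
    rw [psi_apply, MvPolynomial.coeff_sum]
    refine Ideal.sum_mem _ (fun i _ => ?_)
    rw [MvPolynomial.coeff_C_mul]
    exact Ideal.mul_mem_right _ _ (Ideal.subset_span ⟨i, rfl⟩)
  have := Ideal.add_mem _ hJ hG'
  rwa [sub_add_cancel] at this

end Groth.Agent.S2103
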