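import Groth.Statements.S5803
import Groth.Agent.H19.QReg

set_option autoImplicit false
universe u
open EGA41

namespace Groth.Agent.S5803

open MvPolynomial

open Groth.Agent.H19.QReg in
theorem step_pow {A : Type u} [CommRing A] {c : ℕ} (f : Fin (c + 1) → A)
    (hq : CAlgX.IsQuasiRegular f) (k : ℕ) (x : A)
    (hx : x ∈ Ideal.span (Set.range f) ^ k)
    (hfx : f 0 * x ∈ Ideal.span (Set.range f) ^ (k + 2)) :
    x ∈ Ideal.span (Set.range f) ^ (k + 1) := by
  obtain ⟨P, hP, hPx⟩ := (Ideal.mem_span_pow_iff_exists_isHomogeneous f x).1 hx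
  have hQ : (X 0 * P : MvPolynomial (Fin (c + 1)) A).IsHomogeneous (k + 1) := by
    have := (isHomogeneous_X A (0 : Fin (c + 1))).mul hP
    rwa [add_comm 1 k] at this
  have hcoef : ∀ d, coeff d P ∈ Ideal.span (Set.range f) := by
    intro d
    have h1 := hq (k + 1) (X 0 * P) hQ (by rw [map_mul, eval_X, hPx]; exact hfx)
      (Finsupp.single 0 1 + d)
    rwa [coeff_X_mul] at h1
  have hPm : P ∈ (Ideal.span (Set.range f)).map (C : A →+* MvPolynomial (Fin (c + 1)) A) := by
    rw [MvPolynomial.mem_map_C_iff]; exact hcoef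
  have h2 := eval_mem_mul_pow f _ k hP hPm
  rw [hPx] at h2
  rw [pow_succ']
  exact h2

theorem mem_pow_of_le {A : Type u} [CommRing A] {c : ℕ} (f : Fin (c + 1) → A)
    (hq : CAlgX.IsQuasiRegular f) (ν : ℕ) (x : A)
    (hfx : f 0 * x ∈ Ideal.span (Set.range f) ^ ν) :
    ∀ i, i + 1 ≤ ν → x ∈ Ideal.span (Set.range f) ^ i := by
  intro i
  induction i with
  | zero => intro _; simp
  | succ i ih =>
    intro hi
    exact step_pow f hq i x (ih (by omega)) (Ideal.pow_le_pow_right (by omega) hfx)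

theorem regular_zero {A : Type u} [CommRing A] [IsNoetherianRing A] {c : ℕ} (f : Fin (c + 1) → A)
    (hf : ∀ i, f i ∈ Ring.jacobson A) (hq : CAlgX.IsQuasiRegular f) (x : A) (hx : f 0 * x = 0) :
    x = 0 := by
  have hJ : Ideal.span (Set.range f) ≤ Ideal.jacobson ⊥ := by
    rw [Ideal.jacobson_bot, Ideal.span_le]
    rintro _ ⟨i, rfl⟩
    exact hf i
  have hall : ∀ k, x ∈ Ideal.span (Set.range f) ^ k := by
    intro k
    induction k with
    | zero => simp
    | succ k ih =>
      refine step_pow f hq k x ih ?_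
      rw [hx]; exact Ideal.zero_mem _
  have hk := Ideal.iInf_pow_smul_eq_bot_of_le_jacobson (M := A) (Ideal.span (Set.range f)) hJ
  have hmem : x ∈ (⨅ i : ℕ, Ideal.span (Set.range f) ^ i • ⊤ : Submodule A A) := by
    rw [Submodule.mem_iInf]
    intro i
    rw [show (Ideal.span (Set.range f) ^ i • (⊤ : Submodule A A)) =
      Ideal.span (Set.range f) ^ i from Ideal.mul_top _]
    exact hall i
  rw [hk] at hmem
  exact (Submodule.mem_bot A).1 hmem

theorem span_map_quot {A : Type u} [CommRing A] {c : ℕ} (f : Fin (c + 1) → A) :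
    Ideal.span (Set.range fun i : Fin c => Ideal.Quotient.mk (Ideal.span {f 0}) (f i.succ)) =
      (Ideal.span (Set.range f)).map (Ideal.Quotient.mk (Ideal.span {f 0})) := by
  apply le_antisymm
  · rw [Ideal.span_le]
    rintro _ ⟨i, rfl⟩
    exact Ideal.mem_map_of_mem _ (Ideal.subset_span ⟨i.succ, rfl⟩)
  · rw [Ideal.map_le_iff_le_comap, Ideal.span_le]
    rintro _ ⟨j, rfl⟩
    show Ideal.Quotient.mk (Ideal.span {f 0}) (f j) ∈
      Ideal.span (Set.range fun i : Fin c => Ideal.Quotient.mk (Ideal.span {f 0}) (f i.succ))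
    refine Fin.cases ?_ (fun i => ?_) j
    · have h0 : Ideal.Quotient.mk (Ideal.span {f 0}) (f 0) = 0 :=
        Ideal.Quotient.eq_zero_iff_mem.2 (Ideal.mem_span_singleton_self _)
      rw [h0]
      exact Ideal.zero_mem _
    · exact Ideal.subset_span ⟨i, rfl⟩

open Groth.Agent.H19.QReg in
theorem qr_quot {A : Type u} [CommRing A] {c : ℕ} (f : Fin (c + 1) → A)
    (hq : CAlgX.IsQuasiRegular f) :
    CAlgX.IsQuasiRegular
      (fun i : Fin c => Ideal.Quotient.mk (Ideal.span {f 0}) (f i.succ)) := by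
  classical
  intro ν G' hG' hev d₀
  rw [span_map_quot] at hev ⊢
  obtain ⟨G₀, hG₀h, hG₀⟩ : ∃ G₀ : MvPolynomial (Fin c) A, G₀.IsHomogeneous ν ∧
      map (Ideal.Quotient.mk (Ideal.span {f 0})) G₀ = G' := by
    obtain ⟨G₁, hG₁⟩ := MvPolynomial.map_surjective (Ideal.Quotient.mk (Ideal.span {f 0}))
      Ideal.Quotient.mk_surjective G'
    refine ⟨homogeneousComponent ν G₁, homogeneousComponent_isHomogeneous ν G₁, ?_⟩
    ext d
    rw [coeff_map, coeff_homogeneousComponent]
    split_ifs with h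
    · rw [← hG₁, coeff_map]
    · rw [map_zero]; exact (hG'.coeff_eq_zero h).symm
  have hGh : (rename Fin.succ G₀).IsHomogeneous ν := hG₀h.rename_isHomogeneous
  have hevG : Ideal.Quotient.mk (Ideal.span {f 0}) (eval f (rename Fin.succ G₀)) =
      eval (fun i : Fin c => Ideal.Quotient.mk (Ideal.span {f 0}) (f i.succ)) G' := by
    have h1 : Ideal.Quotient.mk (Ideal.span {f 0}) (eval f (rename Fin.succ G₀)) =
        eval ((Ideal.Quotient.mk (Ideal.span {f 0})) ∘ (f ∘ Fin.succ))
          (map (Ideal.Quotient.mk (Ideal.span {f 0})) G₀) := by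
      rw [eval_rename]; exact map_eval' _ _ _
    rw [hG₀] at h1; exact h1
  rw [← hevG, ← Ideal.map_pow] at hev
  obtain ⟨b, hb, hbe⟩ := (Ideal.mem_map_iff_of_surjective _ Ideal.Quotient.mk_surjective).1 hev
  have hdiff : eval f (rename Fin.succ G₀) - b ∈ Ideal.span {f 0} := by
    rw [← Ideal.Quotient.eq_zero_iff_mem, map_sub, hbe, sub_self]
  obtain ⟨ω, hω⟩ := Ideal.mem_span_singleton'.1 hdiff
  have hevG' : eval f (rename Fin.succ G₀) = f 0 * ω + b := by
    rw [mul_comm, hω]; ring
  have hcoefG : ∀ d : Fin (c + 1) →₀ ℕ, d 0 = 0 →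
      coeff d (rename Fin.succ G₀) ∈ Ideal.span (Set.range f) := by
    cases ν with
    | zero =>
      intro d _
      refine hq 0 (rename Fin.succ G₀) hGh ?_ d
      rw [hevG']
      have hf0 : f 0 ∈ Ideal.span (Set.range f) := Ideal.subset_span ⟨0, rfl⟩
      rw [zero_add, pow_one] at hb ⊢
      exact Ideal.add_mem _ (Ideal.mul_mem_right _ _ hf0) hb
    | succ μ =>
      intro d hd0
      have hfω : f 0 * ω ∈ Ideal.span (Set.range f) ^ (μ + 1) := by
        have h2 : f 0 * ω = eval f (rename Fin.succ G₀) - b := by rw [hevG']; ring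
        rw [h2]
        exact sub_mem ((Ideal.mem_span_pow_iff_exists_isHomogeneous f _).2 ⟨rename Fin.succ G₀, hGh, rfl⟩)
          (Ideal.pow_le_pow_right (Nat.le_succ _) hb)
      have hωμ : ω ∈ Ideal.span (Set.range f) ^ μ := mem_pow_of_le f hq (μ + 1) ω hfω μ le_rfl
      obtain ⟨H, hH, hHω⟩ := (Ideal.mem_span_pow_iff_exists_isHomogeneous f ω).1 hωμ
      have hXH : (X 0 * H : MvPolynomial (Fin (c + 1)) A).IsHomogeneous (μ + 1) := by
        have := (isHomogeneous_X A (0 : Fin (c + 1))).mul hH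
        rwa [add_comm 1 μ] at this
      have h1 := hq (μ + 1) (rename Fin.succ G₀ - X 0 * H) (hGh.sub hXH) (by
        rw [map_sub, map_mul, eval_X, hHω, hevG', add_sub_cancel_left]; exact hb) d
      rw [coeff_sub, coeff_X_mul', if_neg (by simp [hd0]), sub_zero] at h1
      exact h1
  rw [← hG₀, coeff_map]
  apply Ideal.mem_map_of_mem
  rw [← coeff_rename_mapDomain Fin.succ (Fin.succ_injective c) G₀ d₀]
  apply hcoefG
  exact Finsupp.mapDomain_of_notMem_range _ _ (by rintro ⟨i, hi⟩; exact Fin.succ_ne_zero i hi)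

theorem mk_mem_jacobson {A : Type u} [CommRing A] (I : Ideal A) (a : A)
    (ha : a ∈ Ring.jacobson A) :
    Ideal.Quotient.mk I a ∈ Ring.jacobson (A ⧸ I) := by
  rw [← Ideal.jacobson_bot] at ha ⊢
  rw [Ideal.mem_jacobson_bot] at ha ⊢
  intro y
  obtain ⟨y, rfl⟩ := Ideal.Quotient.mk_surjective y
  have := (ha y).map (Ideal.Quotient.mk I)
  simpa [map_add, map_mul, map_one] using this

open scoped Pointwise in
theorem aux : ∀ (c : ℕ) (A : Type u) [CommRing A] [IsNoetherianRing A] (f : Fin c → A),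
    (∀ i, f i ∈ Ring.jacobson A) → CAlgX.IsQuasiRegular f →
    RingTheory.Sequence.IsWeaklyRegular A (List.ofFn f) := by
  intro c
  induction c with
  | zero =>
    intro A _ _ f _ _
    rw [List.ofFn_zero]
    exact RingTheory.Sequence.IsWeaklyRegular.nil A A
  | succ c ih =>
    intro A _ _ f hf hq
    rw [List.ofFn_succ, RingTheory.Sequence.isWeaklyRegular_cons_iff]
    refine ⟨?_, ?_⟩
    · intro x y hxy
      have hxy' : f 0 * x = f 0 * y := hxy
      have h1 : f 0 * (x - y) = 0 := by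
        rw [mul_sub]; exact sub_eq_zero.2 hxy'
      exact sub_eq_zero.1 (regular_zero f hf hq _ h1)
    · have hI : (f 0 • (⊤ : Submodule A A)) = Ideal.span {f 0} :=
        (Submodule.ideal_span_singleton_smul (f 0) ⊤).symm.trans (Ideal.mul_top _)
      have e : QuotSMulTop (f 0) A ≃ₗ[A] (A ⧸ Ideal.span {f 0}) :=
        Submodule.quotEquivOfEq _ _ hI
      rw [e.isWeaklyRegular_congr, ← RingTheory.Sequence.isWeaklyRegular_map_algebraMap_iff
        (R := A) (S := A ⧸ Ideal.span {f 0}) (M := A ⧸ Ideal.span {f 0}), List.map_ofFn]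
      exact ih (A ⧸ Ideal.span {f 0}) _ (fun i => mk_mem_jacobson _ _ (hf i.succ))
        (qr_quot f hq)

/-- Case M = A: let A be a Noetherian ring and (f_i)_{1 ≤ i ≤ c} a finite sequence of elements of the
Jacobson radical of A. Then (f_i) is a regular sequence if it is quasi-regular (and conversely every
regular sequence is quasi-regular). -/
theorem result (A : Type u) [CommRing A] [IsNoetherianRing A]
    (c : ℕ) (f : Fin c → A) (hf : ∀ i, f i ∈ Ring.jacobson A) (hq : CAlgX.IsQuasiRegular f) :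
    RingTheory.Sequence.IsWeaklyRegular A (List.ofFn f) := by
  exact aux c A f hf hq

end Groth.Agent.S5803
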