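-- Statement S2032: elementary standard elements give standard smooth localizations.
import Groth.Statements.S2032
import Groth.Agent.H10.StdSmooth

set_option autoImplicit false
universe u
open Smoothing

namespace Groth.Agent.S2032

/-- For a finitely presented `R`-algebra `A` and `a ∈ A`, if `a` is elementary standard then `A_a` is
standard smooth over `R`. (Part (f), the converse for large powers of `a`, is not stated: as
published it fails, for example for the nodal cubic `A = {g ∈ ℚ[u] : g(0) = g(1)}` and `a =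
u(u-1)`.) -/
theorem result {R A : Type u} [CommRing R] [CommRing A]
    [Algebra R A] [Algebra.FinitePresentation R A] (a : A)
    (ha : Smoothing.IsElementaryStandard R A a) : Algebra.IsStandardSmooth R (Localization.Away a) := by
  classical
  obtain ⟨P, ⟨a', ha'⟩, hkill⟩ := ha
  let v : Fin P.c → MvPolynomial (Fin P.n) R := fun j => P.rel (Fin.castLE P.hcm j)
  let e : Fin P.c → Fin P.n := Fin.castLE P.hcn
  have he : Function.Injective e := Fin.castLE_injective _
  set Ic : Ideal (MvPolynomial (Fin P.n) R) := Ideal.span (Set.range v) with hIc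
  set I : Ideal (MvPolynomial (Fin P.n) R) := Ideal.span (Set.range P.rel) with hI
  have hIker : ∀ x, x ∈ I ↔ P.hom x = 0 := by
    intro x
    rw [hI, ← P.ker_eq]
    rfl
  have hrange : Set.range v = P.rel '' {j' : Fin P.m | (j' : ℕ) < P.c} := by
    ext x
    constructor
    · rintro ⟨j, rfl⟩
      exact ⟨Fin.castLE P.hcm j, by simp, rfl⟩
    · rintro ⟨j', hj', rfl⟩
      exact ⟨⟨j', hj'⟩, by simp [v]⟩
  have hIcI : Ic ≤ I := Ideal.span_mono (by rintro _ ⟨j, rfl⟩; exact ⟨_, rfl⟩)
  set g := Smoothing.jacobianMinor P.rel (Fin.castLE P.hcm) (Fin.castLE P.hcn) with hg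
  obtain ⟨α, hα⟩ := P.surj a'
  set ã := α * g with hã'
  have hã : P.hom ã = a := by rw [hã', map_mul, hα, ← ha']
  -- `ã I ⊆ Ic ⊔ I ^ 2`
  have hsq : ∀ y ∈ I, ã * y ∈ Ic ⊔ I ^ 2 := by
    intro y hy
    induction hy using Submodule.span_induction with
    | mem x hx =>
      obtain ⟨j, rfl⟩ := hx
      by_cases hj : (j : ℕ) < P.c
      · refine Ideal.mem_sup_left (Ideal.mul_mem_left _ _ (Ideal.subset_span ?_))
        exact ⟨⟨j, hj⟩, by simp [v]⟩
      · have := hkill ã hã j (not_lt.mp hj)
        rwa [← hrange] at this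
    | zero => rw [mul_zero]; exact Ideal.zero_mem _
    | add x y _ _ hx hy => rw [mul_add]; exact Ideal.add_mem _ hx hy
    | smul r x _ hx => rw [smul_eq_mul, mul_left_comm]; exact Ideal.mul_mem_left _ _ hx
  -- the quotient `B` and the surjection `φ : B → A`
  let φ : (MvPolynomial (Fin P.n) R ⧸ Ic) →ₐ[R] A :=
    Ideal.Quotient.liftₐ Ic P.hom (fun x hx => (hIker x).mp (hIcI hx))
  have hφmk : ∀ x, φ (Ideal.Quotient.mk Ic x) = P.hom x := fun x => rfl
  have hφsurj : Function.Surjective φ := by
    intro y
    obtain ⟨x, rfl⟩ := P.surj y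
    exact ⟨Ideal.Quotient.mk Ic x, hφmk x⟩
  set J : Ideal (MvPolynomial (Fin P.n) R ⧸ Ic) := I.map (Ideal.Quotient.mk Ic) with hJ
  have hJker : ∀ x, φ x = 0 ↔ x ∈ J := by
    intro x
    obtain ⟨y, rfl⟩ := Ideal.Quotient.mk_surjective x
    rw [hφmk, ← hIker, hJ, Ideal.mem_quotient_iff_mem_sup, sup_of_le_left hIcI]
  have hIfg : I.FG := ⟨(Set.finite_range P.rel).toFinset, by rw [Set.Finite.coe_toFinset]⟩
  have hJfg : J.FG := hIfg.map (Ideal.Quotient.mk Ic)
  set t : MvPolynomial (Fin P.n) R ⧸ Ic := Ideal.Quotient.mk Ic ã with ht'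
  have ht : ∀ x ∈ J, t * x ∈ J * J := by
    intro x hx
    obtain ⟨y, hy, rfl⟩ := (Ideal.mem_map_iff_of_surjective _ Ideal.Quotient.mk_surjective).mp hx
    have h1 : Ideal.Quotient.mk Ic (ã * y) ∈ (Ic ⊔ I ^ 2).map (Ideal.Quotient.mk Ic) :=
      Ideal.mem_map_of_mem _ (hsq y hy)
    rw [Ideal.map_sup, Ideal.map_quotient_self, bot_sup_eq, Ideal.map_pow, pow_two] at h1
    rw [ht', ← map_mul]
    exact h1
  obtain ⟨h₀, k, hh₀, hkill₀⟩ := Groth.Agent.H10.exists_kill_of_smul_le_sq J hJfg t ht
  set h' := t * h₀ with hh'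
  have hφt : φ t = a := by rw [ht', hφmk, hã]
  have hφh₀ : φ h₀ = a ^ k := by
    have := (hJker _).mpr hh₀
    rw [map_sub, map_pow, hφt, sub_eq_zero] at this
    exact this
  -- algebra structure on the localization
  let algBS : Algebra (MvPolynomial (Fin P.n) R ⧸ Ic) (Localization.Away a) :=
    ((algebraMap A (Localization.Away a)).comp φ.toRingHom).toAlgebra
  have towerBS : IsScalarTower R (MvPolynomial (Fin P.n) R ⧸ Ic) (Localization.Away a) :=
    IsScalarTower.of_algebraMap_eq (R := R) (S := MvPolynomial (Fin P.n) R ⧸ Ic)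
      (A := Localization.Away a) fun r => by
      show algebraMap R (Localization.Away a) r =
        algebraMap A (Localization.Away a) (φ (algebraMap R _ r))
      rw [φ.commutes, ← IsScalarTower.algebraMap_apply]
  have locBS : IsLocalization.Away h' (Localization.Away a) :=
    Groth.Agent.H10.isLocalization_away_of_surjective φ.toRingHom hφsurj (fun x => rfl) a h' k
      (by
        show φ h' = a ^ (k + 1)
        rw [hh', map_mul, hφt, hφh₀, pow_succ']) (by
        intro x hx
        have hx' : x ∈ J := (hJker x).mp hx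
        rw [hh', mul_assoc, hkill₀ x hx', mul_zero])
  apply Groth.Agent.H10.isStandardSmooth_of_localization_naive v e he (Localization.Away a) h'
  -- the Jacobian minor is invertible
  have hdet : (Matrix.det (Matrix.of fun i j : Fin P.c => MvPolynomial.pderiv (e i) (v j))) = g := by
    rw [hg, Smoothing.jacobianMinor, ← Matrix.det_transpose]
    rfl
  rw [hdet]
  show IsUnit (algebraMap A (Localization.Away a) (φ (Ideal.Quotient.mk Ic g)))
  rw [hφmk]
  have hunit : IsUnit (algebraMap A (Localization.Away a) a) :=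
    IsLocalization.Away.algebraMap_isUnit a
  have h2 : algebraMap A (Localization.Away a) a' * algebraMap A (Localization.Away a) (P.hom g) =
      algebraMap A (Localization.Away a) a := by rw [← map_mul, ← ha']
  rw [← h2] at hunit
  exact isUnit_of_mul_isUnit_right hunit

end Groth.Agent.S2032
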