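import Groth.Statements.S17596
import Groth.Agent.H3.PH18

set_option autoImplicit false
universe u
open Hensel

namespace Groth.Agent.S17596

/-- Let (A, I) be a Henselian pair and let B be a Henselization of the pair (R, IR) for a finitely
presented A-algebra R (that is, A → B is a Henselian finitely presented map of Henselian pairs). If
the induced map A/I → B/IB is module-finite, then B is module-finite and finitely presented over A. -/
theorem result (A : Type u) [CommRing A] (I : Ideal A)
    [HenselianRing A I] (R : Type u) [CommRing R] [Algebra A R] [Algebra.FinitePresentation A R]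
    (B : Type u) [CommRing B] [Algebra R B] [Algebra A B] [IsScalarTower A R B]
    (hB : Hens2.IsPairHenselization R (I.map (algebraMap A R)) B)
    (hfin : (Ideal.quotientMap (I.map (algebraMap A B)) (algebraMap A B) Ideal.le_comap_map).Finite) :
    Module.Finite A B ∧ Algebra.FinitePresentation A B := by
  haveI hfinB : Module.Finite A (B ⧸ I.map (algebraMap A B)) := by
    have h1 : ((Ideal.quotientMap (I.map (algebraMap A B)) (algebraMap A B)
        Ideal.le_comap_map).comp (Ideal.Quotient.mk I)).Finite :=
      RingHom.Finite.comp hfin (RingHom.Finite.of_surjective _ Ideal.Quotient.mk_surjective)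
    have h2 : (Ideal.quotientMap (I.map (algebraMap A B)) (algebraMap A B)
        Ideal.le_comap_map).comp (Ideal.Quotient.mk I) =
        algebraMap A (B ⧸ I.map (algebraMap A B)) := by
      apply RingHom.ext
      intro a
      rfl
    rw [h2] at h1
    exact RingHom.finite_algebraMap.mp h1
  haveI := Groth.Agent.H3.PH.finite_quotient_of_hfp I R B hB
  obtain ⟨e, he, hfinS, h1e, ⟨ε⟩⟩ := Groth.Agent.H3.PH.exists_algEquiv_quotient_of_hfp I R B hB
  haveI := hfinS
  have hBfin : Module.Finite A B := Module.Finite.equiv (ε.symm.restrictScalars A).toLinearEquiv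
  refine ⟨hBfin, ?_⟩
  haveI : Algebra.FinitePresentation R (R ⧸ Ideal.span ({1 - e} : Set R)) :=
    Algebra.FinitePresentation.quotient ⟨{1 - e}, by simp⟩
  haveI : Algebra.FinitePresentation A (R ⧸ Ideal.span ({1 - e} : Set R)) :=
    Algebra.FinitePresentation.trans A R _
  exact Algebra.FinitePresentation.equiv (ε.symm.restrictScalars A)

end Groth.Agent.S17596
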