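import Groth.Statements.S17597
import Groth.Agent.H3.PH18

set_option autoImplicit false
universe u
open Hensel

namespace Groth.Agent.S17597

/-- Let (A, I) be a Henselian pair and let B be a Henselization of the pair (R, IR) for a finitely
presented A-algebra R (so A → B is Henselian finitely presented). If the induced map A/I → B/IB is
surjective, then A → B is surjective. -/
theorem result (A : Type u) [CommRing A] (I : Ideal A)
    [HenselianRing A I] (R : Type u) [CommRing R] [Algebra A R] [Algebra.FinitePresentation A R]
    (B : Type u) [CommRing B] [Algebra R B] [Algebra A B] [IsScalarTower A R B]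
    (hB : Hens2.IsPairHenselization R (I.map (algebraMap A R)) B)
    (hsurj : Function.Surjective
      (Ideal.quotientMap (I.map (algebraMap A B)) (algebraMap A B) Ideal.le_comap_map)) :
    Function.Surjective (algebraMap A B) := by
  have hfin : (Ideal.quotientMap (I.map (algebraMap A B)) (algebraMap A B)
      Ideal.le_comap_map).Finite := RingHom.Finite.of_surjective _ hsurj
  haveI hfinB : Module.Finite A (B ⧸ I.map (algebraMap A B)) := by
    have h1 : ((Ideal.quotientMap (I.map (algebraMap A B)) (algebraMap A B)
        Ideal.le_comap_map).comp (Ideal.Quotient.mk I)).Finite :=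
      RingHom.Finite.comp hfin (RingHom.Finite.of_surjective _ Ideal.Quotient.mk_surjective)
    have h2 : (Ideal.quotientMap (I.map (algebraMap A B)) (algebraMap A B)
        Ideal.le_comap_map).comp (Ideal.Quotient.mk I) =
        algebraMap A (B ⧸ I.map (algebraMap A B)) := by
      apply RingHom.ext
      intro a
      rfl
    rw [h2] at h1
    exact RingHom.finite_algebraMap.mp h1
  haveI := Groth.Agent.H3.PH.finite_quotient_of_hfp I R B hB
  obtain ⟨e, he, hfinS, h1e, ⟨ε⟩⟩ := Groth.Agent.H3.PH.exists_algEquiv_quotient_of_hfp I R B hB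
  haveI := hfinS
  have hBfin : Module.Finite A B := Module.Finite.equiv (ε.symm.restrictScalars A).toLinearEquiv
  haveI := hBfin
  have hjac : I ≤ Ideal.jacobson ⊥ := HenselianRing.jac
  have hle : (⊤ : Submodule A B) ≤ LinearMap.range (Algebra.linearMap A B) ⊔ I • ⊤ := by
    intro b _
    obtain ⟨w, hw⟩ := hsurj (Ideal.Quotient.mk _ b)
    obtain ⟨a, rfl⟩ := Ideal.Quotient.mk_surjective w
    rw [Ideal.quotientMap_mk, Ideal.Quotient.eq] at hw
    have hb : b = algebraMap A B a - (algebraMap A B a - b) := by ring
    rw [hb]
    refine Submodule.sub_mem _ (Submodule.mem_sup_left ⟨a, rfl⟩) (Submodule.mem_sup_right ?_)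
    rw [Ideal.smul_top_eq_map]
    exact hw
  have htop := Submodule.le_of_le_smul_of_le_jacobson_bot (Module.Finite.fg_top) hjac hle
  intro b
  obtain ⟨a, ha⟩ := htop (Submodule.mem_top : b ∈ (⊤ : Submodule A B))
  exact ⟨a, ha⟩

end Groth.Agent.S17597
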