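import Groth.Statements.S17609
import Groth.Agent.H3.PH14

set_option autoImplicit false
universe u
open Hensel

namespace Groth.Agent.S17609

/-- Let (A, I) be a Henselian pair and let B, C be Henselizations of the pairs (R, IR), (S, IS) for
finitely presented A-algebras R and S, with their induced A-algebra structures (so A → B and A → C
are Henselian finitely presented). Then every A-algebra map B → C (encoded as a B-algebra structure
on C compatible with that of A) is Henselian finitely presented: there are a finitely presented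
B-algebra T and a T-algebra structure on C compatible with that of B for which C is a Henselization
of the pair (T, IBT). -/
theorem result (A : Type u) [CommRing A] (I : Ideal A) [HenselianRing A I]
    (R : Type u) [CommRing R] [Algebra A R] [Algebra.FinitePresentation A R]
    (B : Type u) [CommRing B] [Algebra R B] [Algebra A B] [IsScalarTower A R B]
    (hB : Hens2.IsPairHenselization R (I.map (algebraMap A R)) B)
    (S : Type u) [CommRing S] [Algebra A S] [Algebra.FinitePresentation A S]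
    (C : Type u) [CommRing C] [Algebra S C] [Algebra A C] [IsScalarTower A S C]
    (hC : Hens2.IsPairHenselization S (I.map (algebraMap A S)) C)
    [Algebra B C] [IsScalarTower A B C] :
    ∃ (T : Type u) (_ : CommRing T) (_ : Algebra B T) (_ : Algebra T C) (_ : IsScalarTower B T C),
      Algebra.FinitePresentation B T ∧
      Hens2.IsPairHenselization T ((I.map (algebraMap A B)).map (algebraMap B T)) C := by
  classical
  open Groth.Agent.H3.PH Groth.Agent.H3 TensorProduct in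
  obtain ⟨K, hK⟩ : ∃ K : Ideal (B ⊗[A] S), K = I.map (algebraMap A (B ⊗[A] S)) := ⟨_, rfl⟩
  have hCh : Hens2.IsPairHenselization (B ⊗[A] S) K (H (B ⊗[A] S) ((B ⊗[A] S) ⧸ K)) :=
    isPairHenselization_H (B ⊗[A] S) K
  haveI : Algebra.FiniteType A R := inferInstance
  obtain ⟨𝔞, p, hfg, hsurj, hker, htower⟩ :=
    exists_fg_ker_of_tensor I R B hB S C hC (H (B ⊗[A] S) ((B ⊗[A] S) ⧸ K)) (hK ▸ hCh)
  haveI : Algebra.FinitePresentation (H (B ⊗[A] S) ((B ⊗[A] S) ⧸ K))
      (H (B ⊗[A] S) ((B ⊗[A] S) ⧸ K) ⧸ 𝔞) := Algebra.FinitePresentation.quotient hfg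
  let pbar : H (B ⊗[A] S) ((B ⊗[A] S) ⧸ K) ⧸ 𝔞 →+* C :=
    Ideal.Quotient.lift 𝔞 p (fun x hx => by rw [← hker] at hx; exact hx)
  have hpbar : ∀ x, pbar (Ideal.Quotient.mk 𝔞 x) = p x := fun x => Ideal.Quotient.lift_mk _ _ _
  have hpbarbij : Function.Bijective pbar := by
    refine ⟨?_, ?_⟩
    · rw [injective_iff_map_eq_zero]
      intro x hx
      obtain ⟨y, rfl⟩ := Ideal.Quotient.mk_surjective x
      rw [hpbar] at hx
      rw [Ideal.Quotient.eq_zero_iff_mem, ← hker]
      exact hx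
    · intro c
      obtain ⟨y, rfl⟩ := hsurj c
      exact ⟨Ideal.Quotient.mk 𝔞 y, hpbar y⟩
  letI : Algebra (H (B ⊗[A] S) ((B ⊗[A] S) ⧸ K) ⧸ 𝔞) C := pbar.toAlgebra
  haveI hChh := hCh.1
  haveI hS'h : HenselianRing (H (B ⊗[A] S) ((B ⊗[A] S) ⧸ K) ⧸ 𝔞)
      ((K.map (algebraMap (B ⊗[A] S) (H (B ⊗[A] S) ((B ⊗[A] S) ⧸ K)))).map
        (algebraMap (H (B ⊗[A] S) ((B ⊗[A] S) ⧸ K))
          (H (B ⊗[A] S) ((B ⊗[A] S) ⧸ K) ⧸ 𝔞))) :=
    henselianRing_map_of_surjective (Ideal.Quotient.mk 𝔞) Ideal.Quotient.mk_surjective _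
  have hC'' : Hens2.IsPairHenselization (H (B ⊗[A] S) ((B ⊗[A] S) ⧸ K) ⧸ 𝔞)
      ((K.map (algebraMap (B ⊗[A] S) (H (B ⊗[A] S) ((B ⊗[A] S) ⧸ K)))).map
        (algebraMap (H (B ⊗[A] S) ((B ⊗[A] S) ⧸ K))
          (H (B ⊗[A] S) ((B ⊗[A] S) ⧸ K) ⧸ 𝔞))) C :=
    isPairHenselization_of_bijective _ C hpbarbij
  obtain ⟨T, iT1, iT2, iT3, θ, hθ, hT⟩ :=
    exists_fp_descent K (H (B ⊗[A] S) ((B ⊗[A] S) ⧸ K)) hCh
      (H (B ⊗[A] S) ((B ⊗[A] S) ⧸ K) ⧸ 𝔞) C hC''
  letI : Algebra B T := ((algebraMap (B ⊗[A] S) T).comp (algebraMap B (B ⊗[A] S))).toAlgebra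
  haveI : IsScalarTower B (B ⊗[A] S) T := IsScalarTower.of_algebraMap_eq (fun _ => rfl)
  haveI : Algebra.FinitePresentation B T := Algebra.FinitePresentation.trans B (B ⊗[A] S) T
  letI : Algebra T C :=
    ((algebraMap (H (B ⊗[A] S) ((B ⊗[A] S) ⧸ K) ⧸ 𝔞) C).comp θ).toAlgebra
  haveI : IsScalarTower B T C := IsScalarTower.of_algebraMap_eq (fun b => by
    show algebraMap B C b = pbar (θ (algebraMap (B ⊗[A] S) T (algebraMap B (B ⊗[A] S) b)))
    rw [hθ]
    have h1 : algebraMap B (B ⊗[A] S) b = b ⊗ₜ[A] (1 : S) := rfl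
    rw [h1]
    show _ = pbar (Ideal.Quotient.mk 𝔞 _)
    rw [hpbar, htower])
  have hid2 : K.map (algebraMap (B ⊗[A] S) T) = (I.map (algebraMap A B)).map (algebraMap B T) := by
    rw [hK, Ideal.map_map, Ideal.map_map]
    congr 1
  rw [hid2] at hT
  exact ⟨T, inferInstance, inferInstance, inferInstance, inferInstance, inferInstance, hT⟩

end Groth.Agent.S17609
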