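import Groth.Statements.S16001
import Mathlib.Tactic.Ring
import Mathlib.Algebra.CharP.Lemmas
import Mathlib.RingTheory.Ideal.Quotient.Operations

set_option autoImplicit false
universe u
open FrobAlg

namespace Groth.Agent.S16001

open TensorProduct

/-- `C` with its `A`-algebra structure twisted by a ring endomorphism `φ`. -/
@[nolint unusedArguments]
def Tw (C : Type u) [CommRing C] (_φ : C →+* C) : Type u := C

instance (C : Type u) [CommRing C] (φ : C →+* C) : CommRing (Tw C φ) := inferInstanceAs (CommRing C)

instance (A : Type u) [CommRing A] (C : Type u) [CommRing C] [Algebra A C] (φ : C →+* C) :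
    Algebra A (Tw C φ) := (φ.comp (algebraMap A C)).toAlgebra

/-- Forget the twist. -/
def untw (C : Type u) [CommRing C] (φ : C →+* C) : Tw C φ →+* C := RingHom.id C

theorem algebraMap_tw (A : Type u) [CommRing A] (C : Type u) [CommRing C] [Algebra A C]
    (φ : C →+* C) (a : A) : algebraMap A (Tw C φ) a = φ (algebraMap A C a) := rfl

section
variable (p : ℕ) [Fact p.Prime] (A : Type u) [CommRing A] [CharP A p]
    (B : Type u) [CommRing B] [Algebra A B] [CharP B p]

theorem relFrob_tmul (b : B) (t : FrobAlg.Twist p A) :
    FrobAlg.relFrob p A B (b ⊗ₜ[A] t) =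
      b ^ p * algebraMap A B ((FrobAlg.toTwist p A).symm t) := by
  rfl

variable (C : Type u) [CommRing C] [Algebra A C]

include A in
theorem natCast_eq_zero : ((p : ℕ) : C) = 0 := by
  rw [← map_natCast (algebraMap A C), CharP.cast_eq_zero, map_zero]

/-- The `p`-power map of an `A`-algebra `C` as a ring endomorphism. -/
def frobC : C →+* C where
  toFun x := x ^ p
  map_one' := one_pow p
  map_mul' x y := mul_pow x y p
  map_zero' := zero_pow (Fact.out : p.Prime).ne_zero
  map_add' x y := by
    obtain ⟨r, hr⟩ := exists_add_pow_prime_eq (Fact.out : p.Prime) x y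
    rw [hr, natCast_eq_zero p A C]
    ring

theorem frobC_apply (x : C) : frobC p A C x = x ^ p := rfl

variable {C} (I : Ideal C) (hI : I ^ 2 = ⊥)

include hI in
theorem frobC_kill : ∀ x ∈ I, frobC p A C x = 0 := by
  intro x hx
  have h2 : x ^ 2 = 0 := by
    have := Ideal.pow_mem_pow hx 2
    rwa [hI, Ideal.mem_bot] at this
  rw [frobC_apply]
  exact pow_eq_zero_of_le (Fact.out : p.Prime).two_le h2

/-- Frobenius factors through the quotient by a square-zero ideal. -/
def Fbar : C ⧸ I →+* C := Ideal.Quotient.lift I (frobC p A C) (frobC_kill p A I hI)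

theorem Fbar_mk (c : C) : Fbar p A I hI (Ideal.Quotient.mk I c) = c ^ p := rfl

theorem mk_Fbar (y : C ⧸ I) : Ideal.Quotient.mk I (Fbar p A I hI y) = y ^ p := by
  obtain ⟨c, rfl⟩ := Ideal.Quotient.mk_surjective y
  rw [Fbar_mk, map_pow]

end


/-- Let A be a commutative ring of prime characteristic p and B a commutative A-algebra of
characteristic p such that the relative Frobenius B ⊗_{A,Frob} A → B, b ⊗ a ↦ b^p a, is bijective
(that is, Spec B → Spec A is relatively perfect; no finiteness condition is imposed). Then B is
formally étale over A. (The source proves that every perfect algebraic stack over an algebraic space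
of characteristic p is formally étale over it; this is the case of an affine scheme over an affine
base.) -/
theorem result (p : ℕ) [Fact p.Prime] (A : Type u) [CommRing A] [CharP A p]
    (B : Type u) [CommRing B] [Algebra A B] [CharP B p]
    (h : Function.Bijective (FrobAlg.relFrob p A B)) : Algebra.FormallyEtale A B := by
  rw [Algebra.FormallyEtale.iff_comp_bijective]
  intro C _ _ I hI
  constructor
  · -- uniqueness of lifts
    intro g₁ g₂ hg
    have hmk : ∀ b : B, Ideal.Quotient.mk I (g₁ b) = Ideal.Quotient.mk I (g₂ b) := by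
      intro b
      exact congrArg (fun f : B →ₐ[A] C ⧸ I => f b) hg
    have hpow : ∀ b : B, g₁ b ^ p = g₂ b ^ p := by
      intro b
      rw [← Fbar_mk p A I hI, ← Fbar_mk p A I hI, hmk b]
    ext x
    obtain ⟨z, rfl⟩ := h.surjective x
    induction z using TensorProduct.induction_on with
    | zero => simp
    | tmul b t =>
      rw [relFrob_tmul, map_mul, map_mul, map_pow, map_pow, hpow b, AlgHom.commutes, AlgHom.commutes]
    | add z₁ z₂ h₁ h₂ => rw [map_add, map_add, map_add, h₁, h₂]
  · -- existence of lifts
    intro gbar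
    let φ : C →+* C := frobC p A C
    let f₁ : B →ₐ[A] Tw C φ :=
      { toRingHom := (Fbar p A I hI).comp gbar.toRingHom
        commutes' := by
          intro a
          change Fbar p A I hI (gbar (algebraMap A B a)) = _
          rw [AlgHom.commutes, algebraMap_tw]
          rfl }
    let f₂ : FrobAlg.Twist p A →ₐ[A] Tw C φ :=
      { toRingHom := (algebraMap A C).comp ((FrobAlg.toTwist p A).symm : FrobAlg.Twist p A →+* A)
        commutes' := by
          intro a
          change algebraMap A C ((FrobAlg.toTwist p A).symm (algebraMap A (FrobAlg.Twist p A) a)) = _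
          rw [FrobAlg.algebraMap_twist, RingEquiv.symm_apply_apply, algebraMap_tw, map_pow]
          rfl }
    let ψ₀ : FrobAlg.BaseChange p A B →ₐ[A] Tw C φ :=
      Algebra.TensorProduct.lift f₁ f₂ (fun _ _ => Commute.all _ _)
    let ψ : FrobAlg.BaseChange p A B →+* C := (untw C φ).comp ψ₀.toRingHom
    have hψ : ∀ (b : B) (t : FrobAlg.Twist p A), ψ (b ⊗ₜ[A] t) =
        Fbar p A I hI (gbar b) * algebraMap A C ((FrobAlg.toTwist p A).symm t) := by
      intro b t
      have h0 : ψ₀ (b ⊗ₜ[A] t) = f₁ b * f₂ t :=
        Algebra.TensorProduct.lift_tmul f₁ f₂ (fun _ _ => Commute.all _ _) b t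
      exact h0
    let e : FrobAlg.BaseChange p A B ≃+* B := RingEquiv.ofBijective (FrobAlg.relFrob p A B) h
    let g₀ : B →+* C := ψ.comp (e.symm : B →+* _)
    have hg₀ : ∀ z, g₀ (FrobAlg.relFrob p A B z) = ψ z := by
      intro z
      change ψ (e.symm (e z)) = ψ z
      rw [RingEquiv.symm_apply_apply]
    let g : B →ₐ[A] C :=
      { toRingHom := g₀
        commutes' := by
          intro a
          have h1 : FrobAlg.relFrob p A B ((1 : B) ⊗ₜ[A] (FrobAlg.toTwist p A a)) =
              algebraMap A B a := by
            rw [relFrob_tmul, one_pow, one_mul, RingEquiv.symm_apply_apply]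
          change g₀ (algebraMap A B a) = _
          rw [← h1, hg₀, hψ, map_one, map_one, one_mul, RingEquiv.symm_apply_apply] }
    refine ⟨g, ?_⟩
    ext x
    obtain ⟨z, rfl⟩ := h.surjective x
    change Ideal.Quotient.mk I (g₀ (FrobAlg.relFrob p A B z)) = gbar (FrobAlg.relFrob p A B z)
    rw [hg₀]
    induction z using TensorProduct.induction_on with
    | zero => simp only [map_zero]
    | tmul b t =>
      rw [hψ, relFrob_tmul, map_mul, map_mul, map_pow, mk_Fbar, AlgHom.commutes]
      rfl
    | add z₁ z₂ h₁ h₂ =>
      rw [map_add, map_add, map_add, map_add, h₁, h₂]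

end Groth.Agent.S16001
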