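import Groth.Statements.S5218
import Mathlib.CategoryTheory.Sites.RegularEpi
import Mathlib.CategoryTheory.Sites.LocallySurjective
import Mathlib.CategoryTheory.Limits.Types.Pullbacks

set_option autoImplicit false
open CategoryTheory CategoryTheory.Limits
universe w v₁ u₁
open ShfCat

namespace Groth.Agent.S5218

/-- (i) ⇒ (ii), for a single morphism: in the category of sheaves of sets on a site (with
sheafification), every epimorphism is a universal effective epimorphism. -/
theorem result {C : Type u₁} [Category.{v₁} C]
    (J : GrothendieckTopology C) [HasSheafify J (Type w)]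
    {X Y : Sheaf J (Type w)} (f : X ⟶ Y) [Epi f] :
    (MorphismProperty.universally (fun (A B : Sheaf J (Type w)) (p : A ⟶ B) => EffectiveEpi p)) f := by
  intro X' Y' i₁ i₂ f' sq
  have hf : Sheaf.IsLocallySurjective f := (Sheaf.isLocallySurjective_iff_epi f).2 inferInstance
  haveI : Epi f' := by
    rw [← Sheaf.isLocallySurjective_iff_epi]
    constructor
    intro U s
    have h1 : Presheaf.imageSieve f.hom (i₂.hom.app (Opposite.op U) s) ∈ J U :=
      Presheaf.imageSieve_mem J f.hom _
    refine J.superset_covering ?_ h1
    intro V g hg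
    obtain ⟨t, ht⟩ := hg
    have sqV : IsPullback (f'.hom.app (Opposite.op V)) (i₁.hom.app (Opposite.op V))
        (i₂.hom.app (Opposite.op V)) (f.hom.app (Opposite.op V)) :=
      sq.map (sheafToPresheaf J (Type w) ⋙ (evaluation Cᵒᵖ (Type w)).obj (Opposite.op V))
    obtain ⟨x', hx'1, hx'2⟩ := Limits.Types.exists_of_isPullback sqV (Y'.obj.map g.op s) t (by
      rw [ht]
      exact NatTrans.naturality_apply i₂.hom g.op s)
    exact ⟨x', hx'1⟩
  exact (isRegularEpi_iff_effectiveEpi f').1 (IsRegularEpiCategory.regularEpiOfEpi f')

end Groth.Agent.S5218
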