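import Groth.Statements.S5217
import Groth.Agent.H26.PshQuot
import Groth.Agent.S5218

set_option autoImplicit false
open CategoryTheory CategoryTheory.Limits
universe w v₁ u₁
open ShfCat

namespace Groth.Agent.S5217

theorem jointlyMono₂_map_of_adj {A : Type*} {B : Type*} [Category A] [Category B]
    {L : A ⥤ B} {G : B ⥤ A} (adj : L ⊣ G) {R X : B} (p₁ p₂ : R ⟶ X)
    (hj : JointlyMono₂ p₁ p₂) : JointlyMono₂ (G.map p₁) (G.map p₂) where
  right_cancellation Y f g h₁ h₂ := by
    apply (adj.homEquiv Y R).symm.injective
    apply hj.right_cancellation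
    · rw [← adj.homEquiv_naturality_right_symm, ← adj.homEquiv_naturality_right_symm, h₁]
    · rw [← adj.homEquiv_naturality_right_symm, ← adj.homEquiv_naturality_right_symm, h₂]

open Groth.Agent.H26.PshQuot in
theorem aux {C : Type u₁} [Category.{v₁} C]
    (J : GrothendieckTopology C) [HasSheafify J (Type w)]
    {R X : Sheaf J (Type w)} (p₁ p₂ : R ⟶ X) (e : EquivalenceRelation p₁ p₂) :
    Nonempty (UniversallyEffectiveEquivalenceRelation p₁ p₂) := by
  let S := sheafToPresheaf J (Type w)
  let F := presheafToSheaf J (Type w)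
  let adj := sheafificationAdjunction J (Type w)
  haveI hj : JointlyMono₂ (S.map p₁) (S.map p₂) :=
    jointlyMono₂_map_of_adj adj p₁ p₂ e.toReflexiveRelation.toJointlyMono₂
  let e' : EquivalenceRelation (S.map p₁) (S.map p₂) :=
    { __ := e.toReflexiveRelation.map S
      __ := e.toSymmetricRelation.map S
      __ := e.toTransitiveRelation.map S }
  let Q := quot (S.map p₁) (S.map p₂)
  let q : X.obj ⟶ Q := π (S.map p₁) (S.map p₂)
  have hpb : IsPullback (S.map p₁) (S.map p₂) q q :=
    isPullback_of_app (fun U => isPullback_app _ _ e' U)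
  have hpo : IsPushout (S.map p₁) (S.map p₂) q q :=
    isPushout_of_app (fun U => isPushout_app _ _ e' U)
  have hpb' := hpb.map F
  have hpo' := hpo.map F
  let εR : F.obj (S.obj R) ≅ R := asIso (adj.counit.app R)
  let εX : F.obj (S.obj X) ≅ X := asIso (adj.counit.app X)
  let B : Sheaf J (Type w) := F.obj Q
  let π' : X ⟶ B := εX.inv ≫ F.map q
  have n1 : F.map (S.map p₁) ≫ εX.hom = εR.hom ≫ p₁ := adj.counit.naturality p₁
  have n2 : F.map (S.map p₂) ≫ εX.hom = εR.hom ≫ p₂ := adj.counit.naturality p₂
  have nq : F.map q ≫ (Iso.refl B).hom = εX.hom ≫ π' :=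
    (Category.comp_id _).trans (Iso.hom_inv_id_assoc εX _).symm
  have kp : IsPullback p₁ p₂ π' π' := hpb'.of_iso εR εX εX (Iso.refl B) n1 n2 nq nq
  have po : IsPushout p₁ p₂ π' π' := hpo'.of_iso εR εX εX (Iso.refl B) n1 n2 nq nq
  haveI : Epi π' := ⟨fun a b hab => po.hom_ext hab hab⟩
  exact ⟨{ e with
    B := B
    π := π'
    isKernelPair := kp
    isPushout := po
    universally_effectiveEpi_π := Groth.Agent.S5218.result J π' }⟩

/-- In the category of sheaves of sets on a site, every equivalence relation is universally effective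
(its quotient sheaf exists, the relation is the kernel pair of the quotient map, and that map is a
universal effective epimorphism). Stated for sheaves valued in `Type w` whenever sheafification
exists. -/
theorem result {C : Type u₁} [Category.{v₁} C]
    (J : GrothendieckTopology C) [HasSheafify J (Type w)]
    {R X : Sheaf J (Type w)} (p₁ p₂ : R ⟶ X) [IsEquivalenceRelation p₁ p₂] :
    IsUniversallyEffectiveEquivalenceRelation p₁ p₂ := by
  obtain ⟨e⟩ := (inferInstance : IsEquivalenceRelation p₁ p₂).nonempty_equivalenceRelation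
  exact ⟨aux J p₁ p₂ e⟩

end Groth.Agent.S5217
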