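import Groth.Statements.S3081
import Groth.Agent.H30.EqRel

set_option autoImplicit false
universe u
open CategoryTheory
open SGA4

namespace Groth.Agent.S3081

open CategoryTheory.Limits in
/-- c): in the category of sheaves of u-small sets on a u-small site, every u-small family has a
coproduct which is disjoint and stable under base change, and every equivalence relation is
effective with universally effective-epimorphic quotient map. -/
theorem result {C : Type u} [SmallCategory C] (J : GrothendieckTopology C) :
    SGA4.HasDisjointUniversalCoproducts.{u + 1, u} (Sheaf J (Type u)) ∧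
    ∀ (R A : Sheaf J (Type u)) (p₁ p₂ : R ⟶ A), SGA4.IsEquivRel p₁ p₂ → SGA4.IsEffectiveUniversalEquivRel p₁ p₂ := by
  refine ⟨fun ι X => ?_, fun R A p₁ p₂ h => ?_⟩
  · have hc : IsColimit (Cofan.mk (∐ X) (Sigma.ι X)) := coproductIsCoproduct X
    refine ⟨Cofan.mk (∐ X) (Sigma.ι X), hc, ?_,
      Groth.Agent.H30.Cop.isUniversalColimit_of_isColimit ⟨hc⟩⟩
    haveI : ∀ i, Mono ((Cofan.mk (∐ X) (Sigma.ι X)).inj i) :=
      fun i => MonoCoprod.mono_inj X _ hc i
    exact CoproductDisjoint.of_cofan hc (fun {i j} _ => pullback.cone _ _)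
      (fun {i j} _ => pullback.isLimit _ _)
      (fun {i j} hij =>
        (Groth.Agent.H30.Cop.nonempty_isInitial_pullback_of_isColimit hc hij).some)
  · obtain ⟨er⟩ := Groth.Agent.H30.EqRel.nonempty_equivalenceRelation h
    obtain ⟨ue⟩ := Groth.Agent.S5217.aux J p₁ p₂ er
    refine ⟨ue.B, ue.π, ue.isKernelPair, ue.isPushout, fun B' g => ?_⟩
    exact ue.universally_effectiveEpi_π (pullback.fst ue.π g) g (pullback.snd ue.π g)
      (IsPullback.of_hasPullback ue.π g).flip

end Groth.Agent.S3081
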