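import Groth.Statements.S9517
import Groth.Agent.H36.SubobjectSections
-- import your own Groth.Agent.* helpers here

set_option autoImplicit false
universe u
open CategoryTheory CategoryTheory.Limits AlgebraicGeometry
attribute [local instance] HasDerivedCategory.standard
open Coherent

namespace Groth.Agent.S9517

set_option linter.style.haveILetI false
set_option linter.unusedSectionVars false

open Groth.Agent.H36.IdealMul Groth.Agent.H36.SubSec Groth.Agent.H36.DeligneLift

section Aux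

variable {X : Scheme.{u}} (F G : X.Modules) [F.IsQuasicoherent] [G.IsQuasicoherent]
  (ι : G ⟶ F) [Mono ι] (I : X.IdealSheafData)

/-- The subobject `I^k F ∩ G` of `F`. -/
noncomputable abbrev Sk (k : ℕ) : Subobject F :=
  Subobject.mk (Dual3.idealMulι (I ^ k) F) ⊓ Subobject.mk ι

/-- Sections of `I^k F ∩ G` over an affine open. -/
theorem range_arrow_Sk (k : ℕ) (W : X.affineOpens) :
    LinearMap.range (Groth.Agent.H8.appₗ (Sk F G ι I k).arrow W.1) =
      ((I.ideal W) ^ k • (⊤ : Submodule Γ(X, W.1) Γ(F, W.1))) ⊓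
        LinearMap.range (Groth.Agent.H8.appₗ ι W.1) := by
  have hpow : (I ^ k).ideal W = (I.ideal W) ^ k := rfl
  ext x
  constructor
  · rintro ⟨t, rfl⟩
    obtain ⟨⟨ta, hta⟩, ⟨tb, htb⟩⟩ :=
      exists_of_inf_arrow_app (Dual3.idealMulι (I ^ k) F) ι W.1 t
    refine ⟨?_, ⟨tb, htb⟩⟩
    have h1 := idealMulι_app_mem (I ^ k) F W ta
    rw [hpow, hta] at h1
    exact h1
  · rintro ⟨h1, ⟨tb, htb⟩⟩
    have h1' : x ∈ ((I ^ k).ideal W) • (⊤ : Submodule Γ(X, W.1) Γ(F, W.1)) := by
      rw [hpow]; exact h1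
    obtain ⟨ta, hta⟩ := (exists_idealMulι_app_eq_iff (I ^ k) F W x).mpr h1'
    obtain ⟨t, ht⟩ := exists_inf_arrow_app_eq (Dual3.idealMulι (I ^ k) F) ι W.1 x ta hta tb htb
    exact ⟨t, ht⟩

/-- Sections of `I^j · (I^k F ∩ G)` over an affine open. -/
theorem range_idealMul_Sk (j k : ℕ) (W : X.affineOpens) :
    LinearMap.range (Groth.Agent.H8.appₗ
      (Dual3.idealMulι (I ^ j) ((Sk F G ι I k : Subobject F) : X.Modules) ≫
        (Sk F G ι I k).arrow) W.1) =
      (I.ideal W) ^ j • (((I.ideal W) ^ k • (⊤ : Submodule Γ(X, W.1) Γ(F, W.1))) ⊓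
        LinearMap.range (Groth.Agent.H8.appₗ ι W.1)) := by
  haveI : ((Dual3.idealMul (I ^ k)).obj F).IsQuasicoherent := isQuasicoherent_idealMul _ _
  haveI hq : ((Sk F G ι I k : Subobject F) : X.Modules).IsQuasicoherent :=
    isQuasicoherent_inf (Dual3.idealMulι (I ^ k) F) ι
  have hpow : (I ^ j).ideal W = (I.ideal W) ^ j := rfl
  have hcomp : Groth.Agent.H8.appₗ
      (Dual3.idealMulι (I ^ j) ((Sk F G ι I k : Subobject F) : X.Modules) ≫
        (Sk F G ι I k).arrow) W.1 =
      (Groth.Agent.H8.appₗ (Sk F G ι I k).arrow W.1).comp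
        (Groth.Agent.H8.appₗ
          (Dual3.idealMulι (I ^ j) ((Sk F G ι I k : Subobject F) : X.Modules)) W.1) := rfl
  have hκ : LinearMap.range (Groth.Agent.H8.appₗ
      (Dual3.idealMulι (I ^ j) ((Sk F G ι I k : Subobject F) : X.Modules)) W.1) =
      (I.ideal W) ^ j • ⊤ := by
    ext y
    rw [← hpow, ← exists_idealMulι_app_eq_iff]
    rfl
  rw [hcomp, LinearMap.range_comp, hκ, Submodule.map_smul'', Submodule.map_top, range_arrow_Sk]

end Aux

/-- Let X be a Noetherian scheme, F a coherent O_X-module, G ⊆ F a quasi-coherent submodule (given by a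
monomorphism ι : G → F) and I a quasi-coherent sheaf of ideals. Then there is c ≥ 0 such that for
every n ≥ c the two subobjects I^(n-c)·(I^c F ∩ G) and I^n F ∩ G of F are equal. (Products J·M are
the submodule sheaves Dual3.idealMul J M; intersections are taken in the lattice of subobjects of
F.) -/
theorem result (X : Scheme.{u}) [IsNoetherian X] (F G : X.Modules) (hF : Coh.IsCoh F)
    (hG : Coh.IsQCoh G) (ι : G ⟶ F) [Mono ι] (I : X.IdealSheafData) :
    ∃ c : ℕ, ∀ n : ℕ, c ≤ n →
      Subobject.mk (Dual3.idealMulι (I ^ (n - c))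
          (Subobject.underlying.obj (Subobject.mk (Dual3.idealMulι (I ^ c) F) ⊓ Subobject.mk ι)) ≫
        (Subobject.mk (Dual3.idealMulι (I ^ c) F) ⊓ Subobject.mk ι).arrow) =
      Subobject.mk (Dual3.idealMulι (I ^ n) F) ⊓ Subobject.mk ι := by
  haveI : F.IsQuasicoherent := hF.1
  haveI : G.IsQuasicoherent := hG
  obtain ⟨s, hs⟩ := exists_finite_affine_cover X
  have hAR : ∀ W : X.affineOpens, ∃ k : ℕ, ∀ c ≥ k, ∀ n ≥ c,
      (I.ideal W) ^ (n - c) • ((I.ideal W) ^ c • (⊤ : Submodule Γ(X, W.1) Γ(F, W.1)) ⊓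
        LinearMap.range (Groth.Agent.H8.appₗ ι W.1)) =
      (I.ideal W) ^ n • (⊤ : Submodule Γ(X, W.1) Γ(F, W.1)) ⊓
        LinearMap.range (Groth.Agent.H8.appₗ ι W.1) := by
    intro W
    haveI : IsNoetherianRing Γ(X, W.1) := IsLocallyNoetherian.component_noetherian W
    haveI : Module.Finite Γ(X, W.1) Γ(F, W.1) := Groth.Agent.H8.finite_sections_of_isCoh F hF W.2
    exact artinRees_uniform (I.ideal W) _
  choose k hk using hAR
  refine ⟨s.sup k, fun n hn => ?_⟩
  haveI hq1 : ∀ j : ℕ, ((Dual3.idealMul (I ^ j)).obj F).IsQuasicoherent :=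
    fun j => isQuasicoherent_idealMul _ _
  haveI hqS : ∀ j : ℕ, ((Sk F G ι I j : Subobject F) : X.Modules).IsQuasicoherent :=
    fun j => isQuasicoherent_inf (Dual3.idealMulι (I ^ j) F) ι
  haveI hqA : ((Dual3.idealMul (I ^ (n - s.sup k))).obj
      ((Sk F G ι I (s.sup k) : Subobject F) : X.Modules)).IsQuasicoherent :=
    isQuasicoherent_idealMul _ _
  have hsec : ∀ W ∈ (↑s : Set X.affineOpens),
      LinearMap.range (Groth.Agent.H8.appₗ
        (Dual3.idealMulι (I ^ (n - s.sup k)) ((Sk F G ι I (s.sup k) : Subobject F) : X.Modules) ≫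
          (Sk F G ι I (s.sup k)).arrow) W.1) =
      LinearMap.range (Groth.Agent.H8.appₗ (Sk F G ι I n).arrow W.1) := by
    intro W hW
    rw [range_idealMul_Sk, range_arrow_Sk]
    exact hk W (s.sup k) (Finset.le_sup (Finset.mem_coe.mp hW)) n hn
  apply le_antisymm
  · obtain ⟨g, hg⟩ := exists_lift_of_sections
      (Dual3.idealMulι (I ^ (n - s.sup k)) ((Sk F G ι I (s.sup k) : Subobject F) : X.Modules) ≫
        (Sk F G ι I (s.sup k)).arrow) (Sk F G ι I n).arrow (↑s : Set X.affineOpens) hs (by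
        intro W hW t
        have h1 : Scheme.Modules.Hom.app
            (Dual3.idealMulι (I ^ (n - s.sup k))
              ((Sk F G ι I (s.sup k) : Subobject F) : X.Modules) ≫
              (Sk F G ι I (s.sup k)).arrow) W.1 t ∈
            LinearMap.range (Groth.Agent.H8.appₗ (Sk F G ι I n).arrow W.1) := by
          rw [← hsec W hW]
          exact ⟨t, rfl⟩
        obtain ⟨t', ht'⟩ := h1
        exact ⟨t', ht'⟩)
    exact Subobject.mk_le_of_comm g hg
  · obtain ⟨g, hg⟩ := exists_lift_of_sections (Sk F G ι I n).arrow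
      (Dual3.idealMulι (I ^ (n - s.sup k)) ((Sk F G ι I (s.sup k) : Subobject F) : X.Modules) ≫
        (Sk F G ι I (s.sup k)).arrow) (↑s : Set X.affineOpens) hs (by
        intro W hW t
        have h1 : Scheme.Modules.Hom.app (Sk F G ι I n).arrow W.1 t ∈
            LinearMap.range (Groth.Agent.H8.appₗ
              (Dual3.idealMulι (I ^ (n - s.sup k))
                ((Sk F G ι I (s.sup k) : Subobject F) : X.Modules) ≫
                (Sk F G ι I (s.sup k)).arrow) W.1) := by
          rw [hsec W hW]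
          exact ⟨t, rfl⟩
        obtain ⟨t', ht'⟩ := h1
        exact ⟨t', ht'⟩)
    exact Subobject.le_mk_of_comm g hg

end Groth.Agent.S9517
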