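import Groth.Statements.S3082
-- import your own Groth.Agent.* helpers here

set_option autoImplicit false
universe u
open CategoryTheory
open SGA4

namespace Groth.Agent.S3082

open Opposite

section helpers

variable {C : Type u} [SmallCategory C] (J : GrothendieckTopology C)

/-- `Hom(a(h_X), F) ≃ F(X)` -/
noncomputable def shHomEquiv (X : C) (F : Sheaf J (Type u)) :
    ((presheafToSheaf J (Type u)).obj (yoneda.obj X) ⟶ F) ≃ F.obj.obj (op X) :=
  ((sheafificationAdjunction J (Type u)).homEquiv _ _).trans yonedaEquiv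

lemma shHomEquiv_comp (X : C) {F F' : Sheaf J (Type u)}
    (a : (presheafToSheaf J (Type u)).obj (yoneda.obj X) ⟶ F) (g : F ⟶ F') :
    shHomEquiv J X F' (a ≫ g) = g.hom.app (op X) (shHomEquiv J X F a) := by
  simp only [shHomEquiv, Equiv.trans_apply]
  rw [Adjunction.homEquiv_naturality_right, yonedaEquiv_comp]
  rfl

lemma shHomEquiv_symm_comp (X : C) {F F' : Sheaf J (Type u)} (m : F.obj.obj (op X))
    (g : F ⟶ F') :
    (shHomEquiv J X F).symm m ≫ g = (shHomEquiv J X F').symm (g.hom.app (op X) m) := by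
  apply (shHomEquiv J X F').injective
  rw [shHomEquiv_comp, Equiv.apply_symm_apply, Equiv.apply_symm_apply]

lemma isSheafType (F : Sheaf J (Type u)) : Presieve.IsSheaf J F.obj :=
  (isSheaf_iff_isSheaf_of_type J F.obj).1 F.property

lemma sec_ext (F : Sheaf J (Type u)) {X : C} {S : Sieve X} (hS : S ∈ J X) (a b : F.obj.obj (op X))
    (h : ∀ ⦃Y : C⦄ (g : Y ⟶ X), S g → F.obj.map g.op a = F.obj.map g.op b) : a = b :=
  ((isSheafType J F) S hS).isSeparatedFor.ext (fun _ g hg => h g hg)

lemma sec_glue (F : Sheaf J (Type u)) {X : C} {S : Sieve X} (hS : S ∈ J X)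
    (x : ∀ ⦃Y : C⦄ (g : Y ⟶ X), S g → F.obj.obj (op Y))
    (hx : ∀ ⦃Y Z : C⦄ (g : Y ⟶ X) (k : Z ⟶ Y) (hg : S g),
       x (k ≫ g) (S.downward_closed hg k) = F.obj.map k.op (x g hg)) :
    ∃ m : F.obj.obj (op X), ∀ ⦃Y : C⦄ (g : Y ⟶ X) (hg : S g), F.obj.map g.op m = x g hg := by
  let x' : Presieve.FamilyOfElements F.obj S.arrows := fun Y g hg => x g hg
  have hx' : x'.Compatible := by
    rw [Presieve.compatible_iff_sieveCompatible]
    intro Y Z g k hg
    exact hx g k hg
  obtain ⟨m, hm, -⟩ := (isSheafType J F) S hS x' hx'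
  exact ⟨m, fun Y g hg => hm g hg⟩

lemma nat_apply {F F' : Sheaf J (Type u)} (f : F ⟶ F') {X Y : C} (g : Y ⟶ X)
    (m : F.obj.obj (op X)) :
    f.hom.app (op Y) (F.obj.map g.op m) = F'.obj.map g.op (f.hom.app (op X) m) := by
  have h := ConcreteCategory.congr_hom (f.hom.naturality g.op) m
  simpa using h

lemma map_comp_apply (F : Sheaf J (Type u)) {X Y Z : C} (g : Y ⟶ X) (k : Z ⟶ Y)
    (m : F.obj.obj (op X)) :
    F.obj.map (k ≫ g).op m = F.obj.map k.op (F.obj.map g.op m) := by
  rw [op_comp, Functor.map_comp]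
  rfl

end helpers

/-- Let (C, J) be a small site and G a set of objects of C such that each object of C has a covering
family whose members all lie in G. Then the sheafifications of the presheaves represented by the
members of G form a detecting family in the category Sh(C, J) of set-valued sheaves on (C, J): any
morphism of sheaves that is bijective on sections over each member of G is an isomorphism. -/
theorem result {C : Type u} [SmallCategory C] (J : GrothendieckTopology C) (G : Set C)
    (hG : ∀ X : C, ∃ (ι : Type u) (Y : ι → C) (f : ∀ i, Y i ⟶ X), Sieve.ofArrows Y f ∈ J X ∧ ∀ i, Y i ∈ G) :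
    (ObjectProperty.ofObj fun X : G => (presheafToSheaf J (Type u)).obj (yoneda.obj (X : C))).IsDetecting := by
  intro M N f hf
  have hbijG : ∀ X ∈ G, Function.Bijective (f.hom.app (op X)) := by
    intro X hX
    have hX' := hf _ (ObjectProperty.ofObj.mk (⟨X, hX⟩ : G))
    constructor
    · intro m1 m2 h
      obtain ⟨h', -, huniq⟩ := hX' ((shHomEquiv J X N).symm (f.hom.app (op X) m1))
      have e1 : (shHomEquiv J X M).symm m1 = h' :=
        huniq _ (shHomEquiv_symm_comp J X m1 f)
      have e2 : (shHomEquiv J X M).symm m2 = h' :=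
        huniq _ (by show _ ≫ f = _; rw [shHomEquiv_symm_comp J X m2 f, h])
      exact (shHomEquiv J X M).symm.injective (e1.trans e2.symm)
    · intro n
      obtain ⟨h', hh', -⟩ := hX' ((shHomEquiv J X N).symm n)
      refine ⟨shHomEquiv J X M h', ?_⟩
      rw [← shHomEquiv_comp, hh', Equiv.apply_symm_apply]
  have hinj : ∀ X : C, Function.Injective (f.hom.app (op X)) := by
    intro X m1 m2 h
    obtain ⟨ι, Y, p, hS, hY⟩ := hG X
    refine sec_ext J M hS _ _ ?_
    intro Z k hk
    obtain ⟨i, a, rfl⟩ := (Sieve.mem_ofArrows_iff _ _ _).1 hk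
    have e1 : M.obj.map (p i).op m1 = M.obj.map (p i).op m2 := by
      apply (hbijG _ (hY i)).1
      rw [nat_apply, nat_apply, h]
    rw [map_comp_apply, map_comp_apply, e1]
  have hsurj : ∀ X : C, Function.Surjective (f.hom.app (op X)) := by
    intro X n
    obtain ⟨ι, Y, p, hS, hY⟩ := hG X
    have hex : ∀ ⦃Z : C⦄ (k : Z ⟶ X), (Sieve.ofArrows Y p) k →
        ∃ m : M.obj.obj (op Z), f.hom.app (op Z) m = N.obj.map k.op n := by
      intro Z k hk
      obtain ⟨i, a, rfl⟩ := (Sieve.mem_ofArrows_iff _ _ _).1 hk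
      obtain ⟨mi, hmi⟩ := (hbijG _ (hY i)).2 (N.obj.map (p i).op n)
      refine ⟨M.obj.map a.op mi, ?_⟩
      rw [nat_apply, hmi, map_comp_apply]
    choose x hx using hex
    obtain ⟨m, hm⟩ := sec_glue J M hS x (by
      intro Z W k l hk
      apply hinj
      rw [hx, nat_apply, hx, map_comp_apply])
    refine ⟨m, ?_⟩
    refine sec_ext J N hS _ _ ?_
    intro Z k hk
    rw [← nat_apply, hm k hk, hx]
  have hiso : ∀ X : Cᵒᵖ, IsIso (f.hom.app X) := fun X =>
    (isIso_iff_bijective _).2 ⟨hinj X.unop, hsurj X.unop⟩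
  have hval : IsIso f.hom := NatIso.isIso_of_isIso_app _
  have : IsIso ((sheafToPresheaf J (Type u)).map f) := hval
  exact isIso_of_reflects_iso f (sheafToPresheaf J (Type u))

end Groth.Agent.S3082
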