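import Groth.Statements.S8355
-- import your own Groth.Agent.* helpers here

set_option autoImplicit false
universe v u
open CategoryTheory CategoryTheory.Limits
open SpSeq

namespace Groth.Agent.S8355

section helpers

variable {C : Type u} [Category.{v} C] [Abelian C] {r₀ : ℤ}
  (E : CohomologicalSpectralSequence C r₀)

theorem up (k : ℤ) (hk : r₀ ≤ k) (pq : ℤ × ℤ) (h : IsZero ((E.page k hk).X pq)) :
    IsZero ((E.page (k + 1) (by lia)).X pq) := by
  have h1 : IsZero ((E.page k hk).homology pq) :=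
    (HomologicalComplex.ExactAt.of_isZero h).isZero_homology
  exact h1.of_iso (E.iso k (k + 1) pq rfl hk).symm

theorem part1 (r : ℤ) (hr : r₀ ≤ r) (pq : ℤ × ℤ) (h : IsZero ((E.page r hr).X pq))
    (k : ℤ) (hk : r ≤ k) : IsZero ((E.page k (hr.trans hk)).X pq) := by
  induction k, hk using Int.leInduction with
  | base => exact h
  | succ k hk ih => exact up E k (hr.trans hk) pq ih

theorem down (k : ℤ) (hk : r₀ ≤ k) (pq : ℤ × ℤ)
    (hin : (E.page k hk).d (pq - (k, 1 - k)) pq = 0) (hout : (E.page k hk).d pq (pq + (k, 1 - k)) = 0)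
    (h : IsZero ((E.page (k + 1) (by lia)).X pq)) : IsZero ((E.page k hk).X pq) := by
  have h1 : IsZero ((E.page k hk).homology pq) := h.of_iso (E.iso k (k + 1) pq rfl hk)
  have hnext : (ComplexShape.up' ((k, 1 - k) : ℤ × ℤ)).next pq = pq + (k, 1 - k) :=
    ComplexShape.next_eq' _ rfl
  have hprev : (ComplexShape.up' ((k, 1 - k) : ℤ × ℤ)).prev pq = pq - (k, 1 - k) :=
    ComplexShape.prev_eq' _ (by simp [ComplexShape.up'])
  have e1 := (E.page k hk).iCyclesIso pq _ hnext hout
  have e2 := (E.page k hk).isoHomologyπ _ pq hprev hin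
  exact h1.of_iso (e1.symm.trans e2)

theorem cast_page (k k' : ℤ) (hkk : k = k') (hk : r₀ ≤ k) (hk' : r₀ ≤ k') (pq : ℤ × ℤ)
    (h : IsZero ((E.page k hk).X pq)) : IsZero ((E.page k' hk').X pq) := by
  subst hkk
  exact h

theorem down_n (s : ℤ) (hs : r₀ ≤ s) (pq : ℤ × ℤ) (hst : SpSeq.StationaryAt E pq s) (n : ℕ)
    (h : IsZero ((E.page (s + n) (by lia)).X pq)) : IsZero ((E.page s hs).X pq) := by
  induction n with
  | zero => exact cast_page E _ _ (by simp) _ _ pq h
  | succ n ih =>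
    apply ih
    have h0 : r₀ ≤ s + (n : ℤ) := by lia
    obtain ⟨hin, hout⟩ := hst.2 (s + n) h0 (by lia)
    refine down E (s + n) h0 pq hin hout ?_
    exact cast_page E _ _ (by push_cast; lia) _ _ pq h

theorem main (r : ℤ) (hr : r₀ ≤ r) (pq : ℤ × ℤ)
    (h : IsZero ((E.page r hr).X pq)) :
    (∀ (k : ℤ) (hk : r ≤ k), IsZero ((E.page k (hr.trans hk)).X pq)) ∧
      ∀ (H : ℤ → C) (a : SpSeq.Abutment E H),
        IsZero (SpSeq.grPiece (a.fil (pq.1 + pq.2)) (a.anti (pq.1 + pq.2)) pq.1) := by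
  refine ⟨part1 E r hr pq h, fun H a => ?_⟩
  refine IsZero.of_iso ?_ (a.β pq).symm
  have hst := a.stat pq
  refine down_n E (a.rk pq) hst.1 pq hst (r - a.rk pq).toNat ?_
  have hle : r ≤ a.rk pq + ((r - a.rk pq).toNat : ℤ) := by
    have := Int.self_le_toNat (r - a.rk pq)
    lia
  exact part1 E r hr pq h _ hle

end helpers


/-- Let E be a spectral sequence in an abelian category and suppose E_r^{p,q} = 0. Then E_k^{p,q} = 0
for every k ≥ r, and E_∞^{p,q} = 0: for any abutment data (H^n) of E, the graded piece gr^p H^{p+q},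
identified by the abutment with the limit term at (p, q), is zero. -/
theorem result {C : Type u} [Category.{v} C] [Abelian C] {r₀ : ℤ}
    (E : CohomologicalSpectralSequence C r₀) (r : ℤ) (hr : r₀ ≤ r) (pq : ℤ × ℤ)
    (h : IsZero ((E.page r hr).X pq)) :
    (∀ (k : ℤ) (hk : r ≤ k), IsZero ((E.page k (hr.trans hk)).X pq)) ∧
      ∀ (H : ℤ → C) (a : SpSeq.Abutment E H),
        IsZero (SpSeq.grPiece (a.fil (pq.1 + pq.2)) (a.anti (pq.1 + pq.2)) pq.1) := by
  exact main E r hr pq h

end Groth.Agent.S8355
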