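import Groth.Statements.S12448
import Mathlib

set_option autoImplicit false
universe u
open CategoryTheory CategoryTheory.Limits
open CohSite

namespace Groth.Agent.S12448

open CategoryTheory.Limits MonoidalCategory CartesianMonoidalCategory Opposite

noncomputable section

variable {C : Type u} [SmallCategory C] (J : GrothendieckTopology C)

/-- force the cartesian path for the monoidal structure on sheaves of sets -/
instance (priority := 10000) sheafMon : MonoidalCategory (Sheaf J (Type u)) :=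
  SemiCartesianMonoidalCategory.toMonoidalCategory

/-- underlying sheaf of sets -/
abbrev U : Sheaf J AddCommGrpCat.{u} ⥤ Sheaf J (Type u) := sheafCompose J (forget AddCommGrpCat.{u})

variable {J}
variable (F : Sheaf J AddCommGrpCat.{u})

example (c : Cᵒᵖ) : ((U J).obj F).obj.obj c = (F.obj.obj c : Type u) := rfl
example (c : Cᵒᵖ) : (((U J).obj F) ⊗ ((U J).obj F)).obj.obj c = (Prod (F.obj.obj c) (F.obj.obj c)) := rfl
example (c : Cᵒᵖ) : (𝟙_ (Sheaf J (Type u))).obj.obj c = PUnit.{u+1} := rfl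

/-- addition on sections -/
def addFun (c : Cᵒᵖ) : Prod (F.obj.obj c) (F.obj.obj c) → F.obj.obj c := fun p => p.1 + p.2

/-- addition -/
def addU : (U J).obj F ⊗ (U J).obj F ⟶ (U J).obj F where
  hom :=
    { app := fun c => TypeCat.ofHom (addFun F c)
      naturality := by
        intro c d f
        ext ⟨a, b⟩
        exact (map_add (F.obj.map f).hom (show F.obj.obj c from a) (show F.obj.obj c from b)).symm }

/-- zero -/
def zeroU : 𝟙_ (Sheaf J (Type u)) ⟶ (U J).obj F where
  hom :=
    { app := fun c => TypeCat.ofHom (fun _ : PUnit.{u+1} => (0 : F.obj.obj c))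
      naturality := by
        intro c d f
        ext x
        exact (map_zero (F.obj.map f).hom).symm }

/-- negation -/
def negU : (U J).obj F ⟶ (U J).obj F where
  hom :=
    { app := fun c => TypeCat.ofHom (fun x : F.obj.obj c => (-x : F.obj.obj c))
      naturality := by
        intro c d f
        ext x
        exact (map_neg (F.obj.map f).hom (show F.obj.obj c from x)).symm }

instance : AddGrpObj ((U J).obj F) where
  zero := zeroU F
  add := addU F
  zero_add := by
    ext c ⟨x, a⟩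
    exact zero_add (show F.obj.obj c from a)
  add_zero := by
    ext c ⟨a, x⟩
    exact add_zero (show F.obj.obj c from a)
  add_assoc := by
    ext c ⟨⟨a, b⟩, d⟩
    exact add_assoc (show F.obj.obj c from a) (show F.obj.obj c from b) (show F.obj.obj c from d)
  neg := negU F
  left_neg := by
    ext c a
    exact neg_add_cancel (show F.obj.obj c from a)
  right_neg := by
    ext c a
    exact add_neg_cancel (show F.obj.obj c from a)


open scoped AddMonObj

/-- pointwise formula for addition of morphisms into `U F` -/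
lemma add_app {T : Sheaf J (Type u)} (f g : T ⟶ (U J).obj F) (c : Cᵒᵖ) (t : T.obj.obj c) :
    (f + g).hom.app c t =
      ((show F.obj.obj c from f.hom.app c t) + (show F.obj.obj c from g.hom.app c t) : F.obj.obj c) :=
  rfl

lemma add_comm_U {T : Sheaf J (Type u)} (f g : T ⟶ (U J).obj F) : f + g = g + f := by
  ext c t
  exact add_comm (show F.obj.obj c from f.hom.app c t) (show F.obj.obj c from g.hom.app c t)

variable {F} in
/-- a sectionwise additive map of underlying sheaves of sets is a morphism of abelian sheaves -/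
def homOfAdd {N : Sheaf J AddCommGrpCat.{u}} (φ : (U J).obj F ⟶ (U J).obj N)
    (h : ∀ (c : Cᵒᵖ) (a b : F.obj.obj c), φ.hom.app c (a + b : F.obj.obj c) =
      ((show N.obj.obj c from φ.hom.app c a) + (show N.obj.obj c from φ.hom.app c b) : N.obj.obj c)) :
    F ⟶ N where
  hom :=
    { app := fun c => AddCommGrpCat.ofHom (AddMonoidHom.mk' (fun a : F.obj.obj c =>
        (show N.obj.obj c from φ.hom.app c a)) (h c))
      naturality := by
        intro c d f
        ext a
        exact ConcreteCategory.congr_hom (φ.hom.naturality f) a }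

variable {F} in
lemma U_map_homOfAdd {N : Sheaf J AddCommGrpCat.{u}} (φ : (U J).obj F ⟶ (U J).obj N) h :
    (U J).map (homOfAdd φ h) = φ := by
  ext c a
  rfl

variable {F} in
/-- additivity of `φ` on sections from the hom-group formulation -/
lemma add_of_comp_add {N : Sheaf J AddCommGrpCat.{u}} (φ : (U J).obj F ⟶ (U J).obj N)
    (h : (fst _ _ + snd _ _ : (U J).obj F ⊗ (U J).obj F ⟶ (U J).obj F) ≫ φ =
      fst _ _ ≫ φ + snd _ _ ≫ φ) (c : Cᵒᵖ) (a b : F.obj.obj c) :
    φ.hom.app c (a + b : F.obj.obj c) =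
      ((show N.obj.obj c from φ.hom.app c a) + (show N.obj.obj c from φ.hom.app c b) : N.obj.obj c) := by
  have := congrArg (fun f : (U J).obj F ⊗ (U J).obj F ⟶ (U J).obj N => f.hom.app c (a, b)) h
  exact this

variable {F} in
lemma comp_add_of_hom {N : Sheaf J AddCommGrpCat.{u}} (ψ : F ⟶ N) {T : Sheaf J (Type u)}
    (f g : T ⟶ (U J).obj F) : (f + g) ≫ (U J).map ψ = f ≫ (U J).map ψ + g ≫ (U J).map ψ := by
  ext c t
  exact map_add (ψ.hom.app c).hom (show F.obj.obj c from f.hom.app c t)
    (show F.obj.obj c from g.hom.app c t)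


section Psi

variable (X : Sheaf J (Type u)) [AddGrpObj X]
  (hX : (fst X X + snd X X : X ⊗ X ⟶ X) = snd X X + fst X X)

/-- addition on sections of an internal group -/
def sadd (c : Cᵒᵖ) (a b : X.obj.obj c) : X.obj.obj c := σ[X].hom.app c (a, b)

lemma sadd_assoc (c : Cᵒᵖ) (a b d : X.obj.obj c) :
    sadd X c (sadd X c a b) d = sadd X c a (sadd X c b d) :=
  congrArg (fun f : (X ⊗ X) ⊗ X ⟶ X => f.hom.app c ((a, b), d)) (AddMonObj.add_assoc X)

lemma sadd_zero_left (c : Cᵒᵖ) (a : X.obj.obj c) :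
    sadd X c (ζ[X].hom.app c PUnit.unit) a = a :=
  congrArg (fun f : 𝟙_ (Sheaf J (Type u)) ⊗ X ⟶ X => f.hom.app c (PUnit.unit, a))
    (AddMonObj.zero_add X)

lemma sadd_zero_right (c : Cᵒᵖ) (a : X.obj.obj c) :
    sadd X c a (ζ[X].hom.app c PUnit.unit) = a :=
  congrArg (fun f : X ⊗ 𝟙_ (Sheaf J (Type u)) ⟶ X => f.hom.app c (a, PUnit.unit))
    (AddMonObj.add_zero X)

lemma sadd_neg_left (c : Cᵒᵖ) (a : X.obj.obj c) :
    sadd X c ((AddGrpObj.neg (X := X)).hom.app c a) a = ζ[X].hom.app c PUnit.unit :=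
  congrArg (fun f : X ⟶ X => f.hom.app c a) (AddGrpObj.left_neg X)

include hX in
lemma sadd_comm (c : Cᵒᵖ) (a b : X.obj.obj c) : sadd X c a b = sadd X c b a :=
  congrArg (fun f : X ⊗ X ⟶ X => f.hom.app c (a, b)) hX

/-- the abelian group structure on sections -/
@[reducible] def secGroup (c : Cᵒᵖ) : AddCommGroup (X.obj.obj c) :=
  letI : Add (X.obj.obj c) := ⟨sadd X c⟩
  letI : Zero (X.obj.obj c) := ⟨ζ[X].hom.app c PUnit.unit⟩
  letI : Neg (X.obj.obj c) := ⟨fun a => (AddGrpObj.neg (X := X)).hom.app c a⟩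
  { AddGroup.ofLeftAxioms (sadd_assoc X c) (sadd_zero_left X c) (sadd_neg_left X c) with
    add_comm := sadd_comm X hX c }

lemma secGroup_add (c : Cᵒᵖ) (a b : X.obj.obj c) :
    (letI := secGroup X hX c; a + b) = sadd X c a b := rfl

lemma map_sadd {c d : Cᵒᵖ} (f : c ⟶ d) (a b : X.obj.obj c) :
    X.obj.map f (sadd X c a b) = sadd X d (X.obj.map f a) (X.obj.map f b) :=
  (ConcreteCategory.congr_hom (σ[X].hom.naturality f) (Prod.mk a b : X.obj.obj c × X.obj.obj c)).symm

/-- restriction maps as additive maps -/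
def PsiMap {c d : Cᵒᵖ} (f : c ⟶ d) :
    @AddCommGrpCat.of (X.obj.obj c) (secGroup X hX c) ⟶ @AddCommGrpCat.of (X.obj.obj d) (secGroup X hX d) :=
  letI := secGroup X hX c
  letI := secGroup X hX d
  AddCommGrpCat.ofHom (AddMonoidHom.mk' (X.obj.map f) (map_sadd X f))

lemma PsiMap_apply {c d : Cᵒᵖ} (f : c ⟶ d) (a : X.obj.obj c) :
    (PsiMap X hX f).hom a = X.obj.map f a := rfl

/-- the presheaf of abelian groups underlying `Ψ X` -/
def PsiPre : Cᵒᵖ ⥤ AddCommGrpCat.{u} where
  obj c := @AddCommGrpCat.of (X.obj.obj c) (secGroup X hX c)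
  map {c d} f := PsiMap X hX f
  map_id c := by
    refine ConcreteCategory.hom_ext _ _ (fun a => ?_)
    exact ConcreteCategory.congr_hom (X.obj.map_id c) a
  map_comp f g := by
    refine ConcreteCategory.hom_ext _ _ (fun a => ?_)
    exact ConcreteCategory.congr_hom (X.obj.map_comp f g) a

/-- `PsiPre ⋙ forget ≅ X.obj` -/
def PsiPreIso : PsiPre X hX ⋙ forget AddCommGrpCat.{u} ≅ X.obj :=
  NatIso.ofComponents (fun c => Iso.refl _) (by
    intro c d f
    ext a
    rfl)

/-- the abelian sheaf with underlying sheaf of sets `X` -/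
def Psi : Sheaf J AddCommGrpCat.{u} where
  obj := PsiPre X hX
  property := by
    rw [Presheaf.isSheaf_iff_isSheaf_forget J (PsiPre X hX) (forget AddCommGrpCat.{u}),
      Presheaf.isSheaf_of_iso_iff (PsiPreIso X hX)]
    exact X.property

/-- the identification `X ≅ U (Ψ X)` -/
def ιPsi : X ≅ (U J).obj (Psi X hX) where
  hom := ⟨(PsiPreIso X hX).inv⟩
  inv := ⟨(PsiPreIso X hX).hom⟩
  hom_inv_id := by ext c a; rfl
  inv_hom_id := by ext c a; rfl

lemma add_comp_ι {T : Sheaf J (Type u)} (f g : T ⟶ X) :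
    (f + g) ≫ (ιPsi X hX).hom = f ≫ (ιPsi X hX).hom + g ≫ (ιPsi X hX).hom := by
  ext c t
  rfl

lemma add_comp_ι_inv {T : Sheaf J (Type u)} (f g : T ⟶ (U J).obj (Psi X hX)) :
    (f + g) ≫ (ιPsi X hX).inv = f ≫ (ιPsi X hX).inv + g ≫ (ιPsi X hX).inv := by
  ext c t
  rfl

end Psi


section Adj

variable {C D : Type u} [SmallCategory C] [SmallCategory D]
  (J : GrothendieckTopology C) (K : GrothendieckTopology D) (u : D ⥤ C) [u.IsContinuous K J]

/-- pushforward of sheaves of sets -/
abbrev RS : Sheaf J (Type u) ⥤ Sheaf K (Type u) := u.sheafPushforwardContinuous (Type u) K J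
/-- pullback of sheaves of sets -/
abbrev GS : Sheaf K (Type u) ⥤ Sheaf J (Type u) := u.sheafPullback (Type u) K J
/-- the adjunction for sheaves of sets -/
abbrev adjS : GS J K u ⊣ RS J K u := u.sheafAdjunctionContinuous (Type u) K J
/-- pushforward of abelian sheaves -/
abbrev RA : Sheaf J AddCommGrpCat.{u} ⥤ Sheaf K AddCommGrpCat.{u} :=
  u.sheafPushforwardContinuous AddCommGrpCat.{u} K J
/-- pullback of abelian sheaves -/
abbrev LA : Sheaf K AddCommGrpCat.{u} ⥤ Sheaf J AddCommGrpCat.{u} :=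
  u.sheafPullback AddCommGrpCat.{u} K J
/-- the adjunction for abelian sheaves -/
abbrev adjA : LA J K u ⊣ RA J K u := u.sheafAdjunctionContinuous AddCommGrpCat.{u} K J

example : RA J K u ⋙ U K = U J ⋙ RS J K u := rfl

/-- the adjunction bijection, with target written as `U (R N)` -/
def Φ {T : Sheaf K (Type u)} {N : Sheaf J AddCommGrpCat.{u}} (ψ : (GS J K u).obj T ⟶ (U J).obj N) :
    T ⟶ (U K).obj ((RA J K u).obj N) :=
  (adjS J K u).homEquiv T ((U J).obj N) ψ

lemma Φ_add {T : Sheaf K (Type u)} {N : Sheaf J AddCommGrpCat.{u}}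
    (ψ ψ' : (GS J K u).obj T ⟶ (U J).obj N) :
    Φ J K u (ψ + ψ') = Φ J K u ψ + Φ J K u ψ' := by
  ext d t
  simp only [Φ, Adjunction.homEquiv_unit]
  rfl

/-- inverse of `Φ` -/
def Φinv {T : Sheaf K (Type u)} {N : Sheaf J AddCommGrpCat.{u}}
    (φ : T ⟶ (U K).obj ((RA J K u).obj N)) : (GS J K u).obj T ⟶ (U J).obj N :=
  ((adjS J K u).homEquiv T ((U J).obj N)).symm φ

lemma Φ_Φinv {T : Sheaf K (Type u)} {N : Sheaf J AddCommGrpCat.{u}}
    (φ : T ⟶ (U K).obj ((RA J K u).obj N)) : Φ J K u (Φinv J K u φ) = φ :=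
  ((adjS J K u).homEquiv T ((U J).obj N)).apply_symm_apply φ

lemma Φ_injective {T : Sheaf K (Type u)} {N : Sheaf J AddCommGrpCat.{u}} :
    Function.Injective (Φ J K u (T := T) (N := N)) :=
  ((adjS J K u).homEquiv T ((U J).obj N)).injective

lemma Φ_naturality_left {T T' : Sheaf K (Type u)} {N : Sheaf J AddCommGrpCat.{u}} (f : T' ⟶ T)
    (ψ : (GS J K u).obj T ⟶ (U J).obj N) :
    Φ J K u ((GS J K u).map f ≫ ψ) = f ≫ Φ J K u ψ :=
  (adjS J K u).homEquiv_naturality_left f ψ

lemma Φ_naturality_right {T : Sheaf K (Type u)} {N N' : Sheaf J AddCommGrpCat.{u}}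
    (ψ : (GS J K u).obj T ⟶ (U J).obj N) (g : N ⟶ N') :
    Φ J K u (ψ ≫ (U J).map g) = Φ J K u ψ ≫ (U K).map ((RA J K u).map g) :=
  (adjS J K u).homEquiv_naturality_right ψ ((U J).map g)

end Adj


section Main

open scoped Obj

variable {C D : Type u} [SmallCategory C] [SmallCategory D]
  (J : GrothendieckTopology C) (K : GrothendieckTopology D) (u : D ⥤ C) [u.IsContinuous K J]
  [(GS J K u).Monoidal] (F : Sheaf K AddCommGrpCat.{u})

/-- the underlying sheaf of sets of the candidate pullback -/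
abbrev XX : Sheaf J (Type u) := (GS J K u).obj ((U K).obj F)

lemma μinv_fst : (Functor.Monoidal.μIso (GS J K u) ((U K).obj F) ((U K).obj F)).inv ≫ fst _ _ =
    (GS J K u).map (fst _ _) := by
  rw [Iso.inv_comp_eq]
  exact (Functor.Monoidal.μ_fst (GS J K u) _ _).symm

lemma μinv_snd : (Functor.Monoidal.μIso (GS J K u) ((U K).obj F) ((U K).obj F)).inv ≫ snd _ _ =
    (GS J K u).map (snd _ _) := by
  rw [Iso.inv_comp_eq]
  exact (Functor.Monoidal.μ_snd (GS J K u) _ _).symm

lemma XX_comm : (fst (XX J K u F) (XX J K u F) + snd (XX J K u F) (XX J K u F) :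
    XX J K u F ⊗ XX J K u F ⟶ XX J K u F) = snd _ _ + fst _ _ := by
  rw [← cancel_epi (Functor.Monoidal.μIso (GS J K u) ((U K).obj F) ((U K).obj F)).inv,
    AddMonObj.comp_add, AddMonObj.comp_add, μinv_fst, μinv_snd, ← Functor.map_add',
    ← Functor.map_add', add_comm_U]

/-- the candidate pullback as an abelian sheaf -/
abbrev PP : Sheaf J AddCommGrpCat.{u} := Psi (XX J K u F) (XX_comm J K u F)

/-- `X ≅ U P` -/
abbrev ιι : XX J K u F ≅ (U J).obj (PP J K u F) := ιPsi (XX J K u F) (XX_comm J K u F)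

/-- the unit map `U F ⟶ U (R P)` -/
def a₀ : (U K).obj F ⟶ (U K).obj ((RA J K u).obj (PP J K u F)) := Φ J K u (ιι J K u F).hom

lemma comp_a₀ {T : Sheaf K (Type u)} (f : T ⟶ (U K).obj F) :
    f ≫ a₀ J K u F = Φ J K u ((GS J K u).map f ≫ (ιι J K u F).hom) :=
  (Φ_naturality_left J K u f _).symm

lemma a₀_add : (fst _ _ + snd _ _ : (U K).obj F ⊗ (U K).obj F ⟶ (U K).obj F) ≫ a₀ J K u F =
    fst _ _ ≫ a₀ J K u F + snd _ _ ≫ a₀ J K u F := by
  rw [comp_a₀, comp_a₀, comp_a₀, Functor.map_add', add_comp_ι, Φ_add]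

/-- the unit map as a morphism of abelian sheaves -/
def aa : F ⟶ (RA J K u).obj (PP J K u F) :=
  homOfAdd (a₀ J K u F) (add_of_comp_add (a₀ J K u F) (a₀_add J K u F))

lemma U_map_aa : (U K).map (aa J K u F) = a₀ J K u F := U_map_homOfAdd _ _

/-- `L F ⟶ P` -/
def abar : (LA J K u).obj F ⟶ PP J K u F := ((adjA J K u).homEquiv F (PP J K u F)).symm (aa J K u F)

/-- the comparison `X ⟶ U (L F)` -/
def ββ : XX J K u F ⟶ (U J).obj ((LA J K u).obj F) :=
  Φinv J K u ((U K).map ((adjA J K u).unit.app F))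

lemma Φ_ββ : Φ J K u (ββ J K u F) = (U K).map ((adjA J K u).unit.app F) := Φ_Φinv J K u _

lemma ββ_add_aux : (fst _ _ + snd _ _ : XX J K u F ⊗ XX J K u F ⟶ XX J K u F) ≫ ββ J K u F =
    fst _ _ ≫ ββ J K u F + snd _ _ ≫ ββ J K u F := by
  rw [← cancel_epi (Functor.Monoidal.μIso (GS J K u) ((U K).obj F) ((U K).obj F)).inv,
    AddMonObj.comp_add, ← Category.assoc, AddMonObj.comp_add, ← Category.assoc, ← Category.assoc,
    μinv_fst, μinv_snd, ← Functor.map_add']
  apply Φ_injective J K u
  rw [Φ_add, Φ_naturality_left, Φ_naturality_left, Φ_naturality_left, Φ_ββ, comp_add_of_hom]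

lemma ββ_add {T : Sheaf J (Type u)} (f g : T ⟶ XX J K u F) :
    (f + g) ≫ ββ J K u F = f ≫ ββ J K u F + g ≫ ββ J K u F := by
  have h1 : f + g = lift f g ≫ (fst _ _ + snd _ _) := by
    rw [AddMonObj.comp_add, lift_fst, lift_snd]
  rw [h1, Category.assoc, ββ_add_aux, AddMonObj.comp_add, lift_fst_assoc, lift_snd_assoc]

/-- `U P ⟶ U (L F)` -/
def β' : (U J).obj (PP J K u F) ⟶ (U J).obj ((LA J K u).obj F) := (ιι J K u F).inv ≫ ββ J K u F

lemma β'_add : (fst _ _ + snd _ _ : (U J).obj (PP J K u F) ⊗ (U J).obj (PP J K u F) ⟶ _) ≫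
    β' J K u F = fst _ _ ≫ β' J K u F + snd _ _ ≫ β' J K u F := by
  unfold β'
  rw [← Category.assoc, add_comp_ι_inv, ββ_add, Category.assoc, Category.assoc]

/-- `P ⟶ L F` -/
def bb : PP J K u F ⟶ (LA J K u).obj F :=
  homOfAdd (β' J K u F) (add_of_comp_add (β' J K u F) (β'_add J K u F))

lemma U_map_bb : (U J).map (bb J K u F) = β' J K u F := U_map_homOfAdd _ _

lemma Φ_ι_comp (N : Sheaf J AddCommGrpCat.{u}) (g : PP J K u F ⟶ N) :
    Φ J K u ((ιι J K u F).hom ≫ (U J).map g) = a₀ J K u F ≫ (U K).map ((RA J K u).map g) :=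
  Φ_naturality_right J K u _ g

lemma unit_comp_RA_map {N : Sheaf J AddCommGrpCat.{u}} (g : (LA J K u).obj F ⟶ N) :
    (adjA J K u).unit.app F ≫ (RA J K u).map g = (adjA J K u).homEquiv F N g :=
  ((adjA J K u).homEquiv_unit F N g).symm

lemma abar_bb : abar J K u F ≫ bb J K u F = 𝟙 _ := by
  apply ((adjA J K u).homEquiv F _).injective
  rw [Adjunction.homEquiv_naturality_right]
  unfold abar
  rw [Equiv.apply_symm_apply]
  apply (U K).map_injective
  rw [Functor.map_comp, U_map_aa, ← Φ_ι_comp, U_map_bb]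
  unfold β'
  rw [Iso.hom_inv_id_assoc, Φ_ββ, ← unit_comp_RA_map, CategoryTheory.Functor.map_id]
  exact congrArg _ (Category.comp_id _).symm

lemma bb_abar : bb J K u F ≫ abar J K u F = 𝟙 _ := by
  apply (U J).map_injective
  rw [Functor.map_comp, U_map_bb, CategoryTheory.Functor.map_id]
  unfold β'
  rw [Category.assoc, Iso.inv_comp_eq, Category.comp_id]
  apply Φ_injective J K u
  rw [Φ_naturality_right, Φ_ββ, ← Functor.map_comp, unit_comp_RA_map]
  unfold abar
  rw [Equiv.apply_symm_apply]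
  exact U_map_aa J K u F

lemma isIso_ββ : IsIso (ββ J K u F) := by
  have h : ββ J K u F = (ιι J K u F).hom ≫ (U J).map (bb J K u F) := by
    rw [U_map_bb]
    unfold β'
    rw [Iso.hom_inv_id_assoc]
  have : IsIso (bb J K u F) := ⟨abar J K u F, bb_abar J K u F, abar_bb J K u F⟩
  rw [h]
  infer_instance

variable {F} in
lemma ββ_naturality {F' : Sheaf K AddCommGrpCat.{u}} (f : F ⟶ F') :
    (GS J K u).map ((U K).map f) ≫ ββ J K u F' = ββ J K u F ≫ (U J).map ((LA J K u).map f) := by
  apply Φ_injective J K u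
  rw [Φ_naturality_left, Φ_ββ, Φ_naturality_right, Φ_ββ, ← Functor.map_comp, ← Functor.map_comp]
  exact congrArg _ ((adjA J K u).unit.naturality f)

end Main

theorem main {C D : Type u} [SmallCategory C] [SmallCategory D]
    (J : GrothendieckTopology C) (K : GrothendieckTopology D) (u : D ⥤ C) [u.IsContinuous K J]
    (hu : PreservesFiniteLimits (u.sheafPullback (Type u) K J)) :
    PreservesFiniteLimits (u.sheafPullback AddCommGrpCat.{u} K J) := by
  let _ : (GS J K u).Monoidal := Functor.Monoidal.ofChosenFiniteProducts _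
  have hadd : (LA J K u).Additive := (adjA J K u).left_adjoint_additive
  have hcolim : PreservesFiniteColimits (LA J K u) := by
    have := (adjA J K u).leftAdjoint_preservesColimits
    exact PreservesColimitsOfSize.preservesFiniteColimits.{0, 0} _
  show PreservesFiniteLimits (LA J K u)
  rw [Functor.preservesFiniteLimits_iff_forall_exact_map_and_mono]
  intro S hS
  refine ⟨((Functor.preservesFiniteColimits_iff_forall_exact_map_and_epi _).1 hcolim S hS).1, ?_⟩
  have h0 : Mono S.f := hS.mono_f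
  have hUK : (U K).IsRightAdjoint := inferInstance
  have h1 : Mono ((U K).map S.f) := inferInstance
  have h2 : Mono ((GS J K u).map ((U K).map S.f)) := inferInstance
  have i1 := isIso_ββ J K u S.X₁
  have i2 := isIso_ββ J K u S.X₂
  have h3 : Mono (ββ J K u S.X₁ ≫ (U J).map ((LA J K u).map S.f)) := by
    rw [← ββ_naturality]
    exact mono_comp _ _
  have h4 : Mono ((U J).map ((LA J K u).map S.f)) := by
    have := mono_comp (inv (ββ J K u S.X₁)) (ββ J K u S.X₁ ≫ (U J).map ((LA J K u).map S.f))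
    rwa [IsIso.inv_hom_id_assoc] at this
  exact (U J).mono_of_mono_map h4

end



/-- For a morphism of topoi given by a continuous functor u : D ⥤ C between small sites whose pullback
on sheaves of sets is exact, the pullback functor f⁻¹ on abelian sheaves, Ab(D) → Ab(C) (left
adjoint of u_*, so right exact in any case), preserves finite limits, i.e. is exact. -/
theorem result {C D : Type u} [SmallCategory C] [SmallCategory D]
    (J : GrothendieckTopology C) (K : GrothendieckTopology D) (u : D ⥤ C) [u.IsContinuous K J]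
    (hu : PreservesFiniteLimits (u.sheafPullback (Type u) K J)) :
    PreservesFiniteLimits (u.sheafPullback AddCommGrpCat.{u} K J) := by
  exact main J K u hu

end Groth.Agent.S12448
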