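import Groth.Statements.S6162
import Mathlib
import Groth.Agent.S12448
import Groth.Agent.H5.SpSeq.ExtForm
import Groth.Prelude.Def_FreeSh

set_option autoImplicit false
universe u
open CategoryTheory
open CohSite

namespace Groth.Agent.S6162


open CategoryTheory.Limits Opposite Abelian Groth.Agent.H5.GSS

section

variable {C D : Type u} [SmallCategory C] [SmallCategory D]
    (J : GrothendieckTopology C) (K : GrothendieckTopology D) (u : D ⥤ C) [u.IsContinuous K J]

/-- `Hom(ℤ_V, u_* F) ≃ F(uV) ≃ Hom(ℤ_{uV}, F)`. -/
noncomputable def pushEquiv (V : D) (F : Sheaf J AddCommGrpCat.{u}) :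
    (CohCx.freeSheaf K V ⟶ (CohSite.push J K u).obj F) ≃+ (CohCx.freeSheaf J (u.obj V) ⟶ F) :=
  ((CohFree.homEquivSect K V ((CohSite.push J K u).obj F)).trans
    (AddEquiv.refl _ : ((CohSite.push J K u).obj F).obj.obj (op V) ≃+ F.obj.obj (op (u.obj V)))).trans
    (CohFree.homEquivSect J (u.obj V) F).symm

theorem evalGen_comp (U : C) {F G : Sheaf J AddCommGrpCat.{u}} (φ : CohCx.freeSheaf J U ⟶ F)
    (g : F ⟶ G) :
    CohFree.evalGen J U G (φ ≫ g) = (g.hom.app (op U)).hom (CohFree.evalGen J U F φ) := rfl

theorem pushEquiv_comp (V : D) {F G : Sheaf J AddCommGrpCat.{u}} (g : F ⟶ G)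
    (ψ : CohCx.freeSheaf K V ⟶ (CohSite.push J K u).obj F) :
    pushEquiv J K u V G (ψ ≫ (CohSite.push J K u).map g) = pushEquiv J K u V F ψ ≫ g := by
  apply (CohFree.homEquivSect J (u.obj V) G).injective
  rw [CohFree.homEquivSect_apply, CohFree.homEquivSect_apply, evalGen_comp]
  have h1 : CohFree.evalGen J (u.obj V) G (pushEquiv J K u V G (ψ ≫ (CohSite.push J K u).map g)) =
      CohFree.evalGen K V ((CohSite.push J K u).obj G) (ψ ≫ (CohSite.push J K u).map g) :=
    AddEquiv.apply_symm_apply (CohFree.homEquivSect J (u.obj V) G) _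
  have h2 : CohFree.evalGen J (u.obj V) F (pushEquiv J K u V F ψ) =
      CohFree.evalGen K V ((CohSite.push J K u).obj F) ψ :=
    AddEquiv.apply_symm_apply (CohFree.homEquivSect J (u.obj V) F) _
  rw [h1, h2, evalGen_comp]
  rfl

/-- The natural isomorphism `Hom(ℤ_V, u_* -) ≅ Hom(ℤ_{uV}, -)`. -/
noncomputable def pushIso (V : D) :
    CohSite.push J K u ⋙ homF (CohCx.freeSheaf K V) ≅ homF (CohCx.freeSheaf J (u.obj V)) :=
  NatIso.ofComponents (fun F => AddEquiv.toAddCommGrpIso (pushEquiv J K u V F)) (fun {F G} g => by
    apply AddCommGrpCat.ext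
    intro ψ
    exact pushEquiv_comp J K u V g ψ)

end


open CategoryTheory.Limits in
/-- Existence form of the Leray spectral sequence; abelian sheaves on small sites: let u : D -> C be a
continuous functor between small sites whose pullback on sheaves of sets is exact (a morphism of
topoi), u_* M = M o u the direct image and R^q u_* its right derived functors. For an abelian sheaf
M on C and an object V of D there is an E_2 spectral sequence of abelian groups, bounded, with
E_2^{p,q} isomorphic to H^p(V, R^q u_* M) for p, q >= 0 and zero otherwise, together with abutment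
data whose filtrations are finite on H^n(u(V), M) (n >= 0; zero for n < 0). The E_2 identifications
and the abutment isomorphisms are asserted to exist only; they are not pinned to the canonical maps
of the construction, so edge maps and low-degree exact sequences are not part of this statement. -/
theorem result {C D : Type u} [SmallCategory C] [SmallCategory D]
    (J : GrothendieckTopology C) (K : GrothendieckTopology D) (u : D ⥤ C) [u.IsContinuous K J]
    [PreservesFiniteLimits (u.sheafPullback (Type u) K J)] (M : Sheaf J AddCommGrpCat.{u}) (V : D) :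
    ∃ (E : E₂CohomologicalSpectralSequence AddCommGrpCat.{u})
      (a : SpSeq.Abutment E (fun n : ℤ =>
        if 0 ≤ n then AddCommGrpCat.of (CohSite.HU M n.toNat (u.obj V)) else AddCommGrpCat.of PUnit.{u + 1})),
      (∀ n, a.IsFinite n) ∧ SpSeq.IsBounded E ∧
      ∀ p q : ℤ, Nonempty ((E.page 2 le_rfl).X (p, q) ≅
        (if 0 ≤ p ∧ 0 ≤ q then AddCommGrpCat.of (CohSite.HU ((CohSite.Rpush J K u q.toNat).obj M) p.toNat V)
         else AddCommGrpCat.of PUnit.{u + 1})) := by
  have hex : PreservesFiniteLimits (u.sheafPullback AddCommGrpCat.{u} K J) :=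
    Groth.Agent.S12448.result J K u inferInstance
  have hinj : ∀ Q : Sheaf J AddCommGrpCat.{u}, Injective Q → Injective ((CohSite.push J K u).obj Q) := by
    intro Q hQ
    exact Injective.injective_of_adjoint (u.sheafAdjunctionContinuous AddCommGrpCat.{u} K J) Q
  refine extForm (CohSite.push J K u) (CohCx.freeSheaf J (u.obj V)) (CohCx.freeSheaf K V)
    (pushIso J K u V) ?_ M _ _ ?_ ?_ ?_ ?_
  · intro Q hQ q hq x
    have := hinj Q hQ
    obtain ⟨q', rfl⟩ : ∃ q', q = q' + 1 := ⟨q - 1, by omega⟩
    exact Ext.eq_zero_of_injective x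
  · intro n
    simp only [Int.natCast_nonneg, if_true, Int.toNat_natCast]
    exact ⟨Iso.refl _⟩
  · intro n hn
    rw [if_neg (by omega)]
    exact AddCommGrpCat.isZero_of_subsingleton _
  · intro p q
    simp only [Int.natCast_nonneg, and_self, if_true, Int.toNat_natCast]
    exact ⟨Iso.refl _⟩
  · intro p q hpq
    rw [if_neg (by omega)]
    exact AddCommGrpCat.isZero_of_subsingleton _

end Groth.Agent.S6162
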