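import Groth.Statements.S8347
import Mathlib

set_option autoImplicit false
universe v u
open CategoryTheory CategoryTheory.Limits
open SpSeq

namespace Groth.Agent.S8347


noncomputable section

variable {C : Type u} [Category.{v} C] [Abelian C] {r₀ : ℤ}

lemma prev_eq (r : ℤ) (pq : ℤ × ℤ) :
    (ComplexShape.up' (⟨r, 1 - r⟩ : ℤ × ℤ)).prev pq = pq - (r, 1 - r) :=
  (ComplexShape.up' (⟨r, 1 - r⟩ : ℤ × ℤ)).prev_eq' (show pq - (r, 1 - r) + (r, 1 - r) = pq by simp)

lemma next_eq (r : ℤ) (pq : ℤ × ℤ) :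
    (ComplexShape.up' (⟨r, 1 - r⟩ : ℤ × ℤ)).next pq = pq + (r, 1 - r) :=
  (ComplexShape.up' (⟨r, 1 - r⟩ : ℤ × ℤ)).next_eq' rfl

/-- next page at a position with vanishing differentials -/
def stepIso (E : CohomologicalSpectralSequence C r₀) (pq : ℤ × ℤ) (r : ℤ) (hr : r₀ ≤ r)
    (h1 : (E.page r hr).d (pq - (r, 1 - r)) pq = 0)
    (h2 : (E.page r hr).d pq (pq + (r, 1 - r)) = 0) :
    (E.page (r + 1) (hr.trans (Int.le_add_one le_rfl))).X pq ≅ (E.page r hr).X pq :=
  (E.iso r (r + 1) pq rfl hr).symm ≪≫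
    ((E.page r hr).isoHomologyπ _ pq (prev_eq r pq) h1).symm ≪≫
    (E.page r hr).iCyclesIso pq _ (next_eq r pq) h2

lemma isZero_step (E : CohomologicalSpectralSequence C r₀) (pq : ℤ × ℤ) (r : ℤ) (hr : r₀ ≤ r)
    (h : IsZero ((E.page r hr).X pq)) :
    IsZero ((E.page (r + 1) (hr.trans (Int.le_add_one le_rfl))).X pq) := by
  refine IsZero.of_iso ?_ (E.iso r (r + 1) pq rfl hr).symm
  exact ShortComplex.isZero_homology_of_isZero_X₂ _ h

lemma isZero_of_le (E : CohomologicalSpectralSequence C r₀) (pq : ℤ × ℤ) (r : ℤ) (hr : r₀ ≤ r)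
    (h : IsZero ((E.page r hr).X pq)) (r' : ℤ) (hrr' : r ≤ r') :
    IsZero ((E.page r' (hr.trans hrr')).X pq) := by
  induction r', hrr' using Int.leInduction with
  | base => exact h
  | succ k hk ih => exact isZero_step E pq k (hr.trans hk) ih

lemma stat_iso (E : CohomologicalSpectralSequence C r₀) (pq : ℤ × ℤ) (r : ℤ)
    (hst : SpSeq.StationaryAt E pq r) (r' : ℤ) (hrr' : r ≤ r') :
    Nonempty ((E.page r' (hst.1.trans hrr')).X pq ≅ (E.page r hst.1).X pq) := by
  induction r', hrr' using Int.leInduction with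
  | base => exact ⟨Iso.refl _⟩
  | succ k hk ih =>
    obtain ⟨e⟩ := ih
    obtain ⟨h1, h2⟩ := hst.2 k (hst.1.trans hk) hk
    exact ⟨stepIso E pq k (hst.1.trans hk) h1 h2 ≪≫ e⟩


variable {E : CohomologicalSpectralSequence C r₀} {H : ℤ → C} (a : SpSeq.Abutment E H)

lemma isZero_limit (pq : ℤ × ℤ) (r : ℤ) (hr : r₀ ≤ r) (h : IsZero ((E.page r hr).X pq)) :
    IsZero ((E.page (a.rk pq) (a.stat pq).1).X pq) := by
  rcases le_total r (a.rk pq) with h' | h'
  · exact isZero_of_le E pq r hr h _ h'
  · obtain ⟨e⟩ := stat_iso E pq (a.rk pq) (a.stat pq) r h'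
    exact IsZero.of_iso h e.symm

lemma isZero_gr (pq : ℤ × ℤ) (m : ℤ) (hm : pq.1 + pq.2 = m)
    (hz : IsZero ((E.page (a.rk pq) (a.stat pq).1).X pq)) :
    IsZero (grPiece (a.fil m) (a.anti m) pq.1) := by
  subst hm
  exact IsZero.of_iso hz (a.β pq).symm

lemma β_iso (pq : ℤ × ℤ) (m : ℤ) (hm : pq.1 + pq.2 = m) :
    Nonempty ((E.page (a.rk pq) (a.stat pq).1).X pq ≅ grPiece (a.fil m) (a.anti m) pq.1) := by
  subst hm
  exact ⟨a.β pq⟩

omit a in
lemma fil_eq_of_isZero_gr {X : C} (F : ℤ → Subobject X) (hF : Antitone F) (p : ℤ)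
    (h : IsZero (grPiece F hF p)) : F p = F (p + 1) := by
  have hle : F (p + 1) ≤ F p := hF (Int.le_add_one le_rfl)
  refine le_antisymm ?_ hle
  have hepi : Epi ((F (p + 1)).ofLE (F p) hle) := Preadditive.epi_of_isZero_cokernel _ h
  have hiso : IsIso ((F (p + 1)).ofLE (F p) hle) := isIso_of_mono_of_epi _
  refine Subobject.le_of_comm (inv ((F (p + 1)).ofLE (F p) hle)) ?_
  rw [IsIso.inv_comp_eq, Subobject.ofLE_arrow]

omit a in
lemma subquot_top_bot {X : C} (Z B : Subobject X) (h : B ≤ Z) (hB : B = ⊥) (hZ : Z = ⊤) :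
    Nonempty (subquot Z B h ≅ X) := by
  subst hB hZ
  have h0 : (⊥ : Subobject X).ofLE ⊤ h = 0 :=
    zero_of_source_iso_zero _ Subobject.botCoeIsoZero
  exact ⟨cokernelIsoOfEq h0 ≪≫ cokernelZeroIsoTarget ≪≫ asIso (⊤ : Subobject X).arrow⟩


theorem main (r : ℤ) (hr : r₀ ≤ r) (q : ℤ → ℤ)
    (hdeg : ∀ m q' : ℤ, q' ≠ q m → IsZero ((E.page r hr).X (m - q', q')))
    (n : ℤ) (hdisc : (a.filObj n).IsDiscrete) (hexh : a.IsExhaustive n)
    (hst : SpSeq.StationaryAt E (n - q n, q n) r) :
    Nonempty (H n ≅ (E.page r hr).X (n - q n, q n)) := by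
  -- the filtration is constant away from `p₀ = n - q n`
  have hgr : ∀ p : ℤ, p ≠ n - q n → a.fil n p = a.fil n (p + 1) := by
    intro p hp
    apply fil_eq_of_isZero_gr (a.fil n) (a.anti n) p
    have h1 : IsZero ((E.page r hr).X (n - (n - p), n - p)) := hdeg n (n - p) (by omega)
    have h2 : (n - (n - p), n - p) = ((p, n - p) : ℤ × ℤ) := by
      ext <;> simp
    rw [h2] at h1
    exact isZero_gr a (p, n - p) n (by simp) (isZero_limit a (p, n - p) r hr h1)
  obtain ⟨b, hb⟩ := hdisc
  have hb' : a.fil n b = ⊥ := hb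
  -- zero above p₀
  have hbot : ∀ p : ℤ, n - q n < p → a.fil n p = ⊥ := by
    intro p hp
    rcases le_total b p with hbp | hpb
    · exact le_bot_iff.1 ((a.anti n hbp).trans hb'.le)
    · induction p, hpb using Int.leInductionDown with
      | base => exact hb'
      | pred k hk ih =>
        have : a.fil n (k - 1) = a.fil n (k - 1 + 1) := hgr (k - 1) (by omega)
        rw [this, sub_add_cancel]
        exact ih (by omega)
  -- everything below p₀
  have hconst : ∀ p : ℤ, p ≤ n - q n → a.fil n p = a.fil n (n - q n) := by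
    intro p hp
    induction p, hp using Int.leInductionDown with
    | base => rfl
    | pred k hk ih =>
      have : a.fil n (k - 1) = a.fil n (k - 1 + 1) := hgr (k - 1) (by omega)
      rw [this, sub_add_cancel]
      exact ih
  have htop : a.fil n (n - q n) = ⊤ := by
    refine top_le_iff.1 (hexh.2 ?_)
    rintro _ ⟨p, rfl⟩
    rcases le_total p (n - q n) with h | h
    · exact (hconst p h).le
    · exact a.anti n h
  obtain ⟨e1⟩ := subquot_top_bot (a.fil n (n - q n)) (a.fil n (n - q n + 1))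
    (a.anti n (Int.le_add_one le_rfl)) (hbot _ (by omega)) htop
  obtain ⟨e2⟩ := β_iso a (n - q n, q n) n (by simp)
  obtain ⟨e3⟩ := stat_iso E _ r hst (max r (a.rk (n - q n, q n))) (le_max_left _ _)
  obtain ⟨e4⟩ := stat_iso E _ (a.rk (n - q n, q n)) (a.stat _) (max r (a.rk (n - q n, q n)))
    (le_max_right _ _)
  exact ⟨e1.symm ≪≫ e2.symm ≪≫ e4.symm ≪≫ e3⟩

end



/-- Let E be a spectral sequence in an abelian category with abutment data (H^m), and suppose that for
some page r and every total degree m there is an integer q(m) such that E_r^{m-q,q} = 0 for every q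
other than q(m). Let n be a total degree such that the filtration of H^n is discrete (some step is
zero) and exhaustive (H^n is the supremum of the steps), and such that the position (n - q(n), q(n))
is stationary from page r on. Then H^n is isomorphic to E_r^{n-q(n), q(n)}. (The published statement
asserts this without any condition on the differentials at the surviving positions; that version
fails when a differential d_r links the surviving terms of two consecutive total degrees, for
instance a spectral sequence whose only nonzero page-2 terms are E_2^{0,1} and E_2^{2,0} with d_2 an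
isomorphism between them and zero abutment. The stationarity assumed here is automatic when q(m)
does not depend on m and r ≥ 2.) -/
theorem result {C : Type u} [Category.{v} C] [Abelian C] {r₀ : ℤ}
    (E : CohomologicalSpectralSequence C r₀) {H : ℤ → C} (a : SpSeq.Abutment E H)
    (r : ℤ) (hr : r₀ ≤ r) (q : ℤ → ℤ)
    (hdeg : ∀ m q' : ℤ, q' ≠ q m → IsZero ((E.page r hr).X (m - q', q')))
    (n : ℤ) (hdisc : (a.filObj n).IsDiscrete) (hexh : a.IsExhaustive n)
    (hst : SpSeq.StationaryAt E (n - q n, q n) r) :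
    Nonempty (H n ≅ (E.page r hr).X (n - q n, q n)) := by
  exact main a r hr q hdeg n hdisc hexh hst

end Groth.Agent.S8347
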