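import Groth.Statements.S0494
import Groth.Agent.S6162
import Groth.Agent.S8347
import Groth.Agent.S8355
import Groth.Agent.H45.AffineVanishing
import Groth.Agent.H42.CohTopDirIm0

set_option autoImplicit false
universe u
open CohTop

namespace Groth.Agent.S0494

open Opposite TopologicalSpace CategoryTheory CategoryTheory.Limits in
theorem aux {X Y : TopCat.{u}} (f : X ⟶ Y) (F : CohTop.Ab X)
    (h : ∀ p q : ℕ, Subsingleton (CohTop.H ((CohTop.Rpush f q).obj F) (p + 1))) (q : ℕ) :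
    Nonempty (CohTop.H F q ≃+ ((CohTop.Rpush f q).obj F).obj.obj (op ⊤)) := by
  classical
  let J := Opens.grothendieckTopology X
  let K := Opens.grothendieckTopology Y
  have hflat : RepresentablyFlat (Opens.map f) := inferInstance
  have hrefl : ReflectsLimits (forget (Type u)) := reflectsLimits_of_reflectsIsomorphisms
  have hlan : PreservesFiniteLimits ((Opens.map f).op.lan : (_ ⥤ _ ⥤ Type u)) := by
    apply lan_preservesFiniteLimits_of_flat
  have hpb : PreservesFiniteLimits ((Opens.map f).sheafPullback (Type u) K J) := by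
    apply Functor.sheafPullbackConstruction.preservesFiniteLimits
  obtain ⟨E, a, hfin, -, hE2⟩ := Groth.Agent.S6162.result J K (Opens.map f) F (⊤ : Opens Y)
  -- the columns `p ≠ 0` vanish on page 2
  have hz : ∀ pq : ℤ × ℤ, pq.1 ≠ 0 → IsZero ((E.page 2 le_rfl).X pq) := by
    rintro ⟨p, q'⟩ hp
    obtain ⟨e⟩ := hE2 p q'
    refine IsZero.of_iso ?_ e
    by_cases hpq : 0 ≤ p ∧ 0 ≤ q'
    · rw [if_pos hpq]
      obtain ⟨p', hp'⟩ : ∃ p' : ℕ, p.toNat = p' + 1 := ⟨p.toNat - 1, by omega⟩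
      rw [hp']
      have := h p' q'.toNat
      have e' := Groth.Agent.H45.AffineVanishing.HTerminalAddEquiv K
        (isTerminalTop : IsTerminal (⊤ : Opens Y)) ((CohTop.Rpush f q'.toNat).obj F) (p' + 1)
      have : Subsingleton (CohSite.HU ((CohSite.Rpush J K (Opens.map f) q'.toNat).obj F) (p' + 1)
          (⊤ : Opens Y)) := e'.subsingleton
      exact AddCommGrpCat.isZero_of_subsingleton _
    · rw [if_neg hpq]
      exact AddCommGrpCat.isZero_of_subsingleton _
  have hz' : ∀ (r : ℤ) (hr : (2 : ℤ) ≤ r) (pq : ℤ × ℤ), pq.1 ≠ 0 →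
      IsZero ((E.page r hr).X pq) := fun r hr pq hpq =>
    (Groth.Agent.S8355.result E 2 le_rfl pq (hz pq hpq)).1 r hr
  let n : ℤ := (q : ℤ)
  have hst : SpSeq.StationaryAt E (n - n, n) 2 := by
    refine ⟨le_rfl, fun r h₀ _ => ⟨?_, ?_⟩⟩
    · apply IsZero.eq_of_src
      apply hz' r h₀
      change n - n - r ≠ 0
      omega
    · apply IsZero.eq_of_tgt
      apply hz' r h₀
      change n - n + r ≠ 0
      omega
  have hexh : a.IsExhaustive n := by
    obtain ⟨b, hb⟩ := (hfin n).1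
    refine ⟨fun x _ => le_top, fun y hy => ?_⟩
    exact hb ▸ hy ⟨b, rfl⟩
  obtain ⟨e1⟩ := Groth.Agent.S8347.result E a 2 le_rfl (fun m => m)
    (fun m q' hq' => hz (m - q', q') (by change m - q' ≠ 0; omega)) n (hfin n).2 hexh hst
  obtain ⟨e2⟩ := hE2 (n - n) n
  have hcond : (0 : ℤ) ≤ n - n ∧ 0 ≤ n := ⟨by omega, Int.natCast_nonneg q⟩
  rw [if_pos hcond] at e2
  have hn0 : (0 : ℤ) ≤ n := Int.natCast_nonneg q
  rw [if_pos hn0] at e1
  have h1 : n.toNat = q := Int.toNat_natCast q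
  have h2 : (n - n).toNat = 0 := by omega
  rw [h1] at e1 e2
  rw [h2] at e2
  -- assemble
  let i1 : CohTop.H F q ≃+ CohSite.HU F q ((Opens.map f).obj (⊤ : Opens Y)) :=
    (Groth.Agent.H45.AffineVanishing.HTerminalAddEquiv J
      (isTerminalTop : IsTerminal (⊤ : Opens X)) F q).symm
  let i2 := (e1 ≪≫ e2).addCommGroupIsoToAddEquiv
  let i3 : CohSite.HU ((CohSite.Rpush J K (Opens.map f) q).obj F) 0 (⊤ : Opens Y) ≃+
      ((CohTop.Rpush f q).obj F).obj.obj (op ⊤) :=
    ((Groth.Agent.H42.CohTopLib.cohomologyPresheafZeroIso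
      ((CohTop.Rpush f q).obj F)).app (op ⊤)).addCommGroupIsoToAddEquiv
  exact ⟨i1.trans (i2.trans i3)⟩


open Opposite in
/-- If H^p(Y, R^q f_* F) = 0 for all q and all p > 0, then H^q(X, F) ≅ Γ(Y, R^q f_* F) for every q
(existence of a group isomorphism). -/
theorem result {X Y : TopCat.{u}} (f : X ⟶ Y) (F : CohTop.Ab X)
    (h : ∀ p q : ℕ, Subsingleton (CohTop.H ((CohTop.Rpush f q).obj F) (p + 1))) (q : ℕ) :
    Nonempty (CohTop.H F q ≃+ ((CohTop.Rpush f q).obj F).obj.obj (op ⊤)) := aux f F h q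

end Groth.Agent.S0494
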