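import Groth.Statements.S0032
import Groth.Agent.H30.RpushQcoh
import Groth.Agent.S0494
import Groth.Agent.H45.AffineVanishing
import Groth.Agent.H45.ExtAdj

set_option autoImplicit false
universe u
open Coherent

namespace Groth.Agent.S0032

open AlgebraicGeometry CategoryTheory Opposite in
/-- Let f : X → S be quasi-compact and quasi-separated with S affine, and F quasi-coherent on X. Then
H^q(X, F) is isomorphic to the global sections of R^q f_* F (higher direct image of the underlying
abelian sheaf), for every q. -/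
theorem result {X S : Scheme.{u}} (f : X ⟶ S)
    [QuasiCompact f] [QuasiSeparated f] [IsAffine S] (M : X.Modules) [Coh.IsQCoh M] (q : ℕ) :
    Nonempty (Coh.HH X M q ≃+ ↑(((Coh.RpushAb f q).obj (Coh.toAb M)).obj.obj (op ⊤))) := by
  haveI : M.IsQuasicoherent := ‹Coh.IsQCoh M›
  refine Groth.Agent.S0494.result f.base (Coh.toAb M) ?_ q
  intro p q'
  obtain ⟨e⟩ := Groth.Agent.S11319.result f M q'
  haveI : ((Coh.Rpush f q').obj M).IsQuasicoherent :=
    Groth.Agent.H30.RpushQcoh.isQCoh_Rpush f M q'
  have hs : Subsingleton (Coh.HH S ((Coh.Rpush f q').obj M) (p + 1)) :=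
    Groth.Agent.H45.AffineVanishing.subsingleton_HH ((Coh.Rpush f q').obj M) p
  exact (Groth.Agent.H45.ExtAdj.addEquivOfIsoRight _ e (p + 1)).symm.subsingleton

end Groth.Agent.S0032
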