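import Groth.Statements.S0800
import Groth.Agent.H67.RpushColim
import Groth.Agent.H67.ColimTop

set_option autoImplicit false
universe u
open Coherent

namespace Groth.Agent.S0800

open CategoryTheory CategoryTheory.Limits AlgebraicGeometry in
/-- Let f : X → S be quasi-compact and quasi-separated. Then for every p the higher direct image functor
R^p f_* on abelian sheaves (on the underlying spaces) preserves filtered colimits. -/
theorem result {X S : Scheme.{u}} (f : X ⟶ S) [QuasiCompact f]
    [QuasiSeparated f] (p : ℕ) (J : Type u) [SmallCategory J] [IsFiltered J] :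
    PreservesColimitsOfShape J (Coh.RpushAb f p) := by
  constructor
  intro F
  refine Groth.Agent.H67.RpushColim.preservesColimit_Rpush (Opens.grothendieckTopology X)
    (Opens.grothendieckTopology S) (TopologicalSpace.Opens.map f.base) F p (fun V => ?_)
  refine ⟨{W : S.affineOpens // (W : S.Opens) ≤ V}, fun W => W.1.1, fun W => homOfLE W.2, ?_,
    fun W => ?_⟩
  · intro x hx
    obtain ⟨W, hW, hxW, hWV⟩ := TopologicalSpace.Opens.isBasis_iff_nbhd.1 S.isBasis_affineOpens hx
    exact ⟨W, homOfLE hWV, Sieve.ofArrows_mk _ _
      (⟨⟨W, hW⟩, hWV⟩ : {W : S.affineOpens // (W : S.Opens) ≤ V}), hxW⟩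
  · exact Groth.Agent.H67.ColimTop.preservesColimitq ((TopologicalSpace.Opens.map f.base).obj W.1.1)
      (f.isCompact_preimage W.1.2.isCompact) (f.isQuasiSeparated_preimage W.1.2.isQuasiSeparated) p F

end Groth.Agent.S0800
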