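import Groth.Statements.S1040
import Groth.Agent.H31.HomologySigma
import Groth.Agent.H31.GrothAb
import Groth.Agent.H6.DSum
import Groth.Agent.H95.QCohColim

set_option autoImplicit false
universe u
open CategoryTheory CategoryTheory.Limits AlgebraicGeometry
attribute [local instance] HasDerivedCategory.standard
open Perf

namespace Groth.Agent.S1040

/-- Let X be a scheme and Kᵢ a family of objects of D(O_X) with quasi-coherent cohomology sheaves,
indexed by a small type, whose direct sum exists in D(O_X). Then ∐ Kᵢ has quasi-coherent cohomology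
sheaves. -/
theorem result (X : Scheme.{u}) {ι : Type u} (K : ι → DCoh.D X) (hK : ∀ i, DCoh.IsQCohD (K i)) [HasCoproduct K] :
    DCoh.IsQCohD (∐ K) := by
  haveI : IsGrothendieckAbelian.{u} X.Modules :=
    Groth.Agent.H31.GrothAb.isGrothendieckAbelian (Opens.grothendieckTopology X) X.ringCatSheaf
  let E : ι → CochainComplex X.Modules ℤ := fun i => DerivedCategory.Q.objPreimage (K i)
  let e : ∀ i, DerivedCategory.Q.obj (E i) ≅ K i := fun i =>
    DerivedCategory.Q.objObjPreimageIso (K i)
  have hQ := Groth.Agent.H6.DSum.isColimitQ' E id Function.bijective_id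
  let φ : ∐ K ≅ DerivedCategory.Q.obj (∐ E) :=
    IsColimit.coconePointsIsoOfNatIso (colimit.isColimit (Discrete.functor K)) hQ
      (Discrete.natIso (fun i => (e i.as).symm))
  intro n
  let ψ : DCoh.HD (∐ K) n ≅ (∐ E).homology n :=
    (DerivedCategory.homologyFunctor X.Modules n).mapIso φ ≪≫
      (DerivedCategory.homologyFunctorFactors X.Modules n).app (∐ E)
  let χ := ψ ≪≫ Groth.Agent.H31.HSigma.homologySigmaIso E n
  have hD : ∀ j, (((Groth.Agent.H31.HSigma.S E n).homology).obj j).IsQuasicoherent := fun j => by
    have e1 : ((Groth.Agent.H31.HSigma.S E n).homology).obj j ≅ DCoh.HD (K j.as) n :=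
      Groth.Agent.H31.HSigma.homologyObjIso E n j ≪≫
        ((DerivedCategory.homologyFunctorFactors X.Modules n).app (E j.as)).symm ≪≫
        (DerivedCategory.homologyFunctor X.Modules n).mapIso (e j.as)
    exact (SheafOfModules.isQuasicoherent X.ringCatSheaf).prop_of_iso e1.symm (hK j.as n)
  have := Groth.Agent.H95.QCohColim.isQuasicoherent_colimit
    (Groth.Agent.H31.HSigma.S E n).homology hD
  exact (SheafOfModules.isQuasicoherent X.ringCatSheaf).prop_of_iso χ.symm this

end Groth.Agent.S1040
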