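import Groth.Statements.S5139


set_option autoImplicit false
open CategoryTheory
universe u v u₂ v₂
open FibCat

namespace Groth.Agent.S5139

theorem isHomLift_id_of_eq {C : Type u} [Category.{v} C] {𝒳 : Type u₂} [Category.{v₂} 𝒳]
    {p : 𝒳 ⥤ C} {S S' : C} (h : S = S') {a b : 𝒳} (φ : a ⟶ b)
    (hφ : p.IsHomLift (𝟙 S) φ) : p.IsHomLift (𝟙 S') φ := by
  subst h; exact hφ

/-- A functor F : 𝒳 ⟶ 𝒴 over C is an equivalence over C exactly when its underlying functor is fully
faithful and every object η of 𝒴 admits an object ξ of 𝒳 and an isomorphism F ξ ≅ η lying over the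
identity of the object of C under η. -/
theorem result {C : Type u} [Category.{v} C]
    {𝒳 𝒴 : BasedCategory.{v₂, u₂} C} (F : 𝒳 ⥤ᵇ 𝒴) :
    FibCat.IsEquivOver F ↔
      (F.toFunctor.Full ∧ F.toFunctor.Faithful) ∧
        ∀ η : 𝒴.obj, ∃ (ξ : 𝒳.obj) (e : F.toFunctor.obj ξ ≅ η), 𝒴.p.IsHomLift (𝟙 (𝒴.p.obj η)) e.hom := by
  constructor
  · rintro ⟨G, ⟨e₁⟩, ⟨e₂⟩⟩
    have ε₁ : F.toFunctor ⋙ G.toFunctor ≅ 𝟭 𝒳.obj := (BasedNatTrans.forgetful _ _).mapIso e₁
    have ε₂ : G.toFunctor ⋙ F.toFunctor ≅ 𝟭 𝒴.obj := (BasedNatTrans.forgetful _ _).mapIso e₂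
    have hE : F.toFunctor.IsEquivalence :=
      inferInstanceAs
        ((CategoryTheory.Equivalence.mk F.toFunctor G.toFunctor ε₁.symm ε₂).functor.IsEquivalence)
    refine ⟨⟨hE.full, hE.faithful⟩, fun η =>
      ⟨G.obj η, ((BasedNatTrans.forgetful _ _).mapIso e₂).app η, ?_⟩⟩
    exact e₂.hom.isHomLift' η
  · rintro ⟨⟨hfull, hfaith⟩, h⟩
    choose ξ e he using h
    have hw : ∀ η, 𝒳.p.obj (ξ η) = 𝒴.p.obj η := fun η => by
      haveI := he η
      exact (F.w_obj (ξ η)).symm.trans (IsHomLift.domain_eq 𝒴.p (𝟙 (𝒴.p.obj η)) (e η).hom)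
    have hinv : ∀ η, 𝒴.p.IsHomLift (𝟙 (𝒴.p.obj η)) (e η).inv := fun η => by
      haveI := he η
      exact IsHomLift.lift_id_inv 𝒴.p _ (e η)
    have hmap : ∀ {η η' : 𝒴.obj} (f : η ⟶ η'),
        𝒴.p.IsHomLift (𝒴.p.map f) ((e η).hom ≫ f ≫ (e η').inv) := by
      intro η η' f
      haveI := he η
      haveI := hinv η'
      infer_instance
    let G₀ : 𝒴.obj ⥤ 𝒳.obj :=
      { obj := ξ
        map := fun {η η'} f => F.toFunctor.preimage ((e η).hom ≫ f ≫ (e η').inv)
        map_id := fun η => by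
          apply F.toFunctor.map_injective
          simp
        map_comp := fun f g => by
          apply F.toFunctor.map_injective
          simp }
    have hFG : ∀ {η η' : 𝒴.obj} (f : η ⟶ η'),
        F.toFunctor.map (G₀.map f) = (e η).hom ≫ f ≫ (e η').inv :=
      fun f => F.toFunctor.map_preimage _
    let G : 𝒴 ⥤ᵇ 𝒳 :=
      { toFunctor := G₀
        w := Functor.ext hw (fun η η' f => by
          haveI h1 : 𝒴.p.IsHomLift (𝒴.p.map f) (F.toFunctor.map (G₀.map f)) := by
            rw [hFG]; exact hmap f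
          haveI h2 : 𝒳.p.IsHomLift (𝒴.p.map f) (G₀.map f) :=
            F.isHomLift_map (𝒴.p.map f) (G₀.map f)
          exact IsHomLift.fac' 𝒳.p (𝒴.p.map f) (G₀.map f)) }
    refine ⟨G, ⟨?_⟩, ⟨?_⟩⟩
    · refine BasedNatIso.mkNatIso
        (NatIso.ofComponents (fun x => F.toFunctor.preimageIso (e (F.obj x))) ?_) ?_
      · intro x x' φ
        apply F.toFunctor.map_injective
        show F.toFunctor.map (G₀.map (F.toFunctor.map φ) ≫
            F.toFunctor.preimage (e (F.obj x')).hom) =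
          F.toFunctor.map (F.toFunctor.preimage (e (F.obj x)).hom ≫ φ)
        rw [Functor.map_comp, Functor.map_comp, hFG, Functor.map_preimage, Functor.map_preimage]
        simp
      · intro x
        show 𝒳.p.IsHomLift (𝟙 (𝒳.p.obj x)) (F.toFunctor.preimage (e (F.obj x)).hom)
        haveI : 𝒴.p.IsHomLift (𝟙 (𝒳.p.obj x))
            (F.toFunctor.map (F.toFunctor.preimage (e (F.obj x)).hom)) := by
          rw [Functor.map_preimage]
          exact isHomLift_id_of_eq (F.w_obj x) _ (he (F.obj x))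
        exact F.isHomLift_map _ _
    · refine BasedNatIso.mkNatIso (NatIso.ofComponents (fun η => e η) ?_) ?_
      · intro η η' f
        show F.toFunctor.map (G₀.map f) ≫ (e η').hom = (e η).hom ≫ f
        rw [hFG]; simp
      · intro η; exact he η

end Groth.Agent.S5139
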