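import Groth.Statements.S6401
import Groth.Agent.H32.FibProd
-- import your own Groth.Agent.* helpers here

set_option autoImplicit false
open CategoryTheory
universe v u
open FibCat

namespace Groth.Agent.S6401

/-- For categories `𝒳, 𝒴, 𝒮` fibred in groupoids over `C` and functors `F : 𝒳 ⟶ 𝒮`, `G : 𝒴 ⟶ 𝒮` over
`C`, the 2-fibre product `𝒳 ×_𝒮 𝒴` over `C` is fibred in groupoids over `C`. -/
theorem result {C : Type u} [Category.{v} C] {𝒳 𝒴 𝒮 : BasedCategory.{v, max u v} C} (F : 𝒳 ⥤ᵇ 𝒮) (G : 𝒴 ⥤ᵇ 𝒮) (h𝒳 : FibCat.IsFibGrpd 𝒳.p) (h𝒴 : FibCat.IsFibGrpd 𝒴.p) (h𝒮 : FibCat.IsFibGrpd 𝒮.p) :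
    FibCat.IsFibGrpd (FibCat.fp F G).p := by
  open Groth.Agent.H32.FibProd in
  refine ⟨?_, ?_⟩
  · intro z V f
    change V ⟶ 𝒳.p.obj z.obj.fst at f
    obtain ⟨x', φ, hφ⟩ := h𝒳.exists_lift (x := z.obj.fst) f
    obtain ⟨y', ψ, hψ⟩ := exists_lift_of_eq 𝒴.p h𝒴 (fp_snd_obj_eq F G z) f
    have hGψ : 𝒮.p.IsHomLift f (G.map ψ) := inferInstance
    have hsc : 𝒮.p.IsStronglyCartesian f (G.map ψ) := sc_of_isFibGrpd 𝒮.p h𝒮 f (G.map ψ)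
    have hz := fp_iso_isHomLift F G z
    have h1 : 𝒮.p.IsHomLift f (F.map φ ≫ z.obj.iso.hom) := inferInstance
    have hid : f = 𝟙 V ≫ f := (Category.id_comp f).symm
    let t : F.obj x' ⟶ G.obj y' :=
      Functor.IsStronglyCartesian.map 𝒮.p f (G.map ψ) hid (F.map φ ≫ z.obj.iso.hom)
    have ht : 𝒮.p.IsHomLift (𝟙 V) t := inferInstance
    have hfac : t ≫ G.map ψ = F.map φ ≫ z.obj.iso.hom :=
      Functor.IsStronglyCartesian.fac 𝒮.p f (G.map ψ) hid (F.map φ ≫ z.obj.iso.hom)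
    have hiso : IsIso t := isIso_of_isFibGrpd 𝒮.p h𝒮 (𝟙 V) t
    have hθ' : 𝒮.p.IsHomLift (𝟙 (𝒳.p.obj x')) (asIso t).hom :=
      isHomLift_id_of_eq 𝒮.p (IsHomLift.domain_eq 𝒳.p f φ).symm t ht
    let z' : (FibCat.fp F G).obj := mkObj F G x' y' (asIso t) hθ'
    let m : z' ⟶ z := mkHom F G (z' := z') (z := z) φ ψ hfac.symm
    exact ⟨z', m, (fp_isHomLift_iff F G f m).mpr hφ⟩
  · intro z' z m
    have h1 : 𝒳.p.IsStronglyCartesian ((FibCat.fp F G).p.map m) m.hom.fst :=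
      h𝒳.isStronglyCartesian m.hom.fst
    have h2 : 𝒴.p.IsStronglyCartesian ((FibCat.fp F G).p.map m) m.hom.snd :=
      sc_of_isFibGrpd 𝒴.p h𝒴 _ m.hom.snd
    have h3 : 𝒮.p.IsStronglyCartesian ((FibCat.fp F G).p.map m) (G.map m.hom.snd) :=
      sc_of_isFibGrpd 𝒮.p h𝒮 _ (G.map m.hom.snd)
    exact fp_isStronglyCartesian F G _ m

end Groth.Agent.S6401
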