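import Groth.Statements.S6418
-- import your own Groth.Agent.* helpers here

set_option autoImplicit false
open CategoryTheory
universe v₁ u₁ v₂ u₂
open FibCat

namespace Groth.Agent.S6418

theorem over_obj_ext {C : Type u₂} [Category.{v₂} C] {U : C} {A B : Over U} (h : A.left = B.left)
    (w : A.hom = eqToHom h ≫ B.hom) : A = B := by
  obtain ⟨Al, ⟨⟨⟩⟩, Ah⟩ := A
  obtain ⟨Bl, ⟨⟨⟩⟩, Bh⟩ := B
  change Al = Bl at h
  subst h
  change Ah = eqToHom rfl ≫ Bh at w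
  rw [eqToHom_refl, Category.id_comp] at w
  subst w
  rfl

theorem isHomLift_over {𝒮 : Type u₁} [Category.{v₁} 𝒮] {C : Type u₂} [Category.{v₂} C] {U : C}
    (p' : 𝒮 ⥤ Over U) {R S : Over U} (f : R ⟶ S) {b a : 𝒮} (φ : b ⟶ a) (hS : p'.obj a = S)
    [h : (p' ⋙ Over.forget U).IsHomLift f.left φ] : p'.IsHomLift f φ := by
  subst hS
  have h1 : (p'.obj b).left = R.left := IsHomLift.domain_eq (p' ⋙ Over.forget U) f.left φ
  have h2 : (p'.map φ).left = eqToHom h1 ≫ f.left ≫ eqToHom rfl :=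
    IsHomLift.fac' (p' ⋙ Over.forget U) f.left φ
  rw [eqToHom_refl, Category.comp_id] at h2
  have hb : p'.obj b = R := by
    refine over_obj_ext h1 ?_
    rw [← Over.w (p'.map φ), h2, Category.assoc, Over.w f]
  refine IsHomLift.of_fac' p' f φ hb rfl ?_
  ext
  rw [Over.comp_left, Over.comp_left, Over.eqToHom_left, Over.eqToHom_left, h2]
  simp

theorem isHomLift_forget {𝒮 : Type u₁} [Category.{v₁} 𝒮] {C : Type u₂} [Category.{v₂} C] {U : C}
    (p' : 𝒮 ⥤ Over U) {R S : Over U} (f : R ⟶ S) {b a : 𝒮} (φ : b ⟶ a)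
    [h : p'.IsHomLift f φ] : (p' ⋙ Over.forget U).IsHomLift f.left φ := by
  subst_hom_lift p' f φ
  exact inferInstanceAs ((p' ⋙ Over.forget U).IsHomLift ((p' ⋙ Over.forget U).map φ) φ)

theorem sc_over {𝒮 : Type u₁} [Category.{v₁} 𝒮] {C : Type u₂} [Category.{v₂} C] {U : C}
    (p' : 𝒮 ⥤ Over U) {R S : Over U} (f : R ⟶ S) {b a : 𝒮} (φ : b ⟶ a)
    [hl : p'.IsHomLift f φ] [hsc : (p' ⋙ Over.forget U).IsStronglyCartesian f.left φ] :
    p'.IsStronglyCartesian f φ := by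
  refine ⟨?_⟩
  intro a' g φ' hφ'
  have h1 : (p' ⋙ Over.forget U).IsHomLift (g ≫ f).left φ' := isHomLift_forget p' (g ≫ f) φ'
  have h2 : (p' ⋙ Over.forget U).IsHomLift (g.left ≫ f.left) φ' := h1
  have hR : p'.obj b = R := IsHomLift.domain_eq p' f φ
  refine ⟨Functor.IsStronglyCartesian.map (p' ⋙ Over.forget U) f.left φ
    (f' := g.left ≫ f.left) rfl φ', ⟨?_, ?_⟩, ?_⟩
  · exact isHomLift_over p' g _ hR
  · exact Functor.IsStronglyCartesian.fac (p' ⋙ Over.forget U) f.left φ rfl φ'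
  · rintro χ' ⟨hχ1, hχ2⟩
    have : (p' ⋙ Over.forget U).IsHomLift g.left χ' := isHomLift_forget p' g χ'
    exact Functor.IsStronglyCartesian.map_uniq (p' ⋙ Over.forget U) f.left φ rfl φ' χ' hχ2


/-- If `p' : 𝒮 ⥤ C/U` composed with the forgetful functor `C/U ⥤ C` is a fibred category, then so is
`p'`. -/
theorem result {𝒮 : Type u₁} [Category.{v₁} 𝒮] {C : Type u₂} [Category.{v₂} C] {U : C} (p' : 𝒮 ⥤ Over U) [(p' ⋙ Over.forget U).IsFibered] : p'.IsFibered := by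
  apply Functor.IsFibered.of_exists_isStronglyCartesian
  intro a R f
  obtain ⟨b, φ, hφ⟩ := Functor.IsPreFibered.exists_isCartesian' (p := p' ⋙ Over.forget U)
    (a := a) (R := R.left) f.left
  have hsc := @Functor.IsFibered.isStronglyCartesian_of_isCartesian _ _ _ _
    (p' ⋙ Over.forget U) _ _ _ _ _ _ φ hφ
  have hl : p'.IsHomLift f φ := @isHomLift_over _ _ _ _ _ p' _ _ f _ _ φ rfl hφ.toIsHomLift
  exact ⟨b, φ, @sc_over _ _ _ _ _ p' _ _ f _ _ φ hl hsc⟩

end Groth.Agent.S6418
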