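import Groth.Statements.S12787
-- import your own Groth.Agent.* helpers here

set_option autoImplicit false
open CategoryTheory AlgebraicGeometry
universe u
open AlgSt

namespace Groth.Agent.S12787

/-- A category fibred in groupoids over `(Sch/S)` which is representable by an algebraic space is fibred
in setoids. -/
theorem result {S : Scheme.{u}} {𝒳 : AlgSt.Cat S}
    (h𝒳 : FibCat.IsFibGrpd 𝒳.p) (hr : AlgSt.RepByAlgSp 𝒳) :
    FibCat.IsFibSetoid 𝒳.p := by
  refine ⟨h𝒳, ?_⟩
  obtain ⟨F, e, G, -, ⟨iso⟩⟩ := hr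
  intro U a b
  refine ⟨fun m m' => ?_⟩
  apply Functor.Fiber.hom_ext
  show m.1 = m'.1
  have hm : 𝒳.p.IsHomLift (𝟙 U) m.1 := m.2
  have hm' : 𝒳.p.IsHomLift (𝟙 U) m'.1 := m'.2
  have h1 : (AlgSt.ofSp F.obj).p.IsHomLift (𝟙 U) (G.toFunctor.map m.1) := BasedFunctor.preserves_isHomLift G (𝟙 U) m.1
  have h2 : (AlgSt.ofSp F.obj).p.IsHomLift (𝟙 U) (G.toFunctor.map m'.1) := BasedFunctor.preserves_isHomLift G (𝟙 U) m'.1
  have hG : G.toFunctor.map m.1 = G.toFunctor.map m'.1 := by
    apply Stk.EltObj.hom_ext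
    have e1 := IsHomLift.fac' (AlgSt.ofSp F.obj).p (𝟙 U) (G.toFunctor.map m.1)
    have e2 := IsHomLift.fac' (AlgSt.ofSp F.obj).p (𝟙 U) (G.toFunctor.map m'.1)
    exact e1.trans e2.symm
  let α := (BasedNatTrans.forgetful _ _).mapIso iso
  have key : α.hom.app a.1 ≫ m.1 = α.hom.app a.1 ≫ m'.1 := by
    have n1 := α.hom.naturality m.1
    have n2 := α.hom.naturality m'.1
    have hh : (BasedFunctor.comp G e).toFunctor.map m.1
        = (BasedFunctor.comp G e).toFunctor.map m'.1 := by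
      show e.toFunctor.map (G.toFunctor.map m.1) = e.toFunctor.map (G.toFunctor.map m'.1)
      rw [hG]
    exact n1.symm.trans ((congrArg (· ≫ α.hom.app b.1) hh).trans n2)
  exact (cancel_epi (α.hom.app a.1)).mp key

end Groth.Agent.S12787
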