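import Groth.Statements.S12774
import Groth.Agent.H32.StkLoc
import Groth.Agent.S12787
import Groth.Agent.S6411
import Groth.Agent.H32.Repr

set_option autoImplicit false
open CategoryTheory AlgebraicGeometry
universe u
open AlgSt

namespace Groth.Agent.S12774

open FibCat Groth.Agent.H32.FibProd Groth.Agent.H32.Yoneda2 Groth.Agent.H32.StkLoc Opposite

theorem eq_of_thin {C : Type*} [Category C] {𝒳 : Type _} [Category 𝒳] {p : 𝒳 ⥤ C} {U : C}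
    (h : Quiver.IsThin (p.Fiber U)) {a b : 𝒳} (φ ψ : a ⟶ b)
    (h1 : p.IsHomLift (𝟙 U) φ) (h2 : p.IsHomLift (𝟙 U) ψ) : φ = ψ := by
  have := (h (Functor.Fiber.mk (IsHomLift.domain_eq p (𝟙 U) φ))
    (Functor.Fiber.mk (IsHomLift.codomain_eq p (𝟙 U) φ))).elim
      (Functor.Fiber.homMk p U φ) (Functor.Fiber.homMk p U ψ)
  exact congrArg Subtype.val this

theorem sp_injective {S : Scheme.{u}} {F G : AlgSp.Sp S} (f : F ⟶ G) (hf : Mono f) (T : Over S) :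
    Function.Injective (f.hom.app (op T)) := by
  have h1 : Mono f.hom := (Sheaf.Hom.mono_iff_presheaf_mono _ _ f).mp hf
  have h2 : Mono (f.hom.app (op T)) := (NatTrans.mono_iff_mono_app f.hom).mp h1 (op T)
  exact (mono_iff_injective _).mp h2

section
variable {S : Scheme.{u}} {𝒳 𝒴 : AlgSt.Cat S}

theorem aux_w {D E : Type*} [Category D] [Category E] (G : D ⥤ E) {T : D} {A B : E} (k : T ⟶ T)
    (hk : k = 𝟙 T) (θ' : G.obj T ⟶ A) (θ : G.obj T ⟶ B) (c : B ⟶ A)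
    (w : G.map k ≫ θ' = θ ≫ c) : θ ≫ c = θ' := by
  subst hk
  rw [G.map_id, Category.id_comp] at w
  exact w.symm

theorem over_hom_eq {C : Type*} [Category C] {U : C} (A : Over U) (k : A ⟶ Over.mk (𝟙 U))
    (hk : (Over.forget U).IsHomLift (𝟙 U) k) (h : U = A.left) : eqToHom h ≫ A.hom = 𝟙 U := by
  obtain ⟨V, r, f⟩ := A
  change U = V at h
  subst h
  have e1 := IsHomLift.fac' (Over.forget U) (𝟙 U) k
  have e2 : k.left = f := by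
    have := Over.w k
    simpa using this
  have e1' : k.left = 𝟙 U := by
    have h1 := e1
    simp only [Over.forget_map, Over.forget_obj, Over.mk_left, Category.id_comp, Category.comp_id, eqToHom_trans] at h1
    refine h1.trans ?_
    first
    | exact (eqToHom_trans _ _).trans (eqToHom_refl _ _)
    | (erw [eqToHom_trans]; exact eqToHom_refl _ _)
    | rfl
  change eqToHom rfl ≫ f = 𝟙 U
  rw [← e2, e1']
  simp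

theorem sec_eq (j : 𝒳 ⥤ᵇ 𝒴) (U : Over S) (y : FibCat.overCat U ⥤ᵇ 𝒴) (F : AlgSp.Space S)
    (e : AlgSt.ofSp F.obj ⥤ᵇ FibCat.fp y j) (x : 𝒳.obj)
    (θ : y.obj (Groth.Agent.H32.Split.T U) ≅ j.obj x)
    (hθ : 𝒴.p.IsHomLift (𝟙 ((FibCat.overCat U).p.obj (Groth.Agent.H32.Split.T U))) θ.hom)
    (w : (AlgSt.ofSp F.obj).obj)
    (ι : e.obj w ≅ mkObj y j (Groth.Agent.H32.Split.T U) x θ hθ)
    (hι : (FibCat.fp y j).p.IsHomLift (𝟙 U) ι.hom) :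
    ∃ s : F.obj.obj.obj (op U), w = ⟨U, s⟩ ∧
      (AlgSt.spMapOfOver (BasedFunctor.comp e (FibCat.fpFst y j))).hom.app (op U) s = ⟨𝟙 U⟩ := by
  obtain ⟨b, s⟩ := w
  have hb : U = b := by
    have h1 : (FibCat.fp y j).p.obj (e.obj ⟨b, s⟩) = U :=
      IsHomLift.domain_eq (FibCat.fp y j).p (𝟙 U) ι.hom
    have h2 : (FibCat.fp y j).p.obj (e.obj ⟨b, s⟩) = b := e.w_obj ⟨b, s⟩
    exact h1.symm.trans h2
  subst hb
  refine ⟨s, rfl, ?_⟩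
  rw [AlgSt.spMapOfOver_app]
  congr 1
  have hk : (FibCat.overCat U).p.IsHomLift (𝟙 U) ι.hom.hom.fst :=
    (fp_isHomLift_iff y j (𝟙 U) ι.hom).mp hι
  exact over_hom_eq (e.obj ⟨U, s⟩).obj.fst ι.hom.hom.fst hk _

theorem core (h𝒳 : IsFibGrpd 𝒳.p) (h𝒴 : IsFibGrpd 𝒴.p) (j : 𝒳 ⥤ᵇ 𝒴) (hj : AlgSt.IsMono j)
    (U : Over S) (y : FibCat.overCat U ⥤ᵇ 𝒴) (x x' : 𝒳.obj)
    (θ : y.obj (Groth.Agent.H32.Split.T U) ≅ j.obj x)
    (θ' : y.obj (Groth.Agent.H32.Split.T U) ≅ j.obj x')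
    (hθ : 𝒴.p.IsHomLift (𝟙 ((FibCat.overCat U).p.obj (Groth.Agent.H32.Split.T U))) θ.hom)
    (hθ' : 𝒴.p.IsHomLift (𝟙 ((FibCat.overCat U).p.obj (Groth.Agent.H32.Split.T U))) θ'.hom) :
    ∃ c : x ⟶ x', 𝒳.p.IsHomLift (𝟙 U) c ∧ θ.hom ≫ j.map c = θ'.hom := by
  obtain ⟨F, e, he, hmono⟩ := hj U y
  rw [Groth.Agent.S5139.result] at he
  obtain ⟨-, hess⟩ := he
  obtain ⟨w₁, ι₁, hι₁⟩ := hess (mkObj y j (Groth.Agent.H32.Split.T U) x' θ' hθ')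
  obtain ⟨w₂, ι₂, hι₂⟩ := hess (mkObj y j (Groth.Agent.H32.Split.T U) x θ hθ)
  have hι₁' : (FibCat.fp y j).p.IsHomLift (𝟙 U) ι₁.hom := hι₁
  have hι₂' : (FibCat.fp y j).p.IsHomLift (𝟙 U) ι₂.hom := hι₂
  obtain ⟨s₁, hw₁, hs₁⟩ := sec_eq j U y F e x' θ' hθ' w₁ ι₁ hι₁'
  obtain ⟨s₂, hw₂, hs₂⟩ := sec_eq j U y F e x θ hθ w₂ ι₂ hι₂'
  have hs : s₁ = s₂ := sp_injective _ hmono U (hs₁.trans hs₂.symm)
  subst hs
  subst hw₁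
  subst hw₂
  have hinv : (FibCat.fp y j).p.IsHomLift (𝟙 U) ι₂.inv := inferInstance
  have hm : (FibCat.fp y j).p.IsHomLift (𝟙 U) (ι₂.inv ≫ ι₁.hom) :=
    isHomLift_comp_id_left (FibCat.fp y j).p (𝟙 U) _ _ hinv hι₁'
  have hc : 𝒳.p.IsHomLift (𝟙 U) (ι₂.inv ≫ ι₁.hom).hom.snd :=
    fp_isHomLift_snd' y j (𝟙 U) (ι₂.inv ≫ ι₁.hom)
  refine ⟨(ι₂.inv ≫ ι₁.hom).hom.snd, hc, ?_⟩
  have hk : (ι₂.inv ≫ ι₁.hom).hom.fst = 𝟙 (Groth.Agent.H32.Split.T U) :=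
    (Groth.Agent.H32.Split.hT U).hom_ext _ _
  have w := (ι₂.inv ≫ ι₁.hom).hom.w
  exact aux_w y.toFunctor _ hk _ _ _ w

theorem full_of_isMono (h𝒳 : IsFibGrpd 𝒳.p) (h𝒴 : IsFibGrpd 𝒴.p) (j : 𝒳 ⥤ᵇ 𝒴)
    (hj : AlgSt.IsMono j) : j.toFunctor.Full := by
  haveI : 𝒴.p.IsFibered := Groth.Agent.H32.Split.isFibered_of_isFibGrpd 𝒴 h𝒴
  apply full_of_fiberwise j h𝒳 h𝒴
  intro x x' hx χ hχ
  obtain ⟨y, -, τ₀, hτ₀i, hτ₀l⟩ :=
    exists_based_functor (Groth.Agent.H32.Split.hT (𝒳.p.obj x)) (j.obj x')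
      ((j.w_obj x').trans hx)
  have hχi : IsIso χ := isIso_of_isFibGrpd 𝒴.p h𝒴 (𝟙 (𝒳.p.obj x)) χ
  have hinvχ : 𝒴.p.IsHomLift (𝟙 (𝒳.p.obj x)) (inv χ) := inferInstance
  have hτ₀l' : 𝒴.p.IsHomLift (𝟙 (𝒳.p.obj x)) τ₀ := hτ₀l
  have h2 : 𝒴.p.IsHomLift (𝟙 (𝒳.p.obj x)) (τ₀ ≫ inv χ) :=
    isHomLift_comp_id_left 𝒴.p (𝟙 (𝒳.p.obj x)) _ _ hτ₀l' hinvχ
  obtain ⟨c, -, hc⟩ := core h𝒳 h𝒴 j hj (𝒳.p.obj x) y x x' (asIso (τ₀ ≫ inv χ)) (asIso τ₀) h2 hτ₀l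
  refine ⟨c, ?_⟩
  have hc' : (τ₀ ≫ inv χ) ≫ j.map c = τ₀ := hc
  rw [Category.assoc] at hc'
  have h3 : inv χ ≫ j.map c = 𝟙 _ :=
    (cancel_epi τ₀).mp (hc'.trans (Category.comp_id τ₀).symm)
  exact (IsIso.inv_comp_eq χ).mp h3 |>.trans (Category.comp_id χ)

theorem faithful_of_isMono (h𝒳 : IsFibGrpd 𝒳.p) (h𝒴 : IsFibGrpd 𝒴.p) (j : 𝒳 ⥤ᵇ 𝒴)
    (hj : AlgSt.IsMono j) : j.toFunctor.Faithful := by
  haveI : 𝒴.p.IsFibered := Groth.Agent.H32.Split.isFibered_of_isFibGrpd 𝒴 h𝒴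
  refine ⟨fun {x x'} b b' hbb' => ?_⟩
  have hb : 𝒳.p.IsHomLift (𝒳.p.map b) b := inferInstance
  have hGb : 𝒴.p.IsHomLift (𝒳.p.map b) (j.map b) := inferInstance
  have hGb' : 𝒴.p.IsHomLift (𝒳.p.map b) (j.map b') := by
    have e : j.map b' = j.map b := hbb'.symm
    rw [e]; exact hGb
  have hb' : 𝒳.p.IsHomLift (𝒳.p.map b) b' := (BasedFunctor.isHomLift_iff j _ _).mp hGb'
  obtain ⟨α, hα, hαb⟩ := exists_aut 𝒳.p h𝒳 (𝒳.p.map b) b b' hb hb'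
  have hjα : j.map α = 𝟙 (j.obj x) := by
    have l1 : 𝒴.p.IsHomLift (𝟙 (𝒳.p.obj x)) (j.map α) := inferInstance
    refine eq_id_of_comp 𝒴.p h𝒴 (𝒳.p.map b) (j.map b) hGb _ l1 ?_
    have e1 : j.map α ≫ j.map b = j.map (α ≫ b) := (j.toFunctor.map_comp _ _).symm
    rw [e1, hαb]
    exact hbb'.symm
  suffices hα1 : α = 𝟙 x by rw [← hαb, hα1, Category.id_comp]
  obtain ⟨y, -, τ₀, hτ₀i, hτ₀l⟩ :=
    exists_based_functor (Groth.Agent.H32.Split.hT (𝒳.p.obj x)) (j.obj x) (j.w_obj x)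
  obtain ⟨F, e, he, -⟩ := hj (𝒳.p.obj x) y
  have hP : IsFibGrpd (FibCat.fp y j).p :=
    Groth.Agent.H32.Repr.fp_isFibGrpd y j (Groth.Agent.S6411.over_isFibGrpd (𝒳.p.obj x)) h𝒳 h𝒴
  have hthin := (Groth.Agent.S12787.result (𝒳 := FibCat.fp y j) hP ⟨F, e, he⟩).2 (𝒳.p.obj x)
  let z : (FibCat.fp y j).obj :=
    mkObj y j (Groth.Agent.H32.Split.T (𝒳.p.obj x)) x (asIso τ₀) hτ₀l
  have w₁ : y.map (𝟙 (Groth.Agent.H32.Split.T (𝒳.p.obj x))) ≫ z.obj.iso.hom =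
      z.obj.iso.hom ≫ j.map α := by
    have e0 : y.map (𝟙 (Groth.Agent.H32.Split.T (𝒳.p.obj x))) = 𝟙 _ := y.toFunctor.map_id _
    change y.map (𝟙 (Groth.Agent.H32.Split.T (𝒳.p.obj x))) ≫ τ₀ = τ₀ ≫ j.map α
    rw [e0, hjα, Category.id_comp, Category.comp_id]
  let m : z ⟶ z := mkHom y j (𝟙 (Groth.Agent.H32.Split.T (𝒳.p.obj x))) α w₁
  have hm1 : (FibCat.fp y j).p.IsHomLift (𝟙 (𝒳.p.obj x)) m :=
    (fp_isHomLift_iff y j _ m).mpr (IsHomLift.id rfl)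
  have hm2 : (FibCat.fp y j).p.IsHomLift (𝟙 (𝒳.p.obj x)) (𝟙 z) := IsHomLift.id rfl
  have hm : m = 𝟙 z := eq_of_thin hthin m (𝟙 z) hm1 hm2
  exact congrArg (fun m => m.hom.snd) hm

end

/-- Take categories `𝒳` and `𝒴` fibred in groupoids over `(Sch/S)` and a 1-morphism `j : 𝒳 ⟶ 𝒴` between
them which is representable by algebraic spaces and a monomorphism. Then `j` is fully faithful on
fibre categories; for categories fibred in groupoids this is the same as `j` being full and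
faithful, which is how it is stated here. -/
theorem result {S : Scheme.{u}} {𝒳 𝒴 : AlgSt.Cat S}
    (h𝒳 : FibCat.IsFibGrpd 𝒳.p) (h𝒴 : FibCat.IsFibGrpd 𝒴.p) (j : 𝒳 ⥤ᵇ 𝒴) (hj : AlgSt.IsMono j) :
    j.toFunctor.Full ∧ j.toFunctor.Faithful := by
  exact ⟨full_of_isMono h𝒳 h𝒴 j hj, faithful_of_isMono h𝒳 h𝒴 j hj⟩

end Groth.Agent.S12774
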