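import Groth.Statements.S12776
import Groth.Agent.S12774

set_option autoImplicit false
open CategoryTheory AlgebraicGeometry
universe u
open AlgSt

namespace Groth.Agent.S12776

open FibCat Groth.Agent.H32.FibProd Groth.Agent.H32.Yoneda2 Groth.Agent.H32.StkLoc Opposite

theorem faithful_of_rep {S : Scheme.{u}} {𝒳 𝒴 : AlgSt.Cat S} (h𝒳 : IsFibGrpd 𝒳.p) (h𝒴 : IsFibGrpd 𝒴.p) (j : 𝒳 ⥤ᵇ 𝒴)
    (hj : AlgSt.RepByAlgSp1 j) : j.toFunctor.Faithful := by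
  haveI : 𝒴.p.IsFibered := Groth.Agent.H32.Split.isFibered_of_isFibGrpd 𝒴 h𝒴
  refine ⟨fun {x x'} b b' hbb' => ?_⟩
  have hb : 𝒳.p.IsHomLift (𝒳.p.map b) b := inferInstance
  have hGb : 𝒴.p.IsHomLift (𝒳.p.map b) (j.map b) := inferInstance
  have hGb' : 𝒴.p.IsHomLift (𝒳.p.map b) (j.map b') := by
    have e : j.map b' = j.map b := hbb'.symm
    rw [e]; exact hGb
  have hb' : 𝒳.p.IsHomLift (𝒳.p.map b) b' := (BasedFunctor.isHomLift_iff j _ _).mp hGb'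
  obtain ⟨α, hα, hαb⟩ := exists_aut 𝒳.p h𝒳 (𝒳.p.map b) b b' hb hb'
  have hjα : j.map α = 𝟙 (j.obj x) := by
    have l1 : 𝒴.p.IsHomLift (𝟙 (𝒳.p.obj x)) (j.map α) := inferInstance
    refine eq_id_of_comp 𝒴.p h𝒴 (𝒳.p.map b) (j.map b) hGb _ l1 ?_
    have e1 : j.map α ≫ j.map b = j.map (α ≫ b) := (j.toFunctor.map_comp _ _).symm
    rw [e1, hαb]
    exact hbb'.symm
  suffices hα1 : α = 𝟙 x by rw [← hαb, hα1, Category.id_comp]
  obtain ⟨y, -, τ₀, hτ₀i, hτ₀l⟩ :=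
    exists_based_functor (Groth.Agent.H32.Split.hT (𝒳.p.obj x)) (j.obj x) (j.w_obj x)
  obtain ⟨F, e, he⟩ := hj (𝒳.p.obj x) y
  have hP : IsFibGrpd (FibCat.fp y j).p :=
    Groth.Agent.H32.Repr.fp_isFibGrpd y j (Groth.Agent.S6411.over_isFibGrpd (𝒳.p.obj x)) h𝒳 h𝒴
  have hthin := (Groth.Agent.S12787.result (𝒳 := FibCat.fp y j) hP ⟨F, e, he⟩).2 (𝒳.p.obj x)
  let z : (FibCat.fp y j).obj :=
    mkObj y j (Groth.Agent.H32.Split.T (𝒳.p.obj x)) x (asIso τ₀) hτ₀l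
  have w₁ : y.map (𝟙 (Groth.Agent.H32.Split.T (𝒳.p.obj x))) ≫ z.obj.iso.hom =
      z.obj.iso.hom ≫ j.map α := by
    have e0 : y.map (𝟙 (Groth.Agent.H32.Split.T (𝒳.p.obj x))) = 𝟙 _ := y.toFunctor.map_id _
    change y.map (𝟙 (Groth.Agent.H32.Split.T (𝒳.p.obj x))) ≫ τ₀ = τ₀ ≫ j.map α
    rw [e0, hjα, Category.id_comp, Category.comp_id]
  let m : z ⟶ z := mkHom y j (𝟙 (Groth.Agent.H32.Split.T (𝒳.p.obj x))) α w₁
  have hm1 : (FibCat.fp y j).p.IsHomLift (𝟙 (𝒳.p.obj x)) m :=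
    (fp_isHomLift_iff y j _ m).mpr (IsHomLift.id rfl)
  have hm2 : (FibCat.fp y j).p.IsHomLift (𝟙 (𝒳.p.obj x)) (𝟙 z) := IsHomLift.id rfl
  have hm : m = 𝟙 z := Groth.Agent.S12774.eq_of_thin hthin m (𝟙 z) hm1 hm2
  exact congrArg (fun m => m.hom.snd) hm



/-- For categories `𝒳`, `𝒴` fibred in groupoids over `(Sch/S)`, any 1-morphism `f : 𝒳 ⟶ 𝒴` that is
representable by algebraic spaces is faithful on fibre categories; for categories fibred in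
groupoids this is the same as `f` being faithful, which is how it is stated here. -/
theorem result {S : Scheme.{u}} {𝒳 𝒴 : AlgSt.Cat S}
    (h𝒳 : FibCat.IsFibGrpd 𝒳.p) (h𝒴 : FibCat.IsFibGrpd 𝒴.p) (f : 𝒳 ⥤ᵇ 𝒴) (hf : AlgSt.RepByAlgSp1 f) :
    f.toFunctor.Faithful := by
  exact faithful_of_rep h𝒳 h𝒴 f hf

end Groth.Agent.S12776
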