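import Groth.Statements.S12765
import Groth.Agent.H32.Magic
import Groth.Agent.H32.Prod
import Groth.Agent.H32.SpBoot
import Groth.Agent.S17265
import Groth.Agent.S6411

set_option autoImplicit false
open CategoryTheory AlgebraicGeometry
universe u
open AlgSt

namespace Groth.Agent.S12765

/-- (1) ⇔ (3): for `𝒳` fibred in groupoids over `(Sch/S)`, the diagonal `𝒳 ⟶ 𝒳 × 𝒳` is representable by
algebraic spaces if and only if for every scheme `U` over `S` every 1-morphism `(Sch/U) ⟶ 𝒳` is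
representable by algebraic spaces. -/
theorem result {S : Scheme.{u}} {𝒳 : AlgSt.Cat S} (h𝒳 : FibCat.IsFibGrpd 𝒳.p) :
    AlgSt.RepByAlgSp1 (FibCat.diag (FibCat.toSelf 𝒳)) ↔
      ∀ (U : Over S) (x : FibCat.overCat U ⥤ᵇ 𝒳), AlgSt.RepByAlgSp1 x := by
  open FibCat Stk Groth.Agent.H32.FibProd Groth.Agent.H32.Fp2 Groth.Agent.H32.Fp3
    Groth.Agent.H32.Fp4 Groth.Agent.H32.SpBridge Groth.Agent.H32.Magic Groth.Agent.H32.Prod in
  constructor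
  · intro hΔ U x
    exact Groth.Agent.S17265.result (Groth.Agent.S6411.over_isFibGrpd U) h𝒳
      Groth.Agent.H32.Repr.self_isFibGrpd x (FibCat.toSelf 𝒳)
      (repByAlgSp1_to_selfOver U (BasedFunctor.comp x (FibCat.toSelf 𝒳))) hΔ
  · intro H U w
    obtain ⟨x₁, hx₁⟩ : ∃ x₁ : FibCat.overCat U ⥤ᵇ 𝒳,
        x₁ = BasedFunctor.comp w (fpFst (FibCat.toSelf 𝒳) (FibCat.toSelf 𝒳)) := ⟨_, rfl⟩
    obtain ⟨x₂, hx₂⟩ : ∃ x₂ : FibCat.overCat U ⥤ᵇ 𝒳,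
        x₂ = BasedFunctor.comp w (fpSnd (FibCat.toSelf 𝒳) (FibCat.toSelf 𝒳)) := ⟨_, rfl⟩
    have hX : AlgSt.RepByAlgSp (fp (prodF x₁ x₂ (FibCat.toSelf 𝒳)) (FibCat.diag (FibCat.toSelf 𝒳))) :=
      repByAlgSp_of_equiv' _ (magic_isEquivOver x₁ x₂ (FibCat.toSelf 𝒳)) (H U x₂ U x₁)
    have hY : AlgSt.RepByAlgSp (fp (BasedFunctor.comp x₁ (FibCat.toSelf 𝒳))
        (BasedFunctor.comp x₂ (FibCat.toSelf 𝒳))) := repByAlgSp_fp_selfOver U U _ _
    have hπ : AlgSt.RepByAlgSp1 (fpFst (prodF x₁ x₂ (FibCat.toSelf 𝒳))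
        (FibCat.diag (FibCat.toSelf 𝒳))) := repByAlgSp1_of_repByAlgSp hX hY _
    subst hx₁ hx₂
    let δ' : FibCat.overCat U ⥤ᵇ fp (BasedFunctor.comp (BasedFunctor.comp w
        (fpFst (FibCat.toSelf 𝒳) (FibCat.toSelf 𝒳))) (FibCat.toSelf 𝒳))
        (BasedFunctor.comp (BasedFunctor.comp w (fpSnd (FibCat.toSelf 𝒳) (FibCat.toSelf 𝒳)))
          (FibCat.toSelf 𝒳)) :=
      fpLift (F := BasedFunctor.comp (BasedFunctor.comp w
        (fpFst (FibCat.toSelf 𝒳) (FibCat.toSelf 𝒳))) (FibCat.toSelf 𝒳))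
        (G := BasedFunctor.comp (BasedFunctor.comp w (fpSnd (FibCat.toSelf 𝒳) (FibCat.toSelf 𝒳)))
          (FibCat.toSelf 𝒳)) (BasedFunctor.id _) (BasedFunctor.id _)
        (whiskerLeftIso w (fpIso (FibCat.toSelf 𝒳) (FibCat.toSelf 𝒳)))
    have h1 := hπ U δ'
    have h2 := repByAlgSp_of_equiv' _ (paste_isEquivOver δ' (prodF _ _ (FibCat.toSelf 𝒳))
      (FibCat.diag (FibCat.toSelf 𝒳))) h1
    exact h2

end Groth.Agent.S12765
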