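import Groth.Statements.S12782
import Groth.Agent.H32.Fp4
import Groth.Agent.H32.SpTrack

set_option autoImplicit false
open CategoryTheory AlgebraicGeometry
universe u
open AlgSt

namespace Groth.Agent.S12782

/-- Consider a 2-commutative square of 1-morphisms of categories fibred in groupoids over `(Sch/S)` with
vertical arrows `f' : 𝒳' ⟶ 𝒴'`, `f : 𝒳 ⟶ 𝒴` and horizontal arrows equivalences over `(Sch/S)`. Then
`f` is representable by algebraic spaces with property `P` if and only if `f'` is. (The published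
statement assumes `P` stable under base change and fppf local on the base; this row holds for every
property `P`.) -/
theorem result {S : Scheme.{u}} {𝒳 𝒴 𝒳' 𝒴' : AlgSt.Cat S}
    (h𝒳 : FibCat.IsFibGrpd 𝒳.p) (h𝒴 : FibCat.IsFibGrpd 𝒴.p) (h𝒳' : FibCat.IsFibGrpd 𝒳'.p) (h𝒴' : FibCat.IsFibGrpd 𝒴'.p)
    (P : MorphismProperty (AlgSp.Sp S)) (f : 𝒳 ⥤ᵇ 𝒴) (f' : 𝒳' ⥤ᵇ 𝒴') (a : 𝒳' ⥤ᵇ 𝒳) (b : 𝒴' ⥤ᵇ 𝒴)
    (ha : FibCat.IsEquivOver a) (hb : FibCat.IsEquivOver b) (e : BasedFunctor.comp f' b ≅ BasedFunctor.comp a f) :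
    AlgSt.RepByAlgSpWith P f ↔ AlgSt.RepByAlgSpWith P f' := by
  open FibCat Groth.Agent.H32.Fp2 Groth.Agent.H32.Fp3 Groth.Agent.H32.Fp4
    Groth.Agent.H32.SpTrack Groth.Agent.H32.FibProd in
  constructor
  · intro hf U y'
    obtain ⟨F, e₀, he₀, hP⟩ := hf U (BasedFunctor.comp y' b)
    obtain ⟨Q, hQ, -, ⟨ε⟩⟩ := exists_inv_isEquivOver (sqFunctor_isEquivOver y' f f' a b e ha hb)
    refine ⟨F, BasedFunctor.comp e₀ Q, isEquivOver_comp _ _ he₀ hQ, ?_⟩
    have key : AlgSt.spMapOfOver (BasedFunctor.comp (BasedFunctor.comp e₀ Q) (fpFst y' f')) =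
        AlgSt.spMapOfOver (BasedFunctor.comp e₀ (fpFst (BasedFunctor.comp y' b) f)) := by
      refine spMapOfOver_eq_of_hom _ _ (fun x => ?_)
      exact ⟨(fpFst (BasedFunctor.comp y' b) f).map (appIso ε (e₀.obj x)).hom,
        isHomLift_id_of_eq _ (e₀.w_obj x) _
          ((BasedFunctor.isHomLift_iff (fpFst (BasedFunctor.comp y' b) f) _ _).mpr
            (appIso_isHomLift ε (e₀.obj x)))⟩
    rw [key]
    exact hP
  · intro hf' U y
    obtain ⟨y', ⟨β⟩⟩ := exists_factor_iso hb y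
    obtain ⟨F, e₀, he₀, hP⟩ := hf' U y'
    exact ⟨F, BasedFunctor.comp e₀ (BasedFunctor.comp (sqFunctor y' f f' a b e) (congrLeft β f)),
      isEquivOver_comp _ _ he₀ (isEquivOver_comp _ _ (sqFunctor_isEquivOver y' f f' a b e ha hb)
        (congrLeft_isEquivOver β f)), hP⟩

end Groth.Agent.S12782
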