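import Groth.Statements.S12778
import Groth.Agent.H32.SpTrack

set_option autoImplicit false
open CategoryTheory AlgebraicGeometry
universe u
open AlgSt

namespace Groth.Agent.S12778

/-- For presheaves of sets `F`, `G` on `(Sch/S)`, let `a : F ⟶ G` be a morphism representable by
algebraic spaces, and let `Q` be a property of morphisms of algebraic spaces. Then `a` has `Q`
(every base change `h_U ×_G F ⟶ h_U` has `Q`) if and only if the associated 1-morphism of categories
fibred in sets, which is representable by algebraic spaces, has `Q`. (The published statement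
assumes `Q` stable under base change and fppf local on the base; this row assumes only that `Q`
respects isomorphisms.) -/
theorem result {S : Scheme.{u}} (Q : MorphismProperty (AlgSp.Sp S)) [Q.RespectsIso]
    {F G : AlgSp.PSp S} (a : F ⟶ G) (ha : AlgSp.RepBySp a) :
    AlgSp.RepBySpWith Q a ↔ AlgSt.RepByAlgSpWith Q (Stk.ofPshMap a) := by
  open FibCat Stk Groth.Agent.H32.FibProd Groth.Agent.H32.Fp2 Groth.Agent.H32.Fp3
    Groth.Agent.H32.PshFp Groth.Agent.H32.PshStack Groth.Agent.H32.SpBridge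
    Groth.Agent.H32.SpTrack in
  constructor
  · intro h U y
    have sq := IsPullback.of_hasPullback a (pointMap y)
    obtain ⟨hF', hA, hQ⟩ := h (pointMap y) (Limits.pullback.fst a (pointMap y))
      (Limits.pullback.snd a (pointMap y)) sq
    have h1 : IsEquivOver (pasteMid (AlgSt.ofOverCat U) (Stk.ofPshMap (pointMap y))
        (Stk.ofPshMap a)) := pasteMid_isEquivOver _ _ _ (ofOverCat_isEquivOver U)
    obtain ⟨E1', hE1', -, ⟨ε1⟩⟩ := exists_inv_isEquivOver h1
    obtain ⟨α⟩ := pointMap_iso y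
    have h2 : IsEquivOver (pbFunctor a (pointMap y) _ _ sq.w) := pbFunctor_isEquivOver a _ _ _ sq
    refine ⟨⟨⟨_, hF'⟩, hA⟩, BasedFunctor.comp (pbFunctor a (pointMap y) _ _ sq.w)
      (BasedFunctor.comp E1' (congrLeft α (Stk.ofPshMap a))),
      isEquivOver_comp _ _ h2 (isEquivOver_comp _ _ hE1' (congrLeft_isEquivOver α _)), ?_⟩
    have key : AlgSt.spMapOfOver (BasedFunctor.comp (BasedFunctor.comp
        (pbFunctor a (pointMap y) _ _ sq.w)
        (BasedFunctor.comp E1' (congrLeft α (Stk.ofPshMap a)))) (fpFst y (Stk.ofPshMap a))) =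
        (ObjectProperty.homMk (Limits.pullback.snd a (pointMap y)) :
          (⟨Limits.pullback a (pointMap y), hF'⟩ : AlgSp.Sp S) ⟶ (AlgSp.yon S).obj U) := by
      apply ObjectProperty.hom_ext
      rw [spMapOfOver_hom]
      refine (pshMapOf_eq_of_hom _ (Stk.ofPshMap (Limits.pullback.snd a (pointMap y))) ?_).trans
        (pshMapOf_ofPshMap _)
      intro b
      exact ⟨(fpFst _ _).map (appIso ε1 ((pbFunctor a (pointMap y) _ _ sq.w).obj b)).hom,
        (BasedFunctor.isHomLift_iff (fpFst _ _) _ _).mpr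
          (appIso_isHomLift ε1 ((pbFunctor a (pointMap y) _ _ sq.w).obj b))⟩
    rw [key]
    exact hQ
  · intro h U ξ F' fst snd sq
    obtain ⟨hF', hA⟩ := ha ξ fst snd sq
    refine ⟨hF', hA, ?_⟩
    obtain ⟨F0, e, he, hQ⟩ := h U (ofPoint ξ)
    have h1 : IsEquivOver (pasteMid (AlgSt.ofOverCat U) (Stk.ofPshMap ξ) (Stk.ofPshMap a)) :=
      pasteMid_isEquivOver _ _ _ (ofOverCat_isEquivOver U)
    have h2 : IsEquivOver (pbFunctor a ξ fst snd sq.w) := pbFunctor_isEquivOver a ξ fst snd sq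
    obtain ⟨E2', hE2', -, ⟨ε2⟩⟩ := exists_inv_isEquivOver h2
    obtain ⟨E, hEdef⟩ : ∃ E : AlgSt.ofSp F0.obj ⥤ᵇ Stk.ofPsh F', E = BasedFunctor.comp e
      (BasedFunctor.comp (pasteMid (AlgSt.ofOverCat U) (Stk.ofPshMap ξ) (Stk.ofPshMap a)) E2') :=
      ⟨_, rfl⟩
    have hE : IsEquivOver E := by
      rw [hEdef]; exact isEquivOver_comp _ _ he (isEquivOver_comp _ _ h1 hE2')
    have hi : IsIso (pshMapOf E) := isIso_pshMapOf E hE
    have key : AlgSt.spMapOfOver (BasedFunctor.comp e (fpFst (ofPoint ξ) (Stk.ofPshMap a))) =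
        (ObjectProperty.homMk (pshMapOf E) : F0.obj ⟶ (⟨F', hF'⟩ : AlgSp.Sp S)) ≫
          (ObjectProperty.homMk snd : (⟨F', hF'⟩ : AlgSp.Sp S) ⟶ (AlgSp.yon S).obj U) := by
      apply ObjectProperty.hom_ext
      rw [spMapOfOver_hom]
      change _ = pshMapOf E ≫ snd
      have e1 : pshMapOf E ≫ snd = pshMapOf (BasedFunctor.comp E (Stk.ofPshMap snd)) := by
        rw [pshMapOf_comp, pshMapOf_ofPshMap]
      rw [e1, hEdef]
      refine (pshMapOf_eq_of_hom _ _ ?_).symm
      intro b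
      exact ⟨(fpFst _ _).map (appIso ε2 ((pasteMid (AlgSt.ofOverCat U) (Stk.ofPshMap ξ)
          (Stk.ofPshMap a)).obj (e.obj b))).hom,
        isHomLift_id_of_eq _ (e.w_obj b) _ ((BasedFunctor.isHomLift_iff (fpFst _ _) _ _).mpr
          (appIso_isHomLift ε2 ((pasteMid (AlgSt.ofOverCat U) (Stk.ofPshMap ξ)
          (Stk.ofPshMap a)).obj (e.obj b))))⟩
    rw [key] at hQ
    have hi' : IsIso (ObjectProperty.homMk (pshMapOf E) : F0.obj ⟶ (⟨F', hF'⟩ : AlgSp.Sp S)) := by
      have : IsIso ((sheafToPresheaf (AlgSp.J S) (Type (u + 1))).map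
        (ObjectProperty.homMk (pshMapOf E) : F0.obj ⟶ (⟨F', hF'⟩ : AlgSp.Sp S))) := hi
      exact isIso_of_reflects_iso _ (sheafToPresheaf (AlgSp.J S) (Type (u + 1)))
    exact (Q.cancel_left_of_respectsIso _ _).mp hQ

end Groth.Agent.S12778
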