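import Groth.Statements.S10519
import Groth.Agent.H52.Fpqc

set_option autoImplicit false
universe u
open CategoryTheory CategoryTheory.Limits AlgebraicGeometry
open AlgSp
open Groth.Agent.H52

namespace Groth.Agent.S10519

/-- The property of morphisms of algebraic spaces over S given by f is quasi-compact is fpqc local on
the base: for an fpqc covering of an algebraic space Y by algebraic spaces Y_i, a morphism f : X ⟶ Y
of algebraic spaces and cartesian squares X_i = Y_i ×_Y X, f has the property if and only if every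
X_i ⟶ Y_i has it. -/
theorem result (S : Scheme.{u}) :
    AlgSp.IsLocalOnBase (AlgSp.IsFpqcCover (S := S)) AlgSp.IsQuasiCompactMor := by
  intro ι Y Yi g hY hYi hcov X f hX Xi p q hXi sq
  constructor
  · intro hf i Z Z' hZ hZq h fst' snd' sq'
    exact hf hZ hZq (h ≫ g i) (fst' ≫ q i) snd' (sq'.paste_horiz (sq i))
  · intro hp
    apply isQuasiCompactMor_of_affine hX hY f
    intro Z hZ h Pz a b sqP
    have : IsAffine Z.left := hZ
    obtain ⟨m, W, c, hW, hflat, hsurj, hlift⟩ := hcov.2 Z hZ h
    have hPz : IsAlgSpace Pz := isAlgSpace_of_isPullback sqP hY.diag hX (IsAlgSpace.yon_obj Z)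
    have key : ∀ j, ∃ (Qi : Sp S) (li : Qi ⟶ Pz) (si : Qi ⟶ (yon S).obj (W j)),
        IsPullback li si b ((yon S).map (c j)) ∧ IsQuasiCompactSp Qi := fun j => by
      obtain ⟨i, l, hl⟩ := hlift j
      obtain ⟨Qi, li, ki, si, sq1, sq2⟩ := exists_baseChange_of_lift (sq i) sqP (c j) l hl.symm
      have : IsAffine (W j).left := hW j
      have : CompactSpace ↥(W j).left := inferInstance
      exact ⟨Qi, li, si, sq1, hp i (IsAlgSpace.yon_obj _) (isQuasiCompactSp_yon _) l ki si sq2⟩
    choose Qi li si sq1 hq using key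
    refine isQuasiCompactSp_of_finite_cover hPz Qi li hq fun x => ?_
    obtain ⟨z, hz⟩ := (Points.schemeEquiv Z).surjective (Points.map b x)
    obtain ⟨j, w, rfl⟩ := hsurj z
    have hx : Points.map b x = Points.map ((yon S).map (c j)) (Points.ofScheme (W j) w) := by
      rw [map_yon_map_ofScheme]
      exact hz.symm
    obtain ⟨y, hy, -⟩ := exists_point_of_isPullback (sq1 j) x _ hx
    exact ⟨j, y, hy⟩

end Groth.Agent.S10519
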