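import Groth.Statements.S10277
import Groth.Agent.H51.DiagSep

set_option autoImplicit false
universe u
open CategoryTheory CategoryTheory.Limits AlgebraicGeometry
open AlgSp

namespace Groth.Agent.S10277

/-- A closed immersion of algebraic spaces is proper. -/
theorem result {S : Scheme.{u}} {X Y : AlgSp.Space S} (i : X ⟶ Y)
    (hi : AlgSp.RepWith @IsClosedImmersion i.hom) : AlgSp.IsProperMor i.hom := by
  have le1 : (@IsClosedImmersion : MorphismProperty Scheme.{u}) ≤ @UniversallyClosed := by
    intro A B g hg
    have : IsClosedImmersion g := hg
    infer_instance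
  have le2 : (@IsClosedImmersion : MorphismProperty Scheme.{u}) ≤ @LocallyOfFiniteType := by
    intro A B g hg
    have : IsClosedImmersion g := hg
    infer_instance
  have le3 : (@IsClosedImmersion : MorphismProperty Scheme.{u}) ≤ @QuasiCompact := by
    intro A B g hg
    have : IsClosedImmersion g := hg
    infer_instance
  refine ⟨?_, ⟨?_, ?_⟩, ?_⟩
  · have inst1 := AlgSp.repWith_isStableUnderBaseChange (S := S) @IsClosedImmersion
    have inst2 := AlgSp.repWith_isMultiplicative (S := S) @IsClosedImmersion
    have hm : Mono i.hom := Groth.Agent.H50.mono_of_repWith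
      (P := @IsClosedImmersion) (fun A B g hg => by have : IsClosedImmersion g := hg; infer_instance) hi
    have : IsIso (pullback.diagonal i.hom) := (pullback.isIso_diagonal_iff _).2 hm
    exact MorphismProperty.of_isIso (AlgSp.RepWith @IsClosedImmersion) _
  · exact Groth.Agent.H50.locP_of_repWith (P := @LocallyOfFiniteType)
      (fun A B g hg => by have : Etale g := hg; infer_instance)
      (Groth.Agent.H51.repWith_mono le2 hi)
  · exact Groth.Agent.H50.isQuasiCompactMor_of_repWith (Groth.Agent.H51.repWith_mono le3 hi)
  · exact (Groth.Agent.S9922.result i hi.1).1 (Groth.Agent.H51.repWith_mono le1 hi)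

end Groth.Agent.S10277
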