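import Groth.Statements.S10209
import Groth.Agent.H51.SrcRep

set_option autoImplicit false
universe u
open CategoryTheory CategoryTheory.Limits AlgebraicGeometry Topology TopologicalSpace
open AlgSp

namespace Groth.Agent.S10209

/-- Etaleness of morphisms of algebraic spaces is preserved by every base change: let f : X ⟶ Y and g :
Z ⟶ Y be morphisms of algebraic spaces over a scheme S and P an algebraic space with morphisms P ⟶ Z
and P ⟶ X making the square of underlying sheaves cartesian (P = Z ×_Y X). If f is etale (every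
composite of f with a representable etale map h_U ⟶ X from a scheme U is representable etale), then
the projection P ⟶ Z is etale. -/
theorem result {S : Scheme.{u}} {X Y Z P : AlgSp.Space S} (f : X ⟶ Y) (g : Z ⟶ Y)
    (fst : P ⟶ Z) (snd : P ⟶ X) (h : IsPullback fst.hom snd.hom g.hom f.hom) (hf : AlgSp.IsEtaleMor f.hom) :
    AlgSp.IsEtaleMor fst.hom := by
  have inst1 := AlgSp.repWith_isStableUnderBaseChange (S := S) @Etale
  have inst2 := AlgSp.repWith_isMultiplicative (S := S) @Etale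
  intro W φ hφ
  obtain ⟨U, a, ha, has⟩ := X.property.atlas
  have hc : RepWith @Etale (a ≫ f.hom) := hf a ha
  -- Q = Z ×_Y h_U
  have sqbig := IsPullback.of_hasPullback g.hom (a ≫ f.hom)
  have hpr1 : RepWith @Etale (pullback.fst g.hom (a ≫ f.hom)) :=
    (RepWith @Etale).of_isPullback sqbig.flip hc
  have hk : pullback.fst g.hom (a ≫ f.hom) ≫ g.hom =
      (pullback.snd g.hom (a ≫ f.hom) ≫ a) ≫ f.hom := by
    rw [Category.assoc]; exact pullback.condition
  have sqQ : IsPullback (h.lift _ _ hk) (pullback.snd g.hom (a ≫ f.hom)) snd.hom a := by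
    refine IsPullback.of_right ?_ (h.lift_snd _ _ hk) h
    rw [h.lift_fst]
    exact sqbig
  -- T = h_W ×_X h_U
  have sqT := ha.rep.isPullback (φ ≫ snd.hom)
  have hχE : Etale (ha.rep.snd (φ ≫ snd.hom)).left := ha.property_snd _
  have hχS : Surjective (ha.rep.snd (φ ≫ snd.hom)).left := has.property_snd _
  have hθ : ((yon S).map (ha.rep.snd (φ ≫ snd.hom)) ≫ φ) ≫ snd.hom =
      ha.rep.fst (φ ≫ snd.hom) ≫ a := by
    rw [Category.assoc]; exact sqT.w.symm
  have sqθ : IsPullback (sqQ.lift _ _ hθ) ((yon S).map (ha.rep.snd (φ ≫ snd.hom)))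
      (h.lift _ _ hk) φ := by
    refine IsPullback.of_right ?_ (sqQ.lift_fst _ _ hθ) sqQ.flip
    rw [sqQ.lift_snd]
    exact sqT
  have hθE : RepWith @Etale (sqQ.lift _ _ hθ) := (RepWith @Etale).of_isPullback sqθ.flip hφ
  refine Groth.Agent.H51.repWith_etale_of_comp_surjective_etale Z.property
    (ha.rep.snd (φ ≫ snd.hom)) (φ ≫ fst.hom) ?_
  have e1 := h.lift_fst _ _ hk
  have e2 := sqQ.lift_fst _ _ hθ
  have hw : (yon S).map (ha.rep.snd (φ ≫ snd.hom)) ≫ φ ≫ fst.hom =
      sqQ.lift _ _ hθ ≫ pullback.fst g.hom (a ≫ f.hom) :=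
    calc (yon S).map (ha.rep.snd (φ ≫ snd.hom)) ≫ φ ≫ fst.hom
        = ((yon S).map (ha.rep.snd (φ ≫ snd.hom)) ≫ φ) ≫ fst.hom := (Category.assoc _ _ _).symm
      _ = (sqQ.lift _ _ hθ ≫ h.lift _ _ hk) ≫ fst.hom := by rw [e2]
      _ = sqQ.lift _ _ hθ ≫ (h.lift _ _ hk ≫ fst.hom) := Category.assoc _ _ _
      _ = sqQ.lift _ _ hθ ≫ pullback.fst g.hom (a ≫ f.hom) := by rw [e1]
  rw [hw]
  exact (RepWith @Etale).comp_mem _ _ hθE hpr1

end Groth.Agent.S10209
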