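import Groth.Statements.S10210
import Groth.Agent.H51.RepDescent
import Groth.Agent.H51.EtaleChart

set_option autoImplicit false
universe u
open CategoryTheory CategoryTheory.Limits AlgebraicGeometry
open AlgSp

namespace Groth.Agent.S10210

/-- Let X, Y, Z be algebraic spaces over a scheme S, g : X ⟶ Z and h : Y ⟶ Z etale morphisms and f : X ⟶
Y a morphism with f ≫ h = g. Then f is etale. -/
theorem result {S : Scheme.{u}} {X Y Z : AlgSp.Space S} (f : X ⟶ Y) (h : Y ⟶ Z) (g : X ⟶ Z)
    (w : f ≫ h = g) (hg : AlgSp.IsEtaleMor g.hom) (hh : AlgSp.IsEtaleMor h.hom) :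
    AlgSp.IsEtaleMor f.hom := by
  intro U φ hφ
  have hw : f.hom ≫ h.hom = g.hom := by rw [← w]; rfl
  have hc : Representable (φ ≫ f.hom) := Y.property.representable_from_yon _
  obtain ⟨V, b, hbe, hbs⟩ := Y.property.atlas
  refine Groth.Agent.H51.repWith_etale_of_baseChange_cover (φ ≫ f.hom) hc b
    (Groth.Agent.H51.repWith_fppf_of_etale_surjective b hbe hbs) ?_
  have sq := hc.isPullback b
  have inst1 := AlgSp.repWith_isStableUnderBaseChange (S := S) @Etale
  have inst2 := AlgSp.repWith_isMultiplicative (S := S) @Etale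
  have hfst : RepWith @Etale (hc.fst b) := (RepWith @Etale).of_isPullback sq.flip hbe
  have ha : RepWith @Etale (hc.fst b ≫ φ) := (RepWith @Etale).comp_mem _ _ hfst hφ
  have ha' : RepWith @Etale ((hc.fst b ≫ φ) ≫ g.hom) := hg _ ha
  have hb' : RepWith @Etale (b ≫ h.hom) := hh _ hbe
  have hid : IsEtaleMor (𝟙 Z.obj) := by
    intro U' ψ hψ
    rw [Category.comp_id]; exact hψ
  refine Groth.Agent.H51.etale_of_isEtaleMor_of_charts (𝟙 Z.obj) hid _ _ (hc.snd b) ha' hb' ?_
  rw [Category.comp_id, ← Category.assoc ((yon S).map (hc.snd b)), ← sq.w, ← hw]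
  simp only [Category.assoc]

end Groth.Agent.S10210
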