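import Groth.Statements.S12868
-- import your own Groth.Agent.* helpers here

set_option autoImplicit false
open CategoryTheory AlgebraicGeometry
universe u
open AlgSt

namespace Groth.Agent.S12868

theorem mono_of_repWith_immersion {S : Scheme.{u}} {F G : AlgSp.Sp S} (g : F ⟶ G)
    (hg : AlgSp.RepWith @IsImmersion g) : Mono g := by
  have key : ∀ {T : Over S} (a b : (AlgSp.yon S).obj T ⟶ F), a ≫ g = b ≫ g → a = b := by
    intro T a b h
    have hmono : Mono (hg.rep.snd (a ≫ g)) := by
      have h1 : IsImmersion (hg.rep.snd (a ≫ g)).left := hg.property_snd (a ≫ g)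
      have h2 : Mono ((Over.forget S).map (hg.rep.snd (a ≫ g))) :=
        inferInstanceAs (Mono (hg.rep.snd (a ≫ g)).left)
      exact (Over.forget S).mono_of_mono_map h2
    have : hg.rep.lift (g := a ≫ g) a (𝟙 T) (by simp) = hg.rep.lift b (𝟙 T) (by simp [← h]) := by
      simp only [← cancel_mono (hg.rep.snd (a ≫ g)), Functor.relativelyRepresentable.lift_snd]
    simpa using (AlgSp.yon S).congr_map this =≫ (hg.rep.fst (a ≫ g))
  constructor
  intro W a b h
  apply Sheaf.hom_ext
  apply hom_ext_uliftYoneda.{u+1}
  intro T p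
  have := key (T := T) (ObjectProperty.homMk p ≫ a) (ObjectProperty.homMk p ≫ b)
    (by simp only [Category.assoc, h])
  exact congrArg (fun t => t.hom) this

/-- An immersion `f : 𝒳 ⟶ 𝒴` (representable by algebraic spaces, with every base change to a scheme a
representable immersion) is a monomorphism. (The published statement is about algebraic stacks; this
row holds for arbitrary categories over `(Sch/S)`.) -/
theorem result {S : Scheme.{u}} {𝒳 𝒴 : AlgSt.Cat S} (f : 𝒳 ⥤ᵇ 𝒴)
    (hf : AlgSt.IsImm f) : AlgSt.IsMono f := by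
  intro U y
  obtain ⟨F, e, he, hP⟩ := hf U y
  exact ⟨F, e, he, mono_of_repWith_immersion _ hP⟩

end Groth.Agent.S12868
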