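import Groth.Statements.S6402
import Groth.Agent.H32.FibFull
import Groth.Agent.S5139
-- import your own Groth.Agent.* helpers here

set_option autoImplicit false
open CategoryTheory
universe v u
open FibCat

namespace Groth.Agent.S6402

open Groth.Agent.H32.FibProd

section
variable {C : Type u} [Category.{v} C] {𝒳 𝒴 : BasedCategory.{v, max u v} C} (F : 𝒳 ⥤ᵇ 𝒴)

theorem diag_iso_hom (x : 𝒳.obj) : ((FibCat.diag F).obj x).obj.iso.hom = 𝟙 (F.obj x) := rfl

/-- morphisms `Δ x ⟶ Δ x'` of `𝒳 ×_𝒴 𝒳` from a pair with equal images. -/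
def homP {x x' : 𝒳.obj} (a b : x ⟶ x') (h : F.map a = F.map b) :
    (FibCat.diag F).obj x ⟶ (FibCat.diag F).obj x' :=
  mkHom F F (z' := (FibCat.diag F).obj x) (z := (FibCat.diag F).obj x') a b
    (show F.map a ≫ 𝟙 (F.obj x') = 𝟙 (F.obj x) ≫ F.map b by
      rw [Category.comp_id, Category.id_comp, h])

@[simp] theorem homP_fst {x x' : 𝒳.obj} (a b : x ⟶ x') (h : F.map a = F.map b) :
    (homP F a b h).hom.fst = a := rfl

@[simp] theorem homP_snd {x x' : 𝒳.obj} (a b : x ⟶ x') (h : F.map a = F.map b) :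
    (homP F a b h).hom.snd = b := rfl

theorem homP_ext {x x' : 𝒳.obj} {m n : (FibCat.diag F).obj x ⟶ (FibCat.diag F).obj x'}
    (h1 : (m.hom.fst : x ⟶ x') = n.hom.fst) (h2 : (m.hom.snd : x ⟶ x') = n.hom.snd) : m = n :=
  fp_hom_ext F F h1 h2

theorem homP_eq {x x' : 𝒳.obj} (m : (FibCat.diag F).obj x ⟶ (FibCat.diag F).obj x') :
    F.map (m.hom.fst : x ⟶ x') = F.map (m.hom.snd : x ⟶ x') := by
  obtain ⟨a, b, hab, ha, hb⟩ : ∃ (a b : x ⟶ x'),
      F.map a ≫ 𝟙 (F.obj x') = 𝟙 (F.obj x) ≫ F.map b ∧ m.hom.fst = a ∧ m.hom.snd = b :=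
    ⟨m.hom.fst, m.hom.snd, m.hom.w, rfl, rfl⟩
  rw [Category.comp_id, Category.id_comp] at hab
  rw [ha, hb]
  exact hab

theorem homP_comp {x x' x'' : 𝒳.obj} (a b : x ⟶ x') (h : F.map a = F.map b) (a' b' : x' ⟶ x'')
    (h' : F.map a' = F.map b') :
    homP F a b h ≫ homP F a' b' h' = homP F (a ≫ a') (b ≫ b') (by
      have e1 : F.map (a ≫ a') = F.map a ≫ F.map a' := F.toFunctor.map_comp _ _
      have e2 : F.map (b ≫ b') = F.map b ≫ F.map b' := F.toFunctor.map_comp _ _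
      rw [e1, e2, h, h']) := rfl

theorem homP_id (x : 𝒳.obj) : homP F (𝟙 x) (𝟙 x) rfl = 𝟙 ((FibCat.diag F).obj x) := rfl

theorem homP_eq_id {x : 𝒳.obj} (a b : x ⟶ x) (h : F.map a = F.map b) (ha : a = 𝟙 x)
    (hb : b = 𝟙 x) : homP F a b h = 𝟙 ((FibCat.diag F).obj x) := by
  subst ha hb; rfl

/-- isomorphisms `Δ x ≅ Δ x'` of `𝒳 ×_𝒴 𝒳` from a pair of isomorphisms with equal images. -/
def isoP {x x' : 𝒳.obj} (a b : x ≅ x') (h : F.map a.hom = F.map b.hom) :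
    (FibCat.diag F).obj x ≅ (FibCat.diag F).obj x' where
  hom := homP F a.hom b.hom h
  inv := homP F a.inv b.inv (by
    have e1 : F.map a.inv = inv (F.map a.hom) := by
      have := F.toFunctor.map_inv a.hom
      simpa using this
    have e2 : F.map b.inv = inv (F.map b.hom) := by
      have := F.toFunctor.map_inv b.hom
      simpa using this
    rw [e1, e2]
    congr 1)
  hom_inv_id := by
    rw [homP_comp]
    exact homP_eq_id F _ _ _ a.hom_inv_id b.hom_inv_id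
  inv_hom_id := by
    rw [homP_comp]
    exact homP_eq_id F _ _ _ a.inv_hom_id b.inv_hom_id

theorem homP_congr {x x' : 𝒳.obj} {a a' b b' : x ⟶ x'} (h : F.map a = F.map b)
    (h' : F.map a' = F.map b') (ha : a = a') (hb : b = b') : homP F a b h = homP F a' b' h' := by
  subst ha hb; rfl

theorem aut_isHomLift (X : FibCat.InertiaObj F) :
    𝒳.p.IsHomLift (𝟙 (𝒳.p.obj X.pt)) X.aut.hom := by
  have : 𝒴.p.IsHomLift (𝟙 (𝒳.p.obj X.pt)) (F.map X.aut.hom) := by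
    rw [X.map_aut]; infer_instance
  exact F.isHomLift_map _ _

theorem aut_eq (X : FibCat.InertiaObj F) : F.map X.aut.hom = F.map (Iso.refl X.pt).hom :=
  X.map_aut.trans (F.toFunctor.map_id _).symm

/-- `(x, α) ↦ (x, x, (α, 𝟙))`. -/
def Eobj (X : FibCat.InertiaObj F) : (FibCat.fp (FibCat.diag F) (FibCat.diag F)).obj :=
  mkObj (FibCat.diag F) (FibCat.diag F) X.pt X.pt (isoP F X.aut (Iso.refl X.pt) (aut_eq F X))
    ((fp_isHomLift_iff F F _ _).mpr (aut_isHomLift F X))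

theorem Eobj_iso_hom (X : FibCat.InertiaObj F) :
    (Eobj F X).obj.iso.hom = homP F X.aut.hom (𝟙 X.pt) (aut_eq F X) := rfl

theorem diag_map {x x' : 𝒳.obj} (φ : x ⟶ x') : (FibCat.diag F).map φ = homP F φ φ rfl := rfl

/-- `φ ↦ (φ, φ)`. -/
def Emap {X Y : FibCat.InertiaObj F} (φ : X ⟶ Y) : Eobj F X ⟶ Eobj F Y :=
  mkHom (FibCat.diag F) (FibCat.diag F) (z' := Eobj F X) (z := Eobj F Y) φ.hom φ.hom
    (show homP F φ.hom φ.hom rfl ≫ homP F Y.aut.hom (𝟙 Y.pt) (aut_eq F Y) =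
      homP F X.aut.hom (𝟙 X.pt) (aut_eq F X) ≫ homP F φ.hom φ.hom rfl by
    rw [homP_comp, homP_comp]
    exact homP_congr F _ _ φ.comm.symm ((Category.comp_id _).trans (Category.id_comp _).symm))

/-- the comparison functor. -/
def E : FibCat.inertia F ⥤ᵇ FibCat.fp (FibCat.diag F) (FibCat.diag F) where
  toFunctor :=
    { obj := Eobj F
      map := fun φ => Emap F φ
      map_id := fun _ => fp_hom_ext (FibCat.diag F) (FibCat.diag F) rfl rfl
      map_comp := fun _ _ => fp_hom_ext (FibCat.diag F) (FibCat.diag F) rfl rfl }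
  w := rfl

end

section
variable {C : Type u} [Category.{v} C] {𝒳 𝒴 : BasedCategory.{v, max u v} C} (F : 𝒳 ⥤ᵇ 𝒴)

theorem hom_eq_homP {x x' : 𝒳.obj} (m : (FibCat.diag F).obj x ⟶ (FibCat.diag F).obj x') :
    m = homP F (m.hom.fst : x ⟶ x') (m.hom.snd : x ⟶ x') (homP_eq F m) :=
  homP_ext F rfl rfl

theorem homP_inj {x x' : 𝒳.obj} {a a' b b' : x ⟶ x'} {h : F.map a = F.map b}
    {h' : F.map a' = F.map b'} (e : homP F a b h = homP F a' b' h') : a = a' ∧ b = b' :=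
  ⟨congrArg (fun k => (k.hom.fst : x ⟶ x')) e, congrArg (fun k => (k.hom.snd : x ⟶ x')) e⟩

theorem E_faithful : (E F).toFunctor.Faithful := by
  refine ⟨fun {X Y} φ ψ h => ?_⟩
  apply FibCat.InertiaObj.hom_ext
  exact congrArg (fun k => (k.hom.fst : X.pt ⟶ Y.pt)) h

theorem E_full : (E F).toFunctor.Full := by
  refine ⟨fun {X Y} m => ?_⟩
  obtain ⟨a, b, hw, ha, hb⟩ : ∃ (a b : X.pt ⟶ Y.pt),
      homP F a a rfl ≫ homP F Y.aut.hom (𝟙 Y.pt) (aut_eq F Y) =
        homP F X.aut.hom (𝟙 X.pt) (aut_eq F X) ≫ homP F b b rfl ∧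
      m.hom.fst = a ∧ m.hom.snd = b := ⟨m.hom.fst, m.hom.snd, m.hom.w, rfl, rfl⟩
  rw [homP_comp, homP_comp] at hw
  obtain ⟨h1, h2⟩ := homP_inj F hw
  rw [Category.comp_id, Category.id_comp] at h2
  subst h2
  let φ : X ⟶ Y := ⟨a, h1.symm⟩
  refine ⟨φ, ?_⟩
  exact fp_hom_ext (FibCat.diag F) (FibCat.diag F) ha.symm hb.symm

theorem E_essSurj (z : (FibCat.fp (FibCat.diag F) (FibCat.diag F)).obj) :
    ∃ (X : (FibCat.inertia F).obj) (e : (E F).toFunctor.obj X ≅ z),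
      (FibCat.fp (FibCat.diag F) (FibCat.diag F)).p.IsHomLift
        (𝟙 ((FibCat.fp (FibCat.diag F) (FibCat.diag F)).p.obj z)) e.hom := by
  obtain ⟨⟨x, x', θ⟩, hprop⟩ := z
  change 𝒳.obj at x x'
  change (FibCat.diag F).obj x ≅ (FibCat.diag F).obj x' at θ
  let a : x ⟶ x' := θ.hom.hom.fst
  let b : x ⟶ x' := θ.hom.hom.snd
  have hab : F.map a = F.map b := homP_eq F θ.hom
  have hθ : θ.hom = homP F a b hab := hom_eq_homP F θ.hom
  have haiso : IsIso a := Functor.map_isIso (FibCat.fpFst F F).toFunctor θ.hom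
  have hbiso : IsIso b := Functor.map_isIso (FibCat.fpSnd F F).toFunctor θ.hom
  let α : x ≅ x := asIso a ≪≫ (asIso b).symm
  have hα' : α.hom = a ≫ inv b := rfl
  have hα : F.map α.hom = 𝟙 (F.obj x) := by
    have e1 : F.map (a ≫ inv b) = F.map a ≫ F.map (inv b) := F.toFunctor.map_comp _ _
    have e2 : F.map (inv b) = inv (F.map b) := F.toFunctor.map_inv b
    rw [hα', e1, e2, hab, IsIso.hom_inv_id]
  let X : FibCat.InertiaObj F := ⟨x, α, hα⟩
  have w₁ : homP F (𝟙 x) (𝟙 x) rfl ≫ θ.hom =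
      homP F α.hom (𝟙 x) (aut_eq F X) ≫ homP F b b rfl := by
    rw [hθ, homP_comp, homP_comp]
    refine homP_congr F _ _ ?_ rfl
    rw [hα', Category.assoc, IsIso.inv_hom_id, Category.comp_id, Category.id_comp]
  let binv : x' ⟶ x := inv b
  have c2 : b ≫ binv = 𝟙 x := IsIso.hom_inv_id b
  have c3 : binv ≫ b = 𝟙 x' := IsIso.inv_hom_id b
  have w₂ : homP F (𝟙 x) (𝟙 x) rfl ≫ homP F α.hom (𝟙 x) (aut_eq F X) =
      θ.hom ≫ homP F binv binv rfl := by
    rw [hθ, homP_comp, homP_comp]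
    refine homP_congr F _ _ ?_ ?_
    · rw [hα', Category.id_comp]
    · rw [Category.id_comp, c2]
  let z : (FibCat.fp (FibCat.diag F) (FibCat.diag F)).obj := ⟨⟨x, x', θ⟩, hprop⟩
  let e₁ : Eobj F X ⟶ z :=
    mkHom (FibCat.diag F) (FibCat.diag F) (z' := Eobj F X) (z := z) (𝟙 x) b w₁
  let e₂ : z ⟶ Eobj F X :=
    mkHom (FibCat.diag F) (FibCat.diag F) (z' := z) (z := Eobj F X) (𝟙 x) binv w₂
  have c1 : (𝟙 x) ≫ (𝟙 x) = 𝟙 x := Category.id_comp _
  refine ⟨X, ⟨e₁, e₂, ?_, ?_⟩, ?_⟩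
  · exact fp_hom_ext (FibCat.diag F) (FibCat.diag F) c1 c2
  · exact fp_hom_ext (FibCat.diag F) (FibCat.diag F) c1 c3
  · refine (fp_isHomLift_iff (FibCat.diag F) (FibCat.diag F) _ _).mpr ?_
    exact inferInstanceAs (𝒳.p.IsHomLift (𝟙 (𝒳.p.obj x)) (𝟙 x))

end

/-- For a functor `F : 𝒳 ⟶ 𝒴` of fibred categories over `C` preserving strongly cartesian morphisms, the
relative inertia `I_{𝒳/𝒴}` (pairs `(x, α)` with `α` an automorphism of `x` sent to the identity by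
`F`) is equivalent over `C` to `𝒳 ×_{Δ, 𝒳 ×_𝒴 𝒳, Δ} 𝒳`, by a functor over `C` whose composite with
either projection is the forgetful functor `(x, α) ↦ x`. (Only the two projections of the
equivalence are pinned here; its 2-cell component at `(x, α)` is `(α, 𝟙)`.) -/
theorem result {C : Type u} [Category.{v} C] {𝒳 𝒴 : BasedCategory.{v, max u v} C} [𝒳.p.IsFibered] [𝒴.p.IsFibered] (F : 𝒳 ⥤ᵇ 𝒴) (hF : FibCat.PreservesStronglyCartesian F) :
    ∃ E : FibCat.inertia F ⥤ᵇ FibCat.fp (FibCat.diag F) (FibCat.diag F),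
      FibCat.IsEquivOver E ∧ BasedFunctor.comp E (FibCat.fpFst _ _) = FibCat.inertiaToBase F ∧
        BasedFunctor.comp E (FibCat.fpSnd _ _) = FibCat.inertiaToBase F := by
  refine ⟨E F, ?_, rfl, rfl⟩
  rw [Groth.Agent.S5139.result]
  exact ⟨⟨E_full F, E_faithful F⟩, E_essSurj F⟩

end Groth.Agent.S6402
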