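import Groth.Statements.S12817
-- import your own Groth.Agent.* helpers here

set_option autoImplicit false
universe u
open CategoryTheory AlgebraicGeometry
open AlgSt

namespace Groth.Agent.S12817

open CategoryTheory.Limits in
theorem exists_field_point {S : Scheme.{u}} {A B X : Over S}
    (KA : Type u) [Field KA] (strA : Spec (CommRingCat.of KA) ⟶ S) (hA : A = Over.mk strA)
    (KB : Type u) [Field KB] (strB : Spec (CommRingCat.of KB) ⟶ S) (hB : B = Over.mk strB)
    (KX : Type u) [Field KX] (strX : Spec (CommRingCat.of KX) ⟶ S) (hX : X = Over.mk strX)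
    (β : A ⟶ X) (α : B ⟶ X) :
    ∃ (M : Type u) (_ : Field M) (str : Spec (CommRingCat.of M) ⟶ S)
      (g₁ : Over.mk str ⟶ A) (g₂ : Over.mk str ⟶ B), g₁ ≫ β = g₂ ≫ α := by
  subst hA hB hX
  obtain ⟨f₁, hf₁⟩ : ∃ f₁ : Spec (CommRingCat.of KA) ⟶ Spec (CommRingCat.of KX), f₁ = β.left :=
    ⟨_, rfl⟩
  obtain ⟨f₂, hf₂⟩ : ∃ f₂ : Spec (CommRingCat.of KB) ⟶ Spec (CommRingCat.of KX), f₂ = α.left :=
    ⟨_, rfl⟩
  have w₁ : f₁ ≫ strX = strA := by rw [hf₁]; exact Over.w β
  have w₂ : f₂ ≫ strX = strB := by rw [hf₂]; exact Over.w α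
  have hxy : f₁.base (default : Spec (CommRingCat.of KA)) =
      f₂.base (default : Spec (CommRingCat.of KB)) :=
    (inferInstance : Subsingleton (Spec (CommRingCat.of KX))).elim _ _
  obtain ⟨z, -, -⟩ := Scheme.Pullback.exists_preimage_pullback (f := f₁) (g := f₂) _ _ hxy
  refine ⟨IsLocalRing.ResidueField ((pullback f₁ f₂).presheaf.stalk z), inferInstance,
    (pullback f₁ f₂).fromSpecResidueField z ≫ pullback.fst f₁ f₂ ≫ strA,
    Over.homMk ((pullback f₁ f₂).fromSpecResidueField z ≫ pullback.fst f₁ f₂) (by simp),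
    Over.homMk ((pullback f₁ f₂).fromSpecResidueField z ≫ pullback.snd f₁ f₂) ?_, ?_⟩
  · simp only [Over.mk_hom, Category.assoc]
    rw [← w₂, ← w₁, pullback.condition_assoc]
  · ext
    simp only [Over.comp_left, Over.homMk_left, Category.assoc]
    rw [← hf₁, ← hf₂, pullback.condition]

/-- For a category fibred in groupoids over the category of schemes over `S`, the relation on
field-valued points under which `Spec K ⟶ 𝒳` and `Spec L ⟶ 𝒳` are related when some `Spec M ⟶ 𝒳`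
maps to both is an equivalence relation, so that the points of `𝒳` are its equivalence classes. (The
published statement is for an algebraic stack; this row takes any category fibred in groupoids over
the base.) -/
theorem result {S : Scheme.{u}} (𝒳 : AlgSt.Cat S) (h𝒳 : FibCat.IsFibGrpd 𝒳.p) :
    _root_.Equivalence (@AlgSt.FPt.Rel S 𝒳) := by
  refine ⟨fun p => ⟨p, 𝟙 _, 𝟙 _, trivial⟩, ?_, ?_⟩
  · rintro p q ⟨r, a, b, -⟩
    exact ⟨r, b, a, trivial⟩
  · rintro p q s ⟨r₁, a₁, b₁, -⟩ ⟨r₂, a₂, b₂, -⟩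
    obtain ⟨M, hM, str, g₁, g₂, hg⟩ := exists_field_point r₁.K r₁.str r₁.lies r₂.K r₂.str r₂.lies
      q.K q.str q.lies (𝒳.p.map b₁) (𝒳.p.map a₂)
    obtain ⟨t, φ, hφ⟩ := h𝒳.exists_lift g₁
    have hsc : 𝒳.p.IsStronglyCartesian (𝒳.p.map a₂) a₂ := h𝒳.isStronglyCartesian a₂
    have hl : 𝒳.p.IsHomLift (g₂ ≫ 𝒳.p.map a₂) (φ ≫ b₁) := by
      rw [← hg]; infer_instance
    have ht : 𝒳.p.obj t = Over.mk str := IsHomLift.domain_eq 𝒳.p g₁ φ
    exact ⟨{ K := M, field := hM, str := str, obj := t, lies := ht }, φ ≫ a₁,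
      Functor.IsStronglyCartesian.map 𝒳.p (𝒳.p.map a₂) a₂ (f' := g₂ ≫ 𝒳.p.map a₂) rfl (φ ≫ b₁)
        ≫ b₂, trivial⟩

end Groth.Agent.S12817
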