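import Groth.Statements.S12818
import Groth.Agent.S12817
import Groth.Agent.H32.FibProd

set_option autoImplicit false
universe u
open CategoryTheory AlgebraicGeometry
open AlgSt

namespace Groth.Agent.S12818

theorem lift_comp_eqToHom {C : Type*} [Category C] {𝒜 : Type*} [Category 𝒜] (p : 𝒜 ⥤ C)
    {R T T' : C} (h : T = T') {a b : 𝒜} (f : R ⟶ T) (φ : a ⟶ b) [hl : p.IsHomLift f φ] :
    p.IsHomLift (f ≫ eqToHom h) φ := by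
  subst h
  simpa using hl

/-- pull back an object of a category fibred in groupoids to compare it with a given lift -/
theorem exists_pullback_iso {S : Scheme.{u}} {𝒵 𝒴 : AlgSt.Cat S} (hZ : FibCat.IsFibGrpd 𝒵.p)
    (hY : FibCat.IsFibGrpd 𝒴.p) (g : 𝒵 ⥤ᵇ 𝒴) (a : 𝒵.obj) (r : 𝒴.obj) (α : r ⟶ g.obj a) :
    ∃ (a' : 𝒵.obj) (φ : a' ⟶ a) (χ : r ⟶ g.obj a'), 𝒵.p.obj a' = 𝒴.p.obj r ∧
      𝒴.p.IsHomLift (𝟙 (𝒴.p.obj r)) χ ∧ IsIso χ ∧ χ ≫ g.map φ = α := by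
  obtain ⟨a', φ, hφ⟩ := hZ.exists_lift (𝒴.p.map α ≫ eqToHom (g.w_obj a))
  have h1 : 𝒴.p.IsHomLift (𝒴.p.map α ≫ eqToHom (g.w_obj a)) (g.map φ) :=
    BasedFunctor.preserves_isHomLift g _ φ
  have hsc : 𝒴.p.IsStronglyCartesian (𝒴.p.map α ≫ eqToHom (g.w_obj a)) (g.map φ) :=
    Groth.Agent.H32.FibProd.sc_of_isFibGrpd 𝒴.p hY _ _
  have h2 : 𝒴.p.IsHomLift (𝒴.p.map α ≫ eqToHom (g.w_obj a)) α :=
    lift_comp_eqToHom 𝒴.p (g.w_obj a) (𝒴.p.map α) α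
  have hχl : 𝒴.p.IsHomLift (𝟙 (𝒴.p.obj r))
      (Functor.IsStronglyCartesian.map 𝒴.p (𝒴.p.map α ≫ eqToHom (g.w_obj a)) (g.map φ)
        (f' := 𝒴.p.map α ≫ eqToHom (g.w_obj a)) (g := 𝟙 _) (Category.id_comp _).symm α) :=
    inferInstance
  refine ⟨a', φ, Functor.IsStronglyCartesian.map 𝒴.p (𝒴.p.map α ≫ eqToHom (g.w_obj a)) (g.map φ)
        (f' := 𝒴.p.map α ≫ eqToHom (g.w_obj a)) (g := 𝟙 _) (Category.id_comp _).symm α,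
    IsHomLift.domain_eq 𝒵.p (𝒴.p.map α ≫ eqToHom (g.w_obj a)) φ, hχl, ?_, ?_⟩
  · exact Groth.Agent.H32.FibProd.isIso_of_isFibGrpd 𝒴.p hY (𝟙 (𝒴.p.obj r)) _
  · exact Functor.IsStronglyCartesian.fac 𝒴.p _ (g.map φ) (Category.id_comp _).symm α

/-- For morphisms `f : 𝒳 ⟶ 𝒴` and `g : 𝒵 ⟶ 𝒴` of algebraic stacks over `S`, the map `|𝒵 ×_𝒴 𝒳| → |𝒵|
×_{|𝒴|} |𝒳|` is surjective: a point of `𝒵` and a point of `𝒳` with the same image in `|𝒴|` are the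
two projections of some point of the 2-fibre product. -/
theorem result {S : Scheme.{u}} {𝒳 𝒴 𝒵 : AlgSt.Cat S}
    (h𝒳 : AlgSt.IsAlgStack Scheme.fppfPrecoverage 𝒳) (h𝒴 : AlgSt.IsAlgStack Scheme.fppfPrecoverage 𝒴)
    (h𝒵 : AlgSt.IsAlgStack Scheme.fppfPrecoverage 𝒵) (f : 𝒳 ⥤ᵇ 𝒴) (g : 𝒵 ⥤ᵇ 𝒴)
    (z : AlgSt.Points 𝒵) (x : AlgSt.Points 𝒳) (h : AlgSt.Points.map g z = AlgSt.Points.map f x) :
    ∃ w : AlgSt.Points (FibCat.fp g f),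
      AlgSt.Points.map (FibCat.fpFst g f) w = z ∧ AlgSt.Points.map (FibCat.fpSnd g f) w = x := by
  have hX : FibCat.IsFibGrpd 𝒳.p := h𝒳.isStack.1
  have hY : FibCat.IsFibGrpd 𝒴.p := h𝒴.isStack.1
  have hZ : FibCat.IsFibGrpd 𝒵.p := h𝒵.isStack.1
  obtain ⟨p, rfl⟩ := AlgSt.Points.mk_surjective z
  obtain ⟨q, rfl⟩ := AlgSt.Points.mk_surjective x
  have hrel : AlgSt.FPt.Rel (p.map g) (q.map f) :=
    (Groth.Agent.S12817.result 𝒴 hY).eqvGen_iff.mp (Quot.eqvGen_exact h)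
  obtain ⟨r, α, β, -⟩ := hrel
  obtain ⟨p', φ, χ₁, hp', hχ₁, hχ₁iso, hχ₁e⟩ := exists_pullback_iso hZ hY g p.obj r.obj α
  obtain ⟨q', ψ, χ₂, hq', hχ₂, hχ₂iso, hχ₂e⟩ := exists_pullback_iso hX hY f q.obj r.obj β
  have hinv : 𝒴.p.IsHomLift (𝟙 (𝒴.p.obj r.obj)) (inv χ₁) := inferInstance
  have hθ0 : 𝒴.p.IsHomLift (𝟙 (𝒴.p.obj r.obj)) (inv χ₁ ≫ χ₂) := by
    have := IsHomLift.comp (p := 𝒴.p) (𝟙 (𝒴.p.obj r.obj)) (𝟙 (𝒴.p.obj r.obj)) (inv χ₁) χ₂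
    simpa using this
  have hθ : 𝒴.p.IsHomLift (𝟙 (𝒵.p.obj p')) ((asIso χ₁).symm ≪≫ asIso χ₂).hom :=
    Groth.Agent.H32.FibProd.isHomLift_id_of_eq 𝒴.p hp'.symm _ hθ0
  let w₀ : (FibCat.fp g f).obj :=
    Groth.Agent.H32.FibProd.mkObj g f p' q' ((asIso χ₁).symm ≪≫ asIso χ₂) hθ
  let W : AlgSt.FPt (FibCat.fp g f) :=
    { K := r.K, field := r.field, str := r.str, obj := w₀, lies := hp'.trans r.lies }
  refine ⟨AlgSt.Points.mk W, ?_, ?_⟩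
  · rw [AlgSt.Points.map_mk]
    apply AlgSt.Points.sound
    exact ⟨W.map (FibCat.fpFst g f), 𝟙 _, φ, trivial⟩
  · rw [AlgSt.Points.map_mk]
    apply AlgSt.Points.sound
    exact ⟨W.map (FibCat.fpSnd g f), 𝟙 _, ψ, trivial⟩

end Groth.Agent.S12818
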