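import Groth.Statements.S15493
import Groth.Agent.S12774
import Groth.Agent.H32.Repr

set_option autoImplicit false
universe u
open CategoryTheory AlgebraicGeometry
open IsoNat

namespace Groth.Agent.S15493

open FibCat Groth.Agent.H32.FibProd

theorem mono_of_repWith_openImm {S : Scheme.{u}} {F G : AlgSp.Sp S} (g : F ⟶ G)
    (hg : AlgSp.RepWith @IsOpenImmersion g) : Mono g := by
  have key : ∀ {T : Over S} (a b : (AlgSp.yon S).obj T ⟶ F), a ≫ g = b ≫ g → a = b := by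
    intro T a b h
    have hmono : Mono (hg.rep.snd (a ≫ g)) := by
      have h1 : IsOpenImmersion (hg.rep.snd (a ≫ g)).left := hg.property_snd (a ≫ g)
      have h2 : Mono ((Over.forget S).map (hg.rep.snd (a ≫ g))) :=
        inferInstanceAs (Mono (hg.rep.snd (a ≫ g)).left)
      exact (Over.forget S).mono_of_mono_map h2
    have : hg.rep.lift (g := a ≫ g) a (𝟙 T) (by simp) = hg.rep.lift b (𝟙 T) (by simp [← h]) := by
      simp only [← cancel_mono (hg.rep.snd (a ≫ g)), Functor.relativelyRepresentable.lift_snd]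
    simpa using (AlgSp.yon S).congr_map this =≫ (hg.rep.fst (a ≫ g))
  constructor
  intro W a b h
  apply Sheaf.hom_ext
  apply hom_ext_uliftYoneda.{u+1}
  intro T p
  have := key (T := T) (ObjectProperty.homMk p ≫ a) (ObjectProperty.homMk p ≫ b)
    (by simp only [Category.assoc, h])
  exact congrArg (fun t => t.hom) this

/-- The presheaf of isomorphism classes commutes with fibre products along an open immersion. Let f : 𝒳
→ 𝒴 be a morphism of algebraic stacks over a quasi-separated scheme S and i : 𝒴' → 𝒴 an open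
immersion of algebraic stacks (representable by open immersions of algebraic spaces). If two objects
of the 2-fibre product 𝒳 ×_𝒴 𝒴' over a scheme T have isomorphic images in 𝒳 over T and isomorphic
images in 𝒴' over T, then they are isomorphic over T. (Together with the evident surjectivity this
says that the natural map from the presheaf of isomorphism classes of 𝒳 ×_𝒴 𝒴' to the fibre product
of the presheaves of 𝒳 and 𝒴' over that of 𝒴 is an isomorphism; the published statement is for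
arbitrary stacks, this row takes them algebraic.) -/
theorem result
    (S : Scheme.{u}) [QuasiSeparatedSpace S]
    (𝒳 𝒴 𝒴' : AlgSt.Cat S)
    (h𝒳 : AlgSt.IsAlgStack Scheme.fppfPrecoverage 𝒳) (h𝒴 : AlgSt.IsAlgStack Scheme.fppfPrecoverage 𝒴)
    (h𝒴' : AlgSt.IsAlgStack Scheme.fppfPrecoverage 𝒴')
    (f : 𝒳 ⥤ᵇ 𝒴) (i : 𝒴' ⥤ᵇ 𝒴) (hi : AlgSt.IsOpenImm i)
    (T : Over S) (z₁ z₂ : (FibCat.fp f i).p.Fiber T)
    (h₁ : IsoNat.mapCls (FibCat.fpFst f i) T (IsoNat.cls z₁) = IsoNat.mapCls (FibCat.fpFst f i) T (IsoNat.cls z₂))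
    (h₂ : IsoNat.mapCls (FibCat.fpSnd f i) T (IsoNat.cls z₁) = IsoNat.mapCls (FibCat.fpSnd f i) T (IsoNat.cls z₂)) :
    IsoNat.cls z₁ = IsoNat.cls z₂ := by
  have hmono : AlgSt.IsMono i := by
    intro U y
    obtain ⟨F, e, he, hP⟩ := hi U y
    exact ⟨F, e, he, mono_of_repWith_openImm _ hP⟩
  obtain ⟨hfull, hfaith⟩ := Groth.Agent.S12774.result h𝒴'.isStack.1 h𝒴.isStack.1 i hmono
  have hfp : IsFibGrpd (FibCat.fp f i).p :=
    Groth.Agent.H32.Repr.fp_isFibGrpd f i h𝒳.isStack.1 h𝒴'.isStack.1 h𝒴.isStack.1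
  have h1' : IsIsomorphic ((IsoNat.fibFun (FibCat.fpFst f i) T).obj z₁)
      ((IsoNat.fibFun (FibCat.fpFst f i) T).obj z₂) := Quotient.exact h₁
  obtain ⟨a⟩ := h1'
  let a₀ : z₁.1.obj.fst ⟶ z₂.1.obj.fst := a.hom.1
  have ha₀ : 𝒳.p.IsHomLift (𝟙 T) a₀ := a.hom.2
  obtain ⟨b', hb'⟩ := hfull.map_surjective
    (z₁.1.obj.iso.inv ≫ f.map a₀ ≫ z₂.1.obj.iso.hom)
  have w : f.map a₀ ≫ z₂.1.obj.iso.hom = z₁.1.obj.iso.hom ≫ i.map b' := by
    have hb'' : i.map b' = z₁.1.obj.iso.inv ≫ f.map a₀ ≫ z₂.1.obj.iso.hom := hb'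
    rw [hb'', Iso.hom_inv_id_assoc]
  have hm : (FibCat.fp f i).p.IsHomLift (𝟙 T) (mkHom f i a₀ b' w) :=
    (fp_isHomLift_iff f i (𝟙 T) (mkHom f i a₀ b' w)).mpr ha₀
  haveI : IsIso (mkHom f i a₀ b' w) := isIso_of_isFibGrpd (FibCat.fp f i).p hfp (𝟙 T) _
  have hinv : (FibCat.fp f i).p.IsHomLift (𝟙 T) (inv (mkHom f i a₀ b' w)) := inferInstance
  refine Quotient.sound ⟨⟨⟨mkHom f i a₀ b' w, hm⟩, ⟨inv (mkHom f i a₀ b' w), hinv⟩, ?_, ?_⟩⟩
  · apply Functor.Fiber.hom_ext
    change mkHom f i a₀ b' w ≫ inv (mkHom f i a₀ b' w) = 𝟙 _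
    simp
  · apply Functor.Fiber.hom_ext
    change inv (mkHom f i a₀ b' w) ≫ mkHom f i a₀ b' w = 𝟙 _
    simp

end Groth.Agent.S15493
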