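import Groth.Statements.S12780
import Groth.Agent.H32.SpComp

set_option autoImplicit false
open CategoryTheory AlgebraicGeometry
universe u
open AlgSt

namespace Groth.Agent.S12780

/-- Let `𝒳`, `𝒴`, `𝒵` be fibred in groupoids over `(Sch/S)` and `P` a property of morphisms of algebraic
spaces which is stable under base change, fppf local on the base and stable under composition. If `f
: 𝒳 ⟶ 𝒴` and `g : 𝒴 ⟶ 𝒵` are representable by algebraic spaces and have `P`, then so does `g ∘ f`.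
(Stability under base change is asked for every pullback square of fppf sheaves whose four corners
are algebraic spaces, and stability under composition for composable morphisms between algebraic
spaces.) -/
theorem result {S : Scheme.{u}} {𝒳 𝒴 𝒵 : AlgSt.Cat S}
    (h𝒳 : FibCat.IsFibGrpd 𝒳.p) (h𝒴 : FibCat.IsFibGrpd 𝒴.p) (h𝒵 : FibCat.IsFibGrpd 𝒵.p)
    (P : MorphismProperty (AlgSp.Sp S))
    (hPb : ∀ ⦃X₁ Y₁ X₂ Y₂ : AlgSp.Sp S⦄, AlgSp.IsAlgSpace X₁ → AlgSp.IsAlgSpace Y₁ → AlgSp.IsAlgSpace X₂ →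
      AlgSp.IsAlgSpace Y₂ → ∀ (a : X₁ ⟶ Y₁) (b : Y₂ ⟶ Y₁) (a' : X₂ ⟶ Y₂) (b' : X₂ ⟶ X₁),
      IsPullback b' a' a b → P a → P a')
    (hPc : ∀ ⦃X Y Z : AlgSp.Sp S⦄, AlgSp.IsAlgSpace X → AlgSp.IsAlgSpace Y → AlgSp.IsAlgSpace Z →
      ∀ (a : X ⟶ Y) (b : Y ⟶ Z), P a → P b → P (a ≫ b))
    (hP : AlgSp.IsLocalOnBase AlgSp.IsFppfCover P)
    (f : 𝒳 ⥤ᵇ 𝒴) (g : 𝒴 ⥤ᵇ 𝒵) (hf : AlgSt.RepByAlgSpWith P f) (hg : AlgSt.RepByAlgSpWith P g) :
    AlgSt.RepByAlgSpWith P (BasedFunctor.comp f g) := by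
  open FibCat Stk Groth.Agent.H32.FibProd Groth.Agent.H32.Fp2 Groth.Agent.H32.Fp3
    Groth.Agent.H32.Fp4 Groth.Agent.H32.PshFp Groth.Agent.H32.PshStack Groth.Agent.H32.SpBridge
    Groth.Agent.H32.SpTrack Groth.Agent.H32.SpComp in
  intro U z
  obtain ⟨G, eG, heG, hPG⟩ := hg U z
  have hf1 : AlgSt.RepByAlgSp1 f := fun U y => by
    obtain ⟨F, e, he, -⟩ := hf U y
    exact ⟨F, e, he⟩
  obtain ⟨F, eF, heF⟩ := Groth.Agent.H32.SpBoot.repByAlgSp_fp_ofSp h𝒳 h𝒴 G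
    (BasedFunctor.comp eG (fpSnd z g)) f hf1
  have hPb' := P_baseChange P hP f hf G F (BasedFunctor.comp eG (fpSnd z g)) eF heF
  refine ⟨F, BasedFunctor.comp eF (BasedFunctor.comp (pasteMid eG (fpSnd z g) f) (assoc z g f)),
    isEquivOver_comp _ _ heF (isEquivOver_comp _ _ (pasteMid_isEquivOver eG (fpSnd z g) f heG)
      (assoc_isEquivOver z g f)), ?_⟩
  have key : AlgSt.spMapOfOver (BasedFunctor.comp (BasedFunctor.comp eF
      (BasedFunctor.comp (pasteMid eG (fpSnd z g) f) (assoc z g f)))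
        (fpFst z (BasedFunctor.comp f g))) =
      (ObjectProperty.homMk (pshMapOf (BasedFunctor.comp eF
        (fpFst (BasedFunctor.comp eG (fpSnd z g)) f))) : F.obj ⟶ G.obj) ≫
        AlgSt.spMapOfOver (BasedFunctor.comp eG (fpFst z g)) := by
    apply ObjectProperty.hom_ext
    rw [spMapOfOver_hom]
    change _ = pshMapOf (BasedFunctor.comp eF (fpFst (BasedFunctor.comp eG (fpSnd z g)) f)) ≫
      (AlgSt.spMapOfOver (BasedFunctor.comp eG (fpFst z g))).hom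
    rw [spMapOfOver_hom, ← pshMapOf_comp]
    rfl
  rw [key]
  exact hPc F.property G.property (AlgSp.IsAlgSpace.yon_obj U) _ _ hPb' hPG

end Groth.Agent.S12780
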