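import Groth.Statements.S9962
import Groth.Agent.H52.LocPBC
import Groth.Agent.H52.EtLocalInst
import Groth.Agent.H52.Univ
import Groth.Agent.H52.Topology

set_option autoImplicit false
universe u
open CategoryTheory CategoryTheory.Limits AlgebraicGeometry
open AlgSp

namespace Groth.Agent.S9962

open Groth.Agent.H52

/-- A flat morphism locally of finite presentation between algebraic spaces is universally open. -/
theorem result {S : Scheme.{u}} {X Y : AlgSp.Space S} (f : X ⟶ Y)
    (hfl : AlgSp.LocP @Flat f.hom) (hfp : AlgSp.LocP @LocallyOfFinitePresentation f.hom) :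
    AlgSp.IsUnivOpenMor f.hom := by
  apply isUnivOpenMor_of_affine
  intro Z hZ g P fst snd sq
  have hP : AlgSp.IsAlgSpace P :=
    isAlgSpace_of_isPullback sq Y.property.diag X.property (AlgSp.IsAlgSpace.yon_obj Z)
  have hfl' : AlgSp.LocP @Flat snd :=
    locP_baseChange etLocal_flat X.property Y.property (AlgSp.IsAlgSpace.yon_obj Z) sq hfl
  have hfp' : AlgSp.LocP @LocallyOfFinitePresentation snd :=
    locP_baseChange etLocal_lfp X.property Y.property (AlgSp.IsAlgSpace.yon_obj Z) sq hfp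
  obtain ⟨W, r, hr1, hr2⟩ := hP.atlas
  obtain ⟨h, hh⟩ : ∃ h : W ⟶ Z, (AlgSp.yon S).map h = r ≫ snd :=
    ⟨(AlgSp.yon S).preimage _, (AlgSp.yon S).map_preimage _⟩
  have hcomm : r ≫ snd = (AlgSp.yon S).map h ≫ 𝟙 _ := by rw [Category.comp_id, hh]
  have h1 : Flat h.left := hfl' r (𝟙 _) h hr1 (AlgSp.repWith_id _ Z) hcomm
  have h2 : LocallyOfFinitePresentation h.left := hfp' r (𝟙 _) h hr1 (AlgSp.repWith_id _ Z) hcomm
  have hopen : IsOpenMap (AlgSp.Points.ofPt (r ≫ snd)) := by
    have e : AlgSp.Points.ofPt (r ≫ snd) = AlgSp.Points.schemeHomeo Z ∘ (fun w => h.left w) := by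
      funext w
      rw [← hh, ← Category.comp_id ((AlgSp.yon S).map h), ofPt_yon_map_comp]
      rfl
    rw [e]
    exact (AlgSp.Points.schemeHomeo Z).isOpenMap.comp h.left.isOpenMap
  have hsurj := surjective_ofPt_of_surjective r hr2
  intro A hA
  have e : AlgSp.Points.map snd '' A =
      AlgSp.Points.ofPt (r ≫ snd) '' (AlgSp.Points.ofPt r ⁻¹' A) := by
    ext y
    constructor
    · rintro ⟨x, hx, rfl⟩
      obtain ⟨w, rfl⟩ := hsurj x
      exact ⟨w, hx, rfl⟩
    · rintro ⟨w, hw, rfl⟩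
      exact ⟨AlgSp.Points.ofPt r w, hw, rfl⟩
  rw [e]
  exact hopen _ (hA.preimage (AlgSp.Points.continuous_ofPt r))

end Groth.Agent.S9962
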