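import Groth.Statements.S10505
import Groth.Agent.H51.FppfCov

set_option autoImplicit false
universe u
open CategoryTheory CategoryTheory.Limits AlgebraicGeometry
open AlgSp

namespace Groth.Agent.S10505

/-- An fppf covering of an algebraic space `X` over `S` by algebraic spaces (each member flat and
locally of finite presentation etale locally on source and target, the family jointly surjective on
points) is an fpqc covering of `X` (each member flat, and every morphism from an affine scheme to
`X` admits a standard fpqc covering of the affine scheme whose members lift through members of the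
family). -/
theorem result {S : Scheme.{u}} (X : AlgSp.Space S) {ι : Type u}
    (Xi : ι → AlgSp.Space S) (g : ∀ i, Xi i ⟶ X)
    (h : AlgSp.IsFppfCover (fun i => (Xi i).obj) (fun i => (g i).hom)) :
    AlgSp.IsFpqcCover (fun i => (Xi i).obj) (fun i => (g i).hom) := by
  refine ⟨fun i => (h.1 i).1, fun Z hZ h₀ => ?_⟩
  obtain ⟨V, c, l, hfl, hfp, hsurj, hl⟩ := Groth.Agent.H51.exists_fppf_lifts X Xi g h Z h₀
  have hopen : ∀ i, IsOpenMap (c i).left := fun i => by
    have := hfl i
    have := hfp i
    exact (c i).left.isOpenMap
  obtain ⟨t, i, A, hA⟩ := Groth.Agent.H51.exists_finite_affine_cover_of_isOpenMap_family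
    (fun i => (V i).left) (fun i => (c i).left) hopen hsurj
  let W : t → Over S := fun k => Over.mk ((A k : (V (i k)).left.Opens).ι ≫ (V (i k)).hom)
  let ιk : ∀ k, W k ⟶ V (i k) := fun k => Over.homMk (A k : (V (i k)).left.Opens).ι rfl
  refine Groth.Agent.H51.exists_fin_of_finite (α := t) _ _ h₀ W (fun k => ιk k ≫ c (i k))
    (fun k => (A k).2) (fun k => ?_) (fun z => ?_) (fun k => ?_)
  · rw [Over.comp_left]
    have h1 : Flat (ιk k).left := by
      change Flat (A k : (V (i k)).left.Opens).ι
      infer_instance
    exact MorphismProperty.comp_mem _ _ _ h1 (hfl _)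
  · obtain ⟨k, x, hx, rfl⟩ := hA z
    refine ⟨k, ⟨x, hx⟩, ?_⟩
    rw [Over.comp_left]
    rfl
  · refine ⟨i k, (AlgSp.yon S).map (ιk k) ≫ l (i k), ?_⟩
    rw [Category.assoc, hl, Functor.map_comp, Category.assoc]

end Groth.Agent.S10505
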