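import Groth.Statements.S12993
import Groth.Agent.H65.LocQ

set_option autoImplicit false
universe u
open CategoryTheory AlgebraicGeometry
open AlgSt

namespace Groth.Agent.S12993

open CategoryTheory.Limits FibCat Stk Groth.Agent.H32.FibProd Groth.Agent.H32.Fp2
  Groth.Agent.H32.Fp3 Groth.Agent.H32.Fp4 Groth.Agent.H32.SpBridge Groth.Agent.H32.PFacts
  Groth.Agent.H32.AlgStackEquiv Groth.Agent.H32.AtlasRep Groth.Agent.H32.SpComp
  Groth.Agent.H32.StackOps Groth.Agent.H32.SectSt Groth.Agent.H32.Repr Groth.Agent.H32.SpTrack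
  Groth.Agent.H32.PshFp Groth.Agent.H32.Sect Groth.Agent.H32.DiagDescent
  Groth.Agent.H65.QC Groth.Agent.H65.SpMaps Groth.Agent.H65.LocQ


/-- Let P be smooth local on the source-and-target, stable under base change and fppf local on the base,
and let f be a morphism of algebraic stacks that is representable by algebraic spaces. Then f has P
read on one square of smooth scheme charts if and only if every base change of f to a scheme is a
morphism of algebraic spaces with P. -/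
theorem result
    (S : Scheme.{u}) (P : MorphismProperty (AlgSp.Sp S)) (hP : AlgSp.IsSmoothLocalST P)
    (hP₁ : ∀ ⦃X₁ Y₁ X₂ Y₂ : AlgSp.Sp S⦄, AlgSp.IsAlgSpace X₁ → AlgSp.IsAlgSpace Y₁ → AlgSp.IsAlgSpace X₂ →
      AlgSp.IsAlgSpace Y₂ → ∀ (a : X₁ ⟶ Y₁) (b : Y₂ ⟶ Y₁) (a' : X₂ ⟶ Y₂) (b' : X₂ ⟶ X₁),
      IsPullback b' a' a b → P a → P a')
    (hP₂ : AlgSp.IsLocalOnBase AlgSp.IsFppfCover P)
    (𝒳 : AlgSt.Cat S) (𝒴 : AlgSt.Cat S)
    (h𝒳 : AlgSt.IsAlgStack Scheme.fppfPrecoverage 𝒳)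
    (h𝒴 : AlgSt.IsAlgStack Scheme.fppfPrecoverage 𝒴)
    (f : 𝒳 ⥤ᵇ 𝒴) (hf : AlgSt.RepByAlgSp1 f) :
    AlgSt.LocQ P f ↔ AlgSt.RepByAlgSpWith P f := by
  have iX := h𝒳.isStack.1
  have iY := h𝒴.isStack.1
  have i1 := locP_respectsIso (S := S) @Smooth
  have i2 := isSurjectiveMor_respectsIso (S := S)
  obtain ⟨V, y, hy1, hy2⟩ := h𝒴.atlas
  have iV := Groth.Agent.S6411.over_isFibGrpd V
  have iV' : IsFibGrpd (AlgSt.ofSp ((AlgSp.yon S).obj V)).p := ofSp_isFibGrpd _
  have iP : IsFibGrpd (fp f y).p := fp_isFibGrpd _ _ iX iV iY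
  have iP' : IsFibGrpd (fp y f).p := fp_isFibGrpd _ _ iV iX iY
  constructor
  · intro hLoc
    obtain ⟨F, e, he⟩ := hf V y
    have hφ : P (AlgSt.spMapOfOver (BasedFunctor.comp e (fpFst y f))) :=
      prop_of_locQ_rep hP iX iY f hLoc y hy1 F e he
    have h3 : AlgSt.RepByAlgSpWith P
        (Stk.ofPshMap (AlgSt.spMapOfOver (BasedFunctor.comp e (fpFst y f))).hom) :=
      with_ofPshMap_of_prop P hP₁ F ⟨(AlgSp.yon S).obj V, AlgSp.IsAlgSpace.yon_obj V⟩ _ hφ
    obtain ⟨γ⟩ := ofPshMap_pshMapOf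
      (BasedFunctor.comp (BasedFunctor.comp e (fpFst y f)) (AlgSt.ofOverCat V))
    rw [← spMapOfOver_hom] at γ
    have h4 : AlgSt.RepByAlgSpWith P (fpFst y f) :=
      (Groth.Agent.S12782.result iP' iV (ofSp_isFibGrpd F.obj) iV' P (fpFst y f)
        (Stk.ofPshMap (AlgSt.spMapOfOver (BasedFunctor.comp e (fpFst y f))).hom) e
        (AlgSt.toOverCat V) he (toOverCat_isEquivOver V)
        (whiskerRightIso γ (AlgSt.toOverCat V))).mpr h3
    exact with_of_fpFst_cover P hP₂ iX iY f hf y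
      (Groth.Agent.H32.DiagApps.with_imp (fun _ _ a ha => Groth.Agent.H32.Cover.locP_mono
        (fun _ _ g hg => by have : Smooth g := hg; infer_instance) a ha) hy1)
      (Groth.Agent.H32.DiagApps.with_imp (fun _ _ a ha => Groth.Agent.H32.Cover.locP_mono
        (fun _ _ g hg => by have : Smooth g := hg; infer_instance) a ha) hy1)
      hy2 h4
  · intro hW
    obtain ⟨F, e, he, hφ⟩ := hW V y
    obtain ⟨U, p, hp1, hp2⟩ := F.property.atlas
    have iU := Groth.Agent.S6411.over_isFibGrpd U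
    have c1 : AlgSt.RepByAlgSpWith (AlgSp.LocP @Smooth) (ofPoint p.hom) :=
      repByAlgSpWith_ofPoint @Etale (AlgSp.LocP @Smooth)
        (fun F' U snd h => locP_smooth_of_repWith_etale snd h) p hp1
    have c2 : AlgSt.RepByAlgSpWith AlgSp.IsSurjectiveMor (ofPoint p.hom) :=
      repByAlgSpWith_ofPoint @Surjective AlgSp.IsSurjectiveMor
        (fun F' U snd h => isSurjectiveMor_of_repWith_to_yon snd h) p hp2
    have hE : IsEquivOver (BasedFunctor.comp e (swap y f)) :=
      isEquivOver_comp _ _ he (swap_isEquivOver y f)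
    obtain ⟨A, hAdef⟩ : ∃ A : FibCat.overCat U ⥤ᵇ fp f y,
        A = BasedFunctor.comp (ofPoint p.hom) (BasedFunctor.comp e (swap y f)) := ⟨_, rfl⟩
    have hA1 : AlgSt.RepByAlgSpWith (AlgSp.LocP @Smooth) A := by
      rw [hAdef]
      exact (with_postcomp_equiv _ iU (ofSp_isFibGrpd F.obj) iP (ofPoint p.hom) _ hE).mpr c1
    have hA2 : AlgSt.RepByAlgSpWith AlgSp.IsSurjectiveMor A := by
      rw [hAdef]
      exact (with_postcomp_equiv _ iU (ofSp_isFibGrpd F.obj) iP (ofPoint p.hom) _ hE).mpr c2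
    obtain ⟨h, ⟨β⟩⟩ := Groth.Agent.H65.OverYoneda.exists_overMap_iso
      (BasedFunctor.comp A (fpSnd f y))
    have e1 : ((AlgSp.yon S).map h).hom =
        p.hom ≫ (AlgSt.spMapOfOver (BasedFunctor.comp e (fpFst y f))).hom := by
      have e2 : pshMapOf (BasedFunctor.comp (Stk.ofPshMap p.hom)
          (BasedFunctor.comp (BasedFunctor.comp e (fpFst y f)) (AlgSt.ofOverCat V))) =
          p.hom ≫ (AlgSt.spMapOfOver (BasedFunctor.comp e (fpFst y f))).hom := by
        rw [pshMapOf_comp, pshMapOf_ofPshMap, spMapOfOver_hom]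
      rw [← e2, yon_map_eq_of_iso _ h β, hAdef]
      rfl
    have e1' : (AlgSp.yon S).map h =
        p ≫ AlgSt.spMapOfOver (BasedFunctor.comp e (fpFst y f)) := by
      apply ObjectProperty.hom_ext
      exact e1
    have hPh : P ((AlgSp.yon S).map h) := by
      rw [e1']
      exact hP.precomp (AlgSp.IsAlgSpace.yon_obj U) F.property (AlgSp.IsAlgSpace.yon_obj V) p _
        (locP_smooth_of_repWith_etale p hp1) hφ
    have p1 : AlgSt.RepByAlgSpWith (AlgSp.LocP @Smooth) (fpFst f y) :=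
      Groth.Agent.S12779.result iV iY iX _ y f hy1
    have p2 : AlgSt.RepByAlgSpWith AlgSp.IsSurjectiveMor (fpFst f y) :=
      Groth.Agent.S12779.result iV iY iX _ y f hy2
    exact ⟨U, V, BasedFunctor.comp A (fpFst f y), y, h,
      whiskerLeftIso A (fpIso f y) ≪≫ whiskerRightIso β y,
      with_comp good_smooth iU iP iX _ _ hA1 p1, with_comp good_surjective iU iP iX _ _ hA2 p2,
      hy1, hPh⟩

end Groth.Agent.S12993
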