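import Groth.Statements.S13038
import Groth.Agent.H65.LocQ

set_option autoImplicit false
universe u
open CategoryTheory AlgebraicGeometry
open AlgSt

namespace Groth.Agent.S13038

open CategoryTheory.Limits FibCat Stk Groth.Agent.H32.FibProd Groth.Agent.H32.Fp2
  Groth.Agent.H32.Fp3 Groth.Agent.H32.Fp4 Groth.Agent.H32.SpBridge Groth.Agent.H32.PFacts
  Groth.Agent.H32.AlgStackEquiv Groth.Agent.H32.AtlasRep Groth.Agent.H32.SpComp
  Groth.Agent.H32.StackOps Groth.Agent.H32.SectSt Groth.Agent.H32.Repr Groth.Agent.H32.SpTrack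
  Groth.Agent.H32.PshFp Groth.Agent.H32.Sect Groth.Agent.H32.DiagDescent
  Groth.Agent.H65.QC Groth.Agent.H65.SpMaps Groth.Agent.H65.LocQ


/-- Suppose P, a property of morphisms between algebraic spaces, is local on source and target for the
smooth topology and is preserved by composition of algebraic spaces. Then the induced property of
morphisms of algebraic stacks, read on one square of smooth charts, is stable under composition. -/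
theorem result
    (S : Scheme.{u}) (P : MorphismProperty (AlgSp.Sp S)) (hP : AlgSp.IsSmoothLocalST P)
    (hPc : ∀ ⦃X₁ Y₁ Z₁ : AlgSp.Sp S⦄, AlgSp.IsAlgSpace X₁ → AlgSp.IsAlgSpace Y₁ → AlgSp.IsAlgSpace Z₁ →
      ∀ (a : X₁ ⟶ Y₁) (b : Y₁ ⟶ Z₁), P a → P b → P (a ≫ b))
    (𝒳 : AlgSt.Cat S) (𝒴 : AlgSt.Cat S) (𝒵 : AlgSt.Cat S)
    (h𝒳 : AlgSt.IsAlgStack Scheme.fppfPrecoverage 𝒳)
    (h𝒴 : AlgSt.IsAlgStack Scheme.fppfPrecoverage 𝒴)
    (h𝒵 : AlgSt.IsAlgStack Scheme.fppfPrecoverage 𝒵)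
    (f : 𝒳 ⥤ᵇ 𝒴) (g : 𝒴 ⥤ᵇ 𝒵) :
    AlgSt.LocQ P f → AlgSt.LocQ P g → AlgSt.LocQ P (BasedFunctor.comp f g) := by
  rintro hf ⟨V₁, W₁, y₁, z₁, k₁, β₁, hy1, hy2, hz1, hk1⟩
  have iX := h𝒳.isStack.1
  have iY := h𝒴.isStack.1
  obtain ⟨U, x, h, α, hx1, hx2, hℓ, -⟩ := exists_square h𝒳 h𝒴 f y₁ hy1 hy2
  obtain ⟨U₀, V₀, x₀, y₀, h₀, α₀, a1, a2, a3, a4⟩ := hf
  have hPh : P ((AlgSp.yon S).map h) :=
    prop_of_squares hP iX iY f x₀ y₀ h₀ α₀ a1 a2 a3 a4 x y₁ h α hy1 hℓ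
  obtain ⟨a, ⟨γ⟩⟩ := Groth.Agent.H65.OverYoneda.exists_overMap_iso
    (BasedFunctor.comp (AlgSt.overMap h) (AlgSt.overMap k₁))
  have ea : (AlgSp.yon S).map a = (AlgSp.yon S).map h ≫ (AlgSp.yon S).map k₁ := by
    apply ObjectProperty.hom_ext
    rw [yon_map_eq_of_iso _ a γ]
    have e2 : pshMapOf (BasedFunctor.comp (Stk.ofPshMap ((AlgSp.yon S).map h).hom)
        (Stk.ofPshMap ((AlgSp.yon S).map k₁).hom)) =
        ((AlgSp.yon S).map h).hom ≫ ((AlgSp.yon S).map k₁).hom := by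
      rw [pshMapOf_comp, pshMapOf_ofPshMap, pshMapOf_ofPshMap]
    exact e2
  refine ⟨U, W₁, x, z₁, a,
    whiskerRightIso α g ≪≫ whiskerLeftIso (AlgSt.overMap h) β₁ ≪≫ whiskerRightIso γ z₁,
    hx1, hx2, hz1, ?_⟩
  rw [ea]
  exact hPc (AlgSp.IsAlgSpace.yon_obj U) (AlgSp.IsAlgSpace.yon_obj V₁)
    (AlgSp.IsAlgSpace.yon_obj W₁) _ _ hPh hk1

end Groth.Agent.S13038
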