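import Groth.Statements.S6160
import Groth.Agent.H45.ToSheafColim
import Mathlib

set_option autoImplicit false
universe u
open CategoryTheory

namespace Groth.Agent.S6160

open CategoryTheory.Limits

section
variable {C : Type u} [SmallCategory C] {J : GrothendieckTopology C}

/-- `toSheaf` preserves all small limits. -/
lemma toSheaf_preservesLimits (R : Sheaf J RingCat.{u}) :
    PreservesLimitsOfSize.{u, u} (SheafOfModules.toSheaf.{u} R) := by
  have : PreservesLimitsOfSize.{u, u}
      (SheafOfModules.toSheaf.{u} R ⋙ sheafToPresheaf J AddCommGrpCat.{u}) :=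
    inferInstanceAs (PreservesLimitsOfSize.{u, u}
      (SheafOfModules.forget.{u} R ⋙ PresheafOfModules.toPresheaf R.obj))
  exact preservesLimits_of_reflects_of_preserves _ (sheafToPresheaf J AddCommGrpCat.{u})

lemma toSheaf_preservesColimits (R : Sheaf J RingCat.{u}) :
    PreservesColimitsOfSize.{u, u} (SheafOfModules.toSheaf.{u} R) :=
  ⟨fun {K} _ => Groth.Agent.H45.toSheaf_preservesColimitsOfShape R K⟩

set_option backward.isDefEq.respectTransparency false in
/-- restriction of scalars does not change the underlying abelian sheaf -/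
noncomputable def compIso {A B : Sheaf J RingCat.{u}} (φ : A ⟶ B) :
    SheafOfModules.restrictScalars.{u} φ ⋙ SheafOfModules.toSheaf.{u} A ≅
      SheafOfModules.toSheaf.{u} B :=
  NatIso.ofComponents (fun M => Iso.refl _) (by
    intro M N f
    rfl)

end

open CategoryTheory.Limits in
theorem result {C : Type u} [SmallCategory C]
    {J : GrothendieckTopology C} {A B : Sheaf J RingCat.{u}} (φ : A ⟶ B) :
    PreservesLimitsOfSize.{u, u} (SheafOfModules.restrictScalars.{u} φ) ∧
    PreservesColimitsOfSize.{u, u} (SheafOfModules.restrictScalars.{u} φ) ∧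
    (SheafOfModules.restrictScalars.{u} φ).ReflectsIsomorphisms := by
  have hA_l := toSheaf_preservesLimits A
  have hB_l := toSheaf_preservesLimits B
  have hA_c := toSheaf_preservesColimits A
  have hB_c := toSheaf_preservesColimits B
  refine ⟨?_, ?_, ?_⟩
  · have : ReflectsLimitsOfSize.{u, u} (SheafOfModules.toSheaf.{u} A) :=
      reflectsLimits_of_reflectsIsomorphisms
    have : PreservesLimitsOfSize.{u, u}
        (SheafOfModules.restrictScalars.{u} φ ⋙ SheafOfModules.toSheaf.{u} A) :=
      preservesLimits_of_natIso (compIso φ).symm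
    exact preservesLimits_of_reflects_of_preserves _ (SheafOfModules.toSheaf.{u} A)
  · have : ReflectsColimitsOfSize.{u, u} (SheafOfModules.toSheaf.{u} A) :=
      reflectsColimits_of_reflectsIsomorphisms
    have : PreservesColimitsOfSize.{u, u}
        (SheafOfModules.restrictScalars.{u} φ ⋙ SheafOfModules.toSheaf.{u} A) :=
      preservesColimits_of_natIso (compIso φ).symm
    exact preservesColimits_of_reflects_of_preserves _ (SheafOfModules.toSheaf.{u} A)
  · have : (SheafOfModules.restrictScalars.{u} φ ⋙
        SheafOfModules.toSheaf.{u} A).ReflectsIsomorphisms :=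
      reflectsIsomorphisms_of_iso (compIso φ).symm
    exact reflectsIsomorphisms_of_comp _ (SheafOfModules.toSheaf.{u} A)

end Groth.Agent.S6160
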