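import Groth.Statements.S6996
import Mathlib
-- import your own Groth.Agent.* helpers here

set_option autoImplicit false
universe u
open CategoryTheory CategoryTheory.Limits
attribute [local instance] HasDerivedCategory.standard
open DRing

namespace Groth.Agent.S6996

section Helpers

set_option backward.isDefEq.respectTransparency false
set_option backward.isDefEq.respectTransparency.types false

open HomologicalComplex CochainComplex CochainComplex.HomComplex

variable {R : Type u} [CommRing R]

abbrev MCx (R : Type u) [CommRing R] := HomologicalComplex (ModuleCat.{u} R) (ComplexShape.up ℤ)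

theorem exists_cycle (X : MCx R) (q r : ℤ) (h : q + 1 = r) (x : X.X q)
    (hx : (X.d q r).hom x = 0) : ∃ w : X.cycles q, (X.iCycles q).hom w = x := by
  have hS : (ShortComplex.mk (X.iCycles q) (X.d q r) (X.iCycles_d q _)).Exact :=
    ShortComplex.exact_of_f_is_kernel _ (X.cyclesIsKernel q r (by simp [h]))
  exact (ShortComplex.moduleCat_exact_iff _).1 hS x hx

theorem exists_boundary (X : MCx R) (p q : ℤ) (h : p + 1 = q) (z : X.cycles q)
    (hz : (X.homologyπ q).hom z = 0) : ∃ b : X.X p, (X.toCycles p q).hom b = z := by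
  have hS : (ShortComplex.mk (X.toCycles p q) (X.homologyπ q)
      (X.toCycles_comp_homologyπ _ q)).Exact :=
    ShortComplex.exact_of_g_is_cokernel _ (X.homologyIsCokernel p q (by subst h; simp))
  exact (ShortComplex.moduleCat_exact_iff _).1 hS z hz

theorem homologyπ_surjective (X : MCx R) (q : ℤ) : Function.Surjective (X.homologyπ q).hom :=
  (ModuleCat.epi_iff_surjective _).1 inferInstance

theorem iCycles_injective (X : MCx R) (q : ℤ) : Function.Injective (X.iCycles q).hom :=
  (ModuleCat.mono_iff_injective _).1 inferInstance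

theorem iCycles_d_apply (X : MCx R) (q r : ℤ) (z : X.cycles q) :
    (X.d q r).hom ((X.iCycles q).hom z) = 0 :=
  ConcreteCategory.congr_hom (X.iCycles_d q r) z

theorem toCycles_i_apply (X : MCx R) (p q : ℤ) (y : X.X p) :
    (X.iCycles q).hom ((X.toCycles p q).hom y) = (X.d p q).hom y :=
  ConcreteCategory.congr_hom (X.toCycles_i p q) y

theorem toCycles_homologyπ_apply (X : MCx R) (p q : ℤ) (y : X.X p) :
    (X.homologyπ q).hom ((X.toCycles p q).hom y) = 0 :=
  ConcreteCategory.congr_hom (X.toCycles_comp_homologyπ p q) y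

theorem cyclesMap_i_apply {X Y : MCx R} (φ : X ⟶ Y) (q : ℤ) (z : X.cycles q) :
    (Y.iCycles q).hom ((cyclesMap φ q).hom z) = (φ.f q).hom ((X.iCycles q).hom z) :=
  ConcreteCategory.congr_hom (cyclesMap_i φ q) z

theorem homologyπ_naturality_apply {X Y : MCx R} (φ : X ⟶ Y) (q : ℤ) (z : X.cycles q) :
    (homologyMap φ q).hom ((X.homologyπ q).hom z) = (Y.homologyπ q).hom ((cyclesMap φ q).hom z) :=
  ConcreteCategory.congr_hom (homologyπ_naturality φ q) z

theorem quasiIso_of_elementwise {X Y : MCx R} (φ : X ⟶ Y)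
    (hinj : ∀ (n m : ℤ) (_ : m + 1 = n) (k : ℤ) (_ : n + 1 = k) (x : X.X n),
      (X.d n k).hom x = 0 → (∃ w : Y.X m, (Y.d m n).hom w = (φ.f n).hom x) →
        ∃ v : X.X m, (X.d m n).hom v = x)
    (hsurj : ∀ (n m : ℤ) (_ : m + 1 = n) (k : ℤ) (_ : n + 1 = k) (y : Y.X n),
      (Y.d n k).hom y = 0 →
        ∃ (x : X.X n) (w : Y.X m), (X.d n k).hom x = 0 ∧ y = (φ.f n).hom x + (Y.d m n).hom w) :
    QuasiIso φ := by
  rw [quasiIso_iff]
  intro n
  rw [quasiIsoAt_iff_isIso_homologyMap]
  have hm : (n - 1) + 1 = n := by lia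
  have hbij : Function.Bijective (homologyMap φ n).hom := by
    constructor
    · rw [injective_iff_map_eq_zero]
      intro a ha
      obtain ⟨z, rfl⟩ := homologyπ_surjective X n a
      rw [homologyπ_naturality_apply] at ha
      obtain ⟨b, hb⟩ := exists_boundary Y (n - 1) n hm _ ha
      have hbx : (Y.d (n - 1) n).hom b = (φ.f n).hom ((X.iCycles n).hom z) := by
        rw [← toCycles_i_apply, hb, cyclesMap_i_apply]
      obtain ⟨v, hv⟩ := hinj n (n - 1) hm (n + 1) rfl ((X.iCycles n).hom z)
        (iCycles_d_apply X n (n + 1) z) ⟨b, hbx⟩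
      have hz : z = (X.toCycles (n - 1) n).hom v := by
        apply iCycles_injective
        rw [toCycles_i_apply, hv]
      rw [hz, toCycles_homologyπ_apply]
    · intro a'
      obtain ⟨z', rfl⟩ := homologyπ_surjective Y n a'
      obtain ⟨x, w, hx, hy⟩ := hsurj n (n - 1) hm (n + 1) rfl ((Y.iCycles n).hom z')
        (iCycles_d_apply Y n (n + 1) z')
      obtain ⟨z, hz⟩ := exists_cycle X n (n + 1) rfl x hx
      refine ⟨(X.homologyπ n).hom z, ?_⟩
      rw [homologyπ_naturality_apply]
      have hc : (cyclesMap φ n).hom z = z' - (Y.toCycles (n - 1) n).hom w := by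
        apply iCycles_injective
        rw [map_sub, cyclesMap_i_apply, hz, toCycles_i_apply, hy]
        abel
      rw [hc, map_sub, toCycles_homologyπ_apply, sub_zero]
  exact (ConcreteCategory.isIso_iff_bijective _).2 hbij

theorem cocycle_coboundary {P M : CochainComplex (ModuleCat.{u} R) ℤ} [P.IsKProjective]
    (hM : M.Acyclic) (n m : ℤ) (hm : m + 1 = n) (z : Cochain P M n) (k : ℤ) (hk : n + 1 = k)
    (hz : δ n k z = 0) : ∃ β : Cochain P M m, δ m n β = z := by
  let zc : Cocycle P M n := Cocycle.mk z k hk hz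
  have hM' : HomotopyCategory.subcategoryAcyclic (ModuleCat.{u} R)
      ((HomotopyCategory.quotient _ _).obj M) := by
    rwa [HomotopyCategory.quotient_obj_mem_subcategoryAcyclic_iff_acyclic]
  have hM'' : HomotopyCategory.subcategoryAcyclic (ModuleCat.{u} R)
      ((HomotopyCategory.quotient _ _).obj (M⟦n⟧)) :=
    ObjectProperty.prop_of_iso _
      (((HomotopyCategory.quotient (ModuleCat.{u} R) (.up ℤ)).commShiftIso n).symm.app M)
      ((HomotopyCategory.subcategoryAcyclic (ModuleCat.{u} R)).le_shift n _ hM')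
  have h0 : CohomologyClass.toHom (CohomologyClass.mk zc) = 0 :=
    IsKProjective.leftOrthogonal P (CohomologyClass.toHom (CohomologyClass.mk zc)) hM''
  rw [CohomologyClass.toHom_mk_eq_zero_iff, mem_coboundaries_iff zc m hm] at h0
  obtain ⟨β, hβ⟩ := h0
  exact ⟨β, hβ⟩

theorem acyclic_mappingCone {L L' : CochainComplex (ModuleCat.{u} R) ℤ} (f : L ⟶ L')
    [QuasiIso f] : (mappingCone f).Acyclic := by
  rw [← HomotopyCategory.quotient_obj_mem_subcategoryAcyclic_iff_acyclic]
  have h1 : HomotopyCategory.quasiIso _ _ ((HomotopyCategory.quotient _ _).map f) := by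
    rw [HomotopyCategory.quotient_map_mem_quasiIso_iff, HomologicalComplex.mem_quasiIso_iff]
    infer_instance
  rw [HomotopyCategory.quasiIso_eq_trW_subcategoryAcyclic] at h1
  exact ((HomotopyCategory.subcategoryAcyclic _).trW_iff_of_distinguished _
    (HomotopyCategory.mappingCone_triangleh_distinguished f)).1 h1

open CochainComplex.mappingCone in
theorem lift_decomp {P L L' : CochainComplex (ModuleCat.{u} R) ℤ} (f : L ⟶ L') (m n : ℤ)
    (hm : m + 1 = n) (β : Cochain P (mappingCone f) m) :
    ∃ (a : Cochain P L n) (b : Cochain P L' m), β = liftCochain f a b hm :=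
  ⟨β.comp (fst f).1 hm, β.comp (snd f) (add_zero m),
    (ext_cochain_to_iff f m n hm).2 ⟨by simp, by simp⟩⟩

open CochainComplex.mappingCone in
theorem δ_lift {P L L' : CochainComplex (ModuleCat.{u} R) ℤ} (f : L ⟶ L') (m n k : ℤ)
    (hm : m + 1 = n) (hk : n + 1 = k) (a : Cochain P L n) (b : Cochain P L' m) :
    δ m n (liftCochain f a b hm) =
      liftCochain f (-(δ n k a)) (δ m n b + a.comp (Cochain.ofHom f) (add_zero n)) hk := by
  rw [δ_liftCochain f a b hm k hk]
  simp [liftCochain]

open CochainComplex.mappingCone in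
theorem lift_inj {P L L' : CochainComplex (ModuleCat.{u} R) ℤ} (f : L ⟶ L') (m n : ℤ)
    (hm : m + 1 = n) (a a' : Cochain P L n) (b b' : Cochain P L' m)
    (h : liftCochain f a b hm = liftCochain f a' b' hm) : a = a' ∧ b = b' := by
  constructor
  · have := congrArg (fun c => c.comp (fst f).1 hm) h
    simpa using this
  · have := congrArg (fun c => c.comp (snd f) (add_zero m)) h
    simpa using this

open CochainComplex.mappingCone in
theorem key_inj {P L L' : CochainComplex (ModuleCat.{u} R) ℤ} [P.IsKProjective] (f : L ⟶ L')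
    [QuasiIso f] (n m : ℤ) (hm : m + 1 = n) (k : ℤ) (hk : n + 1 = k)
    (x : Cochain P L n) (hx : δ n k x = 0) (w : Cochain P L' m)
    (hw : δ m n w = x.comp (Cochain.ofHom f) (add_zero n)) :
    ∃ v : Cochain P L m, δ m n v = x := by
  have hC := acyclic_mappingCone f
  have hγ : δ m n (liftCochain f x (-w) hm) = 0 := by
    rw [δ_lift f m n k hm hk, hx, δ_neg, hw]
    simp [liftCochain]
  have hm' : (m - 1) + 1 = m := by lia
  obtain ⟨β, hβ⟩ := cocycle_coboundary hC m (m - 1) hm' _ n hm hγ
  obtain ⟨a', b', rfl⟩ := lift_decomp f (m - 1) m hm' β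
  rw [δ_lift f (m - 1) m n hm' hm] at hβ
  obtain ⟨h1, -⟩ := lift_inj f m n hm _ _ _ _ hβ
  exact ⟨-a', by rw [δ_neg, h1]⟩

open CochainComplex.mappingCone in
theorem key_surj {P L L' : CochainComplex (ModuleCat.{u} R) ℤ} [P.IsKProjective] (f : L ⟶ L')
    [QuasiIso f] (n m : ℤ) (hm : m + 1 = n) (k : ℤ) (hk : n + 1 = k)
    (y : Cochain P L' n) (hy : δ n k y = 0) :
    ∃ (x : Cochain P L n) (w : Cochain P L' m), δ n k x = 0 ∧
      y = x.comp (Cochain.ofHom f) (add_zero n) + δ m n w := by
  have hC := acyclic_mappingCone f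
  have hk' : k + 1 = k + 1 := rfl
  have hζ : δ n k (liftCochain f (0 : Cochain P L k) y hk) = 0 := by
    rw [δ_lift f n k (k + 1) hk hk', hy]
    simp [liftCochain]
  obtain ⟨β, hβ⟩ := cocycle_coboundary hC n m hm _ k hk hζ
  obtain ⟨a, b, rfl⟩ := lift_decomp f m n hm β
  rw [δ_lift f m n k hm hk] at hβ
  obtain ⟨h1, h2⟩ := lift_inj f n k hk _ _ _ _ hβ
  refine ⟨a, b, ?_, ?_⟩
  · simpa using h1
  · rw [← h2, add_comm]

theorem quasiIso_homCxMap (P : DRing.Cx R) [P.IsKProjective] {L L' : DRing.Cx R} (f : L ⟶ L')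
    [QuasiIso f] : QuasiIso (DRing.homCxMap P f) := by
  apply quasiIso_of_elementwise
  · intro n m hm k hk x hx hw
    obtain ⟨w, hw⟩ := hw
    obtain ⟨v, hv⟩ := key_inj (P := P) f n m hm k hk x hx w hw
    exact ⟨v, hv⟩
  · intro n m hm k hk y hy
    obtain ⟨x, w, hx, hxy⟩ := key_surj (P := P) f n m hm k hk y hy
    exact ⟨x, w, hx, hxy⟩

end Helpers


/-- Let R be a commutative ring, P a bounded above cochain complex of projective R-modules such that
RHom_R(P, -) exists, and L a cochain complex of R-modules. Then RHom_R(P, L) is isomorphic in D(R)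
to the class of the Hom complex Hom(P, L) (existence of an isomorphism only; the canonical one is
the derived-functor comparison map). -/
theorem result (R : Type u) [CommRing R] (P : DRing.Cx R) (b : ℤ)
    (hb : DRing.VanishesAbove P b) (hP : ∀ i : ℤ, Module.Projective R (P.X i)) [DRing.HasRHomCx P]
    (L : DRing.Cx R) :
    Nonempty ((DRing.RHomCx P).obj (DRing.toD L) ≅ DRing.toD (DRing.homCx P L)) := by
  have hLE : P.IsStrictlyLE b := by
    rw [CochainComplex.isStrictlyLE_iff]
    exact fun i hi => hb i hi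
  have hproj : ∀ i : ℤ, Projective (P.X i) := fun i => by
    have := hP i
    exact ModuleCat.projective_of_categoryTheory_projective (P.X i)
  have hKP : P.IsKProjective := CochainComplex.isKProjective_of_projective P b
  have hinv : (HomologicalComplex.quasiIso (ModuleCat.{u} R) (ComplexShape.up ℤ)).IsInvertedBy
      (DRing.homCxQ P) := by
    intro L₁ L₂ f hf
    rw [HomologicalComplex.mem_quasiIso_iff] at hf
    have := hf
    have hq : QuasiIso (DRing.homCxMap P f) := quasiIso_homCxMap P f
    exact (DerivedCategory.isIso_Q_map_iff_quasiIso (C := ModuleCat.{u} R) (DRing.homCxMap P f)).2 hq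
  have hiso : IsIso ((DRing.homCxQ P).totalRightDerivedUnit DerivedCategory.Q
      (HomologicalComplex.quasiIso (ModuleCat.{u} R) (ComplexShape.up ℤ))) :=
    Functor.isIso_of_isRightDerivedFunctor_of_inverts _ _ hinv
  exact ⟨((asIso ((DRing.homCxQ P).totalRightDerivedUnit DerivedCategory.Q
      (HomologicalComplex.quasiIso (ModuleCat.{u} R) (ComplexShape.up ℤ)))).app L).symm⟩

end Groth.Agent.S6996
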