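import Groth.Statements.S5617
import Groth.Agent.H33.PCohDer

set_option autoImplicit false
universe w v u
open CategoryTheory CategoryTheory.Limits
open PCoh

namespace Groth.Agent.S5617

/-- First assertion (punctual site): let C be an abelian category and C₀ a strictly full additive
subcategory, quasi-stable under kernels of epimorphisms and quasi-liftable, and n < m. If F ∈ D(C)
is n-pseudo-coherent and acyclic in degrees ≥ m, then F is isomorphic in D(C) to a strictly
n-pseudo-coherent complex E with E^i = 0 for i ≥ m. -/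
theorem result {C : Type u} [Category.{v} C] [Abelian C] [HasDerivedCategory.{w} C]
    (P : ObjectProperty C) [P.IsClosedUnderIsomorphisms] [P.ContainsZero] (hsum : ∀ X Y : C, P X → P Y → P (X ⨯ Y))
    (hqs : PCoh.IsQuasiStableUnderKernels P) (hql : PCoh.IsQuasiLiftable P)
    (n m : ℤ) (hnm : n < m) (F : DerivedCategory C) (hF : (∃ E : CochainComplex C ℤ, PCoh.IsStrictPC P n E ∧ Nonempty (DerivedCategory.Q.obj E ≅ F)))
    (hac : ∀ i : ℤ, m ≤ i → IsZero ((DerivedCategory.homologyFunctor C i).obj F)) :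
    ∃ E : CochainComplex C ℤ, PCoh.IsStrictPC P n E ∧ (∀ i : ℤ, m ≤ i → IsZero (E.X i)) ∧
      Nonempty (DerivedCategory.Q.obj E ≅ F) := by
  obtain ⟨X, hX, ⟨e⟩⟩ := hF
  have hXh : ∀ i, m ≤ i → IsZero (X.homology i) := fun i hi =>
    IsZero.of_iso (hac i hi) (Groth.Agent.H33.PCoh.homologyIsoOfIso e i)
  obtain ⟨E', u', hE', hz, hu'⟩ :=
    Groth.Agent.H33.PCoh.iterate_from_zero hsum hqs hql n m hnm.le X ⟨X, hX, ⟨Iso.refl _⟩⟩ hXh
  obtain ⟨hu1, hu2⟩ := hu'
  obtain ⟨E'', j, u'', hfac', hq, hmj, hisoj⟩ := Groth.Agent.H33.PCoh.factor_nqis n u' hu1 hu2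
  have : IsIso (DerivedCategory.Q.map u'') := (DerivedCategory.isIso_Q_map_iff_quasiIso _ _).2 hq
  obtain ⟨⟨b, hb⟩, hP⟩ := hE'
  refine ⟨E'', ⟨⟨max b n, fun i hi => ?_⟩, fun i hi => ?_⟩, fun i hi => ?_,
    ⟨asIso (DerivedCategory.Q.map u'') ≪≫ e⟩⟩
  · have := hisoj i (by have := le_max_right b n; omega)
    exact IsZero.of_iso (hb i (by have := le_max_left b n; omega)) (asIso (j.f i)).symm
  · have := hisoj i hi
    exact P.prop_of_iso (asIso (j.f i)) (hP i hi)
  · have := hisoj i (by omega)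
    exact IsZero.of_iso (hz i hi) (asIso (j.f i)).symm

end Groth.Agent.S5617
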