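import Groth.Statements.S6707
import Mathlib

set_option autoImplicit false
universe w v u
open CategoryTheory
open DEquiv

namespace Groth.Agent.S6707

open CategoryTheory.Limits DerivedCategory

variable {A : Type u} [Category.{v} A] [Abelian A] [HasDerivedCategory.{w} A]

/-- The top-cell chain map into a complex with vanishing `X (b+1)`. -/
lemma exists_topCell (K : CochainComplex A ℤ) (b : ℤ) (hb : IsZero (K.X (b + 1))) :
    ∃ j : (HomologicalComplex.single A (ComplexShape.up ℤ) b).obj (K.X b) ⟶ K,
      j.f b = (HomologicalComplex.singleObjXSelf (ComplexShape.up ℤ) b (K.X b)).hom :=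
  ⟨HomologicalComplex.mkHomFromSingle (𝟙 (K.X b)) (fun k hk => by
      have hk' : b + 1 = k := hk
      subst hk'
      exact hb.eq_of_tgt _ _), by rw [HomologicalComplex.mkHomFromSingle_f, Category.comp_id]⟩

lemma epi_homologyMap_topCell (K : CochainComplex A ℤ) (b : ℤ) (hb : IsZero (K.X (b + 1)))
    (j : (HomologicalComplex.single A (ComplexShape.up ℤ) b).obj (K.X b) ⟶ K)
    (hj : j.f b = (HomologicalComplex.singleObjXSelf (ComplexShape.up ℤ) b (K.X b)).hom) :
    Epi (HomologicalComplex.homologyMap j b) := by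
  have hdK : K.d b (b + 1) = 0 := hb.eq_of_tgt _ _
  have i1 : IsIso (K.iCycles b) := K.isIso_iCycles b (b + 1) (by simp) hdK
  have i2 : IsIso (((HomologicalComplex.single A (ComplexShape.up ℤ) b).obj (K.X b)).iCycles b) :=
    HomologicalComplex.isIso_iCycles _ b (b + 1) (by simp) (by simp)
  have i3 : IsIso (j.f b) := by rw [hj]; infer_instance
  have h1 : HomologicalComplex.cyclesMap j b =
      ((HomologicalComplex.single A (ComplexShape.up ℤ) b).obj (K.X b)).iCycles b ≫ j.f b ≫
        inv (K.iCycles b) := by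
    rw [← Category.assoc, IsIso.eq_comp_inv]
    exact HomologicalComplex.cyclesMap_i j b
  have i4 : IsIso (HomologicalComplex.cyclesMap j b) := by rw [h1]; infer_instance
  have h2 := HomologicalComplex.homologyπ_naturality j b
  have i5 : Epi (((HomologicalComplex.single A (ComplexShape.up ℤ) b).obj (K.X b)).homologyπ b ≫
      HomologicalComplex.homologyMap j b) := by
    rw [h2]
    exact epi_comp _ _
  exact epi_of_epi (((HomologicalComplex.single A (ComplexShape.up ℤ) b).obj (K.X b)).homologyπ b) _

lemma epi_H_Q_map {K L : CochainComplex A ℤ} (φ : K ⟶ L) (b : ℤ)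
    (h : Epi (HomologicalComplex.homologyMap φ b)) :
    Epi ((homologyFunctor A b).map (Q.map φ)) := by
  have nat := (homologyFunctorFactors A b).hom.naturality φ
  have h' : Epi ((HomologicalComplex.homologyFunctor A (ComplexShape.up ℤ) b).map φ) := h
  have e1 : (homologyFunctor A b).map (Q.map φ) =
      (homologyFunctorFactors A b).hom.app K ≫
        (HomologicalComplex.homologyFunctor A (ComplexShape.up ℤ) b).map φ ≫
        (homologyFunctorFactors A b).inv.app L :=
    ((((homologyFunctorFactors A b).app L).eq_comp_inv).2 nat).trans (Category.assoc _ _ _)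
  rw [e1]
  infer_instance

/-- The comparison isomorphism for single complexes, with a convenient type. -/
noncomputable def sIso (b : ℤ) (N : A) : (singleFunctor A b).obj N ≅
    Q.obj ((HomologicalComplex.single A (ComplexShape.up ℤ) b).obj N) :=
  (singleFunctorIsoCompQ A b).app N

lemma sIso_naturality (b : ℤ) {N₁ N₀ : A} (r : N₁ ⟶ N₀) :
    (singleFunctor A b).map r ≫ (sIso b N₀).hom =
      (sIso b N₁).hom ≫ Q.map ((HomologicalComplex.single A (ComplexShape.up ℤ) b).map r) :=
  (singleFunctorIsoCompQ A b).hom.naturality r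

lemma map_single_eq (b : ℤ) {N₁ N₀ : A} (r : N₁ ⟶ N₀) :
    (homologyFunctor A b).map ((singleFunctor A b).map r) =
      (singleFunctorCompHomologyFunctorIso A b).hom.app N₁ ≫ r ≫
        (singleFunctorCompHomologyFunctorIso A b).inv.app N₀ :=
  (((((singleFunctorCompHomologyFunctorIso A b).app N₀).eq_comp_inv).2
    ((singleFunctorCompHomologyFunctorIso A b).hom.naturality r))).trans (Category.assoc _ _ _)

lemma epi_map_single_of_epi (b : ℤ) {N₁ N₀ : A} (r : N₁ ⟶ N₀) [Epi r] :
    Epi ((homologyFunctor A b).map ((singleFunctor A b).map r)) := by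
  rw [map_single_eq]
  infer_instance

lemma epi_of_epi_map_single (b : ℤ) {N₁ N₀ : A} (r : N₁ ⟶ N₀)
    (h : Epi ((homologyFunctor A b).map ((singleFunctor A b).map r))) : Epi r := by
  have e2 : r = (singleFunctorCompHomologyFunctorIso A b).inv.app N₁ ≫
      (homologyFunctor A b).map ((singleFunctor A b).map r) ≫
        (singleFunctorCompHomologyFunctorIso A b).hom.app N₀ := by
    rw [map_single_eq]
    simp
  have h3 : Epi ((singleFunctorCompHomologyFunctorIso A b).inv.app N₁ ≫
      (homologyFunctor A b).map ((singleFunctor A b).map r) ≫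
        (singleFunctorCompHomologyFunctorIso A b).hom.app N₀) := inferInstance
  rwa [← e2] at h3

/-- Every object of `D^{≤ b}` receives a map from a single object in degree `b` which is an
epimorphism on `H^b`. -/
lemma exists_top (X : DerivedCategory A) (b : ℤ) [X.IsLE b] :
    ∃ (N₀ : A) (g₀ : (singleFunctor A b).obj N₀ ⟶ X), Epi ((homologyFunctor A b).map g₀) := by
  obtain ⟨K, hK, ⟨e⟩⟩ := X.exists_iso_Q_obj_of_isLE b
  have hb : IsZero (K.X (b + 1)) := K.isZero_of_isStrictlyLE b (b + 1) (by omega)
  obtain ⟨j, hj⟩ := exists_topCell K b hb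
  have h1 := epi_H_Q_map j b (epi_homologyMap_topCell K b hb j hj)
  refine ⟨K.X b, (sIso b (K.X b)).hom ≫ Q.map j ≫ e.inv, ?_⟩
  rw [Functor.map_comp, Functor.map_comp]
  infer_instance

/-- Effaceability: a morphism from a single object in degree `b` to an object of `D^{≤ b-1}` is
killed by an epimorphism onto the source. -/
lemma efface (b : ℤ) (N₀ : A) (Y : DerivedCategory A) [Y.IsLE (b - 1)]
    (c : (singleFunctor A b).obj N₀ ⟶ Y) :
    ∃ (M' : A) (q : M' ⟶ N₀), Epi q ∧ (singleFunctor A b).map q ≫ c = 0 := by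
  obtain ⟨K', hK', ⟨e'⟩⟩ := Y.exists_iso_Q_obj_of_isLE (b - 1)
  obtain ⟨Z, hZ, s, hs, g, hfac⟩ := right_fac_of_isStrictlyLE
    (X := (HomologicalComplex.single A (ComplexShape.up ℤ) b).obj N₀)
    ((sIso b N₀).inv ≫ c ≫ e'.hom) b
  have hb : IsZero (Z.X (b + 1)) := Z.isZero_of_isStrictlyLE b (b + 1) (by omega)
  obtain ⟨j₁, hj₁⟩ := exists_topCell Z b hb
  obtain ⟨q, hqdef⟩ : ∃ q : Z.X b ⟶ N₀,
      q = (HomologicalComplex.singleObjXSelf (ComplexShape.up ℤ) b (Z.X b)).inv ≫ (j₁ ≫ s).f b ≫
        (HomologicalComplex.singleObjXSelf (ComplexShape.up ℤ) b N₀).hom := ⟨_, rfl⟩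
  have hq : j₁ ≫ s = (HomologicalComplex.single A (ComplexShape.up ℤ) b).map q := by
    apply HomologicalComplex.from_single_hom_ext
    rw [HomologicalComplex.single_map_f_self, hqdef]
    simp
  have hg0 : j₁ ≫ g = 0 := by
    apply HomologicalComplex.from_single_hom_ext
    exact (K'.isZero_of_isStrictlyLE (b - 1) b (by omega)).eq_of_tgt _ _
  have hsq : (singleFunctor A b).map q =
      (sIso b (Z.X b)).hom ≫
        Q.map ((HomologicalComplex.single A (ComplexShape.up ℤ) b).map q) ≫ (sIso b N₀).inv :=
    ((((sIso b N₀).eq_comp_inv).2 (sIso_naturality b q))).trans (Category.assoc _ _ _)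
  have hc : c = (sIso b N₀).hom ≫ (inv (Q.map s) ≫ Q.map g) ≫ e'.inv := by
    rw [← hfac]
    simp
  refine ⟨Z.X b, q, ?_, ?_⟩
  · have h1 : Epi ((homologyFunctor A b).map (Q.map j₁)) :=
      epi_H_Q_map j₁ b (epi_homologyMap_topCell Z b hb j₁ hj₁)
    have h2 : Epi ((homologyFunctor A b).map ((singleFunctor A b).map q)) := by
      rw [hsq, ← hq]
      simp only [Functor.map_comp]
      infer_instance
    exact epi_of_epi_map_single b q h2
  · rw [hsq, hc, ← hq]
    simp only [Category.assoc, Iso.inv_hom_id_assoc, Functor.map_comp, IsIso.hom_inv_id_assoc]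
    rw [← Functor.map_comp_assoc, hg0, Functor.map_zero, zero_comp, comp_zero]


open CategoryTheory.Limits in
/-- Let A be an abelian category in which every object X is the target of an epimorphism N ⟶ X with
Hom(X, N) = 0. Let f : X ⟶ X' be a morphism between bounded objects of D(A) and b an integer with
H^i(X) = 0 for i > b and H^i(X') = 0 for i ≥ b. Then there exist an object N of A and a morphism
N⟦-b⟧ ⟶ X (N placed in degree b) inducing an epimorphism N ⟶ H^b(X), with Hom(H^b(X), N) = 0, and
whose composite with f is zero. -/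
theorem result
    {A : Type u} [Category.{v} A] [Abelian A] [HasDerivedCategory.{w} A]
    (hneg : ∀ X : A, ∃ (N : A) (p : N ⟶ X), Epi p ∧ ∀ f : X ⟶ N, f = 0)
    (X X' : DerivedCategory A) (f : X ⟶ X') (a b a' : ℤ) [X.IsGE a] [X.IsLE b] [X'.IsGE a']
    [X'.IsLE (b - 1)] :
    ∃ (N : A) (g : (DerivedCategory.singleFunctor A b).obj N ⟶ X),
      Epi ((DerivedCategory.homologyFunctor A b).map g) ∧
        (∀ φ : (DerivedCategory.homologyFunctor A b).obj X ⟶ N, φ = 0) ∧ g ≫ f = 0 := by
  obtain ⟨N₀, g₀, hg₀⟩ := exists_top X b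
  obtain ⟨M', q, hq, hqc⟩ := efface b N₀ X' (g₀ ≫ f)
  obtain ⟨N, p, hp, hN⟩ := hneg M'
  refine ⟨N, (DerivedCategory.singleFunctor A b).map (p ≫ q) ≫ g₀, ?_, ?_, ?_⟩
  · rw [Functor.map_comp]
    have : Epi ((DerivedCategory.homologyFunctor A b).map
        ((DerivedCategory.singleFunctor A b).map (p ≫ q))) := epi_map_single_of_epi b (p ≫ q)
    exact epi_comp _ _
  · intro φ
    have hu : Epi ((DerivedCategory.singleFunctorCompHomologyFunctorIso A b).inv.app M' ≫
        (DerivedCategory.homologyFunctor A b).map ((DerivedCategory.singleFunctor A b).map q) ≫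
          (DerivedCategory.homologyFunctor A b).map g₀) := by
      have := epi_map_single_of_epi b q
      infer_instance
    have h0 : ((DerivedCategory.singleFunctorCompHomologyFunctorIso A b).inv.app M' ≫
        (DerivedCategory.homologyFunctor A b).map ((DerivedCategory.singleFunctor A b).map q) ≫
          (DerivedCategory.homologyFunctor A b).map g₀) ≫ φ = 0 := hN _
    rw [← cancel_epi ((DerivedCategory.singleFunctorCompHomologyFunctorIso A b).inv.app M' ≫
        (DerivedCategory.homologyFunctor A b).map ((DerivedCategory.singleFunctor A b).map q) ≫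
          (DerivedCategory.homologyFunctor A b).map g₀), h0, Limits.comp_zero]
  · rw [Functor.map_comp, Category.assoc, Category.assoc, hqc, Limits.comp_zero]

end Groth.Agent.S6707
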