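import Groth.Statements.S6459
import Groth.Agent.H71.DimFun
import Mathlib.AlgebraicGeometry.FunctionField

set_option autoImplicit false
universe u
open CategoryTheory AlgebraicGeometry
open Cyc

namespace Groth.Agent.S6459

/-- (b) ⇔ (c): let X be integral with generic point η and Z ⊂ X an integral closed subscheme with
generic point ξ. Then Z has codimension 1 in X (the local ring O_{X,ξ} is one-dimensional; Z is a
prime divisor) if and only if dim_δ(Z) = dim_δ(X) − 1. Here a pair (X, δ) with Cyc.IsSetup plays the
role of a scheme locally of finite type over the base (S, δ) (X locally Noetherian with universally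
catenary local rings, δ a dimension function). -/
theorem result (X : Scheme.{u}) [IsIntegral X] (δ : X → ℤ) (hX : Cyc.IsSetup X δ) (ξ : X) : ringKrullDim ↑(X.presheaf.stalk ξ) = 1 ↔ δ ξ = δ (genericPoint X) - 1 := by
  obtain ⟨hN, -, hδ⟩ := hX
  haveI := hN
  obtain ⟨q, hq⟩ := Groth.Agent.H71.DimFun.exists_of_specializes X (genericPoint_specializes ξ)
  have hqmin : IsMin q := Groth.Agent.H71.DimFun.isMin_of_generic X ξ q (by
    rw [hq]; intro ξ' h; exact (h.antisymm (genericPoint_specializes ξ')).eq)
  have hq0 : q.asIdeal = ⊥ := by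
    have : q ≤ ⟨⊥, Ideal.isPrime_bot⟩ :=
      hqmin (show (⟨⊥, Ideal.isPrime_bot⟩ : PrimeSpectrum _) ≤ q from (bot_le : (⊥ : Ideal _) ≤ q.asIdeal))
    exact le_bot_iff.mp this
  obtain ⟨d, hd, hδd⟩ := Groth.Agent.H71.DimFun.delta_eq_add_coheight X δ hδ ξ q
  rw [hq] at hδd
  have hdim : ringKrullDim (X.presheaf.stalk ξ) = ((d : ℕ∞) : WithBot ℕ∞) := by
    have h1 := Groth.Agent.H71.DimFun.coheight_eq_ringKrullDim_quotient q
    rw [hd, hq0] at h1
    rw [h1]
    exact (ringKrullDim_eq_of_ringEquiv (RingEquiv.quotientBot _)).symm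
  rw [hdim, hδd]
  constructor
  · intro h
    have : d = 1 := by exact_mod_cast h
    subst this; push_cast; ring
  · intro h
    have h' : (d : ℤ) = 1 := by linarith
    have : d = 1 := by exact_mod_cast h'
    subst this; rfl

end Groth.Agent.S6459
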