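import Groth.Statements.S1923
import Groth.Agent.H95.RefIso
import Groth.Agent.S6459

set_option autoImplicit false
universe u
open CategoryTheory AlgebraicGeometry
open Cyc

namespace Groth.Agent.S1923

open Groth.Agent.H18.TensorGen (IsGen exists_isGen)
open Groth.Agent.H95.SecOrd
open Groth.Agent.H95.RefGen
open Groth.Agent.H95.RefIso
open Groth.Agent.H17.HomExtend (sp_germ sp_smul)

/-- Let X be integral with δ(η) = n, L an invertible O_X-module and s a global section of L whose germ
at η is nonzero. Then div_L(s) = [Z(s)]_{n−1} as (n − 1)-cycles, where s is viewed as a rational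
section through its image in L(η). Here L(ξ) = L_ξ/𝔪_ξ L_ξ is the space of rational sections of L on
the closure of ξ, div_{L|W}(s) and c_1(L) ∩ α are computed as coefficient functions from chosen
nonzero rational sections (Cyc.secDivFun, Cyc.c1CapFun), and results are compared up to rational
equivalence for any cycles with those coefficients. A pair (X, δ) with Cyc.IsSetup plays the role of
a scheme locally of finite type over a fixed base with a dimension function (X locally Noetherian
with universally catenary local rings, δ a dimension function), and Cyc.DeltaCompat records that the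
dimension function upstairs is the induced one. -/
theorem result (X : Scheme.{u}) [IsIntegral X] (δ : X → ℤ) (hX : Cyc.IsSetup X δ) (n : ℤ) (hn : δ (genericPoint X) = n) (L : X.Modules) (hL : PicF.IsInvertible L) (s : L.presheaf.obj (Opposite.op ⊤)) (hs : (L.presheaf.germ ⊤ (genericPoint X) trivial) s ≠ 0) : Cyc.secDivFun δ L (genericPoint X) (Submodule.Quotient.mk ((L.presheaf.germ ⊤ (genericPoint X) trivial) s)) = Cyc.zeroSectionFun δ (n - 1) L s := by
  haveI : IsLocallyNoetherian X := hX.1
  funext x
  have hη : genericPoint X ⤳ x := genericPoint_specializes x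
  unfold Cyc.secDivFun Cyc.zeroSectionFun
  by_cases hδ : δ x = n - 1
  · have hcond : genericPoint X ⤳ x ∧ δ x + 1 = δ (genericPoint X) :=
      ⟨hη, by rw [hn, hδ]; ring⟩
    have hcoh : Order.coheight x = 1 := by
      have h1 : ringKrullDim (X.presheaf.stalk x) = 1 :=
        (Groth.Agent.S6459.result X δ hX x).mpr (by rw [hn, hδ])
      rw [AlgebraicGeometry.ringKrullDim_stalk_eq_coheight] at h1
      exact_mod_cast h1
    obtain ⟨V, τ, hxV, hτ⟩ := exists_isGen hL x
    have hηV : genericPoint X ∈ V := hη.mem_open V.2 hxV
    have hfree := freeAt_of_isGen hτ x hxV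
    have ht : ∃ t : L.presheaf.stalk x, Submodule.span (X.presheaf.stalk x) {t} = ⊤ := by
      refine ⟨L.presheaf.germ V x hxV τ, ?_⟩
      rw [eq_top_iff]
      intro m _
      obtain ⟨r, hr⟩ := hfree.2 m
      rw [← hr]
      exact Submodule.smul_mem _ _ (Submodule.mem_span_singleton_self _)
    have hf : ∃ f : X.presheaf.stalk x,
        (L.presheaf.germ ⊤ x trivial) s = f • Classical.choose ht := by
      have hmem : (L.presheaf.germ ⊤ x trivial) s ∈
          Submodule.span (X.presheaf.stalk x) {Classical.choose ht} := by
        rw [Classical.choose_spec ht]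
        trivial
      obtain ⟨f, hf⟩ := Submodule.mem_span_singleton.mp hmem
      exact ⟨f, hf.symm⟩
    rw [dif_pos hcond, if_pos hδ, dif_pos ht, dif_pos hf]
    have ht' := Classical.choose_spec ht
    have hc' := Classical.choose_spec hf
    generalize Classical.choose hf = c' at hc' ⊢
    generalize Classical.choose ht = t' at ht' hc'
    obtain ⟨u, hu⟩ := hfree.2 t'
    have hu' : u • L.presheaf.germ V x hxV τ = t' := hu
    obtain ⟨v, hv⟩ := Submodule.mem_span_singleton.mp
      (show L.presheaf.germ V x hxV τ ∈ Submodule.span (X.presheaf.stalk x) {t'} by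
        rw [ht']; trivial)
    have huv : v * u = 1 := by
      apply hfree.1
      show (v * u) • L.presheaf.germ V x hxV τ =
        (1 : X.presheaf.stalk x) • L.presheaf.germ V x hxV τ
      rw [mul_smul, one_smul, hu', hv]
    have huu : IsUnit u := IsUnit.of_mul_eq_one v (by rw [mul_comm]; exact huv)
    have hsx : (L.presheaf.germ ⊤ x trivial) s = (c' * u) • L.presheaf.germ V x hxV τ := by
      rw [hc', mul_smul, hu']
    have hsη : (L.presheaf.germ ⊤ (genericPoint X) trivial) s =
        (X.presheaf.stalkSpecializes hη (c' * u)) •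
          L.presheaf.germ V (genericPoint X) hηV τ := by
      rw [← sp_germ L hη (show x ∈ (⊤ : X.Opens) from trivial) s, hsx, sp_smul, sp_germ]
    have hspc : X.presheaf.stalkSpecializes hη (c' * u) ≠ 0 := by
      intro h0
      apply hs
      rw [hsη, h0, zero_smul]
    have hcu0 : c' * u ≠ 0 := by
      intro h0
      apply hspc
      rw [h0, map_zero]
    have hnzd : c' * u ∈ nonZeroDivisors (X.presheaf.stalk x) :=
      mem_nonZeroDivisors_iff_ne_zero.mpr hcu0
    have hL1 : Cyc.secOrdAt L (genericPoint X) x hcond.1
        (Submodule.Quotient.mk ((L.presheaf.germ ⊤ (genericPoint X) trivial) s)) =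
        Cyc.ordAt x (genericPoint X) hcond.1
          (X.residue (genericPoint X) (X.presheaf.stalkSpecializes hη (c' * u))) := by
      apply secOrdAt_eq_of_isGen hτ hcond.1 hxV hηV
      rw [hsη, Submodule.Quotient.mk_smul]
    rw [hL1, ordAt_residue_eq_ord x hcoh hcond.1 _ hspc]
    haveI : Ring.KrullDimLE 1 (X.presheaf.stalk x) := krullDimLE_of_coheight_le hcoh.le
    have hord : Ring.ord (X.presheaf.stalk x) (c' * u) = Ring.ord (X.presheaf.stalk x) c' :=
      Ring.ord_mul_of_isUnit_right huu c'
    have hfin : Ring.ord (X.presheaf.stalk x) c' ≠ ⊤ := by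
      rw [← hord]
      exact Ring.ord_ne_top hnzd
    rw [Scheme.ord_eq_iff hcoh hspc]
    show Ring.ordFrac (X.presheaf.stalk x)
      (algebraMap (X.presheaf.stalk x) X.functionField (c' * u)) = _
    rw [Ring.ordFrac_eq_ord _ hcu0]
    apply Ring.ordMonoidWithZeroHom_eq_coe _ hnzd
    rw [hord]
    exact (ENat.natCast_toNat hfin).symm
  · have hcond : ¬ (genericPoint X ⤳ x ∧ δ x + 1 = δ (genericPoint X)) := by
      rintro ⟨-, h2⟩
      apply hδ
      rw [hn] at h2
      linarith
    rw [dif_neg hcond, if_neg hδ]

end Groth.Agent.S1923
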