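import Groth.Statements.S2938
import Groth.Agent.H15.Depth
import Mathlib.RingTheory.Regular.Flat
import Mathlib.RingTheory.Flat.FaithfullyFlat.Basic

set_option autoImplicit false
universe u
open scoped TensorProduct
open LocCoh

namespace Groth.Agent.S2938

open Groth.Agent.H15.Depth RingTheory.Sequence

section

variable {A B : Type u} [CommRing A] [CommRing B] [Algebra A B]

/-- If `IM = M` then `(IB)(B ⊗ M) = B ⊗ M`. -/
theorem smul_top_baseChange_eq_top (I : Ideal A) (M : Type u) [AddCommGroup M] [Module A M]
    (h : I • (⊤ : Submodule A M) = ⊤) :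
    (I.map (algebraMap A B)) • (⊤ : Submodule B (B ⊗[A] M)) = ⊤ := by
  rw [eq_top_iff]
  rintro n -
  induction n using TensorProduct.induction_on with
  | zero => exact Submodule.zero_mem _
  | add x y hx hy => exact Submodule.add_mem _ hx hy
  | tmul b m =>
    have hm : m ∈ I • (⊤ : Submodule A M) := by rw [h]; trivial
    have key : ∀ m' ∈ I • (⊤ : Submodule A M), (1 : B) ⊗ₜ[A] m' ∈
        (I.map (algebraMap A B)) • (⊤ : Submodule B (B ⊗[A] M)) := by
      intro m' hm'
      refine Submodule.smul_induction_on hm' ?_ ?_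
      · intro a ha m'' _
        have : (1 : B) ⊗ₜ[A] (a • m'') = (algebraMap A B a) • ((1 : B) ⊗ₜ[A] m'') := by
          rw [TensorProduct.tmul_smul, TensorProduct.smul_tmul', TensorProduct.smul_tmul',
            Algebra.smul_def, smul_eq_mul]
        rw [this]
        exact Submodule.smul_mem_smul (Ideal.mem_map_of_mem _ ha) trivial
      · intro x y hx hy
        rw [TensorProduct.tmul_add]
        exact Submodule.add_mem _ hx hy
    have : b ⊗ₜ[A] m = b • ((1 : B) ⊗ₜ[A] m) := by
      rw [TensorProduct.smul_tmul', smul_eq_mul, mul_one]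
    rw [this]
    exact Submodule.smul_mem _ b (key m hm)

/-- Regular sequences ascend along flat base change. -/
theorem hasSeq_baseChange [Module.Flat A B] (I : Ideal A) (M : Type u) [AddCommGroup M] [Module A M]
    {n : ℕ} (h : HasSeq I M n) : HasSeq (I.map (algebraMap A B)) (B ⊗[A] M) n := by
  obtain ⟨rs, hw, hI, hl⟩ := h
  refine ⟨rs.map (algebraMap A B),
    hw.of_flat_of_isBaseChange (TensorProduct.isBaseChange A M B), ?_, by simp [hl]⟩
  intro r hr
  obtain ⟨a, ha, rfl⟩ := List.mem_map.mp hr
  exact Ideal.mem_map_of_mem _ (hI a ha)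

/-- A socle element survives faithfully flat base change. -/
theorem hasSocle_baseChange [Module.FaithfullyFlat A B] (I : Ideal A) (M : Type u) [AddCommGroup M]
    [Module A M] (h : HasSocle I M) : HasSocle (I.map (algebraMap A B)) (B ⊗[A] M) := by
  obtain ⟨m, hm, hI⟩ := h
  refine ⟨(1 : B) ⊗ₜ[A] m, fun h0 => hm ((Module.FaithfullyFlat.one_tmul_eq_zero_iff A M m).mp h0),
    ?_⟩
  intro t ht
  refine Submodule.span_induction (p := fun t _ => t • ((1 : B) ⊗ₜ[A] m) = 0) ?_ ?_ ?_ ?_ ht
  · rintro _ ⟨a, ha, rfl⟩
    rw [TensorProduct.smul_tmul', smul_eq_mul, mul_one, Algebra.algebraMap_eq_smul_one,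
      TensorProduct.smul_tmul, hI a ha, TensorProduct.tmul_zero]
  · rw [zero_smul]
  · intro x y _ _ hx hy
    rw [add_smul, hx, hy, add_zero]
  · intro b x _ hx
    rw [smul_eq_mul, mul_smul, hx, smul_zero]

/-- Regular sequences descend along faithfully flat base change. -/
theorem hasSeq_of_baseChange [IsNoetherianRing A] [IsNoetherianRing B] [Module.FaithfullyFlat A B]
    (I : Ideal A) (n : ℕ) :
    ∀ (M : Type u) [AddCommGroup M] [Module A M] [Module.Finite A M],
      HasSeq (I.map (algebraMap A B)) (B ⊗[A] M) n → HasSeq I M n := by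
  induction n with
  | zero => intro M _ _ _ _; exact hasSeq_zero
  | succ n ih =>
    intro M _ _ _ h
    -- there is an M-regular element in I
    obtain ⟨x, hx, hxr⟩ : ∃ x ∈ I, IsSMulRegular M x := by
      rcases exists_regular_or_hasSocle (I := I) M with h1 | hsoc
      · exact h1
      · exfalso
        obtain ⟨y, hy, hyr, -⟩ := hasSeq_succ_iff.mp h
        exact (hasSocle_baseChange I M hsoc).not_regular hy hyr
    have hxB : algebraMap A B x ∈ I.map (algebraMap A B) := Ideal.mem_map_of_mem _ hx
    have hxrB : IsSMulRegular (B ⊗[A] M) (algebraMap A B x) :=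
      hxr.of_flat_of_isBaseChange (TensorProduct.isBaseChange A M B)
    have h1 : HasSeq (I.map (algebraMap A B)) (QuotSMulTop (algebraMap A B x) (B ⊗[A] M)) n :=
      hasSeq_quot_of_hasSeq_succ hxB hxrB h
    have h2 : HasSeq (I.map (algebraMap A B)) (B ⊗[A] QuotSMulTop x M) n :=
      h1.congr (QuotSMulTop.algebraMapTensorEquivTensorQuotSMulTop x M B)
    exact hasSeq_succ_iff.mpr ⟨x, hx, hxr, ih (QuotSMulTop x M) h2⟩

end


/-- Suppose A and B are Noetherian rings with a ring map A → B, I is an ideal of A and M is a finitely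
generated A-module. When B is A-flat, depth_{IB}(B ⊗_A M) ≥ depth_I(M); when B is faithfully flat
over A, the two depths are equal. -/
theorem result (A B : Type u) [CommRing A] [CommRing B] [Algebra A B] [IsNoetherianRing A] [IsNoetherianRing B] (I : Ideal A) (M : Type u) [AddCommGroup M] [Module A M] [Module.Finite A M] : (Module.Flat A B → LocCoh.idealDepth I M ≤ LocCoh.idealDepth (I.map (algebraMap A B)) (B ⊗[A] M)) ∧ (Module.FaithfullyFlat A B → LocCoh.idealDepth (I.map (algebraMap A B)) (B ⊗[A] M) = LocCoh.idealDepth I M) := by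
  constructor
  · intro hflat
    by_cases hJ : (I.map (algebraMap A B)) • (⊤ : Submodule B (B ⊗[A] M)) = ⊤
    · rw [idealDepth_eq_top_of_smul_top_eq_top hJ]
      exact le_top
    · have hIM : I • (⊤ : Submodule A M) ≠ ⊤ := fun h => hJ (smul_top_baseChange_eq_top I M h)
      rw [← ENat.forall_natCast_le_iff_le]
      intro n hn
      rw [le_idealDepth_iff hIM] at hn
      rw [le_idealDepth_iff hJ]
      exact hasSeq_baseChange I M hn
  · intro hff
    by_cases hIM : I • (⊤ : Submodule A M) = ⊤
    · rw [idealDepth_eq_top_of_smul_top_eq_top hIM,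
        idealDepth_eq_top_of_smul_top_eq_top (smul_top_baseChange_eq_top I M hIM)]
    · have hJ : (I.map (algebraMap A B)) • (⊤ : Submodule B (B ⊗[A] M)) ≠ ⊤ :=
        (IsBaseChange.map_smul_top_ne_top_iff_of_faithfullyFlat A M
          (TensorProduct.isBaseChange A M B) I).mpr hIM
      apply le_antisymm
      · rw [← ENat.forall_natCast_le_iff_le]
        intro n hn
        rw [le_idealDepth_iff hJ] at hn
        rw [le_idealDepth_iff hIM]
        exact hasSeq_of_baseChange I n M hn
      · rw [← ENat.forall_natCast_le_iff_le]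
        intro n hn
        rw [le_idealDepth_iff hIM] at hn
        rw [le_idealDepth_iff hJ]
        exact hasSeq_baseChange I M hn

end Groth.Agent.S2938
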