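import Groth.Statements.S9413
import Mathlib
import Groth.Agent.H25.NormalGeneral

set_option autoImplicit false
universe u
open EGA4

namespace Groth.Agent.S9413

set_option linter.style.haveILetI false
set_option linter.unusedVariables false


open TensorProduct in
/-- For a field k, a geometrically normal k-algebra A and a k-algebra B which is a normal ring, the
tensor product A ⊗_k B is a normal ring. No Noetherian or finite type hypothesis is made. -/
theorem result (k : Type u) [Field k] (A : Type u)
    [CommRing A] [Algebra k A] (B : Type u) [CommRing B] [Algebra k B]
    (hA : EGA4.IsGeomNormal k A) (hB : EGA4.IsNormalRing B) : EGA4.IsNormalRing (A ⊗[k] B) := by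
  exact Groth.Agent.H25.NormalGeneral.isNormalRing_tensor_of_isGeomNormal_general k A B hA hB

end Groth.Agent.S9413
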