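import Groth.Statements.S6464
-- import your own Groth.Agent.* helpers here

set_option autoImplicit false
universe u v
open CycAlg

namespace Groth.Agent.S6464

theorem len_ker_add_range {R : Type u} [CommRing R] {M N : Type v} [AddCommGroup M] [Module R M]
    [AddCommGroup N] [Module R N] (φ : M →ₗ[R] N) :
    Module.length R M = Module.length R (LinearMap.ker φ) + Module.length R (LinearMap.range φ) :=
  Module.length_eq_add_of_exact (LinearMap.ker φ).subtype φ.rangeRestrict
    (Submodule.subtype_injective _) φ.surjective_rangeRestrict (by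
      rw [LinearMap.exact_iff, LinearMap.ker_rangeRestrict, Submodule.range_subtype])

theorem len_ker_eq {R : Type u} [CommRing R] {M N : Type v} [AddCommGroup M] [Module R M]
    [AddCommGroup N] [Module R N] (φ : M →ₗ[R] N) (ψ : N →ₗ[R] M) (h : φ ∘ₗ ψ = 0) :
    Module.length R (LinearMap.ker φ) =
      Module.length R (LinearMap.range ψ) + Module.length R (CycAlg.perH φ ψ) := by
  have hle : LinearMap.range ψ ≤ LinearMap.ker φ := by
    rw [LinearMap.range_le_ker_iff]; exact h
  rw [← (Submodule.submoduleOfEquivOfLe hle).length_eq]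
  exact Module.length_eq_add_of_exact
    ((LinearMap.range ψ).submoduleOf (LinearMap.ker φ)).subtype
    ((LinearMap.range ψ).submoduleOf (LinearMap.ker φ)).mkQ
    (Submodule.subtype_injective _) (Submodule.mkQ_surjective _)
    (LinearMap.exact_subtype_mkQ _)

/-- Let (M, N, φ, ψ) be a 2-periodic complex over a ring R with M and N of finite length. Then its
cohomology modules have finite length and e_R(M, N, φ, ψ) = length_R(M) − length_R(N). (The case M =
N, where the conclusion reads e_R(M, φ, ψ) = 0, is the special case and is not restated.) -/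
theorem result {R : Type u} [CommRing R] {M N : Type v} [AddCommGroup M] [Module R M] [AddCommGroup N] [Module R N] (φ : M →ₗ[R] N) (ψ : N →ₗ[R] M) (h : CycAlg.IsPeriodic φ ψ) (hM : Module.length R M < ⊤) (hN : Module.length R N < ⊤) : CycAlg.FinCoh R φ ψ ∧ CycAlg.herbrand R φ ψ = ((Module.length R M).toNat : ℤ) - ((Module.length R N).toNat : ℤ) := by
  obtain ⟨h1, h2⟩ := h
  have eM := len_ker_add_range φ
  have eN := len_ker_add_range ψ
  have e0 := len_ker_eq φ ψ h1
  have e1 := len_ker_eq ψ φ h2
  rw [e0] at eM
  rw [e1] at eN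
  -- all the pieces are finite
  have hfin : Module.length R (LinearMap.range ψ) < ⊤ ∧ Module.length R (CycAlg.perH φ ψ) < ⊤ ∧
      Module.length R (LinearMap.range φ) < ⊤ ∧ Module.length R (CycAlg.perH ψ φ) < ⊤ := by
    rw [eM] at hM
    rw [eN] at hN
    simp only [ENat.add_lt_top] at hM hN
    exact ⟨hM.1.1, hM.1.2, hM.2, hN.1.2⟩
  obtain ⟨f1, f2, f3, f4⟩ := hfin
  refine ⟨⟨f2, f4⟩, ?_⟩
  unfold CycAlg.herbrand
  lift Module.length R (LinearMap.range ψ) to ℕ using f1.ne with a ha
  lift Module.length R (CycAlg.perH φ ψ) to ℕ using f2.ne with b hb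
  lift Module.length R (LinearMap.range φ) to ℕ using f3.ne with c hc
  lift Module.length R (CycAlg.perH ψ φ) to ℕ using f4.ne with d hd
  rw [eM, eN]
  have hx : ((a : ℕ∞) + b + c).toNat = a + b + c := by norm_cast
  have hy : ((c : ℕ∞) + d + a).toNat = c + d + a := by norm_cast
  rw [hx, hy, ENat.toNat_natCast, ENat.toNat_natCast]
  push_cast
  ring

end Groth.Agent.S6464
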