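import Groth.Statements.S1870
import Groth.Agent.S1869
import Groth.Agent.S6464

set_option autoImplicit false
universe u v
open CycAlg

namespace Groth.Agent.S1870

/-- A morphism of (2,1)-periodic complexes, both with finite-length cohomology, whose kernel and
cokernel have finite length does not change the additive Herbrand quotient: e_R(M, φ, ψ) = e_R(M',
φ', ψ'). -/
theorem result {R : Type u} [CommRing R] {M M' : Type v} [AddCommGroup M] [Module R M] [AddCommGroup M'] [Module R M'] (φ ψ : M →ₗ[R] M) (φ' ψ' : M' →ₗ[R] M') (h : CycAlg.IsPeriodic φ ψ) (h' : CycAlg.IsPeriodic φ' ψ') (f : M →ₗ[R] M') (cφ : φ' ∘ₗ f = f ∘ₗ φ) (cψ : ψ' ∘ₗ f = f ∘ₗ ψ) (hfin : CycAlg.FinCoh R φ ψ) (hfin' : CycAlg.FinCoh R φ' ψ') (hker : Module.length R (LinearMap.ker f) < ⊤) (hcoker : Module.length R (M' ⧸ LinearMap.range f) < ⊤) : CycAlg.herbrand R φ ψ = CycAlg.herbrand R φ' ψ' := by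
  have hφf : ∀ x, φ' (f x) = f (φ x) := fun x => LinearMap.congr_fun cφ x
  have hψf : ∀ x, ψ' (f x) = f (ψ x) := fun x => LinearMap.congr_fun cψ x
  have hφψ : ∀ x, φ (ψ x) = 0 := fun x => LinearMap.congr_fun h.1 x
  have hψφ : ∀ x, ψ (φ x) = 0 := fun x => LinearMap.congr_fun h.2 x
  have hφψ' : ∀ x, φ' (ψ' x) = 0 := fun x => LinearMap.congr_fun h'.1 x
  have hψφ' : ∀ x, ψ' (φ' x) = 0 := fun x => LinearMap.congr_fun h'.2 x
  -- kernel complex
  have hKφ : ∀ x ∈ LinearMap.ker f, φ x ∈ LinearMap.ker f := by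
    intro x hx
    rw [LinearMap.mem_ker, ← hφf, LinearMap.mem_ker.mp hx, map_zero]
  have hKψ : ∀ x ∈ LinearMap.ker f, ψ x ∈ LinearMap.ker f := by
    intro x hx
    rw [LinearMap.mem_ker, ← hψf, LinearMap.mem_ker.mp hx, map_zero]
  obtain ⟨φK, hφK⟩ : ∃ φK : ↥(LinearMap.ker f) →ₗ[R] ↥(LinearMap.ker f),
      ∀ x, (φK x : M) = φ x := ⟨φ.restrict hKφ, fun x => rfl⟩
  obtain ⟨ψK, hψK⟩ : ∃ ψK : ↥(LinearMap.ker f) →ₗ[R] ↥(LinearMap.ker f),
      ∀ x, (ψK x : M) = ψ x := ⟨ψ.restrict hKψ, fun x => rfl⟩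
  have hperK : CycAlg.IsPeriodic φK ψK := by
    constructor
    · apply LinearMap.ext
      intro x
      apply Subtype.ext
      show (φK (ψK x) : M) = 0
      rw [hφK, hψK, hφψ]
    · apply LinearMap.ext
      intro x
      apply Subtype.ext
      show (ψK (φK x) : M) = 0
      rw [hψK, hφK, hψφ]
  -- image complex
  have hIφ : ∀ y ∈ LinearMap.range f, φ' y ∈ LinearMap.range f := by
    rintro _ ⟨x, rfl⟩
    exact ⟨φ x, (hφf x).symm⟩
  have hIψ : ∀ y ∈ LinearMap.range f, ψ' y ∈ LinearMap.range f := by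
    rintro _ ⟨x, rfl⟩
    exact ⟨ψ x, (hψf x).symm⟩
  obtain ⟨φI, hφI⟩ : ∃ φI : ↥(LinearMap.range f) →ₗ[R] ↥(LinearMap.range f),
      ∀ y, (φI y : M') = φ' y := ⟨φ'.restrict hIφ, fun y => rfl⟩
  obtain ⟨ψI, hψI⟩ : ∃ ψI : ↥(LinearMap.range f) →ₗ[R] ↥(LinearMap.range f),
      ∀ y, (ψI y : M') = ψ' y := ⟨ψ'.restrict hIψ, fun y => rfl⟩
  have hperI : CycAlg.IsPeriodic φI ψI := by
    constructor
    · apply LinearMap.ext
      intro x
      apply Subtype.ext
      show (φI (ψI x) : M') = 0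
      rw [hφI, hψI, hφψ']
    · apply LinearMap.ext
      intro x
      apply Subtype.ext
      show (ψI (φI x) : M') = 0
      rw [hψI, hφI, hψφ']
  -- quotient complex
  obtain ⟨φQ, hφQ⟩ : ∃ φQ : (M' ⧸ LinearMap.range f) →ₗ[R] (M' ⧸ LinearMap.range f),
      ∀ y, φQ (Submodule.Quotient.mk y) = Submodule.Quotient.mk (φ' y) :=
    ⟨Submodule.mapQ _ _ φ' (fun y hy => hIφ y hy), fun y => rfl⟩
  obtain ⟨ψQ, hψQ⟩ : ∃ ψQ : (M' ⧸ LinearMap.range f) →ₗ[R] (M' ⧸ LinearMap.range f),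
      ∀ y, ψQ (Submodule.Quotient.mk y) = Submodule.Quotient.mk (ψ' y) :=
    ⟨Submodule.mapQ _ _ ψ' (fun y hy => hIψ y hy), fun y => rfl⟩
  have hperQ : CycAlg.IsPeriodic φQ ψQ := by
    constructor
    · apply LinearMap.ext
      intro x
      obtain ⟨y, rfl⟩ := Submodule.Quotient.mk_surjective _ x
      show φQ (ψQ (Submodule.Quotient.mk y)) = 0
      rw [hψQ, hφQ, hφψ', Submodule.Quotient.mk_zero]
    · apply LinearMap.ext
      intro x
      obtain ⟨y, rfl⟩ := Submodule.Quotient.mk_surjective _ x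
      show ψQ (φQ (Submodule.Quotient.mk y)) = 0
      rw [hφQ, hψQ, hψφ', Submodule.Quotient.mk_zero]
  -- finite-length pieces
  obtain ⟨hFinK, hK0⟩ := Groth.Agent.S6464.result φK ψK hperK hker hker
  obtain ⟨hFinQ, hQ0⟩ := Groth.Agent.S6464.result φQ ψQ hperQ hcoker hcoker
  rw [sub_self] at hK0 hQ0
  -- first short exact sequence
  obtain ⟨-, -, hFinI, hherb1⟩ := Groth.Agent.S1869.result φK ψK φ ψ φI ψI hperK h hperI
    (LinearMap.ker f).subtype (LinearMap.ker f).subtype f.rangeRestrict f.rangeRestrict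
    (LinearMap.ext fun x => (hφK x).symm) (LinearMap.ext fun x => (hψK x).symm)
    (LinearMap.ext fun x => Subtype.ext (by
      show (φI (f.rangeRestrict x) : M') = f (φ x)
      rw [hφI]
      exact hφf x))
    (LinearMap.ext fun x => Subtype.ext (by
      show (ψI (f.rangeRestrict x) : M') = f (ψ x)
      rw [hψI]
      exact hψf x))
    (Submodule.subtype_injective _) (Submodule.subtype_injective _)
    f.surjective_rangeRestrict f.surjective_rangeRestrict
    (by rw [Submodule.range_subtype, LinearMap.ker_rangeRestrict])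
    (by rw [Submodule.range_subtype, LinearMap.ker_rangeRestrict])
    (Or.inl ⟨hFinK, hfin⟩)
  -- second short exact sequence
  obtain ⟨-, -, -, hherb2⟩ := Groth.Agent.S1869.result φI ψI φ' ψ' φQ ψQ hperI h' hperQ
    (LinearMap.range f).subtype (LinearMap.range f).subtype
    (LinearMap.range f).mkQ (LinearMap.range f).mkQ
    (LinearMap.ext fun y => (hφI y).symm) (LinearMap.ext fun y => (hψI y).symm)
    (LinearMap.ext fun y => hφQ y) (LinearMap.ext fun y => hψQ y)
    (Submodule.subtype_injective _) (Submodule.subtype_injective _)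
    (Submodule.mkQ_surjective _) (Submodule.mkQ_surjective _)
    (by rw [Submodule.range_subtype, Submodule.ker_mkQ])
    (by rw [Submodule.range_subtype, Submodule.ker_mkQ])
    (Or.inr (Or.inr ⟨hfin', hFinQ⟩))
  rw [hherb1, hherb2, hK0, hQ0, zero_add, add_zero]

end Groth.Agent.S1870
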