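import Groth.Statements.S1831
import Groth.Agent.H94.NilHerbrand

set_option autoImplicit false
universe u v
open CycAlg

namespace Groth.Agent.S1831

/-- If φ is an endomorphism of M with φ^n = 0 (n > 0) and ker φ / im φ^(n-1) has finite length, then for
each 0 ≤ i ≤ n the (2,1)-periodic complex (M, φ^i, φ^(n-i)) has finite-length cohomology modules and
its Herbrand quotient vanishes. -/
theorem result {R : Type u} [CommRing R] {M : Type v} [AddCommGroup M] [Module R M] (φ : M →ₗ[R] M) (n : ℕ) (hn : 0 < n) (hφ : φ ^ n = 0) (hfin : Module.length R (CycAlg.perH φ (φ ^ (n - 1))) < ⊤) (i : ℕ) (hi : i ≤ n) : CycAlg.FinCoh R (φ ^ i) (φ ^ (n - i)) ∧ CycAlg.herbrand R (φ ^ i) (φ ^ (n - i)) = 0 := by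
  have hfin' : Groth.Agent.H94.RelLen.relLen (Groth.Agent.H94.RelLen.Kk φ 1)
      (Groth.Agent.H94.RelLen.Ii φ (n - 1)) < ⊤ := by
    unfold Groth.Agent.H94.RelLen.Kk Groth.Agent.H94.RelLen.Ii
    rw [pow_one]
    exact hfin
  obtain ⟨h1, h2⟩ := Groth.Agent.H94.RelLen.nil_main φ n hn hφ hfin' i hi
  have e : n - (n - i) = i := by omega
  rw [e] at h2
  have h3 : Groth.Agent.H94.RelLen.relLen (Groth.Agent.H94.RelLen.Kk φ (n - i))
      (Groth.Agent.H94.RelLen.Ii φ i) < ⊤ := h2 ▸ h1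
  have k1 : Module.length R (CycAlg.perH (φ ^ i) (φ ^ (n - i))) =
      Groth.Agent.H94.RelLen.relLen (Groth.Agent.H94.RelLen.Kk φ i)
      (Groth.Agent.H94.RelLen.Ii φ (n - i)) := rfl
  have k2 : Module.length R (CycAlg.perH (φ ^ (n - i)) (φ ^ i)) =
      Groth.Agent.H94.RelLen.relLen (Groth.Agent.H94.RelLen.Kk φ (n - i))
      (Groth.Agent.H94.RelLen.Ii φ i) := rfl
  refine ⟨⟨?_, ?_⟩, ?_⟩
  · rw [k1]; exact h1
  · rw [k2]; exact h3
  · unfold CycAlg.herbrand
    rw [k1, k2, h2, sub_self]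

end Groth.Agent.S1831
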