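import Groth.Statements.S1832
import Groth.Agent.H34.RelLen

set_option autoImplicit false
universe u v
open Pointwise
open CycAlg

namespace Groth.Agent.S1832

open Groth.Agent.H34.RelLen

section aux

variable {R : Type u} [CommRing R]

/-- For a finite module over a Noetherian ring: dimension at most zero implies finite length. -/
theorem isFiniteLength_of_supportDim_le_zero [IsNoetherianRing R] (N : Type v) [AddCommGroup N]
    [Module R N] [Module.Finite R N] (h : Module.supportDim R N ≤ 0) : IsFiniteLength R N := by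
  rw [Module.supportDim_eq_ringKrullDim_quotient_annihilator] at h
  letI : Module (R ⧸ Module.annihilator R N) N := Module.quotientAnnihilator
  haveI : IsScalarTower R (R ⧸ Module.annihilator R N) N := inferInstance
  haveI hfin : Module.Finite (R ⧸ Module.annihilator R N) N :=
    Module.Finite.of_restrictScalars_finite R _ _
  have hK : Ring.KrullDimLE 0 (R ⧸ Module.annihilator R N) :=
    Ring.krullDimLE_iff.mpr (by exact_mod_cast h)
  have hAR : IsArtinianRing (R ⧸ Module.annihilator R N) :=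
    isArtinianRing_iff_krullDimLE_zero.mpr hK
  have h1 : IsArtinian (R ⧸ Module.annihilator R N) N := inferInstance
  have h2 : IsArtinian R N :=
    isArtinian_of_surjective_algebraMap (R := R ⧸ Module.annihilator R N)
      Ideal.Quotient.mk_surjective
  exact isFiniteLength_iff_isNoetherian_isArtinian.mpr ⟨inferInstance, h2⟩

variable {V : Type v} [AddCommGroup V] [Module R V] {W : Type v} [AddCommGroup W] [Module R W]

/-- Relative length is preserved by a linear map whose kernel inside `N` lies in `K`. -/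
theorem rl_map_of_ker (f : V →ₗ[R] W) (N K : Submodule R V) (hKN : K ≤ N)
    (hker : LinearMap.ker f ⊓ N ≤ K) : rl (N.map f) (K.map f) = rl N K := by
  unfold rl
  let g : ↥N →ₗ[R] (↥(N.map f) ⧸ (K.map f).submoduleOf (N.map f)) :=
    ((K.map f).submoduleOf (N.map f)).mkQ ∘ₗ f.submoduleMap N
  have hg : Function.Surjective g :=
    (Submodule.mkQ_surjective _).comp (f.submoduleMap_surjective N)
  have hkg : LinearMap.ker g = K.submoduleOf N := by
    ext ⟨n, hn⟩
    rw [LinearMap.mem_ker]
    show ((K.map f).submoduleOf (N.map f)).mkQ (f.submoduleMap N ⟨n, hn⟩) = 0 ↔ _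
    rw [Submodule.mkQ_apply, Submodule.Quotient.mk_eq_zero]
    show f n ∈ K.map f ↔ n ∈ K
    constructor
    · rintro ⟨k, hk, hkn⟩
      have h1 : n - k ∈ LinearMap.ker f ⊓ N := by
        refine ⟨?_, N.sub_mem hn (hKN hk)⟩
        show n - k ∈ LinearMap.ker f
        rw [LinearMap.mem_ker, map_sub, hkn, sub_self]
      have h2 := K.add_mem (hker h1) hk
      simpa using h2
    · intro h
      exact ⟨n, h, rfl⟩
  have e := LinearMap.quotKerEquivOfSurjective g hg
  rw [← e.length_eq, hkg]

variable [IsNoetherianRing R] [Module.Finite R V]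

/-- A subquotient of `V` killed by `x` has finite length when `V/xV` has dimension ≤ 0. -/
theorem rl_lt_top_of_smul (N K : Submodule R V) (x : R) (h : ∀ n ∈ N, x • n ∈ K)
    (hx : Module.supportDim R (V ⧸ x • (⊤ : Submodule R V)) ≤ 0) : rl N K < ⊤ := by
  unfold rl
  rw [lt_top_iff_ne_top, Module.length_ne_top_iff]
  apply isFiniteLength_of_supportDim_le_zero
  refine le_trans ?_ hx
  have hsub : Module.support R (↥N ⧸ K.submoduleOf N) ⊆
      Module.support R (V ⧸ x • (⊤ : Submodule R V)) := by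
    intro p hp
    have h1 : p ∈ Module.support R V :=
      Module.support_subset_of_injective N.subtype N.subtype_injective
        (Module.support_subset_of_surjective (K.submoduleOf N).mkQ
          (Submodule.mkQ_surjective _) hp)
    have h2 : x ∈ p.asIdeal := by
      have h3 := Module.mem_support_iff_of_finite.mp hp
      apply h3
      rw [Module.mem_annihilator]
      intro q
      obtain ⟨n, rfl⟩ := Submodule.Quotient.mk_surjective _ q
      rw [← Submodule.Quotient.mk_smul, Submodule.Quotient.mk_eq_zero]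
      exact h n.1 n.2
    have h4 : p ∈ Module.support R (QuotSMulTop x V) := by
      rw [Module.support_quotSMulTop]
      refine ⟨h1, ?_⟩
      rw [PrimeSpectrum.mem_zeroLocus, Set.singleton_subset_iff]
      exact h2
    exact h4
  exact Order.krullDim_le_of_strictMono (fun a ↦ ⟨a.1, hsub a.2⟩) (fun a b hab ↦ hab)

end aux

section main

variable {R : Type u} [CommRing R] [IsNoetherianRing R] {M : Type v} [AddCommGroup M]
  [Module R M] [Module.Finite R M]

theorem first (φ ψ : M →ₗ[R] M) (hper : CycAlg.IsPeriodic φ ψ) (hfin : CycAlg.FinCoh R φ ψ)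
    (x : R) (hx : Module.supportDim R (M ⧸ x • (⊤ : Submodule R M)) ≤ 0) :
    CycAlg.FinCoh R (x • φ) ψ ∧ CycAlg.herbrand R (x • φ) ψ = CycAlg.herbrand R φ ψ -
      CycAlg.herbrand R (0 : ↥(LinearMap.range φ) →ₗ[R] ↥(LinearMap.range φ))
        (x • LinearMap.id) := by
  obtain ⟨hp1, hp2⟩ := hper
  have hψφ : LinearMap.range ψ ≤ LinearMap.ker φ := by
    rintro _ ⟨m, rfl⟩
    exact LinearMap.congr_fun hp1 m
  have hφψ : LinearMap.range φ ≤ LinearMap.ker ψ := by
    rintro _ ⟨m, rfl⟩
    exact LinearMap.congr_fun hp2 m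
  have hk : LinearMap.ker φ ≤ LinearMap.ker (x • φ) := by
    intro m hm
    rw [LinearMap.mem_ker] at hm ⊢
    rw [LinearMap.smul_apply, hm, smul_zero]
  have hr : LinearMap.range (x • φ) ≤ LinearMap.range φ := by
    rintro _ ⟨m, rfl⟩
    exact ⟨x • m, by rw [LinearMap.smul_apply, map_smul]⟩
  have e0 : rl (LinearMap.ker (x • φ)) (LinearMap.range ψ) =
      rl (LinearMap.ker φ) (LinearMap.range ψ) + rl (LinearMap.ker (x • φ)) (LinearMap.ker φ) :=
    rl_add hψφ hk
  have e1 : rl (LinearMap.ker ψ) (LinearMap.range (x • φ)) =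
      rl (LinearMap.range φ) (LinearMap.range (x • φ)) +
        rl (LinearMap.ker ψ) (LinearMap.range φ) :=
    rl_add hr hφψ
  -- identify a
  have ea : rl (LinearMap.ker (0 : ↥(LinearMap.range φ) →ₗ[R] ↥(LinearMap.range φ)))
      (LinearMap.range (x • LinearMap.id : ↥(LinearMap.range φ) →ₗ[R] ↥(LinearMap.range φ))) =
      rl (LinearMap.range φ) (LinearMap.range (x • φ)) := by
    rw [← rl_map_of_ker (LinearMap.range φ).subtype _ _ (by rw [LinearMap.ker_zero]; exact le_top)
      (by rw [Submodule.ker_subtype]; exact inf_le_left.trans bot_le)]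
    congr 1
    · rw [LinearMap.ker_zero, Submodule.map_top, Submodule.range_subtype]
    · ext y
      constructor
      · rintro ⟨_, ⟨⟨_, ⟨m, rfl⟩⟩, rfl⟩, rfl⟩
        exact ⟨m, rfl⟩
      · rintro ⟨m, rfl⟩
        exact ⟨x • ⟨φ m, ⟨m, rfl⟩⟩, ⟨⟨φ m, ⟨m, rfl⟩⟩, rfl⟩, rfl⟩
  -- identify b
  have eb : rl (LinearMap.ker (x • LinearMap.id : ↥(LinearMap.range φ) →ₗ[R] ↥(LinearMap.range φ)))
      (LinearMap.range (0 : ↥(LinearMap.range φ) →ₗ[R] ↥(LinearMap.range φ))) =
      rl (LinearMap.ker (x • φ)) (LinearMap.ker φ) := by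
    rw [← rl_map_of_ker (LinearMap.range φ).subtype _ _
      (by rw [LinearMap.range_zero]; exact bot_le)
      (by rw [Submodule.ker_subtype]; exact inf_le_left.trans bot_le),
      ← rl_map_of_ker φ _ _ hk inf_le_left]
    congr 1
    · ext y
      constructor
      · rintro ⟨⟨_, ⟨m, rfl⟩⟩, hm, rfl⟩
        refine ⟨m, ?_, rfl⟩
        have hm' := LinearMap.mem_ker.mp hm
        exact LinearMap.mem_ker.mpr (congrArg Subtype.val hm')
      · rintro ⟨m, hm, rfl⟩
        refine ⟨⟨φ m, ⟨m, rfl⟩⟩, ?_, rfl⟩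
        have hm' := LinearMap.mem_ker.mp hm
        exact LinearMap.mem_ker.mpr (Subtype.ext hm')
    · rw [LinearMap.range_zero, Submodule.map_bot]
      symm
      rw [eq_bot_iff]
      rintro _ ⟨m, hm, rfl⟩
      exact hm
  have fa : rl (LinearMap.range φ) (LinearMap.range (x • φ)) < ⊤ := by
    apply rl_lt_top_of_smul _ _ x _ hx
    rintro _ ⟨m, rfl⟩
    exact ⟨m, rfl⟩
  have fb : rl (LinearMap.ker (x • φ)) (LinearMap.ker φ) < ⊤ := by
    apply rl_lt_top_of_smul _ _ x _ hx
    intro m hm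
    rw [LinearMap.mem_ker] at hm ⊢
    rw [map_smul]
    exact hm
  have f0 : rl (LinearMap.ker φ) (LinearMap.range ψ) < ⊤ := hfin.1
  have f1 : rl (LinearMap.ker ψ) (LinearMap.range φ) < ⊤ := hfin.2
  refine ⟨⟨?_, ?_⟩, ?_⟩
  · show rl (LinearMap.ker (x • φ)) (LinearMap.range ψ) < ⊤
    rw [e0]
    exact ENat.add_lt_top.mpr ⟨f0, fb⟩
  · show rl (LinearMap.ker ψ) (LinearMap.range (x • φ)) < ⊤
    rw [e1]
    exact ENat.add_lt_top.mpr ⟨fa, f1⟩
  · show ((rl (LinearMap.ker (x • φ)) (LinearMap.range ψ)).toNat : ℤ) -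
        ((rl (LinearMap.ker ψ) (LinearMap.range (x • φ))).toNat : ℤ) =
      (((rl (LinearMap.ker φ) (LinearMap.range ψ)).toNat : ℤ) -
        ((rl (LinearMap.ker ψ) (LinearMap.range φ)).toNat : ℤ)) -
      (((rl (LinearMap.ker (0 : ↥(LinearMap.range φ) →ₗ[R] ↥(LinearMap.range φ)))
        (LinearMap.range (x • LinearMap.id :
          ↥(LinearMap.range φ) →ₗ[R] ↥(LinearMap.range φ)))).toNat : ℤ) -
      ((rl (LinearMap.ker (x • LinearMap.id : ↥(LinearMap.range φ) →ₗ[R] ↥(LinearMap.range φ)))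
        (LinearMap.range (0 : ↥(LinearMap.range φ) →ₗ[R] ↥(LinearMap.range φ)))).toNat : ℤ))
    rw [ea, eb, e0, e1, ENat.toNat_add f0.ne fb.ne, ENat.toNat_add fa.ne f1.ne]
    push_cast
    ring

end main

/-- Over a Noetherian local ring, let (M, φ, ψ) be a (2,1)-periodic complex with M finite and cohomology
of finite length, and let x be a ring element with M/xM supported in dimension ≤ 0. Then (M, xφ, ψ)
and (M, φ, xψ) again have finite-length cohomology, and their Herbrand quotients differ from that of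
(M, φ, ψ) by the Herbrand quotient of (im φ, 0, x), respectively (im ψ, 0, x). -/
theorem result {R : Type u} [CommRing R] [IsNoetherianRing R] [IsLocalRing R] {M : Type v} [AddCommGroup M] [Module R M] [Module.Finite R M] (φ ψ : M →ₗ[R] M) (hper : CycAlg.IsPeriodic φ ψ) (hfin : CycAlg.FinCoh R φ ψ) (x : R) (hx : Module.supportDim R (M ⧸ x • (⊤ : Submodule R M)) ≤ 0) : (CycAlg.FinCoh R (x • φ) ψ ∧ CycAlg.herbrand R (x • φ) ψ = CycAlg.herbrand R φ ψ - CycAlg.herbrand R (0 : ↥(LinearMap.range φ) →ₗ[R] ↥(LinearMap.range φ)) (x • LinearMap.id)) ∧ (CycAlg.FinCoh R φ (x • ψ) ∧ CycAlg.herbrand R φ (x • ψ) = CycAlg.herbrand R φ ψ + CycAlg.herbrand R (0 : ↥(LinearMap.range ψ) →ₗ[R] ↥(LinearMap.range ψ)) (x • LinearMap.id)) := by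
  refine ⟨first φ ψ hper hfin x hx, ?_⟩
  obtain ⟨h1, h2⟩ := first ψ φ ⟨hper.2, hper.1⟩ ⟨hfin.2, hfin.1⟩ x hx
  refine ⟨⟨h1.2, h1.1⟩, ?_⟩
  have e1 : CycAlg.herbrand R φ (x • ψ) = - CycAlg.herbrand R (x • ψ) φ := by
    unfold CycAlg.herbrand; ring
  have e2 : CycAlg.herbrand R φ ψ = - CycAlg.herbrand R ψ φ := by
    unfold CycAlg.herbrand; ring
  rw [e1, h2, e2]
  ring

end Groth.Agent.S1832
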