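import Groth.Statements.S6880
import Groth.Agent.H71.SkReflexive

set_option autoImplicit false
universe u
open CAlg

namespace Groth.Agent.S6880

/-- Let `R` be a Noetherian domain and `M` a finite reflexive `R`-module. For a prime `𝔭` with
`depth(R_𝔭) ≥ 2` one has `depth(M_𝔭) ≥ 2`; and if `R` has `(S_2)` then `M` has `(S_2)`. -/
theorem result (R : Type u) [CommRing R] [IsDomain R] [IsNoetherianRing R] (M : Type u)
    [AddCommGroup M] [Module R M] [Module.Finite R M] [Module.IsReflexive R M] :
    (∀ (p : Ideal R) [p.IsPrime], 2 ≤ LocCoh.depth (Localization.AtPrime p) (Localization.AtPrime p) →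
      2 ≤ LocCoh.depth (Localization.AtPrime p) (LocalizedModule p.primeCompl M)) ∧
    (LocCoh.HasSk 2 R R → LocCoh.HasSk 2 R M) := by
  refine ⟨fun p hp h => ?_, Groth.Agent.H71.SK.reflexive_hasSk_two R M⟩
  have h0 := Groth.Agent.H71.HC.le_depth_localizedModule_self p 2
    (by rw [Nat.cast_ofNat]; exact h)
  have h1 := Groth.Agent.H71.SK.reflexive_depth_localized R M p 2 le_rfl h0
  rwa [Nat.cast_ofNat] at h1

end Groth.Agent.S6880
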