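import Groth.Statements.S6876
import Groth.Agent.H26.DepthLib

set_option autoImplicit false
universe u
open CAlg

namespace Groth.Agent.S6876

/-- Let `R` be a Noetherian local ring and `M, N` finite `R`-modules. If `N` has depth `≥ 1` then so
does `Hom_R(M, N)`; if `N` has depth `≥ 2` then so does `Hom_R(M, N)`. -/
theorem result (R : Type u) [CommRing R] [IsNoetherianRing R] [IsLocalRing R]
    (M N : Type u) [AddCommGroup M] [Module R M] [Module.Finite R M] [AddCommGroup N] [Module R N] [Module.Finite R N] :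
    (1 ≤ LocCoh.depth R N → 1 ≤ LocCoh.depth R (M →ₗ[R] N)) ∧
    (2 ≤ LocCoh.depth R N → 2 ≤ LocCoh.depth R (M →ₗ[R] N)) := by
  unfold LocCoh.depth
  by_cases hI : IsLocalRing.maximalIdeal R • (⊤ : Submodule R N) = ⊤
  · -- Nakayama: N = 0
    have h1 : (⊤ : Submodule R N) = ⊥ :=
      Submodule.eq_bot_of_le_smul_of_le_jacobson_bot (IsLocalRing.maximalIdeal R) ⊤
        Module.Finite.fg_top (le_of_eq hI.symm) (IsLocalRing.maximalIdeal_le_jacobson ⊥)
    haveI : Subsingleton N := by
      refine ⟨fun a b => ?_⟩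
      have ha : a ∈ (⊤ : Submodule R N) := Submodule.mem_top
      have hb : b ∈ (⊤ : Submodule R N) := Submodule.mem_top
      rw [h1, Submodule.mem_bot] at ha hb
      rw [ha, hb]
    haveI : Subsingleton (M →ₗ[R] N) :=
      ⟨fun a b => LinearMap.ext fun m => Subsingleton.elim _ _⟩
    have hH : LocCoh.idealDepth (IsLocalRing.maximalIdeal R) (M →ₗ[R] N) = ⊤ :=
      Groth.Agent.H26.DepthLib.idealDepth_eq_top_of_subsingleton _
    rw [hH]
    exact ⟨fun _ => le_top, fun _ => le_top⟩
  · constructor
    · intro h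
      obtain ⟨rs, hlen, hreg, hmem⟩ := Groth.Agent.H26.DepthLib.exists_of_le_idealDepth
        (IsLocalRing.maximalIdeal R) 1 (by exact_mod_cast h) hI
      obtain ⟨x, rfl⟩ := List.length_eq_one_iff.1 hlen
      rw [RingTheory.Sequence.isWeaklyRegular_singleton_iff] at hreg
      have h2 : RingTheory.Sequence.IsWeaklyRegular (M →ₗ[R] N) [x] := by
        rw [RingTheory.Sequence.isWeaklyRegular_singleton_iff]
        exact Groth.Agent.H26.DepthLib.isSMulRegular_hom hreg
      have h3 := Groth.Agent.H26.DepthLib.length_le_idealDepth (IsLocalRing.maximalIdeal R) h2 hmem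
      exact_mod_cast h3
    · intro h
      obtain ⟨rs, hlen, hreg, hmem⟩ := Groth.Agent.H26.DepthLib.exists_of_le_idealDepth
        (IsLocalRing.maximalIdeal R) 2 (by exact_mod_cast h) hI
      obtain ⟨x, y, rfl⟩ := List.length_eq_two.1 hlen
      have h2 := Groth.Agent.H26.DepthLib.isWeaklyRegular_hom_pair (M := M) hreg
      have h3 := Groth.Agent.H26.DepthLib.length_le_idealDepth (IsLocalRing.maximalIdeal R) h2 hmem
      exact_mod_cast h3

end Groth.Agent.S6876
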