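import Groth.Statements.S1918
import Groth.Agent.H85.CycImm
import Groth.Agent.H85.CycDivFin

set_option autoImplicit false
universe u
open CategoryTheory AlgebraicGeometry
open CategoryTheory.Limits
open Cyc

namespace Groth.Agent.S1918

section helpers

open CategoryTheory CategoryTheory.Limits AlgebraicGeometry Topology

set_option linter.style.haveILetI false

theorem finsum_split {I : Type*} (P : I → Prop) [DecidablePred P] (F : I → ℤ)
    (hF : (Function.support F).Finite) :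
    ∑ᶠ i, F i = (∑ᶠ i : {i // P i}, F i.1) + ∑ᶠ i : {i // ¬ P i}, F i.1 := by
  rw [finsum_subtype_eq_finsum_cond (f := F) P,
    finsum_subtype_eq_finsum_cond (f := F) (fun i => ¬ P i)]
  have e1 : ∀ i, (∑ᶠ (_ : P i), F i) = if P i then F i else 0 := fun i => finsum_eq_if
  have e2 : ∀ i, (∑ᶠ (_ : ¬ P i), F i) = if ¬ P i then F i else 0 := fun i => finsum_eq_if
  rw [finsum_congr e1, finsum_congr e2, ← finsum_add_distrib]
  · refine finsum_congr (fun i => ?_)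
    by_cases h : P i <;> simp [h]
  · refine hF.subset (fun i hi => ?_)
    simp only [Function.mem_support] at hi ⊢
    intro h0
    apply hi
    simp [h0]
  · refine hF.subset (fun i hi => ?_)
    simp only [Function.mem_support] at hi ⊢
    intro h0
    apply hi
    simp [h0]

theorem map_apply_of_injective {Y X : Scheme.{u}} (j : Y ⟶ X) [QuasiCompact j]
    (hinj : Function.Injective j) (hdeg : ∀ y, j.residueDegree y = 1) (wy : Y → ℤ) (wx : X → ℤ)
    (hw : ∀ y, wy y = wx (j y)) (c : AlgebraicCycle Y ℤ) (y : Y) :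
    AlgebraicCycle.map j wy wx c (j y) = c y := by
  unfold AlgebraicCycle.map
  rw [Function.locallyFinsupp.map_apply]
  have hpre : (j ⁻¹' {j y} : Set Y) = {y} := by
    ext y'
    simp [hinj.eq_iff]
  rw [hpre, finsum_mem_singleton]
  unfold AlgebraicCycle.mapCoeff
  rw [if_pos (hw y), hdeg]
  simp

theorem map_apply_of_notMem_range {Y X : Scheme.{u}} (j : Y ⟶ X) [QuasiCompact j]
    (wy : Y → ℤ) (wx : X → ℤ) (c : AlgebraicCycle Y ℤ) (x : X) (hx : x ∉ Set.range j) :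
    AlgebraicCycle.map j wy wx c x = 0 := by
  unfold AlgebraicCycle.map
  rw [Function.locallyFinsupp.map_apply]
  have hpre : (j ⁻¹' {x} : Set Y) = ∅ := by
    ext y'
    simp only [Set.mem_preimage, Set.mem_singleton_iff, Set.mem_empty_iff_false, iff_false]
    intro h
    exact hx ⟨y', h⟩
  rw [hpre, finsum_mem_empty]

theorem finite_support_divFun {X : Scheme.{u}} (δ : X → ℤ) {I : Type*} (ξ : I → X)
    (g : (i : I) → X.residueField (ξ i))
    (hlf : ∀ x : X, ∃ V : Set X, IsOpen V ∧ x ∈ V ∧ {i | (closure {ξ i} ∩ V).Nonempty}.Finite)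
    (x : X) : (Function.support fun i => Cyc.divFun δ (ξ i) (g i) x).Finite := by
  obtain ⟨V, -, hxV, hF⟩ := hlf x
  refine hF.subset (fun i hi => ?_)
  have hsp : ξ i ⤳ x := by
    by_contra hn
    exact hi (Groth.Agent.H95.C1Cap.divFun_eq_zero δ _ _ x hn)
  exact ⟨x, specializes_iff_mem_closure.mp hsp, hxV⟩

theorem locallyFinite_support_finsum_divFun {X : Scheme.{u}} (δ : X → ℤ) (hX : Cyc.IsSetup X δ)
    {I : Type*} (ξ : I → X) (g : (i : I) → X.residueField (ξ i)) (hg0 : ∀ i, g i ≠ 0)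
    (hlf : ∀ x : X, ∃ V : Set X, IsOpen V ∧ x ∈ V ∧ {i | (closure {ξ i} ∩ V).Nonempty}.Finite)
    (z : X) : ∃ t ∈ nhds z, Set.Finite
      (t ∩ Function.support (fun x => ∑ᶠ i, Cyc.divFun δ (ξ i) (g i) x)) := by
  classical
  obtain ⟨V₀, hV₀o, hzV₀, hF⟩ := hlf z
  choose V hVo hzV hVf using fun i =>
    Groth.Agent.H85.CycDivFin.divFun_support_locallyFinite δ hX (ξ i) (g i) (hg0 i) z
  have hto : IsOpen (V₀ ∩ ⋂ i ∈ hF.toFinset, V i) :=
    hV₀o.inter (isOpen_biInter_finset (fun i _ => hVo i))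
  have hzt : z ∈ V₀ ∩ ⋂ i ∈ hF.toFinset, V i :=
    ⟨hzV₀, Set.mem_iInter₂.mpr (fun i _ => hzV i)⟩
  refine ⟨_, hto.mem_nhds hzt, ?_⟩
  refine (Set.Finite.biUnion hF (fun i _ => hVf i)).subset ?_
  rintro y ⟨⟨hyV₀, hyV⟩, hyD⟩
  have hex : ∃ i, Cyc.divFun δ (ξ i) (g i) y ≠ 0 := by
    by_contra hcon
    push Not at hcon
    exact hyD (finsum_eq_zero_of_forall_eq_zero hcon)
  obtain ⟨i, hi⟩ := hex
  have hsp : ξ i ⤳ y := by
    by_contra hn
    exact hi (Groth.Agent.H95.C1Cap.divFun_eq_zero δ _ _ y hn)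
  have hiF : i ∈ {i | (closure {ξ i} ∩ V₀).Nonempty} :=
    ⟨y, specializes_iff_mem_closure.mp hsp, hyV₀⟩
  exact Set.mem_biUnion hiF ⟨Set.mem_iInter₂.mp hyV i (hF.mem_toFinset.mpr hiF), hi⟩

theorem transport {Y X : Scheme.{u}} (j : Y ⟶ X) [IsClosedImmersion j] (δ : X → ℤ) (p : X)
    (fp : X.residueField p) (hfp : fp ≠ 0) (hp : p ∈ Set.range j) :
    ∃ (η : Y) (g : Y.residueField η), g ≠ 0 ∧ j η = p ∧
      ∀ y, Cyc.divFun (fun y => δ (j y)) η g y = Cyc.divFun δ p fp (j y) := by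
  obtain ⟨η, rfl⟩ := hp
  refine ⟨η, j.residueFieldMap η fp, (map_ne_zero _).mpr hfp, rfl, fun y => ?_⟩
  exact Groth.Agent.H85.CycImm.divFun_imm j (fun y => j.stalkMap_surjective y)
    j.isClosedEmbedding.isInducing δ η fp y

theorem mem_range_of_specializes {Y X : Scheme.{u}} (j : Y ⟶ X) [IsClosedImmersion j] {p x : X}
    (hp : p ∈ Set.range j) (h : p ⤳ x) : x ∈ Set.range j := by
  have h1 : closure ({p} : Set X) ⊆ Set.range j :=
    (j.isClosedEmbedding.isClosed_range.closure_subset_iff).mpr (Set.singleton_subset_iff.mpr hp)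
  exact h1 (specializes_iff_mem_closure.mp h)

theorem divFun_inv {X : Scheme.{u}} (δ : X → ℤ) (ξ : X) {f : X.residueField ξ} (hf : f ≠ 0)
    (x : X) : Cyc.divFun δ ξ f⁻¹ x = - Cyc.divFun δ ξ f x := by
  have h := Groth.Agent.H95.C1Cap.divFun_zpow δ ξ hf (-1) x
  rw [zpow_neg_one] at h
  rw [h]; ring

theorem locallyFinite_sub {X : Scheme.{u}} {I : Type*} (ξ : I → X) (P : I → Prop)
    (hlf : ∀ x : X, ∃ V : Set X, IsOpen V ∧ x ∈ V ∧ {i | (closure {ξ i} ∩ V).Nonempty}.Finite)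
    (x : X) : ∃ V : Set X, IsOpen V ∧ x ∈ V ∧
      {i : {i // P i} | (closure {ξ i.1} ∩ V).Nonempty}.Finite := by
  obtain ⟨V, hVo, hxV, hF⟩ := hlf x
  refine ⟨V, hVo, hxV, ?_⟩
  have e : {i : {i // P i} | (closure {ξ i.1} ∩ V).Nonempty} =
      Subtype.val ⁻¹' {i | (closure {ξ i} ∩ V).Nonempty} := rfl
  rw [e]
  exact hF.preimage Subtype.val_injective.injOn

theorem locallyFinite_pre {Y X : Scheme.{u}} (j : Y ⟶ X) {I : Type*} (η : I → Y)
    (hlf : ∀ x : X, ∃ V : Set X, IsOpen V ∧ x ∈ V ∧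
      {i | (closure {j (η i)} ∩ V).Nonempty}.Finite)
    (y : Y) : ∃ N : Set Y, IsOpen N ∧ y ∈ N ∧ {i | (closure {η i} ∩ N).Nonempty}.Finite := by
  obtain ⟨V, hVo, hxV, hF⟩ := hlf (j y)
  refine ⟨j ⁻¹' V, hVo.preimage j.continuous, hxV, hF.subset ?_⟩
  rintro i ⟨y', hy', hy'V⟩
  have hsp : η i ⤳ y' := specializes_iff_mem_closure.mpr hy'
  exact ⟨j y', specializes_iff_mem_closure.mp (hsp.map j.continuous), hy'V⟩

end helpers

/-- Mayer–Vietoris for Chow groups, exactness in the middle: let i₁ : X₁ → X, i₂ : X₂ → X be closed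
immersions covering X set-theoretically and X₁₂ = X₁ ×_X X₂ their scheme-theoretic intersection. If
k-cycles α₁ on X₁ and α₂ on X₂ have rationally equivalent pushforwards on X, then there is a k-cycle
β on X₁₂ with α₁ ∼_rat (pr₁)_*β on X₁ and α₂ ∼_rat (pr₂)_*β on X₂. (The published statement also
asserts that CH_k(X₁) ⊕ CH_k(X₂) → CH_k(X) is surjective; that is not asserted here.) Here a pair
(X, δ) with Cyc.IsSetup plays the role of a scheme locally of finite type over a fixed base with a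
dimension function (X locally Noetherian with universally catenary local rings, δ a dimension
function). -/
theorem result (X : Scheme.{u}) (δ : X → ℤ) (hX : Cyc.IsSetup X δ) (X₁ X₂ : Scheme.{u}) (i₁ : X₁ ⟶ X) (i₂ : X₂ ⟶ X) [IsClosedImmersion i₁] [IsClosedImmersion i₂] (hcov : Set.range ⇑i₁ ∪ Set.range ⇑i₂ = Set.univ) (k : ℤ) (α₁ : AlgebraicCycle X₁ ℤ) (α₂ : AlgebraicCycle X₂ ℤ) (h₁ : α₁ ∈ Cyc.Zk X₁ (fun x => δ (i₁ x)) k) (h₂ : α₂ ∈ Cyc.Zk X₂ (fun x => δ (i₂ x)) k) (h : Cyc.RatEquiv δ k (AlgebraicCycle.map i₁ (fun x => δ (i₁ x)) δ α₁) (AlgebraicCycle.map i₂ (fun x => δ (i₂ x)) δ α₂)) : ∃ β : AlgebraicCycle (pullback i₁ i₂) ℤ, β ∈ Cyc.Zk (pullback i₁ i₂) (fun z => δ (i₁ (pullback.fst i₁ i₂ z))) k ∧ Cyc.RatEquiv (fun x => δ (i₁ x)) k α₁ (AlgebraicCycle.map (pullback.fst i₁ i₂) (fun z => δ (i₁ (pullback.fst i₁ i₂ z))) (fun x => δ (i₁ x)) β) ∧ Cyc.RatEquiv (fun x => δ (i₂ x)) k α₂ (AlgebraicCycle.map (pullback.snd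 i₁ i₂) (fun z => δ (i₁ (pullback.fst i₁ i₂ z))) (fun x => δ (i₂ x)) β) := by
  classical
  obtain ⟨I, ξ, f, hξ, hf, hlf, hsum⟩ := h
  have hs₁ : ∀ y, Function.Surjective (i₁.stalkMap y) := fun y => i₁.stalkMap_surjective y
  have hs₂ : ∀ y, Function.Surjective (i₂.stalkMap y) := fun y => i₂.stalkMap_surjective y
  have hinj₁ : Function.Injective i₁ := i₁.isClosedEmbedding.injective
  have hinj₂ : Function.Injective i₂ := i₂.isClosedEmbedding.injective
  have hdeg₁ := Groth.Agent.H85.CycImm.residueDegree_eq_one i₁ hs₁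
  have hdeg₂ := Groth.Agent.H85.CycImm.residueDegree_eq_one i₂ hs₂
  have hinjp₁ : Function.Injective (pullback.fst i₁ i₂) :=
    (pullback.fst i₁ i₂).isClosedEmbedding.injective
  have hinjp₂ : Function.Injective (pullback.snd i₁ i₂) :=
    (pullback.snd i₁ i₂).isClosedEmbedding.injective
  have hdegp₁ := Groth.Agent.H85.CycImm.residueDegree_eq_one (pullback.fst i₁ i₂)
    (fun y => (pullback.fst i₁ i₂).stalkMap_surjective y)
  have hdegp₂ := Groth.Agent.H85.CycImm.residueDegree_eq_one (pullback.snd i₁ i₂)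
    (fun y => (pullback.snd i₁ i₂).stalkMap_surjective y)
  have hcond : ∀ z : ↥(pullback i₁ i₂),
      i₁ (pullback.fst i₁ i₂ z) = i₂ (pullback.snd i₁ i₂ z) := fun z => by
    show (pullback.fst i₁ i₂ ≫ i₁) z = (pullback.snd i₁ i₂ ≫ i₂) z
    rw [pullback.condition]
  choose η₁ g₁ hg₁0 hη₁ hdiv₁ using fun i : {i // ξ i ∈ Set.range i₁} =>
    transport i₁ δ (ξ i.1) (f i.1) (hf i.1) i.2
  have hmem₂ : ∀ i : {i // ¬ ξ i ∈ Set.range i₁}, ξ i.1 ∈ Set.range i₂ := fun i => by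
    have h0 : ξ i.1 ∈ Set.range i₁ ∪ Set.range i₂ := by rw [hcov]; trivial
    exact h0.resolve_left i.2
  choose η₂ g₂ hg₂0 hη₂ hdiv₂ using fun i : {i // ¬ ξ i ∈ Set.range i₁} =>
    transport i₂ δ (ξ i.1) (f i.1) (hf i.1) (hmem₂ i)
  obtain ⟨A, hA⟩ : ∃ A : X → ℤ, ∀ x, A x =
      ∑ᶠ i : {i // ξ i ∈ Set.range i₁}, Cyc.divFun δ (ξ i.1) (f i.1) x := ⟨_, fun _ => rfl⟩
  obtain ⟨B, hB⟩ : ∃ B : X → ℤ, ∀ x, B x =
      ∑ᶠ i : {i // ¬ ξ i ∈ Set.range i₁}, Cyc.divFun δ (ξ i.1) (f i.1) x := ⟨_, fun _ => rfl⟩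
  obtain ⟨M₁, hM₁def⟩ : ∃ M : AlgebraicCycle X ℤ,
      M = AlgebraicCycle.map i₁ (fun x => δ (i₁ x)) δ α₁ := ⟨_, rfl⟩
  obtain ⟨M₂, hM₂def⟩ : ∃ M : AlgebraicCycle X ℤ,
      M = AlgebraicCycle.map i₂ (fun x => δ (i₂ x)) δ α₂ := ⟨_, rfl⟩
  rw [← hM₁def, ← hM₂def] at hsum
  have hM₁ : ∀ x₁, M₁ (i₁ x₁) = α₁ x₁ := fun x₁ => by
    rw [hM₁def]
    exact map_apply_of_injective i₁ hinj₁ hdeg₁ _ _ (fun _ => rfl) α₁ x₁
  have hM₂ : ∀ x₂, M₂ (i₂ x₂) = α₂ x₂ := fun x₂ => by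
    rw [hM₂def]
    exact map_apply_of_injective i₂ hinj₂ hdeg₂ _ _ (fun _ => rfl) α₂ x₂
  have hM₁0 : ∀ x, x ∉ Set.range i₁ → M₁ x = 0 := fun x hx => by
    rw [hM₁def]
    exact map_apply_of_notMem_range i₁ _ _ α₁ x hx
  have hM₂0 : ∀ x, x ∉ Set.range i₂ → M₂ x = 0 := fun x hx => by
    rw [hM₂def]
    exact map_apply_of_notMem_range i₂ _ _ α₂ x hx
  have hAB : ∀ x, M₁ x - M₂ x = A x + B x := by
    intro x
    have h0 := hsum x
    rw [Function.locallyFinsuppWithin.coe_sub, Pi.sub_apply] at h0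
    rw [h0, hA, hB]
    exact finsum_split (fun i => ξ i ∈ Set.range i₁) (fun i => Cyc.divFun δ (ξ i) (f i) x)
      (finite_support_divFun δ ξ f hlf x)
  obtain ⟨φ, hφ⟩ : ∃ φ : X → ℤ, ∀ x, φ x = M₁ x - A x := ⟨_, fun _ => rfl⟩
  have hφ' : ∀ x, φ x = M₂ x + B x := fun x => by
    have := hAB x
    rw [hφ]
    omega
  have hA0 : ∀ x, x ∉ Set.range i₁ → A x = 0 := by
    intro x hx
    rw [hA]
    refine finsum_eq_zero_of_forall_eq_zero (fun i => ?_)
    by_contra hne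
    have hsp : ξ i.1 ⤳ x := by
      by_contra hn
      exact hne (Groth.Agent.H95.C1Cap.divFun_eq_zero δ _ _ x hn)
    exact hx (mem_range_of_specializes i₁ i.2 hsp)
  have hB0 : ∀ x, x ∉ Set.range i₂ → B x = 0 := by
    intro x hx
    rw [hB]
    refine finsum_eq_zero_of_forall_eq_zero (fun i => ?_)
    by_contra hne
    have hsp : ξ i.1 ⤳ x := by
      by_contra hn
      exact hne (Groth.Agent.H95.C1Cap.divFun_eq_zero δ _ _ x hn)
    exact hx (mem_range_of_specializes i₂ (hmem₂ i) hsp)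
  have hφ1 : ∀ x, x ∉ Set.range i₁ → φ x = 0 := fun x hx => by
    rw [hφ, hM₁0 x hx, hA0 x hx, sub_zero]
  have hφ2 : ∀ x, x ∉ Set.range i₂ → φ x = 0 := fun x hx => by
    rw [hφ', hM₂0 x hx, hB0 x hx, add_zero]
  have hAfun : A = fun x => ∑ᶠ i : {i // ξ i ∈ Set.range i₁}, Cyc.divFun δ (ξ i.1) (f i.1) x :=
    funext hA
  have hφfin : ∀ z : X, ∃ t ∈ nhds z, Set.Finite (t ∩ Function.support φ) := by
    intro z
    obtain ⟨t₁, ht₁, hf₁⟩ := M₁.supportLocallyFiniteWithinDomain' z (Set.mem_univ z)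
    obtain ⟨t₂, ht₂, hf₂⟩ := locallyFinite_support_finsum_divFun δ hX
      (fun i : {i // ξ i ∈ Set.range i₁} => ξ i.1) (fun i => f i.1) (fun i => hf i.1)
      (locallyFinite_sub ξ _ hlf) z
    rw [← hAfun] at hf₂
    refine ⟨t₁ ∩ t₂, Filter.inter_mem ht₁ ht₂, (hf₁.union hf₂).subset ?_⟩
    rintro y ⟨⟨hy1, hy2⟩, hy⟩
    by_cases hM : M₁ y = 0
    · right
      refine ⟨hy2, ?_⟩
      intro hAy
      apply hy
      rw [hφ, hM, hAy, sub_zero]
    · left
      exact ⟨hy1, hM⟩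
  let β : AlgebraicCycle (pullback i₁ i₂) ℤ :=
    { toFun := fun z => φ (i₁ (pullback.fst i₁ i₂ z))
      supportWithinDomain' := Set.subset_univ _
      supportLocallyFiniteWithinDomain' := fun z₀ _ => by
        obtain ⟨t, ht, hfin⟩ := hφfin (i₁ (pullback.fst i₁ i₂ z₀))
        have hcont : Continuous (fun z : ↥(pullback i₁ i₂) => i₁ (pullback.fst i₁ i₂ z)) :=
          i₁.continuous.comp (pullback.fst i₁ i₂).continuous
        have hinj : Function.Injective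
            (fun z : ↥(pullback i₁ i₂) => i₁ (pullback.fst i₁ i₂ z)) := hinj₁.comp hinjp₁
        refine ⟨(fun z => i₁ (pullback.fst i₁ i₂ z)) ⁻¹' t,
          hcont.continuousAt.preimage_mem_nhds ht, ?_⟩
        refine (hfin.preimage hinj.injOn).subset ?_
        rintro z ⟨hz1, hz2⟩
        exact ⟨hz1, hz2⟩ }
  have hβ : ∀ z, β z = φ (i₁ (pullback.fst i₁ i₂ z)) := fun z => rfl
  refine ⟨β, ?_, ?_, ?_⟩
  · intro z hz
    show β z = 0
    rw [hβ, hφ, hM₁, h₁ _ hz, zero_sub, neg_eq_zero, hA]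
    refine finsum_eq_zero_of_forall_eq_zero (fun i => ?_)
    unfold Cyc.divFun
    rw [dif_neg]
    rintro ⟨-, h2⟩
    apply hz
    have h3 : δ (ξ i.1) = k + 1 := hξ i.1
    show δ (i₁ (pullback.fst i₁ i₂ z)) = k
    omega
  · show Cyc.RatEquivZero (fun x => δ (i₁ x)) k (α₁ - AlgebraicCycle.map (pullback.fst i₁ i₂)
      (fun z => δ (i₁ (pullback.fst i₁ i₂ z))) (fun x => δ (i₁ x)) β)
    refine ⟨{i // ξ i ∈ Set.range i₁}, η₁, g₁, ?_, hg₁0, ?_, ?_⟩
    · intro i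
      show δ (i₁ (η₁ i)) = k + 1
      rw [hη₁ i]
      exact hξ i.1
    · refine locallyFinite_pre i₁ η₁ (fun x => ?_)
      obtain ⟨V, hVo, hxV, hF⟩ := locallyFinite_sub ξ (fun i => ξ i ∈ Set.range i₁) hlf x
      refine ⟨V, hVo, hxV, ?_⟩
      simpa only [hη₁] using hF
    · intro x₁
      rw [Function.locallyFinsuppWithin.coe_sub, Pi.sub_apply]
      have hC1 : AlgebraicCycle.map (pullback.fst i₁ i₂)
          (fun z => δ (i₁ (pullback.fst i₁ i₂ z))) (fun x => δ (i₁ x)) β x₁ = φ (i₁ x₁) := by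
        by_cases hx : x₁ ∈ Set.range (pullback.fst i₁ i₂)
        · obtain ⟨z, rfl⟩ := hx
          rw [map_apply_of_injective (pullback.fst i₁ i₂) hinjp₁ hdegp₁
            (fun z => δ (i₁ (pullback.fst i₁ i₂ z))) (fun x => δ (i₁ x)) (fun _ => rfl) β z, hβ]
        · rw [map_apply_of_notMem_range (pullback.fst i₁ i₂)
            (fun z => δ (i₁ (pullback.fst i₁ i₂ z))) (fun x => δ (i₁ x)) β x₁ hx]
          symm
          apply hφ2
          rintro ⟨x₂, hx₂⟩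
          obtain ⟨z, hz1, -⟩ := Scheme.Pullback.exists_preimage_pullback x₁ x₂ hx₂.symm
          exact hx ⟨z, hz1⟩
      rw [hC1, hφ, hM₁, hA, finsum_congr (fun i => hdiv₁ i x₁)]
      ring
  · show Cyc.RatEquivZero (fun x => δ (i₂ x)) k (α₂ - AlgebraicCycle.map (pullback.snd i₁ i₂)
      (fun z => δ (i₁ (pullback.fst i₁ i₂ z))) (fun x => δ (i₂ x)) β)
    refine ⟨{i // ¬ ξ i ∈ Set.range i₁}, η₂, fun i => (g₂ i)⁻¹, ?_,
      fun i => inv_ne_zero (hg₂0 i), ?_, ?_⟩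
    · intro i
      show δ (i₂ (η₂ i)) = k + 1
      rw [hη₂ i]
      exact hξ i.1
    · refine locallyFinite_pre i₂ η₂ (fun x => ?_)
      obtain ⟨V, hVo, hxV, hF⟩ := locallyFinite_sub ξ (fun i => ¬ ξ i ∈ Set.range i₁) hlf x
      refine ⟨V, hVo, hxV, ?_⟩
      simpa only [hη₂] using hF
    · intro x₂
      rw [Function.locallyFinsuppWithin.coe_sub, Pi.sub_apply]
      have hC2 : AlgebraicCycle.map (pullback.snd i₁ i₂)
          (fun z => δ (i₁ (pullback.fst i₁ i₂ z))) (fun x => δ (i₂ x)) β x₂ = φ (i₂ x₂) := by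
        by_cases hx : x₂ ∈ Set.range (pullback.snd i₁ i₂)
        · obtain ⟨z, rfl⟩ := hx
          rw [map_apply_of_injective (pullback.snd i₁ i₂) hinjp₂ hdegp₂
            (fun z => δ (i₁ (pullback.fst i₁ i₂ z))) (fun x => δ (i₂ x))
            (fun z => congrArg δ (hcond z)) β z, hβ, hcond]
        · rw [map_apply_of_notMem_range (pullback.snd i₁ i₂)
            (fun z => δ (i₁ (pullback.fst i₁ i₂ z))) (fun x => δ (i₂ x)) β x₂ hx]
          symm
          apply hφ1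
          rintro ⟨x₁, hx₁⟩
          obtain ⟨z, -, hz2⟩ := Scheme.Pullback.exists_preimage_pullback x₁ x₂ hx₁
          exact hx ⟨z, hz2⟩
      rw [hC2, hφ', hM₂, hB,
        finsum_congr (fun i => (divFun_inv _ (η₂ i) (hg₂0 i) x₂).trans
          (congrArg Neg.neg (hdiv₂ i x₂))), finsum_neg_distrib]
      ring

end Groth.Agent.S1918
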