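import Groth.Statements.S1925
import Groth.Agent.H95.CycZero
import Groth.Agent.H95.RefIso

set_option autoImplicit false
universe u
open CategoryTheory AlgebraicGeometry
open Cyc

namespace Groth.Agent.S1925

open Groth.Agent.H18.TensorGen (IsGen exists_isGen)
open Groth.Agent.H95.SecOrd
open Groth.Agent.H95.RefGen
open Groth.Agent.H95.CycZero
open Groth.Agent.H17.HS (locLen)
open Groth.Agent.H17.HomExtend (sp_germ sp_smul)

instance kerPrime {X : Scheme.{u}} (y ξ : X) (h : ξ ⤳ y) :
    (RingHom.ker (Cyc.specMap y ξ h)).IsPrime := RingHom.ker_isPrime _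

/-- Let L be an invertible O_Y-module and s a global section of L; assume δ ≤ k + 1 on Y, δ ≤ k on the
zero locus of s, and multiplication by the germ of s injective on O_{Y,ξ} at the points ξ of
δ-dimension k. Writing [Y]_{k+1} = Σ n_i[Y_i] over the irreducible components of δ-dimension k + 1,
one has [Z(s)]_k = Σ n_i [Z(s|_{Y_i})]_k as k-cycles on Y; here the right side is computed as c_1(L)
∩ [Y]_{k+1} with the rational sections induced by s. Here L(ξ) = L_ξ/𝔪_ξ L_ξ is the space of
rational sections of L on the closure of ξ, div_{L|W}(s) and c_1(L) ∩ α are computed as coefficient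
functions from chosen nonzero rational sections (Cyc.secDivFun, Cyc.c1CapFun), and results are
compared up to rational equivalence for any cycles with those coefficients. A pair (X, δ) with
Cyc.IsSetup plays the role of a scheme locally of finite type over a fixed base with a dimension
function (X locally Noetherian with universally catenary local rings, δ a dimension function), and
Cyc.DeltaCompat records that the dimension function upstairs is the induced one. -/
theorem result (Y : Scheme.{u}) (δ : Y → ℤ) (hY : Cyc.IsSetup Y δ) (L : Y.Modules) (hL : PicF.IsInvertible L) (k : ℤ) (hdim : ∀ y : Y, δ y ≤ k + 1) (s : L.presheaf.obj (Opposite.op ⊤)) (hZ : ∀ y : Y, (L.presheaf.germ ⊤ y trivial) s ∈ IsLocalRing.maximalIdeal (Y.presheaf.stalk y) • (⊤ : Submodule (Y.presheaf.stalk y) (L.presheaf.stalk y)) → δ y ≤ k) (hreg : ∀ y : Y, δ y = k → Function.Injective (fun a : Y.presheaf.stalk y => a • (L.presheaf.germ ⊤ y trivial) s)) : Cyc.zeroSectionFun δ k L s = Cyc.c1CapFun δ L (Cyc.subschemeFun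 δ (k + 1) (𝟙 Y)) (fun ξ => Submodule.Quotient.mk ((L.presheaf.germ ⊤ ξ trivial) s)) := by
  classical
  haveI : IsLocallyNoetherian Y := hY.1
  funext y
  unfold Cyc.zeroSectionFun Cyc.c1CapFun
  by_cases hδ : δ y = k
  swap
  · rw [if_neg hδ]
    symm
    refine finsum_eq_zero_of_forall_eq_zero (fun ξ => ?_)
    unfold Cyc.secDivFun Cyc.subschemeFun
    by_cases hξ : δ ξ = k + 1
    · have hcond : ¬ (ξ ⤳ y ∧ δ y + 1 = δ ξ) := by
        rintro ⟨-, h2⟩
        apply hδ
        rw [hξ] at h2
        linarith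
      rw [dif_neg hcond, mul_zero]
    · rw [if_neg hξ, zero_mul]
  · obtain ⟨V, τ, hyV, hτ⟩ := exists_isGen hL y
    have hfree := freeAt_of_isGen hτ y hyV
    have ht : ∃ t : L.presheaf.stalk y, Submodule.span (Y.presheaf.stalk y) {t} = ⊤ := by
      refine ⟨L.presheaf.germ V y hyV τ, ?_⟩
      rw [eq_top_iff]
      intro m _
      obtain ⟨r, hr⟩ := hfree.2 m
      rw [← hr]
      exact Submodule.smul_mem _ _ (Submodule.mem_span_singleton_self _)
    have hf : ∃ f : Y.presheaf.stalk y,
        (L.presheaf.germ ⊤ y trivial) s = f • Classical.choose ht := by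
      have hmem : (L.presheaf.germ ⊤ y trivial) s ∈
          Submodule.span (Y.presheaf.stalk y) {Classical.choose ht} := by
        rw [Classical.choose_spec ht]
        trivial
      obtain ⟨f, hf⟩ := Submodule.mem_span_singleton.mp hmem
      exact ⟨f, hf.symm⟩
    rw [if_pos hδ, dif_pos ht, dif_pos hf]
    have ht' := Classical.choose_spec ht
    have hc' := Classical.choose_spec hf
    generalize Classical.choose hf = c' at hc' ⊢
    generalize Classical.choose ht = t' at ht' hc'
    obtain ⟨u, hu⟩ := hfree.2 t'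
    have hu' : u • L.presheaf.germ V y hyV τ = t' := hu
    obtain ⟨v, hv⟩ := Submodule.mem_span_singleton.mp
      (show L.presheaf.germ V y hyV τ ∈ Submodule.span (Y.presheaf.stalk y) {t'} by
        rw [ht']; trivial)
    have huv : v * u = 1 := by
      apply hfree.1
      show (v * u) • L.presheaf.germ V y hyV τ =
        (1 : Y.presheaf.stalk y) • L.presheaf.germ V y hyV τ
      rw [mul_smul, one_smul, hu', hv]
    have huu : IsUnit u := IsUnit.of_mul_eq_one v (by rw [mul_comm]; exact huv)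
    obtain ⟨g, hgdef⟩ : ∃ g : Y.presheaf.stalk y, g = c' * u := ⟨_, rfl⟩
    have hsx : (L.presheaf.germ ⊤ y trivial) s = g • L.presheaf.germ V y hyV τ := by
      rw [hc', hgdef, mul_smul, hu']
    have hspan : Ideal.span {c'} = Ideal.span {g} := by
      rw [hgdef]
      exact (Ideal.span_singleton_mul_right_unit huu c').symm
    rw [hspan]
    have hgreg : g ∈ nonZeroDivisors (Y.presheaf.stalk y) := by
      rw [mem_nonZeroDivisors_iff_right]
      intro a ha
      have h1 : a • (L.presheaf.germ ⊤ y trivial) s =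
          (0 : Y.presheaf.stalk y) • (L.presheaf.germ ⊤ y trivial) s := by
        rw [hsx, ← mul_smul, ha, zero_smul, zero_smul]
      exact hreg y hδ h1
    have hdimA : ringKrullDim (Y.presheaf.stalk y) ≤ 1 := by
      unfold ringKrullDim
      rw [Order.krullDim_eq_iSup_coheight]
      refine iSup_le (fun q => ?_)
      obtain ⟨d, hd, hδd⟩ := Groth.Agent.H71.DimFun.delta_eq_add_coheight Y δ hY.2.2 y q
      have h1 := hdim (Y.fromSpecStalk y q)
      rw [hδd, hδ] at h1
      have hd1 : d ≤ 1 := by omega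
      rw [hd]
      exact_mod_cast hd1
    have hterm : ∀ (ξ : Y) (hξy : ξ ⤳ y), ξ ≠ y →
        Cyc.subschemeFun δ (k + 1) (𝟙 Y) ξ *
          Cyc.secDivFun δ L ξ (Submodule.Quotient.mk ((L.presheaf.germ ⊤ ξ trivial) s)) y =
        ((locLen (RingHom.ker (Cyc.specMap y ξ hξy)) (Y.presheaf.stalk y)).toNat : ℤ) *
          ((Module.length (Y.presheaf.stalk y) (Y.presheaf.stalk y ⧸
            (RingHom.ker (Cyc.specMap y ξ hξy) ⊔ Ideal.span {g}))).toNat : ℤ) := by
      intro ξ hξy hne
      have hδξ : δ ξ = k + 1 := by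
        have h1 := (hY.2.2 ξ y hξy hne).1
        have h2 := hdim ξ
        omega
      have hcond : ξ ⤳ y ∧ δ y + 1 = δ ξ := ⟨hξy, by rw [hδ, hδξ]⟩
      unfold Cyc.subschemeFun Cyc.secDivFun
      rw [if_pos hδξ, dif_pos hcond]
      have hset : {z : Y | (𝟙 Y : Y ⟶ Y) z = ξ} = {ξ} := by
        ext z
        exact Iff.rfl
      rw [hset, finsum_mem_singleton]
      rw [length_stalk_eq_locLen hξy (RingHom.ker (Cyc.specMap y ξ hξy)) (ker_specMap hξy)]
      congr 1
      have hξV : ξ ∈ V := hξy.mem_open V.2 hyV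
      have hsξ : (L.presheaf.germ ⊤ ξ trivial) s =
          (Y.presheaf.stalkSpecializes hξy g) • L.presheaf.germ V ξ hξV τ := by
        rw [← sp_germ L hξy (show y ∈ (⊤ : Y.Opens) from trivial) s, hsx, sp_smul, sp_germ]
      have hL1 : Cyc.secOrdAt L ξ y hcond.1
          (Submodule.Quotient.mk ((L.presheaf.germ ⊤ ξ trivial) s)) =
          Cyc.ordAt y ξ hcond.1 (Y.residue ξ (Y.presheaf.stalkSpecializes hξy g)) := by
        apply secOrdAt_eq_of_isGen hτ hcond.1 hyV hξV
        rw [hsξ, Submodule.Quotient.mk_smul]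
      rw [hL1]
      have hgne : Cyc.specMap y ξ hξy g ≠ 0 := by
        intro h0
        have hmem : (L.presheaf.germ ⊤ ξ trivial) s ∈
            IsLocalRing.maximalIdeal (Y.presheaf.stalk ξ) •
              (⊤ : Submodule (Y.presheaf.stalk ξ) (L.presheaf.stalk ξ)) := by
          rw [hsξ]
          exact Submodule.smul_mem_smul
            ((Groth.Agent.H95.SecOrd.residue_eq_zero_iff _).mp h0) Submodule.mem_top
        have h3 := hZ ξ hmem
        omega
      exact ordAt_specMap_eq hξy hdimA g hgne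
    obtain ⟨e, he⟩ : ∃ e : Y → PrimeSpectrum (Y.presheaf.stalk y), ∀ (ξ : Y) (h : ξ ⤳ y),
        e ξ = ⟨RingHom.ker (Cyc.specMap y ξ h), RingHom.ker_isPrime _⟩ :=
      ⟨fun ξ => if h : ξ ⤳ y then ⟨RingHom.ker (Cyc.specMap y ξ h), RingHom.ker_isPrime _⟩
        else IsLocalRing.closedPoint _, fun ξ h => dif_pos h⟩
    obtain ⟨T, hT⟩ : ∃ T : Y → ℤ, T = fun ξ => Cyc.subschemeFun δ (k + 1) (𝟙 Y) ξ *
        Cyc.secDivFun δ L ξ (Submodule.Quotient.mk ((L.presheaf.germ ⊤ ξ trivial) s)) y :=
      ⟨_, rfl⟩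
    have hsupp : Function.support T ⊆ {ξ | ξ ⤳ y ∧ ξ ≠ y} := by
      intro ξ hξ
      by_contra hnot
      apply hξ
      rw [hT]
      show Cyc.subschemeFun δ (k + 1) (𝟙 Y) ξ * Cyc.secDivFun δ L ξ _ y = 0
      have hcond : ¬ (ξ ⤳ y ∧ δ y + 1 = δ ξ) := by
        rintro ⟨h1, h2⟩
        apply hnot
        refine ⟨h1, ?_⟩
        intro hxy
        rw [hxy] at h2
        omega
      unfold Cyc.secDivFun
      rw [dif_neg hcond, mul_zero]
    have hbij : Set.BijOn e {ξ | ξ ⤳ y ∧ ξ ≠ y}
        {p | p.asIdeal ≠ IsLocalRing.maximalIdeal (Y.presheaf.stalk y)} := by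
      refine ⟨?_, ?_, ?_⟩
      · rintro ξ ⟨h1, h2⟩
        show (e ξ).asIdeal ≠ _
        rw [he ξ h1]
        exact ker_specMap_ne_of_ne h1 h2
      · rintro ξ ⟨h1, _⟩ ξ' ⟨h1', _⟩ hee
        rw [he ξ h1, he ξ' h1'] at hee
        exact eq_of_ker_specMap_eq h1 h1' (congrArg PrimeSpectrum.asIdeal hee)
      · intro p hp
        obtain ⟨ζ, hζ, hζp⟩ := Groth.Agent.H95.StalkPrimes.exists_generization y p.asIdeal
        refine ⟨ζ, ⟨hζ, ?_⟩, ?_⟩
        · intro hzy
          apply hp
          rw [← hζp, ← ker_specMap]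
          exact ker_specMap_of_eq hζ hzy
        · rw [he ζ hζ]
          exact PrimeSpectrum.ext ((ker_specMap hζ).trans hζp)
    rw [length_quot_eq_finsum hdimA hgreg]
    symm
    show ∑ᶠ ξ, (fun ξ => Cyc.subschemeFun δ (k + 1) (𝟙 Y) ξ *
        Cyc.secDivFun δ L ξ (Submodule.Quotient.mk ((L.presheaf.germ ⊤ ξ trivial) s)) y) ξ = _
    rw [← hT]
    have hstep1 : ∑ᶠ ξ, T ξ = ∑ᶠ ξ ∈ {ξ | ξ ⤳ y ∧ ξ ≠ y}, T ξ := by
      rw [← finsum_mem_univ]
      exact finsum_mem_inter_support_eq' T Set.univ _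
        (fun ξ hξ => ⟨fun _ => hsupp hξ, fun _ => Set.mem_univ _⟩)
    rw [hstep1]
    refine finsum_mem_eq_of_bijOn e hbij (fun ξ hξ => ?_)
    rw [he ξ hξ.1, hT]
    exact hterm ξ hξ.1 hξ.2

end Groth.Agent.S1925
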