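import Groth.Statements.S13577
import Groth.Agent.H53.DTenComp

set_option autoImplicit false
universe u
open CategoryTheory CategoryTheory.Limits MonoidalCategory
attribute [local instance] HasDerivedCategory.standard
open DTen

namespace Groth.Agent.S13577

open Groth.Agent.H53.DTenComp Groth.Agent.H31

section
variable {A : Type u} [CommRing A]

/-- Every object of `D(A)` is the image of a K-flat complex. -/
lemma exists_kflat_model (a : Dual.D A) :
    ∃ (P : DRing.Cx A), DRing.IsKFlat A P ∧ Nonempty (DerivedCategory.Q.obj P ≅ a) := by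
  obtain ⟨P, f, hP, -, hf, -⟩ :=
    KFlatRing.exists_isKFlat_resolution (DerivedCategory.Q.objPreimage a)
  exact ⟨P, hP, ⟨asIso (DerivedCategory.Q.map f) ≪≫ DerivedCategory.Q.objObjPreimageIso a⟩⟩

variable [DTen.HasLTen A]

lemma isIso_map_mkHom {X X' Y Y' : Dual.D A} (f : X ⟶ X') (g : Y ⟶ Y') [IsIso f] [IsIso g] :
    IsIso ((LTen₂ A).map (Prod.mkHom f g)) := by
  have : IsIso (Prod.mkHom f g : (X, Y) ⟶ (X', Y')) :=
    (isIso_prod_iff _ _).2 ⟨inferInstanceAs (IsIso f), inferInstanceAs (IsIso g)⟩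
  infer_instance

variable [DTen.HasLTen₃ A]

lemma isIso_assocR_Q (Pa Pb Pc : DRing.Cx A) (hb : DRing.IsKFlat A Pb) (hc : DRing.IsKFlat A Pc) :
    IsIso ((assocR A).app ((QQQ A).obj (Pa, (Pb, Pc)))) := by
  have h := assocR_fac A (Pa, (Pb, Pc))
  have h3 : IsIso ((ε₃ A).app (Pa, (Pb, Pc))) := isIso_ε₃ A Pa Pb Pc hb hc
  have h1 : IsIso ((ε A).app (Pb, Pc)) := isIso_ε_right A Pb Pc hc
  have h2 : IsIso ((ε A).app (Pa, Pb ⊗ Pc)) :=
    isIso_ε_right A Pa (Pb ⊗ Pc) (isKFlat_tensor hb hc)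
  have hβ : IsIso ((βR A).app (Pa, (Pb, Pc))) := by
    change IsIso ((LTen₂ A).map (Prod.mkHom (𝟙 (DerivedCategory.Q.obj Pa)) ((ε A).app (Pb, Pc))) ≫
      (ε A).app (Pa, Pb ⊗ Pc))
    have := isIso_map_mkHom (𝟙 (DerivedCategory.Q.obj Pa)) ((ε A).app (Pb, Pc))
    infer_instance
  rw [← h] at hβ
  exact IsIso.of_isIso_comp_right _ ((ε₃ A).app (Pa, (Pb, Pc)))

lemma isIso_assocL_Q (Pa Pb Pc : DRing.Cx A) (hb : DRing.IsKFlat A Pb) (hc : DRing.IsKFlat A Pc) :
    IsIso ((assocL A).app ((QQQ A).obj (Pa, (Pb, Pc)))) := by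
  have h := assocL_fac A (Pa, (Pb, Pc))
  have h3 : IsIso ((ε₃ A).app (Pa, (Pb, Pc))) := isIso_ε₃ A Pa Pb Pc hb hc
  have h1 : IsIso ((ε A).app (Pa, Pb)) := isIso_ε_right A Pa Pb hb
  have h2 : IsIso ((ε A).app (Pa ⊗ Pb, Pc)) := isIso_ε_right A (Pa ⊗ Pb) Pc hc
  have hβ : IsIso ((βL A).app (Pa, (Pb, Pc))) := by
    change IsIso ((LTen₂ A).map (Prod.mkHom ((ε A).app (Pa, Pb)) (𝟙 (DerivedCategory.Q.obj Pc))) ≫
      (ε A).app (Pa ⊗ Pb, Pc) ≫ DerivedCategory.Q.map (α_ Pa Pb Pc).hom)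
    have := isIso_map_mkHom ((ε A).app (Pa, Pb)) (𝟙 (DerivedCategory.Q.obj Pc))
    infer_instance
  rw [← h] at hβ
  exact IsIso.of_isIso_comp_right _ ((ε₃ A).app (Pa, (Pb, Pc)))

theorem main (a b c : Dual.D A) :
    IsIso ((DTen.assocL A).app (a, (b, c))) ∧ IsIso ((DTen.assocR A).app (a, (b, c))) := by
  obtain ⟨Pa, -, ⟨ea⟩⟩ := exists_kflat_model a
  obtain ⟨Pb, hb, ⟨eb⟩⟩ := exists_kflat_model b
  obtain ⟨Pc, hc, ⟨ec⟩⟩ := exists_kflat_model c
  let e : (QQQ A).obj (Pa, (Pb, Pc)) ≅ (a, (b, c)) := Iso.prod ea (Iso.prod eb ec)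
  exact ⟨(NatTrans.isIso_app_iff_of_iso (assocL A) e).1 (isIso_assocL_Q Pa Pb Pc hb hc),
    (NatTrans.isIso_app_iff_of_iso (assocR A) e).1 (isIso_assocR_Q Pa Pb Pc hb hc)⟩

end


/-- For a commutative ring `A` and objects `a`, `b`, `c` of `D(A)`, the two canonical morphisms from the
iterated derived tensor products `(a ⊗^L b) ⊗^L c` and `a ⊗^L (b ⊗^L c)` to the jointly derived
triple tensor product are both isomorphisms, so that the composite of the first with the inverse of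
the second is the associativity isomorphism `(a ⊗^L b) ⊗^L c ≅ a ⊗^L (b ⊗^L c)`, functorial in the
triple. (The published statement asserts only the existence of the functorial associativity
isomorphism; this row also says that each iterate agrees with the jointly derived triple product,
which is slightly stronger.) -/
theorem result (A : Type u) [CommRing A] [DTen.HasLTen A] [DTen.HasLTen₃ A]
    (a b c : Dual.D A) :
    IsIso ((DTen.assocL A).app (a, (b, c))) ∧ IsIso ((DTen.assocR A).app (a, (b, c))) := by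
  exact main a b c

end Groth.Agent.S13577
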