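import Groth.Statements.S13894
import Groth.Agent.H53.BaseAdj

set_option autoImplicit false
universe u
open CategoryTheory CategoryTheory.Limits MonoidalCategory
attribute [local instance] HasDerivedCategory.standard
open DTen

namespace Groth.Agent.S13894

/-- For a map of commutative rings `φ : R → A` and a K-flat cochain complex `K` of `R`-modules, the
canonical comparison morphism `(Q K) ⊗^L_R A ⟶ Q(K ⊗_R A)` — from the derived base change (the left
adjoint of restriction `D(A) ⥤ D(R)`) of the image of `K` in `D(R)` to the image in `D(A)` of the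
termwise base change, namely the adjunct of the unit maps `k ↦ 1 ⊗ k` — is an isomorphism: derived
base change is computed termwise on K-flat complexes. (Existence of the left adjoint is assumed as a
hypothesis.) -/
theorem result (R A : Type u) [CommRing R] [CommRing A] (φ : R →+* A)
    [DTen.HasLBase φ] (K : DRing.Cx R) (hK : DRing.IsKFlat R K) :
    IsIso ((DTen.baseCmp φ).app K) := by
  have := Groth.Agent.H53.BaseAdj.hasLeft φ
  let G' := (extCx φ ⋙ DerivedCategory.Q).totalLeftDerived DerivedCategory.Q (qis R)
  let α : DerivedCategory.Q ⋙ G' ⟶ extCx φ ⋙ DerivedCategory.Q :=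
    (extCx φ ⋙ DerivedCategory.Q).totalLeftDerivedCounit DerivedCategory.Q (qis R)
  let adjD : G' ⊣ DRing.restrictD φ := Groth.Agent.H53.BaseAdj.derivedAdj φ G' α
  let u := (adjD.leftAdjointUniq (baseAdj φ)).hom.app (DerivedCategory.Q.obj K)
  have hu : u ≫ (baseCmp φ).app K = α.app K := by
    apply (adjD.homEquiv _ _).injective
    rw [Adjunction.homEquiv_unit, Adjunction.homEquiv_unit, Functor.map_comp, ← Category.assoc,
      Adjunction.unit_leftAdjointUniq_hom_app, Groth.Agent.H53.BaseAdj.derivedAdj_unit_fac]
    exact baseCmp_fac φ K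
  have h1 : IsIso (α.app K) := Groth.Agent.H53.BaseAdj.isIso_app_kflat φ G' α K hK
  have h2 : IsIso (u ≫ (baseCmp φ).app K) := hu ▸ h1
  exact IsIso.of_isIso_comp_left u _

end Groth.Agent.S13894
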