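import Groth.Statements.S13576

set_option autoImplicit false
universe u
open CategoryTheory CategoryTheory.Limits MonoidalCategory
attribute [local instance] HasDerivedCategory.standard
open DTen

namespace Groth.Agent.S13576

variable {A : Type u} [CommRing A]

lemma braidCx_invol (K L : DRing.Cx A) : (braidCx K L).hom ≫ (braidCx L K).hom = 𝟙 _ := by
  refine HomologicalComplex.hom_ext _ _ (fun n => HomologicalComplex.mapBifunctor.hom_ext (fun p q h => ?_))
  rw [HomologicalComplex.comp_f]
  erw [ι_braidCx_hom_assoc K L p q n h]
  rw [Linear.units_smul_comp, Category.assoc]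
  erw [ι_braidCx_hom L K q p n (by dsimp at h; omega)]
  rw [Linear.comp_units_smul, smul_smul, mul_comm q p, Int.units_mul_self, one_smul,
    SymmetricCategory.symmetry_assoc, HomologicalComplex.id_f]
  exact (Category.comp_id _).symm

/-- the composite of the two symmetries, as an endomorphism of the derived tensor product -/
noncomputable def tau (A : Type u) [CommRing A] [DTen.HasLTen A] : LTen₂ A ⟶ LTen₂ A where
  app X := (show (LTen₂ A).obj X ⟶ (LTen₂ A).obj (X.2, X.1) from (DTen.symm A).app (X.2, X.1)) ≫
    (DTen.symm A).app X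
  naturality X Y f := by
    have h1 := (DTen.symm A).naturality ((CategoryTheory.Prod.swap _ _).map f)
    have h2 := (DTen.symm A).naturality f
    dsimp at h1 h2 ⊢
    rw [Category.assoc, ← h2]
    erw [← reassoc_of% h1]
    rfl

lemma tau_eq_id (A : Type u) [CommRing A] [DTen.HasLTen A] : tau A = 𝟙 _ := by
  apply (LTen₂ A).leftDerived_ext (ε A) (qis₂ A)
  ext ⟨K, L⟩
  dsimp [tau]
  rw [Category.assoc, symm_fac A K L]
  erw [reassoc_of% (symm_fac A L K)]
  rw [← CategoryTheory.Functor.map_comp, braidCx_invol]
  erw [CategoryTheory.Functor.map_id]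
  rw [Category.id_comp]
  exact Category.comp_id _

/-- For a commutative ring `A` and objects `K`, `L` of `D(A)`, the canonical symmetry morphism `L ⊗^L K
⟶ K ⊗^L L` of the derived tensor product, the one compatible with the swap of complexes carrying the
sign `(-1)^{pq}` on `K^p ⊗ L^q`, is an isomorphism. -/
theorem result (A : Type u) [CommRing A] [DTen.HasLTen A] (K L : Dual.D A) :
    IsIso ((DTen.symm A).app (K, L)) := by
  refine ⟨⟨(DTen.symm A).app (L, K), ?_, ?_⟩⟩
  · exact congrArg (fun t => t.app (L, K)) (tau_eq_id A)
  · exact congrArg (fun t => t.app (K, L)) (tau_eq_id A)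

end Groth.Agent.S13576
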