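import Groth.Statements.S7058
import Mathlib
import Groth.Agent.H35.DerSeq

set_option autoImplicit false
universe u
attribute [local instance] HasDerivedCategory.standard
open CategoryTheory
open DRing

namespace Groth.Agent.S7058

/-- The homology functors of `D(A)` are `A`-linear on scalar multiples of identities. -/
theorem homologyFunctor_map_smul_id {A : Type u} [CommRing A] (r : A)
    (X : DerivedCategory (ModuleCat.{u} A)) (i : ℤ) :
    (DerivedCategory.homologyFunctor (ModuleCat.{u} A) i).map (r • 𝟙 X) =
      r • 𝟙 ((DerivedCategory.homologyFunctor (ModuleCat.{u} A) i).obj X) := by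
  let X' := DerivedCategory.Q.objPreimage X
  let e : DerivedCategory.Q.obj X' ≅ X := DerivedCategory.Q.objObjPreimageIso X
  have h1 : r • 𝟙 X = e.inv ≫ DerivedCategory.Q.map (r • 𝟙 X') ≫ e.hom := by
    rw [Functor.map_smul, CategoryTheory.Functor.map_id, Linear.smul_comp, Linear.comp_smul, Category.id_comp,
      e.inv_hom_id]
  have h3 : (HomologicalComplex.homologyFunctor (ModuleCat.{u} A) (ComplexShape.up ℤ) i).map
      (r • 𝟙 X') = r • 𝟙 _ := by
    have h4 : (HomologicalComplex.shortComplexFunctor (ModuleCat.{u} A) (ComplexShape.up ℤ) i).map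
        (r • 𝟙 X') = r • 𝟙 _ := by
      ext <;> simp <;> rfl
    show ShortComplex.homologyMap
      ((HomologicalComplex.shortComplexFunctor _ _ i).map (r • 𝟙 X')) = _
    rw [h4, ShortComplex.homologyMap_smul, ShortComplex.homologyMap_id]
    rfl
  have nat := (DerivedCategory.homologyFunctorFactors (ModuleCat.{u} A) i).hom.naturality
    (r • 𝟙 X')
  rw [h3, Linear.comp_smul, Category.comp_id] at nat
  have h2 : (DerivedCategory.homologyFunctor (ModuleCat.{u} A) i).map
      (DerivedCategory.Q.map (r • 𝟙 X')) =
      r • 𝟙 ((DerivedCategory.homologyFunctor (ModuleCat.{u} A) i).obj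
        (DerivedCategory.Q.obj X')) := by
    have h5 := congrArg
      (fun k => k ≫ (DerivedCategory.homologyFunctorFactors (ModuleCat.{u} A) i).inv.app X') nat
    simp only [Category.assoc, Iso.hom_inv_id_app, Category.comp_id, Linear.smul_comp] at h5
    exact h5
  rw [h1, CategoryTheory.Functor.map_comp, CategoryTheory.Functor.map_comp, h2, Linear.smul_comp,
    Linear.comp_smul, Category.id_comp, ← CategoryTheory.Functor.map_comp, e.inv_hom_id,
    CategoryTheory.Functor.map_id]

/-- An object of `D(A)` all of whose cohomology modules vanish is zero. -/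
theorem isZero_of_subsingleton_homology {A : Type u} [CommRing A]
    (L : DerivedCategory (ModuleCat.{u} A))
    (h : ∀ i : ℤ, Subsingleton ((DerivedCategory.homologyFunctor (ModuleCat.{u} A) i).obj L)) :
    Limits.IsZero L := by
  have hz : ∀ i, Limits.IsZero ((DerivedCategory.homologyFunctor (ModuleCat.{u} A) i).obj L) :=
    fun i => by
      have := h i
      exact ModuleCat.isZero_of_subsingleton
        ((DerivedCategory.homologyFunctor (ModuleCat.{u} A) i).obj L)
  rw [Limits.IsZero.iff_id_eq_zero]
  have : IsIso (0 : L ⟶ L) := by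
    rw [DerivedCategory.isIso_iff]
    intro n
    exact ⟨⟨0, (hz n).eq_of_src _ _, (hz n).eq_of_tgt _ _⟩⟩
  rw [← IsIso.hom_inv_id (0 : L ⟶ L), Limits.zero_comp]

/-- A derived complete object on which some `f ∈ I` acts invertibly is zero. -/
theorem isZero_of_isIso_smul_id {A : Type u} [CommRing A] (I : Ideal A)
    (L : Dual.D A) (hL : DRing.IsDerivedComplete I L) (f : A) (hf : f ∈ I)
    (hiso : IsIso (f • 𝟙 L)) : Limits.IsZero L := by
  have hsc := (H35.isDerivedComplete_iff_seqComplete I L).1 hL f hf
  refine isZero_of_subsingleton_homology L (fun i => ?_)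
  refine (hsc i).subsingleton_of_smul_surjective (fun x => ?_)
  have h1 : IsIso ((DerivedCategory.homologyFunctor (ModuleCat.{u} A) i).map (f • 𝟙 L)) :=
    inferInstance
  rw [homologyFunctor_map_smul_id] at h1
  obtain ⟨g, hg⟩ : ∃ g, g = f • 𝟙 ((DerivedCategory.homologyFunctor (ModuleCat.{u} A) i).obj L) :=
    ⟨_, rfl⟩
  rw [← hg] at h1
  have := h1
  have h3 : ∀ y, g.hom y = f • y := by
    intro y
    rw [hg]
    rfl
  refine ⟨(inv g).hom x, ?_⟩
  have h : (inv g ≫ g).hom x =
      ModuleCat.Hom.hom (𝟙 ((DerivedCategory.homologyFunctor (ModuleCat.{u} A) i).obj L)) x := by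
    rw [IsIso.inv_hom_id]
  have h2 : g.hom ((inv g).hom x) = x := h
  rw [h3] at h2
  exact h2


/-- Let A be a commutative ring, I a finitely generated ideal, and assume the derived completion functor
(left adjoint to the inclusion of derived complete objects of D(A)) exists. If K is a cochain
complex of A-modules and some f in I acts bijectively on every term of K, then the derived
completion of K is zero. -/
theorem result {A : Type u} [CommRing A] (I : Ideal A) (hI : I.FG)
    [DRing.HasDerivedCompletion I] (K : DRing.Cx A) (f : A) (hf : f ∈ I)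
    (hK : ∀ i : ℤ, Function.Bijective (fun x : K.X i => f • x)) :
    Limits.IsZero ((DRing.derivedCompletion I).obj (DRing.toD K)).obj := by
  have hcomp : ∀ i, IsIso ((f • 𝟙 K : K ⟶ K).f i) := by
    intro i
    have e : ((ConcreteCategory.hom ((f • 𝟙 K : K ⟶ K).f i)) : K.X i → K.X i) =
        fun x => f • x := by
      funext x
      simp
      try rfl
    rw [ConcreteCategory.isIso_iff_bijective, e]
    exact hK i
  have hisoK : IsIso (f • 𝟙 K) := HomologicalComplex.Hom.isIso_of_components _
  have hisoX : IsIso (f • 𝟙 (DRing.toD K)) := by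
    have h1 : f • 𝟙 (DRing.toD K) = DerivedCategory.Q.map (f • 𝟙 K) := by
      rw [Functor.map_smul, CategoryTheory.Functor.map_id]
    rw [h1]
    infer_instance
  let adj := DRing.derivedCompletionAdj I
  let L := (DRing.derivedCompletion I).obj (DRing.toD K)
  have key : (DRing.derivedCompletion I).map (f • 𝟙 (DRing.toD K)) =
      (ObjectProperty.homMk (f • 𝟙 L.obj) : L ⟶ L) := by
    apply (adj.homEquiv (DRing.toD K) L).injective
    rw [Adjunction.homEquiv_unit, Adjunction.homEquiv_unit]
    have nat := adj.unit.naturality (f • 𝟙 (DRing.toD K))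
    have e1 : (f • 𝟙 (DRing.toD K)) ≫ adj.unit.app (DRing.toD K) =
        adj.unit.app (DRing.toD K) ≫ (f • 𝟙 L.obj) := by
      rw [Linear.smul_comp, Category.id_comp, Linear.comp_smul]
      congr 1
      exact (Category.comp_id _).symm
    exact nat.symm.trans e1
  have hisoL : IsIso (f • 𝟙 L.obj) := by
    have h1 : IsIso ((DRing.derivedCompletion I).map (f • 𝟙 (DRing.toD K))) := inferInstance
    rw [key] at h1
    have := h1
    exact (inferInstance : IsIso ((ObjectProperty.ι (DRing.IsDerivedComplete I)).map
      (ObjectProperty.homMk (f • 𝟙 L.obj) : L ⟶ L)))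
  exact isZero_of_isIso_smul_id I L.obj L.property f hf hisoL

end Groth.Agent.S7058
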