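import Groth.Statements.S13893
import Groth.Agent.H53.MixComp
import Groth.Agent.S13894

set_option autoImplicit false
universe u
open CategoryTheory CategoryTheory.Limits MonoidalCategory
attribute [local instance] HasDerivedCategory.standard
open DTen

namespace Groth.Agent.S13893

open Groth.Agent.H31 Groth.Agent.H53 in
/-- Every object of `D(B)` is represented by a K-flat complex. -/
lemma exists_kflat_model {B : Type u} [CommRing B] (a : Dual.D B) :
    ∃ (P : DRing.Cx B), DRing.IsKFlat B P ∧ Nonempty (DerivedCategory.Q.obj P ≅ a) := by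
  obtain ⟨P, f, hP, -, hf, -⟩ :=
    KFlatRing.exists_isKFlat_resolution (DerivedCategory.Q.objPreimage a)
  exact ⟨P, hP, ⟨asIso (DerivedCategory.Q.map f) ≪≫ DerivedCategory.Q.objObjPreimageIso a⟩⟩

open Groth.Agent.H53 in
/-- `split` is an isomorphism on pairs of K-flat complexes. -/
lemma isIso_split_Q {R A : Type u} [CommRing R] [CommRing A] (φ : R →+* A) [DTen.HasLTen A]
    [DTen.HasLBase φ] [DTen.HasLTenMix φ] (K : DRing.Cx R) (P : DRing.Cx A)
    (hK : DRing.IsKFlat R K) (hP : DRing.IsKFlat A P) :
    IsIso ((DTen.split φ).app ((QMix R A).obj (K, P))) := by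
  have hfac := split_fac φ (K, P)
  have h1 : IsIso ((εMix φ).app (K, P)) := MixComp.isIso_εMix φ K P hK hP
  have h2 : IsIso ((splitβ φ).app (K, P)) := by
    have hb : IsIso ((baseCmp φ).app K) := Groth.Agent.S13894.result R A φ K hK
    have hε : IsIso ((ε A).app ((extCx φ).obj K, P)) := DTenComp.isIso_ε_right A _ P hP
    have hm : IsIso (Prod.mkHom ((baseCmp φ).app K) (𝟙 (DerivedCategory.Q.obj P)) :
        (((DerivedCategory.Q ⋙ LBase φ).obj K, DerivedCategory.Q.obj P) : Dual.D A × Dual.D A) ⟶
          ((extCx φ ⋙ DerivedCategory.Q).obj K, DerivedCategory.Q.obj P)) :=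
      (isIso_prod_iff _ _).2 ⟨hb, inferInstanceAs (IsIso (𝟙 (DerivedCategory.Q.obj P)))⟩
    change IsIso ((LTen₂ A).map (Prod.mkHom ((baseCmp φ).app K) (𝟙 (DerivedCategory.Q.obj P))) ≫
      (ε A).app ((extCx φ).obj K, P))
    infer_instance
  rw [← hfac] at h2
  exact IsIso.of_isIso_comp_right _ ((εMix φ).app (K, P))

/-- For a map of commutative rings `φ : R → A`, an object `E` of `D(R)` and an object `N` of `D(A)`, the
canonical comparison morphism `(E ⊗^L_R A) ⊗^L_A N ⟶ E ⊗^L_R N` — from derived base change followed
by the derived tensor product over `A` to the mixed derived tensor product, the unique morphism of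
functors compatible with the counits — is an isomorphism. (The existence of the three derived
functors, which the published statement also asserts, is assumed here as hypotheses; exactness of
the mixed functor is not part of this row.) -/
theorem result (R A : Type u) [CommRing R] [CommRing A] (φ : R →+* A) [DTen.HasLTen A]
    [DTen.HasLBase φ] [DTen.HasLTenMix φ] (E : Dual.D R) (N : Dual.D A) :
    IsIso ((DTen.split φ).app (E, N)) := by
  obtain ⟨K, hK, ⟨eK⟩⟩ := exists_kflat_model E
  obtain ⟨P, hP, ⟨eP⟩⟩ := exists_kflat_model N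
  let e : (QMix R A).obj (K, P) ≅ (E, N) := Iso.prod eK eP
  exact (NatTrans.isIso_app_iff_of_iso (split φ) e).1 (isIso_split_Q φ K P hK hP)

end Groth.Agent.S13893
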