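import Groth.Statements.S0984
import Groth.Agent.H6.Hocolim

set_option autoImplicit false
universe v u
open CategoryTheory
open DerLim

namespace Groth.Agent.S0984

section Construction

open CategoryTheory.Limits CategoryTheory.Pretriangulated Groth.Agent.H6

variable {D : Type u} [Category.{v} D] [Preadditive D] [Limits.HasZeroObject D] [HasShift D ℤ]
  [∀ n : ℤ, (shiftFunctor D n).Additive] [Pretriangulated D] [HasCoproducts.{v} D]
  {ι : Type v} (E : ι → D) (X : D)

/-- An object over `X`. -/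
structure Stage where
  /-- the object -/
  obj : D
  /-- the map to `X` -/
  hom : obj ⟶ X

variable {X}

/-- index type: maps from shifts of the `E i` killed by the structure map. -/
abbrev Idx (S : Stage X) : Type v :=
  Σ (i : ι) (m : ℤ), {φ : (shiftFunctor D m).obj (E i) ⟶ S.obj // φ ≫ S.hom = 0}

/-- The canonical map from the sum over `Idx`. -/
noncomputable abbrev y (S : Stage X) :
    (∐ fun k : Idx E S => (shiftFunctor D k.2.1).obj (E k.1)) ⟶ S.obj :=
  Sigma.desc fun k => k.2.2.1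

lemma y_hom (S : Stage X) : y E S ≫ S.hom = 0 := by
  apply Sigma.hom_ext
  intro k
  rw [Sigma.ι_desc_assoc, Limits.comp_zero]
  exact k.2.2.2

lemma exists_next (S : Stage X) : ∃ (S' : Stage X) (f : S.obj ⟶ S'.obj)
    (z : S'.obj ⟶ (shiftFunctor D (1 : ℤ)).obj
      (∐ fun k : Idx E S => (shiftFunctor D k.2.1).obj (E k.1))),
    Triangle.mk (y E S) f z ∈ distTriang D ∧ f ≫ S'.hom = S.hom := by
  obtain ⟨Z, f, z, hT⟩ := distinguished_cocone_triangle (y E S)
  obtain ⟨t, ht⟩ := Triangle.yoneda_exact₂ _ hT S.hom (y_hom E S)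
  exact ⟨⟨Z, t⟩, f, z, hT, ht.symm⟩

/-- next stage -/
noncomputable def next (S : Stage X) : Stage X := (exists_next E S).choose

/-- transition map -/
noncomputable def nextMap (S : Stage X) : S.obj ⟶ (next E S).obj :=
  (exists_next E S).choose_spec.choose

lemma next_spec (S : Stage X) : ∃ (z : (next E S).obj ⟶ (shiftFunctor D (1 : ℤ)).obj
      (∐ fun k : Idx E S => (shiftFunctor D k.2.1).obj (E k.1))),
    Triangle.mk (y E S) (nextMap E S) z ∈ distTriang D ∧
      nextMap E S ≫ (next E S).hom = S.hom :=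
  (exists_next E S).choose_spec.choose_spec

variable (X) in
/-- initial stage -/
noncomputable def stage0 : Stage X :=
  ⟨∐ fun k : (Σ (i : ι) (m : ℤ), ((shiftFunctor D m).obj (E i) ⟶ X)) =>
      (shiftFunctor D k.2.1).obj (E k.1),
    Sigma.desc fun k => k.2.2⟩

variable (X) in
/-- the sequence of stages -/
noncomputable def seq : ℕ → Stage X :=
  fun n => Nat.rec (stage0 E X) (fun _ S => next E S) n

lemma exists_system (X : D) : ∃ (K : ℕ → D) (f : ∀ n, K n ⟶ K (n + 1)) (i : ∀ n, K n ⟶ X),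
    (∀ n, f n ≫ i (n + 1) = i n) ∧
    (∀ (n : ℕ) (a : ι) (m : ℤ) (φ : (shiftFunctor D m).obj (E a) ⟶ K n),
      φ ≫ i n = 0 → φ ≫ f n = 0) ∧
    (∀ (a : ι) (m : ℤ) (φ : (shiftFunctor D m).obj (E a) ⟶ X),
      ∃ ψ : (shiftFunctor D m).obj (E a) ⟶ K 0, ψ ≫ i 0 = φ) ∧
    (∃ (κ : Type v) (a : κ → ι) (m : κ → ℤ),
      Nonempty (K 0 ≅ ∐ (fun k => (shiftFunctor D (m k)).obj (E (a k))))) ∧
    (∀ n, ∃ (κ : Type v) (a : κ → ι) (m : κ → ℤ)
      (y : (∐ fun k => (shiftFunctor D (m k)).obj (E (a k))) ⟶ K n)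
      (z : K (n + 1) ⟶ (shiftFunctor D (1 : ℤ)).obj
        (∐ fun k => (shiftFunctor D (m k)).obj (E (a k)))),
      Triangle.mk y (f n) z ∈ distinguishedTriangles) := by
  refine ⟨fun n => (seq E X n).obj, fun n => nextMap E (seq E X n), fun n => (seq E X n).hom,
    ?_, ?_, ?_, ?_, ?_⟩
  · intro n
    exact (next_spec E (seq E X n)).choose_spec.2
  · intro n a m φ hφ
    obtain ⟨z, hT, -⟩ := next_spec E (seq E X n)
    have h1 : φ = Sigma.ι (fun k : Idx E (seq E X n) => (shiftFunctor D k.2.1).obj (E k.1))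
        ⟨a, m, φ, hφ⟩ ≫ y E (seq E X n) := by
      rw [Sigma.ι_desc]
    have h2 : y E (seq E X n) ≫ nextMap E (seq E X n) = 0 := comp_distTriang_mor_zero₁₂ _ hT
    have h3 : φ ≫ nextMap E (seq E X n) = 0 := by
      rw [h1, Category.assoc, h2, Limits.comp_zero]
    exact h3
  · intro a m φ
    exact ⟨Sigma.ι (fun k : (Σ (i : ι) (m : ℤ), ((shiftFunctor D m).obj (E i) ⟶ X)) =>
      (shiftFunctor D k.2.1).obj (E k.1)) ⟨a, m, φ⟩, Sigma.ι_desc _ _⟩
  · exact ⟨(Σ (i : ι) (m : ℤ), ((shiftFunctor D m).obj (E i) ⟶ X)), fun k => k.1, fun k => k.2.1,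
      ⟨Iso.refl _⟩⟩
  · intro n
    obtain ⟨z, hT', -⟩ := next_spec E (seq E X n)
    exact ⟨Idx E (seq E X n), fun k => k.1, fun k => k.2.1, y E (seq E X n), z, hT'⟩

end Construction

open CategoryTheory.Limits CategoryTheory.Pretriangulated in
/-- Let D be a triangulated category with all small direct sums and E a small family of compact objects
which generates D. Every object X of D is a homotopy colimit of a sequential system X₀ → X₁ → X₂ → …
in which X₀ is a direct sum of shifts of members of E and each transition map Xₙ → Xₙ₊₁ sits in a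
distinguished triangle Yₙ → Xₙ → Xₙ₊₁ → Yₙ[1] with Yₙ a direct sum of shifts of members of E. -/
theorem result {D : Type u} [Category.{v} D] [Preadditive D] [Limits.HasZeroObject D] [HasShift D ℤ]
    [∀ n : ℤ, (shiftFunctor D n).Additive] [Pretriangulated D] [IsTriangulated D] [HasCoproducts.{v} D]
    [HasColimitsOfShape (Discrete ℕ) D]
    {ι : Type v} (E : ι → D) (hc : ∀ i, CohDer.IsCompactObject (E i)) (hg : CohDer.Generates E) (X : D) :
    ∃ (K : ℕ → D) (f : ∀ n, K n ⟶ K (n + 1)) (i : ∀ n, K n ⟶ X),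
      DerLim.IsHocolim K f X i ∧
      (∃ (κ : Type v) (a : κ → ι) (m : κ → ℤ), Nonempty (K 0 ≅ ∐ (fun k => (shiftFunctor D (m k)).obj (E (a k))))) ∧
      ∀ n, ∃ (κ : Type v) (a : κ → ι) (m : κ → ℤ) (y : (∐ fun k => (shiftFunctor D (m k)).obj (E (a k))) ⟶ K n)
        (z : K (n + 1) ⟶ (shiftFunctor D (1 : ℤ)).obj (∐ fun k => (shiftFunctor D (m k)).obj (E (a k)))),
        Triangle.mk y (f n) z ∈ distinguishedTriangles := by
  classical
  obtain ⟨K, f, i, hfi, hkill, hsurj0, hK0, hstep⟩ := exists_system E X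
  obtain ⟨L, p, c, hT⟩ := distinguished_cocone_triangle (𝟙 (∐ K) - DerLim.shiftMap K f)
  have hp : p = Sigma.desc (fun n => Sigma.ι K n ≫ p) := by
    apply Sigma.hom_ext
    intro n
    rw [Sigma.ι_desc]
  rw [hp] at hT
  have hL : DerLim.IsHocolim K f L (fun n => Sigma.ι K n ≫ p) := ⟨c, hT⟩
  have h0 : (𝟙 (∐ K) - DerLim.shiftMap K f) ≫ Sigma.desc i = 0 := by
    apply Sigma.hom_ext
    intro n
    rw [Preadditive.sub_comp, Preadditive.comp_sub, Category.id_comp, Sigma.ι_desc,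
      DerLim.shiftMap, Sigma.ι_desc_assoc, Category.assoc, Sigma.ι_desc, hfi, sub_self,
      Limits.comp_zero]
  obtain ⟨(t : L ⟶ X), ht⟩ := Triangle.yoneda_exact₂ _ hT (Sigma.desc i) h0
  replace ht : Sigma.desc i = Sigma.desc (fun n => Sigma.ι K n ≫ p) ≫ t := ht
  have hjt : ∀ n, (Sigma.ι K n ≫ p) ≫ t = i n := by
    intro n
    have h := congrArg (fun q => Sigma.ι K n ≫ q) ht
    simp only [Sigma.ι_desc, Sigma.ι_desc_assoc] at h
    exact h.symm
  have hsurj : ∀ (a : ι) (m : ℤ) (φ : (shiftFunctor D m).obj (E a) ⟶ X),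
      ∃ ψ : (shiftFunctor D m).obj (E a) ⟶ L, ψ ≫ t = φ := by
    intro a m φ
    obtain ⟨ψ, hψ⟩ := hsurj0 a m φ
    exact ⟨ψ ≫ (Sigma.ι K 0 ≫ p), by rw [Category.assoc, hjt 0, hψ]⟩
  have hinj : ∀ (a : ι) (m : ℤ) (ψ : (shiftFunctor D m).obj (E a) ⟶ L), ψ ≫ t = 0 → ψ = 0 := by
    intro a m ψ hψ
    obtain ⟨N, b, rfl⟩ := Groth.Agent.H6.IsHocolim.exists_factor_of_compact hL
      (Groth.Agent.H6.isCompactObject_shift (hc a) m) ψ
    rw [Category.assoc, hjt N] at hψ
    have h1 := Groth.Agent.H6.IsHocolim.ι_eq hL N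
    rw [h1, ← Category.assoc, hkill N a m b hψ, Limits.zero_comp]
  obtain ⟨Z, α, β, hTZ⟩ := distinguished_cocone_triangle t
  have hZ : IsZero Z := by
    apply hg
    intro a n g
    let adjn : shiftFunctor D (-n) ⊣ shiftFunctor D n :=
      (shiftEquiv' D (-n) n (by simp)).toAdjunction
    suffices h : (adjn.homEquiv _ _).symm g = 0 by
      have h' := congrArg (adjn.homEquiv _ _) h
      rw [Equiv.apply_symm_apply] at h'
      rw [h']
      exact map_zero (adjn.homAddEquiv _ _)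
    have hβ : (adjn.homEquiv _ _).symm g ≫ β = 0 := by
      let adj1 : shiftFunctor D (-1 : ℤ) ⊣ shiftFunctor D (1 : ℤ) :=
        (shiftEquiv' D (-1 : ℤ) 1 (by norm_num)).toAdjunction
      have h31 : β ≫ (shiftFunctor D (1 : ℤ)).map t = 0 := comp_distTriang_mor_zero₃₁ _ hTZ
      have hu : (adj1.homEquiv _ _).symm ((adjn.homEquiv _ _).symm g ≫ β) ≫ t = 0 := by
        rw [← Adjunction.homEquiv_naturality_right_symm, Category.assoc, h31, Limits.comp_zero]
        exact map_zero (adj1.homAddEquiv _ _).symm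
      have hu' : ((shiftFunctorAdd D (-n) (-1)).app (E a)).hom ≫
          (adj1.homEquiv _ _).symm ((adjn.homEquiv _ _).symm g ≫ β) = 0 :=
        hinj a (-n + -1) _ (by rw [Category.assoc, hu, Limits.comp_zero])
      have hu'' : (adj1.homEquiv _ _).symm ((adjn.homEquiv _ _).symm g ≫ β) = 0 := by
        rw [← cancel_epi ((shiftFunctorAdd D (-n) (-1)).app (E a)).hom, hu', Limits.comp_zero]
      have h' := congrArg (adj1.homEquiv _ _) hu''
      rw [Equiv.apply_symm_apply] at h'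
      rw [h']
      exact map_zero (adj1.homAddEquiv _ _)
    obtain ⟨(g'' : (shiftFunctor D (-n)).obj (E a) ⟶ X), hg''⟩ :=
      Triangle.coyoneda_exact₃ _ hTZ _ hβ
    replace hg'' : (adjn.homEquiv _ _).symm g = g'' ≫ α := hg''
    obtain ⟨ψ, hψ⟩ := hsurj a (-n) g''
    have htα : t ≫ α = 0 := comp_distTriang_mor_zero₁₂ _ hTZ
    rw [hg'', ← hψ, Category.assoc, htα, Limits.comp_zero]
  have htiso : IsIso t := (Triangle.isZero₃_iff_isIso₁ _ hTZ).1 hZ
  refine ⟨K, f, i, ?_, hK0, hstep⟩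
  refine ⟨inv t ≫ c, ?_⟩
  refine isomorphic_distinguished _ hT _ ?_
  refine Triangle.isoMk _ _ (Iso.refl _) (Iso.refl _) (asIso t).symm ?_ ?_ ?_
  · exact (Category.comp_id _).trans (Category.id_comp _).symm
  · show Sigma.desc i ≫ inv t = 𝟙 _ ≫ Sigma.desc (fun n => Sigma.ι K n ≫ p)
    rw [Category.id_comp, ht, Category.assoc, IsIso.hom_inv_id, Category.comp_id]
  · show (inv t ≫ c) ≫ (shiftFunctor D (1 : ℤ)).map (𝟙 _) = inv t ≫ c
    rw [CategoryTheory.Functor.map_id, Category.comp_id]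

end Groth.Agent.S0984
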