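import Groth.Statements.S14989
import Groth.Agent.S9515
import Groth.Agent.H36.IdealMulAffine
import Groth.Agent.H36.FreeEpiRestrict
import Groth.Agent.H8.FreeMod
import Groth.Agent.H8.QCohStalk
import Groth.Agent.H8.QCohQcqs
import Groth.Agent.H8.StructureCoh
import Groth.Agent.H82.HHFinite
import Groth.Agent.H21.EpiPush
import Groth.Agent.H22.SerreAffine
import Groth.Agent.H18.Serre.Generation
-- import your own Groth.Agent.* helpers here

set_option autoImplicit false
universe u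
open CategoryTheory CategoryTheory.Limits AlgebraicGeometry
open ResProp

namespace Groth.Agent.S14989

section Helpers

variable {Y : Scheme.{u}}

/-- Sections over nonempty opens form torsion-free modules. -/
def TF (M : Y.Modules) : Prop :=
  ∀ (V : Y.Opens), Nonempty V → ∀ (a : Γ(Y, V)) (t : Γ(M, V)), a • t = 0 → a = 0 ∨ t = 0

lemma tf_of_mono {M N : Y.Modules} (i : M ⟶ N) [Mono i] (h : TF N) : TF M := by
  intro V hV a t hat
  have h0 : a • Scheme.Modules.Hom.app i V t = 0 := by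
    rw [← Scheme.Modules.Hom.app_smul, hat, map_zero]
  rcases h V hV a (Scheme.Modules.Hom.app i V t) h0 with h1 | h1
  · exact Or.inl h1
  · right
    apply Groth.Agent.H8.app_injective_of_mono i V
    rw [h1, map_zero]

lemma tf_freeMod [IsIntegral Y] (n : ℕ) : TF (FlatMod.freeMod Y n) := by
  intro V hV a t hat
  haveI := hV
  by_cases ha : a = 0
  · exact Or.inl ha
  right
  have h1 : a • (Groth.Agent.H8.sectionsFreeEquiv Y n V t) = 0 := by
    rw [← map_smul, hat, map_zero]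
  apply (Groth.Agent.H8.sectionsFreeEquiv Y n V).injective
  rw [map_zero]
  funext i
  have h2 := congrFun h1 i
  simp only [Pi.smul_apply, smul_eq_mul, Pi.zero_apply] at h2
  exact (mul_eq_zero.mp h2).resolve_left ha

lemma tf_sigma {J : Type} [Fintype J] [DecidableEq J] (M : J → Y.Modules)
    (h : ∀ j, TF (M j)) : TF (∐ M) := by
  haveI : HasFiniteBiproducts Y.Modules := HasFiniteBiproducts.of_hasFiniteProducts
  obtain ⟨p, hp⟩ := Groth.Agent.H82.HHFinite.exists_sigma_total M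
  intro V hV a t hat
  by_cases ha : a = 0
  · exact Or.inl ha
  right
  have h1 : ∀ j, Scheme.Modules.Hom.app (p j) V t = 0 := by
    intro j
    have h2 : a • Scheme.Modules.Hom.app (p j) V t = 0 := by
      rw [← Scheme.Modules.Hom.app_smul, hat, map_zero]
    exact (h j V hV a _ h2).resolve_left ha
  have h3 : Scheme.Modules.Hom.app (∑ j, p j ≫ Sigma.ι M j) V t = t := by
    rw [hp]
    rfl
  rw [Groth.Agent.H8.app_sum] at h3
  rw [← h3]
  refine Finset.sum_eq_zero (fun j _ => ?_)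
  show Scheme.Modules.Hom.app (Sigma.ι M j) V (Scheme.Modules.Hom.app (p j) V t) = 0
  rw [h1 j, map_zero]

set_option linter.style.haveILetI false in
lemma noZeroSMulDivisors_stalk [IsIntegral Y] (M : Y.Modules) [M.IsQuasicoherent] (h : TF M)
    (y : Y) : NoZeroSMulDivisors ↥(Y.presheaf.stalk y) ↥(M.presheaf.stalk y) := by
  obtain ⟨V, -, hyV⟩ := Groth.Agent.H36.IdealMul.exists_affine_mem Y y
  have hV : IsAffineOpen V.1 := V.2
  have hne : Nonempty V.1 := ⟨⟨y, hyV⟩⟩
  letI := Y.presheaf.algebra_section_stalk ⟨y, hyV⟩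
  haveI := hV.isLocalization_stalk ⟨y, hyV⟩
  refine ⟨fun {c x} hcx => ?_⟩
  obtain ⟨a, hya, m, hm⟩ := Groth.Agent.H8.exists_germ_smul_eq_germ M hV y hyV x
  obtain ⟨⟨b, s⟩, hbs⟩ := IsLocalization.surj (hV.primeIdealOf ⟨y, hyV⟩).asIdeal.primeCompl c
  have hs_unit : IsUnit (algebraMap Γ(Y, V.1) (Y.presheaf.stalk y) s.1) :=
    IsLocalization.map_units (Y.presheaf.stalk y) s
  have ha_unit : IsUnit (Y.presheaf.germ V.1 y hyV a) :=
    (Scheme.mem_basicOpen _ _ _ hyV).mp hya
  have hb : Y.presheaf.germ V.1 y hyV b =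
      c * algebraMap Γ(Y, V.1) (Y.presheaf.stalk y) s.1 := hbs.symm
  have key : M.presheaf.germ V.1 y hyV (b • m) = 0 := by
    rw [Groth.Agent.H8.germ_smul, ← hm, hb, smul_smul]
    have h5 : c * algebraMap Γ(Y, V.1) (Y.presheaf.stalk y) s.1 * Y.presheaf.germ V.1 y hyV a =
        (algebraMap Γ(Y, V.1) (Y.presheaf.stalk y) s.1 * Y.presheaf.germ V.1 y hyV a) * c := by
      ring
    rw [h5, mul_smul, hcx, smul_zero]
  obtain ⟨a', hya', ha'⟩ :=
    Groth.Agent.H8.exists_smul_eq_zero_of_germ_eq_zero M hV y hyV (b • m) key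
  rw [smul_smul] at ha'
  rcases h V.1 hne (a' * b) m ha' with h1 | h1
  · haveI := hne
    rcases mul_eq_zero.mp h1 with h2 | h2
    · exfalso
      rw [h2, Scheme.basicOpen_zero] at hya'
      exact hya'
    · left
      rw [h2, map_zero] at hb
      exact (hs_unit.mul_left_eq_zero).mp hb.symm
  · right
    rw [h1, map_zero] at hm
    exact (ha_unit.smul_eq_zero).mp hm

lemma gen_hyp (F : Y.Modules) [F.IsQuasicoherent] {U : Y.Opens} (hU : IsAffineOpen U) (k : ℕ)
    (σ : Fin k → Γ(F, U)) (hσ : Submodule.span Γ(Y, U) (Set.range σ) = ⊤) :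
    ∀ (W : Y.Opens) (hW : W ≤ U) (t : Γ(F, W)) (x : Y), x ∈ W →
      ∃ (W' : Y.Opens) (hW' : W' ≤ W), x ∈ W' ∧ ∃ c : Fin k → Γ(Y, W'),
        F.presheaf.map (homOfLE hW').op t =
          ∑ i, c i • F.presheaf.map (homOfLE (hW'.trans hW)).op (σ i) := by
  intro W hW t x hxW
  obtain ⟨f, hfW, hxf⟩ := hU.exists_basicOpen_le ⟨x, hxW⟩ (hW hxW)
  obtain ⟨n, m, hm⟩ :=
    Groth.Agent.H8.exists_smul_eq_res hU F f (F.presheaf.map (homOfLE hfW).op t)
  have hm' : m ∈ Submodule.span Γ(Y, U) (Set.range σ) := by rw [hσ]; exact Submodule.mem_top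
  obtain ⟨a, ha⟩ := (Submodule.mem_span_range_iff_exists_fun Γ(Y, U)).mp hm'
  have hu : IsUnit ((Y.presheaf.map (homOfLE (Y.basicOpen_le f)).op f) ^ n) :=
    (RingedSpace.isUnit_res_basicOpen Y.toRingedSpace f).pow n
  obtain ⟨u, hu'⟩ := hu.exists_left_inv
  refine ⟨Y.basicOpen f, hfW, hxf,
    fun i => u * Y.presheaf.map (homOfLE (Y.basicOpen_le f)).op (a i), ?_⟩
  have h1 : F.presheaf.map (homOfLE hfW).op t =
      u • F.presheaf.map (homOfLE (Y.basicOpen_le f)).op m := by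
    rw [← hm, smul_smul, hu', one_smul]
  rw [h1, ← ha, map_sum, Finset.smul_sum]
  refine Finset.sum_congr rfl (fun i _ => ?_)
  rw [Groth.Agent.H8.res_smul, smul_smul]

lemma eq_zero_of_empty {Z : Scheme.{u}} (N : Z.Modules) (W : Z.Opens) (hW : ∀ x, x ∉ W)
    (s : Γ(N, W)) : s = 0 :=
  Groth.Agent.H8.section_eq_of_cover N s 0 (fun x hx => (hW x hx).elim)

lemma exists_ideal_support (U : Y.Opens) :
    ∃ I : Y.IdealSheafData, (U : Set Y) = (I.support : Set Y)ᶜ := by
  refine ⟨Scheme.IdealSheafData.vanishingIdeal ⟨(U : Set Y)ᶜ, U.2.isClosed_compl⟩, ?_⟩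
  rw [Scheme.IdealSheafData.coe_support_vanishingIdeal]
  simp

lemma support_pow_subset (I : Y.IdealSheafData) (n : ℕ) :
    ((I ^ n).support : Set Y) ⊆ (I.support : Set Y) := by
  cases n with
  | zero =>
    intro x hx
    exact (hx : x ∈ (∅ : Set Y)).elim
  | succ k => rw [Scheme.IdealSheafData.support_pow_succ]

lemma exists_fin_affine_cover (Y : Scheme.{u}) [CompactSpace Y] :
    ∃ (N : ℕ) (W : Fin N → Y.affineOpens), ∀ x : Y, ∃ k, x ∈ (W k).1 := by
  obtain ⟨s, hs⟩ := Groth.Agent.H36.IdealMul.exists_finite_affine_cover Y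
  refine ⟨s.card, fun k => (s.equivFin.symm k).1, fun x => ?_⟩
  obtain ⟨W, hW, hx⟩ := hs x
  refine ⟨s.equivFin ⟨W, hW⟩, ?_⟩
  show x ∈ ((s.equivFin.symm (s.equivFin ⟨W, hW⟩)).1 : Y.affineOpens).1
  rw [Equiv.symm_apply_apply]
  exact hx

set_option backward.isDefEq.respectTransparency false in
lemma restrict_map_app {A B : Y.Modules} (U : Y.Opens) (ψ : A ⟶ B) (t : Γ(A, U.ι ''ᵁ ⊤)) :
    Scheme.Modules.Hom.app ((Scheme.Modules.restrictFunctor U.ι).map ψ) ⊤
      (show Γ((Scheme.Modules.restrictFunctor U.ι).obj A, ⊤) from t) =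
    Scheme.Modules.Hom.app ψ (U.ι ''ᵁ ⊤) t := rfl

set_option backward.isDefEq.respectTransparency false in
lemma restrict_comp_app {A B : Y.Modules} (U : Y.Opens) {C : (↑U : Scheme.{u}).Modules}
    (κ : A ⟶ B) (φ : (Scheme.Modules.restrictFunctor U.ι).obj B ⟶ C) (t : Γ(A, U.ι ''ᵁ ⊤)) :
    Scheme.Modules.Hom.app ((Scheme.Modules.restrictFunctor U.ι).map κ ≫ φ) ⊤
      (show Γ((Scheme.Modules.restrictFunctor U.ι).obj A, ⊤) from t) =
    Scheme.Modules.Hom.app φ ⊤ (show Γ((Scheme.Modules.restrictFunctor U.ι).obj B, ⊤) from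
      Scheme.Modules.Hom.app κ (U.ι ''ᵁ ⊤) t) := rfl

set_option backward.isDefEq.respectTransparency false in
lemma surj_of_restrict_eq {A B F : Y.Modules} (U : Y.Opens) (ψ : A ⟶ F) (κ : A ⟶ B)
    (φ : (Scheme.Modules.restrictFunctor U.ι).obj B ⟶ (Scheme.Modules.restrictFunctor U.ι).obj F)
    (hψ : (Scheme.Modules.restrictFunctor U.ι).map ψ =
      (Scheme.Modules.restrictFunctor U.ι).map κ ≫ φ)
    (hκ : Function.Surjective (Scheme.Modules.Hom.app κ (U.ι ''ᵁ ⊤)))
    (hφ : Function.Surjective (Scheme.Modules.Hom.app φ ⊤)) :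
    Function.Surjective (Scheme.Modules.Hom.app ψ (U.ι ''ᵁ ⊤)) := by
  intro z
  obtain ⟨g, hg⟩ := hφ (show Γ((Scheme.Modules.restrictFunctor U.ι).obj F, ⊤) from z)
  obtain ⟨t, ht⟩ := hκ (show Γ(B, U.ι ''ᵁ ⊤) from g)
  refine ⟨t, ?_⟩
  have h1 := congrArg (fun ξ : (Scheme.Modules.restrictFunctor U.ι).obj A ⟶
      (Scheme.Modules.restrictFunctor U.ι).obj F =>
    Scheme.Modules.Hom.app ξ ⊤ (show Γ((Scheme.Modules.restrictFunctor U.ι).obj A, ⊤) from t)) hψ
  beta_reduce at h1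
  have hA := restrict_map_app U ψ t
  have hB := restrict_comp_app U κ φ t
  rw [ht] at hB
  exact hA.symm.trans (h1.trans (hB.trans hg))

set_option linter.style.haveILetI false in
set_option backward.isDefEq.respectTransparency false in
lemma exists_piece (Y : Scheme.{u}) [IsNoetherian Y] [IsIntegral Y] (F : Y.Modules)
    (hF : Coh.IsCoh F) (W : Y.affineOpens) :
    ∃ (P : Y.Modules) (ψ : P ⟶ F), Coh.IsCoh P ∧ TF P ∧
      Function.Surjective (Scheme.Modules.Hom.app ψ (W.1.ι ''ᵁ ⊤)) := by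
  haveI : F.IsQuasicoherent := hF.1
  haveI hfin : Module.Finite Γ(Y, W.1) Γ(F, W.1) :=
    Groth.Agent.H8.finite_sections_of_isCoh F hF W.2
  obtain ⟨r, σ, hσ⟩ := Module.Finite.exists_fin (R := Γ(Y, W.1)) (M := Γ(F, W.1))
  obtain ⟨q, hq⟩ := Groth.Agent.H36.FreeEpiRestrict.exists_epi_freeMod_restrict F W.1 r σ
    (gen_hyp F W.2 r σ hσ)
  haveI := hq
  let G : Y.Modules := FlatMod.freeMod Y r
  have hG : Coh.IsCoh G :=
    Groth.Agent.H82.HHFinite.isCoh_sigma _ (fun _ => Groth.Agent.H8.isCoh_structureModule Y)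
  haveI : G.IsQuasicoherent := hG.1
  let e := Groth.Agent.H8.restrictFreeIso W.1.ι r
  let φ : (Scheme.Modules.restrictFunctor W.1.ι).obj G ⟶
      (Scheme.Modules.restrictFunctor W.1.ι).obj F := e.hom ≫ q
  obtain ⟨I, hI⟩ := exists_ideal_support W.1
  obtain ⟨n, ψ, hψ⟩ := Groth.Agent.S9515.result Y F G hF.1 hG I W.1 hI φ
  refine ⟨(Dual3.idealMul (I ^ n)).obj G, ψ, ?_, ?_, ?_⟩
  · haveI := Groth.Agent.H36.IdealMul.isQuasicoherent_idealMul (I ^ n) G
    exact ⟨inferInstance, Groth.Agent.H8.isFiniteType_of_forall_affine_finite _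
      (fun U => Groth.Agent.H36.IdealMul.finite_sections_idealMul (I ^ n) G hG U)⟩
  · exact tf_of_mono (Dual3.idealMulι (I ^ n) G) (tf_freeMod r)
  · haveI : IsAffine (↑W.1 : Scheme.{u}) := W.2
    haveI : (FlatMod.freeMod (↑W.1 : Scheme.{u}) r).IsQuasicoherent :=
      (Groth.Agent.H82.HHFinite.isCoh_sigma _
        (fun _ => Groth.Agent.H8.isCoh_structureModule (↑W.1 : Scheme.{u}))).1
    haveI : (F.restrict W.1.ι).IsQuasicoherent :=
      Scheme.Modules.isQuasicoherent_restrictFunctor W.1.ι F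
    have hqs : Function.Surjective (Scheme.Modules.Hom.app q ⊤) :=
      Groth.Agent.H21.EpiPush.app_surjective_of_epi q (isAffineOpen_top _)
    refine surj_of_restrict_eq W.1 ψ (Dual3.idealMulι (I ^ n) G) φ hψ ?_ ?_
    · intro g
      apply Groth.Agent.H36.IdealMul.exists_idealMulι_app_eq
      refine eq_zero_of_empty ((Scheme.Modules.pullback (I ^ n).subschemeι).obj G)
        ((I ^ n).subschemeι ⁻¹ᵁ (W.1.ι ''ᵁ ⊤)) (fun x hx => ?_) _
      have h6 : (I ^ n).subschemeι x ∈ (I.support : Set Y) :=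
        support_pow_subset I n (Groth.Agent.H22.SerreAffine.subschemeι_mem_support (I ^ n) x)
      have h7 : (I ^ n).subschemeι x ∈ (W.1 : Set Y) := W.1.ι_image_le ⊤ hx
      rw [hI] at h7
      exact h7 h6
    · intro z
      obtain ⟨g', hg'⟩ := hqs z
      refine ⟨Scheme.Modules.Hom.app e.inv ⊤ g', ?_⟩
      show Scheme.Modules.Hom.app q ⊤ (Scheme.Modules.Hom.app e.hom ⊤
        (Scheme.Modules.Hom.app e.inv ⊤ g')) = z
      have h5 : Scheme.Modules.Hom.app e.hom ⊤ (Scheme.Modules.Hom.app e.inv ⊤ g') = g' :=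
        congrArg (fun ξ : FlatMod.freeMod (↑W.1 : Scheme.{u}) r ⟶
          FlatMod.freeMod (↑W.1 : Scheme.{u}) r => Scheme.Modules.Hom.app ξ ⊤ g') e.inv_hom_id
      rw [h5]
      exact hg'

end Helpers

/-- In the case of schemes, on a Noetherian integral scheme Y with affine diagonal (any two affine opens
meet in an affine open) every coherent module is a quotient of a torsion-free coherent module,
torsion-freeness meaning that each stalk is a torsion-free module over the local ring. (The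
published statement is for Noetherian integral algebraic stacks with affine diagonal; this row is
the case of schemes.) -/
theorem result (Y : Scheme.{u}) [IsNoetherian Y] [IsIntegral Y]
    (hd : ∀ V W : Y.Opens, IsAffineOpen V → IsAffineOpen W → IsAffineOpen (V ⊓ W))
    (F : Y.Modules) (hF : Coh.IsCoh F) :
    ∃ (F' : Y.Modules) (π : F' ⟶ F), Coh.IsCoh F' ∧
      (∀ y : Y, NoZeroSMulDivisors ↥(Y.presheaf.stalk y) ↥(F'.presheaf.stalk y)) ∧ Epi π := by
  classical
  haveI : F.IsQuasicoherent := hF.1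
  obtain ⟨N, W, hcov⟩ := exists_fin_affine_cover Y
  choose P ψ hcoh htf hsurj using fun k => exists_piece Y F hF (W k)
  haveI hqc : (∐ P).IsQuasicoherent := (Groth.Agent.H82.HHFinite.isCoh_sigma P hcoh).1
  refine ⟨∐ P, Sigma.desc ψ, Groth.Agent.H82.HHFinite.isCoh_sigma P hcoh,
    fun y => noZeroSMulDivisors_stalk (∐ P) (tf_sigma P htf) y, ?_⟩
  refine Groth.Agent.H18.Serre.epi_of_surjective_affine_cover (Sigma.desc ψ)
    (fun k => (W k).1.ι ''ᵁ ⊤) ?_ ?_ ?_
  · refine TopologicalSpace.IsOpenCover.mk ?_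
    rw [eq_top_iff]
    intro x _
    obtain ⟨k, hk⟩ := hcov x
    rw [TopologicalSpace.Opens.mem_iSup]
    refine ⟨k, ?_⟩
    rw [Scheme.Opens.ι_image_top]
    exact hk
  · intro k
    rw [Scheme.Opens.ι_image_top]
    exact (W k).2
  · intro k z
    obtain ⟨t, ht⟩ := hsurj k z
    refine ⟨Scheme.Modules.Hom.app (Sigma.ι P k) _ t, ?_⟩
    have h1 : Sigma.ι P k ≫ Sigma.desc ψ = ψ k := Sigma.ι_desc _ _
    have h2 := congrArg (fun ξ : P k ⟶ F =>
      Scheme.Modules.Hom.app ξ ((W k).1.ι ''ᵁ ⊤) t) h1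
    exact h2.trans ht

end Groth.Agent.S14989
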