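import Groth.Statements.S0988
import Groth.Agent.S14989
import Groth.Agent.H18.RestrictUnit
import Groth.Agent.H18.FreeEpi
import Groth.Agent.H8.IsoCover
import Groth.Agent.H8.SuppClosed
-- import your own Groth.Agent.* helpers here

set_option autoImplicit false
universe u
open CategoryTheory AlgebraicGeometry Opposite
open Perf

namespace Groth.Agent.S0988

section Helpers

open Groth.Agent.S14989 (eq_zero_of_empty exists_ideal_support support_pow_subset
  restrict_map_app restrict_comp_app)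

variable {X : Scheme.{u}}

set_option backward.isDefEq.respectTransparency false in
lemma restrictUnitIso_hom_app_one (U : X.Opens) (V : (↑U : Scheme.{u}).Opens) :
    Scheme.Modules.Hom.app (Scheme.Modules.restrictUnitIso U.ι).hom V
      (show Γ((Scheme.Modules.restrictFunctor U.ι).obj (Coh.structureModule X), V) from
        (1 : Γ(X, U.ι ''ᵁ V))) = (1 : Γ(↑U, V)) :=
  map_one (U.ι.appIso V).hom.hom

set_option backward.isDefEq.respectTransparency false in
lemma eval_of_restrict_eq {A B F : X.Modules} (U : X.Opens) (ψ : A ⟶ F) (κ : A ⟶ B) (ψ' : B ⟶ F)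
    (φ : (Scheme.Modules.restrictFunctor U.ι).obj B ⟶ (Scheme.Modules.restrictFunctor U.ι).obj F)
    (hψ : (Scheme.Modules.restrictFunctor U.ι).map ψ =
      (Scheme.Modules.restrictFunctor U.ι).map κ ≫ φ)
    (hfac : κ ≫ ψ' = ψ) (t : Γ(A, U.ι ''ᵁ ⊤)) :
    Scheme.Modules.Hom.app ψ' (U.ι ''ᵁ ⊤) (Scheme.Modules.Hom.app κ (U.ι ''ᵁ ⊤) t) =
      Scheme.Modules.Hom.app φ ⊤ (show Γ((Scheme.Modules.restrictFunctor U.ι).obj B, ⊤) from
        Scheme.Modules.Hom.app κ (U.ι ''ᵁ ⊤) t) := by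
  have h2 : Scheme.Modules.Hom.app ψ' (U.ι ''ᵁ ⊤) (Scheme.Modules.Hom.app κ (U.ι ''ᵁ ⊤) t) =
      Scheme.Modules.Hom.app ψ (U.ι ''ᵁ ⊤) t :=
    congrArg (fun ξ : A ⟶ F => Scheme.Modules.Hom.app ξ (U.ι ''ᵁ ⊤) t) hfac
  have h3 := congrArg (fun ξ : (Scheme.Modules.restrictFunctor U.ι).obj A ⟶
      (Scheme.Modules.restrictFunctor U.ι).obj F =>
    Scheme.Modules.Hom.app ξ ⊤ (show Γ((Scheme.Modules.restrictFunctor U.ι).obj A, ⊤) from t)) hψ
  beta_reduce at h3
  have hA := restrict_map_app U ψ t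
  have hB := restrict_comp_app U κ φ t
  exact h2.trans (hA.symm.trans (h3.trans hB))

set_option linter.style.haveILetI false in
set_option backward.isDefEq.respectTransparency false in
lemma exists_global_of_extension (X : Scheme.{u}) [IsNoetherian X] (F : X.Modules)
    (hF : F.IsQuasicoherent)
    (hext : ∀ (P : X.Modules) (κ : P ⟶ Coh.structureModule X) (ψ : P ⟶ F),
      P.IsQuasicoherent → Mono κ → ∃ ψ' : Coh.structureModule X ⟶ F, κ ≫ ψ' = ψ)
    (U : X.Opens) (σ : Γ(F, U)) :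
    ∃ s : Γ(F, ⊤), F.presheaf.map (homOfLE (le_top : U ≤ ⊤)).op s = σ := by
  haveI := hF
  have hO : Coh.IsCoh (Coh.structureModule X) := Groth.Agent.H8.isCoh_structureModule X
  haveI : (Coh.structureModule X).IsQuasicoherent := hO.1
  obtain ⟨I, hI⟩ := exists_ideal_support U
  obtain ⟨φ0, hφ0⟩ : ∃ φ0 : (SheafOfModules.unit (↑U : Scheme.{u}).ringCatSheaf :
      (↑U : Scheme.{u}).Modules) ⟶ F.restrict U.ι,
      ∀ (V : (↑U : Scheme.{u}).Opens) (r : Γ(↑U, V)), Scheme.Modules.Hom.app φ0 V r =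
        r • (show Γ(F.restrict U.ι, V) from
          F.presheaf.map (homOfLE (U.ι_image_le V)).op σ) :=
    ⟨(SheafOfModules.unitHomEquiv (R := (↑U : Scheme.{u}).ringCatSheaf) (F.restrict U.ι)).symm
      (Groth.Agent.H18.RestrictUnit.restrictSections U F σ),
      fun V r => Groth.Agent.H18.FreeEpi.unitHomEquiv_symm_app_apply (F.restrict U.ι)
        (Groth.Agent.H18.RestrictUnit.restrictSections U F σ) V r⟩
  obtain ⟨φ, hφ⟩ : ∃ φ : (Scheme.Modules.restrictFunctor U.ι).obj (Coh.structureModule X) ⟶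
      (Scheme.Modules.restrictFunctor U.ι).obj F,
      φ = (Scheme.Modules.restrictUnitIso U.ι).hom ≫ φ0 := ⟨_, rfl⟩
  obtain ⟨n, ψ, hψ⟩ := Groth.Agent.S9515.result X F (Coh.structureModule X) hF hO I U hI φ
  have hPq := Groth.Agent.H36.IdealMul.isQuasicoherent_idealMul (I ^ n) (Coh.structureModule X)
  obtain ⟨ψ', hfac⟩ := hext _ (Dual3.idealMulι (I ^ n) (Coh.structureModule X)) ψ hPq
    inferInstance
  have hWU : U.ι ''ᵁ ⊤ = U := U.ι_image_top
  have hWle : U.ι ''ᵁ ⊤ ≤ U := U.ι_image_le ⊤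
  obtain ⟨t, ht⟩ : ∃ t : Γ((Dual3.idealMul (I ^ n)).obj (Coh.structureModule X), U.ι ''ᵁ ⊤),
      Scheme.Modules.Hom.app (Dual3.idealMulι (I ^ n) (Coh.structureModule X)) (U.ι ''ᵁ ⊤) t =
        (show Γ(Coh.structureModule X, U.ι ''ᵁ ⊤) from (1 : Γ(X, U.ι ''ᵁ ⊤))) := by
    apply Groth.Agent.H36.IdealMul.exists_idealMulι_app_eq
    refine eq_zero_of_empty
      ((Scheme.Modules.pullback (I ^ n).subschemeι).obj (Coh.structureModule X))
      ((I ^ n).subschemeι ⁻¹ᵁ (U.ι ''ᵁ ⊤)) (fun x hx => ?_) _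
    have h6 : (I ^ n).subschemeι x ∈ (I.support : Set X) :=
      support_pow_subset I n (Groth.Agent.H22.SerreAffine.subschemeι_mem_support (I ^ n) x)
    have h7 : (I ^ n).subschemeι x ∈ (U : Set X) := hWle hx
    rw [hI] at h7
    exact h7 h6
  refine ⟨Scheme.Modules.Hom.app ψ' ⊤
    (show Γ(Coh.structureModule X, ⊤) from (1 : Γ(X, ⊤))), ?_⟩
  apply Groth.Agent.H8.res_injective_of_eq F hWle hWU
  rw [Groth.Agent.H8.res_res, ← Groth.Agent.H8.app_res ψ' (hWle.trans le_top)]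
  have h1 : (Coh.structureModule X).presheaf.map (homOfLE (hWle.trans le_top)).op
      (show Γ(Coh.structureModule X, ⊤) from (1 : Γ(X, ⊤))) =
      (show Γ(Coh.structureModule X, U.ι ''ᵁ ⊤) from (1 : Γ(X, U.ι ''ᵁ ⊤))) :=
    map_one (X.presheaf.map (homOfLE (hWle.trans le_top)).op).hom
  rw [h1]
  have h5 := eval_of_restrict_eq U ψ (Dual3.idealMulι (I ^ n) (Coh.structureModule X)) ψ' φ
    hψ hfac t
  rw [ht] at h5
  rw [h5, hφ]
  show Scheme.Modules.Hom.app φ0 ⊤ (Scheme.Modules.Hom.app (Scheme.Modules.restrictUnitIso U.ι).hom ⊤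
    (show Γ((Scheme.Modules.restrictFunctor U.ι).obj (Coh.structureModule X), ⊤) from
      (1 : Γ(X, U.ι ''ᵁ ⊤)))) = _
  rw [restrictUnitIso_hom_app_one, hφ0, one_smul]

end Helpers

/-- Let X be a Noetherian scheme and J an injective object of the category QCoh(O_X) of quasi-coherent
O_X-modules (the full subcategory of all O_X-modules). Then J is flasque: for opens U ⊆ V of X the
restriction map J(V) → J(U) is surjective. -/
theorem result (X : Scheme.{u}) [IsNoetherian X]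
    (J : ObjectProperty.FullSubcategory (fun M : X.Modules => Coh.IsQCoh M)) (hJ : Injective J)
    (U V : X.Opens) (hUV : U ≤ V) :
    Function.Surjective (J.obj.val.map (homOfLE hUV).op).hom := by
  have hext : ∀ (P : X.Modules) (κ : P ⟶ Coh.structureModule X) (ψ : P ⟶ J.obj),
      P.IsQuasicoherent → Mono κ → ∃ ψ' : Coh.structureModule X ⟶ J.obj, κ ≫ ψ' = ψ := by
    intro P κ ψ hP hκ
    let P' : ObjectProperty.FullSubcategory (fun M : X.Modules => Coh.IsQCoh M) := ⟨P, hP⟩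
    let O' : ObjectProperty.FullSubcategory (fun M : X.Modules => Coh.IsQCoh M) :=
      ⟨Coh.structureModule X, (Groth.Agent.H8.isCoh_structureModule X).1⟩
    let κ' : P' ⟶ O' := ObjectProperty.homMk κ
    let ψ₀ : P' ⟶ J := ObjectProperty.homMk ψ
    haveI : Mono κ' := by
      apply (ObjectProperty.ι (fun M : X.Modules => Coh.IsQCoh M)).mono_of_mono_map
      exact hκ
    refine ⟨(Injective.factorThru ψ₀ κ').hom, ?_⟩
    have h := Injective.comp_factorThru ψ₀ κ'
    exact congrArg (fun ξ : P' ⟶ J => ξ.hom) h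
  intro t
  obtain ⟨s, hs⟩ := exists_global_of_extension X J.obj J.property hext U
    (show Γ(J.obj, U) from t)
  refine ⟨J.obj.presheaf.map (homOfLE (le_top : V ≤ ⊤)).op s, ?_⟩
  show J.obj.presheaf.map (homOfLE hUV).op (J.obj.presheaf.map (homOfLE (le_top : V ≤ ⊤)).op s) = t
  rw [Groth.Agent.H8.res_res]
  exact hs

end Groth.Agent.S0988
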