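import Groth.Statements.S7453
import Mathlib
import Groth.Agent.H37.GrpdCalc2
import Groth.Agent.H37.FieldBase
open Groth.Agent.H37.GrpdCalc

set_option autoImplicit false
universe u
open CategoryTheory CategoryTheory.Limits AlgebraicGeometry
open Grpd

namespace Groth.Agent.S7453


/-- the relative diagonal of `s` is a base change of the identity section -/
theorem isPullback_diagonal_s {S : Scheme.{u}} (G : Grpd.GroupoidScheme S)
    (hw : pullback.fst G.s G.s ≫ G.s = (pullback.snd G.s G.s ≫ G.i) ≫ G.t) :
    IsPullback (pullback.diagonal G.s) G.t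
      (mul G (pullback.fst G.s G.s) (pullback.snd G.s G.s ≫ G.i)) G.e := by
  refine isPullback_of_existsUnique ?_ ?_ ?_
  · rw [comp_mul _ hw, pullback.diagonal_fst, pullback.diagonal_snd_assoc,
      mul_i (Category.id_comp _).symm, Category.id_comp]
  · intro T x u hxu
    have hαβ : (x ≫ pullback.fst G.s G.s) ≫ G.s = (x ≫ pullback.snd G.s G.s) ≫ G.s := by
      rw [Category.assoc, Category.assoc, pullback.condition]
    have hcomp : (x ≫ pullback.fst G.s G.s) ≫ G.s = ((x ≫ pullback.snd G.s G.s) ≫ G.i) ≫ G.t := by
      rw [Category.assoc _ G.i, G.i_t, hαβ]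
    have hxδ : mul G (x ≫ pullback.fst G.s G.s) ((x ≫ pullback.snd G.s G.s) ≫ G.i) = u ≫ G.e := by
      rw [← hxu, comp_mul _ hw, Category.assoc]
    have hu : (x ≫ pullback.snd G.s G.s) ≫ G.t = u := by
      have h1 : mul G (x ≫ pullback.fst G.s G.s) ((x ≫ pullback.snd G.s G.s) ≫ G.i) ≫ G.s =
          (u ≫ G.e) ≫ G.s := by rw [hxδ]
      rw [mul_s hcomp, Category.assoc _ G.i, G.i_s] at h1
      simp only [Category.assoc, G.e_s, Category.comp_id] at h1
      rw [Category.assoc]
      exact h1
    have heq : x ≫ pullback.fst G.s G.s = x ≫ pullback.snd G.s G.s := by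
      calc x ≫ pullback.fst G.s G.s
          = mul G (mul G (x ≫ pullback.fst G.s G.s) ((x ≫ pullback.snd G.s G.s) ≫ G.i))
              (x ≫ pullback.snd G.s G.s) := (mul_i_mul hαβ rfl).symm
        _ = mul G (u ≫ G.e) (x ≫ pullback.snd G.s G.s) := by rw [hxδ]
        _ = x ≫ pullback.snd G.s G.s := e_mul (by rw [← Category.assoc, hu])
    refine ⟨x ≫ pullback.fst G.s G.s, ?_, ?_⟩
    · apply pullback.hom_ext
      · rw [Category.assoc, pullback.diagonal_fst, Category.comp_id]
      · rw [Category.assoc, pullback.diagonal_snd, Category.comp_id, heq]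
    · rw [heq, hu]
  · intro T m m' h1 _
    have := congrArg (· ≫ pullback.fst G.s G.s) h1
    simpa only [Category.assoc, pullback.diagonal_fst, Category.comp_id] using this


/-- Let (U, R, s, t, c) be a groupoid scheme over S with U the spectrum of a field. Then R is a
separated scheme. (A groupoid scheme carries U, R, s, t, c, e, i over S with the groupoid axioms on
T-points; c is defined on the fibre product of s and t and sends a pair (a, b) with s(a) = t(b) to a
composed with b.) -/
theorem result (S : Scheme.{u}) (G : Grpd.GroupoidScheme S) (k : Type u) [Field k] (eU : G.U ≅ Spec (CommRingCat.of k)) : G.R.IsSeparated := by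
  obtain ⟨-, hsub⟩ := Groth.Agent.H37.integral_subsingleton_of_iso_spec_field k eU
  haveI : Subsingleton G.U := hsub
  haveI : IsClosedImmersion G.e := isClosedImmersion_of_comp_eq_id G.s G.e G.e_s
  have hw : pullback.fst G.s G.s ≫ G.s = (pullback.snd G.s G.s ≫ G.i) ≫ G.t := by
    rw [Category.assoc, G.i_t]; exact pullback.condition
  have sq := isPullback_diagonal_s G hw
  haveI : IsClosedImmersion (pullback.diagonal G.s) :=
    MorphismProperty.of_isPullback (P := @IsClosedImmersion) sq.flip inferInstance
  haveI : IsSeparated G.s := ⟨inferInstance⟩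
  haveI : IsAffine G.U := IsAffine.of_isIso eU.hom
  rw [Scheme.isSeparated_iff, ← terminal.comp_from G.s]
  infer_instance

end Groth.Agent.S7453
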