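import Groth.Statements.S5331
import Mathlib
import Groth.Agent.H37.GrpObjGrpd
import Groth.Agent.S7453
open Groth.Agent.H37.GrpObjGrpd

set_option autoImplicit false
universe u
open CategoryTheory CategoryTheory.Limits MonoidalCategory CartesianMonoidalCategory MonObj GrpObj AlgebraicGeometry
open SGA3

namespace Groth.Agent.S5331

/-- Let S be a scheme whose underlying topological space is discrete. Then every S-group scheme is
separated over S. -/
theorem result (S : Scheme.{u}) [DiscreteTopology S] (G : Over S) [GrpObj G] :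
    IsSeparated G.hom := by
  have he : η[G].left ≫ G.hom = 𝟙 S := η_hom G
  have hex : ∀ x : S, G.hom (η[G].left x) = x := by
    intro x
    rw [← Scheme.Hom.comp_apply, he]; rfl
  have hci : IsClosedImmersion η[G].left := by
    refine IsZariskiLocalAtTarget.of_iSup_eq_top (P := @IsClosedImmersion)
      (fun s : S => G.hom ⁻¹ᵁ (⟨{s}, isOpen_discrete _⟩ : S.Opens)) ?_ ?_
    · rw [eq_top_iff]
      intro g _
      exact TopologicalSpace.Opens.mem_iSup.2 ⟨G.hom g, rfl⟩
    · intro s
      obtain ⟨V, hV⟩ : ∃ V : G.left.Opens, V = G.hom ⁻¹ᵁ (⟨{s}, isOpen_discrete _⟩ : S.Opens) :=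
        ⟨_, rfl⟩
      rw [← hV]
      have hmemV : ∀ g : G.left, g ∈ V ↔ G.hom g = s := by
        intro g; rw [hV]; exact Iff.rfl
      have hmem : ∀ x : S, x ∈ η[G].left ⁻¹ᵁ V ↔ x = s := by
        intro x
        have : x ∈ η[G].left ⁻¹ᵁ V ↔ η[G].left x ∈ V := Iff.rfl
        rw [this, hmemV, hex]
      have hιmem : ∀ a : ↥((η[G].left ⁻¹ᵁ V : S.Opens) : Scheme.{u}),
          (η[G].left ⁻¹ᵁ V).ι a = s := by
        intro a
        have := Set.mem_range_self (f := ⇑(η[G].left ⁻¹ᵁ V).ι) a
        rw [Scheme.Opens.range_ι] at this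
        exact (hmem _).1 this
      haveI : Subsingleton ↥((η[G].left ⁻¹ᵁ V : S.Opens) : Scheme.{u}) :=
        ⟨fun a b => (η[G].left ⁻¹ᵁ V).ι.isOpenEmbedding.injective
          ((hιmem a).trans (hιmem b).symm)⟩
      have hrange : Set.range ⇑(V.ι ≫ G.hom) ⊆ Set.range ⇑(η[G].left ⁻¹ᵁ V).ι := by
        rw [Scheme.Opens.range_ι]
        rintro _ ⟨v, rfl⟩
        have hv : V.ι v ∈ V := by
          have := Set.mem_range_self (f := ⇑V.ι) v
          rwa [Scheme.Opens.range_ι] at this
        show (V.ι ≫ G.hom) v ∈ η[G].left ⁻¹ᵁ V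
        rw [hmem, Scheme.Hom.comp_apply]
        exact (hmemV _).1 hv
      refine isClosedImmersion_of_comp_eq_id
        (IsOpenImmersion.lift (η[G].left ⁻¹ᵁ V).ι (V.ι ≫ G.hom) hrange) _ ?_
      rw [← cancel_mono (η[G].left ⁻¹ᵁ V).ι, Category.assoc, IsOpenImmersion.lift_fac,
        Category.id_comp, morphismRestrict_ι_assoc, he]
      exact Category.comp_id _
  have hw : pullback.fst (ofGrpObj G).s (ofGrpObj G).s ≫ (ofGrpObj G).s =
      (pullback.snd (ofGrpObj G).s (ofGrpObj G).s ≫ (ofGrpObj G).i) ≫ (ofGrpObj G).t := by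
    rw [Category.assoc, (ofGrpObj G).i_t]; exact pullback.condition
  have sq := Groth.Agent.S7453.isPullback_diagonal_s (ofGrpObj G) hw
  have hci' : IsClosedImmersion (ofGrpObj G).e := hci
  have hd : IsClosedImmersion (pullback.diagonal (ofGrpObj G).s) :=
    MorphismProperty.of_isPullback (P := @IsClosedImmersion) sq.flip hci'
  exact ⟨hd⟩

end Groth.Agent.S5331
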