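import Groth.Statements.S14578
import Groth.Agent.H63.Rigid5
import Groth.Agent.H40.GrpQC
import Groth.Agent.S5331

set_option autoImplicit false
universe u
open CategoryTheory MonoidalCategory CartesianMonoidalCategory MonObj GrpObj AlgebraicGeometry CategoryTheory.Limits
open AlgGrp

namespace Groth.Agent.S14578

/-- Let k be a field, H an anti-affine k-group scheme of finite type (its only global functions are the
constants), G a k-group scheme of finite type and f : H → G a morphism of k-schemes with f(e_H) =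
e_G. Then f is a homomorphism. (The second assertion, that f factors through the centre of the
neutral component of G, is not restated here.) -/
theorem result (k : Type u) [Field k]
    (H G : Over (Spec (CommRingCat.of k))) [GrpObj H] [GrpObj G] [LocallyOfFiniteType H.hom] [QuasiCompact H.hom]
    [LocallyOfFiniteType G.hom] [QuasiCompact G.hom]
    (hH : Function.Bijective ((Scheme.ΓSpecIso (CommRingCat.of k)).inv ≫ H.hom.appTop).hom) (f : H ⟶ G) (hf : η[H] ≫ f = η[G]) : IsMonHom f := by
  haveI : Subsingleton ↥(Spec (CommRingCat.of k)) :=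
    inferInstanceAs (Subsingleton (PrimeSpectrum k))
  haveI : QuasiSeparated H.hom := Groth.Agent.H40.GrpQC.quasiSeparated_of_grpObj H
  haveI : IsSeparated G.hom := Groth.Agent.S5331.result (Spec (CommRingCat.of k)) G
  haveI : IsLocallyNoetherian H.left := LocallyOfFiniteType.isLocallyNoetherian H.hom
  haveI : ConnectedSpace H.left := Groth.Agent.H63.Rigid.connectedSpace_of_bijective H hH
  let c : H ⊗ H ⟶ G := (μ[H] ≫ f) * (snd H H ≫ f)⁻¹ * (fst H H ≫ f)⁻¹
  have hμ : μ[H] = fst H H * snd H H := by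
    rw [Hom.mul_def, lift_fst_snd, Category.id_comp]
  have hsec : Groth.Agent.H63.Rigid.sec η[H] H ≫ c = 1 := by
    have e0 : Groth.Agent.H63.Rigid.sec η[H] H ≫ μ[H] = 𝟙 H := by
      rw [hμ, comp_mul, lift_fst, lift_snd, ← Hom.one_def, _root_.one_mul]
    have a1 : Groth.Agent.H63.Rigid.sec η[H] H ≫ μ[H] ≫ f = f := by
      rw [← Category.assoc, e0, Category.id_comp]
    have a2 : Groth.Agent.H63.Rigid.sec η[H] H ≫ snd H H ≫ f = f := by
      rw [lift_snd_assoc, Category.id_comp]
    have a3 : Groth.Agent.H63.Rigid.sec η[H] H ≫ fst H H ≫ f = 1 := by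
      rw [lift_fst_assoc, Category.assoc, hf, ← Hom.one_def]
    simp only [c, comp_mul, GrpObj.comp_inv]
    rw [a1, a2, a3]
    group
  have key := Groth.Agent.H63.Rigid.rigidity η[H] c hH η[H] (by
    unfold Groth.Agent.H63.Rigid.Good
    rw [hsec, comp_one, comp_one]
    have b1 : (H ◁ η[H]) ≫ μ[H] ≫ f = fst H (𝟙_ _) ≫ f := by
      rw [← Category.assoc, MonObj.mul_one, rightUnitor_hom]
    have b2 : (H ◁ η[H]) ≫ snd H H ≫ f = 1 := by
      rw [whiskerLeft_snd_assoc, hf, Hom.one_def]
      congr 1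
      exact toUnit_unique _ _
    have b3 : (H ◁ η[H]) ≫ fst H H ≫ f = fst H (𝟙_ _) ≫ f := by
      rw [whiskerLeft_fst_assoc]
    simp only [c, comp_mul, GrpObj.comp_inv]
    rw [b1, b2, b3]
    group)
  rw [hsec, comp_one] at key
  refine { one_hom := hf, mul_hom := ?_ }
  have h1 : (f ⊗ₘ f) ≫ μ[G] = (fst H H ≫ f) * (snd H H ≫ f) := by
    rw [Hom.mul_def]
    congr 1
  rw [h1]
  have h2 : (μ[H] ≫ f) = ((μ[H] ≫ f) * (snd H H ≫ f)⁻¹ * (fst H H ≫ f)⁻¹) *
      ((fst H H ≫ f) * (snd H H ≫ f)) := by group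
  rw [h2]
  change c * _ = _
  rw [key, _root_.one_mul]

end Groth.Agent.S14578
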