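import Groth.Statements.S1546
import Mathlib.AlgebraicGeometry.Morphisms.Flat
import Mathlib.RingTheory.TensorProduct.Free
import Mathlib.RingTheory.Ideal.MinimalPrime.Localization
import Mathlib.RingTheory.Nakayama
-- import your own Groth.Agent.* helpers here

set_option autoImplicit false
universe u
open CategoryTheory CategoryTheory.Limits AlgebraicGeometry
open Variety

namespace Groth.Agent.S1546

section aux
open AlgebraicGeometry CategoryTheory CategoryTheory.Limits TopologicalSpace MorphismProperty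
open scoped TensorProduct

lemma coord_mem {R A ι : Type*} [CommRing R] [CommRing A] [Algebra R A]
    (b : Module.Basis ι R A) (J : Ideal R) (x : A) (hx : x ∈ J.map (algebraMap R A)) (i : ι) :
    b.repr x i ∈ J := by
  have hx' : x ∈ (J • ⊤ : Submodule R A) := by
    rw [Ideal.smul_top_eq_map]; exact hx
  refine Submodule.smul_induction_on (p := fun x => b.repr x i ∈ J) hx'
    (fun r hr n _ => ?_) (fun x y hx hy => ?_)
  · show b.repr (r • n) i ∈ J
    rw [map_smul, Finsupp.smul_apply, smul_eq_mul]; exact J.mul_mem_right _ hr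
  · show b.repr (x + y) i ∈ J
    rw [map_add, Finsupp.add_apply]; exact J.add_mem hx hy

/-- In a free algebra over a local ring, `1 - μ` with `μ ∈ 𝔪A` is a non-zero-divisor. -/
lemma nzd_key {R A ι : Type*} [CommRing R] [IsLocalRing R] [CommRing A] [Algebra R A]
    (b : Module.Basis ι R A) (μ c : A)
    (hμ : μ ∈ (IsLocalRing.maximalIdeal R).map (algebraMap R A)) (hc : c = c * μ) : c = 0 := by
  classical
  obtain ⟨I, hfg, hI, hle⟩ : ∃ I : Ideal R, I.FG ∧ (∀ i, b.repr c i ∈ I) ∧
      (∀ J : Ideal R, (∀ i, b.repr c i ∈ J) → I ≤ J) := by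
    refine ⟨Ideal.span (((b.repr c).support.image (b.repr c) : Finset R) : Set R),
      Submodule.fg_span (Finset.finite_toSet _), ?_, ?_⟩
    · intro i
      by_cases hi : i ∈ (b.repr c).support
      · exact Ideal.subset_span (Finset.mem_coe.2 (Finset.mem_image_of_mem _ hi))
      · rw [Finsupp.notMem_support_iff.mp hi]; exact zero_mem _
    · intro J hJ
      refine Ideal.span_le.mpr ?_
      intro r hr
      obtain ⟨i, _, rfl⟩ := Finset.mem_image.mp (Finset.mem_coe.1 hr)
      exact hJ i
  have hcI : c ∈ I.map (algebraMap R A) := by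
    have h := b.linearCombination_repr c
    rw [Finsupp.linearCombination_apply, Finsupp.sum] at h
    have h2 : (∑ i ∈ (b.repr c).support, (b.repr c i) • b i) ∈ (I • ⊤ : Submodule R A) :=
      Submodule.sum_mem _ (fun i _ => Submodule.smul_mem_smul (hI i) Submodule.mem_top)
    rw [h, Ideal.smul_top_eq_map] at h2
    exact h2
  have hcμ : c * μ ∈ (I * IsLocalRing.maximalIdeal R).map (algebraMap R A) := by
    rw [Ideal.map_mul]; exact Ideal.mul_mem_mul hcI hμ
  have hcoord : ∀ i, b.repr c i ∈ I * IsLocalRing.maximalIdeal R := by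
    intro i
    have := coord_mem b _ _ hcμ i
    rwa [← hc] at this
  have hIle : I ≤ IsLocalRing.maximalIdeal R • I := by
    rw [smul_eq_mul, mul_comm]; exact hle _ hcoord
  have hbot : I = ⊥ := Submodule.eq_bot_of_le_smul_of_le_jacobson_bot _ I hfg hIle
    (IsLocalRing.maximalIdeal_le_jacobson _)
  have : b.repr c = 0 := by
    ext i
    have := hI i
    rw [hbot] at this
    simpa using this
  exact b.repr.map_eq_zero_iff.mp this

lemma alg_key {k R K : Type u} [Field k] [CommRing R] [IsLocalRing R] [Field K]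
    [Algebra k R] [Algebra k K]
    (q : Ideal (R ⊗[k] K)) (hq : q ∈ minimalPrimes (R ⊗[k] K)) :
    ∃ Q : Ideal (R ⊗[k] K), Q.IsPrime ∧ q ≤ Q ∧
      Q.comap (algebraMap R (R ⊗[k] K)) = IsLocalRing.maximalIdeal R := by
  have hne : q ⊔ (IsLocalRing.maximalIdeal R).map (algebraMap R (R ⊗[k] K)) ≠ ⊤ := by
    intro htop
    have h1 : (1 : R ⊗[k] K) ∈ q ⊔ (IsLocalRing.maximalIdeal R).map (algebraMap R (R ⊗[k] K)) := by
      rw [htop]; trivial
    obtain ⟨a, ha, μ, hμ, hsum⟩ := Submodule.mem_sup.mp h1
    have hnzd : a ∈ nonZeroDivisors (R ⊗[k] K) := by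
      rw [mem_nonZeroDivisors_iff_right]
      intro c hc0
      refine nzd_key (Algebra.TensorProduct.basis R (Module.Basis.ofVectorSpace k K)) μ c hμ ?_
      have : a = 1 - μ := by rw [← hsum]; ring
      rw [this] at hc0
      have : c - c * μ = 0 := by rw [← hc0]; ring
      exact sub_eq_zero.mp this
    exact Set.disjoint_left.mp (Ideal.disjoint_nonZeroDivisors_of_mem_minimalPrimes hq) ha hnzd
  obtain ⟨Q, hQmax, hle⟩ := Ideal.exists_le_maximal _ hne
  refine ⟨Q, hQmax.isPrime, le_sup_left.trans hle, ?_⟩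
  have h1 : IsLocalRing.maximalIdeal R ≤ Q.comap (algebraMap R (R ⊗[k] K)) :=
    Ideal.map_le_iff_le_comap.mp (le_sup_right.trans hle)
  have h2 : Q.comap (algebraMap R (R ⊗[k] K)) ≠ ⊤ := Ideal.comap_ne_top _ hQmax.ne_top
  exact ((IsLocalRing.maximalIdeal.isMaximal R).eq_of_le h2 h1).symm

lemma no_gen {α : Type*} [TopologicalSpace α] [T0Space α] {T : Set α}
    (hT : T ∈ irreducibleComponents α) {ξ : α} (hξ : IsGenericPoint ξ T) {ξ' : α} (h : ξ' ⤳ ξ) :
    ξ' = ξ := by
  have hsub : T ≤ closure {ξ'} := by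
    rw [← hξ.def]
    exact closure_minimal (Set.singleton_subset_iff.mpr (specializes_iff_mem_closure.mp h))
      isClosed_closure
  have hle : closure {ξ'} ≤ T := hT.2 (isIrreducible_singleton.closure) hsub
  have hmem : ξ' ∈ closure {ξ} := by
    rw [hξ.def]; exact hle (subset_closure rfl)
  exact (h.antisymm (specializes_iff_mem_closure.mpr hmem)).eq

lemma comp_of_no_gen {α : Type*} [TopologicalSpace α] [QuasiSober α] (η : α)
    (h : ∀ η' : α, η' ⤳ η → η' = η) : closure {η} ∈ irreducibleComponents α := by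
  refine ⟨isIrreducible_singleton.closure, ?_⟩
  intro Z' hZ' hsub
  obtain ⟨η', hη'⟩ := QuasiSober.sober hZ'.closure isClosed_closure
  have hmem : η ∈ closure {η'} := by
    rw [hη'.def]; exact subset_closure (hsub (subset_closure rfl))
  have := h η' (specializes_iff_mem_closure.mpr hmem)
  rw [← this, hη'.def]
  exact subset_closure

lemma geo_key (k : Type u) [Field k] (X : Scheme.{u}) [X.Over (Spec (CommRingCat.of k))]
    (K : Type u) [Field K] [Algebra k K] (ξ : ↥(Curv2.bc k X K)) (z : X)
    (hz : (Curv2.bcFst k X K).base ξ ⤳ z) (hmin : ∀ ξ' : ↥(Curv2.bc k X K), ξ' ⤳ ξ → ξ' = ξ) :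
    ∃ t : ↥(Curv2.bc k X K), ξ ⤳ t ∧ (Curv2.bcFst k X K).base t = z := by
  let φ : CommRingCat.of k ⟶ X.presheaf.stalk z :=
    Spec.preimage (X.fromSpecStalk z ≫ (X ↘ Spec (CommRingCat.of k)))
  have hφ : Spec.map φ = X.fromSpecStalk z ≫ (X ↘ Spec (CommRingCat.of k)) := Spec.map_preimage _
  let _ : Algebra k (X.presheaf.stalk z) := φ.hom.toAlgebra
  have hφ' : CommRingCat.ofHom (algebraMap k (X.presheaf.stalk z)) = φ := rfl
  have sqA := isPullback_SpecMap_of_isPushout _ _ _ _
    (CommRingCat.isPushout_tensorProduct k (X.presheaf.stalk z) K)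
  rw [hφ', hφ] at sqA
  obtain ⟨g, hg1, hg2⟩ : ∃ g : Spec (CommRingCat.of ((X.presheaf.stalk z) ⊗[k] K)) ⟶ Curv2.bc k X K,
      g ≫ Curv2.bcFst k X K = Spec.map (CommRingCat.ofHom
        (Algebra.TensorProduct.includeLeftRingHom (R := k) (A := X.presheaf.stalk z) (B := K))) ≫
          X.fromSpecStalk z ∧
      g ≫ Curv2.bcSnd k X K = Spec.map (CommRingCat.ofHom
        (Algebra.TensorProduct.includeRight (R := k) (A := X.presheaf.stalk z) (B := K)).toRingHom) :=
    ⟨pullback.lift _ _ (by rw [Category.assoc]; exact sqA.w),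
      pullback.lift_fst _ _ _, pullback.lift_snd _ _ _⟩
  have big : IsPullback (g ≫ Curv2.bcSnd k X K) (Spec.map (CommRingCat.ofHom
        (Algebra.TensorProduct.includeLeftRingHom (R := k) (A := X.presheaf.stalk z) (B := K))))
      (Spec.map (CommRingCat.ofHom (algebraMap k K)))
      (X.fromSpecStalk z ≫ (X ↘ Spec (CommRingCat.of k))) := by
    rw [hg2]; exact sqA.flip
  have left : IsPullback g (Spec.map (CommRingCat.ofHom
        (Algebra.TensorProduct.includeLeftRingHom (R := k) (A := X.presheaf.stalk z) (B := K))))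
      (Curv2.bcFst k X K) (X.fromSpecStalk z) :=
    IsPullback.of_right big hg1 (IsPullback.of_hasPullback _ _).flip
  have hr : (Curv2.bcFst k X K).base ξ ∈ Set.range (X.fromSpecStalk z).base := by
    rw [Scheme.range_fromSpecStalk]; exact hz
  obtain ⟨r, hr⟩ := hr
  obtain ⟨a0, ha1, ha2⟩ := Scheme.exists_preimage_of_isPullback left ξ r hr.symm
  obtain ⟨q, hq, hqle⟩ := Ideal.exists_minimalPrimes_le
    (bot_le : (⊥ : Ideal ((X.presheaf.stalk z) ⊗[k] K)) ≤ (a0 : PrimeSpectrum _).asIdeal)
  obtain ⟨Q, hQ, hqQ, hQc⟩ := alg_key q hq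
  let q' : PrimeSpectrum ((X.presheaf.stalk z) ⊗[k] K) := ⟨q, hq.1.1⟩
  let Q' : PrimeSpectrum ((X.presheaf.stalk z) ⊗[k] K) := ⟨Q, hQ⟩
  have h1 : q' ⤳ (a0 : PrimeSpectrum _) := (PrimeSpectrum.le_iff_specializes _ _).mp hqle
  have h2 : q' ⤳ Q' := (PrimeSpectrum.le_iff_specializes _ _).mp hqQ
  have h3 : g.base q' = ξ := by
    apply hmin
    rw [← ha1]
    exact h1.map g.base.hom.continuous
  refine ⟨g.base Q', ?_, ?_⟩
  · rw [← h3]; exact h2.map g.base.hom.continuous
  · have e1 : (Curv2.bcFst k X K).base (g.base Q') =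
        (X.fromSpecStalk z).base ((Spec.map (CommRingCat.ofHom
        (Algebra.TensorProduct.includeLeftRingHom (R := k) (A := X.presheaf.stalk z) (B := K)))).base Q') := by
      have := congrArg (fun f => f.base Q') hg1
      exact this
    rw [e1]
    have e2 : (Spec.map (CommRingCat.ofHom
        (Algebra.TensorProduct.includeLeftRingHom (R := k) (A := X.presheaf.stalk z) (B := K)))).base Q' =
        IsLocalRing.closedPoint (X.presheaf.stalk z) := by
      apply PrimeSpectrum.ext
      exact hQc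
    rw [e2]
    exact Scheme.fromSpecStalk_closedPoint

lemma core (k : Type u) [Field k] (X : Scheme.{u}) [X.Over (Spec (CommRingCat.of k))]
    (K : Type u) [Field K] [Algebra k K] (T : Set ↥(Curv2.bc k X K))
    (hT : T ∈ irreducibleComponents ↥(Curv2.bc k X K)) (ξ : ↥(Curv2.bc k X K))
    (hξ : IsGenericPoint ξ T) :
    closure {(Curv2.bcFst k X K).base ξ} ∈ irreducibleComponents ↥X ∧
      (Curv2.bcFst k X K).base '' T = closure {(Curv2.bcFst k X K).base ξ} := by
  have hflat0 : Flat (Spec.map (CommRingCat.ofHom (algebraMap k K))) := by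
    rw [Flat.SpecMap_iff]
    exact RingHom.flat_algebraMap_iff.mpr inferInstance
  have hflat : Flat (Curv2.bcFst k X K) := inferInstance
  have hgen : GeneralizingMap (Curv2.bcFst k X K).base := Flat.generalizingMap _
  have hmin : ∀ ξ' : ↥(Curv2.bc k X K), ξ' ⤳ ξ → ξ' = ξ := fun ξ' h => no_gen hT hξ h
  constructor
  · apply comp_of_no_gen
    intro η' h
    obtain ⟨ξ', hξ', rfl⟩ := hgen h
    rw [hmin ξ' hξ']
  · apply Set.Subset.antisymm
    · rintro _ ⟨t, ht, rfl⟩
      rw [← hξ.def] at ht
      exact specializes_iff_mem_closure.mp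
        ((specializes_iff_mem_closure.mpr ht).map (Curv2.bcFst k X K).base.hom.continuous)
    · intro z hz
      obtain ⟨t, ht1, ht2⟩ := geo_key k X K ξ z (specializes_iff_mem_closure.mpr hz) hmin
      refine ⟨t, ?_, ht2⟩
      rw [← hξ.def]
      exact specializes_iff_mem_closure.mp ht1

lemma main (k : Type u) [Field k] (X : Scheme.{u}) [X.Over (Spec (CommRingCat.of k))]
    (K : Type u) [Field K] [Algebra k K] :
    (∀ T ∈ irreducibleComponents (Curv2.bc k X K : Type u),
      (Curv2.bcFst k X K).base '' T ∈ irreducibleComponents (X : Type u)) ∧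
    (∀ Z ∈ irreducibleComponents (X : Type u), ∃ T ∈ irreducibleComponents (Curv2.bc k X K : Type u),
      (Curv2.bcFst k X K).base '' T = Z) := by
  constructor
  · intro T hT
    obtain ⟨ξ, hξ⟩ := QuasiSober.sober hT.1 (isClosed_of_mem_irreducibleComponents T hT)
    obtain ⟨h1, h2⟩ := core k X K T hT ξ hξ
    rw [h2]; exact h1
  · intro Z hZ
    obtain ⟨η, hη⟩ := QuasiSober.sober hZ.1 (isClosed_of_mem_irreducibleComponents Z hZ)
    have hsub : Subsingleton ↥(Spec (CommRingCat.of k)) :=
      (inferInstance : Subsingleton (PrimeSpectrum k))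
    obtain ⟨y, hy1, -⟩ := Scheme.Pullback.exists_preimage_pullback
      (f := X ↘ Spec (CommRingCat.of k)) (g := Spec.map (CommRingCat.ofHom (algebraMap k K)))
      η (⟨⊥, Ideal.isPrime_bot⟩ : PrimeSpectrum K) (Subsingleton.elim _ _)
    let T := irreducibleComponent y
    have hT : T ∈ irreducibleComponents ↥(Curv2.bc k X K) :=
      irreducibleComponent_mem_irreducibleComponents y
    obtain ⟨ξ, hξ⟩ := QuasiSober.sober hT.1 (isClosed_of_mem_irreducibleComponents T hT)
    have hy : ξ ⤳ y := by
      rw [specializes_iff_mem_closure, hξ.def]; exact mem_irreducibleComponent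
    have h3 : (Curv2.bcFst k X K).base ξ = η := by
      apply no_gen hZ hη
      rw [← hy1]
      exact hy.map (Curv2.bcFst k X K).base.hom.continuous
    obtain ⟨h1, h2⟩ := core k X K T hT ξ hξ
    refine ⟨T, hT, ?_⟩
    rw [h2, h3, hη.def]

end aux

/-- For a field extension K of k and a scheme X over k, the image in X of an irreducible component of
X_K is an irreducible component of X, and every irreducible component of X is such an image. -/
theorem result (k : Type u) [Field k] (X : Scheme.{u}) [X.Over (Spec (CommRingCat.of k))] (K : Type u) [Field K] [Algebra k K] :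
    (∀ T ∈ irreducibleComponents (Curv2.bc k X K : Type u), (Curv2.bcFst k X K).base '' T ∈ irreducibleComponents (X : Type u)) ∧
    (∀ Z ∈ irreducibleComponents (X : Type u), ∃ T ∈ irreducibleComponents (Curv2.bc k X K : Type u), (Curv2.bcFst k X K).base '' T = Z) := by
  exact main k X K

end Groth.Agent.S1546
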