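import Groth.Statements.S6333
import Mathlib

set_option autoImplicit false
universe u
open Fields

namespace Groth.Agent.S6333


open scoped IntermediateField.algebraAdjoinAdjoin in
theorem key {k K : Type u} [Field k] [Field K] [Algebra k K] {ι : Type u} (x : ι → K)
    (hx : AlgebraicIndependent k x) {ι' : Type u} (b : ι' → algebraicClosure k K)
    (hb : LinearIndependent k b) :
    LinearIndependent (IntermediateField.adjoin k (Set.range x)) (fun i => ((b i : algebraicClosure k K) : K)) := by
  classical
  refine (LinearIndependent.iff_fractionRing (Algebra.adjoin k (Set.range x))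
    (IntermediateField.adjoin k (Set.range x))).mp ?_
  rw [linearIndependent_iff']
  intro s g hg i hi
  have hrange : ∀ j, ∃ P : MvPolynomial ι k,
      MvPolynomial.aeval x P = ((g j : Algebra.adjoin k (Set.range x)) : K) := by
    intro j
    have hall : ∀ y ∈ Algebra.adjoin k (Set.range x), ∃ P : MvPolynomial ι k,
        MvPolynomial.aeval x P = y := by
      intro y hy
      rw [Algebra.adjoin_range_eq_range_aeval] at hy
      exact hy
    exact hall _ (g j).2
  choose P hP using hrange
  have hxL : AlgebraicIndependent (algebraicClosure k K) x := hx.extendScalars (algebraicClosure k K)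
  have hg' : ∑ j ∈ s, ((g j : Algebra.adjoin k (Set.range x)) : K) * ((b j : algebraicClosure k K) : K) = 0 :=
    (Finset.sum_congr rfl (fun j _ => rfl)).trans hg
  have hQ0 : (∑ j ∈ s, MvPolynomial.C (b j) * MvPolynomial.map (algebraMap k (algebraicClosure k K)) (P j) :
      MvPolynomial ι (algebraicClosure k K)) = 0 := by
    apply hxL
    rw [map_zero, map_sum, ← hg']
    apply Finset.sum_congr rfl
    intro j _
    rw [map_mul, MvPolynomial.aeval_C, MvPolynomial.aeval_map_algebraMap, hP, mul_comm]
    rfl
  have hcoef : ∀ m : ι →₀ ℕ, ∀ j ∈ s, MvPolynomial.coeff m (P j) = 0 := by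
    intro m
    have h1 : ∑ j ∈ s, MvPolynomial.coeff m (P j) • b j = 0 := by
      have h2 := congrArg (MvPolynomial.coeff m) hQ0
      rw [MvPolynomial.coeff_sum, MvPolynomial.coeff_zero] at h2
      rw [← h2]
      apply Finset.sum_congr rfl
      intro j _
      rw [MvPolynomial.coeff_C_mul, MvPolynomial.coeff_map, Algebra.smul_def, mul_comm]
    exact linearIndependent_iff'.mp hb s _ h1
  have hPi : P i = 0 := MvPolynomial.ext _ _ (fun m => by rw [hcoef m i hi, MvPolynomial.coeff_zero])
  apply Subtype.ext
  rw [← hP i, hPi, map_zero]
  rfl



/-- For a finitely generated field extension K/k, the algebraic closure of k inside K is a finite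
extension of k. -/
theorem result {k K : Type u} [Field k] [Field K] [Algebra k K]
    (hfg : (⊤ : IntermediateField k K).FG) :
    FiniteDimensional k (algebraicClosure k K) := by
  classical
  have : Algebra.EssFiniteType k K := IntermediateField.fg_top_iff.mp hfg
  obtain ⟨ι, x, hx⟩ := exists_isTranscendenceBasis' k K
  have : Algebra.IsAlgebraic (IntermediateField.adjoin k (Set.range x)) K := hx.isAlgebraic_field
  have : Algebra.EssFiniteType (IntermediateField.adjoin k (Set.range x)) K :=
    Algebra.EssFiniteType.of_comp k (IntermediateField.adjoin k (Set.range x)) K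
  have : Module.Finite (IntermediateField.adjoin k (Set.range x)) K :=
    Algebra.finite_of_essFiniteType_of_isAlgebraic
  have hkey := key x hx.1 (Module.Free.chooseBasis k (algebraicClosure k K))
    (Module.Free.chooseBasis k (algebraicClosure k K)).linearIndependent
  have : Finite (Module.Free.ChooseBasisIndex k (algebraicClosure k K)) := hkey.finite_of_isNoetherian
  exact Module.Finite.of_basis (Module.Free.chooseBasis k (algebraicClosure k K))

end Groth.Agent.S6333
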