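import Groth.Statements.S16211
import Mathlib.Tactic.LinearCombination
import Mathlib.Algebra.BigOperators.Ring.Finset
import Mathlib.Data.Fintype.BigOperators

set_option autoImplicit false
universe u v
open InvTh

namespace Groth.Agent.S16211

/-- Let R be a commutative ring, O a formally smooth R-algebra and G a finite group whose order is
invertible in R, acting on O by R-algebra automorphisms. Then the largest quotient algebra of O on
which G acts trivially, namely the quotient of O by the ideal generated by all g • f - f (the
coordinate ring of the subscheme of G-fixed points of Spec O), is again formally smooth over R: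
invariant homomorphisms lift along square-zero extensions. The published statement is about a scheme
X smooth and of finite presentation over the base and concludes that its fixed-point scheme is
smooth; this row, the affine step of its proof, assumes only that O is formally smooth over R and
concludes only formal smoothness. -/
theorem result (R : Type u) [CommRing R]
    (O : Type u) [CommRing O] [Algebra R O] [Algebra.FormallySmooth R O]
    (G : Type v) [Group G] [Finite G] [MulSemiringAction G O] [SMulCommClass G R O]
    (hG : IsUnit (Nat.card G : R)) :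
    Algebra.FormallySmooth R (O ⧸ Ideal.span {x : O | ∃ (g : G) (f : O), x = g • f - f}) := by
  classical
  cases nonempty_fintype G
  apply Algebra.FormallySmooth.of_comp_surjective
  intro B _ _ J hJ fbar
  obtain ⟨φ, hφ⟩ := Algebra.FormallySmooth.comp_surjective R O J hJ
    (fbar.comp (Ideal.Quotient.mkₐ R (Ideal.span {x : O | ∃ (g : G) (f : O), x = g • f - f})))
  have hφ' : ∀ a, Ideal.Quotient.mk J (φ a) = fbar (Ideal.Quotient.mk _ a) := fun a => by
    have := congrArg (fun ψ : O →ₐ[R] B ⧸ J => ψ a) hφ
    simpa using this
  have hinv : ∀ (g : G) (a : O),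
      Ideal.Quotient.mk (Ideal.span {x : O | ∃ (g : G) (f : O), x = g • f - f}) (g • a) =
        Ideal.Quotient.mk _ a := by
    intro g a
    rw [Ideal.Quotient.eq]; exact Ideal.subset_span ⟨g, a, rfl⟩
  have hJmem : ∀ (g : G) (a : O), φ (g • a) - φ a ∈ J := by
    intro g a
    rw [← Ideal.Quotient.eq, hφ', hφ', hinv]
  have hzero : ∀ x ∈ J, ∀ y ∈ J, x * y = 0 := by
    intro x hx y hy
    have h1 : x * y ∈ J ^ 2 := by rw [pow_two]; exact Ideal.mul_mem_mul hx hy
    rw [hJ] at h1; exact h1
  obtain ⟨u, hu⟩ := hG.exists_right_inv
  rw [Nat.card_eq_fintype_card] at hu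
  have hvn : algebraMap R B u * (Fintype.card G : B) = 1 := by
    rw [← map_natCast (algebraMap R B), ← map_mul, mul_comm, hu, map_one]
  -- the averaged lift
  have hS : ∀ a : O, ∑ g : G, φ (g • a) = (Fintype.card G : B) * φ a + ∑ g : G, (φ (g • a) - φ a) := by
    intro a
    rw [Finset.sum_sub_distrib, Finset.sum_const, Finset.card_univ, nsmul_eq_mul]; ring
  let ψ : O →ₐ[R] B :=
    { toFun := fun a => algebraMap R B u * ∑ g : G, φ (g • a)
      map_one' := by
        simp only [smul_one, map_one, Finset.sum_const, Finset.card_univ, nsmul_eq_mul, mul_one]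
        exact hvn
      map_mul' := by
        intro a b
        have hXY : (∑ g : G, (φ (g • a) - φ a)) * (∑ g : G, (φ (g • b) - φ b)) = 0 := by
          rw [Finset.sum_mul_sum]
          exact Finset.sum_eq_zero fun g _ => Finset.sum_eq_zero fun h _ =>
            hzero _ (hJmem g a) _ (hJmem h b)
        have hT : ∑ g : G, φ (g • (a * b)) = (Fintype.card G : B) * (φ a * φ b) +
            φ a * (∑ g : G, (φ (g • b) - φ b)) + φ b * (∑ g : G, (φ (g • a) - φ a)) := by
          have h1 : ∀ g : G, φ (g • (a * b)) =
              φ a * φ b + φ a * (φ (g • b) - φ b) + φ b * (φ (g • a) - φ a) := by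
            intro g
            have h0 := hzero _ (hJmem g a) _ (hJmem g b)
            rw [smul_mul', map_mul]
            linear_combination h0
          rw [Finset.sum_congr rfl fun g _ => h1 g, Finset.sum_add_distrib,
            Finset.sum_add_distrib, Finset.sum_const, Finset.card_univ, nsmul_eq_mul,
            ← Finset.mul_sum, ← Finset.mul_sum]
        show algebraMap R B u * ∑ g : G, φ (g • (a * b)) =
          (algebraMap R B u * ∑ g : G, φ (g • a)) * (algebraMap R B u * ∑ g : G, φ (g • b))
        rw [hT, hS a, hS b]
        linear_combination (-(algebraMap R B u * (Fintype.card G : B) * (φ a * φ b) +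
          algebraMap R B u * φ a * (∑ g : G, (φ (g • b) - φ b)) +
          algebraMap R B u * φ b * (∑ g : G, (φ (g • a) - φ a)))) * hvn -
          (algebraMap R B u) ^ 2 * hXY
      map_zero' := by simp
      map_add' := by
        intro a b
        simp only [smul_add, map_add, Finset.sum_add_distrib, mul_add]
      commutes' := by
        intro r
        simp only [smul_algebraMap, AlgHom.commutes, Finset.sum_const, Finset.card_univ,
          nsmul_eq_mul]
        rw [← mul_assoc, hvn, one_mul] }
  have hψ : ∀ a, ψ a = algebraMap R B u * ∑ g : G, φ (g • a) := fun a => rfl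
  have hker : ∀ a ∈ Ideal.span {x : O | ∃ (g : G) (f : O), x = g • f - f}, ψ a = 0 := by
    intro a ha
    have hle : Ideal.span {x : O | ∃ (g : G) (f : O), x = g • f - f} ≤ RingHom.ker ψ := by
      rw [Ideal.span_le]
      rintro _ ⟨g, f, rfl⟩
      rw [SetLike.mem_coe, RingHom.mem_ker, map_sub, sub_eq_zero, hψ, hψ]
      congr 1
      exact Fintype.sum_equiv (Equiv.mulRight g) _ _ (fun h => by rw [Equiv.coe_mulRight, mul_smul])
    exact hle ha
  refine ⟨Ideal.Quotient.liftₐ _ ψ hker, ?_⟩
  apply AlgHom.ext
  intro q
  obtain ⟨a, rfl⟩ := Ideal.Quotient.mk_surjective q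
  show Ideal.Quotient.mk J (Ideal.Quotient.liftₐ _ ψ hker (Ideal.Quotient.mk _ a)) = fbar _
  have hlift : Ideal.Quotient.liftₐ _ ψ hker (Ideal.Quotient.mk _ a) = ψ a := rfl
  rw [hlift, hψ, map_mul, map_sum]
  have h2 : ∀ g : G, Ideal.Quotient.mk J (φ (g • a)) = fbar (Ideal.Quotient.mk _ a) := by
    intro g; rw [hφ', hinv]
  rw [Finset.sum_congr rfl fun g _ => h2 g, Finset.sum_const, Finset.card_univ, nsmul_eq_mul,
    ← mul_assoc]
  have h3 : Ideal.Quotient.mk J (algebraMap R B u) * (Fintype.card G : B ⧸ J) = 1 := by
    rw [← map_natCast (Ideal.Quotient.mk J), ← map_mul, hvn, map_one]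
  rw [h3, one_mul]

end Groth.Agent.S16211
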