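import Groth.Statements.S0347
import Mathlib.AlgebraicGeometry.Morphisms.UniversallyOpen
import Mathlib.AlgebraicGeometry.Group.Abelian

set_option autoImplicit false
universe u v
open CategoryTheory MonoidalCategory CartesianMonoidalCategory MonObj GrpObj AlgebraicGeometry
open GrpSch

namespace Groth.Agent.S0347

/-- The shear isomorphism `(g, h) ↦ (g * h, h)` of a group object. -/
def shear {C : Type*} [Category C] [CartesianMonoidalCategory C] (A : C) [GrpObj A] :
    A ⊗ A ≅ A ⊗ A where
  hom := lift μ (snd A A)
  inv := lift (lift (fst A A) (snd A A ≫ ι) ≫ μ) (snd A A)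
  hom_inv_id := by
    apply CartesianMonoidalCategory.hom_ext
    · simp [comp_lift_assoc]
      rw [lift_inv_right_eq]
      simp
    · simp
  inv_hom_id := by
    apply CartesianMonoidalCategory.hom_ext
    · simp [lift_lift_assoc]
    · simp

/-- The multiplication map of a group scheme over a field is an open map of topological spaces. -/
theorem result (K : Type u) [Field K] (G : Over (Spec (CommRingCat.of K))) [GrpObj G] : IsOpenMap (μ[G].left : (G ⊗ G).left ⟶ G.left) := by
  have h1 : μ[G] = (shear G).hom ≫ fst G G := by simp [shear]
  have h2 : UniversallyOpen (fst G G).left := by dsimp; infer_instance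
  rw [h1]
  have h3 : ((shear G).hom ≫ fst G G).left = (shear G).hom.left ≫ (fst G G).left := rfl
  rw [h3]
  have h4 : IsOpenMap (shear G).hom.left :=
    (Scheme.homeoOfIso ((Over.forget _).mapIso (shear G))).isOpenMap
  have h5 : IsOpenMap (fst G G).left := (fst G G).left.isOpenMap
  exact h5.comp h4

end Groth.Agent.S0347
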