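import Groth.Statements.S1889
import Mathlib
import Groth.Agent.H37.GrpdCalc2
import Groth.Agent.H37.FieldBase
open Groth.Agent.H37.GrpdCalc

set_option autoImplicit false
universe u
open CategoryTheory CategoryTheory.Limits AlgebraicGeometry
open Grpd

namespace Groth.Agent.S1889

/-- Let (U, R, s, t, c) be a groupoid scheme over S with U the spectrum of a field, W ⊆ R open and a : Z
→ R a morphism. Then the image of Z ×_{s∘a, U, t} W → R ×_{s,U,t} R → R (composition) is open. (A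
groupoid scheme carries U, R, s, t, c, e, i over S with the groupoid axioms on T-points; 'finite
locally free' is finite, flat and locally of finite presentation; C ⊂ Γ(U) is the ring of functions
a with s♯(a) = t♯(a) and M = Spec C.) -/
theorem result (S : Scheme.{u}) (G : Grpd.GroupoidScheme S) (k : Type u) [Field k] (eU : G.U ≅ Spec (CommRingCat.of k)) (W : G.R.Opens) (Z : Scheme.{u}) (a : Z ⟶ G.R) : IsOpen (Set.range ⇑(pullback.lift (pullback.fst (a ≫ G.s) (W.ι ≫ G.t) ≫ a) (pullback.snd (a ≫ G.s) (W.ι ≫ G.t) ≫ W.ι) ((Category.assoc _ _ _).trans (pullback.condition.trans (Category.assoc _ _ _).symm)) ≫ G.c)) := by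
  haveI : UniversallyOpen (a ≫ G.t) := Groth.Agent.H37.univOpen_of_iso_spec_field k eU _
  obtain ⟨ã, hã1, hã2⟩ : ∃ ã : pullback (a ≫ G.s) G.t ⟶ pullback G.s G.t,
      ã ≫ pullback.fst G.s G.t = pullback.fst (a ≫ G.s) G.t ≫ a ∧
      ã ≫ pullback.snd G.s G.t = pullback.snd (a ≫ G.s) G.t :=
    ⟨pullback.lift _ _ (by rw [Category.assoc]; exact pullback.condition),
      pullback.lift_fst _ _ _, pullback.lift_snd _ _ _⟩
  have sqL : IsPullback ã (pullback.fst (a ≫ G.s) G.t) (pullback.fst G.s G.t) a := by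
    refine IsPullback.of_right ?_ hã1 (IsPullback.of_hasPullback G.s G.t).flip
    rw [hã2]; exact (IsPullback.of_hasPullback (a ≫ G.s) G.t).flip
  have big : IsPullback (ã ≫ G.c) (pullback.fst (a ≫ G.s) G.t) G.t (a ≫ G.t) :=
    sqL.paste_horiz (isPullback_c_fst G)
  haveI : UniversallyOpen (ã ≫ G.c) :=
    MorphismProperty.of_isPullback (P := @UniversallyOpen) big.flip inferInstance
  have hopen : IsOpenMap ⇑(ã ≫ G.c) := (ã ≫ G.c).isOpenMap
  -- the open immersion
  obtain ⟨o, ho, ho1, ho2⟩ : ∃ o : pullback (a ≫ G.s) (W.ι ≫ G.t) ⟶ pullback (a ≫ G.s) G.t,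
      IsOpenImmersion o ∧
      o ≫ pullback.fst (a ≫ G.s) G.t = pullback.fst (a ≫ G.s) (W.ι ≫ G.t) ∧
      o ≫ pullback.snd (a ≫ G.s) G.t = pullback.snd (a ≫ G.s) (W.ι ≫ G.t) ≫ W.ι :=
    ⟨pullback.map (a ≫ G.s) (W.ι ≫ G.t) (a ≫ G.s) G.t (𝟙 Z) W.ι (𝟙 G.U) (by simp) (by simp),
      inferInstance, (pullback.lift_fst _ _ _).trans (Category.comp_id _), pullback.lift_snd _ _ _⟩
  have hlift : ∀ w, pullback.lift (pullback.fst (a ≫ G.s) (W.ι ≫ G.t) ≫ a)
      (pullback.snd (a ≫ G.s) (W.ι ≫ G.t) ≫ W.ι) w = o ≫ ã := by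
    intro w
    apply pullback.hom_ext
    · rw [pullback.lift_fst, Category.assoc, hã1, ← Category.assoc, ho1]
    · rw [pullback.lift_snd, Category.assoc, hã2, ho2]
  rw [hlift, Category.assoc]
  have hr : Set.range ⇑(o ≫ (ã ≫ G.c)) = ⇑(ã ≫ G.c) '' Set.range ⇑o := by
    ext y; constructor
    · rintro ⟨x, rfl⟩; exact ⟨o x, ⟨x, rfl⟩, (Scheme.Hom.comp_apply _ _ _).symm⟩
    · rintro ⟨_, ⟨x, rfl⟩, rfl⟩; exact ⟨x, Scheme.Hom.comp_apply _ _ _⟩
  rw [hr]
  exact hopen _ o.isOpenEmbedding.isOpen_range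

end Groth.Agent.S1889
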