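import Groth.Statements.S8814
import Groth.Agent.H44.DeltaZDim

set_option autoImplicit false
universe u
open CategoryTheory AlgebraicGeometry
open Algz

namespace Groth.Agent.S8814

/-- Let Y be a Noetherian scheme, Z ⊆ Y a closed subset and δ a dimension function on Y. If δ_Z(y) is a
natural number n, then δ(y) ≤ n + δ(z) for some z ∈ Z; in other words δ(y) ≤ δ_Z(y) + δ_max with
δ_max the maximum of δ on Z. -/
theorem result (Y : Scheme.{u}) [IsNoetherian Y] (Z : Set Y) (hZ : IsClosed Z) (δ : Y → ℤ) (hδ : Cyc.IsDimFun Y δ) (y : Y) (n : ℕ) (hn : Algz.deltaZ Z y = n) : ∃ z ∈ Z, δ y ≤ n + δ z := by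
  classical
  have hδ' : ∀ a b : Y, a ⤳ b → a ≠ b →
      δ b < δ a ∧ ((∀ z : Y, a ⤳ z → z ⤳ b → z = a ∨ z = b) → δ a = δ b + 1) := hδ
  -- a system with value at most `n`
  obtain ⟨k, S, hS⟩ : ∃ k, ∃ S : Algz.DSystem Z y k, S.delta ≤ n := by
    by_contra hcon
    push Not at hcon
    have h1 : ((n : ℕ∞) + 1) ≤ Algz.deltaZ Z y :=
      le_iInf₂ fun k S => Order.add_one_le_of_lt (hcon k S)
    rw [hn] at h1
    have h2 : ((n + 1 : ℕ) : ℕ∞) ≤ (n : ℕ∞) := by exact_mod_cast h1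
    have h3 : n + 1 ≤ n := Nat.cast_le.mp h2
    omega
  refine ⟨S.v 0, S.start_mem, ?_⟩
  -- the codimensions in terms of `δ`
  have hc : ∀ j, S.c j = (((δ (S.w j) - δ (S.v j)).toNat : ℕ) : ℕ∞) := fun j =>
    Groth.Agent.H44.codimPt_eq_of_dimFun hδ' (S.spec j)
  have hb : ∀ j, S.b j = (((δ (S.w j.castSucc) - δ (S.v j.succ)).toNat : ℕ) : ℕ∞) := fun j =>
    Groth.Agent.H44.codimPt_eq_of_dimFun hδ' (S.spec_succ j)
  have hC : ∀ j, (((δ (S.w j) - δ (S.v j)).toNat : ℕ) : ℤ) = δ (S.w j) - δ (S.v j) := fun j =>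
    Int.toNat_of_nonneg (sub_nonneg.mpr (Groth.Agent.H44.dimFun_mono hδ' (S.spec j)))
  have hB : ∀ j : Fin k, (((δ (S.w j.castSucc) - δ (S.v j.succ)).toNat : ℕ) : ℤ) =
      δ (S.w j.castSucc) - δ (S.v j.succ) := fun j =>
    Int.toNat_of_nonneg (sub_nonneg.mpr (Groth.Agent.H44.dimFun_mono hδ' (S.spec_succ j)))
  -- the term `i = 0` of the supremum
  have hT0 : (∑ j : Fin (k + 1), S.c j) - ∑ j : Fin k, S.b j ≤ n := by
    have h1 := Finset.le_sup (f := fun i : Fin (k + 1) =>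
      (∑ j ∈ Finset.univ.filter (fun j : Fin (k + 1) => i ≤ j), S.c j) -
        ∑ j ∈ Finset.univ.filter (fun j : Fin k => i.val ≤ j.val), S.b j)
      (Finset.mem_univ (0 : Fin (k + 1)))
    have h2 : S.delta ≤ n := hS
    unfold Algz.DSystem.delta at h2
    have h4 := h1.trans (le_add_self.trans h2)
    rw [Finset.sum_filter, Finset.sum_filter] at h4
    rw [Finset.sum_congr rfl (fun j _ => if_pos (Fin.zero_le j)),
      Finset.sum_congr rfl (fun (j : Fin k) _ =>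
        if_pos (show (0 : Fin (k + 1)).val ≤ j.val from Nat.zero_le _))] at h4
    exact h4
  simp only [hc, hb] at hT0
  rw [← Nat.cast_sum, ← Nat.cast_sum, ← ENat.natCast_sub, Nat.cast_le] at hT0
  -- telescoping
  have htel : (∑ j : Fin (k + 1), (δ (S.w j) - δ (S.v j))) -
      ∑ j : Fin k, (δ (S.w j.castSucc) - δ (S.v j.succ)) = δ y - δ (S.v 0) := by
    simp only [Finset.sum_sub_distrib]
    rw [Fin.sum_univ_castSucc (fun j => δ (S.w j)), Fin.sum_univ_succ (fun j => δ (S.v j)),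
      S.last_eq]
    ring
  have hsumC : ((∑ j : Fin (k + 1), (δ (S.w j) - δ (S.v j)).toNat : ℕ) : ℤ) =
      ∑ j : Fin (k + 1), (δ (S.w j) - δ (S.v j)) := by
    rw [Nat.cast_sum]
    exact Finset.sum_congr rfl (fun j _ => hC j)
  have hsumB : ((∑ j : Fin k, (δ (S.w j.castSucc) - δ (S.v j.succ)).toNat : ℕ) : ℤ) =
      ∑ j : Fin k, (δ (S.w j.castSucc) - δ (S.v j.succ)) := by
    rw [Nat.cast_sum]
    exact Finset.sum_congr rfl (fun j _ => hB j)
  omega

end Groth.Agent.S8814
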