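import Groth.Statements.S8815
import Groth.Agent.S8814
import Groth.Agent.H44.DeltaZDim
import Mathlib.RingTheory.KrullDimension.NonZeroDivisors
import Mathlib.RingTheory.Ideal.KrullsHeightTheorem
import Mathlib.AlgebraicGeometry.Noetherian

set_option autoImplicit false
universe u
open CategoryTheory AlgebraicGeometry
open Algz

namespace Groth.Agent.S8815

section OrderLemmas

variable {α : Type*} [PartialOrder α]

lemma exists_sat_chain (m : α) (hm : ∀ x : α, x ≤ m) :
    ∀ (n : ℕ) (x : α), Order.coheight x = n →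
      ∃ f : Fin (n + 1) → α, f 0 = x ∧ f (Fin.last n) = m ∧
        ∀ i : Fin n, f i.castSucc ⋖ f i.succ := by
  intro n
  induction n with
  | zero =>
    intro x hx
    refine ⟨fun _ => x, rfl, ?_, fun i => i.elim0⟩
    have hmax : IsMax x := Order.coheight_eq_zero.mp (hx.trans Nat.cast_zero)
    exact le_antisymm (hm x) (hmax (hm x))
  | succ n ih =>
    intro x hx
    have hx' : Order.coheight x = (n : ℕ∞) + 1 := hx.trans (Nat.cast_succ n)
    obtain ⟨-, ⟨z, hxz, hz⟩, hall⟩ := Order.coheight_eq_coe_add_one_iff.mp hx'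
    obtain ⟨g, hg0, hglast, hgcov⟩ := ih z hz
    have hcov : x ⋖ z := by
      refine ⟨hxz, fun c hxc hcz => ?_⟩
      have h1 := Order.coheight_add_one_le hcz
      have h2 := hall c hxc
      rw [hz] at h1
      have h3 : ((n : ℕ∞) + 1) ≤ n := h1.trans h2
      exact absurd ((ENat.add_one_le_iff (ENat.natCast_ne_top n)).mp h3) (lt_irrefl _)
    refine ⟨Fin.cons x g, rfl, ?_, ?_⟩
    · rw [← Fin.succ_last, Fin.cons_succ]
      exact hglast
    · intro i
      refine Fin.cases ?_ (fun j => ?_) i
      · rw [Fin.castSucc_zero, Fin.cons_zero, Fin.cons_succ, hg0]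
        exact hcov
      · rw [← Fin.succ_castSucc, Fin.cons_succ, Fin.cons_succ]
        exact hgcov j

lemma coheight_eq_of_covBy (m : α) (hm : ∀ x : α, x ≤ m)
    (hfin : ∀ x : α, Order.coheight x ≠ ⊤)
    (hcat : ∀ s t : LTSeries α, s.head = t.head → s.last = t.last →
      (∀ i : Fin s.length, s (Fin.castSucc i) ⋖ s (Fin.succ i)) →
      (∀ i : Fin t.length, t (Fin.castSucc i) ⋖ t (Fin.succ i)) → s.length = t.length)
    {x y : α} (hxy : x ⋖ y) : Order.coheight x = Order.coheight y + 1 := by
  obtain ⟨N, hN⟩ := ENat.ne_top_iff_exists.mp (hfin x)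
  obtain ⟨n, hn⟩ := ENat.ne_top_iff_exists.mp (hfin y)
  obtain ⟨g, hg0, hglast, hgcov⟩ := exists_sat_chain m hm N x hN.symm
  obtain ⟨f, hf0, hflast, hfcov⟩ := exists_sat_chain m hm n y hn.symm
  have hf'cov : ∀ i : Fin (n + 1), (Fin.cons x f : Fin (n + 2) → α) i.castSucc ⋖
      (Fin.cons x f : Fin (n + 2) → α) i.succ := by
    intro i
    refine Fin.cases ?_ (fun j => ?_) i
    · rw [Fin.castSucc_zero, Fin.cons_zero, Fin.cons_succ, hf0]
      exact hxy
    · rw [← Fin.succ_castSucc, Fin.cons_succ, Fin.cons_succ]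
      exact hfcov j
  let s : LTSeries α := LTSeries.mk N g (Fin.strictMono_iff_lt_succ.mpr fun i => (hgcov i).lt)
  let t : LTSeries α := LTSeries.mk (n + 1) (Fin.cons x f : Fin (n + 2) → α)
    (Fin.strictMono_iff_lt_succ.mpr fun i => (hf'cov i).lt)
  have hhead : s.head = t.head := by
    show g 0 = (Fin.cons x f : Fin (n + 2) → α) 0
    rw [hg0, Fin.cons_zero]
  have hlast : s.last = t.last := by
    show g (Fin.last N) = (Fin.cons x f : Fin (n + 2) → α) (Fin.last (n + 1))
    rw [hglast, ← Fin.succ_last, Fin.cons_succ, hflast]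
  have hlen : N = n + 1 := hcat s t hhead hlast hgcov hf'cov
  rw [← hN, ← hn, hlen]
  push_cast
  rfl

end OrderLemmas

/-- the candidate dimension function: the coheight in the prime spectrum -/
noncomputable def d (A : Type u) [CommRing A] (p : PrimeSpectrum A) : ℤ :=
  ((Order.coheight p).toNat : ℤ)

lemma le_closedPoint (A : Type u) [CommRing A] [IsLocalRing A] (x : PrimeSpectrum A) :
    x ≤ IsLocalRing.closedPoint A := IsLocalRing.le_maximalIdeal x.isPrime.ne_top

lemma coheight_ne_top (A : Type u) [CommRing A] [IsNoetherianRing A] [IsLocalRing A]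
    (x : PrimeSpectrum A) : Order.coheight x ≠ ⊤ := (Order.coheight_lt_top x).ne

lemma cast_toNat_coheight (A : Type u) [CommRing A] [IsNoetherianRing A] [IsLocalRing A]
    (x : PrimeSpectrum A) : ((Order.coheight x).toNat : ℕ∞) = Order.coheight x :=
  ENat.natCast_toNat (coheight_ne_top A x)

lemma d_toNat (A : Type u) [CommRing A] [IsNoetherianRing A] [IsLocalRing A]
    (x : PrimeSpectrum A) : ((d A x).toNat : ℕ∞) = Order.coheight x := by
  unfold d
  rw [Int.toNat_natCast, cast_toNat_coheight]

lemma d_closedPoint (A : Type u) [CommRing A] [IsLocalRing A] :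
    d A (IsLocalRing.closedPoint A) = 0 := by
  have h0 : Order.coheight (IsLocalRing.closedPoint A) = 0 :=
    Order.coheight_eq_zero.mpr (fun w _ => le_closedPoint A w)
  unfold d
  rw [h0]
  rfl

lemma dimFun (A : Type u) [CommRing A] [IsNoetherianRing A] [IsLocalRing A]
    (hA : CAlg.IsCatenary A) :
    ∀ a b : PrimeSpectrum A, a ⤳ b → a ≠ b →
      d A b < d A a ∧
      ((∀ c : PrimeSpectrum A, a ⤳ c → c ⤳ b → c = a ∨ c = b) → d A a = d A b + 1) := by
  intro a b hab hne
  have hle : a ≤ b := (PrimeSpectrum.le_iff_specializes a b).mpr hab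
  have hlt : a < b := lt_of_le_of_ne hle hne
  constructor
  · have h1 := Order.coheight_strictAnti hlt (Order.coheight_lt_top b)
    rw [← cast_toNat_coheight A a, ← cast_toNat_coheight A b, Nat.cast_lt] at h1
    unfold d
    exact_mod_cast h1
  · intro himm
    have hcb : a ⋖ b := by
      refine ⟨hlt, fun c hac hcb => ?_⟩
      rcases himm c ((PrimeSpectrum.le_iff_specializes a c).mp hac.le)
        ((PrimeSpectrum.le_iff_specializes c b).mp hcb.le) with h | h
      · exact hac.ne' h
      · exact hcb.ne h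
    have h2 := coheight_eq_of_covBy (IsLocalRing.closedPoint A) (le_closedPoint A)
      (coheight_ne_top A) hA.2 hcb
    rw [← cast_toNat_coheight A a, ← cast_toNat_coheight A b] at h2
    have h3 : (Order.coheight a).toNat = (Order.coheight b).toNat + 1 := by exact_mod_cast h2
    unfold d
    rw [h3]
    push_cast
    rfl

theorem main (A : Type u) [CommRing A] [IsNoetherianRing A] [IsLocalRing A]
    (hA : CAlg.IsCatenary A) (y : PrimeSpectrum A) :
    Algz.deltaZ (Y := Spec (CommRingCat.of A))
      ({IsLocalRing.closedPoint A} : Set (Spec (CommRingCat.of A))) y = Order.coheight y := by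
  classical
  have hdim : Cyc.IsDimFun (Spec (CommRingCat.of A)) (fun p => d A p) := dimFun A hA
  have hdim' : ∀ a b : Spec (CommRingCat.of A), a ⤳ b → a ≠ b →
      d A b < d A a ∧ ((∀ c : Spec (CommRingCat.of A), a ⤳ c → c ⤳ b → c = a ∨ c = b) →
        d A a = d A b + 1) := dimFun A hA
  have hZ : IsClosed ({IsLocalRing.closedPoint A} : Set (Spec (CommRingCat.of A))) :=
    (PrimeSpectrum.isClosed_singleton_iff_isMaximal (IsLocalRing.closedPoint A)).mpr
      (IsLocalRing.maximalIdeal.isMaximal A)
  have hyz : @Specializes (Spec (CommRingCat.of A)) _ y (IsLocalRing.closedPoint A) :=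
    (PrimeSpectrum.le_iff_specializes _ _).mp (le_closedPoint A y)
  have hub : Algz.deltaZ (Y := Spec (CommRingCat.of A))
      ({IsLocalRing.closedPoint A} : Set (Spec (CommRingCat.of A))) y ≤ Order.coheight y := by
    let S : Algz.DSystem (Y := Spec (CommRingCat.of A))
        ({IsLocalRing.closedPoint A} : Set (Spec (CommRingCat.of A))) y 0 :=
      { v := fun _ => IsLocalRing.closedPoint A
        w := fun _ => y
        spec := fun _ => hyz
        spec_succ := fun i => i.elim0
        start_mem := rfl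
        last_eq := rfl }
    have h1 : Algz.deltaZ (Y := Spec (CommRingCat.of A))
      ({IsLocalRing.closedPoint A} : Set (Spec (CommRingCat.of A))) y ≤ S.delta := iInf₂_le 0 S
    have h2 : S.delta = Algz.codimPt (Y := Spec (CommRingCat.of A)) y
        (IsLocalRing.closedPoint A) hyz := by
      unfold Algz.DSystem.delta
      simp [Algz.DSystem.c, S]
    have h3 : Algz.codimPt (Y := Spec (CommRingCat.of A)) y (IsLocalRing.closedPoint A) hyz =
        ((d A y - d A (IsLocalRing.closedPoint A)).toNat : ℕ∞) :=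
      Groth.Agent.H44.codimPt_eq_of_dimFun (Y := Spec (CommRingCat.of A)) (δ := fun p => d A p) hdim' hyz
    rw [h2, h3, d_closedPoint, sub_zero, d_toNat] at h1
    exact h1
  have hlb : Order.coheight y ≤ Algz.deltaZ (Y := Spec (CommRingCat.of A))
      ({IsLocalRing.closedPoint A} : Set (Spec (CommRingCat.of A))) y := by
    obtain ⟨n, hn⟩ := ENat.ne_top_iff_exists.mp (ne_top_of_le_ne_top (coheight_ne_top A y) hub)
    obtain ⟨z', hz', hle⟩ :=
      Groth.Agent.S8814.result (Spec (CommRingCat.of A)) {IsLocalRing.closedPoint A} hZ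
        (fun p => d A p) hdim y n hn.symm
    have hz'' : z' = IsLocalRing.closedPoint A := hz'
    have hle' : d A y ≤ (n : ℤ) + d A (IsLocalRing.closedPoint A) := by
      rw [← hz'']
      exact hle
    rw [d_closedPoint, add_zero] at hle'
    rw [← hn, ← cast_toNat_coheight A y, Nat.cast_le]
    unfold d at hle'
    exact_mod_cast hle'
  exact le_antisymm hub hlb

lemma dim_eq (A : Type u) [CommRing A] (y : PrimeSpectrum A) :
    ringKrullDim (A ⧸ y.asIdeal) = ((Order.coheight y : ℕ∞) : WithBot ℕ∞) := by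
  rw [ringKrullDim_quotient, Order.coheight_eq_krullDim_Ici]
  have hset : PrimeSpectrum.zeroLocus (R := A) (y.asIdeal : Set A) = Set.Ici y := by
    ext w
    rw [PrimeSpectrum.mem_zeroLocus, Set.mem_Ici, SetLike.coe_subset_coe]
    rfl
  rw [hset]

/-- Let A be a catenary Noetherian local ring, Y = Spec A and Z the closed point. Then δ_Z(y) equals the
dimension of the closure of y, i.e. dim(A/p_y), for every point y. -/
theorem result (A : Type u) [CommRing A] [IsNoetherianRing A] [IsLocalRing A] (hA : CAlg.IsCatenary A) (y : Spec (CommRingCat.of A)) : ((Algz.deltaZ ({IsLocalRing.closedPoint A} : Set (Spec (CommRingCat.of A))) y : ℕ∞) : WithBot ℕ∞) = ringKrullDim (A ⧸ y.asIdeal) := by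
  rw [main A hA y]
  exact (dim_eq A y).symm

end Groth.Agent.S8815
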