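import Groth.Statements.S0717
import Groth.Agent.H23.EpsMain
import Groth.Agent.H23.EpsLimAsm
import Groth.Agent.H23.EpsLBGen
import Groth.Agent.H23.EpsCV
import Groth.Agent.H38.Eps_LA
import Groth.Agent.H10.Eps_LE

set_option autoImplicit false
open CategoryTheory CategoryTheory.Limits AlgebraicGeometry Opposite
universe u
open ProEtS

namespace Groth.Agent.S0717


/-- Pulling an abelian sheaf F on X_et back to X_proet and restricting it again to X_et gives back F:
the unit of the adjunction between eps^{-1} and eps_* is an isomorphism at F (continuity of X_et ->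
X_proet assumed as a binder). -/
theorem result (X : Scheme.{u}) [ProEtS.EpsCont X] (F : EtCoh.Ab X) :
    IsIso ((ProEtS.epsAdj X).unit.app F) := by
  refine Groth.Agent.H23.EpsMain.main_of X (Groth.Agent.H23.EpsCV.hasWCCovers X) ?_ F
  intro U hU
  obtain ⟨D⟩ := Groth.Agent.H38.Eps_LA.nonempty_indData X U hU
  obtain ⟨PD⟩ := Groth.Agent.H10.Eps_LE.nonempty_pairData X hU D
  exact Groth.Agent.H23.EpsLimAsm.nonempty_limData_of (Groth.Agent.H23.EpsLBGen.l1 X)
    (Groth.Agent.H23.EpsLBGen.l1' X) D PD

end Groth.Agent.S0717
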