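import Groth.Statements.S1679
import Groth.Agent.H9.RegSpread
import Groth.Agent.H9.ClosedImmStalk
import Groth.Agent.H9.RegImm
import Groth.Agent.H9.SpreadPrincipal

set_option autoImplicit false
universe u
open CategoryTheory CategoryTheory.Limits AlgebraicGeometry TopologicalSpace
open SDiv

namespace Groth.Agent.S1679

/-- A regular generating sequence of the kernel ideal on an affine open induces a regular generating
sequence of the kernel of the stalk map. -/
theorem forward {X Z : Scheme.{u}} (i : Z ⟶ X) [IsClosedImmersion i] (z : Z) (U : X.affineOpens)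
    (hxU : i z ∈ U.1) (rs : List Γ(X, U.1))
    (hrs : RingTheory.Sequence.IsRegular Γ(X, U.1) rs) (hker : i.ker.ideal U = Ideal.ofList rs) :
    ∃ rs : List ↑(X.presheaf.stalk (i z)),
      RingTheory.Sequence.IsRegular ↑(X.presheaf.stalk (i z)) rs ∧
        RingHom.ker (i.stalkMap z).hom = Ideal.ofList rs := by
  have hU : IsAffineOpen U.1 := U.2
  letI : Algebra Γ(X, U.1) (X.presheaf.stalk (i z)) :=
    X.presheaf.algebra_section_stalk ⟨i z, hxU⟩
  haveI : IsLocalization.AtPrime (X.presheaf.stalk (i z))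
      (hU.primeIdealOf ⟨i z, hxU⟩).asIdeal := hU.isLocalization_stalk ⟨_, hxU⟩
  have hmem : ∀ r ∈ rs, r ∈ (hU.primeIdealOf ⟨i z, hxU⟩).asIdeal := by
    intro r hr
    apply Groth.Agent.H9.ker_ideal_le_primeIdealOf i U z hxU
    rw [hker]
    exact Ideal.subset_span hr
  refine ⟨rs.map (algebraMap Γ(X, U.1) (X.presheaf.stalk (i z))),
    hrs.toIsWeaklyRegular.isRegular_of_isLocalization_of_mem _
      (hU.primeIdealOf ⟨i z, hxU⟩).asIdeal hmem, ?_⟩
  rw [Groth.Agent.H9.ker_stalkMap_of_isClosedImmersion i U z hxU, hker, Ideal.map_ofList]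
  rfl

/-- If the kernel ideal on an affine open `W` is generated by a weakly regular sequence, the
restriction of the closed immersion over `W` is a regular closed immersion. -/
theorem backward {X Z : Scheme.{u}} (i : Z ⟶ X) [IsClosedImmersion i] (W : X.affineOpens)
    (rs' : List Γ(X, W.1)) (hrs' : RingTheory.Sequence.IsWeaklyRegular Γ(X, W.1) rs')
    (hkerW : i.ker.ideal W = Ideal.ofList rs') :
    Mor2.IsRegularClosedImmersion (i ∣_ W.1) := by
  refine ⟨inferInstance, ?_⟩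
  intro z'
  haveI : IsAffine W.1.toScheme := W.2
  have hT : IsAffineOpen (⊤ : W.1.toScheme.Opens) := isAffineOpen_top _
  have hT' : IsAffineOpen (W.1.ι ''ᵁ ⊤) := hT.image_of_isOpenImmersion _
  have hle : W.1.ι ''ᵁ ⊤ ≤ W.1 := (Scheme.Opens.ι_image_top _).le
  obtain ⟨h1, h2⟩ := Groth.Agent.H9.isWeaklyRegular_restrict i.ker
    (U := W) (W := ⟨W.1.ι ''ᵁ ⊤, hT'⟩) hle rs' hrs' hkerW
  have hk : (i ∣_ W.1).ker.ideal ⟨⊤, hT⟩ =
      Ideal.ofList (rs'.map (X.presheaf.map (homOfLE hle).op).hom) := by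
    rw [Scheme.ker_morphismRestrict_ideal]; exact h2
  refine ⟨⊤, hT, trivial, rs'.map (X.presheaf.map (homOfLE hle).op).hom, ?_, hk⟩
  have hreg : RingTheory.Sequence.IsRegular Γ(X, W.1.ι ''ᵁ ⊤)
      (rs'.map (X.presheaf.map (homOfLE hle).op).hom) := by
    rw [Groth.Agent.H9.isRegular_ring_iff]
    refine ⟨h1, fun htop => ?_⟩
    exact Groth.Agent.H9.ker_ideal_ne_top (i ∣_ W.1) ⟨⊤, hT⟩ z' trivial (hk.trans htop)
  exact hreg

/-- Equivalence of (1), (5) and (9) (the regular-sequence variants only): let X be a locally Noetherian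
scheme, i : Z ⟶ X a closed immersion and z a point of Z. Then i is a regular closed immersion over
some open neighbourhood of i z if and only if the kernel of O_{X, i z} → O_{Z, z} is generated by a
regular sequence of O_{X, i z}. -/
theorem result {X Z : Scheme.{u}} [IsLocallyNoetherian X] (i : Z ⟶ X) [IsClosedImmersion i] (z : ↥Z) :
    (∃ V : X.Opens, i z ∈ V ∧ Mor2.IsRegularClosedImmersion (i ∣_ V)) ↔
      ∃ rs : List ↑(X.presheaf.stalk (i z)), RingTheory.Sequence.IsRegular ↑(X.presheaf.stalk (i z)) rs ∧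
        RingHom.ker (i.stalkMap z).hom = Ideal.ofList rs := by
  constructor
  · rintro ⟨V, hxV, hcl, hreg⟩
    have hzV : z ∈ i ⁻¹ᵁ V := hxV
    obtain ⟨U, hU, hzU, rs, hrs, hker⟩ := hreg ⟨z, hzV⟩
    have hU' : IsAffineOpen (V.ι ''ᵁ U) := hU.image_of_isOpenImmersion V.ι
    have hker' : i.ker.ideal ⟨V.ι ''ᵁ U, hU'⟩ = Ideal.ofList rs := by
      rw [← Scheme.ker_morphismRestrict_ideal i V ⟨U, hU⟩]; exact hker
    have hxU : i z ∈ V.ι ''ᵁ U := by
      refine ⟨(i ∣_ V) ⟨z, hzV⟩, hzU, ?_⟩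
      have := congr($(morphismRestrict_ι i V) ⟨z, hzV⟩)
      simpa using this
    exact forward i z ⟨V.ι ''ᵁ U, hU'⟩ hxU rs hrs hker'
  · rintro ⟨rs, hrs, hker⟩
    obtain ⟨U, hU, hxU⟩ : ∃ U : X.Opens, IsAffineOpen U ∧ i z ∈ U := by
      obtain ⟨U, hU, hx, -⟩ := exists_isAffineOpen_mem_and_subset (x := i z) (U := ⊤) trivial
      exact ⟨U, hU, hx⟩
    haveI : IsNoetherianRing Γ(X, U) := IsLocallyNoetherian.component_noetherian ⟨U, hU⟩
    letI : Algebra Γ(X, U) (X.presheaf.stalk (i z)) :=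
      X.presheaf.algebra_section_stalk ⟨i z, hxU⟩
    haveI : IsLocalization.AtPrime (X.presheaf.stalk (i z))
        (hU.primeIdealOf ⟨i z, hxU⟩).asIdeal := hU.isLocalization_stalk ⟨_, hxU⟩
    have hI : (i.ker.ideal ⟨U, hU⟩).map (algebraMap Γ(X, U) (X.presheaf.stalk (i z))) =
        Ideal.ofList rs := by
      rw [← hker, Groth.Agent.H9.ker_stalkMap_of_isClosedImmersion i ⟨U, hU⟩ z hxU]
      rfl
    obtain ⟨s, hs, hS⟩ := Groth.Agent.H9.exists_away_isWeaklyRegular.{u, u}
      (hU.primeIdealOf ⟨i z, hxU⟩).asIdeal (i.ker.ideal ⟨U, hU⟩) rs hrs.toIsWeaklyRegular hI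
    have hxs : i z ∈ X.basicOpen s := by
      by_contra hx
      exact hs ((Groth.Agent.H9.mem_primeIdealOf_iff hU (i z) hxU s).2 hx)
    haveI : IsLocalization.Away s Γ(X, X.basicOpen s) := hU.isLocalization_basicOpen s
    obtain ⟨rs', hrs', hI'⟩ := hS Γ(X, X.basicOpen s)
    have hW : IsAffineOpen (X.basicOpen s) := hU.basicOpen s
    have hkerW : i.ker.ideal ⟨X.basicOpen s, hW⟩ = Ideal.ofList rs' := by
      rw [← hI']
      exact (i.ker.map_ideal_basicOpen ⟨U, hU⟩ s).symm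
    exact ⟨X.basicOpen s, hxs, backward i ⟨X.basicOpen s, hW⟩ rs' hrs' hkerW⟩

end Groth.Agent.S1679
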