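import Groth.Statements.S9273
import Groth.Agent.H19.QRegBC

set_option autoImplicit false
universe u
open CAlgX

namespace Groth.Agent.S9273

open TensorProduct Groth.Agent.H19.QRegBC

section

variable (A : Type u) {B : Type u} [CommRing A] [CommRing B] [Algebra A B] {r : ℕ}
  (f : Fin r → B)

/-- The trivial relations. -/
def triv : Submodule B (Fin r → B) :=
  Submodule.span B {v | ∃ i j : Fin r, v = Pi.single i (f j) - Pi.single j (f i)}

theorem lc_mem (a : Fin r → B) :
    Fintype.linearCombination B f a ∈ Ideal.span (Set.range f) := by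
  rw [Fintype.linearCombination_apply]
  exact Ideal.sum_mem _ fun i _ => Ideal.mul_mem_left _ _ (Ideal.subset_span ⟨i, rfl⟩)

/-- `a ↦ Σ a_i f_i` as an `A`-linear map to the ideal. -/
noncomputable def phi : (Fin r → B) →ₗ[A] ↥(Ideal.span (Set.range f)) :=
  ((Fintype.linearCombination B f).codRestrict (Ideal.span (Set.range f))
    (lc_mem f)).restrictScalars A

theorem phi_surjective : Function.Surjective (phi A f) := by
  rintro ⟨x, hx⟩
  obtain ⟨c, hc⟩ := Ideal.mem_span_range_iff_exists_fun.1 hx
  exact ⟨c, Subtype.ext hc⟩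

theorem triv_le_ker : ∀ a ∈ triv f, phi A f a = 0 := by
  classical
  intro a ha
  apply Subtype.ext
  show Fintype.linearCombination B f a = 0
  have hle : triv f ≤ LinearMap.ker (Fintype.linearCombination B f) := by
    rw [triv, Submodule.span_le]
    rintro _ ⟨i, j, rfl⟩
    rw [SetLike.mem_coe, LinearMap.mem_ker, map_sub, Fintype.linearCombination_apply_single,
      Fintype.linearCombination_apply_single, smul_eq_mul, smul_eq_mul, mul_comm, sub_self]
  exact hle ha

theorem exact_triv (hq : CAlgX.IsH1Regular f) :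
    Function.Exact ((Submodule.subtype (triv f)).restrictScalars A) (phi A f) := by
  intro a
  constructor
  · intro ha
    have h0 : ∑ i, a i * f i = 0 := congrArg Subtype.val ha
    exact ⟨⟨a, hq a h0⟩, rfl⟩
  · rintro ⟨t, rfl⟩
    exact triv_le_ker A f t.1 t.2

variable {A' : Type u} [CommRing A'] [Algebra A A']

theorem key_identity (z : A' ⊗[A] (Fin r → B)) :
    (LinearMap.lTensor A' ((Submodule.subtype (Ideal.span (Set.range f))).restrictScalars A))
      ((LinearMap.lTensor A' (phi A f)) z) =
    ∑ i, (TensorProduct.piRight A A A' (fun _ : Fin r => B) z) i * ((1 : A') ⊗ₜ[A] f i) := by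
  induction z using TensorProduct.induction_on with
  | zero => simp
  | tmul x g =>
    rw [LinearMap.lTensor_tmul, LinearMap.lTensor_tmul, TensorProduct.piRight_apply,
      TensorProduct.piRightHom_tmul]
    simp only [Algebra.TensorProduct.tmul_mul_tmul, mul_one]
    rw [← tmul_sum]
    rfl
  | add z w hz hw =>
    rw [map_add, map_add, hz, hw, map_add]
    simp only [Pi.add_apply, add_mul, Finset.sum_add_distrib]

variable {A}

theorem single_tmul_eq (x : A') (i : Fin r) (b : B) (k : Fin r) :
    (Pi.single i (x ⊗ₜ[A] b) : Fin r → A' ⊗[A] B) k =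
      (x ⊗ₜ[A] (1 : B)) • (Pi.single i ((1 : A') ⊗ₜ[A] b) : Fin r → A' ⊗[A] B) k := by
  rw [Pi.single_apply, Pi.single_apply]
  split_ifs
  · rw [smul_eq_mul, Algebra.TensorProduct.tmul_mul_tmul, mul_one, one_mul]
  · rw [smul_zero]

theorem tau_mem (x : A') (g : Fin r → B) (hg : g ∈ triv f) :
    (fun k => x ⊗ₜ[A] g k) ∈ Submodule.span (A' ⊗[A] B)
      {v : Fin r → A' ⊗[A] B | ∃ i j : Fin r,
        v = Pi.single i ((1 : A') ⊗ₜ[A] f j) - Pi.single j ((1 : A') ⊗ₜ[A] f i)} := by
  classical
  unfold triv at hg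
  induction hg using Submodule.span_induction with
  | mem v hv =>
    obtain ⟨i, j, rfl⟩ := hv
    have h : (fun k => x ⊗ₜ[A] (Pi.single i (f j) - Pi.single j (f i) : Fin r → B) k) =
        (x ⊗ₜ[A] (1 : B)) •
          (Pi.single i ((1 : A') ⊗ₜ[A] f j) - Pi.single j ((1 : A') ⊗ₜ[A] f i) :
            Fin r → A' ⊗[A] B) := by
      funext k
      rw [Pi.sub_apply, tmul_sub, tmul_single, tmul_single, Pi.smul_apply, Pi.sub_apply, smul_sub,
        single_tmul_eq x i (f j) k, single_tmul_eq x j (f i) k]
    rw [h]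
    exact Submodule.smul_mem _ _ (Submodule.subset_span ⟨i, j, rfl⟩)
  | zero =>
    have h : (fun k => x ⊗ₜ[A] (0 : Fin r → B) k) = (0 : Fin r → A' ⊗[A] B) := by
      funext k; simp
    rw [h]
    exact Submodule.zero_mem _
  | add g h _ _ hg hh =>
    have h' : (fun k => x ⊗ₜ[A] (g + h) k) =
        (fun k => x ⊗ₜ[A] g k) + (fun k => x ⊗ₜ[A] h k) := by
      funext k; simp [tmul_add]
    rw [h']
    exact Submodule.add_mem _ hg hh
  | smul b g _ hg =>
    have h' : (fun k => x ⊗ₜ[A] (b • g) k) =
        ((1 : A') ⊗ₜ[A] b) • (fun k => x ⊗ₜ[A] g k) := by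
      funext k
      rw [Pi.smul_apply, Pi.smul_apply, smul_eq_mul, smul_eq_mul,
        Algebra.TensorProduct.tmul_mul_tmul, one_mul]
    rw [h']
    exact Submodule.smul_mem _ _ hg

variable (A)

theorem hinj_sub (hflat : Module.Flat A (B ⧸ Ideal.span (Set.range f))) :
    Function.Injective (LinearMap.lTensor A'
      ((Submodule.subtype (Ideal.span (Set.range f))).restrictScalars A)) := by
  have := hflat
  exact LinearMap.lTensor_injective_of_exact_of_flat (mkQA A (Ideal.span (Set.range f)))
    (Submodule.mkQ_surjective _) ((Submodule.subtype (Ideal.span (Set.range f))).restrictScalars A)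
    (Submodule.injective_subtype _) (LinearMap.exact_subtype_mkQ _) A'

theorem range_mem (w : A' ⊗[A] ↥(triv f)) :
    TensorProduct.piRight A A A' (fun _ : Fin r => B)
      ((LinearMap.lTensor A' ((Submodule.subtype (triv f)).restrictScalars A)) w) ∈
      Submodule.span (A' ⊗[A] B)
      {v : Fin r → A' ⊗[A] B | ∃ i j : Fin r,
        v = Pi.single i ((1 : A') ⊗ₜ[A] f j) - Pi.single j ((1 : A') ⊗ₜ[A] f i)} := by
  induction w using TensorProduct.induction_on with
  | zero => rw [map_zero, map_zero]; exact Submodule.zero_mem _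
  | tmul x t =>
    rw [LinearMap.lTensor_tmul, TensorProduct.piRight_apply, TensorProduct.piRightHom_tmul]
    exact tau_mem f x t.1 t.2
  | add w v hw hv => rw [map_add, map_add]; exact Submodule.add_mem _ hw hv

theorem main (hflat : Module.Flat A (B ⧸ Ideal.span (Set.range f)))
    (hq : CAlgX.IsH1Regular f) :
    CAlgX.IsH1Regular (fun i => ((1 : A') ⊗ₜ[A] f i : A' ⊗[A] B)) := by
  intro a' ha'
  have hz : ∃ z, TensorProduct.piRight A A A' (fun _ : Fin r => B) z = a' :=
    ⟨_, LinearEquiv.apply_symm_apply _ a'⟩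
  obtain ⟨z, rfl⟩ := hz
  have h1 : (LinearMap.lTensor A' (phi A f)) z = 0 := by
    apply hinj_sub A f hflat
    rw [key_identity, map_zero]
    exact ha'
  obtain ⟨w, rfl⟩ := (_root_.lTensor_exact A' (exact_triv A f hq) (phi_surjective A f) z).1 h1
  exact range_mem A f w

end

/-- Let A → B and A → A' be ring maps and B' = A' ⊗_A B. If f_1, ..., f_r is an H_1-regular sequence in
B with B/(f_1, ..., f_r) flat over A, then the images of the f_i in B' form an H_1-regular sequence. -/
theorem result (A B A' : Type u) [CommRing A] [CommRing B]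
    [CommRing A'] [Algebra A B] [Algebra A A'] (r : ℕ) (f : Fin r → B)
    (hflat : Module.Flat A (B ⧸ Ideal.span (Set.range f))) (hq : CAlgX.IsH1Regular f) :
    CAlgX.IsH1Regular (fun i => ((1 : A') ⊗ₜ[A] f i : TensorProduct A A' B)) := by
  exact main A f hflat hq

end Groth.Agent.S9273
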