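import Groth.Statements.S9370
-- import your own Groth.Agent.* helpers here
import Groth.Agent.H39.DerKit

set_option autoImplicit false
universe u
open OmegaSh

namespace Groth.Agent.S9370

open Groth.Agent.H39.DerKit

open AlgebraicGeometry CategoryTheory in
/-- For a commutative square h : X' → X over S' → S, with d : O_X → Ω the universal derivation of X/S
and d' : O_{X'} → Ω' the universal derivation of X'/S', there is a unique O_{X'}-linear c : h^*Ω →
Ω' with c(h^* d s) = d'(h♯ s) for all local functions s on X. -/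
theorem result {X S X' S' : Scheme.{u}} (f : X ⟶ S) (f' : X' ⟶ S') (h : X' ⟶ X) (b : S' ⟶ S)
    (hsq : f' ≫ b = h ≫ f) (Ω : X.Modules) (d : OmegaSh.Der f Ω) (hd : OmegaSh.IsUniversal d)
    (Ω' : X'.Modules) (d' : OmegaSh.Der f' Ω') (hd' : OmegaSh.IsUniversal d') :
    ∃! c : (Scheme.Modules.pullback h).obj Ω ⟶ Ω', OmegaSh.IsDiffCompat h d d' c := by
  obtain ⟨α, hα⟩ := exists_of_universal hd (derPush h b hsq d')
  have key : ∀ (U : X.Opens) (s : Γ(X, U)),
      (((Scheme.Modules.pullbackPushforwardAdjunction h).homEquiv Ω Ω').symm α).app (h ⁻¹ᵁ U)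
        (OmegaSh.pullSect h Ω U (d.app U s)) = d'.app (h ⁻¹ᵁ U) (h.app U s) := by
    intro U s
    have h1 := homEquiv_app h
      (((Scheme.Modules.pullbackPushforwardAdjunction h).homEquiv Ω Ω').symm α) U (d.app U s)
    rw [Equiv.apply_symm_apply] at h1
    rw [← h1, hα, derPush_app]
  refine ⟨((Scheme.Modules.pullbackPushforwardAdjunction h).homEquiv Ω Ω').symm α, key, ?_⟩
  intro c hc
  apply pullback_hom_ext_of_universal h hd
  intro U s
  rw [hc U s, key U s]

end Groth.Agent.S9370
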