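import Groth.Statements.S0108
import Groth.Agent.H4.RootCover

set_option autoImplicit false
open CategoryTheory CategoryTheory.Limits AlgebraicGeometry Opposite
universe u
open EtBase

namespace Groth.Agent.S0108

section helpers
open Polynomial Groth.Agent.H4

theorem kummer_cond {A : Type u} [CommRing A] (n : ℕ) (hn0 : n ≠ 0) (a b c : A)
    (hab : a * b = 1) (hnc : (n : A) * c = 1) :
    derivative (X ^ n - C a) * (C (c * b) * X) + (X ^ n - C a) * (-C b) = 1 ^ 0 := by
  rw [pow_zero, derivative_sub, derivative_X_pow, derivative_C, sub_zero]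
  have e1 : C (n : A) * X ^ (n - 1) * (C (c * b) * X) = C ((n : A) * c * b) * X ^ n := by
    rw [← pow_sub_one_mul hn0 (X : A[X])]
    simp only [C_mul]
    ring
  have e2 : (X ^ n - C a) * (-C b) = -(C b * X ^ n) + C (a * b) := by
    simp only [C_mul]
    ring
  rw [e1, e2, hnc, one_mul, hab, C_1]
  ring

/-- The standard etale pair `(X ^ n - a, 1)` for a unit `a` and `n` invertible. -/
noncomputable def kummerPair {A : Type u} [CommRing A] (n : ℕ) (hn0 : n ≠ 0) (a b c : A)
    (hab : a * b = 1) (hnc : (n : A) * c = 1) : StandardEtalePair A where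
  f := X ^ n - C a
  monic_f := monic_X_pow_sub_C _ hn0
  g := 1
  cond := ⟨C (c * b) * X, -C b, 0, kummer_cond n hn0 a b c hab hnc⟩

theorem kummerPair_natDegree {A : Type u} [CommRing A] [Nontrivial A] (n : ℕ) (hn0 : n ≠ 0) (a b c : A)
    (hab : a * b = 1) (hnc : (n : A) * c = 1) :
    (kummerPair n hn0 a b c hab hnc).f.natDegree ≠ 0 := by
  show (X ^ n - C a).natDegree ≠ 0
  rw [natDegree_X_pow_sub_C]
  exact hn0

theorem kummerPair_root {A : Type u} [CommRing A] (n : ℕ) (hn0 : n ≠ 0) (a b c : A)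
    (hab : a * b = 1) (hnc : (n : A) * c = 1) :
    (kummerPair n hn0 a b c hab hnc).X ^ n =
      algebraMap A (kummerPair n hn0 a b c hab hnc).Ring a := by
  have h1 := (StandardEtalePair.hasMap_X (P := kummerPair n hn0 a b c hab hnc)).1
  have h2 : aeval (kummerPair n hn0 a b c hab hnc).X (X ^ n - C a) =
      (kummerPair n hn0 a b c hab hnc).X ^ n -
        algebraMap A (kummerPair n hn0 a b c hab hnc).Ring a := by
    simp
  have h3 : aeval (kummerPair n hn0 a b c hab hnc).X (X ^ n - C a) = 0 := h1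
  rw [h2] at h3
  exact sub_eq_zero.1 h3

theorem kummerPair_isUnit_X {A : Type u} [CommRing A] (n : ℕ) (hn0 : n ≠ 0) (a b c : A)
    (hab : a * b = 1) (hnc : (n : A) * c = 1) :
    IsUnit (kummerPair n hn0 a b c hab hnc).X := by
  refine IsUnit.of_mul_eq_one (algebraMap A (kummerPair n hn0 a b c hab hnc).Ring b *
    (kummerPair n hn0 a b c hab hnc).X ^ (n - 1)) ?_
  calc (kummerPair n hn0 a b c hab hnc).X *
        (algebraMap A (kummerPair n hn0 a b c hab hnc).Ring b *
          (kummerPair n hn0 a b c hab hnc).X ^ (n - 1))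
      = algebraMap A (kummerPair n hn0 a b c hab hnc).Ring b *
          ((kummerPair n hn0 a b c hab hnc).X ^ (n - 1) *
            (kummerPair n hn0 a b c hab hnc).X) := by ring
    _ = algebraMap A (kummerPair n hn0 a b c hab hnc).Ring b *
          algebraMap A (kummerPair n hn0 a b c hab hnc).Ring a := by
        rw [pow_sub_one_mul hn0, kummerPair_root]
    _ = 1 := by rw [← map_mul, mul_comm b a, hab, map_one]

end helpers

/-- The Kummer sequence — when n is invertible on S, the n-th power map on the multiplicative group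
sheaf is an epimorphism of étale sheaves (its kernel μ_n is, by definition in the prelude, the sheaf
of n-th roots of unity, so the sequence 0 → μ_n → G_m → G_m → 0 is exact). -/
theorem result (S : Scheme.{u}) (n : ℕ) (hn : IsUnit (n : Γ(S, ⊤))) : Epi (EtCoh.powMap S n) := by
  apply Groth.Agent.H4.epi_of_local_lift
  intro U t x
  obtain ⟨A, j, hj, y, hy⟩ := Scheme.exists_Spec_apply_eq x
  haveI := hj
  let θ : Γ(U.left, ⊤) →+* A := (j.appTop ≫ (Scheme.ΓSpecIso A).hom).hom
  have hnU : IsUnit (n : Γ(U.left, ⊤)) := by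
    have h1 := hn.map U.hom.appTop.hom
    rwa [map_natCast] at h1
  have hnA : IsUnit (n : A) := by
    have h1 := hnU.map θ
    rwa [map_natCast] at h1
  haveI : Nontrivial A := PrimeSpectrum.nonempty_iff_nontrivial.1 ⟨y⟩
  have hn0 : n ≠ 0 := by
    rintro rfl
    rw [Nat.cast_zero] at hnA
    exact not_isUnit_zero hnA
  let tu : (Γ(U.left, ⊤))ˣ := Additive.toMul t.down
  let a : Aˣ := Units.map θ.toMonoidHom tu
  obtain ⟨c, hc⟩ := hnA.exists_right_inv
  let P : StandardEtalePair A :=
    kummerPair n hn0 (a : A) (↑a⁻¹ : A) c (Units.mul_inv a) hc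
  obtain ⟨V, g, v, e, hv, he⟩ := Groth.Agent.H4.exists_nbhd_of_pair U A j y P rfl
    (kummerPair_natDegree n hn0 (a : A) (↑a⁻¹ : A) c (Units.mul_inv a) hc)
  refine ⟨V, g, v, hv.trans hy, ?_⟩
  have hroot : P.X ^ n = algebraMap A P.Ring (a : A) :=
    kummerPair_root n hn0 (a : A) (↑a⁻¹ : A) c (Units.mul_inv a) hc
  have hTunit : IsUnit P.X :=
    kummerPair_isUnit_X n hn0 (a : A) (↑a⁻¹ : A) c (Units.mul_inv a) hc
  let E : Γ(V.left, ⊤) ≃+* P.Ring := e.commRingCatIsoToRingEquiv
  have hE : ∀ r : Γ(U.left, ⊤), E (g.left.appTop.hom r) = algebraMap A P.Ring (θ r) :=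
    fun r => congrArg (fun m => m.hom r) he
  let s' : (Γ(V.left, ⊤))ˣ := Units.map E.symm.toRingHom.toMonoidHom hTunit.unit
  refine ⟨ULift.up (Additive.ofMul s'), ?_⟩
  rw [show EtCoh.powMap S n = n • 𝟙 (EtCoh.Gm S) from rfl, Groth.Agent.H4.nsmul_hom_app]
  apply ULift.ext
  show n • Additive.ofMul s' =
    Additive.ofMul (Units.map g.left.appTop.hom.toMonoidHom tu)
  rw [← ofMul_pow]
  congr 1
  apply Units.ext
  apply E.injective
  show E ((s' : Γ(V.left, ⊤)) ^ n) = E (g.left.appTop.hom (tu : Γ(U.left, ⊤)))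
  rw [map_pow, hE]
  show E (E.symm P.X) ^ n = algebraMap A P.Ring (a : A)
  rw [E.apply_symm_apply, hroot]

end Groth.Agent.S0108
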