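import Groth.Statements.S0112
-- import your own Groth.Agent.* helpers here
import Groth.Agent.H48.FlatLimit5

set_option autoImplicit false
universe u
open EtBase

namespace Groth.Agent.S0112

/-- Finite presentation of an R-algebra A can be tested after passing to an A-algebra B that is
faithfully flat and finitely presented over A: if B is finitely presented over R, then so is A. -/
theorem result {R A B : Type u} [CommRing R] [CommRing A] [CommRing B] [Algebra R A] [Algebra A B]
    [Algebra R B] [IsScalarTower R A B] [Algebra.FinitePresentation R B]
    [Module.FaithfullyFlat A B] [Algebra.FinitePresentation A B] : Algebra.FinitePresentation R A := by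
  obtain ⟨A₀, B₀, _, _, _, _, _, _, hA₀, hB₀, hff, ⟨e⟩⟩ :=
    Groth.Agent.H48.FlatLimit.exists_model_over R A B
  haveI := hA₀
  haveI := hB₀
  haveI := hff
  exact Groth.Agent.H48.FlatLimit.finitePresentation_of_model R e

end Groth.Agent.S0112
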