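import Groth.Statements.S6085
import Groth.Agent.H40.RelGrp
import Groth.Agent.H24.DescFP

set_option autoImplicit false
universe u
open CategoryTheory CategoryTheory.Limits MonoidalCategory CartesianMonoidalCategory MonObj GrpObj AlgebraicGeometry
open SGA3

namespace Groth.Agent.S6085

open Groth.Agent.H63.BCPoints Groth.Agent.S18878 Groth.Agent.S6088 Groth.Agent.S6086
  Groth.Agent.H40.RelGrp

section stage
variable {I : Type u} [SmallCategory I]
  (D : I ⥤ Scheme.{u}) (c : Limits.Cone D) (j : I) (A B : Over (D.obj j))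

/-- `ui` descends `u` -/
def Compat {i : I} (f : i ⟶ j) (u : Red.bc (c.π.app j) A ⟶ Red.bc (c.π.app j) B)
    (ui : Red.bc (D.map f) A ⟶ Red.bc (D.map f) B) : Prop :=
  pullback.lift (pullback.fst A.hom (c.π.app j)) (pullback.snd A.hom (c.π.app j) ≫ c.π.app i)
      (by rw [pullback.condition, Category.assoc, c.w]) ≫ ui.left ≫
        pullback.fst B.hom (D.map f) = u.left ≫ pullback.fst B.hom (c.π.app j)

variable {D c j A B}

theorem Compat.eq {i : I} {f : i ⟶ j} {u : Red.bc (c.π.app j) A ⟶ Red.bc (c.π.app j) B}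
    {ui : Red.bc (D.map f) A ⟶ Red.bc (D.map f) B} (h : Compat D c j A B f u ui) :
    (Over.pullback (c.π.app i)).map ui =
      (ActBC.bcCompIso (c.π.app i) (D.map f) A (c.w f)).hom ≫ u ≫
        (ActBC.bcCompIso (c.π.app i) (D.map f) B (c.w f)).inv :=
  compat_of_fst D c f A B u ui h

theorem Compat.restage {i : I} {f : i ⟶ j} {u : Red.bc (c.π.app j) A ⟶ Red.bc (c.π.app j) B}
    {ui : Red.bc (D.map f) A ⟶ Red.bc (D.map f) B} (h : Compat D c j A B f u ui) {i' : I}
    (g : i' ⟶ i) : ∃ ui', Compat D c j A B (g ≫ f) u ui' := by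
  have hcg : D.map g ≫ D.map f = D.map (g ≫ f) := (D.map_comp g f).symm
  refine ⟨(ActBC.bcCompIso (D.map g) (D.map f) A hcg).inv ≫
      (Over.pullback (D.map g)).map ui ≫ (ActBC.bcCompIso (D.map g) (D.map f) B hcg).hom, ?_⟩
  unfold Compat at h ⊢
  simp only [Over.comp_left, Category.assoc, ActBC.bcCompIso_hom_left_fst,
    ActBC.pullback_map_left_fst_assoc]
  rw [← h]
  simp only [← Category.assoc]
  congr 2
  simp only [Category.assoc]
  apply pullback.hom_ext
  · simp only [Category.assoc]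
    rw [bcCompIso_inv_left_fst_fst, pullback.lift_fst, pullback.lift_fst]
  · simp only [Category.assoc]
    have hcond : pullback.fst (Red.bc (D.map f) A).hom (D.map g) ≫
        pullback.snd A.hom (D.map f) = pullback.snd _ _ ≫ D.map g := pullback.condition
    rw [hcond, bcCompIso_inv_left_snd_assoc, pullback.lift_snd_assoc, pullback.lift_snd,
      Category.assoc, c.w]

variable (D c j A B)
variable [IsCofiltered I] (hc : Limits.IsLimit c)
  [∀ (i j : I) (a : i ⟶ j), IsAffineHom (D.map a)]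
  [CompactSpace (D.obj j)] [QuasiSeparatedSpace (D.obj j)]

include hc in
theorem exists_hom_stage [LocallyOfFinitePresentation B.hom] [QuasiCompact A.hom]
    [QuasiSeparated A.hom] (u : Red.bc (c.π.app j) A ⟶ Red.bc (c.π.app j) B) :
    ∃ (i : I) (f : i ⟶ j), ∃ ui, Compat D c j A B f u ui := by
  have ht : (u.left ≫ pullback.fst B.hom (c.π.app j)) ≫ B.hom =
      pullback.fst A.hom (c.π.app j) ≫ A.hom := by
    have hw : u.left ≫ pullback.snd B.hom (c.π.app j) = pullback.snd A.hom (c.π.app j) :=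
      Over.w u
    rw [Category.assoc, pullback.condition, ← Category.assoc, hw, pullback.condition]
  obtain ⟨i₁, f₁, tl, htl, hcomp⟩ := exists_stage_pt D c hc j A.hom B.hom _ ht
  let τ₁ : (Over.map (D.map f₁)).obj (Red.bc (D.map f₁) A) ⟶ B := Over.homMk tl (by
    rw [htl]
    exact pullback.condition)
  obtain ⟨u₁, hu₁def⟩ : ∃ u₁ : Red.bc (D.map f₁) A ⟶ Red.bc (D.map f₁) B,
      u₁ = ofUnder (D.map f₁) τ₁ := ⟨_, rfl⟩
  have hu₁ : u₁.left ≫ pullback.fst B.hom (D.map f₁) = tl := by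
    have h0 := congrArg (fun m => m.left) (under_ofUnder (D.map f₁) τ₁)
    rw [← hu₁def] at h0
    simpa [τ₁] using h0
  refine ⟨i₁, f₁, u₁, ?_⟩
  unfold Compat
  rw [hu₁]
  exact hcomp

end stage

/-- Let S be the limit of a cofiltered system (S_i) of quasi-compact quasi-separated schemes with affine
transition morphisms, and let G be an S-group scheme of finite presentation over S. Then there are
an index j, an S_j-group scheme G_j of finite presentation over S_j and an isomorphism of S-group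
schemes (an isomorphism over S which is a homomorphism) from G to G_j ×_{S_j} S. (The published
setting takes all S_i affine over a fixed quasi-compact quasi-separated S_0; this row allows any
cofiltered system of quasi-compact quasi-separated schemes with affine transition morphisms.) -/
theorem result {I : Type u} [SmallCategory I] [IsCofiltered I]
    (D : I ⥤ Scheme.{u}) (c : Limits.Cone D) (hc : Limits.IsLimit c)
    [∀ (i i' : I) (f : i ⟶ i'), IsAffineHom (D.map f)] [∀ i, CompactSpace (D.obj i)] [∀ i, QuasiSeparatedSpace (D.obj i)]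
    (G : Over c.pt) [GrpObj G] [LocallyOfFinitePresentation G.hom] [QuasiCompact G.hom] [QuasiSeparated G.hom] :
    ∃ (j : I) (Gj : Over (D.obj j)) (_ : GrpObj Gj) (e : G ≅ Red.bc (c.π.app j) Gj),
      IsMonHom e.hom ∧ LocallyOfFinitePresentation Gj.hom ∧ QuasiCompact Gj.hom ∧ QuasiSeparated Gj.hom := by
  haveI hAff : ∀ {i j : I} (f : i ⟶ j), IsAffineHom (D.map f) := fun f => inferInstance
  obtain ⟨j₀, Z₁, h₁, g₁, p1, p2, p3, sq⟩ := Groth.Agent.H24.desc_of_finitePresentation hc G.hom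
  obtain ⟨X₀, hX₀⟩ : ∃ X₀ : Over (D.obj j₀), X₀ = Over.mk h₁ := ⟨_, rfl⟩
  haveI : LocallyOfFinitePresentation X₀.hom := by rw [hX₀]; exact p1
  haveI : QuasiCompact X₀.hom := by rw [hX₀]; exact p2
  haveI : QuasiSeparated X₀.hom := by rw [hX₀]; exact p3
  obtain ⟨θ₀⟩ : Nonempty (G ≅ Red.bc (c.π.app j₀) X₀) := by
    rw [hX₀]
    exact ⟨Over.isoMk sq.isoPullback (by
      show sq.isoPullback.hom ≫ pullback.snd h₁ (c.π.app j₀) = G.hom
      exact sq.isoPullback_hom_snd)⟩
  -- the structure morphisms over the limit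
  obtain ⟨um, hum⟩ : ∃ um : Red.bc (c.π.app j₀) (X₀ ⊗ X₀) ⟶ Red.bc (c.π.app j₀) X₀,
      um = inv (Functor.LaxMonoidal.μ (Over.pullback (c.π.app j₀)) X₀ X₀) ≫
        (θ₀.inv ⊗ₘ θ₀.inv) ≫ μ[G] ≫ θ₀.hom := ⟨_, rfl⟩
  obtain ⟨ue, hue⟩ : ∃ ue : Red.bc (c.π.app j₀) (𝟙_ (Over (D.obj j₀))) ⟶ Red.bc (c.π.app j₀) X₀,
      ue = inv (Functor.LaxMonoidal.ε (Over.pullback (c.π.app j₀))) ≫ η[G] ≫ θ₀.hom := ⟨_, rfl⟩
  obtain ⟨ui, hui⟩ : ∃ ui : Red.bc (c.π.app j₀) X₀ ⟶ Red.bc (c.π.app j₀) X₀,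
      ui = θ₀.inv ≫ ι[G] ≫ θ₀.hom := ⟨_, rfl⟩
  haveI : QuasiCompact (X₀ ⊗ X₀).hom := by rw [Over.tensorObj_hom]; infer_instance
  haveI : QuasiSeparated (X₀ ⊗ X₀).hom := by rw [Over.tensorObj_hom]; infer_instance
  haveI : QuasiCompact (𝟙_ (Over (D.obj j₀))).hom := by
    rw [Over.tensorUnit_hom]; exact MorphismProperty.id_mem (@QuasiCompact) _
  haveI : QuasiSeparated (𝟙_ (Over (D.obj j₀))).hom := by
    rw [Over.tensorUnit_hom]; exact MorphismProperty.id_mem (@QuasiSeparated) _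
  have s1 := exists_hom_stage D c j₀ (X₀ ⊗ X₀) X₀ hc um
  have s2 := exists_hom_stage D c j₀ (𝟙_ (Over (D.obj j₀))) X₀ hc ue
  have s3 := exists_hom_stage D c j₀ X₀ X₀ hc ui
  have s12 := exists_common j₀ (fun i f => ∃ v, Compat D c j₀ (X₀ ⊗ X₀) X₀ f um v)
    (fun i f => ∃ v, Compat D c j₀ (𝟙_ (Over (D.obj j₀))) X₀ f ue v)
    (fun φ b h => by obtain ⟨v, hv⟩ := h; exact hv.restage b)
    (fun φ b h => by obtain ⟨v, hv⟩ := h; exact hv.restage b) s1 s2
  obtain ⟨i, f, ⟨⟨vm, hvm⟩, ⟨ve, hve⟩⟩, ⟨vi, hvi⟩⟩ := exists_common j₀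
    (fun i f => (∃ v, Compat D c j₀ (X₀ ⊗ X₀) X₀ f um v) ∧
      ∃ v, Compat D c j₀ (𝟙_ (Over (D.obj j₀))) X₀ f ue v)
    (fun i f => ∃ v, Compat D c j₀ X₀ X₀ f ui v)
    (fun φ b h => by
      obtain ⟨⟨v, hv⟩, ⟨v', hv'⟩⟩ := h
      exact ⟨hv.restage b, hv'.restage b⟩)
    (fun φ b h => by obtain ⟨v, hv⟩ := h; exact hv.restage b) s12 s3
  -- the model at stage `i`
  obtain ⟨X, hX⟩ : ∃ X : Over (D.obj i), X = Red.bc (D.map f) X₀ := ⟨_, rfl⟩
  haveI : LocallyOfFinitePresentation X.hom := by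
    rw [hX]; exact inferInstanceAs (LocallyOfFinitePresentation (pullback.snd X₀.hom (D.map f)))
  haveI : QuasiCompact X.hom := by
    rw [hX]; exact inferInstanceAs (QuasiCompact (pullback.snd X₀.hom (D.map f)))
  haveI : QuasiSeparated X.hom := by
    rw [hX]; exact inferInstanceAs (QuasiSeparated (pullback.snd X₀.hom (D.map f)))
  subst hX
  obtain ⟨θ, hθ⟩ : ∃ θ : G ≅ Red.bc (c.π.app i) (Red.bc (D.map f) X₀),
      θ = θ₀ ≪≫ (ActBC.bcCompIso (c.π.app i) (D.map f) X₀ (c.w f)).symm := ⟨_, rfl⟩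
  have hθh : θ.hom = θ₀.hom ≫ (ActBC.bcCompIso (c.π.app i) (D.map f) X₀ (c.w f)).inv := by
    rw [hθ]; rfl
  have hθi : θ.inv = (ActBC.bcCompIso (c.π.app i) (D.map f) X₀ (c.w f)).hom ≫ θ₀.inv := by
    rw [hθ]; rfl
  let M : Model (c.π.app i) θ :=
    { m := Functor.LaxMonoidal.μ (Over.pullback (D.map f)) X₀ X₀ ≫ vm
      e := Functor.LaxMonoidal.ε (Over.pullback (D.map f)) ≫ ve
      iv := vi
      hm := by
        have hT := bcCompIso_tensor (c.π.app i) (D.map f) (c.w f) X₀ X₀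
        rw [Functor.map_comp, hvm.eq, reassoc_of% hT, hum, hθh, hθi]
        simp only [Category.assoc, IsIso.hom_inv_id_assoc, tensorHom_comp_tensorHom_assoc]
      he := by
        rw [Functor.map_comp, hve.eq, hue, hθh]
        simp only [Category.assoc]
        rw [← Category.assoc, ← Category.assoc, ← Category.assoc]
        rw [toUnit_unique (((Functor.LaxMonoidal.ε (Over.pullback (c.π.app i)) ≫
          (Over.pullback (c.π.app i)).map (Functor.LaxMonoidal.ε (Over.pullback (D.map f)))) ≫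
          (ActBC.bcCompIso (c.π.app i) (D.map f) (𝟙_ (Over (D.obj j₀))) (c.w f)).hom) ≫
          inv (Functor.LaxMonoidal.ε (Over.pullback (c.π.app j₀)))) (𝟙 _), Category.id_comp]
      hi := by
        rw [hvi.eq, hui, hθh, hθi]
        simp only [Category.assoc] }
  -- instances for the objects at stage `i`
  haveI : LocallyOfFinitePresentation (Red.bc (D.map f) X₀ ⊗ Red.bc (D.map f) X₀).hom := by
    rw [Over.tensorObj_hom]; infer_instance
  haveI : QuasiCompact (Red.bc (D.map f) X₀ ⊗ Red.bc (D.map f) X₀).hom := by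
    rw [Over.tensorObj_hom]; infer_instance
  haveI : QuasiSeparated (Red.bc (D.map f) X₀ ⊗ Red.bc (D.map f) X₀).hom := by
    rw [Over.tensorObj_hom]; infer_instance
  haveI : LocallyOfFinitePresentation
      (Red.bc (D.map f) X₀ ⊗ (Red.bc (D.map f) X₀ ⊗ Red.bc (D.map f) X₀)).hom := by
    rw [Over.tensorObj_hom]; infer_instance
  haveI : QuasiCompact
      (Red.bc (D.map f) X₀ ⊗ (Red.bc (D.map f) X₀ ⊗ Red.bc (D.map f) X₀)).hom := by
    rw [Over.tensorObj_hom]; infer_instance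
  haveI : QuasiSeparated
      (Red.bc (D.map f) X₀ ⊗ (Red.bc (D.map f) X₀ ⊗ Red.bc (D.map f) X₀)).hom := by
    rw [Over.tensorObj_hom]; infer_instance
  -- the four axioms at a stage
  have key : ∀ {Z₀ : Over (D.obj i)} (a b : Z₀ ⟶ Red.bc (D.map f) X₀)
      [LocallyOfFinitePresentation Z₀.hom] [QuasiCompact Z₀.hom] [QuasiSeparated Z₀.hom],
      EqOn (c.π.app i) a b → ∃ (i' : I) (g : i' ⟶ i), Fact (D.map g) (eqι a b) (𝟙 Z₀) := by
    intro Z₀ a b _ _ _ h
    obtain ⟨i', g, hg⟩ := exists_stage_eq D c hc i a b h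
    exact ⟨i', g, (eqOn_iff_fact _ a b).1 hg⟩
  have t1 := key _ _ M.law.assoc
  have t2 := key _ _ M.law.one_mul
  have t3 := key _ _ M.law.mul_one
  have t4 := key _ _ M.law.inv_mul
  have t12 := exists_common i (fun i' g => Fact (D.map g) (eqι (assocL M.m) (assocR M.m)) (𝟙 _))
    (fun i' g => Fact (D.map g) (eqι (oneMulL M.m M.e) (𝟙 _)) (𝟙 _))
    (fun φ b h => Fact.restage D i _ h b) (fun φ b h => Fact.restage D i _ h b) t1 t2
  have t34 := exists_common i (fun i' g => Fact (D.map g) (eqι (mulOneL M.m M.e) (𝟙 _)) (𝟙 _))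
    (fun i' g => Fact (D.map g) (eqι (invMulL M.m M.iv) (invMulR M.e)) (𝟙 _))
    (fun φ b h => Fact.restage D i _ h b) (fun φ b h => Fact.restage D i _ h b) t3 t4
  obtain ⟨i', g, ⟨r1, r2⟩, ⟨r3, r4⟩⟩ := exists_common i
    (fun i' g => Fact (D.map g) (eqι (assocL M.m) (assocR M.m)) (𝟙 _) ∧
      Fact (D.map g) (eqι (oneMulL M.m M.e) (𝟙 _)) (𝟙 _))
    (fun i' g => Fact (D.map g) (eqι (mulOneL M.m M.e) (𝟙 _)) (𝟙 _) ∧
      Fact (D.map g) (eqι (invMulL M.m M.iv) (invMulR M.e)) (𝟙 _))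
    (fun φ b h => ⟨Fact.restage D i _ h.1 b, Fact.restage D i _ h.2 b⟩)
    (fun φ b h => ⟨Fact.restage D i _ h.1 b, Fact.restage D i _ h.2 b⟩) t12 t34
  let R : Law (D.map g) (Red.bc (D.map f) X₀) :=
    { m := M.m
      e := M.e
      iv := M.iv
      assoc := (eqOn_iff_fact _ _ _).2 r1
      one_mul := (eqOn_iff_fact _ _ _).2 r2
      mul_one := (eqOn_iff_fact _ _ _).2 r3
      inv_mul := (eqOn_iff_fact _ _ _).2 r4 }
  refine ⟨i', Red.bc (D.map g) (Red.bc (D.map f) X₀), grpObj R,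
    θ ≪≫ (ActBC.bcCompIso (c.π.app i') (D.map g) (Red.bc (D.map f) X₀) (c.w g)).symm, ?_,
    inferInstanceAs (LocallyOfFinitePresentation
      (pullback.snd (Red.bc (D.map f) X₀).hom (D.map g))),
    inferInstanceAs (QuasiCompact (pullback.snd (Red.bc (D.map f) X₀).hom (D.map g))),
    inferInstanceAs (QuasiSeparated (pullback.snd (Red.bc (D.map f) X₀).hom (D.map g)))⟩
  exact isMonHom_final (c.π.app i') (D.map g) (c.w g) M R rfl

end Groth.Agent.S6085
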