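import Groth.Statements.S18063
import Mathlib
import Groth.Agent.S18498

set_option autoImplicit false
universe u
open CategoryTheory MonoidalCategory CartesianMonoidalCategory MonObj GrpObj AlgebraicGeometry CategoryTheory.Limits
open AlgGrp

namespace Groth.Agent.S18063



open Groth.Agent.S18498

theorem faithful_of_flat {S S' : Scheme.{u}} (j : S' ⟶ S) [IsSchemeTheoreticallyDominant j]
    [QuasiCompact j] (X Y : Over S) [Flat X.hom] [IsSeparated Y.hom] (f g : X ⟶ Y)
    (h : (Over.pullback j).map f = (Over.pullback j).map g) : f = g := by
  have hdom : IsSchemeTheoreticallyDominant (pullback.fst X.hom j) := inferInstance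
  apply ext_of_schDominant f g (pullback.fst X.hom j)
  have h1 := congrArg (fun φ => φ.left ≫ pullback.fst Y.hom j) h
  simp only [Over.pullback_map_left] at h1
  rw [pullback.lift_fst, pullback.lift_fst] at h1
  exact h1

theorem schDominant_of_injective {A K : Type u} [CommRing A] [IsDomain A] [CommRing K]
    (φ : A →+* K) (hφ : Function.Injective φ) :
    IsSchemeTheoreticallyDominant (Spec.map (CommRingCat.ofHom φ)) := by
  have hdom : IsDominant (Spec.map (CommRingCat.ofHom φ)) := by
    constructor
    change DenseRange (PrimeSpectrum.comap φ)
    rw [PrimeSpectrum.denseRange_comap_iff_ker_le_nilRadical]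
    rw [(RingHom.injective_iff_ker_eq_bot _).mp hφ]
    exact bot_le
  exact IsSchemeTheoreticallyDominant.of_isDominant _

open scoped Obj in
theorem map_comm_of_isCommMonObj {C D : Type*} [Category C] [Category D]
    [CartesianMonoidalCategory C] [CartesianMonoidalCategory D] [BraidedCategory C] [BraidedCategory D]
    (F : C ⥤ D) [F.Braided] (G : C) [MonObj G]
    (h : IsCommMonObj (F.obj G)) : F.map ((β_ G G).hom ≫ μ[G]) = F.map μ[G] := by
  have h1 := h.mul_comm
  rw [Functor.obj.μ_def] at h1
  rw [← Functor.LaxBraided.braided_assoc] at h1
  rw [Functor.map_comp]
  exact (cancel_epi (Functor.LaxMonoidal.μ F G G)).mp h1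

theorem main (A : Type u) [CommRing A] [IsDomain A] [IsDiscreteValuationRing A]
    (K : Type u) [Field K] [Algebra A K] [IsFractionRing A K]
    (G : Over (Spec (CommRingCat.of A))) [GrpObj G] [Flat G.hom] [LocallyOfFinitePresentation G.hom] [QuasiCompact G.hom]
    [IsSeparated G.hom] [hK : IsCommMonObj (Red.bc (Spec.map (CommRingCat.ofHom (algebraMap A K))) G)] :
    IsCommMonObj (Red.bc (Spec.map (CommRingCat.ofHom (algebraMap A (IsLocalRing.ResidueField A)))) G) := by
  have hdom := schDominant_of_injective (algebraMap A K) (IsFractionRing.injective A K)
  have hflat : Flat (G ⊗ G).hom := by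
    rw [Over.tensorObj_hom]; infer_instance
  have hcomm : (β_ G G).hom ≫ μ[G] = μ[G] := by
    apply faithful_of_flat (Spec.map (CommRingCat.ofHom (algebraMap A K))) (G ⊗ G) G
    exact map_comm_of_isCommMonObj (Over.pullback (Spec.map (CommRingCat.ofHom (algebraMap A K)))) G hK
  have : IsCommMonObj G := ⟨hcomm⟩
  exact Functor.isCommMonObj_obj


/-- A is a discrete valuation ring, K denotes its field of fractions and k its residue field, and G is
an A-group scheme that is flat, separated and of finite presentation. If the generic fibre G_K is
commutative, then the special fibre G_k is commutative. (The published statement does not require G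
separated over A, and its proof argues by density of the generic fibre; without separatedness the
conclusion fails: gluing copies of Spec A indexed by a finite non-abelian group along their common
generic point gives a flat group scheme of finite presentation over A whose generic fibre is the
trivial group and whose special fibre is that non-abelian constant group. So G is taken separated
here.) -/
theorem result (A : Type u) [CommRing A] [IsDomain A] [IsDiscreteValuationRing A]
    (K : Type u) [Field K] [Algebra A K] [IsFractionRing A K]
    (G : Over (Spec (CommRingCat.of A))) [GrpObj G] [Flat G.hom] [LocallyOfFinitePresentation G.hom] [QuasiCompact G.hom]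
    [IsSeparated G.hom] [IsCommMonObj (Red.bc (Spec.map (CommRingCat.ofHom (algebraMap A K))) G)] :
    IsCommMonObj (Red.bc (Spec.map (CommRingCat.ofHom (algebraMap A (IsLocalRing.ResidueField A)))) G) := by
  exact main A K G

end Groth.Agent.S18063
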