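import Groth.Statements.S12143
import Groth.Agent.H41.LineProj

set_option autoImplicit false
universe u
open CategoryTheory CategoryTheory.Limits AlgebraicGeometry TopologicalSpace Opposite
open scoped HomogeneousIdeal
noncomputable section
open EGA2

namespace Groth.Agent.S12143

/-- Let L be an invertible O_X-module and 𝒮L = ⊕_{n ≥ 0} L^{⊗n} its graded symmetric algebra; then the
structure morphism Proj(𝒮L) → X of the relative homogeneous spectrum is an isomorphism (the graded
algebra O_X[T] twisted by L has the same Proj as O_X[T], which is X). -/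
theorem result {X PL : Scheme.{u}} (L : X.Modules)
    (hL : PicF.IsInvertible L) (hLq : Coh.IsQCoh L)
    (𝒮L : RelProj.QCGrAlg X) (j : L ⟶ 𝒮L.toModule) (hj : RelProj.IsGrSymAlg L 𝒮L j)
    (pL : PL ⟶ X) (chartL : ∀ (U : X.Opens) (hU : IsAffineOpen U), (((pL ⁻¹ᵁ U : PL.Opens) : Scheme.{u}) ≅ Proj (𝒮L.deg U hU)))
    (hPL : RelProj.IsRelProj 𝒮L pL chartL) :
    IsIso pL := by
  have : L.IsQuasicoherent := hLq
  have hloc : ∀ x : X, ∃ V : X.Opens, IsAffineOpen V ∧ x ∈ V ∧ ∃ σ : Γ(L, V),
      Function.Bijective (fun r : Γ(X, V) => r • σ) := by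
    intro x
    obtain ⟨V, hV, hxV, σ, hσ⟩ := Groth.Agent.H41.LineProj.exists_generator_affine L hL x
    refine ⟨V, hV, hxV, σ, ?_⟩
    have h1 := hσ V le_rfl
    have h2 : L.presheaf.map (homOfLE (le_refl V)).op σ = σ :=
      Groth.Agent.H22.SymConstr.rE_self L le_rfl σ
    rw [h2] at h1
    exact h1
  choose V hV hxV σ hσ using hloc
  have hcov : ⨆ x, V x = ⊤ := eq_top_iff.mpr fun x _ => Opens.mem_iSup.mpr ⟨x, hxV x⟩
  have hiso : MorphismProperty.isomorphisms Scheme.{u} pL := by
    refine IsZariskiLocalAtTarget.of_iSup_eq_top (P := MorphismProperty.isomorphisms Scheme.{u})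
      V hcov fun x => ?_
    have hbij := Groth.Agent.H41.LineProj.poly_bijective L 𝒮L j hj.1 (V x) (hV x) (σ x) (hσ x)
    have hiso : IsIso (Proj.toSpecZero (𝒮L.deg (V x) (hV x)) ≫
        Spec.map (𝒮L.strZero (V x) (hV x))) :=
      Groth.Agent.H41.LineProj.isIso_toSpecZero_comp (𝒮L.deg (V x) (hV x))
        (𝒮L.str.app (op (V x))).hom (𝒮L.str_mem (V x) (hV x))
        (Groth.Agent.H22.toB 𝒮L.toQCAlg (V x) (j.app (V x) (σ x)))
        (hj.2 (V x) (hV x) (σ x)) hbij (𝒮L.strZero (V x) (hV x)).hom (fun r => rfl)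
    have key : pL ∣_ V x = (chartL (V x) (hV x)).hom ≫
        (Proj.toSpecZero (𝒮L.deg (V x) (hV x)) ≫ Spec.map (𝒮L.strZero (V x) (hV x))) ≫
          (hV x).isoSpec.inv := by
      rw [← cancel_mono (V x).ι]
      simp only [Category.assoc, morphismRestrict_ι, IsAffineOpen.isoSpec_inv_ι]
      exact (hPL.chart_over (V x) (hV x)).symm
    show IsIso (pL ∣_ V x)
    rw [key]
    infer_instance
  exact hiso

end Groth.Agent.S12143
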