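import Groth.Statements.S12144
import Groth.Agent.H41.LineProj2

set_option autoImplicit false
universe u
open CategoryTheory CategoryTheory.Limits AlgebraicGeometry TopologicalSpace Opposite
open scoped HomogeneousIdeal
noncomputable section
open EGA2

namespace Groth.Agent.S12144

/-- Let q : X → Y be a morphism with Y affine, L an invertible O_X-module, 𝒮L = ⊕_{n≥0} L^{⊗n} its
graded symmetric algebra (whose Proj, presented with its charts, is identified with X by its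
structure morphism pL), 𝒮 a quasi-coherent positively graded O_Y-algebra with S = Γ(Y, 𝒮), ψ : q^*𝒮
→ 𝒮L a graded homomorphism given as a graded q-morphism u = ψ♭ : 𝒮 → q_*𝒮L, P = Proj(𝒮), and r =
r_{L,ψ} : G(ψ) → P the associated morphism on its open of definition G(ψ) ⊆ Proj(𝒮L). For f ∈ S_d
with d > 0 and t = ψ♭(f) ∈ Γ(X, L^{⊗d}), the inverse image r⁻¹(D_+(f)) ⊆ G(ψ), regarded as an open
of Proj(𝒮L), equals the inverse image under pL of the open X_t of X where t does not vanish; in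
particular the part of Proj(𝒮L) over X_t lies inside G(ψ) (X_t is written as the union of the affine
opens V of X over which Γ(V, L^{⊗d}) = 𝒮L(V)_d lies in the ideal of 𝒮L(V) generated by t|V). -/
theorem result {Y X P PL : Scheme.{u}} (q : X ⟶ Y)
    (L : X.Modules) (hL : PicF.IsInvertible L) (hLq : Coh.IsQCoh L)
    (𝒮 : RelProj.QCGrAlg Y) (𝒮L : RelProj.QCGrAlg X) (j : L ⟶ 𝒮L.toModule) (hj : RelProj.IsGrSymAlg L 𝒮L j)
    (u : RelProj.QGrHom q 𝒮 𝒮L)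
    (p : P ⟶ Y) (chart : ∀ (U : Y.Opens) (hU : IsAffineOpen U), (((p ⁻¹ᵁ U : P.Opens) : Scheme.{u}) ≅ Proj (𝒮.deg U hU)))
    (hP : RelProj.IsRelProj 𝒮 p chart)
    (pL : PL ⟶ X) (chartL : ∀ (U : X.Opens) (hU : IsAffineOpen U), (((pL ⁻¹ᵁ U : PL.Opens) : Scheme.{u}) ≅ Proj (𝒮L.deg U hU)))
    (hPL : RelProj.IsRelProj 𝒮L pL chartL)
    (r : ((RelProj.domQ u pL chartL : PL.Opens) : Scheme.{u}) ⟶ P)
    (hr : RelProj.IsProjQMapOn u p chart pL chartL (RelProj.domQ u pL chartL) r)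
    (hY : IsAffineOpen (⊤ : Y.Opens)) (d : ℕ) (hd : 0 < d) (f : 𝒮.presheaf.obj (op ⊤)) (hf : f ∈ 𝒮.deg ⊤ hY d) :
    (RelProj.domQ u pL chartL).ι ''ᵁ (r ⁻¹ᵁ ((RelProj.emb p chart ⊤ hY) ''ᵁ Proj.basicOpen (𝒮.deg ⊤ hY) f)) =
      pL ⁻¹ᵁ
        (⨆ V : {V : X.affineOpens //
          ((𝒮L.deg V.1 V.2 d : AddSubgroup (𝒮L.presheaf.obj (op (V.1 : X.Opens)))) : Set (𝒮L.presheaf.obj (op (V.1 : X.Opens)))) ⊆
            (Ideal.span {(u.appLE ⊤ (V.1 : X.Opens) (le_top.trans (Scheme.Hom.preimage_top q).ge)).hom f} : Set (𝒮L.presheaf.obj (op (V.1 : X.Opens))))},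
          (V.1.1 : X.Opens)) := by
  have : L.IsQuasicoherent := hLq
  have htopq : ∀ V : X.Opens, V ≤ q ⁻¹ᵁ ⊤ :=
    fun V => le_top.trans (Scheme.Hom.preimage_top q).ge
  set T : X.Opens := (⨆ V : {V : X.affineOpens //
          ((𝒮L.deg V.1 V.2 d : AddSubgroup (𝒮L.presheaf.obj (op (V.1 : X.Opens)))) : Set (𝒮L.presheaf.obj (op (V.1 : X.Opens)))) ⊆
            (Ideal.span {(u.appLE ⊤ (V.1 : X.Opens) (le_top.trans (Scheme.Hom.preimage_top q).ge)).hom f} : Set (𝒮L.presheaf.obj (op (V.1 : X.Opens))))},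
          (V.1.1 : X.Opens)) with hT
  refine Opens.ext (Set.ext fun w => ?_)
  constructor
  · rintro ⟨w', hw', rfl⟩
    show pL.base ((RelProj.domQ u pL chartL).ι.base w') ∈ T
    have hw'' : r.base w' ∈ (RelProj.emb p chart ⊤ hY) ''ᵁ Proj.basicOpen (𝒮.deg ⊤ hY) f := hw'
    obtain ⟨V₁, hV₁, hxV₁, σ, hσ⟩ := Groth.Agent.H41.LineProj.exists_generator_affine L hL
      (pL.base ((RelProj.domQ u pL chartL).ι.base w'))
    obtain ⟨Q, hQ⟩ := Groth.Agent.H41.ProjConeLib.exists_emb_eq pL chartL V₁ hV₁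
      ((RelProj.domQ u pL chartL).ι.base w') hxV₁
    have hdom : (RelProj.emb pL chartL V₁ hV₁).base Q ∈ RelProj.domQ u pL chartL := by
      rw [hQ]; exact w'.2
    have h1 := (Groth.Agent.H41.ProjQ.mem_domQ_iff u pL chartL hPL ⊤ hY V₁ hV₁ (htopq V₁) Q).mp hdom
    rw [RelCone.mem_domOpen] at h1
    obtain ⟨s, hs, hsQ⟩ := h1
    obtain ⟨n, hn, hsn⟩ := Groth.Agent.H41.RelConeLib.exists_pos_decompose_not_mem (𝒮.deg ⊤ hY)
      (Ideal.comap (u.gradedAt ⊤ hY V₁ hV₁ (htopq V₁)).toRingHom Q.asHomogeneousIdeal.toIdeal) hs hsQ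
    obtain ⟨sn, hsndef⟩ : ∃ sn : 𝒮.presheaf.obj (op ⊤),
        sn = (DirectSum.decompose (𝒮.deg ⊤ hY) s n : 𝒮.presheaf.obj (op ⊤)) := ⟨_, rfl⟩
    have hsnmem : sn ∈ 𝒮.deg ⊤ hY n := by rw [hsndef]; exact SetLike.coe_mem _
    have hsn' : (u.gradedAt ⊤ hY V₁ hV₁ (htopq V₁)) sn ∉ Q.asHomogeneousIdeal := by
      rw [hsndef]; exact hsn
    have hwc : (RelProj.domQ u pL chartL).ι.base w' ∈ Set.range
        (Groth.Agent.H41.ProjQ.E u pL chartL ⟨⊤, hY, V₁, hV₁, htopq V₁, n, hn, sn, hsnmem⟩).base :=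
      (Groth.Agent.H41.ProjQ.mem_range_E_iff u pL chartL
        ⟨⊤, hY, V₁, hV₁, htopq V₁, n, hn, sn, hsnmem⟩ _).mpr
        ⟨Q, (Proj.mem_basicOpen _ _ _).mpr hsn', hQ⟩
    obtain ⟨y, hy⟩ := hwc
    have hwy : (Groth.Agent.H41.ProjQ.lift u pL chartL
        ⟨⊤, hY, V₁, hV₁, htopq V₁, n, hn, sn, hsnmem⟩).base y = w' :=
      (RelProj.domQ u pL chartL).ι.isOpenEmbedding.injective
        ((congrArg (fun k => k.base y) (Groth.Agent.H41.ProjQ.lift_ι u pL chartL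
          ⟨⊤, hY, V₁, hV₁, htopq V₁, n, hn, sn, hsnmem⟩)).trans hy)
    have hrw : r.base w' = (RelProj.emb p chart ⊤ hY).base
        ((Proj.awayι (𝒮.deg ⊤ hY) sn hsnmem hn).base
          ((Spec.map (CommRingCat.ofHom (HomogeneousLocalization.Away.map
            (u.gradedAt ⊤ hY V₁ hV₁ (htopq V₁)) sn))).base y)) := by
      rw [← hwy]
      exact congrArg (fun k => k.base y)
        ((Groth.Agent.H41.ProjQ.isProjQMapOn_iff u p chart pL chartL r).mp hr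
          ⟨⊤, hY, V₁, hV₁, htopq V₁, n, hn, sn, hsnmem⟩)
    obtain ⟨QY, hQY, hQYr⟩ := hw''
    have hQYr' : (RelProj.emb p chart ⊤ hY).base QY = r.base w' := hQYr
    have hQYeq := (RelProj.emb p chart ⊤ hY).isOpenEmbedding.injective (hQYr'.trans hrw)
    have hQY' : QY ∈ Proj.basicOpen (𝒮.deg ⊤ hY) f := hQY
    rw [hQYeq] at hQY'
    have h2 := (Groth.Agent.H41.ProjQ.awayι_map_mem_basicOpen_iff
      (u.gradedAt ⊤ hY V₁ hV₁ (htopq V₁)) hn hd hsnmem hf y).mp hQY'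
    have hQeq : (Proj.awayι (𝒮L.deg V₁ hV₁) ((u.gradedAt ⊤ hY V₁ hV₁ (htopq V₁)) sn)
        ((u.gradedAt ⊤ hY V₁ hV₁ (htopq V₁)).map_mem hsnmem) hn).base y = Q :=
      (RelProj.emb pL chartL V₁ hV₁).isOpenEmbedding.injective (hy.trans hQ.symm)
    rw [hQeq] at h2
    have hfQ : (u.appLE ⊤ V₁ (htopq V₁)).hom f ∉ Q.asHomogeneousIdeal :=
      (Proj.mem_basicOpen _ _ _).mp h2
    obtain ⟨V, hV, hle, hxV, hsub⟩ := Groth.Agent.H41.LineProj.exists_nbhd L 𝒮L j hj u pL chartL hPL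
      hY f d hf V₁ hV₁ (htopq V₁) σ hσ Q hfQ
    rw [hQ] at hxV
    rw [hT, Opens.mem_iSup]
    exact ⟨⟨⟨V, hV⟩, hsub⟩, hxV⟩
  · intro hw
    have hw' : pL.base w ∈ T := hw
    rw [hT, Opens.mem_iSup] at hw'
    obtain ⟨⟨⟨V, hV⟩, hsub⟩, hxV⟩ := hw'
    obtain ⟨V₀, hV₀, hle₀, Q₀, hQ₀, hnot⟩ := Groth.Agent.H41.LineProj.exists_shrink L 𝒮L j hj u
      pL chartL hL f d V hV (htopq V) hsub w hxV
    have hwc : w ∈ Set.range
        (Groth.Agent.H41.ProjQ.E u pL chartL ⟨⊤, hY, V₀, hV₀, hle₀, d, hd, f, hf⟩).base :=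
      (Groth.Agent.H41.ProjQ.mem_range_E_iff u pL chartL
        ⟨⊤, hY, V₀, hV₀, hle₀, d, hd, f, hf⟩ _).mpr
        ⟨Q₀, (Proj.mem_basicOpen _ _ _).mpr hnot, hQ₀⟩
    obtain ⟨y, hy⟩ := hwc
    refine ⟨(Groth.Agent.H41.ProjQ.lift u pL chartL
      ⟨⊤, hY, V₀, hV₀, hle₀, d, hd, f, hf⟩).base y, ?_,
      (congrArg (fun k => k.base y) (Groth.Agent.H41.ProjQ.lift_ι u pL chartL
        ⟨⊤, hY, V₀, hV₀, hle₀, d, hd, f, hf⟩)).trans hy⟩
    show r.base ((Groth.Agent.H41.ProjQ.lift u pL chartL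
      ⟨⊤, hY, V₀, hV₀, hle₀, d, hd, f, hf⟩).base y) ∈
      (RelProj.emb p chart ⊤ hY) ''ᵁ Proj.basicOpen (𝒮.deg ⊤ hY) f
    have hrw : r.base ((Groth.Agent.H41.ProjQ.lift u pL chartL
        ⟨⊤, hY, V₀, hV₀, hle₀, d, hd, f, hf⟩).base y) = (RelProj.emb p chart ⊤ hY).base
        ((Proj.awayι (𝒮.deg ⊤ hY) f hf hd).base
          ((Spec.map (CommRingCat.ofHom (HomogeneousLocalization.Away.map
            (u.gradedAt ⊤ hY V₀ hV₀ hle₀) f))).base y)) :=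
      congrArg (fun k => k.base y)
        ((Groth.Agent.H41.ProjQ.isProjQMapOn_iff u p chart pL chartL r).mp hr
          ⟨⊤, hY, V₀, hV₀, hle₀, d, hd, f, hf⟩)
    rw [hrw]
    refine ⟨_, ?_, rfl⟩
    show (Proj.awayι (𝒮.deg ⊤ hY) f hf hd).base _ ∈ Proj.basicOpen (𝒮.deg ⊤ hY) f
    rw [← Proj.opensRange_awayι _ _ hf hd]
    exact ⟨_, rfl⟩

end Groth.Agent.S12144
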