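import Groth.Statements.S12483
import Groth.Agent.H53.FinLocFreeSlice
import Groth.Agent.H53.ExtSheafHom

set_option autoImplicit false
universe u
open CategoryTheory CategoryTheory.Limits AlgebraicGeometry
open Coherent

namespace Groth.Agent.S12483

/-- Let `X` be a scheme, `A` an `O_X`-module which is finite locally free (every point has an open
neighbourhood over which `A` is isomorphic to some `O^n`) and for which the internal Hom functor
`Hom_{O_X}(A, -)` exists (right adjoint of `A ⊗ -`), `B` any `O_X`-module and `p ≥ 0`. Then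
`Ext^p_{O_X}(X; A, B)`, the Ext group computed in the category of `O_X`-modules, is isomorphic to
`H^p(X, Hom_{O_X}(A, B))`. (Existence of an isomorphism of abelian groups only; the published
isomorphisms are canonical, the edge maps of the local-to-global spectral sequence for Ext. The
published statement is for an arbitrary ringed space; this row is the case of a scheme.) -/
theorem result (X : Scheme.{u}) [HasExt.{u} X.Modules]
    (A B : X.Modules) (hA : FlatMod.IsFinLocFree A) [DCoh.HasSheafHom A] (p : ℕ) :
    Nonempty (Abelian.Ext A B p ≃+ Coh.HH X ((DCoh.sheafHom A).obj B) p) := by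
  haveI : ModSite.HasSheafHom (O := X.sheaf) A := Groth.Agent.H31.hasSheafHom A
  have hex : PreservesFiniteColimits (ModSite.sheafHom (O := X.sheaf) A) :=
    Groth.Agent.H53.SheafHomExact.preservesFiniteColimits_sheafHom (O := X.sheaf) A
      (Groth.Agent.H53.FinLocFreeSlice.locFinFree_of_isFinLocFree A hA)
  haveI : HasExt.{u} (ModSite.Mod X.sheaf) := ‹HasExt.{u} X.Modules›
  obtain ⟨c⟩ := Groth.Agent.H53.ExtSheafHom.ext_addEquiv_H X.sheaf A B hex p
  let β : DCoh.sheafHom A ≅ ModSite.sheafHom (O := X.sheaf) A :=
    ((DCoh.sheafHomAdj A).ofNatIsoLeft (Groth.Agent.H31.braidIso (O := X.sheaf) A)).rightAdjointUniq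
      (ModSite.sheafHomAdj (O := X.sheaf) A)
  let γ : Coh.toAb ((DCoh.sheafHom A).obj B) ≅
      ModSite.toAb ((ModSite.sheafHom (O := X.sheaf) A).obj B) :=
    (SheafOfModules.toSheaf X.ringCatSheaf).mapIso (β.app B)
  let δ := ((Abelian.extFunctorObj
    ((constantSheaf (Opens.grothendieckTopology X) AddCommGrpCat.{u}).obj
      (AddCommGrpCat.of (ULift ℤ))) p).mapIso γ).addCommGroupIsoToAddEquiv
  exact ⟨c.trans δ.symm⟩

end Groth.Agent.S12483
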