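import Groth.Statements.S3779
import Groth.Agent.H41.Sigma

set_option autoImplicit false
universe v u
open CategoryTheory CategoryTheory.Limits AlgebraicGeometry
attribute [local instance] HasDerivedCategory.standard
open KRR

namespace Groth.Agent.S3779

/-- Let K be a λ-ring with positive structure having the splitting property, e positive with ε(e) = r +
1, K_e = K[T]/(p_e) with canonical generator ℓ (a unit), σ^i(e) the coefficients of σ_t(e) =
λ_{-t}(e)⁻¹, and f : K_e ⟶ K a K-linear map with f(ℓ^i) = σ^i(e) for 0 ≤ i ≤ r. Then f(ℓ^i) = σ^i(e)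
for all i ≥ 0, and f(ℓ^{-n}) = 0 for 1 ≤ n ≤ r (stated with any inverse linv of ℓ). -/
theorem result (K : Type v) [CommRing K] [LambdaRing.LambdaOps K] (P : LambdaRing.PosStructure K) (hK : LambdaRing.HasSplitting K P) (e : K) (he : e ∈ P.pos) (r : ℕ) (hr : P.aug e = r + 1)
    (f : AdjoinRoot (KRR.extPoly P e) →ₗ[K] K)
    (hf : ∀ i : ℕ, i ≤ r → f (AdjoinRoot.root (KRR.extPoly P e) ^ i) = KRR.sigma i e)
    (linv : AdjoinRoot (KRR.extPoly P e)) (hlinv : linv * AdjoinRoot.root (KRR.extPoly P e) = 1) :
    (∀ i : ℕ, f (AdjoinRoot.root (KRR.extPoly P e) ^ i) = KRR.sigma i e) ∧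
    ∀ n : ℕ, 1 ≤ n → n ≤ r → f (linv ^ n) = 0 := by
  classical
  set ℓ := AdjoinRoot.root (KRR.extPoly P e) with hℓ
  set m := r + 1 with hmdef
  have hm : (P.aug e).toNat = m := by rw [hr]; omega
  set c : ℕ → K := fun j => (-1 : K) ^ j * LambdaRing.LambdaOps.lam j e with hc
  have hc0 : c 0 = 1 := by simp [hc, LambdaRing.LambdaOps.lam_zero]
  have hlam0 : ∀ j, m < j → LambdaRing.LambdaOps.lam j e = 0 := by
    intro j hj
    apply P.lam_eq_zero e he
    rw [hr]
    have : (m : ℤ) < (j : ℤ) := by exact_mod_cast hj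
    rw [hmdef] at this
    push_cast at this
    linarith
  have hroot : ∑ j ∈ Finset.range (m + 1), c j • ℓ ^ (m - j) = 0 :=
    Groth.Agent.H41.extPoly_root_rel P e m hm
  have part1 : ∀ i : ℕ, f (ℓ ^ i) = KRR.sigma i e :=
    Groth.Agent.H41.functional_root_pow P e he r hr f hf
  refine ⟨part1, ?_⟩
  -- Part 2
  have hunit : IsUnit (c m) := by
    have h := P.isUnit_lam e he
    rw [hm] at h
    simp only [hc]
    exact ((isUnit_neg_one (α := K)).pow m).mul h
  intro n
  induction n using Nat.strong_induction_on with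
  | _ n ih =>
    intro hn1 hnr
    -- key: ℓ^(m-j) * linv^n
    have hpow : ∀ a b : ℕ, b ≤ a → ℓ ^ a * linv ^ b = ℓ ^ (a - b) := by
      intro a b hab
      obtain ⟨k, rfl⟩ := Nat.exists_eq_add_of_le hab
      rw [Nat.add_sub_cancel_left, pow_add, mul_comm (ℓ ^ b), mul_assoc, ← mul_pow,
        mul_comm ℓ linv, hlinv, one_pow, mul_one]
    have hpow' : ∀ a b : ℕ, a ≤ b → ℓ ^ a * linv ^ b = linv ^ (b - a) := by
      intro a b hab
      obtain ⟨k, rfl⟩ := Nat.exists_eq_add_of_le hab
      rw [Nat.add_sub_cancel_left, pow_add, ← mul_assoc, ← mul_pow, mul_comm ℓ linv, hlinv,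
        one_pow, one_mul]
    have hrel : ∑ j ∈ Finset.range (m + 1), c j * f (ℓ ^ (m - j) * linv ^ n) = 0 := by
      have : ∑ j ∈ Finset.range (m + 1), c j * f (ℓ ^ (m - j) * linv ^ n) =
          f (linv ^ n * ∑ j ∈ Finset.range (m + 1), c j • ℓ ^ (m - j)) := by
        rw [Finset.mul_sum, map_sum]
        apply Finset.sum_congr rfl
        intro j _
        rw [mul_smul_comm, map_smul, smul_eq_mul, mul_comm (linv ^ n)]
      rw [this, hroot, mul_zero, map_zero]
    -- evaluate each term
    have hterm : ∀ j ∈ Finset.range (m + 1), c j * f (ℓ ^ (m - j) * linv ^ n) =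
        (if j ≤ m - n then c j * KRR.sigma (m - n - j) e else 0) +
          (if j = m then c m * f (linv ^ n) else 0) := by
      intro j hj
      have hjm : j ≤ m := by
        have := Finset.mem_range.1 hj
        omega
      by_cases h1 : j ≤ m - n
      · have hjne : j ≠ m := by omega
        rw [if_pos h1, if_neg hjne, add_zero, hpow _ _ (by omega), part1]
        congr 2
        omega
      · rw [if_neg h1, zero_add]
        by_cases h2 : j = m
        · rw [if_pos h2, h2, Nat.sub_self, pow_zero, one_mul]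
        · rw [if_neg h2, hpow' _ _ (by omega), ih (n - (m - j)) (by omega) (by omega) (by omega),
            mul_zero]
    rw [Finset.sum_congr rfl hterm, Finset.sum_add_distrib] at hrel
    have hs1 : ∑ j ∈ Finset.range (m + 1), (if j ≤ m - n then c j * KRR.sigma (m - n - j) e else 0) = 0 := by
      have h2 := Groth.Agent.H41.sigma_rec e (m - n)
      have hn0 : m - n ≠ 0 := by omega
      rw [if_neg hn0] at h2
      rw [← Finset.sum_filter]
      rw [← h2]
      apply Finset.sum_congr
      · ext j
        simp only [Finset.mem_filter, Finset.mem_range]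
        omega
      · intro j _
        rfl
    have hs2 : ∑ j ∈ Finset.range (m + 1), (if j = m then c m * f (linv ^ n) else 0) =
        c m * f (linv ^ n) := by
      rw [Finset.sum_ite_eq' (Finset.range (m + 1)) m]
      simp
    rw [hs1, hs2, zero_add] at hrel
    exact (hunit.mul_right_eq_zero).1 hrel

end Groth.Agent.S3779
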