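import Groth.Statements.S3792
import Groth.Agent.H19.Adams

set_option autoImplicit false
universe v u
open CategoryTheory CategoryTheory.Limits AlgebraicGeometry
attribute [local instance] HasDerivedCategory.standard
open KRR

namespace Groth.Agent.S3792


open LambdaRing in
theorem bott_eq {K : Type v} [CommRing K] [LambdaRing.LambdaOps K] (P : LambdaRing.PosStructure K)
    (j : ℕ) (e : K) (n : ℕ) (hn : (P.aug e).toNat = n) :
    KRR.bott P j e = MvPolynomial.aeval
      (fun i : Fin n => LambdaRing.LambdaOps.lam (i.1 + 1) e) (KRR.bottPoly j n) := by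
  subst hn
  rfl

theorem aeval_esymm_bottPoly (j n : ℕ) :
    MvPolynomial.aeval (fun i : Fin n => MvPolynomial.esymm (Fin n) ℤ (i + 1))
      (KRR.bottPoly j n) = KRR.bottSym j n := by
  unfold KRR.bottPoly
  rw [← MvPolynomial.esymmAlgHom_apply,
    ← MvPolynomial.esymmAlgEquiv_apply (Fin n) ℤ (Fintype.card_fin n),
    AlgEquiv.apply_symm_apply]

/-- Let K be a λ-ring with positive structure having the splitting property, e a positive element and j
≥ 1. Then ψ^j(λ_{-1}(e)) = λ_{-1}(e) · θ^j(e), where λ_{-1}(e) = Σ_{i ≤ ε(e)} (-1)^i λ^i(e), ψ^j is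
the Adams operation and θ^j(e) is Bott's cannibalistic class (the universal polynomial in the λ^i(e)
which is Π (1 + u_i + ⋯ + u_i^{j-1}) on a splitting e = Σ u_i). -/
theorem result (K : Type v) [CommRing K] [LambdaRing.LambdaOps K] (P : LambdaRing.PosStructure K) (hK : LambdaRing.HasSplitting K P) (e : K) (he : e ∈ P.pos) (j : ℕ) (hj : 1 ≤ j) :
    LambdaRing.adams P j (KRR.lamAlt P e) = KRR.lamAlt P e * KRR.bott P j e := by
  obtain ⟨L, hL, f, hf, n, y, hy, hysum⟩ := Groth.Agent.H19.Adams.exists_split P hK e he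
  have haug : P.aug e = (n : ℤ) := by
    rw [← hf.aug_comp e, ← hysum, Groth.Agent.H19.Adams.aug_sum_lines L.posStr y hy]
  have hn : (P.aug e).toNat = n := by rw [haug]; exact Int.toNat_natCast n
  apply hf.injective
  rw [Groth.Agent.H19.Adams.adams_map P L.posStr f hf, map_mul]
  have h1 : f (KRR.lamAlt P e) = ∏ i, (1 - y i) := by
    unfold KRR.lamAlt
    rw [hn, map_sum, Groth.Agent.H19.Adams.prod_one_sub_eq]
    refine Finset.sum_congr rfl fun k _ => ?_
    rw [map_mul, map_pow, map_neg, map_one, hf.isLambdaHom, ← hysum,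
      Groth.Agent.H19.Adams.lam_sum_lines L.posStr y hy]
  have h2 : LambdaRing.adams L.posStr j (∏ i, (1 - y i)) = ∏ i, (1 - y i ^ j) := by
    have h := map_prod (Groth.Agent.H19.Adams.adamsRingHom L.posStr hL j) (fun i => 1 - y i)
      Finset.univ
    refine h.trans (Finset.prod_congr rfl fun i _ => ?_)
    show LambdaRing.adams L.posStr j (1 - y i) = 1 - y i ^ j
    rw [Groth.Agent.H19.Adams.adams_sub, Groth.Agent.H19.Adams.adams_one,
      Groth.Agent.H19.Adams.adams_line L.posStr (hy i)]
  have h3 : f (KRR.bott P j e) = ∏ i, ∑ l ∈ Finset.range j, y i ^ l := by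
    rw [bott_eq P j e n hn]
    have h4 : f ((MvPolynomial.aeval fun i : Fin n => LambdaRing.LambdaOps.lam (i.1 + 1) e)
        (KRR.bottPoly j n)) =
        (MvPolynomial.aeval fun i : Fin n => f (LambdaRing.LambdaOps.lam (i.1 + 1) e))
          (KRR.bottPoly j n) :=
      MvPolynomial.comp_aeval_apply _ f.toIntAlgHom _
    rw [h4]
    have h5 : (fun i : Fin n => f (LambdaRing.LambdaOps.lam (i.1 + 1) e)) =
        fun i : Fin n => MvPolynomial.aeval y (MvPolynomial.esymm (Fin n) ℤ (i.1 + 1)) := by
      funext i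
      rw [hf.isLambdaHom, ← hysum, Groth.Agent.H19.Adams.lam_sum_lines L.posStr y hy]
      simp only [MvPolynomial.esymm, map_sum, map_prod, MvPolynomial.aeval_X]
    rw [h5, ← MvPolynomial.comp_aeval_apply, aeval_esymm_bottPoly]
    unfold KRR.bottSym
    simp only [map_prod, map_sum, map_pow, MvPolynomial.aeval_X]
  rw [h1, h2, h3, ← Finset.prod_mul_distrib]
  exact Finset.prod_congr rfl fun i _ => (mul_neg_geom_sum (y i) j).symm

end Groth.Agent.S3792
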