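import Groth.Statements.S3296
import Groth.Agent.H19.AdamsGamma

set_option autoImplicit false
universe u
open Finset
open TensorProduct
open LambdaRing

namespace Groth.Agent.S3296


section Helpers

variable {K : Type u} [CommRing K] [LambdaRing.LambdaOps K]

/-- The ℚ-span of the image of `F^n` in `ℚ ⊗ K`. -/
noncomputable def W (P : LambdaRing.PosStructure K) (n : ℕ) : Submodule ℚ (ℚ ⊗[ℤ] K) :=
  Submodule.span ℚ ((fun x : K => (1 : ℚ) ⊗ₜ[ℤ] x) '' (LambdaRing.gammaFiltration P n : Set K))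

theorem tmul_eq_smul (q : ℚ) (x : K) : q ⊗ₜ[ℤ] x = q • ((1 : ℚ) ⊗ₜ[ℤ] x) := by
  rw [TensorProduct.smul_tmul', smul_eq_mul, mul_one]

theorem pow_smul_tmul (j n : ℕ) (x : K) :
    ((j : ℚ) ^ n) • ((1 : ℚ) ⊗ₜ[ℤ] x) = (1 : ℚ) ⊗ₜ[ℤ] ((j : K) ^ n * x) := by
  have h1 : ((j : ℚ) ^ n) = ((j ^ n : ℕ) : ℤ) • (1 : ℚ) := by simp
  have h2 : (((j ^ n : ℕ) : ℤ)) • x = (j : K) ^ n * x := by simp
  rw [TensorProduct.smul_tmul', smul_eq_mul, mul_one, h1, TensorProduct.smul_tmul, h2]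

theorem W_zero (P : LambdaRing.PosStructure K) : W P 0 = ⊤ := by
  rw [eq_top_iff]
  rintro v -
  induction v using TensorProduct.induction_on with
  | zero => exact zero_mem _
  | tmul q x =>
    rw [tmul_eq_smul]
    refine Submodule.smul_mem _ _ (Submodule.subset_span ⟨x, ?_, rfl⟩)
    show x ∈ LambdaRing.gammaFiltration P 0
    rw [Groth.Agent.H19.AdamsGamma.filtration_zero]
    exact AddSubgroup.mem_top x
  | add a b ha hb => exact add_mem ha hb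

theorem W_antitone (P : LambdaRing.PosStructure K) {n N : ℕ} (h : n ≤ N) : W P N ≤ W P n := by
  unfold W
  apply Submodule.span_mono
  rintro _ ⟨x, hx, rfl⟩
  exact ⟨x, Groth.Agent.H19.AdamsGamma.filtration_antitone P h hx, rfl⟩

theorem W_bot (P : LambdaRing.PosStructure K) (d : ℕ)
    (hd : LambdaRing.gammaFiltration P (d + 1) = ⊥) : W P (d + 1) = ⊥ := by
  unfold W
  rw [Submodule.span_eq_bot]
  rintro _ ⟨x, hx, rfl⟩
  have hx0 : x = 0 := by
    have hx' : x ∈ LambdaRing.gammaFiltration P (d + 1) := hx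
    rw [hd] at hx'
    exact AddSubgroup.mem_bot.1 hx'
  dsimp only
  rw [hx0, TensorProduct.tmul_zero]

theorem sub_smul_mem_W (P : LambdaRing.PosStructure K) (hK : LambdaRing.HasSplitting K P) (j : ℕ)
    (Ψ : ℚ ⊗[ℤ] K →ₗ[ℚ] ℚ ⊗[ℤ] K)
    (hΨ : ∀ x : K, Ψ (1 ⊗ₜ[ℤ] x) = 1 ⊗ₜ[ℤ] LambdaRing.adams P j x)
    (n : ℕ) (v : ℚ ⊗[ℤ] K) (hv : v ∈ W P n) : Ψ v - ((j : ℚ) ^ n) • v ∈ W P (n + 1) := by
  have hle : W P n ≤ Submodule.comap (Ψ - ((j : ℚ) ^ n) • LinearMap.id) (W P (n + 1)) := by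
    unfold W
    rw [Submodule.span_le]
    rintro _ ⟨x, hx, rfl⟩
    dsimp only
    rw [SetLike.mem_coe, Submodule.mem_comap, LinearMap.sub_apply, LinearMap.smul_apply,
      LinearMap.id_apply, hΨ, pow_smul_tmul, ← TensorProduct.tmul_sub]
    exact Submodule.subset_span
      ⟨_, Groth.Agent.H19.AdamsGamma.adams_sub_pow_mem P hK j n x hx, rfl⟩
  have h := hle hv
  rwa [Submodule.mem_comap, LinearMap.sub_apply, LinearMap.smul_apply, LinearMap.id_apply] at h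

theorem pow_sub_ne (j : ℕ) (hj : 2 ≤ j) (a b : ℕ) (hab : a ≠ b) :
    ((j : ℚ) ^ a - (j : ℚ) ^ b) ≠ 0 := by
  intro h
  have h1 : (j : ℚ) ^ a = (j : ℚ) ^ b := sub_eq_zero.1 h
  have h2 : j ^ a = j ^ b := by exact_mod_cast h1
  exact hab (Nat.pow_right_injective hj h2)

variable (P : LambdaRing.PosStructure K) (d : ℕ) (jj : ℕ)
  (hbot : ∀ n, d + 1 ≤ n → W P n = ⊥)
  (hinj : ∀ a b : ℕ, a ≠ b → ((jj : ℚ) ^ a - (jj : ℚ) ^ b) ≠ 0)
  (Ψ : ℚ ⊗[ℤ] K →ₗ[ℚ] ℚ ⊗[ℤ] K)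
  (hW : ∀ n v, v ∈ W P n → Ψ v - ((jj : ℚ) ^ n) • v ∈ W P (n + 1))

include hinj hW in
theorem mem_W_of_eigen (m : ℕ) (v : ℚ ⊗[ℤ] K) (hv : Ψ v = ((jj : ℚ) ^ m) • v) :
    ∀ k, k ≤ m → v ∈ W P k := by
  intro k
  induction k with
  | zero =>
    intro _
    rw [W_zero]
    exact Submodule.mem_top
  | succ k ih =>
    intro hk
    have h1 := hW k v (ih (by omega))
    rw [hv, ← sub_smul] at h1
    have hne := hinj m k (by omega)
    have h2 : v = ((jj : ℚ) ^ m - (jj : ℚ) ^ k)⁻¹ • (((jj : ℚ) ^ m - (jj : ℚ) ^ k) • v) := by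
      rw [smul_smul, inv_mul_cancel₀ hne, one_smul]
    rw [h2]
    exact Submodule.smul_mem _ _ h1

include hbot hinj hW in
theorem eq_zero_of_eigen_of_mem (m : ℕ) (v : ℚ ⊗[ℤ] K) (hv : Ψ v = ((jj : ℚ) ^ m) • v)
    (hmem : v ∈ W P (m + 1)) : v = 0 := by
  have key : ∀ k, v ∈ W P (m + 1 + k) := by
    intro k
    induction k with
    | zero => exact hmem
    | succ k ih =>
      have h1 := hW (m + 1 + k) v ih
      rw [hv, ← sub_smul] at h1
      have hne := hinj m (m + 1 + k) (by omega)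
      have h2 : v = ((jj : ℚ) ^ m - (jj : ℚ) ^ (m + 1 + k))⁻¹ •
          (((jj : ℚ) ^ m - (jj : ℚ) ^ (m + 1 + k)) • v) := by
        rw [smul_smul, inv_mul_cancel₀ hne, one_smul]
      rw [h2]
      exact Submodule.smul_mem _ _ h1
  have h3 := key d
  rw [hbot (m + 1 + d) (by omega)] at h3
  exact (Submodule.mem_bot ℚ).1 h3

include hbot hinj hW in
theorem iSup_eigenspace_eq_top :
    (⨆ m ∈ Finset.range (d + 1), Module.End.eigenspace Ψ ((jj : ℚ) ^ m)) = ⊤ := by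
  have hS : ∀ t n : ℕ, d + 1 - n = t →
      W P n ≤ ⨆ m ∈ Finset.Icc n d, Module.End.eigenspace Ψ ((jj : ℚ) ^ m) := by
    intro t
    induction t with
    | zero =>
      intro n hn
      rw [hbot n (by omega)]
      exact bot_le
    | succ t ih =>
      intro n hn
      have ih' := ih (n + 1) (by omega)
      have hle1 : ∀ m ∈ Finset.Icc (n + 1) d, Module.End.eigenspace Ψ ((jj : ℚ) ^ m) ≤
          ⨆ m ∈ Finset.Icc (n + 1) d, Module.End.eigenspace Ψ ((jj : ℚ) ^ m) :=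
        fun m hm => le_iSup₂_of_le m hm le_rfl
      have hle0 : ∀ m ∈ Finset.Icc n d, Module.End.eigenspace Ψ ((jj : ℚ) ^ m) ≤
          ⨆ m ∈ Finset.Icc n d, Module.End.eigenspace Ψ ((jj : ℚ) ^ m) :=
        fun m hm => le_iSup₂_of_le m hm le_rfl
      intro v hv
      have hu := hW n v hv
      have hmap : (⨆ m ∈ Finset.Icc (n + 1) d, Module.End.eigenspace Ψ ((jj : ℚ) ^ m)) ≤
          Submodule.map (Ψ - ((jj : ℚ) ^ n) • LinearMap.id)
            (⨆ m ∈ Finset.Icc (n + 1) d, Module.End.eigenspace Ψ ((jj : ℚ) ^ m)) := by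
        refine iSup₂_le fun m hm => ?_
        obtain ⟨h1, h2⟩ := Finset.mem_Icc.1 hm
        intro u hu'
        have hu'' := Module.End.mem_eigenspace_iff.1 hu'
        have hne := hinj m n (by omega)
        refine ⟨((jj : ℚ) ^ m - (jj : ℚ) ^ n)⁻¹ • u, ?_, ?_⟩
        · exact Submodule.smul_mem _ _ (hle1 m hm hu')
        · rw [LinearMap.sub_apply, LinearMap.smul_apply, LinearMap.id_apply, map_smul, hu'',
            smul_smul, smul_smul, ← sub_smul]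
          have hc : ((jj : ℚ) ^ m - (jj : ℚ) ^ n)⁻¹ * (jj : ℚ) ^ m -
              (jj : ℚ) ^ n * ((jj : ℚ) ^ m - (jj : ℚ) ^ n)⁻¹ = 1 := by
            rw [mul_comm ((jj : ℚ) ^ n), ← mul_sub, inv_mul_cancel₀ hne]
          rw [hc, one_smul]
      obtain ⟨v', hv', hTv'⟩ := hmap (ih' hu)
      rw [LinearMap.sub_apply, LinearMap.smul_apply, LinearMap.id_apply] at hTv'
      have hvn : v - v' ∈ Module.End.eigenspace Ψ ((jj : ℚ) ^ n) := by
        rw [Module.End.mem_eigenspace_iff, map_sub, smul_sub]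
        exact sub_eq_sub_iff_sub_eq_sub.1 hTv'.symm
      have hsplit : v = (v - v') + v' := by abel
      rw [hsplit]
      apply Submodule.add_mem
      · exact hle0 n (Finset.mem_Icc.2 ⟨le_rfl, by omega⟩) hvn
      · have hmono : (⨆ m ∈ Finset.Icc (n + 1) d, Module.End.eigenspace Ψ ((jj : ℚ) ^ m)) ≤
            ⨆ m ∈ Finset.Icc n d, Module.End.eigenspace Ψ ((jj : ℚ) ^ m) :=
          iSup₂_le fun m hm => hle0 m (Finset.mem_Icc.2
            ⟨by have := (Finset.mem_Icc.1 hm).1; omega, (Finset.mem_Icc.1 hm).2⟩)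
        exact hmono hv'
  rw [eq_top_iff, ← W_zero P]
  refine (hS (d + 1) 0 (by omega)).trans ?_
  refine iSup₂_le fun m hm => ?_
  exact le_iSup₂_of_le m (Finset.mem_range.2 (by have := (Finset.mem_Icc.1 hm).2; omega)) le_rfl

include hbot hinj hW in
theorem eig_le (ll : ℕ) (Ψ' : ℚ ⊗[ℤ] K →ₗ[ℚ] ℚ ⊗[ℤ] K)
    (hW' : ∀ n v, v ∈ W P n → Ψ' v - ((ll : ℚ) ^ n) • v ∈ W P (n + 1))
    (hcomm : ∀ v, Ψ (Ψ' v) = Ψ' (Ψ v)) (m : ℕ) :
    Module.End.eigenspace Ψ ((jj : ℚ) ^ m) ≤ Module.End.eigenspace Ψ' ((ll : ℚ) ^ m) := by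
  intro v hv
  rw [Module.End.mem_eigenspace_iff] at hv ⊢
  have hvW : v ∈ W P m := mem_W_of_eigen P jj hinj Ψ hW m v hv m le_rfl
  have hu := hW' m v hvW
  have hΨu : Ψ (Ψ' v - ((ll : ℚ) ^ m) • v) = ((jj : ℚ) ^ m) • (Ψ' v - ((ll : ℚ) ^ m) • v) := by
    rw [map_sub, map_smul, hcomm, hv, map_smul, smul_sub, smul_comm]
  have h0 := eq_zero_of_eigen_of_mem P d jj hbot hinj Ψ hW m _ hΨu hu
  exact sub_eq_zero.1 h0

end Helpers

/-- Let K be a λ-ring with positive structure having the splitting property, whose γ-filtration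
satisfies F^(d+1) K = 0. For j ≥ 2 let Ψ_j be the ℚ-linear endomorphism of ℚ ⊗ K induced by ψ^j.
Then ℚ ⊗ K is the sum of the eigenspaces of Ψ_j for the eigenvalues j^m, 0 ≤ m ≤ d, and the
eigenspace for j^m does not depend on j. -/
theorem result (K : Type u) [CommRing K] [LambdaRing.LambdaOps K] (P : LambdaRing.PosStructure K) (hK : LambdaRing.HasSplitting K P) (d : ℕ)
    (hd : LambdaRing.gammaFiltration P (d + 1) = ⊥)
    (j l : ℕ) (hj : 2 ≤ j) (hl : 2 ≤ l)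
    (Ψj Ψl : ℚ ⊗[ℤ] K →ₗ[ℚ] ℚ ⊗[ℤ] K)
    (hΨj : ∀ x : K, Ψj (1 ⊗ₜ[ℤ] x) = 1 ⊗ₜ[ℤ] LambdaRing.adams P j x)
    (hΨl : ∀ x : K, Ψl (1 ⊗ₜ[ℤ] x) = 1 ⊗ₜ[ℤ] LambdaRing.adams P l x) :
    (⨆ m ∈ range (d + 1), Module.End.eigenspace Ψj ((j : ℚ) ^ m)) = ⊤ ∧
    ∀ m : ℕ, Module.End.eigenspace Ψj ((j : ℚ) ^ m) = Module.End.eigenspace Ψl ((l : ℚ) ^ m) := by
  have hWj := fun n v hv => sub_smul_mem_W P hK j Ψj hΨj n v hv
  have hWl := fun n v hv => sub_smul_mem_W P hK l Ψl hΨl n v hv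
  have hbot : ∀ n, d + 1 ≤ n → W P n = ⊥ := fun n hn =>
    le_bot_iff.1 ((W_antitone P hn).trans (le_of_eq (W_bot P d hd)))
  have hinjj := pow_sub_ne j hj
  have hinjl := pow_sub_ne l hl
  have hcomm : ∀ v, Ψj (Ψl v) = Ψl (Ψj v) := by
    intro v
    induction v using TensorProduct.induction_on with
    | zero => simp
    | tmul q x =>
      rw [tmul_eq_smul, map_smul, map_smul, map_smul, map_smul, hΨl, hΨj, hΨj, hΨl,
        Groth.Agent.H19.Adams.adams_adams P hK, Groth.Agent.H19.Adams.adams_adams P hK,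
        Nat.mul_comm j l]
    | add a b ha hb => rw [map_add, map_add, map_add, map_add, ha, hb]
  refine ⟨iSup_eigenspace_eq_top P d j hbot hinjj Ψj hWj, fun m => le_antisymm ?_ ?_⟩
  · exact eig_le P d j hbot hinjj Ψj hWj l Ψl hWl hcomm m
  · exact eig_le P d l hbot hinjl Ψl hWl j Ψj hWj (fun v => (hcomm v).symm) m

end Groth.Agent.S3296
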