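import Groth.Statements.S8703
import Groth.Agent.H43.LambdaAdams

set_option autoImplicit false
universe u
open LambdaRing

namespace Groth.Agent.S8703

open Groth.Agent.H43 PowerSeries in
/-- The Adams operations commute with λ-homomorphisms, and conversely, if K and K' are pre-λ-rings which
are algebras over the rationals, a ring homomorphism f : K → K' commuting with the ψ^k for all k ≥ 1
is a λ-homomorphism (commutes with all λ^i), the λ^i being expressible through the ψ^k in
characteristic zero. -/
theorem result (K K' : Type u) [CommRing K] [CommRing K']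
    [LambdaRing.LambdaOps K] [LambdaRing.LambdaOps K'] [Algebra ℚ K] [Algebra ℚ K'] (f : K →+* K') :
    LambdaRing.IsLambdaHom f ↔
      ∀ k : ℕ, 1 ≤ k → ∀ x : K, f (LambdaRing.adamsOp k x) = LambdaRing.adamsOp k (f x) := by
  have hsq : ∀ k : ℕ, ((-1 : K') ^ k) * ((-1 : K') ^ k) = 1 := fun k => by rw [← mul_pow]; simp
  constructor
  · intro hf k hk x
    obtain ⟨k, rfl⟩ : ∃ j, k = j + 1 := ⟨k - 1, by omega⟩
    have h1 := congrArg (PowerSeries.map f) (derivative_lamSeries x)
    rw [map_derivative', map_mul, map_lamSeries f hf, derivative_lamSeries (f x)] at h1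
    have h2 := (isUnit_lamSeries (f x)).mul_left_injective h1
    have h3 := congrArg (coeff k) h2
    rw [coeff_logDerivSeries, coeff_map, coeff_logDerivSeries, map_mul, map_pow, map_neg,
      map_one] at h3
    calc f (adamsOp (k + 1) x)
        = ((-1 : K') ^ k * (-1 : K') ^ k) * f (adamsOp (k + 1) x) := by rw [hsq, one_mul]
      _ = (-1 : K') ^ k * ((-1 : K') ^ k * f (adamsOp (k + 1) x)) := by ring
      _ = (-1 : K') ^ k * ((-1 : K') ^ k * adamsOp (k + 1) (f x)) := by rw [← h3]
      _ = ((-1 : K') ^ k * (-1 : K') ^ k) * adamsOp (k + 1) (f x) := by ring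
      _ = adamsOp (k + 1) (f x) := by rw [hsq, one_mul]
  · intro h i x
    have hlog : PowerSeries.map f (logDerivSeries x) = logDerivSeries (f x) := by
      ext k
      rw [coeff_map, coeff_logDerivSeries, coeff_logDerivSeries, map_mul, map_pow, map_neg, map_one,
        h (k + 1) (by omega) x]
    have h1 := congrArg (PowerSeries.map f) (derivative_lamSeries x)
    rw [map_derivative', map_mul, hlog] at h1
    have h2 := ode_unique _ _ _ h1 (derivative_lamSeries (f x))
      (by
        rw [constantCoeff_lamSeries, ← coeff_zero_eq_constantCoeff_apply, coeff_map,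
          coeff_zero_eq_constantCoeff_apply, constantCoeff_lamSeries, map_one])
    have h3 := congrArg (coeff i) h2
    rw [coeff_map, coeff_lamSeries, coeff_lamSeries] at h3
    exact h3

end Groth.Agent.S8703
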