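import Groth.Statements.S8689
import Groth.Agent.H43.SymmUniv
import Groth.Agent.S8703

set_option autoImplicit false
universe u
open LambdaRing

namespace Groth.Agent.S8689

open Groth.Agent.H43 PowerSeries Finset

variable {K : Type u} [CommRing K] [LambdaRing.LambdaOps K] [Algebra ℚ K]

theorem lamSeries_one_eq (h1 : ∀ k : ℕ, 1 ≤ k → adamsOp k (1 : K) = 1) :
    lamSeries (1 : K) = 1 + C (1 : K) * X := by
  apply eq_of_ld_eq cancel_of_ratAlgebra (constantCoeff_lamSeries 1) (constantCoeff_line 1)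
  rw [ld_line]
  ext k
  rw [coeff_mk, one_pow, mul_one, ← logDerivSeries_eq_ld, coeff_logDerivSeries,
    h1 (k + 1) (by omega), mul_one]

theorem lamSeries_mul_eq
    (hmul : ∀ k : ℕ, 1 ≤ k → ∀ x y : K, adamsOp k (x * y) = adamsOp k x * adamsOp k y) (x y : K) :
    lamSeries (x * y) = wmul (lamSeries x) (lamSeries y) := by
  apply eq_wmul (constantCoeff_lamSeries _)
  intro k
  rw [← adamsOp_succ_eq_psiS, ← adamsOp_succ_eq_psiS, ← adamsOp_succ_eq_psiS,
    hmul (k + 1) (by omega)]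

theorem lamSeries_adamsOp_eq
    (hcomp : ∀ k k' : ℕ, 1 ≤ k → 1 ≤ k' → ∀ x : K, adamsOp k (adamsOp k' x) = adamsOp (k * k') x)
    (k : ℕ) (x : K) : lamSeries (adamsOp (k + 1) x) = frobS k (lamSeries x) := by
  apply eq_frobS k (constantCoeff_lamSeries _)
  intro m
  rw [← adamsOp_succ_eq_psiS, ← adamsOp_succ_eq_psiS, hcomp (m + 1) (k + 1) (by omega) (by omega)]
  congr 1
  ring

omit [Algebra ℚ K] in
theorem adamsOp_zero_arg (k : ℕ) : adamsOp k (0 : K) = 0 := by
  have h := adamsOp_add k (0 : K) 0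
  rw [add_zero] at h
  exact left_eq_add.mp h

/-- the Adams operation `ψ^{k+1}` as a ring endomorphism. -/
noncomputable def adamsHom (h1 : ∀ k : ℕ, 1 ≤ k → adamsOp k (1 : K) = 1)
    (hmul : ∀ k : ℕ, 1 ≤ k → ∀ x y : K, adamsOp k (x * y) = adamsOp k x * adamsOp k y)
    (k : ℕ) : K →+* K where
  toFun := adamsOp (k + 1)
  map_one' := h1 (k + 1) (by omega)
  map_mul' := hmul (k + 1) (by omega)
  map_zero' := adamsOp_zero_arg (k + 1)
  map_add' := adamsOp_add (k + 1)

theorem adamsOp_lam (h1 : ∀ k : ℕ, 1 ≤ k → adamsOp k (1 : K) = 1)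
    (hmul : ∀ k : ℕ, 1 ≤ k → ∀ x y : K, adamsOp k (x * y) = adamsOp k x * adamsOp k y)
    (hcomp : ∀ k k' : ℕ, 1 ≤ k → 1 ≤ k' → ∀ x : K, adamsOp k (adamsOp k' x) = adamsOp (k * k') x)
    (k i : ℕ) (x : K) :
    adamsOp (k + 1) (LambdaOps.lam i x) = LambdaOps.lam i (adamsOp (k + 1) x) := by
  have h : IsLambdaHom (adamsHom h1 hmul k) := by
    rw [Groth.Agent.S8703.result]
    intro m hm x
    show adamsOp (k + 1) (adamsOp m x) = adamsOp m (adamsOp (k + 1) x)
    rw [hcomp (k + 1) m (by omega) hm, hcomp m (k + 1) hm (by omega), mul_comm]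
  exact h i x

theorem lamSeries_lam_eq (h1 : ∀ k : ℕ, 1 ≤ k → adamsOp k (1 : K) = 1)
    (hmul : ∀ k : ℕ, 1 ≤ k → ∀ x y : K, adamsOp k (x * y) = adamsOp k x * adamsOp k y)
    (hcomp : ∀ k k' : ℕ, 1 ≤ k → 1 ≤ k' → ∀ x : K, adamsOp k (adamsOp k' x) = adamsOp (k * k') x)
    (i : ℕ) (x : K) : lamSeries (LambdaOps.lam i x) = lamS i (lamSeries x) := by
  apply eq_lamS i (constantCoeff_lamSeries _)
  intro k
  rw [← adamsOp_succ_eq_psiS, ← lamSeries_adamsOp_eq hcomp k x, coeff_lamSeries]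
  exact adamsOp_lam h1 hmul hcomp k i x

theorem lam_mul_eq
    (hmul : ∀ k : ℕ, 1 ≤ k → ∀ x y : K, adamsOp k (x * y) = adamsOp k x * adamsOp k y)
    (n : ℕ) (P : MvPolynomial (Fin n ⊕ Fin n) ℤ) (hP : IsMulPoly n P) (x y : K) :
    LambdaOps.lam n (x * y) =
      MvPolynomial.aeval (Sum.elim (fun k : Fin n => LambdaOps.lam ((k : ℕ) + 1) x)
        (fun k : Fin n => LambdaOps.lam ((k : ℕ) + 1) y)) P := by
  set EX : PowerSeries (MvPolynomial (Fin n ⊕ Fin n) ℚ) :=
    tser n (fun k => MvPolynomial.X (Sum.inl k)) with hEX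
  set EY : PowerSeries (MvPolynomial (Fin n ⊕ Fin n) ℚ) :=
    tser n (fun k => MvPolynomial.X (Sum.inr k)) with hEY
  set A : MvPolynomial (Fin n ⊕ Fin n) ℚ := coeff n (wmul EX EY) with hA
  set φ : MvPolynomial (Fin n ⊕ Fin n) ℚ →ₐ[ℚ] K :=
    MvPolynomial.aeval (Sum.elim (fun k : Fin n => LambdaOps.lam ((k : ℕ) + 1) x)
      (fun k : Fin n => LambdaOps.lam ((k : ℕ) + 1) y)) with hφ
  set ι : MvPolynomial (Fin n ⊕ Fin n) ℚ →ₐ[ℚ] MvPolynomial (Fin n ⊕ Fin n) ℚ :=
    MvPolynomial.aeval (Sum.elim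
      (fun k : Fin n => MvPolynomial.rename (Sum.inl : Fin n → Fin n ⊕ Fin n)
        (MvPolynomial.esymm (Fin n) ℚ ((k : ℕ) + 1)))
      (fun k : Fin n => MvPolynomial.rename (Sum.inr : Fin n → Fin n ⊕ Fin n)
        (MvPolynomial.esymm (Fin n) ℚ ((k : ℕ) + 1)))) with hι
  have cEX : constantCoeff EX = 1 := constantCoeff_tser _ _
  have cEY : constantCoeff EY = 1 := constantCoeff_tser _ _
  -- the image of `A` in `K`
  have hφA : φ A = LambdaOps.lam n (x * y) := by
    have e1 : PowerSeries.map (φ : MvPolynomial (Fin n ⊕ Fin n) ℚ →+* K) EX =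
        tser n (fun k : Fin n => LambdaOps.lam ((k : ℕ) + 1) x) := by
      rw [hEX, map_tser]
      congr 1
      funext k
      simp [hφ]
    have e2 : PowerSeries.map (φ : MvPolynomial (Fin n ⊕ Fin n) ℚ →+* K) EY =
        tser n (fun k : Fin n => LambdaOps.lam ((k : ℕ) + 1) y) := by
      rw [hEY, map_tser]
      congr 1
      funext k
      simp [hφ]
    have e3 : φ A = coeff n (PowerSeries.map (φ : MvPolynomial (Fin n ⊕ Fin n) ℚ →+* K)
        (wmul EX EY)) := by
      rw [coeff_map]; rfl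
    rw [e3, map_wmul _ cEX cEY, e1, e2,
      wmul_congr (constantCoeff_tser _ _) (constantCoeff_lamSeries x) (constantCoeff_tser _ _)
        (constantCoeff_lamSeries y) n (tser_congr_lamSeries n x) (tser_congr_lamSeries n y) n le_rfl,
      ← lamSeries_mul_eq hmul, coeff_lamSeries]
  -- the image of `A` in the ring of the `T`, `U`
  have hιA : ι A = ∑ t ∈ powersetCard n ((univ : Finset (Fin n)) ×ˢ (univ : Finset (Fin n))),
      ∏ p ∈ t, (MvPolynomial.X (Sum.inl p.1) * MvPolynomial.X (Sum.inr p.2) :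
        MvPolynomial (Fin n ⊕ Fin n) ℚ) := by
    have e1 : PowerSeries.map (ι : MvPolynomial (Fin n ⊕ Fin n) ℚ →+* _) EX =
        lineProd univ (fun a : Fin n => (MvPolynomial.X (Sum.inl a) :
          MvPolynomial (Fin n ⊕ Fin n) ℚ)) := by
      rw [hEX, map_tser, ← tser_eq_lineProd]
      congr 1
      funext k
      simp [hι, rename_esymm_eq_sum]
    have e2 : PowerSeries.map (ι : MvPolynomial (Fin n ⊕ Fin n) ℚ →+* _) EY =
        lineProd univ (fun a : Fin n => (MvPolynomial.X (Sum.inr a) :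
          MvPolynomial (Fin n ⊕ Fin n) ℚ)) := by
      rw [hEY, map_tser, ← tser_eq_lineProd]
      congr 1
      funext k
      simp [hι, rename_esymm_eq_sum]
    have e3 : ι A = coeff n (PowerSeries.map (ι : MvPolynomial (Fin n ⊕ Fin n) ℚ →+* _)
        (wmul EX EY)) := by
      rw [coeff_map]; rfl
    rw [e3, map_wmul _ cEX cEY, e1, e2, wmul_lineProd, coeff_lineProd]
  -- the image of `P`
  have hιP : ι (MvPolynomial.map (Int.castRingHom ℚ) P) =
      ∑ t ∈ powersetCard n ((univ : Finset (Fin n)) ×ˢ (univ : Finset (Fin n))),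
      ∏ p ∈ t, (MvPolynomial.X (Sum.inl p.1) * MvPolynomial.X (Sum.inr p.2) :
        MvPolynomial (Fin n ⊕ Fin n) ℚ) := by
    have e1 : (Sum.elim
        (fun k : Fin n => MvPolynomial.rename (Sum.inl : Fin n → Fin n ⊕ Fin n)
          (MvPolynomial.esymm (Fin n) ℚ ((k : ℕ) + 1)))
        (fun k : Fin n => MvPolynomial.rename (Sum.inr : Fin n → Fin n ⊕ Fin n)
          (MvPolynomial.esymm (Fin n) ℚ ((k : ℕ) + 1)))) =
        fun i => MvPolynomial.map (Int.castRingHom ℚ) ((Sum.elim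
          (fun k : Fin n => MvPolynomial.rename (Sum.inl : Fin n → Fin n ⊕ Fin n)
            (MvPolynomial.esymm (Fin n) ℤ ((k : ℕ) + 1)))
          (fun k : Fin n => MvPolynomial.rename (Sum.inr : Fin n → Fin n ⊕ Fin n)
            (MvPolynomial.esymm (Fin n) ℤ ((k : ℕ) + 1)))) i) := by
      funext i
      cases i with
      | inl k => simp [MvPolynomial.map_rename, MvPolynomial.map_esymm]
      | inr k => simp [MvPolynomial.map_rename, MvPolynomial.map_esymm]
    rw [hι, e1, aeval_map_int, hP.1, mulGen, Finset.esymm_map_val, Finset.univ_product_univ]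
    simp [map_sum, map_prod]
  have hAP : A = MvPolynomial.map (Int.castRingHom ℚ) P :=
    iota2_injective n n le_rfl ℚ (hιA.trans hιP.symm)
  rw [← hφA, hAP, hφ, aeval_map_int']

theorem lam_lam_eq (h1 : ∀ k : ℕ, 1 ≤ k → adamsOp k (1 : K) = 1)
    (hmul : ∀ k : ℕ, 1 ≤ k → ∀ x y : K, adamsOp k (x * y) = adamsOp k x * adamsOp k y)
    (hcomp : ∀ k k' : ℕ, 1 ≤ k → 1 ≤ k' → ∀ x : K, adamsOp k (adamsOp k' x) = adamsOp (k * k') x)
    (i j : ℕ) (Q : MvPolynomial (Fin (i * j)) ℤ) (hQ : IsCompPoly i j Q) (x : K) :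
    LambdaOps.lam j (LambdaOps.lam i x) =
      MvPolynomial.aeval (fun k : Fin (i * j) => LambdaOps.lam ((k : ℕ) + 1) x) Q := by
  set E : PowerSeries (MvPolynomial (Fin (i * j)) ℚ) :=
    tser (i * j) (fun k => MvPolynomial.X k) with hE
  set B : MvPolynomial (Fin (i * j)) ℚ := coeff j (lamS i E) with hB
  set φ : MvPolynomial (Fin (i * j)) ℚ →ₐ[ℚ] K :=
    MvPolynomial.aeval (fun k : Fin (i * j) => LambdaOps.lam ((k : ℕ) + 1) x) with hφ
  set ι : MvPolynomial (Fin (i * j)) ℚ →ₐ[ℚ] MvPolynomial (Fin (i * j)) ℚ :=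
    MvPolynomial.aeval (fun k : Fin (i * j) => MvPolynomial.esymm (Fin (i * j)) ℚ ((k : ℕ) + 1))
    with hι
  have cE : constantCoeff E = 1 := constantCoeff_tser _ _
  have hφB : φ B = LambdaOps.lam j (LambdaOps.lam i x) := by
    have e1 : PowerSeries.map (φ : MvPolynomial (Fin (i * j)) ℚ →+* K) E =
        tser (i * j) (fun k : Fin (i * j) => LambdaOps.lam ((k : ℕ) + 1) x) := by
      rw [hE, map_tser]
      congr 1
      funext k
      simp [hφ]
    have e3 : φ B = coeff j (PowerSeries.map (φ : MvPolynomial (Fin (i * j)) ℚ →+* K)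
        (lamS i E)) := by
      rw [coeff_map]; rfl
    rw [e3, map_lamS _ i cE, e1,
      lamS_congr (constantCoeff_tser _ _) (constantCoeff_lamSeries x) i j
        (tser_congr_lamSeries (i * j) x) j le_rfl,
      ← lamSeries_lam_eq h1 hmul hcomp, coeff_lamSeries]
  have hιB : ι B = ∑ u ∈ powersetCard j (powersetCard i (univ : Finset (Fin (i * j)))),
      ∏ t ∈ u, ∏ a ∈ t, (MvPolynomial.X a : MvPolynomial (Fin (i * j)) ℚ) := by
    have e1 : PowerSeries.map (ι : MvPolynomial (Fin (i * j)) ℚ →+* _) E =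
        lineProd univ (fun a : Fin (i * j) => (MvPolynomial.X a :
          MvPolynomial (Fin (i * j)) ℚ)) := by
      rw [hE, map_tser, ← tser_eq_lineProd]
      congr 1
      funext k
      simp [hι, esymm_eq_sum]
    have e3 : ι B = coeff j (PowerSeries.map (ι : MvPolynomial (Fin (i * j)) ℚ →+* _)
        (lamS i E)) := by
      rw [coeff_map]; rfl
    rw [e3, map_lamS _ i cE, e1, lamS_lineProd, coeff_lineProd]
  have hιQ : ι (MvPolynomial.map (Int.castRingHom ℚ) Q) =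
      ∑ u ∈ powersetCard j (powersetCard i (univ : Finset (Fin (i * j)))),
      ∏ t ∈ u, ∏ a ∈ t, (MvPolynomial.X a : MvPolynomial (Fin (i * j)) ℚ) := by
    have e1 : (fun k : Fin (i * j) => MvPolynomial.esymm (Fin (i * j)) ℚ ((k : ℕ) + 1)) =
        fun k : Fin (i * j) => MvPolynomial.map (Int.castRingHom ℚ)
          (MvPolynomial.esymm (Fin (i * j)) ℤ ((k : ℕ) + 1)) := by
      funext k
      rw [MvPolynomial.map_esymm]
    rw [hι, e1, aeval_map_int, hQ.1, compGen, Finset.esymm_map_val]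
    simp [map_sum, map_prod]
  have hBQ : B = MvPolynomial.map (Int.castRingHom ℚ) Q :=
    iota1_injective (i * j) (i * j) le_rfl ℚ (hιB.trans hιQ.symm)
  rw [← hφB, hBQ, hφ, aeval_map_int']

/-- Let K be a pre-λ-ring which is an algebra over the rationals (the meaning of characteristic zero
here), and suppose that its Adams operations satisfy ψ^k(1) = 1, ψ^k(xy) = ψ^k(x) ψ^k(y) and ψ^k ∘
ψ^{k'} = ψ^{kk'} for all k, k' ≥ 1. Then K is a λ-ring in the strict sense: λ_t(1) = 1 + t, λ^n(xy)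
= P_n(λ^1 x, …; λ^1 y, …) and λ^j(λ^i x) = Q_{i,j}(λ^1 x, …) for the universal polynomials. -/
theorem result (K : Type u) [CommRing K] [LambdaRing.LambdaOps K] [Algebra ℚ K]
    (h1 : ∀ k : ℕ, 1 ≤ k → LambdaRing.adamsOp k (1 : K) = 1)
    (hmul : ∀ k : ℕ, 1 ≤ k → ∀ x y : K, LambdaRing.adamsOp k (x * y) = LambdaRing.adamsOp k x * LambdaRing.adamsOp k y)
    (hcomp : ∀ k k' : ℕ, 1 ≤ k → 1 ≤ k' → ∀ x : K,
      LambdaRing.adamsOp k (LambdaRing.adamsOp k' x) = LambdaRing.adamsOp (k * k') x) :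
    LambdaRing.IsSpecial K := by
  refine ⟨?_, ?_, ?_⟩
  · intro n hn
    have h := congrArg (coeff n) (lamSeries_one_eq h1)
    rw [coeff_lamSeries] at h
    rw [h]
    obtain ⟨m, rfl⟩ : ∃ m, n = m + 2 := ⟨n - 2, by omega⟩
    rw [map_add, PowerSeries.coeff_one, if_neg (by omega), zero_add,
      show m + 2 = (m + 1) + 1 by rfl, PowerSeries.coeff_succ_mul_X, PowerSeries.coeff_C,
      if_neg (Nat.succ_ne_zero m)]
  · intro n P hP x y
    exact lam_mul_eq hmul n P hP x y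
  · intro i j Q hQ x
    exact lam_lam_eq h1 hmul hcomp i j Q hQ x

end Groth.Agent.S8689
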