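import Groth.Statements.S8699
import Groth.Agent.S8689
import Mathlib.RingTheory.Flat.TorsionFree
import Mathlib.RingTheory.Flat.Basic

set_option autoImplicit false
universe u
open LambdaRing

namespace Groth.Agent.S8699

open Groth.Agent.H43 PowerSeries Finset TensorProduct

section StepA

variable {K : Type*} [CommRing K] [LambdaOps K] [BinomialRing K]

omit [LambdaOps K] in
theorem choose_rec (x : K) (n : ℕ) :
    Ring.choose x (n + 1) * ((n : K) + 1) + Ring.choose x n * (n : K) = x * Ring.choose x n := by
  have h := Ring.choose_smul_choose x (Nat.le_succ n)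
  simp only [Nat.succ_eq_add_one, Nat.choose_succ_self_right, Nat.add_sub_cancel_left,
    Ring.choose_one_right, nsmul_eq_mul] at h
  push_cast at h
  linear_combination h

/-- in a binomial λ-ring all Adams operations are the identity. -/
theorem adamsOp_of_isBinomial (hKb : IsBinomial K) (k : ℕ) (x : K) : adamsOp (k + 1) x = x := by
  have cF : ∀ n, coeff n (lamSeries x) = Ring.choose x n := fun n => by
    rw [coeff_lamSeries, hKb]
  have hder : derivative K (lamSeries x) * (1 + X) = C x * lamSeries x := by
    ext n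
    cases n with
    | zero =>
      simp only [mul_add, mul_one, map_add, coeff_C_mul, coeff_derivative, coeff_zero_mul_X, cF]
      simp
    | succ n =>
      simp only [mul_add, mul_one, map_add, coeff_C_mul, coeff_derivative, coeff_succ_mul_X, cF]
      have := choose_rec x (n + 1)
      push_cast at this ⊢
      linear_combination this
  have hu : IsUnit (1 + X : PowerSeries K) := isUnit_of_constantCoeff (by simp)
  have hinv : (1 + X : PowerSeries K).invOfUnit 1 * (1 + X) = 1 :=
    PowerSeries.invOfUnit_mul _ 1 (by simp)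
  have hld : ld (lamSeries x) = C x * (1 + X : PowerSeries K).invOfUnit 1 := by
    symm
    apply ld_unique (constantCoeff_lamSeries x)
    apply hu.mul_left_injective
    show C x * (1 + X : PowerSeries K).invOfUnit 1 * lamSeries x * (1 + X) =
      derivative K (lamSeries x) * (1 + X)
    rw [hder]
    calc C x * (1 + X : PowerSeries K).invOfUnit 1 * lamSeries x * (1 + X)
        = C x * lamSeries x * ((1 + X : PowerSeries K).invOfUnit 1 * (1 + X)) := by ring
      _ = C x * lamSeries x := by rw [hinv, mul_one]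
  rw [adamsOp_succ_eq_psiS]
  unfold psiS
  rw [hld, coeff_C_mul, coeff_invOfUnit_one_add_X]
  calc (-1 : K) ^ k * (x * (-1) ^ k) = ((-1) ^ k * (-1) ^ k) * x := by ring
    _ = x := by rw [neg_one_pow_mul_self, one_mul]

end StepA

theorem map_aeval_int {K L σ : Type*} [CommRing K] [CommRing L] (f : K →+* L) (g : σ → K)
    (P : MvPolynomial σ ℤ) :
    f (MvPolynomial.aeval g P) = MvPolynomial.aeval (fun i => f (g i)) P := by
  induction P using MvPolynomial.induction_on with
  | C a => simp
  | add p q hp hq => rw [map_add, map_add, hp, hq, map_add]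
  | mul_X p i hp =>
    rw [map_mul, map_mul, hp, MvPolynomial.aeval_X, map_mul, MvPolynomial.aeval_X]

/-- A binomial ring K (no additive torsion and all binomial coefficients C(x, n) defined) with its
binomial λ-structure λ^n(x) = C(x, n), i.e. λ_t(x) = (1 + t)^x, is a λ-ring in the strict sense:
λ_t(1) = 1 + t, λ^n(xy) = P_n(λ^1 x, …; λ^1 y, …) and λ^j(λ^i x) = Q_{i,j}(λ^1 x, …) for the
universal polynomials. In particular the integers with λ^n(m) = C(m, n) form a λ-ring. -/
theorem result (K : Type u) [CommRing K] [LambdaRing.LambdaOps K] [BinomialRing K]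
    (hKb : LambdaRing.IsBinomial K) : LambdaRing.IsSpecial K := by
  have : IsAddTorsionFree K := BinomialRing.toIsAddTorsionFree
  let : LambdaOps (ℚ ⊗[ℤ] K) := binomialLambdaOps (ℚ ⊗[ℤ] K)
  have hLb : IsBinomial (ℚ ⊗[ℤ] K) := fun n x => rfl
  have hL : IsSpecial (ℚ ⊗[ℤ] K) := by
    apply Groth.Agent.S8689.result (ℚ ⊗[ℤ] K)
    · intro k hk
      obtain ⟨k, rfl⟩ : ∃ j, k = j + 1 := ⟨k - 1, by omega⟩
      exact adamsOp_of_isBinomial hLb k 1
    · intro k hk x y
      obtain ⟨k, rfl⟩ : ∃ j, k = j + 1 := ⟨k - 1, by omega⟩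
      rw [adamsOp_of_isBinomial hLb, adamsOp_of_isBinomial hLb, adamsOp_of_isBinomial hLb]
    · intro k k' hk hk' x
      obtain ⟨k, rfl⟩ : ∃ j, k = j + 1 := ⟨k - 1, by omega⟩
      obtain ⟨k', rfl⟩ : ∃ j, k' = j + 1 := ⟨k' - 1, by omega⟩
      have e : (k + 1) * (k' + 1) = (k * k' + k + k') + 1 := by ring
      rw [e, adamsOp_of_isBinomial hLb, adamsOp_of_isBinomial hLb, adamsOp_of_isBinomial hLb]
  let f : K →+* ℚ ⊗[ℤ] K :=
    ((Algebra.TensorProduct.includeRight : K →ₐ[ℤ] ℚ ⊗[ℤ] K) : K →+* ℚ ⊗[ℤ] K)
  have hf : Function.Injective f :=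
    Algebra.TensorProduct.includeRight_injective (R := ℤ) (A := ℚ) (B := K)
      (fun a b h => by simpa using h)
  have hflam : ∀ (n : ℕ) (x : K), f (LambdaOps.lam n x) = LambdaOps.lam n (f x) := by
    intro n x
    rw [hKb n x, hLb n (f x)]
    exact Ring.map_choose f x n
  refine ⟨?_, ?_, ?_⟩
  · intro n hn
    apply hf
    rw [hflam, map_one, map_zero]
    exact hL.lam_one_eq_zero n hn
  · intro n P hP x y
    apply hf
    rw [hflam, map_mul, hL.lam_mul n P hP (f x) (f y), map_aeval_int]
    congr 2
    funext i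
    cases i with
    | inl i => simp [hflam]
    | inr i => simp [hflam]
  · intro i j Q hQ x
    apply hf
    rw [hflam, hflam, hL.lam_lam i j Q hQ (f x), map_aeval_int]
    congr 2
    funext i
    simp [hflam]

end Groth.Agent.S8699
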