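import Groth.Statements.S8702
import Groth.Agent.H43.LambdaAdams

set_option autoImplicit false
universe u
open LambdaRing

namespace Groth.Agent.S8702

open Groth.Agent.H43 PowerSeries in
/-- Let K be a commutative ring which is an algebra over the rationals, and let ψ^k : K → K, k ≥ 1, be
additive maps with ψ^1 the identity. Then there is one and only one pre-λ-structure on K whose Adams
operations (defined through the logarithmic derivative of λ_t) are the ψ^k for every k ≥ 1, namely
λ_t(x) = exp(Σ_{k ≥ 1} (−1)^{k−1} ψ^k(x) t^k / k): in characteristic zero, pre-λ-structures and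
families of additive operations ψ^k with ψ^1 = id determine each other. (The value of the family at
k = 0 is ignored.) -/
theorem result (K : Type u) [CommRing K] [Algebra ℚ K]
    (ψ : ℕ → K →+ K) (hψ : ψ 1 = AddMonoidHom.id K) :
    ∃! L : LambdaRing.LambdaOps K, ∀ k : ℕ, 1 ≤ k → ∀ x : K, @LambdaRing.adamsOp K _ L k x = ψ k x := by
  refine ⟨lamOfAdams ψ hψ, ?_, ?_⟩
  · intro k hk x
    let _ := lamOfAdams ψ hψ
    obtain ⟨k, rfl⟩ : ∃ j, k = j + 1 := ⟨k - 1, by omega⟩
    have hl : lamSeries x = odeSol (adamsGen (fun k => ψ k) x) := rfl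
    have hd := derivative_lamSeries x
    rw [hl, derivative_odeSol] at hd
    have hu : IsUnit (odeSol (adamsGen (fun k => ψ k) x)) := hl ▸ isUnit_lamSeries x
    have hG := hu.mul_left_injective hd
    have hc := congrArg (coeff k) hG
    rw [coeff_mk, coeff_logDerivSeries, adamsGen] at hc
    have hsq : ((-1 : K) ^ k) * ((-1 : K) ^ k) = 1 := by rw [← mul_pow]; simp
    calc adamsOp (k + 1) x = ((-1 : K) ^ k * (-1 : K) ^ k) * adamsOp (k + 1) x := by rw [hsq, one_mul]
      _ = (-1 : K) ^ k * ((-1 : K) ^ k * adamsOp (k + 1) x) := by ring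
      _ = (-1 : K) ^ k * ((-1 : K) ^ k * ψ (k + 1) x) := by rw [← hc]
      _ = ((-1 : K) ^ k * (-1 : K) ^ k) * ψ (k + 1) x := by ring
      _ = ψ (k + 1) x := by rw [hsq, one_mul]
  · intro L' hL'
    have key : ∀ (n : ℕ) (x : K), L'.lam n x = odeCoeff (adamsGen (fun k => ψ k) x) n := by
      intro n x
      have h1 := @logDerivSeries_eq_of_adams K _ L' (fun k => ψ k) x (fun k hk => hL' k hk x)
      have h2 := @derivative_lamSeries K _ L' x
      rw [h1] at h2
      have h3 := ode_unique _ _ _ h2 (derivative_odeSol (adamsGen (fun k => ψ k) x))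
        (by simp [constantCoeff_lamSeries, odeSol, odeCoeff_zero])
      have h4 := congrArg (coeff n) h3
      simpa [lamSeries, odeSol] using h4
    obtain ⟨lam', h0', h1', ha'⟩ := L'
    have hfun : lam' = fun n x => odeCoeff (adamsGen (fun k => ψ k) x) n :=
      funext fun n => funext fun x => key n x
    subst hfun
    rfl

end Groth.Agent.S8702
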