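import Groth.Statements.S8684
import Groth.Agent.H43.SymmExist

set_option autoImplicit false
open LambdaRing

namespace Groth.Agent.S8684

open Groth.Agent.H43 Finset MvPolynomial

/-- For every n there is a polynomial P ∈ ℤ[X_1, …, X_n, Y_1, …, Y_n] such that substituting the k-th
elementary symmetric functions of two families T, U of n variables for X_k and Y_k yields the n-th
elementary symmetric function of the n² products T_a U_b, and P is isobaric of weight n separately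
in the X_k and in the Y_k, the variables X_k and Y_k having weight k. -/
theorem result (n : ℕ) :
    ∃ P : MvPolynomial (Fin n ⊕ Fin n) ℤ, LambdaRing.IsMulPoly n P := by
  obtain ⟨P0, hP0⟩ := iota2_surj n (mulGenR ℤ n n) (mulGenR_symm n n)
  have hg : ∀ s : Fin n ⊕ Fin n, IsWeightedHomogeneous
      (Sum.elim (fun _ : Fin n => ((1, 0) : ℕ × ℕ)) (fun _ : Fin n => ((0, 1) : ℕ × ℕ)))
      ((Sum.elim
        (fun k : Fin n => rename (Sum.inl : Fin n → Fin n ⊕ Fin n) (esymm (Fin n) ℤ ((k : ℕ) + 1)))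
        (fun k : Fin n => rename (Sum.inr : Fin n → Fin n ⊕ Fin n) (esymm (Fin n) ℤ ((k : ℕ) + 1))))
        s)
      ((Sum.elim (fun k : Fin n => (((k : ℕ) + 1, 0) : ℕ × ℕ))
        (fun k : Fin n => ((0, (k : ℕ) + 1) : ℕ × ℕ))) s) := by
    intro s
    cases s with
    | inl k =>
      have h := rename_esymm_isWH (R := ℤ) (Sum.inl : Fin n → Fin n ⊕ Fin n)
        (Sum.elim (fun _ : Fin n => ((1, 0) : ℕ × ℕ)) (fun _ : Fin n => ((0, 1) : ℕ × ℕ)))
        ((1, 0) : ℕ × ℕ) (fun _ => rfl) ((k : ℕ) + 1)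
      simpa using h
    | inr k =>
      have h := rename_esymm_isWH (R := ℤ) (Sum.inr : Fin n → Fin n ⊕ Fin n)
        (Sum.elim (fun _ : Fin n => ((1, 0) : ℕ × ℕ)) (fun _ : Fin n => ((0, 1) : ℕ × ℕ)))
        ((0, 1) : ℕ × ℕ) (fun _ => rfl) ((k : ℕ) + 1)
      simpa using h
  refine ⟨weightedHomogeneousComponent
    (Sum.elim (fun k : Fin n => (((k : ℕ) + 1, 0) : ℕ × ℕ))
      (fun k : Fin n => ((0, (k : ℕ) + 1) : ℕ × ℕ))) ((n, n) : ℕ × ℕ) P0, ?_,
    weightedHomogeneousComponent_isWeightedHomogeneous _ _⟩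
  rw [← whComponent_aeval _
    (Sum.elim (fun _ : Fin n => ((1, 0) : ℕ × ℕ)) (fun _ : Fin n => ((0, 1) : ℕ × ℕ))) _ hg,
    mulGen_eq]
  have h0 : aeval (Sum.elim
        (fun k : Fin n => rename (Sum.inl : Fin n → Fin n ⊕ Fin n) (esymm (Fin n) ℤ ((k : ℕ) + 1)))
        (fun k : Fin n => rename (Sum.inr : Fin n → Fin n ⊕ Fin n) (esymm (Fin n) ℤ ((k : ℕ) + 1))))
      P0 = mulGenR ℤ n n := hP0
  rw [h0]
  exact (mulGenR_isWH ℤ n n).weightedHomogeneousComponent_same

end Groth.Agent.S8684
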