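import Groth.Statements.S8685
import Groth.Agent.H43.SymmExist

set_option autoImplicit false
open LambdaRing

namespace Groth.Agent.S8685

open Groth.Agent.H43 Finset MvPolynomial

/-- For all i, j there is a polynomial Q ∈ ℤ[X_1, …, X_{ij}] such that substituting the k-th elementary
symmetric function of ij variables T for X_k yields the j-th elementary symmetric function of the
products of the T_a over the i-element subsets of the variables, and Q is isobaric of weight ij, the
variable X_k having weight k. -/
theorem result (i j : ℕ) :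
    ∃ Q : MvPolynomial (Fin (i * j)) ℤ, LambdaRing.IsCompPoly i j Q := by
  obtain ⟨Q0, hQ0⟩ := esymmAlgHom_surjective (σ := Fin (i * j)) ℤ (n := i * j) (by simp)
    ⟨compGenR ℤ (i * j) i j, compGenR_symm (i * j) i j⟩
  have hQ0' : aeval (fun k : Fin (i * j) => esymm (Fin (i * j)) ℤ ((k : ℕ) + 1)) Q0 =
      compGenR ℤ (i * j) i j := by
    rw [← esymmAlgHom_apply, hQ0]
  have hg : ∀ k : Fin (i * j), IsWeightedHomogeneous (fun _ : Fin (i * j) => (1 : ℕ))
      (esymm (Fin (i * j)) ℤ ((k : ℕ) + 1)) ((k : ℕ) + 1) := by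
    intro k
    have h := esymm_isWH (R := ℤ) (fun _ : Fin (i * j) => (1 : ℕ)) 1 (fun _ => rfl) ((k : ℕ) + 1)
    rw [smul_eq_mul, mul_one] at h
    exact h
  refine ⟨weightedHomogeneousComponent (fun k : Fin (i * j) => (k : ℕ) + 1) (i * j) Q0, ?_,
    weightedHomogeneousComponent_isWeightedHomogeneous _ _⟩
  rw [← whComponent_aeval (fun k : Fin (i * j) => (k : ℕ) + 1) (fun _ : Fin (i * j) => (1 : ℕ))
    _ hg, hQ0', compGen_eq]
  exact (compGenR_isWH ℤ (i * j) i j).weightedHomogeneousComponent_same

end Groth.Agent.S8685
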