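import Groth.Statements.S2460
import Groth.Agent.H15.CohenCoeff
import Groth.Agent.H15.CohenNorm2

set_option autoImplicit false
universe u
open EGA41

namespace Groth.Agent.S2460

open IsLocalRing in
/-- Let A be a complete Noetherian local domain containing a field k₀ such that the residue field of A
is a finite extension of k₀. Then there are n and an injective local k₀-algebra homomorphism from
the power series ring k₀[[T_1, …, T_n]] into A making A a finite module over it. -/
theorem result {k₀ A : Type u} [Field k₀] [CommRing A] [IsDomain A] [IsLocalRing A] [IsNoetherianRing A]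
    [IsAdicComplete (maximalIdeal A) A] [Algebra k₀ A] [Module.Finite k₀ (ResidueField A)] :
    ∃ (n : ℕ) (w : MvPowerSeries (Fin n) k₀ →ₐ[k₀] A), Function.Injective w ∧ IsLocalHom w.toRingHom ∧ w.toRingHom.Finite := by
  classical
  have hc : IsAdicComplete (maximalIdeal k₀) k₀ := Groth.Agent.H15.CohenCoeff.field_isAdicComplete k₀
  have hbot : Ideal.map (algebraMap k₀ A) (maximalIdeal k₀) = ⊥ := by
    rw [IsLocalRing.maximalIdeal_eq_bot, Ideal.map_bot]
  have hloc : Ideal.map (algebraMap k₀ A) (maximalIdeal k₀) ≤ maximalIdeal A := by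
    rw [hbot]; exact bot_le
  have hφ : Groth.Agent.H15.CohenNorm2.ResFinite (algebraMap k₀ A) := by
    obtain ⟨t, zbar, hz⟩ := Module.Finite.exists_fin (R := k₀) (M := ResidueField A)
    choose z hzz using fun j => IsLocalRing.residue_surjective (zbar j)
    refine ⟨t, z, fun r => ?_⟩
    have h1 : residue A r ∈ Submodule.span k₀ (Set.range zbar) := by rw [hz]; exact Submodule.mem_top
    obtain ⟨a, ha⟩ := (Submodule.mem_span_range_iff_exists_fun k₀).mp h1
    refine ⟨a, ?_⟩
    rw [← IsLocalRing.residue_eq_zero_iff, map_sub, map_sum, ← ha, sub_eq_zero]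
    refine Finset.sum_congr rfl fun j _ => ?_
    rw [map_mul, hzz j, Algebra.smul_def, IsScalarTower.algebraMap_apply k₀ A (ResidueField A)]
    rfl
  have hdim : ringKrullDim k₀ + ringKrullDim (A ⧸ Ideal.map (algebraMap k₀ A) (maximalIdeal k₀)) ≤
      ringKrullDim A := by
    rw [ringKrullDim_eq_zero_of_field, zero_add, hbot,
      ringKrullDim_eq_of_ringEquiv (RingEquiv.quotientBot A)]
  obtain ⟨n, F, hinj, hfin, hC, hmle⟩ :=
    Groth.Agent.H15.CohenNorm2.exists_finite_injective (algebraMap k₀ A) hloc hφ hdim
  let w : MvPowerSeries (Fin n) k₀ →ₐ[k₀] A :=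
    { F with
      commutes' := fun c => by
        show F (algebraMap k₀ (MvPowerSeries (Fin n) k₀) c) = _
        rw [MvPowerSeries.algebraMap_apply, hC]
        rfl }
  refine ⟨n, w, hinj, ?_, hfin⟩
  exact ((IsLocalRing.local_hom_TFAE F).out 0 2).mpr hmle

end Groth.Agent.S2460
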