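import Groth.Statements.S4925
import Groth.Agent.H25.UnivOpenAt

set_option autoImplicit false
open CategoryTheory AlgebraicGeometry
universe u v w
open EGA43

namespace Groth.Agent.S4925

/-- Let f : X ⟶ Y and g : Y ⟶ Z be morphisms of schemes and x a point of X. If f is universally open at
x and g is universally open at f x, then f ≫ g is universally open at x. -/
theorem result {X Y Z : Scheme.{u}} (f : X ⟶ Y) (g : Y ⟶ Z) (x : X)
    (hf : EGA43.IsUnivOpenAt f x) (hg : EGA43.IsUnivOpenAt g (f.base x)) :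
    EGA43.IsUnivOpenAt (f ≫ g) x := by
  intro Z' h x' hx'
  -- Y' = pullback g h
  have sqR : IsPullback (Limits.pullback.fst g h) (Limits.pullback.snd g h) g h :=
    IsPullback.of_hasPullback g h
  have sqO : IsPullback (Limits.pullback.fst (f ≫ g) h) (Limits.pullback.snd (f ≫ g) h) (f ≫ g) h :=
    IsPullback.of_hasPullback (f ≫ g) h
  have sqL := IsPullback.of_right' sqO.flip sqR.flip
  set l := sqR.flip.lift (Limits.pullback.snd (f ≫ g) h) (Limits.pullback.fst (f ≫ g) h ≫ f)
    (by rw [sqO.flip.w, Category.assoc]) with hl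
  have h1 : EGA43.IsOpenAt l.base x' :=
    Groth.Agent.H25.isOpenAt_of_isPullback sqL.flip x hf x' hx'
  have hl1 : l ≫ Limits.pullback.fst g h = Limits.pullback.fst (f ≫ g) h ≫ f := sqR.flip.lift_snd _ _ _
  have hl2 : l ≫ Limits.pullback.snd g h = Limits.pullback.snd (f ≫ g) h := sqR.flip.lift_fst _ _ _
  have h2 : EGA43.IsOpenAt (Limits.pullback.snd g h).base (l.base x') := by
    refine hg Z' h (l.base x') ?_
    rw [← hx', ← Scheme.Hom.comp_apply, hl1, Scheme.Hom.comp_apply]
  have h3 := Groth.Agent.H25.isOpenAt_comp _ _ _ h1 h2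
  have h4 : ((Limits.pullback.snd (f ≫ g) h).base : _ → _) = (Limits.pullback.snd g h).base ∘ l.base := by
    rw [← hl2]
    rfl
  rw [h4]
  exact h3

end Groth.Agent.S4925
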