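import Groth.Statements.S1556
import Groth.Agent.H63.GeomRegAtSmooth
import Groth.Agent.H79.SmoothReg
import Groth.Agent.H7.DedekindOpen
import Groth.Agent.H9.SchemeDimStalk
import Mathlib.RingTheory.Etale.Field

set_option autoImplicit false
universe u
open CategoryTheory CategoryTheory.Limits AlgebraicGeometry
attribute [local instance] Curv2.resAlgebra
open Variety

namespace Groth.Agent.S1556

/-- Separability only depends on the structure map. -/
theorem isSeparable_of_algebraMap_eq {F K : Type*} [Field F] [Field K] (a b : Algebra F K)
    (h : ∀ r, @algebraMap F K _ _ a r = @algebraMap F K _ _ b r)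
    (hs : @Algebra.IsSeparable F K _ _ a) : @Algebra.IsSeparable F K _ _ b := by
  have hab : a = b := Algebra.algebra_ext a b h
  subst hab
  exact hs

/-- Let X be a curve over k (integral, separated, of finite type, of dimension one) and x a closed point
whose residue field is separable over k. Then the local ring at x is a discrete valuation ring if
and only if x lies in the smooth locus of X → Spec k. -/
theorem result (k : Type u) [Field k] (X : Scheme.{u}) [X.Over (Spec (CommRingCat.of k))] [IsIntegral X]
    [IsSeparated (X ↘ (Spec (CommRingCat.of k)))] [LocallyOfFinitePresentation (X ↘ (Spec (CommRingCat.of k)))] [QuasiCompact (X ↘ (Spec (CommRingCat.of k)))]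
    (hdim : topologicalKrullDim X = 1) (x : X) (hx : IsClosed ({x} : Set X))
    [Algebra.IsSeparable k (X.residueField x)] :
    IsDiscreteValuationRing (X.presheaf.stalk x) ↔ x ∈ (X ↘ (Spec (CommRingCat.of k))).smoothLocus := by
  rename_i hsepX
  rw [Groth.Agent.H63.GeomRegAtSmooth.mem_smoothLocus_iff]
  letI algA : Algebra k (X.presheaf.stalk x) := (Curv2.stalkMap k X x).toAlgebra
  haveI hess : Algebra.EssFiniteType k (X.presheaf.stalk x) :=
    Groth.Agent.H63.GeomRegAtSmooth.essFiniteType_stalkMap k X x
  show IsDiscreteValuationRing (X.presheaf.stalk x) ↔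
    Algebra.FormallySmooth k (X.presheaf.stalk x)
  have hsep : @Algebra.IsSeparable k (IsLocalRing.ResidueField (X.presheaf.stalk x)) _ _
      (IsLocalRing.ResidueField.algebra (X.presheaf.stalk x)) :=
    isSeparable_of_algebraMap_eq (K := IsLocalRing.ResidueField (X.presheaf.stalk x))
      (Curv2.resAlgebra k X x) (IsLocalRing.ResidueField.algebra (X.presheaf.stalk x)) (fun r => rfl) hsepX
  haveI := hsep
  haveI : Algebra.FormallyEtale k (IsLocalRing.ResidueField (X.presheaf.stalk x)) :=
    Algebra.FormallyEtale.of_isSeparable k _
  have hκ : Algebra.FormallySmooth k (IsLocalRing.ResidueField (X.presheaf.stalk x)) :=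
    inferInstance
  refine Iff.trans ?_ (Groth.Agent.H79.SmoothReg.formallySmooth_iff_isRegularLocalRing k
    (X.presheaf.stalk x) hκ).symm
  constructor
  · intro hdvr
    haveI := hdvr
    infer_instance
  · intro hreg
    haveI := hreg
    have hdimA : ringKrullDim (X.presheaf.stalk x) ≤ 1 :=
      (Groth.Agent.H9.FibDim.ringKrullDim_stalk_le X x).trans hdim.le
    obtain ⟨hdomA, hpid⟩ :=
      Groth.Agent.H7.isDomain_isPrincipalIdealRing_of_regular_dim_le_one
        (X.presheaf.stalk x) hdimA
    refine { toIsPrincipalIdealRing := hpid, toIsLocalRing := inferInstance, not_a_field' := ?_ }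
    intro hbot
    have hη : IsGenericPoint (genericPoint X) (Set.univ : Set X) := genericPoint_spec X
    have h1 := Groth.Agent.H7.fromSpecStalk_bot_eq x (genericPoint X) hη
    have h2 : (⟨⊥, Ideal.isPrime_bot⟩ : PrimeSpectrum (X.presheaf.stalk x)) =
        IsLocalRing.closedPoint _ := by
      apply PrimeSpectrum.ext
      exact hbot.symm
    rw [h2, Scheme.fromSpecStalk_closedPoint] at h1
    have huniv : ({x} : Set X) = Set.univ := by
      rw [← hx.closure_eq, h1]
      exact hη.def
    haveI : Subsingleton X := ⟨fun a b => by
      have ha : a ∈ ({x} : Set X) := huniv ▸ Set.mem_univ a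
      have hb : b ∈ ({x} : Set X) := huniv ▸ Set.mem_univ b
      rw [Set.mem_singleton_iff.mp ha, Set.mem_singleton_iff.mp hb]⟩
    have h0 := topologicalKrullDim_zero_of_discreteTopology X
    rw [hdim] at h0
    exact absurd h0 (by simp)

end Groth.Agent.S1556
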