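import Groth.Statements.S0572
import Groth.Agent.H15.NorOpen

set_option autoImplicit false
universe u
open CAlg

namespace Groth.Agent.S0572

/-- Let `R` be a Noetherian domain such that `R_f` is integrally closed for some nonzero `f`. Then the
set of primes `p` with `R_p` integrally closed is open in `Spec R`. -/
theorem result (R : Type u) [CommRing R] [IsDomain R] [IsNoetherianRing R] (f : R)
    (hf : f ≠ 0) (hn : IsIntegrallyClosed (Localization.Away f)) :
    IsOpen {p : PrimeSpectrum R | IsIntegrallyClosed (Localization.AtPrime p.asIdeal)} := by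
  have h1 := Groth.Agent.H15.NorOpen.isOpen_setOf_N hf
    (Groth.Agent.H15.NorOpen.H_of_away f hf hn)
  have heq : {p : PrimeSpectrum R | IsIntegrallyClosed (Localization.AtPrime p.asIdeal)} =
      {p : PrimeSpectrum R | Groth.Agent.H15.NorOpen.N p.asIdeal} := by
    ext p
    exact (Groth.Agent.H15.NorOpen.N_iff_isIntegrallyClosed p.asIdeal).symm
  rw [heq]
  exact h1

end Groth.Agent.S0572
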