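import Groth.Statements.S8838
import Groth.Agent.H44.RigClosed
import Groth.Agent.H44.NagataJac
import Mathlib.RingTheory.Unramified.LocalStructure
import Mathlib.RingTheory.Unramified.LocalRing
import Mathlib.RingTheory.QuasiFinite.Basic
import Mathlib.RingTheory.Etale.Basic
import Mathlib.RingTheory.Kaehler.Basic
import Mathlib.RingTheory.Nakayama
import Mathlib.LinearAlgebra.TensorProduct.Quotient

set_option autoImplicit false
universe u
open AdicRing

namespace Groth.Agent.S8838

open TensorProduct

/-- complete Nakayama: finiteness can be checked modulo `I`. -/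
lemma finite_of_finite_mod {A : Type*} [CommRing A] (I : Ideal A) [IsAdicComplete I A]
    {M N : Type*} [AddCommGroup M] [Module A M] [IsHausdorff I M] [AddCommGroup N] [Module A N]
    [Module.Finite A N] (g : M →ₗ[A] N) (hg : Function.Surjective g)
    (hker : LinearMap.ker g ≤ I • ⊤) : Module.Finite A M := by
  obtain ⟨n, s, hs⟩ := Module.Finite.exists_fin (R := A) (M := N)
  choose d hd using fun i => hg (s i)
  let f : (Fin n → A) →ₗ[A] M := Fintype.linearCombination A d
  have hfs : Function.Surjective ((I • ⊤ : Submodule A M).mkQ ∘ₗ f) := by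
    intro y
    obtain ⟨x, rfl⟩ := Submodule.mkQ_surjective _ y
    have hx : g x ∈ Submodule.span A (Set.range s) := by
      rw [hs]
      exact Submodule.mem_top
    obtain ⟨c, hc⟩ := (Submodule.mem_span_range_iff_exists_fun A).mp hx
    refine ⟨c, ?_⟩
    rw [LinearMap.comp_apply, Submodule.mkQ_apply, Submodule.mkQ_apply, Submodule.Quotient.eq]
    apply hker
    rw [LinearMap.mem_ker, map_sub, ← hc, sub_eq_zero]
    show g (Fintype.linearCombination A d c) = _
    rw [Fintype.linearCombination_apply, map_sum]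
    refine Finset.sum_congr rfl fun i _ => ?_
    rw [map_smul, hd i]
  haveI : IsPrecomplete I (Fin n → A) := Groth.Agent.H44.isPrecomplete_pi I (Fin n) A
  exact Module.Finite.of_surjective f (surjective_of_mkQ_comp_surjective hfs)

/-- `A ⧸ (p + I)` is Artinian when `A ⧸ p` is a one-dimensional domain and `I ⊄ p`. -/
lemma isArtinianRing_quotient_sup {A : Type*} [CommRing A] [IsNoetherianRing A] (I p : Ideal A)
    [p.IsPrime] (hdim : ringKrullDim (A ⧸ p) = 1) (hI : ¬ I ≤ p) :
    IsArtinianRing (A ⧸ (p ⊔ I)) := by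
  have hmax := ((Groth.Agent.S8804.dim_eq_one_iff (A ⧸ p)).mp hdim).2
  rw [isArtinianRing_iff_isNoetherianRing_krullDimLE_zero]
  refine ⟨inferInstance, Ring.KrullDimLE.mk₀ fun P hP => ?_⟩
  apply Groth.Agent.H44.isMaximal_of_comap_isMaximal (Ideal.Quotient.mk (p ⊔ I))
    Ideal.Quotient.mk_surjective
  have hP0prime : (P.comap (Ideal.Quotient.mk (p ⊔ I))).IsPrime := Ideal.comap_isPrime _ _
  have hle : p ⊔ I ≤ P.comap (Ideal.Quotient.mk (p ⊔ I)) := by
    intro x hx
    rw [Ideal.mem_comap, Ideal.Quotient.eq_zero_iff_mem.mpr hx]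
    exact P.zero_mem
  have hpP0 : p ≤ P.comap (Ideal.Quotient.mk (p ⊔ I)) := le_sup_left.trans hle
  have hprime' : ((P.comap (Ideal.Quotient.mk (p ⊔ I))).map (Ideal.Quotient.mk p)).IsPrime :=
    Ideal.map_isPrime_of_surjective Ideal.Quotient.mk_surjective (by rw [Ideal.mk_ker]; exact hpP0)
  have hne : (P.comap (Ideal.Quotient.mk (p ⊔ I))).map (Ideal.Quotient.mk p) ≠ ⊥ := by
    intro h0
    apply hI
    intro x hx
    have hxm : Ideal.Quotient.mk p x ∈
        (P.comap (Ideal.Quotient.mk (p ⊔ I))).map (Ideal.Quotient.mk p) :=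
      Ideal.mem_map_of_mem _ (hle (Ideal.mem_sup_right hx))
    rw [h0, Ideal.mem_bot, Ideal.Quotient.eq_zero_iff_mem] at hxm
    exact hxm
  have hmax' := hmax _ hne hprime'
  have hc : ((P.comap (Ideal.Quotient.mk (p ⊔ I))).map (Ideal.Quotient.mk p)).comap
      (Ideal.Quotient.mk p) = P.comap (Ideal.Quotient.mk (p ⊔ I)) := by
    rw [Ideal.comap_map_of_surjective' _ Ideal.Quotient.mk_surjective, Ideal.mk_ker,
      sup_eq_left.mpr hpP0]
  rw [← hc]
  exact Ideal.comap_isMaximal_of_surjective _ Ideal.Quotient.mk_surjective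

/-- if `Ω[S⁄R]` is finite, `I S` lies in the Jacobson radical and `S ⧸ I S` is formally
unramified over `R`, then so is `S`. -/
lemma formallyUnramified_of_quotient {R S : Type*} [CommRing R] [CommRing S] [Algebra R S]
    [Algebra.EssFiniteType R S] (I : Ideal R)
    (hjac : I.map (algebraMap R S) ≤ Ideal.jacobson ⊥)
    [Algebra.FormallyUnramified R (S ⧸ I.map (algebraMap R S))] :
    Algebra.FormallyUnramified R S := by
  constructor
  have key : ∀ x ∈ Ideal.map (algebraMap R S) I,
      (1 : S ⧸ I.map (algebraMap R S)) ⊗ₜ[S] (KaehlerDifferential.D R S x) = 0 := by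
    intro x hx
    induction hx using Submodule.span_induction with
    | zero => rw [map_zero, TensorProduct.tmul_zero]
    | mem x h =>
      obtain ⟨r, hr, rfl⟩ := h
      rw [Derivation.map_algebraMap, TensorProduct.tmul_zero]
    | add x y hx hy ihx ihy => rw [map_add, TensorProduct.tmul_add, ihx, ihy, add_zero]
    | smul a x hx ih =>
      have hx0 : algebraMap S (S ⧸ I.map (algebraMap R S)) x = 0 :=
        Ideal.Quotient.eq_zero_iff_mem.mpr hx
      rw [smul_eq_mul, Derivation.leibniz, TensorProduct.tmul_add, TensorProduct.tmul_smul, ih,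
        smul_zero, zero_add, ← TensorProduct.smul_tmul, Algebra.smul_def, mul_one, hx0,
        TensorProduct.zero_tmul]
  have hsub : Subsingleton ((S ⧸ I.map (algebraMap R S)) ⊗[S] Ω[S⁄R]) := by
    refine subsingleton_of_forall_eq 0 fun x => ?_
    obtain ⟨y, rfl⟩ := (KaehlerDifferential.exact_kerCotangentToTensor_mapBaseChange R S
      (S ⧸ I.map (algebraMap R S)) Ideal.Quotient.mk_surjective x).mp (Subsingleton.elim _ _)
    obtain ⟨⟨z, hz⟩, rfl⟩ := Ideal.toCotangent_surjective _ y
    rw [KaehlerDifferential.kerCotangentToTensor_toCotangent]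
    exact key z (Ideal.Quotient.eq_zero_iff_mem.mp (RingHom.mem_ker.mp hz))
  have htop : (⊤ : Submodule S Ω[S⁄R]) ≤ (I.map (algebraMap R S)) • ⊤ := by
    have e := TensorProduct.quotTensorEquivQuotSMul Ω[S⁄R] (I.map (algebraMap R S))
    have hs2 : Subsingleton (Ω[S⁄R] ⧸ ((I.map (algebraMap R S)) • (⊤ : Submodule S Ω[S⁄R]))) :=
      e.symm.injective.subsingleton
    rw [Submodule.Quotient.subsingleton_iff] at hs2
    rw [hs2]
  have hbot := Submodule.eq_bot_of_le_smul_of_le_jacobson_bot (I.map (algebraMap R S)) ⊤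
    Module.Finite.fg_top htop hjac
  exact (Submodule.subsingleton_iff S).mp (subsingleton_of_bot_eq_top hbot.symm)

section Core

variable (A : Type u) [CommRing A] [IsNoetherianRing A] (I : Ideal A) [IsAdicComplete I A]
  (B : Type u) [CommRing B] [Algebra A B] [IsNoetherianRing B]
  [IsAdicComplete (I.map (algebraMap A B)) B]

/-- `B ⧸ p B` is finite and unramified over `A` for a rig-closed `p`. -/
theorem finite_quotient_map (hft : Algebra.FiniteType A (B ⧸ I.map (algebraMap A B)))
    [Algebra.FormallyUnramified (A ⧸ I) (B ⧸ I.map (algebraMap A B))]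
    (p : Ideal A) [p.IsPrime] (hdim : ringKrullDim (A ⧸ p) = 1) (hIp : ¬ I ≤ p) :
    Module.Finite A (B ⧸ p.map (algebraMap A B)) ∧
      Algebra.FormallyUnramified A (B ⧸ p.map (algebraMap A B)) := by
  have hJK : I.map (algebraMap A B) ≤ (p ⊔ I).map (algebraMap A B) := Ideal.map_mono le_sup_right
  have hpK : p.map (algebraMap A B) ≤ (p ⊔ I).map (algebraMap A B) := Ideal.map_mono le_sup_left
  have hsJK : Function.Surjective (Ideal.Quotient.factorₐ A hJK) := by
    intro y
    obtain ⟨b, rfl⟩ := Ideal.Quotient.mk_surjective y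
    exact ⟨Ideal.Quotient.mk _ b, rfl⟩
  have hspK : Function.Surjective (Ideal.Quotient.factorₐ A hpK).toLinearMap := by
    intro y
    obtain ⟨b, rfl⟩ := Ideal.Quotient.mk_surjective y
    exact ⟨Ideal.Quotient.mk _ b, rfl⟩
  haveI hu0 : Algebra.FormallyUnramified A (A ⧸ I) := inferInstance
  haveI hu1 : Algebra.FormallyUnramified A (B ⧸ I.map (algebraMap A B)) :=
    Algebra.FormallyUnramified.comp A (A ⧸ I) (B ⧸ I.map (algebraMap A B))
  haveI hu2 : Algebra.FormallyUnramified A (B ⧸ (p ⊔ I).map (algebraMap A B)) :=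
    Algebra.FormallyUnramified.of_surjective (Ideal.Quotient.factorₐ A hJK) hsJK
  haveI hu3 : Algebra.FormallyUnramified (A ⧸ (p ⊔ I)) (B ⧸ (p ⊔ I).map (algebraMap A B)) :=
    Algebra.FormallyUnramified.of_restrictScalars A _ _
  haveI hft2 : Algebra.FiniteType A (B ⧸ (p ⊔ I).map (algebraMap A B)) :=
    hft.of_surjective (Ideal.Quotient.factorₐ A hJK) hsJK
  haveI hft3 : Algebra.FiniteType (A ⧸ (p ⊔ I)) (B ⧸ (p ⊔ I).map (algebraMap A B)) :=
    Algebra.FiniteType.of_restrictScalars_finiteType A _ _
  haveI hArt := isArtinianRing_quotient_sup I p hdim hIp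
  haveI hfin3 : Module.Finite (A ⧸ (p ⊔ I)) (B ⧸ (p ⊔ I).map (algebraMap A B)) :=
    Module.Finite.of_quasiFinite
  haveI hfin1 : Module.Finite A (A ⧸ (p ⊔ I)) :=
    Module.Finite.of_surjective (Algebra.linearMap A (A ⧸ (p ⊔ I))) Ideal.Quotient.mk_surjective
  haveI hfin2 : Module.Finite A (B ⧸ (p ⊔ I).map (algebraMap A B)) :=
    Module.Finite.trans (A ⧸ (p ⊔ I)) _
  have hcomp : IsAdicComplete
      ((I.map (algebraMap A B)).map (Ideal.Quotient.mk (p.map (algebraMap A B))))
      (B ⧸ p.map (algebraMap A B)) := Groth.Agent.S8804.isAdicComplete_quotient _ _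
  have hmapeq : (I.map (algebraMap A B)).map (Ideal.Quotient.mk (p.map (algebraMap A B))) =
      I.map (algebraMap A (B ⧸ p.map (algebraMap A B))) := by
    rw [IsScalarTower.algebraMap_eq A B (B ⧸ p.map (algebraMap A B)), ← Ideal.map_map]
    rfl
  rw [hmapeq] at hcomp
  haveI hH : IsHausdorff I (B ⧸ p.map (algebraMap A B)) :=
    IsHausdorff.map_algebraMap_iff.mp hcomp.toIsHausdorff
  have hfinB' : Module.Finite A (B ⧸ p.map (algebraMap A B)) := by
    refine finite_of_finite_mod I (Ideal.Quotient.factorₐ A hpK).toLinearMap hspK ?_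
    intro x hx
    obtain ⟨b, rfl⟩ := Ideal.Quotient.mk_surjective x
    have hx' : Ideal.Quotient.mk ((p ⊔ I).map (algebraMap A B)) b = 0 := hx
    have hb : b ∈ (p ⊔ I).map (algebraMap A B) := Ideal.Quotient.eq_zero_iff_mem.mp hx'
    rw [Ideal.map_sup] at hb
    obtain ⟨b1, hb1, b2, hb2, rfl⟩ := Submodule.mem_sup.mp hb
    have h0 : Ideal.Quotient.mk (p.map (algebraMap A B)) b1 = 0 :=
      Ideal.Quotient.eq_zero_iff_mem.mpr hb1
    rw [map_add, h0, zero_add]
    have hmem : Ideal.Quotient.mk (p.map (algebraMap A B)) b2 ∈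
        I.map (algebraMap A (B ⧸ p.map (algebraMap A B))) := by
      rw [← hmapeq]
      exact Ideal.mem_map_of_mem _ hb2
    rw [Ideal.smul_top_eq_map]
    exact hmem
  refine ⟨hfinB', ?_⟩
  haveI := hfinB'
  haveI huT : Algebra.FormallyUnramified A ((B ⧸ p.map (algebraMap A B)) ⧸
      I.map (algebraMap A (B ⧸ p.map (algebraMap A B)))) := by
    let φ : (B ⧸ I.map (algebraMap A B)) →ₐ[A] ((B ⧸ p.map (algebraMap A B)) ⧸
        I.map (algebraMap A (B ⧸ p.map (algebraMap A B)))) :=
      Ideal.Quotient.liftₐ (I.map (algebraMap A B))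
        ((Ideal.Quotient.mkₐ A _).comp (Ideal.Quotient.mkₐ A (p.map (algebraMap A B)))) (by
          intro b hb
          show Ideal.Quotient.mk _ (Ideal.Quotient.mk _ b) = 0
          rw [Ideal.Quotient.eq_zero_iff_mem, ← hmapeq]
          exact Ideal.mem_map_of_mem _ hb)
    refine Algebra.FormallyUnramified.of_surjective φ ?_
    intro y
    obtain ⟨y', rfl⟩ := Ideal.Quotient.mk_surjective y
    obtain ⟨b, rfl⟩ := Ideal.Quotient.mk_surjective y'
    exact ⟨Ideal.Quotient.mk _ b, rfl⟩
  refine formallyUnramified_of_quotient I ?_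
  exact IsAdicComplete.le_jacobson_bot _

end Core

/-- the local statement: if `B ⧸ p B` is finite and unramified over `A` with `p = q ∩ A`,
then `p B_q = q B_q`. -/
lemma map_eq_maximalIdeal_of_unramified {A B : Type u} [CommRing A] [CommRing B] [Algebra A B]
    (q : Ideal B) [q.IsPrime] (p : Ideal A) [p.IsPrime] (hp : q.comap (algebraMap A B) = p)
    [Module.Finite A (B ⧸ p.map (algebraMap A B))]
    [Algebra.FormallyUnramified A (B ⧸ p.map (algebraMap A B))] :
    (p.map (algebraMap A B)).map (algebraMap B (Localization.AtPrime q)) =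
      IsLocalRing.maximalIdeal (Localization.AtPrime q) := by
  have hpq : p.map (algebraMap A B) ≤ q := by
    rw [← hp]
    exact Ideal.map_comap_le
  haveI hq'prime : (q.map (Ideal.Quotient.mk (p.map (algebraMap A B)))).IsPrime :=
    Ideal.map_isPrime_of_surjective Ideal.Quotient.mk_surjective (by rw [Ideal.mk_ker]; exact hpq)
  have hcm : (q.map (Ideal.Quotient.mk (p.map (algebraMap A B)))).comap
      (Ideal.Quotient.mk (p.map (algebraMap A B))) = q := by
    rw [Ideal.comap_map_of_surjective' _ Ideal.Quotient.mk_surjective, Ideal.mk_ker,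
      sup_eq_left.mpr hpq]
  haveI hlo : (q.map (Ideal.Quotient.mk (p.map (algebraMap A B)))).LiesOver p := ⟨by
    show p = (q.map (Ideal.Quotient.mk _)).comap (algebraMap A (B ⧸ p.map (algebraMap A B)))
    rw [IsScalarTower.algebraMap_eq A B (B ⧸ p.map (algebraMap A B)), ← Ideal.comap_comap]
    have h2 : (q.map (Ideal.Quotient.mk (p.map (algebraMap A B)))).comap
        (algebraMap B (B ⧸ p.map (algebraMap A B))) = q := hcm
    rw [h2, hp]⟩
  letI := Localization.AtPrime.algebraOfLiesOver p
    (q.map (Ideal.Quotient.mk (p.map (algebraMap A B))))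
  haveI : Algebra.FiniteType A (B ⧸ p.map (algebraMap A B)) := inferInstance
  have hmax := (Algebra.isUnramifiedAt_iff_map_eq A p
    (q.map (Ideal.Quotient.mk (p.map (algebraMap A B))))).mp inferInstance
  have hbot : IsLocalRing.maximalIdeal
      (Localization.AtPrime (q.map (Ideal.Quotient.mk (p.map (algebraMap A B))))) = ⊥ := by
    rw [← hmax.2, IsScalarTower.algebraMap_eq A (B ⧸ p.map (algebraMap A B))
      (Localization.AtPrime (q.map (Ideal.Quotient.mk (p.map (algebraMap A B))))),
      ← Ideal.map_map]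
    have h0 : p.map (algebraMap A (B ⧸ p.map (algebraMap A B))) = ⊥ := by
      rw [IsScalarTower.algebraMap_eq A B (B ⧸ p.map (algebraMap A B)), ← Ideal.map_map]
      exact Ideal.map_quotient_self _
    rw [h0, Ideal.map_bot]
  obtain ⟨e⟩ := Groth.Agent.H44.NagataJac.nonempty_ringEquiv (p.map (algebraMap A B)) q hpq
  have hfield : IsField
      (Localization.AtPrime (q.map (Ideal.Quotient.mk (p.map (algebraMap A B))))) :=
    IsLocalRing.isField_iff_maximalIdeal_eq.mpr hbot
  have hfield2 : IsField (Localization.AtPrime q ⧸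
      (p.map (algebraMap A B)).map (algebraMap B (Localization.AtPrime q))) :=
    e.symm.toMulEquiv.isField hfield
  have hmax2 := Ideal.Quotient.maximal_of_isField _ hfield2
  exact IsLocalRing.eq_maximalIdeal hmax2


/-- Suppose A is a Noetherian ring that is I-adically complete for an ideal I, and B is a Noetherian
A-algebra that is complete with respect to the IB-adic topology, with B/IB of finite type over A (so
A → B is an adic morphism of adic Noetherian topological rings that is topologically of finite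
type). Assume further that A → B is flat and that the induced map A/I → B/IB is étale (with I as the
chosen ideal of definition). Consider a prime q of B that is rig-closed (q does not contain IB, and
q is maximal among primes of B not containing IB), and suppose its preimage p in A is rig-closed as
well (p does not contain I, and p is maximal among primes of A not containing I). Then the extension
of p to the localization B_q equals its maximal ideal, that is, p B_q = q B_q. -/
theorem result (A : Type u) [CommRing A] [IsNoetherianRing A] (I : Ideal A) [IsAdicComplete I A] (B : Type u) [CommRing B] [Algebra A B] [IsNoetherianRing B] [IsAdicComplete (I.map (algebraMap A B)) B] (hft : Algebra.FiniteType A (B ⧸ (I.map (algebraMap A B)))) [Module.Flat A B] [Algebra.Etale (A ⧸ I) (B ⧸ (I.map (algebraMap A B)))] (q : PrimeSpectrum B) (hq : (¬ (I.map (algebraMap A B)) ≤ q.asIdeal ∧ ∀ y : PrimeSpectrum B, q ≤ y → ¬ (I.map (algebraMap A B)) ≤ y.asIdeal → y = q)) (hp : (¬ I ≤ (PrimeSpectrum.comap (algebraMap A B) q).asIdeal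 ∧ ∀ y : PrimeSpectrum A, (PrimeSpectrum.comap (algebraMap A B) q) ≤ y → ¬ I ≤ y.asIdeal → y = (PrimeSpectrum.comap (algebraMap A B) q))) : ((PrimeSpectrum.comap (algebraMap A B) q).asIdeal.map (algebraMap A B)).map (algebraMap B (Localization.AtPrime q.asIdeal)) = IsLocalRing.maximalIdeal (Localization.AtPrime q.asIdeal) := by
  have hqprime : q.asIdeal.IsPrime := q.isPrime
  haveI hpprime : (q.asIdeal.comap (algebraMap A B)).IsPrime := Ideal.comap_isPrime _ _
  have h8 := ((Groth.Agent.S8804.result A I (PrimeSpectrum.comap (algebraMap A B) q)).out 0 2).mp hp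
  have hdim : ringKrullDim (A ⧸ q.asIdeal.comap (algebraMap A B)) = 1 := h8.1
  have hIp : ¬ I ≤ q.asIdeal.comap (algebraMap A B) := hp.1
  haveI : Algebra.FormallyUnramified (A ⧸ I) (B ⧸ I.map (algebraMap A B)) := inferInstance
  obtain ⟨hfin, hunr⟩ := finite_quotient_map A I B hft (q.asIdeal.comap (algebraMap A B)) hdim hIp
  exact map_eq_maximalIdeal_of_unramified q.asIdeal (q.asIdeal.comap (algebraMap A B)) rfl

end Groth.Agent.S8838
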