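import Groth.Statements.S8839
import Groth.Agent.S8838
import Groth.Agent.Lead.CompleteNoetherian
import Mathlib.RingTheory.AdicCompletion.AsTensorProduct
import Mathlib.RingTheory.AdicCompletion.Completeness
import Mathlib.RingTheory.Flat.Localization
import Mathlib.RingTheory.Flat.FaithfullyFlat.Algebra

set_option autoImplicit false
universe u
open AdicRing

namespace Groth.Agent.S8839

/-- Nakayama: a submodule which is dense modulo `I` in a finite module is everything. -/
lemma eq_top_of_dense {A : Type*} [CommRing A] (I : Ideal A) (hI : I ≤ Ideal.jacobson ⊥)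
    {M : Type*} [AddCommGroup M] [Module A M] [Module.Finite A M] (N : Submodule A M)
    (h : ∀ x : M, ∃ y ∈ N, x - y ∈ I • (⊤ : Submodule A M)) : N = ⊤ := by
  rw [eq_top_iff]
  refine Submodule.le_of_le_smul_of_le_jacobson_bot Module.Finite.fg_top hI ?_
  intro x _
  obtain ⟨y, hy, hxy⟩ := h x
  have hx : x = y + (x - y) := by abel
  rw [hx]
  exact Submodule.add_mem_sup hy hxy

lemma mk_mem_smul_top {A S : Type*} [CommRing A] [CommRing S] [Algebra A S] (I : Ideal A)
    (Q : Ideal S) {j : S} (hj : j ∈ I.map (algebraMap A S)) :
    Ideal.Quotient.mk Q j ∈ (I • ⊤ : Submodule A (S ⧸ Q)) := by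
  rw [Ideal.smul_top_eq_map, Submodule.restrictScalars_mem,
    IsScalarTower.algebraMap_eq A S (S ⧸ Q), ← Ideal.map_map]
  exact Ideal.mem_map_of_mem (algebraMap S (S ⧸ Q)) hj

section Key

variable (A : Type u) [CommRing A] [IsNoetherianRing A] (I : Ideal A) [IsAdicComplete I A]
  (P : Type u) [CommRing P] [Algebra A P]
  (S : Type u) [CommRing S] [Algebra A S] [Algebra P S] [IsScalarTower A P S]
  [IsNoetherianRing S] [IsAdicComplete (I.map (algebraMap A S)) S]

/-- if `P` is dense in `S` modulo `I S` and `P ⧸ (Q ∩ P)` is finite over `A`, then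
`P → S ⧸ Q` is surjective. -/
theorem dense_quot (hdense : ∀ s : S, ∃ a : P, s - algebraMap P S a ∈ I.map (algebraMap A S))
    (Q : Ideal S) [hfin : Module.Finite A (P ⧸ Q.comap (algebraMap P S))] :
    ∀ s : S, ∃ a : P, s - algebraMap P S a ∈ Q := by
  have hjac : I.map (algebraMap A S) ≤ Ideal.jacobson ⊥ := IsAdicComplete.le_jacobson_bot _
  have hjacA : I ≤ Ideal.jacobson ⊥ := IsAdicComplete.le_jacobson_bot I
  let g : P →ₐ[A] S ⧸ Q := (Ideal.Quotient.mkₐ A Q).comp (IsScalarTower.toAlgHom A P S)
  have hg : ∀ a : P, g a = Ideal.Quotient.mk Q (algebraMap P S a) := fun a => rfl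
  let g' : (P ⧸ Q.comap (algebraMap P S)) →ₐ[A] S ⧸ Q :=
    Ideal.Quotient.liftₐ _ g (fun a ha => by
      rw [hg]
      exact Ideal.Quotient.eq_zero_iff_mem.mpr ha)
  have hg' : ∀ a : P, g' (Ideal.Quotient.mk _ a) = Ideal.Quotient.mk Q (algebraMap P S a) :=
    fun a => rfl
  haveI hH : IsHausdorff I (S ⧸ Q) := by
    have h1 : IsHausdorff (I.map (algebraMap A S)) (S ⧸ Q) := IsHausdorff.of_le_jacobson _ _ hjac
    exact IsHausdorff.map_algebraMap_iff.mp h1
  haveI hfinmod : Module.Finite A ((S ⧸ Q) ⧸ (I • ⊤ : Submodule A (S ⧸ Q))) := by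
    refine Module.Finite.of_surjective ((I • ⊤ : Submodule A (S ⧸ Q)).mkQ ∘ₗ g'.toLinearMap) ?_
    intro y
    obtain ⟨x, rfl⟩ := Submodule.mkQ_surjective _ y
    obtain ⟨s, rfl⟩ := Ideal.Quotient.mk_surjective x
    obtain ⟨a, ha⟩ := hdense s
    refine ⟨Ideal.Quotient.mk _ a, ?_⟩
    rw [LinearMap.comp_apply, Submodule.mkQ_apply, Submodule.mkQ_apply, eq_comm,
      Submodule.Quotient.eq]
    show Ideal.Quotient.mk Q s - Ideal.Quotient.mk Q (algebraMap P S a) ∈ _
    rw [← map_sub]
    exact mk_mem_smul_top I Q ha
  haveI hfinM : Module.Finite A (S ⧸ Q) :=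
    Groth.Agent.S8838.finite_of_finite_mod I (I • ⊤ : Submodule A (S ⧸ Q)).mkQ
      (Submodule.mkQ_surjective _) (Submodule.ker_mkQ _).le
  have htop : LinearMap.range g.toLinearMap = ⊤ := by
    refine eq_top_of_dense I hjacA _ fun x => ?_
    obtain ⟨s, rfl⟩ := Ideal.Quotient.mk_surjective x
    obtain ⟨a, ha⟩ := hdense s
    refine ⟨g a, ⟨a, rfl⟩, ?_⟩
    rw [hg, ← map_sub]
    exact mk_mem_smul_top I Q ha
  intro s
  have hs : Ideal.Quotient.mk Q s ∈ LinearMap.range g.toLinearMap := by
    rw [htop]
    exact Submodule.mem_top
  obtain ⟨a, ha⟩ := hs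
  refine ⟨a, ?_⟩
  rw [← Ideal.Quotient.eq]
  exact ha.symm

variable [Algebra.FiniteType A P]

theorem key (hdense : ∀ s : S, ∃ a : P, s - algebraMap P S a ∈ I.map (algebraMap A S))
    (q : PrimeSpectrum S)
    (hq : ¬ (I.map (algebraMap A S)) ≤ q.asIdeal ∧ ∀ y : PrimeSpectrum S, q ≤ y →
      ¬ (I.map (algebraMap A S)) ≤ y.asIdeal → y = q)
    (hp : ¬ I ≤ (PrimeSpectrum.comap (algebraMap A S) q).asIdeal ∧
      ∀ y : PrimeSpectrum A, PrimeSpectrum.comap (algebraMap A S) q ≤ y → ¬ I ≤ y.asIdeal →
        y = PrimeSpectrum.comap (algebraMap A S) q) :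
    (q.asIdeal.comap (algebraMap P S)).map (algebraMap P S) = q.asIdeal ∧
      ∀ s : S, ∃ a : P, s - algebraMap P S a ∈ q.asIdeal := by
  have hqprime := q.isPrime
  have hjac : I.map (algebraMap A S) ≤ Ideal.jacobson ⊥ := IsAdicComplete.le_jacobson_bot _
  haveI hpprime : (q.asIdeal.comap (algebraMap A S)).IsPrime := Ideal.comap_isPrime _ _
  have h8 := ((Groth.Agent.S8804.result A I (PrimeSpectrum.comap (algebraMap A S) q)).out 0 2).mp hp
  have hdim : ringKrullDim (A ⧸ q.asIdeal.comap (algebraMap A S)) = 1 := h8.1
  haveI hArt : IsArtinianRing (A ⧸ (q.asIdeal.comap (algebraMap A S) ⊔ I)) :=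
    Groth.Agent.S8838.isArtinianRing_quotient_sup I _ hdim hp.1
  have hres : ∀ m : Ideal S, m.IsMaximal → q.asIdeal ≤ m → Module.Finite A (S ⧸ m) := by
    intro m hm hqm
    haveI := hm
    have hIm : I.map (algebraMap A S) ≤ m := hjac.trans (sInf_le ⟨bot_le, hm⟩)
    haveI : Algebra.FiniteType A (S ⧸ m) := by
      refine (inferInstance : Algebra.FiniteType A P).of_surjective
        ((Ideal.Quotient.mkₐ A m).comp (IsScalarTower.toAlgHom A P S)) ?_
      intro y
      obtain ⟨s, rfl⟩ := Ideal.Quotient.mk_surjective y
      obtain ⟨a, ha⟩ := hdense s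
      refine ⟨a, ?_⟩
      show Ideal.Quotient.mk m (algebraMap P S a) = Ideal.Quotient.mk m s
      rw [eq_comm, Ideal.Quotient.eq]
      exact hIm ha
    have hK : q.asIdeal.comap (algebraMap A S) ⊔ I ≤ m.comap (algebraMap A S) := by
      refine sup_le (Ideal.comap_mono hqm) ?_
      intro a ha
      exact hIm (Ideal.mem_map_of_mem _ ha)
    exact Groth.Agent.H44.finite_quotient_maximal_of_isJacobsonRing
      (q.asIdeal.comap (algebraMap A S) ⊔ I) m hK
  haveI hfinC : Module.Finite A (S ⧸ q.asIdeal) :=
    Groth.Agent.H44.finite_quotient_of_residue_finite A I S q hq hres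
  haveI hfinPq' : Module.Finite A (P ⧸ q.asIdeal.comap (algebraMap P S)) := by
    let g' : (P ⧸ q.asIdeal.comap (algebraMap P S)) →ₐ[A] S ⧸ q.asIdeal :=
      Ideal.Quotient.liftₐ _ ((Ideal.Quotient.mkₐ A q.asIdeal).comp (IsScalarTower.toAlgHom A P S))
        (fun a ha => by
          show Ideal.Quotient.mk q.asIdeal (algebraMap P S a) = 0
          exact Ideal.Quotient.eq_zero_iff_mem.mpr ha)
    refine Module.Finite.of_injective g'.toLinearMap ?_
    intro x y hxy
    obtain ⟨a, rfl⟩ := Ideal.Quotient.mk_surjective x
    obtain ⟨b, rfl⟩ := Ideal.Quotient.mk_surjective y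
    have h1 : Ideal.Quotient.mk q.asIdeal (algebraMap P S a) =
        Ideal.Quotient.mk q.asIdeal (algebraMap P S b) := hxy
    rw [Ideal.Quotient.eq, ← map_sub] at h1
    rw [Ideal.Quotient.eq]
    exact h1
  have hsurjC := dense_quot A I P S hdense q.asIdeal
  have hle : q.asIdeal.comap (algebraMap P S) ≤
      ((q.asIdeal.comap (algebraMap P S)).map (algebraMap P S)).comap (algebraMap P S) :=
    Ideal.le_comap_map
  haveI : Module.Finite A
      (P ⧸ ((q.asIdeal.comap (algebraMap P S)).map (algebraMap P S)).comap (algebraMap P S)) :=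
    Module.Finite.of_surjective (Ideal.Quotient.factorₐ A hle).toLinearMap (fun y => by
      obtain ⟨b, rfl⟩ := Ideal.Quotient.mk_surjective y
      exact ⟨Ideal.Quotient.mk _ b, rfl⟩)
  have hsurjM := dense_quot A I P S hdense
    ((q.asIdeal.comap (algebraMap P S)).map (algebraMap P S))
  refine ⟨le_antisymm Ideal.map_comap_le ?_, hsurjC⟩
  intro s hs
  obtain ⟨a, ha⟩ := hsurjM s
  have haq : s - algebraMap P S a ∈ q.asIdeal := Ideal.map_comap_le ha
  have ha' : algebraMap P S a ∈ q.asIdeal := by
    have h2 := q.asIdeal.sub_mem hs haq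
    rwa [sub_sub_cancel] at h2
  have h3 : algebraMap P S a ∈ (q.asIdeal.comap (algebraMap P S)).map (algebraMap P S) :=
    Ideal.mem_map_of_mem _ ha'
  have h4 := Ideal.add_mem _ ha h3
  rwa [sub_add_cancel] at h4

end Key

section Inst

variable (A : Type u) [CommRing A] [IsNoetherianRing A] (I : Ideal A)
  (P : Type u) [CommRing P] [Algebra A P] [IsNoetherianRing P]

lemma tower : IsScalarTower A P (AdicCompletion (I.map (algebraMap A P)) P) :=
  IsScalarTower.of_algebraMap_eq (fun _ => rfl)

lemma mapeq : (I.map (algebraMap A P)).map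
      (algebraMap P (AdicCompletion (I.map (algebraMap A P)) P)) =
    I.map (algebraMap A (AdicCompletion (I.map (algebraMap A P)) P)) := by
  haveI := tower A I P
  rw [Ideal.map_map, ← IsScalarTower.algebraMap_eq]

lemma fg : (I.map (algebraMap A P)).FG := Ideal.FG.map (IsNoetherian.noetherian I) _

lemma noeth : IsNoetherianRing (AdicCompletion (I.map (algebraMap A P)) P) :=
  Groth.Agent.Lead.isNoetherianRing_adicCompletion _ (fg A I P)

lemma complete : IsAdicComplete (I.map (algebraMap A (AdicCompletion (I.map (algebraMap A P)) P)))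
    (AdicCompletion (I.map (algebraMap A P)) P) := by
  rw [← mapeq]
  exact (IsAdicComplete.map_algebraMap_iff (I := I.map (algebraMap A P))
    (S := AdicCompletion (I.map (algebraMap A P)) P)
    (M := AdicCompletion (I.map (algebraMap A P)) P)).2 (AdicCompletion.isAdicComplete (fg A I P))

lemma dense : ∀ s : AdicCompletion (I.map (algebraMap A P)) P, ∃ a : P,
    s - algebraMap P (AdicCompletion (I.map (algebraMap A P)) P) a ∈
      I.map (algebraMap A (AdicCompletion (I.map (algebraMap A P)) P)) := by
  intro s
  obtain ⟨a, ha⟩ := Ideal.Quotient.mk_surjective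
    (AdicCompletion.evalOneₐ (I.map (algebraMap A P)) s)
  refine ⟨a, ?_⟩
  rw [← mapeq, ← AdicCompletion.ker_evalOneₐ_eq_map _ (fg A I P), RingHom.mem_ker]
  show AdicCompletion.evalOneₐ (I.map (algebraMap A P))
    (s - AdicCompletion.of (I.map (algebraMap A P)) P a) = 0
  have h2 : AdicCompletion.evalOneₐ (I.map (algebraMap A P))
      (AdicCompletion.of (I.map (algebraMap A P)) P a) =
      AdicCompletion.evalOneₐ (I.map (algebraMap A P)) s := by
    rw [AdicCompletion.evalOneₐ_of]
    exact ha
  rw [map_sub, h2, sub_self]

end Inst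

/-- the local statement: a flat map `P → S` with `q' S = q` and `P → S ⧸ q` surjective induces
isomorphisms `P_{q'} ⧸ 𝔪^m ≃ S_q ⧸ 𝔪^m`. -/
lemma local_compl {P S : Type u} [CommRing P] [CommRing S] [Algebra P S] [Module.Flat P S]
    (q : Ideal S) [q.IsPrime]
    (hmap : (q.comap (algebraMap P S)).map (algebraMap P S) = q)
    (hsurj : ∀ s : S, ∃ a : P, s - algebraMap P S a ∈ q) (m : ℕ) :
    (∀ x : Localization.AtPrime (q.comap (algebraMap P S)),
        Localization.localRingHom (q.comap (algebraMap P S)) q (algebraMap P S) rfl x ∈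
          IsLocalRing.maximalIdeal (Localization.AtPrime q) ^ m →
        x ∈ IsLocalRing.maximalIdeal (Localization.AtPrime (q.comap (algebraMap P S))) ^ m) ∧
    (∀ y : Localization.AtPrime q, ∃ x : Localization.AtPrime (q.comap (algebraMap P S)),
        y - Localization.localRingHom (q.comap (algebraMap P S)) q (algebraMap P S) rfl x ∈
          IsLocalRing.maximalIdeal (Localization.AtPrime q) ^ m) := by
  haveI hlo : q.LiesOver (q.comap (algebraMap P S)) := ⟨rfl⟩
  letI alg := Localization.AtPrime.algebraOfLiesOver (q.comap (algebraMap P S)) q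
  haveI : IsLocalHom (algebraMap (Localization.AtPrime (q.comap (algebraMap P S)))
      (Localization.AtPrime q)) :=
    Localization.isLocalHom_localRingHom _ _ _ _
  haveI hflat : Module.Flat (Localization.AtPrime (q.comap (algebraMap P S)))
      (Localization.AtPrime q) := inferInstance
  haveI hff : Module.FaithfullyFlat (Localization.AtPrime (q.comap (algebraMap P S)))
      (Localization.AtPrime q) := Module.FaithfullyFlat.of_flat_of_isLocalHom
  have hcomp : (algebraMap (Localization.AtPrime (q.comap (algebraMap P S)))
      (Localization.AtPrime q)).comp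
      (algebraMap P (Localization.AtPrime (q.comap (algebraMap P S)))) =
      (algebraMap S (Localization.AtPrime q)).comp (algebraMap P S) := by
    ext a
    exact Localization.localRingHom_to_map _ _ _ rfl a
  have hmax : (IsLocalRing.maximalIdeal (Localization.AtPrime (q.comap (algebraMap P S)))).map
      (algebraMap (Localization.AtPrime (q.comap (algebraMap P S))) (Localization.AtPrime q)) =
      IsLocalRing.maximalIdeal (Localization.AtPrime q) := by
    rw [← Localization.AtPrime.map_eq_maximalIdeal (I := q.comap (algebraMap P S)),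
      Ideal.map_map, hcomp, ← Ideal.map_map, hmap, Localization.AtPrime.map_eq_maximalIdeal]
  refine ⟨fun x hx => ?_, ?_⟩
  · have h1 := Ideal.comap_map_eq_self_of_faithfullyFlat (B := Localization.AtPrime q)
      (IsLocalRing.maximalIdeal (Localization.AtPrime (q.comap (algebraMap P S))) ^ m)
    rw [← h1, Ideal.mem_comap, Ideal.map_pow, hmax]
    exact hx
  · have hres : ∀ y : Localization.AtPrime q,
        ∃ x : Localization.AtPrime (q.comap (algebraMap P S)),
        y - algebraMap (Localization.AtPrime (q.comap (algebraMap P S)))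
          (Localization.AtPrime q) x ∈ IsLocalRing.maximalIdeal (Localization.AtPrime q) := by
      intro y
      obtain ⟨⟨s, u⟩, rfl⟩ := IsLocalization.mk'_surjective q.primeCompl y
      obtain ⟨a, ha⟩ := hsurj s
      obtain ⟨b, hb⟩ := hsurj (u : S)
      have hbq' : algebraMap P S b ∉ q := by
        intro hbq
        apply u.2
        have h2 := q.add_mem hb hbq
        rwa [sub_add_cancel] at h2
      have hbq : b ∈ (q.comap (algebraMap P S)).primeCompl := hbq'
      refine ⟨IsLocalization.mk' _ a ⟨b, hbq⟩, ?_⟩
      have hunit : IsUnit (algebraMap S (Localization.AtPrime q) (u * algebraMap P S b)) :=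
        IsLocalization.map_units (Localization.AtPrime q)
          (⟨u * algebraMap P S b, q.primeCompl.mul_mem u.2 hbq'⟩ : q.primeCompl)
      rw [← Ideal.mul_unit_mem_iff_mem _ hunit]
      have e1 : IsLocalization.mk' (Localization.AtPrime q) s u *
          algebraMap S (Localization.AtPrime q) (u : S) = algebraMap S (Localization.AtPrime q) s :=
        IsLocalization.mk'_spec _ s u
      have h5 : ∀ c : P, algebraMap (Localization.AtPrime (q.comap (algebraMap P S)))
          (Localization.AtPrime q)
          (algebraMap P (Localization.AtPrime (q.comap (algebraMap P S))) c) =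
          algebraMap S (Localization.AtPrime q) (algebraMap P S c) :=
        fun c => RingHom.congr_fun hcomp c
      have e2 : algebraMap (Localization.AtPrime (q.comap (algebraMap P S)))
          (Localization.AtPrime q)
          (IsLocalization.mk' (Localization.AtPrime (q.comap (algebraMap P S))) a ⟨b, hbq⟩) *
          algebraMap S (Localization.AtPrime q) (algebraMap P S b) =
          algebraMap S (Localization.AtPrime q) (algebraMap P S a) := by
        have e3 := IsLocalization.mk'_spec (Localization.AtPrime (q.comap (algebraMap P S))) a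
          ⟨b, hbq⟩
        have e4 := congrArg (algebraMap (Localization.AtPrime (q.comap (algebraMap P S)))
          (Localization.AtPrime q)) e3
        rw [map_mul] at e4
        rw [← h5, ← h5]
        exact e4
      have e5 : (IsLocalization.mk' (Localization.AtPrime q) s u -
          algebraMap (Localization.AtPrime (q.comap (algebraMap P S))) (Localization.AtPrime q)
          (IsLocalization.mk' (Localization.AtPrime (q.comap (algebraMap P S))) a ⟨b, hbq⟩)) *
          algebraMap S (Localization.AtPrime q) (u * algebraMap P S b) =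
          algebraMap S (Localization.AtPrime q)
            (s * algebraMap P S b - algebraMap P S a * u) := by
        have h6 : algebraMap S (Localization.AtPrime q)
            (s * algebraMap P S b - algebraMap P S a * u) =
            algebraMap S (Localization.AtPrime q) s *
              algebraMap S (Localization.AtPrime q) (algebraMap P S b) -
            algebraMap S (Localization.AtPrime q) (algebraMap P S a) *
              algebraMap S (Localization.AtPrime q) (u : S) := by
          rw [map_sub, map_mul, map_mul]
        rw [h6, map_mul, ← e1, ← e2]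
        ring
      rw [e5]
      apply (IsLocalization.AtPrime.to_map_mem_maximal_iff (Localization.AtPrime q) q _).mpr
      have h7 : s * algebraMap P S b - algebraMap P S a * u =
          (s - algebraMap P S a) * algebraMap P S b -
            algebraMap P S a * ((u : S) - algebraMap P S b) := by ring
      rw [h7]
      exact q.sub_mem (q.mul_mem_right _ ha) (q.mul_mem_left _ hb)
    suffices h : ∀ k : ℕ, ∀ y : Localization.AtPrime q,
        ∃ x : Localization.AtPrime (q.comap (algebraMap P S)),
        y - algebraMap (Localization.AtPrime (q.comap (algebraMap P S)))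
          (Localization.AtPrime q) x ∈ IsLocalRing.maximalIdeal (Localization.AtPrime q) ^ k from
      h m
    intro k
    induction k with
    | zero =>
      intro y
      exact ⟨0, by rw [pow_zero, Ideal.one_eq_top]; exact Submodule.mem_top⟩
    | succ k ih =>
      intro y
      obtain ⟨x0, hx0⟩ := ih y
      have key : ∀ z ∈ (IsLocalRing.maximalIdeal
          (Localization.AtPrime (q.comap (algebraMap P S))) ^ k).map
          (algebraMap (Localization.AtPrime (q.comap (algebraMap P S))) (Localization.AtPrime q)),
          ∃ x : Localization.AtPrime (q.comap (algebraMap P S)),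
            z - algebraMap (Localization.AtPrime (q.comap (algebraMap P S)))
              (Localization.AtPrime q) x ∈
              IsLocalRing.maximalIdeal (Localization.AtPrime q) ^ (k + 1) := by
        intro z hz
        induction hz using Submodule.span_induction with
        | zero => exact ⟨0, by rw [map_zero, sub_zero]; exact Ideal.zero_mem _⟩
        | mem z hz =>
          obtain ⟨r, hr, rfl⟩ := hz
          exact ⟨r, by rw [sub_self]; exact Ideal.zero_mem _⟩
        | add z1 z2 _ _ ih1 ih2 =>
          obtain ⟨x1, h1⟩ := ih1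
          obtain ⟨x2, h2⟩ := ih2
          refine ⟨x1 + x2, ?_⟩
          have h3 : z1 + z2 - algebraMap (Localization.AtPrime (q.comap (algebraMap P S)))
              (Localization.AtPrime q) (x1 + x2) =
              (z1 - algebraMap (Localization.AtPrime (q.comap (algebraMap P S)))
                (Localization.AtPrime q) x1) +
              (z2 - algebraMap (Localization.AtPrime (q.comap (algebraMap P S)))
                (Localization.AtPrime q) x2) := by
            rw [map_add]
            ring
          rw [h3]
          exact Ideal.add_mem _ h1 h2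
        | smul c z hz ihz =>
          obtain ⟨x, hx⟩ := ihz
          obtain ⟨t, ht⟩ := hres c
          refine ⟨t * x, ?_⟩
          have hzmem : z ∈ IsLocalRing.maximalIdeal (Localization.AtPrime q) ^ k := by
            have h2 : z ∈ (IsLocalRing.maximalIdeal
                (Localization.AtPrime (q.comap (algebraMap P S))) ^ k).map
                (algebraMap (Localization.AtPrime (q.comap (algebraMap P S)))
                  (Localization.AtPrime q)) := hz
            rwa [Ideal.map_pow, hmax] at h2
          have h3 : c • z - algebraMap (Localization.AtPrime (q.comap (algebraMap P S)))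
              (Localization.AtPrime q) (t * x) =
              algebraMap (Localization.AtPrime (q.comap (algebraMap P S)))
                (Localization.AtPrime q) t *
              (z - algebraMap (Localization.AtPrime (q.comap (algebraMap P S)))
                (Localization.AtPrime q) x) +
              (c - algebraMap (Localization.AtPrime (q.comap (algebraMap P S)))
                (Localization.AtPrime q) t) * z := by
            rw [map_mul, smul_eq_mul]
            ring
          rw [h3]
          refine Ideal.add_mem _ (Ideal.mul_mem_left _ _ hx) ?_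
          rw [pow_succ']
          exact Ideal.mul_mem_mul ht hzmem
      have hx0' : y - algebraMap (Localization.AtPrime (q.comap (algebraMap P S)))
          (Localization.AtPrime q) x0 ∈ (IsLocalRing.maximalIdeal
          (Localization.AtPrime (q.comap (algebraMap P S))) ^ k).map
          (algebraMap (Localization.AtPrime (q.comap (algebraMap P S)))
            (Localization.AtPrime q)) := by
        rw [Ideal.map_pow, hmax]
        exact hx0
      obtain ⟨x1, hx1⟩ := key _ hx0'
      refine ⟨x0 + x1, ?_⟩
      have h3 : y - algebraMap (Localization.AtPrime (q.comap (algebraMap P S)))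
          (Localization.AtPrime q) (x0 + x1) =
          (y - algebraMap (Localization.AtPrime (q.comap (algebraMap P S)))
            (Localization.AtPrime q) x0) -
          algebraMap (Localization.AtPrime (q.comap (algebraMap P S)))
            (Localization.AtPrime q) x1 := by
        rw [map_add]
        ring
      rw [h3]
      exact hx1


/-- Let A be a Noetherian ring complete for the adic topology of an ideal I, n a natural number, and
A{x_1, …, x_n} the restricted power series ring, i.e. the I-adic completion of the polynomial ring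
A[x_1, …, x_n]. Let q be a prime ideal of A{x_1, …, x_n}, q' its inverse image in A[x_1, …, x_n] and
p its inverse image in A. Assume q is rig-closed (the extension of I is not contained in q and q is
maximal among such primes) and p is rig-closed in A (I ⊄ p, p maximal among the primes not
containing I). Then the local homomorphism A[x_1, …, x_n]_{q'} → A{x_1, …, x_n}_q induces an
isomorphism on completions with respect to the maximal ideals; stated as: for every m ≥ 1 the
induced map on quotients by the m-th powers of the maximal ideals is injective and surjective. -/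
theorem result (A : Type u) [CommRing A] [IsNoetherianRing A] (I : Ideal A) [IsAdicComplete I A] (n : ℕ) (q : PrimeSpectrum (AdicCompletion (I.map (algebraMap A (MvPolynomial (Fin n) A))) (MvPolynomial (Fin n) A))) (hq : (¬ (I.map (algebraMap A (AdicCompletion (I.map (algebraMap A (MvPolynomial (Fin n) A))) (MvPolynomial (Fin n) A)))) ≤ q.asIdeal ∧ ∀ y : PrimeSpectrum (AdicCompletion (I.map (algebraMap A (MvPolynomial (Fin n) A))) (MvPolynomial (Fin n) A)), q ≤ y → ¬ (I.map (algebraMap A (AdicCompletion (I.map (algebraMap A (MvPolynomial (Fin n) A))) (MvPolynomial (Fin n) A)))) ≤ y.asIdeal → y = q)) (hp : (¬ I ≤ (PrimeSpectrum.comap (algebraMap A (AdicCompletion (I.map (algebraMap A (MvPolynomial (Fin n) A))) (MvPolynomial (Fin n) A))) q).asIdeal ∧ ∀ y : PrimeSpectrum A, (PrimeSpectrum.comap (algebraMap A (AdicCompletion (I.map (algebraMap A (MvPolynomial (Fin n) A))) (MvPolynomial (Fin n) A))) q) ≤ y → ¬ I ≤ y.asIdeal → y = (PrimeSpectrum.comap (algebraMap A (AdicCompletion (I.map (algebraMap A (MvPolynomial (Fin n) A))) (MvPolynomial (Fin n) A))) q))) (m : ℕ) (hm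 : 1 ≤ m) : (∀ x : (Localization.AtPrime (PrimeSpectrum.comap (algebraMap (MvPolynomial (Fin n) A) (AdicCompletion (I.map (algebraMap A (MvPolynomial (Fin n) A))) (MvPolynomial (Fin n) A))) q).asIdeal), (Localization.localRingHom (PrimeSpectrum.comap (algebraMap (MvPolynomial (Fin n) A) (AdicCompletion (I.map (algebraMap A (MvPolynomial (Fin n) A))) (MvPolynomial (Fin n) A))) q).asIdeal q.asIdeal (algebraMap (MvPolynomial (Fin n) A) (AdicCompletion (I.map (algebraMap A (MvPolynomial (Fin n) A))) (MvPolynomial (Fin n) A))) rfl) x ∈ (IsLocalRing.maximalIdeal (Localization.AtPrime q.asIdeal)) ^ m → x ∈ (IsLocalRing.maximalIdeal (Localization.AtPrime (PrimeSpectrum.comap (algebraMap (MvPolynomial (Fin n) A) (AdicCompletion (I.map (algebraMap A (MvPolynomial (Fin n) A))) (MvPolynomial (Fin n) A))) q).asIdeal)) ^ m) ∧ (∀ y : (Localization.AtPrime q.asIdeal), ∃ x : (Localization.AtPrime (PrimeSpectrum.comap (algebraMap (MvPolynomial (Fin n) A) (AdicCompletion (I.map (algebraMap A (MvPolynomial (Fin n) A))) (MvPolynomial (Fin n) A))) q).asIdeal), y - (Localization.localRingHom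 (PrimeSpectrum.comap (algebraMap (MvPolynomial (Fin n) A) (AdicCompletion (I.map (algebraMap A (MvPolynomial (Fin n) A))) (MvPolynomial (Fin n) A))) q).asIdeal q.asIdeal (algebraMap (MvPolynomial (Fin n) A) (AdicCompletion (I.map (algebraMap A (MvPolynomial (Fin n) A))) (MvPolynomial (Fin n) A))) rfl) x ∈ (IsLocalRing.maximalIdeal (Localization.AtPrime q.asIdeal)) ^ m) := by
  haveI := tower A I (MvPolynomial (Fin n) A)
  haveI := noeth A I (MvPolynomial (Fin n) A)
  haveI := complete A I (MvPolynomial (Fin n) A)
  have hqprime : q.asIdeal.IsPrime := q.isPrime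
  obtain ⟨hmap, hsurj⟩ := key A I (MvPolynomial (Fin n) A)
    (AdicCompletion (I.map (algebraMap A (MvPolynomial (Fin n) A))) (MvPolynomial (Fin n) A))
    (dense A I (MvPolynomial (Fin n) A)) q hq hp
  exact local_compl q.asIdeal hmap hsurj m

end Groth.Agent.S8839
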