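import Groth.Statements.S6773
-- import your own Groth.Agent.* helpers here

set_option autoImplicit false
open CategoryTheory
universe v u v' u'
open DeltaF

namespace Groth.Agent.S6773

open CategoryTheory.Limits

section helpers

variable {A : Type u} [Category.{v} A] [Abelian A] {B : Type u'} [Category.{v'} B] [Abelian B]

/-- an effacing short exact sequence for degree `n + 1` -/
structure Eff (T : DeltaF.CohDeltaFunctor A B ℕ) (n : ℕ) (S : ShortComplex A) : Prop where
  se : S.ShortExact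
  eff : (T.F (n + 1)).map S.f = 0

variable {T T' : DeltaF.CohDeltaFunctor A B ℕ}

lemma epi_δ {n : ℕ} {S : ShortComplex A} (h : Eff T n S) :
    Epi (T.δ S h.se n (n + 1) rfl) :=
  (T.exact₁ S h.se n (n + 1) rfl).epi_f h.eff

/-- the map in degree `n+1` defined through an effacing sequence -/
noncomputable def tS {n : ℕ} (τ : T.F n ⟶ T'.F n) {S : ShortComplex A} (h : Eff T n S) :
    (T.F (n + 1)).obj S.X₁ ⟶ (T'.F (n + 1)).obj S.X₁ :=
  haveI := epi_δ h
  (T.exact₃ S h.se n (n + 1) rfl).desc (τ.app S.X₃ ≫ T'.δ S h.se n (n + 1) rfl)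
    (by
      change (T.F n).map S.g ≫ τ.app S.X₃ ≫ _ = 0
      rw [← Category.assoc, τ.naturality, Category.assoc, T'.comp_δ, comp_zero])

lemma δ_tS {n : ℕ} (τ : T.F n ⟶ T'.F n) {S : ShortComplex A} (h : Eff T n S) :
    T.δ S h.se n (n + 1) rfl ≫ tS τ h = τ.app S.X₃ ≫ T'.δ S h.se n (n + 1) rfl :=
  haveI := epi_δ h
  (T.exact₃ S h.se n (n + 1) rfl).g_desc _ _

/-- naturality of `tS` for morphisms of effacing sequences -/
lemma tS_natural {n : ℕ} (τ : T.F n ⟶ T'.F n) {S S' : ShortComplex A} (h : Eff T n S)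
    (h' : Eff T n S') (φ : S ⟶ S') :
    tS τ h ≫ (T'.F (n + 1)).map φ.τ₁ = (T.F (n + 1)).map φ.τ₁ ≫ tS τ h' := by
  have := epi_δ h
  rw [← cancel_epi (T.δ S h.se n (n + 1) rfl)]
  rw [← Category.assoc, δ_tS, Category.assoc, ← T'.δ_natural h.se h'.se φ n (n + 1) rfl,
    ← Category.assoc, ← τ.naturality, Category.assoc, ← δ_tS τ h', ← Category.assoc,
    T.δ_natural h.se h'.se φ n (n + 1) rfl, Category.assoc]

/-- a weaker compatibility: any short exact `S` mapping to an effacing `S'` -/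
lemma δ_tS_of_hom {n : ℕ} (τ : T.F n ⟶ T'.F n) {S S' : ShortComplex A} (hS : S.ShortExact)
    (h' : Eff T n S') (φ : S ⟶ S') :
    T.δ S hS n (n + 1) rfl ≫ (T.F (n + 1)).map φ.τ₁ ≫ tS τ h' =
      τ.app S.X₃ ≫ T'.δ S hS n (n + 1) rfl ≫ (T'.F (n + 1)).map φ.τ₁ := by
  rw [← Category.assoc, ← T.δ_natural hS h'.se φ n (n + 1) rfl, Category.assoc, δ_tS,
    ← T'.δ_natural hS h'.se φ n (n + 1) rfl, ← Category.assoc, τ.naturality, Category.assoc]

/-- pushout construction: an effacing sequence receiving `S` (over `f`) and `S'` (over `𝟙`) -/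
lemma exists_common {n : ℕ} {S S' : ShortComplex A} (hS : S.ShortExact) (h' : Eff T n S')
    (f : S.X₁ ⟶ S'.X₁) :
    ∃ (Y Z : A) (i : S'.X₁ ⟶ Y) (p : Y ⟶ Z) (w : i ≫ p = 0)
      (_ : Eff T n (ShortComplex.mk i p w)) (φ : S ⟶ ShortComplex.mk i p w)
      (ψ : S' ⟶ ShortComplex.mk i p w), φ.τ₁ = f ∧ ψ.τ₁ = 𝟙 _ := by
  have := hS.mono_f
  have := hS.epi_g
  have := h'.se.mono_f
  have := h'.se.epi_g
  let P := pushout S.f (f ≫ S'.f)
  let i : S'.X₁ ⟶ P := S'.f ≫ pushout.inr _ _
  have : Mono i := mono_comp _ _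
  let S'' : ShortComplex A := ShortComplex.mk i (cokernel.π i) (cokernel.condition i)
  have hS'' : S''.ShortExact :=
    ShortComplex.ShortExact.mk' (S''.exact_of_g_is_cokernel (cokernelIsCokernel i))
      (inferInstanceAs (Mono i)) (inferInstanceAs (Epi (cokernel.π i)))
  have heff : Eff T n S'' := ⟨hS'', by
    change (T.F (n + 1)).map (S'.f ≫ pushout.inr _ _) = 0
    rw [Functor.map_comp, h'.eff, zero_comp]⟩
  have hc : S.f ≫ pushout.inl S.f (f ≫ S'.f) = f ≫ i := by
    rw [pushout.condition, Category.assoc]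
  let φ : S ⟶ S'' :=
    { τ₁ := f
      τ₂ := pushout.inl _ _
      τ₃ := hS.exact.desc (pushout.inl _ _ ≫ cokernel.π i) (by
        rw [← Category.assoc, hc, Category.assoc, cokernel.condition, comp_zero])
      comm₁₂ := hc.symm
      comm₂₃ := (hS.exact.g_desc _ _).symm }
  let ψ : S' ⟶ S'' :=
    { τ₁ := 𝟙 _
      τ₂ := pushout.inr _ _
      τ₃ := h'.se.exact.desc (pushout.inr _ _ ≫ cokernel.π i) (by
        rw [← Category.assoc]
        exact cokernel.condition i)
      comm₁₂ := by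
        change 𝟙 _ ≫ i = S'.f ≫ pushout.inr _ _
        rw [Category.id_comp]
      comm₂₃ := (h'.se.exact.g_desc _ _).symm }
  exact ⟨P, cokernel i, i, cokernel.π i, cokernel.condition i, heff, φ, ψ, rfl, rfl⟩

variable (hT : T.IsEffaceable)

/-- the chosen effacing sequence of an object -/
noncomputable def SX (n : ℕ) (X : A) : ShortComplex A :=
  ShortComplex.mk (hT n X).choose_spec.choose (cokernel.π (hT n X).choose_spec.choose)
    (cokernel.condition _)

lemma SX_eff (n : ℕ) (X : A) : Eff T n (SX hT n X) := by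
  have : Mono (hT n X).choose_spec.choose := (hT n X).choose_spec.choose_spec.1
  refine ⟨ShortComplex.ShortExact.mk' ((SX hT n X).exact_of_g_is_cokernel (cokernelIsCokernel _))
    (inferInstanceAs (Mono (hT n X).choose_spec.choose))
    (inferInstanceAs (Epi (cokernel.π (hT n X).choose_spec.choose))), ?_⟩
  exact (hT n X).choose_spec.choose_spec.2

/-- key: `tS` does not depend on the effacing sequence, naturality version -/
lemma tS_comp {n : ℕ} (τ : T.F n ⟶ T'.F n) {S S' : ShortComplex A} (h : Eff T n S)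
    (h' : Eff T n S') (f : S.X₁ ⟶ S'.X₁) :
    tS τ h ≫ (T'.F (n + 1)).map f = (T.F (n + 1)).map f ≫ tS τ h' := by
  obtain ⟨Y, Z, i, p, w, h'', φ, ψ, hφ, hψ⟩ := exists_common h.se h' f
  have h1 := tS_natural τ h h'' φ
  have h2 := tS_natural τ h' h'' ψ
  rw [hφ] at h1
  rw [hψ] at h2
  have h3 : tS τ h' = tS τ h'' := by
    simpa only [CategoryTheory.Functor.map_id, Category.comp_id, Category.id_comp] using h2
  rw [h1, h3]

/-- the next natural transformation -/
noncomputable def next (n : ℕ) (τ : T.F n ⟶ T'.F n) : T.F (n + 1) ⟶ T'.F (n + 1) where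
  app X := tS τ (SX_eff hT n X)
  naturality X Y f := (tS_comp τ (SX_eff hT n X) (SX_eff hT n Y) f).symm

lemma next_comm (n : ℕ) (τ : T.F n ⟶ T'.F n) (S : ShortComplex A) (hS : S.ShortExact) :
    T.δ S hS n (n + 1) rfl ≫ (next hT n τ).app S.X₁ =
      τ.app S.X₃ ≫ T'.δ S hS n (n + 1) rfl := by
  obtain ⟨Y, Z, i, p, w, h'', φ, ψ, hφ, hψ⟩ :=
    exists_common (n := n) hS (SX_eff hT n S.X₁) (𝟙 _)
  have h1 := δ_tS_of_hom τ hS h'' φ
  have h2 := tS_natural τ (SX_eff hT n S.X₁) h'' ψ
  rw [hφ] at h1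
  rw [hψ] at h2
  have h3 : tS τ (SX_eff hT n S.X₁) = tS τ h'' := by
    simpa only [CategoryTheory.Functor.map_id, Category.comp_id, Category.id_comp] using h2
  change _ ≫ tS τ (SX_eff hT n S.X₁) = _
  rw [h3]
  have h1' : T.δ S hS n (n + 1) rfl ≫ (T.F (n + 1)).map (𝟙 S.X₁) ≫
        tS τ (S := ShortComplex.mk i p w) h'' =
      τ.app S.X₃ ≫ T'.δ S hS n (n + 1) rfl ≫ (T'.F (n + 1)).map (𝟙 S.X₁) := h1
  simp only [CategoryTheory.Functor.map_id, Category.comp_id, Category.id_comp] at h1'
  exact h1'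

/-- the sequence of natural transformations -/
noncomputable def seq (t : T.F 0 ⟶ T'.F 0) : ∀ n, T.F n ⟶ T'.F n
  | 0 => t
  | n + 1 => next hT n (seq t n)

lemma seq_succ (t : T.F 0 ⟶ T'.F 0) (n : ℕ) : seq hT t (n + 1) = next hT n (seq hT t n) := rfl

end helpers

/-- An effaceable cohomological delta-functor (for every degree `n + 1 ≥ 1` and every object `X` there
is a monomorphism out of `X` killed by the functor in that degree) is universal. Delta-functors here
are indexed by `ℕ` and are not required to be left exact in degree `0`; universality is tested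
against all such delta-functors. -/
theorem result {A : Type u} [Category.{v} A] [Abelian A] {B : Type u'} [Category.{v'} B] [Abelian B] (T : DeltaF.CohDeltaFunctor A B ℕ) (hT : T.IsEffaceable) : T.IsUniversal := by
  intro T' t
  refine ⟨⟨seq hT t, ?_⟩, rfl, ?_⟩
  · intro S hS n₀ n₁ h
    subst h
    rw [seq_succ]
    exact next_comm hT n₀ (seq hT t n₀) S hS
  · intro σ hσ
    apply DeltaF.CohDeltaFunctor.hom_ext
    intro n
    change σ.app n = seq hT t n
    induction n with
    | zero => exact hσ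
    | succ n ih =>
      rw [seq_succ]
      ext X
      have hepi := epi_δ (SX_eff hT n X)
      have h1 := σ.comm (SX hT n X) (SX_eff hT n X).se n (n + 1) rfl
      have h2 := next_comm hT n (seq hT t n) (SX hT n X) (SX_eff hT n X).se
      rw [ih] at h1
      exact (cancel_epi (T.δ (SX hT n X) (SX_eff hT n X).se n (n + 1) rfl)).1 (h1.trans h2.symm)

end Groth.Agent.S6773
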