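import Groth.Statements.S0856
import Mathlib

set_option autoImplicit false
universe u
open CategoryTheory
open CohSite

namespace Groth.Agent.S0856

open Opposite in
lemma aux {C : Type u} [SmallCategory C]
    {J : GrothendieckTopology C} (O : Sheaf J RingCat.{u}) (I : SheafOfModules.{u} O) [Injective I]
    {U U' : C} (a : U' ⟶ U) [Mono a] (t : I.val.obj (op U')) :
    ∃ s : I.val.obj (op U), I.val.map a.op s = t := by
  classical
  let adj := PresheafOfModules.sheafificationAdjunction (𝟙 O.obj)
  let j : (PresheafOfModules.free O.obj).obj (yoneda.obj U') ⟶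
      (PresheafOfModules.free O.obj).obj (yoneda.obj U) :=
    (PresheafOfModules.free O.obj).map (yoneda.map a)
  have hj : Mono j := by
    apply PresheafOfModules.mono_of_injective
    intro X
    show Function.Injective ((ModuleCat.free _).map ((yoneda.map a).app X))
    exact Finsupp.mapDomain_injective (fun f g h => (cancel_mono a).mp h)
  let g' : (PresheafOfModules.free O.obj).obj (yoneda.obj U') ⟶ I.val :=
    PresheafOfModules.freeYonedaEquiv.symm t
  let ĝ' := (adj.homEquiv _ I).symm g'
  have hmono : Mono ((PresheafOfModules.sheafification (𝟙 O.obj)).map j) := inferInstance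
  let ĝ := Injective.factorThru ĝ' ((PresheafOfModules.sheafification (𝟙 O.obj)).map j)
  have hĝ : (PresheafOfModules.sheafification (𝟙 O.obj)).map j ≫ ĝ = ĝ' :=
    Injective.comp_factorThru _ _
  let g : (PresheafOfModules.free O.obj).obj (yoneda.obj U) ⟶ I.val := adj.homEquiv _ I ĝ
  have hg : j ≫ g = g' := by
    have h0 := adj.homEquiv_naturality_left j ĝ
    rw [hĝ, Equiv.apply_symm_apply] at h0
    exact h0.symm
  refine ⟨g.app (op U) (ModuleCat.freeMk (𝟙 U)), ?_⟩
  have h1 : t = g'.app (op U') (ModuleCat.freeMk (𝟙 U')) :=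
    (PresheafOfModules.freeYonedaEquiv_symm_app I.val U' t).symm
  rw [h1, ← hg]
  rw [← PresheafOfModules.naturality_apply]
  have e1 : (((PresheafOfModules.free O.obj).obj (yoneda.obj U)).map a.op)
      (ModuleCat.freeMk (𝟙 U)) = (j.app (op U')) (ModuleCat.freeMk (𝟙 U')) := by
    have l1 := ModuleCat.free_map_apply (R := O.obj.obj (op U')) ((yoneda.map a).app (op U')) (𝟙 U')
    have l2 : (((PresheafOfModules.free O.obj).obj (yoneda.obj U)).map a.op)
      (ModuleCat.freeMk (𝟙 U)) = ModuleCat.freeMk ((yoneda.obj U).map a.op (𝟙 U)) :=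
      ModuleCat.freeDesc_apply _ _
    rw [l2]
    refine Eq.trans ?_ l1.symm
    simp
  rw [e1]
  rfl

open Opposite in
/-- Let (C, O) be a ringed site, a : U' -> U a monomorphism of C and I an injective sheaf of O-modules.
Then the restriction map I(U) -> I(U') is surjective. -/
theorem result {C : Type u} [SmallCategory C]
    {J : GrothendieckTopology C} (O : Sheaf J RingCat.{u}) (I : SheafOfModules.{u} O) [Injective I]
    {U U' : C} (a : U' ⟶ U) [Mono a] : Function.Surjective (I.val.map a.op) := by
  intro s'
  exact aux O I a s'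

end Groth.Agent.S0856
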