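import Groth.Statements.S13583
import Groth.Agent.H45.SectSuppLC2

set_option autoImplicit false
universe u
open CategoryTheory TopologicalSpace
open SuppFam

namespace Groth.Agent.S13583

open Groth.Agent.H45.SectSuppLC Groth.Agent.H45.DeltaIso CategoryTheory.Limits

variable {X : TopCat.{u}} {W V : Opens X} (h : W ≤ V)

instance : PreservesFiniteLimits (SuppFam.sectSuppLC h) := by
  have : PreservesFiniteLimits (CohTop.push (CohCx.incl V)) := by
    have : PreservesLimitsOfSize.{0, 0} (CohTop.push (CohCx.incl V)) :=
      (TopCat.Sheaf.pullbackPushforwardAdjunction AddCommGrpCat.{u}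
        (CohCx.incl V)).rightAdjoint_preservesLimits
    exact PreservesLimitsOfSize.preservesFiniteLimits _
  have : PreservesFiniteLimits (LocCohZ.sectSuppF (SuppFam.inOpen V W)) :=
    Groth.Agent.H45.LocCohZShift.preservesFiniteLimits_sectSuppF _
  unfold SuppFam.sectSuppLC
  infer_instance

/-- The sheafified presheaf valued `Ext` delta-functor. -/
noncomputable abbrev T₂ : DeltaF.CohDeltaFunctor (CohTop.Ab X) (CohTop.Ab X) ℕ :=
  postcompDelta (extAlongDelta.{u} (Zfun h))
    (presheafToSheaf (Opens.grothendieckTopology X) AddCommGrpCat.{u})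

lemma T₂_isEffaceable : (T₂ h).IsEffaceable :=
  isEffaceable_of_isZero_injective _ (fun n I hI => by
    have := hI
    exact (presheafToSheaf (Opens.grothendieckTopology X) AddCommGrpCat.{u}).map_isZero
      (isZero_extAlong_obj_of_injective.{u} (Zfun h) n I))

/-- The degree zero comparison. -/
noncomputable def E₀ : SuppFam.sectSuppLC h ≅
    extAlong.{u} (Zfun h) 0 ⋙ presheafToSheaf (Opens.grothendieckTopology X) AddCommGrpCat.{u} :=
  (Functor.rightUnitor _).symm ≪≫
    Functor.isoWhiskerLeft (SuppFam.sectSuppLC h)
      (asIso (sheafificationAdjunction (Opens.grothendieckTopology X) AddCommGrpCat.{u}).counit).symm ≪≫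
    (Functor.associator _ _ _).symm ≪≫
    Functor.isoWhiskerRight (E₀pre h)
      (presheafToSheaf (Opens.grothendieckTopology X) AddCommGrpCat.{u})


/-- For an abelian sheaf `F` on a topological space `X` and a locally closed `Z = V ∖ W` (`W ≤ V`
opens), the local cohomology sheaf `ℋ^q_Z(F)`, the `q`-th right derived functor of the sheaf of
sections with supports in `Z`, is isomorphic to the sheaf associated to the presheaf `V' ↦ H^q_{Z ∩
V'}(V', F)` (here written through the Ext groups with supports for the pair `W ∩ V' ≤ V ∩ V'`).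
Existence of an isomorphism only; the canonical comparison map is not named. -/
theorem result {X : TopCat.{u}} (F : CohTop.Ab X) {W V : Opens X} (h : W ≤ V)
    (q : ℕ) :
    Nonempty ((SuppFam.HZshLC h q).obj F ≅
      (presheafToSheaf (Opens.grothendieckTopology X) AddCommGrpCat.{u}).obj (SuppFam.HZpre F q h)) := by
  obtain ⟨ψ⟩ := nonempty_rightDerived_iso' (SuppFam.sectSuppLC h) (T₂ h) (T₂_isEffaceable h)
    (E₀ h) q
  exact ⟨ψ.app F ≪≫ (presheafToSheaf (Opens.grothendieckTopology X) AddCommGrpCat.{u}).mapIso
    (HZpreIso h F q).symm⟩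

end Groth.Agent.S13583
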