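import Groth.Statements.S0456
import Groth.Agent.H42.CohTopPush
import Groth.Agent.H42.RDBridge
import Groth.Agent.S6625

set_option autoImplicit false
universe u
open CategoryTheory
open CohTop

namespace Groth.Agent.S0456

open CategoryTheory.Limits in
/-- For a continuous map f and a flasque abelian sheaf F on the source, R^(q+1) f_* F = 0. -/
theorem result {X Y : TopCat.{u}} (f : X ⟶ Y) (F : CohTop.Ab X)
    [TopCat.Sheaf.IsFlasque F] (q : ℕ) : IsZero ((CohTop.Rpush f (q + 1)).obj F) := by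
  letI := HasDerivedCategory.standard (CohTop.Ab X)
  letI := HasDerivedCategory.standard (CohTop.Ab Y)
  have h1 : ∀ G : CohTop.Ab X, ∃ (G' : CohTop.Ab X) (ι : G ⟶ G'),
      (fun H : CohTop.Ab X => TopCat.Sheaf.IsFlasque H) G' ∧ Mono ι := fun G =>
    ⟨Injective.under G, Injective.ι G,
      Groth.Agent.H42.CohTopLib.isFlasque_of_injective (Injective.under G), inferInstance⟩
  have h2 : ∀ S : ShortComplex (CohTop.Ab X), S.ShortExact →
      (fun H : CohTop.Ab X => TopCat.Sheaf.IsFlasque H) S.X₁ →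
      (fun H : CohTop.Ab X => TopCat.Sheaf.IsFlasque H) S.X₂ →
      (fun H : CohTop.Ab X => TopCat.Sheaf.IsFlasque H) S.X₃ ∧
        (S.map (CohTop.push f)).ShortExact := by
    intro S hS hS₁ hS₂
    have : TopCat.Sheaf.IsFlasque S.X₁ := hS₁
    have : TopCat.Sheaf.IsFlasque S.X₂ := hS₂
    exact ⟨TopCat.Sheaf.IsFlasque.of_shortExact_of_isFlasque₁₂ hS,
      Groth.Agent.H42.CohTopLib.shortExact_map_push_of_flasque f hS⟩
  have hu := Groth.Agent.S6625.result (CohTop.push f)
    (fun H : CohTop.Ab X => TopCat.Sheaf.IsFlasque H) h1 h2 F inferInstance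
  exact ((Groth.Agent.H42.RDBridge.isIso_unit_single_iff (CohTop.push f) F).1 hu).2 (q + 1)
    (Nat.succ_pos q)

end Groth.Agent.S0456
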