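import Groth.Statements.S6023
-- import your own Groth.Agent.* helpers here
import Groth.Agent.H45.CohTopOpenPull
import Groth.Agent.H45.RDerivedLES
import Groth.Agent.H45.RDerivedExactFunctor
import Groth.Agent.H45.ExtAdjAcy
import Groth.Agent.S0456

set_option autoImplicit false
universe u
open CategoryTheory CategoryTheory.Limits TopologicalSpace
open LocCohZ

namespace Groth.Agent.S6023

open Groth.Agent.H45 Groth.Agent.H45.CohTopOpenPull Groth.Agent.H45.RDerivedLES

section Aux

variable {X : TopCat.{u}}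

/-- Part 1: `Ext^{n+1}(ℤ_V/ℤ_W, F) = 0` for `F` flasque. -/
lemma ext_zq_eq_zero (F : CohTop.Ab X) [TopCat.Sheaf.IsFlasque F] {W V : Opens X} (h : W ≤ V)
    (n : ℕ) (x : Abelian.Ext (LocCohZ.zq h) F (n + 1)) : x = 0 := by
  have hS := LocCohZ.zqSeq_shortExact h
  have h0 : (Abelian.Ext.mk₀ (LocCohZ.zqSeq h).g).comp x (zero_add (n + 1)) = 0 :=
    Groth.Agent.H42.CohTopLib.ext_succ_eq_zero_of_isFlasque
      (Groth.Agent.H42.CohTopLib.secRepZf V) F n _
  obtain ⟨x₁, hx₁⟩ := Abelian.Ext.contravariant_sequence_exact₃ hS F x h0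
    (show 1 + n = n + 1 by omega)
  cases n with
  | zero =>
    obtain ⟨φ, rfl⟩ := (Abelian.Ext.mk₀_bijective _ _).2 x₁
    -- extend the section
    let s := CohFree.evalGen (Opens.grothendieckTopology X) W F φ
    have hepi : Epi (F.obj.map (homOfLE h).op) := TopCat.Presheaf.IsFlasque.epi _
    rw [AddCommGrpCat.epi_iff_surjective] at hepi
    obtain ⟨t, ht⟩ := hepi s
    let ψ := CohFree.ofSect (Opens.grothendieckTopology X) V F t
    have hψ : (LocCohZ.zqSeq h).f ≫ ψ = φ := by
      apply (CohFree.homEquivSect (Opens.grothendieckTopology X) W F).injective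
      change CohFree.evalGen _ W F (CohCx.freeSheafMap _ (homOfLE h) ≫ ψ) = s
      rw [CohFree.evalGen_freeSheafMap_comp, CohFree.evalGen_ofSect]
      exact ht
    rw [← hx₁, ← hψ, ← Abelian.Ext.mk₀_comp_mk₀, ← Abelian.Ext.comp_assoc_of_second_deg_zero,
      hS.extClass_comp, Abelian.Ext.zero_comp]
    rfl
  | succ m =>
    have : x₁ = 0 := Groth.Agent.H42.CohTopLib.ext_succ_eq_zero_of_isFlasque
      (Groth.Agent.H42.CohTopLib.secRepZf W) F m _
    rw [← hx₁, this, Abelian.Ext.comp_zero]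
    rfl

variable (U : Opens X)

/-- The unit `𝟭 ⟶ j⁻¹ ⋙ j_*`. -/
noncomputable abbrev η : 𝟭 (CohTop.Ab X) ⟶ CohTop.pull (CohCx.incl U) ⋙ CohTop.push (CohCx.incl U) :=
  (TopCat.Sheaf.pullbackPushforwardAdjunction AddCommGrpCat.{u} (CohCx.incl U)).unit

/-- The inclusion `Γ_Z ⟶ 𝟭`. -/
noncomputable def αZ : LocCohZ.sectSuppF U ⟶ 𝟭 (CohTop.Ab X) where
  app F := kernel.ι _
  naturality {F G} φ := by
    dsimp [LocCohZ.sectSuppF, kernel.map]
    exact kernel.lift_ι _ _ _

lemma wZ : αZ U ≫ η U = 0 := by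
  ext F : 2
  exact kernel.condition _

lemma exactOnInjectives : ExactOnInjectives (αZ U) (η U) (wZ U) := by
  intro I hI
  haveI := hI
  exact
    { exact := ShortComplex.exact_of_f_is_kernel _ (kernelIsKernel _)
      mono_f := by dsimp [αZ]; exact equalizer.ι_mono
      epi_g := epi_unit_of_injective U I }

lemma isZero_id (n : ℕ) (hn : 0 < n) (F : CohTop.Ab X) :
    IsZero (((𝟭 (CohTop.Ab X)).rightDerived n).obj F) :=
  ExtAdj.isZero_rightDerived_of_exact (𝟭 (CohTop.Ab X)) F n hn

instance isFlasque_restr (F : CohTop.Ab X) [TopCat.Sheaf.IsFlasque F] :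
    TopCat.Sheaf.IsFlasque ((CohTop.restrFunctor U).obj F) where
  epi {V W} i := by
    change Epi (F.obj.map _)
    infer_instance

lemma isZero_HZsh_one (F : CohTop.Ab X) [TopCat.Sheaf.IsFlasque F] :
    IsZero ((LocCohZ.HZsh U 1).obj F) := by
  have hπ := isColimitπ₁ (exactOnInjectives U) (fun F => isZero_id 1 Nat.one_pos F)
  have h1 : (η U).app F ≫ (π₁ (exactOnInjectives U)).app F = 0 := by
    rw [← NatTrans.comp_app, β_π₁]; rfl
  haveI : Epi ((η U).app F) := epi_unit U F
  have h2 : (π₁ (exactOnInjectives U)).app F = 0 := by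
    rw [← cancel_epi ((η U).app F), h1, comp_zero]
  haveI : Epi ((π₁ (exactOnInjectives U)).app F) := by
    haveI : Epi (π₁ (exactOnInjectives U)) :=
      epi_of_isColimit_cofork hπ
    infer_instance
  exact (IsZero.iff_id_eq_zero _).2 (by
    rw [← cancel_epi ((π₁ (exactOnInjectives U)).app F), h2, zero_comp, zero_comp])

lemma isZero_HZsh_succ (F : CohTop.Ab X) [TopCat.Sheaf.IsFlasque F] (k : ℕ) :
    IsZero ((LocCohZ.HZsh U (k + 1 + 1)).obj F) := by
  haveI := isIso_δ (exactOnInjectives U) (k + 1) (fun F => isZero_id (k + 1) (by omega) F)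
    (fun F => isZero_id (k + 1 + 1) (by omega) F)
  have e : (LocCohZ.HZsh U (k + 1 + 1)).obj F ≅
      (CohTop.Rpush (CohCx.incl U) (k + 1)).obj ((CohTop.restrFunctor U).obj F) :=
    ((asIso (δ (exactOnInjectives U) (k + 1))).symm ≪≫
      RDerivedExact.rightDerivedCompIso (CohTop.pull (CohCx.incl U)) (CohTop.push (CohCx.incl U))
        (fun J hJ => by haveI := hJ; exact injective_pull U J) (k + 1)).app F ≪≫
      (CohTop.Rpush (CohCx.incl U) (k + 1)).mapIso ((pullIsoRestr U).app F)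
  exact (Groth.Agent.S0456.result (CohCx.incl U) ((CohTop.restrFunctor U).obj F) k).of_iso e

end Aux

/-- Let F be a flasque abelian sheaf on a topological space X. Then H^i_Z(V, F) = 0 for every locally
closed subset Z = V − W (W ⊆ V opens of X) and every i > 0, and ℋ^i_Z(F) = 0 for every closed subset
Z = X − U and every i > 0. (The sheaf assertion is stated for closed Z only.) -/
theorem result {X : TopCat.{u}} (F : CohTop.Ab X) [TopCat.Sheaf.IsFlasque F] :
    (∀ (W V : Opens X) (h : W ≤ V) (i : ℕ), 0 < i → Subsingleton (LocCohZ.HZ F i h)) ∧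
      ∀ (U : Opens X) (i : ℕ), 0 < i → IsZero ((LocCohZ.HZsh U i).obj F) := by
  refine ⟨fun W V h i hi => ?_, fun U i hi => ?_⟩
  · obtain ⟨n, rfl⟩ := Nat.exists_eq_succ_of_ne_zero hi.ne'
    exact ⟨fun a b => (ext_zq_eq_zero F h n a).trans (ext_zq_eq_zero F h n b).symm⟩
  · obtain ⟨n, rfl⟩ := Nat.exists_eq_succ_of_ne_zero hi.ne'
    cases n with
    | zero => exact isZero_HZsh_one U F
    | succ k => exact isZero_HZsh_succ U F k

end Groth.Agent.S6023
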