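import Groth.Statements.S8933
-- import your own Groth.Agent.* helpers here
import Groth.Agent.H5.KInj.DerivedAdj
import Mathlib.Algebra.Category.ModuleCat.AB
import Mathlib.Algebra.Homology.ShortComplex.Linear

set_option autoImplicit false
universe u
open CategoryTheory CategoryTheory.Limits
attribute [local instance] HasDerivedCategory.standard
open LocCoh

namespace Groth.Agent.S8933

open Groth.Agent.H5.KInjDer
open ZeroObject

section Aux

variable {A : Type u} [CommRing A]

theorem homologyMap_smul_id (L : CochainComplex (ModuleCat.{u} A) ℤ) (f : A) (n : ℤ) :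
    HomologicalComplex.homologyMap (f • 𝟙 L) n = f • 𝟙 (L.homology n) := by
  have h : (HomologicalComplex.shortComplexFunctor (ModuleCat.{u} A) (ComplexShape.up ℤ) n).map
      (f • 𝟙 L) = f • 𝟙 ((HomologicalComplex.shortComplexFunctor (ModuleCat.{u} A)
        (ComplexShape.up ℤ) n).obj L) := by
    ext <;> rfl
  change ShortComplex.homologyMap
    ((HomologicalComplex.shortComplexFunctor (ModuleCat.{u} A) (ComplexShape.up ℤ) n).map
      (f • 𝟙 L)) = _
  rw [h, ShortComplex.homologyMap_smul, ShortComplex.homologyMap_id]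
  rfl

/-- A complex of modules on which `f` acts as a quasi-isomorphism and whose elements are all
`f`-power torsion is acyclic. -/
theorem exactAt_of_quasiIso_smul (L : CochainComplex (ModuleCat.{u} A) ℤ) (f : A)
    (hq : QuasiIso (f • 𝟙 L)) (ht : ∀ (n : ℤ) (x : L.X n), ∃ m : ℕ, f ^ m • x = 0) (n : ℤ) :
    L.ExactAt n := by
  rw [HomologicalComplex.exactAt_iff_isZero_homology]
  have hiso : IsIso (HomologicalComplex.homologyMap (f • 𝟙 L) n) := inferInstance
  rw [homologyMap_smul_id] at hiso
  have hbij := (ConcreteCategory.isIso_iff_bijective (f • 𝟙 (L.homology n))).1 hiso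
  have hinj : ∀ y : L.homology n, f • y = 0 → y = 0 := by
    intro y hy
    apply hbij.1
    change f • y = f • (0 : L.homology n)
    rw [hy, smul_zero]
  have hpow : ∀ (m : ℕ) (y : L.homology n), f ^ m • y = 0 → y = 0 := by
    intro m
    induction m with
    | zero => intro y hy; simpa using hy
    | succ m ih =>
      intro y hy
      apply ih
      apply hinj
      rw [← mul_smul, ← pow_succ']
      exact hy
  have hsub : Subsingleton (L.homology n) := by
    refine ⟨fun a b => ?_⟩
    suffices h0 : ∀ y : L.homology n, y = 0 by rw [h0 a, h0 b]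
    intro y
    obtain ⟨x, rfl⟩ := (ModuleCat.epi_iff_surjective (L.homologyπ n)).1 inferInstance y
    obtain ⟨m, hm⟩ := ht n ((L.iCycles n).hom x)
    apply hpow m
    rw [← map_smul]
    have hx : f ^ m • x = 0 := by
      apply (ModuleCat.mono_iff_injective (L.iCycles n)).1 inferInstance
      rw [map_smul, map_zero]
      exact hm
    rw [hx, map_zero]
  exact ModuleCat.isZero_of_subsingleton _

theorem gammaI_map_smul_id (I : Ideal A) (f : A) (M : ModuleCat.{u} A) :
    (DRing.gammaI I).map (f • 𝟙 M) = f • 𝟙 ((DRing.gammaI I).obj M) := by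
  ext x
  apply Subtype.ext
  rfl

theorem isIso_smul_id_of_bijective (K : CochainComplex (ModuleCat.{u} A) ℤ) (f : A)
    (hK : ∀ n : ℤ, Function.Bijective (fun x : K.X n => f • x)) : IsIso (f • 𝟙 K) := by
  have : ∀ n, IsIso ((f • 𝟙 K).f n) := by
    intro n
    rw [ConcreteCategory.isIso_iff_bijective]
    exact hK n
  exact HomologicalComplex.Hom.isIso_of_components _

end Aux

/-- For a ring A, a finitely generated ideal I and a complex K of A-modules such that multiplication by
some f ∈ I is bijective on every term of K, the object RΓ_I(K) of D(A) is zero; here RΓ_I is the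
right derived functor of the I-power torsion functor, assumed to exist. -/
theorem result (A : Type u) [CommRing A] (I : Ideal A) (hI : I.FG) [DRing.HasRgammaI I] (K : CochainComplex (ModuleCat.{u} A) ℤ) (f : A) (hf : f ∈ I) (hK : ∀ n : ℤ, Function.Bijective (fun x : K.X n => f • x)) : IsZero ((DRing.RgammaI I).obj (DerivedCategory.Q.obj K)) := by
  let J : CochainComplex (ModuleCat.{u} A) ℤ := (ρ₀ (ModuleCat.{u} A)).obj K
  have hJ : J.IsKInjective := ρ₀_kinj (ModuleCat.{u} A) K
  let ιK : K ⟶ J := (ι (ModuleCat.{u} A)).app K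
  have hι : QuasiIso ιK := (HomologicalComplex.mem_quasiIso_iff _).1 (ι_mem (ModuleCat.{u} A) K)
  let W := HomotopyCategory.quasiIso (ModuleCat.{u} A) (ComplexShape.up ℤ)
  let β := (DRing.gammaIKh I).totalRightDerivedUnit DerivedCategory.Qh W
  let qJ := (HomotopyCategory.quotient (ModuleCat.{u} A) (ComplexShape.up ℤ)).obj J
  have hβ : IsIso (β.app qJ) :=
    isIso_app_quotient_of_isKInjective (DRing.gammaIKh I) (DRing.RgammaI I) β J
  -- the functor iso `quotient ⋙ gammaIKh I ≅ Γ_I.mapHomologicalComplex ⋙ Q`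
  let E : HomotopyCategory.quotient (ModuleCat.{u} A) (ComplexShape.up ℤ) ⋙ DRing.gammaIKh I ≅
      (DRing.gammaI I).mapHomologicalComplex (ComplexShape.up ℤ) ⋙ DerivedCategory.Q :=
    (Functor.associator _ _ _).symm ≪≫
      Functor.isoWhiskerRight ((DRing.gammaI I).mapHomotopyCategoryFactors (ComplexShape.up ℤ))
        DerivedCategory.Qh ≪≫ Functor.associator _ _ _ ≪≫
      Functor.isoWhiskerLeft _ (DerivedCategory.quotientCompQhIso (ModuleCat.{u} A))
  let ΓJ : CochainComplex (ModuleCat.{u} A) ℤ :=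
    ((DRing.gammaI I).mapHomologicalComplex (ComplexShape.up ℤ)).obj J
  -- multiplication by `f` on `J`
  let g : J ⟶ J := f • 𝟙 J
  have hfK : IsIso (f • 𝟙 K) := isIso_smul_id_of_bijective K f hK
  have hcomm : ιK ≫ g = (f • 𝟙 K) ≫ ιK := by
    simp only [g, Linear.comp_smul, Linear.smul_comp, Category.comp_id, Category.id_comp]
  have hg : QuasiIso g := by
    have h1 : QuasiIso (ιK ≫ g) := by rw [hcomm]; infer_instance
    exact quasiIso_of_comp_left ιK g
  have hQg : IsIso (DerivedCategory.Q.map g) := (DerivedCategory.isIso_Q_map_iff_quasiIso _ g).2 hg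
  let φ := (HomotopyCategory.quotient (ModuleCat.{u} A) (ComplexShape.up ℤ)).map g
  have hQhφ : IsIso (DerivedCategory.Qh.map φ) := by
    have := (NatIso.isIso_map_iff (DerivedCategory.quotientCompQhIso (ModuleCat.{u} A)) g).2 hQg
    exact this
  have hnat : (DRing.gammaIKh I).map φ ≫ β.app qJ =
      β.app qJ ≫ (DRing.RgammaI I).map (DerivedCategory.Qh.map φ) := β.naturality φ
  have hΓφ : IsIso ((DRing.gammaIKh I).map φ) := by
    have h1 : IsIso ((DRing.gammaIKh I).map φ ≫ β.app qJ) := by rw [hnat]; infer_instance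
    exact IsIso.of_isIso_comp_right _ (β.app qJ)
  have hΓg : IsIso (DerivedCategory.Q.map
      (((DRing.gammaI I).mapHomologicalComplex (ComplexShape.up ℤ)).map g)) :=
    (NatIso.isIso_map_iff E g).1 hΓφ
  have hΓg' : QuasiIso (f • 𝟙 ΓJ) := by
    have h1 := (DerivedCategory.isIso_Q_map_iff_quasiIso _ _).1 hΓg
    have h2 : ((DRing.gammaI I).mapHomologicalComplex (ComplexShape.up ℤ)).map g = f • 𝟙 ΓJ := by
      refine HomologicalComplex.hom_ext _ _ (fun n => ?_)
      exact gammaI_map_smul_id I f (J.X n)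
    rwa [h2] at h1
  have htors : ∀ (n : ℤ) (x : ΓJ.X n), ∃ m : ℕ, f ^ m • x = 0 := by
    rintro n ⟨x, m, hm⟩
    exact ⟨m, Subtype.ext (hm _ (Ideal.pow_mem_pow hf m))⟩
  have hacy : ∀ n, ΓJ.ExactAt n := exactAt_of_quasiIso_smul ΓJ f hΓg' htors
  have hz : IsZero (DerivedCategory.Q.obj ΓJ) := by
    have hq : QuasiIso (0 : ΓJ ⟶ 0) := by
      rw [quasiIso_iff]
      intro n
      rw [quasiIsoAt_iff_exactAt (0 : ΓJ ⟶ 0) n (hacy n)]
      rw [HomologicalComplex.exactAt_iff_isZero_homology]
      exact (HomologicalComplex.homologyFunctor _ _ n).map_isZero (isZero_zero _)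
    have hq' : IsIso (DerivedCategory.Q.map (0 : ΓJ ⟶ 0)) :=
      (DerivedCategory.isIso_Q_map_iff_quasiIso _ _).2 hq
    exact IsZero.of_iso (DerivedCategory.Q.map_isZero (isZero_zero _))
      (@asIso _ _ _ _ _ hq')
  have hz2 : IsZero ((DRing.gammaIKh I).obj qJ) := IsZero.of_iso hz (E.app J)
  have hz3 : IsZero ((DRing.RgammaI I).obj (DerivedCategory.Qh.obj qJ)) :=
    IsZero.of_iso hz2 (@asIso _ _ _ _ _ hβ).symm
  have hz4 : IsZero ((DRing.RgammaI I).obj (DerivedCategory.Q.obj J)) :=
    IsZero.of_iso hz3 ((DRing.RgammaI I).mapIso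
      ((DerivedCategory.quotientCompQhIso (ModuleCat.{u} A)).app J).symm)
  have hQι : IsIso (DerivedCategory.Q.map ιK) := (DerivedCategory.isIso_Q_map_iff_quasiIso _ ιK).2 hι
  exact IsZero.of_iso hz4 ((DRing.RgammaI I).mapIso (@asIso _ _ _ _ _ hQι))

end Groth.Agent.S8933
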