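import Groth.Statements.S7101
import Mathlib
import Groth.Agent.H46.RHomCxDC

set_option autoImplicit false
set_option linter.style.haveILetI false
universe u
attribute [local instance] HasDerivedCategory.standard
open CategoryTheory
open DRing

namespace Groth.Agent.S7101

/-- Let A be a commutative ring and I a finitely generated ideal; assume the derived completion functor
exists and, for a cochain complex K of A-modules, that RHom_A(K, −) exists as the total right
derived functor of Hom•(K, −). Then for every L in D(A), with L^ the derived completion of L, the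
object RHom_A(K, L^) is the derived completion of RHom_A(K, L) through the map RHom_A(K, L) →
RHom_A(K, L^) induced by the canonical morphism L → L^: RHom_A(K, L^) is derived complete with
respect to I, and every morphism from RHom_A(K, L) to a derived complete object of D(A) factors
uniquely through that map. -/
theorem result {A : Type u} [CommRing A] (I : Ideal A) (hI : I.FG) [DRing.HasDerivedCompletion I]
    (K : DRing.Cx A) [DRing.HasRHomCx K] (L : Dual.D A) :
    DRing.IsDerivedComplete I ((DRing.RHomCx K).obj ((DRing.derivedCompletion I).obj L).obj) ∧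
      ∀ E : Dual.D A, DRing.IsDerivedComplete I E →
        Function.Bijective (fun φ : (DRing.RHomCx K).obj ((DRing.derivedCompletion I).obj L).obj ⟶ E =>
          (DRing.RHomCx K).map (DRing.toDerivedCompletion I L) ≫ φ) := by
  classical
  refine ⟨Groth.Agent.H46.RHomCxDC.isDerivedComplete_RHomCx I K _
    ((DRing.derivedCompletion I).obj L).property, ?_⟩
  intro E hE
  obtain ⟨s, hs⟩ := hI
  have hl : Ideal.span {x | x ∈ s.toList} = I := by
    rw [← hs]
    congr 1
    ext x
    simp
  obtain ⟨Y, q, δ, hT⟩ := Pretriangulated.distinguished_cocone_triangle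
    (DRing.toDerivedCompletion I L)
  have hY : Groth.Agent.H35.DerCompKos.LO I Y :=
    Groth.Agent.H35.DerCompKos.LO_cone_unit I L q δ hT
  obtain ⟨Y', hY'⟩ := Groth.Agent.H35.DerCompKos.exists_isKos s.toList Y
  have hz : Limits.IsZero Y' := Groth.Agent.H35.DerCompKos.isZero_of_LO_of_isKos hl hY' hY
  have hFY : Groth.Agent.H35.DerCompKos.LO I ((DRing.RHomCx K).obj Y) :=
    Groth.Agent.H35.DerCompKos2.LO_of_isKos_zero I s.toList
      (fun a ha => by rw [← hl]; exact Ideal.subset_span ha) _ _
      (Groth.Agent.H46.RHomCxTri.isKos_map K s.toList hY')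
      (Groth.Agent.H46.RHomCxTri.isZero_obj K hz)
  obtain ⟨r, hr⟩ := Groth.Agent.H46.RHomCxTri.DT_map K _ q ⟨δ, hT⟩
  exact Groth.Agent.H35.DerCompKos2.bijective_of_LO I _ _ r hr hFY E hE

end Groth.Agent.S7101
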