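import Groth.Statements.S7048
import Mathlib
import Groth.Agent.H35.DerCrit

set_option autoImplicit false
universe u
attribute [local instance] HasDerivedCategory.standard
open DRing

namespace Groth.Agent.S7048

/-- Partial sums `∑_{j<k} f^j c_{n+j}`. -/
def partialSum {A : Type u} [CommRing A] {M : Type u} [AddCommGroup M] [Module A M]
    (f : A) (c : ℕ → M) (n k : ℕ) : M :=
  ∑ j ∈ Finset.range k, f ^ j • c (n + j)

lemma partialSum_succ {A : Type u} [CommRing A] {M : Type u} [AddCommGroup M] [Module A M]
    (f : A) (c : ℕ → M) (n k : ℕ) :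
    partialSum f c n (k + 1) = partialSum f c n k + f ^ k • c (n + k) := by
  unfold partialSum
  rw [Finset.sum_range_succ]

lemma partialSum_succ' {A : Type u} [CommRing A] {M : Type u} [AddCommGroup M] [Module A M]
    (f : A) (c : ℕ → M) (n k : ℕ) :
    partialSum f c n (k + 1) = f • partialSum f c (n + 1) k + c n := by
  unfold partialSum
  rw [Finset.sum_range_succ', Finset.smul_sum]
  congr 1
  · refine Finset.sum_congr rfl fun j _ => ?_
    have e : n + (j + 1) = n + 1 + j := by omega
    rw [pow_succ', mul_smul, e]
  · simp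

/-- In an `I`-adically complete module, for `f ∈ I` the equations `m_n - f m_{n+1} = c_n` have a
unique solution. -/
theorem existsUnique_of_isAdicComplete {A : Type u} [CommRing A] (I : Ideal A)
    (M : Type u) [AddCommGroup M] [Module A M] [IsAdicComplete I M] (f : A) (hf : f ∈ I)
    (c : ℕ → M) : ∃! m : ℕ → M, ∀ n, m n - f • m (n + 1) = c n := by
  have hmono : ∀ {k k' : ℕ}, k ≤ k' →
      (I ^ k' • ⊤ : Submodule A M) ≤ (I ^ k • ⊤ : Submodule A M) :=
    fun h => Submodule.smul_mono_left (Ideal.pow_le_pow_right h)
  have hfpow : ∀ (j k : ℕ) (x : M), k ≤ j → f ^ j • x ∈ (I ^ k • ⊤ : Submodule A M) :=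
    fun j k x h => hmono h (Submodule.smul_mem_smul (Ideal.pow_mem_pow hf j) Submodule.mem_top)
  have hhaus : ∀ x : M, (∀ k, x ∈ (I ^ k • ⊤ : Submodule A M)) → x = 0 := fun x hx =>
    IsHausdorff.haus (inferInstance : IsHausdorff I M) x (fun k => SModEq.zero.2 (hx k))
  have hcauchy : ∀ n k d, partialSum f c n k - partialSum f c n (k + d) ∈
      (I ^ k • ⊤ : Submodule A M) := by
    intro n k d
    induction d with
    | zero => simp
    | succ d ih =>
      have e : partialSum f c n k - partialSum f c n (k + (d + 1)) =
          (partialSum f c n k - partialSum f c n (k + d)) - f ^ (k + d) • c (n + (k + d)) := by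
        rw [← Nat.add_assoc, partialSum_succ]
        abel
      rw [e]
      exact Submodule.sub_mem _ ih (hfpow _ _ _ (Nat.le_add_right k d))
  have hlim : ∀ n, ∃ L : M, ∀ k, partialSum f c n k ≡ L [SMOD (I ^ k • ⊤ : Submodule A M)] := by
    intro n
    refine IsPrecomplete.prec (inferInstance : IsPrecomplete I M) (f := partialSum f c n) ?_
    intro k k' h
    obtain ⟨d, rfl⟩ := Nat.exists_eq_add_of_le h
    exact SModEq.sub_mem.2 (hcauchy n k d)
  choose m hm using hlim
  have hm' : ∀ n k, partialSum f c n k - m n ∈ (I ^ k • ⊤ : Submodule A M) :=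
    fun n k => SModEq.sub_mem.1 (hm n k)
  have hsol : ∀ n, m n - f • m (n + 1) = c n := by
    intro n
    have hx : m n - f • m (n + 1) - c n = 0 := by
      apply hhaus
      intro k
      have e : m n - f • m (n + 1) - c n =
          -(partialSum f c n (k + 1) - m n) + f • (partialSum f c (n + 1) k - m (n + 1)) := by
        rw [partialSum_succ', smul_sub]
        abel
      rw [e]
      exact Submodule.add_mem _ (Submodule.neg_mem _ (hmono (Nat.le_succ k) (hm' n (k + 1))))
        (Submodule.smul_mem _ f (hm' (n + 1) k))
    exact sub_eq_zero.1 hx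
  refine ⟨m, hsol, fun m' hm'sol => funext fun n => ?_⟩
  have hd : ∀ n, m' n - m n = f • (m' (n + 1) - m (n + 1)) := by
    intro n
    have e1 : m n = c n + f • m (n + 1) := by
      rw [← hsol n]
      abel
    have e2 : m' n = c n + f • m' (n + 1) := by
      rw [← hm'sol n]
      abel
    rw [smul_sub]
    conv_lhs => rw [e1, e2]
    abel
  have hdk : ∀ k n, m' n - m n = f ^ k • (m' (n + k) - m (n + k)) := by
    intro k
    induction k with
    | zero => intro n; simp
    | succ k ih =>
      intro n
      rw [ih n, hd (n + k), ← mul_smul, ← pow_succ, Nat.add_assoc]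
  have h0 : m' n - m n = 0 := hhaus _ (fun k => by
    rw [hdk k n]
    exact hfpow k k _ le_rfl)
  exact sub_eq_zero.1 h0


/-- For a commutative ring A, an ideal I and an A-module M which is I-adically complete, the object M[0]
of D(A) is derived complete with respect to I. -/
theorem result {A : Type u} [CommRing A] (I : Ideal A)
    (M : Type u) [AddCommGroup M] [Module A M] [IsAdicComplete I M] :
    DRing.IsDerivedComplete I (Dual.inD A M) := by
  rw [H35.isDerivedComplete_inD_iff]
  intro f hf c
  exact existsUnique_of_isAdicComplete I M f hf c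

end Groth.Agent.S7048
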