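import Groth.Statements.S3806
import Groth.Agent.H19.PPBaseChange

set_option autoImplicit false
universe u
open scoped TensorProduct
attribute [local instance] PP16.mapAlgebra PP16.isScalarTower_mapAlgebra
open PP16

namespace Groth.Agent.S3806

/-- Let A → A' be a ring map, B an A-algebra and B' = B ⊗_A A'. Then the canonical map P^n_{B/A} ⊗_B B'
→ P^n_{B'/A'} induced by functoriality of principal parts is an isomorphism; that is, the square B →
P^n_{B/A}, B → B', with P^n_{B'/A'} in the corner, is a pushout of rings. -/
theorem result (n : ℕ) (A B A' B' : Type u) [CommRing A] [CommRing B] [Algebra A B]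
    [CommRing A'] [CommRing B'] [Algebra A' B'] [Algebra A A'] [Algebra B B'] [Algebra A B']
    [IsScalarTower A A' B'] [IsScalarTower A B B'] [Algebra.IsPushout A B A' B'] :
    Algebra.IsPushout B (PP16.P n A B) B' (PP16.P n A' B') := by
  letI := Groth.Agent.H19.tensorAlgebra A B A' B'
  haveI := Groth.Agent.H19.isScalarTower_tensorAlgebra A B A' B'
  haveI := Groth.Agent.H19.isPushout_tensor A B A' B'
  apply Algebra.IsPushout.symm
  constructor
  refine Groth.Agent.H19.isBaseChange_quotient (R := B) (R' := B') (S := B ⊗[A] B)
    (S' := B' ⊗[A'] B') ((KaehlerDifferential.ideal A B) ^ (n + 1))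
    ((KaehlerDifferential.ideal A' B') ^ (n + 1)) ?_ _ ?_
  · have h1 := Ideal.map_pow (PP16.tensorMap A B A' B') (KaehlerDifferential.ideal A B) (n + 1)
    rw [Groth.Agent.H19.ideal_map_tensorMap_eq_of_isPushout A B A' B'] at h1
    exact h1
  · intro s
    rfl


end Groth.Agent.S3806
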