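import Groth.Statements.S0583
import Mathlib
import Groth.Agent.H46.Kaplansky

set_option autoImplicit false
set_option linter.style.haveILetI false
universe u
open scoped Classical
open CAlg

namespace Groth.Agent.S0583

/-- If a module is an internal direct sum of countably generated submodules, then any direct summand of
it is again an internal direct sum of countably generated submodules. -/
theorem result (R : Type u) [CommRing R] (M : Type u)
    [AddCommGroup M] [Module R M] (ι : Type u) (N : ι → Submodule R M) (hN : DirectSum.IsInternal N)
    (hc : ∀ i, CAlg.IsCountablyGenerated R (N i)) (P Q : Submodule R M) (hPQ : IsCompl P Q) :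
    ∃ (κ : Type u) (L : κ → Submodule R P), DirectSum.IsInternal L ∧
      ∀ k, CAlg.IsCountablyGenerated R (L k) := by
  haveI := hN.chooseDecomposition
  have hc' : ∀ i, ∃ S : Set M, S.Countable ∧ Submodule.span R S = N i := by
    intro i
    obtain ⟨s, hs, hspan⟩ := hc i
    refine ⟨(N i).subtype '' s, hs.image _, ?_⟩
    rw [← Submodule.map_span, hspan, Submodule.map_subtype_top]
  obtain ⟨L, hind, hsup, hcg⟩ := Groth.Agent.H46.Kap.exists_decomp N
    (P.subtype ∘ₗ Submodule.projectionOnto P Q hPQ) P
    (fun x => Submodule.coe_mem _)
    (fun x hx => by
      have := Submodule.projectionOnto_apply_left hPQ ⟨x, hx⟩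
      simp only [LinearMap.comp_apply, Submodule.subtype_apply]
      exact congrArg Subtype.val this) hc'
  have h := Groth.Agent.H46.Kap.transfer P L hind hsup hcg
  exact ⟨ι, fun i => (L i).comap P.subtype, h.1, h.2⟩

end Groth.Agent.S0583
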