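import Groth.Statements.S6337
import Groth.Agent.S6338
import Mathlib.LinearAlgebra.DirectSum.TensorProduct

set_option autoImplicit false
universe u
open CAlg

namespace Groth.Agent.S6337

/-- A direct sum of modules is Mittag-Leffler if and only if each summand is Mittag-Leffler. -/
theorem result (R : Type u) [CommRing R] {ι : Type u} (M : ι → Type u)
    [∀ i, AddCommGroup (M i)] [∀ i, Module R (M i)] :
    CAlg.IsMittagLeffler R (DirectSum ι M) ↔ ∀ i, CAlg.IsMittagLeffler R (M i) := by
  classical
  constructor
  · intro h i
    refine Groth.Agent.S6338.result R (DirectSum.lof R ι M i) ?_ h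
    intro Q _ _
    have hleft : (DirectSum.component R ι M i) ∘ₗ (DirectSum.lof R ι M i) = LinearMap.id := by
      ext m
      simp
    apply Function.LeftInverse.injective (g := (DirectSum.component R ι M i).rTensor Q)
    intro z
    rw [← LinearMap.comp_apply, ← LinearMap.rTensor_comp, hleft, LinearMap.rTensor_id,
      LinearMap.id_apply]
  · intro h κ Q _ _
    rw [injective_iff_map_eq_zero]
    intro x hx
    have hcomp : ∀ i, (DirectSum.component R ι M i).rTensor (∀ k, Q k) x = 0 := by
      intro i
      apply (injective_iff_map_eq_zero _).mp (h i κ Q)
      rw [Groth.Agent.H32.piRightHom_rTensor, hx]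
      funext k
      simp
    have hds : ∀ (y : TensorProduct R (DirectSum ι M) (∀ k, Q k)) (i : ι),
        TensorProduct.directSumLeft R R M (∀ k, Q k) y i
          = (DirectSum.component R ι M i).rTensor (∀ k, Q k) y := by
      intro y i
      induction y using TensorProduct.induction_on with
      | zero => simp
      | tmul m q => simp [DirectSum.component]; rfl
      | add a b ha hb => rw [map_add, map_add, DirectSum.add_apply, ha, hb]
    apply (TensorProduct.directSumLeft R R M (∀ k, Q k)).injective
    rw [map_zero]
    ext i
    rw [hds, hcomp]
    simp

end Groth.Agent.S6337
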