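import Groth.Statements.S6383
import Mathlib

set_option autoImplicit false
set_option linter.style.haveILetI false
universe u
open scoped TensorProduct
open CAlg

namespace Groth.Agent.S6383

/-- For a ring map R → S and an R-module M whose base change S ⊗_R M is an internal direct sum of
countably generated S-submodules Q_i (i ∈ I), every countably generated submodule N ≤ M can be
enlarged to a countably generated submodule N' ≤ M, together with a subset I' ⊆ I, so that the
S-span of the image 1 ⊗ N' inside S ⊗_R M equals the sum of the Q_i over i ∈ I'. -/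
theorem result (R S : Type u) [CommRing R] [CommRing S] [Algebra R S]
    (M : Type u) [AddCommGroup M] [Module R M] {I : Type u} [DecidableEq I] (Q : I → Submodule S (S ⊗[R] M))
    (hQ : DirectSum.IsInternal Q) (hQc : ∀ i, ∃ t : Set (S ⊗[R] M), t.Countable ∧ Submodule.span S t = Q i)
    (N : Submodule R M) (hN : ∃ s : Set M, s.Countable ∧ Submodule.span R s = N) :
    ∃ (N' : Submodule R M) (I' : Set I), N ≤ N' ∧ (∃ s : Set M, s.Countable ∧ Submodule.span R s = N') ∧
      Submodule.span S ((TensorProduct.mk R S M 1) '' (N' : Set M)) = ⨆ i ∈ I', Q i := by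
  classical
  obtain ⟨s, hs, hsN⟩ := hN
  have htop := hQ.submodule_iSup_eq_top
  -- every tensor is in the S-span of finitely many `1 ⊗ m`
  have hF : ∀ w : S ⊗[R] M, ∃ F : Finset M,
      w ∈ Submodule.span S ((TensorProduct.mk R S M 1) '' (F : Set M)) := by
    intro w
    induction w using TensorProduct.induction_on with
    | zero => exact ⟨∅, Submodule.zero_mem _⟩
    | tmul a m =>
      refine ⟨{m}, ?_⟩
      have h1 : a ⊗ₜ[R] m = a • ((TensorProduct.mk R S M 1) m) := by
        rw [TensorProduct.mk_apply, TensorProduct.smul_tmul', smul_eq_mul, mul_one]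
      rw [h1]
      exact Submodule.smul_mem _ _ (Submodule.subset_span ⟨m, by simp, rfl⟩)
    | add x y hx hy =>
      obtain ⟨F1, h1⟩ := hx
      obtain ⟨F2, h2⟩ := hy
      refine ⟨F1 ∪ F2, Submodule.add_mem _ ?_ ?_⟩
      · exact Submodule.span_mono (Set.image_mono (by simp)) h1
      · exact Submodule.span_mono (Set.image_mono (by simp)) h2
  choose F hFw using hF
  have hG : ∀ x : M, ∃ G : Finset I, (TensorProduct.mk R S M 1) x ∈ ⨆ i ∈ G, Q i := by
    intro x
    have hx : (TensorProduct.mk R S M 1) x ∈ ⨆ i, Q i := by rw [htop]; trivial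
    exact (Submodule.mem_iSup_iff_exists_finset).mp hx
  choose G hGx using hG
  choose t htc htQ using hQc
  let step : Set M → Set M := fun s' =>
    s' ∪ ⋃ x ∈ s', ⋃ i ∈ (G x : Set I), ⋃ w ∈ t i, ((F w : Finset M) : Set M)
  have hstepc : ∀ s' : Set M, s'.Countable → (step s').Countable := fun s' hs' =>
    hs'.union (hs'.biUnion fun x _ => (Finset.countable_toSet _).biUnion fun i _ =>
      (htc i).biUnion fun w _ => Finset.countable_toSet _)
  let sn : ℕ → Set M := fun n => step^[n] s
  have hsnc : ∀ n, (sn n).Countable := by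
    intro n
    induction n with
    | zero => exact hs
    | succ n ih =>
      show (step^[n + 1] s).Countable
      rw [Function.iterate_succ_apply']
      exact hstepc _ ih
  have hsn_succ : ∀ n, sn (n + 1) = step (sn n) := fun n => Function.iterate_succ_apply' step n s
  let U : Set M := ⋃ n, sn n
  let I' : Set I := ⋃ n, ⋃ x ∈ sn n, (G x : Set I)
  have hUc : U.Countable := Set.countable_iUnion hsnc
  have hsU : s ⊆ U := fun x hx => Set.mem_iUnion.mpr ⟨0, hx⟩
  refine ⟨Submodule.span R U, I', ?_, ⟨U, hUc, rfl⟩, ?_⟩
  · rw [← hsN]; exact Submodule.span_mono hsU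
  · have h1 : Submodule.span S ((TensorProduct.mk R S M 1) '' ((Submodule.span R U : Submodule R M) : Set M)) =
        Submodule.span S ((TensorProduct.mk R S M 1) '' U) := by
      apply le_antisymm
      · rw [Submodule.span_le]
        have h2 : Submodule.span R U ≤ Submodule.comap (TensorProduct.mk R S M 1)
            ((Submodule.span S ((TensorProduct.mk R S M 1) '' U)).restrictScalars R) := by
          rw [Submodule.span_le]
          intro u hu
          exact Submodule.subset_span ⟨u, hu, rfl⟩
        rintro _ ⟨y, hy, rfl⟩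
        exact h2 hy
      · exact Submodule.span_mono (Set.image_mono Submodule.subset_span)
    rw [h1]
    apply le_antisymm
    · rw [Submodule.span_le]
      rintro _ ⟨u, hu, rfl⟩
      obtain ⟨n, hn⟩ := Set.mem_iUnion.mp hu
      have hsub : ∀ i ∈ G u, i ∈ I' := fun i hi =>
        Set.mem_iUnion.mpr ⟨n, Set.mem_biUnion hn (Finset.mem_coe.mpr hi)⟩
      have h3 : (⨆ i ∈ G u, Q i) ≤ ⨆ i ∈ I', Q i :=
        iSup₂_le fun i hi => le_iSup₂ (f := fun (j : I) (_ : j ∈ I') => Q j) i (hsub i hi)
      exact h3 (hGx u)
    · apply iSup₂_le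
      intro i hi
      obtain ⟨n, hn⟩ := Set.mem_iUnion.mp hi
      obtain ⟨x, hx, hix⟩ := Set.mem_iUnion₂.mp hn
      rw [← htQ i, Submodule.span_le]
      intro w hw
      have hFU : ((F w : Finset M) : Set M) ⊆ U := by
        intro m hm
        refine Set.mem_iUnion.mpr ⟨n + 1, ?_⟩
        rw [hsn_succ]
        exact Or.inr (Set.mem_biUnion hx (Set.mem_biUnion hix (Set.mem_biUnion hw hm)))
      exact Submodule.span_mono (Set.image_mono hFU) (hFw w)

end Groth.Agent.S6383
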