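import Groth.Statements.S7057
import Mathlib
import Groth.Agent.H35.DerSeq

set_option autoImplicit false
universe u
attribute [local instance] HasDerivedCategory.standard
open DRing

namespace Groth.Agent.S7057

open CategoryTheory DerivedCategory

/-- Cohomology commutes with restriction of scalars on derived categories (object level). -/
theorem nonempty_homology_restrictD_iso {A B : Type u} [CommRing A] [CommRing B] (φ : A →+* B)
    (L : Dual.D B) (i : ℤ) :
    Nonempty ((homologyFunctor (ModuleCat.{u} A) i).obj ((DRing.restrictD φ).obj L) ≅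
      (ModuleCat.restrictScalars.{u} φ).obj ((homologyFunctor (ModuleCat.{u} B) i).obj L)) := by
  let E := (Q (C := ModuleCat.{u} B)).objPreimage L
  let e : Q.obj E ≅ L := (Q (C := ModuleCat.{u} B)).objObjPreimageIso L
  let F := ModuleCat.restrictScalars.{u} φ
  have e1 : (homologyFunctor (ModuleCat.{u} A) i).obj ((DRing.restrictD φ).obj L) ≅
      (homologyFunctor (ModuleCat.{u} A) i).obj
        (Q.obj ((F.mapHomologicalComplex (ComplexShape.up ℤ)).obj E)) :=
    (homologyFunctor (ModuleCat.{u} A) i).mapIso
      ((DRing.restrictD φ).mapIso e.symm ≪≫ (F.mapDerivedCategoryFactors).app E)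
  have e2 : (homologyFunctor (ModuleCat.{u} A) i).obj
        (Q.obj ((F.mapHomologicalComplex (ComplexShape.up ℤ)).obj E)) ≅
      ((E.sc i).map F).homology :=
    (homologyFunctorFactors (ModuleCat.{u} A) i).app
      ((F.mapHomologicalComplex (ComplexShape.up ℤ)).obj E)
  have e3 : ((E.sc i).map F).homology ≅ F.obj (E.sc i).homology := (E.sc i).mapHomologyIso F
  have e4 : F.obj (E.sc i).homology ≅ F.obj ((homologyFunctor (ModuleCat.{u} B) i).obj L) :=
    F.mapIso (((homologyFunctorFactors (ModuleCat.{u} B) i).app E).symm ≪≫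
      (homologyFunctor (ModuleCat.{u} B) i).mapIso e)
  exact ⟨e1 ≪≫ e2 ≪≫ e3 ≪≫ e4⟩

theorem seqComplete_restrictScalars_iff {A B : Type u} [CommRing A] [CommRing B] (φ : A →+* B)
    (X : ModuleCat.{u} B) (f : A) :
    H35.SeqComplete f ((ModuleCat.restrictScalars.{u} φ).obj X) ↔ H35.SeqComplete (φ f) X :=
  Iff.rfl


/-- For a homomorphism of commutative rings A → B, an ideal I of A and an object L of D(B), L is derived
complete with respect to the extended ideal IB if and only if L viewed in D(A) by restriction of
scalars is derived complete with respect to I. -/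
theorem result {A B : Type u} [CommRing A] [CommRing B] (φ : A →+* B)
    (I : Ideal A) (L : Dual.D B) :
    DRing.IsDerivedComplete (I.map φ) L ↔ DRing.IsDerivedComplete I ((DRing.restrictD φ).obj L) := by
  have key : ∀ (f : A) (i : ℤ), H35.SeqComplete f (Dual.HD A ((DRing.restrictD φ).obj L) i) ↔
      H35.SeqComplete (φ f) (Dual.HD B L i) := by
    intro f i
    obtain ⟨e⟩ := nonempty_homology_restrictD_iso φ L i
    refine Iff.trans ?_ (seqComplete_restrictScalars_iff φ _ f)
    exact ⟨H35.SeqComplete.of_linearEquiv e.toLinearEquiv,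
      H35.SeqComplete.of_linearEquiv e.toLinearEquiv.symm⟩
  rw [H35.isDerivedComplete_iff_seqComplete, H35.isDerivedComplete_iff_seqComplete]
  constructor
  · intro h f hf i
    exact (key f i).2 (h (φ f) (Ideal.mem_map_of_mem φ hf) i)
  · intro h g hg i
    have hs : ∀ g' ∈ (φ '' (I : Set A)), H35.SeqComplete g' (Dual.HD B L i) := by
      rintro g' ⟨f, hf, rfl⟩
      exact (key f i).1 (h f hf i)
    exact H35.seqComplete_of_span hs hg

end Groth.Agent.S7057
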