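import Groth.Statements.S3820
import Mathlib
import Groth.Agent.H75.SymPow

set_option autoImplicit false
universe u
open scoped TensorProduct
open PP16

namespace Groth.Agent.S3820

open Groth.Agent.H75
open scoped Pointwise

section canon

variable (A B : Type u) [CommRing A] [CommRing B] [Algebra A B]

theorem fromIdeal_eq_iff (x y : KaehlerDifferential.ideal A B) :
    KaehlerDifferential.fromIdeal A B x = KaehlerDifferential.fromIdeal A B y ↔
      ((x : B ⊗[A] B) - y) ∈ (KaehlerDifferential.ideal A B) ^ 2 :=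
  Ideal.toCotangent_eq _

/-- A chosen lift to the diagonal ideal of a differential form. -/
noncomputable def lf (ω : Ω[B⁄A]) : B ⊗[A] B :=
  ((KaehlerDifferential.fromIdeal_surjective A B ω).choose : B ⊗[A] B)

theorem lf_mem (ω : Ω[B⁄A]) : lf A B ω ∈ KaehlerDifferential.ideal A B :=
  (KaehlerDifferential.fromIdeal_surjective A B ω).choose.2

theorem fromIdeal_lf (ω : Ω[B⁄A]) :
    KaehlerDifferential.fromIdeal A B ⟨lf A B ω, lf_mem A B ω⟩ = ω :=
  (KaehlerDifferential.fromIdeal_surjective A B ω).choose_spec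

theorem kappa_eq (x : B ⊗[A] B) (hx : x ∈ KaehlerDifferential.ideal A B) :
    (KaehlerDifferential.D A B).tensorProductTo x =
      KaehlerDifferential.fromIdeal A B ⟨x, hx⟩ :=
  KaehlerDifferential.D_tensorProductTo ⟨x, hx⟩

variable (ι : Type u) [Fintype ι]

theorem prod_univ_mem (x : ι → B ⊗[A] B) (hx : ∀ i, x i ∈ KaehlerDifferential.ideal A B) :
    ∏ i, x i ∈ ((KaehlerDifferential.ideal A B) ^ (Fintype.card ι)).restrictScalars B := by
  simpa using PP16.prod_mem_pow (KaehlerDifferential.ideal A B) Finset.univ x (fun i _ => hx i)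

/-- The class of the product of the chosen lifts. -/
noncomputable def Fval (ω : ι → Ω[B⁄A]) : PP16.grI A B (Fintype.card ι) :=
  Submodule.Quotient.mk
    ⟨∏ i, lf A B (ω i), prod_univ_mem A B ι _ (fun i => lf_mem A B (ω i))⟩

theorem Fval_eq (ω : ι → Ω[B⁄A]) (x : ι → B ⊗[A] B)
    (hx : ∀ i, x i ∈ KaehlerDifferential.ideal A B)
    (h : ∀ i, KaehlerDifferential.fromIdeal A B ⟨x i, hx i⟩ = ω i) :
    Fval A B ι ω = Submodule.Quotient.mk ⟨∏ i, x i, prod_univ_mem A B ι x hx⟩ := by
  have h2 : ∀ i ∈ (Finset.univ : Finset ι),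
      lf A B (ω i) - x i ∈ (KaehlerDifferential.ideal A B) ^ 2 := by
    intro i _
    refine (fromIdeal_eq_iff A B ⟨lf A B (ω i), lf_mem A B (ω i)⟩ ⟨x i, hx i⟩).mp ?_
    rw [fromIdeal_lf, h i]
  have h3 := SymPow.prod_sub_prod_mem (KaehlerDifferential.ideal A B) Finset.univ
    (fun i => lf A B (ω i)) x (fun i _ => lf_mem A B (ω i)) (fun i _ => hx i) h2
  rw [Finset.card_univ] at h3
  rw [Fval, Submodule.Quotient.eq, Submodule.mem_comap, Submodule.restrictScalars_mem]
  exact h3

theorem Fval_perm (e : Equiv.Perm ι) (ω : ι → Ω[B⁄A]) :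
    Fval A B ι (fun i => ω (e i)) = Fval A B ι ω :=
  congrArg Submodule.Quotient.mk
    (Subtype.ext (Equiv.prod_comp e (fun i => lf A B (ω i))))

/-- `Fval` is multilinear. -/
noncomputable def Fml :
    MultilinearMap B (fun _ : ι => Ω[B⁄A]) (PP16.grI A B (Fintype.card ι)) where
  toFun := Fval A B ι
  map_update_add' := by
    intro _ ω i a b
    have key : ∀ (c : B ⊗[A] B), c ∈ KaehlerDifferential.ideal A B → ∀ j,
        Function.update (fun j => lf A B (ω j)) i c j ∈ KaehlerDifferential.ideal A B := by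
      intro c hc j
      rw [Function.update_apply]
      split_ifs
      · exact hc
      · exact lf_mem A B (ω j)
    have key2 : ∀ (c : B ⊗[A] B) (hc : c ∈ KaehlerDifferential.ideal A B) (w : Ω[B⁄A]),
        KaehlerDifferential.fromIdeal A B ⟨c, hc⟩ = w → ∀ j,
        KaehlerDifferential.fromIdeal A B
          ⟨Function.update (fun j => lf A B (ω j)) i c j, key c hc j⟩ =
          Function.update ω i w j := by
      intro c hc w hw j
      by_cases hj : j = i
      · have e1 : (⟨Function.update (fun j => lf A B (ω j)) i c j, key c hc j⟩ :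
            KaehlerDifferential.ideal A B) = ⟨c, hc⟩ :=
          Subtype.ext (by
            show Function.update (fun j => lf A B (ω j)) i c j = c
            rw [Function.update_apply, if_pos hj])
        rw [e1, Function.update_apply, if_pos hj]; exact hw
      · have e1 : (⟨Function.update (fun j => lf A B (ω j)) i c j, key c hc j⟩ :
            KaehlerDifferential.ideal A B) = ⟨lf A B (ω j), lf_mem A B (ω j)⟩ :=
          Subtype.ext (by
            show Function.update (fun j => lf A B (ω j)) i c j = lf A B (ω j)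
            rw [Function.update_apply, if_neg hj])
        rw [e1, Function.update_apply, if_neg hj]; exact fromIdeal_lf A B (ω j)
    have hab : KaehlerDifferential.fromIdeal A B ⟨lf A B a + lf A B b,
        Ideal.add_mem _ (lf_mem A B a) (lf_mem A B b)⟩ = a + b := by
      have e2 : (⟨lf A B a + lf A B b, Ideal.add_mem _ (lf_mem A B a) (lf_mem A B b)⟩ :
          KaehlerDifferential.ideal A B) =
          ⟨lf A B a, lf_mem A B a⟩ + ⟨lf A B b, lf_mem A B b⟩ := rfl
      rw [e2, map_add, fromIdeal_lf, fromIdeal_lf]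
    have e_ab := Fval_eq A B ι (Function.update ω i (a + b))
      (fun j => Function.update (fun j => lf A B (ω j)) i (lf A B a + lf A B b) j)
      (key _ (Ideal.add_mem _ (lf_mem A B a) (lf_mem A B b))) (key2 _ _ _ hab)
    have e_a := Fval_eq A B ι (Function.update ω i a)
      (fun j => Function.update (fun j => lf A B (ω j)) i (lf A B a) j)
      (key _ (lf_mem A B a)) (key2 _ _ _ (fromIdeal_lf A B a))
    have e_b := Fval_eq A B ι (Function.update ω i b)
      (fun j => Function.update (fun j => lf A B (ω j)) i (lf A B b) j)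
      (key _ (lf_mem A B b)) (key2 _ _ _ (fromIdeal_lf A B b))
    rw [e_ab, e_a, e_b, ← Submodule.Quotient.mk_add]
    congr 1
    apply Subtype.ext
    show ∏ j, Function.update (fun j => lf A B (ω j)) i (lf A B a + lf A B b) j =
      ∏ j, Function.update (fun j => lf A B (ω j)) i (lf A B a) j +
      ∏ j, Function.update (fun j => lf A B (ω j)) i (lf A B b) j
    rw [Finset.prod_update_of_mem (Finset.mem_univ i),
      Finset.prod_update_of_mem (Finset.mem_univ i),
      Finset.prod_update_of_mem (Finset.mem_univ i), add_mul]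
  map_update_smul' := by
    intro _ ω i c a
    have key : ∀ (c : B ⊗[A] B), c ∈ KaehlerDifferential.ideal A B → ∀ j,
        Function.update (fun j => lf A B (ω j)) i c j ∈ KaehlerDifferential.ideal A B := by
      intro c hc j
      rw [Function.update_apply]
      split_ifs
      · exact hc
      · exact lf_mem A B (ω j)
    have key2 : ∀ (c : B ⊗[A] B) (hc : c ∈ KaehlerDifferential.ideal A B) (w : Ω[B⁄A]),
        KaehlerDifferential.fromIdeal A B ⟨c, hc⟩ = w → ∀ j,
        KaehlerDifferential.fromIdeal A B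
          ⟨Function.update (fun j => lf A B (ω j)) i c j, key c hc j⟩ =
          Function.update ω i w j := by
      intro c hc w hw j
      by_cases hj : j = i
      · have e1 : (⟨Function.update (fun j => lf A B (ω j)) i c j, key c hc j⟩ :
            KaehlerDifferential.ideal A B) = ⟨c, hc⟩ :=
          Subtype.ext (by
            show Function.update (fun j => lf A B (ω j)) i c j = c
            rw [Function.update_apply, if_pos hj])
        rw [e1, Function.update_apply, if_pos hj]; exact hw
      · have e1 : (⟨Function.update (fun j => lf A B (ω j)) i c j, key c hc j⟩ :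
            KaehlerDifferential.ideal A B) = ⟨lf A B (ω j), lf_mem A B (ω j)⟩ :=
          Subtype.ext (by
            show Function.update (fun j => lf A B (ω j)) i c j = lf A B (ω j)
            rw [Function.update_apply, if_neg hj])
        rw [e1, Function.update_apply, if_neg hj]; exact fromIdeal_lf A B (ω j)
    have hca : KaehlerDifferential.fromIdeal A B ⟨algebraMap B (B ⊗[A] B) c * lf A B a,
        Ideal.mul_mem_left _ _ (lf_mem A B a)⟩ = c • a := by
      have e2 : (⟨algebraMap B (B ⊗[A] B) c * lf A B a,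
          Ideal.mul_mem_left _ _ (lf_mem A B a)⟩ : KaehlerDifferential.ideal A B) =
          (algebraMap B (B ⊗[A] B) c) •
            (⟨lf A B a, lf_mem A B a⟩ : KaehlerDifferential.ideal A B) := rfl
      rw [e2, map_smul, fromIdeal_lf, algebraMap_smul]
    have e_ca := Fval_eq A B ι (Function.update ω i (c • a))
      (fun j => Function.update (fun j => lf A B (ω j)) i
        (algebraMap B (B ⊗[A] B) c * lf A B a) j)
      (key _ (Ideal.mul_mem_left _ _ (lf_mem A B a))) (key2 _ _ _ hca)
    have e_a := Fval_eq A B ι (Function.update ω i a)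
      (fun j => Function.update (fun j => lf A B (ω j)) i (lf A B a) j)
      (key _ (lf_mem A B a)) (key2 _ _ _ (fromIdeal_lf A B a))
    rw [e_ca, e_a, ← Submodule.Quotient.mk_smul]
    congr 1
    apply Subtype.ext
    show ∏ j, Function.update (fun j => lf A B (ω j)) i
        (algebraMap B (B ⊗[A] B) c * lf A B a) j =
      c • ∏ j, Function.update (fun j => lf A B (ω j)) i (lf A B a) j
    rw [Finset.prod_update_of_mem (Finset.mem_univ i),
      Finset.prod_update_of_mem (Finset.mem_univ i), Algebra.smul_def, mul_assoc]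

/-- The canonical map `Sym^ι Ω → I^n / I^(n+1)`. -/
noncomputable def phi0 : SymmetricPower B ι Ω[B⁄A] →ₗ[B] PP16.grI A B (Fintype.card ι) :=
  SymPow.lift (Fml A B ι) (fun e ω => Fval_perm A B ι e ω)

theorem phi0_tprod (ω : ι → Ω[B⁄A]) :
    phi0 A B ι (SymmetricPower.tprod B ω) = Fval A B ι ω := by
  rw [phi0, SymPow.lift_tprod]; rfl

theorem phi0_tprod_D (b : ι → B) :
    phi0 A B ι (SymmetricPower.tprod B (fun i => KaehlerDifferential.D A B (b i))) =
      PP16.zetaProd A B b := by
  rw [phi0_tprod, Fval_eq A B ι _ (fun i => (1 : B) ⊗ₜ[A] b i - b i ⊗ₜ[A] (1 : B))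
    (fun i => KaehlerDifferential.one_smul_sub_smul_one_mem_ideal A (b i))
    (fun i => (KaehlerDifferential.D_apply A B (b i)).symm)]
  rfl

/-! ### Surjectivity -/

theorem span_le_aux (G : Set (B ⊗[A] B)) :
    ((Ideal.span G).restrictScalars B : Submodule B (B ⊗[A] B)) ≤
      Submodule.span B G ⊔
        ((KaehlerDifferential.ideal A B) * Ideal.span G).restrictScalars B := by
  intro z hz
  rw [Submodule.restrictScalars_mem] at hz
  refine Submodule.span_induction (p := fun z _ => z ∈ Submodule.span B G ⊔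
    ((KaehlerDifferential.ideal A B) * Ideal.span G).restrictScalars B) ?_ ?_ ?_ ?_ hz
  · intro g hg
    exact Submodule.mem_sup_left (Submodule.subset_span hg)
  · exact zero_mem _
  · intro x y _ _ hx hy
    exact add_mem hx hy
  · intro p x _ hx
    obtain ⟨u, hu, v, hv, rfl⟩ := Submodule.mem_sup.mp hx
    rw [smul_eq_mul, mul_add]
    refine add_mem ?_ (Submodule.mem_sup_right ?_)
    · have hu' : u ∈ Ideal.span G :=
        (Submodule.span_le.2 (Submodule.subset_span (R := B ⊗[A] B)) :
          Submodule.span B G ≤ (Ideal.span G).restrictScalars B) hu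
      have e : p * u = (Algebra.TensorProduct.lmul' A p : B) • u +
          (p - (Algebra.TensorProduct.lmul' A p : B) ⊗ₜ[A] (1 : B)) * u := by
        rw [Algebra.smul_def, Algebra.TensorProduct.algebraMap_apply,
          Algebra.algebraMap_self_apply]
        ring
      rw [e]
      refine add_mem (Submodule.mem_sup_left (Submodule.smul_mem _ _ hu))
        (Submodule.mem_sup_right ?_)
      rw [Submodule.restrictScalars_mem]
      refine Ideal.mul_mem_mul ?_ hu'
      rw [RingHom.mem_ker, map_sub, Algebra.TensorProduct.lmul'_apply_tmul, mul_one, sub_self]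
    · rw [Submodule.restrictScalars_mem] at hv ⊢
      exact Ideal.mul_mem_left _ p hv

theorem pow_le_span (s : Finset ι) :
    (KaehlerDifferential.ideal A B) ^ s.card ≤
      Ideal.span (Set.range (fun b : ι → B =>
        ∏ i ∈ s, ((1 : B) ⊗ₜ[A] b i - b i ⊗ₜ[A] (1 : B)))) := by
  classical
  induction s using Finset.induction_on with
  | empty =>
    simp only [Finset.card_empty, pow_zero, Finset.prod_empty]
    rw [Ideal.one_eq_top, top_le_iff, Ideal.eq_top_iff_one]
    exact Ideal.subset_span ⟨fun _ => 0, rfl⟩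
  | insert a s ha ih =>
    rw [Finset.card_insert_of_notMem ha, pow_succ']
    calc (KaehlerDifferential.ideal A B) * (KaehlerDifferential.ideal A B) ^ s.card
        ≤ Ideal.span (Set.range fun t : B => (1 : B) ⊗ₜ[A] t - t ⊗ₜ[A] (1 : B)) *
            Ideal.span (Set.range (fun b : ι → B =>
              ∏ i ∈ s, ((1 : B) ⊗ₜ[A] b i - b i ⊗ₜ[A] (1 : B)))) :=
          Ideal.mul_mono (le_of_eq (KaehlerDifferential.span_range_eq_ideal A B).symm) ih
      _ = Ideal.span ((Set.range fun t : B => (1 : B) ⊗ₜ[A] t - t ⊗ₜ[A] (1 : B)) *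
            (Set.range (fun b : ι → B =>
              ∏ i ∈ s, ((1 : B) ⊗ₜ[A] b i - b i ⊗ₜ[A] (1 : B))))) :=
          Ideal.span_mul_span' _ _
      _ ≤ _ := by
          refine Ideal.span_mono ?_
          rintro _ ⟨_, ⟨t, rfl⟩, _, ⟨b, rfl⟩, rfl⟩
          refine ⟨Function.update b a t, ?_⟩
          simp only
          rw [Finset.prod_insert ha, Function.update_self]
          congr 1
          refine Finset.prod_congr rfl (fun i hi => ?_)
          rw [Function.update_of_ne (ne_of_mem_of_not_mem hi ha)]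

theorem phi0_surjective : Function.Surjective (phi0 A B ι) := by
  classical
  intro y
  obtain ⟨⟨z, hz⟩, rfl⟩ := Submodule.Quotient.mk_surjective _ y
  have hG : Ideal.span (Set.range (fun b : ι → B =>
      ∏ i, ((1 : B) ⊗ₜ[A] b i - b i ⊗ₜ[A] (1 : B)))) ≤
      (KaehlerDifferential.ideal A B) ^ (Fintype.card ι) := by
    rw [Ideal.span_le]
    rintro _ ⟨b, rfl⟩
    exact (Submodule.restrictScalars_mem B _ _).mp (prod_univ_mem A B ι _
      (fun i => KaehlerDifferential.one_smul_sub_smul_one_mem_ideal A (b i)))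
  have hz1 : z ∈ Ideal.span (Set.range (fun b : ι → B =>
      ∏ i, ((1 : B) ⊗ₜ[A] b i - b i ⊗ₜ[A] (1 : B)))) := by
    have := pow_le_span A B ι (Finset.univ : Finset ι)
    rw [Finset.card_univ] at this
    exact this ((Submodule.restrictScalars_mem B _ z).mp hz)
  have hz2 := span_le_aux A B _ ((Submodule.restrictScalars_mem B _ z).mpr hz1)
  obtain ⟨u, hu, v, hv, huv⟩ := Submodule.mem_sup.mp hz2
  have hv' : v ∈ (KaehlerDifferential.ideal A B) ^ (Fintype.card ι + 1) := by
    rw [pow_succ']
    exact Ideal.mul_mono le_rfl hG ((Submodule.restrictScalars_mem B _ v).mp hv)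
  have claim : ∀ u ∈ Submodule.span B (Set.range (fun b : ι → B =>
      ∏ i, ((1 : B) ⊗ₜ[A] b i - b i ⊗ₜ[A] (1 : B)))),
      ∃ (a : SymmetricPower B ι Ω[B⁄A])
        (hu : u ∈ ((KaehlerDifferential.ideal A B) ^ (Fintype.card ι)).restrictScalars B),
        phi0 A B ι a = Submodule.Quotient.mk ⟨u, hu⟩ := by
    intro u hu
    refine Submodule.span_induction (p := fun u _ => ∃ (a : SymmetricPower B ι Ω[B⁄A])
      (hu : u ∈ ((KaehlerDifferential.ideal A B) ^ (Fintype.card ι)).restrictScalars B),
      phi0 A B ι a = Submodule.Quotient.mk ⟨u, hu⟩) ?_ ?_ ?_ ?_ hu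
    · rintro _ ⟨b, rfl⟩
      exact ⟨_, _, phi0_tprod_D A B ι b⟩
    · exact ⟨0, zero_mem _, by rw [map_zero]; rfl⟩
    · rintro x y _ _ ⟨a, hx, ha⟩ ⟨b, hy, hb⟩
      exact ⟨a + b, add_mem hx hy, by rw [map_add, ha, hb]; rfl⟩
    · rintro c x _ ⟨a, hx, ha⟩
      exact ⟨c • a, Submodule.smul_mem _ c hx, by rw [map_smul, ha]; rfl⟩
  obtain ⟨a, hu', ha⟩ := claim u hu
  refine ⟨a, ?_⟩
  rw [ha, Submodule.Quotient.eq, Submodule.mem_comap, Submodule.restrictScalars_mem]
  show u - z ∈ _
  rw [← huv]
  have e : u - (u + v) = -v := by ring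
  rw [e]
  exact neg_mem hv'

end canon

/-! ### Injectivity, from formal smoothness -/

section smooth

variable (A B : Type u) [CommRing A] [CommRing B] [Algebra A B]

/-- The truncated polynomial ring on the set of all differentials. -/
abbrev TN (N : ℕ) : Type u :=
  MvPolynomial (Ω[B⁄A]) B ⧸ (MvPolynomial.idealOfVars (Ω[B⁄A]) B) ^ N

variable (s : Ω[B⁄A] →ₗ[B] (Ω[B⁄A] →₀ B))

/-- `b ↦ ℓ(s(db))`. -/
noncomputable def ellD (b : B) : MvPolynomial (Ω[B⁄A]) B :=
  SymPow.linForm (s (KaehlerDifferential.D A B b))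

theorem ellD_mem (b : B) : ellD A B s b ∈ MvPolynomial.idealOfVars (Ω[B⁄A]) B :=
  SymPow.linForm_mem _

/-- The second-factor map `b ↦ b + ℓ(s(db))` into the first-order truncation. -/
noncomputable def g1 : B →ₐ[A] TN A B 2 where
  toFun b := Ideal.Quotient.mk _ (MvPolynomial.C b + ellD A B s b)
  map_one' := by
    show Ideal.Quotient.mk _ (MvPolynomial.C (1 : B) + ellD A B s 1) = 1
    simp only [ellD, map_one, Derivation.map_one_eq_zero, map_zero, add_zero]
  map_mul' b c := by
    show Ideal.Quotient.mk _ (MvPolynomial.C (b * c) + ellD A B s (b * c)) =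
      Ideal.Quotient.mk _ (MvPolynomial.C b + ellD A B s b) *
        Ideal.Quotient.mk _ (MvPolynomial.C c + ellD A B s c)
    rw [← map_mul, Ideal.Quotient.eq]
    have e : (MvPolynomial.C (b * c) + ellD A B s (b * c)) -
        (MvPolynomial.C b + ellD A B s b) * (MvPolynomial.C c + ellD A B s c) =
        -(ellD A B s b * ellD A B s c) := by
      simp only [ellD, Derivation.leibniz, map_add, map_smul, MvPolynomial.smul_eq_C_mul,
        map_mul]
      ring
    rw [e, pow_two]
    exact neg_mem (Ideal.mul_mem_mul (ellD_mem A B s b) (ellD_mem A B s c))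
  map_zero' := by
    show Ideal.Quotient.mk _ (MvPolynomial.C (0 : B) + ellD A B s 0) = 0
    simp only [ellD, map_zero, add_zero]
  map_add' b c := by
    show Ideal.Quotient.mk _ (MvPolynomial.C (b + c) + ellD A B s (b + c)) =
      Ideal.Quotient.mk _ (MvPolynomial.C b + ellD A B s b) +
        Ideal.Quotient.mk _ (MvPolynomial.C c + ellD A B s c)
    rw [← map_add]
    congr 1
    simp only [ellD, map_add]
    ring
  commutes' a := by
    show Ideal.Quotient.mk _ (MvPolynomial.C (algebraMap A B a) + ellD A B s (algebraMap A B a)) =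
      algebraMap A (TN A B 2) a
    simp only [ellD, Derivation.map_algebraMap, map_zero, add_zero]
    rfl

theorem g1_apply (b : B) :
    g1 A B s b = Ideal.Quotient.mk _ (MvPolynomial.C b + ellD A B s b) := rfl

/-- The map `B ⊗ B → B[X]/(X)^2`. -/
noncomputable def ff : B ⊗[A] B →ₐ[B] TN A B 2 :=
  Algebra.TensorProduct.lift (Algebra.ofId B (TN A B 2)) (g1 A B s)
    (fun _ _ => Commute.all _ _)

theorem ff_apply (z : B ⊗[A] B) :
    ff A B s z = Ideal.Quotient.mk _ (MvPolynomial.C (Algebra.TensorProduct.lmul' A z) +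
      SymPow.linForm (s ((KaehlerDifferential.D A B).tensorProductTo z))) := by
  induction z using TensorProduct.induction_on with
  | zero => simp
  | tmul b c =>
    rw [ff, Algebra.TensorProduct.lift_tmul, Algebra.TensorProduct.lmul'_apply_tmul,
      Derivation.tensorProductTo_tmul, g1_apply]
    have h1 : Algebra.ofId B (TN A B 2) b = Ideal.Quotient.mk _ (MvPolynomial.C b) := rfl
    rw [h1, ← map_mul]
    congr 1
    simp only [ellD, map_smul, MvPolynomial.smul_eq_C_mul, map_mul]
    ring
  | add x y hx hy =>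
    have e1 : ff A B s (x + y) = ff A B s x + ff A B s y := map_add _ _ _
    rw [e1, hx, hy]
    simp only [map_add]
    ring

theorem ff_of_mem (x : B ⊗[A] B) (hx : x ∈ KaehlerDifferential.ideal A B) :
    ff A B s x = Ideal.Quotient.mk _
      (SymPow.linForm (s (KaehlerDifferential.fromIdeal A B ⟨x, hx⟩))) := by
  rw [ff_apply, kappa_eq A B x hx]
  have h0 : Algebra.TensorProduct.lmul' A x = 0 := RingHom.mem_ker.mp hx
  rw [h0, map_zero, zero_add]

/-- The transition map `B[X]/(X)^N → B[X]/(X)^2`. -/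
noncomputable def gN (N : ℕ) (hN : 2 ≤ N) : TN A B N →ₐ[B] TN A B 2 :=
  Ideal.Quotient.factorₐ B (Ideal.pow_le_pow_right hN)

theorem gN_mk (N : ℕ) (hN : 2 ≤ N) (p : MvPolynomial (Ω[B⁄A]) B) :
    gN A B N hN (Ideal.Quotient.mk _ p) = Ideal.Quotient.mk _ p := rfl

theorem gN_surjective (N : ℕ) (hN : 2 ≤ N) : Function.Surjective (gN A B N hN) := by
  intro y
  obtain ⟨p, rfl⟩ := Ideal.Quotient.mk_surjective y
  exact ⟨Ideal.Quotient.mk _ p, rfl⟩

theorem gN_ker_nilpotent (N : ℕ) (hN : 2 ≤ N) :
    IsNilpotent (RingHom.ker (gN A B N hN : TN A B N →+* TN A B 2)) := by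
  refine ⟨N, ?_⟩
  rw [Ideal.zero_eq_bot, eq_bot_iff]
  have h1 : RingHom.ker (gN A B N hN : TN A B N →+* TN A B 2) ≤
      (MvPolynomial.idealOfVars (Ω[B⁄A]) B).map
        (Ideal.Quotient.mk ((MvPolynomial.idealOfVars (Ω[B⁄A]) B) ^ N)) := by
    intro x hx
    obtain ⟨p, rfl⟩ := Ideal.Quotient.mk_surjective x
    rw [RingHom.mem_ker] at hx
    have hp : p ∈ (MvPolynomial.idealOfVars (Ω[B⁄A]) B) ^ 2 :=
      Ideal.Quotient.eq_zero_iff_mem.mp hx
    exact Ideal.mem_map_of_mem _ (Ideal.pow_le_self two_ne_zero hp)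
  calc (RingHom.ker (gN A B N hN : TN A B N →+* TN A B 2)) ^ N
      ≤ ((MvPolynomial.idealOfVars (Ω[B⁄A]) B).map
        (Ideal.Quotient.mk ((MvPolynomial.idealOfVars (Ω[B⁄A]) B) ^ N))) ^ N :=
        Ideal.pow_right_mono h1 N
    _ = ((MvPolynomial.idealOfVars (Ω[B⁄A]) B) ^ N).map
        (Ideal.Quotient.mk ((MvPolynomial.idealOfVars (Ω[B⁄A]) B) ^ N)) :=
        (Ideal.map_pow _ _ _).symm
    _ = ⊥ := Ideal.map_quotient_self _

variable [Algebra.FormallySmooth A B]

/-- A lift of `ff` to the `N`-th truncation, by formal smoothness of `B ⊗ B` over `B`. -/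
noncomputable def Psi (N : ℕ) (hN : 2 ≤ N) : B ⊗[A] B →ₐ[B] TN A B N :=
  Algebra.FormallySmooth.liftOfSurjective (ff A B s) (gN A B N hN) (gN_surjective A B N hN)
    (gN_ker_nilpotent A B N hN)

theorem gN_Psi (N : ℕ) (hN : 2 ≤ N) (z : B ⊗[A] B) :
    gN A B N hN (Psi A B s N hN z) = ff A B s z :=
  Algebra.FormallySmooth.liftOfSurjective_apply _ _ _ _ z

theorem exists_rep (N : ℕ) (hN : 2 ≤ N) (x : B ⊗[A] B)
    (hx : x ∈ KaehlerDifferential.ideal A B) :
    ∃ p : MvPolynomial (Ω[B⁄A]) B, Psi A B s N hN x = Ideal.Quotient.mk _ p ∧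
      p - SymPow.linForm (s (KaehlerDifferential.fromIdeal A B ⟨x, hx⟩)) ∈
        (MvPolynomial.idealOfVars (Ω[B⁄A]) B) ^ 2 := by
  obtain ⟨p, hp⟩ := Ideal.Quotient.mk_surjective (Psi A B s N hN x)
  refine ⟨p, hp.symm, ?_⟩
  have h1 := gN_Psi A B s N hN x
  rw [← hp, ff_of_mem A B s x hx, gN_mk] at h1
  exact Ideal.Quotient.eq.mp h1

theorem exists_rep_mem (N : ℕ) (hN : 2 ≤ N) (x : B ⊗[A] B)
    (hx : x ∈ KaehlerDifferential.ideal A B) (p : MvPolynomial (Ω[B⁄A]) B)
    (hp : p - SymPow.linForm (s (KaehlerDifferential.fromIdeal A B ⟨x, hx⟩)) ∈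
        (MvPolynomial.idealOfVars (Ω[B⁄A]) B) ^ 2) :
    p ∈ MvPolynomial.idealOfVars (Ω[B⁄A]) B := by
  have := Ideal.add_mem _ (Ideal.pow_le_self two_ne_zero hp)
    (SymPow.linForm_mem (s (KaehlerDifferential.fromIdeal A B ⟨x, hx⟩)))
  rwa [sub_add_cancel] at this

variable (ι : Type u) [Fintype ι]

/-- The transition map `B[X]/(X)^(n+2) → B[X]/(X)^(n+1)`. -/
noncomputable def hN1 : TN A B (Fintype.card ι + 2) →ₐ[B] TN A B (Fintype.card ι + 1) :=
  Ideal.Quotient.factorₐ B (Ideal.pow_le_pow_right (Nat.le_succ _))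

theorem hN1_mk (p : MvPolynomial (Ω[B⁄A]) B) :
    hN1 A B ι (Ideal.Quotient.mk _ p) = Ideal.Quotient.mk _ p := rfl

theorem two_le_card_add : 2 ≤ Fintype.card ι + 2 := Nat.le_add_left _ _

theorem hN1_Psi_prod (x : ι → B ⊗[A] B) (hx : ∀ i, x i ∈ KaehlerDifferential.ideal A B) :
    hN1 A B ι (Psi A B s (Fintype.card ι + 2) (two_le_card_add ι) (∏ i, x i)) =
      Ideal.Quotient.mk _ (SymPow.sigma (SymmetricPower.tprod B
        (fun i => s (KaehlerDifferential.fromIdeal A B ⟨x i, hx i⟩)))) := by
  choose p hp1 hp2 using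
    fun i => exists_rep A B s (Fintype.card ι + 2) (two_le_card_add ι) (x i) (hx i)
  rw [map_prod]
  simp only [hp1]
  rw [← map_prod (Ideal.Quotient.mk
    ((MvPolynomial.idealOfVars (Ω[B⁄A]) B) ^ (Fintype.card ι + 2))), hN1_mk, Ideal.Quotient.eq,
    SymPow.sigma_tprod]
  have h3 := SymPow.prod_sub_prod_mem (MvPolynomial.idealOfVars (Ω[B⁄A]) B) Finset.univ p
    (fun i => SymPow.linForm (s (KaehlerDifferential.fromIdeal A B ⟨x i, hx i⟩)))
    (fun i _ => exists_rep_mem A B s (Fintype.card ι + 2) (two_le_card_add ι) (x i) (hx i)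
      (p i) (hp2 i))
    (fun i _ => SymPow.linForm_mem _) (fun i _ => hp2 i)
  rw [Finset.card_univ] at h3
  exact h3

theorem hN1_Psi_eq_zero (z : B ⊗[A] B)
    (hz : z ∈ (KaehlerDifferential.ideal A B) ^ (Fintype.card ι + 1)) :
    hN1 A B ι (Psi A B s (Fintype.card ι + 2) (two_le_card_add ι) z) = 0 := by
  have h1 : (KaehlerDifferential.ideal A B).map
      (Psi A B s (Fintype.card ι + 2) (two_le_card_add ι) :
        B ⊗[A] B →+* TN A B (Fintype.card ι + 2)) ≤
      (MvPolynomial.idealOfVars (Ω[B⁄A]) B).map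
        (Ideal.Quotient.mk ((MvPolynomial.idealOfVars (Ω[B⁄A]) B) ^ (Fintype.card ι + 2))) := by
    rw [Ideal.map_le_iff_le_comap]
    intro x hx
    obtain ⟨p, hp1, hp2⟩ :=
      exists_rep A B s (Fintype.card ι + 2) (two_le_card_add ι) x hx
    rw [Ideal.mem_comap]
    show Psi A B s (Fintype.card ι + 2) (two_le_card_add ι) x ∈ _
    rw [hp1]
    exact Ideal.mem_map_of_mem _
      (exists_rep_mem A B s (Fintype.card ι + 2) (two_le_card_add ι) x hx p hp2)
  have h2 : Psi A B s (Fintype.card ι + 2) (two_le_card_add ι) z ∈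
      ((MvPolynomial.idealOfVars (Ω[B⁄A]) B) ^ (Fintype.card ι + 1)).map
      (Ideal.Quotient.mk ((MvPolynomial.idealOfVars (Ω[B⁄A]) B) ^ (Fintype.card ι + 2))) := by
    have h4 : (Psi A B s (Fintype.card ι + 2) (two_le_card_add ι) :
        B ⊗[A] B →+* TN A B (Fintype.card ι + 2)) z ∈
        ((KaehlerDifferential.ideal A B) ^ (Fintype.card ι + 1)).map
          (Psi A B s (Fintype.card ι + 2) (two_le_card_add ι) :
            B ⊗[A] B →+* TN A B (Fintype.card ι + 2)) := Ideal.mem_map_of_mem _ hz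
    rw [Ideal.map_pow] at h4
    have h5 := Ideal.pow_right_mono h1 (Fintype.card ι + 1) h4
    rw [← Ideal.map_pow] at h5
    exact h5
  obtain ⟨q, hq, hqz⟩ :=
    (Ideal.mem_map_iff_of_surjective _ Ideal.Quotient.mk_surjective).mp h2
  rw [← hqz, hN1_mk]
  exact Ideal.Quotient.eq_zero_iff_mem.mpr hq

/-- The map `I^n → B[X]/(X)^(n+1)`. -/
noncomputable def psi0 :
    ↥(((KaehlerDifferential.ideal A B) ^ (Fintype.card ι)).restrictScalars B) →ₗ[B]
      TN A B (Fintype.card ι + 1) :=
  ((hN1 A B ι).toLinearMap.comp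
    (Psi A B s (Fintype.card ι + 2) (two_le_card_add ι)).toLinearMap).comp
    (((KaehlerDifferential.ideal A B) ^ (Fintype.card ι)).restrictScalars B).subtype

theorem psi0_apply
    (z : ↥(((KaehlerDifferential.ideal A B) ^ (Fintype.card ι)).restrictScalars B)) :
    psi0 A B s ι z =
      hN1 A B ι (Psi A B s (Fintype.card ι + 2) (two_le_card_add ι) (z : B ⊗[A] B)) := rfl

theorem psi0_le_ker :
    (((KaehlerDifferential.ideal A B) ^ (Fintype.card ι + 1)).restrictScalars B).comap
      (((KaehlerDifferential.ideal A B) ^ (Fintype.card ι)).restrictScalars B).subtype ≤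
      LinearMap.ker (psi0 A B s ι) := by
  intro z hz
  rw [Submodule.mem_comap, Submodule.restrictScalars_mem] at hz
  rw [LinearMap.mem_ker, psi0_apply]
  exact hN1_Psi_eq_zero A B s ι _ hz

/-- The map `I^n/I^(n+1) → B[X]/(X)^(n+1)`. -/
noncomputable def psi' : PP16.grI A B (Fintype.card ι) →ₗ[B] TN A B (Fintype.card ι + 1) :=
  Submodule.liftQ _ (psi0 A B s ι) (psi0_le_ker A B s ι)

theorem psi'_mk (x : ι → B ⊗[A] B) (hx : ∀ i, x i ∈ KaehlerDifferential.ideal A B) :
    psi' A B s ι (Submodule.Quotient.mk ⟨∏ i, x i, prod_univ_mem A B ι x hx⟩) =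
      Ideal.Quotient.mk _ (SymPow.sigma (SymmetricPower.tprod B
        (fun i => s (KaehlerDifferential.fromIdeal A B ⟨x i, hx i⟩)))) := by
  rw [psi', Submodule.liftQ_apply, psi0_apply]
  exact hN1_Psi_prod A B s ι x hx

/-- `Sym^ι (Ω →₀ B) → B[X]/(X)^(n+1)`. -/
noncomputable def tau : SymmetricPower B ι (Ω[B⁄A] →₀ B) →ₗ[B] TN A B (Fintype.card ι + 1) :=
  (Ideal.Quotient.mkₐ B ((MvPolynomial.idealOfVars (Ω[B⁄A]) B) ^ (Fintype.card ι + 1))).toLinearMap.comp
    SymPow.sigma

theorem tau_apply (a : SymmetricPower B ι (Ω[B⁄A] →₀ B)) :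
    tau A B ι a = Ideal.Quotient.mk _ (SymPow.sigma a) := rfl

theorem tau_injective : Function.Injective (tau A B ι) := by
  intro c d h
  rw [tau_apply, tau_apply] at h
  have hk := Ideal.Quotient.eq.mp h
  have e : SymPow.sigma c = SymPow.sigma d + (SymPow.sigma c - SymPow.sigma d) := by ring
  have h2 := congrArg (SymPow.retr (ι := ι)) e
  rw [map_add, SymPow.retr_sigma, SymPow.retr_sigma, SymPow.retr_eq_zero_of_mem _ hk,
    add_zero] at h2
  exact h2

theorem phi0_injective : Function.Injective (phi0 A B ι) := by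
  obtain ⟨s, hs⟩ := Module.projective_def'.mp (inferInstance : Module.Projective B Ω[B⁄A])
  have hcomp : (psi' A B s ι).comp (phi0 A B ι) = (tau A B ι).comp (SymPow.map s) := by
    apply SymPow.hom_ext
    intro ω
    rw [LinearMap.comp_apply, LinearMap.comp_apply, phi0_tprod, Fval,
      psi'_mk A B s ι (fun i => lf A B (ω i)) (fun i => lf_mem A B (ω i)), SymPow.map_tprod,
      tau_apply]
    congr 3
    funext i
    rw [fromIdeal_lf]
  have hinj : Function.Injective (SymPow.map (R := B) (ι := ι) s) := by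
    have h1 : (SymPow.map (R := B) (ι := ι) (Finsupp.linearCombination B id)).comp
        (SymPow.map s) = LinearMap.id := by
      apply SymPow.hom_ext
      intro ω
      rw [LinearMap.comp_apply, SymPow.map_tprod, SymPow.map_tprod, LinearMap.id_apply]
      congr 1
      funext i
      exact LinearMap.congr_fun hs (ω i)
    exact Function.LeftInverse.injective (fun a => LinearMap.congr_fun h1 a)
  intro a b hab
  apply hinj
  apply tau_injective A B ι
  have h3 := congrArg (psi' A B s ι) hab
  have h4 := LinearMap.congr_fun hcomp a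
  have h5 := LinearMap.congr_fun hcomp b
  rw [LinearMap.comp_apply, LinearMap.comp_apply] at h4 h5
  rw [← h4, ← h5, h3]

end smooth


/-- Let B be an A-algebra which is formally smooth (for the discrete topologies). Then Spec B is
differentially smooth over Spec A: the module of differentials is projective and the canonical
surjections Sym^n(Ω_{B/A}) → I^n/I^(n+1) are bijective for all n. -/
theorem result (A B : Type u) [CommRing A] [CommRing B] [Algebra A B]
    [Algebra.FormallySmooth A B] : PP16.IsDiffSmooth A B := by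
  refine ⟨inferInstance, fun ι _ => ?_⟩
  exact ⟨phi0 A B ι, phi0_tprod_D A B ι, phi0_injective A B ι, phi0_surjective A B ι⟩

end Groth.Agent.S3820
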