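import Groth.Statements.S3824
import Groth.Agent.H19.QReg

set_option autoImplicit false
universe u
open QReg16

namespace Groth.Agent.S3824

section lin
open MvPolynomial

/-- the linear form `Σ_j M i j X_j` -/
noncomputable def lin {R : Type*} [CommRing R] {n : ℕ} (M : Fin n → Fin n → R) (i : Fin n) :
    MvPolynomial (Fin n) R :=
  ∑ j, C (M i j) * X j

theorem lin_homog {R : Type*} [CommRing R] {n : ℕ} (M : Fin n → Fin n → R) (i : Fin n) :
    (lin M i).IsHomogeneous 1 :=
  IsHomogeneous.sum _ _ _ fun j _ => (isHomogeneous_X _ j).C_mul (M i j)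

theorem eval_lin {R : Type*} [CommRing R] {n : ℕ} (f : Fin n → R) (M : Fin n → Fin n → R)
    (i : Fin n) : eval f (lin M i) = ∑ j, M i j * f j := by
  simp [lin]

theorem coeff_lin {R : Type*} [CommRing R] {n : ℕ} (M : Fin n → Fin n → R) (i k : Fin n) :
    coeff (Finsupp.single k 1) (lin M i) = M i k := by
  classical
  simp only [lin, coeff_sum, coeff_C_mul, coeff_X']
  rw [Finset.sum_eq_single k]
  · simp
  · intro j _ hj
    rw [if_neg, mul_zero]
    intro h
    exact hj (Finsupp.single_left_injective one_ne_zero h)
  · intro h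
    exact absurd (Finset.mem_univ k) h

theorem bind_lin_lin {R : Type*} [CommRing R] {n : ℕ} (M N : Fin n → Fin n → R) (i : Fin n) :
    bind₁ (lin N) (lin M i) = lin (fun a b => ∑ j, M a j * N j b) i := by
  simp only [lin, map_sum, map_mul, bind₁_C_right, bind₁_X_right, Finset.mul_sum, Finset.sum_mul]
  rw [Finset.sum_comm]
  refine Finset.sum_congr rfl fun k _ => Finset.sum_congr rfl fun j _ => ?_
  ring

theorem lin_one {R : Type*} [CommRing R] {n : ℕ} (i : Fin n) :
    lin (fun a b : Fin n => if a = b then (1 : R) else 0) i = X i := by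
  classical
  simp only [lin]
  rw [Finset.sum_eq_single i]
  · simp
  · intro j _ hj
    rw [if_neg (Ne.symm hj)]
    simp
  · intro h
    exact absurd (Finset.mem_univ i) h

end lin

/-- Let f_1, …, f_n be a quasi-regular sequence in a ring A and f'_1, …, f'_n another sequence of the
same length generating the same ideal. Then (f'_i) is quasi-regular. -/
theorem result {A : Type u} [CommRing A] {n : ℕ} (f f' : Fin n → A)
    (hf : CAlgX.IsQuasiRegular f) (h : Ideal.span (Set.range f') = Ideal.span (Set.range f)) :
    CAlgX.IsQuasiRegular f' := by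
  classical
  intro d P' hP' hev c0
  have hM : ∀ i, ∃ m : Fin n → A, ∑ j, m j * f j = f' i := fun i => by
    have : f' i ∈ Ideal.span (Set.range f) := by
      rw [← h]; exact Ideal.subset_span ⟨i, rfl⟩
    exact Ideal.mem_span_range_iff_exists_fun.1 this
  have hN : ∀ j, ∃ m : Fin n → A, ∑ i, m i * f' i = f j := fun j => by
    have : f j ∈ Ideal.span (Set.range f') := by
      rw [h]; exact Ideal.subset_span ⟨j, rfl⟩
    exact Ideal.mem_span_range_iff_exists_fun.1 this
  choose M hM using hM
  choose N hN using hN
  -- (NM - 1) has entries in J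
  have hNM : ∀ j k, (∑ i, N j i * M i k) - (if j = k then 1 else 0) ∈
      Ideal.span (Set.range f) := by
    intro j k
    have hh : (lin (fun a b => (∑ i, N a i * M i b) - (if a = b then 1 else 0)) j).IsHomogeneous 1 :=
      lin_homog _ j
    have hev0 : MvPolynomial.eval f
        (lin (fun a b => (∑ i, N a i * M i b) - (if a = b then 1 else 0)) j) = 0 := by
      rw [eval_lin]
      simp only [sub_mul, Finset.sum_sub_distrib, ite_mul, one_mul, zero_mul, Finset.sum_ite_eq,
        Finset.mem_univ, if_true]
      rw [sub_eq_zero]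
      have e1 : ∑ k, (∑ i, N j i * M i k) * f k = ∑ i, N j i * f' i := by
        simp only [Finset.sum_mul]
        rw [Finset.sum_comm]
        refine Finset.sum_congr rfl fun i _ => ?_
        rw [← hM i, Finset.mul_sum]
        refine Finset.sum_congr rfl fun k _ => by ring
      rw [e1, hN j]
    have := hf 1 _ hh (by rw [hev0]; exact zero_mem _) (Finsupp.single k 1)
    rwa [coeff_lin] at this
  -- substitute
  have hPhom : (MvPolynomial.bind₁ (lin M) P').IsHomogeneous d := by
    have := hP'.aeval (lin M) (fun i => lin_homog M i)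
    rwa [one_mul] at this
  have hPev : ∀ Q : MvPolynomial (Fin n) A,
      MvPolynomial.eval f (MvPolynomial.bind₁ (lin M) Q) = MvPolynomial.eval f' Q := by
    intro Q
    induction Q using MvPolynomial.induction_on with
    | C a => simp
    | add p q hp hq => simp only [map_add, hp, hq]
    | mul_X p i hp =>
      rw [map_mul, map_mul, map_mul, hp, MvPolynomial.bind₁_X_right, MvPolynomial.eval_X,
        eval_lin, hM i]
  rw [h] at hev ⊢
  have hcoef := hf d _ hPhom (by rw [hPev]; exact hev)
  have h0 : MvPolynomial.map (Ideal.Quotient.mk (Ideal.span (Set.range f)))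
      (MvPolynomial.bind₁ (lin M) P') = 0 := by
    ext c
    rw [MvPolynomial.coeff_map, MvPolynomial.coeff_zero, Ideal.Quotient.eq_zero_iff_mem]
    exact hcoef c
  have h2 : ∀ (T : Fin n → Fin n → A) (i : Fin n),
      MvPolynomial.map (Ideal.Quotient.mk (Ideal.span (Set.range f))) (lin T i) =
        lin (fun a b => Ideal.Quotient.mk (Ideal.span (Set.range f)) (T a b)) i := by
    intro T i
    simp [lin]
  rw [MvPolynomial.map_bind₁] at h0
  simp only [h2] at h0
  -- M̄ N̄ = 1
  have hMN : (fun a b => ∑ j, Ideal.Quotient.mk (Ideal.span (Set.range f)) (M a j) *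
      Ideal.Quotient.mk (Ideal.span (Set.range f)) (N j b)) =
      fun a b : Fin n => if a = b then (1 : A ⧸ Ideal.span (Set.range f)) else 0 := by
    have hNb : (Matrix.of fun a b => Ideal.Quotient.mk (Ideal.span (Set.range f)) (N a b)) *
        (Matrix.of fun a b => Ideal.Quotient.mk (Ideal.span (Set.range f)) (M a b)) =
        (1 : Matrix (Fin n) (Fin n) (A ⧸ Ideal.span (Set.range f))) := by
      ext j k
      rw [Matrix.mul_apply, Matrix.one_apply]
      simp only [Matrix.of_apply]
      have := (Ideal.Quotient.eq (I := Ideal.span (Set.range f))).2 (hNM j k)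
      rw [map_sum] at this
      simp only [map_mul] at this
      rw [this]
      split_ifs <;> simp
    have hMb := mul_eq_one_comm.1 hNb
    funext a b
    have := congrFun (congrFun hMb a) b
    rw [Matrix.mul_apply, Matrix.one_apply] at this
    simpa only [Matrix.of_apply] using this
  have h3 := congrArg (MvPolynomial.bind₁ (lin fun a b =>
    Ideal.Quotient.mk (Ideal.span (Set.range f)) (N a b))) h0
  rw [MvPolynomial.bind₁_bind₁, map_zero] at h3
  have hX : (fun i => MvPolynomial.bind₁ (lin fun a b =>
      Ideal.Quotient.mk (Ideal.span (Set.range f)) (N a b))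
      (lin (fun a b => Ideal.Quotient.mk (Ideal.span (Set.range f)) (M a b)) i)) =
      MvPolynomial.X := by
    funext i
    rw [bind_lin_lin, hMN, lin_one]
  rw [hX, MvPolynomial.bind₁_X_left] at h3
  have h4 : MvPolynomial.map (Ideal.Quotient.mk (Ideal.span (Set.range f))) P' = 0 := h3
  have h5 := congrArg (MvPolynomial.coeff c0) h4
  rw [MvPolynomial.coeff_map, MvPolynomial.coeff_zero, Ideal.Quotient.eq_zero_iff_mem] at h5
  exact h5

end Groth.Agent.S3824
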