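import Groth.Statements.S9468
import Mathlib

set_option autoImplicit false
universe u
open Hensel

namespace Groth.Agent.S9468

open TensorProduct

/-- An `R`-algebra map from `S` to `κ(p)` attached to a prime `q` over `p` with trivial residue
field extension. -/
noncomputable def toResidue {R : Type u} [CommRing R] (p : Ideal R) [p.IsPrime] (S : Type u)
    [CommRing S] [Algebra R S] (q : Ideal S) [q.IsPrime] (hq : p = q.comap (algebraMap R S))
    (hκ : Function.Bijective (Ideal.ResidueField.map p q (algebraMap R S) hq)) :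
    S →ₐ[R] p.ResidueField where
  toRingHom := ((RingEquiv.ofBijective _ hκ).symm : q.ResidueField →+* p.ResidueField).comp
    (algebraMap S q.ResidueField)
  commutes' r := by
    show (RingEquiv.ofBijective _ hκ).symm (algebraMap S q.ResidueField (algebraMap R S r)) =
      algebraMap R p.ResidueField r
    rw [RingEquiv.symm_apply_eq]
    exact (Ideal.ResidueField.map_algebraMap p q (algebraMap R S) hq r).symm

theorem toResidue_eq_zero_iff {R : Type u} [CommRing R] (p : Ideal R) [p.IsPrime] (S : Type u)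
    [CommRing S] [Algebra R S] (q : Ideal S) [q.IsPrime] (hq : p = q.comap (algebraMap R S))
    (hκ : Function.Bijective (Ideal.ResidueField.map p q (algebraMap R S) hq)) (x : S) :
    toResidue p S q hq hκ x = 0 ↔ x ∈ q := by
  show (RingEquiv.ofBijective _ hκ).symm (algebraMap S q.ResidueField x) = 0 ↔ _
  rw [map_eq_zero_iff _ (RingEquiv.ofBijective _ hκ).symm.injective,
    Ideal.algebraMap_residueField_eq_zero]

/-- A prime which is the kernel of an `R`-algebra map to `κ(p)` lies over `p` with trivial residue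
field extension. -/
theorem ker_pair {R : Type u} [CommRing R] (p : Ideal R) [p.IsPrime] (S : Type u)
    [CommRing S] [Algebra R S] (χ : S →ₐ[R] p.ResidueField) :
    ∃ (_ : (RingHom.ker χ.toRingHom).IsPrime)
      (hq : p = (RingHom.ker χ.toRingHom).comap (algebraMap R S)),
      Function.Bijective (Ideal.ResidueField.map p (RingHom.ker χ.toRingHom) (algebraMap R S) hq) := by
  haveI : (RingHom.ker χ.toRingHom).IsPrime := RingHom.ker_isPrime _
  have hq : p = (RingHom.ker χ.toRingHom).comap (algebraMap R S) := by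
    ext r
    simp only [Ideal.mem_comap, RingHom.mem_ker]
    rw [show χ.toRingHom (algebraMap R S r) = algebraMap R p.ResidueField r from χ.commutes r,
      Ideal.algebraMap_residueField_eq_zero]
  refine ⟨inferInstance, hq, RingHom.injective _, ?_⟩
  let χ' : (RingHom.ker χ.toRingHom).ResidueField →+* p.ResidueField :=
    Ideal.ResidueField.lift (RingHom.ker χ.toRingHom) χ.toRingHom le_rfl (by
      intro x hx
      simp only [Submonoid.mem_comap, IsUnit.mem_submonoid_iff]
      exact IsUnit.mk0 _ hx)
  have hcomp : χ'.comp (Ideal.ResidueField.map p (RingHom.ker χ.toRingHom) (algebraMap R S) hq) =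
      RingHom.id _ := by
    apply Ideal.ResidueField.ringHom_ext
    ext r
    simp only [RingHom.coe_comp, Function.comp_apply, RingHom.id_apply,
      Ideal.ResidueField.map_algebraMap]
    rw [Ideal.ResidueField.lift_algebraMap]
    exact χ.commutes r
  intro y
  refine ⟨χ' y, ?_⟩
  apply χ'.injective
  exact RingHom.congr_fun hcomp (χ' y)

/-- Let R be a ring and p a prime of R. Consider pairs (S, q) with S an étale R-algebra and q a prime of
S lying over p such that κ(p) → κ(q) is bijective; a morphism of pairs is an R-algebra map pulling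
the second prime back to the first. Then any two pairs admit morphisms of pairs to a common third
pair. -/
theorem result (R : Type u) [CommRing R]
    (p : Ideal R) [p.IsPrime] (S₁ : Type u) [CommRing S₁] [Algebra R S₁] [Algebra.Etale R S₁] (q₁ : Ideal S₁) [q₁.IsPrime] (hq₁ : p = q₁.comap (algebraMap R S₁))
    (hq₁κ : Function.Bijective (Ideal.ResidueField.map p q₁ (algebraMap R S₁) hq₁))
    (S₂ : Type u) [CommRing S₂] [Algebra R S₂] [Algebra.Etale R S₂] (q₂ : Ideal S₂) [q₂.IsPrime] (hq₂ : p = q₂.comap (algebraMap R S₂))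
    (hq₂κ : Function.Bijective (Ideal.ResidueField.map p q₂ (algebraMap R S₂) hq₂)) :
    ∃ (S₃ : Type u) (_ : CommRing S₃) (_ : Algebra R S₃) (_ : Algebra.Etale R S₃) (q₃ : Ideal S₃)
      (_ : q₃.IsPrime) (hq₃ : p = q₃.comap (algebraMap R S₃)),
      Function.Bijective (Ideal.ResidueField.map p q₃ (algebraMap R S₃) hq₃) ∧
        ∃ (φ₁ : S₁ →ₐ[R] S₃) (φ₂ : S₂ →ₐ[R] S₃),
          q₃.comap φ₁.toRingHom = q₁ ∧ q₃.comap φ₂.toRingHom = q₂ := by
  classical
  let χ : S₁ ⊗[R] S₂ →ₐ[R] p.ResidueField :=
    Algebra.TensorProduct.lift (toResidue p S₁ q₁ hq₁ hq₁κ) (toResidue p S₂ q₂ hq₂ hq₂κ)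
      (fun _ _ => Commute.all _ _)
  haveI : Algebra.Etale S₁ (S₁ ⊗[R] S₂) := inferInstance
  haveI : Algebra.Etale R (S₁ ⊗[R] S₂) := Algebra.Etale.comp R S₁ _
  obtain ⟨hprime, hq₃, hbij⟩ := ker_pair p (S₁ ⊗[R] S₂) χ
  refine ⟨S₁ ⊗[R] S₂, inferInstance, inferInstance, inferInstance, RingHom.ker χ.toRingHom,
    hprime, hq₃, hbij, Algebra.TensorProduct.includeLeft, Algebra.TensorProduct.includeRight,
    ?_, ?_⟩
  · ext x
    simp only [Ideal.mem_comap, RingHom.mem_ker]
    show χ (x ⊗ₜ 1) = 0 ↔ x ∈ q₁
    rw [Algebra.TensorProduct.lift_tmul, map_one, mul_one, toResidue_eq_zero_iff]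
  · ext x
    simp only [Ideal.mem_comap, RingHom.mem_ker]
    show χ (1 ⊗ₜ x) = 0 ↔ x ∈ q₂
    rw [Algebra.TensorProduct.lift_tmul, map_one, one_mul, toResidue_eq_zero_iff]

end Groth.Agent.S9468
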