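import Groth.Statements.S9469
import Mathlib
import Groth.Agent.S9468

set_option autoImplicit false
universe u
open Hensel

namespace Groth.Agent.S9469

open TensorProduct Groth.Agent.S9468

/-- An `R`-algebra map `S → κ(p)` with kernel `q` is the canonical one. -/
theorem eq_toResidue {R : Type u} [CommRing R] (p : Ideal R) [p.IsPrime] (S : Type u)
    [CommRing S] [Algebra R S] (q : Ideal S) [q.IsPrime] (hq : p = q.comap (algebraMap R S))
    (hκ : Function.Bijective (Ideal.ResidueField.map p q (algebraMap R S) hq))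
    (α : S →ₐ[R] p.ResidueField) (hα : RingHom.ker α.toRingHom = q) :
    α = toResidue p S q hq hκ := by
  let α' : q.ResidueField →+* p.ResidueField :=
    Ideal.ResidueField.lift q α.toRingHom hα.ge (by
      intro x hx
      simp only [Submonoid.mem_comap, IsUnit.mem_submonoid_iff]
      refine IsUnit.mk0 _ (fun h => hx ?_)
      rw [← hα]
      exact h)
  have hcomp : α'.comp (Ideal.ResidueField.map p q (algebraMap R S) hq) = RingHom.id _ := by
    apply Ideal.ResidueField.ringHom_ext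
    ext r
    simp only [RingHom.coe_comp, Function.comp_apply, RingHom.id_apply,
      Ideal.ResidueField.map_algebraMap]
    rw [Ideal.ResidueField.lift_algebraMap]
    exact α.commutes r
  ext s
  show α s = (RingEquiv.ofBijective _ hκ).symm (algebraMap S q.ResidueField s)
  rw [RingEquiv.eq_symm_apply]
  have h1 : α s = α' (algebraMap S q.ResidueField s) :=
    (Ideal.ResidueField.lift_algebraMap _ _ _ _ s).symm
  obtain ⟨y, hy⟩ := hκ.2 (algebraMap S q.ResidueField s)
  rw [h1, ← hy]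
  show Ideal.ResidueField.map p q (algebraMap R S) hq (α' (Ideal.ResidueField.map p q
    (algebraMap R S) hq y)) = _
  rw [show α' (Ideal.ResidueField.map p q (algebraMap R S) hq y) = y from
    RingHom.congr_fun hcomp y]

/-- The coequalizer of two maps out of an unramified algebra of finite type is a localization at
an idempotent. -/
theorem exists_idempotent_coequalizer {R : Type u} [CommRing R] (S₁ S₂ : Type u) [CommRing S₁]
    [CommRing S₂] [Algebra R S₁] [Algebra R S₂] [Algebra.FormallyUnramified R S₁]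
    [Algebra.EssFiniteType R S₁] (φ ψ : S₁ →ₐ[R] S₂) :
    ∃ e' : S₂, IsIdempotentElem e' ∧
      Ideal.span (Set.range fun a : S₁ => φ a - ψ a) = Ideal.span {1 - e'} := by
  set K : Ideal S₂ := Ideal.span (Set.range fun a : S₁ => φ a - ψ a) with hKdef
  let θ : S₁ ⊗[R] S₁ →ₐ[R] S₂ := Algebra.TensorProduct.lift φ ψ (fun _ _ => Commute.all _ _)
  let e := Algebra.FormallyUnramified.elem R S₁
  have hθ : ∀ s : S₁, θ (1 ⊗ₜ s - s ⊗ₜ 1) = ψ s - φ s := by
    intro s
    rw [map_sub, Algebra.TensorProduct.lift_tmul, Algebra.TensorProduct.lift_tmul]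
    simp
  have h1 : ∀ s : S₁, (φ s - ψ s) * θ e = 0 := by
    intro s
    have := congrArg θ (Algebra.FormallyUnramified.one_tmul_sub_tmul_one_mul_elem (R := R) s)
    rw [map_mul, hθ, map_zero] at this
    rw [← neg_sub, neg_mul, this, neg_zero]
  have hK : ∀ x ∈ K, x * θ e = 0 := by
    intro x hx
    refine Submodule.span_induction (p := fun x _ => x * θ e = 0) ?_ ?_ ?_ ?_ hx
    · rintro _ ⟨s, rfl⟩
      exact h1 s
    · exact zero_mul _
    · intro x y _ _ hx hy
      rw [add_mul, hx, hy, add_zero]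
    · intro a x _ hx
      rw [smul_eq_mul, mul_assoc, hx, mul_zero]
  have h2 : 1 - θ e ∈ K := by
    have hmem : (1 - e : S₁ ⊗[R] S₁) ∈ KaehlerDifferential.ideal R S₁ := by
      show Algebra.TensorProduct.lmul' R (1 - e) = 0
      rw [map_sub, map_one, Algebra.FormallyUnramified.lmul_elem, sub_self]
    rw [← KaehlerDifferential.span_range_eq_ideal] at hmem
    have hmap := Ideal.mem_map_of_mem θ.toRingHom hmem
    rw [Ideal.map_span] at hmap
    have hle : Ideal.span (θ.toRingHom '' (Set.range fun s : S₁ =>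
        (1 : S₁) ⊗ₜ[R] s - s ⊗ₜ[R] (1 : S₁))) ≤ K := by
      rw [Ideal.span_le]
      rintro _ ⟨_, ⟨s, rfl⟩, rfl⟩
      show θ (1 ⊗ₜ s - s ⊗ₜ 1) ∈ K
      rw [hθ, ← neg_sub]
      exact K.neg_mem (Ideal.subset_span ⟨s, rfl⟩)
    have := hle hmap
    simpa using this
  have hidem : IsIdempotentElem (θ e) := by
    have := hK _ h2
    rw [sub_mul, one_mul, sub_eq_zero] at this
    exact this.symm
  refine ⟨θ e, hidem, le_antisymm ?_ ?_⟩
  · rw [hKdef, Ideal.span_le]
    rintro _ ⟨s, rfl⟩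
    rw [SetLike.mem_coe, Ideal.mem_span_singleton']
    refine ⟨φ s - ψ s, ?_⟩
    rw [mul_sub, mul_one, h1 s, sub_zero]
  · rw [Ideal.span_le, Set.singleton_subset_iff]
    exact h2

/-- Let R be a ring and p a prime of R. Consider pairs (S, q) with S an étale R-algebra and q a prime of
S lying over p such that κ(p) → κ(q) is bijective; a morphism of pairs is an R-algebra map pulling
the second prime back to the first. Then any two parallel morphisms of pairs φ, ψ : (S₁, q₁) → (S₂,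
q₂) are coequalized by a morphism of pairs (S₂, q₂) → (S₃, q₃). -/
theorem result (R : Type u) [CommRing R]
    (p : Ideal R) [p.IsPrime] (S₁ : Type u) [CommRing S₁] [Algebra R S₁] [Algebra.Etale R S₁] (q₁ : Ideal S₁) [q₁.IsPrime] (hq₁ : p = q₁.comap (algebraMap R S₁))
    (hq₁κ : Function.Bijective (Ideal.ResidueField.map p q₁ (algebraMap R S₁) hq₁))
    (S₂ : Type u) [CommRing S₂] [Algebra R S₂] [Algebra.Etale R S₂] (q₂ : Ideal S₂) [q₂.IsPrime] (hq₂ : p = q₂.comap (algebraMap R S₂))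
    (hq₂κ : Function.Bijective (Ideal.ResidueField.map p q₂ (algebraMap R S₂) hq₂))
    (φ ψ : S₁ →ₐ[R] S₂) (hφ : q₂.comap φ.toRingHom = q₁) (hψ : q₂.comap ψ.toRingHom = q₁) :
    ∃ (S₃ : Type u) (_ : CommRing S₃) (_ : Algebra R S₃) (_ : Algebra.Etale R S₃) (q₃ : Ideal S₃)
      (_ : q₃.IsPrime) (hq₃ : p = q₃.comap (algebraMap R S₃)),
      Function.Bijective (Ideal.ResidueField.map p q₃ (algebraMap R S₃) hq₃) ∧
        ∃ χ : S₂ →ₐ[R] S₃, q₃.comap χ.toRingHom = q₂ ∧ χ.comp φ = χ.comp ψ := by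
  classical
  obtain ⟨e', he', hK⟩ := exists_idempotent_coequalizer (R := R) S₁ S₂ φ ψ
  set K : Ideal S₂ := Ideal.span (Set.range fun a : S₁ => φ a - ψ a) with hKdef
  haveI : IsLocalization.Away e' (S₂ ⧸ K) :=
    IsLocalization.away_of_isIdempotentElem he'
      (by rw [Ideal.Quotient.algebraMap_eq, Ideal.mk_ker, hK]) Ideal.Quotient.mk_surjective
  haveI : Algebra.Etale S₂ (S₂ ⧸ K) := Algebra.Etale.of_isLocalizationAway e'
  haveI : Algebra.Etale R (S₂ ⧸ K) := Algebra.Etale.comp R S₂ _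
  have h1 : (toResidue p S₂ q₂ hq₂ hq₂κ).comp φ = toResidue p S₁ q₁ hq₁ hq₁κ := by
    apply eq_toResidue
    ext x
    rw [← hφ]
    simp only [RingHom.mem_ker, Ideal.mem_comap]
    exact toResidue_eq_zero_iff p S₂ q₂ hq₂ hq₂κ (φ x)
  have h2 : (toResidue p S₂ q₂ hq₂ hq₂κ).comp ψ = toResidue p S₁ q₁ hq₁ hq₁κ := by
    apply eq_toResidue
    ext x
    rw [← hψ]
    simp only [RingHom.mem_ker, Ideal.mem_comap]
    exact toResidue_eq_zero_iff p S₂ q₂ hq₂ hq₂κ (ψ x)
  have hKker : ∀ x ∈ K, toResidue p S₂ q₂ hq₂ hq₂κ x = 0 := by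
    intro x hx
    have hle : K ≤ RingHom.ker (toResidue p S₂ q₂ hq₂ hq₂κ).toRingHom := by
      rw [hKdef, Ideal.span_le]
      rintro _ ⟨a, rfl⟩
      rw [SetLike.mem_coe, RingHom.mem_ker, map_sub, sub_eq_zero]
      exact (AlgHom.congr_fun h1 a).trans (AlgHom.congr_fun h2 a).symm
    exact hle hx
  let χ₃ : S₂ ⧸ K →ₐ[R] p.ResidueField :=
    Ideal.Quotient.liftₐ K (toResidue p S₂ q₂ hq₂ hq₂κ) hKker
  obtain ⟨hprime, hq₃, hbij⟩ := ker_pair p (S₂ ⧸ K) χ₃
  refine ⟨S₂ ⧸ K, inferInstance, inferInstance, inferInstance, RingHom.ker χ₃.toRingHom,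
    hprime, hq₃, hbij, Ideal.Quotient.mkₐ R K, ?_, ?_⟩
  · ext x
    simp only [Ideal.mem_comap, RingHom.mem_ker]
    show χ₃ (Ideal.Quotient.mk K x) = 0 ↔ x ∈ q₂
    rw [show χ₃ (Ideal.Quotient.mk K x) = toResidue p S₂ q₂ hq₂ hq₂κ x from rfl,
      toResidue_eq_zero_iff]
  · ext a
    show Ideal.Quotient.mk K (φ a) = Ideal.Quotient.mk K (ψ a)
    rw [Ideal.Quotient.eq]
    exact Ideal.subset_span ⟨a, rfl⟩

end Groth.Agent.S9469
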