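import Groth.Statements.S9235
import Mathlib

set_option autoImplicit false
set_option maxHeartbeats 400000
universe u
open Brnch

namespace Groth.Agent.S9235
theorem finite_of_isDomain (A : Type u) [CommRing A] (h : IsDomain (A ⧸ nilradical A)) :
    (minimalPrimes A).Finite := by
  have hp : (nilradical A).IsPrime := (Ideal.Quotient.isDomain_iff_prime _).mp h
  refine (Set.finite_singleton (nilradical A)).subset ?_
  intro P hP
  haveI hP' : P.IsPrime := hP.1.1
  have h1 : nilradical A ≤ P := nilradical_le_prime P
  have h2 : P ≤ nilradical A := hP.2 ⟨hp, bot_le⟩ h1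
  exact Set.mem_singleton_iff.mpr (le_antisymm h2 h1)

theorem exists_pair (R : Type u) [CommRing R] [IsReduced R] [Nontrivial R]
    (hfin : (minimalPrimes R).Finite) (hnd : ¬ IsDomain R) :
    ∃ a b : R, a ≠ 0 ∧ b ≠ 0 ∧ a * b = 0 ∧ a + b ∈ nonZeroDivisors R := by
  classical
  have hInf : sInf (minimalPrimes R) = (⊥ : Ideal R) := by
    show sInf (⊥ : Ideal R).minimalPrimes = ⊥
    rw [Ideal.sInf_minimalPrimes]
    exact nilradical_eq_zero R
  have hdom_of_bot : (⊥ : Ideal R).IsPrime → IsDomain R := fun hb =>
    haveI : NoZeroDivisors R := ⟨fun {x y} hxy => by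
      have := hb.mem_or_mem (show x * y ∈ (⊥ : Ideal R) from by rw [hxy]; exact Ideal.zero_mem _)
      simpa [Ideal.mem_bot] using this⟩
    NoZeroDivisors.to_isDomain R
  obtain ⟨⟨P1, hP1⟩⟩ := Ideal.nonempty_minimalPrimes (I := (⊥ : Ideal R)) bot_ne_top
  have hP1' : P1 ∈ minimalPrimes R := hP1
  haveI hP1p : P1.IsPrime := hP1.1.1
  have hex : ∃ P2 ∈ minimalPrimes R, P2 ≠ P1 := by
    by_contra hcon
    push Not at hcon
    have : sInf (minimalPrimes R) = P1 :=
      le_antisymm (sInf_le hP1') (le_sInf fun P hP => by rw [hcon P hP])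
    rw [hInf] at this
    exact hnd (hdom_of_bot (this ▸ hP1p))
  obtain ⟨P2, hP2, hP21⟩ := hex
  set S : Finset (Ideal R) := hfin.toFinset.erase P1 with hS
  have hSmem : ∀ P, P ∈ S ↔ P ≠ P1 ∧ P ∈ minimalPrimes R := by
    intro P; rw [hS, Finset.mem_erase, Set.Finite.mem_toFinset]
  have hP2S : P2 ∈ S := (hSmem P2).mpr ⟨hP21, hP2⟩
  have hJ : ¬ S.inf id ≤ P1 := by
    intro hle
    obtain ⟨P, hPS, hPle⟩ := (Ideal.IsPrime.inf_le' hP1p).mp hle
    obtain ⟨hne, hPm⟩ := (hSmem P).mp hPS
    have : P1 ≤ P := hP1.2 ⟨hPm.1.1, bot_le⟩ hPle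
    exact hne (le_antisymm hPle this)
  obtain ⟨a, haJ, haP1⟩ := SetLike.not_le_iff_exists.mp hJ
  have haS : ∀ P ∈ S, a ∈ P := fun P hP => (Finset.inf_le hP : S.inf id ≤ id P) haJ
  have hU : ¬ ((P1 : Set R) ⊆ ⋃ i ∈ (↑S : Set (Ideal R)), (id i : Ideal R)) := by
    intro hsub
    obtain ⟨P, hPS, hPle⟩ := (Ideal.subset_union_prime (s := S) (f := id) P1 P1
      (fun i hi _ _ => ((hSmem i).mp hi).2.1.1)).mp hsub
    obtain ⟨hne, hPm⟩ := (hSmem P).mp hPS
    have : P ≤ P1 := hPm.2 ⟨hP1p, bot_le⟩ hPle
    exact hne (le_antisymm this hPle)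
  obtain ⟨b, hbP1, hb⟩ := Set.not_subset.mp hU
  have hbS : ∀ P ∈ S, b ∉ P := fun P hP hbP =>
    hb (Set.mem_biUnion (Finset.mem_coe.mpr hP) hbP)
  have hab : a * b = 0 := by
    have : a * b ∈ sInf (minimalPrimes R) := by
      rw [Ideal.mem_sInf]
      intro P hP
      by_cases hPP : P = P1
      · rw [hPP]; exact Ideal.mul_mem_left _ _ hbP1
      · exact Ideal.mul_mem_right _ _ (haS P ((hSmem P).mpr ⟨hPP, hP⟩))
    rw [hInf] at this
    exact (Ideal.mem_bot).mp this
  refine ⟨a, b, ?_, ?_, hab, ?_⟩
  · rintro rfl; exact haP1 (Ideal.zero_mem _)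
  · rintro rfl; exact hbS P2 hP2S (Ideal.zero_mem _)
  · rw [mem_nonZeroDivisors_iff_right]
    intro x hx
    have : x ∈ sInf (minimalPrimes R) := by
      rw [Ideal.mem_sInf]
      intro P hP
      haveI : P.IsPrime := hP.1.1
      have hmem : x * (a + b) ∈ P := by rw [hx]; exact Ideal.zero_mem _
      rcases Ideal.IsPrime.mem_or_mem ‹P.IsPrime› hmem with h | h
      · exact h
      · exfalso
        by_cases hPP : P = P1
        · subst hPP
          exact haP1 (by simpa using Ideal.sub_mem _ h hbP1)
        · have haP := haS P ((hSmem P).mpr ⟨hPP, hP⟩)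
          exact hbS P ((hSmem P).mpr ⟨hPP, hP⟩) (by simpa using Ideal.sub_mem _ h haP)
    rw [hInf] at this
    exact (Ideal.mem_bot).mp this

/-- A local ring A has exactly one branch if and only if it is unibranch. Here the number of branches is
computed as the number of maximal ideals of the integral closure of A_red in its total ring of
fractions (infinity when A has infinitely many minimal primes). -/
theorem result (A : Type u) [CommRing A] [IsLocalRing A] :
    Brnch.numBranches A = 1 ↔ CAlg2.IsUnibranch A := by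
  classical
  unfold Brnch.numBranches
  split_ifs with hfin
  · constructor
    · intro hcard
      obtain ⟨u⟩ := ENat.card_eq_one_iff_unique.mp hcard
      have hloc : IsLocalRing (CAlg2.normRed A) :=
        IsLocalRing.of_unique_max_ideal ⟨u.default.asIdeal, u.default.isMaximal,
          fun I hI => congrArg MaximalSpectrum.asIdeal (u.uniq ⟨I, hI⟩)⟩
      refine ⟨?_, hloc⟩
      by_contra hnd
      haveI : IsReduced (CAlg2.red A) :=
        (Ideal.isRadical_iff_quotient_reduced _).mp (Ideal.radical_isRadical _)
      haveI : Nontrivial (CAlg2.red A) := by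
        rw [Ideal.Quotient.nontrivial_iff]
        exact ne_top_of_le_ne_top (IsLocalRing.maximalIdeal.isMaximal A).ne_top
          (nilradical_le_prime (IsLocalRing.maximalIdeal A))
      have hfinR : (minimalPrimes (CAlg2.red A)).Finite := by
        have h1 : (nilradical A).minimalPrimes =
            Ideal.comap (Ideal.Quotient.mk (nilradical A)) '' minimalPrimes (A ⧸ nilradical A) :=
          Ideal.minimalPrimes_eq_comap
        have h2 : (nilradical A).minimalPrimes = minimalPrimes A :=
          Ideal.radical_minimalPrimes (I := (⊥ : Ideal A))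
        refine Set.Finite.of_finite_image (f := Ideal.comap (Ideal.Quotient.mk (nilradical A))) ?_
          (Ideal.comap_injective_of_surjective _ Ideal.Quotient.mk_surjective).injOn
        rw [← h1, h2]; exact hfin
      obtain ⟨a, b, ha, hb, hab, hs⟩ := exists_pair (CAlg2.red A) hfinR hnd
      have hinj : Function.Injective (algebraMap (CAlg2.red A) (FractionRing (CAlg2.red A))) :=
        IsLocalization.injective _ (le_refl (nonZeroDivisors (CAlg2.red A)))
      have hu : IsUnit (algebraMap (CAlg2.red A) (FractionRing (CAlg2.red A)) (a + b)) :=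
        IsLocalization.map_units _ (⟨a + b, hs⟩ : nonZeroDivisors (CAlg2.red A))
      obtain ⟨v, hv⟩ := hu
      obtain ⟨e, he⟩ : ∃ e : FractionRing (CAlg2.red A),
          e = algebraMap (CAlg2.red A) (FractionRing (CAlg2.red A)) a * ↑v⁻¹ := ⟨_, rfl⟩
      have hev : e * (v : FractionRing (CAlg2.red A)) =
          algebraMap (CAlg2.red A) (FractionRing (CAlg2.red A)) a := by
        rw [he, Units.inv_mul_cancel_right]
      have he_idem : e * e = e := by
        have h1 : algebraMap (CAlg2.red A) (FractionRing (CAlg2.red A)) a *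
            algebraMap (CAlg2.red A) (FractionRing (CAlg2.red A)) a =
            algebraMap (CAlg2.red A) (FractionRing (CAlg2.red A)) a *
              (v : FractionRing (CAlg2.red A)) := by
          rw [hv, ← map_mul, ← map_mul]; congr 1; rw [mul_add, hab, add_zero]
        have h2 : e * e * ((v : FractionRing (CAlg2.red A)) * v) = e * (v * v) := by
          calc e * e * ((v : FractionRing (CAlg2.red A)) * v) = (e * v) * (e * v) := by ring
            _ = (e * v) * v := by rw [hev, h1]
            _ = e * (v * v) := by ring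
        have h3 : e * e * ((v * v : (FractionRing (CAlg2.red A))ˣ) : FractionRing (CAlg2.red A)) =
            e * ((v * v : (FractionRing (CAlg2.red A))ˣ) : FractionRing (CAlg2.red A)) := by
          rw [Units.val_mul]; exact h2
        exact (v * v).isUnit.mul_left_injective h3
      have he_int : IsIntegral (CAlg2.red A) e := by
        refine ⟨(Polynomial.X - Polynomial.C 0) * (Polynomial.X - Polynomial.C 1),
          (Polynomial.monic_X_sub_C 0).mul (Polynomial.monic_X_sub_C 1), ?_⟩
        simp only [Polynomial.eval₂_mul, Polynomial.eval₂_sub, Polynomial.eval₂_X,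
          Polynomial.eval₂_C, Polynomial.eval₂_one, Polynomial.eval₂_zero, map_zero, map_one,
          sub_zero]
        rw [mul_sub, mul_one, he_idem, sub_self]
      let e' : CAlg2.normRed A := ⟨e, he_int⟩
      have he' : e' * e' = e' := Subtype.ext he_idem
      rcases IsLocalRing.isUnit_or_isUnit_one_sub_self e' with h | h
      · have h1 : e' = 1 := h.mul_left_cancel (by rw [he', mul_one])
        have h1' : e = 1 := congrArg Subtype.val h1
        rw [h1', one_mul, hv] at hev
        have := hinj hev
        exact hb (by simpa using this)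
      · have h0 : e' = 0 := by
          have : (1 - e') * e' = (1 - e') * 0 := by rw [mul_zero, sub_mul, one_mul, he', sub_self]
          exact h.mul_left_cancel this
        have h0' : e = 0 := congrArg Subtype.val h0
        rw [h0', zero_mul] at hev
        exact ha (hinj (by rw [← hev, map_zero]))
    · rintro ⟨hd, hloc⟩
      haveI := hloc
      rw [ENat.card_eq_one_iff_unique]
      exact ⟨⟨⟨⟨IsLocalRing.maximalIdeal _, IsLocalRing.maximalIdeal.isMaximal _⟩⟩,
        fun m => MaximalSpectrum.ext (IsLocalRing.eq_maximalIdeal m.isMaximal)⟩⟩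
  · constructor
    · intro h; exact absurd h (by simp)
    · rintro ⟨hd, _⟩; exact absurd (finite_of_isDomain A hd) hfin

end Groth.Agent.S9235
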