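import Groth.Statements.S9236
import Mathlib
import Groth.Agent.S9235

set_option autoImplicit false
set_option maxHeartbeats 400000
universe u
open Brnch

namespace Groth.Agent.S9236

theorem generic (A : Type u) [CommRing A] [IsLocalRing A] (L : Type u) [Field L]
    (r : A →+* L) (hrint : r.IsIntegral) (K : Type u) [Field K]
    [Algebra (IsLocalRing.ResidueField A) K] [IsAlgClosed K] (c : A →+* K)
    (hc : c = (algebraMap (IsLocalRing.ResidueField A) K).comp (IsLocalRing.residue A)) :
    Nonempty {σ : L →+* K // σ.comp r = c} ∧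
    (Subsingleton {σ : L →+* K // σ.comp r = c} ↔
      ∀ x : L, ∃ n : ℕ, x ^ (ringExpChar L) ^ n ∈ r.range) := by
  classical
  have hmax : ((⊥ : Ideal L).comap r).IsMaximal :=
    Ideal.isMaximal_comap_of_isIntegral_of_isMaximal' r hrint ⊥
  have hker : (⊥ : Ideal L).comap r = IsLocalRing.maximalIdeal A :=
    IsLocalRing.eq_maximalIdeal hmax
  have hrm : ∀ a ∈ IsLocalRing.maximalIdeal A, r a = 0 := by
    intro a ha
    rw [← hker, Ideal.mem_comap, Ideal.mem_bot] at ha
    exact ha
  let φ : IsLocalRing.ResidueField A →+* L :=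
    Ideal.Quotient.lift (IsLocalRing.maximalIdeal A) r hrm
  letI algL : Algebra (IsLocalRing.ResidueField A) L := φ.toAlgebra
  have halgmap : ∀ a : A, algebraMap (IsLocalRing.ResidueField A) L
      (IsLocalRing.residue A a) = r a := fun a => rfl
  haveI : Algebra.IsIntegral (IsLocalRing.ResidueField A) L := by
    constructor
    intro y
    obtain ⟨p, hp, hpy⟩ := hrint y
    refine ⟨p.map (IsLocalRing.residue A), hp.map _, ?_⟩
    rw [Polynomial.eval₂_map]
    have : (algebraMap (IsLocalRing.ResidueField A) L).comp (IsLocalRing.residue A) = r := by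
      ext a; rfl
    rw [this]; exact hpy
  have hcl : ∀ a : A, c a =
      algebraMap (IsLocalRing.ResidueField A) K (IsLocalRing.residue A a) := fun a => by
    rw [hc]; rfl
  have toEmb : ∀ τ : L →ₐ[IsLocalRing.ResidueField A] K, (τ : L →+* K).comp r = c := by
    intro τ
    ext a
    rw [RingHom.comp_apply, ← halgmap a, hcl a]
    exact τ.commutes _
  have hcomm : ∀ σ : {σ : L →+* K // σ.comp r = c},
      σ.1.comp (algebraMap (IsLocalRing.ResidueField A) L) =
        algebraMap (IsLocalRing.ResidueField A) K := by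
    intro σ
    ext k
    obtain ⟨a, rfl⟩ := IsLocalRing.residue_surjective k
    have h2 := RingHom.congr_fun σ.2 a
    rw [RingHom.comp_apply, halgmap a, ← hcl a, ← h2]
    rfl
  have hrange : (algebraMap (IsLocalRing.ResidueField A) L).range = r.range := by
    ext y
    constructor
    · rintro ⟨k, rfl⟩
      obtain ⟨a, rfl⟩ := IsLocalRing.residue_surjective k
      exact ⟨a, (halgmap a).symm⟩
    · rintro ⟨a, rfl⟩
      exact ⟨IsLocalRing.residue A a, halgmap a⟩
  haveI hexp : ExpChar (IsLocalRing.ResidueField A) (ringExpChar L) :=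
    RingHom.expChar (algebraMap (IsLocalRing.ResidueField A) L)
      (algebraMap (IsLocalRing.ResidueField A) L).injective _
  refine ⟨?_, ?_⟩
  · let τ : L →ₐ[IsLocalRing.ResidueField A] K := IsAlgClosed.lift
    exact ⟨⟨τ, toEmb τ⟩⟩
  · rw [← hrange, ← isPurelyInseparable_iff_pow_mem (IsLocalRing.ResidueField A) (ringExpChar L)]
    constructor
    · intro hsub
      apply isPurelyInseparable_of_finSepDegree_eq_one
      rw [Field.finSepDegree_eq_of_isAlgClosed (IsLocalRing.ResidueField A) L K]
      rw [Nat.card_eq_one_iff_unique]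
      refine ⟨⟨fun τ₁ τ₂ => ?_⟩, ⟨IsAlgClosed.lift⟩⟩
      have h12 : (⟨τ₁, toEmb τ₁⟩ : {σ : L →+* K // σ.comp r = c}) = ⟨τ₂, toEmb τ₂⟩ :=
        Subsingleton.elim _ _
      have h12' := congrArg Subtype.val h12
      ext x
      exact RingHom.congr_fun h12' x
    · intro hpi
      refine ⟨fun σ₁ σ₂ => ?_⟩
      apply Subtype.ext
      apply IsPurelyInseparable.injective_comp_algebraMap (IsLocalRing.ResidueField A) L K
      change σ₁.1.comp _ = σ₂.1.comp _
      rw [hcomm σ₁, hcomm σ₂]

/-- Per maximal ideal: embeddings exist, and are unique iff the residue extension is purely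
inseparable (in the `pow_mem` form). -/
theorem emb_props (A : Type u) [CommRing A] [IsLocalRing A]
    (M : MaximalSpectrum (CAlg2.normRed A)) :
    Nonempty (Brnch.Emb A M) ∧
    (Subsingleton (Brnch.Emb A M) ↔
      ∀ x : CAlg2.normRed A ⧸ M.asIdeal,
        ∃ n : ℕ, x ^ (ringExpChar (CAlg2.normRed A ⧸ M.asIdeal)) ^ n ∈ (Brnch.toResidue A M).range) := by
  classical
  haveI := M.isMaximal
  letI : Field (CAlg2.normRed A ⧸ M.asIdeal) := Ideal.Quotient.field M.asIdeal
  have hrint : (Brnch.toResidue A M).IsIntegral := by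
    unfold Brnch.toResidue
    refine RingHom.IsIntegral.trans _ _ ?_
      (RingHom.isIntegral_of_surjective _ Ideal.Quotient.mk_surjective)
    refine RingHom.IsIntegral.trans _ _
      (RingHom.isIntegral_of_surjective _ Ideal.Quotient.mk_surjective) ?_
    exact algebraMap_isIntegral_iff.mpr inferInstance
  exact generic A (CAlg2.normRed A ⧸ M.asIdeal) (Brnch.toResidue A M) hrint
    (AlgebraicClosure (IsLocalRing.ResidueField A)) (Brnch.toClosure A) rfl

/-- A local ring A has exactly one geometric branch if and only if it is geometrically unibranch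
(unibranch with purely inseparable residue field extension of the integral closure). The number of
geometric branches counts the maximal ideals of the integral closure of A_red in its total ring of
fractions with multiplicity the separable degree of the residue field extension. -/
theorem result (A : Type u) [CommRing A] [IsLocalRing A] :
    Brnch.numGeomBranches A = 1 ↔ CAlg2.IsGeomUnibranch A := by
  classical
  have hB := Groth.Agent.S9235.result A
  unfold Brnch.numBranches at hB
  unfold Brnch.numGeomBranches
  split_ifs with hfin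
  · rw [if_pos hfin] at hB
    constructor
    · intro hcard
      obtain ⟨u⟩ := ENat.card_eq_one_iff_unique.mp hcard
      have huniq : ∀ M : MaximalSpectrum (CAlg2.normRed A), M = u.default.1 := by
        intro M
        obtain ⟨σ⟩ := (emb_props A M).1
        have := u.uniq ⟨M, σ⟩
        exact congrArg Sigma.fst this
      have hU : CAlg2.IsUnibranch A := by
        apply hB.mp
        rw [ENat.card_eq_one_iff_unique]
        exact ⟨⟨⟨u.default.1⟩, huniq⟩⟩
      refine ⟨hU, ?_⟩
      intro m' hm'
      have hsub : Subsingleton (Brnch.Emb A ⟨m', hm'⟩) := by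
        refine ⟨fun σ₁ σ₂ => ?_⟩
        have h1 : (⟨⟨m', hm'⟩, σ₁⟩ : Σ M : MaximalSpectrum (CAlg2.normRed A), Brnch.Emb A M) =
            ⟨⟨m', hm'⟩, σ₂⟩ := (u.uniq _).trans (u.uniq _).symm
        exact eq_of_heq (Sigma.mk.inj_iff.mp h1).2
      exact ((emb_props A ⟨m', hm'⟩).2.mp hsub)
    · rintro ⟨hU, hP⟩
      have h1 := hB.mpr hU
      obtain ⟨u⟩ := ENat.card_eq_one_iff_unique.mp h1
      rw [ENat.card_eq_one_iff_unique]
      have hsubE : ∀ M : MaximalSpectrum (CAlg2.normRed A), Subsingleton (Brnch.Emb A M) := by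
        intro M
        haveI := M.isMaximal
        exact (emb_props A M).2.mpr (hP M.asIdeal)
      obtain ⟨σ₀⟩ := (emb_props A u.default).1
      haveI : Subsingleton (Σ M : MaximalSpectrum (CAlg2.normRed A), Brnch.Emb A M) := by
        refine ⟨?_⟩
        rintro ⟨M₁, σ₁⟩ ⟨M₂, σ₂⟩
        have h12 : M₁ = M₂ := (u.uniq M₁).trans (u.uniq M₂).symm
        subst h12
        haveI := hsubE M₁
        rw [Subsingleton.elim σ₁ σ₂]
      haveI : Inhabited (Σ M : MaximalSpectrum (CAlg2.normRed A), Brnch.Emb A M) := ⟨⟨u.default, σ₀⟩⟩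
      exact ⟨Unique.mk' _⟩
  · constructor
    · intro h; exact absurd h (by simp)
    · rintro ⟨⟨hd, _⟩, _⟩; exact absurd (Groth.Agent.S9235.finite_of_isDomain A hd) hfin

end Groth.Agent.S9236
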