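import Groth.Statements.S2129
import Groth.Agent.H47.SmoothBranch

set_option autoImplicit false
universe u
open CAlg

namespace Groth.Agent.S2129

/-- Let `R → S` be a smooth ring map, `𝔮` a prime of `S` over `𝔭`, and `A = R_𝔭 → B = S_𝔮` the induced
local homomorphism. Then strict henselizations of `A` and `B` have the same number of minimal prime
ideals (the same number of geometric branches, counted in ℕ∞, infinite counting as ∞). -/
theorem result {R S Ash Bsh : Type u} [CommRing R] [CommRing S] [Algebra R S]
    [Algebra.Smooth R S] (q : Ideal S) [q.IsPrime] (p : Ideal R) [p.IsPrime] [q.LiesOver p]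
    [CommRing Ash] [IsLocalRing Ash] [Algebra (Localization.AtPrime p) Ash]
    [IsLocalHom (algebraMap (Localization.AtPrime p) Ash)] [Hensel.IsStrictHenselization (Localization.AtPrime p) Ash]
    [CommRing Bsh] [IsLocalRing Bsh] [Algebra (Localization.AtPrime q) Bsh]
    [IsLocalHom (algebraMap (Localization.AtPrime q) Bsh)] [Hensel.IsStrictHenselization (Localization.AtPrime q) Bsh] :
    (minimalPrimes Ash).encard = (minimalPrimes Bsh).encard := by
  letI algAB : Algebra (Localization.AtPrime p) (Localization.AtPrime q) :=
    (Localization.localRingHom p q (algebraMap R S) (q.over_def p)).toAlgebra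
  haveI : IsLocalHom (algebraMap (Localization.AtPrime p) (Localization.AtPrime q)) :=
    Localization.isLocalHom_localRingHom p q (algebraMap R S) (q.over_def p)
  obtain ⟨σ, hσ⟩ := Groth.Agent.H47.HensTransport.exists_sigma (Localization.AtPrime p)
    (Localization.AtPrime q) Ash Bsh
  letI : Algebra Ash Bsh := σ.toAlgebra
  letI : Algebra R Ash := ((algebraMap (Localization.AtPrime p) Ash).comp
    (algebraMap R (Localization.AtPrime p))).toAlgebra
  haveI : IsScalarTower R (Localization.AtPrime p) Ash :=
    IsScalarTower.of_algebraMap_eq (fun _ => rfl)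
  letI : Algebra S Bsh := ((algebraMap (Localization.AtPrime q) Bsh).comp
    (algebraMap S (Localization.AtPrime q))).toAlgebra
  haveI : IsScalarTower S (Localization.AtPrime q) Bsh :=
    IsScalarTower.of_algebraMap_eq (fun _ => rfl)
  letI : Algebra R Bsh := ((algebraMap S Bsh).comp (algebraMap R S)).toAlgebra
  haveI : IsScalarTower R S Bsh := IsScalarTower.of_algebraMap_eq (fun _ => rfl)
  haveI : IsScalarTower R Ash Bsh := IsScalarTower.of_algebraMap_eq (fun r => by
    show algebraMap (Localization.AtPrime q) Bsh
        (algebraMap S (Localization.AtPrime q) (algebraMap R S r)) =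
      σ (algebraMap (Localization.AtPrime p) Ash (algebraMap R (Localization.AtPrime p) r))
    have h1 := RingHom.congr_fun hσ (algebraMap R (Localization.AtPrime p) r)
    rw [RingHom.comp_apply, RingHom.comp_apply] at h1
    rw [h1]
    congr 1
    exact (Localization.localRingHom_to_map p q (algebraMap R S) (q.over_def p) r).symm)
  exact Groth.Agent.H47.SmoothBranch.encard_minimalPrimes_rel R S p q Ash Bsh

end Groth.Agent.S2129
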