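import Groth.Statements.S0027
-- import your own Groth.Agent.* helpers here
import Groth.Agent.H8.DevMain3

set_option autoImplicit false
universe u
open Coherent

namespace Groth.Agent.S0027

set_option linter.style.haveILetI false
open AlgebraicGeometry CategoryTheory CategoryTheory.Limits Groth.Agent.H8.Dev TopologicalSpace
open scoped ZeroObject


open AlgebraicGeometry CategoryTheory CategoryTheory.Limits in
/-- Let X be a nonempty Noetherian scheme and P an isomorphism-invariant property of O_X-modules such
that (1) in a short exact sequence of coherent modules, P for the two outer terms implies P for the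
middle term, and (2) P holds for the direct image of every quasi-coherent ideal sheaf of every
integral closed subscheme of X. Then P holds for every coherent O_X-module. (Nonemptiness of X is
needed for the zero module; the published statement leaves it implicit.) -/
theorem result (X : Scheme.{u}) [IsNoetherian X] [Nonempty X]
    (P : X.Modules → Prop) (hP : ∀ M N : X.Modules, Nonempty (M ≅ N) → P M → P N)
    (h₁ : ∀ S : ShortComplex X.Modules, S.ShortExact → Coh.IsCoh S.X₁ → Coh.IsCoh S.X₂ →
      Coh.IsCoh S.X₃ → P S.X₁ → P S.X₃ → P S.X₂)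
    (h₂ : ∀ (Z : Scheme.{u}) (i : Z ⟶ X), IsClosedImmersion i → IsIntegral Z →
      ∀ (I : Z.Modules) (ι : I ⟶ Coh.structureModule Z), Mono ι → Coh.IsQCoh I →
        P ((Coh.push i).obj I))
    (M : X.Modules) (hM : Coh.IsCoh M) : P M := by
  let K' : ObjectProperty X.Modules := P
  haveI : K'.IsClosedUnderIsomorphisms := ⟨fun e h => hP _ _ ⟨e⟩ h⟩
  have hzero : P (0 : X.Modules) := by
    obtain ⟨x⟩ := ‹Nonempty X›
    obtain ⟨Z, i, hi, hZ, -, -⟩ := IS X (closure {x}) isClosed_closure
      isIrreducible_singleton.closure x rfl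
    have hz : IsZero (0 : Z.Modules) := isZero_zero _
    haveI : Mono (0 : (0 : Z.Modules) ⟶ Coh.structureModule Z) :=
      ⟨fun _ _ _ => hz.eq_of_tgt _ _⟩
    have hq : Coh.IsQCoh (0 : Z.Modules) := (Groth.Agent.H90.QH.isCoh_of_isZero hz).1
    have h := h₂ Z i hi hZ 0 0 inferInstance hq
    have hz' : IsZero ((Coh.push i).obj (0 : Z.Modules)) :=
      (Scheme.Modules.pushforward i).map_isZero hz
    exact hP _ _ ⟨hz'.iso (isZero_zero _)⟩ h
  have h0 : ∀ N : X.Modules, IsZero N → K' N := fun N hN =>
    hP _ _ ⟨(hN.iso (isZero_zero _)).symm⟩ hzero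
  refine skeleton K' h0 h₁ Set.univ ?_ M hM (Set.subset_univ _)
  intro T hT hirr _ y hy small N hN hNk hNT
  exact step_E K' h0 h₁ T hT hirr y hy
    (fun Z i hi hZ _ I ι hι hq _ _ => h₂ Z i hi hZ I ι hι hq) small N hN hNk hNT

end Groth.Agent.S0027
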