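import Groth.Statements.S0820
import Groth.Agent.S0019
import Groth.Agent.H8.StructureCoh
import Groth.Agent.H75.FinSupp_G
import Groth.Agent.H75.FinSupp_R
import Groth.Agent.H98.FinSupp_S
import Groth.Agent.H36.FinSuppAnn
-- import your own Groth.Agent.* helpers here

set_option autoImplicit false
universe u
open Coherent

namespace Groth.Agent.S0820

open CategoryTheory AlgebraicGeometry in
/-- Let f : Y → X be finite and surjective with X locally Noetherian, and let i : Z → X be a closed
immersion from an integral scheme, ξ the image of the generic point of Z. Then some coherent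
O_Y-module F has f_* F supported exactly on i(Z), with the stalk of f_* F at ξ killed by every
element of 𝔪_{X,ξ}, the maximal ideal of O_{X,ξ}. -/
theorem result {Y X : Scheme.{u}} (f : Y ⟶ X) [IsFinite f]
    [Surjective f] [IsLocallyNoetherian X] (Z : Scheme.{u}) (i : Z ⟶ X) [IsClosedImmersion i] [IsIntegral Z] :
    ∃ F : Y.Modules, Coh.IsCoh F ∧ CohB1.support ((Coh.push f).obj F) = Set.range ⇑i ∧
      ∀ a ∈ IsLocalRing.maximalIdeal (X.presheaf.stalk (i (genericPoint Z))),
        ∀ m : ↑(((Coh.push f).obj F).presheaf.stalk (i (genericPoint Z))), a • m = 0 := by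
  obtain ⟨y, hy⟩ := f.surjective (i (genericPoint Z))
  obtain ⟨Z', j, hj, hZ', hjy⟩ := Groth.Agent.H75.FinSupp_G.exists_integral_closedImmersion Y y
  have : IsLocallyNoetherian Y := LocallyOfFiniteType.isLocallyNoetherian f
  refine ⟨(Coh.push j).obj (Coh.structureModule Z'),
    Groth.Agent.S0019.result j _ (Groth.Agent.H8.isCoh_structureModule Z'), ?_, ?_⟩
  · rw [Groth.Agent.H98.FinSupp_S.support_push_push f j,
      Groth.Agent.H75.FinSupp_R.range_eq_closure i, hjy, hy]
  · intro a ha m
    exact Groth.Agent.H36.FinSuppAnn.smul_eq_zero_push_push f j (i (genericPoint Z))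
      (by rw [hjy, hy]) a ha m

end Groth.Agent.S0820
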