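import Groth.Statements.S0046
import Groth.Agent.H8.FinType
import Groth.Agent.H8.Coh
import Groth.Agent.H8.SectionsExact

set_option autoImplicit false
universe u
open Coherent

namespace Groth.Agent.S0046

open AlgebraicGeometry CategoryTheory in
/-- On a locally Noetherian scheme, a quasi-coherent submodule of a coherent module is coherent. (The
statement about quotients is omitted.) -/
theorem result (X : Scheme.{u}) [IsLocallyNoetherian X]
    (M N : X.Modules) (i : N ⟶ M) [Mono i] (hM : Coh.IsCoh M) (hN : Coh.IsQCoh N) : Coh.IsCoh N := by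
  haveI : N.IsQuasicoherent := hN
  refine ⟨hN, ?_⟩
  apply Groth.Agent.H8.isFiniteType_of_forall_affine_finite
  intro U
  haveI : IsNoetherianRing Γ(X, (U : X.Opens)) := IsLocallyNoetherian.component_noetherian U
  haveI : Module.Finite Γ(X, (U : X.Opens)) Γ(M, (U : X.Opens)) :=
    Groth.Agent.H8.finite_sections_of_isCoh M hM U.2
  haveI : IsNoetherian Γ(X, (U : X.Opens)) Γ(M, (U : X.Opens)) :=
    isNoetherian_of_isNoetherianRing_of_finite _ _
  exact Module.Finite.of_injective (Groth.Agent.H8.appₗ i (U : X.Opens))
    (Groth.Agent.H8.appₗ_injective_of_mono i (U : X.Opens))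

end Groth.Agent.S0046
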