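import Groth.Statements.S10865
-- import your own Groth.Agent.* helpers here
import Groth.Agent.H8.DevMain3

set_option autoImplicit false
universe u
open Coherent

namespace Groth.Agent.S10865

set_option linter.style.haveILetI false
open AlgebraicGeometry CategoryTheory CategoryTheory.Limits Groth.Agent.H8.Dev TopologicalSpace
open scoped ZeroObject

theorem PW {C : Type*} [Category C] [Preadditive C] [HasZeroObject C] [HasBinaryBiproducts C]
    [HasFiniteCoproducts C] (F : C) (P : ℕ → C) (h0 : IsZero (P 0))
    (hs : ∀ n, Nonempty (P (n + 1) ≅ F ⊞ P n)) (d : ℕ) :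
    Nonempty (P d ≅ ∐ fun _ : Fin d => F) := by
  induction d with
  | zero =>
    have hz : IsZero (∐ fun _ : Fin 0 => F) := by
      rw [IsZero.iff_id_eq_zero]
      apply Sigma.hom_ext
      intro j
      exact j.elim0
    exact ⟨h0.iso hz⟩
  | succ d ih =>
    obtain ⟨e⟩ := ih
    obtain ⟨e1⟩ := hs d
    refine ⟨e1 ≪≫ biprod.mapIso (Iso.refl F) e ≪≫ ?_⟩
    refine ⟨biprod.desc (Sigma.ι (fun _ : Fin (d + 1) => F) 0)
        (Sigma.desc (fun j : Fin d => Sigma.ι (fun _ : Fin (d + 1) => F) j.succ)),
      Sigma.desc (fun j : Fin (d + 1) =>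
        Fin.cases (motive := fun _ => F ⟶ F ⊞ ∐ fun _ : Fin d => F) biprod.inl
          (fun k => Sigma.ι (fun _ : Fin d => F) k ≫ biprod.inr) j), ?_, ?_⟩
    · apply biprod.hom_ext'
      · simp
      · apply Sigma.hom_ext
        intro j
        simp
    · apply Sigma.hom_ext
      intro j
      refine Fin.cases ?_ (fun k => ?_) j
      · simp
      · simp


open CategoryTheory CategoryTheory.Limits AlgebraicGeometry in
/-- Let X be a nonempty Noetherian scheme and K an isomorphism-closed class of O_X-modules such that (a)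
in a short exact sequence of coherent modules, if the middle and right terms lie in K so does the
left one, and if the two outer terms lie in K so does the middle one; (b) if a coherent F has some
d-fold direct sum (d ≥ 1) in K then F lies in K. If for every integral closed subscheme i : Z → X
there is a coherent O_Z-module with nonzero stalk at the generic point whose direct image under i
lies in K, then every coherent O_X-module lies in K. (For the empty scheme the hypotheses hold for
the empty class, so X is taken nonempty here.) -/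
theorem result (X : Scheme.{u}) [IsNoetherian X] [Nonempty X]
    (K : ObjectProperty X.Modules) [K.IsClosedUnderIsomorphisms]
    (ha : ∀ S : ShortComplex X.Modules, S.ShortExact → Coh.IsCoh S.X₁ → Coh.IsCoh S.X₂ → Coh.IsCoh S.X₃ →
      (K S.X₂ → K S.X₃ → K S.X₁) ∧ (K S.X₁ → K S.X₃ → K S.X₂))
    (hb : ∀ (F : X.Modules) (d : ℕ), 1 ≤ d → Coh.IsCoh F → K (∐ fun _ : Fin d => F) → K F)
    (hgen : ∀ (Z : Scheme.{u}) (i : Z ⟶ X) [IsClosedImmersion i] [IsIntegral Z],
      ∃ H : Z.Modules, Coh.IsCoh H ∧ Nontrivial (H.presheaf.stalk (genericPoint Z)) ∧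
        K ((Scheme.Modules.pushforward i).obj H))
    (F : X.Modules) (hF : Coh.IsCoh F) : K F := by
  -- the zero module
  have hzero : K (0 : X.Modules) := by
    obtain ⟨x⟩ := ‹Nonempty X›
    obtain ⟨Z, i, hi, hZ, -, -⟩ := IS X (closure {x}) isClosed_closure
      isIrreducible_singleton.closure x rfl
    obtain ⟨H, hH, -, hKG⟩ := hgen Z i
    have hG := (PF i H hH).1
    set G := (Scheme.Modules.pushforward i).obj H
    let S : ShortComplex X.Modules :=
      ShortComplex.mk (biprod.inl : (0 : X.Modules) ⟶ 0 ⊞ G) biprod.snd (by simp)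
    have hS : S.ShortExact := (ShortComplex.Splitting.ofHasBinaryBiproduct 0 G).shortExact
    have c0 : Coh.IsCoh (0 : X.Modules) := Groth.Agent.H90.QH.isCoh_of_isZero (isZero_zero _)
    have hfst : (biprod.fst : (0 : X.Modules) ⊞ G ⟶ 0) = 0 := (isZero_zero _).eq_of_tgt _ _
    let e : (0 : X.Modules) ⊞ G ≅ G :=
      { hom := biprod.snd
        inv := biprod.inr
        hom_inv_id := by
          have h := biprod.total (X := (0 : X.Modules)) (Y := G)
          rw [hfst, zero_comp, zero_add] at h
          exact h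
        inv_hom_id := biprod.inr_snd }
    exact (ha S hS c0 (isCoh_biprod c0 hG) hG).1 (K.prop_of_iso e.symm hKG) hKG
  have h0 : ∀ N : X.Modules, IsZero N → K N := fun N hN =>
    K.prop_of_iso (hN.iso (isZero_zero _)).symm hzero
  refine main₂ K h0 ha Set.univ ?_ F hF (Set.subset_univ _)
  intro T hT hirr _ y hy _
  obtain ⟨Z, i, hi, hZ, hrange, hgp⟩ := IS X T hT hirr y hy
  obtain ⟨H, hH, hHne, hKG⟩ := hgen Z i
  obtain ⟨hG, hGs, hGk, hGne⟩ := PF i H hH
  subst hgp
  haveI := Groth.Agent.H8.finite_stalk_of_isCoh _ hG (i (genericPoint Z))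
  have hfin := R1b _ _ hGk
  obtain ⟨q, hq⟩ := ENat.ne_top_iff_exists.mp hfin
  have hq0 : q ≠ 0 := by
    rintro rfl
    rw [Nat.cast_zero] at hq
    haveI := hGne hHne
    exact not_subsingleton _ (Module.length_eq_zero_iff.mp hq.symm)
  refine ⟨_, q, hG, hKG, hGs.trans hrange.le, hGk, Nat.one_le_iff_ne_zero.mpr hq0, hq.symm, ?_⟩
  intro F' hF' hK
  obtain ⟨e⟩ := PW F' (pw F') (isZero_zero _) (fun n => ⟨Iso.refl _⟩) q
  exact hb F' q (Nat.one_le_iff_ne_zero.mpr hq0) hF' (K.prop_of_iso e hK)

end Groth.Agent.S10865
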