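import Groth.Statements.S9522
-- import your own Groth.Agent.* helpers here
import Groth.Agent.H8.DevMain4
import Groth.Agent.S10865

set_option autoImplicit false
universe u
open CategoryTheory CategoryTheory.Limits AlgebraicGeometry
attribute [local instance] HasDerivedCategory.standard
open Coherent

namespace Groth.Agent.S9522

set_option linter.style.haveILetI false
open Groth.Agent.H8.Dev TopologicalSpace
open scoped ZeroObject


/-- Let X be a Noetherian scheme, Z₀ ⊆ X an irreducible closed subset with generic point ξ, and P an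
isomorphism-invariant property of O_X-modules that holds for every zero module and such that (1) for
every short exact sequence 0 → F₁ → F → F₂ → 0 of coherent modules, P(F₁) and P(F₂) imply P(F); (2)
for coherent F, P(F^⊕r) for some r ≥ 1 implies P(F); (3) P holds for i_*I for every closed immersion
i : Z → X with Z integral, i(Z) a proper subset of Z₀, and every quasi-coherent ideal sheaf I ⊆ O_Z;
(4) there is a coherent module G with support equal to Z₀, whose stalk at ξ is annihilated by the
maximal ideal of O_{X,ξ}, and such that for every quasi-coherent sheaf of ideals J on X with ξ ∉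
V(J) there is a quasi-coherent submodule G' ⊆ J·G whose inclusion into G induces an isomorphism on
stalks at ξ and for which P holds. Then P holds for every coherent O_X-module whose support is
contained in Z₀. (The published statement does not ask that P hold for the zero module, although its
proof uses this for a filtration with no steps; without it the conclusion fails for the zero module
when Z₀ is a closed point: on the spectrum of a field, with P(F) meaning that F is nonzero, every
other hypothesis holds. This row assumes that P holds for every zero module.) -/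
theorem result (X : Scheme.{u}) [IsNoetherian X]
    (Z₀ : Set X) (hZ₀ : IsClosed Z₀) (hirr : IsIrreducible Z₀) (ξ : X) (hξ : ξ ∈ Z₀ ∧ closure {ξ} = Z₀)
    (P : X.Modules → Prop) (hP : ∀ M N : X.Modules, Nonempty (M ≅ N) → P M → P N)
    (h₀ : ∀ M : X.Modules, IsZero M → P M)
    (h₁ : ∀ S : ShortComplex X.Modules, S.ShortExact → Coh.IsCoh S.X₁ → Coh.IsCoh S.X₂ → Coh.IsCoh S.X₃ →
      P S.X₁ → P S.X₃ → P S.X₂)
    (h₂ : ∀ (F : X.Modules) (r : ℕ), Coh.IsCoh F → 1 ≤ r → P (∐ fun _ : Fin r => F) → P F)
    (h₃ : ∀ (Z : Scheme.{u}) (i : Z ⟶ X), IsClosedImmersion i → IsIntegral Z →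
      Set.range ⇑i ⊆ Z₀ → Set.range ⇑i ≠ Z₀ →
      ∀ (I : Z.Modules) (ι : I ⟶ Coh.structureModule Z), Mono ι → Coh.IsQCoh I → P ((Coh.push i).obj I))
    (h₄ : ∃ G : X.Modules, Coh.IsCoh G ∧ CohB1.support G = Z₀ ∧
      (∀ a ∈ IsLocalRing.maximalIdeal (X.presheaf.stalk ξ), ∀ m : ↑(G.presheaf.stalk ξ), a • m = 0) ∧
      ∀ J : X.IdealSheafData, ξ ∉ (J.support : Set X) →
        ∃ (G' : X.Modules) (ι' : G' ⟶ (Dual3.idealMul J).obj G), Mono ι' ∧ Coh.IsQCoh G' ∧
          IsIso ((TopCat.Presheaf.stalkFunctor _ ξ).map (ι' ≫ Dual3.idealMulι J G).mapPresheaf) ∧ P G')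
    (F : X.Modules) (hF : Coh.IsCoh F) (hsupp : CohB1.support F ⊆ Z₀) : P F := by
  let K' : ObjectProperty X.Modules := P
  haveI : K'.IsClosedUnderIsomorphisms := ⟨fun e h => hP _ _ ⟨e⟩ h⟩
  have hsum : ∀ (F : X.Modules) (r : ℕ), Coh.IsCoh F → 1 ≤ r → K' (pw F r) → K' F := by
    intro F r hF hr hK
    obtain ⟨e⟩ := Groth.Agent.S10865.PW F (pw F) (isZero_zero _) (fun n => ⟨Iso.refl _⟩) r
    exact h₂ F r hF hr (hP _ _ ⟨e⟩ hK)
  refine skeleton K' h₀ h₁ Z₀ ?_ F hF hsupp
  intro Z hZ hZirr hZZ₀ y hyZ small M hM hMk hMT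
  by_cases hZeq : Z = Z₀
  · obtain ⟨G, hG, hGs, hGk, hG4⟩ := h₄
    have hyξ : y = ξ := by
      have h1 : IsGenericPoint y Z₀ := hZeq ▸ hyZ
      have h2 : IsGenericPoint ξ Z₀ := hξ.2
      exact h1.eq h2
    subst hyξ
    have hGy : ¬ Subsingleton ↑(G.presheaf.stalk y) := by
      have : y ∈ CohB1.support G := by rw [hGs]; exact hξ.1
      exact this
    refine step_G K' h₁ h₀ hsum Z hZ y hyZ G hG hGy hGk ?_ small M hM hMk hMT
    intro J hJ
    obtain ⟨G', ι', h1, h2, h3, h4⟩ := hG4 J hJ
    refine ⟨G', ι', h1, h2, ?_, h4⟩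
    haveI := h3
    exact ConcreteCategory.bijective_of_isIso
      ((TopCat.Presheaf.stalkFunctor _ y).map (ι' ≫ Dual3.idealMulι J G).mapPresheaf)
  · refine step_E K' h₀ h₁ Z hZ hZirr y hyZ ?_ small M hM hMk hMT
    intro Z' i hi hZ' hrange I ι hι hIq _ _
    exact h₃ Z' i hi hZ' (hrange ▸ hZZ₀) (hrange ▸ hZeq) I ι hι hIq

end Groth.Agent.S9522
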