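import Groth.Statements.S14379
import Mathlib
import Groth.Agent.H66.NoethPowers

set_option autoImplicit false
open scoped TensorProduct
universe u
open CAlg

namespace Groth.Agent.S14379

/-- Let V be a discrete valuation ring with residue field k and fraction field K, let R be a flat
V-algebra of finite type such that both fibre rings k ⊗_V R and K ⊗_V R have Krull dimension at most
d, let x_1, …, x_d be elements of R and let N ≥ 1 be an integer. Then there are elements y_1, …, y_d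
of the subring of R generated by the N-th powers of elements of R such that, setting f_i = x_i +
y_i, the fibre ring k ⊗_V R is finite over the polynomial ring k[T_1, …, T_d] via T_i ↦ 1 ⊗ f_i and
K ⊗_V R is finite over K[T_1, …, T_d] via T_i ↦ 1 ⊗ f_i; in other words the morphism (f_1, …, f_d)
to affine d-space over V is finite on both fibres. -/
theorem result (V : Type u) [CommRing V] [IsDomain V]
    [IsDiscreteValuationRing V] (R : Type u) [CommRing R] [Algebra V R] [Module.Flat V R]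
    [Algebra.FiniteType V R] (d : ℕ)
    (hs : ringKrullDim (IsLocalRing.ResidueField V ⊗[V] R) ≤ d)
    (hη : ringKrullDim (FractionRing V ⊗[V] R) ≤ d)
    (x : Fin d → R) (N : ℕ) (hN : 1 ≤ N) :
    ∃ y : Fin d → R, (∀ i, y i ∈ Subring.closure (Set.range fun r : R => r ^ N)) ∧
      (MvPolynomial.aeval (fun i => (1 : IsLocalRing.ResidueField V) ⊗ₜ[V] (x i + y i)) :
          MvPolynomial (Fin d) (IsLocalRing.ResidueField V) →ₐ[IsLocalRing.ResidueField V]
            IsLocalRing.ResidueField V ⊗[V] R).toRingHom.Finite ∧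
      (MvPolynomial.aeval (fun i => (1 : FractionRing V) ⊗ₜ[V] (x i + y i)) :
          MvPolynomial (Fin d) (FractionRing V) →ₐ[FractionRing V] FractionRing V ⊗[V] R).toRingHom.Finite := by
  classical
  obtain ⟨π, hπ⟩ := IsDiscreteValuationRing.exists_irreducible V
  have hπk : algebraMap V (IsLocalRing.ResidueField V) π = 0 := by
    rw [IsLocalRing.ResidueField.algebraMap_eq, IsLocalRing.residue_eq_zero_iff]
    exact (IsLocalRing.mem_maximalIdeal _).mpr hπ.not_isUnit
  have hπK : algebraMap V (FractionRing V) π ≠ 0 := by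
    intro h
    exact hπ.ne_zero ((map_eq_zero_iff _ (IsFractionRing.injective V (FractionRing V))).mp h)
  -- generators of `R`
  obtain ⟨m, g, hg⟩ := Algebra.FiniteType.iff_quotient_mvPolynomial''.mp ‹Algebra.FiniteType V R›
  obtain ⟨r, hrdef⟩ : ∃ r : Fin m → R, r = fun j => g (MvPolynomial.X j) := ⟨_, rfl⟩
  have hr : Algebra.adjoin V (Set.range r) = ⊤ := by
    rw [Algebra.adjoin_range_eq_range_aeval]
    have h2 : MvPolynomial.aeval r = g := by rw [hrdef]; exact (MvPolynomial.aeval_unique g).symm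
    rw [h2]
    exact (AlgHom.range_eq_top _).mpr hg
  -- inclusions into the fibres
  obtain ⟨ιk, hιk⟩ : ∃ ιk : R →ₐ[V] IsLocalRing.ResidueField V ⊗[V] R,
      ∀ a, ιk a = (1 : IsLocalRing.ResidueField V) ⊗ₜ[V] a :=
    ⟨Algebra.TensorProduct.includeRight, fun _ => rfl⟩
  obtain ⟨ιK, hιK⟩ : ∃ ιK : R →ₐ[V] FractionRing V ⊗[V] R,
      ∀ a, ιK a = (1 : FractionRing V) ⊗ₜ[V] a :=
    ⟨Algebra.TensorProduct.includeRight, fun _ => rfl⟩
  have hιk_surj : Function.Surjective ιk := by
    intro z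
    obtain ⟨a, ha⟩ := Algebra.TensorProduct.includeRight_surjective (R := V)
      (S := IsLocalRing.ResidueField V) R IsLocalRing.residue_surjective z
    exact ⟨a, by rw [hιk]; exact ha⟩
  have hιkπ : ∀ a : R, ιk (π • a) = 0 := by
    intro a
    rw [map_smul, ← algebraMap_smul (IsLocalRing.ResidueField V) π (ιk a), hπk, zero_smul]
  obtain ⟨SN, hSN⟩ : ∃ SN : Subring R, SN = Subring.closure (Set.range fun r : R => r ^ N) :=
    ⟨_, rfl⟩
  have hpowSN : ∀ a : R, a ^ N ∈ SN := fun a => by rw [hSN]; exact Subring.subset_closure ⟨a, rfl⟩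
  -- Step A: the special fibre
  have hgenk : Algebra.adjoin (IsLocalRing.ResidueField V)
      (Set.range (fun i => ιk (x i)) ∪ Set.range (fun j => ιk (r j))) = ⊤ := by
    rw [eq_top_iff, ← Algebra.TensorProduct.adjoin_one_tmul_image_eq_top
      (A := IsLocalRing.ResidueField V) _ hr]
    apply Algebra.adjoin_mono
    rintro _ ⟨_, ⟨j, rfl⟩, rfl⟩
    exact Or.inr ⟨j, (hιk _)⟩
  obtain ⟨y0', hy0'Y, hy0'fin⟩ := Groth.Agent.H66.NoethPowers.nnf
    (F := IsLocalRing.ResidueField V) N hN d m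
    (IsLocalRing.ResidueField V ⊗[V] R) Set.univ
    (SN.toAddSubgroup.map ιk.toRingHom.toAddMonoidHom)
    (fun _ _ _ _ => Set.mem_univ _) (fun _ _ _ _ => Set.mem_univ _)
    (by
      intro w _
      obtain ⟨a, rfl⟩ := hιk_surj w
      exact ⟨a ^ N, hpowSN a, map_pow ιk a N⟩)
    (Groth.Agent.H66.NoethPowers.not_algebraicIndependent_of_dim_le hs)
    (fun i => ιk (x i)) (fun j => ιk (r j)) (fun _ => Set.mem_univ _) hgenk
  have hy0 : ∀ i, ∃ b : R, b ∈ SN ∧ ιk b = y0' i := by
    intro i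
    obtain ⟨b, hb, hb'⟩ := hy0'Y i
    exact ⟨b, hb, hb'⟩
  choose y0 hy0SN hy0eq using hy0
  -- Step B: the generic fibre
  have hgenK : Algebra.adjoin (FractionRing V)
      (Set.range (fun i => ιK (x i + y0 i)) ∪ Set.range (fun j => ιK (π • r j))) = ⊤ := by
    rw [eq_top_iff, ← Algebra.TensorProduct.adjoin_one_tmul_image_eq_top
      (A := FractionRing V) _ hr]
    apply Algebra.adjoin_le
    rintro _ ⟨_, ⟨j, rfl⟩, rfl⟩
    have h1 : (1 : FractionRing V) ⊗ₜ[V] (r j) =
        (algebraMap V (FractionRing V) π)⁻¹ • ιK (π • r j) := by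
      rw [map_smul, ← algebraMap_smul (FractionRing V) π (ιK (r j)), smul_smul,
        inv_mul_cancel₀ hπK, one_smul, hιK]
    change (1 : FractionRing V) ⊗ₜ[V] (r j) ∈ _
    rw [h1]
    have hmem : ιK (π • r j) ∈ Algebra.adjoin (FractionRing V)
        (Set.range (fun i => ιK (x i + y0 i)) ∪ Set.range (fun j => ιK (π • r j))) :=
      Algebra.subset_adjoin (Set.mem_union_right _ ⟨j, rfl⟩)
    exact Subalgebra.smul_mem _ hmem _
  obtain ⟨y1', hy1'Y, hy1'fin⟩ := Groth.Agent.H66.NoethPowers.nnf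
    (F := FractionRing V) N hN d m
    (FractionRing V ⊗[V] R) {b | ∃ a : R, b = ιK (π • a)}
    ((SN.toAddSubgroup ⊓ ιk.toRingHom.toAddMonoidHom.ker).map ιK.toRingHom.toAddMonoidHom)
    (by
      rintro _ ⟨a, rfl⟩ _ ⟨b, rfl⟩
      exact ⟨a - b, by rw [smul_sub, map_sub]⟩)
    (by
      rintro _ ⟨a, rfl⟩ _ ⟨b, rfl⟩
      exact ⟨a * (π • b), by rw [← map_mul, smul_mul_assoc]⟩)
    (by
      rintro _ ⟨a, rfl⟩
      refine ⟨(π • a) ^ N, ⟨hpowSN _, ?_⟩, map_pow ιK _ N⟩
      change ιk ((π • a) ^ N) = 0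
      rw [map_pow, hιkπ, zero_pow (by omega)])
    (Groth.Agent.H66.NoethPowers.not_algebraicIndependent_of_dim_le hη)
    (fun i => ιK (x i + y0 i)) (fun j => ιK (π • r j)) (fun j => ⟨r j, rfl⟩) hgenK
  have hy1 : ∀ i, ∃ b : R, b ∈ SN ∧ ιk b = 0 ∧ ιK b = y1' i := by
    intro i
    obtain ⟨b, ⟨hb1, hb2⟩, hb'⟩ := hy1'Y i
    exact ⟨b, hb1, hb2, hb'⟩
  choose y1 hy1SN hy1k hy1eq using hy1
  -- assemble
  refine ⟨fun i => y0 i + y1 i, fun i => ?_, ?_, ?_⟩
  · rw [← hSN]; exact SN.add_mem (hy0SN i) (hy1SN i)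
  · have hfun : (fun i => (1 : IsLocalRing.ResidueField V) ⊗ₜ[V] (x i + (y0 i + y1 i))) =
        fun i => ιk (x i) + y0' i := by
      funext i
      rw [← hιk, map_add, map_add, hy1k, add_zero, hy0eq]
    rw [hfun]
    exact hy0'fin
  · have hfun : (fun i => (1 : FractionRing V) ⊗ₜ[V] (x i + (y0 i + y1 i))) =
        fun i => ιK (x i + y0 i) + y1' i := by
      funext i
      rw [← hιK, ← add_assoc, map_add (ιK) (x i + y0 i), hy1eq]
    rw [hfun]
    exact hy1'fin

end Groth.Agent.S14379
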