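import Groth.Statements.S14383
import Mathlib
-- import your own Groth.Agent.* helpers here

set_option autoImplicit false
open scoped TensorProduct
open AlgebraicGeometry
universe u
open CAlg

namespace Groth.Agent.S14383


open TensorProduct

/-- The fraction field of a DVR is the localization away from a uniformizer. -/
theorem away_fractionRing (V : Type u) [CommRing V] [IsDomain V] [IsDiscreteValuationRing V]
    (ϖ : V) (hϖ : Irreducible ϖ) : IsLocalization.Away ϖ (FractionRing V) := by
  have hle : Submonoid.powers ϖ ≤ nonZeroDivisors V := by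
    rw [Submonoid.powers_le]
    exact mem_nonZeroDivisors_of_ne_zero hϖ.ne_zero
  haveI : IsLocalization (nonZeroDivisors V) (Localization.Away ϖ) :=
    IsLocalization.isLocalization_of_is_exists_mul_mem (Localization.Away ϖ) (Submonoid.powers ϖ)
      (nonZeroDivisors V) hle (by
      rintro ⟨x, hx⟩
      have hx0 : x ≠ 0 := nonZeroDivisors.ne_zero hx
      obtain ⟨n, u, rfl⟩ := IsDiscreteValuationRing.eq_unit_mul_pow_irreducible hx0 hϖ
      refine ⟨((u⁻¹ : Vˣ) : V), (Submonoid.mem_powers_iff _ _).mpr ⟨n, ?_⟩⟩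
      rw [← mul_assoc, Units.inv_mul, one_mul])
  exact IsLocalization.isLocalization_of_algEquiv (Submonoid.powers ϖ)
    (IsLocalization.algEquiv (nonZeroDivisors V) (Localization.Away ϖ) (FractionRing V))

/-- `p = u ϖ^e` with `e ≠ 0`. -/
theorem exists_p_eq (V : Type u) [CommRing V] [IsDomain V] [IsDiscreteValuationRing V] [CharZero V]
    (ϖ : V) (hϖ : Irreducible ϖ) (p : ℕ) [Fact p.Prime] [CharP (IsLocalRing.ResidueField V) p] :
    ∃ (e : ℕ) (u : Vˣ), e ≠ 0 ∧ (p : V) = u * ϖ ^ e := by
  have hp0 : (p : V) ≠ 0 := Nat.cast_ne_zero.mpr (Fact.out : p.Prime).ne_zero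
  obtain ⟨e, u, hu⟩ := IsDiscreteValuationRing.eq_unit_mul_pow_irreducible hp0 hϖ
  refine ⟨e, u, ?_, hu⟩
  rintro rfl
  have h1 : IsLocalRing.residue V (p : V) = 0 := by
    rw [map_natCast]; exact CharP.cast_eq_zero _ p
  rw [IsLocalRing.residue_eq_zero_iff, IsLocalRing.mem_maximalIdeal, mem_nonunits_iff] at h1
  apply h1
  rw [hu, pow_zero, mul_one]
  exact u.isUnit

theorem smooth_of_locally {K T : Type u} [CommRing K] [CommRing T] [Algebra K T] (d : ℕ)
    (hT : RingHom.Locally (RingHom.IsStandardSmoothOfRelativeDimension d) (algebraMap K T)) :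
    Algebra.Smooth K T := by
  rw [← RingHom.smooth_algebraMap, RingHom.smooth_iff_locally_isStandardSmooth]
  exact RingHom.locally_of_locally
    (fun hf => RingHom.IsStandardSmoothOfRelativeDimension.isStandardSmooth d _ hf) hT

theorem rankAtStalk_kaehler {K T : Type u} [CommRing K] [CommRing T] [Algebra K T] (d : ℕ)
    (hT : RingHom.Locally (RingHom.IsStandardSmoothOfRelativeDimension d) (algebraMap K T))
    (q : PrimeSpectrum T) : Module.rankAtStalk (Ω[T⁄K]) q = d := by
  haveI hsm : Algebra.Smooth K T := smooth_of_locally d hT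
  obtain ⟨s, hs, h⟩ := hT
  have hex : ∃ t ∈ s, t ∉ q.asIdeal := by
    by_contra hcon
    simp only [not_exists, not_and, not_not] at hcon
    have h1 : Ideal.span s ≤ q.asIdeal := Ideal.span_le.mpr hcon
    rw [hs] at h1
    exact q.isPrime.ne_top (top_le_iff.mp h1)
  obtain ⟨t, hts, htq⟩ := hex
  have h1 := h t hts
  rw [← IsScalarTower.algebraMap_eq K T (Localization.Away t),
    RingHom.isStandardSmoothOfRelativeDimension_algebraMap] at h1
  haveI := h1
  haveI : Algebra.IsStandardSmooth K (Localization.Away t) :=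
    Algebra.IsStandardSmoothOfRelativeDimension.isStandardSmooth d
  have hdisj : Disjoint (Submonoid.powers t : Set T) (q.asIdeal : Set T) := by
    rw [Set.disjoint_left]
    rintro x hx hxq
    obtain ⟨n, rfl⟩ := (Submonoid.mem_powers_iff _ _).mp hx
    exact htq (q.isPrime.mem_of_pow_mem n hxq)
  let q' : PrimeSpectrum (Localization.Away t) :=
    ⟨Ideal.map (algebraMap T (Localization.Away t)) q.asIdeal,
      IsLocalization.isPrime_of_isPrime_disjoint (Submonoid.powers t) _ _ q.isPrime hdisj⟩
  have hq' : q'.comap (algebraMap T (Localization.Away t)) = q :=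
    PrimeSpectrum.ext
      (IsLocalization.under_map_of_isPrime_disjoint (Submonoid.powers t) _ q.isPrime hdisj)
  have hbc : IsBaseChange (Localization.Away t)
      (KaehlerDifferential.map K K T (Localization.Away t)) :=
    (isLocalizedModule_iff_isBaseChange (Submonoid.powers t) (Localization.Away t) _).mp
      (KaehlerDifferential.isLocalizedModule_map K T (Localization.Away t) (Submonoid.powers t))
  have h2 := Module.rankAtStalk_isBaseChange hbc q'
  rw [hq'] at h2
  rw [← h2]
  haveI : Nontrivial (Localization.Away t) := q'.nontrivial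
  have h3 := Algebra.IsStandardSmoothOfRelativeDimension.rank_kaehlerDifferential
    (R := K) (S := Localization.Away t) d
  have h4 := congrFun (Module.rankAtStalk_eq_finrank_of_free (R := Localization.Away t)
    (M := Ω[Localization.Away t⁄K])) q'
  rw [h4]
  exact Module.finrank_eq_of_rank_eq h3

/-- Key lemma: an unramified map between smooth algebras of the same relative dimension is
formally smooth. -/
theorem formallySmooth_of_locally {K S T : Type u} [CommRing K] [CommRing S] [CommRing T]
    [Algebra K S] [Algebra S T] [Algebra K T] [IsScalarTower K S T] (d : ℕ)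
    (hS : RingHom.Locally (RingHom.IsStandardSmoothOfRelativeDimension d) (algebraMap K S))
    (hT : RingHom.Locally (RingHom.IsStandardSmoothOfRelativeDimension d) (algebraMap K T))
    [Algebra.FormallyUnramified S T] : Algebra.FormallySmooth S T := by
  haveI hsmS : Algebra.Smooth K S := smooth_of_locally d hS
  haveI hsmT : Algebra.Smooth K T := smooth_of_locally d hT
  have hsurj : Function.Surjective (KaehlerDifferential.mapBaseChange K S T) := by
    intro x
    exact (KaehlerDifferential.exact_mapBaseChange_map K S T x).mp (Subsingleton.elim _ _)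
  have hbij : Function.Bijective (KaehlerDifferential.mapBaseChange K S T) :=
    Module.bijective_of_surjective_of_rankAtStalk_eq hsurj fun m _ => by
      rw [Module.rankAtStalk_baseChange, rankAtStalk_kaehler d hS, rankAtStalk_kaehler d hT]
  have hδ : Function.Injective (Algebra.H1Cotangent.δ K S T) := by
    rw [injective_iff_map_eq_zero]
    intro x hx
    obtain ⟨y, rfl⟩ := (Algebra.H1Cotangent.exact_map_δ K S T x).mp hx
    rw [Subsingleton.elim y 0, map_zero]
  have hsub : Subsingleton (Algebra.H1Cotangent S T) := by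
    refine ⟨fun x y => hδ (hbij.1 ?_)⟩
    rw [(Algebra.H1Cotangent.exact_δ_mapBaseChange K S T _).mpr ⟨x, rfl⟩,
      (Algebra.H1Cotangent.exact_δ_mapBaseChange K S T _).mpr ⟨y, rfl⟩]
  exact ⟨inferInstance, hsub⟩

theorem etale_of_tower {A R K S U T : Type u} [CommRing A] [CommRing R] [CommRing K] [CommRing S]
    [CommRing U] [CommRing T]
    [Algebra A R] [Algebra A S] [Algebra K S] [Algebra K U] [Algebra R U] [Algebra U T]
    [Algebra R T] [IsScalarTower R U T] [Algebra K T] [IsScalarTower K U T] [Algebra S T]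
    [IsScalarTower K S T] [Algebra A T] [IsScalarTower A R T] [IsScalarTower A S T]
    [Algebra.FinitePresentation A R] [Algebra.FormallyEtale A S]
    (a w : R) [IsLocalization.Away w U] [IsLocalization.Away (algebraMap R U a) T] (d : ℕ)
    (hS : RingHom.Locally (RingHom.IsStandardSmoothOfRelativeDimension d) (algebraMap K S))
    (hU : RingHom.Locally (RingHom.IsStandardSmoothOfRelativeDimension d) (algebraMap K U))
    (N : ℕ) (hkill : ∀ m : Ω[R⁄A], (a * w) ^ N • m = 0) :
    IsLocalization.Away (a * w) T ∧ Algebra.Etale A T := by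
  haveI hloc : IsLocalization.Away (a * w) T := IsLocalization.Away.mul U T w a
  haveI : Algebra.FormallyUnramified A T :=
    ⟨(IsLocalizedModule.subsingleton_iff (Submonoid.powers (a * w))
      (KaehlerDifferential.map A A R T)).mpr fun m =>
        ⟨(a * w) ^ N, (Submonoid.mem_powers_iff _ _).mpr ⟨N, rfl⟩, hkill m⟩⟩
  haveI : Algebra.FormallyUnramified S T := Algebra.FormallyUnramified.of_restrictScalars A S T
  have hT : RingHom.Locally (RingHom.IsStandardSmoothOfRelativeDimension d) (algebraMap K T) := by
    rw [IsScalarTower.algebraMap_eq K U T]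
    exact RingHom.locally_stableUnderCompositionWithLocalizationAwayTarget
      (RingHom.isStandardSmoothOfRelativeDimension_stableUnderCompositionWithLocalizationAway d).2
      T (algebraMap R U a) _ hU
  haveI : Algebra.FormallySmooth S T := formallySmooth_of_locally d hS hT
  haveI : Algebra.FormallySmooth A T := Algebra.FormallySmooth.comp A S T
  haveI : Algebra.FinitePresentation A T :=
    Algebra.FinitePresentation.of_isLocalizationAway (R := A) (S := R) (a * w)
  exact ⟨hloc, { formallyEtale :=
      Algebra.FormallyEtale.iff_formallyUnramified_and_formallySmooth.mpr ⟨inferInstance, inferInstance⟩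
                 finitePresentation := inferInstance }⟩

attribute [local instance] Algebra.TensorProduct.rightAlgebra in
theorem etale_of_tensor (V : Type u) [CommRing V] (ϖ : V) (K : Type u) [CommRing K] [Algebra V K]
    [IsLocalization.Away ϖ K]
    (A : Type u) [CommRing A] [Algebra V A] (R : Type u) [CommRing R] [Algebra V R] [Algebra A R]
    [IsScalarTower V A R] [Algebra.FinitePresentation A R] (a : R) (d : ℕ)
    (hS : RingHom.Locally (RingHom.IsStandardSmoothOfRelativeDimension d)
      (algebraMap K (K ⊗[V] A)))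
    (hU : RingHom.Locally (RingHom.IsStandardSmoothOfRelativeDimension d)
      (algebraMap K (K ⊗[V] R)))
    (N : ℕ) (hkill : ∀ m : Ω[R⁄A], (a * algebraMap V R ϖ) ^ N • m = 0) :
    ((algebraMap R (Localization.Away (a * algebraMap V R ϖ))).comp (algebraMap A R)).Etale := by
  haveI hUloc : IsLocalization.Away (algebraMap V R ϖ) (K ⊗[V] R) := by
    have h1 : IsLocalization (Algebra.algebraMapSubmonoid R (Submonoid.powers ϖ)) (K ⊗[V] R) :=
      IsLocalization.tensorRight (S := R) K (Submonoid.powers ϖ)
    have h2 : Algebra.algebraMapSubmonoid R (Submonoid.powers ϖ)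
        = Submonoid.powers (algebraMap V R ϖ) := Submonoid.map_powers _ _
    rwa [h2] at h1
  haveI : IsLocalization (Algebra.algebraMapSubmonoid A (Submonoid.powers ϖ)) (K ⊗[V] A) :=
    IsLocalization.tensorRight (S := A) K (Submonoid.powers ϖ)
  haveI : Algebra.FormallyEtale A (K ⊗[V] A) :=
    Algebra.FormallyEtale.of_isLocalization (Algebra.algebraMapSubmonoid A (Submonoid.powers ϖ))
  let T := Localization.Away (algebraMap R (K ⊗[V] R) a)
  let g₀ : K ⊗[V] A →ₐ[K] K ⊗[V] R :=
    Algebra.TensorProduct.map (AlgHom.id K K) (IsScalarTower.toAlgHom V A R)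
  letI algST : Algebra (K ⊗[V] A) T :=
    ((algebraMap (K ⊗[V] R) T).comp g₀.toRingHom).toAlgebra
  letI algAT : Algebra A T := ((algebraMap R T).comp (algebraMap A R)).toAlgebra
  haveI : IsScalarTower A R T := IsScalarTower.of_algebraMap_eq fun x => rfl
  haveI : IsScalarTower K (K ⊗[V] A) T := IsScalarTower.of_algebraMap_eq fun k => by
    show algebraMap K T k = algebraMap (K ⊗[V] R) T (g₀ (algebraMap K (K ⊗[V] A) k))
    rw [AlgHom.commutes, ← IsScalarTower.algebraMap_apply K (K ⊗[V] R) T]
  haveI : IsScalarTower A (K ⊗[V] A) T := IsScalarTower.of_algebraMap_eq fun x => by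
    show algebraMap R T (algebraMap A R x)
      = algebraMap (K ⊗[V] R) T (g₀ (algebraMap A (K ⊗[V] A) x))
    have h1 : g₀ (algebraMap A (K ⊗[V] A) x) = algebraMap R (K ⊗[V] R) (algebraMap A R x) := by
      show g₀ ((1 : K) ⊗ₜ[V] x) = (1 : K) ⊗ₜ[V] (algebraMap A R x)
      simp [g₀]
    rw [h1, ← IsScalarTower.algebraMap_apply R (K ⊗[V] R) T]
  obtain ⟨hloc, het⟩ := etale_of_tower (A := A) (R := R) (K := K) (S := K ⊗[V] A)
    (U := K ⊗[V] R) (T := T) a (algebraMap V R ϖ) d hS hU N hkill
  haveI := hloc
  let e : Localization.Away (a * algebraMap V R ϖ) ≃ₐ[R] T :=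
    IsLocalization.algEquiv (Submonoid.powers (a * algebraMap V R ϖ)) _ _
  have h3 : (algebraMap A T).Etale := RingHom.etale_algebraMap.mpr het
  have h4 := RingHom.Etale.respectsIso.left (algebraMap A T) e.symm.toRingEquiv h3
  have h5 : (algebraMap R (Localization.Away (a * algebraMap V R ϖ))).comp (algebraMap A R)
      = (e.symm.toRingEquiv.toRingHom).comp (algebraMap A T) := by
    ext x
    show algebraMap R _ (algebraMap A R x) = e.symm (algebraMap R T (algebraMap A R x))
    rw [AlgEquiv.commutes]
  rw [h5]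
  exact h4

theorem part1 (V : Type u) [CommRing V] [IsDomain V] [IsDiscreteValuationRing V] [CharZero V]
    (ϖ : V) (hϖ : Irreducible ϖ) (p : ℕ) [Fact p.Prime] [CharP (IsLocalRing.ResidueField V) p]
    (A : Type u) [CommRing A] [Algebra V A] [Algebra.FiniteType V A]
    (R : Type u) [CommRing R] [Algebra V R] [Algebra.FiniteType V R] [Algebra A R]
    [IsScalarTower V A R] (a : R)
    (hcop : Ideal.span {a} ⊔ Ideal.span {algebraMap V R ϖ} = ⊤)
    (het : ((algebraMap R (Localization.Away (a * algebraMap V R ϖ))).comp (algebraMap A R)).Etale) :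
    ∃ n : ℕ, Ideal.span {((p : R)) ^ n} • (⊤ : Submodule R (Ω[R⁄A])) ≤
        Ideal.span {algebraMap V R ϖ * (p : R) ^ n} • (⊤ : Submodule R (Ω[R⁄A])) := by
  obtain ⟨e, u, he, hpu⟩ := exists_p_eq V ϖ hϖ p
  obtain ⟨e', rfl⟩ : ∃ e', e = e' + 1 := Nat.exists_eq_succ_of_ne_zero he
  haveI : Algebra.FiniteType A R := Algebra.FiniteType.of_restrictScalars_finiteType V A R
  rw [← IsScalarTower.algebraMap_eq A R (Localization.Away (a * algebraMap V R ϖ)),
    RingHom.etale_algebraMap] at het
  haveI := het
  have hss : Subsingleton (Ω[Localization.Away (a * algebraMap V R ϖ)⁄A]) := inferInstance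
  have hkill := (IsLocalizedModule.subsingleton_iff (Submonoid.powers (a * algebraMap V R ϖ))
    (KaehlerDifferential.map A A R (Localization.Away (a * algebraMap V R ϖ)))).mp hss
  have hkill' : ∀ m : Ω[R⁄A], ∃ k : ℕ, (a * algebraMap V R ϖ) ^ k • m = 0 := by
    intro m
    obtain ⟨r, hr, hrm⟩ := hkill m
    obtain ⟨k, rfl⟩ := (Submonoid.mem_powers_iff _ _).mp hr
    exact ⟨k, hrm⟩
  have hN : ∃ N, ∀ m : Ω[R⁄A], (a * algebraMap V R ϖ) ^ N • m = 0 := by
    obtain ⟨s, hs⟩ := (Module.Finite.fg_top : (⊤ : Submodule R (Ω[R⁄A])).FG)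
    choose f hf using hkill'
    refine ⟨s.sup f, fun m => ?_⟩
    have hm : m ∈ Submodule.span R (s : Set (Ω[R⁄A])) := hs ▸ Submodule.mem_top
    induction hm using Submodule.span_induction with
    | mem x hx =>
      have hle : f x ≤ s.sup f := Finset.le_sup hx
      obtain ⟨k, hk⟩ := Nat.exists_eq_add_of_le hle
      rw [hk, pow_add, mul_comm, mul_smul, hf x, smul_zero]
    | zero => rw [smul_zero]
    | add x y _ _ hx hy => rw [smul_add, hx, hy, add_zero]
    | smul r x _ hx => rw [smul_comm, hx, smul_zero]
  obtain ⟨N, hN⟩ := hN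
  have hc : IsCoprime a (algebraMap V R ϖ) :=
    (Ideal.isCoprime_span_singleton_iff a _).mp (Ideal.isCoprime_iff_sup_eq.mpr hcop)
  obtain ⟨x, y, hxy⟩ := (hc.pow_left (m := N))
  have hpR : (p : R) = (algebraMap V R u * algebraMap V R ϖ ^ e') * algebraMap V R ϖ := by
    rw [mul_assoc, ← pow_succ, ← map_pow, ← map_mul, ← hpu, map_natCast]
  refine ⟨N, ?_⟩
  rw [Submodule.smul_le]
  intro r hr m _
  obtain ⟨c, rfl⟩ := Ideal.mem_span_singleton'.mp hr
  have h0 : (a ^ N * (p : R) ^ N) • m = 0 := by
    have h00 : a ^ N * (p : R) ^ N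
        = (algebraMap V R u * algebraMap V R ϖ ^ e') ^ N * (a * algebraMap V R ϖ) ^ N := by
      rw [hpR]; ring
    rw [h00, mul_smul, hN m, smul_zero]
  have e0 : (p : R) ^ N = x * (a ^ N * (p : R) ^ N) + (algebraMap V R ϖ * (p : R) ^ N) * y := by
    linear_combination (-((p : R) ^ N)) * hxy
  have hkey : ((p : R) ^ N) • m = (algebraMap V R ϖ * (p : R) ^ N) • (y • m) := by
    calc ((p : R) ^ N) • m
        = (x * (a ^ N * (p : R) ^ N) + (algebraMap V R ϖ * (p : R) ^ N) * y) • m := by rw [← e0]
      _ = x • ((a ^ N * (p : R) ^ N) • m) + (algebraMap V R ϖ * (p : R) ^ N) • (y • m) := by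
          rw [add_smul, mul_smul x, mul_smul (algebraMap V R ϖ * (p : R) ^ N)]
      _ = (algebraMap V R ϖ * (p : R) ^ N) • (y • m) := by rw [h0, smul_zero, zero_add]
  rw [mul_smul, hkey]
  exact Submodule.smul_mem _ _
    (Submodule.smul_mem_smul (Ideal.mem_span_singleton_self _) Submodule.mem_top)

theorem part2 (V : Type u) [CommRing V] [IsDomain V] [IsDiscreteValuationRing V] [CharZero V]
    (ϖ : V) (hϖ : Irreducible ϖ) (p : ℕ) [Fact p.Prime] [CharP (IsLocalRing.ResidueField V) p]
    (A : Type u) [CommRing A] [Algebra V A] [Algebra.FiniteType V A]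
    (R : Type u) [CommRing R] [Algebra V R] [Algebra.FiniteType V R] [Algebra A R]
    [IsScalarTower V A R] (d : ℕ)
    (hS : RingHom.Locally (RingHom.IsStandardSmoothOfRelativeDimension d)
      (algebraMap (FractionRing V) (FractionRing V ⊗[V] A)))
    (hU : RingHom.Locally (RingHom.IsStandardSmoothOfRelativeDimension d)
      (algebraMap (FractionRing V) (FractionRing V ⊗[V] R)))
    (n : ℕ) (hn : Ideal.span {((p : R)) ^ n} • (⊤ : Submodule R (Ω[R⁄A])) ≤
        Ideal.span {algebraMap V R ϖ * (p : R) ^ n} • (⊤ : Submodule R (Ω[R⁄A]))) :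
    ∃ a : R, Ideal.span {a} ⊔ Ideal.span {algebraMap V R ϖ} = ⊤ ∧
        ((algebraMap R (Localization.Away (a * algebraMap V R ϖ))).comp (algebraMap A R)).Etale := by
  obtain ⟨e, u, -, hpu⟩ := exists_p_eq V ϖ hϖ p
  haveI : IsNoetherianRing A := Algebra.FiniteType.isNoetherianRing V A
  haveI : IsNoetherianRing R := Algebra.FiniteType.isNoetherianRing V R
  haveI : Algebra.FiniteType A R := Algebra.FiniteType.of_restrictScalars_finiteType V A R
  haveI : Algebra.FinitePresentation A R := Algebra.FinitePresentation.of_finiteType.mp inferInstance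
  have hfg : (Ideal.span {((p : R)) ^ n} • (⊤ : Submodule R (Ω[R⁄A]))).FG :=
    IsNoetherian.noetherian _
  have heq : Ideal.span {algebraMap V R ϖ * (p : R) ^ n} • (⊤ : Submodule R (Ω[R⁄A]))
      = Ideal.span {algebraMap V R ϖ} • (Ideal.span {((p : R)) ^ n} • (⊤ : Submodule R (Ω[R⁄A]))) := by
    rw [← Ideal.span_singleton_mul_span_singleton, Submodule.mul_smul]
  rw [heq] at hn
  obtain ⟨a, ha1, ha2⟩ :=
    Submodule.exists_sub_one_mem_and_smul_eq_zero_of_fg_of_le_smul _ _ hfg hn
  have hcop : Ideal.span {a} ⊔ Ideal.span {algebraMap V R ϖ} = ⊤ := by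
    rw [Ideal.eq_top_iff_one]
    have h1 : (1 : R) = a - (a - 1) := by ring
    rw [h1]
    exact Submodule.sub_mem _ (Submodule.mem_sup_left (Ideal.mem_span_singleton_self a))
      (Submodule.mem_sup_right ha1)
  have hkill : ∀ m : Ω[R⁄A], (a * algebraMap V R ϖ) ^ (e * n + 1) • m = 0 := by
    intro m
    have h1 : a • (((p : R)) ^ n • m) = 0 :=
      ha2 _ (Submodule.smul_mem_smul (Ideal.mem_span_singleton_self _) Submodule.mem_top)
    have hpR : (p : R) = algebraMap V R u * algebraMap V R ϖ ^ e := by
      rw [← map_pow, ← map_mul, ← hpu, map_natCast]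
    have hv : algebraMap V R ((u⁻¹ : Vˣ) : V) * algebraMap V R u = 1 := by
      rw [← map_mul, Units.inv_mul, map_one]
    have h2 : (a * algebraMap V R ϖ ^ (e * n)) • m = 0 := by
      have h20 : a * algebraMap V R ϖ ^ (e * n)
          = algebraMap V R ((u⁻¹ : Vˣ) : V) ^ n * (a * (p : R) ^ n) := by
        rw [hpR, mul_pow, ← pow_mul]
        have h21 : algebraMap V R ((u⁻¹ : Vˣ) : V) ^ n * algebraMap V R u ^ n = 1 := by
          rw [← mul_pow, hv, one_pow]
        linear_combination (-(a * algebraMap V R ϖ ^ (e * n))) * h21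
      rw [h20, mul_smul, mul_smul, h1, smul_zero]
    have h3 : (a * algebraMap V R ϖ) ^ (e * n + 1)
        = (a ^ (e * n) * algebraMap V R ϖ) * (a * algebraMap V R ϖ ^ (e * n)) := by ring
    rw [h3, mul_smul, h2, smul_zero]
  haveI := away_fractionRing V ϖ hϖ
  exact ⟨a, hcop, etale_of_tensor V ϖ (FractionRing V) A R a d hS hU _ hkill⟩



/-- Let V be a discrete valuation ring of characteristic zero with uniformizer ϖ, whose residue field k
is perfect of characteristic p > 0, and let A → R be a homomorphism of V-algebras of finite type,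
viewed as a morphism f : Spec R → Spec A of schemes of finite type over Spec V. Say f is η-étale
when there is an open neighbourhood of the closed fibre of Spec R on whose generic fibre f is étale;
for affine Spec R this means: some a ∈ R with (a) + (ϖ) = R has R[1/(aϖ)] étale over A. First: if f
is η-étale then for some n ≥ 0 the submodule p^n Ω_{R/A} of the module of differentials is contained
in ϖ p^n Ω_{R/A} (that is, p^n Ω_{R/A} vanishes along the closed fibre). Conversely: if the generic
fibres Spec(K ⊗_V A) and Spec(K ⊗_V R) are both smooth over K of the same relative dimension d, K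
the fraction field of V, then such an n forces f to be η-étale. (The published statement is for
arbitrary schemes X → Y of finite type over V and also lists an intermediate equivalent condition,
that the restriction of p^n Ω_{X/Y} to the closed fibre as an abelian sheaf vanishes for some n;
this row is the case of affine schemes and states the other two conditions.) -/
theorem result (V : Type u) [CommRing V] [IsDomain V] [IsDiscreteValuationRing V] [CharZero V]
    (ϖ : V) (hϖ : Irreducible ϖ) (p : ℕ) [Fact p.Prime] [CharP (IsLocalRing.ResidueField V) p]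
    [PerfectField (IsLocalRing.ResidueField V)]
    (A : Type u) [CommRing A] [Algebra V A] [Algebra.FiniteType V A]
    (R : Type u) [CommRing R] [Algebra V R] [Algebra.FiniteType V R] [Algebra A R] [IsScalarTower V A R] :
    ((∃ a : R, Ideal.span {a} ⊔ Ideal.span {algebraMap V R ϖ} = ⊤ ∧
        ((algebraMap R (Localization.Away (a * algebraMap V R ϖ))).comp (algebraMap A R)).Etale) →
      ∃ n : ℕ, Ideal.span {((p : R)) ^ n} • (⊤ : Submodule R (Ω[R⁄A])) ≤
        Ideal.span {algebraMap V R ϖ * (p : R) ^ n} • (⊤ : Submodule R (Ω[R⁄A]))) ∧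
    (∀ d : ℕ, SmoothOfRelativeDimension d
        (Spec.map (CommRingCat.ofHom (algebraMap (FractionRing V) (FractionRing V ⊗[V] A)))) →
      SmoothOfRelativeDimension d
        (Spec.map (CommRingCat.ofHom (algebraMap (FractionRing V) (FractionRing V ⊗[V] R)))) →
      (∃ n : ℕ, Ideal.span {((p : R)) ^ n} • (⊤ : Submodule R (Ω[R⁄A])) ≤
        Ideal.span {algebraMap V R ϖ * (p : R) ^ n} • (⊤ : Submodule R (Ω[R⁄A]))) →
      ∃ a : R, Ideal.span {a} ⊔ Ideal.span {algebraMap V R ϖ} = ⊤ ∧
        ((algebraMap R (Localization.Away (a * algebraMap V R ϖ))).comp (algebraMap A R)).Etale) := by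
  refine ⟨?_, ?_⟩
  · rintro ⟨a, hcop, het⟩
    exact part1 V ϖ hϖ p A R a hcop het
  · intro d h1 h2 ⟨n, hn⟩
    exact part2 V ϖ hϖ p A R d
      ((HasRingHomProperty.Spec_iff (P := @SmoothOfRelativeDimension d)).mp h1)
      ((HasRingHomProperty.Spec_iff (P := @SmoothOfRelativeDimension d)).mp h2) n hn

end Groth.Agent.S14383
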