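import Groth.Statements.S14385
import Mathlib
import Groth.Agent.S14379
import Groth.Agent.S14383
import Groth.Agent.S14384
import Groth.Agent.H38.ValFibreDim
-- import your own Groth.Agent.* helpers here

set_option autoImplicit false
open scoped TensorProduct
open AlgebraicGeometry
universe u
open CAlg

namespace Groth.Agent.S14385


open TensorProduct

/-! ### Quasi-finite algebras do not increase dimension (copied from H14.EtaleDim) -/

theorem height_map_mk_eq_zero {S : Type*} [CommRing S] (I Q : Ideal S) [Q.IsPrime] (hIQ : I ≤ Q)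
    (hmin : ∀ Q' : Ideal S, Q'.IsPrime → I ≤ Q' → Q' ≤ Q → Q' = Q) :
    (Q.map (Ideal.Quotient.mk I)).height = 0 := by
  have hsurj : Function.Surjective (Ideal.Quotient.mk I) := Ideal.Quotient.mk_surjective
  have hP : (Q.map (Ideal.Quotient.mk I)).IsPrime :=
    Ideal.map_isPrime_of_surjective hsurj (by rw [Ideal.mk_ker]; exact hIQ)
  rw [Ideal.height_eq_zero_iff]
  refine ⟨⟨hP, bot_le⟩, fun J ⟨hJ, _⟩ hJQ => ?_⟩
  have hcomapQ : (Q.map (Ideal.Quotient.mk I)).comap (Ideal.Quotient.mk I) = Q := by
    rw [Ideal.comap_map_of_surjective _ hsurj, ← RingHom.ker_eq_comap_bot, Ideal.mk_ker]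
    exact sup_eq_left.mpr hIQ
  have hJ'Q : J.comap (Ideal.Quotient.mk I) ≤ Q :=
    le_trans (Ideal.comap_mono hJQ) hcomapQ.le
  have hIJ : I ≤ J.comap (Ideal.Quotient.mk I) := by
    intro x hx
    rw [Ideal.mem_comap, Ideal.Quotient.eq_zero_iff_mem.mpr hx]
    exact J.zero_mem
  have heq := hmin (J.comap (Ideal.Quotient.mk I)) (Ideal.comap_isPrime _ J) hIJ hJ'Q
  rw [← heq, Ideal.map_comap_of_surjective _ hsurj]

theorem height_le_height_under {R S : Type*} [CommRing R] [CommRing S] [Algebra R S]
    [IsNoetherianRing R] [IsNoetherianRing S] [Algebra.QuasiFinite R S] (Q : Ideal S) [Q.IsPrime] :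
    Q.height ≤ (Q.under R).height := by
  have h := Ideal.height_le_height_add_of_liesOver (Q.under R) Q
  have hIQ : (Q.under R).map (algebraMap R S) ≤ Q := Ideal.map_comap_le
  have h0 : (Q.map (Ideal.Quotient.mk ((Q.under R).map (algebraMap R S)))).height = 0 := by
    refine height_map_mk_eq_zero _ Q hIQ (fun Q' hQ' hIQ' hQ'Q => ?_)
    have hunder : Q'.under R = Q.under R := by
      apply le_antisymm
      · exact Ideal.comap_mono hQ'Q
      · intro x hx
        exact hIQ' (Ideal.mem_map_of_mem _ hx)
    exact Algebra.QuasiFinite.eq_of_le_of_under_eq (R := R) Q' Q hQ'Q hunder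
  rwa [h0, add_zero] at h

theorem ringKrullDim_le_of_quasiFinite {R S : Type*} [CommRing R] [CommRing S] [Algebra R S]
    [IsNoetherianRing R] [IsNoetherianRing S] [Algebra.QuasiFinite R S] :
    ringKrullDim S ≤ ringKrullDim R := by
  rw [ringKrullDim_le_iff_height_le]
  intro Q hQ
  have := hQ
  refine le_trans ?_ (Ideal.height_le_ringKrullDim_of_isPrime (I := Q.under R))
  exact_mod_cast height_le_height_under (R := R) Q

/-! ### Dimension of a smooth algebra of relative dimension `d` over a field -/

theorem ringKrullDim_le_of_locally {K U : Type u} [Field K] [CommRing U] [Algebra K U] (d : ℕ)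
    (hU : RingHom.Locally (RingHom.IsStandardSmoothOfRelativeDimension d) (algebraMap K U)) :
    ringKrullDim U ≤ d := by
  haveI : Algebra.Smooth K U := Groth.Agent.S14383.smooth_of_locally d hU
  haveI : IsNoetherianRing U := Algebra.FiniteType.isNoetherianRing K U
  obtain ⟨s, hs, h⟩ := hU
  rw [ringKrullDim_le_iff_height_le]
  intro Q hQ
  have hex : ∃ t ∈ s, t ∉ Q := by
    by_contra hcon
    simp only [not_exists, not_and, not_not] at hcon
    have h1 : Ideal.span s ≤ Q := Ideal.span_le.mpr hcon
    rw [hs] at h1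
    exact hQ.ne_top (top_le_iff.mp h1)
  obtain ⟨t, hts, htQ⟩ := hex
  have h1 := h t hts
  rw [← IsScalarTower.algebraMap_eq K U (Localization.Away t),
    RingHom.isStandardSmoothOfRelativeDimension_algebraMap] at h1
  haveI := h1
  obtain ⟨g, hg⟩ := Algebra.IsStandardSmoothOfRelativeDimension.exists_etale_mvPolynomial d K
    (Localization.Away t)
  letI : Algebra (MvPolynomial (Fin d) K) (Localization.Away t) := g.toRingHom.toAlgebra
  haveI : Algebra.Etale (MvPolynomial (Fin d) K) (Localization.Away t) := hg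
  haveI : IsNoetherianRing (Localization.Away t) :=
    IsLocalization.isNoetherianRing (Submonoid.powers t) _ inferInstance
  have hdim : ringKrullDim (Localization.Away t) ≤ d := by
    refine (ringKrullDim_le_of_quasiFinite (R := MvPolynomial (Fin d) K)
      (S := Localization.Away t)).trans ?_
    rw [MvPolynomial.ringKrullDim_of_isNoetherianRing, ringKrullDim_eq_zero_of_field]
    simp
  have hdisj : Disjoint (Submonoid.powers t : Set U) (Q : Set U) := by
    rw [Set.disjoint_left]
    rintro x hx hxq
    obtain ⟨n, rfl⟩ := (Submonoid.mem_powers_iff _ _).mp hx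
    exact htQ (hQ.mem_of_pow_mem n hxq)
  haveI hQ' : (Q.map (algebraMap U (Localization.Away t))).IsPrime :=
    IsLocalization.isPrime_of_isPrime_disjoint (Submonoid.powers t) _ _ hQ hdisj
  have hht : (Q.map (algebraMap U (Localization.Away t))).height = Q.height :=
    IsLocalization.height_map_of_disjoint (Submonoid.powers t) Q hdisj
  rw [← hht]
  exact (Ideal.height_le_ringKrullDim_of_isPrime).trans hdim

/-! ### Chains of primes -/

theorem exists_ltSeries_map {A B : Type*} [CommRing A] [CommRing B] (f : A →+* B)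
    (hf : Function.Surjective f) (p : LTSeries (PrimeSpectrum A))
    (hker : RingHom.ker f ≤ p.head.asIdeal) :
    ∃ p' : LTSeries (PrimeSpectrum B), p'.length = p.length := by
  have hk : ∀ i, RingHom.ker f ≤ (p i).asIdeal := fun i =>
    hker.trans ((PrimeSpectrum.asIdeal_le_asIdeal _ _).mpr (p.head_le i))
  have hcm : ∀ i, ((p i).asIdeal.map f).comap f = (p i).asIdeal := fun i => by
    rw [Ideal.comap_map_of_surjective f hf, ← RingHom.ker_eq_comap_bot]
    exact sup_eq_left.mpr (hk i)
  refine ⟨LTSeries.mk p.length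
    (fun i => ⟨(p i).asIdeal.map f, Ideal.map_isPrime_of_surjective hf (hk i)⟩) ?_, rfl⟩
  intro i j hij
  have h1 : (p i).asIdeal < (p j).asIdeal :=
    (PrimeSpectrum.asIdeal_lt_asIdeal _ _).mpr (p.strictMono hij)
  rw [← PrimeSpectrum.asIdeal_lt_asIdeal]
  show (p i).asIdeal.map f < (p j).asIdeal.map f
  refine lt_of_le_of_ne (Ideal.map_mono h1.le) fun heq => ?_
  have h2 := congrArg (Ideal.comap f) heq
  rw [hcm i, hcm j] at h2
  exact h1.ne h2

theorem one_tmul_eq_zero (V : Type u) [CommRing V] [IsLocalRing V] (ϖ : V)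
    (hm : IsLocalRing.maximalIdeal V = Ideal.span {ϖ}) (S : Type u) [AddCommGroup S] [Module V S]
    (s : S) (h : (1 : IsLocalRing.ResidueField V) ⊗ₜ[V] s = 0) : ∃ s' : S, s = ϖ • s' := by
  have h' : ((Ideal.Quotient.mk (IsLocalRing.maximalIdeal V) (1 : V)) ⊗ₜ[V] s :
      (V ⧸ IsLocalRing.maximalIdeal V) ⊗[V] S) = 0 := h
  have h1 := congrArg (TensorProduct.quotTensorEquivQuotSMul S (IsLocalRing.maximalIdeal V)) h'
  rw [map_zero, TensorProduct.quotTensorEquivQuotSMul_mk_tmul, one_smul,
    Submodule.Quotient.mk_eq_zero, hm, Submodule.ideal_span_singleton_smul] at h1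
  obtain ⟨s', -, hs'⟩ := (Submodule.mem_smul_pointwise_iff_exists _ _ _).mp h1
  exact ⟨s', hs'.symm⟩

/-! ### The special fibre of a flat algebra over a DVR has dimension at most that of the generic
fibre -/

theorem ringKrullDim_residue_tensor_le_of_flat (V : Type u) [CommRing V] [IsDomain V]
    [IsDiscreteValuationRing V] (ϖ : V) (hϖ : Irreducible ϖ)
    (R : Type u) [CommRing R] [Algebra V R] [Module.Flat V R] [Algebra.FiniteType V R] :
    ringKrullDim (IsLocalRing.ResidueField V ⊗[V] R) ≤ ringKrullDim (FractionRing V ⊗[V] R) := by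
  have key : ∀ p : LTSeries (PrimeSpectrum (IsLocalRing.ResidueField V ⊗[V] R)),
      (p.length : WithBot ℕ∞) ≤ ringKrullDim (FractionRing V ⊗[V] R) := by
    intro p
    have hm : IsLocalRing.maximalIdeal V = Ideal.span {ϖ} := hϖ.maximalIdeal_eq
    have hϖk : algebraMap V (IsLocalRing.ResidueField V) ϖ = 0 := by
      rw [IsLocalRing.ResidueField.algebraMap_eq, IsLocalRing.residue_eq_zero_iff]
      exact (IsLocalRing.mem_maximalIdeal _).mpr hϖ.not_isUnit
    -- the inclusion `R → k ⊗ R`
    obtain ⟨ιR, hιR⟩ : ∃ ιR : R →+* IsLocalRing.ResidueField V ⊗[V] R,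
        ∀ a, ιR a = (1 : IsLocalRing.ResidueField V) ⊗ₜ[V] a :=
      ⟨(Algebra.TensorProduct.includeRight : R →ₐ[V] IsLocalRing.ResidueField V ⊗[V] R).toRingHom,
        fun _ => rfl⟩
    have hιRsurj : Function.Surjective ιR := by
      intro z
      obtain ⟨a, ha⟩ := Algebra.TensorProduct.includeRight_surjective (R := V)
        (S := IsLocalRing.ResidueField V) R IsLocalRing.residue_surjective z
      exact ⟨a, by rw [hιR]; exact ha⟩
    have hιRϖ : ∀ r : R, ιR (algebraMap V R ϖ * r) = 0 := by
      intro r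
      rw [hιR, ← Algebra.smul_def, TensorProduct.tmul_smul, TensorProduct.smul_tmul',
        Algebra.smul_def, mul_one, hϖk, TensorProduct.zero_tmul]
    -- the chain in `R`
    have hmono : StrictMono (PrimeSpectrum.comap ιR) := by
      refine Monotone.strictMono_of_injective (fun a b hab => ?_)
        (PrimeSpectrum.comap_injective_of_surjective ιR hιRsurj)
      rw [← PrimeSpectrum.asIdeal_le_asIdeal] at hab ⊢
      exact Ideal.comap_mono hab
    obtain ⟨p₁, hp₁len, hp₁head⟩ : ∃ p₁ : LTSeries (PrimeSpectrum R), p₁.length = p.length ∧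
        p₁.head = PrimeSpectrum.comap ιR p.head :=
      ⟨p.map (PrimeSpectrum.comap ιR) hmono, rfl, rfl⟩
    have hϖq : ∀ r : R, algebraMap V R ϖ * r ∈ p₁.head.asIdeal := by
      intro r
      rw [hp₁head]
      show ιR (algebraMap V R ϖ * r) ∈ p.head.asIdeal
      rw [hιRϖ]
      exact Ideal.zero_mem _
    -- a minimal prime below the head
    haveI : p₁.head.asIdeal.IsPrime := p₁.head.isPrime
    obtain ⟨P, hPmin, hPq⟩ := Ideal.exists_minimalPrimes_le (bot_le : (⊥ : Ideal R) ≤ p₁.head.asIdeal)
    haveI hPprime : P.IsPrime := hPmin.1.1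
    have hϖnzd : algebraMap V R ϖ ∈ nonZeroDivisors R := by
      rw [mem_nonZeroDivisors_iff_right]
      intro r hr
      have hreg := Module.Flat.isSMulRegular_of_nonZeroDivisors (M := R)
        (mem_nonZeroDivisors_of_ne_zero hϖ.ne_zero)
      apply hreg
      show ϖ • r = ϖ • (0 : R)
      rw [smul_zero, Algebra.smul_def, mul_comm]
      exact hr
    have hϖP : algebraMap V R ϖ ∉ P := fun hmem =>
      Set.disjoint_left.mp (Ideal.disjoint_nonZeroDivisors_of_mem_minimalPrimes hPmin) hmem hϖnzd
    -- the domain `S = R / P`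
    haveI : Algebra.FiniteType V (R ⧸ P) :=
      Algebra.FiniteType.of_surjective (Ideal.Quotient.mkₐ V P) (Ideal.Quotient.mkₐ_surjective V P)
    have hϖS : algebraMap V (R ⧸ P) ϖ ≠ 0 := by
      intro h0
      apply hϖP
      rw [IsScalarTower.algebraMap_apply V R (R ⧸ P), Ideal.Quotient.algebraMap_eq,
        Ideal.Quotient.eq_zero_iff_mem] at h0
      exact h0
    have hinj : Function.Injective (algebraMap V (R ⧸ P)) := by
      rw [injective_iff_map_eq_zero]
      intro v hv
      by_contra hv0
      obtain ⟨n, w, rfl⟩ := IsDiscreteValuationRing.eq_unit_mul_pow_irreducible hv0 hϖ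
      rw [map_mul, map_pow] at hv
      rcases mul_eq_zero.mp hv with h | h
      · exact ((w.isUnit.map (algebraMap V (R ⧸ P))).ne_zero) h
      · exact pow_ne_zero n hϖS h
    -- the surjection `R → k ⊗ S`
    obtain ⟨g, hg⟩ : ∃ g : R →+* IsLocalRing.ResidueField V ⊗[V] (R ⧸ P),
        ∀ a, g a = (1 : IsLocalRing.ResidueField V) ⊗ₜ[V] (Ideal.Quotient.mk P a) :=
      ⟨((Algebra.TensorProduct.includeRight :
          (R ⧸ P) →ₐ[V] IsLocalRing.ResidueField V ⊗[V] (R ⧸ P)).toRingHom).comp
        (Ideal.Quotient.mk P), fun _ => rfl⟩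
    have hgsurj : Function.Surjective g := by
      intro z
      obtain ⟨a, ha⟩ := Algebra.TensorProduct.includeRight_surjective (R := V)
        (S := IsLocalRing.ResidueField V) (R ⧸ P) IsLocalRing.residue_surjective z
      obtain ⟨r, rfl⟩ := Ideal.Quotient.mk_surjective a
      exact ⟨r, by rw [hg]; exact ha⟩
    have hker : RingHom.ker g ≤ p₁.head.asIdeal := by
      intro r hr
      rw [RingHom.mem_ker, hg] at hr
      obtain ⟨s', hs'⟩ := one_tmul_eq_zero V ϖ hm (R ⧸ P) _ hr
      obtain ⟨r', rfl⟩ := Ideal.Quotient.mk_surjective s'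
      have h3 : r - algebraMap V R ϖ * r' ∈ P := by
        rw [← Ideal.Quotient.eq, hs', Algebra.smul_def, IsScalarTower.algebraMap_apply V R (R ⧸ P),
          Ideal.Quotient.algebraMap_eq, map_mul]
      have h4 : r = (r - algebraMap V R ϖ * r') + algebraMap V R ϖ * r' := by ring
      rw [h4]
      exact Ideal.add_mem _ (hPq h3) (hϖq r')
    obtain ⟨p', hp'len⟩ := exists_ltSeries_map g hgsurj p₁ hker
    haveI : Nontrivial (IsLocalRing.ResidueField V ⊗[V] (R ⧸ P)) := (p' 0).nontrivial
    have h5 : (p'.length : WithBot ℕ∞) ≤ ringKrullDim (IsLocalRing.ResidueField V ⊗[V] (R ⧸ P)) :=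
      Order.LTSeries.length_le_krullDim p'
    have h6 := Groth.Agent.H38.ValFibreDim.ringKrullDim_residue_tensor_le (R := V) (S := R ⧸ P) hinj
      (FractionRing V)
    have h7 : ringKrullDim (FractionRing V ⊗[V] (R ⧸ P)) ≤ ringKrullDim (FractionRing V ⊗[V] R) := by
      refine ringKrullDim_le_of_surjective
        (Algebra.TensorProduct.map (AlgHom.id (FractionRing V) (FractionRing V))
          (Ideal.Quotient.mkₐ V P)).toRingHom ?_
      intro z
      induction z using TensorProduct.induction_on with
      | zero => exact ⟨0, map_zero _⟩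
      | tmul a s =>
        obtain ⟨r, rfl⟩ := Ideal.Quotient.mk_surjective s
        exact ⟨a ⊗ₜ r, by simp⟩
      | add z w hz hw =>
        obtain ⟨z', hz'⟩ := hz
        obtain ⟨w', hw'⟩ := hw
        exact ⟨z' + w', by rw [map_add, hz', hw']⟩
    rw [← hp₁len, ← hp'len]
    exact h5.trans (h6.trans h7)
  exact iSup_le key

/-! ### Polynomial rings are standard smooth -/

noncomputable def mvPolyPres (V : Type u) [CommRing V] (d : ℕ) :
    Algebra.SubmersivePresentation V (MvPolynomial (Fin d) V) (Fin d) PEmpty.{1} where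
  toGenerators := Algebra.Generators.mvPolynomial V (Fin d)
  relation := PEmpty.elim
  span_range_relation_eq_ker := by
    simp only [Set.range_eq_empty, Ideal.span_empty]
    symm
    rw [Algebra.Generators.ker_eq_ker_aeval_val]
    have h1 : (MvPolynomial.aeval (Algebra.Generators.mvPolynomial V (Fin d)).val :
        MvPolynomial (Fin d) V →ₐ[V] MvPolynomial (Fin d) V) = AlgHom.id V _ := by
      rw [Algebra.Generators.mvPolynomial_val]
      exact MvPolynomial.aeval_X_left
    rw [h1]
    exact (RingHom.injective_iff_ker_eq_bot _).mp Function.injective_id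
  map := PEmpty.elim
  map_inj := fun a => a.elim
  jacobian_isUnit := by
    rw [Algebra.PreSubmersivePresentation.jacobian_eq_jacobiMatrix_det, Matrix.det_isEmpty, map_one]
    exact isUnit_one

theorem mvPoly_isStandardSmooth (V : Type u) [CommRing V] (d : ℕ) :
    Algebra.IsStandardSmoothOfRelativeDimension d V (MvPolynomial (Fin d) V) :=
  (mvPolyPres V d).isStandardSmoothOfRelativeDimension
    (by simp [Algebra.Presentation.dimension])

theorem poly_locally (V : Type u) [CommRing V] (d : ℕ) (K : Type u) [CommRing K] [Algebra V K] :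
    RingHom.Locally (RingHom.IsStandardSmoothOfRelativeDimension d)
      (algebraMap K (K ⊗[V] MvPolynomial (Fin d) V)) := by
  apply RingHom.locally_of RingHom.isStandardSmoothOfRelativeDimension_respectsIso
  rw [RingHom.isStandardSmoothOfRelativeDimension_algebraMap]
  haveI := mvPoly_isStandardSmooth V d
  infer_instance

/-! ### Translating between `Ω[R⁄V[T]]` and `Ω[R⁄V]` -/

theorem D_algebraMap_mem {V : Type u} [CommRing V] {d : ℕ} {R : Type u} [CommRing R] [Algebra V R]
    [Algebra (MvPolynomial (Fin d) V) R] [IsScalarTower V (MvPolynomial (Fin d) V) R]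
    (x : Fin d → R) (hx : ∀ i, algebraMap (MvPolynomial (Fin d) V) R (MvPolynomial.X i) = x i)
    (a : MvPolynomial (Fin d) V) :
    KaehlerDifferential.D V R (algebraMap (MvPolynomial (Fin d) V) R a) ∈
      Submodule.span R (Set.range fun i => KaehlerDifferential.D V R (x i)) := by
  induction a using MvPolynomial.induction_on with
  | C v =>
    rw [← MvPolynomial.algebraMap_eq, ← IsScalarTower.algebraMap_apply V (MvPolynomial (Fin d) V) R,
      Derivation.map_algebraMap]
    exact Submodule.zero_mem _
  | add f g hf hg =>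
    rw [map_add, map_add]
    exact Submodule.add_mem _ hf hg
  | mul_X f i hf =>
    rw [map_mul, Derivation.leibniz, hx]
    exact Submodule.add_mem _
      (Submodule.smul_mem _ _ (Submodule.subset_span ⟨i, rfl⟩)) (Submodule.smul_mem _ _ hf)

theorem ker_map_eq {V : Type u} [CommRing V] {d : ℕ} {R : Type u} [CommRing R] [Algebra V R]
    [Algebra (MvPolynomial (Fin d) V) R] [IsScalarTower V (MvPolynomial (Fin d) V) R]
    (x : Fin d → R) (hx : ∀ i, algebraMap (MvPolynomial (Fin d) V) R (MvPolynomial.X i) = x i) :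
    LinearMap.ker (KaehlerDifferential.map V (MvPolynomial (Fin d) V) R R) =
      Submodule.span R (Set.range fun i => KaehlerDifferential.D V R (x i)) := by
  apply le_antisymm
  · intro ω hω
    obtain ⟨z, rfl⟩ := (KaehlerDifferential.exact_mapBaseChange_map V (MvPolynomial (Fin d) V) R ω).mp
      (LinearMap.mem_ker.mp hω)
    clear hω
    induction z using TensorProduct.induction_on with
    | zero => rw [map_zero]; exact Submodule.zero_mem _
    | add z w hz hw => rw [map_add]; exact Submodule.add_mem _ hz hw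
    | tmul r ω' =>
      have hω' : ω' ∈ Submodule.span (MvPolynomial (Fin d) V)
          (Set.range (KaehlerDifferential.D V (MvPolynomial (Fin d) V))) := by
        rw [KaehlerDifferential.span_range_derivation]; trivial
      induction hω' using Submodule.span_induction generalizing r with
      | mem y hy =>
        obtain ⟨a, rfl⟩ := hy
        rw [KaehlerDifferential.mapBaseChange_tmul, KaehlerDifferential.map_D]
        exact Submodule.smul_mem _ _ (D_algebraMap_mem x hx a)
      | zero => rw [TensorProduct.tmul_zero, map_zero]; exact Submodule.zero_mem _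
      | add y z _ _ hy hz =>
        rw [TensorProduct.tmul_add, map_add]
        exact Submodule.add_mem _ (hy r) (hz r)
      | smul a y _ hy =>
        rw [TensorProduct.tmul_smul, TensorProduct.smul_tmul']
        exact hy (a • r)
  · rw [Submodule.span_le]
    rintro _ ⟨i, rfl⟩
    rw [SetLike.mem_coe, LinearMap.mem_ker, KaehlerDifferential.map_D, Algebra.algebraMap_self,
      RingHom.id_apply, ← hx i, Derivation.map_algebraMap]

theorem kaehler_translate {V : Type u} [CommRing V] {d : ℕ} {R : Type u} [CommRing R] [Algebra V R]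
    [Algebra (MvPolynomial (Fin d) V) R] [IsScalarTower V (MvPolynomial (Fin d) V) R]
    (x : Fin d → R) (hx : ∀ i, algebraMap (MvPolynomial (Fin d) V) R (MvPolynomial.X i) = x i)
    (c c' : R) :
    (Ideal.span {c} • (⊤ : Submodule R (Ω[R⁄MvPolynomial (Fin d) V])) ≤
      Ideal.span {c'} • (⊤ : Submodule R (Ω[R⁄MvPolynomial (Fin d) V]))) ↔
    (Ideal.span {c} • (⊤ : Submodule R (Ω[R⁄V])) ≤
      Ideal.span {c'} • (⊤ : Submodule R (Ω[R⁄V])) ⊔
        Submodule.span R (Set.range fun i => KaehlerDifferential.D V R (x i))) := by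
  have hsurj : Function.Surjective (KaehlerDifferential.map V (MvPolynomial (Fin d) V) R R) :=
    KaehlerDifferential.map_surjective V (MvPolynomial (Fin d) V) R
  have hker := ker_map_eq x hx
  constructor
  · intro h
    rw [Submodule.smul_le]
    intro r hr ω _
    have h1 : r • KaehlerDifferential.map V (MvPolynomial (Fin d) V) R R ω ∈
        Ideal.span {c'} • (⊤ : Submodule R (Ω[R⁄MvPolynomial (Fin d) V])) :=
      h (Submodule.smul_mem_smul hr Submodule.mem_top)
    rw [Submodule.ideal_span_singleton_smul] at h1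
    obtain ⟨η, -, hη⟩ := (Submodule.mem_smul_pointwise_iff_exists _ _ _).mp h1
    obtain ⟨η', rfl⟩ := hsurj η
    have h2 : r • ω - c' • η' ∈ LinearMap.ker (KaehlerDifferential.map V (MvPolynomial (Fin d) V) R R) := by
      rw [LinearMap.mem_ker, map_sub, map_smul, map_smul, hη, sub_self]
    rw [hker] at h2
    have h3 : r • ω = c' • η' + (r • ω - c' • η') := by abel
    rw [h3]
    exact Submodule.add_mem_sup
      (Submodule.smul_mem_smul (Ideal.mem_span_singleton_self c') Submodule.mem_top) h2
  · intro h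
    rw [Submodule.smul_le]
    intro r hr η _
    obtain ⟨ω, rfl⟩ := hsurj η
    have h1 : r • ω ∈ Ideal.span {c'} • (⊤ : Submodule R (Ω[R⁄V])) ⊔
        Submodule.span R (Set.range fun i => KaehlerDifferential.D V R (x i)) :=
      h (Submodule.smul_mem_smul hr Submodule.mem_top)
    obtain ⟨u, hu, v, hv, huv⟩ := Submodule.mem_sup.mp h1
    rw [Submodule.ideal_span_singleton_smul] at hu
    obtain ⟨u', -, rfl⟩ := (Submodule.mem_smul_pointwise_iff_exists _ _ _).mp hu
    rw [← hker, LinearMap.mem_ker] at hv
    rw [← map_smul, ← huv, map_add, hv, add_zero, map_smul]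
    exact Submodule.smul_mem_smul (Ideal.mem_span_singleton_self c') Submodule.mem_top

/-! ### The two halves -/

theorem L1 (V : Type u) [CommRing V] [IsDomain V] [IsDiscreteValuationRing V] [CharZero V]
    (ϖ : V) (hϖ : Irreducible ϖ) (p : ℕ) [Fact p.Prime] [CharP (IsLocalRing.ResidueField V) p]
    (R : Type u) [CommRing R] [Algebra V R] [Algebra.FiniteType V R] (d : ℕ) (x' : Fin d → R)
    (a : R) (hcop : Ideal.span {a} ⊔ Ideal.span {algebraMap V R ϖ} = ⊤)
    (het : ((algebraMap R (Localization.Away (a * algebraMap V R ϖ))).comp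
          (MvPolynomial.aeval x' : MvPolynomial (Fin d) V →ₐ[V] R).toRingHom).Etale) :
    ∃ n : ℕ, Ideal.span {((p : R)) ^ n} • (⊤ : Submodule R (Ω[R⁄V])) ≤
      Ideal.span {algebraMap V R ϖ * (p : R) ^ n} • (⊤ : Submodule R (Ω[R⁄V])) ⊔
        Submodule.span R (Set.range fun i => KaehlerDifferential.D V R (x' i)) := by
  letI : Algebra (MvPolynomial (Fin d) V) R :=
    (MvPolynomial.aeval x' : MvPolynomial (Fin d) V →ₐ[V] R).toRingHom.toAlgebra
  haveI : IsScalarTower V (MvPolynomial (Fin d) V) R :=
    IsScalarTower.of_algebraMap_eq fun v => ((MvPolynomial.aeval x').commutes v).symm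
  obtain ⟨n, hn⟩ := Groth.Agent.S14383.part1 V ϖ hϖ p (MvPolynomial (Fin d) V) R a hcop het
  exact ⟨n, (kaehler_translate x' (fun i => MvPolynomial.aeval_X x' i) _ _).mp hn⟩

theorem L2 (V : Type u) [CommRing V] [IsDomain V] [IsDiscreteValuationRing V] [CharZero V]
    (ϖ : V) (hϖ : Irreducible ϖ) (p : ℕ) [Fact p.Prime] [CharP (IsLocalRing.ResidueField V) p]
    (R : Type u) [CommRing R] [Algebra V R] [Algebra.FiniteType V R] (d : ℕ)
    (hU : RingHom.Locally (RingHom.IsStandardSmoothOfRelativeDimension d)
      (algebraMap (FractionRing V) (FractionRing V ⊗[V] R)))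
    (x : Fin d → R) (n : ℕ)
    (hn : Ideal.span {((p : R)) ^ n} • (⊤ : Submodule R (Ω[R⁄V])) ≤
      Ideal.span {algebraMap V R ϖ * (p : R) ^ n} • (⊤ : Submodule R (Ω[R⁄V])) ⊔
        Submodule.span R (Set.range fun i => KaehlerDifferential.D V R (x i))) :
    ∃ a : R, Ideal.span {a} ⊔ Ideal.span {algebraMap V R ϖ} = ⊤ ∧
        ((algebraMap R (Localization.Away (a * algebraMap V R ϖ))).comp
          (MvPolynomial.aeval x : MvPolynomial (Fin d) V →ₐ[V] R).toRingHom).Etale := by
  letI : Algebra (MvPolynomial (Fin d) V) R :=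
    (MvPolynomial.aeval x : MvPolynomial (Fin d) V →ₐ[V] R).toRingHom.toAlgebra
  haveI : IsScalarTower V (MvPolynomial (Fin d) V) R :=
    IsScalarTower.of_algebraMap_eq fun v => ((MvPolynomial.aeval x).commutes v).symm
  have hn' := (kaehler_translate x (fun i => MvPolynomial.aeval_X x i) _ _).mpr hn
  exact Groth.Agent.S14383.part2 V ϖ hϖ p (MvPolynomial (Fin d) V) R d
    (poly_locally V d (FractionRing V)) hU n hn'



/-- Let V be a discrete valuation ring of characteristic zero with uniformizer ϖ, whose residue field k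
is perfect of characteristic p > 0, with fraction field K; let R be a flat V-algebra of finite type
such that the generic fibre Spec(K ⊗_V R) → Spec K is smooth of relative dimension d; and suppose
some d-tuple x' of elements of R defines a morphism f' from Spec R to affine d-space over V which is
η-étale, meaning that for some a ∈ R with (a) + (ϖ) = R the localisation R[1/(aϖ)] is étale over
V[T_1, …, T_d] via T_i ↦ x'_i (f' is étale on the generic fibre of an open neighbourhood of the
closed fibre). Then there is a d-tuple x in R whose morphism f is η-étale in the same sense and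
finite on each fibre: k ⊗_V R is finite over k[T_1, …, T_d] and K ⊗_V R is finite over K[T_1, …,
T_d] via T_i ↦ 1 ⊗ x_i. -/
theorem result (V : Type u) [CommRing V] [IsDomain V] [IsDiscreteValuationRing V] [CharZero V]
    (ϖ : V) (hϖ : Irreducible ϖ) (p : ℕ) [Fact p.Prime] [CharP (IsLocalRing.ResidueField V) p]
    [PerfectField (IsLocalRing.ResidueField V)]
    (R : Type u) [CommRing R] [Algebra V R] [Module.Flat V R] [Algebra.FiniteType V R] (d : ℕ)
    (hsm : SmoothOfRelativeDimension d
      (Spec.map (CommRingCat.ofHom (algebraMap (FractionRing V) (FractionRing V ⊗[V] R)))))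
    (x' : Fin d → R) (hx' : (∃ a : R, Ideal.span {a} ⊔ Ideal.span {algebraMap V R ϖ} = ⊤ ∧
        ((algebraMap R (Localization.Away (a * algebraMap V R ϖ))).comp
          (MvPolynomial.aeval x' : MvPolynomial (Fin d) V →ₐ[V] R).toRingHom).Etale)) :
    ∃ x : Fin d → R, (∃ a : R, Ideal.span {a} ⊔ Ideal.span {algebraMap V R ϖ} = ⊤ ∧
        ((algebraMap R (Localization.Away (a * algebraMap V R ϖ))).comp
          (MvPolynomial.aeval x : MvPolynomial (Fin d) V →ₐ[V] R).toRingHom).Etale) ∧
      (MvPolynomial.aeval (fun i => (1 : IsLocalRing.ResidueField V) ⊗ₜ[V] x i) :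
          MvPolynomial (Fin d) (IsLocalRing.ResidueField V) →ₐ[IsLocalRing.ResidueField V]
            IsLocalRing.ResidueField V ⊗[V] R).toRingHom.Finite ∧
      (MvPolynomial.aeval (fun i => (1 : FractionRing V) ⊗ₜ[V] x i) :
          MvPolynomial (Fin d) (FractionRing V) →ₐ[FractionRing V] FractionRing V ⊗[V] R).toRingHom.Finite := by
  classical
  obtain ⟨a', hcop', het'⟩ := hx'
  obtain ⟨n, hn⟩ := L1 V ϖ hϖ p R d x' a' hcop' het'
  have hU : RingHom.Locally (RingHom.IsStandardSmoothOfRelativeDimension d)
      (algebraMap (FractionRing V) (FractionRing V ⊗[V] R)) :=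
    (HasRingHomProperty.Spec_iff (P := @SmoothOfRelativeDimension d)).mp hsm
  have hη : ringKrullDim (FractionRing V ⊗[V] R) ≤ d := ringKrullDim_le_of_locally d hU
  have hs : ringKrullDim (IsLocalRing.ResidueField V ⊗[V] R) ≤ d :=
    (ringKrullDim_residue_tensor_le_of_flat V ϖ hϖ R).trans hη
  obtain ⟨y, hy, hfink, hfinK⟩ := Groth.Agent.S14379.result V R d hs hη x' (p ^ (n + 1))
    (Nat.one_le_pow _ _ (Fact.out : p.Prime).pos)
  have hn2 := Groth.Agent.S14384.result V ϖ hϖ p R d n x' hn y hy
  obtain ⟨a, hcop, het⟩ := L2 V ϖ hϖ p R d hU (fun i => x' i + y i) n hn2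
  exact ⟨fun i => x' i + y i, ⟨a, hcop, het⟩, hfink, hfinK⟩

end Groth.Agent.S14385
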