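import Groth.Statements.S4850
-- import your own Groth.Agent.* helpers here
import Groth.Agent.H49.FibreCritSch
import Groth.Agent.H17.StalkSeq
import Groth.Agent.H48.PtFlat9

set_option autoImplicit false
universe u
open EGA43

namespace Groth.Agent.S4850

open AlgebraicGeometry CategoryTheory Limits in
/-- Equivalence of a: and b)): let f : X ⟶ Y be locally of finite presentation, F and F' quasi-coherent
O_X-modules of finite presentation, u : F' ⟶ F a homomorphism and x a point with y = f x, such that
F is f-flat at x. Then the stalk map u_x is injective and Coker u is f-flat at x, if and only if u_x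
induces an injective map F'_x / m_y F'_x → F_x / m_y F_x. The second condition is written out: an
element of F'_x whose image under u_x lies in m_y F_x already lies in m_y F'_x. (The vanishing of
the stalk (Ker u)_x is expressed as injectivity of u_x.) -/
theorem result {X Y : Scheme.{u}} (f : X ⟶ Y)
    [LocallyOfFinitePresentation f] (F F' : X.Modules) [Coh.IsQCoh F] [Coh.IsQCoh F']
    (hF : CohB1.IsFP F) (hF' : CohB1.IsFP F') (u : F' ⟶ F) (x : X) (hflat : FlatMod.IsFlatOverAt f F x) :
    letI J : Ideal ↑(X.presheaf.stalk x) :=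
      Ideal.map (f.stalkMap x).hom (IsLocalRing.maximalIdeal ↑(Y.presheaf.stalk (f x)))
    letI ux := (TopCat.Presheaf.stalkFunctor Ab x).map (Scheme.Modules.Hom.mapPresheaf u)
    (Function.Injective ux ∧ FlatMod.IsFlatOverAt f (cokernel u) x) ↔
      ∀ m : ↑(F'.presheaf.stalk x),
        ux m ∈ (J • (⊤ : Submodule ↑(X.presheaf.stalk x) ↑(F.presheaf.stalk x))) →
          m ∈ (J • (⊤ : Submodule ↑(X.presheaf.stalk x) ↑(F'.presheaf.stalk x))) := by
  let R := Y.presheaf.stalk (f x)
  let S := X.presheaf.stalk x
  letI algRS : Algebra R S := (f.stalkMap x).hom.toAlgebra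
  haveI : IsLocalHom (algebraMap R S) := inferInstanceAs (IsLocalHom (f.stalkMap x).hom)
  have hS : CAlgX.IsEssFinitePresentation R S :=
    Groth.Agent.H49.FibreCrit.isEssFinitePresentation_stalk f x
  letI modRN : Module R (F.presheaf.stalk x) := FlatMod.moduleStalkOver f F x
  letI modRN' : Module R (F'.presheaf.stalk x) := FlatMod.moduleStalkOver f F' x
  haveI tN : IsScalarTower R S (F.presheaf.stalk x) :=
    IsScalarTower.of_algebraMap_smul fun r m => rfl
  haveI tN' : IsScalarTower R S (F'.presheaf.stalk x) :=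
    IsScalarTower.of_algebraMap_smul fun r m => rfl
  haveI fpN : Module.FinitePresentation S (F.presheaf.stalk x) :=
    Groth.Agent.H49.FibreCrit.finitePresentation_stalk F inferInstance hF x
  haveI fpN' : Module.FinitePresentation S (F'.presheaf.stalk x) :=
    Groth.Agent.H49.FibreCrit.finitePresentation_stalk F' inferInstance hF' x
  haveI flatN : Module.Flat R (F.presheaf.stalk x) := hflat
  let uₗ : F'.presheaf.stalk x →ₗ[S] F.presheaf.stalk x :=
    Groth.Agent.H17.StalkSeq.stalkMapₗ u x
  -- the cokernel
  let C := (cokernel u).presheaf.stalk x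
  letI modRC : Module R C := FlatMod.moduleStalkOver f (cokernel u) x
  haveI tC : IsScalarTower R S C := IsScalarTower.of_algebraMap_smul fun r m => rfl
  let πₗ : F.presheaf.stalk x →ₗ[S] C := Groth.Agent.H17.StalkSeq.stalkMapₗ (cokernel.π u) x
  have hπ : Function.Surjective πₗ :=
    Groth.Agent.H17.StalkSeq.stalkMap_surjective_of_epi (cokernel.π u) x
  have hex : Function.Exact uₗ πₗ :=
    Groth.Agent.H17.StalkSeq.stalkMap_exact
      (ShortComplex.mk u (cokernel.π u) (cokernel.condition u))
      (ShortComplex.exact_cokernel u) x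
  constructor
  · rintro ⟨hinj, hcf⟩ m hm
    haveI : Module.Flat R C := hcf
    have h1 : Function.Injective
        ((uₗ.restrictScalars R).lTensor (R ⧸ IsLocalRing.maximalIdeal R)) :=
      LinearMap.lTensor_injective_of_exact_of_flat (πₗ.restrictScalars R) hπ
        (uₗ.restrictScalars R) hinj hex _
    rw [LinearMap.lTensor_inj_iff_rTensor_inj] at h1
    have h2 := (Groth.Agent.H48.PtFlat.rTensor_quot_injective_iff (IsLocalRing.maximalIdeal R)
      (uₗ.restrictScalars R)).mp h1 m
    have hm' : uₗ m ∈ IsLocalRing.maximalIdeal R • (⊤ : Submodule R (F.presheaf.stalk x)) :=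
      (Groth.Agent.H48.PtFlat.mem_map_smul_top_iff (A := S) (IsLocalRing.maximalIdeal R)
        (uₗ m)).mp hm
    exact (Groth.Agent.H48.PtFlat.mem_map_smul_top_iff (A := S) (IsLocalRing.maximalIdeal R)
      m).mpr (h2 hm')
  · intro h
    obtain ⟨S₀, _, _, _, _, W, hfp, hloc⟩ := hS
    obtain ⟨hinj, hflatcoker⟩ :=
      Groth.Agent.H48.PtFlat.injective_and_flat_coker_of_local S₀ W uₗ h
    refine ⟨hinj, ?_⟩
    let e : (F.presheaf.stalk x ⧸ LinearMap.range uₗ) ≃ₗ[S] C :=
      (Submodule.quotEquivOfEq _ _ (hex.linearMap_ker_eq).symm) ≪≫ₗ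
        πₗ.quotKerEquivOfSurjective hπ
    change Module.Flat R C
    exact Module.Flat.of_linearEquiv (e.restrictScalars R).symm

end Groth.Agent.S4850
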