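import Groth.Statements.S7658
import Mathlib.AlgebraicGeometry.Morphisms.OpenImmersion
import Mathlib.AlgebraicGeometry.Morphisms.Separated
import Mathlib.AlgebraicGeometry.PullbackCarrier
import Mathlib.Topology.Sober

set_option autoImplicit false
universe u
open CategoryTheory CategoryTheory.Limits AlgebraicGeometry
open Variety

namespace Groth.Agent.S7658

/-- Generic points of irreducible components are the points without proper generalisations. -/
theorem mem_irreducibleComponents_iff {X : Type u} [TopologicalSpace X] [T0Space X] [QuasiSober X]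
    (ξ : X) : closure ({ξ} : Set X) ∈ irreducibleComponents X ↔ ∀ ξ' : X, ξ' ⤳ ξ → ξ' = ξ := by
  constructor
  · intro h ξ' hξ'
    have h1 : closure ({ξ} : Set X) ⊆ closure ({ξ'} : Set X) :=
      closure_minimal (Set.singleton_subset_iff.mpr (specializes_iff_mem_closure.mp hξ'))
        isClosed_closure
    have h2 : IsIrreducible (closure ({ξ'} : Set X)) := isIrreducible_singleton.closure
    have h3 : closure ({ξ'} : Set X) ⊆ closure ({ξ} : Set X) := h.2 h2 h1
    have h4 : ξ ⤳ ξ' := specializes_iff_mem_closure.mpr (h3 (subset_closure rfl))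
    exact (hξ'.antisymm h4).eq
  · intro h
    obtain ⟨Z, hZ, hsub, hmax⟩ := exists_preirreducible (closure ({ξ} : Set X))
      isIrreducible_singleton.closure.isPreirreducible
    have hZne : Z.Nonempty := ⟨ξ, hsub (subset_closure rfl)⟩
    have hZcl : IsClosed Z := by
      have : closure Z = Z := hmax _ hZ.closure subset_closure
      rw [← this]
      exact isClosed_closure
    obtain ⟨ξ', hξ'⟩ := QuasiSober.sober ⟨hZne, hZ⟩ hZcl
    have h1 : ξ' ⤳ ξ := by
      rw [specializes_iff_mem_closure, hξ'.def]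
      exact hsub (subset_closure rfl)
    have h2 : ξ' = ξ := h ξ' h1
    rw [← h2, hξ'.def]
    refine ⟨⟨hZne, hZ⟩, fun u hu hZu => ?_⟩
    exact (hmax u hu.isPreirreducible hZu).le

/-- Every point has a generalisation which is the generic point of an irreducible component. -/
theorem exists_generic_specializes {X : Type u} [TopologicalSpace X] [T0Space X] [QuasiSober X]
    (x : X) : ∃ ξ : X, ξ ⤳ x ∧ ∀ ξ' : X, ξ' ⤳ ξ → ξ' = ξ := by
  obtain ⟨Z, hZ, hsub, hmax⟩ := exists_preirreducible (closure ({x} : Set X))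
    isIrreducible_singleton.closure.isPreirreducible
  have hZne : Z.Nonempty := ⟨x, hsub (subset_closure rfl)⟩
  have hZcl : IsClosed Z := by
    have : closure Z = Z := hmax _ hZ.closure subset_closure
    rw [← this]
    exact isClosed_closure
  obtain ⟨ξ, hξ⟩ := QuasiSober.sober ⟨hZne, hZ⟩ hZcl
  refine ⟨ξ, ?_, ?_⟩
  · rw [specializes_iff_mem_closure, hξ.def]
    exact hsub (subset_closure rfl)
  · intro ξ' hξ'
    have h1 : Z ⊆ closure ({ξ'} : Set X) := by
      rw [← hξ.def]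
      exact closure_minimal (Set.singleton_subset_iff.mpr (specializes_iff_mem_closure.mp hξ'))
        isClosed_closure
    have h2 : closure ({ξ'} : Set X) = Z :=
      hmax _ isIrreducible_singleton.closure.isPreirreducible h1
    have h3 : ξ ⤳ ξ' := by
      rw [specializes_iff_mem_closure, hξ.def, ← h2]
      exact subset_closure rfl
    exact (hξ'.antisymm h3).eq


/-- A separated morphism of schemes f : X → Y such that X has an open covering on whose members f
restricts to open immersions, and such that no two distinct generic points of irreducible components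
of X have the same image under f, is an open immersion. -/
theorem result {X Y : Scheme.{u}}
    (f : X ⟶ Y) [IsSeparated f]
    (hloc : ∀ x : X, ∃ U : X.Opens, x ∈ U ∧ IsOpenImmersion (U.ι ≫ f))
    (hinj : ∀ ξ ξ' : X, closure ({ξ} : Set X) ∈ irreducibleComponents (X : Type u) → closure ({ξ'} : Set X) ∈ irreducibleComponents (X : Type u) →
      f.base ξ = f.base ξ' → ξ = ξ') :
    IsOpenImmersion f := by
  have hinjf : Function.Injective f := by
    intro x₁ x₂ hx
    obtain ⟨U₁, hx₁, hU₁⟩ := hloc x₁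
    obtain ⟨U₂, hx₂, hU₂⟩ := hloc x₂
    -- Step A
    obtain ⟨ξ₁, hξ₁x, hξ₁min⟩ := exists_generic_specializes (X := X) x₁
    have hξ₁U : ξ₁ ∈ U₁ := hξ₁x.mem_open U₁.2 hx₁
    -- Step B
    have hfξ₁ : f ξ₁ ⤳ f x₂ := by
      rw [← hx]
      exact hξ₁x.map f.continuous
    have hr₂ : f ξ₁ ∈ Set.range (U₂.ι ≫ f) :=
      hfξ₁.mem_open (U₂.ι ≫ f).isOpenEmbedding.isOpen_range ⟨⟨x₂, hx₂⟩, rfl⟩
    obtain ⟨ξ₂', hξ₂'⟩ := hr₂
    have hξ₂f : f (U₂.ι ξ₂') = f ξ₁ := hξ₂'
    -- Step C
    have hξ₂min : ∀ ξ' : X, ξ' ⤳ U₂.ι ξ₂' → ξ' = U₂.ι ξ₂' := by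
      intro ξ' hξ'
      have hξ'U : ξ' ∈ U₂ := hξ'.mem_open U₂.2 ξ₂'.2
      have h1 : f ξ' ⤳ f ξ₁ := by
        rw [← hξ₂f]
        exact hξ'.map f.continuous
      have hr₁ : f ξ' ∈ Set.range (U₁.ι ≫ f) :=
        h1.mem_open (U₁.ι ≫ f).isOpenEmbedding.isOpen_range ⟨⟨ξ₁, hξ₁U⟩, rfl⟩
      obtain ⟨ξ'', hξ''⟩ := hr₁
      have h2 : (U₁.ι ≫ f) ξ'' ⤳ (U₁.ι ≫ f) ⟨ξ₁, hξ₁U⟩ := by
        rw [hξ'']
        exact h1
      have h3 : ξ'' ⤳ (⟨ξ₁, hξ₁U⟩ : U₁) :=
        (U₁.ι ≫ f).isOpenEmbedding.isInducing.specializes_iff.mp h2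
      have h4 : U₁.ι ξ'' ⤳ ξ₁ := h3.map U₁.ι.continuous
      have h5 : U₁.ι ξ'' = ξ₁ := hξ₁min _ h4
      have h6 : f ξ' = f ξ₁ := by
        rw [← hξ'', Scheme.Hom.comp_apply, h5]
      have h7 : (U₂.ι ≫ f) ⟨ξ', hξ'U⟩ = (U₂.ι ≫ f) ξ₂' := by
        rw [Scheme.Hom.comp_apply, Scheme.Hom.comp_apply, hξ₂f]
        exact h6
      have h8 := (U₂.ι ≫ f).isOpenEmbedding.injective h7
      rw [← h8]
      rfl
    have hz : ξ₁ = U₂.ι ξ₂' :=
      hinj _ _ ((mem_irreducibleComponents_iff ξ₁).mpr hξ₁min)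
        ((mem_irreducibleComponents_iff (U₂.ι ξ₂')).mpr hξ₂min) hξ₂f.symm
    have hξ₁U₂ : ξ₁ ∈ U₂ := by rw [hz]; exact ξ₂'.2
    -- Step D
    let g₁ := U₁.ι ≫ f
    let g₂ := U₂.ι ≫ f
    let e : pullback g₁ g₂ ⟶ Y := pullback.fst g₁ g₂ ≫ g₁
    let m : pullback g₁ g₂ ⟶ pullback f f :=
      pullback.map g₁ g₂ f f U₁.ι U₂.ι (𝟙 Y) (by simp [g₁]) (by simp [g₂])
    let δ : (U₁ ⊓ U₂).toScheme ⟶ pullback g₁ g₂ :=
      pullback.lift (X.homOfLE inf_le_left) (X.homOfLE inf_le_right) (by simp [g₁, g₂])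
    have hδm : δ ≫ m = (U₁ ⊓ U₂).ι ≫ pullback.diagonal f := by
      apply pullback.hom_ext
      · simp only [δ, m, pullback.map, Category.assoc, pullback.lift_fst, pullback.lift_fst_assoc,
          pullback.diagonal_fst, Category.comp_id, Scheme.homOfLE_ι]
      · simp only [δ, m, pullback.map, Category.assoc, pullback.lift_snd, pullback.lift_snd_assoc,
          pullback.diagonal_snd, Category.comp_id, Scheme.homOfLE_ι]
    obtain ⟨w, hw1, hw2⟩ := Scheme.Pullback.exists_preimage_pullback (f := g₁) (g := g₂)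
      (⟨x₁, hx₁⟩ : U₁) (⟨x₂, hx₂⟩ : U₂) hx
    let z₀ : (U₁ ⊓ U₂ : X.Opens) := ⟨ξ₁, hξ₁U, hξ₁U₂⟩
    have hed : e (δ z₀) = f ξ₁ := by
      change (δ ≫ pullback.fst g₁ g₂ ≫ U₁.ι ≫ f) z₀ = f ξ₁
      rw [pullback.lift_fst_assoc, Scheme.homOfLE_ι_assoc, Scheme.Hom.comp_apply]
      rfl
    have hew : e w = f x₁ := by
      change g₁ ((pullback.fst g₁ g₂) w) = f x₁
      rw [hw1]
      rfl
    have hdw : δ z₀ ⤳ w := by
      have he : IsOpenImmersion e := inferInstance
      apply e.isOpenEmbedding.isInducing.specializes_iff.mp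
      rw [hed, hew, hx]
      exact hfξ₁
    have hC : IsClosed (m ⁻¹' Set.range (pullback.diagonal f)) :=
      (pullback.diagonal f).isClosedEmbedding.isClosed_range.preimage m.continuous
    have hdC : δ z₀ ∈ m ⁻¹' Set.range (pullback.diagonal f) := by
      refine ⟨(U₁ ⊓ U₂).ι z₀, ?_⟩
      rw [← Scheme.Hom.comp_apply, ← hδm, Scheme.Hom.comp_apply]
    obtain ⟨x, hxw⟩ := hdw.mem_closed hC hdC
    have e1 : x = x₁ := by
      have h1 := congrArg (pullback.fst f f) hxw
      rw [← Scheme.Hom.comp_apply, pullback.diagonal_fst, ← Scheme.Hom.comp_apply,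
        pullback.lift_fst, Scheme.Hom.comp_apply, hw1] at h1
      exact h1
    have e2 : x = x₂ := by
      have h1 := congrArg (pullback.snd f f) hxw
      rw [← Scheme.Hom.comp_apply, pullback.diagonal_snd, ← Scheme.Hom.comp_apply,
        pullback.lift_snd, Scheme.Hom.comp_apply, hw2] at h1
      exact h1
    rw [← e1, e2]
  refine IsOpenImmersion.of_forall_source_exists f hinjf fun x => ?_
  obtain ⟨U, hxU, hU⟩ := hloc x
  exact ⟨U.toScheme, U.ι, inferInstance, by simpa using hxU, hU⟩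

end Groth.Agent.S7658
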