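import Groth.Statements.S2145
import Groth.Agent.H54.RingSpread

set_option autoImplicit false
universe u
open CAlg

namespace Groth.Agent.S2145

/-- Let `S`, `S'` be finitely presented `R`-algebras and `𝔮 ⊆ S`, `𝔮' ⊆ S'` primes with `S_𝔮 ≅ S'_{𝔮'}`
as `R`-algebras. Then `S_g ≅ S'_{g'}` as `R`-algebras for some `g ∉ 𝔮`, `g' ∉ 𝔮'`. -/
theorem result {R S S' : Type u} [CommRing R] [CommRing S] [CommRing S'] [Algebra R S]
    [Algebra R S'] [Algebra.FinitePresentation R S] [Algebra.FinitePresentation R S'] (q : Ideal S) [q.IsPrime]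
    (q' : Ideal S') [q'.IsPrime] (e : Localization.AtPrime q ≃ₐ[R] Localization.AtPrime q') :
    ∃ (g : S) (g' : S'), g ∉ q ∧ g' ∉ q' ∧ Nonempty (Localization.Away g ≃ₐ[R] Localization.Away g') := by
  classical
  let φ : S →ₐ[R] Localization.AtPrime q' :=
    e.toAlgHom.comp (IsScalarTower.toAlgHom R S (Localization.AtPrime q))
  have hφ : ∀ s, φ s = e (algebraMap S (Localization.AtPrime q) s) := fun s => rfl
  obtain ⟨g₀, hg₀, α, hα⟩ := Groth.Agent.H54.exists_lift_away (R := R) (C := S) (B := S')
    (BM := Localization.AtPrime q') q'.primeCompl φ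
  have hu₀ : IsUnit (algebraMap S' (Localization.AtPrime q') g₀) :=
    IsLocalization.map_units (Localization.AtPrime q') (⟨g₀, hg₀⟩ : q'.primeCompl)
  let ι : Localization.Away g₀ →+* Localization.AtPrime q' :=
    IsLocalization.Away.lift g₀ (g := algebraMap S' (Localization.AtPrime q')) hu₀
  have hι : ∀ x, ι (algebraMap S' (Localization.Away g₀) x) =
      algebraMap S' (Localization.AtPrime q') x := IsLocalization.Away.lift_eq g₀ hu₀
  have hια : ∀ s, ι (α s) = e (algebraMap S (Localization.AtPrime q) s) :=
    hα ι (IsLocalization.Away.lift_comp g₀ hu₀)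
  letI algST : Algebra S (Localization.Away g₀) := α.toRingHom.toAlgebra
  have halg : ∀ s, algebraMap S (Localization.Away g₀) s = α s := fun s => rfl
  haveI towRST : IsScalarTower R S (Localization.Away g₀) :=
    IsScalarTower.of_algebraMap_eq (fun r => (α.commutes r).symm)
  haveI : Algebra.FinitePresentation S (Localization.Away g₀) :=
    Algebra.FinitePresentation.of_restrict_scalars_finitePresentation R S _
  let Q : Ideal (Localization.Away g₀) :=
    Ideal.comap ι (IsLocalRing.maximalIdeal (Localization.AtPrime q'))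
  haveI : Q.IsPrime := Ideal.comap_isPrime ι _
  have hQ : ∀ x, x ∉ Q ↔ IsUnit (ι x) := by
    intro x
    show ¬ (ι x ∈ IsLocalRing.maximalIdeal (Localization.AtPrime q')) ↔ _
    rw [IsLocalRing.mem_maximalIdeal, mem_nonunits_iff, not_not]
  let σr : Localization.Away g₀ →+* Localization.AtPrime q :=
    (e.symm.toRingEquiv : Localization.AtPrime q' →+* Localization.AtPrime q).comp ι
  have hσr : ∀ x, σr x = e.symm (ι x) := fun x => rfl
  let σ : Localization.Away g₀ →ₐ[S] Localization.AtPrime q :=
    { σr with
      commutes' := fun s => by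
        show σr (algebraMap S (Localization.Away g₀) s) = _
        rw [hσr, halg, hια, AlgEquiv.symm_apply_apply] }
  have hσ : ∀ x, σ x = e.symm (ι x) := fun x => rfl
  have ha : ∀ x, σ x = 0 → ∃ c, c ∉ Q ∧ c * x = 0 := by
    intro x hx
    rw [hσ, map_eq_zero_iff _ e.symm.injective] at hx
    obtain ⟨n, x', hx'⟩ := IsLocalization.Away.surj g₀ x
    have h0 : algebraMap S' (Localization.AtPrime q') x' = 0 := by
      have := congrArg ι hx'
      rw [map_mul, hx, zero_mul, hι] at this
      exact this.symm
    obtain ⟨⟨c', hc'⟩, hc'x⟩ :=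
      (IsLocalization.map_eq_zero_iff q'.primeCompl (Localization.AtPrime q') x').mp h0
    have hc'x' : c' * x' = 0 := hc'x
    refine ⟨algebraMap S' (Localization.Away g₀) c', ?_, ?_⟩
    · rw [hQ, hι]
      exact IsLocalization.map_units (Localization.AtPrime q') (⟨c', hc'⟩ : q'.primeCompl)
    · have hu : IsUnit (algebraMap S' (Localization.Away g₀) g₀ ^ n) :=
        (IsLocalization.Away.algebraMap_isUnit g₀).pow n
      refine hu.mul_left_eq_zero.mp ?_
      rw [mul_assoc, hx', ← map_mul, hc'x', map_zero]
  have hb : ∀ x, IsUnit (σ x) ↔ x ∉ Q := by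
    intro x
    rw [hσ, isUnit_map_iff e.symm, hQ]
  obtain ⟨f, hf, t, ht, ⟨E⟩⟩ := Groth.Agent.H54.exists_away_algEquiv (R := S)
    (T := Localization.Away g₀) (Rp := Localization.AtPrime q) q Q σ ha hb
  obtain ⟨n, t', ht'⟩ := IsLocalization.Away.surj g₀ t
  have hU : IsUnit (algebraMap S' (Localization.Away g₀) g₀ ^ n) :=
    (IsLocalization.Away.algebraMap_isUnit g₀).pow n
  have hassoc : Associated (algebraMap S' (Localization.Away g₀) t') t :=
    Associated.symm ⟨hU.unit, ht'⟩
  haveI : IsLocalization.Away (g₀ * t') (Localization.Away t) :=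
    IsLocalization.Away.mul_of_associated g₀ t' t hassoc
  have ht'q : t' ∈ q'.primeCompl := by
    have hut : IsUnit (ι t) := (hQ t).mp ht
    have := congrArg ι ht'
    rw [map_mul, map_pow, hι, hι] at this
    have hu : IsUnit (algebraMap S' (Localization.AtPrime q') t') := this ▸ hut.mul (hu₀.pow n)
    exact (IsLocalization.AtPrime.isUnit_to_map_iff (Localization.AtPrime q') q' t').mp hu
  haveI towRSt : IsScalarTower R S (Localization.Away t) :=
    IsScalarTower.of_algebraMap_eq fun r =>
      ((IsScalarTower.algebraMap_apply R (Localization.Away g₀) (Localization.Away t) r).trans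
        (congrArg (algebraMap (Localization.Away g₀) (Localization.Away t))
          (IsScalarTower.algebraMap_apply R S (Localization.Away g₀) r))).trans
        (IsScalarTower.algebraMap_apply S (Localization.Away g₀) (Localization.Away t)
          (algebraMap R S r)).symm
  let j : Localization.Away (g₀ * t') ≃ₐ[S'] Localization.Away t :=
    IsLocalization.algEquiv (Submonoid.powers (g₀ * t')) _ _
  exact ⟨f, g₀ * t', hf, q'.primeCompl.mul_mem hg₀ ht'q,
    ⟨(E.symm.restrictScalars R).trans (j.symm.restrictScalars R)⟩⟩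

end Groth.Agent.S2145
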