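import Groth.Statements.S1347
import Mathlib
import Groth.Agent.H60.CMBC

set_option autoImplicit false
universe u
open FlatMor

namespace Groth.Agent.S1347

open AlgebraicGeometry CategoryTheory Limits in
/-- Let f have locally Noetherian fibres and let f' be its base change along a morphism g locally of
finite type. Given a point x' at which f' is Cohen–Macaulay, with g flat at f'(x'), the morphism f
is Cohen–Macaulay at the image g'(x') of x'. -/
theorem result {X Y X' Y' : Scheme.{u}} (f : X ⟶ Y) (hN : ∀ y : Y, IsLocallyNoetherian (f.fiber y))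
    (f' : X' ⟶ Y') (g' : X' ⟶ X) (g : Y' ⟶ Y) [LocallyOfFiniteType g] (hc : IsPullback g' f' f g) (x' : X')
    (hflat : (g.stalkMap (f' x')).hom.Flat) (h : MoreMor.IsCMAt f' x') : MoreMor.IsCMAt f (g' x') := by
  have key := Groth.Agent.H60.CMBC.cmFibre_baseChange_iff hc x' (hN _) (Or.inl inferInstance)
  exact ⟨Groth.Agent.H60.GorBC.flat_stalkMap_of_baseChange hc x' hflat h.1, key.mp h.2⟩

end Groth.Agent.S1347
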