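import Groth.Statements.S1344
import Groth.Agent.H9.CMFlatApp
import Groth.Agent.H60.FlatDim
import Groth.Agent.H9.SchemeDimStalk

set_option linter.style.haveILetI false

set_option autoImplicit false
universe u
open FlatMor

namespace Groth.Agent.S1344


open Groth.Agent.H9.FibDim

open AlgebraicGeometry in
theorem lfp_of_lft {X Y : Scheme.{u}} (f : X ⟶ Y) [IsLocallyNoetherian Y] [LocallyOfFiniteType f] :
    LocallyOfFinitePresentation f := by
  refine ⟨fun {U} hU {V} hV e => ?_⟩
  haveI : IsNoetherianRing Γ(Y, U) := IsLocallyNoetherian.component_noetherian ⟨U, hU⟩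
  exact RingHom.FinitePresentation.of_finiteType.mp (f.finiteType_appLE hU hV e)

open AlgebraicGeometry in
theorem dim_opens_eq {X : Scheme.{u}} (U : X.Opens) :
    topologicalKrullDim (↥(U : Set X)) =
      ⨆ z : U, ((Order.coheight (z.1 : X) : ℕ∞) : WithBot ℕ∞) := by
  have h1 := Groth.Agent.H9.FibDim.topologicalKrullDim_eq_iSup_stalk (U : Scheme.{u})
  refine h1.trans (iSup_congr fun z => ?_)
  rw [ringKrullDim_eq_of_ringEquiv (U.stalkIso z).commRingCatIsoToRingEquiv,
    ringKrullDim_stalk_eq_coheight]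

theorem exists_le_of_natCast_le_iSup {ι : Type*} [Nonempty ι] (a : ι → ℕ∞) (n : ℕ)
    (h : (n : WithBot ℕ∞) ≤ ⨆ i, ((a i : ℕ∞) : WithBot ℕ∞)) : ∃ i, (n : ℕ∞) ≤ a i := by
  by_contra hcon
  rw [not_exists] at hcon
  cases n with
  | zero => exact hcon (Classical.arbitrary ι) zero_le
  | succ m =>
    have h2 : ∀ i, a i ≤ (m : ℕ∞) := by
      intro i
      have := not_le.mp (hcon i)
      exact Order.le_of_lt_add_one (by exact_mod_cast this)
    have h3 : (⨆ i, ((a i : ℕ∞) : WithBot ℕ∞)) ≤ (m : WithBot ℕ∞) :=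
      iSup_le fun i => by exact_mod_cast h2 i
    have h4 := h.trans h3
    have h5 : ((m + 1 : ℕ) : ℕ∞) ≤ (m : ℕ∞) := by exact_mod_cast h4
    have h6 : m + 1 ≤ m := by exact_mod_cast h5
    omega

open AlgebraicGeometry CategoryTheory Limits in
set_option maxHeartbeats 800000 in
theorem result' {X Y : Scheme.{u}} (f : X ⟶ Y) [IsLocallyNoetherian X] [IsLocallyNoetherian Y]
    [LocallyOfFiniteType f]
    (hf : ∀ x : X, MoreMor.IsCMAt f x) (x : X) :
    FlatMor.localDim ↑X x = FlatMor.localDim ↑Y (f x) + FlatMor.fibreDimAt f x := by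
  haveI := lfp_of_lft f
  haveI : Flat f := (Flat.iff_flat_stalkMap f).mpr fun z => (hf z).1
  obtain ⟨n, U', hxU', hU'⟩ := Groth.Agent.H9.CMFlatApp.exists_open_cm f x (hf x)
  have hn : FlatMor.fibreDimAt f x = n := (hU' x hxU').2
  rw [hn]
  have hkeyN : ∀ (s : Y) (w : f.fiber s), Order.coheight (f.fiberι s w) =
      Order.coheight (f (f.fiberι s w)) + Order.coheight w := by
    intro s w
    have := Groth.Agent.H60.FlatDim.coheight_eq_add_of_flat f s w
    exact_mod_cast this
  have hfib : ∀ (s : Y) (w : f.fiber s), f (f.fiberι s w) = s := by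
    intro s w
    have := (f.fiberHomeo s w).2
    rw [Scheme.Hom.fiberHomeo_apply] at this
    exact this
  have hle_fib : ∀ z : X, ((Order.coheight (f.asFiber z) : ℕ∞) : WithBot ℕ∞) ≤
      FlatMor.fibreDimAt f z := by
    intro z
    unfold FlatMor.fibreDimAt FlatMor.localDim
    refine le_iInf fun O => ?_
    rw [dim_opens_eq O.1]
    exact le_iSup (fun w : O.1 => ((Order.coheight (w.1) : ℕ∞) : WithBot ℕ∞)) ⟨f.asFiber z, O.2⟩
  apply le_antisymm
  · obtain ⟨V, hyV, hV⟩ := exists_open_dim_eq_localDim Y (f x)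
    let U : X.Opens := U' ⊓ f ⁻¹ᵁ V
    have hxU : x ∈ U := ⟨hxU', hyV⟩
    refine (localDim_le_of_mem X x U hxU).trans ?_
    rw [dim_opens_eq U, ← hV, dim_opens_eq V]
    refine iSup_le fun z => ?_
    have h1 := hkeyN (f z.1) (f.asFiber z.1)
    rw [f.fiberι_asFiber z.1] at h1
    rw [h1, WithBot.coe_add]
    refine add_le_add ?_ ?_
    · exact le_iSup (fun w : V => ((Order.coheight (w.1) : ℕ∞) : WithBot ℕ∞)) ⟨f z.1, z.2.2⟩
    · exact (hle_fib z.1).trans (le_of_eq (hU' z.1 z.2.1).2)
  · unfold FlatMor.localDim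
    refine le_iInf fun O => ?_
    let U : X.Opens := O.1 ⊓ U'
    have hxU : x ∈ U := ⟨O.2, hxU'⟩
    refine le_trans ?_ (dim_mono_subset (show (U : Set X) ⊆ (O.1 : Set X) from Set.inter_subset_left))
    have hVopen : IsOpen (f.base '' (U : Set X)) := f.isOpenMap _ U.2
    let V : Y.Opens := ⟨f.base '' (U : Set X), hVopen⟩
    have hyV : f x ∈ V := ⟨x, hxU, rfl⟩
    have hloc : (⨅ W : {W : TopologicalSpace.Opens Y // f x ∈ W}, topologicalKrullDim (W.1 : Set Y)) ≤
        topologicalKrullDim (V : Set Y) := localDim_le_of_mem Y (f x) V hyV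
    refine le_trans (add_le_add_left hloc _) ?_
    rw [dim_opens_eq V, dim_opens_eq U]
    haveI : Nonempty { y // y ∈ V } := ⟨⟨f x, hyV⟩⟩
    haveI : Nonempty { z // z ∈ U } := ⟨⟨x, hxU⟩⟩
    rw [← WithBot.coe_iSup (OrderTop.bddAbove _), ← WithBot.coe_iSup (OrderTop.bddAbove _)]
    have hmain : (⨆ y' : V, Order.coheight (y'.1 : Y)) + (n : ℕ∞) ≤ ⨆ z : U, Order.coheight (z.1 : X) := by
      rw [ENat.iSup_add]
      refine iSup_le fun y' => ?_
      obtain ⟨z₀, hz₀U, hz₀⟩ := y'.2
      have hdim0 : FlatMor.fibreDimAt f z₀ = n := (hU' z₀ hz₀U.2).2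
      let OF : (f.fiber (f z₀)).Opens := (f.fiberι (f z₀)) ⁻¹ᵁ U
      have hzOF : f.asFiber z₀ ∈ OF := by
        show (f.fiberι (f z₀)) (f.asFiber z₀) ∈ U
        rw [f.fiberι_asFiber z₀]; exact hz₀U
      have h2 : (n : WithBot ℕ∞) ≤ topologicalKrullDim (OF : Set (f.fiber (f z₀))) := by
        rw [← hdim0]
        exact localDim_le_of_mem _ _ OF hzOF
      rw [dim_opens_eq OF] at h2
      haveI : Nonempty { w // w ∈ OF } := ⟨⟨_, hzOF⟩⟩
      obtain ⟨w, hw⟩ := exists_le_of_natCast_le_iSup (fun w : OF => Order.coheight (w.1)) n h2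
      have h3 := hkeyN (f z₀) w.1
      rw [hfib] at h3
      have h4 : Order.coheight (y'.1 : Y) + (n : ℕ∞) ≤ Order.coheight ((f.fiberι (f z₀)) w.1) := by
        rw [h3, ← hz₀]
        exact add_le_add le_rfl hw
      exact h4.trans (le_iSup (fun z : U => Order.coheight (z.1 : X)) ⟨(f.fiberι (f z₀)) w.1, w.2⟩)
    exact_mod_cast hmain


open AlgebraicGeometry CategoryTheory Limits in
/-- Let f be locally of finite type between locally Noetherian schemes and Cohen–Macaulay at every
point. Then for every point x of the source with image y, the local dimension of the source at x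
equals the local dimension of the target at y plus the local dimension at x of the fibre over y. -/
theorem result {X Y : Scheme.{u}} (f : X ⟶ Y) [IsLocallyNoetherian X] [IsLocallyNoetherian Y] [LocallyOfFiniteType f]
    (hf : ∀ x : X, MoreMor.IsCMAt f x) (x : X) :
    FlatMor.localDim ↑X x = FlatMor.localDim ↑Y (f x) + FlatMor.fibreDimAt f x := by
  exact result' f hf x

end Groth.Agent.S1344
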