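import Groth.Statements.S9767
import Groth.Agent.H29.FiberStalkAt
set_option maxHeartbeats 400000
set_option linter.style.haveILetI false

set_option autoImplicit false
universe u
open FlatMor

namespace Groth.Agent.S9767

open AlgebraicGeometry CategoryTheory Limits in
/-- For f : X ⟶ Y, g : Y ⟶ Z and a point x of X such that the fibre of f through x and the fibre of g
through f x are locally Noetherian, suppose the stalk map of f at x is flat and f ≫ g is
Cohen–Macaulay at x; then Cohen–Macaulayness passes to f at x and to g at the image point f x. The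
published statement assumes all fibres of f, g and g ∘ f locally Noetherian; this row assumes only
the fibres of f and g through x and f x. -/
theorem result {X Y Z : Scheme.{u}} (f : X ⟶ Y) (g : Y ⟶ Z) (x : X)
    (hNf : IsLocallyNoetherian (f.fiber (f x))) (hNg : IsLocallyNoetherian (g.fiber (g (f x))))
    (h : MoreMor.IsCMAt (f ≫ g) x) (hfl : (f.stalkMap x).hom.Flat) : MoreMor.IsCMAt f x ∧ MoreMor.IsCMAt g (f x) := by
  obtain ⟨hfl_fg, hcm_fg⟩ := h
  have hcomp := Groth.Agent.H29.FiberStalkAt.stalkMap_comp_hom f g x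
  rw [hcomp] at hfl_fg
  have hfl_g : (g.stalkMap (f.base x)).hom.Flat :=
    Groth.Agent.H29.FiberStalkAt.flat_of_comp (g.stalkMap (f.base x)).hom (f.stalkMap x).hom
      hfl hfl_fg
  obtain ⟨e1⟩ := Groth.Agent.H29.FiberStalkAt.nonempty_fiberStalkEquiv g (f.base x)
  obtain ⟨e2⟩ := Groth.Agent.H29.FiberStalkAt.nonempty_fiberStalkEquiv f x
  obtain ⟨e3⟩ := Groth.Agent.H29.FiberStalkAt.nonempty_fiberStalkEquiv (f ≫ g) x
  have hJ : Ideal.map ((f ≫ g).stalkMap x).hom
      (IsLocalRing.maximalIdeal (Z.presheaf.stalk ((f ≫ g).base x))) =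
      Ideal.map ((f.stalkMap x).hom.comp (g.stalkMap (f.base x)).hom)
        (IsLocalRing.maximalIdeal (Z.presheaf.stalk ((f ≫ g).base x))) :=
    congrArg (fun h => Ideal.map h
      (IsLocalRing.maximalIdeal (Z.presheaf.stalk ((f ≫ g).base x)))) hcomp
  have e3' := (Ideal.quotEquivOfEq hJ.symm).trans e3
  haveI : IsLocallyNoetherian (g.fiber (g.base (f.base x))) := hNg
  obtain ⟨h1, h2⟩ := Groth.Agent.H29.FlatCMComp.local_decomp (g.stalkMap (f.base x)).hom
    (f.stalkMap x).hom hfl e1 e2 e3' hcm_fg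
  exact ⟨⟨hfl, h2⟩, ⟨hfl_g, h1⟩⟩

end Groth.Agent.S9767
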