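import Groth.Statements.S4949
import Groth.Agent.H9.CMFlatSch
import Groth.Agent.S9175
import Groth.Agent.S9767

set_option linter.style.haveILetI false

set_option autoImplicit false
open CategoryTheory AlgebraicGeometry
universe u v w
open EGA43

namespace Groth.Agent.S4949


open Groth.Agent.H9.CMFlatSch Groth.Agent.H9.CMFlatRing Groth.Agent.H9.FibDim TensorProduct

set_option maxHeartbeats 1600000 in
theorem forward {X Y : Scheme.{u}} (f : X ⟶ Y) [LocallyOfFinitePresentation f] (x : X)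
    (hCM : MoreMor.IsCMAt f x) :
    ∃ (n : ℕ) (U : X.Opens) (hx : x ∈ U) (g : (U : Scheme.{u}) ⟶ 𝔸(ULift.{u} (Fin n); Y)),
      g ≫ (𝔸(ULift.{u} (Fin n); Y) ↘ Y) = U.ι ≫ f ∧ LocallyQuasiFinite g ∧
        (g.stalkMap ⟨x, hx⟩).hom.Flat := by
  obtain ⟨n, hn⟩ := exists_nat_fibreDimAt f x
  obtain ⟨V, hV, hxV, -⟩ :=
    exists_isAffineOpen_mem_and_subset (X := Y) (x := f.base x) (U := ⊤) trivial
  obtain ⟨W₀, hW₀, hxW₀, e₀⟩ :=
    exists_isAffineOpen_mem_and_subset (X := X) (x := x) (U := f ⁻¹ᵁ V) hxV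
  letI algRS : Algebra Γ(Y, V) Γ(X, W₀) := (f.appLE V W₀ e₀).hom.toAlgebra
  haveI : Algebra.FiniteType Γ(Y, V) Γ(X, W₀) := f.finiteType_appLE hV hW₀ e₀
  set q := (hW₀.primeIdealOf ⟨x, hxW₀⟩).asIdeal with hq
  set p := q.under Γ(Y, V) with hp
  haveI : q.LiesOver p := ⟨rfl⟩
  obtain ⟨Q, hQ⟩ := exists_fiber_prime p q
  have hdim : FlatMor.localDim (PrimeSpectrum (p.Fiber Γ(X, W₀))) Q = (n : WithBot ℕ∞) := by
    rw [← hn]
    exact localDim_fiber_eq_fibreDimAt f x hV hW₀ e₀ hxW₀ p rfl Q hQ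
  obtain ⟨s, hsq, φ, -, hφ⟩ := Groth.Agent.S9175.result Γ(Y, V) Γ(X, W₀) p q Q hQ n hdim
  have hW : IsAffineOpen (X.basicOpen s) := hW₀.basicOpen s
  have hWW₀ : X.basicOpen s ≤ W₀ := X.basicOpen_le s
  have hxW : x ∈ X.basicOpen s := by
    have h1 : hW₀.primeIdealOf ⟨x, hxW₀⟩ ∈ (hW₀.fromSpec ⁻¹ᵁ X.basicOpen s) := by
      rw [hW₀.fromSpec_preimage_basicOpen]
      exact hsq
    have h2 := hW₀.fromSpec_primeIdealOf ⟨x, hxW₀⟩
    have h3 : hW₀.fromSpec (hW₀.primeIdealOf ⟨x, hxW₀⟩) ∈ X.basicOpen s := h1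
    rw [h2] at h3
    exact h3
  have eW : X.basicOpen s ≤ f ⁻¹ᵁ V := hWW₀.trans e₀
  haveI hloc : IsLocalization.Away s Γ(X, X.basicOpen s) := hW₀.isLocalization_basicOpen s
  let ε : Localization.Away s ≃ₐ[Γ(X, W₀)] Γ(X, X.basicOpen s) :=
    IsLocalization.algEquiv (Submonoid.powers s) _ _
  let ren : MvPolynomial (ULift.{u} (Fin n)) Γ(Y, V) ≃ₐ[Γ(Y, V)] MvPolynomial (Fin n) Γ(Y, V) :=
    MvPolynomial.renameEquiv _ Equiv.ulift
  let Ψ : CommRingCat.of (MvPolynomial (ULift.{u} (Fin n)) Γ(Y, V)) ⟶ Γ(X, X.basicOpen s) :=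
    CommRingCat.ofHom ((ε.toRingHom.comp φ.toRingHom).comp ren.toRingHom)
  have hΨ : CommRingCat.ofHom MvPolynomial.C ≫ Ψ = f.appLE V (X.basicOpen s) eW := by
    ext r
    show ε (φ (ren (MvPolynomial.C r))) = f.appLE V (X.basicOpen s) eW r
    have h1 : ren (MvPolynomial.C r) = algebraMap Γ(Y, V) _ r := by
      simp [ren, MvPolynomial.algebraMap_eq]
    rw [h1, φ.commutes, IsScalarTower.algebraMap_apply Γ(Y, V) Γ(X, W₀) (Localization.Away s),
      ε.commutes, ← Scheme.Hom.appLE_map f e₀ (homOfLE hWW₀).op]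
    rfl
  have hqf : Ψ.hom.QuasiFinite := by
    show ((ε.toRingHom.comp φ.toRingHom).comp ren.toRingHom).QuasiFinite
    refine RingHom.QuasiFinite.comp (RingHom.QuasiFinite.comp ?_ hφ) ?_
    · exact RingHom.QuasiFinite.of_finite (RingHom.Finite.of_surjective _ ε.surjective)
    · exact RingHom.QuasiFinite.of_finite (RingHom.Finite.of_surjective _ ren.surjective)
  have key := chart_flat_iff Groth.Agent.H49.FibreCrit.core f x hV hW eW hxW n Ψ hΨ hqf
  exact ⟨n, X.basicOpen s, hxW, chartG hV hW n Ψ, chartG_over f hV hW eW n Ψ hΨ,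
    locallyQuasiFinite_chartG hV hW n Ψ hqf, key.mpr ⟨hCM, hn⟩⟩


theorem isLocallyNoetherian_fiber' {X Y : Scheme.{u}} (f : X ⟶ Y) [LocallyOfFiniteType f] (y : Y) :
    IsLocallyNoetherian (f.fiber y) := by
  haveI : LocallyOfFiniteType (f.fiberToSpecResidueField y) :=
    MorphismProperty.of_isPullback (P := @LocallyOfFiniteType)
      (IsPullback.of_hasPullback f (Y.fromSpecResidueField y)) inferInstance
  exact LocallyOfFiniteType.isLocallyNoetherian (f.fiberToSpecResidueField y)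

theorem flat_stalkMap_congr {A B : Scheme.{u}} {φ ψ : A ⟶ B} (h : φ = ψ) (z : A)
    (hφ : (φ.stalkMap z).hom.Flat) : (ψ.stalkMap z).hom.Flat := by
  subst h; exact hφ

set_option maxHeartbeats 1600000 in
theorem backward {X Y : Scheme.{u}} (f : X ⟶ Y) [LocallyOfFinitePresentation f] (x : X)
    (n : ℕ) (U : X.Opens) (hx : x ∈ U) (g : (U : Scheme.{u}) ⟶ 𝔸(ULift.{u} (Fin n); Y))
    (hover : g ≫ (𝔸(ULift.{u} (Fin n); Y) ↘ Y) = U.ι ≫ f) (hlqf : LocallyQuasiFinite g)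
    (hflat : (g.stalkMap ⟨x, hx⟩).hom.Flat) : MoreMor.IsCMAt f x := by
  let f' : (U : Scheme.{u}) ⟶ Y := U.ι ≫ f
  let x' : (U : Scheme.{u}) := ⟨x, hx⟩
  obtain ⟨V, hV, hxV, -⟩ :=
    exists_isAffineOpen_mem_and_subset (X := Y) (x := f'.base x') (U := ⊤) trivial
  obtain ⟨W, hW, hxW, e⟩ :=
    exists_isAffineOpen_mem_and_subset (X := (U : Scheme.{u})) (x := x') (U := f' ⁻¹ᵁ V) hxV
  let k : (W : Scheme.{u}) ⟶ Spec Γ(Y, V) := hW.isoSpec.hom ≫ Spec.map (f'.appLE V W e)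
  have hk : (W.ι ≫ g) ≫ (𝔸(ULift.{u} (Fin n); Y) ↘ Y) = k ≫ hV.fromSpec := by
    rw [Category.assoc, hover, Category.assoc, IsAffineOpen.SpecMap_appLE_fromSpec f' hV hW e,
      IsAffineOpen.isoSpec_hom_fromSpec_assoc]
  let l := (AffineSpace.isPullback_map (n := ULift.{u} (Fin n)) hV.fromSpec).lift (W.ι ≫ g) k hk
  have hl1 : l ≫ AffineSpace.map _ hV.fromSpec = W.ι ≫ g := IsPullback.lift_fst _ _ _ _
  have hl2 : l ≫ (𝔸(ULift.{u} (Fin n); Spec Γ(Y, V)) ↘ Spec Γ(Y, V)) = k :=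
    IsPullback.lift_snd _ _ _ _
  let Ψ : CommRingCat.of (MvPolynomial (ULift.{u} (Fin n)) Γ(Y, V)) ⟶ Γ((U : Scheme.{u}), W) :=
    Spec.preimage (hW.isoSpec.inv ≫ l ≫ (AffineSpace.SpecIso (ULift.{u} (Fin n)) Γ(Y, V)).hom)
  have hΨ0 : Spec.map Ψ =
      hW.isoSpec.inv ≫ l ≫ (AffineSpace.SpecIso (ULift.{u} (Fin n)) Γ(Y, V)).hom :=
    Spec.map_preimage _
  have hG : chartG hV hW n Ψ = W.ι ≫ g := by
    unfold chartG chartJ
    rw [hΨ0, ← hl1]
    simp
  have hΨ : CommRingCat.ofHom MvPolynomial.C ≫ Ψ = f'.appLE V W e := by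
    apply Spec.map_injective
    rw [Spec.map_comp, hΨ0, Category.assoc, Category.assoc, ← AffineSpace.SpecIso_inv_over,
      Iso.hom_inv_id_assoc, hl2]
    simp [k]
  have hqf : Ψ.hom.QuasiFinite := by
    haveI : LocallyQuasiFinite (W.ι ≫ g) := inferInstance
    haveI : LocallyQuasiFinite (chartG hV hW n Ψ) := by rw [hG]; infer_instance
    haveI : LocallyQuasiFinite (Spec.map Ψ ≫ chartJ hV n) := by
      have : Spec.map Ψ ≫ chartJ hV n = hW.isoSpec.inv ≫ chartG hV hW n Ψ := by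
        unfold chartG; simp
      rw [this]; infer_instance
    haveI : LocallyQuasiFinite (Spec.map Ψ) := LocallyQuasiFinite.of_comp _ (chartJ hV n)
    exact (HasRingHomProperty.Spec_iff (P := @LocallyQuasiFinite)).mp inferInstance
  have key := chart_flat_iff Groth.Agent.H49.FibreCrit.core f' x' hV hW e hxW n Ψ hΨ hqf
  have hfl : ((chartG hV hW n Ψ).stalkMap ⟨x', hxW⟩).hom.Flat :=
    flat_stalkMap_congr hG.symm _ ((flat_stalkMap_comp_left W.ι g _).mpr hflat)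
  have hcm' : MoreMor.IsCMAt f' x' := (key.mp hfl).1
  have hflι : (U.ι.stalkMap x').hom.Flat :=
    RingHom.Flat.of_bijective (ConcreteCategory.bijective_of_isIso (U.ι.stalkMap x'))
  exact (Groth.Agent.S9767.result U.ι f x' (isLocallyNoetherian_fiber' _ _)
    (isLocallyNoetherian_fiber' _ _) hcm' hflι).2


/-- Let f : X ⟶ Y be a morphism locally of finite presentation and x a point of X. The following are
equivalent: a) f is flat at x and the fibre X_{f x} is Cohen–Macaulay at x; b) there are an open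
neighbourhood U of x, a natural number n and a Y-morphism g from U to affine n-space over Y which is
locally quasi-finite and such that U is g-flat at x. (The published statement asks for g
quasi-finite, that is of finite type with finite fibres, hence quasi-compact; this row asks only
that g be locally quasi-finite, g being automatically locally of finite type here — the condition
the proof of b) ⇒ a) uses.) -/
theorem result {X Y : Scheme.{u}} (f : X ⟶ Y)
    [LocallyOfFinitePresentation f] (x : X) :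
    MoreMor.IsCMAt f x ↔ ∃ (n : ℕ) (U : X.Opens) (hx : x ∈ U) (g : (U : Scheme.{u}) ⟶ 𝔸(ULift.{u} (Fin n); Y)),
      g ≫ (𝔸(ULift.{u} (Fin n); Y) ↘ Y) = U.ι ≫ f ∧ LocallyQuasiFinite g ∧ (g.stalkMap ⟨x, hx⟩).hom.Flat := by
  exact ⟨forward f x, fun ⟨n, U, hx, g, h1, h2, h3⟩ => backward f x n U hx g h1 h2 h3⟩

end Groth.Agent.S4949
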