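import Groth.Statements.S4961
import Groth.Agent.H9.CMFlatApp

set_option linter.style.haveILetI false

set_option autoImplicit false
open CategoryTheory AlgebraicGeometry
universe u v w
open EGA43

namespace Groth.Agent.S4961


theorem result' {X Y : Scheme.{u}} (f : X ⟶ Y)
    [LocallyOfFinitePresentation f] : IsOpen {x : X | MoreMor.IsCMAt f x} := by
  rw [isOpen_iff_forall_mem_open]
  intro x hx
  obtain ⟨n, U', hxU', h⟩ := Groth.Agent.H9.CMFlatApp.exists_open_cm f x hx
  exact ⟨U', fun z hz => (h z hz).1, U'.2, hxU'⟩


/-- Let f : X ⟶ Y be a morphism locally of finite presentation. The set of points x of X at which f is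
Cohen–Macaulay (f flat at x and the local ring at x of the fibre through x Cohen–Macaulay) is open
in X. -/
theorem result {X Y : Scheme.{u}} (f : X ⟶ Y)
    [LocallyOfFinitePresentation f] : IsOpen {x : X | MoreMor.IsCMAt f x} := by
  exact result' f

end Groth.Agent.S4961
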