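import Groth.Statements.S1341
import Groth.Agent.H9.CMFlatApp
import Groth.Agent.S4961
import Groth.Agent.H29.CM

set_option linter.style.haveILetI false

set_option autoImplicit false
universe u
open FlatMor

namespace Groth.Agent.S1341


theorem isCM_of_dim_zero (R : Type u) [CommRing R] [IsNoetherianRing R] [IsLocalRing R]
    (h : ringKrullDim R = 0) : LocCoh.IsCohenMacaulayLocalRing R := by
  refine ⟨?_⟩
  have h1 := Groth.Agent.H29.CM.depth_le_supportDim (A := R) (M := R)
  rw [Module.supportDim_self_eq_ringKrullDim, h] at h1 ⊢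
  have h2 : (LocCoh.depth R R : ℕ∞) ≤ 0 := by exact_mod_cast h1
  have h3 : LocCoh.depth R R = 0 := le_antisymm h2 zero_le
  rw [h3]
  rfl

open AlgebraicGeometry in
theorem exists_max_above (F : Scheme.{u}) (c : ℕ) :
    ∀ y : F, Order.coheight y = (c : ℕ∞) → ∃ ξ : F, y ≤ ξ ∧ IsMax ξ := by
  induction c using Nat.strong_induction_on with
  | _ c ih =>
    intro y hy
    by_cases hmax : IsMax y
    · exact ⟨y, le_rfl, hmax⟩
    · rw [not_isMax_iff] at hmax
      obtain ⟨y', hlt⟩ := hmax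
      have h1 := Order.coheight_add_one_le hlt
      rw [hy] at h1
      have hfin : Order.coheight y' ≠ ⊤ := by
        intro h; rw [h] at h1; simp at h1
      obtain ⟨c', hc'⟩ := ENat.ne_top_iff_exists.mp hfin
      rw [← hc'] at h1
      have hlt' : c' < c := by
        have : ((c' + 1 : ℕ) : ℕ∞) ≤ c := by exact_mod_cast h1
        exact_mod_cast this
      obtain ⟨ξ, hξ, hmaxξ⟩ := ih c' hlt' y' hc'.symm
      exact ⟨ξ, hlt.le.trans hξ, hmaxξ⟩

open AlgebraicGeometry in
theorem exists_max_generization (F : Scheme.{u}) [IsLocallyNoetherian F] (y : F) :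
    ∃ ξ : F, ξ ⤳ y ∧ ringKrullDim (F.presheaf.stalk ξ) = 0 := by
  have hfin : Order.coheight y ≠ ⊤ := by
    intro h
    have h1 := ringKrullDim_stalk_eq_coheight y
    rw [h] at h1
    exact ringKrullDim_ne_top h1
  obtain ⟨c, hc⟩ := ENat.ne_top_iff_exists.mp hfin
  obtain ⟨ξ, hξ, hmax⟩ := exists_max_above F c y hc.symm
  refine ⟨ξ, (Scheme.le_iff_specializes).mp hξ, ?_⟩
  rw [ringKrullDim_stalk_eq_coheight, Order.coheight_eq_zero.mpr hmax]
  rfl

open AlgebraicGeometry CategoryTheory Limits in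
theorem dense_fibre {X S : Scheme.{u}} (f : X ⟶ S) [Flat f] [LocallyOfFinitePresentation f]
    (s : S) : Dense ((f.fiberι s) ⁻¹' {x : ↑X | MoreMor.IsCMAt f x}) := by
  haveI : IsLocallyNoetherian (f.fiber s) := Groth.Agent.S4949.isLocallyNoetherian_fiber' f s
  rw [dense_iff_inter_open]
  rintro O hO ⟨y, hy⟩
  obtain ⟨ξ, hξy, hdim⟩ := exists_max_generization (f.fiber s) y
  have hξO : ξ ∈ O := hξy.mem_open hO hy
  refine ⟨ξ, hξO, ?_⟩
  refine ⟨Flat.stalkMap f _, ?_⟩
  obtain ⟨e1⟩ := Groth.Agent.H29.FiberStalkAt.nonempty_fiberStalkEquiv_of_eq f s ξ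
    ((f.fiberι s) ξ) rfl
  obtain ⟨e2⟩ := Groth.Agent.H29.FiberStalkAt.nonempty_fiberStalkEquiv f ((f.fiberι s) ξ)
  haveI : IsNoetherianRing ((f.fiber s).presheaf.stalk ξ) := inferInstance
  exact Groth.Agent.H29.FlatCM.isCM_ringEquiv (e1.symm.trans e2) (isCM_of_dim_zero _ hdim)

open AlgebraicGeometry CategoryTheory Limits in
theorem result' {X S : Scheme.{u}} (f : X ⟶ S) [Flat f] [LocallyOfFinitePresentation f] :
    IsOpen {x : ↑X | MoreMor.IsCMAt f x} ∧
      ∀ s : S, Dense ((f.fiberι s) ⁻¹' {x : ↑X | MoreMor.IsCMAt f x}) :=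
  ⟨Groth.Agent.S4961.result f, fun s => dense_fibre f s⟩


open AlgebraicGeometry CategoryTheory Limits in
/-- Let f : X ⟶ S be flat and locally of finite presentation. Then the set of points of X at which f is
Cohen–Macaulay is open in X, and its intersection with every fibre of f is dense in that fibre. -/
theorem result {X S : Scheme.{u}} (f : X ⟶ S) [Flat f] [LocallyOfFinitePresentation f] :
    IsOpen {x : ↑X | MoreMor.IsCMAt f x} ∧ ∀ s : S, Dense ((f.fiberι s) ⁻¹' {x : ↑X | MoreMor.IsCMAt f x}) := by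
  exact result' f

end Groth.Agent.S1341
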