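import Groth.Statements.S1936
import Mathlib
import Groth.Agent.H37.GrpdSmooth
import Groth.Agent.H9.CMCons
import Groth.Agent.S1341

set_option linter.style.haveILetI false

set_option autoImplicit false
universe u
open CategoryTheory CategoryTheory.Limits AlgebraicGeometry
open Grpd

namespace Groth.Agent.S1936


open Groth.Agent.H37.GrpdCalc Groth.Agent.H9.CMCons

theorem grpd_isCMAt_iff {X Y : Scheme.{u}} (f : X ⟶ Y) (x : X) :
    Grpd.IsCMAt f x ↔ MoreMor.IsCMAt f x := by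
  obtain ⟨e⟩ := Groth.Agent.H29.FiberStalkAt.nonempty_fiberStalkEquiv f x
  haveI := e.symm.isLocalRing
  unfold Grpd.IsCMAt MoreMor.IsCMAt
  exact and_congr Iff.rfl ⟨fun h => Groth.Agent.H29.FlatCM.isCM_ringEquiv e h,
    fun h => Groth.Agent.H29.FlatCM.isCM_ringEquiv e.symm h⟩

theorem isCMAt_iff_of_flat {X Y : Scheme.{u}} (f : X ⟶ Y) [Flat f] (x : X) :
    MoreMor.IsCMAt f x ↔
      LocCoh.IsCohenMacaulayLocalRing ((f.fiber (f x)).presheaf.stalk (f.asFiber x)) :=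
  ⟨fun h => h.2, fun h => ⟨Flat.stalkMap f x, h⟩⟩

variable {S : Scheme.{u}} (G : Grpd.GroupoidScheme S)

/-- Homogeneity of the Cohen–Macaulay locus of the fibres of `s`. -/
theorem cm_iff_e [LocallyOfFiniteType G.s] (r : G.R) :
    LocCoh.IsCohenMacaulayLocalRing ((G.s.fiber (G.s r)).presheaf.stalk (G.s.asFiber r)) ↔
      LocCoh.IsCohenMacaulayLocalRing
        ((G.s.fiber (G.s (G.e (G.t r)))).presheaf.stalk (G.s.asFiber (G.e (G.t r)))) := by
  have hlift : (G.t ≫ G.e) ≫ G.s = 𝟙 G.R ≫ G.t := by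
    rw [Category.assoc, G.e_s, Category.comp_id, Category.id_comp]
  obtain ⟨φ, hφ⟩ : ∃ φ : G.R ⟶ pullback G.s G.t,
      φ = pullback.lift (G.t ≫ G.e) (𝟙 G.R) hlift := ⟨_, rfl⟩
  have hφ1 : φ ≫ pullback.fst G.s G.t = G.t ≫ G.e := by rw [hφ, pullback.lift_fst]
  have hφc : φ ≫ G.c = 𝟙 G.R := by
    rw [hφ, lift_c]
    exact e_mul (Category.id_comp _).symm
  have sqA : IsPullback (pullback.fst G.s G.t) (pullback.snd G.s G.t) G.s G.t :=
    IsPullback.of_hasPullback _ _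
  have sqB := isPullback_c_snd G
  have hv1 : pullback.fst G.s G.t (φ r) = G.e (G.t r) := by
    rw [← Scheme.Hom.comp_apply, hφ1, Scheme.Hom.comp_apply]
  have hvc : G.c (φ r) = r := by
    rw [← Scheme.Hom.comp_apply, hφc]
    rfl
  have hA := Groth.Agent.H60.CMBC.cmFibre_baseChange_iff sqA (φ r)
    (Groth.Agent.S4949.isLocallyNoetherian_fiber' _ _) (Or.inr inferInstance)
  have hB := Groth.Agent.H60.CMBC.cmFibre_baseChange_iff sqB (φ r)
    (Groth.Agent.S4949.isLocallyNoetherian_fiber' _ _) (Or.inr inferInstance)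
  exact (cm_fibre_congr G.s hvc).symm.trans (hB.symm.trans (hA.trans (cm_fibre_congr G.s hv1)))

/-- `t` is Cohen–Macaulay at `r` iff `s` is Cohen–Macaulay at `i r`. -/
theorem isCMAt_t_iff (r : G.R) : MoreMor.IsCMAt G.t r ↔ MoreMor.IsCMAt G.s (G.i r) := by
  have h1 : G.i ≫ G.s = G.t := G.i_s
  unfold MoreMor.IsCMAt
  refine and_congr ?_ ?_
  · have h2 : ((G.i ≫ G.s).stalkMap r).hom.Flat ↔ (G.s.stalkMap (G.i r)).hom.Flat := by
      rw [Groth.Agent.H29.FiberStalkAt.stalkMap_comp_hom]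
      exact RingHom.Flat.respectsIso.cancel_right_isIso (G.s.stalkMap (G.i r)) (G.i.stalkMap r)
    refine Iff.trans ?_ h2
    exact ⟨fun h => Groth.Agent.S4949.flat_stalkMap_congr h1.symm r h,
      fun h => Groth.Agent.S4949.flat_stalkMap_congr h1 r h⟩
  · exact (cm_fibre_hom_congr h1.symm r).trans (cm_fibre_comp_openImmersion G.i G.s r)

theorem result' (S : Scheme.{u}) (G : Grpd.GroupoidScheme S) [Flat G.s] [LocallyOfFinitePresentation G.s] [Flat G.t] [LocallyOfFinitePresentation G.t] : ∃ U' : G.U.Opens, (G.t ⁻¹ᵁ U' : Set G.R) = {r | Grpd.IsCMAt G.s r} ∧ (G.s ⁻¹ᵁ U' : Set G.R) = {r | Grpd.IsCMAt G.t r} ∧ ⇑G.t '' (G.s ⁻¹ᵁ U' : Set G.R) = Set.univ ∧ ⇑G.s '' (G.t ⁻¹ᵁ U' : Set G.R) = Set.univ := by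
  have hopen : IsOpen {r : G.R | MoreMor.IsCMAt G.s r} := Groth.Agent.S4961.result G.s
  let W : G.R.Opens := ⟨_, hopen⟩
  let U' : G.U.Opens := G.e ⁻¹ᵁ W
  have h1 : ∀ r : G.R, G.t r ∈ U' ↔ MoreMor.IsCMAt G.s r := by
    intro r
    show MoreMor.IsCMAt G.s (G.e (G.t r)) ↔ _
    rw [isCMAt_iff_of_flat, isCMAt_iff_of_flat]
    exact (cm_iff_e G r).symm
  have h2 : ∀ r : G.R, G.s r ∈ U' ↔ MoreMor.IsCMAt G.t r := by
    intro r
    rw [isCMAt_t_iff, ← h1]
    have : G.t (G.i r) = G.s r := by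
      rw [← Scheme.Hom.comp_apply, G.i_t]
    rw [this]
  have e1 : (G.t ⁻¹ᵁ U' : Set G.R) = {r | Grpd.IsCMAt G.s r} := by
    ext r
    exact (h1 r).trans (grpd_isCMAt_iff G.s r).symm
  have e2 : (G.s ⁻¹ᵁ U' : Set G.R) = {r | Grpd.IsCMAt G.t r} := by
    ext r
    exact (h2 r).trans (grpd_isCMAt_iff G.t r).symm
  refine ⟨U', e1, e2, ?_, ?_⟩
  · rw [Set.eq_univ_iff_forall]
    intro u
    have hd := Groth.Agent.S1341.dense_fibre G.t u
    have hne : Nonempty (G.t.fiber u) := by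
      have : G.e u ∈ Set.range (G.t.fiberι u) := by
        rw [Scheme.Hom.range_fiberι]
        show G.t (G.e u) = u
        rw [← Scheme.Hom.comp_apply, G.e_t]; rfl
      obtain ⟨z, -⟩ := this
      exact ⟨z⟩
    obtain ⟨ξ, hξ⟩ := hd.nonempty
    refine ⟨G.t.fiberι u ξ, (h2 _).mpr hξ, ?_⟩
    have : G.t.fiberι u ξ ∈ G.t ⁻¹' {u} := by
      rw [← Scheme.Hom.range_fiberι]; exact ⟨ξ, rfl⟩
    exact this
  · rw [Set.eq_univ_iff_forall]
    intro u
    have hd := Groth.Agent.S1341.dense_fibre G.s u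
    have hne : Nonempty (G.s.fiber u) := by
      have : G.e u ∈ Set.range (G.s.fiberι u) := by
        rw [Scheme.Hom.range_fiberι]
        show G.s (G.e u) = u
        rw [← Scheme.Hom.comp_apply, G.e_s]; rfl
      obtain ⟨z, -⟩ := this
      exact ⟨z⟩
    obtain ⟨ξ, hξ⟩ := hd.nonempty
    refine ⟨G.s.fiberι u ξ, (h1 _).mpr hξ, ?_⟩
    have : G.s.fiberι u ξ ∈ G.s ⁻¹' {u} := by
      rw [← Scheme.Hom.range_fiberι]; exact ⟨ξ, rfl⟩
    exact this


/-- Let (U, R, s, t, c) be a groupoid scheme over S with s, t flat and locally of finite presentation.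
There is an open U' ⊆ U such that t⁻¹(U') is exactly the set of points of R at which s is
Cohen–Macaulay, s⁻¹(U') is exactly the set of points at which t is Cohen–Macaulay, and both t
restricted to s⁻¹(U') and s restricted to t⁻¹(U') are surjective onto U. (Part (5), that the
restriction of R to U' is a groupoid with Cohen–Macaulay s', t', then follows and is not restated.)
Cohen–Macaulay at a point: flat there with Cohen–Macaulay fibre local ring (Grpd.IsCMAt). (A
groupoid scheme carries U, R, s, t, c, e, i over S with the groupoid axioms on T-points; 'finite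
locally free' is finite, flat and locally of finite presentation; C ⊂ Γ(U) is the ring of functions
a with s♯(a) = t♯(a) and M = Spec C.) -/
theorem result (S : Scheme.{u}) (G : Grpd.GroupoidScheme S) [Flat G.s] [LocallyOfFinitePresentation G.s] [Flat G.t] [LocallyOfFinitePresentation G.t] : ∃ U' : G.U.Opens, (G.t ⁻¹ᵁ U' : Set G.R) = {r | Grpd.IsCMAt G.s r} ∧ (G.s ⁻¹ᵁ U' : Set G.R) = {r | Grpd.IsCMAt G.t r} ∧ ⇑G.t '' (G.s ⁻¹ᵁ U' : Set G.R) = Set.univ ∧ ⇑G.s '' (G.t ⁻¹ᵁ U' : Set G.R) = Set.univ := by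
  exact result' S G

end Groth.Agent.S1936
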