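import Groth.Statements.S7510

set_option autoImplicit false
universe u
open CategoryTheory CategoryTheory.Limits AlgebraicGeometry
open Grpd

namespace Groth.Agent.S7510

section helpers

variable {S : Scheme.{u}} (G : Grpd.GroupoidScheme S)

/-- Composition of `T`-points of the groupoid. -/
noncomputable def comp {T : Scheme.{u}} (α β : T ⟶ G.R) (h : α ≫ G.s = β ≫ G.t) : T ⟶ G.R :=
  pullback.lift α β h ≫ G.c

theorem comp_congr {T : Scheme.{u}} {α α' β β' : T ⟶ G.R} (h : α ≫ G.s = β ≫ G.t)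
    (hα : α = α') (hβ : β = β') (h' : α' ≫ G.s = β' ≫ G.t) :
    comp G α β h = comp G α' β' h' := by
  subst hα hβ
  rfl

theorem precomp {T T' : Scheme.{u}} (f : T' ⟶ T) (α β : T ⟶ G.R) (h : α ≫ G.s = β ≫ G.t) :
    f ≫ comp G α β h = comp G (f ≫ α) (f ≫ β)
      (by rw [Category.assoc, Category.assoc, h]) := by
  unfold comp
  rw [← Category.assoc]
  congr 1
  apply pullback.hom_ext
  · rw [Category.assoc, pullback.lift_fst, pullback.lift_fst]
  · rw [Category.assoc, pullback.lift_snd, pullback.lift_snd]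

theorem comp_s' {T : Scheme.{u}} (α β : T ⟶ G.R) (h : α ≫ G.s = β ≫ G.t) :
    comp G α β h ≫ G.s = β ≫ G.s := G.comp_s α β h

theorem comp_t' {T : Scheme.{u}} (α β : T ⟶ G.R) (h : α ≫ G.s = β ≫ G.t) :
    comp G α β h ≫ G.t = α ≫ G.t := G.comp_t α β h

/-- `(ρ ∘ r') ∘ r'⁻¹ = ρ`. -/
theorem comp_comp_inv {T : Scheme.{u}} (ρ r' : T ⟶ G.R) (h : ρ ≫ G.s = r' ≫ G.t)
    (h2 : comp G ρ r' h ≫ G.s = (r' ≫ G.i) ≫ G.t) :
    comp G (comp G ρ r' h) (r' ≫ G.i) h2 = ρ := by
  have hri : r' ≫ G.s = (r' ≫ G.i) ≫ G.t := by rw [Category.assoc, G.i_t]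
  have h3 := G.assoc ρ r' (r' ≫ G.i) h hri
  have h4 : comp G r' (r' ≫ G.i) hri = r' ≫ G.t ≫ G.e := G.comp_i r'
  have h5 : ρ ≫ G.s = (ρ ≫ G.s ≫ G.e) ≫ G.t := by
    rw [Category.assoc, Category.assoc, G.e_t, Category.comp_id]
  calc comp G (comp G ρ r' h) (r' ≫ G.i) h2
      = comp G ρ (comp G r' (r' ≫ G.i) hri) (h.trans (comp_t' G _ _ hri).symm) := h3
    _ = comp G ρ (ρ ≫ G.s ≫ G.e) h5 :=
        comp_congr G _ rfl (by rw [h4, ← Category.assoc, ← h, Category.assoc]) _
    _ = ρ := G.comp_e ρ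

/-- `(ρ ∘ r'⁻¹) ∘ r' = ρ`. -/
theorem comp_inv_comp {T : Scheme.{u}} (ρ r' : T ⟶ G.R) (h : ρ ≫ G.s = (r' ≫ G.i) ≫ G.t)
    (h2 : comp G ρ (r' ≫ G.i) h ≫ G.s = r' ≫ G.t) :
    comp G (comp G ρ (r' ≫ G.i) h) r' h2 = ρ := by
  have hri : (r' ≫ G.i) ≫ G.s = r' ≫ G.t := by rw [Category.assoc, G.i_s]
  have h3 := G.assoc ρ (r' ≫ G.i) r' h hri
  have h4 : comp G (r' ≫ G.i) r' hri = r' ≫ G.s ≫ G.e := G.i_comp r'
  have h5 : ρ ≫ G.s = (ρ ≫ G.s ≫ G.e) ≫ G.t := by
    rw [Category.assoc, Category.assoc, G.e_t, Category.comp_id]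
  have h6 : ρ ≫ G.s = r' ≫ G.s := by rw [h, Category.assoc, G.i_t]
  calc comp G (comp G ρ (r' ≫ G.i) h) r' h2
      = comp G ρ (comp G (r' ≫ G.i) r' hri) (h.trans (comp_t' G _ _ hri).symm) := h3
    _ = comp G ρ (ρ ≫ G.s ≫ G.e) h5 :=
        comp_congr G _ rfl (by rw [h4, ← Category.assoc, ← h6, Category.assoc]) _
    _ = ρ := G.comp_e ρ

variable {U' : Scheme.{u}} (g : U' ⟶ G.U)

/-- `h = s ∘ pr₁ : U' ×_{g,U,t} R ⟶ U`. -/
noncomputable abbrev hmor : pullback g G.t ⟶ G.U := pullback.snd g G.t ≫ G.s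

/-- `(u', r, r') ↦ (u', r ∘ r')`. -/
noncomputable def m : pullback (hmor G g) G.t ⟶ pullback g G.t :=
  pullback.lift (pullback.fst (hmor G g) G.t ≫ pullback.fst g G.t)
    (comp G (pullback.fst (hmor G g) G.t ≫ pullback.snd g G.t) (pullback.snd (hmor G g) G.t)
      (by rw [Category.assoc]; exact pullback.condition))
    (by rw [comp_t', Category.assoc, Category.assoc, pullback.condition])

theorem m_fst : m G g ≫ pullback.fst g G.t = pullback.fst (hmor G g) G.t ≫ pullback.fst g G.t :=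
  pullback.lift_fst _ _ _

theorem m_snd : m G g ≫ pullback.snd g G.t =
    comp G (pullback.fst (hmor G g) G.t ≫ pullback.snd g G.t) (pullback.snd (hmor G g) G.t)
      (by rw [Category.assoc]; exact pullback.condition) :=
  pullback.lift_snd _ _ _

/-- `φ : R' ×_{h,U,t} R ⟶ R' ×_{h,U,s} R`, `(u', r, r') ↦ ((u', r ∘ r'), r')`. -/
noncomputable def φ : pullback (hmor G g) G.t ⟶ pullback (hmor G g) G.s :=
  pullback.lift (m G g) (pullback.snd (hmor G g) G.t)
    (by rw [← Category.assoc, m_snd, comp_s'])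

theorem φ_fst : φ G g ≫ pullback.fst (hmor G g) G.s = m G g := pullback.lift_fst _ _ _

theorem φ_snd : φ G g ≫ pullback.snd (hmor G g) G.s = pullback.snd (hmor G g) G.t :=
  pullback.lift_snd _ _ _

/-- `((u', r), r') ↦ (u', r ∘ r'⁻¹)`. -/
noncomputable def m' : pullback (hmor G g) G.s ⟶ pullback g G.t :=
  pullback.lift (pullback.fst (hmor G g) G.s ≫ pullback.fst g G.t)
    (comp G (pullback.fst (hmor G g) G.s ≫ pullback.snd g G.t) (pullback.snd (hmor G g) G.s ≫ G.i)
      (by rw [Category.assoc, Category.assoc, G.i_t]; exact pullback.condition))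
    (by rw [comp_t', Category.assoc, Category.assoc, pullback.condition])

theorem m'_fst : m' G g ≫ pullback.fst g G.t = pullback.fst (hmor G g) G.s ≫ pullback.fst g G.t :=
  pullback.lift_fst _ _ _

theorem m'_snd : m' G g ≫ pullback.snd g G.t =
    comp G (pullback.fst (hmor G g) G.s ≫ pullback.snd g G.t) (pullback.snd (hmor G g) G.s ≫ G.i)
      (by rw [Category.assoc, Category.assoc, G.i_t]; exact pullback.condition) :=
  pullback.lift_snd _ _ _

/-- `ψ : R' ×_{h,U,s} R ⟶ R' ×_{h,U,t} R`, `((u', r), r') ↦ (u', r ∘ r'⁻¹, r')`. -/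
noncomputable def ψ : pullback (hmor G g) G.s ⟶ pullback (hmor G g) G.t :=
  pullback.lift (m' G g) (pullback.snd (hmor G g) G.s)
    (by rw [← Category.assoc, m'_snd, comp_s', Category.assoc, G.i_s])

theorem ψ_fst : ψ G g ≫ pullback.fst (hmor G g) G.t = m' G g := pullback.lift_fst _ _ _

theorem ψ_snd : ψ G g ≫ pullback.snd (hmor G g) G.t = pullback.snd (hmor G g) G.s :=
  pullback.lift_snd _ _ _

theorem φ_ψ : φ G g ≫ ψ G g = 𝟙 _ := by
  apply pullback.hom_ext
  · rw [Category.assoc, ψ_fst, Category.id_comp]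
    apply pullback.hom_ext
    · rw [Category.assoc, m'_fst, ← Category.assoc, φ_fst, m_fst]
    · rw [Category.assoc, m'_snd, precomp]
      -- (r ∘ r') ∘ r'⁻¹ = r
      have hc : (pullback.fst (hmor G g) G.t ≫ pullback.snd g G.t) ≫ G.s =
          pullback.snd (hmor G g) G.t ≫ G.t := by
        rw [Category.assoc]; exact pullback.condition
      have e1 : φ G g ≫ pullback.fst (hmor G g) G.s ≫ pullback.snd g G.t =
          comp G (pullback.fst (hmor G g) G.t ≫ pullback.snd g G.t) (pullback.snd (hmor G g) G.t)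
            hc := by
        rw [← Category.assoc, φ_fst, m_snd]
      have e2 : φ G g ≫ pullback.snd (hmor G g) G.s ≫ G.i = pullback.snd (hmor G g) G.t ≫ G.i := by
        rw [← Category.assoc, φ_snd]
      have h2 : comp G (pullback.fst (hmor G g) G.t ≫ pullback.snd g G.t)
          (pullback.snd (hmor G g) G.t) hc ≫ G.s = (pullback.snd (hmor G g) G.t ≫ G.i) ≫ G.t := by
        rw [comp_s', Category.assoc, G.i_t]
      rw [comp_congr G _ e1 e2 h2]
      exact comp_comp_inv G _ _ hc h2
  · rw [Category.assoc, ψ_snd, φ_snd, Category.id_comp]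

theorem ψ_φ : ψ G g ≫ φ G g = 𝟙 _ := by
  apply pullback.hom_ext
  · rw [Category.assoc, φ_fst, Category.id_comp]
    apply pullback.hom_ext
    · rw [Category.assoc, m_fst, ← Category.assoc, ψ_fst, m'_fst]
    · rw [Category.assoc, m_snd, precomp]
      have hc : (pullback.fst (hmor G g) G.s ≫ pullback.snd g G.t) ≫ G.s =
          (pullback.snd (hmor G g) G.s ≫ G.i) ≫ G.t := by
        rw [Category.assoc, Category.assoc, G.i_t]; exact pullback.condition
      have e1 : ψ G g ≫ pullback.fst (hmor G g) G.t ≫ pullback.snd g G.t =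
          comp G (pullback.fst (hmor G g) G.s ≫ pullback.snd g G.t)
            (pullback.snd (hmor G g) G.s ≫ G.i) hc := by
        rw [← Category.assoc, ψ_fst, m'_snd]
      have e2 : ψ G g ≫ pullback.snd (hmor G g) G.t = pullback.snd (hmor G g) G.s := ψ_snd G g
      have h2 : comp G (pullback.fst (hmor G g) G.s ≫ pullback.snd g G.t)
          (pullback.snd (hmor G g) G.s ≫ G.i) hc ≫ G.s = pullback.snd (hmor G g) G.s ≫ G.t := by
        rw [comp_s', Category.assoc, G.i_s]
      rw [comp_congr G _ e1 e2 h2]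
      exact comp_inv_comp G _ _ hc h2
  · rw [Category.assoc, φ_snd, ψ_snd, Category.id_comp]

end helpers


/-- Let (U, R, s, t, c, e, i) be a groupoid scheme over S and g : U' -> U a morphism; write h = s ∘ pr_1
: U' x_(g,U,t) R -> U. Let P, Q, R be properties of morphisms of schemes, with P invariant under
composition with isomorphisms, such that (1) R implies Q, (2) Q is stable under base change and
composition, (3) every morphism f : X -> Y with Q has a largest open W(P, f) of X on which the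
restriction of f has P (given here as a function W with these two properties), and (4) for f with Q
and a base change along Y' -> Y with R, the preimage of W(P, f) in X x_Y Y' is W(P, f') for the base
change f'. If s, t have R and g has Q, then there is an open W of U' whose preimage in U' x_(g,U,t)
R equals W(P, h). (The published statement speaks of arbitrary properties of morphisms; this row
asks P to be invariant under composition with isomorphisms, which the proof uses to identify the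
largest opens on the two isomorphic fibre products of h with t and with s.) (A groupoid scheme
carries U, R, s, t, c, e, i over S with the groupoid axioms on T-points; c is defined on the fibre
product of s and t and sends a pair (a, b) with s(a) = t(b) to a composed with b.) -/
theorem result (S : Scheme.{u}) (G : Grpd.GroupoidScheme S) {U' : Scheme.{u}} (g : U' ⟶ G.U) (P Q R : MorphismProperty Scheme.{u}) [P.RespectsIso] (hRQ : R ≤ Q) [Q.IsStableUnderBaseChange] [Q.IsStableUnderComposition] (W : ∀ {X Y : Scheme.{u}} (f : X ⟶ Y), Q f → X.Opens) (hWP : ∀ {X Y : Scheme.{u}} (f : X ⟶ Y) (hf : Q f), P ((W f hf).ι ≫ f)) (hWmax : ∀ {X Y : Scheme.{u}} (f : X ⟶ Y) (hf : Q f) (V : X.Opens), P (V.ι ≫ f) → V ≤ W f hf) (hWbc : ∀ {X Y Y' : Scheme.{u}} (f : X ⟶ Y) (hf : Q f) (b : Y' ⟶ Y), R b → ∀ hf' : Q (pullback.snd f b), pullback.fst f b ⁻¹ᵁ W f hf = W (pullback.snd f b) hf') (hs : R G.s) (ht : R G.t) (hg : Q g) (hh : Q (pullback.snd g G.t ≫ G.s)) : ∃ V : U'.Opens, pullback.fst g G.t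 ⁻¹ᵁ V = W (pullback.snd g G.t ≫ G.s) hh := by
  have hQt : Q (pullback.snd (hmor G g) G.t) := MorphismProperty.pullback_snd _ _ hh
  have hQs : Q (pullback.snd (hmor G g) G.s) := MorphismProperty.pullback_snd _ _ hh
  have hbt := hWbc (hmor G g) hh G.t ht hQt
  have hbs := hWbc (hmor G g) hh G.s hs hQs
  have hφiso : IsIso (φ G g) := ⟨ψ G g, φ_ψ G g, ψ_φ G g⟩
  have hψiso : IsIso (ψ G g) := ⟨φ G g, ψ_φ G g, φ_ψ G g⟩
  -- the largest opens on the two fibre products correspond under `φ`
  have hrel : W (pullback.snd (hmor G g) G.t) hQt =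
      φ G g ⁻¹ᵁ W (pullback.snd (hmor G g) G.s) hQs := by
    apply le_antisymm
    · have h1 : ψ G g ⁻¹ᵁ W (pullback.snd (hmor G g) G.t) hQt ≤
          W (pullback.snd (hmor G g) G.s) hQs := by
        apply hWmax
        have h2 : (ψ G g ⁻¹ᵁ W (pullback.snd (hmor G g) G.t) hQt).ι ≫
            pullback.snd (hmor G g) G.s =
            (ψ G g ∣_ W (pullback.snd (hmor G g) G.t) hQt) ≫
              (W (pullback.snd (hmor G g) G.t) hQt).ι ≫ pullback.snd (hmor G g) G.t := by
          rw [← Category.assoc, morphismRestrict_ι, Category.assoc, ψ_snd]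
        rw [h2]
        exact (P.cancel_left_of_respectsIso _ _).mpr (hWP _ hQt)
      have h3 := (φ G g).preimage_mono h1
      rwa [← Scheme.Hom.comp_preimage, φ_ψ, Scheme.Hom.id_preimage] at h3
    · apply hWmax
      have h2 : (φ G g ⁻¹ᵁ W (pullback.snd (hmor G g) G.s) hQs).ι ≫
          pullback.snd (hmor G g) G.t =
          (φ G g ∣_ W (pullback.snd (hmor G g) G.s) hQs) ≫
            (W (pullback.snd (hmor G g) G.s) hQs).ι ≫ pullback.snd (hmor G g) G.s := by
        rw [← Category.assoc, morphismRestrict_ι, Category.assoc, φ_snd]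
      rw [h2]
      exact (P.cancel_left_of_respectsIso _ _).mpr (hWP _ hQs)
  -- hence the two preimages of `W h` on `R' ×_{h,U,t} R` coincide
  have hkey : pullback.fst (hmor G g) G.t ⁻¹ᵁ W (hmor G g) hh = m G g ⁻¹ᵁ W (hmor G g) hh := by
    rw [hbt, hrel, ← hbs, ← Scheme.Hom.comp_preimage, φ_fst]
  -- the section `τ : (u', r) ↦ (u', r, r⁻¹)`
  let τ : pullback g G.t ⟶ pullback (hmor G g) G.t :=
    pullback.lift (𝟙 _) (pullback.snd g G.t ≫ G.i)
      (by rw [Category.id_comp, Category.assoc, G.i_t])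
  have hτ0 : τ ≫ pullback.fst (hmor G g) G.t = 𝟙 _ := pullback.lift_fst _ _ _
  have hτ1 : τ ≫ pullback.snd (hmor G g) G.t = pullback.snd g G.t ≫ G.i := pullback.lift_snd _ _ _
  -- the section `σ : u' ↦ (u', e (g u'))`
  let σ : U' ⟶ pullback g G.t :=
    pullback.lift (𝟙 _) (g ≫ G.e) (by rw [Category.id_comp, Category.assoc, G.e_t, Category.comp_id])
  have hσ0 : σ ≫ pullback.fst g G.t = 𝟙 _ := pullback.lift_fst _ _ _
  have hσ1 : σ ≫ pullback.snd g G.t = g ≫ G.e := pullback.lift_snd _ _ _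
  have hτm : τ ≫ m G g = pullback.fst g G.t ≫ σ := by
    apply pullback.hom_ext
    · rw [Category.assoc, m_fst, ← Category.assoc, hτ0, Category.id_comp, Category.assoc, hσ0,
        Category.comp_id]
    · have rhs : (pullback.fst g G.t ≫ σ) ≫ pullback.snd g G.t =
          pullback.fst g G.t ≫ g ≫ G.e := by rw [Category.assoc, hσ1]
      rw [Category.assoc, m_snd, precomp, rhs]
      have e1 : τ ≫ pullback.fst (hmor G g) G.t ≫ pullback.snd g G.t = pullback.snd g G.t := by
        rw [← Category.assoc, hτ0, Category.id_comp]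
      have hc : pullback.snd g G.t ≫ G.s = (pullback.snd g G.t ≫ G.i) ≫ G.t := by
        rw [Category.assoc, G.i_t]
      rw [comp_congr G _ e1 hτ1 hc]
      have h7 : comp G (pullback.snd g G.t) (pullback.snd g G.t ≫ G.i) hc =
          pullback.snd g G.t ≫ G.t ≫ G.e := G.comp_i (pullback.snd g G.t)
      rw [h7, ← Category.assoc, ← pullback.condition, Category.assoc]
  refine ⟨σ ⁻¹ᵁ W (hmor G g) hh, ?_⟩
  rw [← Scheme.Hom.comp_preimage, ← hτm, Scheme.Hom.comp_preimage, ← hkey,
    ← Scheme.Hom.comp_preimage, hτ0, Scheme.Hom.id_preimage]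

end Groth.Agent.S7510
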