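import Groth.Statements.S7457
-- import your own Groth.Agent.* helpers here

set_option autoImplicit false
universe u
open CategoryTheory CategoryTheory.Limits AlgebraicGeometry
open Grpd

namespace Groth.Agent.S7457

variable {S : Scheme.{u}} (G : Grpd.GroupoidScheme S)

/-- composition of `T`-points -/
noncomputable def cmp {T : Scheme.{u}} (α β : T ⟶ G.R) (h : α ≫ G.s = β ≫ G.t) : T ⟶ G.R :=
  pullback.lift α β h ≫ G.c

lemma cmp_congr {T : Scheme.{u}} {α α' β β' : T ⟶ G.R} (h : α ≫ G.s = β ≫ G.t)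
    (h' : α' ≫ G.s = β' ≫ G.t) (hα : α = α') (hβ : β = β') : cmp G α β h = cmp G α' β' h' := by
  subst hα hβ; rfl

lemma comp_cmp {T T' : Scheme.{u}} (f : T' ⟶ T) (α β : T ⟶ G.R) (h : α ≫ G.s = β ≫ G.t)
    (h' : (f ≫ α) ≫ G.s = (f ≫ β) ≫ G.t) :
    f ≫ cmp G α β h = cmp G (f ≫ α) (f ≫ β) h' := by
  unfold cmp
  rw [← Category.assoc]
  congr 1
  apply pullback.hom_ext
  · rw [Category.assoc, pullback.lift_fst, pullback.lift_fst]
  · rw [Category.assoc, pullback.lift_snd, pullback.lift_snd]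

lemma cmp_s {T : Scheme.{u}} (α β : T ⟶ G.R) (h : α ≫ G.s = β ≫ G.t) :
    cmp G α β h ≫ G.s = β ≫ G.s := G.comp_s α β h

lemma cmp_t {T : Scheme.{u}} (α β : T ⟶ G.R) (h : α ≫ G.s = β ≫ G.t) :
    cmp G α β h ≫ G.t = α ≫ G.t := G.comp_t α β h

lemma cmp_assoc {T : Scheme.{u}} (α β γ : T ⟶ G.R) (h₁ : α ≫ G.s = β ≫ G.t)
    (h₂ : β ≫ G.s = γ ≫ G.t) (h₃ : cmp G α β h₁ ≫ G.s = γ ≫ G.t)
    (h₄ : α ≫ G.s = cmp G β γ h₂ ≫ G.t) :
    cmp G (cmp G α β h₁) γ h₃ = cmp G α (cmp G β γ h₂) h₄ := G.assoc α β γ h₁ h₂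

lemma cmp_e {T : Scheme.{u}} (α β : T ⟶ G.R) (h : α ≫ G.s = β ≫ G.t) (hβ : β = α ≫ G.s ≫ G.e) :
    cmp G α β h = α := by
  subst hβ; exact G.comp_e α

lemma e_cmp {T : Scheme.{u}} (α β : T ⟶ G.R) (h : α ≫ G.s = β ≫ G.t) (hα : α = β ≫ G.t ≫ G.e) :
    cmp G α β h = β := by
  subst hα; exact G.e_comp β

lemma cmp_i {T : Scheme.{u}} (α β : T ⟶ G.R) (h : α ≫ G.s = β ≫ G.t) (hβ : β = α ≫ G.i) :
    cmp G α β h = α ≫ G.t ≫ G.e := by
  subst hβ; exact G.comp_i α

lemma i_cmp {T : Scheme.{u}} (α β : T ⟶ G.R) (h : α ≫ G.s = β ≫ G.t) (hα : α = β ≫ G.i) :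
    cmp G α β h = β ≫ G.s ≫ G.e := by
  subst hα; exact G.i_comp β

lemma c_eq : G.c = cmp G (pullback.fst G.s G.t) (pullback.snd G.s G.t) pullback.condition := by
  unfold cmp
  have : pullback.lift (pullback.fst G.s G.t) (pullback.snd G.s G.t) pullback.condition = 𝟙 _ := by
    apply pullback.hom_ext
    · rw [pullback.lift_fst, Category.id_comp]
    · rw [pullback.lift_snd, Category.id_comp]
  rw [this, Category.id_comp]

/-- Let (U, R, s, t, c) be a groupoid scheme over S. Let φ : R x_(t,U,t) R -> R x_(s,U,t) R be the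
morphism sending a pair (a, b) with the same target to (a, a^{-1} composed with b), that is, the
morphism whose first component is the first projection and whose second component is c applied to (i
composed after the first projection, second projection). Then φ is an isomorphism and composed with
c it gives the second projection. Moreover the square with sides c, the second projection R
x_(s,U,t) R -> R, s and s is cartesian. (A groupoid scheme carries U, R, s, t, c, e, i over S with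
the groupoid axioms on T-points; c is defined on the fibre product of s and t and sends a pair (a,
b) with s(a) = t(b) to a composed with b.) -/
theorem result (S : Scheme.{u}) (G : Grpd.GroupoidScheme S) : (∀ φ : pullback G.t G.t ⟶ pullback G.s G.t, φ ≫ pullback.fst G.s G.t = pullback.fst G.t G.t → φ ≫ pullback.snd G.s G.t = pullback.lift (pullback.fst G.t G.t ≫ G.i) (pullback.snd G.t G.t) ((Category.assoc _ _ _).trans ((congrArg (fun x => pullback.fst G.t G.t ≫ x) G.i_s).trans pullback.condition)) ≫ G.c → IsIso φ ∧ φ ≫ G.c = pullback.snd G.t G.t) ∧ IsPullback G.c (pullback.snd G.s G.t) G.s G.s := by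
  have hcs : G.c ≫ G.s = pullback.snd G.s G.t ≫ G.s := by
    rw [c_eq G]; exact cmp_s G _ _ _
  have hct : G.c ≫ G.t = pullback.fst G.s G.t ≫ G.t := by
    rw [c_eq G]; exact cmp_t G _ _ _
  refine ⟨?_, ?_⟩
  · intro φ hφ1 hφ2
    -- notation
    obtain ⟨a, ha⟩ : ∃ a, a = pullback.fst G.t G.t := ⟨_, rfl⟩
    obtain ⟨b, hb⟩ : ∃ b, b = pullback.snd G.t G.t := ⟨_, rfl⟩
    have hab : a ≫ G.t = b ≫ G.t := by rw [ha, hb]; exact pullback.condition
    have pf : (a ≫ G.i) ≫ G.s = b ≫ G.t := by rw [Category.assoc, G.i_s, hab]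
    have hφ2' : φ ≫ pullback.snd G.s G.t = cmp G (a ≫ G.i) b pf := by
      subst ha hb; exact hφ2
    rw [← ha] at hφ1
    rw [← hb]
    clear hφ2
    have h1 : a ≫ G.s = cmp G (a ≫ G.i) b pf ≫ G.t := by
      rw [cmp_t, Category.assoc, G.i_t]
    have hφc : φ ≫ G.c = b := by
      rw [c_eq G, comp_cmp G φ _ _ _ (by rw [hφ1, hφ2']; exact h1)]
      rw [cmp_congr G _ h1 hφ1 hφ2']
      have h2 : a ≫ G.s = (a ≫ G.i) ≫ G.t := by rw [Category.assoc, G.i_t]
      rw [← cmp_assoc G a (a ≫ G.i) b h2 pf (by rw [cmp_s]; exact pf) h1]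
      have h3 : cmp G a (a ≫ G.i) h2 = a ≫ G.t ≫ G.e := cmp_i G _ _ _ rfl
      have h4 : (a ≫ G.t ≫ G.e) ≫ G.s = b ≫ G.t := by
        rw [Category.assoc, Category.assoc, G.e_s, Category.comp_id, hab]
      rw [cmp_congr G _ h4 h3 rfl]
      exact e_cmp G _ _ _ (by rw [← Category.assoc, hab, Category.assoc])
    refine ⟨?_, hφc⟩
    -- the inverse
    let ψ : pullback G.s G.t ⟶ pullback G.t G.t :=
      pullback.lift (pullback.fst G.s G.t) G.c hct.symm
    have hψa : ψ ≫ a = pullback.fst G.s G.t := by rw [ha]; exact pullback.lift_fst _ _ _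
    have hψb : ψ ≫ b = G.c := by rw [hb]; exact pullback.lift_snd _ _ _
    refine ⟨ψ, ?_, ?_⟩
    · apply pullback.hom_ext
      · rw [Category.assoc, ← ha, hψa, hφ1, Category.id_comp]
      · rw [Category.assoc, ← hb, hψb, hφc, Category.id_comp]
    · apply pullback.hom_ext
      · rw [Category.assoc, hφ1, hψa, Category.id_comp]
      · rw [Category.assoc, hφ2', Category.id_comp]
        have q1 : (ψ ≫ a ≫ G.i) ≫ G.s = (ψ ≫ b) ≫ G.t := by
          simp only [Category.assoc, G.i_s, hab]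
        rw [comp_cmp G ψ _ _ _ (by rw [← Category.assoc] at q1 ⊢; exact q1)]
        have q2 : (pullback.fst G.s G.t ≫ G.i) ≫ G.s =
            cmp G (pullback.fst G.s G.t) (pullback.snd G.s G.t) pullback.condition ≫ G.t := by
          rw [cmp_t, Category.assoc, G.i_s]
        rw [cmp_congr G _ q2 (by rw [← Category.assoc, hψa]) (by rw [hψb]; exact c_eq G)]
        have q3 : (pullback.fst G.s G.t ≫ G.i) ≫ G.s = pullback.fst G.s G.t ≫ G.t := by
          rw [Category.assoc, G.i_s]
        rw [← cmp_assoc G (pullback.fst G.s G.t ≫ G.i) (pullback.fst G.s G.t)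
          (pullback.snd G.s G.t) q3 pullback.condition
          (by rw [cmp_s]; exact pullback.condition) q2]
        have q4 : cmp G (pullback.fst G.s G.t ≫ G.i) (pullback.fst G.s G.t) q3 =
            pullback.fst G.s G.t ≫ G.s ≫ G.e := i_cmp G _ _ _ rfl
        have q5 : (pullback.fst G.s G.t ≫ G.s ≫ G.e) ≫ G.s = pullback.snd G.s G.t ≫ G.t := by
          rw [Category.assoc, Category.assoc, G.e_s, Category.comp_id]
          exact pullback.condition
        rw [cmp_congr G _ q5 q4 rfl]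
        exact e_cmp G _ _ _ (by rw [← Category.assoc, pullback.condition, Category.assoc])
  · refine IsPullback.of_isLimit' ⟨hcs⟩ (PullbackCone.IsLimit.mk _ ?_ ?_ ?_ ?_)
    · intro cone
      have hc : cone.fst ≫ G.s = cone.snd ≫ G.s := cone.condition
      have p1 : cone.fst ≫ G.s = (cone.snd ≫ G.i) ≫ G.t := by
        rw [Category.assoc, G.i_t]; exact hc
      exact pullback.lift (cmp G cone.fst (cone.snd ≫ G.i) p1) cone.snd
        (by rw [cmp_s, Category.assoc, G.i_s])
    · intro cone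
      have hc : cone.fst ≫ G.s = cone.snd ≫ G.s := cone.condition
      have p1 : cone.fst ≫ G.s = (cone.snd ≫ G.i) ≫ G.t := by
        rw [Category.assoc, G.i_t]; exact hc
      have p2 : (cone.snd ≫ G.i) ≫ G.s = cone.snd ≫ G.t := by rw [Category.assoc, G.i_s]
      show pullback.lift _ _ _ ≫ G.c = cone.fst
      change cmp G (cmp G cone.fst (cone.snd ≫ G.i) p1) cone.snd _ = cone.fst
      have p3 : cone.fst ≫ G.s = cmp G (cone.snd ≫ G.i) cone.snd p2 ≫ G.t := by
        rw [cmp_t]; exact p1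
      rw [cmp_assoc G cone.fst (cone.snd ≫ G.i) cone.snd p1 p2 _ p3]
      have p4 : cmp G (cone.snd ≫ G.i) cone.snd p2 = cone.snd ≫ G.s ≫ G.e := i_cmp G _ _ _ rfl
      have p5 : cone.fst ≫ G.s = (cone.snd ≫ G.s ≫ G.e) ≫ G.t := by
        rw [Category.assoc, Category.assoc, G.e_t, Category.comp_id]; exact hc
      rw [cmp_congr G _ p5 rfl p4]
      exact cmp_e G _ _ _ (by rw [← Category.assoc, ← hc, Category.assoc])
    · intro cone
      exact pullback.lift_snd _ _ _
    · intro cone m hm1 hm2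
      have hc : cone.fst ≫ G.s = cone.snd ≫ G.s := cone.condition
      have p1 : cone.fst ≫ G.s = (cone.snd ≫ G.i) ≫ G.t := by
        rw [Category.assoc, G.i_t]; exact hc
      obtain ⟨α, hα⟩ : ∃ α, α = m ≫ pullback.fst G.s G.t := ⟨_, rfl⟩
      have hαβ : α ≫ G.s = cone.snd ≫ G.t := by
        rw [hα, ← hm2, Category.assoc, Category.assoc, pullback.condition]
      have hγ : cone.fst = cmp G α cone.snd hαβ := by
        rw [← hm1, c_eq G, comp_cmp G m _ _ _ (by rw [← hα, hm2]; exact hαβ)]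
        exact cmp_congr G _ _ hα.symm hm2
      apply pullback.hom_ext
      · rw [pullback.lift_fst, ← hα]
        have r1 : cmp G α cone.snd hαβ ≫ G.s = (cone.snd ≫ G.i) ≫ G.t := by
          rw [cmp_s, Category.assoc, G.i_t]
        rw [cmp_congr G p1 r1 hγ rfl]
        have r2 : cone.snd ≫ G.s = (cone.snd ≫ G.i) ≫ G.t := by rw [Category.assoc, G.i_t]
        have r3 : α ≫ G.s = cmp G cone.snd (cone.snd ≫ G.i) r2 ≫ G.t := by
          rw [cmp_t]; exact hαβ
        rw [cmp_assoc G α cone.snd (cone.snd ≫ G.i) hαβ r2 r1 r3]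
        have r4 : cmp G cone.snd (cone.snd ≫ G.i) r2 = cone.snd ≫ G.t ≫ G.e := cmp_i G _ _ _ rfl
        have r5 : α ≫ G.s = (cone.snd ≫ G.t ≫ G.e) ≫ G.t := by
          rw [Category.assoc, Category.assoc, G.e_t, Category.comp_id]; exact hαβ
        rw [cmp_congr G _ r5 rfl r4]
        exact (cmp_e G _ _ _ (by rw [← Category.assoc, ← hαβ, Category.assoc])).symm
      · rw [pullback.lift_snd]; exact hm2

end Groth.Agent.S7457
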