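import Groth.Statements.S0114
-- import your own Groth.Agent.* helpers here
import Groth.Agent.S0112

set_option autoImplicit false
open CategoryTheory CategoryTheory.Limits AlgebraicGeometry Opposite
universe u
open EtBase

namespace Groth.Agent.S0114

/-- Ring form: finite presentation descends along a flat finitely presented ring map which is
surjective on spectra. -/
theorem finitePresentation_of_comp {R A B : Type u} [CommRing R] [CommRing A] [CommRing B]
    (α : R →+* A) (β : A →+* B) (hβflat : β.Flat) (hβfp : β.FinitePresentation)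
    (hsurj : Function.Surjective (PrimeSpectrum.comap β))
    (hcomp : (β.comp α).FinitePresentation) : α.FinitePresentation := by
  letI := α.toAlgebra
  letI := β.toAlgebra
  letI := (β.comp α).toAlgebra
  haveI : IsScalarTower R A B := .of_algebraMap_eq fun _ => rfl
  haveI : Module.Flat A B := hβflat
  haveI : Algebra.FinitePresentation A B := hβfp
  haveI : Algebra.FinitePresentation R B := hcomp
  haveI : Module.FaithfullyFlat A B := Module.FaithfullyFlat.of_comap_surjective hsurj
  exact (Groth.Agent.S0112.result (R := R) (A := A) (B := B) : Algebra.FinitePresentation R A)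


/-- Local finite presentation descends along an fppf cover of the source: if f is surjective, flat and
locally of finite presentation and f ≫ q is locally of finite presentation, then so is q. -/
theorem result {X Y S : Scheme.{u}} (f : X ⟶ Y) (q : Y ⟶ S) [Surjective f] [Flat f]
    [LocallyOfFinitePresentation f] [LocallyOfFinitePresentation (f ≫ q)] :
    LocallyOfFinitePresentation q := by
  rw [HasRingHomProperty.iff_exists_appLE (P := @LocallyOfFinitePresentation)
    (RingHom.finitePresentation_stableUnderComposition.stableUnderCompositionWithLocalizationAway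
      RingHom.finitePresentation_holdsForLocalizationAway).1]
  intro y
  obtain ⟨x, rfl⟩ := f.surjective y
  obtain ⟨U, hU, hqU, -⟩ := TopologicalSpace.Opens.isBasis_iff_nbhd.mp S.isBasis_affineOpens
    (TopologicalSpace.Opens.mem_top (q (f x)))
  obtain ⟨V, hV, hyV, eV⟩ := TopologicalSpace.Opens.isBasis_iff_nbhd.mp Y.isBasis_affineOpens
    (show f x ∈ q ⁻¹ᵁ U from hqU)
  obtain ⟨W, hW, hxW, eW⟩ := TopologicalSpace.Opens.isBasis_iff_nbhd.mp X.isBasis_affineOpens
    (show x ∈ f ⁻¹ᵁ V from hyV)
  let O : Y.Opens := ⟨f '' (W : Set X), f.isOpenMap _ W.2⟩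
  obtain ⟨a, haO, hya⟩ := hV.exists_basicOpen_le (V := O) ⟨f x, x, hxW, rfl⟩ hyV
  have hV' : IsAffineOpen (Y.basicOpen a) := hV.basicOpen a
  have hW' : IsAffineOpen (X.basicOpen (f.appLE V W eW a)) := hW.basicOpen _
  have hW'eq : X.basicOpen (f.appLE V W eW a) = W ⊓ f ⁻¹ᵁ (Y.basicOpen a) :=
    Scheme.basicOpen_appLE f W V eW a
  have eW' : X.basicOpen (f.appLE V W eW a) ≤ f ⁻¹ᵁ (Y.basicOpen a) :=
    hW'eq.le.trans inf_le_right
  have eV' : Y.basicOpen a ≤ q ⁻¹ᵁ U := (Y.basicOpen_le a).trans eV
  refine ⟨⟨U, hU⟩, ⟨Y.basicOpen a, hV'⟩, hya, eV', ?_⟩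
  apply finitePresentation_of_comp (q.appLE U (Y.basicOpen a) eV').hom
    (f.appLE (Y.basicOpen a) (X.basicOpen (f.appLE V W eW a)) eW').hom
  · exact f.flat_appLE hV' hW' eW'
  · exact f.finitePresentation_appLE hV' hW' eW'
  · intro 𝔭
    have hy' : hV'.fromSpec 𝔭 ∈ (Y.basicOpen a : Set Y) := by
      rw [← hV'.range_fromSpec]
      exact Set.mem_range_self 𝔭
    obtain ⟨x', hx'W, hx'⟩ := haO hy'
    have hx'W' : x' ∈ (X.basicOpen (f.appLE V W eW a) : Set X) := by
      rw [hW'eq]
      refine ⟨hx'W, ?_⟩
      show f x' ∈ Y.basicOpen a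
      rw [hx']
      exact hy'
    rw [← hW'.range_fromSpec] at hx'W'
    obtain ⟨𝔮, h𝔮⟩ := hx'W'
    refine ⟨𝔮, ?_⟩
    apply hV'.fromSpec.isOpenEmbedding.injective
    have key := IsAffineOpen.SpecMap_appLE_fromSpec f hV' hW' eW'
    rw [← hx', ← h𝔮]
    exact congr($(key) 𝔮)
  · rw [← CommRingCat.hom_comp, Scheme.Hom.appLE_comp_appLE]
    exact (f ≫ q).finitePresentation_appLE hU hW' _

end Groth.Agent.S0114
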