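import Groth.Statements.S8830
-- import your own Groth.Agent.* helpers here
import Groth.Agent.S0852

set_option autoImplicit false
universe u
open CategoryTheory AlgebraicGeometry Opposite
open Formal2

namespace Groth.Agent.S8830

section Alg
variable {A : Type u} [CommRing A]
variable (M : ℕ → Type u) [∀ k, AddCommGroup (M k)] [∀ k, Module A (M k)]
  (T : ∀ l K : ℕ, l ≤ K → (M K →ₗ[A] M l))
  (T_comp : ∀ (l K K' : ℕ) (h₁ : l ≤ K) (h₂ : K ≤ K') (x : M K'),
    T l K h₁ (T K K' h₂ x) = T l K' (h₁.trans h₂) x)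
  (f : A) (i : ∀ k, M k →ₗ[A] M (k + 1))
  (hi : ∀ k, Function.Injective (i k))
  (hit : ∀ k (x : M (k + 1)), i k (T k (k + 1) (Nat.le_succ k) x) = f • x)
  (hex : ∀ k (x : M (k + 1)), T 0 (k + 1) (Nat.zero_le _) x = 0 → ∃ x' : M k, i k x' = x)

include hi hit in
theorem hti (k : ℕ) (x : M k) : T k (k + 1) (Nat.le_succ k) (i k x) = f • x := by
  apply hi k
  rw [hit, map_smul]

include T_comp hi hit hex in
/-- One step: a compatible family vanishing at level `0` is `f` times a compatible family. -/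
theorem step (y : ∀ k, M k) (hy : ∀ (l K : ℕ) (h : l ≤ K), T l K h (y K) = y l) (hy0 : y 0 = 0) :
    ∃ y' : ∀ k, M k, (∀ (l K : ℕ) (h : l ≤ K), T l K h (y' K) = y' l) ∧
      (∀ k, y (k + 1) = i k (y' k)) ∧ ∀ k, y k = f • y' k := by
  have h0 : ∀ k, T 0 (k + 1) (Nat.zero_le _) (y (k + 1)) = 0 := fun k => by rw [hy, hy0]
  choose y' hy' using fun k => hex k (y (k + 1)) (h0 k)
  have hsucc : ∀ k, T k (k + 1) (Nat.le_succ k) (y' (k + 1)) = y' k := by
    intro k
    apply hi k
    rw [hit, hy', ← hti M T f i hi hit (k + 1) (y' (k + 1)), hy' (k + 1), hy]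
  have hcompat : ∀ (l K : ℕ) (h : l ≤ K), T l K h (y' K) = y' l := by
    intro l K h
    obtain ⟨d, rfl⟩ := Nat.exists_eq_add_of_le h
    induction d with
    | zero =>
      have := hsucc l
      have e := T_comp l l (l + 1) le_rfl (Nat.le_succ l) (y' (l + 1))
      rw [this] at e
      exact e
    | succ d ih =>
      have := T_comp l (l + d) (l + d + 1) (Nat.le_add_right l d) (Nat.le_succ _) (y' (l + d + 1))
      rw [hsucc (l + d), ih (Nat.le_add_right l d)] at this
      exact this.symm
  refine ⟨y', hcompat, fun k => (hy' k).symm, fun k => ?_⟩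
  rw [← hy k (k + 1) (Nat.le_succ k), ← hy' k, hti M T f i hi hit]

include T_comp hi hit hex in
/-- A compatible family vanishing at level `n` is `f^(n+1)` times a compatible family. -/
theorem exists_pow_decomposition (n : ℕ) : ∀ (y : ∀ k, M k)
    (_ : ∀ (l K : ℕ) (h : l ≤ K), T l K h (y K) = y l) (_ : y n = 0),
    ∃ z : ∀ k, M k, (∀ (l K : ℕ) (h : l ≤ K), T l K h (z K) = z l) ∧
      ∀ k, y k = f ^ (n + 1) • z k := by
  induction n with
  | zero =>
    intro y hy hy0
    obtain ⟨y', hy'c, -, hy'f⟩ := step M T T_comp f i hi hit hex y hy hy0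
    exact ⟨y', hy'c, fun k => by rw [zero_add, pow_one]; exact hy'f k⟩
  | succ n ih =>
    intro y hy hyn
    have hy0 : y 0 = 0 := by rw [← hy 0 (n + 1) (Nat.zero_le _), hyn, map_zero]
    obtain ⟨y', hy'c, hy'i, hy'f⟩ := step M T T_comp f i hi hit hex y hy hy0
    have hy'n : y' n = 0 := by
      apply hi n
      rw [← hy'i n, hyn, map_zero]
    obtain ⟨z, hzc, hz⟩ := ih y' hy'c hy'n
    refine ⟨z, hzc, fun k => ?_⟩
    rw [hy'f k, hz k, smul_smul, ← pow_succ']

variable (hsurj0 : ∀ k, Function.Surjective (T 0 (k + 1) (Nat.zero_le _)))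

include T_comp hi hit hex hsurj0 in
theorem T_succ_surjective : ∀ k, Function.Surjective (T k (k + 1) (Nat.le_succ k)) := by
  intro k
  induction k with
  | zero => exact hsurj0 0
  | succ k ih =>
    intro x
    obtain ⟨y, hy⟩ := hsurj0 (k + 1) (T 0 (k + 1) (Nat.zero_le _) x)
    have h0 : T 0 (k + 1) (Nat.zero_le _) (x - T (k + 1) (k + 2) (Nat.le_succ _) y) = 0 := by
      rw [map_sub, T_comp, hy, sub_self]
    obtain ⟨z, hz⟩ := hex k _ h0
    obtain ⟨z', rfl⟩ := ih z
    refine ⟨y + i (k + 1) z', ?_⟩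
    rw [map_add, hti M T f i hi hit (k + 1) z', ← hit k z', hz]
    abel

end Alg

section Sheaf
open CategoryTheory CategoryTheory.Limits AlgebraicGeometry Opposite
open Groth.Agent.S0852 (ρ smulMod_app T T_comp T_id exists_section_limit section_limit_ext
  epi_of_locally_surjective exact_of_locally_exact exists_affine_nbhd)

variable {A : Type u} [CommRing A] {X : Scheme.{u}} [X.Over (Spec (CommRingCat.of A))]

attribute [local instance] Groth.Agent.S0852.secMod

/-- General: completion iso from compatible cokernel presentations. -/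
theorem completion_iso_of_isColimit {I : Ideal A} (M : X.Modules) (F : ℕᵒᵖ ⥤ X.Modules)
    (p : ∀ n : ℕ, M ⟶ F.obj (op n))
    (hp : ∀ n, p (n + 1) ≫ F.map (homOfLE (Nat.le_succ n)).op = p n)
    (hcol : ∀ n, ∃ h : Formal.smulFamily (I ^ (n + 1)) M ≫ p n = 0,
      Nonempty (IsColimit (CokernelCofork.ofπ (p n) h))) :
    Nonempty (Formal.completion I M ≅ F) := by
  choose h hcol' using hcol
  let e : ∀ n : ℕ, Formal.modPow I (n + 1) M ⟶ F.obj (op n) :=
    fun n => cokernel.desc _ (p n) (h n)
  have he : ∀ n, IsIso (e n) := fun n =>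
    Groth.Agent.S0835.isIso_desc_of_isColimit _ _ (h n) (hcol' n).some
  let α : Formal.completion I M ⟶ F :=
    NatTrans.ofOpSequence (F := Formal.completion I M) (G := F) e (by
      intro n
      have h1 : (Formal.completion I M).map (homOfLE (n.le_add_right 1)).op =
          Formal.modPowTrans I (n + 1) M :=
        Functor.ofOpSequence_map_homOfLE_succ _ n
      rw [h1]
      apply coequalizer.hom_ext
      change Formal.modPowπ I (n + 1 + 1) M ≫
          Formal.modPowTrans I (n + 1) M ≫ e n =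
        cokernel.π _ ≫ cokernel.desc _ (p (n + 1)) (h (n + 1)) ≫ F.map (homOfLE _).op
      rw [← Category.assoc, Formal.modPowπ_trans, ← Category.assoc, cokernel.π_desc]
      change cokernel.π _ ≫ cokernel.desc _ (p n) (h n) = _
      rw [cokernel.π_desc]
      exact (hp n).symm)
  haveI : ∀ k : ℕᵒᵖ, IsIso (α.app k) := fun k => he k.unop
  haveI : IsIso α := NatIso.isIso_of_isIso_app α
  exact ⟨asIso α⟩

theorem mono_of_app_injective {M N : X.Modules} (g : M ⟶ N)
    (h : ∀ V : X.Opens, Function.Injective (g.app V)) : Mono g :=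
  ⟨fun g₁ g₂ e => Scheme.Modules.hom_ext _ _ (fun V => by
    ext x
    exact h V (congrArg (fun ψ => ψ.app V x) e))⟩

theorem smulMod_mul (M : X.Modules) (a b : A) :
    Formal.smulMod A M (a * b) = Formal.smulMod A M b ≫ Formal.smulMod A M a := by
  ext U m
  change ρ U (a * b) • m = ρ U a • (ρ U b • m)
  rw [map_mul, mul_smul]

end Sheaf

section Main
open CategoryTheory CategoryTheory.Limits AlgebraicGeometry Opposite
open Groth.Agent.S0852 (ρ smulMod_app T T_comp T_id exists_section_limit section_limit_ext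
  epi_of_locally_surjective exact_of_locally_exact exists_affine_nbhd)

variable {A : Type u} [CommRing A] {X : Scheme.{u}} [X.Over (Spec (CommRingCat.of A))]

attribute [local instance] Groth.Agent.S0852.secMod

variable (f : A) (G : ℕᵒᵖ ⥤ X.Modules)
  (i : ∀ n : ℕ, G.obj (op n) ⟶ G.obj (op (n + 1))) (hmono : ∀ n, Mono (i n))
  (hfac : ∀ n, G.map (homOfLE (Nat.le_succ n)).op ≫ i n =
    Formal.smulMod A (G.obj (op (n + 1))) f)
  (w : ∀ n, i n ≫ G.map (homOfLE (Nat.zero_le (n + 1))).op = 0)
  (hse : ∀ n, (ShortComplex.mk (i n) (G.map (homOfLE (Nat.zero_le (n + 1))).op) (w n)).ShortExact)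

/-- The maps `i` on sections, as `A`-linear maps. -/
noncomputable def iU (U : X.Opens) (k : ℕ) : Γ(G.obj (op k), U) →ₗ[A] Γ(G.obj (op (k + 1)), U) where
  toFun := (i k).app U
  map_add' := map_add _
  map_smul' _ _ := Scheme.Modules.Hom.app_smul _ _ _

include hmono in
theorem iU_injective (U : X.Opens) (k : ℕ) : Function.Injective (iU (A := A) G i U k) := by
  haveI := hmono k
  intro x y hxy
  exact Groth.Agent.H8.app_injective_of_mono (i k) U hxy

include hfac in
theorem iU_T (U : X.Opens) (k : ℕ) (x : Γ(G.obj (op (k + 1)), U)) :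
    iU (A := A) G i U k (T A G U k (k + 1) (Nat.le_succ k) x) = f • x :=
  congrArg (fun φ : G.obj (op (k + 1)) ⟶ G.obj (op (k + 1)) => φ.app U x) (hfac k)

include hmono hse in
theorem iU_ex (U : X.Opens) (k : ℕ) (x : Γ(G.obj (op (k + 1)), U))
    (hx : T A G U 0 (k + 1) (Nat.zero_le _) x = 0) : ∃ x' : Γ(G.obj (op k), U), iU (A := A) G i U k x' = x := by
  haveI : Mono (ShortComplex.mk (i k) (G.map (homOfLE (Nat.zero_le (k + 1))).op) (w k)).f := hmono k
  exact Groth.Agent.H8.exists_app_eq_of_exact _ (hse k).exact U x hx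

include hse in
theorem T0_surjective (hqc : ∀ n : ℕᵒᵖ, Coh.IsQCoh (G.obj n)) {U : X.Opens} (hU : IsAffineOpen U)
    (k : ℕ) : Function.Surjective (T A G U 0 (k + 1) (Nat.zero_le _)) := by
  haveI : (ShortComplex.mk (i k) (G.map (homOfLE (Nat.zero_le (k + 1))).op) (w k)).X₁.IsQuasicoherent :=
    hqc (op k)
  exact Groth.Agent.H22.QCohH1.app_surjective _ (hse k) hU

include hfac hse in
theorem killed (k : ℕ) : Formal.smulMod A (G.obj (op k)) (f ^ (k + 1)) = 0 := by
  induction k with
  | zero =>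
    haveI : Epi (G.map (homOfLE (Nat.zero_le (0 + 1))).op) := (hse 0).epi_g
    rw [zero_add, pow_one, ← cancel_epi (G.map (homOfLE (Nat.zero_le (0 + 1))).op), comp_zero,
      ← Groth.Agent.S0832.smulMod_naturality, ← hfac 0, Category.assoc]
    have := w 0
    rw [this, comp_zero]
  | succ k ih =>
    rw [pow_succ, smulMod_mul, ← hfac k, Category.assoc, ← Groth.Agent.S0832.smulMod_naturality,
      ih, zero_comp, comp_zero]

include hmono hfac in
theorem mono_smul : Mono (Formal.smulMod A (limit G) f) := by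
  refine mono_of_app_injective _ (fun V => ?_)
  rw [injective_iff_map_eq_zero]
  intro x hx
  apply section_limit_ext G V
  intro k
  rw [map_zero]
  have h1 : (limit.π G (op (k + 1))).app V ((Formal.smulMod A (limit G) f).app V x) =
      (Formal.smulMod A (G.obj (op (k + 1))) f).app V ((limit.π G (op (k + 1))).app V x) :=
    congrArg (fun φ : limit G ⟶ G.obj (op (k + 1)) => φ.app V x)
      (Groth.Agent.S0832.smulMod_naturality (limit.π G (op (k + 1))) f)
  rw [hx, map_zero] at h1
  have h2 : iU (A := A) G i V k (T A G V k (k + 1) (Nat.le_succ k)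
      ((limit.π G (op (k + 1))).app V x)) = 0 := by
    rw [iU_T f G i hfac]
    exact h1.symm
  have h3 := iU_injective G i hmono V k (h2.trans (map_zero _).symm)
  rw [← h3]
  exact (congrArg (fun φ : limit G ⟶ G.obj (op k) => φ.app V x)
    (limit.w G (homOfLE (Nat.le_succ k)).op)).symm

include hmono hfac hse in
theorem epi_π (hqc : ∀ n : ℕᵒᵖ, Coh.IsQCoh (G.obj n)) (n : ℕ) : Epi (limit.π G (op n)) := by
  refine epi_of_locally_surjective _ (fun W t x hx => ?_)
  obtain ⟨U, hU, hxU, hUW⟩ := exists_affine_nbhd hx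
  have hsurj := T_succ_surjective (fun k => Γ(G.obj (op k), U)) (T A G U) (T_comp G U) f
    (iU G i U) (iU_injective G i hmono U) (iU_T f G i hfac U) (iU_ex G i hmono w hse U)
    (T0_surjective G i w hse hqc hU)
  obtain ⟨z, hz, hzn⟩ := Groth.Agent.S0852.exists_compat_of_surjective
    (fun k => Γ(G.obj (op k), U)) (T A G U) (T_comp G U) (T_id G U) hsurj n
    ((G.obj (op n)).presheaf.map (homOfLE hUW).op t)
  obtain ⟨ξ, hξ⟩ := exists_section_limit G U z hz
  exact ⟨U, hUW, hxU, ξ, (hξ n).trans hzn⟩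

include hmono hfac hse in
theorem exact_π (n : ℕ)
    (h : Formal.smulFamily (Ideal.span ({f} : Set A) ^ (n + 1)) (limit G) ≫ limit.π G (op n) = 0) :
    (ShortComplex.mk _ _ h).Exact := by
  refine exact_of_locally_exact _ (fun W y hy x hx => ?_)
  let yk : ∀ k, Γ(G.obj (op k), W) := fun k => (limit.π G (op k)).app W y
  have hyk : ∀ (l K : ℕ) (h : l ≤ K), T A G W l K h (yk K) = yk l := fun l K h =>
    congrArg (fun φ : limit G ⟶ G.obj (op l) => φ.app W y) (limit.w G (homOfLE h).op)
  have hyn : yk n = 0 := hy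
  obtain ⟨z, hz, hyz⟩ := exists_pow_decomposition (fun k => Γ(G.obj (op k), W)) (T A G W)
    (T_comp G W) f (iU G i W) (iU_injective G i hmono W) (iU_T f G i hfac W)
    (iU_ex G i hmono w hse W) n yk hyk hyn
  obtain ⟨ξ, hξ⟩ := exists_section_limit G W z hz
  have hmem : f ^ (n + 1) ∈ Ideal.span ({f} : Set A) ^ (n + 1) :=
    Ideal.pow_mem_pow (Ideal.subset_span (Set.mem_singleton f)) _
  refine ⟨W, le_rfl, hx,
    (Sigma.ι (fun _ : ↥(Ideal.span ({f} : Set A) ^ (n + 1)) => limit G) ⟨f ^ (n + 1), hmem⟩).app W ξ,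
    ?_⟩
  have hid : (limit G).presheaf.map (homOfLE (le_refl W)).op y = y := by
    have : (homOfLE (le_refl W)).op = 𝟙 (op W) := rfl
    rw [this, (limit G).presheaf.map_id]
    rfl
  change (Formal.smulFamily (Ideal.span ({f} : Set A) ^ (n + 1)) (limit G)).app W _ =
    (limit G).presheaf.map (homOfLE (le_refl W)).op y
  rw [hid]
  have e1 : (Formal.smulFamily (Ideal.span ({f} : Set A) ^ (n + 1)) (limit G)).app W
      ((Sigma.ι (fun _ : ↥(Ideal.span ({f} : Set A) ^ (n + 1)) => limit G)
        ⟨f ^ (n + 1), hmem⟩).app W ξ) = ρ W (f ^ (n + 1)) • ξ :=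
    congrArg (fun φ : limit G ⟶ limit G => φ.app W ξ)
      (Groth.Agent.S0832.ι_smulFamily (Ideal.span ({f} : Set A) ^ (n + 1)) (limit G)
        ⟨f ^ (n + 1), hmem⟩)
  rw [e1]
  apply section_limit_ext G W
  intro k
  rw [Scheme.Modules.Hom.app_smul, hξ k]
  exact (hyz k).symm

include hmono hfac hse in
theorem main (hqc : ∀ n : ℕᵒᵖ, Coh.IsQCoh (G.obj n)) :
    ∃ F : X.Modules, Mono (Formal.smulMod A F f) ∧
      Nonempty (Formal.completion (Ideal.span ({f} : Set A)) F ≅ G) := by
  refine ⟨limit G, mono_smul f G i hmono hfac, ?_⟩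
  refine completion_iso_of_isColimit (limit G) G (fun n => limit.π G (op n))
    (fun n => limit.w G (homOfLE (Nat.le_succ n)).op) (fun n => ?_)
  have h : Formal.smulFamily (Ideal.span ({f} : Set A) ^ (n + 1)) (limit G) ≫ limit.π G (op n) = 0 := by
    rw [Groth.Agent.S0832.smulFamily_comp_eq_zero_iff]
    intro a ha
    rw [Ideal.span_singleton_pow] at ha
    have hc : Ideal.span (Set.range (fun _ : Unit => f ^ (n + 1))) = Ideal.span {f ^ (n + 1)} := by
      congr 1
      ext b
      simp
    refine Groth.Agent.S0852.smulMod_comp_eq_zero_of_span _ (fun _ : Unit => f ^ (n + 1))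
      (fun _ => ?_) (hc ▸ ha)
    rw [Groth.Agent.S0832.smulMod_naturality, killed f G i hfac w hse n, comp_zero]
  refine ⟨h, ?_⟩
  haveI : Epi (ShortComplex.mk _ _ h).g := epi_π f G i hmono hfac w hse hqc n
  exact ⟨(exact_π f G i hmono hfac w hse n h).gIsCokernel⟩

end Main


/-- Implication (1) ⇒ (4) for quasi-coherent systems on a scheme, with f taken in a base ring A over
which X lives. Let (F_n)_{n ≥ 1} be an inverse system of quasi-coherent O_X-modules, indexed here so
that position n holds F_{n+1}. Assume (1): for every n ≥ 1, multiplication by f on F_{n+1} factors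
as the transition map F_{n+1} → F_n followed by a monomorphism i : F_n → F_{n+1}, and F_n → F_{n+1}
→ F_1 (second map the transition map to the first term) is short exact. Then (4): there is an
O_X-module F on which multiplication by f is a monomorphism and whose system of quotients
(F/f^nF)_{n ≥ 1} is isomorphic to (F_n) as an inverse system (existence of an isomorphism). -/
theorem result (A : Type u) [CommRing A] (X : Scheme.{u}) [X.Over (Spec (CommRingCat.of A))] (f : A) (G : ℕᵒᵖ ⥤ X.Modules) (hqc : ∀ n : ℕᵒᵖ, Coh.IsQCoh (G.obj n)) (h1 : ∀ n : ℕ, ∃ i : G.obj (op n) ⟶ G.obj (op (n + 1)), Mono i ∧ G.map (homOfLE (Nat.le_succ n)).op ≫ i = Formal.smulMod A (G.obj (op (n + 1))) f ∧ ∃ w : i ≫ G.map (homOfLE (Nat.zero_le (n + 1))).op = 0, (ShortComplex.mk i (G.map (homOfLE (Nat.zero_le (n + 1))).op) w).ShortExact) : ∃ F : X.Modules, Mono (Formal.smulMod A F f) ∧ Nonempty (Formal.completion (Ideal.span ({f} : Set A)) F ≅ G) := by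
  choose i hmono hfac hw using h1
  choose w hse using hw
  exact main f G i hmono hfac w hse hqc

end Groth.Agent.S8830
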