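import Groth.Statements.S9530
-- import your own Groth.Agent.* helpers here
import Groth.Agent.S0832

set_option autoImplicit false
universe u
open CategoryTheory CategoryTheory.Limits AlgebraicGeometry Opposite
open Algz

namespace Groth.Agent.S9530

section Aux
open CategoryTheory CategoryTheory.Limits AlgebraicGeometry Opposite

variable {A : Type u} [CommRing A] {X : Scheme.{u}} [X.Over (Spec (CommRingCat.of A))]
  {I : Ideal A} {F : ℕᵒᵖ ⥤ X.Modules}

/-- Maps from `F_k` to a module killed by `I^(n+1)` factor uniquely through `F_k → F_n`. -/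
theorem exists_desc (hF : Formal.IsCohFormal I F) {n k : ℕ} (h : n ≤ k) {N : X.Modules}
    (hN : Formal.KilledBy (I ^ (n + 1)) N) (g : F.obj (op k) ⟶ N) :
    Epi (F.map (homOfLE h).op) ∧ ∃ g' : F.obj (op n) ⟶ N, F.map (homOfLE h).op ≫ g' = g := by
  obtain ⟨h0, ⟨hc⟩⟩ := Groth.Agent.S0832.key' hF h
  refine ⟨epi_of_isColimit_cofork hc, ?_⟩
  have hg : Formal.smulFamily (I ^ (n + 1)) (F.obj (op k)) ≫ g = 0 := by
    rw [Groth.Agent.S0832.smulFamily_comp_eq_zero_iff]
    intro a ha
    rw [Groth.Agent.S0832.smulMod_naturality, hN a ha, comp_zero]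
  obtain ⟨g', hg'⟩ := CokernelCofork.IsColimit.desc' hc g hg
  exact ⟨g', hg'⟩

/-- Abstract factorization through a levelwise epimorphism. -/
theorem existsUnique_factor {C : Type*} [Category C] {J : Type*} [Category J] {P F G : J ⥤ C}
    (π : P ⟶ F) (α : P ⟶ G) (hepi : ∀ j, Epi (π.app j))
    (hex : ∀ j, ∃ b : F.obj j ⟶ G.obj j, π.app j ≫ b = α.app j) :
    ∃! β : F ⟶ G, π ≫ β = α := by
  choose b hb using hex
  have hnat : ∀ {j j' : J} (f : j ⟶ j'), F.map f ≫ b j' = b j ≫ G.map f := by
    intro j j' f
    haveI := hepi j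
    rw [← cancel_epi (π.app j), ← Category.assoc, ← π.naturality f, Category.assoc, hb j',
      α.naturality f, ← Category.assoc, hb j]
  refine ⟨{ app := b, naturality := fun _ _ f => hnat f }, ?_, ?_⟩
  · ext j
    exact hb j
  · intro β' hβ'
    ext j
    haveI := hepi j
    rw [← cancel_epi (π.app j)]
    change (π ≫ β').app j = _
    rw [hβ']
    exact (hb j).symm

end Aux


/-- The functor from Coh(X, I O_X) to pro-objects of quasi-coherent modules is fully faithful: for the
ideal sheaf I O_X of an ideal I of a base ring A and with positions shifted by one. Let X be a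
Noetherian scheme over Spec A and F, G objects of Coh(X, I O_X). Let m be a monotone self-map of ℕ
with n ≤ m n, let π be the levelwise map from the re-indexed system n ↦ F_(m n) to F whose
components are the transition maps of F, and let α be any levelwise map from the re-indexed system
to G. Then α factors as π followed by a unique morphism of systems β from F to G. (Existence is
fullness on this representative of a pro-morphism, uniqueness is faithfulness.) -/
theorem result (A : Type u) [CommRing A] (I : Ideal A) (X : Scheme.{u})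
    [X.Over (Spec (CommRingCat.of A))] [IsNoetherian X] (F G : ℕᵒᵖ ⥤ X.Modules)
    (hF : Formal.IsCohFormal I F) (hG : Formal.IsCohFormal I G) (m : ℕ → ℕ) (hm : Monotone m)
    (hle : ∀ n : ℕ, n ≤ m n) (π : DerCA.reindex F hm ⟶ F)
    (hπ : ∀ n : ℕ, π.app (op n) = F.map (homOfLE (hle n)).op) (α : DerCA.reindex F hm ⟶ G) :
    ∃! β : F ⟶ G, π ≫ β = α := by
  refine existsUnique_factor π α (fun j => ?_) (fun j => ?_)
  · obtain ⟨n⟩ := j
    rw [hπ n]
    exact (exists_desc hF (hle n) (hG.2.1 n) (α.app (op n))).1
  · obtain ⟨n⟩ := j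
    rw [hπ n]
    exact (exists_desc hF (hle n) (hG.2.1 n) (α.app (op n))).2

end Groth.Agent.S9530
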