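import Groth.Statements.S9552
-- import your own Groth.Agent.* helpers here
import Groth.Agent.S9530

set_option autoImplicit false
universe u
open CategoryTheory CategoryTheory.Limits AlgebraicGeometry Opposite
open Algz

namespace Groth.Agent.S9552

section Aux
open CategoryTheory CategoryTheory.Limits AlgebraicGeometry Opposite

variable {A : Type u} [CommRing A] {X : Scheme.{u}} [X.Over (Spec (CommRingCat.of A))]
  {I : Ideal A} {F G : ℕᵒᵖ ⥤ X.Modules}

/-- The canonical levelwise map from the re-indexed system. -/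
noncomputable def reindexπ (F : ℕᵒᵖ ⥤ X.Modules) {m : ℕ → ℕ} (hm : Monotone m)
    (hle : ∀ n, n ≤ m n) : DerCA.reindex F hm ⟶ F where
  app j := F.map (homOfLE (hle j.unop)).op
  naturality j j' f := by
    have e : (Monotone.functor hm).op.map f ≫ (show (Monotone.functor hm).op.obj j' ⟶ j' from
        (homOfLE (hle j'.unop)).op) =
        (show (Monotone.functor hm).op.obj j ⟶ j from (homOfLE (hle j.unop)).op) ≫ f :=
      Subsingleton.elim _ _
    exact (F.map_comp _ _).symm.trans ((congrArg F.map e).trans (F.map_comp _ _))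

theorem iso_of_proIso (hF : Formal.IsCohFormal I F) (hG : Formal.IsCohFormal I G)
    (h : Algz.IsProIsomorphic F G) : Nonempty (F ≅ G) := by
  obtain ⟨m, hm, hle, a, ha⟩ := h
  let π := reindexπ F hm hle
  have hπepi : ∀ n : ℕ, Epi (π.app (op n)) := fun n =>
    (Groth.Agent.S9530.exists_desc hF (hle n) (hG.2.1 n) (a.app (op n))).1
  obtain ⟨β, hβ, -⟩ := Groth.Agent.S9530.existsUnique_factor π a
    (fun j => by obtain ⟨n⟩ := j; exact hπepi n)
    (fun j => by
      obtain ⟨n⟩ := j
      exact (Groth.Agent.S9530.exists_desc hF (hle n) (hG.2.1 n) (a.app (op n))).2)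
  have hβ' : ∀ j, π.app j ≫ β.app j = a.app j := fun j => congrArg (fun t => t.app j) hβ
  haveI : ∀ j, IsIso (β.app j) := by
    intro j
    obtain ⟨n⟩ := j
    obtain ⟨k, hnk, b, hb1, hb2⟩ := ha n
    obtain ⟨hGepi, γ, hγ⟩ := Groth.Agent.S9530.exists_desc hG hnk (hF.2.1 n) (b ≫ π.app (op n))
    obtain ⟨hFepi, -⟩ := Groth.Agent.S9530.exists_desc hF hnk (hG.2.1 n)
      (F.map (homOfLE hnk).op ≫ β.app (op n))
    refine ⟨γ, ?_, ?_⟩
    · haveI := hπepi k
      rw [← cancel_epi (F.map (homOfLE hnk).op), ← cancel_epi (π.app (op k))]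
      have e1 : F.map (homOfLE hnk).op ≫ β.app (op n) = β.app (op k) ≫ G.map (homOfLE hnk).op :=
        β.naturality (homOfLE hnk).op
      have e2 : (DerCA.reindex F hm).map (homOfLE hnk).op ≫ π.app (op n) =
          π.app (op k) ≫ F.map (homOfLE hnk).op := π.naturality (homOfLE hnk).op
      calc π.app (op k) ≫ F.map (homOfLE hnk).op ≫ β.app (op n) ≫ γ
          = (π.app (op k) ≫ β.app (op k)) ≫ G.map (homOfLE hnk).op ≫ γ := by
            rw [← Category.assoc (F.map _), e1]
            simp only [Category.assoc]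
        _ = (a.app (op k) ≫ b) ≫ π.app (op n) := by
            rw [hβ', hγ]
            simp only [Category.assoc]
        _ = π.app (op k) ≫ F.map (homOfLE hnk).op ≫ 𝟙 _ := by
            rw [hb1, Category.comp_id]
            exact e2
    · rw [← cancel_epi (G.map (homOfLE hnk).op), ← Category.assoc, hγ, Category.assoc, hβ',
        Category.comp_id]
      exact hb2
  haveI : IsIso β := NatIso.isIso_of_isIso_app β
  exact ⟨asIso β⟩

end Aux


/-- For the ideal sheaf I O_X of an ideal I of a base ring A and a Noetherian scheme X over Spec A, two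
objects of Coh(X, I O_X) which are pro-isomorphic are isomorphic as inverse systems (existence of an
isomorphism; positions shifted by one). -/
theorem result (A : Type u) [CommRing A] (I : Ideal A) (X : Scheme.{u})
    [X.Over (Spec (CommRingCat.of A))] [IsNoetherian X] (F G : ℕᵒᵖ ⥤ X.Modules)
    (hF : Formal.IsCohFormal I F) (hG : Formal.IsCohFormal I G) (h : Algz.IsProIsomorphic F G) :
    Nonempty (F ≅ G) := by
  exact iso_of_proIso hF hG h

end Groth.Agent.S9552
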