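import Groth.Statements.S9531
-- import your own Groth.Agent.* helpers here
import Groth.Agent.S9552
import Groth.Agent.H8.QCohPush
import Groth.Agent.H90.QCohHom

set_option autoImplicit false
universe u v
open CategoryTheory CategoryTheory.Limits AlgebraicGeometry Opposite
open Algz

namespace Groth.Agent.S9531

section Pro
open CategoryTheory CategoryTheory.Limits Opposite

variable {C : Type u} [Category.{v} C] {D : Type u} [Category.{v} D]

/-- Functors preserve pro-isomorphic systems. -/
theorem isProIsomorphic_map (Φ : C ⥤ D) {X Y : ℕᵒᵖ ⥤ C} (h : Algz.IsProIsomorphic X Y) :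
    Algz.IsProIsomorphic (X ⋙ Φ) (Y ⋙ Φ) := by
  obtain ⟨m, hm, hle, a, ha⟩ := h
  refine ⟨m, hm, hle, { app := fun j => Φ.map (a.app j), naturality := ?_ }, ?_⟩
  · intro j j' f
    change Φ.map ((DerCA.reindex X hm).map f) ≫ Φ.map (a.app j') = Φ.map (a.app j) ≫ Φ.map (Y.map f)
    rw [← Φ.map_comp, ← Φ.map_comp, a.naturality]
  · intro n
    obtain ⟨k, hk, b, hb1, hb2⟩ := ha n
    refine ⟨k, hk, Φ.map b, ?_, ?_⟩
    · change Φ.map (a.app (op k)) ≫ Φ.map b = Φ.map (ARSys.tr (DerCA.reindex X hm) hk)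
      rw [← Φ.map_comp, hb1]
    · change Φ.map b ≫ Φ.map (a.app (op n)) = Φ.map (ARSys.tr Y hk)
      rw [← Φ.map_comp, hb2]

/-- Pro-isomorphy is invariant under isomorphism of the source system. -/
theorem isProIsomorphic_of_iso_left {X X' Y : ℕᵒᵖ ⥤ C} (e : X ≅ X')
    (h : Algz.IsProIsomorphic X Y) : Algz.IsProIsomorphic X' Y := by
  obtain ⟨m, hm, hle, a, ha⟩ := h
  refine ⟨m, hm, hle,
    { app := fun j => e.inv.app ((Monotone.functor hm).op.obj j) ≫ a.app j, naturality := ?_ }, ?_⟩
  · intro j j' f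
    change X'.map ((Monotone.functor hm).op.map f) ≫ e.inv.app _ ≫ a.app j' =
      (e.inv.app _ ≫ a.app j) ≫ Y.map f
    have h1 : X'.map ((Monotone.functor hm).op.map f) ≫ e.inv.app ((Monotone.functor hm).op.obj j') =
        e.inv.app ((Monotone.functor hm).op.obj j) ≫ X.map ((Monotone.functor hm).op.map f) :=
      e.inv.naturality _
    have h2 : X.map ((Monotone.functor hm).op.map f) ≫ a.app j' = a.app j ≫ Y.map f :=
      a.naturality f
    rw [← Category.assoc, h1, Category.assoc, h2, Category.assoc]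
  · intro n
    obtain ⟨k, hk, b, hb1, hb2⟩ := ha n
    refine ⟨k, hk, b ≫ e.hom.app ((Monotone.functor hm).op.obj (op n)), ?_, ?_⟩
    · change (e.inv.app _ ≫ a.app (op k)) ≫ b ≫ e.hom.app _ =
        X'.map ((Monotone.functor hm).op.map (homOfLE hk).op)
      have hb1' : a.app (op k) ≫ b = X.map ((Monotone.functor hm).op.map (homOfLE hk).op) := hb1
      rw [Category.assoc, ← Category.assoc (a.app (op k)), hb1', e.hom.naturality,
        Iso.inv_hom_id_app_assoc]
    · change (b ≫ e.hom.app _) ≫ e.inv.app _ ≫ a.app (op n) = _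
      rw [Category.assoc, Iso.hom_inv_id_app_assoc]
      exact hb2

end Pro

section Formal
open CategoryTheory CategoryTheory.Limits AlgebraicGeometry Opposite

variable {A : Type u} [CommRing A] {X Y : Scheme.{u}} [X.Over (Spec (CommRingCat.of A))]
  [Y.Over (Spec (CommRingCat.of A))] {I : Ideal A}

/-- `IsCohFormal` is invariant under isomorphism of systems. -/
theorem isCohFormal_of_iso {F F' : ℕᵒᵖ ⥤ X.Modules} (e : F ≅ F')
    (hF : Formal.IsCohFormal I F) : Formal.IsCohFormal I F' := by
  obtain ⟨hcoh, hkill, hiso⟩ := hF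
  refine ⟨fun n => Groth.Agent.H90.QH.isCoh_of_iso (e.app (op n)) (hcoh n), fun n a ha => ?_,
    fun n => ?_⟩
  · have h1 := Groth.Agent.S0832.smulMod_naturality (e.inv.app (op n)) a
    rw [hkill n a ha, comp_zero] at h1
    exact (cancel_mono (e.inv.app (op n))).1 (h1.trans zero_comp.symm)
  · obtain ⟨h, hi⟩ := hiso n
    haveI := hi
    obtain ⟨hc⟩ := Groth.Agent.S0835.isColimit_of_isIso_desc _ _ h
    obtain ⟨h', ⟨hc'⟩⟩ := Groth.Agent.S0832.isColimit_iso_comp (e.inv.app (op (n + 1))) _ h hc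
    have hnat : e.inv.app (op (n + 1)) ≫ F.map (homOfLE (Nat.le_succ n)).op =
        F'.map (homOfLE (Nat.le_succ n)).op ≫ e.inv.app (op n) := (e.inv.naturality _).symm
    have h'' : Formal.smulFamily (I ^ (n + 1)) (F'.obj (op (n + 1))) ≫
        F'.map (homOfLE (Nat.le_succ n)).op = 0 := by
      rw [← cancel_mono (e.inv.app (op n)), Category.assoc, ← hnat, h', zero_comp]
    refine ⟨h'', Groth.Agent.S0835.isIso_desc_of_isColimit _ _ h'' ?_⟩
    refine IsColimit.ofIsoColimit hc' (Cofork.ext (e.app (op n)) ?_)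
    change (e.inv.app (op (n + 1)) ≫ F.map (homOfLE (Nat.le_succ n)).op) ≫ e.hom.app (op n) =
      F'.map (homOfLE (Nat.le_succ n)).op
    rw [hnat, Category.assoc, Iso.inv_hom_id_app, Category.comp_id]

/-- Pullback of a coherent formal system (no Noetherian hypotheses). -/
theorem isCohFormal_pullback (f : X ⟶ Y)
    (hf : f ≫ (Y ↘ Spec (CommRingCat.of A)) = X ↘ Spec (CommRingCat.of A))
    (G : ℕᵒᵖ ⥤ Y.Modules) (hG : Formal.IsCohFormal I G) :
    Formal.IsCohFormal I (G ⋙ Scheme.Modules.pullback f) := by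
  obtain ⟨hcoh, hkill, hiso⟩ := hG
  refine ⟨fun n => ?_, fun n a ha => ?_, fun n => ?_⟩
  · haveI : (G.obj (Opposite.op n)).IsQuasicoherent := (hcoh n).1
    haveI : SheafOfModules.IsFiniteType (R := Y.ringCatSheaf) (G.obj (Opposite.op n)) := (hcoh n).2
    exact ⟨Groth.Agent.H8.isQuasicoherent_pullback f _, Groth.Agent.H8.isFiniteType_pullback f _⟩
  · change Formal.smulMod A ((Scheme.Modules.pullback f).obj (G.obj (Opposite.op n))) a = 0
    rw [← Groth.Agent.S0835.pullback_map_smulMod f hf, hkill n a ha, Functor.map_zero]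
  · obtain ⟨h, hi⟩ := hiso n
    exact Groth.Agent.S0835.aux f hf _ _ h hi

/-- Restriction of a coherent formal system along an open immersion. -/
theorem isCohFormal_restrict (f : X ⟶ Y) [IsOpenImmersion f]
    (hf : f ≫ (Y ↘ Spec (CommRingCat.of A)) = X ↘ Spec (CommRingCat.of A))
    (G : ℕᵒᵖ ⥤ Y.Modules) (hG : Formal.IsCohFormal I G) :
    Formal.IsCohFormal I (G ⋙ Scheme.Modules.restrictFunctor f) :=
  isCohFormal_of_iso (Functor.isoWhiskerLeft G (Scheme.Modules.restrictFunctorIsoPullback f)).symm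
    (isCohFormal_pullback f hf G hG)

end Formal

section Sect
open CategoryTheory CategoryTheory.Limits AlgebraicGeometry Opposite

variable (A : Type u) [CommRing A]

/-- The canonical map `(H⁰(U, G_n))~|_U ⟶ G_n`. -/
noncomputable def sectSysRestrictHom (U : (Spec (CommRingCat.of A)).Opens)
    (G : ℕᵒᵖ ⥤ (U : Scheme.{u}).Modules) : Algz.restrictSys U (Algz.sectSys A U G) ⟶ G where
  app n := (Scheme.Modules.restrictFunctor U.ι).map
      ((Scheme.Modules.fromTildeΓNatTrans (R := CommRingCat.of A)).app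
        ((Scheme.Modules.pushforward U.ι).obj (G.obj n))) ≫
    (Scheme.Modules.restrictFunctorAdjCounitIso U.ι).hom.app (G.obj n)
  naturality n n' g := by
    have h1 := (Scheme.Modules.fromTildeΓNatTrans (R := CommRingCat.of A)).naturality
      ((Scheme.Modules.pushforward U.ι).map (G.map g))
    have h2 := (Scheme.Modules.restrictFunctorAdjCounitIso U.ι).hom.naturality (G.map g)
    have h1' := congrArg (Scheme.Modules.restrictFunctor U.ι).map h1
    rw [Functor.map_comp, Functor.map_comp] at h1'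
    exact (Category.assoc _ _ _).symm.trans
      ((congrArg (· ≫ (Scheme.Modules.restrictFunctorAdjCounitIso U.ι).hom.app (G.obj n')) h1').trans
        ((Category.assoc _ _ _).trans
          ((congrArg ((Scheme.Modules.restrictFunctor U.ι).map
            ((Scheme.Modules.fromTildeΓNatTrans (R := CommRingCat.of A)).app
              ((Scheme.Modules.pushforward U.ι).obj (G.obj n))) ≫ ·) h2).trans
            (Category.assoc _ _ _).symm)))

theorem isIso_fromTildeΓNatTrans_app (M : (Spec (CommRingCat.of A)).Modules)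
    [hM : M.IsQuasicoherent] :
    IsIso ((Scheme.Modules.fromTildeΓNatTrans (R := CommRingCat.of A)).app M) :=
  @Scheme.Modules.isIso_fromTildeΓ_of_isQuasicoherent (CommRingCat.of A) M hM

theorem isIso_comp_aux {C D : Type*} [Category C] [Category D] (R : C ⥤ D) {X Y : C} (x : X ⟶ Y)
    [IsIso x] {Z : D} (c : R.obj Y ⟶ Z) [IsIso c] : IsIso (R.map x ≫ c) := inferInstance

theorem isIso_sectSysRestrictHom [IsNoetherianRing A] (U : (Spec (CommRingCat.of A)).Opens)
    (G : ℕᵒᵖ ⥤ (U : Scheme.{u}).Modules) (hG : ∀ n, (G.obj n).IsQuasicoherent) :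
    IsIso (sectSysRestrictHom A U G) := by
  haveI : ∀ n, IsIso ((sectSysRestrictHom A U G).app n) := by
    intro n
    haveI := hG n
    haveI : ((Scheme.Modules.pushforward U.ι).obj (G.obj n)).IsQuasicoherent :=
      Groth.Agent.H8.isQuasicoherent_pushforward U.ι (G.obj n)
    haveI h1 := isIso_fromTildeΓNatTrans_app A ((Scheme.Modules.pushforward U.ι).obj (G.obj n))
    exact @isIso_comp_aux _ _ _ _ (Scheme.Modules.restrictFunctor U.ι) _ _ _ h1 _
      ((Scheme.Modules.restrictFunctorAdjCounitIso U.ι).hom.app (G.obj n)) inferInstance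
  exact NatIso.isIso_of_isIso_app _

end Sect

section Main
open CategoryTheory CategoryTheory.Limits AlgebraicGeometry Opposite

theorem main (A : Type u) [CommRing A] [IsNoetherianRing A] (I : Ideal A)
    (U : (Spec (CommRingCat.of A)).Opens)
    (G : ℕᵒᵖ ⥤ (U : Scheme.{u}).Modules) (hG : Formal.IsCohFormal I G)
    (h : Algz.CanonicallyExtends A I U G) :
    @Algz.Extends A _ (Spec (CommRingCat.of A)) ⟨𝟙 (Spec (CommRingCat.of A))⟩ I U G := by
  letI : (Spec (CommRingCat.of A)).Over (Spec (CommRingCat.of A)) := ⟨𝟙 _⟩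
  obtain ⟨G', hG', hpro⟩ := h
  refine ⟨G', hG', ?_⟩
  have h1 : Algz.IsProIsomorphic (Algz.restrictSys U (Algz.sectSys A U G)) (Algz.restrictSys U G') :=
    isProIsomorphic_map (Scheme.Modules.restrictFunctor U.ι) hpro
  haveI := isIso_sectSysRestrictHom A U G (fun n => (hG.1 n.unop).1)
  have h2 : Algz.IsProIsomorphic G (Algz.restrictSys U G') :=
    isProIsomorphic_of_iso_left (asIso (sectSysRestrictHom A U G)) h1
  have h3 : Formal.IsCohFormal I (Algz.restrictSys U G') :=
    isCohFormal_restrict U.ι (Category.comp_id _) G' hG'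
  obtain ⟨e⟩ := Groth.Agent.S9552.iso_of_proIso hG h3 h2
  exact ⟨e.symm⟩

end Main


/-- Let A be a Noetherian ring, I ⊆ 𝔞 ideals, U = Spec A ∖ V(𝔞), and take (F_n) in Coh(U, I O_U).
Suppose (F_n) extends canonically to Spec A; then (F_n) extends to Spec A: there is an object of
Coh(Spec A, I O) whose restriction to U is isomorphic to (F_n). (Spec A is regarded over itself
through the identity.) -/
theorem result (A : Type u) [CommRing A] [IsNoetherianRing A] (I 𝔞 : Ideal A) (hI𝔞 : I ≤ 𝔞)
    (G : ℕᵒᵖ ⥤ (↑(LocCoh.puncturedOpen A 𝔞) : Scheme.{u}).Modules) (hG : Formal.IsCohFormal I G)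
    (h : Algz.CanonicallyExtends A I (LocCoh.puncturedOpen A 𝔞) G) :
    @Algz.Extends A _ (Spec (CommRingCat.of A)) ⟨𝟙 (Spec (CommRingCat.of A))⟩ I (LocCoh.puncturedOpen A 𝔞) G := by
  exact main A I (LocCoh.puncturedOpen A 𝔞) G hG h

end Groth.Agent.S9531
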