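import Groth.Statements.S9536
-- import your own Groth.Agent.* helpers here
import Groth.Agent.S9531
import Groth.Agent.S8830
import Groth.Agent.S2269
import Groth.Agent.H95.QCohColim
import Groth.Agent.H8.CohKerCoker

set_option autoImplicit false
universe u
open CategoryTheory CategoryTheory.Limits AlgebraicGeometry Opposite
open Algz

namespace Groth.Agent.S9536

section Completion
open CategoryTheory CategoryTheory.Limits AlgebraicGeometry Opposite

variable {A : Type u} [CommRing A] {X : Scheme.{u}} [X.Over (Spec (CommRingCat.of A))] (I : Ideal A)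

theorem isQuasicoherent_sigma_const (J : Type u) (N : X.Modules) [N.IsQuasicoherent] :
    (∐ fun _ : J => N).IsQuasicoherent :=
  Groth.Agent.H95.QCohColim.isQuasicoherent_colimit (Discrete.functor fun _ : J => N)
    (fun _ => inferInstanceAs N.IsQuasicoherent)

instance epi_modPowπ (N : X.Modules) (n : ℕ) : Epi (Formal.modPowπ I n N) :=
  inferInstanceAs (Epi (cokernel.π (Formal.smulFamily (I ^ n) N)))

instance epi_modPowTrans (N : X.Modules) (n : ℕ) : Epi (Formal.modPowTrans I n N) :=
  epi_of_epi_fac (Formal.modPowπ_trans I n N)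

theorem isCoh_modPow (N : X.Modules) (hN : Coh.IsCoh N) (n : ℕ) : Coh.IsCoh (Formal.modPow I n N) := by
  haveI : N.IsQuasicoherent := hN.1
  haveI : SheafOfModules.IsFiniteType (R := X.ringCatSheaf) N := hN.2
  haveI := isQuasicoherent_sigma_const (↥(I ^ n)) N
  exact ⟨Groth.Agent.H8.isQuasicoherent_cokernel (Formal.smulFamily (I ^ n) N),
    Groth.Agent.H8.isFiniteType_of_epi (Formal.modPowπ I n N)⟩

theorem killedBy_modPow (N : X.Modules) (n : ℕ) : Formal.KilledBy (I ^ n) (Formal.modPow I n N) := by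
  intro a ha
  rw [← cancel_epi (Formal.modPowπ I n N), comp_zero, ← Groth.Agent.S0832.smulMod_naturality,
    ← Groth.Agent.S0832.ι_smulFamily (I ^ n) N ⟨a, ha⟩, Category.assoc]
  have : Formal.smulFamily (I ^ n) N ≫ Formal.modPowπ I n N = 0 := cokernel.condition _
  rw [this, comp_zero]

theorem modPowTrans_isColimit (N : X.Modules) (n : ℕ) :
    ∃ h : Formal.smulFamily (I ^ n) (Formal.modPow I (n + 1) N) ≫ Formal.modPowTrans I n N = 0,
      Nonempty (IsColimit (CokernelCofork.ofπ (Formal.modPowTrans I n N) h)) := by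
  have h : Formal.smulFamily (I ^ n) (Formal.modPow I (n + 1) N) ≫ Formal.modPowTrans I n N = 0 := by
    rw [Groth.Agent.S0832.smulFamily_comp_eq_zero_iff]
    intro a ha
    rw [Groth.Agent.S0832.smulMod_naturality, killedBy_modPow I N n a ha, comp_zero]
  refine ⟨h, ⟨CokernelCofork.IsColimit.ofπ' _ _ (fun {Z} g hg => ?_)⟩⟩
  have h1 : Formal.smulFamily (I ^ n) N ≫ Formal.modPowπ I (n + 1) N ≫ g = 0 := by
    rw [Groth.Agent.S0832.smulFamily_comp_eq_zero_iff]
    intro a ha
    rw [← Category.assoc, Groth.Agent.S0832.smulMod_naturality, Category.assoc,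
      (Groth.Agent.S0832.smulFamily_comp_eq_zero_iff _ g).1 hg a ha, comp_zero]
  let l : Formal.modPow I n N ⟶ Z := cokernel.desc _ _ h1
  have hl : Formal.modPowπ I n N ≫ l = Formal.modPowπ I (n + 1) N ≫ g := cokernel.π_desc _ _ _
  refine ⟨l, ?_⟩
  rw [← cancel_epi (Formal.modPowπ I (n + 1) N), ← Category.assoc, Formal.modPowπ_trans]
  exact hl

theorem isCohFormal_completion (N : X.Modules) (hN : Coh.IsCoh N) :
    Formal.IsCohFormal I (Formal.completion I N) := by
  refine ⟨fun n => isCoh_modPow I N hN (n + 1), fun n => killedBy_modPow I N (n + 1), fun n => ?_⟩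
  have e : (Formal.completion I N).map (homOfLE (Nat.le_succ n)).op = Formal.modPowTrans I (n + 1) N :=
    Functor.ofOpSequence_map_homOfLE_succ _ n
  obtain ⟨h, ⟨hc⟩⟩ := modPowTrans_isColimit I N (n + 1)
  have h' : Formal.smulFamily (I ^ (n + 1)) ((Formal.completion I N).obj (op (n + 1))) ≫
      (Formal.completion I N).map (homOfLE (Nat.le_succ n)).op = 0 := by
    rw [e]; exact h
  refine ⟨h', Groth.Agent.S0835.isIso_desc_of_isColimit _ _ h' ?_⟩
  exact IsColimit.ofIsoColimit hc (Cofork.ext (Iso.refl _) (by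
    change Formal.modPowTrans I (n + 1) N ≫ 𝟙 _ = (Formal.completion I N).map (homOfLE (Nat.le_succ n)).op
    rw [Category.comp_id, e]))

/-- The completion only depends on the module up to isomorphism. -/
theorem completion_congr {M M' : X.Modules} (ψ : M ≅ M') :
    Nonempty (Formal.completion I M ≅ Formal.completion I M') := by
  have e : ∀ n : ℕ, (Formal.completion I M').map (homOfLE (Nat.le_succ n)).op =
      Formal.modPowTrans I (n + 1) M' := fun n => Functor.ofOpSequence_map_homOfLE_succ _ n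
  refine Groth.Agent.S8830.completion_iso_of_isColimit M (Formal.completion I M')
    (fun n => ψ.hom ≫ Formal.modPowπ I (n + 1) M') (fun n => ?_) (fun n => ?_)
  · rw [e]
    change (ψ.hom ≫ Formal.modPowπ I (n + 1 + 1) M') ≫ Formal.modPowTrans I (n + 1) M' =
      ψ.hom ≫ Formal.modPowπ I (n + 1) M'
    rw [Category.assoc, Formal.modPowπ_trans]
  · exact Groth.Agent.S0832.isColimit_iso_comp ψ.hom (Formal.modPowπ I (n + 1) M')
      (cokernel.condition _) (cokernelIsCokernel _)

end Completion

section Pull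
open CategoryTheory CategoryTheory.Limits AlgebraicGeometry Opposite

variable {A : Type u} [CommRing A] {X Y : Scheme.{u}} [X.Over (Spec (CommRingCat.of A))]
  [Y.Over (Spec (CommRingCat.of A))] (I : Ideal A)

/-- Completion commutes with pullback. -/
theorem completion_pullback (f : X ⟶ Y)
    (hf : f ≫ (Y ↘ Spec (CommRingCat.of A)) = X ↘ Spec (CommRingCat.of A)) (N : Y.Modules) :
    Nonempty (Formal.completion I ((Scheme.Modules.pullback f).obj N) ≅
      Formal.completion I N ⋙ Scheme.Modules.pullback f) := by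
  have e : ∀ n : ℕ, (Formal.completion I N).map (homOfLE (Nat.le_succ n)).op =
      Formal.modPowTrans I (n + 1) N := fun n => Functor.ofOpSequence_map_homOfLE_succ _ n
  refine Groth.Agent.S8830.completion_iso_of_isColimit ((Scheme.Modules.pullback f).obj N)
    (Formal.completion I N ⋙ Scheme.Modules.pullback f)
    (fun n => (Scheme.Modules.pullback f).map (Formal.modPowπ I (n + 1) N)) (fun n => ?_) (fun n => ?_)
  · have h2 : (Formal.completion I N ⋙ Scheme.Modules.pullback f).map (homOfLE (Nat.le_succ n)).op =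
        (Scheme.Modules.pullback f).map (Formal.modPowTrans I (n + 1) N) :=
      congrArg (Scheme.Modules.pullback f).map (e n)
    exact (congrArg (fun t => (Scheme.Modules.pullback f).map (Formal.modPowπ I (n + 1 + 1) N) ≫ t) h2).trans
      (((Scheme.Modules.pullback f).map_comp _ _).symm.trans
        (congrArg (Scheme.Modules.pullback f).map (Formal.modPowπ_trans I (n + 1) N)))
  · have hcond : Formal.smulFamily (I ^ (n + 1)) N ≫ Formal.modPowπ I (n + 1) N = 0 :=
      cokernel.condition _
    have hi : IsIso (cokernel.desc (Formal.smulFamily (I ^ (n + 1)) N) (Formal.modPowπ I (n + 1) N)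
        hcond) :=
      Groth.Agent.S0835.isIso_desc_of_isColimit _ _ hcond (cokernelIsCokernel _)
    obtain ⟨h', hi'⟩ := Groth.Agent.S0835.aux f hf (I ^ (n + 1)) (Formal.modPowπ I (n + 1) N)
      hcond hi
    haveI := hi'
    exact ⟨h', Groth.Agent.S0835.isColimit_of_isIso_desc _ _ h'⟩

end Pull

section Main
open CategoryTheory CategoryTheory.Limits AlgebraicGeometry Opposite

theorem isCoh_tilde (R : CommRingCat.{u}) (N : ModuleCat.{u} R) [Module.Finite R N] :
    Coh.IsCoh (tilde N) := by
  have h1 : Module.Finite R Γ(tilde N, (⊤ : (Spec R).Opens)) :=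
    Module.Finite.equiv (tilde.isoTop N).toLinearEquiv
  have h2 : Module.Finite Γ(Spec R, (⊤ : (Spec R).Opens)) Γ(tilde N, (⊤ : (Spec R).Opens)) :=
    Module.Finite.of_restrictScalars_finite R _ _
  exact ⟨inferInstance, Groth.Agent.H8.isFiniteType_of_finite_sections (tilde N)
    (fun _ : PUnit.{u + 1} => (⊤ : (Spec R).Opens)) (iSup_const)
    (fun _ => isAffineOpen_top _) (fun _ => h2)⟩

theorem main (A : Type u) [CommRing A] [IsNoetherianRing A] (I : Ideal A)
    (U : (Spec (CommRingCat.of A)).Opens)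
    (G : ℕᵒᵖ ⥤ (U : Scheme.{u}).Modules)
    (F : (U : Scheme.{u}).Modules) (hF : Coh.IsCoh F) (e : Formal.completion I F ≅ G) :
    @Algz.Extends A _ (Spec (CommRingCat.of A)) ⟨𝟙 (Spec (CommRingCat.of A))⟩ I U G := by
  letI : (Spec (CommRingCat.of A)).Over (Spec (CommRingCat.of A)) := ⟨𝟙 _⟩
  obtain ⟨M, _, _, hfin, ⟨φ⟩⟩ := (Groth.Agent.S2269.result A U F).1 hF
  obtain ⟨N, hN⟩ : ∃ N : ModuleCat.{u} (CommRingCat.of A), N = ModuleCat.of A M := ⟨_, rfl⟩
  rw [← hN] at φ
  haveI : Module.Finite (CommRingCat.of A) N := by rw [hN]; exact hfin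
  have hcoh : Coh.IsCoh (tilde N) := isCoh_tilde (CommRingCat.of A) N
  refine ⟨Formal.completion I (tilde N), isCohFormal_completion I (tilde N) hcoh, ?_⟩
  have hf : U.ι ≫ ((Spec (CommRingCat.of A)) ↘ Spec (CommRingCat.of A)) =
      (U : Scheme.{u}) ↘ Spec (CommRingCat.of A) := Category.comp_id _
  obtain ⟨e1⟩ := completion_pullback I U.ι hf (tilde N)
  let ψ : F ≅ (Scheme.Modules.pullback U.ι).obj (tilde N) :=
    φ ≪≫ (Scheme.Modules.restrictFunctorIsoPullback U.ι).app (tilde N)
  obtain ⟨e2⟩ := completion_congr I ψ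
  exact ⟨Functor.isoWhiskerLeft (Formal.completion I (tilde N))
    (Scheme.Modules.restrictFunctorIsoPullback U.ι) ≪≫ e1.symm ≪≫ e2.symm ≪≫ e⟩

end Main


/-- (2) ⇒ (6): Let A be a Noetherian ring, I ⊆ 𝔞 ideals, U = Spec A ∖ V(𝔞) and (F_n) an object of Coh(U,
I O_U). If (F_n) is isomorphic to the completion of a coherent O_U-module, then (F_n) extends to
Spec A. -/
theorem result (A : Type u) [CommRing A] [IsNoetherianRing A] (I 𝔞 : Ideal A) (hI𝔞 : I ≤ 𝔞)
    (G : ℕᵒᵖ ⥤ (↑(LocCoh.puncturedOpen A 𝔞) : Scheme.{u}).Modules) (hG : Formal.IsCohFormal I G)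
    (F : (↑(LocCoh.puncturedOpen A 𝔞) : Scheme.{u}).Modules) (hF : Coh.IsCoh F) (e : Formal.completion I F ≅ G) :
    @Algz.Extends A _ (Spec (CommRingCat.of A)) ⟨𝟙 (Spec (CommRingCat.of A))⟩ I (LocCoh.puncturedOpen A 𝔞) G := by
  exact main A I (LocCoh.puncturedOpen A 𝔞) G F hF e

end Groth.Agent.S9536
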