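import Groth.Statements.S0833
-- import your own Groth.Agent.* helpers here
import Groth.Agent.S0832
import Groth.Agent.S0835
import Groth.Agent.S0852
import Groth.Agent.S0827
import Groth.Agent.S9536
import Groth.Agent.H8.HomBasis
import Groth.Agent.H8.SectionsExact
import Groth.Agent.H8.CohAffine
import Groth.Agent.H45.FormalKF2
import Groth.Agent.H14.FormalALG
import Groth.Agent.H22.FormalALGU

set_option autoImplicit false
universe u
open Formal2

namespace Groth.Agent.S0833

section Common
open CategoryTheory CategoryTheory.Limits AlgebraicGeometry Opposite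

variable {A : Type u} [CommRing A] (I : Ideal A) {X : Scheme.{u}} [X.Over (Spec (CommRingCat.of A))]

/-- A compatible family of maps to the quotients. -/
def Compat {F G : X.Modules} (φ : ∀ n : ℕ, F ⟶ Formal.modPow I (n + 1) G) : Prop :=
  ∀ n, φ (n + 1) ≫ Formal.modPowTrans I (n + 1) G = φ n

theorem compat_of_hom {F G : X.Modules} (ψ : Formal.completion I F ⟶ Formal.completion I G) :
    Compat I (fun n => Formal.modPowπ I (n + 1) F ≫ ψ.app (op n)) := by
  intro n
  have h1 := ψ.naturality (homOfLE (Nat.le_succ n)).op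
  have e1 : (Formal.completion I F).map (homOfLE (Nat.le_succ n)).op =
      Formal.modPowTrans I (n + 1) F := Functor.ofOpSequence_map_homOfLE_succ _ n
  have e2 : (Formal.completion I G).map (homOfLE (Nat.le_succ n)).op =
      Formal.modPowTrans I (n + 1) G := Functor.ofOpSequence_map_homOfLE_succ _ n
  rw [e1, e2] at h1
  exact (Category.assoc _ _ _).trans ((congrArg (Formal.modPowπ I (n + 1 + 1) F ≫ ·) h1.symm).trans
    ((Category.assoc _ _ _).symm.trans
      (congrArg (· ≫ ψ.app (op n)) (Formal.modPowπ_trans I (n + 1) F))))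

/-- Iterated compatibility. -/
theorem Compat.le {F G : X.Modules} {φ : ∀ n : ℕ, F ⟶ Formal.modPow I (n + 1) G}
    (h : Compat I φ) {n m : ℕ} (hnm : n ≤ m) :
    φ m ≫ (Formal.completion I G).map (homOfLE hnm).op = φ n := by
  obtain ⟨d, rfl⟩ := Nat.exists_eq_add_of_le hnm
  induction d with
  | zero =>
    have e : (Formal.completion I G).map (homOfLE hnm).op = 𝟙 _ := by
      rw [← (Formal.completion I G).map_id]; rfl
    rw [e]; exact Category.comp_id _
  | succ d ih =>
    have h1 : n ≤ n + d := Nat.le_add_right n d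
    have e : (Formal.completion I G).map (homOfLE hnm).op =
        Formal.modPowTrans I (n + d + 1) G ≫ (Formal.completion I G).map (homOfLE h1).op := by
      have := (Groth.Agent.S0832.map_comp_le (Formal.completion I G) h1 (Nat.le_succ (n + d))).symm
      rw [this]
      congr 1
      exact Functor.ofOpSequence_map_homOfLE_succ _ (n + d)
    have h2 : φ (n + (d + 1)) ≫ Formal.modPowTrans I (n + d + 1) G = φ (n + d) := h (n + d)
    exact (congrArg (φ (n + (d + 1)) ≫ ·) e).trans ((Category.assoc _ _ _).symm.trans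
      ((congrArg (· ≫ (Formal.completion I G).map (homOfLE h1).op) h2).trans (ih h1)))

theorem π_compat (G : X.Modules) : Compat I (fun n => Formal.modPowπ I (n + 1) G) :=
  fun n => Formal.modPowπ_trans I (n + 1) G

end Common

section Easy
open CategoryTheory CategoryTheory.Limits AlgebraicGeometry Opposite

theorem easy_aux {C : Type*} [Category C] {F G Gc Gm Gn : C} (πc : G ⟶ Gc) (πm : G ⟶ Gm)
    (πn : G ⟶ Gn) [IsIso πc] [IsIso πm] (tmc : Gm ⟶ Gc) (tmn : Gm ⟶ Gn) (φc : F ⟶ Gc)
    (φm : F ⟶ Gm) (φn : F ⟶ Gn) (e1 : πm ≫ tmc = πc) (e2 : φm ≫ tmc = φc) (e3 : πm ≫ tmn = πn)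
    (e4 : φm ≫ tmn = φn) : (φc ≫ inv πc) ≫ πn = φn := by
  have h1 : tmc = inv πm ≫ πc := by rw [IsIso.eq_inv_comp]; exact e1
  have h2 : φc ≫ inv πc = φm ≫ inv πm := by
    rw [← e2, h1, Category.assoc, Category.assoc, IsIso.hom_inv_id, Category.comp_id]
  rw [h2, ← e3, Category.assoc, IsIso.inv_hom_id_assoc, e4]

variable {A : Type u} [CommRing A] (I : Ideal A) {X : Scheme.{u}} [X.Over (Spec (CommRingCat.of A))]

theorem isIso_π_of_killed {G : X.Modules} {c n : ℕ} (hG : Formal.KilledBy (I ^ c) G) (h : c ≤ n) :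
    IsIso (Formal.modPowπ I n G) := by
  refine Groth.Agent.S0832.isIso_of_isColimit_of_eq_zero (Formal.smulFamily (I ^ n) G)
    (Formal.modPowπ I n G) (cokernel.condition _) (cokernelIsCokernel _)
    (Groth.Agent.S0832.smulFamily_eq_zero ?_)
  intro a ha
  exact hG a (Ideal.pow_le_pow_right h ha)

theorem easy {F G : X.Modules} {c : ℕ} (hG : Formal.KilledBy (I ^ c) G)
    (φ : ∀ n : ℕ, F ⟶ Formal.modPow I (n + 1) G) (hφ : Compat I φ) :
    ∃! f : F ⟶ G, ∀ n, f ≫ Formal.modPowπ I (n + 1) G = φ n := by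
  haveI ic : IsIso (Formal.modPowπ I (c + 1) G) := isIso_π_of_killed I hG (Nat.le_succ c)
  have hπ := π_compat I G
  refine ⟨φ c ≫ inv (Formal.modPowπ I (c + 1) G), fun n => ?_, fun f' hf' => ?_⟩
  · -- compatibility at every level
    obtain ⟨m, hm⟩ : ∃ m, m = max n c := ⟨_, rfl⟩
    have hcm : c ≤ m := hm ▸ le_max_right n c
    have hnm : n ≤ m := hm ▸ le_max_left n c
    haveI im : IsIso (Formal.modPowπ I (m + 1) G) :=
      isIso_π_of_killed I hG (hcm.trans (Nat.le_succ m))
    have e1 : Formal.modPowπ I (m + 1) G ≫ (Formal.completion I G).map (homOfLE hcm).op =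
        Formal.modPowπ I (c + 1) G := hπ.le I hcm
    have e2 : φ m ≫ (Formal.completion I G).map (homOfLE hcm).op = φ c := hφ.le I hcm
    have e3 : Formal.modPowπ I (m + 1) G ≫ (Formal.completion I G).map (homOfLE hnm).op =
        Formal.modPowπ I (n + 1) G := hπ.le I hnm
    have e4 : φ m ≫ (Formal.completion I G).map (homOfLE hnm).op = φ n := hφ.le I hnm
    exact easy_aux (Formal.modPowπ I (c + 1) G) (Formal.modPowπ I (m + 1) G)
      (Formal.modPowπ I (n + 1) G) ((Formal.completion I G).map (homOfLE hcm).op)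
      ((Formal.completion I G).map (homOfLE hnm).op) (φ c) (φ m) (φ n) e1 e2 e3 e4
  · rw [IsIso.eq_comp_inv]
    exact hf' c

end Easy

section Sections
open CategoryTheory CategoryTheory.Limits AlgebraicGeometry Opposite
open Groth.Agent.S0852 (ρ smulMod_app)
open Groth.Agent.H8 (appₗ app_res)

variable {A : Type u} [CommRing A] (I : Ideal A) {X : Scheme.{u}} [X.Over (Spec (CommRingCat.of A))]

/-- The ideal of `Γ(X, W)` generated by the image of an ideal of `A`. -/
noncomputable abbrev Jm (L : Ideal A) (W : X.Opens) : Ideal Γ(X, W) := Ideal.map (ρ (A := A) W) L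

theorem smul_eq_zero_of_killed {L : Ideal A} {P : X.Modules} (hP : Formal.KilledBy L P)
    (W : X.Opens) (b : Γ(X, W)) (hb : b ∈ Jm L W) (y : Γ(P, W)) : b • y = 0 := by
  have hle : Jm L W ≤ LinearMap.ker (LinearMap.toSpanSingleton Γ(X, W) Γ(P, W) y) := by
    rw [Ideal.map_le_iff_le_comap]
    intro a ha
    change ρ W a • y = 0
    rw [← smulMod_app, hP a ha]
    rfl
  exact hle hb

theorem isNoetherianRing_sections [IsNoetherian X] {W : X.Opens} (hW : IsAffineOpen W) :
    IsNoetherianRing Γ(X, W) :=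
  IsLocallyNoetherian.component_noetherian ⟨W, hW⟩

theorem app_surjective_of_epi {M N : X.Modules} (t : M ⟶ N) [Epi t] [M.IsQuasicoherent]
    [N.IsQuasicoherent] {W : X.Opens} (hW : IsAffineOpen W) : Function.Surjective (t.app W) := by
  let S : ShortComplex X.Modules := ShortComplex.mk (kernel.ι t) t (kernel.condition t)
  have hS : S.ShortExact :=
    { exact := ShortComplex.exact_of_f_is_kernel S (kernelIsKernel t)
      mono_f := inferInstanceAs (Mono (kernel.ι t))
      epi_g := inferInstanceAs (Epi t) }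
  haveI : S.X₁.IsQuasicoherent := Groth.Agent.H22.QCohLimits.isQuasicoherent_kernel t
  exact Groth.Agent.H22.QCohH1.app_surjective S hS hW

theorem isQuasicoherent_modPow (G : X.Modules) [G.IsQuasicoherent] (n : ℕ) :
    (Formal.modPow I n G).IsQuasicoherent := by
  haveI := Groth.Agent.S9536.isQuasicoherent_sigma_const (↥(I ^ n)) G
  exact Groth.Agent.H8.isQuasicoherent_cokernel (Formal.smulFamily (I ^ n) G)

theorem ker_π [IsNoetherian X] (G : X.Modules) [G.IsQuasicoherent] (n : ℕ) {W : X.Opens}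
    (hW : IsAffineOpen W) :
    LinearMap.ker (appₗ (Formal.modPowπ I n G) W) = Jm (I ^ n) W • (⊤ : Submodule Γ(X, W) Γ(G, W)) := by
  classical
  apply le_antisymm
  · intro m hm
    obtain ⟨L', hle, hfg, hsub⟩ := Groth.Agent.H45.FormalKF2.exists_fg_sub X (I ^ n)
    obtain ⟨S, hS⟩ := hfg
    have hb : Ideal.span (Set.range (Subtype.val : ↥S → A)) = L' := by
      rw [Subtype.range_coe]
      exact hS
    have h' : Formal.smulFamily L' G ≫ Formal.modPowπ I n G = 0 :=
      Formal.smulFamily_π_of_le hle G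
    have hcol : IsColimit (CokernelCofork.ofπ (Formal.modPowπ I n G) h') :=
      CokernelCofork.IsColimit.ofπ' _ _ (fun {Z} g hg =>
        ⟨cokernel.desc _ g (hsub g hg), cokernel.π_desc _ _ _⟩)
    haveI := isQuasicoherent_modPow I G n
    obtain ⟨w, hw⟩ := Groth.Agent.S0852.ker_le (Formal.modPowπ I n G) L'
      (Subtype.val : ↥S → A) hb h' hcol hW m hm
    rw [hw]
    refine Submodule.sum_mem _ (fun j _ => ?_)
    have hj : (j : A) ∈ L' := hb ▸ Ideal.subset_span ⟨j, rfl⟩
    exact Submodule.smul_mem_smul (Ideal.mem_map_of_mem _ (hle hj)) Submodule.mem_top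
  · refine Submodule.smul_le.2 (fun b hb x _ => ?_)
    rw [LinearMap.mem_ker, map_smul]
    exact smul_eq_zero_of_killed (Groth.Agent.S9536.killedBy_modPow I G n) W b hb _

end Sections

section Hard
open CategoryTheory CategoryTheory.Limits AlgebraicGeometry Opposite
open Groth.Agent.S0852 (ρ smulMod_app)
open Groth.Agent.H8 (appₗ app_res)

variable {A : Type u} [CommRing A] (I : Ideal A) {X : Scheme.{u}} [X.Over (Spec (CommRingCat.of A))]

theorem ρ_res {W W' : X.Opens} (h : W' ≤ W) (a : A) :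
    X.presheaf.map (homOfLE h).op (ρ (A := A) W a) = ρ (A := A) W' a :=
  Coh.resTop_comp (X := X) (op W) (op W') (homOfLE h).op (Coh.toGlobal (X ↘ Spec (CommRingCat.of A)) a)

/-- Restriction preserves being killed by the ideal generated by `L`. -/
theorem smul_res_eq_zero {L : Ideal A} {P : X.Modules} {W W' : X.Opens} (h : W' ≤ W) (y : Γ(P, W))
    (hy : ∀ b ∈ Jm L W, b • y = 0) (a : Γ(X, W')) (ha : a ∈ Jm L W') :
    a • P.presheaf.map (homOfLE h).op y = 0 := by
  have hle : Jm L W' ≤ LinearMap.ker (LinearMap.toSpanSingleton Γ(X, W') Γ(P, W')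
      (P.presheaf.map (homOfLE h).op y)) := by
    rw [Ideal.map_le_iff_le_comap]
    intro a0 ha0
    change ρ W' a0 • P.presheaf.map (homOfLE h).op y = 0
    rw [← ρ_res h a0, ← Scheme.Modules.map_smul, hy _ (Ideal.mem_map_of_mem _ ha0), map_zero]
  exact hle ha

variable [IsNoetherian X] {F G : X.Modules} (hG : Coh.IsCoh G) {c : ℕ}
  (hF : Formal.KilledBy (I ^ c) F) (φ : ∀ n : ℕ, F ⟶ Formal.modPow I (n + 1) G) (hφ : Compat I φ)

include hG hF hφ in
theorem exists_unique_local {W : X.Opens} (hW : IsAffineOpen W) :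
    ∃! f : Γ(F, W) →ₗ[Γ(X, W)] Γ(G, W),
      ∀ n m, (Formal.modPowπ I (n + 1) G).app W (f m) = (φ n).app W m := by
  haveI : G.IsQuasicoherent := hG.1
  haveI : SheafOfModules.IsFiniteType (R := X.ringCatSheaf) G := hG.2
  haveI := isNoetherianRing_sections hW
  haveI : Module.Finite Γ(X, W) Γ(G, W) := Groth.Agent.H8.finite_sections_of_isAffineOpen G hW
  haveI : ∀ n, (Formal.modPow I n G).IsQuasicoherent := isQuasicoherent_modPow I G
  haveI : ∀ n, Epi (Formal.modPowπ I n G) := fun n => Groth.Agent.S9536.epi_modPowπ I G n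
  exact Groth.Agent.H14.FormalALG.exists_unique_lift (Jm I W) c
    (fun a ha m => smul_eq_zero_of_killed hF W a (by rw [Jm, Ideal.map_pow]; exact ha) m)
    (fun n => Γ(Formal.modPow I (n + 1) G, W))
    (fun n => appₗ (Formal.modPowπ I (n + 1) G) W)
    (fun n => app_surjective_of_epi (Formal.modPowπ I (n + 1) G) hW)
    (fun n => by rw [ker_π I G (n + 1) hW, Jm, Ideal.map_pow])
    (fun n => appₗ (φ n) W)
    (fun n m x hx => by
      have h1 : (Formal.modPowTrans I (n + 1) G).app W ((Formal.modPowπ I (n + 1 + 1) G).app W x) =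
          (Formal.modPowπ I (n + 1) G).app W x :=
        congrArg (fun t : G ⟶ Formal.modPow I (n + 1) G => t.app W x)
          (Formal.modPowπ_trans I (n + 1) G)
      have h2 : (Formal.modPowTrans I (n + 1) G).app W ((φ (n + 1)).app W m) = (φ n).app W m :=
        congrArg (fun t : F ⟶ Formal.modPow I (n + 1) G => t.app W m) (hφ n)
      have hx' : (Formal.modPowπ I (n + 1 + 1) G).app W x = (φ (n + 1)).app W m := hx
      change (Formal.modPowπ I (n + 1) G).app W x = (φ n).app W m
      rw [← h1, hx', h2])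

/-- The local lifts. -/
noncomputable def fW {W : X.Opens} (hW : IsAffineOpen W) : Γ(F, W) →ₗ[Γ(X, W)] Γ(G, W) :=
  (exists_unique_local I hG hF φ hφ hW).choose

theorem fW_spec {W : X.Opens} (hW : IsAffineOpen W) (n : ℕ) (m : Γ(F, W)) :
    (Formal.modPowπ I (n + 1) G).app W (fW I hG hF φ hφ hW m) = (φ n).app W m :=
  (exists_unique_local I hG hF φ hφ hW).choose_spec.1 n m

theorem fW_unique {W : X.Opens} (hW : IsAffineOpen W) (f : Γ(F, W) →ₗ[Γ(X, W)] Γ(G, W))
    (hf : ∀ n m, (Formal.modPowπ I (n + 1) G).app W (f m) = (φ n).app W m) :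
    f = fW I hG hF φ hφ hW :=
  (exists_unique_local I hG hF φ hφ hW).choose_spec.2 f hf

theorem fW_res {W W' : X.Opens} (hW : IsAffineOpen W) (hW' : IsAffineOpen W') (h : W' ≤ W)
    (m : Γ(F, W)) :
    fW I hG hF φ hφ hW' (F.presheaf.map (homOfLE h).op m) =
      G.presheaf.map (homOfLE h).op (fW I hG hF φ hφ hW m) := by
  haveI : G.IsQuasicoherent := hG.1
  haveI : SheafOfModules.IsFiniteType (R := X.ringCatSheaf) G := hG.2
  haveI := isNoetherianRing_sections hW'
  haveI : Module.Finite Γ(X, W') Γ(G, W') := Groth.Agent.H8.finite_sections_of_isAffineOpen G hW'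
  rw [← sub_eq_zero]
  refine Groth.Agent.H22.FormalALGU.eq_zero_of_forall_mem (Jm I W') c _ (fun n => ?_) (fun a ha => ?_)
  · have hk := ker_π I G (n + 1) hW'
    rw [Jm, Ideal.map_pow] at hk
    rw [← hk, LinearMap.mem_ker, map_sub, sub_eq_zero]
    change (Formal.modPowπ I (n + 1) G).app W' (fW I hG hF φ hφ hW' (F.presheaf.map (homOfLE h).op m)) =
      (Formal.modPowπ I (n + 1) G).app W' (G.presheaf.map (homOfLE h).op (fW I hG hF φ hφ hW m))
    rw [fW_spec, app_res, app_res, fW_spec]
  · have ha' : a ∈ Jm (I ^ c) W' := by rw [Jm, Ideal.map_pow]; exact ha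
    rw [smul_sub, ← map_smul, smul_eq_zero_of_killed hF W' a ha', map_zero, zero_sub, neg_eq_zero]
    refine smul_res_eq_zero h _ (fun b hb => ?_) a ha'
    rw [← map_smul, smul_eq_zero_of_killed hF W b hb, map_zero]

include hG hF hφ in
theorem hard : ∃! f : F ⟶ G, ∀ n, f ≫ Formal.modPowπ I (n + 1) G = φ n := by
  have hB : TopologicalSpace.Opens.IsBasis (Set.range (fun W : X.affineOpens => (W : X.Opens))) := by
    rw [Subtype.range_coe]
    exact X.isBasis_affineOpens
  obtain ⟨f, hf⟩ := Groth.Agent.H8.HomBasis.exists_hom_of_basis F G hB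
    (fun W => (fW I hG hF φ hφ W.2).toAddMonoidHom)
    (fun W' W h m => fW_res I hG hF φ hφ W.2 W'.2 h m)
    (fun W r m => (fW I hG hF φ hφ W.2).map_smul r m)
  refine ⟨f, fun n => ?_, fun f' hf' => ?_⟩
  · refine Groth.Agent.H8.HomBasis.hom_ext_of_basis F _ hB _ _ (fun W m => ?_)
    change (Formal.modPowπ I (n + 1) G).app W.1 (f.app W.1 m) = (φ n).app W.1 m
    rw [hf W m]
    exact fW_spec I hG hF φ hφ W.2 n m
  · refine Groth.Agent.H8.HomBasis.hom_ext_of_basis F G hB _ _ (fun W m => ?_)
    rw [hf W m]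
    have := fW_unique I hG hF φ hφ W.2 (appₗ f' W.1) (fun n m => by
      change (f' ≫ Formal.modPowπ I (n + 1) G).app W.1 m = (φ n).app W.1 m
      rw [hf' n])
    exact DFunLike.congr_fun this m

end Hard

section Main
open CategoryTheory CategoryTheory.Limits AlgebraicGeometry Opposite

theorem main (A : Type u) [CommRing A] (I : Ideal A) (X : Scheme.{u})
    [X.Over (Spec (CommRingCat.of A))] [IsNoetherian X] (F G : X.Modules) (hG : Coh.IsCoh G)
    (hc : ∃ c : ℕ, Formal.KilledBy (I ^ c) F ∨ Formal.KilledBy (I ^ c) G)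
    (ψ : Formal.completion I F ⟶ Formal.completion I G) :
    ∃! φ : F ⟶ G, ∀ n : ℕ, Formal.modPowπ I (n + 1) F ≫ ψ.app (op n) = φ ≫ Formal.modPowπ I (n + 1) G := by
  obtain ⟨c, h | h⟩ := hc
  · obtain ⟨f, hf, hu⟩ := hard I hG h _ (compat_of_hom I ψ)
    exact ⟨f, fun n => (hf n).symm, fun f' hf' => hu f' (fun n => (hf' n).symm)⟩
  · obtain ⟨f, hf, hu⟩ := easy I h _ (compat_of_hom I ψ)
    exact ⟨f, fun n => (hf n).symm, fun f' hf' => hu f' (fun n => (hf' n).symm)⟩

end Main


open CategoryTheory AlgebraicGeometry Opposite in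
/-- The assertion on homomorphisms, for the ideal sheaf I·O_X of an ideal I of a base ring A. Let X be a
Noetherian scheme over Spec A and F, G coherent O_X-modules one of which is annihilated by a power
of I. Then every map of systems (F/I^nF) → (G/I^nG) is induced by exactly one map F → G. (The
assertion on Ext groups is not stated.) -/
theorem result (A : Type u) [CommRing A] (I : Ideal A) (X : Scheme.{u})
    [X.Over (Spec (CommRingCat.of A))] [IsNoetherian X] (F G : X.Modules) (hF : Coh.IsCoh F) (hG : Coh.IsCoh G)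
    (hc : ∃ c : ℕ, Formal.KilledBy (I ^ c) F ∨ Formal.KilledBy (I ^ c) G)
    (ψ : Formal.completion I F ⟶ Formal.completion I G) :
    ∃! φ : F ⟶ G, ∀ n : ℕ, Formal.modPowπ I (n + 1) F ≫ ψ.app (op n) = φ ≫ Formal.modPowπ I (n + 1) G := by
  exact main A I X F G hG hc ψ

end Groth.Agent.S0833
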