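import Groth.Statements.S10301
import Groth.Agent.H52.Iso

set_option autoImplicit false
universe u
open CategoryTheory CategoryTheory.Limits AlgebraicGeometry
open AlgSp
open Groth.Agent.H52

namespace Groth.Agent.S10301

/-- For a representable morphism of algebraic spaces, being a universal homeomorphism in the
representable sense agrees with inducing homeomorphisms on points after every base change. -/
theorem result {S : Scheme.{u}} {X Y : AlgSp.Space S} (f : X ⟶ Y)
    (hf : AlgSp.Representable f.hom) :
    AlgSp.RepWith FlatMor.IsUnivHomeo f.hom ↔ AlgSp.IsUnivHomeoMor f.hom := by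
  constructor
  · intro hRW
    apply univSp_of_affine _ (fun _ _ psnd h => isHomeomorph_of_affine_baseChange psnd h)
    intro Z _ g P fst snd sq
    obtain ⟨V, sndV, fstV, sqV⟩ := hRW.1 g
    have hU : FlatMor.IsUnivHomeo sndV.left := hRW.2 _ _ _ sqV
    have h0 : IsHomeomorph (fun v => sndV.left v) := hU _ _ _ IsPullback.of_id_snd
    have h1 : IsHomeomorph (Points.map ((yon S).map sndV)) := by
      rw [Points.map_yon_map_eq]
      exact ((Points.schemeHomeo _).isHomeomorph.comp h0).comp (Points.schemeHomeo _).symm.isHomeomorph
    have e : snd = (sq.isoIsPullback _ _ sqV).hom ≫ (yon S).map sndV :=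
      (IsPullback.isoIsPullback_hom_snd _ _ sq sqV).symm
    have e2 : Points.map snd = Points.map ((yon S).map sndV) ∘
        Points.map (sq.isoIsPullback _ _ sqV).hom := by
      conv_lhs => rw [e]
      exact funext (Points.map_comp _ _)
    change IsHomeomorph (Points.map snd)
    rw [e2]
    exact h1.comp (homeoOfIso (sq.isoIsPullback _ _ sqV)).isHomeomorph
  · intro hU
    exact repWith_universally_topologically (Q := fun f => IsHomeomorph f) hf
      (fun T' V' g' fst' snd' sq' => by
        have h1 : IsHomeomorph (Points.map ((yon S).map snd')) :=
          hU (IsAlgSpace.yon_obj T') g' fst' _ sq'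
        rw [map_yon_map_eq']
        exact ((Points.schemeHomeo _).symm.isHomeomorph.comp h1).comp
          (Points.schemeHomeo _).isHomeomorph)

end Groth.Agent.S10301
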