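import Groth.Statements.S9906
import Groth.Agent.H52.Univ

set_option autoImplicit false
universe u
open CategoryTheory CategoryTheory.Limits AlgebraicGeometry
open AlgSp
open Groth.Agent.H52

namespace Groth.Agent.S9906

/-- For a morphism of algebraic spaces representable by schemes, representable surjectivity is
equivalent to surjectivity of the induced map on points. -/
theorem result {S : Scheme.{u}} {X Y : AlgSp.Space S} (f : X ⟶ Y)
    (hf : AlgSp.Representable f.hom) :
    AlgSp.RepWith @Surjective f.hom ↔ AlgSp.IsSurjectiveMor f.hom := by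
  constructor
  · intro hRW y
    obtain ⟨V, q, hqe, hqs⟩ := Y.property.atlas
    obtain ⟨v, rfl⟩ := surjective_ofPt_of_surjective q hqs y
    obtain ⟨W, snd, fst, sq⟩ := hRW.1 q
    have hs : Surjective snd.left := hRW.2 _ _ _ sq
    obtain ⟨w, rfl⟩ := hs.surj v
    refine ⟨Points.ofPt fst w, ?_⟩
    rw [Points.map_ofPt, sq.w, ofPt_yon_map_comp]
  · intro hs
    refine ⟨hf, fun T V g fst snd sq => ⟨fun t => ?_⟩⟩
    obtain ⟨x, hx⟩ := hs (Points.ofPt g t)
    rw [Points.ofPt_eq_map_ofScheme] at hx
    obtain ⟨z, -, hz⟩ := exists_point_of_isPullback sq x _ hx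
    obtain ⟨v, rfl⟩ := (Points.schemeEquiv V).surjective z
    change Points.map _ (Points.ofScheme V v) = _ at hz
    rw [map_yon_map_ofScheme] at hz
    exact ⟨v, ofScheme_injective T hz⟩

end Groth.Agent.S9906
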