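import Groth.Statements.S10267
import Groth.Agent.H51.AffineTest

set_option autoImplicit false
universe u
open CategoryTheory CategoryTheory.Limits AlgebraicGeometry
open AlgSp

namespace Groth.Agent.S10267

/-- (1) ⇔ (2): a morphism of algebraic spaces is integral (resp. finite), tested on affine schemes over
the target, if and only if it is representable with integral (resp. finite) base changes to all
schemes. -/
theorem result {S : Scheme.{u}} {X Y : AlgSp.Space S} (f : X ⟶ Y) :
    (AlgSp.IsIntegralMor f.hom ↔ AlgSp.RepWith @IsIntegralHom f.hom) ∧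
    (AlgSp.IsFiniteMor f.hom ↔ AlgSp.RepWith @IsFinite f.hom) := by
  refine ⟨⟨fun h => ?_, fun h => ?_⟩, ⟨fun h => ?_, fun h => ?_⟩⟩
  · refine Groth.Agent.H51.ZarGlue.repWith_of_affine_test @IsIntegralHom f.hom (fun Z hZ g => ?_)
    obtain ⟨W, i, fst, sq, -, hi⟩ := h hZ g
    exact ⟨W, i, fst, sq, hi⟩
  · intro Z hZ g
    obtain ⟨W, i, fst, sq⟩ := h.rep g
    have hi : IsIntegralHom i.left := h.property g fst i sq
    have : IsAffine Z.left := hZ
    exact ⟨W, i, fst, sq, isAffine_of_isAffineHom i.left, hi⟩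
  · refine Groth.Agent.H51.ZarGlue.repWith_of_affine_test @IsFinite f.hom (fun Z hZ g => ?_)
    obtain ⟨W, i, fst, sq, -, hi⟩ := h hZ g
    exact ⟨W, i, fst, sq, hi⟩
  · intro Z hZ g
    obtain ⟨W, i, fst, sq⟩ := h.rep g
    have hi : IsFinite i.left := h.property g fst i sq
    have : IsAffine Z.left := hZ
    exact ⟨W, i, fst, sq, isAffine_of_isAffineHom i.left, hi⟩

end Groth.Agent.S10267
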