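import Groth.Statements.S9915
import Groth.Agent.H52.QC

set_option autoImplicit false
universe u
open CategoryTheory CategoryTheory.Limits AlgebraicGeometry
open AlgSp

namespace Groth.Agent.S9915

/-- In a commutative triangle of algebraic spaces with f : X -> Y surjective, if X -> Z is quasi-compact
then Y -> Z is quasi-compact. -/
theorem result {S : Scheme.{u}} {X Y Z : AlgSp.Space S} (f : X ⟶ Y)
    (p : X ⟶ Z) (q : Y ⟶ Z) (comm : f ≫ q = p) (hf : AlgSp.IsSurjectiveMor f.hom)
    (hp : AlgSp.IsQuasiCompactMor p.hom) : AlgSp.IsQuasiCompactMor q.hom := by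
  intro W W' hW hWq g fst snd sq
  have hp' : p.hom = f.hom ≫ q.hom := by rw [← comm]; rfl
  have sqp : IsPullback (pullback.fst p.hom g) (pullback.snd p.hom g) (f.hom ≫ q.hom) g := by
    rw [← hp']
    exact IsPullback.of_hasPullback p.hom g
  have hq' : IsQuasiCompactSp (pullback p.hom g) :=
    hp hW hWq g _ _ (IsPullback.of_hasPullback p.hom g)
  let l : pullback p.hom g ⟶ W' :=
    sq.lift (pullback.fst p.hom g ≫ f.hom) (pullback.snd p.hom g) (by rw [Category.assoc]; exact sqp.w)
  have sql : IsPullback l (pullback.fst p.hom g) fst f.hom :=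
    Groth.Agent.H52.isPullback_lift_of_comp_left sq sqp l (sq.lift_fst _ _ _) (sq.lift_snd _ _ _)
  have hW' : IsAlgSpace W' :=
    Groth.Agent.H52.isAlgSpace_of_isPullback sq Z.property.diag Y.property hW
  exact Groth.Agent.H52.isQuasiCompactSp_of_surjective l hW'
    (Groth.Agent.H52.surjective_map_fst_of_isPullback sql hf) hq'

end Groth.Agent.S9915
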