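import Groth.Statements.S10587
import Groth.Agent.H51.Thick
import Groth.Agent.S9915
import Groth.Agent.S9936

set_option autoImplicit false
universe u
open CategoryTheory CategoryTheory.Limits AlgebraicGeometry
open AlgSp

namespace Groth.Agent.S10587

/-- Consider a morphism (f, f') from the thickening X ⊂ X' to the thickening Y ⊂ Y' of algebraic spaces
over S, meaning: i : X ⟶ X' and j : Y ⟶ Y' are thickenings (representable, every base change to a
scheme a surjective closed immersion) and i ≫ f' = f ≫ j. Then f is surjective, resp. quasi-compact,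
universally closed, universally injective, universally open, if and only if f' is. -/
theorem result {S : Scheme.{u}} {X X' Y Y' : AlgSp.Space S} (i : X ⟶ X') (j : Y ⟶ Y')
    (f : X ⟶ Y) (f' : X' ⟶ Y')
    (hi : AlgSp.IsThickMor i.hom)
    (hj : AlgSp.IsThickMor j.hom) (w : i ≫ f' = f ≫ j) :
    (AlgSp.IsSurjectiveMor f.hom ↔ AlgSp.IsSurjectiveMor f'.hom) ∧
    (AlgSp.IsQuasiCompactMor f.hom ↔ AlgSp.IsQuasiCompactMor f'.hom) ∧
    (AlgSp.IsUnivClosedMor f.hom ↔ AlgSp.IsUnivClosedMor f'.hom) ∧
    (AlgSp.IsUnivInjectiveMor f.hom ↔ AlgSp.IsUnivInjectiveMor f'.hom) ∧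
    (AlgSp.IsUnivOpenMor f.hom ↔ AlgSp.IsUnivOpenMor f'.hom) := by
  have hiH := Groth.Agent.H51.isUnivHomeoMor_of_isThickMor i hi
  have hjH := Groth.Agent.H51.isUnivHomeoMor_of_isThickMor j hj
  have hiS : IsSurjectiveMor i.hom := Groth.Agent.H51.isSurjectiveMor_of_isThickMor i hi
  have hi_h : IsHomeomorph (Points.map i.hom) :=
    Groth.Agent.H51.isHomeomorph_of_isUnivHomeoMor X'.property hiH
  have hj_h : IsHomeomorph (Points.map j.hom) :=
    Groth.Agent.H51.isHomeomorph_of_isUnivHomeoMor Y'.property hjH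
  have hic := Groth.Agent.H51.repWith_isClosedImmersion_of_isThickMor hi
  have hjc := Groth.Agent.H51.repWith_isClosedImmersion_of_isThickMor hj
  have hjmono : Mono j.hom :=
    Groth.Agent.H50.mono_of_repWith (fun _ _ g (hg : IsClosedImmersion g) => (inferInstance : Mono g)) hjc
  have w' : i.hom ≫ f'.hom = f.hom ≫ j.hom := congrArg (fun k => k.hom) w
  have sqf : IsPullback (𝟙 X.obj) f.hom (f.hom ≫ j.hom) j.hom :=
    Groth.Agent.H51.isPullback_id_of_mono f.hom j.hom
  have e : Points.map f'.hom ∘ Points.map i.hom = Points.map j.hom ∘ Points.map f.hom := by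
    funext x
    rw [Function.comp_apply, Function.comp_apply, ← Points.map_comp, ← Points.map_comp, w']
  refine ⟨⟨fun hf => ?_, fun hf' => ?_⟩, ⟨fun hf => ?_, fun hf' => ?_⟩, ⟨fun hf => ?_, fun hf' => ?_⟩,
    ⟨fun hf => ?_, fun hf' => ?_⟩, ⟨fun hf => ?_, fun hf' => ?_⟩⟩
  · have h : Function.Surjective (Points.map f'.hom ∘ Points.map i.hom) := by
      rw [e]
      exact hj_h.surjective.comp hf
    exact Function.Surjective.of_comp h
  · have h : Function.Surjective (Points.map j.hom ∘ Points.map f.hom) := by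
      rw [← e]
      exact Function.Surjective.comp hf' hi_h.surjective
    exact Function.Surjective.of_comp_left h hj_h.injective
  · have hjq : IsQuasiCompactMor j.hom := Groth.Agent.S9936.result j hjc
    have h1 : IsQuasiCompactMor (f.hom ≫ j.hom) :=
      Groth.Agent.H51.isQuasiCompactMor_comp Y.property Y'.property hf hjq
    rw [← w'] at h1
    exact Groth.Agent.S9915.result i (i ≫ f') f' rfl hiS h1
  · have hiq : IsQuasiCompactMor i.hom := Groth.Agent.S9936.result i hic
    have h1 : IsQuasiCompactMor (i.hom ≫ f'.hom) :=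
      Groth.Agent.H51.isQuasiCompactMor_comp X'.property Y'.property hiq hf'
    rw [w'] at h1
    exact Groth.Agent.H51.isQuasiCompactMor_of_isPullback sqf h1
  · have h1 : UnivSp IsClosedMor (f.hom ≫ j.hom) :=
      Groth.Agent.H51.univSp_comp IsClosedMor Groth.Agent.H51.isClosedMor_comp Y.property Y'.property hf
        (Groth.Agent.H51.univSp_of_isUnivHomeoMor IsClosedMor (fun _ _ a h => h.isClosedMap) hjH)
    rw [← w'] at h1
    exact Groth.Agent.H51.univSp_of_comp_surjective IsClosedMor
      Groth.Agent.H51.isClosedMor_of_comp_surjective i.hom f'.hom h1 hiS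
  · have h1 : UnivSp IsClosedMor (i.hom ≫ f'.hom) :=
      Groth.Agent.H51.univSp_comp IsClosedMor Groth.Agent.H51.isClosedMor_comp X'.property Y'.property
        (Groth.Agent.H51.univSp_of_isUnivHomeoMor IsClosedMor (fun _ _ a h => h.isClosedMap) hiH) hf'
    rw [w'] at h1
    exact Groth.Agent.H51.univSp_of_isPullback _ sqf h1
  · have h1 : UnivSp (fun _ _ k => Function.Injective (Points.map k)) (f.hom ≫ j.hom) :=
      Groth.Agent.H51.univSp_comp _ Groth.Agent.H51.injective_comp Y.property Y'.property hf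
        (Groth.Agent.H51.univSp_of_isUnivHomeoMor _ (fun _ _ a h => h.injective) hjH)
    rw [← w'] at h1
    exact Groth.Agent.H51.univSp_of_comp_surjective _
      Groth.Agent.H51.injective_of_comp_surjective i.hom f'.hom h1 hiS
  · have h1 : UnivSp (fun _ _ k => Function.Injective (Points.map k)) (i.hom ≫ f'.hom) :=
      Groth.Agent.H51.univSp_comp _ Groth.Agent.H51.injective_comp X'.property Y'.property
        (Groth.Agent.H51.univSp_of_isUnivHomeoMor _ (fun _ _ a h => h.injective) hiH) hf'
    rw [w'] at h1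
    exact Groth.Agent.H51.univSp_of_isPullback _ sqf h1
  · have h1 : UnivSp IsOpenMor (f.hom ≫ j.hom) :=
      Groth.Agent.H51.univSp_comp IsOpenMor Groth.Agent.H51.isOpenMor_comp Y.property Y'.property hf
        (Groth.Agent.H51.univSp_of_isUnivHomeoMor IsOpenMor (fun _ _ a h => h.isOpenMap) hjH)
    rw [← w'] at h1
    exact Groth.Agent.H51.univSp_of_comp_surjective IsOpenMor
      Groth.Agent.H51.isOpenMor_of_comp_surjective i.hom f'.hom h1 hiS
  · have h1 : UnivSp IsOpenMor (i.hom ≫ f'.hom) :=
      Groth.Agent.H51.univSp_comp IsOpenMor Groth.Agent.H51.isOpenMor_comp X'.property Y'.property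
        (Groth.Agent.H51.univSp_of_isUnivHomeoMor IsOpenMor (fun _ _ a h => h.isOpenMap) hiH) hf'
    rw [w'] at h1
    exact Groth.Agent.H51.univSp_of_isPullback _ sqf h1

end Groth.Agent.S10587
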