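import Groth.Statements.S10313
import Groth.Agent.H52.ChartBC
import Groth.Agent.H52.FibreDimPB
import Groth.Agent.H52.ChartIndep
import Groth.Agent.H52.ChartAt
import Groth.Agent.H52.ChartOpen
import Groth.Agent.H52.EtLocalInst
import Groth.Agent.H52.LocPOps
import Groth.Agent.H52.LocPBC
import Groth.Agent.H50.AtMor
import Groth.Agent.H50.Etale
import Groth.Agent.S1608
import Groth.Agent.S10308
import Groth.Agent.S10195

set_option autoImplicit false
universe u
open CategoryTheory CategoryTheory.Limits AlgebraicGeometry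
open AlgSp

namespace Groth.Agent.S10313

open Groth.Agent.H52

theorem zero_le_fibreDimAt {U V : Scheme.{u}} (h : U ⟶ V) (x : U) :
    (0 : WithBot ℕ∞) ≤ FlatMor.fibreDimAt h x := by
  have hne : FlatMor.fibreDimAt h x ≠ ⊥ := by
    rw [Groth.Agent.H9.FibDim.fibreDimAt_eq_tfd]
    exact Groth.Agent.H9.FibDim.localDim_ne_bot _ _
  obtain ⟨a, ha⟩ := WithBot.ne_bot_iff_exists.mp hne
  rw [← ha]
  exact WithBot.coe_le_coe.mpr zero_le

/-- quasi-finite near a point from fibre dimension `≤ 0` on a chart diagram. -/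
theorem hasAtMor_lqf_of_le_zero {S : Scheme.{u}} {X Y : AlgSp.Sp S} (f : X ⟶ Y)
    (hf : AlgSp.LocP @LocallyOfFiniteType f) (x : AlgSp.Points X)
    (H : AlgSp.HasAtMor (fun _ _ h u => FlatMor.fibreDimAt h u ≤ ((0 : ℕ) : WithBot ℕ∞)) f x) :
    AlgSp.HasAtMor (fun U _ h u => ∃ W : U.Opens, u ∈ W ∧ LocallyQuasiFinite (W.ι ≫ h) ∧
      LocallyOfFiniteType (W.ι ≫ h)) f x := by
  obtain ⟨U, V, a, b, h, u, ha, hb, comm, hu, hdim⟩ := H
  have h2 : LocallyOfFiniteType h.left := hf a b h ha hb comm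
  have hq : h.left.QuasiFiniteAt u :=
    Groth.Agent.S1608.quasiFiniteAt_of_fibreDimAt_eq_zero h.left u
      (le_antisymm hdim (zero_le_fibreDimAt h.left u))
  exact ⟨U, V, a, b, h, u, ha, hb, comm, hu, h.left.quasiFiniteLocus, hq,
    (inferInstance : LocallyQuasiFinite (h.left.quasiFiniteLocus.ι ≫ h.left)),
    (inferInstance : LocallyOfFiniteType (h.left.quasiFiniteLocus.ι ≫ h.left))⟩

/-- For f locally of finite type there is an open subspace of X on which f is locally quasi-finite,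
outside of which the relative dimension is at least 1, and whose formation commutes with base
change. -/
theorem result {S : Scheme.{u}} {X Y : AlgSp.Space S} (f : X ⟶ Y)
    (hf : AlgSp.LocP @LocallyOfFiniteType f.hom) :
    ∃ (X' : AlgSp.Space S) (j : X' ⟶ X), AlgSp.RepWith @IsOpenImmersion j.hom ∧
      AlgSp.LocP (@LocallyQuasiFinite ⊓ @LocallyOfFiniteType) (j ≫ f).hom ∧
      (∀ x : AlgSp.Points X.obj, x ∉ Set.range (AlgSp.Points.map j.hom) →
        AlgSp.HasAtMor (fun _ _ h u => 1 ≤ FlatMor.fibreDimAt h u) f.hom x) ∧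
      ∀ (Y'' X'' : AlgSp.Space S) (g : Y'' ⟶ Y) (b : X'' ⟶ X) (f'' : X'' ⟶ Y''),
        IsPullback b.hom f''.hom f.hom g.hom → ∀ x'' : AlgSp.Points X''.obj,
          AlgSp.Points.map b.hom x'' ∈ Set.range (AlgSp.Points.map j.hom) ↔ AlgSp.HasAtMor (fun U _ h u => ∃ W : U.Opens, u ∈ W ∧ LocallyQuasiFinite (W.ι ≫ h) ∧ LocallyOfFiniteType (W.ι ≫ h)) f''.hom x'' := by
  classical
  have hW₀ := Groth.Agent.S10308.result f hf 0
  obtain ⟨X', j, hj, hrange⟩ := Groth.Agent.S10195.result X _ hW₀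
  have hjlft : AlgSp.LocP @LocallyOfFiniteType j.hom :=
    Groth.Agent.H50.locP_of_repWith (fun _ _ g hg => by have := hg; infer_instance)
      (Groth.Agent.H50.repWith_mono (fun _ _ g hg => by have := hg; infer_instance) hj)
  have hjf : AlgSp.LocP @LocallyOfFiniteType (j.hom ≫ f.hom) :=
    locP_comp etLocal_lft X.property j.hom f.hom hjlft hf
  refine ⟨X', j, hj, ?_, ?_, ?_⟩
  · -- locally quasi-finite on `X'`
    refine Groth.Agent.H50.locP_of_forall_hasAtMor_nbhd etLocal_lqf (j ≫ f).hom fun x' => ?_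
    have hx' : AlgSp.Points.map j.hom x' ∈ Set.range (AlgSp.Points.map j.hom) := ⟨x', rfl⟩
    rw [hrange] at hx'
    have H1 : AlgSp.HasAtMor (fun _ _ h u => FlatMor.fibreDimAt h u ≤ ((0 : ℕ) : WithBot ℕ∞))
        (j.hom ≫ f.hom) x' :=
      hasAtMor_comp_of_isOpenImmersion
        (Q := fun _ _ h u => FlatMor.fibreDimAt h u ≤ ((0 : ℕ) : WithBot ℕ∞))
        (fun ι _ h w hq => by
          rw [Groth.Agent.H9.Equidim.fibreDimAt_comp_of_isOpenImmersion]; exact hq)
        j.hom hj f.hom x' hx'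
    exact hasAtMor_lqf_of_le_zero (j.hom ≫ f.hom) hjf x' H1
  · -- outside `X'` the relative dimension is positive
    intro x hx
    rw [hrange] at hx
    obtain ⟨U, V, a, b, h, u, ha, hb, comm, hu⟩ :=
      exists_chart_diagram_at X.property Y.property f.hom x
    refine ⟨U, V, a, b, h, u, ha, hb, comm, hu, ?_⟩
    change (1 : WithBot ℕ∞) ≤ FlatMor.fibreDimAt h.left u
    by_contra hlt
    apply hx
    refine ⟨U, V, a, b, h, u, ha, hb, comm, hu, ?_⟩
    change FlatMor.fibreDimAt h.left u ≤ ((0 : ℕ) : WithBot ℕ∞)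
    have h0 := zero_le_fibreDimAt h.left u
    obtain ⟨d, hd⟩ := WithBot.ne_bot_iff_exists.mp (ne_bot_of_le_ne_bot (by simp) h0)
    rw [← hd] at hlt ⊢
    have hlt' : ¬ (1 : ℕ∞) ≤ d := fun h1 => hlt (by exact_mod_cast h1)
    have hd0 : d = 0 := by
      by_contra hne
      exact hlt' (Order.one_le_iff_ne_zero.mpr hne)
    rw [hd0]
    rfl
  · -- compatibility with base change
    intro Y'' X'' g b f'' sq x''
    rw [hrange]
    have hf''lft : AlgSp.LocP @LocallyOfFiniteType f''.hom :=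
      locP_baseChange etLocal_lft X.property Y.property Y''.property sq hf
    constructor
    · rintro ⟨U, V, a, b₀, h, u, ha, hb, comm, hu, hdim⟩
      obtain ⟨U', V', a', b', h', π, gV, u', ha', hb', comm', hu', hπ, hpb, -, -⟩ :=
        exists_chart_diagram_baseChange Y.property Y''.property sq x'' a b₀ h ha hb comm u hu
      have hlft : LocallyOfFiniteType h.left := hf a b₀ h ha hb comm
      refine hasAtMor_lqf_of_le_zero f''.hom hf''lft x'' ⟨U', V', a', b', h', u', ha', hb', comm', hu', ?_⟩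
      change FlatMor.fibreDimAt h'.left u' ≤ ((0 : ℕ) : WithBot ℕ∞)
      rw [fibreDimAt_eq_of_isPullback h.left gV.left π.left h'.left hpb u', hπ]
      exact hdim
    · rintro ⟨U₁, V₁, a₁, b₁, h₁, u₁, ha₁, hb₁, comm₁, hu₁, W, hu₁W, hq1, hq2⟩
      obtain ⟨U, V, a, b₀, h, u, ha, hb, comm, hu⟩ :=
        exists_chart_diagram_at X.property Y.property f.hom (AlgSp.Points.map b.hom x'')
      obtain ⟨U', V', a', b', h', π, gV, u', ha', hb', comm', hu', hπ, hpb, -, -⟩ :=
        exists_chart_diagram_baseChange Y.property Y''.property sq x'' a b₀ h ha hb comm u hu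
      have hlft : LocallyOfFiniteType h.left := hf a b₀ h ha hb comm
      refine ⟨U, V, a, b₀, h, u, ha, hb, comm, hu, ?_⟩
      change FlatMor.fibreDimAt h.left u ≤ ((0 : ℕ) : WithBot ℕ∞)
      rw [← hπ, ← fibreDimAt_eq_of_isPullback h.left gV.left π.left h'.left hpb u',
        fibreDimAt_eq_of_charts f''.hom a' b' h' ha' hb' comm' a₁ b₁ h₁ ha₁ hb₁ comm₁ u' u₁
          (hu'.trans hu₁.symm)]
      have hres := Groth.Agent.H9.Equidim.fibreDimAt_comp_of_isOpenImmersion W.ι h₁.left ⟨u₁, hu₁W⟩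
      change _ = FlatMor.fibreDimAt h₁.left u₁ at hres
      rw [← hres]
      have hq1' : LocallyQuasiFinite (W.ι ≫ h₁.left) := hq1
      have hq2' : LocallyOfFiniteType (W.ι ≫ h₁.left) := hq2
      exact le_of_eq (Groth.Agent.S1608.fibreDimAt_eq_zero_of_quasiFiniteAt (W.ι ≫ h₁.left)
        ⟨u₁, hu₁W⟩ ((W.ι ≫ h₁.left).quasiFiniteAt _))

end Groth.Agent.S10313
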