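import Groth.Statements.S10621
import Groth.Agent.H19.InfTop

set_option autoImplicit false
universe u
open CategoryTheory CategoryTheory.Limits AlgebraicGeometry
open AlgSp

namespace Groth.Agent.S10621

/-- For a morphism f : X ⟶ Y of algebraic spaces over S, these conditions are equivalent: f is formally
unramified (lifting along square-zero thickenings of affine schemes); for every scheme U with a
representable etale U ⟶ X, every scheme V with a representable etale V ⟶ Y and every compatible U ⟶
V, the morphism of schemes U ⟶ V is formally unramified; and this holds as soon as it holds for one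
such diagram in which both charts are moreover surjective. Formal unramifiedness of a morphism of
schemes is Mathlib's FormallyUnramified (formally unramified ring maps on affine opens, no
finite-type condition), which agrees with the lifting definition used here. -/
theorem result {S : Scheme.{u}} {X Y : AlgSp.Space S} (f : X ⟶ Y) :
    (AlgSp.IsFormallyUnramifiedMor f.hom ↔ AlgSp.LocP @FormallyUnramified f.hom) ∧
    (∀ (U V : Over S) (a : (AlgSp.yon S).obj U ⟶ X.obj) (b : (AlgSp.yon S).obj V ⟶ Y.obj) (h : U ⟶ V),
      AlgSp.RepWith @Etale a → AlgSp.RepWith @Surjective a → AlgSp.RepWith @Etale b → AlgSp.RepWith @Surjective b →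
      a ≫ f.hom = (AlgSp.yon S).map h ≫ b → FormallyUnramified h.left → AlgSp.IsFormallyUnramifiedMor f.hom) := by
  have part2 : ∀ (U V : Over S) (a : (AlgSp.yon S).obj U ⟶ X.obj) (b : (AlgSp.yon S).obj V ⟶ Y.obj)
      (h : U ⟶ V), AlgSp.RepWith @Etale a → AlgSp.RepWith @Surjective a → AlgSp.RepWith @Etale b →
      AlgSp.RepWith @Surjective b → a ≫ f.hom = (AlgSp.yon S).map h ≫ b → FormallyUnramified h.left →
      AlgSp.IsFormallyUnramifiedMor f.hom := by
    intro U V a b h ha ha' hb _ hcomm hh
    apply Groth.Agent.H19.Inf.formallyUnramified_of_comp_etale_surjective a f.hom ha ha'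
    rw [hcomm]
    exact Groth.Agent.H53.formallyUnramified_comp _ _
      (Groth.Agent.H19.Inf.isFormallyUnramifiedMor_yon_map h hh)
      ((Groth.Agent.H53.isFormallyEtaleMor_iff b).1
        (Groth.Agent.H19.Inf.formallyEtale_of_repWith_etale b hb)).2
  refine ⟨⟨?_, ?_⟩, part2⟩
  · intro hf U V a b h ha hb hcomm
    apply Groth.Agent.H19.Inf.formallyUnramified_of_isFormallyUnramifiedMor_yon_map
    apply Groth.Agent.H53.formallyUnramified_of_comp ((AlgSp.yon S).map h) b
    rw [← hcomm]
    exact Groth.Agent.H53.formallyUnramified_comp a f.hom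
      ((Groth.Agent.H53.isFormallyEtaleMor_iff a).1
        (Groth.Agent.H19.Inf.formallyEtale_of_repWith_etale a ha)).2 hf
  · intro hL
    obtain ⟨U₀, p, hpe, hps⟩ := X.property.atlas
    obtain ⟨V, q, hqe, hqs⟩ := Y.property.atlas
    have rq := hqe.rep
    have sqU := rq.isPullback (p ≫ f.hom)
    obtain ⟨h, hh⟩ := (AlgSp.yon S).map_surjective (rq.fst (p ≫ f.hom))
    have hsE : Etale (rq.snd (p ≫ f.hom)).left := hqe.property _ _ _ sqU
    have hsS : Surjective (rq.snd (p ≫ f.hom)).left := hqs.property _ _ _ sqU
    have haE : AlgSp.RepWith @Etale ((AlgSp.yon S).map (rq.snd (p ≫ f.hom)) ≫ p) :=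
      MorphismProperty.comp_mem _ _ _ ((AlgSp.repWith_yon_map_iff _ _).2 hsE) hpe
    have haS : AlgSp.RepWith @Surjective ((AlgSp.yon S).map (rq.snd (p ≫ f.hom)) ≫ p) :=
      MorphismProperty.comp_mem _ _ _ ((AlgSp.repWith_yon_map_iff _ _).2 hsS) hps
    have hcomm : ((AlgSp.yon S).map (rq.snd (p ≫ f.hom)) ≫ p) ≫ f.hom = (AlgSp.yon S).map h ≫ q := by
      rw [hh, Category.assoc]
      exact sqU.w.symm
    exact part2 _ _ _ q h haE haS hqe hqs hcomm (hL _ q h haE hqe hcomm)

end Groth.Agent.S10621
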