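import Groth.Statements.S10613
import Groth.Agent.H52.SL.General
import Groth.Agent.H52.DiscreteFibre
import Groth.Agent.H52.FieldPts
import Groth.Agent.H51.DiagOpen
import Groth.Agent.H51.EtaleMono
import Groth.Agent.H50.RepIso
import Groth.Agent.S10621

set_option autoImplicit false
universe u
open CategoryTheory CategoryTheory.Limits AlgebraicGeometry
open AlgSp

namespace Groth.Agent.S10613

section helpers
variable {S : Scheme.{u}}

theorem locP_inf_iff (P Q : MorphismProperty Scheme.{u}) {X Y : AlgSp.Sp S} (f : X ⟶ Y) :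
    AlgSp.LocP (P ⊓ Q) f ↔ AlgSp.LocP P f ∧ AlgSp.LocP Q f :=
  ⟨fun h => ⟨fun _ _ a b k ha hb hc => (h a b k ha hb hc).1, fun _ _ a b k ha hb hc => (h a b k ha hb hc).2⟩,
    fun h _ _ a b k ha hb hc => ⟨h.1 a b k ha hb hc, h.2 a b k ha hb hc⟩⟩

/-- unramified + universally injective ⇒ monomorphism -/
theorem mono_of_unramified_univInjective {X Y : AlgSp.Sp S} (hX : AlgSp.IsAlgSpace X) (hY : AlgSp.IsAlgSpace Y)
    (f : X ⟶ Y) (hu : AlgSp.LocP (@LocallyOfFiniteType ⊓ @FormallyUnramified) f)
    (hinj : AlgSp.IsUnivInjectiveMor f) : Mono f := by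
  have hΔ : AlgSp.RepWith @IsOpenImmersion (pullback.diagonal f) :=
    Groth.Agent.H51.repWith_isOpenImmersion_diagonal_of_unramified hX hY f hu
  have hi : Function.Injective (AlgSp.Points.map (pullback.snd f f)) :=
    hinj hX f (pullback.fst f f) (pullback.snd f f) (IsPullback.of_hasPullback f f)
  have hs : Function.Surjective (AlgSp.Points.map (pullback.diagonal f)) := by
    intro z
    refine ⟨AlgSp.Points.map (pullback.snd f f) z, hi ?_⟩
    rw [← AlgSp.Points.map_comp, pullback.diagonal_snd, AlgSp.Points.map_id]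
  have : IsIso (pullback.diagonal f) :=
    Groth.Agent.H52.isIso_of_repWith_isOpenImmersion_of_surjective _ hΔ hs
  exact (pullback.isIso_diagonal_iff (f := f)).1 this

/-- a monomorphism has formally unramified charts -/
theorem locP_formallyUnramified_of_mono {X Y : AlgSp.Sp S} (hY : AlgSp.IsAlgSpace Y)
    (f : X ⟶ Y) [Mono f] : AlgSp.LocP @FormallyUnramified f := by
  have : IsIso (pullback.diagonal f) := (pullback.isIso_diagonal_iff (f := f)).2 inferInstance
  have hΔ : AlgSp.RepWith @IsOpenImmersion (pullback.diagonal f) :=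
    Groth.Agent.H50.repWith_of_isIso @IsOpenImmersion _
  intro U V a b h ha hb hc
  exact Groth.Agent.H51.formallyUnramified_of_diagonal_openImmersion hY f hΔ a b h ha hb hc

/-- a monomorphism is separated -/
theorem isSeparatedMor_of_mono {X Y : AlgSp.Sp S} (f : X ⟶ Y) [Mono f] : AlgSp.IsSeparatedMor f := by
  have : IsIso (pullback.diagonal f) := (pullback.isIso_diagonal_iff (f := f)).2 inferInstance
  haveI : MorphismProperty.ContainsIdentities (@IsClosedImmersion : MorphismProperty Scheme.{u}) :=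
    ⟨fun X => (inferInstance : IsClosedImmersion (𝟙 X))⟩
  exact Groth.Agent.H50.repWith_of_isIso @IsClosedImmersion _

/-- a monomorphism locally of finite type is locally quasi-finite -/
theorem lqf_of_mono_lft {X Y : AlgSp.Space S} (f : X ⟶ Y) [Mono f.hom]
    (hft : AlgSp.LocP @LocallyOfFiniteType f.hom) :
    AlgSp.LocP (@LocallyQuasiFinite ⊓ @LocallyOfFiniteType) f.hom := by
  refine Groth.Agent.H52.lqf_of_discrete_fibres f hft ?_
  intro k _ str y P fst snd sq
  have hm : Mono snd := ⟨fun a b hab => sq.hom_ext (by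
    rw [← cancel_mono f.hom, Category.assoc, Category.assoc, sq.w, ← Category.assoc, ← Category.assoc,
      hab]) hab⟩
  have hinj := Groth.Agent.H51.injective_map_of_mono snd
  have hsub := Groth.Agent.H52.subsingleton_points_spec_field str
  have : Subsingleton (AlgSp.Points P) := hinj.subsingleton
  exact Subsingleton.discreteTopology

end helpers

/-- For a morphism f : X ⟶ Y of algebraic spaces over S, these four conditions on f are equivalent: (a)
unramified plus monomorphism; (b) unramified plus universally injective; (c) a monomorphism that is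
locally of finite type; (d) universally injective, locally of finite type and formally unramified
(lifting sense). In that case f is representable by schemes, separated and locally quasi-finite.
(Unramified is the etale-local condition locally of finite type and formally unramified on charts;
monomorphisms are taken in fppf sheaves.) -/
theorem result {S : Scheme.{u}} {X Y : AlgSp.Space S} (f : X ⟶ Y) :
    ((AlgSp.LocP (@LocallyOfFiniteType ⊓ @FormallyUnramified) f.hom ∧ Mono f.hom) ↔
      (AlgSp.LocP (@LocallyOfFiniteType ⊓ @FormallyUnramified) f.hom ∧ AlgSp.IsUnivInjectiveMor f.hom)) ∧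
    ((AlgSp.LocP (@LocallyOfFiniteType ⊓ @FormallyUnramified) f.hom ∧ Mono f.hom) ↔
      (AlgSp.LocP @LocallyOfFiniteType f.hom ∧ Mono f.hom)) ∧
    ((AlgSp.LocP (@LocallyOfFiniteType ⊓ @FormallyUnramified) f.hom ∧ Mono f.hom) ↔
      (AlgSp.IsUnivInjectiveMor f.hom ∧ AlgSp.LocP @LocallyOfFiniteType f.hom ∧ AlgSp.IsFormallyUnramifiedMor f.hom)) ∧
    (AlgSp.LocP @LocallyOfFiniteType f.hom ∧ Mono f.hom →
      AlgSp.Representable f.hom ∧ AlgSp.IsSeparatedMor f.hom ∧
        AlgSp.LocP (@LocallyQuasiFinite ⊓ @LocallyOfFiniteType) f.hom) := by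
  have hXa := X.property
  have hYa := Y.property
  have hD : AlgSp.LocP @LocallyOfFiniteType f.hom ∧ Mono f.hom →
      AlgSp.Representable f.hom ∧ AlgSp.IsSeparatedMor f.hom ∧
        AlgSp.LocP (@LocallyQuasiFinite ⊓ @LocallyOfFiniteType) f.hom := by
    rintro ⟨hft, hm⟩
    have hsep := isSeparatedMor_of_mono f.hom
    have hqf := lqf_of_mono_lft f hft
    exact ⟨Groth.Agent.H52.SL.representable_of_sep_lqf hXa hYa f.hom hsep hqf, hsep, hqf⟩
  refine ⟨⟨fun ⟨hu, hm⟩ => ⟨hu, Groth.Agent.H51.isUnivInjectiveMor_of_mono f.hom⟩,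
      fun ⟨hu, hi⟩ => ⟨hu, mono_of_unramified_univInjective hXa hYa f.hom hu hi⟩⟩,
    ⟨fun ⟨hu, hm⟩ => ⟨((locP_inf_iff _ _ f.hom).1 hu).1, hm⟩,
      fun ⟨hft, hm⟩ => ⟨(locP_inf_iff _ _ f.hom).2 ⟨hft, locP_formallyUnramified_of_mono hYa f.hom⟩, hm⟩⟩,
    ⟨fun ⟨hu, hm⟩ => ⟨Groth.Agent.H51.isUnivInjectiveMor_of_mono f.hom, ((locP_inf_iff _ _ f.hom).1 hu).1,
        (Groth.Agent.S10621.result f).1.2 ((locP_inf_iff _ _ f.hom).1 hu).2⟩,
      fun ⟨hi, hft, hfu⟩ => by
        have hu := (locP_inf_iff _ _ f.hom).2 ⟨hft, (Groth.Agent.S10621.result f).1.1 hfu⟩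
        exact ⟨hu, mono_of_unramified_univInjective hXa hYa f.hom hu hi⟩⟩, hD⟩

end Groth.Agent.S10613
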