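import Groth.Statements.S9912
import Groth.Agent.H52.QC

set_option autoImplicit false
universe u
open CategoryTheory CategoryTheory.Limits AlgebraicGeometry
open AlgSp
open Groth.Agent.H52

namespace Groth.Agent.S9912

/-- For a morphism of algebraic spaces representable by schemes, representable quasi-compactness agrees
with the condition that base changes to quasi-compact algebraic spaces are quasi-compact. -/
theorem result {S : Scheme.{u}} {X Y : AlgSp.Space S} (f : X ⟶ Y)
    (hf : AlgSp.Representable f.hom) :
    AlgSp.RepWith @QuasiCompact f.hom ↔ AlgSp.IsQuasiCompactMor f.hom := by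
  constructor
  · intro hRW
    apply isQuasiCompactMor_of_affine X.property Y.property f.hom
    intro Z hZ g P fst snd sq
    have : IsAffine Z.left := hZ
    obtain ⟨V, sndV, fstV, sqV⟩ := hRW.1 g
    have hqc : QuasiCompact sndV.left := hRW.2 _ _ _ sqV
    have : CompactSpace ↥V.left := QuasiCompact.compactSpace_of_compactSpace sndV.left
    exact isQuasiCompactSp_of_iso_yon V (sqV.isoIsPullback _ _ sq).hom
  · intro hqc
    refine ⟨hf, fun T V g fst snd sq => ?_⟩
    change QuasiCompact snd.left
    rw [quasiCompact_iff_forall_isAffineOpen]
    intro W hW
    have sqQ := IsPullback.of_hasPullback ((yon S).map snd) ((yon S).map (overOpenHom T W))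
    have sqB := sqQ.paste_horiz sq
    have : IsAffine (overOpen T W).left := hW
    have : CompactSpace ↥(overOpen T W).left := inferInstance
    have hQ : IsQuasiCompactSp (pullback ((yon S).map snd) ((yon S).map (overOpenHom T W))) :=
      hqc (IsAlgSpace.yon_obj _) (isQuasiCompactSp_yon _) _ _ _ sqB
    have hc := compactSpace_points_of_isQuasiCompactSp hQ
    have hcomp : IsCompact (Set.range (Points.map
        (pullback.fst ((yon S).map snd) ((yon S).map (overOpenHom T W))))) :=
      isCompact_range (Points.continuous_map _)
    have key : (snd.left ⁻¹ᵁ W : Set ↥V.left) = (Points.schemeHomeo V) ⁻¹' (Set.range (Points.map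
        (pullback.fst ((yon S).map snd) ((yon S).map (overOpenHom T W))))) := by
      ext v
      constructor
      · intro hv
        have e : Points.map ((yon S).map snd) (Points.ofScheme V v) =
            Points.map ((yon S).map (overOpenHom T W))
              (Points.ofScheme (overOpen T W) ⟨snd.left v, hv⟩) := by
          rw [map_yon_map_ofScheme, map_yon_map_ofScheme]
          rfl
        obtain ⟨z, hz, -⟩ := exists_point_of_isPullback sqQ _ _ e
        exact ⟨z, hz⟩
      · rintro ⟨z, hz⟩
        obtain ⟨w, hw⟩ := (Points.schemeEquiv (overOpen T W)).surjective
          (Points.map (pullback.snd ((yon S).map snd) ((yon S).map (overOpenHom T W))) z)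
        have h1 : Points.map ((yon S).map snd) (Points.map (pullback.fst _ _) z) =
            Points.map ((yon S).map (overOpenHom T W)) (Points.map (pullback.snd _ _) z) := by
          rw [← Points.map_comp, ← Points.map_comp, pullback.condition]
        rw [hz, ← hw] at h1
        change Points.map _ (Points.ofScheme V v) = Points.map _ (Points.ofScheme _ w) at h1
        rw [map_yon_map_ofScheme, map_yon_map_ofScheme] at h1
        have h2 := ofScheme_injective T h1
        change snd.left v ∈ W
        rw [h2]
        exact w.2
    rw [key]
    exact (Points.schemeHomeo V).isCompact_preimage.2 hcomp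

end Groth.Agent.S9912
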