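import Groth.Statements.S10678
import Groth.Agent.S10311
import Groth.Agent.S5792
import Groth.Agent.H9.FibDimTop
import Groth.Agent.H52.ChartIndep
import Groth.Agent.H52.ChartAt
import Groth.Agent.H52.FibProd
import Groth.Agent.H50.Points

set_option autoImplicit false
universe u
open CategoryTheory CategoryTheory.Limits AlgebraicGeometry
open AlgSp

namespace Groth.Agent.S10678

theorem fibreDimAt_eq_localDim_of_subsingleton {X Y : Scheme.{u}} (f : X ⟶ Y) [Subsingleton Y]
    (x : X) : FlatMor.fibreDimAt f x = FlatMor.localDim X x := by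
  rw [Groth.Agent.H9.FibDim.fibreDimAt_eq_tfd]
  unfold Groth.Agent.H9.FibDim.tfd
  have hopen : IsOpen (f.base ⁻¹' {f.base x}) := by
    have h1 : f.base ⁻¹' {f.base x} = Set.univ :=
      Set.eq_univ_of_forall fun a => Subsingleton.elim _ _
    rw [h1]; exact isOpen_univ
  exact Groth.Agent.H9.FibDim.localDim_of_isOpenEmbedding hopen.isOpenEmbedding_subtypeVal
    ⟨x, rfl⟩

/-- For a morphism f : X ⟶ Y of finite type between algebraic spaces over S, a point y of |Y| and any
field point k of Y in the class of y, with fibre X_k (pullback in fppf sheaves): the dimension of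
X_k (supremum of the dimensions of its etale scheme charts) is -∞ exactly when y lies outside the
image of |X|, and for every natural number d it is at most d exactly when f has relative dimension
at most d at every point of |X| over y (some etale chart diagram through the point whose top arrow
has local fibre dimension at most d there). -/
theorem result {S : Scheme.{u}} {X Y : AlgSp.Space S} (f : X ⟶ Y) (hf : AlgSp.IsFiniteTypeMor f.hom)
    (y : AlgSp.Points Y.obj) (k : AlgSp.FieldPt Y.obj) (hk : AlgSp.Points.mk k = y)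
    (Xk : AlgSp.Sp S) (fst : Xk ⟶ X.obj) (snd : Xk ⟶ (AlgSp.yon S).obj k.pt) (h : IsPullback fst snd f.hom k.toHom) :
    (AlgSp.dim Xk = ⊥ ↔ y ∉ Set.range (AlgSp.Points.map f.hom)) ∧
      ∀ d : ℕ, (AlgSp.dim Xk ≤ d ↔
        ∀ x : AlgSp.Points X.obj, AlgSp.Points.map f.hom x = y →
          AlgSp.HasAtMor (fun _ _ h u => FlatMor.fibreDimAt h u ≤ (d : WithBot ℕ∞)) f.hom x) := by
  have hX := X.property
  have hY := Y.property
  have hXk : AlgSp.IsAlgSpace Xk :=
    Groth.Agent.H52.isAlgSpace_of_isPullback h hY.diag hX (AlgSp.IsAlgSpace.yon_obj _)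
  haveI hsub : Subsingleton ↥k.pt.left := inferInstanceAs (Subsingleton (PrimeSpectrum k.K))
  -- points of the fibre lie over `y`
  have F1 : ∀ z : AlgSp.Points Xk, AlgSp.Points.map f.hom (AlgSp.Points.map fst z) = y := by
    intro z
    rw [← AlgSp.Points.map_comp, h.w, AlgSp.Points.map_comp]
    obtain ⟨s, hs⟩ := (AlgSp.Points.schemeEquiv k.pt).surjective (AlgSp.Points.map snd z)
    rw [← hs]
    change AlgSp.Points.map k.toHom (AlgSp.Points.ofScheme k.pt s) = y
    rw [← AlgSp.Points.ofPt_eq_map_ofScheme, AlgSp.Points.ofPt_toHom, hk]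
  -- points over `y` come from the fibre
  have F2 : ∀ x : AlgSp.Points X.obj, AlgSp.Points.map f.hom x = y →
      ∃ z : AlgSp.Points Xk, AlgSp.Points.map fst z = x := by
    intro x hx
    have hy : AlgSp.Points.map f.hom x = AlgSp.Points.map k.toHom
        (AlgSp.Points.ofScheme k.pt (IsLocalRing.closedPoint k.K : PrimeSpectrum k.K)) := by
      rw [← AlgSp.Points.ofPt_eq_map_ofScheme, AlgSp.Points.ofPt_toHom, hk, hx]
    obtain ⟨z, hz, -⟩ := Groth.Agent.H50.exists_point_of_isPullback h x _ hy
    exact ⟨z, hz⟩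
  -- the local dimension of a chart of the fibre is the relative dimension of `f`
  have core : ∀ (U : Over S) (a : (AlgSp.yon S).obj U ⟶ Xk) (_ : AlgSp.RepWith @Etale a)
      (u : ↥U.left) (e : WithBot ℕ∞),
      AlgSp.HasAtMor (fun _ _ h u => FlatMor.fibreDimAt h u = e) f.hom
        (AlgSp.Points.map fst (AlgSp.Points.ofPt a u)) →
      FlatMor.localDim ↥U.left u = e := by
    intro U a ha u e he
    have hsnd : AlgSp.HasAtMor (fun _ _ h u => FlatMor.fibreDimAt h u = e) snd
        (AlgSp.Points.ofPt a u) :=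
      Groth.Agent.S10311.result (X := X) (Y := Y)
        (Y' := (⟨(AlgSp.yon S).obj k.pt, AlgSp.IsAlgSpace.yon_obj _⟩ : AlgSp.Space S))
        (X' := (⟨Xk, hXk⟩ : AlgSp.Space S)) f (ObjectProperty.homMk k.toHom)
        (ObjectProperty.homMk fst) (ObjectProperty.homMk snd) h hf.1 (AlgSp.Points.ofPt a u) e he
    obtain ⟨q, hq⟩ := (AlgSp.yon S).map_surjective (a ≫ snd)
    have hcomm : a ≫ snd = (AlgSp.yon S).map q ≫ 𝟙 _ := by rw [hq, Category.comp_id]
    have h1 := Groth.Agent.H52.fibreDimAt_eq_of_hasAtMor snd (AlgSp.Points.ofPt a u) e hsnd a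
      (𝟙 _) q ha (AlgSp.repWith_id @Etale k.pt) hcomm u rfl
    rw [← h1]
    exact (fibreDimAt_eq_localDim_of_subsingleton q.left u).symm
  constructor
  · -- emptiness
    constructor
    · intro hbot
      rintro ⟨x, hx⟩
      obtain ⟨z, hz⟩ := F2 x hx
      obtain ⟨U₀, p, hpe, hps⟩ := hXk.atlas
      obtain ⟨u, hu⟩ := Groth.Agent.H52.surjective_ofPt_of_surjective p hps z
      have h1 : topologicalKrullDim ↥U₀.left ≤ AlgSp.dim Xk :=
        le_iSup_of_le U₀ (le_iSup_of_le p (le_iSup_of_le hpe le_rfl))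
      have h2 : FlatMor.localDim ↥U₀.left u ≤ ⊥ := by
        rw [← hbot]
        exact (Groth.Agent.H9.FibDim.localDim_le_dim _ u).trans h1
      exact Groth.Agent.H9.FibDim.localDim_ne_bot _ u (le_bot_iff.1 h2)
    · intro hy
      unfold AlgSp.dim
      rw [iSup_eq_bot]
      intro U
      rw [iSup_eq_bot]
      intro a
      rw [iSup_eq_bot]
      intro ha
      rw [Groth.Agent.S5792.result, iSup_eq_bot]
      intro u
      exact (hy ⟨_, F1 (AlgSp.Points.ofPt a u)⟩).elim
  · intro d
    constructor
    · intro hdim x hx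
      obtain ⟨z, hz⟩ := F2 x hx
      obtain ⟨U₀, p, hpe, hps⟩ := hXk.atlas
      obtain ⟨u, hu⟩ := Groth.Agent.H52.surjective_ofPt_of_surjective p hps z
      obtain ⟨U, V, a, b, kk, u', ha, hb, comm, hu'⟩ :=
        Groth.Agent.H52.exists_chart_diagram_at hX hY f.hom x
      have he : AlgSp.HasAtMor
          (fun _ _ h u => FlatMor.fibreDimAt h u = FlatMor.fibreDimAt kk.left u') f.hom
          (AlgSp.Points.map fst (AlgSp.Points.ofPt p u)) := by
        rw [hu, hz]
        exact ⟨U, V, a, b, kk, u', ha, hb, comm, hu', rfl⟩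
      have h1 := core U₀ p hpe u _ he
      have h2 : topologicalKrullDim ↥U₀.left ≤ AlgSp.dim Xk :=
        le_iSup_of_le U₀ (le_iSup_of_le p (le_iSup_of_le hpe le_rfl))
      refine ⟨U, V, a, b, kk, u', ha, hb, comm, hu', ?_⟩
      show FlatMor.fibreDimAt kk.left u' ≤ _
      rw [← h1]
      exact ((Groth.Agent.H9.FibDim.localDim_le_dim _ u).trans h2).trans hdim
    · intro H
      unfold AlgSp.dim
      refine iSup_le fun U => iSup_le fun a => iSup_le fun ha => ?_
      rw [Groth.Agent.S5792.result]
      refine iSup_le fun u => ?_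
      obtain ⟨U', V', a', b', k', u'', ha', hb', comm', hu'', hle⟩ :=
        H _ (F1 (AlgSp.Points.ofPt a u))
      have he : AlgSp.HasAtMor
          (fun _ _ h u => FlatMor.fibreDimAt h u = FlatMor.fibreDimAt k'.left u'') f.hom
          (AlgSp.Points.map fst (AlgSp.Points.ofPt a u)) :=
        ⟨U', V', a', b', k', u'', ha', hb', comm', hu'', rfl⟩
      rw [core U a ha u _ he]
      exact hle

end Groth.Agent.S10678
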