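import Groth.Statements.S10279
import Groth.Agent.H52.Iso

set_option autoImplicit false
universe u
open CategoryTheory CategoryTheory.Limits AlgebraicGeometry
open AlgSp
open Groth.Agent.H52

namespace Groth.Agent.S10279

/-- The target of a surjective morphism over B from a space universally closed over B is universally
closed over B (hence proper over B as soon as it is also separated and of finite type over B, by
definition). -/
theorem result {S : Scheme.{u}} {X Y B : AlgSp.Space S} (f : X ⟶ Y) (p : X ⟶ B)
    (q : Y ⟶ B) (comm : f ≫ q = p) (hp : AlgSp.IsUnivClosedMor p.hom) (hf : AlgSp.IsSurjectiveMor f.hom) :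
    AlgSp.IsUnivClosedMor q.hom := by
  intro Z Z' hZ g fst snd sq
  have hp' : p.hom = f.hom ≫ q.hom := by rw [← comm]; rfl
  have sqp : IsPullback (pullback.fst p.hom g) (pullback.snd p.hom g) (f.hom ≫ q.hom) g := by
    rw [← hp']
    exact IsPullback.of_hasPullback p.hom g
  have hcl : IsClosedMap (Points.map (pullback.snd p.hom g)) :=
    hp hZ g _ _ (IsPullback.of_hasPullback p.hom g)
  let l : pullback p.hom g ⟶ Z' :=
    sq.lift (pullback.fst p.hom g ≫ f.hom) (pullback.snd p.hom g) (by rw [Category.assoc]; exact sqp.w)
  have sql : IsPullback l (pullback.fst p.hom g) fst f.hom :=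
    isPullback_lift_of_comp_left sq sqp l (sq.lift_fst _ _ _) (sq.lift_snd _ _ _)
  have hl : Function.Surjective (Points.map l) := surjective_map_fst_of_isPullback sql hf
  intro C hC
  have e : Points.map snd '' C = Points.map (pullback.snd p.hom g) '' (Points.map l ⁻¹' C) := by
    have e2 : Points.map (pullback.snd p.hom g) = Points.map snd ∘ Points.map l := by
      funext x
      rw [Function.comp_apply, ← Points.map_comp, sq.lift_snd]
    rw [e2, Set.image_comp, Set.image_preimage_eq _ hl]
  rw [e]
  exact hcl _ (hC.preimage (Points.continuous_map l))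

end Groth.Agent.S10279
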