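import Groth.Statements.S10280
import Groth.Agent.H51.DiagSep

set_option autoImplicit false
universe u
open CategoryTheory CategoryTheory.Limits AlgebraicGeometry
open AlgSp

namespace Groth.Agent.S10280

/-- F is separated if and only if its diagonal is universally closed, if and only if its diagonal is
proper. -/
theorem result {S : Scheme.{u}} {X Y : AlgSp.Space S} (f : X ⟶ Y) :
    (AlgSp.IsSeparatedMor f.hom ↔ AlgSp.IsUnivClosedMor (pullback.diagonal f.hom)) ∧
    (AlgSp.IsSeparatedMor f.hom ↔ AlgSp.IsProperMor (pullback.diagonal f.hom)) := by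
  have hQ : AlgSp.IsAlgSpace (pullback f.hom f.hom) :=
    Groth.Agent.H52.isAlgSpace_of_isPullback (IsPullback.of_hasPullback f.hom f.hom)
      Y.property.diag X.property X.property
  let Q : AlgSp.Space S := ⟨pullback f.hom f.hom, hQ⟩
  let Δ : X ⟶ Q := ObjectProperty.homMk (pullback.diagonal f.hom)
  have hrep : AlgSp.Representable Δ.hom :=
    Groth.Agent.H51.representable_pullback_diagonal X.property f.hom
  have key : AlgSp.RepWith @UniversallyClosed (pullback.diagonal f.hom) ↔
      AlgSp.IsUnivClosedMor (pullback.diagonal f.hom) := Groth.Agent.S9922.result Δ hrep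
  have le1 : (@IsClosedImmersion : MorphismProperty Scheme.{u}) ≤ @UniversallyClosed := by
    intro A B g hg
    have : IsClosedImmersion g := hg
    infer_instance
  have le2 : (@IsClosedImmersion : MorphismProperty Scheme.{u}) ≤ @LocallyOfFiniteType := by
    intro A B g hg
    have : IsClosedImmersion g := hg
    infer_instance
  have le3 : (@IsClosedImmersion : MorphismProperty Scheme.{u}) ≤ @QuasiCompact := by
    intro A B g hg
    have : IsClosedImmersion g := hg
    infer_instance
  have dir1 : AlgSp.IsSeparatedMor f.hom → AlgSp.IsUnivClosedMor (pullback.diagonal f.hom) :=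
    fun hsep => key.1 (Groth.Agent.H51.repWith_mono le1 hsep)
  have dir2 : AlgSp.IsUnivClosedMor (pullback.diagonal f.hom) → AlgSp.IsSeparatedMor f.hom :=
    fun h => Groth.Agent.H51.isSeparatedMor_of_repWith_universallyClosed_diagonal X.property
      Y.property f.hom (key.2 h)
  refine ⟨⟨dir1, dir2⟩, ⟨fun hsep => ⟨?_, ⟨?_, ?_⟩, dir1 hsep⟩, fun h => dir2 h.2.2⟩⟩
  · have inst1 := AlgSp.repWith_isStableUnderBaseChange (S := S) @IsClosedImmersion
    have inst2 := AlgSp.repWith_isMultiplicative (S := S) @IsClosedImmersion
    have : IsIso (pullback.diagonal (pullback.diagonal f.hom)) :=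
      (pullback.isIso_diagonal_iff _).2 inferInstance
    exact MorphismProperty.of_isIso (AlgSp.RepWith @IsClosedImmersion) _
  · exact Groth.Agent.H50.locP_of_repWith (P := @LocallyOfFiniteType)
      (fun A B g hg => by have : Etale g := hg; infer_instance)
      (Groth.Agent.H51.repWith_mono le2 hsep)
  · exact Groth.Agent.H50.isQuasiCompactMor_of_repWith (Groth.Agent.H51.repWith_mono le3 hsep)

end Groth.Agent.S10280
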