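import Groth.Statements.S10122
import Groth.Agent.H50.Fibre
import Groth.Agent.S9912

set_option autoImplicit false
universe u
open CategoryTheory CategoryTheory.Limits AlgebraicGeometry
open AlgSp AlgSp.GroupoidSp

namespace Groth.Agent.S10122

section general
variable {C : Type*} [Category C] [HasPullbacks C]

/-- A section of a morphism is a base change of its diagonal. -/
theorem isPullback_section {X Y : C} (p : X ⟶ Y) (e : Y ⟶ X) (h : e ≫ p = 𝟙 Y)
    (hc : (p ≫ e) ≫ p = 𝟙 X ≫ p) :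
    IsPullback e e (pullback.diagonal p) (pullback.lift (p ≫ e) (𝟙 X) hc) := by
  have w : e ≫ pullback.diagonal p = e ≫ pullback.lift (p ≫ e) (𝟙 X) hc := by
    apply pullback.hom_ext
    · rw [Category.assoc, Category.assoc, pullback.diagonal_fst, pullback.lift_fst, Category.comp_id,
        ← Category.assoc, h, Category.id_comp]
    · rw [Category.assoc, Category.assoc, pullback.diagonal_snd, pullback.lift_snd]
  have cone : ∀ (s : PullbackCone (pullback.diagonal p) (pullback.lift (p ≫ e) (𝟙 X) hc)),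
      s.fst = s.snd ≫ p ≫ e ∧ s.fst = s.snd := by
    intro s
    have h1 := s.condition =≫ pullback.fst p p
    have h2 := s.condition =≫ pullback.snd p p
    rw [Category.assoc, Category.assoc, pullback.diagonal_fst, pullback.lift_fst,
      Category.comp_id] at h1
    rw [Category.assoc, Category.assoc, pullback.diagonal_snd, pullback.lift_snd,
      Category.comp_id, Category.comp_id] at h2
    exact ⟨h1, h2⟩
  refine IsPullback.mk ⟨w⟩ ⟨PullbackCone.IsLimit.mk _ (fun s => s.snd ≫ p) ?_ ?_ ?_⟩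
  · intro s
    change (s.snd ≫ p) ≫ e = s.fst
    rw [Category.assoc]
    exact (cone s).1.symm
  · intro s
    change (s.snd ≫ p) ≫ e = s.snd
    rw [Category.assoc, ← (cone s).1]
    exact (cone s).2
  · intro s m hm1 _
    change m = s.snd ≫ p
    rw [← (cone s).2, ← hm1, Category.assoc m e p, h, Category.comp_id]

end general

variable {S : Scheme.{u}} {B : AlgSp.Sp S} (G : AlgSp.GroupoidSp B)

/-- Composition of `T`-valued arrows of the groupoid. -/
noncomputable def cmp {T : AlgSp.Sp S} (α β : T ⟶ G.R) (h : α ≫ G.s = β ≫ G.t) : T ⟶ G.R :=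
  pullback.lift α β h ≫ G.c

theorem cmp_congr {T : AlgSp.Sp S} {α α' β β' : T ⟶ G.R} (h : α ≫ G.s = β ≫ G.t)
    (h' : α' ≫ G.s = β' ≫ G.t) (hα : α = α') (hβ : β = β') : cmp G α β h = cmp G α' β' h' := by
  subst hα hβ
  rfl

theorem precomp_h {T T' : AlgSp.Sp S} (g : T' ⟶ T) {α β : T ⟶ G.R} (h : α ≫ G.s = β ≫ G.t) :
    (g ≫ α) ≫ G.s = (g ≫ β) ≫ G.t := by
  rw [Category.assoc g α, Category.assoc g β, h]

theorem precomp_cmp {T T' : AlgSp.Sp S} (g : T' ⟶ T) (α β : T ⟶ G.R) (h : α ≫ G.s = β ≫ G.t) :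
    g ≫ cmp G α β h = cmp G (g ≫ α) (g ≫ β) (precomp_h G g h) := by
  unfold cmp
  rw [← Category.assoc]
  congr 1
  apply pullback.hom_ext
  · rw [Category.assoc, pullback.lift_fst, pullback.lift_fst]
  · rw [Category.assoc, pullback.lift_snd, pullback.lift_snd]

theorem stab_hom_ext {T : AlgSp.Sp S} {a b : T ⟶ G.stabilizer}
    (h1 : a ≫ G.stabilizerι = b ≫ G.stabilizerι)
    (h2 : a ≫ G.stabilizerToU = b ≫ G.stabilizerToU) : a = b :=
  pullback.hom_ext (f := G.j) (g := G.diag) h1 h2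

theorem diag_fst : G.diag ≫ pullback.fst G.pU G.pU = 𝟙 _ := pullback.lift_fst _ _ _

theorem diag_snd : G.diag ≫ pullback.snd G.pU G.pU = 𝟙 _ := pullback.lift_snd _ _ _

theorem stab_condition : G.stabilizerι ≫ G.j = G.stabilizerToU ≫ G.diag :=
  pullback.condition (f := G.j) (g := G.diag)

theorem eG_stabilizerToU (eG : G.U ⟶ G.stabilizer) (heG : eG ≫ G.stabilizerι = G.e) :
    eG ≫ G.stabilizerToU = 𝟙 _ := by
  have h1 : eG ≫ G.stabilizerToU ≫ G.diag = G.e ≫ G.j := by
    rw [← stab_condition, ← Category.assoc, heG]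
  have h2 := h1 =≫ pullback.fst G.pU G.pU
  simp only [Category.assoc, diag_fst, Category.comp_id, AlgSp.GroupoidSp.j_fst, G.e_t] at h2
  exact h2

/-- Two `T`-valued arrows `r, r'` with the same target and with `r⁻¹ ∘ r'` an identity are equal. -/
theorem eq_of_cmp_inv_eq {T : AlgSp.Sp S} (r r' : T ⟶ G.R)
    (ht : r ≫ G.t = r' ≫ G.t) (h2 : (r ≫ G.i) ≫ G.s = r' ≫ G.t)
    (key : cmp G (r ≫ G.i) r' h2 = r ≫ G.s ≫ G.e) : r = r' := by
  have h1 : r ≫ G.s = (r ≫ G.s ≫ G.e) ≫ G.t := by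
    rw [Category.assoc, Category.assoc, G.e_t, Category.comp_id]
  have step1 : r = cmp G r (r ≫ G.s ≫ G.e) h1 := (G.comp_e r).symm
  have h3 : r ≫ G.s = cmp G (r ≫ G.i) r' h2 ≫ G.t := by
    rw [key]
    exact h1
  have step2 : cmp G r (r ≫ G.s ≫ G.e) h1 = cmp G r (cmp G (r ≫ G.i) r' h2) h3 :=
    cmp_congr G h1 h3 rfl key.symm
  have h4 : r ≫ G.s = (r ≫ G.i) ≫ G.t := by rw [Category.assoc, G.i_t]
  have h5 : cmp G r (r ≫ G.i) h4 ≫ G.s = r' ≫ G.t := (G.comp_s r (r ≫ G.i) h4).trans h2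
  have step3 : cmp G (cmp G r (r ≫ G.i) h4) r' h5 = cmp G r (cmp G (r ≫ G.i) r' h2) h3 :=
    G.assoc r (r ≫ G.i) r' h4 h2
  have step4 : cmp G r (r ≫ G.i) h4 = r ≫ G.t ≫ G.e := G.comp_i r
  have h6 : (r ≫ G.t ≫ G.e) ≫ G.s = r' ≫ G.t := by
    rw [Category.assoc, Category.assoc, G.e_s, Category.comp_id, ht]
  have step5 : cmp G (cmp G r (r ≫ G.i) h4) r' h5 = cmp G (r ≫ G.t ≫ G.e) r' h6 :=
    cmp_congr G h5 h6 step4 rfl
  have h7 : (r' ≫ G.t ≫ G.e) ≫ G.s = r' ≫ G.t := by
    rw [Category.assoc, Category.assoc, G.e_s, Category.comp_id]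
  have step6 : cmp G (r ≫ G.t ≫ G.e) r' h6 = cmp G (r' ≫ G.t ≫ G.e) r' h7 :=
    cmp_congr G h6 h7 (by rw [← Category.assoc, ht, Category.assoc]) rfl
  have step7 : cmp G (r' ≫ G.t ≫ G.e) r' h7 = r' := G.e_comp r'
  exact step1.trans (step2.trans (step3.symm.trans (step5.trans (step6.trans step7))))

/-- The diagonal of `j` is a base change of the unit section of the stabilizer. -/
theorem exists_isPullback_diagonal_j (eG : G.U ⟶ G.stabilizer) (heG : eG ≫ G.stabilizerι = G.e) :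
    ∃ ψ : pullback G.j G.j ⟶ G.stabilizer, IsPullback G.s (pullback.diagonal G.j) eG ψ := by
  have heU := eG_stabilizerToU G eG heG
  have hcond : pullback.fst G.j G.j ≫ G.j = pullback.snd G.j G.j ≫ G.j := pullback.condition
  have hs12 : pullback.fst G.j G.j ≫ G.s = pullback.snd G.j G.j ≫ G.s := by
    have h := hcond =≫ pullback.snd G.pU G.pU
    simpa only [Category.assoc, AlgSp.GroupoidSp.j_snd] using h
  have ht12 : pullback.fst G.j G.j ≫ G.t = pullback.snd G.j G.j ≫ G.t := by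
    have h := hcond =≫ pullback.fst G.pU G.pU
    simpa only [Category.assoc, AlgSp.GroupoidSp.j_fst] using h
  have h0 : (pullback.fst G.j G.j ≫ G.i) ≫ G.s = pullback.snd G.j G.j ≫ G.t := by
    rw [Category.assoc, G.i_s, ht12]
  have hρs : cmp G (pullback.fst G.j G.j ≫ G.i) (pullback.snd G.j G.j) h0 ≫ G.s =
      pullback.snd G.j G.j ≫ G.s := G.comp_s _ _ h0
  have hρt : cmp G (pullback.fst G.j G.j ≫ G.i) (pullback.snd G.j G.j) h0 ≫ G.t =
      pullback.fst G.j G.j ≫ G.s :=
    (G.comp_t _ _ h0).trans (by rw [Category.assoc, G.i_t])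
  have hψ : cmp G (pullback.fst G.j G.j ≫ G.i) (pullback.snd G.j G.j) h0 ≫ G.j =
      (pullback.fst G.j G.j ≫ G.s) ≫ G.diag := by
    apply pullback.hom_ext
    · rw [Category.assoc, AlgSp.GroupoidSp.j_fst, hρt, Category.assoc, Category.assoc, diag_fst,
        Category.comp_id]
    · rw [Category.assoc, AlgSp.GroupoidSp.j_snd, hρs, Category.assoc, Category.assoc, diag_snd,
        Category.comp_id, hs12]
  obtain ⟨ψ, hψ1, hψ2⟩ : ∃ ψ : pullback G.j G.j ⟶ G.stabilizer,
      ψ ≫ G.stabilizerι = cmp G (pullback.fst G.j G.j ≫ G.i) (pullback.snd G.j G.j) h0 ∧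
      ψ ≫ G.stabilizerToU = pullback.fst G.j G.j ≫ G.s :=
    ⟨pullback.lift (f := G.j) (g := G.diag) _ _ hψ, pullback.lift_fst _ _ _,
      pullback.lift_snd _ _ _⟩
  have w : G.s ≫ eG = pullback.diagonal G.j ≫ ψ := by
    apply stab_hom_ext
    · rw [Category.assoc, heG, Category.assoc, hψ1, precomp_cmp]
      have hB : (𝟙 G.R ≫ G.i) ≫ G.s = 𝟙 G.R ≫ G.t := by
        rw [Category.id_comp, Category.id_comp, G.i_s]
      have e1 : cmp G (pullback.diagonal G.j ≫ pullback.fst G.j G.j ≫ G.i)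
          (pullback.diagonal G.j ≫ pullback.snd G.j G.j)
          (precomp_h G _ h0) = cmp G (𝟙 G.R ≫ G.i) (𝟙 G.R) hB :=
        cmp_congr G _ hB (by rw [← Category.assoc, pullback.diagonal_fst])
          (pullback.diagonal_snd _)
      have e2 : cmp G (𝟙 G.R ≫ G.i) (𝟙 G.R) hB = 𝟙 G.R ≫ G.s ≫ G.e := G.i_comp (𝟙 G.R)
      rw [e1, e2, Category.id_comp]
    · rw [Category.assoc, heU, Category.comp_id, Category.assoc, hψ2, ← Category.assoc,
        pullback.diagonal_fst, Category.id_comp]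
  have cone_eq : ∀ {T : AlgSp.Sp S} (a : T ⟶ G.U) (b : T ⟶ pullback G.j G.j), a ≫ eG = b ≫ ψ →
      a = b ≫ pullback.fst G.j G.j ≫ G.s ∧
        b ≫ pullback.fst G.j G.j = b ≫ pullback.snd G.j G.j := by
    intro T a b hab
    have hii : a = b ≫ pullback.fst G.j G.j ≫ G.s := by
      have h := hab =≫ G.stabilizerToU
      rw [Category.assoc, Category.assoc, heU, Category.comp_id, hψ2] at h
      exact h
    have hi : a ≫ G.e =
        b ≫ cmp G (pullback.fst G.j G.j ≫ G.i) (pullback.snd G.j G.j) h0 := by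
      have h := hab =≫ G.stabilizerι
      rw [Category.assoc, Category.assoc, heG, hψ1] at h
      exact h
    refine ⟨hii, ?_⟩
    have ht : (b ≫ pullback.fst G.j G.j) ≫ G.t = (b ≫ pullback.snd G.j G.j) ≫ G.t := by
      rw [Category.assoc, Category.assoc, ht12]
    have h2 : ((b ≫ pullback.fst G.j G.j) ≫ G.i) ≫ G.s = (b ≫ pullback.snd G.j G.j) ≫ G.t := by
      rw [Category.assoc, G.i_s, ht]
    apply eq_of_cmp_inv_eq G _ _ ht h2
    have e1 := precomp_cmp G b (pullback.fst G.j G.j ≫ G.i) (pullback.snd G.j G.j) h0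
    have e2 : cmp G (b ≫ pullback.fst G.j G.j ≫ G.i) (b ≫ pullback.snd G.j G.j)
        (precomp_h G _ h0) =
        cmp G ((b ≫ pullback.fst G.j G.j) ≫ G.i) (b ≫ pullback.snd G.j G.j) h2 :=
      cmp_congr G _ h2 (Category.assoc _ _ _).symm rfl
    rw [← e2, ← e1, ← hi, hii]
    simp only [Category.assoc]
  refine ⟨ψ, IsPullback.mk ⟨w⟩ ⟨PullbackCone.IsLimit.mk _
    (fun c => c.snd ≫ pullback.fst G.j G.j) ?_ ?_ ?_⟩⟩
  · intro c
    change (c.snd ≫ pullback.fst G.j G.j) ≫ G.s = c.fst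
    rw [Category.assoc]
    exact (cone_eq c.fst c.snd c.condition).1.symm
  · intro c
    change (c.snd ≫ pullback.fst G.j G.j) ≫ pullback.diagonal G.j = c.snd
    apply pullback.hom_ext
    · rw [Category.assoc, pullback.diagonal_fst, Category.comp_id]
    · rw [Category.assoc, pullback.diagonal_snd, Category.comp_id]
      exact (cone_eq c.fst c.snd c.condition).2
  · intro c m _ hm2
    change m = c.snd ≫ pullback.fst G.j G.j
    rw [← hm2, Category.assoc, pullback.diagonal_fst, Category.comp_id]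


/-- Let `(U, R, s, t, c)` be a groupoid in algebraic spaces over `B` with stabilizer `G ⟶ U` and unit
section `e : U ⟶ G`. Then (1) `j : R ⟶ U ×_B U` is separated iff `G ⟶ U` is separated iff `e` is a
closed immersion; (3) `j` is quasi-separated iff `G ⟶ U` is quasi-separated iff `e` is
quasi-compact; (2) if `j` or `G ⟶ U` is locally separated then `e` is an immersion. The unit section
is written as any morphism `U ⟶ G` lifting the identity `e : U ⟶ R` of the groupoid. (The published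
part (2) is a three-way equivalence; this row states only that `j` locally separated, or `G ⟶ U`
locally separated, implies that `e` is an immersion.) -/
theorem result (S : Scheme.{u}) (B : AlgSp.Sp S) (hB : AlgSp.IsAlgSpace B)
    (G : AlgSp.GroupoidSp B) (hU : AlgSp.IsAlgSpace G.U) (hR : AlgSp.IsAlgSpace G.R)
    (eG : G.U ⟶ G.stabilizer) (heG : eG ≫ G.stabilizerι = G.e) :
    ((AlgSp.IsSeparatedMor G.j ↔ AlgSp.IsSeparatedMor G.stabilizerToU) ∧
        (AlgSp.IsSeparatedMor G.j ↔ AlgSp.RepWith @IsClosedImmersion eG)) ∧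
      ((AlgSp.IsQuasiSeparatedMor G.j ↔ AlgSp.IsQuasiSeparatedMor G.stabilizerToU) ∧
        (AlgSp.IsQuasiSeparatedMor G.j ↔ AlgSp.IsQuasiCompactMor eG)) ∧
      ((AlgSp.IsLocallySeparatedMor G.j → AlgSp.RepWith @IsImmersion eG) ∧
        (AlgSp.IsLocallySeparatedMor G.stabilizerToU → AlgSp.RepWith @IsImmersion eG)) := by
  have hZ : AlgSp.Representable (Limits.diag (pullback G.pU G.pU)) :=
    Groth.Agent.H50.representable_diag_pullback G.pU G.pU hU.diag hU.diag
  have hStab : AlgSp.IsAlgSpace G.stabilizer :=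
    Groth.Agent.H50.isAlgSpace_pullback G.j G.diag hR hU hZ
  have heU : eG ≫ G.stabilizerToU = 𝟙 _ := eG_stabilizerToU G eG heG
  have sqIV := isPullback_section G.stabilizerToU eG heU
    (by rw [Category.assoc, heU, Category.comp_id, Category.id_comp])
  obtain ⟨ψ, sqII⟩ := exists_isPullback_diagonal_j G eG heG
  have key : ∀ (P : MorphismProperty Scheme.{u}),
      (AlgSp.RepWith P (pullback.diagonal G.j) →
        AlgSp.RepWith P (pullback.diagonal G.stabilizerToU)) ∧
      (AlgSp.RepWith P (pullback.diagonal G.stabilizerToU) → AlgSp.RepWith P eG) ∧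
      (AlgSp.RepWith P eG → AlgSp.RepWith P (pullback.diagonal G.j)) := by
    intro P
    refine ⟨fun h => ?_, fun h => ?_, fun h => ?_⟩
    · exact MorphismProperty.pullback_snd (P := (AlgSp.RepWith (S := S) P).diagonal) G.j G.diag h
    · exact Groth.Agent.H50.repWith_snd_of_isPullback sqIV h
    · exact Groth.Agent.H50.repWith_snd_of_isPullback sqII h
  have hrepΔ : AlgSp.Representable (pullback.diagonal G.stabilizerToU) :=
    Groth.Agent.H50.representable_diagonal_of_diag _ hStab.diag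
  have hrepe : AlgSp.Representable eG :=
    MorphismProperty.of_isPullback (P := AlgSp.Representable (S := S)) sqIV hrepΔ
  have hqc : AlgSp.RepWith @QuasiCompact eG ↔ AlgSp.IsQuasiCompactMor eG :=
    Groth.Agent.S9912.result (X := ⟨G.U, hU⟩) (Y := ⟨G.stabilizer, hStab⟩)
      (ObjectProperty.homMk eG) hrepe
  obtain ⟨k1, k2, k3⟩ := key @IsClosedImmersion
  obtain ⟨q1, q2, q3⟩ := key @QuasiCompact
  obtain ⟨l1, l2, -⟩ := key @IsImmersion
  exact ⟨⟨⟨k1, fun h => k3 (k2 h)⟩, ⟨fun h => k2 (k1 h), k3⟩⟩,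
    ⟨⟨q1, fun h => q3 (q2 h)⟩, ⟨fun h => hqc.1 (q2 (q1 h)), fun h => q3 (hqc.2 h)⟩⟩,
    ⟨fun h => l2 (l1 h), l2⟩⟩

end Groth.Agent.S10122
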