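import Groth.Statements.S10116
import Mathlib.CategoryTheory.Monoidal.Cartesian.Grp
import Groth.Agent.H50.Fibre
import Groth.Agent.S9912
import Groth.Agent.S10122

set_option autoImplicit false
universe u
open CategoryTheory CategoryTheory.Limits AlgebraicGeometry MonoidalCategory MonObj
open AlgSp

namespace Groth.Agent.S10116

open CartesianMonoidalCategory

section general
variable {C : Type*} [Category C] [CartesianMonoidalCategory C]

/-- The diagonal of a group object is the base change of the unit along `(g, h) ↦ g⁻¹ h`. -/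
theorem isPullback_diag_div (G : C) [GrpObj G] :
    IsPullback (toUnit G) (lift (𝟙 G) (𝟙 G)) η[G] ((fst G G)⁻¹ * snd G G) := by
  have w : toUnit G ≫ η[G] = lift (𝟙 G) (𝟙 G) ≫ ((fst G G)⁻¹ * snd G G) := by
    rw [MonObj.comp_mul, GrpObj.comp_inv, lift_fst, lift_snd, inv_mul_cancel, Hom.one_def]
  refine IsPullback.mk ⟨w⟩ ⟨PullbackCone.IsLimit.mk _ (fun s => s.snd ≫ fst G G) ?_ ?_ ?_⟩
  · intro s
    exact toUnit_unique _ _
  · intro s
    have h := s.condition
    rw [MonObj.comp_mul, GrpObj.comp_inv] at h
    have h1 : s.fst ≫ η[G] = 1 := by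
      rw [Hom.one_def]
      congr 1
      exact toUnit_unique _ _
    rw [h1] at h
    have h2 : s.snd ≫ fst G G = s.snd ≫ snd G G := inv_mul_eq_one.1 h.symm
    change (s.snd ≫ fst G G) ≫ lift (𝟙 G) (𝟙 G) = s.snd
    apply CartesianMonoidalCategory.hom_ext
    · rw [Category.assoc, lift_fst, Category.comp_id]
    · rw [Category.assoc, lift_snd, Category.comp_id, h2]
  · intro s m _ hm2
    change m = s.snd ≫ fst G G
    rw [← hm2, Category.assoc, lift_fst, Category.comp_id]

end general

theorem isPullback_left {S : Scheme.{u}} {B : AlgSp.Sp S} (G : Over B) [GrpObj G] :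
    IsPullback G.hom (pullback.diagonal G.hom) (η[G]).left
      (((fst G G)⁻¹ * snd G G : G ⊗ G ⟶ G)).left := by
  have sq := (isPullback_diag_div G).map (Over.forget B)
  have e : (lift (𝟙 G) (𝟙 G)).left = pullback.diagonal G.hom := rfl
  rw [← e]
  exact sq


/-- Let `G` be a group algebraic space over an algebraic space `B` with unit `e : B ⟶ G`. Then `G ⟶ B`
is separated if and only if `e` is a closed immersion, quasi-separated if and only if `e` is
quasi-compact, and if `G ⟶ B` is locally separated then `e` is an immersion. (The published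
statement makes the last part an equivalence as well; this row states only that a locally separated
`G ⟶ B` has `e` an immersion.) -/
theorem result (S : Scheme.{u}) (B : AlgSp.Sp S) (hB : AlgSp.IsAlgSpace B)
    (G : Over B) [GrpObj G] (hG : AlgSp.IsAlgSpace G.left) :
    (AlgSp.IsSeparatedMor G.hom ↔ AlgSp.RepWith @IsClosedImmersion (η[G]).left) ∧
      (AlgSp.IsQuasiSeparatedMor G.hom ↔ AlgSp.IsQuasiCompactMor (η[G]).left) ∧
      (AlgSp.IsLocallySeparatedMor G.hom → AlgSp.RepWith @IsImmersion (η[G]).left) := by
  have he : (η[G]).left ≫ G.hom = 𝟙 B := Over.w η[G]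
  have sqA := Groth.Agent.S10122.isPullback_section G.hom (η[G]).left he
    (by rw [Category.assoc, he, Category.comp_id, Category.id_comp])
  have sqB := isPullback_left G
  have key : ∀ (P : MorphismProperty Scheme.{u}),
      (AlgSp.RepWith P (pullback.diagonal G.hom) → AlgSp.RepWith P (η[G]).left) ∧
      (AlgSp.RepWith P (η[G]).left → AlgSp.RepWith P (pullback.diagonal G.hom)) :=
    fun P => ⟨fun h => Groth.Agent.H50.repWith_snd_of_isPullback sqA h,
      fun h => Groth.Agent.H50.repWith_snd_of_isPullback sqB h⟩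
  have hrepΔ : AlgSp.Representable (pullback.diagonal G.hom) :=
    Groth.Agent.H50.representable_diagonal_of_diag _ hG.diag
  have hrepe : AlgSp.Representable (η[G]).left :=
    MorphismProperty.of_isPullback (P := AlgSp.Representable (S := S)) sqA hrepΔ
  have hqc : AlgSp.RepWith @QuasiCompact (η[G]).left ↔ AlgSp.IsQuasiCompactMor (η[G]).left :=
    Groth.Agent.S9912.result (X := ⟨B, hB⟩) (Y := ⟨G.left, hG⟩)
      (ObjectProperty.homMk (η[G]).left) hrepe
  exact ⟨⟨(key _).1, (key _).2⟩, ⟨fun h => hqc.1 ((key _).1 h), fun h => (key _).2 (hqc.2 h)⟩,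
    (key _).1⟩

end Groth.Agent.S10116
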