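import Groth.Statements.S10358
import Groth.Agent.H52.FinitePt

set_option autoImplicit false
universe u
open CategoryTheory CategoryTheory.Limits AlgebraicGeometry Topology TopologicalSpace
open AlgSp

namespace Groth.Agent.S10358

/-- Let S be a scheme, X a decent algebraic space over S, and Spec k ⟶ X a morphism over S from the
spectrum of a field whose image in S is a closed point s with k finite over κ(s) (Spec k ⟶ S written
through a ring map φ : κ(s) → k). Then Spec k ⟶ X is finite; if moreover φ is bijective (k = κ(s))
it is a closed immersion. -/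
theorem result {S : Scheme.{u}} (X : AlgSp.Space S)
    (hX : AlgSp.IsDecent X.obj) (s : ↥S) (hs : IsClosed ({s} : Set ↥S)) (k : Type u) [Field k]
    (φ : S.residueField s ⟶ CommRingCat.of k) (hφ : φ.hom.Finite)
    (p : (AlgSp.yon S).obj (Over.mk (Spec.map φ ≫ S.fromSpecResidueField s)) ⟶ X.obj) :
    AlgSp.RepWith @IsFinite p ∧
      (Function.Bijective φ.hom → AlgSp.RepWith @IsClosedImmersion p) := by
  have hcl : IsClosedImmersion (S.fromSpecResidueField s) :=
    isClosed_singleton_iff_isClosedImmersion.1 hs
  have hφf : IsFinite (Spec.map φ) := (IsFinite.SpecMap_iff φ).2 hφ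
  have hstr : IsFinite (Spec.map φ ≫ S.fromSpecResidueField s) := inferInstance
  have hfin := Groth.Agent.H52.repWith_isFinite_of_finite_over_base X.property hX
    (Spec.map φ ≫ S.fromSpecResidueField s) p
  refine ⟨hfin, fun hbij => ?_⟩
  have hiso : IsIso φ := (ConcreteCategory.isIso_iff_bijective φ).2 hbij
  have hmono : Mono (Spec.map φ ≫ S.fromSpecResidueField s) := mono_comp _ _
  have hmono' : Mono (Over.mk (Spec.map φ ≫ S.fromSpecResidueField s)).hom := hmono
  have hsub := Groth.Agent.H52.subsingleton_hom_yon_of_mono
    (Over.mk (Spec.map φ ≫ S.fromSpecResidueField s))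
  have hpm : Mono p := ⟨fun a b _ => (hsub _).elim a b⟩
  exact Groth.Agent.H52.repWith_isClosedImmersion_of_isFinite_of_mono p hfin

end Groth.Agent.S10358
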