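import Groth.Statements.S10127
import Groth.Agent.S10116
import Groth.Agent.S10358
import Groth.Agent.H50.Basic

set_option autoImplicit false
universe u
open CategoryTheory CategoryTheory.Limits AlgebraicGeometry MonoidalCategory MonObj
open AlgSp

namespace Groth.Agent.S10127

theorem isIso_fromSpecResidueField_field (k : Type u) [Field k] (s : ↥(Spec (CommRingCat.of k))) :
    IsIso ((Spec (CommRingCat.of k)).fromSpecResidueField s) := by
  rw [← Scheme.Spec.map_residueFieldIso_inv_eq_fromSpecResidueField]
  have hp : s.asIdeal.IsPrime := s.isPrime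
  have : s.asIdeal.IsMaximal := by
    rw [Ideal.eq_bot_of_prime s.asIdeal]
    exact Ideal.bot_isMaximal
  have hbij : Function.Bijective (algebraMap k s.asIdeal.ResidueField) :=
    ⟨(algebraMap k s.asIdeal.ResidueField).injective, s.asIdeal.algebraMap_residueField_surjective⟩
  have : IsIso (CommRingCat.ofHom (algebraMap (CommRingCat.of k) s.asIdeal.ResidueField)) :=
    (ConcreteCategory.isIso_iff_bijective _).2 hbij
  infer_instance

/-- Over a terminal sheaf, a separated morphism has separated source. -/
theorem isSeparatedSp_of_isSeparatedMor_terminal {S : Scheme.{u}} {F B : AlgSp.Sp S}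
    (hT : IsTerminal B) (p : F ⟶ B) (h : AlgSp.IsSeparatedMor p) : AlgSp.IsSeparatedSp F := by
  obtain ⟨g, hg1, hg2⟩ : ∃ g : F ⨯ F ⟶ pullback p p,
      g ≫ pullback.fst p p = prod.fst ∧ g ≫ pullback.snd p p = prod.snd :=
    ⟨pullback.lift prod.fst prod.snd (hT.hom_ext _ _), pullback.lift_fst _ _ _,
      pullback.lift_snd _ _ _⟩
  have hg : IsIso g := by
    refine ⟨⟨prod.lift (pullback.fst p p) (pullback.snd p p), ?_, ?_⟩⟩
    · apply Limits.prod.hom_ext
      · rw [Category.assoc, prod.lift_fst, hg1, Category.id_comp]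
      · rw [Category.assoc, prod.lift_snd, hg2, Category.id_comp]
    · apply pullback.hom_ext
      · rw [Category.assoc, hg1, prod.lift_fst, Category.id_comp]
      · rw [Category.assoc, hg2, prod.lift_snd, Category.id_comp]
  have comm : 𝟙 F ≫ pullback.diagonal p = Limits.diag F ≫ g := by
    apply pullback.hom_ext
    · rw [Category.id_comp, pullback.diagonal_fst, Category.assoc, hg1]
      exact (prod.lift_fst _ _).symm
    · rw [Category.id_comp, pullback.diagonal_snd, Category.assoc, hg2]
      exact (prod.lift_snd _ _).symm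
  have sq : IsPullback (𝟙 F) (Limits.diag F) (pullback.diagonal p) g :=
    IsPullback.of_horiz_isIso ⟨comm⟩
  exact Groth.Agent.H50.repWith_snd_of_isPullback sq h

/-- A group algebraic space over a field `k` which is a decent algebraic space is separated. (The
published situation allows any base scheme `S` with `k` a field over `S`; this row takes `S = Spec
k`.) -/
theorem result (k : Type u) [Field k]
    (G : Over ((AlgSp.yon (Spec (CommRingCat.of k))).obj (Over.mk (𝟙 _)))) [GrpObj G]
    (hG : AlgSp.IsAlgSpace G.left) (hd : AlgSp.IsDecent G.left) : AlgSp.IsSeparatedSp G.left := by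
  have hB : AlgSp.IsAlgSpace ((AlgSp.yon (Spec (CommRingCat.of k))).obj (Over.mk (𝟙 _))) :=
    AlgSp.IsAlgSpace.yon_obj _
  have hT : IsTerminal ((AlgSp.yon (Spec (CommRingCat.of k))).obj
      (Over.mk (𝟙 (Spec (CommRingCat.of k))))) :=
    IsTerminal.isTerminalObj (AlgSp.yon _) _ Over.mkIdTerminal
  have hss : Subsingleton ↥(Spec (CommRingCat.of k)) := by
    show Subsingleton (PrimeSpectrum k)
    infer_instance
  obtain ⟨s⟩ : Nonempty ↥(Spec (CommRingCat.of k)) := by
    show Nonempty (PrimeSpectrum k)
    infer_instance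
  have hs : IsClosed ({s} : Set ↥(Spec (CommRingCat.of k))) := by
    have : ({s} : Set ↥(Spec (CommRingCat.of k))) = Set.univ :=
      Set.eq_univ_of_forall fun x => Subsingleton.elim x s
    rw [this]
    exact isClosed_univ
  let X : AlgSp.Space (Spec (CommRingCat.of k)) := ⟨G.left, hG⟩
  let φ : (Spec (CommRingCat.of k)).residueField s ⟶
      CommRingCat.of ((Spec (CommRingCat.of k)).residueField s) := 𝟙 _
  let m : (Over.mk (Spec.map φ ≫ (Spec (CommRingCat.of k)).fromSpecResidueField s) :
      Over (Spec (CommRingCat.of k))) ⟶ Over.mk (𝟙 (Spec (CommRingCat.of k))) :=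
    Over.homMk (Spec.map φ ≫ (Spec (CommRingCat.of k)).fromSpecResidueField s) (Category.comp_id _)
  have hm : IsIso m := by
    have h1 : IsIso ((Over.forget _).map m) := by
      show IsIso (Spec.map φ ≫ (Spec (CommRingCat.of k)).fromSpecResidueField s)
      have := isIso_fromSpecResidueField_field k s
      have : IsIso (Spec.map φ) := by
        show IsIso (Spec.map (𝟙 _))
        rw [Spec.map_id]
        infer_instance
      infer_instance
    exact isIso_of_reflects_iso m (Over.forget _)
  have hφ : φ.hom.Finite := RingHom.Finite.id _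
  have hbij : Function.Bijective φ.hom := ⟨fun a b h => h, fun b => ⟨b, rfl⟩⟩
  have hp := (Groth.Agent.S10358.result X hd s hs _ φ hφ ((AlgSp.yon _).map m ≫ (η[G]).left)).2 hbij
  have he : AlgSp.RepWith @IsClosedImmersion (η[G]).left := by
    have comm : inv ((AlgSp.yon (Spec (CommRingCat.of k))).map m) ≫
        ((AlgSp.yon _).map m ≫ (η[G]).left) = (η[G]).left ≫ 𝟙 _ := by
      rw [IsIso.inv_hom_id_assoc, Category.comp_id]
    have sq : IsPullback (inv ((AlgSp.yon (Spec (CommRingCat.of k))).map m)) (η[G]).left
        ((AlgSp.yon _).map m ≫ (η[G]).left) (𝟙 _) := IsPullback.of_horiz_isIso ⟨comm⟩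
    exact Groth.Agent.H50.repWith_snd_of_isPullback sq hp
  have hsep : AlgSp.IsSeparatedMor G.hom := ((Groth.Agent.S10116.result _ _ hB G hG).1).2 he
  exact isSeparatedSp_of_isSeparatedMor_terminal hT G.hom hsep

end Groth.Agent.S10127
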