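import Groth.Statements.S10312
import Groth.Agent.H52.ChartBC
import Groth.Agent.H52.ChartAt
import Groth.Agent.H52.ChartNbhd
import Groth.Agent.H52.EtLocalInst
import Groth.Agent.H24.UnramLocus
import Groth.Agent.H56.LciAlgSp

set_option autoImplicit false
universe u
open CategoryTheory CategoryTheory.Limits AlgebraicGeometry
open AlgSp

namespace Groth.Agent.S10312

open Groth.Agent.H52

/-- For X -> Y over Z with X -> Z locally of finite type, the locus where X -> Y is unramified is an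
open subset of |X| whose formation commutes with base change along any Z' -> Z. -/
theorem result {S : Scheme.{u}} {X Y Z Z' Y' X' : AlgSp.Space S} (f : X ⟶ Y)
    (p : X ⟶ Z) (q : Y ⟶ Z) (comm : f ≫ q = p) (hp : AlgSp.LocP @LocallyOfFiniteType p.hom) (g : Z' ⟶ Z)
    (a : Y' ⟶ Y) (q' : Y' ⟶ Z') (sq1 : IsPullback a.hom q'.hom q.hom g.hom)
    (b : X' ⟶ X) (f' : X' ⟶ Y') (sq2 : IsPullback b.hom f'.hom f.hom a.hom) :
    IsOpen {x : AlgSp.Points X.obj | AlgSp.HasAtMor (fun U _ h u => ∃ W : U.Opens, u ∈ W ∧ LocallyOfFiniteType (W.ι ≫ h) ∧ FormallyUnramified (W.ι ≫ h)) f.hom x} ∧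
    {x' : AlgSp.Points X'.obj | AlgSp.HasAtMor (fun U _ h u => ∃ W : U.Opens, u ∈ W ∧ LocallyOfFiniteType (W.ι ≫ h) ∧ FormallyUnramified (W.ι ≫ h)) f'.hom x'} =
      AlgSp.Points.map b.hom ⁻¹' {x : AlgSp.Points X.obj | AlgSp.HasAtMor (fun U _ h u => ∃ W : U.Opens, u ∈ W ∧ LocallyOfFiniteType (W.ι ≫ h) ∧ FormallyUnramified (W.ι ≫ h)) f.hom x} := by
  classical
  obtain ⟨T, c, hce, hcs⟩ := Z.property.atlas
  have hp' : AlgSp.LocP @LocallyOfFiniteType (f.hom ≫ q.hom) := by
    have : f.hom ≫ q.hom = p.hom := congrArg (fun k => k.hom) comm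
    rw [this]
    exact hp
  have hflft : AlgSp.LocP @LocallyOfFiniteType f.hom :=
    Groth.Agent.H56.LciAlgSp.locP_of_comp_cancel (P := @LocallyOfFiniteType) (Q := ⊤)
      (fun A B C k l _ h => by
        have : LocallyOfFiniteType (k ≫ l) := h
        exact locallyOfFiniteType_of_comp k l)
      (fun A B C k l hl hk => by
        have := hl
        have := hk
        exact (inferInstance : LocallyOfFiniteType (k ≫ l)))
      srcLocal_lft f.hom q.hom c hce hcs (fun _ _ _ _ _ _ _ _ => trivial) hp'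
  refine ⟨isOpen_setOf_hasAtMor_nbhd
    (fun U V h W => LocallyOfFiniteType (W.ι ≫ h) ∧ FormallyUnramified (W.ι ≫ h)) f.hom, ?_⟩
  ext x'
  simp only [Set.mem_ofPred_eq, Set.mem_preimage]
  obtain ⟨U, V, a₀, b₀, h, u, ha, hb, comm₀, hu⟩ :=
    exists_chart_diagram_at X.property Y.property f.hom (AlgSp.Points.map b.hom x')
  obtain ⟨U', V', a', b', h', π, gV, u', ha', hb', comm', hu', hπ, hpb, -, -⟩ :=
    exists_chart_diagram_baseChange Y.property Y'.property sq2 x' a₀ b₀ h ha hb comm₀ u hu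
  have hlft : LocallyOfFiniteType h.left := hflft a₀ b₀ h ha hb comm₀
  have hlft' : LocallyOfFiniteType h'.left :=
    MorphismProperty.of_isPullback (P := @LocallyOfFiniteType) hpb hlft
  constructor
  · intro H
    obtain ⟨W', hu'W', hW'⟩ := exists_nbhd_of_hasAtMor_nbhd etLocal_unramified f'.hom x' H a' b' h'
      ha' hb' comm' u' hu'
    obtain ⟨W, huW, hW⟩ :=
      (Groth.Agent.H24.unramified_nhd_iff_of_isPullback hpb u').1 ⟨W', hu'W', hW'.2⟩
    rw [hπ] at huW
    exact ⟨U, V, a₀, b₀, h, u, ha, hb, comm₀, hu, W, huW, inferInstance, hW⟩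
  · intro H
    obtain ⟨W, huW, hW⟩ := exists_nbhd_of_hasAtMor_nbhd etLocal_unramified f.hom _ H a₀ b₀ h
      ha hb comm₀ u hu
    obtain ⟨W', hu'W', hW'⟩ :=
      (Groth.Agent.H24.unramified_nhd_iff_of_isPullback hpb u').2 ⟨W, by rw [hπ]; exact huW, hW.2⟩
    exact ⟨U', V', a', b', h', u', ha', hb', comm', hu', W', hu'W', inferInstance, hW'⟩

end Groth.Agent.S10312
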