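import Groth.Statements.S10194
import Groth.Agent.H52.Iso

set_option autoImplicit false
universe u
open CategoryTheory CategoryTheory.Limits AlgebraicGeometry Topology TopologicalSpace
open AlgSp
open Groth.Agent.H52

namespace Groth.Agent.S10194

/-- Let X, Y be algebraic spaces over a scheme S and j : X' ⟶ X an open subspace (a morphism
representable by open immersions). Then a morphism f : Y ⟶ X factors through X' if and only if
|f|(|Y|) is contained in |X'|. -/
theorem result {S : Scheme.{u}} {X X' Y : AlgSp.Space S}
    (j : X' ⟶ X) (hj : AlgSp.RepWith @IsOpenImmersion j.hom) (f : Y ⟶ X) :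
    (∃ g : Y ⟶ X', g ≫ j = f) ↔
      Set.range (AlgSp.Points.map f.hom) ⊆ Set.range (AlgSp.Points.map j.hom) := by
  constructor
  · rintro ⟨g, rfl⟩ x ⟨y, rfl⟩
    exact ⟨Points.map g.hom y, (Points.map_comp g.hom j.hom y).symm⟩
  · intro hr
    have sq := IsPullback.of_hasPullback j.hom f.hom
    have := AlgSp.repWith_isStableUnderBaseChange (S := S) @IsOpenImmersion
    have h1 : RepWith @IsOpenImmersion (pullback.snd j.hom f.hom) :=
      MorphismProperty.of_isPullback sq hj
    have h2 : Function.Surjective (Points.map (pullback.snd j.hom f.hom)) := by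
      intro y
      obtain ⟨x', hx'⟩ := hr ⟨y, rfl⟩
      obtain ⟨z, -, hz⟩ := exists_point_of_isPullback sq x' y hx'
      exact ⟨z, hz⟩
    have h3 := isIso_of_repWith_isOpenImmersion_of_surjective _ h1 h2
    refine ⟨ObjectProperty.homMk (inv (pullback.snd j.hom f.hom) ≫ pullback.fst j.hom f.hom), ?_⟩
    apply ObjectProperty.hom_ext
    rw [ObjectProperty.FullSubcategory.comp_hom]
    change (inv (pullback.snd j.hom f.hom) ≫ pullback.fst j.hom f.hom) ≫ j.hom = f.hom
    rw [Category.assoc, pullback.condition, IsIso.inv_hom_id_assoc]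

end Groth.Agent.S10194
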