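import Groth.Statements.S10639
import Groth.Agent.H50.Where
import Groth.Agent.H50.AtMor
import Groth.Agent.S10312

set_option autoImplicit false
universe u
open CategoryTheory CategoryTheory.Limits AlgebraicGeometry
open AlgSp

namespace Groth.Agent.S10639


open Groth.Agent.H52 in
theorem locP_unram_iff {S : Scheme.{u}} {X Y : AlgSp.Space S} (f : X ⟶ Y) :
    AlgSp.LocP (@LocallyOfFiniteType ⊓ @FormallyUnramified) f.hom ↔
      ∀ x, AlgSp.HasAtMor (fun U _ h u => ∃ W : U.Opens, u ∈ W ∧ LocallyOfFiniteType (W.ι ≫ h) ∧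
        FormallyUnramified (W.ι ≫ h)) f.hom x := by
  constructor
  · intro hf x
    obtain ⟨U, V, a, b, h, u, ha, hb, comm, hu⟩ :=
      exists_chart_diagram_at X.property Y.property f.hom x
    have hP : (@LocallyOfFiniteType ⊓ @FormallyUnramified : MorphismProperty Scheme.{u})
        ((⊤ : U.left.Opens).ι ≫ h.left) := by
      have := (etLocal_unramified.{u}).mult
      exact MorphismProperty.comp_mem _ _ _ (etLocal_unramified.etale _ inferInstance)
        (hf a b h ha hb comm)
    exact ⟨U, V, a, b, h, u, ha, hb, comm, hu, ⊤, trivial, hP.1, hP.2⟩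
  · intro H
    refine Groth.Agent.H50.locP_of_forall_hasAtMor_nbhd etLocal_unramified f.hom ?_
    intro x
    obtain ⟨U, V, a, b, h, u, ha, hb, comm, hu, W, huW, h1, h2⟩ := H x
    exact ⟨U, V, a, b, h, u, ha, hb, comm, hu, W, huW, h1, h2⟩

/-- For morphisms f : X ⟶ Y, p : X ⟶ Z and q : Y ⟶ Z of algebraic spaces over S with f ≫ q = p, where p
is closed (the map on points is closed) and locally of finite type, there is an open subspace W of Z
with the following property: a morphism of algebraic spaces g : Z' ⟶ Z factors through W exactly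
when the base change X' ⟶ Y' of f along g is unramified (locally of finite type and formally
unramified, etale locally on source and target). Here the base change of f along g is any f' : X' ⟶
Y' obtained from pullback squares Y' = Y ×_Z Z' and X' = X ×_Y Y' of algebraic spaces over S, and W
⊂ Z is given as a representable open immersion w : W ⟶ Z. -/
theorem result {S : Scheme.{u}} {X Y Z : AlgSp.Space S}
    (f : X ⟶ Y) (p : X ⟶ Z) (q : Y ⟶ Z) (hc : f ≫ q = p)
    (hp1 : AlgSp.LocP @LocallyOfFiniteType p.hom) (hp2 : AlgSp.IsClosedMor p.hom) :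
    ∃ (W : AlgSp.Space S) (w : W ⟶ Z), AlgSp.RepWith @IsOpenImmersion w.hom ∧
      ∀ (Z' : AlgSp.Space S) (g : Z' ⟶ Z),
        (∃ k : Z' ⟶ W, k ≫ w = g) ↔
          ∀ (Y' : AlgSp.Space S) (gY : Y' ⟶ Y) (q' : Y' ⟶ Z'),
            IsPullback gY.hom q'.hom q.hom g.hom →
            ∀ (X' : AlgSp.Space S) (gX : X' ⟶ X) (f' : X' ⟶ Y'),
              IsPullback gX.hom f'.hom f.hom gY.hom →
                AlgSp.LocP (@LocallyOfFiniteType ⊓ @FormallyUnramified) f'.hom := by
  have hpe : p = f ≫ q := hc.symm
  subst hpe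
  have hT := Groth.Agent.H52.isOpen_setOf_hasAtMor_nbhd
    (fun U V h W => LocallyOfFiniteType (W.ι ≫ h) ∧ FormallyUnramified (W.ι ≫ h)) f.hom
  refine Groth.Agent.H50.where_of_locus f (f ≫ q) q rfl hp2 _ hT
    (fun {X' Y'} f' => AlgSp.LocP (@LocallyOfFiniteType ⊓ @FormallyUnramified) f'.hom) ?_
  intro Z' g Y' gY q' sq1 X' gX f' sq2
  rw [locP_unram_iff]
  have e := (Groth.Agent.S10312.result f (f ≫ q) q rfl hp1 g gY q' sq1 gX f' sq2).2
  constructor
  · intro h x'
    exact (Set.ext_iff.1 e x').1 (h x')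
  · intro h x'
    exact (Set.ext_iff.1 e x').2 (h x')

end Groth.Agent.S10639
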