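import Groth.Statements.S10271
import Groth.Agent.H51.AffineMor

set_option autoImplicit false
universe u
open CategoryTheory CategoryTheory.Limits AlgebraicGeometry
open AlgSp

namespace Groth.Agent.S10271

/-- A morphism of algebraic spaces is finite if and only if it is affine and proper. -/
theorem result {S : Scheme.{u}} {X Y : AlgSp.Space S} (f : X ⟶ Y) :
    AlgSp.IsFiniteMor f.hom ↔ (AlgSp.IsAffineMor f.hom ∧ AlgSp.IsProperMor f.hom) := by
  constructor
  · intro hfin
    have haff : AlgSp.IsAffineMor f.hom := fun Z hZ g => by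
      obtain ⟨W, i, fst, sq, hW, -⟩ := hfin hZ g
      exact ⟨W, i, fst, sq, hW⟩
    have hint : AlgSp.IsIntegralMor f.hom := fun Z hZ g => by
      obtain ⟨W, i, fst, sq, hW, hi⟩ := hfin hZ g
      have : IsFinite i.left := hi
      exact ⟨W, i, fst, sq, hW, inferInstance⟩
    exact ⟨haff, Groth.Agent.H51.isSeparatedMor_of_isAffineMor f haff,
      ⟨Groth.Agent.H51.locP_lft_of_isFiniteMor f.hom hfin,
        Groth.Agent.H51.isQuasiCompactMor_of_isAffineMor f haff⟩,
      Groth.Agent.H51.isUnivClosedMor_of_isIntegralMor f.hom hint⟩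
  · rintro ⟨haff, hprop⟩ Z hZ g
    obtain ⟨W, i, fst, sq, hW⟩ := haff hZ g
    refine ⟨W, i, fst, sq, hW, ?_⟩
    have : IsAffine Z.left := hZ
    have : IsAffine W.left := hW
    let A : AlgSp.Space S := ⟨(AlgSp.yon S).obj W, AlgSp.IsAlgSpace.yon_obj W⟩
    let B : AlgSp.Space S := ⟨(AlgSp.yon S).obj Z, AlgSp.IsAlgSpace.yon_obj Z⟩
    let g' : B ⟶ Y := ObjectProperty.homMk g
    let fst' : A ⟶ X := ObjectProperty.homMk fst
    let f' : A ⟶ B := ObjectProperty.homMk ((AlgSp.yon S).map i)
    have h1 : AlgSp.IsProperMor ((AlgSp.yon S).map i) :=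
      Groth.Agent.H51.isProperMor_of_isPullback f g' fst' f' sq hprop
    have h2 : IsSeparated i.left := (AlgSp.isSeparatedMor_yon_map_iff i).1 h1.1
    have h3 : UniversallyClosed i.left :=
      Groth.Agent.H51.universallyClosed_of_isUnivClosedMor_yon_map i h1.2.2
    have h4 : LocallyOfFiniteType i.left := AlgSp.locP_yon_map h1.2.1.1
    have h5 : IsProper i.left := {}
    exact IsFinite.iff_isProper_and_isAffineHom.2 ⟨h5, inferInstance⟩

end Groth.Agent.S10271
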