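import Groth.Statements.S10649
import Groth.Agent.H52.SL.General
import Groth.Agent.H52.DiscreteFibre
import Groth.Agent.H51.Proper
import Groth.Agent.H51.AffineMor
import Groth.Agent.H50.Etale
import Groth.Agent.S10271
import Groth.Agent.S10267

set_option autoImplicit false
universe u
open CategoryTheory CategoryTheory.Limits AlgebraicGeometry
open AlgSp

namespace Groth.Agent.S10649

open Groth.Agent.H52 Groth.Agent.H52.SL in
/-- separated + universally closed + locally quasi-finite ⇒ finite -/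
theorem isFiniteMor_of_sep_uc_lqf {S : Scheme.{u}} {X Y : AlgSp.Space S} (f : X ⟶ Y)
    (hsep : AlgSp.IsSeparatedMor f.hom) (huc : AlgSp.IsUnivClosedMor f.hom)
    (hqf : AlgSp.LocP (@LocallyQuasiFinite ⊓ @LocallyOfFiniteType) f.hom) : AlgSp.IsFiniteMor f.hom := by
  have hrep := representable_of_sep_lqf X.property Y.property f.hom hsep hqf
  intro Z hZ g
  obtain ⟨W, i, fst, sq⟩ := hrep g
  have : IsAffine Z.left := hZ
  have hZa : AlgSp.IsAlgSpace ((AlgSp.yon S).obj Z) := AlgSp.IsAlgSpace.yon_obj Z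
  have h1 : AlgSp.IsSeparatedMor ((AlgSp.yon S).map i) :=
    isSeparatedMor_snd_of_isPullback X.property Y.property hZa sq hsep
  have h2 : IsSeparated i.left := (AlgSp.isSeparatedMor_yon_map_iff i).1 h1
  have h3 : UniversallyClosed i.left :=
    Groth.Agent.H51.universallyClosed_of_isUnivClosedMor_yon_map i
      (Groth.Agent.H51.univSp_of_isPullback _ sq huc)
  have h4 := AlgSp.locP_yon_map (locP_baseChange etLocal_lqf X.property Y.property hZa sq hqf)
  have h4a : LocallyQuasiFinite i.left := h4.1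
  have h4b : LocallyOfFiniteType i.left := h4.2
  have h5 : IsProper i.left := {}
  have h6 : IsFinite i.left := (IsFinite.iff_isProper_and_locallyQuasiFinite i.left).2 ⟨h5, h4a⟩
  exact ⟨W, i, fst, sq, isAffine_of_isAffineHom i.left, h6⟩

open Groth.Agent.H52 Groth.Agent.H52.SL in
/-- universally closed + separated + lqf ⇒ quasi-compact -/
theorem isQuasiCompactMor_of_sep_uc_lqf {S : Scheme.{u}} {X Y : AlgSp.Space S} (f : X ⟶ Y)
    (hsep : AlgSp.IsSeparatedMor f.hom) (huc : AlgSp.IsUnivClosedMor f.hom)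
    (hqf : AlgSp.LocP (@LocallyQuasiFinite ⊓ @LocallyOfFiniteType) f.hom) :
    AlgSp.IsQuasiCompactMor f.hom := by
  have hfin := isFiniteMor_of_sep_uc_lqf f hsep huc hqf
  exact ((Groth.Agent.S10271.result f).1 hfin).2.2.1.2

/-- The following conditions on a morphism f : X ⟶ Y of algebraic spaces over S are equivalent: (1)
finiteness of f; (2) f is locally quasi-finite as well as proper (locally quasi-finite and locally
of finite type etale locally); (3) f is proper and for every field k and every k-point Spec k ⟶ Y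
the fibre X_k (any pullback of f along it in fppf sheaves) has discrete space of points; (4) f is
universally closed, separated and locally of finite type, and every such fibre X_k has discrete
space of points. -/
theorem result {S : Scheme.{u}} {X Y : AlgSp.Space S} (f : X ⟶ Y) :
    [AlgSp.IsFiniteMor f.hom,
      AlgSp.IsProperMor f.hom ∧ AlgSp.LocP (@LocallyQuasiFinite ⊓ @LocallyOfFiniteType) f.hom,
      AlgSp.IsProperMor f.hom ∧
        ∀ (k : AlgSp.FieldPt Y.obj) (Xk : AlgSp.Sp S) (fst : Xk ⟶ X.obj) (snd : Xk ⟶ (AlgSp.yon S).obj k.pt),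
          IsPullback fst snd f.hom k.toHom → DiscreteTopology (AlgSp.Points Xk),
      AlgSp.IsUnivClosedMor f.hom ∧ AlgSp.IsSeparatedMor f.hom ∧ AlgSp.LocP @LocallyOfFiniteType f.hom ∧
        ∀ (k : AlgSp.FieldPt Y.obj) (Xk : AlgSp.Sp S) (fst : Xk ⟶ X.obj) (snd : Xk ⟶ (AlgSp.yon S).obj k.pt),
          IsPullback fst snd f.hom k.toHom → DiscreteTopology (AlgSp.Points Xk)].TFAE := by
  have hfib : (∀ (k : AlgSp.FieldPt Y.obj) (Xk : AlgSp.Sp S) (fst : Xk ⟶ X.obj) (snd : Xk ⟶ (AlgSp.yon S).obj k.pt),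
      IsPullback fst snd f.hom k.toHom → DiscreteTopology (AlgSp.Points Xk)) →
      AlgSp.LocP @LocallyOfFiniteType f.hom →
      AlgSp.LocP (@LocallyQuasiFinite ⊓ @LocallyOfFiniteType) f.hom := by
    intro H hft
    refine Groth.Agent.H52.lqf_of_discrete_fibres f hft ?_
    intro k _ str y P fst snd sq
    let kp : AlgSp.FieldPt Y.obj := ⟨k, str, (AlgSp.J S).uliftYonedaEquiv y⟩
    have hk : kp.toHom = y := (AlgSp.J S).uliftYonedaEquiv.symm_apply_apply y
    exact H kp P fst snd (hk ▸ sq)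
  have hfib' : AlgSp.LocP (@LocallyQuasiFinite ⊓ @LocallyOfFiniteType) f.hom →
      (∀ (k : AlgSp.FieldPt Y.obj) (Xk : AlgSp.Sp S) (fst : Xk ⟶ X.obj) (snd : Xk ⟶ (AlgSp.yon S).obj k.pt),
      IsPullback fst snd f.hom k.toHom → DiscreteTopology (AlgSp.Points Xk)) := by
    intro hqf k Xk fst snd sq
    exact Groth.Agent.H52.discrete_fibres_of_lqf X.property Y.property f.hom hqf k.K k.str k.toHom Xk fst snd sq
  tfae_have 1 → 2 := by
    intro hfin
    refine ⟨((Groth.Agent.S10271.result f).1 hfin).2, ?_⟩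
    have h1 : AlgSp.RepWith @IsFinite f.hom := (Groth.Agent.S10267.result f).2.1 hfin
    have hle : ∀ ⦃A B : Scheme.{u}⦄ (g : A ⟶ B), IsFinite g →
        (@LocallyQuasiFinite ⊓ @LocallyOfFiniteType) g := fun A B g hg => by
      have : IsFinite g := hg
      exact ⟨(inferInstance : LocallyQuasiFinite g), (inferInstance : LocallyOfFiniteType g)⟩
    have := (Groth.Agent.H52.etLocal_lqf.{u}).mult
    exact Groth.Agent.H50.locP_of_repWith (P := @LocallyQuasiFinite ⊓ @LocallyOfFiniteType)
      Groth.Agent.H52.etLocal_lqf.etale (Groth.Agent.H50.repWith_mono hle h1)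
  tfae_have 2 → 3 := fun ⟨hp, hqf⟩ => ⟨hp, hfib' hqf⟩
  tfae_have 3 → 4 := fun ⟨hp, H⟩ => ⟨hp.2.2, hp.1, hp.2.1.1, H⟩
  tfae_have 4 → 1 := by
    rintro ⟨huc, hsep, hft, H⟩
    exact isFiniteMor_of_sep_uc_lqf f hsep huc (hfib H hft)
  tfae_finish

end Groth.Agent.S10649
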