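import Groth.Statements.S10614
import Groth.Agent.S10613
import Groth.Agent.S10649
import Groth.Agent.H52.Sections
import Groth.Agent.H50.Basic

set_option autoImplicit false
universe u
open CategoryTheory CategoryTheory.Limits AlgebraicGeometry
open AlgSp

namespace Groth.Agent.S10614

section helpers
variable {S : Scheme.{u}}

/-- closed immersion ⇒ universally closed, locally of finite type, monomorphism -/
theorem of_closedImmersion {X Y : AlgSp.Space S} (f : X ⟶ Y) (h : AlgSp.RepWith @IsClosedImmersion f.hom) :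
    AlgSp.IsUnivClosedMor f.hom ∧ AlgSp.LocP @LocallyOfFiniteType f.hom ∧ Mono f.hom := by
  have hfin : AlgSp.RepWith @IsFinite f.hom :=
    Groth.Agent.H50.repWith_mono (fun _ _ g (hg : IsClosedImmersion g) => (inferInstance : IsFinite g)) h
  have hF : AlgSp.IsFiniteMor f.hom := (Groth.Agent.S10267.result f).2.2 hfin
  have hprop := ((Groth.Agent.S10271.result f).1 hF).2
  refine ⟨hprop.2.2, hprop.2.1.1, ?_⟩
  exact Groth.Agent.H50.mono_of_repWith (fun _ _ g (hg : IsClosedImmersion g) => (inferInstance : Mono g)) h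

/-- universally closed + locally of finite type + monomorphism ⇒ closed immersion -/
theorem closedImmersion_of {X Y : AlgSp.Space S} (f : X ⟶ Y) (huc : AlgSp.IsUnivClosedMor f.hom)
    (hft : AlgSp.LocP @LocallyOfFiniteType f.hom) (hm : Mono f.hom) :
    AlgSp.RepWith @IsClosedImmersion f.hom := by
  obtain ⟨hrep, hsep, hqf⟩ := (Groth.Agent.S10613.result f).2.2.2 ⟨hft, hm⟩
  have hF := Groth.Agent.S10649.isFiniteMor_of_sep_uc_lqf f hsep huc hqf
  have hfin : AlgSp.RepWith @IsFinite f.hom := (Groth.Agent.S10267.result f).2.1 hF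
  have hmono := Groth.Agent.H52.repWith_monomorphisms_of_mono f.hom hrep
  refine ⟨hrep, fun U V g fst snd sq => ?_⟩
  have h1 : IsFinite snd.left := hfin.2 g fst snd sq
  have h2 : Mono snd.left := hmono.2 g fst snd sq
  exact (IsClosedImmersion.iff_isProper_and_mono snd.left).2 ⟨inferInstance, h2⟩

end helpers

/-- For a morphism f : X ⟶ Y of algebraic spaces over S, being a closed immersion (representable by
closed immersions) is equivalent to each of: (a) universally closed plus unramified plus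
monomorphism; (b) universally closed plus unramified plus universally injective; (c) a universally
closed monomorphism that is locally of finite type; (d) universally closed, universally injective,
locally of finite type and formally unramified (lifting sense). (Unramified is the etale-local
condition locally of finite type and formally unramified on charts; monomorphisms are taken in fppf
sheaves.) -/
theorem result {S : Scheme.{u}} {X Y : AlgSp.Space S} (f : X ⟶ Y) :
    (AlgSp.RepWith @IsClosedImmersion f.hom ↔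
      (AlgSp.IsUnivClosedMor f.hom ∧ AlgSp.LocP (@LocallyOfFiniteType ⊓ @FormallyUnramified) f.hom ∧ Mono f.hom)) ∧
    (AlgSp.RepWith @IsClosedImmersion f.hom ↔
      (AlgSp.IsUnivClosedMor f.hom ∧ AlgSp.LocP (@LocallyOfFiniteType ⊓ @FormallyUnramified) f.hom ∧ AlgSp.IsUnivInjectiveMor f.hom)) ∧
    (AlgSp.RepWith @IsClosedImmersion f.hom ↔
      (AlgSp.IsUnivClosedMor f.hom ∧ AlgSp.LocP @LocallyOfFiniteType f.hom ∧ Mono f.hom)) ∧
    (AlgSp.RepWith @IsClosedImmersion f.hom ↔
      (AlgSp.IsUnivClosedMor f.hom ∧ AlgSp.IsUnivInjectiveMor f.hom ∧ AlgSp.LocP @LocallyOfFiniteType f.hom ∧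
        AlgSp.IsFormallyUnramifiedMor f.hom)) := by
  obtain ⟨hA, hB, hC, -⟩ := Groth.Agent.S10613.result f
  have core : AlgSp.RepWith @IsClosedImmersion f.hom ↔
      (AlgSp.IsUnivClosedMor f.hom ∧ AlgSp.LocP @LocallyOfFiniteType f.hom ∧ Mono f.hom) :=
    ⟨of_closedImmersion f, fun ⟨h1, h2, h3⟩ => closedImmersion_of f h1 h2 h3⟩
  refine ⟨?_, ?_, core, ?_⟩
  · rw [core]
    exact ⟨fun ⟨h1, h2⟩ => ⟨h1, hB.2 h2⟩, fun ⟨h1, h2⟩ => ⟨h1, hB.1 h2⟩⟩
  · rw [core]
    exact ⟨fun ⟨h1, h2⟩ => ⟨h1, hA.1 (hB.2 h2)⟩, fun ⟨h1, h2⟩ => ⟨h1, hB.1 (hA.2 h2)⟩⟩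
  · rw [core]
    exact ⟨fun ⟨h1, h2⟩ => ⟨h1, hC.1 (hB.2 h2)⟩, fun ⟨h1, h2⟩ => ⟨h1, hB.1 (hC.2 h2)⟩⟩

end Groth.Agent.S10614
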