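import Groth.Statements.S10583
import Groth.Agent.H51.Thick
import Groth.Agent.H51.OpenIso

set_option autoImplicit false
universe u
open CategoryTheory CategoryTheory.Limits AlgebraicGeometry
open AlgSp

namespace Groth.Agent.S10583

/-- Let i : X ⟶ X' be a thickening of algebraic spaces (representable, every base change to a scheme a
surjective closed immersion) and let u : U ⟶ X be an open immersion. Then there is an open immersion
u' : U' ⟶ X' with U = X ×_{X'} U' (a pullback square), and any two open subspaces of X' with this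
property are isomorphic over X'. -/
theorem result {S : Scheme.{u}} {X X' U : AlgSp.Space S} (i : X ⟶ X')
    (hi : AlgSp.IsThickMor i.hom)
    (u : U ⟶ X) (hu : AlgSp.RepWith @IsOpenImmersion u.hom) :
    (∃ (U' : AlgSp.Space S) (u' : U' ⟶ X') (k : U ⟶ U'),
      AlgSp.RepWith @IsOpenImmersion u'.hom ∧ IsPullback u.hom k.hom i.hom u'.hom) ∧
    (∀ (U₁ U₂ : AlgSp.Space S) (u₁ : U₁ ⟶ X') (u₂ : U₂ ⟶ X') (k₁ : U ⟶ U₁) (k₂ : U ⟶ U₂),
      AlgSp.RepWith @IsOpenImmersion u₁.hom → IsPullback u.hom k₁.hom i.hom u₁.hom →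
      AlgSp.RepWith @IsOpenImmersion u₂.hom → IsPullback u.hom k₂.hom i.hom u₂.hom →
      ∃ e : U₁ ≅ U₂, e.hom ≫ u₂ = u₁) := by
  have hiH := Groth.Agent.H51.isUnivHomeoMor_of_isThickMor i hi
  have hi_h : IsHomeomorph (Points.map i.hom) :=
    Groth.Agent.H51.isHomeomorph_of_isUnivHomeoMor X'.property hiH
  have inst := AlgSp.repWith_isStableUnderBaseChange (S := S) @IsOpenImmersion
  constructor
  · have hopen : IsOpen (Set.range (Points.map u.hom)) :=
      Groth.Agent.H51.isOpen_range_of_repWith_isOpenImmersion U.property X.property u.hom hu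
    have hW : IsOpen (Points.map i.hom '' Set.range (Points.map u.hom)) := hi_h.isOpenMap _ hopen
    obtain ⟨U', u', hu', hr⟩ := Groth.Agent.S10195.result X' _ hW
    let P : AlgSp.Space S := ⟨pullback i.hom u'.hom,
      Groth.Agent.H52.isAlgSpace_of_isPullback (IsPullback.of_hasPullback _ _) X'.property.diag
        X.property U'.property⟩
    let p1 : P ⟶ X := ObjectProperty.homMk (pullback.fst i.hom u'.hom)
    let p2 : P ⟶ U' := ObjectProperty.homMk (pullback.snd i.hom u'.hom)
    have sq : IsPullback p1.hom p2.hom i.hom u'.hom := IsPullback.of_hasPullback _ _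
    have hp1 : RepWith @IsOpenImmersion p1.hom := MorphismProperty.of_isPullback sq.flip hu'
    have hr1 : Set.range (Points.map p1.hom) = Set.range (Points.map u.hom) := by
      rw [Groth.Agent.H51.range_map_eq_preimage_of_isPullback sq.flip, hr,
        Set.preimage_image_eq _ hi_h.injective]
    obtain ⟨e, he⟩ := Groth.Agent.H51.exists_iso_of_range_eq u p1 hu hp1 hr1.symm
    refine ⟨U', u', e.hom ≫ p2, hu', ?_⟩
    have he0 : e.hom.hom ≫ p1.hom = u.hom := congrArg (fun k => k.hom) he
    have hinv : e.inv.hom ≫ e.hom.hom = 𝟙 _ := congrArg (fun k => k.hom) e.inv_hom_id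
    have hinv' : e.hom.hom ≫ e.inv.hom = 𝟙 _ := congrArg (fun k => k.hom) e.hom_inv_id
    let e₁ : P.obj ≅ U.obj := ⟨e.inv.hom, e.hom.hom, hinv, hinv'⟩
    refine IsPullback.of_iso sq e₁ (Iso.refl _) (Iso.refl _) (Iso.refl _) ?_ ?_ ?_ ?_
    · show p1.hom ≫ 𝟙 _ = e.inv.hom ≫ u.hom
      rw [Category.comp_id, ← he0, ← Category.assoc, hinv, Category.id_comp]
    · show p2.hom ≫ 𝟙 _ = e.inv.hom ≫ (e.hom.hom ≫ p2.hom)
      rw [Category.comp_id, ← Category.assoc, hinv, Category.id_comp]
    · simp
    · simp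
  · intro U₁ U₂ u₁ u₂ k₁ k₂ h₁ sq₁ h₂ sq₂
    apply Groth.Agent.H51.exists_iso_of_range_eq u₁ u₂ h₁ h₂
    have r₁ : Set.range (Points.map u.hom) = Points.map i.hom ⁻¹' Set.range (Points.map u₁.hom) :=
      Groth.Agent.H51.range_map_eq_preimage_of_isPullback sq₁.flip
    have r₂ : Set.range (Points.map u.hom) = Points.map i.hom ⁻¹' Set.range (Points.map u₂.hom) :=
      Groth.Agent.H51.range_map_eq_preimage_of_isPullback sq₂.flip
    rw [← Set.image_preimage_eq (Set.range (Points.map u₁.hom)) hi_h.surjective, ← r₁, r₂,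
      Set.image_preimage_eq _ hi_h.surjective]

end Groth.Agent.S10583
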