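import Groth.Statements.S10191
import Groth.Agent.H50.MonoPts
import Groth.Agent.H50.Basic
import Groth.Agent.H52.Topology
import Mathlib.Topology.LocallyClosed

set_option autoImplicit false
universe u
open CategoryTheory CategoryTheory.Limits AlgebraicGeometry Topology TopologicalSpace
open AlgSp

namespace Groth.Agent.S10191

open Groth.Agent.H50 Groth.Agent.H52

/-- Let i : Z ⟶ X be an immersion of algebraic spaces over a scheme S (a morphism representable by
immersions of schemes). Then |i| : |Z| → |X| is a homeomorphism onto its image, and this image is a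
locally closed subset of |X|. -/
theorem result {S : Scheme.{u}} {Z X : AlgSp.Space S} (i : Z ⟶ X)
    (hi : AlgSp.RepWith @IsImmersion i.hom) :
    IsEmbedding (AlgSp.Points.map i.hom) ∧ IsLocallyClosed (Set.range (AlgSp.Points.map i.hom)) := by
  have hmono : Mono i.hom := mono_of_repWith (fun _ _ g hg => by
    have : IsImmersion g := hg
    infer_instance) hi
  obtain ⟨U, a, ha, has⟩ := X.property.atlas
  obtain ⟨ZU, b, iU, sq, himm⟩ : ∃ (ZU : Over S) (b : (yon S).obj ZU ⟶ Z.obj) (iU : ZU ⟶ U),
      IsPullback b ((yon S).map iU) i.hom a ∧ IsImmersion iU.left :=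
    ⟨_, _, _, hi.rep.isPullback a, hi.property_snd a⟩
  have hq := isQuotientMap_ofPt a ha has
  have hqo := isOpenMap_ofPt_of_etale a ha
  have hqc := Points.continuous_ofPt a
  have hqs := surjective_ofPt_of_surjective a has
  have P1 : ∀ ζ : ↥ZU.left, Points.map i.hom (Points.ofPt b ζ) = Points.ofPt a (iU.left ζ) := by
    intro ζ
    rw [Points.map_ofPt, sq.w, ofPt_yon_map_comp]
  have P2 : ∀ (z : Points Z.obj) (u : ↥U.left), Points.map i.hom z = Points.ofPt a u →
      ∃ ζ : ↥ZU.left, Points.ofPt b ζ = z ∧ iU.left ζ = u := by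
    intro z u h
    rw [Points.ofPt_eq_map_ofScheme] at h
    obtain ⟨w, hw1, hw2⟩ := Groth.Agent.H52.exists_point_of_isPullback sq z _ h
    obtain ⟨ζ, rfl⟩ := (Points.schemeEquiv ZU).surjective w
    change Points.map _ (Points.ofScheme ZU ζ) = _ at hw1
    change Points.map _ (Points.ofScheme ZU ζ) = _ at hw2
    rw [map_yon_map_ofScheme] at hw2
    refine ⟨ζ, ?_, ofScheme_injective U hw2⟩
    rw [Points.ofPt_eq_map_ofScheme]
    exact hw1
  have hpre : ∀ C : Set (Points Z.obj), Points.ofPt a ⁻¹' (Points.map i.hom '' C) =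
      iU.left '' (Points.ofPt b ⁻¹' C) := by
    intro C
    ext u
    constructor
    · rintro ⟨c, hc, hcu⟩
      obtain ⟨ζ, hζ1, hζ2⟩ := P2 c u hcu
      refine ⟨ζ, ?_, hζ2⟩
      rw [Set.mem_preimage, hζ1]
      exact hc
    · rintro ⟨ζ, hζ, rfl⟩
      exact ⟨Points.ofPt b ζ, hζ, P1 ζ⟩
  constructor
  · refine ⟨⟨?_⟩, injective_map_of_mono i.hom⟩
    apply le_antisymm
    · exact (Points.continuous_map i.hom).le_induced
    · intro O hO
      rw [isOpen_induced_iff]
      have hC : IsClosed Oᶜ := hO.isClosed_compl
      have key : Points.map i.hom ⁻¹' closure (Points.map i.hom '' Oᶜ) = Oᶜ := by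
        apply Set.Subset.antisymm
        · intro z hz
          obtain ⟨u, hu⟩ := hqs (Points.map i.hom z)
          have hu' : u ∈ closure (Points.ofPt a ⁻¹' (Points.map i.hom '' Oᶜ)) := by
            rw [← hqo.preimage_closure_eq_closure_preimage hqc]
            show Points.ofPt a u ∈ closure _
            rw [hu]
            exact hz
          rw [hpre] at hu'
          obtain ⟨ζ, hζ1, hζ2⟩ := P2 z u hu.symm
          rw [← hζ2] at hu'
          have hζ : ζ ∈ closure (Points.ofPt b ⁻¹' Oᶜ) := by
            rw [iU.left.isEmbedding.isInducing.closure_eq_preimage_closure_image]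
            exact hu'
          rw [(hC.preimage (Points.continuous_ofPt b)).closure_eq] at hζ
          rw [← hζ1]
          exact hζ
        · intro z hz
          exact subset_closure ⟨z, hz, rfl⟩
      refine ⟨(closure (Points.map i.hom '' Oᶜ))ᶜ, isClosed_closure.isOpen_compl, ?_⟩
      rw [Set.preimage_compl, key, compl_compl]
  · rw [isLocallyClosed_iff_isOpen_coborder, ← hq.isOpen_preimage, ← coborder_preimage hqo hqc]
    have h1 : Points.ofPt a ⁻¹' Set.range (Points.map i.hom) = Set.range iU.left := by
      rw [← Set.image_univ, hpre, Set.preimage_univ, Set.image_univ]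
    rw [h1, ← isLocallyClosed_iff_isOpen_coborder]
    exact iU.left.isLocallyClosed_range

end Groth.Agent.S10191
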