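import Groth.Statements.S10193
import Groth.Agent.H50.ClosedSub

set_option autoImplicit false
universe u
open CategoryTheory CategoryTheory.Limits AlgebraicGeometry Topology TopologicalSpace
open AlgSp

namespace Groth.Agent.S10193

open Groth.Agent.H50

/-- Let X, Y be algebraic spaces over a scheme S, i : Z ⟶ X a closed subspace (a morphism representable
by closed immersions) and assume Y is reduced. Then a morphism f : Y ⟶ X factors through Z if and
only if |f|(|Y|) is contained in |Z|. -/
theorem result {S : Scheme.{u}} {X Y Z : AlgSp.Space S}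
    (i : Z ⟶ X) (hi : AlgSp.RepWith @IsClosedImmersion i.hom) (hY : AlgSp.IsReducedSp Y.obj) (f : Y ⟶ X) :
    (∃ g : Y ⟶ Z, g ≫ i = f) ↔
      Set.range (AlgSp.Points.map f.hom) ⊆ Set.range (AlgSp.Points.map i.hom) := by
  constructor
  · rintro ⟨g, rfl⟩ x ⟨y, rfl⟩
    exact ⟨Points.map g.hom y, (Points.map_comp g.hom i.hom y).symm⟩
  · intro hr
    have sq := IsPullback.of_hasPullback i.hom f.hom
    have := AlgSp.repWith_isStableUnderBaseChange (S := S) @IsClosedImmersion
    have h1 : RepWith @IsClosedImmersion (pullback.snd i.hom f.hom) :=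
      MorphismProperty.of_isPullback sq hi
    have h2 : Function.Surjective (Points.map (pullback.snd i.hom f.hom)) := by
      intro y
      obtain ⟨x', hx'⟩ := hr ⟨y, rfl⟩
      obtain ⟨z, -, hz⟩ := Groth.Agent.H52.exists_point_of_isPullback sq x' y hx'
      exact ⟨z, hz⟩
    have h3 := isIso_of_repWith_isClosedImmersion_of_surjective _ h1 h2 hY
    refine ⟨ObjectProperty.homMk (inv (pullback.snd i.hom f.hom) ≫ pullback.fst i.hom f.hom), ?_⟩
    apply ObjectProperty.hom_ext
    rw [ObjectProperty.FullSubcategory.comp_hom]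
    change (inv (pullback.snd i.hom f.hom) ≫ pullback.fst i.hom f.hom) ≫ i.hom = f.hom
    rw [Category.assoc, pullback.condition, IsIso.inv_hom_id_assoc]

end Groth.Agent.S10193
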