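import Groth.Statements.S10589
import Groth.Agent.H51.ThickSep
import Groth.Agent.H51.DiagSep
import Groth.Agent.S10277

set_option autoImplicit false
universe u
open CategoryTheory CategoryTheory.Limits AlgebraicGeometry
open AlgSp

namespace Groth.Agent.S10589

/-- Consider a morphism (f, f') from the thickening X ⊂ X' to the thickening Y ⊂ Y' of algebraic spaces
over S, meaning: i : X ⟶ X' and j : Y ⟶ Y' are thickenings (representable, every base change to a
scheme a surjective closed immersion) and i ≫ f' = f ≫ j. Then f is separated if and only if f' is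
separated, and f is quasi-separated if and only if f' is quasi-separated. -/
theorem result {S : Scheme.{u}} {X X' Y Y' : AlgSp.Space S} (i : X ⟶ X') (j : Y ⟶ Y')
    (f : X ⟶ Y) (f' : X' ⟶ Y')
    (hi : AlgSp.IsThickMor i.hom)
    (hj : AlgSp.IsThickMor j.hom) (w : i ≫ f' = f ≫ j) :
    (AlgSp.IsSeparatedMor f.hom ↔ AlgSp.IsSeparatedMor f'.hom) ∧
    (AlgSp.IsQuasiSeparatedMor f.hom ↔ AlgSp.IsQuasiSeparatedMor f'.hom) := by
  have hiS : IsSurjectiveMor i.hom := Groth.Agent.H51.isSurjectiveMor_of_isThickMor i hi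
  have hic := Groth.Agent.H51.repWith_isClosedImmersion_of_isThickMor hi
  have hjc := Groth.Agent.H51.repWith_isClosedImmersion_of_isThickMor hj
  have hjmono : Mono j.hom :=
    Groth.Agent.H50.mono_of_repWith (fun _ _ g (hg : IsClosedImmersion g) => (inferInstance : Mono g)) hjc
  have w' : i.hom ≫ f'.hom = f.hom ≫ j.hom := congrArg (fun k => k.hom) w
  have inst1 := AlgSp.repWith_isStableUnderBaseChange (S := S) @IsClosedImmersion
  have inst2 := AlgSp.repWith_isMultiplicative (S := S) @IsClosedImmersion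
  have inst3 := AlgSp.repWith_isMultiplicative (S := S) @QuasiCompact
  have hle : (@IsClosedImmersion : MorphismProperty Scheme.{u}) ≤ @QuasiCompact :=
    fun _ _ g (hg : IsClosedImmersion g) => (inferInstance : QuasiCompact g)
  have hc : RepWith @IsClosedImmersion (pullback.map (i.hom ≫ f'.hom) (i.hom ≫ f'.hom) f'.hom f'.hom
      i.hom i.hom (𝟙 Y'.obj) ((Category.comp_id _).trans rfl) ((Category.comp_id _).trans rfl)) :=
    MorphismProperty.pullbackMap hic hic rfl rfl
  let C' : AlgSp.Space S := ⟨pullback f'.hom f'.hom,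
    Groth.Agent.H52.isAlgSpace_of_isPullback (IsPullback.of_hasPullback _ _) Y'.property.diag
      X'.property X'.property⟩
  let d' : X' ⟶ C' := ObjectProperty.homMk (pullback.diagonal f'.hom)
  refine ⟨⟨fun hf => ?_, fun hf' => ?_⟩, ⟨fun hf => ?_, fun hf' => ?_⟩⟩
  · have h1 : IsSeparatedMor (f.hom ≫ j.hom) :=
      Groth.Agent.H51.isSeparatedMor_comp f j hf (Groth.Agent.S9937.result j hjc)
    rw [← w'] at h1
    have h2 : RepWith @IsClosedImmersion (i.hom ≫ pullback.diagonal f'.hom) := by
      rw [Groth.Agent.H51.comp_diagonal_eq]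
      exact (RepWith @IsClosedImmersion).comp_mem _ _ h1 hc
    have h3 : IsUnivClosedMor (i ≫ d').hom := (Groth.Agent.S10277.result (i ≫ d') h2).2.2
    have h4 : IsUnivClosedMor d'.hom := Groth.Agent.S10279.result i (i ≫ d') d' rfl h3 hiS
    exact (Groth.Agent.S10280.result f').1.2 h4
  · have h1 : IsSeparatedMor (i.hom ≫ f'.hom) :=
      Groth.Agent.H51.isSeparatedMor_comp i f' (Groth.Agent.S9937.result i hic) hf'
    rw [w'] at h1
    exact Groth.Agent.H51.repWith_diagonal_of_comp_mono _ f.hom j.hom h1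
  · have hjq : IsQuasiSeparatedMor j.hom :=
      Groth.Agent.H51.repWith_mono hle (Groth.Agent.S9937.result j hjc)
    have h1 : IsQuasiSeparatedMor (f.hom ≫ j.hom) :=
      Groth.Agent.H51.isQuasiSeparatedMor_comp f j hf hjq
    rw [← w'] at h1
    have h2 : RepWith @QuasiCompact (i.hom ≫ pullback.diagonal f'.hom) := by
      rw [Groth.Agent.H51.comp_diagonal_eq]
      exact (RepWith @QuasiCompact).comp_mem _ _ h1 (Groth.Agent.H51.repWith_mono hle hc)
    have h3 : IsQuasiCompactMor (i ≫ d').hom := (Groth.Agent.S9912.result (i ≫ d') h2.1).1 h2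
    have h4 : IsQuasiCompactMor d'.hom := Groth.Agent.S9915.result i (i ≫ d') d' rfl hiS h3
    exact (Groth.Agent.S9912.result d'
      (Groth.Agent.H51.representable_pullback_diagonal X'.property f'.hom)).2 h4
  · have hiq : IsQuasiSeparatedMor i.hom :=
      Groth.Agent.H51.repWith_mono hle (Groth.Agent.S9937.result i hic)
    have h1 : IsQuasiSeparatedMor (i.hom ≫ f'.hom) :=
      Groth.Agent.H51.isQuasiSeparatedMor_comp i f' hiq hf'
    rw [w'] at h1
    exact Groth.Agent.H51.repWith_diagonal_of_comp_mono _ f.hom j.hom h1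

end Groth.Agent.S10589
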