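import Groth.Statements.S9934
import Groth.Agent.H50.Points
import Groth.Agent.H52.Topology

set_option autoImplicit false
universe u
open CategoryTheory CategoryTheory.Limits AlgebraicGeometry
open AlgSp

namespace Groth.Agent.S9934

open Groth.Agent.H52

/-- An immersion of algebraic spaces is a closed immersion exactly when its image on points is closed. -/
theorem result {S : Scheme.{u}} {Z X : AlgSp.Space S} (i : Z ⟶ X)
    (hi : AlgSp.RepWith @IsImmersion i.hom) :
    AlgSp.RepWith @IsClosedImmersion i.hom ↔ IsClosed (Set.range (AlgSp.Points.map i.hom)) := by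
  have key : ∀ ⦃T V : Over S⦄ (g : (AlgSp.yon S).obj T ⟶ X.obj) (fst : (AlgSp.yon S).obj V ⟶ Z.obj)
      (snd : V ⟶ T), IsPullback fst ((AlgSp.yon S).map snd) i.hom g →
      Set.range snd.left = AlgSp.Points.ofPt g ⁻¹' Set.range (AlgSp.Points.map i.hom) := by
    intro T V g fst snd sq
    ext t
    constructor
    · rintro ⟨v, rfl⟩
      refine ⟨AlgSp.Points.ofPt fst v, ?_⟩
      rw [AlgSp.Points.map_ofPt, sq.w, ofPt_yon_map_comp]
    · rintro ⟨z, hz⟩
      have hgt : AlgSp.Points.map g (AlgSp.Points.ofPt (𝟙 _) t) = AlgSp.Points.ofPt g t := by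
        rw [AlgSp.Points.map_ofPt, Category.id_comp]
      obtain ⟨w, -, hw2⟩ := Groth.Agent.H50.exists_point_of_isPullback sq z
        (AlgSp.Points.ofPt (𝟙 _) t) (hz.trans hgt.symm)
      obtain ⟨v, rfl⟩ := (AlgSp.Points.schemeEquiv V).surjective w
      refine ⟨v, ?_⟩
      have h1 : AlgSp.Points.ofPt (𝟙 ((AlgSp.yon S).obj T)) (snd.left v) =
          AlgSp.Points.ofPt (𝟙 ((AlgSp.yon S).obj T)) t := by
        rw [← hw2]
        show _ = AlgSp.Points.map _ (AlgSp.Points.ofPt (𝟙 _) v)
        rw [AlgSp.Points.map_ofPt, Category.id_comp,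
          ← Category.comp_id ((AlgSp.yon S).map snd), ofPt_yon_map_comp]
      exact ofScheme_injective T h1
  constructor
  · intro hc
    obtain ⟨U, φ, hφe, hφs⟩ := X.property.atlas
    rw [← (isQuotientMap_ofPt φ hφe hφs).isClosed_preimage]
    have sq := hi.rep.isPullback φ
    obtain ⟨fst', hfst'⟩ : ∃ fst' : (AlgSp.yon S).obj (hi.rep.pullback φ) ⟶ Z.obj,
        fst' = hi.rep.fst φ := ⟨_, rfl⟩
    have hci : IsClosedImmersion (hi.rep.snd φ).left := hc.property φ _ _ sq
    rw [← key φ _ _ sq]
    exact (hi.rep.snd φ).left.isClosedEmbedding.isClosed_range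
  · intro hcl
    refine ⟨hi.rep, fun T V g fst snd sq => ?_⟩
    have himm : IsImmersion snd.left := hi.property g fst snd sq
    have hr : IsClosed (Set.range snd.left) := by
      rw [key g fst snd sq]
      exact hcl.preimage (AlgSp.Points.continuous_ofPt g)
    exact IsClosedImmersion.of_isPreimmersion snd.left hr

end Groth.Agent.S9934
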