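import Groth.Statements.S10929
import Groth.Agent.H63.GenericSmooth2

set_option autoImplicit false
universe u
open CategoryTheory CategoryTheory.Limits AlgebraicGeometry
open Variety

namespace Groth.Agent.S10929

/-- Let k be an algebraically closed field of characteristic zero, X and Y integral schemes of finite
type over k and f : X → Y a dominant k-morphism. Then there is a nonempty open subscheme U of X such
that f restricted to U is a smooth morphism U → Y. -/
theorem result (k : Type u) [Field k] [IsAlgClosed k] [CharZero k]
    {X Y : Scheme.{u}} (qX : X ⟶ Spec (CommRingCat.of k)) (qY : Y ⟶ Spec (CommRingCat.of k))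
    [LocallyOfFiniteType qX] [QuasiCompact qX] [LocallyOfFiniteType qY] [QuasiCompact qY]
    [IsIntegral X] [IsIntegral Y] (f : X ⟶ Y) (hf : f ≫ qY = qX) (hdom : DenseRange f.base) :
    ∃ U : X.Opens, (U : Set ↥X).Nonempty ∧ Smooth (U.ι ≫ f) := by
  haveI : IsDominant f := ⟨hdom⟩
  haveI : IsLocallyNoetherian Y := LocallyOfFiniteType.isLocallyNoetherian qY
  haveI : LocallyOfFiniteType (f ≫ qY) := hf ▸ inferInstance
  haveI : LocallyOfFiniteType f := locallyOfFiniteType_of_comp f qY
  haveI : LocallyOfFinitePresentation f := inferInstance
  haveI : CharZero Y.functionField := Groth.Agent.H63.GenericSmooth2.charZero_functionField k qY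
  haveI : PerfectField Y.functionField := inferInstance
  refine ⟨f.smoothLocus, ⟨genericPoint X,
    Groth.Agent.H63.GenericSmooth2.genericPoint_mem_smoothLocus_of_perfectField X Y f⟩, ?_⟩
  exact Groth.Agent.H49.SmoothFibre.smooth_comp_of_le_smoothLocus f.smoothLocus.ι f (fun z => z.2)

end Groth.Agent.S10929
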