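import Groth.Statements.S7659
import Groth.Agent.H54.LocalIso2
import Groth.Agent.H54.GermInjective

set_option autoImplicit false
universe u
open CategoryTheory CategoryTheory.Limits AlgebraicGeometry
open Variety

namespace Groth.Agent.S7659

/-- Let f : X → S be a morphism of schemes and x a point with image s such that O_{S,s} → O_{X,x} is an
isomorphism, S is reduced with finitely many irreducible components, and f is locally of finite
type. Then f restricted to some open neighbourhood of x is an open immersion. (The published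
statement assumes f of finite type; this row assumes only that f is locally of finite type.) -/
theorem result {X S : Scheme.{u}} (f : X ⟶ S)
    [LocallyOfFiniteType f] [IsReduced S] (hS : (irreducibleComponents (S : Type u)).Finite)
    (x : X) (hx : IsIso (f.stalkMap x)) :
    ∃ U : X.Opens, x ∈ U ∧ IsOpenImmersion (U.ι ≫ f) := by
  haveI := hx
  haveI : S.IsGermInjectiveAt (f x) := Groth.Agent.H54.isGermInjectiveAt_of_isReduced S hS (f x)
  have e0 : (𝟙 S : S ⟶ S) (f x) = f x := rfl
  have h' : f.stalkMap x ≫ inv (f.stalkMap x) =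
      S.presheaf.stalkSpecializes (Inseparable.of_eq e0).specializes ≫
        (𝟙 S : S ⟶ S).stalkMap (f x) := by
    rw [IsIso.hom_inv_id, Scheme.Hom.stalkMap_id]
    erw [TopCat.Presheaf.stalkSpecializes_refl, Category.id_comp]
  obtain ⟨V₁, hyV₁, g, hg₁, hg₂⟩ :=
    spread_out_of_isGermInjective (𝟙 S) f e0 (inv (f.stalkMap x)) h'
  obtain ⟨U, hxU, V, f', hf', -, hov⟩ :=
    Groth.Agent.H54.local_iso_of_spread f (𝟙 S) (f.stalkMap x)
      (⊤ : X.Opens) trivial ((⊤ : X.Opens).ι ≫ f)
      (by
        rw [← Category.assoc, Scheme.Opens.fromSpecStalkOfMem_ι,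
          Scheme.SpecMap_stalkMap_fromSpecStalk])
      (Category.comp_id _) V₁ hyV₁ g hg₁ hg₂
  haveI := hf'
  refine ⟨U, hxU, ?_⟩
  rw [← hov, Category.comp_id]
  infer_instance

end Groth.Agent.S7659
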