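import Groth.Statements.S8880
import Mathlib.AlgebraicGeometry.QuasiAffine
import Mathlib.AlgebraicGeometry.Morphisms.QuasiFinite
import Mathlib.AlgebraicGeometry.Morphisms.Finite

set_option autoImplicit false
universe u
open CategoryTheory CategoryTheory.Limits AlgebraicGeometry TopologicalSpace
open SDiv

namespace Groth.Agent.S8880


/-- In a quasi-affine scheme, a finite set of points contained in an open `O` lies in a basic
open `X_b ⊆ O` of a global function `b` (prime avoidance). -/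
theorem exists_basicOpen_of_finite (X : Scheme.{u}) [X.IsQuasiAffine] {F : Set X} (hF : F.Finite)
    (O : X.Opens) (hFO : F ⊆ O) :
    ∃ b : Γ(X, ⊤), (∀ x ∈ F, x ∈ X.basicOpen b) ∧ X.basicOpen b ≤ O := by
  classical
  obtain ⟨P, hP⟩ : ∃ P : X → PrimeSpectrum Γ(X, ⊤), ∀ x, P x = X.toSpecΓ x :=
    ⟨fun x => X.toSpecΓ x, fun _ => rfl⟩
  have hPfun : P = fun x => X.toSpecΓ x := funext hP
  have hPinj : Function.Injective P := by
    rw [hPfun]; exact X.toSpecΓ.isOpenEmbedding.injective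
  have hopen : IsOpen (P '' (O : Set X)) := by
    rw [hPfun]; exact (X.toSpecΓ ''ᵁ O).isOpen
  obtain ⟨I, hI⟩ := (PrimeSpectrum.isClosed_iff_zeroLocus_ideal (R := Γ(X, ⊤)) _).mp
    hopen.isClosed_compl
  have key : ∀ x : X, x ∈ O ↔ ¬ (I ≤ (P x).asIdeal) := by
    intro x
    have h1 : P x ∈ (P '' (O : Set X))ᶜ ↔ I ≤ (P x).asIdeal := by
      rw [hI]; exact Iff.rfl
    have h2 : P x ∈ (P '' (O : Set X)) ↔ x ∈ O := hPinj.mem_set_image
    rw [← h2, ← h1, Set.mem_compl_iff, not_not]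
  have hex : ∃ b ∈ I, ∀ x ∈ F, b ∉ (P x).asIdeal := by
    by_contra hcon
    push Not at hcon
    rcases F.eq_empty_or_nonempty with rfl | ⟨x0, hx0⟩
    · obtain ⟨x, hx, -⟩ := hcon 0 I.zero_mem
      exact hx
    · have hsub : (I : Set Γ(X, ⊤)) ⊆ ⋃ x ∈ (↑hF.toFinset : Set X), ((P x).asIdeal : Set Γ(X, ⊤)) := by
        intro b hb
        obtain ⟨x, hx, hbx⟩ := hcon b hb
        exact Set.mem_biUnion (by simpa using hx) hbx
      obtain ⟨x, hx, hIx⟩ := (Ideal.subset_union_prime (s := hF.toFinset)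
        (f := fun x => (P x).asIdeal) x0 x0 (fun i _ _ _ => (P i).isPrime)).mp hsub
      exact (key x).mp (hFO (by simpa using hx)) hIx
  obtain ⟨b, hbI, hb⟩ := hex
  have hbasic : ∀ x : X, x ∈ X.basicOpen b ↔ b ∉ (P x).asIdeal := by
    intro x
    rw [← Scheme.toSpecΓ_preimage_basicOpen]
    show X.toSpecΓ x ∈ PrimeSpectrum.basicOpen b ↔ _
    rw [← hP x]
    exact Iff.rfl
  refine ⟨b, fun x hx => (hbasic x).mpr (hb x hx), fun x hx => ?_⟩
  rw [key x]
  intro hle
  exact (hbasic x).mp hx (hle hbI)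


/-- Let π : X ⟶ Y be a finite morphism of schemes such that a norm of degree d exists for π, and assume
X is quasi-affine. Then Y is quasi-affine. -/
theorem result {X Y : Scheme.{u}} (π : X ⟶ Y) [IsFinite π] (d : ℕ) (hN : Nrm.HasNorm π d)
    (hX : X.IsQuasiAffine) : Y.IsQuasiAffine := by
  obtain ⟨N⟩ := hN
  haveI := hX
  have hd : d ≠ 0 := by have := N.one_le; omega
  -- surjectivity
  have hsurj : Function.Surjective π := by
    intro y
    by_contra hy
    have hcl : IsClosed (Set.range π) := π.isClosedMap.isClosed_range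
    let V₀ : Y.Opens := ⟨(Set.range π)ᶜ, hcl.isOpen_compl⟩
    have hyV : y ∈ V₀ := fun ⟨x, hx⟩ => hy ⟨x, hx⟩
    have hempty : ∀ x : X, x ∉ π ⁻¹ᵁ V₀ := fun x hx => hx ⟨x, rfl⟩
    have h01 : (1 : Γ(X, π ⁻¹ᵁ V₀)) = 0 := by
      refine X.IsSheaf.section_ext fun x hx => (hempty x hx).elim
    have h1 : (1 : Γ(Y, V₀)) = 0 := by
      calc (1 : Γ(Y, V₀)) = N.norm V₀ 1 := (map_one _).symm
        _ = N.norm V₀ (π.app V₀ 0) := by rw [map_zero, h01]
        _ = 0 ^ d := N.norm_app V₀ 0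
        _ = 0 := zero_pow hd
    have h2 : (1 : Y.presheaf.stalk y) = 0 := by
      have := congrArg (Y.presheaf.germ V₀ y hyV) h1
      simpa using this
    exact one_ne_zero h2
  haveI : CompactSpace Y := Function.Surjective.compactSpace π.continuous hsurj
  refine Scheme.IsQuasiAffine.of_forall_exists_mem_basicOpen Y fun y => ?_
  obtain ⟨_, ⟨W, hW, rfl⟩, hyW, -⟩ :=
    Y.isBasis_affineOpens.exists_subset_of_mem_open (Set.mem_univ y) isOpen_univ
  have hfin : (π ⁻¹' {y}).Finite := π.finite_preimage_singleton y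
  obtain ⟨b, hFb, hbO⟩ := exists_basicOpen_of_finite X hfin (π ⁻¹ᵁ W)
    (fun x hx => by
      have : π x = y := hx
      show π x ∈ W
      rw [this]; exact hyW)
  have main : ∀ b' : Γ(X, π ⁻¹ᵁ ⊤), (∀ x, π x = y → x ∈ X.basicOpen b') →
      X.basicOpen b' ≤ π ⁻¹ᵁ W →
      ∃ r : Γ(Y, ⊤), IsAffineOpen (Y.basicOpen r) ∧ y ∈ Y.basicOpen r := by
    intro b' hFb hbO
    have h5 : ∀ x : X, π x ∈ Y.basicOpen (N.norm ⊤ b') → x ∈ X.basicOpen b' := by
      intro x hx
      by_contra hnx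
      have hgerm : X.presheaf.germ (π ⁻¹ᵁ ⊤) x (show π.base x ∈ (⊤ : Y.Opens) from trivial) b' ∈
          IsLocalRing.maximalIdeal (X.presheaf.stalk x) := by
        rw [IsLocalRing.mem_maximalIdeal, mem_nonunits_iff]
        intro hu
        exact hnx ((X.mem_basicOpen b' x _).mpr hu)
      have := N.norm_mem ⊤ b' x trivial hgerm
      rw [IsLocalRing.mem_maximalIdeal, mem_nonunits_iff] at this
      exact this ((Y.mem_basicOpen_top _ (π x)).mp hx)
    have h4 : y ∈ Y.basicOpen (N.norm ⊤ b') := by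
      have hclC : IsClosed (π '' ((X.basicOpen b' : Set X)ᶜ)) :=
        π.isClosedMap _ (X.basicOpen b').isOpen.isClosed_compl
      let V : Y.Opens := ⟨(π '' ((X.basicOpen b' : Set X)ᶜ))ᶜ, hclC.isOpen_compl⟩
      have hyV : y ∈ V := by
        rintro ⟨x, hx, hxy⟩
        exact hx (hFb x hxy)
      have hVb : ∀ x : X, x ∈ π ⁻¹ᵁ V → x ∈ X.basicOpen b' := by
        intro x hx
        by_contra hnx
        exact hx ⟨x, hnx, rfl⟩
      have hres := N.norm_res (homOfLE (le_top : V ≤ ⊤)) b'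
      have hunit : IsUnit (X.presheaf.map
          ((Opens.map π.base).map (homOfLE (le_top : V ≤ ⊤))).op b') := by
        refine X.toRingedSpace.isUnit_of_isUnit_germ _ _ fun x hx => ?_
        have hgr := X.presheaf.germ_res_apply
          ((Opens.map π.base).map (homOfLE (le_top : V ≤ ⊤))) x hx b'
        have hu := (X.mem_basicOpen b' x trivial).mp (hVb x hx)
        rw [← hgr] at hu
        exact hu
      have hunit2 : IsUnit (Y.presheaf.map (homOfLE (le_top : V ≤ ⊤)).op (N.norm ⊤ b')) := by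
        rw [hres]; exact hunit.map (N.norm V)
      rw [Y.mem_basicOpen_top _ y]
      have hgr := Y.presheaf.germ_res_apply (homOfLE (le_top : V ≤ ⊤)) y hyV (N.norm ⊤ b')
      rw [← hgr]
      exact hunit2.map (Y.presheaf.germ V y hyV).hom
    have hle : Y.basicOpen (N.norm ⊤ b') ≤ W := by
      intro y' hy'
      obtain ⟨x, rfl⟩ := hsurj y'
      exact hbO (h5 x hy')
    refine ⟨N.norm ⊤ b', ?_, h4⟩
    have := hW.basicOpen (Y.presheaf.map (homOfLE (le_top : W ≤ ⊤)).op (N.norm ⊤ b'))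
    rwa [Y.basicOpen_res, inf_eq_right.mpr hle] at this
  exact main b (fun x hx => hFb x hx) hbO

end Groth.Agent.S8880
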