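import Groth.Statements.S13152
import Mathlib
import Groth.Agent.H40.FpqcFam
import Groth.Agent.S0084
import Groth.Agent.H54.ZMT

set_option autoImplicit false
universe u
open CategoryTheory AlgebraicGeometry
open NonAbH1

namespace Groth.Agent.S13152


section Helpers
open AlgebraicGeometry CategoryTheory CategoryTheory.Limits TopologicalSpace Topology IsLocalRing

/-- The scheme-theoretic image of a quasi-compact morphism from a reduced scheme is reduced
(copy of `H52.isReduced_image`). -/
theorem isReduced_image' {X Y : Scheme.{u}} (f : X ⟶ Y) [QuasiCompact f] [IsReduced X] :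
    IsReduced f.image := by
  have h : ∀ U : Y.affineOpens, IsReduced (Spec (f.ker.subschemeCover.X U)) := by
    intro U
    have : _root_.IsReduced (Γ(Y, U) ⧸ f.ker.ideal U) := by
      rw [Scheme.Hom.ker_apply]
      exact isReduced_of_injective (RingHom.kerLift (f.app U).hom) (RingHom.kerLift_injective _)
    exact inferInstanceAs (IsReduced (Spec (CommRingCat.of (Γ(Y, U) ⧸ f.ker.ideal U))))
  have h' : ∀ i, IsReduced (f.ker.subschemeCover.openCover.X i) := h
  exact IsReduced.of_openCover (X := f.image) f.ker.subschemeCover.openCover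

theorem isIso_of_fromSpecStalk {X : Scheme.{u}} [IrreducibleSpace X] (x : X)
    (hx : x = genericPoint X)
    (φ : X.presheaf.stalk x ⟶ X.presheaf.stalk (genericPoint X))
    (h : Spec.map φ ≫ X.fromSpecStalk x = X.fromSpecStalk (genericPoint X)) : IsIso φ := by
  subst hx
  have h1 : Spec.map φ = 𝟙 _ := by
    rw [← cancel_mono (X.fromSpecStalk (genericPoint X)), h, Category.id_comp]
  have h2 : φ = 𝟙 _ := Spec.map_injective (by rw [h1, Spec.map_id])
  rw [h2]; infer_instance

theorem main {X : Scheme.{u}} [IsIntegral X] (hX : Pi1.IsNormalScheme X) {Yl : Scheme.{u}}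
    (q : Yl ⟶ X) [IsFinite q] (s₀ : Spec (X.presheaf.stalk (genericPoint X)) ⟶ Yl)
    (hs₀ : s₀ ≫ q = X.fromSpecStalk (genericPoint X)) : ∃ s : X ⟶ Yl, s ≫ q = 𝟙 X := by
  haveI : Subsingleton ↥(Spec (X.presheaf.stalk (genericPoint X))) :=
    show Subsingleton (PrimeSpectrum (X.presheaf.stalk (genericPoint X))) from inferInstance
  haveI : QuasiCompact s₀ := ⟨fun U _ _ => (Set.toFinite _).isCompact⟩
  haveI : IsReduced (Spec (X.presheaf.stalk (genericPoint X))) := inferInstance
  haveI : IsReduced s₀.image := isReduced_image' s₀
  obtain ⟨t, ht⟩ : ∃ t : Spec (X.presheaf.stalk (genericPoint X)) ⟶ s₀.image, t = s₀.toImage :=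
    ⟨_, rfl⟩
  have hti : t ≫ s₀.imageι = s₀ := by rw [ht]; exact s₀.toImage_imageι
  haveI : IsDominant t := by rw [ht]; infer_instance
  obtain ⟨p, hp⟩ : ∃ p : s₀.image ⟶ X, p = s₀.imageι ≫ q := ⟨_, rfl⟩
  haveI : IsFinite p := by rw [hp]; infer_instance
  have htp : t ≫ p = X.fromSpecStalk (genericPoint X) := by
    rw [hp, ← Category.assoc, hti, hs₀]
  have hsub : ∀ a : ↥(Spec (X.presheaf.stalk (genericPoint X))),
      a = closedPoint (X.presheaf.stalk (genericPoint X)) := fun a => Subsingleton.elim _ _
  have hrange : Set.range t = {t (closedPoint (X.presheaf.stalk (genericPoint X)))} := by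
    ext z
    constructor
    · rintro ⟨a, rfl⟩
      rw [hsub a]; rfl
    · rintro rfl
      exact ⟨_, rfl⟩
  have hdense : closure ({t (closedPoint (X.presheaf.stalk (genericPoint X)))} : Set ↥s₀.image) =
      Set.univ := by
    rw [← hrange]; exact (IsDominant.denseRange (f := t)).closure_range
  haveI : IrreducibleSpace ↥s₀.image := by
    have h1 : IsIrreducible
        (closure ({t (closedPoint (X.presheaf.stalk (genericPoint X)))} : Set ↥s₀.image)) :=
      isIrreducible_singleton.closure
    rw [hdense] at h1
    exact (irreducibleSpace_def _).mpr h1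
  haveI : IsIntegral s₀.image := isIntegral_of_irreducibleSpace_of_isReduced _
  have hz : t (closedPoint (X.presheaf.stalk (genericPoint X))) = genericPoint ↥s₀.image :=
    (show IsGenericPoint (t (closedPoint (X.presheaf.stalk (genericPoint X)))) Set.univ from
      hdense).eq (genericPoint_spec _)
  have hpz : p (t (closedPoint (X.presheaf.stalk (genericPoint X)))) = genericPoint X := by
    rw [← Scheme.Hom.comp_apply, htp]; exact Scheme.fromSpecStalk_closedPoint
  have hgen : p (genericPoint ↥s₀.image) = genericPoint X := by rw [← hz]; exact hpz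
  have hbir0 : IsIso (p.stalkMap (t (closedPoint (X.presheaf.stalk (genericPoint X))))) := by
    obtain ⟨ψ, hψ⟩ : ∃ ψ, ψ = Scheme.stalkClosedPointTo t := ⟨_, rfl⟩
    have h1 : Spec.map ψ ≫ (s₀.image).fromSpecStalk
        (t (closedPoint (X.presheaf.stalk (genericPoint X)))) = t := by
      rw [hψ]; exact Scheme.Spec_stalkClosedPointTo_fromSpecStalk t
    have h2 : Spec.map (p.stalkMap (t (closedPoint (X.presheaf.stalk (genericPoint X)))) ≫ ψ) ≫
        X.fromSpecStalk (p (t (closedPoint (X.presheaf.stalk (genericPoint X))))) =
        X.fromSpecStalk (genericPoint X) := by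
      rw [Spec.map_comp, Category.assoc, Scheme.SpecMap_stalkMap_fromSpecStalk, ← Category.assoc,
        h1, htp]
    haveI h3 : IsIso (p.stalkMap (t (closedPoint (X.presheaf.stalk (genericPoint X)))) ≫ ψ) :=
      isIso_of_fromSpecStalk _ hpz _ h2
    have hfield : IsField (s₀.image.presheaf.stalk
        (t (closedPoint (X.presheaf.stalk (genericPoint X))))) := by
      rw [hz]; exact Field.toIsField (s₀.image).functionField
    have hψinj : Function.Injective ψ.hom := by
      rw [injective_iff_map_eq_zero]
      intro a ha
      by_contra ha0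
      obtain ⟨b, hb⟩ := hfield.mul_inv_cancel ha0
      have h4 := congrArg ψ.hom hb
      rw [map_mul, ha, zero_mul, map_one] at h4
      exact zero_ne_one h4
    have hcomp_bij : Function.Bijective
        (p.stalkMap (t (closedPoint (X.presheaf.stalk (genericPoint X)))) ≫ ψ).hom :=
      (ConcreteCategory.isIso_iff_bijective _).mp h3
    have hψsurj : Function.Surjective ψ.hom := fun k => by
      obtain ⟨a, ha⟩ := hcomp_bij.2 k
      exact ⟨(p.stalkMap (t (closedPoint (X.presheaf.stalk (genericPoint X))))).hom a, ha⟩
    haveI : IsIso ψ := (ConcreteCategory.isIso_iff_bijective ψ).mpr ⟨hψinj, hψsurj⟩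
    exact IsIso.of_isIso_comp_right
      (p.stalkMap (t (closedPoint (X.presheaf.stalk (genericPoint X))))) ψ
  have hbir : IsIso (p.stalkMap (genericPoint ↥s₀.image)) := hz ▸ hbir0
  haveI : IsOpenImmersion p :=
    Groth.Agent.H54.isOpenImmersion_of_birational_of_isSeparated (fun y => (hX y).2) p hgen hbir
  haveI : Surjective p := by
    refine ⟨fun x => ?_⟩
    have hcl : IsClosed (Set.range p) := p.isClosedMap.isClosed_range
    have hη : genericPoint X ∈ Set.range p := ⟨_, hgen⟩
    have hx : x ∈ closure ({genericPoint X} : Set X) := by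
      rw [(genericPoint_spec X).def]; trivial
    exact (hcl.closure_subset_iff.mpr (Set.singleton_subset_iff.mpr hη)) hx
  haveI : IsIso p := (isIso_iff_isOpenImmersion_and_surjective p).mpr ⟨inferInstance, inferInstance⟩
  refine ⟨inv p ≫ s₀.imageι, ?_⟩
  rw [Category.assoc, ← hp, IsIso.inv_hom_id]

end Helpers


/-- Let X be a normal integral scheme (integral, with every local ring an integrally closed domain), G
an X-group scheme which is finite and flat over X, and Y an X-scheme with an action of G making it a
G-torsor for the fppf topology. If Y acquires a section over the spectrum of the local ring of X at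
its generic point (the function field of X), then Y has a section over X; in other words the map
from isomorphism classes of fppf G-torsors over X to those over the function field has trivial
kernel. (The published statement assumes moreover that all schemes are Noetherian and that G is
commutative, and is phrased as injectivity of H¹(X, G) → H¹(K(X), G); these extra assumptions are
not needed for the trivial-kernel assertion stated here.) -/
theorem result {X : Scheme.{u}} [IsIntegral X]
    (hX : Pi1.IsNormalScheme X) (G : Over X) [GrpObj G] [IsFinite G.hom] [Flat G.hom]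
    (Y : Over X) (a : AlgGrp.Action G Y) (hY : NonAbH1.IsTorsorFor Scheme.fppfPrecoverage a)
    (hgen : NonAbH1.HasSectionOver Y (X.fromSpecStalk (genericPoint X))) :
    NonAbH1.HasSectionOver Y (𝟙 X) := by
  obtain ⟨hps, R, hR, hsec⟩ := hY
  haveI : IsFinite Y.hom := Groth.Agent.H40.FpqcFam.transfer (a := a) @IsFinite Groth.Agent.S0084.result
    ⟨hps, R, Scheme.fppfPrecoverage_le_fpqcPrecoverage _ hR, hsec⟩ inferInstance
  obtain ⟨s₀, hs₀⟩ := hgen
  obtain ⟨s, hs⟩ := main hX Y.hom s₀ hs₀
  exact ⟨s, hs⟩
end Groth.Agent.S13152
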