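import Groth.Statements.S13428
import Mathlib
import Groth.Agent.S2260
import Groth.Agent.H54.ZMT
import Groth.Agent.H54.SchemeDim2
import Groth.Agent.H25.EtaleDimStalk

set_option autoImplicit false
universe u
open CategoryTheory AlgebraicGeometry
open NeronHD

namespace Groth.Agent.S13428


section Helpers
open AlgebraicGeometry CategoryTheory CategoryTheory.Limits TopologicalSpace Topology Groth.Agent.H54

lemma locallyQuasiFinite_of_etale {X Y : Scheme.{u}} (f : X ⟶ Y) [Etale f] :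
    LocallyQuasiFinite f := by
  refine ⟨fun {U} hU {V} hV e => ?_⟩
  have h : (f.appLE U V e).hom.Etale := Etale.etale_appLE f hU hV e
  letI := (f.appLE U V e).hom.toAlgebra
  haveI : Algebra.Etale Γ(Y, U) Γ(X, V) := h
  exact (inferInstance : Algebra.QuasiFinite Γ(Y, U) Γ(X, V))

lemma normal_of_smooth {X S : Scheme.{u}} (a : X ⟶ S) [Smooth a] (hS : Pi1.IsNormalScheme S)
    (x : X) : IsDomain (X.presheaf.stalk x) ∧ IsIntegrallyClosed (X.presheaf.stalk x) := by
  have hx : x ∈ a.smoothLocus :=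
    Groth.Agent.H25.SmoothStalk.mem_smoothLocus_of_smooth_nhd a x ⟨⊤, trivial, inferInstance⟩
  exact ((Groth.Agent.H25.SmoothStalk.reduced_normal_iff_of_smoothAt a x hx).2).mpr (hS (a x))

lemma dim_stalk_opens {X : Scheme.{u}} (T : X.Opens) (ξ : ↥(T : Scheme.{u})) :
    ringKrullDim ((T : Scheme.{u}).presheaf.stalk ξ) = ringKrullDim (X.presheaf.stalk ξ.1) :=
  (ringKrullDim_eq_of_ringEquiv (asIso (T.ι.stalkMap ξ)).commRingCatIsoToRingEquiv).symm

lemma isMax_dim_zero {X : Scheme.{u}} (ξ : X) (h : IsMax ξ) :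
    ringKrullDim (X.presheaf.stalk ξ) = 0 := by
  rw [ringKrullDim_stalk_eq_coheight, Order.coheight_eq_zero.mpr h]
  rfl

lemma dim_zero_isMax {X : Scheme.{u}} (ξ : X) (h : ringKrullDim (X.presheaf.stalk ξ) = 0) :
    IsMax ξ := by
  rw [ringKrullDim_stalk_eq_coheight] at h
  have h0 : Order.coheight ξ = 0 := by exact_mod_cast h
  exact Order.coheight_eq_zero.mp h0

lemma eq_genericPoint_of_dim_zero {Y : Scheme.{u}} (V : Y.Opens) [IsIntegral (V : Scheme.{u})]
    (y : ↥(V : Scheme.{u})) (h : ringKrullDim (Y.presheaf.stalk y.1) = 0) :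
    y = genericPoint ↥(V : Scheme.{u}) := by
  have hmax : IsMax y := dim_zero_isMax y (by rw [dim_stalk_opens]; exact h)
  have h1 : genericPoint ↥(V : Scheme.{u}) ⤳ y := genericPoint_specializes y
  have h2 : y ⤳ genericPoint ↥(V : Scheme.{u}) :=
    hmax (show y ≤ genericPoint ↥(V : Scheme.{u}) from h1)
  exact (h2.antisymm h1).eq

lemma mem_of_dim_zero {S : Scheme.{u}} [IsLocallyNoetherian S] (hS : Pi1.IsNormalScheme S)
    (S₀ : S.Opens) (hS₀ : CInt.IsSchematicallyDense S₀) (s : S)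
    (h : ringKrullDim (S.presheaf.stalk s) ≤ 0) : s ∈ S₀ := by
  haveI := (hS s).1
  obtain ⟨W, hsW, hW⟩ := Groth.Agent.S2260.result S s
  haveI := hW
  have h0 : ringKrullDim (S.presheaf.stalk s) = 0 := le_antisymm h ringKrullDim_nonneg_of_nontrivial
  have hgen : (⟨s, hsW⟩ : ↥(W : Scheme.{u})) = genericPoint ↥(W : Scheme.{u}) :=
    eq_genericPoint_of_dim_zero W ⟨s, hsW⟩ h0
  have hne : ∃ w : S, w ∈ W ∧ w ∈ S₀ := by
    by_contra hcon
    push Not at hcon
    have hbot : W ⊓ S₀ = ⊥ := by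
      apply le_antisymm _ bot_le
      rintro w ⟨hw1, hw2⟩
      exact (hcon w hw1 hw2).elim
    have hinj := hS₀ W
    have h10 : (1 : Γ(S, W)) = 0 := by
      apply hinj
      haveI : Subsingleton Γ(S, W ⊓ S₀) := by rw [hbot]; infer_instance
      exact Subsingleton.elim _ _
    have h11 := congrArg (S.presheaf.germ W s hsW) h10
    rw [map_one, map_zero] at h11
    exact one_ne_zero h11
  obtain ⟨w, hwW, hwS₀⟩ := hne
  have h1 : genericPoint ↥(W : Scheme.{u}) ⤳ (⟨w, hwW⟩ : ↥(W : Scheme.{u})) :=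
    genericPoint_specializes _
  rw [← hgen] at h1
  have h2 : s ⤳ w := h1.map W.ι.continuous
  exact h2.mem_open S₀.2 hwS₀

theorem core_aux {X Y : Scheme.{u}} (f : X ⟶ Y)
    [IsSeparated f] [QuasiCompact f] [LocallyOfFiniteType f] [LocallyQuasiFinite f]
    (hX : Pi1.IsNormalScheme X) (hY : Pi1.IsNormalScheme Y) (D : Set X)
    (hD0 : ∀ x : X, ringKrullDim (X.presheaf.stalk x) = 0 → x ∈ D)
    (hDinj : ∀ x ∈ D, ∀ x' ∈ D, f x = f x' → x = x')
    (hDiso : ∀ x ∈ D, IsIso (f.stalkMap x))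
    (V : Y.Opens) [IsIntegral (V : Scheme.{u})] : IsOpenImmersion (f ∣_ V) := by
  by_cases hne : Nonempty ↥((f ⁻¹ᵁ V : X.Opens) : Scheme.{u})
  swap
  · haveI : IsEmpty ↥((f ⁻¹ᵁ V : X.Opens) : Scheme.{u}) := not_nonempty_iff.mp hne
    infer_instance
  obtain ⟨t₀⟩ := hne
  have key : ∀ ξ : ↥((f ⁻¹ᵁ V : X.Opens) : Scheme.{u}), IsMax ξ →
      ξ.1 ∈ D ∧ (⟨f ξ.1, ξ.2⟩ : ↥(V : Scheme.{u})) = genericPoint ↥(V : Scheme.{u}) := by
    intro ξ hξ
    have h1 : ringKrullDim (X.presheaf.stalk ξ.1) = 0 := by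
      rw [← dim_stalk_opens]; exact isMax_dim_zero ξ hξ
    have hD := hD0 ξ.1 h1
    haveI := hDiso ξ.1 hD
    have h2 : ringKrullDim (Y.presheaf.stalk (f ξ.1)) = 0 := by
      rw [ringKrullDim_eq_of_ringEquiv (asIso (f.stalkMap ξ.1)).commRingCatIsoToRingEquiv]
      exact h1
    exact ⟨hD, eq_genericPoint_of_dim_zero V ⟨f ξ.1, ξ.2⟩ h2⟩
  have huniq : ∀ ξ ξ' : ↥((f ⁻¹ᵁ V : X.Opens) : Scheme.{u}), IsMax ξ → IsMax ξ' → ξ = ξ' := by
    intro ξ ξ' hξ hξ'
    obtain ⟨hD, hg⟩ := key ξ hξ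
    obtain ⟨hD', hg'⟩ := key ξ' hξ'
    exact Subtype.ext (hDinj _ hD _ hD' (congrArg Subtype.val (hg.trans hg'.symm)))
  obtain ⟨ξ₀, -, hξ₀⟩ := exists_generic_specializes t₀
  have hξ₀max := isMax_of_generic hξ₀
  have hall : ∀ t : ↥((f ⁻¹ᵁ V : X.Opens) : Scheme.{u}), ξ₀ ⤳ t := by
    intro t
    obtain ⟨ξ, hξt, hξ⟩ := exists_generic_specializes t
    rw [huniq ξ₀ ξ hξ₀max (isMax_of_generic hξ)]
    exact hξt
  have hcl : closure ({ξ₀} : Set ↥((f ⁻¹ᵁ V : X.Opens) : Scheme.{u})) = Set.univ :=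
    Set.eq_univ_of_forall (fun t => (hall t).mem_closure)
  haveI : IrreducibleSpace ↥((f ⁻¹ᵁ V : X.Opens) : Scheme.{u}) :=
    { isPreirreducible_univ := by
        rw [← hcl]; exact isIrreducible_singleton.closure.isPreirreducible
      toNonempty := ⟨ξ₀⟩ }
  haveI : ∀ x : X, _root_.IsReduced (X.presheaf.stalk x) := fun x => by
    haveI := (hX x).1; infer_instance
  haveI : IsReduced X := isReduced_of_isReduced_stalk X
  haveI : IsReduced ((f ⁻¹ᵁ V : X.Opens) : Scheme.{u}) :=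
    isReduced_of_isOpenImmersion (f ⁻¹ᵁ V).ι
  haveI : IsIntegral ((f ⁻¹ᵁ V : X.Opens) : Scheme.{u}) :=
    isIntegral_of_irreducibleSpace_of_isReduced _
  have hgmax : IsMax (genericPoint ↥((f ⁻¹ᵁ V : X.Opens) : Scheme.{u})) :=
    fun b _ => genericPoint_specializes b
  obtain ⟨hD, hg⟩ := key _ hgmax
  haveI : IsSeparated (f ∣_ V) :=
    IsZariskiLocalAtTarget.restrict (P := @IsSeparated) inferInstance V
  haveI : QuasiCompact (f ∣_ V) :=
    IsZariskiLocalAtTarget.restrict (P := @QuasiCompact) inferInstance V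
  haveI : LocallyOfFiniteType (f ∣_ V) :=
    IsZariskiLocalAtTarget.restrict (P := @LocallyOfFiniteType) inferInstance V
  have hN : ∀ y : ↥(V : Scheme.{u}), IsIntegrallyClosed ((V : Scheme.{u}).presheaf.stalk y) := by
    intro y
    haveI : IsIntegrallyClosed (Y.presheaf.stalk (V.ι y)) := (hY (V.ι y)).2
    exact IsIntegrallyClosed.of_equiv (asIso (V.ι.stalkMap y)).commRingCatIsoToRingEquiv
  have hgen : (f ∣_ V) (genericPoint ↥((f ⁻¹ᵁ V : X.Opens) : Scheme.{u})) =
      genericPoint ↥(V : Scheme.{u}) := by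
    rw [← hg]
    exact Subtype.ext (morphismRestrict_base_coe f V _)
  have hbir : IsIso ((f ∣_ V).stalkMap (genericPoint ↥((f ⁻¹ᵁ V : X.Opens) : Scheme.{u}))) := by
    haveI := hDiso _ hD
    have h := (MorphismProperty.isomorphisms CommRingCat).arrow_mk_iso_iff
      (morphismRestrictStalkMap f V (genericPoint ↥((f ⁻¹ᵁ V : X.Opens) : Scheme.{u})))
    exact h.mpr (inferInstance :
      IsIso (f.stalkMap (genericPoint ↥((f ⁻¹ᵁ V : X.Opens) : Scheme.{u})).1))
  exact isOpenImmersion_of_birational_of_isSeparated hN (f ∣_ V) hgen hbir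

theorem core {X Y : Scheme.{u}} [IsLocallyNoetherian Y] (f : X ⟶ Y)
    [IsSeparated f] [QuasiCompact f] [LocallyOfFiniteType f] [LocallyQuasiFinite f]
    (hX : Pi1.IsNormalScheme X) (hY : Pi1.IsNormalScheme Y) (D : Set X)
    (hD0 : ∀ x : X, ringKrullDim (X.presheaf.stalk x) = 0 → x ∈ D)
    (hDinj : ∀ x ∈ D, ∀ x' ∈ D, f x = f x' → x = x')
    (hDiso : ∀ x ∈ D, IsIso (f.stalkMap x)) : IsOpenImmersion f := by
  have hcov : ∀ y : Y, ∃ U : Y.Opens, y ∈ U ∧ IsIntegral (U : Scheme.{u}) := fun y => by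
    haveI := (hY y).1
    exact Groth.Agent.S2260.result Y y
  choose U hyU hUint using hcov
  apply IsZariskiLocalAtTarget.of_iSup_eq_top (P := @IsOpenImmersion) U
  · apply top_unique
    intro y _
    exact TopologicalSpace.Opens.mem_iSup.mpr ⟨y, hyU y⟩
  intro y
  haveI := hUint y
  exact core_aux f hX hY D hD0 hDinj hDiso (U y)

theorem main {S : Scheme.{u}} [IsNoetherian S] (hS : Pi1.IsNormalScheme S) (S₀ : S.Opens)
    (hS₀ : CInt.IsSchematicallyDense S₀)
    (N : Over S) [Smooth N.hom] [IsSeparated N.hom] [QuasiCompact N.hom]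
    (M : Over S) [Etale M.hom] [IsSeparated M.hom] [QuasiCompact M.hom]
    (φ : M ⟶ N) [IsIso ((Over.pullback S₀.ι).map φ)] : IsOpenImmersion φ.left := by
  haveI : IsLocallyNoetherian M.left := LocallyOfFiniteType.isLocallyNoetherian M.hom
  haveI : IsLocallyNoetherian N.left := LocallyOfFiniteType.isLocallyNoetherian N.hom
  have hw : φ.left ≫ N.hom = M.hom := Over.w φ
  haveI : IsSeparated (φ.left ≫ N.hom) := by rw [hw]; infer_instance
  haveI : QuasiCompact (φ.left ≫ N.hom) := by rw [hw]; infer_instance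
  haveI : LocallyOfFiniteType (φ.left ≫ N.hom) := by rw [hw]; infer_instance
  haveI : LocallyQuasiFinite (φ.left ≫ N.hom) := by
    rw [hw]; exact locallyQuasiFinite_of_etale M.hom
  haveI : IsSeparated φ.left := IsSeparated.of_comp φ.left N.hom
  haveI : QuasiCompact φ.left := QuasiCompact.of_comp φ.left N.hom
  haveI : LocallyOfFiniteType φ.left := locallyOfFiniteType_of_comp φ.left N.hom
  haveI : LocallyQuasiFinite φ.left := LocallyQuasiFinite.of_comp φ.left N.hom
  have hM : Pi1.IsNormalScheme M.left := fun x => normal_of_smooth M.hom hS x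
  have hN : Pi1.IsNormalScheme N.left := fun x => normal_of_smooth N.hom hS x
  obtain ⟨ψ, hψ⟩ : ∃ ψ : pullback M.hom S₀.ι ⟶ pullback N.hom S₀.ι,
      ψ = ((Over.pullback S₀.ι).map φ).left := ⟨_, rfl⟩
  haveI : IsIso ψ := by
    rw [hψ]; exact (Over.forget _).map_isIso ((Over.pullback S₀.ι).map φ)
  have hcomm : ψ ≫ pullback.fst N.hom S₀.ι = pullback.fst M.hom S₀.ι ≫ φ.left := by
    rw [hψ]; exact pullback.lift_fst _ _ _
  have hpt : ∀ w, pullback.fst N.hom S₀.ι (ψ w) = φ.left (pullback.fst M.hom S₀.ι w) :=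
    fun w => (Scheme.Hom.comp_apply ψ _ w).symm.trans
      ((by rw [hcomm] : (ψ ≫ pullback.fst N.hom S₀.ι) w =
        (pullback.fst M.hom S₀.ι ≫ φ.left) w).trans (Scheme.Hom.comp_apply _ _ w))
  refine core φ.left hM hN {x | M.hom x ∈ S₀} ?_ ?_ ?_
  · intro x hx
    have h1 : ringKrullDim (S.presheaf.stalk (M.hom x)) ≤ 0 := by
      rw [← hx]
      exact Groth.Agent.H25.EtaleDimStalk.ringKrullDim_stalk_le_of_flat M.hom x
    exact mem_of_dim_zero hS S₀ hS₀ (M.hom x) h1
  · intro x hx x' hx' hxx'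
    obtain ⟨z, hz1, -⟩ := Scheme.Pullback.exists_preimage_pullback (f := M.hom) (g := S₀.ι)
      x ⟨M.hom x, hx⟩ rfl
    obtain ⟨z', hz1', -⟩ := Scheme.Pullback.exists_preimage_pullback (f := M.hom) (g := S₀.ι)
      x' ⟨M.hom x', hx'⟩ rfl
    have e1 : pullback.fst N.hom S₀.ι (ψ z) = pullback.fst N.hom S₀.ι (ψ z') := by
      rw [hpt, hpt, hz1, hz1', hxx']
    have e2 : ψ z = ψ z' := (pullback.fst N.hom S₀.ι).isOpenEmbedding.injective e1
    have e3 : z = z' := ψ.isOpenEmbedding.injective e2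
    rw [← hz1, ← hz1', e3]
  · intro x hx
    obtain ⟨z, hz1, -⟩ := Scheme.Pullback.exists_preimage_pullback (f := M.hom) (g := S₀.ι)
      x ⟨M.hom x, hx⟩ rfl
    subst hz1
    have h1 : IsIso ((ψ ≫ pullback.fst N.hom S₀.ι).stalkMap z) := by
      rw [Scheme.Hom.stalkMap_comp]
      haveI i1 : IsIso (ψ.stalkMap z) := inferInstance
      haveI i2 : IsIso ((pullback.fst N.hom S₀.ι).stalkMap (ψ z)) := inferInstance
      exact @IsIso.comp_isIso _ _ _ _ _ _ _ i2 i1
    have h2 : IsIso ((pullback.fst M.hom S₀.ι ≫ φ.left).stalkMap z) := by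
      rw [← hcomm]; exact h1
    rw [Scheme.Hom.stalkMap_comp] at h2
    haveI i3 : IsIso ((pullback.fst M.hom S₀.ι).stalkMap z) := inferInstance
    exact @IsIso.of_isIso_comp_right _ _ _ _ _ _ _ i3 h2

end Helpers


/-- Let S be a normal Noetherian scheme over a field of characteristic 0 and S₀ ⊆ S a
scheme-theoretically dense open. Let N be a smooth, separated and quasi-compact S-scheme with the
Néron mapping property for S₀ ⊆ S (restriction to S₀ of S-morphisms from smooth S-schemes is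
bijective) such that N|S₀ → S₀ is étale, so that N is a quasi-projective Néron model of the
quasi-projective étale S₀-scheme N|S₀. If M is a separated, quasi-compact, étale S-scheme and φ : M
→ N is an S-morphism restricting to an isomorphism over S₀ (so M is another quasi-projective étale
extension of N|S₀, and φ is its canonical map to the Néron model), then φ is an open immersion.
(Case of schemes of the published statement.) -/
theorem result {k : Type u} [Field k] [CharZero k] {S : Scheme.{u}} (σ : S ⟶ Spec (CommRingCat.of k)) [IsNoetherian S] (hS : Pi1.IsNormalScheme S) (S₀ : S.Opens) (hS₀ : CInt.IsSchematicallyDense S₀)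
    (N : Over S) [Smooth N.hom] [IsSeparated N.hom] [QuasiCompact N.hom]
    (hN : ∀ Z : Over S, Smooth Z.hom → Function.Bijective (fun g : Z ⟶ N => (Over.pullback S₀.ι).map g))
    [Etale ((Over.pullback S₀.ι).obj N).hom]
    (M : Over S) [Etale M.hom] [IsSeparated M.hom] [QuasiCompact M.hom]
    (φ : M ⟶ N) [IsIso ((Over.pullback S₀.ι).map φ)] :
    IsOpenImmersion φ.left := by
  exact main hS S₀ hS₀ N M φ

end Groth.Agent.S13428
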