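import Groth.Statements.S5016
-- import your own Groth.Agent.* helpers here
import Groth.Agent.H39.DiffCompatLocal
import Groth.Agent.H39.FSmooth
import Groth.Agent.H39.ConormalMono

set_option autoImplicit false
universe u
open CategoryTheory CategoryTheory.Limits AlgebraicGeometry TopologicalSpace
open Unram17

namespace Groth.Agent.S5016


open Groth.Agent.H39 OmegaSh
open scoped TensorProduct

/-- Index type for the cover of `X` by affines `V₂ ≤ f⁻¹ V₁`, `V₁ ≤ g⁻¹ U`. -/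
structure Idx3 {X Y S : Scheme.{u}} (f : X ⟶ Y) (g : Y ⟶ S) : Type u where
  U : S.Opens
  V₁ : Y.Opens
  V₂ : X.Opens
  hU : IsAffineOpen U
  hV₁ : IsAffineOpen V₁
  hV₂ : IsAffineOpen V₂
  e₁ : V₁ ≤ g ⁻¹ᵁ U
  e : V₂ ≤ f ⁻¹ᵁ V₁

theorem isOpenCover_idx3 {X Y S : Scheme.{u}} (f : X ⟶ Y) (g : Y ⟶ S) :
    IsOpenCover (fun k : Idx3 f g => k.V₂) := by
  rw [IsOpenCover, eq_top_iff]
  intro x _
  obtain ⟨U, hU, hxU, -⟩ :=
    (Opens.isBasis_iff_nbhd.mp S.isBasis_affineOpens) (Opens.mem_top (g (f x)))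
  have h1 : f x ∈ g ⁻¹ᵁ U := hxU
  obtain ⟨V₁, hV₁, hxV₁, e₁⟩ := (Opens.isBasis_iff_nbhd.mp Y.isBasis_affineOpens) h1
  have h2 : x ∈ f ⁻¹ᵁ V₁ := hxV₁
  obtain ⟨V₂, hV₂, hxV₂, e⟩ := (Opens.isBasis_iff_nbhd.mp X.isBasis_affineOpens) h2
  exact Opens.mem_iSup.mpr ⟨⟨U, V₁, V₂, hU, hV₁, hV₂, e₁, e⟩, hxV₂⟩

/-- Ring level: for `R → A → B` with `B` formally smooth over `A`, the map
`B ⊗[A] Ω[A⁄R] → Ω[B⁄R]` is injective. -/
theorem mapBaseChange_injective (R A B : Type u) [CommRing R] [CommRing A] [CommRing B]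
    [Algebra R A] [Algebra A B] [Algebra R B] [IsScalarTower R A B] [Algebra.FormallySmooth A B] :
    Function.Injective (KaehlerDifferential.mapBaseChange R A B) := by
  rw [injective_iff_map_eq_zero]
  intro x hx
  obtain ⟨y, rfl⟩ := (Algebra.H1Cotangent.exact_δ_mapBaseChange R A B x).mp hx
  rw [Subsingleton.elim y 0, map_zero]

set_option maxHeartbeats 1000000 in
theorem local_injective {X Y S : Scheme.{u}} (g : Y ⟶ S) (f : X ⟶ Y)
    (hf : MoreMor.IsFormallySmoothHom f)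
    {ΩY : Y.Modules} {dY : OmegaSh.Der g ΩY} (hY : OmegaSh.IsUniversal dY)
    {ΩX : X.Modules} {dX : OmegaSh.Der (f ≫ g) ΩX} (hX : OmegaSh.IsUniversal dX)
    {c : (Scheme.Modules.pullback f).obj ΩY ⟶ ΩX} (hc : OmegaSh.IsDiffCompat f dY dX c)
    (k : Idx3 f g) : Function.Injective (c.app k.V₂) := by
  have e₂ : k.V₂ ≤ (f ≫ g) ⁻¹ᵁ k.U := fun x hx => k.e₁ (k.e hx)
  letI : Algebra Γ(S, k.U) Γ(Y, k.V₁) := (g.appLE k.U k.V₁ k.e₁).hom.toAlgebra
  letI : Algebra Γ(S, k.U) Γ(X, k.V₂) := ((f ≫ g).appLE k.U k.V₂ e₂).hom.toAlgebra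
  letI : Algebra Γ(Y, k.V₁) Γ(X, k.V₂) := (f.appLE k.V₁ k.V₂ k.e).hom.toAlgebra
  haveI : IsScalarTower Γ(S, k.U) Γ(Y, k.V₁) Γ(X, k.V₂) := by
    refine IsScalarTower.of_algebraMap_eq' ?_
    show ((f ≫ g).appLE k.U k.V₂ e₂).hom = (f.appLE k.V₁ k.V₂ k.e).hom.comp (g.appLE k.U k.V₁ k.e₁).hom
    rw [← CommRingCat.hom_comp, Scheme.Hom.appLE_comp_appLE]
  haveI : Algebra.FormallySmooth Γ(Y, k.V₁) Γ(X, k.V₂) :=
    FSmooth.formallySmooth_appLE_of_isFormallySmoothHom f hf k.hV₂ k.hV₁ k.e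
  obtain ⟨Ψ, ψ', -, -, hfac⟩ := DiffCompatLocal.exists_tracking g (f ≫ g) f hY hX hc k.hU k.hV₁ k.e₁
    k.hU k.hV₂ e₂ k.e (KaehlerDifferential.mapBaseChange Γ(S, k.U) Γ(Y, k.V₁) Γ(X, k.V₂))
    (fun s => by
      rw [KaehlerDifferential.mapBaseChange_tmul, one_smul, KaehlerDifferential.map_D]
      rfl)
  intro q q' hq
  have h1 : ψ' (c.app k.V₂ q) = ψ' (c.app k.V₂ q') := by rw [hq]
  rw [hfac, hfac] at h1
  exact Ψ.injective (mapBaseChange_injective _ _ _ h1)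


/-- Let g : Y ⟶ S, h : X ⟶ S and f : X ⟶ Y with f ≫ g = h, and suppose f is formally smooth. Given
sheaves of differentials of Y over S and of X over S (universal derivations) and the canonical
compatible map c from the pullback of the former to the latter, c is a monomorphism of O_X-modules.
(The published statement also identifies the cokernel of this map with the sheaf of differentials of
X over Y and splits the sequence locally; this row states only that the map is injective.) -/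
theorem result {X Y S : Scheme.{u}} (g : Y ⟶ S) (h : X ⟶ S)
    (f : X ⟶ Y) (w : f ≫ g = h) (hf : MoreMor.IsFormallySmoothHom f)
    (ΩY : Y.Modules) (dY : OmegaSh.Der g ΩY) (hY : OmegaSh.IsUniversal dY)
    (ΩX : X.Modules) (dX : OmegaSh.Der h ΩX) (hX : OmegaSh.IsUniversal dX)
    (c : (Scheme.Modules.pullback f).obj ΩY ⟶ ΩX) (hc : OmegaSh.IsDiffCompat f dY dX c) :
    Mono c := by
  subst w
  haveI : ΩY.IsQuasicoherent := DerFin.isQuasicoherent_of_isUniversal g hY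
  haveI : ΩX.IsQuasicoherent := DerFin.isQuasicoherent_of_isUniversal (f ≫ g) hX
  haveI : ((Scheme.Modules.pullback f).obj ΩY).IsQuasicoherent :=
    Groth.Agent.H8.isQuasicoherent_pullback f ΩY
  exact Groth.Agent.H39.ConormalMono.mono_of_injective_affine_cover c _ (isOpenCover_idx3 f g)
    (fun k => k.hV₂) (fun k => local_injective g f hf hY hX hc k)

end Groth.Agent.S5016
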