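import Groth.Statements.S0328
import Groth.Agent.H17.LCRad
import Groth.Agent.S0327

set_option autoImplicit false
universe u v
open LocCoh

namespace Groth.Agent.S0328

open Groth.Agent.H58.LC Groth.Agent.H17.LCRad IsLocalRing

/-- In a Noetherian local ring, if `√(p + I) = m` and `dim R/p = d`, then `H^d_I(R/p) ≠ 0`. -/
theorem nontrivial_H_quot (R : Type u) [CommRing R] [IsLocalRing R] [IsNoetherianRing R]
    (I : Ideal R) (p : Ideal R) [p.IsPrime]
    (hpI : (p ⊔ I).radical = IsLocalRing.maximalIdeal R) (d : ℕ)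
    (hd : ringKrullDim (R ⧸ p) = d) : Nontrivial (LocCoh.H I d (R ⧸ p)) := by
  have hsurj : Function.Surjective (algebraMap R (R ⧸ p)) := Ideal.Quotient.mk_surjective
  haveI : IsLocalRing (R ⧸ p) := IsLocalRing.of_surjective' _ hsurj
  haveI : Nontrivial (LocCoh.H (maximalIdeal (R ⧸ p)) d (R ⧸ p)) :=
    Groth.Agent.S0327.result (R ⧸ p) d hd
  -- radical computation
  have hker : RingHom.ker (algebraMap R (R ⧸ p)) ≤ p ⊔ I := by
    rw [Ideal.Quotient.algebraMap_eq, Ideal.mk_ker]
    exact le_sup_left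
  have hmap : (p ⊔ I).map (algebraMap R (R ⧸ p)) = I.map (algebraMap R (R ⧸ p)) := by
    rw [Ideal.map_sup, Ideal.Quotient.algebraMap_eq, Ideal.map_quotient_self, bot_sup_eq]
  have hrad : (I.map (algebraMap R (R ⧸ p))).radical = (maximalIdeal (R ⧸ p)).radical := by
    rw [← hmap, ← Ideal.map_radical_of_surjective hsurj hker, hpI,
      Groth.Agent.H2.LCNonvanish.map_maximalIdeal p]
    exact (Ideal.IsPrime.radical (maximalIdeal.isMaximal (R ⧸ p)).isPrime).symm
  obtain ⟨e⟩ := nonempty_equiv_of_radical_eq hrad d (R ⧸ p)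
  obtain ⟨φ, -⟩ := semiEq_H R (R ⧸ p) I d (R ⧸ p)
  exact (e.symm.toEquiv.trans φ.toEquiv).symm.nontrivial

/-- In a Noetherian local ring, if a prime p and a proper ideal I together have radical the maximal
ideal and dim R/p = d ≥ 1, then local cohomology with support in I does not vanish in all degrees ≥
d. -/
theorem result (R : Type u) [CommRing R] [IsLocalRing R] [IsNoetherianRing R] (I : Ideal R) (hI : I ≠ ⊤) (p : Ideal R) [p.IsPrime] (hpI : (p ⊔ I).radical = IsLocalRing.maximalIdeal R) (d : ℕ) (hd : ringKrullDim (R ⧸ p) = d) (hd1 : 1 ≤ d) : ¬ LocCoh.CdLE R I (d - 1) := by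
  intro hcd
  haveI := nontrivial_H_quot R I p hpI d hd
  exact not_subsingleton _ (hcd (R ⧸ p) d (by omega))

end Groth.Agent.S0328
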