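import Groth.Statements.S2936
import Mathlib
import Groth.Agent.H2.LCDual

set_option autoImplicit false
universe u
open LocCoh

namespace Groth.Agent.S2936

/-- (iii), for a complete local ring. Let A be a complete Noetherian local ring with maximal ideal m, κ
→ E an injective hull of the residue field, and M a nonzero finite A-module whose support has
dimension n. Then for every i the A-module Hom_A(H^i_m(M), E) is finite with support of dimension at
most i; for i = n its support has dimension exactly n and its associated primes are exactly the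
associated primes p of M with dim A/p = n. -/
theorem result (A : Type u) [CommRing A] [IsLocalRing A] [IsNoetherianRing A] [IsAdicComplete (IsLocalRing.maximalIdeal A) A] (E : Type u) [AddCommGroup E] [Module A E] (f : IsLocalRing.ResidueField A →ₗ[A] E) (hf : InjHull.IsInjectiveHull f) (M : Type u) [AddCommGroup M] [Module A M] [Module.Finite A M] [Nontrivial M] (n : ℕ) (hn : Module.supportDim A M = n) : (∀ i : ℕ, Module.Finite A (LocCoh.H (IsLocalRing.maximalIdeal A) i M →ₗ[A] E) ∧ Module.supportDim A (LocCoh.H (IsLocalRing.maximalIdeal A) i M →ₗ[A] E) ≤ (i : WithBot ℕ∞)) ∧ Module.supportDim A (LocCoh.H (IsLocalRing.maximalIdeal A) n M →ₗ[A] E) = n ∧ associatedPrimes A (LocCoh.H (IsLocalRing.maximalIdeal A) n M →ₗ[A] E) = {p | p ∈ associatedPrimes A M ∧ ringKrullDim (A ⧸ p) = n} := by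
  classical
  have hdimJ : ringKrullDim (A ⧸ Module.annihilator A M) = n := by
    rw [← Module.supportDim_eq_ringKrullDim_quotient_annihilator]; exact hn
  have hfinD := Groth.Agent.H2.LCDual.finite_dual_H hf n M
  refine ⟨fun i => ⟨Groth.Agent.H2.LCDual.finite_dual_H hf i M,
    Groth.Agent.H2.LCDual.supportDim_dual_H_le hf i M⟩, ?_⟩
  -- key equivalence
  have key : ∀ p : Ideal A,
      (∃ k : LocCoh.H (IsLocalRing.maximalIdeal A) n M →ₗ[A] E, k ≠ 0 ∧ ∀ r ∈ p, r • k = 0) ↔
      Nontrivial (LocCoh.H (IsLocalRing.maximalIdeal A) n (M ⧸ p • (⊤ : Submodule A M))) := by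
    intro p
    rw [Groth.Agent.H2.LCDual.exists_killed_iff hf, Ne,
      Groth.Agent.H2.LCDual.smul_top_eq_top_iff M n hn p, not_subsingleton_iff_nontrivial]
  -- `ann M ≤ ann D`
  have hannD : Module.annihilator A M ≤
      Module.annihilator A (LocCoh.H (IsLocalRing.maximalIdeal A) n M →ₗ[A] E) := by
    intro r hr
    rw [Module.mem_annihilator]
    intro φ
    have h0 : r • (LinearMap.id : M →ₗ[A] M) = 0 := by
      refine LinearMap.ext fun v => ?_
      rw [LinearMap.smul_apply, LinearMap.id_apply, Module.mem_annihilator.1 hr v,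
        LinearMap.zero_apply]
    have h1 := congrArg (Groth.Agent.H58.LC.Hmap (IsLocalRing.maximalIdeal A) n) h0
    rw [Groth.Agent.H58.LC.Hmap_smul, Groth.Agent.H58.LC.Hmap_id,
      Groth.Agent.H58.LC.Hmap_zero] at h1
    refine LinearMap.ext fun y => ?_
    have h2 : r • y = 0 := LinearMap.congr_fun h1 y
    rw [LinearMap.smul_apply, ← map_smul, h2, map_zero, LinearMap.zero_apply]
  -- primes over `ann M` of top dimension are associated to `M`
  have hmin : ∀ p : Ideal A, p.IsPrime → Module.annihilator A M ≤ p → ringKrullDim (A ⧸ p) = n →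
      p ∈ associatedPrimes A M := by
    intro p hp hle hpd
    apply Module.associatedPrimes.minimalPrimes_annihilator_subset_associatedPrimes A M
    refine ⟨⟨hp, hle⟩, ?_⟩
    rintro q ⟨hq, hq'⟩ hqp
    by_contra hne
    have hne' : q ≠ p := fun h => hne (h ▸ le_rfl)
    have h3 := Groth.Agent.H2.CanonMod.dim_quot_succ_le hqp hne'
    have h4 : ringKrullDim (A ⧸ q) ≤ n := by
      rw [← hdimJ]
      exact ringKrullDim_le_of_surjective (Ideal.Quotient.factor hq')
        (Ideal.Quotient.factor_surjective hq')
    rw [hpd] at h3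
    have h5 : ((n + 1 : ℕ) : WithBot ℕ∞) ≤ ((n : ℕ) : WithBot ℕ∞) := by
      rw [Nat.cast_add, Nat.cast_one]; exact h3.trans h4
    have h6 := Nat.cast_le.1 h5
    omega
  have hfwd : ∀ p : Ideal A,
      IsAssociatedPrime p (LocCoh.H (IsLocalRing.maximalIdeal A) n M →ₗ[A] E) →
      p ∈ associatedPrimes A M ∧ ringKrullDim (A ⧸ p) = n := by
    intro p hpD
    have hpD' := hpD
    rw [isAssociatedPrime_iff] at hpD'
    obtain ⟨hp, k, hk⟩ := hpD'
    have hk0 : k ≠ 0 := by
      intro h0
      apply hp.ne_top
      rw [hk, h0, eq_top_iff]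
      intro r _
      rw [Submodule.mem_colon_singleton, smul_zero]
      exact Submodule.zero_mem _
    have hkp : ∀ r ∈ p, r • k = 0 := by
      intro r hr
      rw [hk, Submodule.mem_colon_singleton, Submodule.mem_bot] at hr
      exact hr
    have hnt := (key p).1 ⟨k, hk0, hkp⟩
    have hle : Module.annihilator A M ≤ p := by
      refine hannD.trans ?_
      have := hpD.annihilator_le
      rwa [Submodule.annihilator_top] at this
    have hdle : ringKrullDim (A ⧸ p) ≤ n := by
      rw [← hdimJ]
      exact ringKrullDim_le_of_surjective (Ideal.Quotient.factor hle)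
        (Ideal.Quotient.factor_surjective hle)
    have hnt2 : Nontrivial (A ⧸ p) := Ideal.Quotient.nontrivial_iff.2 hp.ne_top
    have hbot : ringKrullDim (A ⧸ p) ≠ ⊥ := by
      intro h
      have h0 := ringKrullDim_nonneg_of_nontrivial (R := A ⧸ p)
      rw [h] at h0
      exact absurd h0 (by simp)
    obtain ⟨d, hd, hdn⟩ := Groth.Agent.H2.CanonMod.exists_nat_eq _ n hdle hbot
    have hdn' : d = n := by
      by_contra hne
      have hlt : d < n := lt_of_le_of_ne hdn hne
      have hsub := Groth.Agent.H2.LCNonvanishMod.subsingleton_H_of_killed_ideal A p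
        (M ⧸ p • (⊤ : Submodule A M)) (fun r hr q => by
          obtain ⟨v, rfl⟩ := Submodule.Quotient.mk_surjective _ q
          rw [← Submodule.Quotient.mk_smul, Submodule.Quotient.mk_eq_zero]
          exact Submodule.smul_mem_smul hr Submodule.mem_top) d (le_of_eq hd) n hlt
      exact not_subsingleton _ hsub
    have hpd : ringKrullDim (A ⧸ p) = n := by rw [hd, hdn']
    exact ⟨hmin p hp hle hpd, hpd⟩
  have hbwd : ∀ p : Ideal A, p ∈ associatedPrimes A M → ringKrullDim (A ⧸ p) = n →
      IsAssociatedPrime p (LocCoh.H (IsLocalRing.maximalIdeal A) n M →ₗ[A] E) := by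
    intro p hpM hpd
    have hp : p.IsPrime := hpM.isPrime
    have hle : Module.annihilator A M ≤ p := by
      have := hpM.annihilator_le
      rwa [Submodule.annihilator_top] at this
    have hannQ : Module.annihilator A (M ⧸ p • (⊤ : Submodule A M)) = p := by
      apply le_antisymm
      · intro s hs
        refine Groth.Agent.H2.LCNonvanishMod.mem_of_smul_le A p M hle s (fun v => ?_)
        have := Module.mem_annihilator.1 hs (Submodule.Quotient.mk v)
        rw [← Submodule.Quotient.mk_smul, Submodule.Quotient.mk_eq_zero] at this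
        exact this
      · intro r hr
        rw [Module.mem_annihilator]
        intro q
        obtain ⟨v, rfl⟩ := Submodule.Quotient.mk_surjective _ q
        rw [← Submodule.Quotient.mk_smul, Submodule.Quotient.mk_eq_zero]
        exact Submodule.smul_mem_smul hr Submodule.mem_top
    have hdimQ : Module.supportDim A (M ⧸ p • (⊤ : Submodule A M)) = n := by
      rw [Module.supportDim_eq_ringKrullDim_quotient_annihilator, hannQ, hpd]
    have hQnt : Nontrivial (M ⧸ p • (⊤ : Submodule A M)) := by
      rw [← Module.supportDim_ne_bot_iff_nontrivial A, hdimQ]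
      exact WithBot.coe_ne_bot
    have hnt := Groth.Agent.H2.LCNonvanishMod.nontrivial_H_supportDim A
      (M ⧸ p • (⊤ : Submodule A M)) n hdimQ
    obtain ⟨k, hk0, hkp⟩ := (key p).2 hnt
    obtain ⟨q, hq, hqle⟩ := exists_le_isAssociatedPrime_of_isNoetherianRing A k hk0
    have hpq : p ≤ q := by
      intro a ha
      apply hqle
      rw [Submodule.mem_colon_singleton, Submodule.mem_bot]
      exact hkp a ha
    obtain ⟨-, hqd⟩ := hfwd q hq
    have hpq' : p = q := by
      by_contra hne'
      have h3 := Groth.Agent.H2.CanonMod.dim_quot_succ_le hpq hne'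
      rw [hqd, hpd] at h3
      have h4 : ((n + 1 : ℕ) : WithBot ℕ∞) ≤ ((n : ℕ) : WithBot ℕ∞) := by
        rw [Nat.cast_add, Nat.cast_one]; exact h3
      have h5 := Nat.cast_le.1 h4
      omega
    rw [hpq']
    exact hq
  refine ⟨le_antisymm (Groth.Agent.H2.LCDual.supportDim_dual_H_le hf n M) ?_, ?_⟩
  · obtain ⟨p, hp, hJp, hpd⟩ := Groth.Agent.H2.LCNonvanishMod.exists_prime_ge_dim_eq A
      (Module.annihilator A M) n hdimJ
    have hpD := hbwd p (hmin p hp hJp hpd) hpd
    have hle : Module.annihilator A (LocCoh.H (IsLocalRing.maximalIdeal A) n M →ₗ[A] E) ≤ p := by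
      have := hpD.annihilator_le
      rwa [Submodule.annihilator_top] at this
    rw [Module.supportDim_eq_ringKrullDim_quotient_annihilator, ← hpd]
    exact ringKrullDim_le_of_surjective (Ideal.Quotient.factor hle)
      (Ideal.Quotient.factor_surjective hle)
  · ext p
    constructor
    · intro hp
      exact hfwd p hp
    · rintro ⟨hpM, hpd⟩
      exact hbwd p hpM hpd

end Groth.Agent.S2936
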