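import Groth.Statements.S15009
import Mathlib
-- import your own Groth.Agent.* helpers here

set_option autoImplicit false
universe u
open TFCurv

namespace Groth.Agent.S15009


section Helpers
open TensorProduct Module

/-- Over a local ring with infinite residue field, a module is not a finite union of proper
submodules. -/
theorem avoid {O : Type*} [CommRing O] [IsLocalRing O] [Infinite (IsLocalRing.ResidueField O)]
    {M : Type*} [AddCommGroup M] [Module O M] {ι : Type*} (s : Finset ι)
    (Q : ι → Submodule O M) (hne : ∀ i ∈ s, Q i ≠ ⊤) : ∃ x : M, ∀ i ∈ s, x ∉ Q i := by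
  by_contra h
  push_neg at h
  have hcov : ⋃ i ∈ s, (Q i : Set M) = Set.univ := by
    ext x
    simp only [Set.mem_iUnion, SetLike.mem_coe, Set.mem_univ, iff_true]
    obtain ⟨i, hi, hx⟩ := h x
    exact ⟨i, hi, hx⟩
  obtain ⟨k, hk, hfi⟩ := Submodule.exists_finiteIndex_of_cover hcov
  have hfin : Finite (M ⧸ Q k) := AddSubgroup.finite_quotient_of_finiteIndex
  obtain ⟨y, hy⟩ : ∃ y, y ∉ Q k := by
    by_contra h'
    push_neg at h'
    exact hne k hk (eq_top_iff.mpr fun y _ => h' y)
  let sec : IsLocalRing.ResidueField O → O := Function.surjInv IsLocalRing.residue_surjective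
  have hsec : ∀ a, IsLocalRing.residue O (sec a) = a :=
    Function.surjInv_eq IsLocalRing.residue_surjective
  let g : IsLocalRing.ResidueField O → M ⧸ Q k := fun a => Submodule.Quotient.mk (sec a • y)
  have hg : Function.Injective g := by
    intro a b hab
    by_contra hne'
    have h1 : sec a • y - sec b • y ∈ Q k := (Submodule.Quotient.eq _).mp hab
    rw [← sub_smul] at h1
    have h2 : IsUnit (sec a - sec b) := by
      rw [← IsLocalRing.residue_ne_zero_iff_isUnit, map_sub, hsec, hsec]
      exact sub_ne_zero.mpr hne'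
    apply hy
    have h3 := (Q k).smul_mem (↑h2.unit⁻¹ : O) h1
    rwa [smul_smul, IsUnit.val_inv_mul, one_smul] at h3
  haveI : Infinite (M ⧸ Q k) := Infinite.of_injective g hg
  exact not_finite (M ⧸ Q k)

/-- Generic choice of vectors independent modulo finitely many maximal ideals. -/
theorem generic_indep {O : Type*} [CommRing O] [IsLocalRing O]
    [Infinite (IsLocalRing.ResidueField O)]
    {A : Type*} [CommRing A] [Algebra O A]
    {M : Type*} [AddCommGroup M] [Module O M]
    (PP : Finset (Ideal A)) (hPP : ∀ P ∈ PP, P.IsMaximal) (r : ℕ)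
    (f : ∀ P : Ideal A, M →ₗ[O] (Fin r → A ⧸ P))
    (hf : ∀ P ∈ PP, Submodule.span (A ⧸ P) (Set.range (f P)) = ⊤) (j : ℕ) (hj : j ≤ r) :
    ∃ m : Fin j → M, ∀ P ∈ PP, LinearIndependent (A ⧸ P) (⇑(f P) ∘ m) := by
  induction j with
  | zero => exact ⟨Fin.elim0, fun P _ => linearIndependent_empty_type⟩
  | succ j ih =>
    obtain ⟨m, hm⟩ := ih (Nat.le_of_succ_le hj)
    let Q : Ideal A → Submodule O M := fun P =>
      Submodule.comap (f P)
        ((Submodule.span (A ⧸ P) (Set.range (⇑(f P) ∘ m))).restrictScalars O)
    have hQ : ∀ P ∈ PP, Q P ≠ ⊤ := by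
      intro P hP hQP
      haveI := hPP P hP
      letI := Ideal.Quotient.field P
      have h1 : (⊤ : Submodule (A ⧸ P) (Fin r → A ⧸ P)) ≤
          Submodule.span (A ⧸ P) (Set.range (⇑(f P) ∘ m)) := by
        rw [← hf P hP, Submodule.span_le]
        rintro _ ⟨x, rfl⟩
        have hx : x ∈ Q P := hQP ▸ Submodule.mem_top
        exact hx
      have h2 := finrank_range_le_card (R := A ⧸ P) (⇑(f P) ∘ m)
      rw [Set.finrank, top_le_iff.mp h1, finrank_top, Module.finrank_fin_fun,
        Fintype.card_fin] at h2
      omega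
    obtain ⟨x, hx⟩ := avoid PP Q hQ
    refine ⟨Fin.snoc m x, fun P hP => ?_⟩
    haveI := hPP P hP
    letI := Ideal.Quotient.field P
    rw [Fin.comp_snoc]
    exact linearIndependent_finSnoc.mpr ⟨hm P hP, fun h => hx P hP h⟩

/-- A square matrix whose rows are independent modulo every maximal ideal has unit determinant. -/
theorem isUnit_det_of_indep {A : Type*} [CommRing A] {r : ℕ} (T : Matrix (Fin r) (Fin r) A)
    (h : ∀ P : Ideal A, P.IsMaximal →
      LinearIndependent (A ⧸ P) (fun i : Fin r => fun k : Fin r => Ideal.Quotient.mk P (T i k))) :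
    IsUnit T.det := by
  by_contra hu
  obtain ⟨P, hP, hmem⟩ := exists_max_ideal_of_mem_nonunits (mem_nonunits_iff.mpr hu)
  haveI := hP
  letI := Ideal.Quotient.field P
  have h1 := h P hP
  have h2 : IsUnit ((Ideal.Quotient.mk P).mapMatrix T) := by
    rw [← Matrix.linearIndependent_rows_iff_isUnit]
    exact h1
  rw [Matrix.isUnit_iff_isUnit_det, ← RingHom.map_det] at h2
  exact h2.ne_zero (Ideal.Quotient.eq_zero_iff_mem.mpr hmem)

theorem tensor_facts (O : Type u) [CommRing O] [IsDomain O]
    (K : Type u) [Field K] [Algebra O K] [IsFractionRing O K]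
    (M : Type u) [AddCommGroup M] [Module O M] [NoZeroSMulDivisors O M] :
    Function.Injective (TensorProduct.mk O K M 1) ∧
      Submodule.span K (Set.range (TensorProduct.mk O K M 1)) = ⊤ := by
  constructor
  · haveI : IsLocalizedModule (nonZeroDivisors O) (TensorProduct.mk O K M 1) :=
      (isLocalizedModule_iff_isBaseChange (nonZeroDivisors O) K (TensorProduct.mk O K M 1)).mpr
        (TensorProduct.isBaseChange O M K)
    rw [← LinearMap.ker_eq_bot, LinearMap.ker_eq_bot']
    intro x hx
    obtain ⟨s, hs⟩ := (IsLocalizedModule.eq_zero_iff (nonZeroDivisors O)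
      (TensorProduct.mk O K M 1)).mp hx
    have hs' : (s : O) • x = 0 := hs
    rcases eq_zero_or_eq_zero_of_smul_eq_zero hs' with h | h
    · exact absurd h (nonZeroDivisors.coe_ne_zero s)
    · exact h
  · rw [eq_top_iff]
    rintro z -
    induction z using TensorProduct.induction_on with
    | zero => exact Submodule.zero_mem _
    | tmul k x =>
      have hkx : k ⊗ₜ[O] x = k • (TensorProduct.mk O K M 1 x) := by
        show k ⊗ₜ[O] x = k • ((1 : K) ⊗ₜ[O] x)
        rw [TensorProduct.smul_tmul', smul_eq_mul, mul_one]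
      rw [hkx]
      exact Submodule.smul_mem _ _ (Submodule.subset_span ⟨x, rfl⟩)
    | add y z hy hz => exact Submodule.add_mem _ hy hz

set_option maxHeartbeats 1600000 in
theorem core (O : Type u) [CommRing O] [IsDomain O] [IsLocalRing O]
    [Infinite (IsLocalRing.ResidueField O)]
    (K : Type u) [Field K] [Algebra O K] [IsFractionRing O K]
    (A : Subalgebra O K) [IsPrincipalIdealRing A] [IsFractionRing A K]
    (hmax : {P : Ideal A | P.IsMaximal}.Finite)
    (M : Type u) [AddCommGroup M] [Module O M] [Module.Finite O M]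
    (V : Type u) [AddCommGroup V] [Module K V] [Module O V] [IsScalarTower O K V]
    (ι₀ : M →ₗ[O] V) (hinj : Function.Injective ι₀)
    (hspan0 : Submodule.span K (Set.range ι₀) = ⊤)
    (n : ℕ) (hn : Module.finrank K V = n) :
    ∃ M' : Submodule O (Fin n → K),
      Submodule.pi Set.univ (fun _ : Fin n => (1 : Submodule O K)) ≤ M' ∧
      M' ≤ Submodule.pi Set.univ (fun _ : Fin n => (Subalgebra.toSubmodule A)) ∧
      Nonempty (M ≃ₗ[O] ↥M') := by
  classical
  obtain ⟨S, hS⟩ := (Module.Finite.fg_top : (⊤ : Submodule O M).FG)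
  let N : Submodule A (V) := Submodule.span A (ι₀ '' (S : Set M))
  have hιN : ∀ x : M, ι₀ x ∈ N := by
    intro x
    have hx : x ∈ Submodule.span O (S : Set M) := by rw [hS]; exact Submodule.mem_top
    induction hx using Submodule.span_induction with
    | mem y hy => exact Submodule.subset_span ⟨y, hy, rfl⟩
    | zero => rw [map_zero]; exact N.zero_mem
    | add y z _ _ hy hz => rw [map_add]; exact N.add_mem hy hz
    | smul a y _ hy =>
      rw [map_smul, ← algebraMap_smul A a (ι₀ y)]
      exact N.smul_mem _ hy
  haveI hNfin : Module.Finite A N := Module.Finite.span_of_finite A ((S.finite_toSet).image ι₀)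
  haveI hNtf : Module.IsTorsionFree A N := by
    refine ⟨fun a ha x y hxy => ?_⟩
    have hane : (a : K) ≠ 0 := fun h => ha.ne_zero (Subtype.ext h)
    have h1 : (a : K) • (x : V) = (a : K) • (y : V) := congrArg Subtype.val hxy
    exact Subtype.ext ((smul_right_inj hane).mp h1)
  obtain ⟨r, ⟨c⟩⟩ : ∃ r : ℕ, Nonempty (Basis (Fin r) A N) := ⟨_, ⟨Module.finBasis A N⟩⟩
  let ι : M →ₗ[O] N :=
    { toFun := fun x => ⟨ι₀ x, hιN x⟩
      map_add' := fun x y => Subtype.ext (map_add ι₀ x y)
      map_smul' := fun a x => Subtype.ext (map_smul ι₀ a x) }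
  have hιspan : Submodule.span A (Set.range ι) = ⊤ := by
    rw [eq_top_iff]
    rintro ⟨v, hv⟩ -
    induction hv using Submodule.span_induction with
    | mem y hy =>
      obtain ⟨z, hz, rfl⟩ := hy
      exact Submodule.subset_span ⟨z, rfl⟩
    | zero => exact Submodule.zero_mem _
    | add y z hy hz hy' hz' => exact Submodule.add_mem _ hy' hz'
    | smul a y hy hy' => exact Submodule.smul_mem _ a hy'
  let ρ : ∀ P : Ideal A, N →ₗ[A] (Fin r → A ⧸ P) := fun P =>
    ((Ideal.Quotient.mkₐ A P).toLinearMap.compLeft (Fin r)).comp c.equivFun.toLinearMap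
  have hρ : ∀ (P : Ideal A) (x : N) (k : Fin r),
      ρ P x k = Ideal.Quotient.mk P (c.repr x k) := fun P x k => rfl
  let f : ∀ P : Ideal A, M →ₗ[O] (Fin r → A ⧸ P) := fun P =>
    ((ρ P).restrictScalars O).comp ι
  have hf : ∀ P : Ideal A, Submodule.span (A ⧸ P) (Set.range (f P)) = ⊤ := by
    intro P
    rw [eq_top_iff]
    intro w _
    obtain ⟨a, ha⟩ : ∃ a : Fin r → A, ∀ k, Ideal.Quotient.mk P (a k) = w k :=
      ⟨fun k => (Ideal.Quotient.mk_surjective (w k)).choose,
        fun k => (Ideal.Quotient.mk_surjective (w k)).choose_spec⟩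
    have hw : w = ρ P (∑ k, a k • c k) := by
      ext k
      rw [hρ, Basis.repr_sum_self, ha]
    rw [hw]
    have hmem : (∑ k, a k • c k) ∈ Submodule.span A (Set.range ι) := by
      rw [hιspan]; exact Submodule.mem_top
    generalize (∑ k, a k • c k) = y at hmem
    induction hmem using Submodule.span_induction with
    | mem y hy =>
      obtain ⟨z, rfl⟩ := hy
      exact Submodule.subset_span ⟨z, rfl⟩
    | zero => rw [map_zero]; exact Submodule.zero_mem _
    | add y z _ _ hy hz => rw [map_add]; exact Submodule.add_mem _ hy hz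
    | smul t y _ hy =>
      have hsm : ρ P (t • y) = (Ideal.Quotient.mk P t) • ρ P y := by
        ext k
        rw [Pi.smul_apply, hρ, hρ, map_smul, Finsupp.smul_apply, smul_eq_mul, map_mul,
          smul_eq_mul]
      rw [hsm]
      exact Submodule.smul_mem _ _ hy
  obtain ⟨m, hm⟩ := generic_indep hmax.toFinset (fun P hP => hmax.mem_toFinset.mp hP) r f
    (fun P _ => hf P) r le_rfl
  have hdet : IsUnit (c.det (⇑ι ∘ m)) := by
    rw [Basis.det_apply, ← Matrix.det_transpose]
    apply isUnit_det_of_indep
    intro P hP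
    exact hm P (hmax.mem_toFinset.mpr hP)
  obtain ⟨hli, hsp⟩ := (Basis.is_basis_iff_det c).mpr hdet
  let v' : Fin r → V := fun i => ι₀ (m i)
  have hliA : LinearIndependent A v' := hli.map' N.subtype (Submodule.ker_subtype N)
  have hliK : LinearIndependent K v' := (LinearIndependent.iff_fractionRing A K).mp hliA
  have hxA : ∀ x : M, ι₀ x ∈ Submodule.span A (Set.range v') := by
    intro x
    have h : ι x ∈ Submodule.span A (Set.range (⇑ι ∘ m)) := by rw [hsp]; exact Submodule.mem_top
    have h2 := Submodule.mem_map_of_mem (f := N.subtype) h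
    rw [Submodule.map_span, ← Set.range_comp] at h2
    exact h2
  have hspK : ⊤ ≤ Submodule.span K (Set.range v') := by
    rw [← hspan0, Submodule.span_le]
    rintro _ ⟨x, rfl⟩
    exact Submodule.span_le_restrictScalars A K _ (hxA x)
  let b : Basis (Fin r) K (V) := Basis.mk hliK hspK
  have hb : ∀ i, b i = ι₀ (m i) := fun i => Basis.mk_apply hliK hspK i
  have hr : n = r := by
    rw [← hn, Module.finrank_eq_card_basis b, Fintype.card_fin]
  subst hr
  let F : M →ₗ[O] (Fin n → K) := (b.equivFun.toLinearMap.restrictScalars O).comp ι₀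
  have hF : ∀ x j, F x j = b.repr (ι₀ x) j := fun x j => rfl
  refine ⟨LinearMap.range F, ?_, ?_, ?_⟩
  · intro x hx
    rw [Submodule.mem_pi] at hx
    have hx' : ∀ i, ∃ y : O, algebraMap O K y = x i := fun i =>
      Submodule.mem_one.mp (hx i (Set.mem_univ i))
    choose a ha using hx'
    have hFm : ∀ i, F (m i) = Pi.single i (1 : K) := by
      intro i
      ext j
      rw [hF, ← hb, Basis.repr_self, Finsupp.single_apply, Pi.single_apply]
      simp [eq_comm]
    refine ⟨∑ i, a i • m i, ?_⟩
    rw [map_sum]
    ext j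
    rw [Finset.sum_apply, Finset.sum_eq_single j]
    · rw [map_smul, hFm, Pi.smul_apply, Pi.single_eq_same, ← ha j, Algebra.smul_def, mul_one]
    · intro i _ hij
      rw [map_smul, hFm, Pi.smul_apply, Pi.single_eq_of_ne (Ne.symm hij), smul_zero]
    · intro h
      exact absurd (Finset.mem_univ j) h
  · rintro _ ⟨x, rfl⟩
    rw [Submodule.mem_pi]
    intro j _
    obtain ⟨a, ha⟩ := (Submodule.mem_span_range_iff_exists_fun A).mp (hxA x)
    have h2 : ι₀ x = ∑ i, ((a i : A) : K) • b i := by
      rw [← ha]
      refine Finset.sum_congr rfl fun i _ => ?_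
      rw [hb]
      rfl
    rw [Subalgebra.mem_toSubmodule, hF, h2, Basis.repr_sum_self]
    exact (a j).2
  · have hFinj : Function.Injective F := b.equivFun.injective.comp hinj
    exact ⟨LinearEquiv.ofInjective F hFinj⟩

end Helpers



/-- Let O be a one-dimensional Noetherian local domain with algebraically closed residue field whose
integral closure O~ in its fraction field K is a finite O-module. A finitely generated torsion-free
O-module M of rank n (that is, K ⊗ M has K-dimension n) is isomorphic to an O-submodule M' of K^n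
with O^n ⊆ M' ⊆ O~^n. -/
theorem result (O : Type u) [CommRing O] [IsDomain O] [IsNoetherianRing O] [IsLocalRing O] (hdim : ringKrullDim O = 1) [IsAlgClosed (IsLocalRing.ResidueField O)] (K : Type u) [Field K] [Algebra O K] [IsFractionRing O K] (hfin : Module.Finite O ↥(integralClosure O K)) (M : Type u) [AddCommGroup M] [Module O M] [Module.Finite O M] [NoZeroSMulDivisors O M] (n : ℕ) (hn : Module.finrank K (TensorProduct O K M) = n) : ∃ M' : Submodule O (Fin n → K), Submodule.pi Set.univ (fun _ : Fin n => (1 : Submodule O K)) ≤ M' ∧ M' ≤ Submodule.pi Set.univ (fun _ : Fin n => (Subalgebra.toSubmodule (integralClosure O K))) ∧ Nonempty (M ≃ₗ[O] ↥M') := by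
  haveI : Infinite (IsLocalRing.ResidueField O) := inferInstance
  have hm : IsLocalRing.maximalIdeal O ≠ ⊥ := by
    intro h
    have hF : IsField O := IsLocalRing.isField_iff_maximalIdeal_eq.mpr h
    rw [ringKrullDim_eq_zero_of_isField hF] at hdim
    exact zero_ne_one hdim
  haveI : Ring.DimensionLEOne O := by
    have h1 : Ring.KrullDimLE 1 O := Ring.krullDimLE_iff.mpr (by rw [hdim]; rfl)
    exact ⟨fun {p} hp hpp => Ring.krullDimLE_one_iff_of_noZeroDivisors.mp h1 p hp hpp⟩
  haveI : Module.Finite O (integralClosure O K) := hfin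
  haveI : IsNoetherianRing (integralClosure O K) := by
    haveI : IsNoetherian O (integralClosure O K) := inferInstance
    exact isNoetherian_of_tower O inferInstance
  haveI : IsFractionRing (integralClosure O K) K :=
    integralClosure.isFractionRing_of_finite_extension (A := O) K K
  haveI : IsDedekindDomain (integralClosure O K) := by
    refine (isDedekindDomain_iff (↥(integralClosure O K)) K).mpr
      ⟨inferInstance, inferInstance, inferInstance, ?_⟩
    intro x hx
    have hx' : IsIntegral O x := isIntegral_trans x hx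
    exact ⟨⟨x, hx'⟩, rfl⟩
  have hmax : {P : Ideal (integralClosure O K) | P.IsMaximal}.Finite := by
    refine (Ideal.finite_minimalPrimes_of_isNoetherianRing (integralClosure O K)
      ((IsLocalRing.maximalIdeal O).map (algebraMap O (integralClosure O K)))).subset ?_
    intro P hP
    haveI : P.IsMaximal := hP
    have hcomap : P.comap (algebraMap O (integralClosure O K)) = IsLocalRing.maximalIdeal O :=
      IsLocalRing.eq_maximalIdeal (Ideal.isMaximal_comap_of_isIntegral_of_isMaximal (R := O) P)
    have hle : (IsLocalRing.maximalIdeal O).map (algebraMap O (integralClosure O K)) ≤ P := by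
      rw [Ideal.map_le_iff_le_comap, hcomap]
    refine ⟨⟨hP.isPrime, hle⟩, fun Q hQ hQP => ?_⟩
    have hQne : Q ≠ ⊥ := by
      intro h
      apply hm
      rw [eq_bot_iff]
      intro x hx
      have h3 : algebraMap O (integralClosure O K) x ∈ Q := hQ.2 (Ideal.mem_map_of_mem _ hx)
      rw [h, Ideal.mem_bot] at h3
      have h4 : algebraMap O K x = 0 := by
        rw [IsScalarTower.algebraMap_apply O (integralClosure O K) K, h3, map_zero]
      exact (Ideal.mem_bot).mpr
        ((injective_iff_map_eq_zero (algebraMap O K)).mp (IsFractionRing.injective O K) x h4)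
    have hQmax : Q.IsMaximal := Ring.DimensionLEOne.maximalOfPrime hQne hQ.1
    exact (hQmax.eq_of_le hP.ne_top hQP).ge
  haveI : IsPrincipalIdealRing (integralClosure O K) := IsPrincipalIdealRing.of_finite_maximals hmax
  obtain ⟨tf1, tf2⟩ := tensor_facts O K M
  exact core O K (integralClosure O K) hmax M (TensorProduct O K M) (TensorProduct.mk O K M 1) tf1 tf2 n hn

end Groth.Agent.S15009
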