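import Groth.Statements.S15013
import Mathlib
import Groth.Agent.H60.Bass
import Groth.Agent.H26.DepthLib
import Groth.Agent.H29.CM

set_option autoImplicit false
universe u
open CategoryTheory
open TFCurv

namespace Groth.Agent.S15013

open CategoryTheory

/-- Let O be a one-dimensional Noetherian local domain with algebraically closed residue field whose
integral closure O~ in its fraction field K is a finite O-module, and let w be a canonical ideal of
O, taken here as a nonzero finitely generated O-submodule of K whose injective dimension as an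
O-module is at most one. Then Ext^i_O(M, w) vanishes for all i ≥ 1 and every finitely generated
torsion-free O-module M. -/
theorem result (O : Type u) [CommRing O] [IsDomain O] [IsNoetherianRing O] [IsLocalRing O] (hdim : ringKrullDim O = 1) [IsAlgClosed (IsLocalRing.ResidueField O)] (K : Type u) [Field K] [Algebra O K] [IsFractionRing O K] (hfin : Module.Finite O ↥(integralClosure O K)) (ω : Submodule O K) (hω0 : ω ≠ ⊥) (hωfg : ω.FG) (hωinj : HasInjectiveDimensionLT (ModuleCat.of O ↥ω) 2) (M : Type u) [AddCommGroup M] [Module O M] [Module.Finite O M] [NoZeroSMulDivisors O M] (i : ℕ) (hi : 1 ≤ i) : Subsingleton (Abelian.Ext (ModuleCat.of O M) (ModuleCat.of O ↥ω) i) := by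
  classical
  haveI : Module.Finite O ↥ω := Module.Finite.iff_fg.mpr hωfg
  haveI : Nontrivial ↥ω := Submodule.nontrivial_iff_ne_bot.mpr hω0
  haveI : Nontrivial (ModuleCat.of O ↥ω) := inferInstanceAs (Nontrivial ↥ω)
  obtain ⟨r, hr1, hr2⟩ := Groth.Agent.H60.Bass.exists_r (ModuleCat.of O ↥ω) ⟨2, hωinj⟩
  have hr : r ≤ 1 := by
    by_contra hlt
    obtain ⟨z, hz⟩ := hr2
    exact hz (z.eq_zero_of_hasInjectiveDimensionLT 2 (by omega))
  by_cases hM : Subsingleton M
  · exact ⟨fun a b => by
      rw [Groth.Agent.S0339.ext_eq_zero_of_isZero_src (ModuleCat.isZero_of_subsingleton _) a,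
        Groth.Agent.S0339.ext_eq_zero_of_isZero_src (ModuleCat.isZero_of_subsingleton _) b]⟩
  · haveI : Nontrivial M := not_subsingleton_iff_nontrivial.mp hM
    obtain ⟨t, ht⟩ := Groth.Agent.H29.CM.exists_nat_depth (A := O) (M := M)
    obtain ⟨htr, -, hvan⟩ := Groth.Agent.H60.Bass.F2 (ModuleCat.of O ↥ω) r hr1 hr2 t M ht
    have ht1 : 1 ≤ t := by
      have hm : IsLocalRing.maximalIdeal O ≠ ⊥ := by
        intro h
        have hF : IsField O := IsLocalRing.isField_iff_maximalIdeal_eq.mpr h
        have h0 := ringKrullDim_eq_zero_of_isField hF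
        rw [hdim] at h0
        exact one_ne_zero h0
      obtain ⟨x, hxm, hx0⟩ := Submodule.exists_mem_ne_zero_of_ne_bot hm
      have hreg : IsSMulRegular M x := smul_right_injective M hx0
      have hW : RingTheory.Sequence.IsWeaklyRegular M [x] :=
        (RingTheory.Sequence.isWeaklyRegular_cons_iff M x []).2
          ⟨hreg, RingTheory.Sequence.IsWeaklyRegular.nil O _⟩
      have h1 := Groth.Agent.H26.DepthLib.length_le_idealDepth (IsLocalRing.maximalIdeal O) hW
        (fun r hr => by rw [List.mem_singleton] at hr; rw [hr]; exact hxm)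
      rw [show LocCoh.idealDepth (IsLocalRing.maximalIdeal O) M = (t : ℕ∞) from ht] at h1
      exact_mod_cast h1
    refine ⟨fun a b => ?_⟩
    rw [hvan i (by omega) a, hvan i (by omega) b]

end Groth.Agent.S15013
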