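import Groth.Statements.S6987
import Groth.Agent.H56.LocDescent
import Groth.Agent.H35.PCDescent
-- import your own Groth.Agent.* helpers here

set_option autoImplicit false
universe u
open CategoryTheory CategoryTheory.Limits
attribute [local instance] HasDerivedCategory.standard
open DerCA

namespace Groth.Agent.S6987

/-- Let R → A be a finite type homomorphism of commutative rings, K a cochain complex of A-modules, m an
integer and f_1, ..., f_r elements of A generating the unit ideal. Then relative m-pseudo-coherence
of K over R holds exactly when, for every i, the termwise localization K ⊗_A A_(f_i) is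
m-pseudo-coherent relative to R over the finite type R-algebra A_(f_i). -/
theorem result {R A : Type u} [CommRing R] [CommRing A] [Algebra R A]
    [Algebra.FiniteType R A] (K : DRing.Cx A) (m : ℤ) {r : ℕ} (f : Fin r → A)
    (hf : Ideal.span (Set.range f) = ⊤) :
    DerCA.IsRelPseudoCoherent R A m (DRing.toD K) ↔
      ∀ i, DerCA.IsRelPseudoCoherent R (Localization.Away (f i)) m
        (DRing.toD (((ModuleCat.extendScalars (algebraMap A (Localization.Away (f i)))).mapHomologicalComplex
          (ComplexShape.up ℤ)).obj K)) := by
  obtain ⟨n, α, hα⟩ := Algebra.FiniteType.iff_quotient_mvPolynomial''.1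
    (inferInstance : Algebra.FiniteType R A)
  choose F hF using fun i => hα (f i)
  haveI inst : ∀ i, IsLocalization.Away ((α : MvPolynomial (Fin n) R →+* A) (F i))
      (Localization.Away (f i)) := fun i => by
    have h0 : (α : MvPolynomial (Fin n) R →+* A) (F i) = f i := hF i
    rw [h0]
    infer_instance
  have step := fun i => Groth.Agent.H56.FlatPc.isRelPseudoCoherent_away_iff α hα (F i)
    (Localization.Away (f i)) K m
  rw [Groth.Agent.H56.isRelPseudoCoherent_iff_via α hα m]
  constructor
  · intro hX i
    exact (step i).2 (Groth.Agent.H56.FlatPc.isPseudoCoherent_map_ext _ _ m hX)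
  · intro hyp
    have h1 : Ideal.map (α : MvPolynomial (Fin n) R →+* A) (Ideal.span (Set.range F)) = ⊤ := by
      rw [Ideal.map_span, ← Set.range_comp]
      have h2 : ((α : MvPolynomial (Fin n) R →+* A) ∘ F) = f := funext hF
      rw [h2, hf]
    have h3 : (1 : A) ∈ Ideal.map (α : MvPolynomial (Fin n) R →+* A)
        (Ideal.span (Set.range F)) := by
      rw [h1]
      trivial
    obtain ⟨x, hx, hx1⟩ := (Ideal.mem_map_iff_of_surjective
      (α : MvPolynomial (Fin n) R →+* A) hα).1 h3
    have hh : (α : MvPolynomial (Fin n) R →+* A) (1 - x) = 0 := by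
      rw [map_sub, map_one, hx1, sub_self]
    have hspan : Ideal.span (Set.range
        (Fin.cons (1 - x) F : Fin (r + 1) → MvPolynomial (Fin n) R)) = ⊤ := by
      rw [Ideal.eq_top_iff_one]
      have hmem : x + (1 - x) ∈ Ideal.span (Set.range
          (Fin.cons (1 - x) F : Fin (r + 1) → MvPolynomial (Fin n) R)) := by
        refine Ideal.add_mem _ (Ideal.span_mono ?_ hx) (Ideal.subset_span ⟨0, rfl⟩)
        rintro _ ⟨i, rfl⟩
        exact ⟨i.succ, Fin.cons_succ _ _ _⟩
      have e : x + (1 - x) = 1 := by ring
      rwa [e] at hmem
    refine Groth.Agent.H35.TorDescent.isPseudoCoherent_of_forall_ext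
      (fun j => algebraMap (MvPolynomial (Fin n) R)
        (Localization.Away ((Fin.cons (1 - x) F : Fin (r + 1) → MvPolynomial (Fin n) R) j)))
      (Groth.Agent.H35.TorDescent.jointlyReflects_of_span _ hspan)
      (Groth.Agent.H35.TorDescent.finiteDescends_of_span _ hspan) _ m ?_
    intro j
    refine Fin.cases ?_ (fun i => ?_) j
    · refine Groth.Agent.H56.FlatPc.pc_away_congr _ m (Fin.cons_zero _ _) ?_
      obtain ⟨δ, _, _, hδ⟩ := Groth.Agent.H56.FlatPc.exists_core
        (α : MvPolynomial (Fin n) R →+* A) hα (1 - x)
        (Localization.Away ((α : MvPolynomial (Fin n) R →+* A) (1 - x))) K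
      haveI : Subsingleton (Localization.Away ((α : MvPolynomial (Fin n) R →+* A) (1 - x))) :=
        IsLocalization.subsingleton
          (M := Submonoid.powers ((α : MvPolynomial (Fin n) R →+* A) (1 - x)))
          ⟨1, by
            show ((α : MvPolynomial (Fin n) R →+* A) (1 - x)) ^ 1 = 0
            rw [pow_one]
            exact hh⟩
      exact (hδ m).1 (Groth.Agent.H56.isPseudoCoherent_of_isZero
        (Functor.map_isZero _ (Groth.Agent.H56.FlatPc.isZero_Q_obj_of_subsingleton _ _)) m)
    · exact Groth.Agent.H56.FlatPc.pc_away_congr _ m (Fin.cons_succ _ _ i) ((step i).1 (hyp i))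

end Groth.Agent.S6987
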