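import Groth.Statements.S6984
import Groth.Agent.H56.Integral
-- import your own Groth.Agent.* helpers here

set_option autoImplicit false
universe u
open CategoryTheory CategoryTheory.Limits
attribute [local instance] HasDerivedCategory.standard
open DerCA

namespace Groth.Agent.S6984

/-- Let R be a commutative ring, A → B a finite homomorphism of finite type R-algebras, K an object of
D(B) and m an integer. Then K is m-pseudo-coherent relative to R over B if and only if K, with
scalars restricted to A, is m-pseudo-coherent relative to R over A; and K is pseudo-coherent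
relative to R over B if and only if its restriction to A is pseudo-coherent relative to R. -/
theorem result {R A B : Type u} [CommRing R] [CommRing A] [CommRing B]
    [Algebra R A] [Algebra A B] [Algebra R B] [IsScalarTower R A B] [Algebra.FiniteType R A]
    [Algebra.FiniteType R B] [Module.Finite A B] (K : Dual.D B) (m : ℤ) :
    (DerCA.IsRelPseudoCoherent R B m K ↔
      DerCA.IsRelPseudoCoherent R A m ((DRing.restrictD (algebraMap A B)).obj K)) ∧
      (DerCA.IsRelPseudoCoherentAll R B K ↔
        DerCA.IsRelPseudoCoherentAll R A ((DRing.restrictD (algebraMap A B)).obj K)) := by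
  have key : ∀ m : ℤ, (DerCA.IsRelPseudoCoherent R B m K ↔
      DerCA.IsRelPseudoCoherent R A m ((DRing.restrictD (algebraMap A B)).obj K)) := by
    intro m
    obtain ⟨n, α, hα⟩ := Algebra.FiniteType.iff_quotient_mvPolynomial''.1
      (inferInstance : Algebra.FiniteType R A)
    obtain ⟨k, b, hb⟩ := Module.Finite.exists_fin (R := A) (M := B)
    let γ : MvPolynomial (Fin n) R →+* B :=
      (algebraMap A B).comp (α : MvPolynomial (Fin n) R →+* A)
    have hγfin : γ.Finite :=
      RingHom.Finite.comp (RingHom.finite_algebraMap.2 inferInstance)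
        (RingHom.Finite.of_surjective _ hα)
    have hγint : γ.IsIntegral := hγfin.to_isIntegral
    let δ : MvPolynomial (Fin k) (MvPolynomial (Fin n) R) →+* B := MvPolynomial.eval₂Hom γ b
    have hδ : Function.Surjective δ := by
      intro y
      have hy : y ∈ Submodule.span A (Set.range b) := by
        rw [hb]
        trivial
      refine Submodule.span_induction (p := fun y _ => ∃ q, δ q = y) ?_ ?_ ?_ ?_ hy
      · rintro x ⟨j, rfl⟩
        exact ⟨MvPolynomial.X j, by simp [δ]⟩
      · exact ⟨0, map_zero _⟩
      · rintro x y _ _ ⟨p, rfl⟩ ⟨q, rfl⟩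
        exact ⟨p + q, map_add _ _ _⟩
      · rintro a x _ ⟨q, rfl⟩
        obtain ⟨p, rfl⟩ := hα a
        exact ⟨MvPolynomial.C p * q, by simp [δ, γ, Algebra.smul_def]⟩
    have hC : ∀ r, δ (MvPolynomial.C (MvPolynomial.C r)) = algebraMap R B r := by
      intro r
      have h1 : α (MvPolynomial.C r) = algebraMap R A r := MvPolynomial.algHom_C α r
      have h2 : δ (MvPolynomial.C (MvPolynomial.C r)) = algebraMap A B (α (MvPolynomial.C r)) := by
        simp [δ, γ]
      rw [h2, h1, ← IsScalarTower.algebraMap_apply]
    rw [Groth.Agent.H56.isRelPseudoCoherent_iff_of_surjective δ hδ hC K m,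
      Groth.Agent.H56.isRelPseudoCoherent_iff_via α hα m]
    rw [Groth.Agent.H56.pc_iff_of_integral k γ b (fun j => hγint (b j)) K m]
    obtain ⟨e⟩ := Groth.Agent.H56.nonempty_restrictD_comp_iso
      (α : MvPolynomial (Fin n) R →+* A) (algebraMap A B) K
    exact ⟨Groth.Agent.H56.isPseudoCoherent_of_iso e m,
      Groth.Agent.H56.isPseudoCoherent_of_iso e.symm m⟩
  exact ⟨key m, ⟨fun h m' => (key m').1 (h m'), fun h m' => (key m').2 (h m')⟩⟩

end Groth.Agent.S6984
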