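import Groth.Statements.S8652
import Mathlib
import Groth.Agent.H59.RegImmDesc

set_option autoImplicit false
universe u
open CategoryTheory CategoryTheory.Limits AlgebraicGeometry
open RegImm

namespace Groth.Agent.S8652


/-- Let i : Y ⟶ X be a Koszul-regular immersion (Koszul-regular: locally, in affine opens of X where the
image is closed, the ideal is generated by a sequence whose Koszul complex is acyclic in nonzero
degrees) and let g : X' ⟶ X be flat. For any cartesian square with i' : Y' ⟶ X' the base change of i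
along g, i' is a Koszul-regular immersion. -/
theorem result {X Y X' Y' : Scheme.{u}} (i : Y ⟶ X) (g : X' ⟶ X) [Flat g]
    (i' : Y' ⟶ X') (g' : Y' ⟶ Y) (hsq : IsPullback g' i' i g)
    (hi : RegImm.IsRegularImmersion .koszul i) : RegImm.IsRegularImmersion .koszul i' := by
  obtain ⟨himm, hreg⟩ := hi
  refine ⟨MorphismProperty.of_isPullback (P := @IsImmersion) hsq himm, fun z' => ?_⟩
  obtain ⟨U, hzU, hcl, rs, hrs, hker⟩ := hreg (g' z')
  have hw : i (g' z') = g (i' z') := by
    have := congrArg (fun φ => φ.base z') hsq.w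
    simpa using this
  have hx' : i' z' ∈ g ⁻¹ᵁ U.1 := by
    show g (i' z') ∈ U.1
    rw [← hw]; exact hzU
  obtain ⟨V, hV, hzV, hVU⟩ :=
    exists_isAffineOpen_mem_and_subset (x := i' z') (U := g ⁻¹ᵁ U.1) hx'
  obtain ⟨hcl', hker'⟩ := Groth.Agent.H59.RegImmDesc.closedImm_and_ker_of_isPullback
    i g i' g' hsq U.2 hcl hV hVU
  letI : Algebra Γ(X, U.1) Γ(X', V) := (g.appLE U.1 V hVU).hom.toAlgebra
  haveI : Module.Flat Γ(X, U.1) Γ(X', V) := g.flat_appLE U.2 hV _
  refine ⟨⟨V, hV⟩, hzV, hcl', rs.map (algebraMap Γ(X, U.1) Γ(X', V)),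
    Groth.Agent.H59.Kosz.isKoszulRegularSeq_of_flat rs hrs, ?_⟩
  show RingHom.ker (i'.app V).hom = _
  rw [hker', hker]
  exact (Groth.Agent.H56.KzSwap.ofList_map (g.appLE U.1 V hVU).hom rs).symm

end Groth.Agent.S8652
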