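import Groth.Statements.S8658
import Mathlib
import Groth.Agent.S8652

set_option autoImplicit false
universe u
open CategoryTheory CategoryTheory.Limits AlgebraicGeometry
open Synt

namespace Groth.Agent.S8658


/-- Let f : X ⟶ Y be a local complete intersection morphism in the factorisation sense (around each
point of X, f is locally of finite type and factors as a Koszul-regular immersion followed by a
smooth morphism), and let g : Y' ⟶ Y be flat. Then for any cartesian square, the base change f' : X'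
⟶ Y' is a local complete intersection morphism in the same sense. -/
theorem result {X Y X' Y' : Scheme.{u}} (f : X ⟶ Y) (g : Y' ⟶ Y) [Flat g]
    (f' : X' ⟶ Y') (g' : X' ⟶ X) (hsq : IsPullback g' f' f g)
    (hf : ∀ x : X, Synt.IsKoszulAt f x) : ∀ x' : X', Synt.IsKoszulAt f' x' := by
  intro x'
  obtain ⟨U, P, i, π, hxU, hft, hi, hπ, hfac⟩ := hf (g' x')
  have h1 : IsPullback (g' ∣_ U) (g' ⁻¹ᵁ U).ι U.ι g' := isPullback_morphismRestrict g' U
  have h2 : IsPullback (g' ∣_ U) ((g' ⁻¹ᵁ U).ι ≫ f') (U.ι ≫ f) g := h1.paste_vert hsq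
  have t : IsPullback (pullback.fst π g) (pullback.snd π g) π g := IsPullback.of_hasPullback π g
  have h3 : IsPullback (g' ∣_ U) ((g' ⁻¹ᵁ U).ι ≫ f') (i ≫ π) g := by rw [hfac]; exact h2
  have hw : (g' ∣_ U ≫ i) ≫ π = ((g' ⁻¹ᵁ U).ι ≫ f') ≫ g := by rw [Category.assoc, h3.w]
  have h4 : IsPullback (g' ∣_ U) (t.lift (g' ∣_ U ≫ i) ((g' ⁻¹ᵁ U).ι ≫ f') hw) i (pullback.fst π g) :=
    IsPullback.of_bot' h3 t
  haveI : Flat (pullback.fst π g) := MorphismProperty.pullback_fst (P := @Flat) π g inferInstance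
  haveI : Smooth (pullback.snd π g) := MorphismProperty.pullback_snd (P := @Smooth) π g hπ
  refine ⟨g' ⁻¹ᵁ U, pullback π g, t.lift (g' ∣_ U ≫ i) ((g' ⁻¹ᵁ U).ι ≫ f') hw, pullback.snd π g, hxU, ?_, ?_, inferInstance, ?_⟩
  · exact MorphismProperty.of_isPullback (P := @LocallyOfFiniteType) h2 hft
  · exact Groth.Agent.S8652.result i (pullback.fst π g) _ (g' ∣_ U) h4 hi
  · exact t.lift_snd _ _ _

end Groth.Agent.S8658
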