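import Groth.Statements.S1492
import Mathlib
import Groth.Agent.H59.LCIDesc3

set_option autoImplicit false
universe u
attribute [local instance] HasDerivedCategory.standard
open FlatMor

namespace Groth.Agent.S1492


open AlgebraicGeometry CategoryTheory Limits in
/-- Let S' → S be flat, surjective and quasi-compact and f' : X' → S' the base change of f : X → S. If
f' is a local complete intersection morphism (affine-locally: local complete intersection ring maps)
then so is f. -/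
theorem result {X S X' S' : Scheme.{u}} (f : X ⟶ S) (f' : X' ⟶ S') (g' : X' ⟶ X) (g : S' ⟶ S)
    [Flat g] [Surjective g] [QuasiCompact g] (hc : IsPullback g' f' f g)
    (hf' : (∀ (U : X'.Opens) (V : S'.Opens) (hU : IsAffineOpen U) (hV : IsAffineOpen V) (hUV : U ≤ f' ⁻¹ᵁ V),
        letI := (f'.appLE V U hUV).hom.toAlgebra
        LCI.IsLCI Γ(S', V) Γ(X', U))) :
    (∀ (U : X.Opens) (V : S.Opens) (hU : IsAffineOpen U) (hV : IsAffineOpen V) (hUV : U ≤ f ⁻¹ᵁ V),
        letI := (f.appLE V U hUV).hom.toAlgebra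
        LCI.IsLCI Γ(S, V) Γ(X, U)) := by
  intro U V hU hV hUV
  letI := (f.appLE V U hUV).hom.toAlgebra
  -- finite type by descent
  haveI hft' : LocallyOfFiniteType f' :=
    ⟨fun {V'} hV' {U'} hU' e => (hf' U' V' hU' hV' e).1⟩
  haveI hft : LocallyOfFiniteType f :=
    MorphismProperty.of_isPullback_of_descendsAlong (P := @LocallyOfFiniteType)
      (Q := @Surjective ⊓ @Flat ⊓ @QuasiCompact) hc.flip
      ⟨⟨‹Surjective g›, ‹Flat g›⟩, ‹QuasiCompact g›⟩ hft'
  haveI : Algebra.FiniteType Γ(S, V) Γ(X, U) :=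
    LocallyOfFiniteType.finiteType_appLE f hV hU hUV
  -- finite affine cover of `g⁻¹ V`
  have hcpt : IsCompact ((g ⁻¹ᵁ V : S'.Opens) : Set S') := g.isCompact_preimage hV.isCompact
  obtain ⟨s, hsfin, hs⟩ := (isCompact_and_isOpen_iff_finite_and_eq_biUnion_affineOpens).mp
    ⟨hcpt, (g ⁻¹ᵁ V).isOpen⟩
  obtain ⟨m, e, he⟩ := hsfin.fin_embedding
  have hle : ∀ j, (e j).1 ≤ g ⁻¹ᵁ V := by
    intro j x hx
    have : x ∈ ((g ⁻¹ᵁ V : S'.Opens) : Set S') := by
      rw [hs]
      exact Set.mem_biUnion (he ▸ Set.mem_range_self j) hx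
    exact this
  let W : Fin m → X'.Opens := fun j => g' ⁻¹ᵁ U ⊓ f' ⁻¹ᵁ (e j).1
  have hW : ∀ j, IsAffineOpen (W j) := by
    intro j
    have : IsAffine _ := hV
    have : IsAffine _ := (e j).2
    have : IsAffine _ := hU
    exact .of_isIso (Scheme.Hom.isPullback_resLE hc (hle j) hUV rfl).isoPullback.hom
  have hpo : ∀ j, IsPushout (f.appLE V U hUV) (g.appLE V (e j).1 (hle j))
      (g'.appLE U (W j) inf_le_left) (f'.appLE (e j).1 (W j) inf_le_right) := fun j =>
    (isIso_pushoutSection_iff hc (hle j) hUV rfl).mp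
      (isIso_pushoutSection_of_isAffineOpen hc (hle j) hUV rfl hV (e j).2 hU)
  have hsurj : ∀ p : PrimeSpectrum Γ(S, V), ∃ j,
      p ∈ Set.range (PrimeSpectrum.comap (g.appLE V (e j).1 (hle j)).hom) := by
    intro p
    obtain ⟨s', hs'⟩ := g.surjective (hV.fromSpec p)
    have hs'V : s' ∈ ((g ⁻¹ᵁ V : S'.Opens) : Set S') := by
      show g s' ∈ V
      rw [hs']
      have : hV.fromSpec p ∈ Set.range hV.fromSpec := ⟨p, rfl⟩
      rw [hV.range_fromSpec] at this
      exact this
    rw [hs] at hs'V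
    obtain ⟨i, his, hi⟩ := Set.mem_iUnion₂.mp hs'V
    obtain ⟨j, rfl⟩ : ∃ j, e j = i := by rw [← he] at his; exact his
    refine ⟨j, (e j).2.primeIdealOf ⟨s', hi⟩, ?_⟩
    apply hV.fromSpec.isOpenEmbedding.injective
    have h1 := IsAffineOpen.SpecMap_appLE_fromSpec g hV (e j).2 (hle j)
    have h2 := congrArg (fun φ => φ.base ((e j).2.primeIdealOf ⟨s', hi⟩)) h1
    simp only [Scheme.Hom.comp_base, TopCat.comp_app] at h2
    rw [(e j).2.fromSpec_primeIdealOf ⟨s', hi⟩] at h2
    exact h2.trans hs'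
  exact Groth.Agent.H59.Kosz.isLCI_of_flat_family_pushout Γ(S, V) Γ(X, U) m
    (fun j => Γ(S', (e j).1)) (fun j => Γ(X', W j))
    (fun j => (g.appLE V (e j).1 (hle j)).hom) (fun j => g.flat_appLE hV (e j).2 _)
    (fun j => (f'.appLE (e j).1 (W j) inf_le_right).hom)
    (fun j => (g'.appLE U (W j) inf_le_left).hom)
    (fun j => hpo j) hsurj
    (fun j => hf' (W j) (e j).1 (hW j) (e j).2 inf_le_right)

end Groth.Agent.S1492
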