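import Groth.Statements.S0412
import Mathlib
import Groth.Agent.H68.SmoothSec

set_option autoImplicit false
universe u
open FlatMor

namespace Groth.Agent.S0412


open AlgebraicGeometry CategoryTheory Limits in
/-- A smooth morphism admits sections étale-locally on the target: every point in the image has an étale
neighbourhood over which the morphism has a section. -/
theorem result {X S : Scheme.{u}} (f : X ⟶ S) [Smooth f] (s : S) (hs : s ∈ Set.range f) :
    ∃ (S' : Scheme.{u}) (g : S' ⟶ S) (s' : S'), Etale g ∧ g s' = s ∧ ∃ h : S' ⟶ X, h ≫ f = g := by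
  obtain ⟨x, rfl⟩ := hs
  obtain ⟨_, ⟨W, hW, rfl⟩, hxW, -⟩ :=
    S.isBasis_affineOpens.exists_subset_of_mem_open (Set.mem_univ (f x)) isOpen_univ
  obtain ⟨_, ⟨V, hV, rfl⟩, hxV, hVW⟩ :=
    X.isBasis_affineOpens.exists_subset_of_mem_open hxW (W.2.preimage f.continuous)
  have hW : IsAffineOpen W := hW
  have hV : IsAffineOpen V := hV
  have e : V ≤ f ⁻¹ᵁ W := hVW
  have hsm := f.smooth_appLE hW hV e
  algebraize [(f.appLE W V e).hom]
  haveI : ((hV.primeIdealOf ⟨x, hxV⟩).asIdeal).LiesOver (hW.primeIdealOf ⟨f x, hxW⟩).asIdeal := ⟨by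
    have := IsAffineOpen.comap_primeIdealOf_appLE W hW V hV e hxV
    exact congrArg PrimeSpectrum.asIdeal this.symm⟩
  obtain ⟨R', _, _, hEt, p', hp', hpp', ⟨τ⟩⟩ :=
    Groth.Agent.H68.SmoothSec.exists_etale_section Γ(S, W) Γ(X, V)
      (hW.primeIdealOf ⟨f x, hxW⟩).asIdeal (hV.primeIdealOf ⟨x, hxV⟩).asIdeal
  let φ : Γ(S, W) ⟶ CommRingCat.of R' := CommRingCat.ofHom (algebraMap Γ(S, W) R')
  let g : Spec (CommRingCat.of R') ⟶ S := Spec.map φ ≫ hW.fromSpec
  have hg : Etale g := by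
    haveI : Etale (Spec.map φ) := by
      rw [HasRingHomProperty.Spec_iff (P := @Etale)]
      exact RingHom.etale_algebraMap.mpr hEt
    haveI := hW.isOpenImmersion_fromSpec
    show Etale (Spec.map φ ≫ hW.fromSpec)
    infer_instance
  let s' : Spec (CommRingCat.of R') := ⟨p', hp'⟩
  refine ⟨Spec (CommRingCat.of R'), g, s', hg, ?_,
    Spec.map (CommRingCat.ofHom τ.toRingHom) ≫ hV.fromSpec, ?_⟩
  · have h1 : (Spec.map φ) s' = hW.primeIdealOf ⟨f x, hxW⟩ := by
      apply PrimeSpectrum.ext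
      exact hpp'
    show hW.fromSpec ((Spec.map φ) s') = f x
    rw [h1]
    exact hW.fromSpec_primeIdealOf ⟨f x, hxW⟩
  · rw [Category.assoc, ← IsAffineOpen.SpecMap_appLE_fromSpec f hW hV e, ← Category.assoc,
      ← Spec.map_comp]
    congr 2
    ext r
    exact τ.commutes r

end Groth.Agent.S0412
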