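import Groth.Statements.S10667
import Groth.Agent.H56.LocPFlat2
import Groth.Agent.H56.LciLocal
-- import your own Groth.Agent.* helpers here

set_option autoImplicit false
universe u
open CategoryTheory CategoryTheory.Limits AlgebraicGeometry
open AlgSp

namespace Groth.Agent.S10667

/-- The property of being a local complete intersection morphism of algebraic spaces over S is fpqc
local on the base: for an fpqc covering of an algebraic space Y by algebraic spaces Y_i and pullback
squares X_i = X ×_Y Y_i, a morphism f : X ⟶ Y is a local complete intersection morphism if and only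
if every base change X_i ⟶ Y_i is. -/
theorem result {S : Scheme.{u}} : AlgSp.IsLocalOnBase (AlgSp.IsFpqcCover (S := S)) AlgSp.IsLCIMor := by
  have hP : Groth.Agent.H56.LocPFlat.WEtLocal (AlgSp.lci : MorphismProperty Scheme.{u}) :=
    ⟨Groth.Agent.H56.LciLocal.lci_precomp_etale, Groth.Agent.H56.LciLocal.lci_postcomp_etale,
      Groth.Agent.H56.LciLocal.lci_of_postcomp_etale, Groth.Agent.H56.LciSch.srcLocal_lci,
      Groth.Agent.H56.LciLocal.lci_flatBC⟩
  exact Groth.Agent.H56.LocPFlat.isLocalOnBase_fpqc_locP' hP

end Groth.Agent.S10667
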