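import Groth.Statements.S15042
import Mathlib

set_option autoImplicit false
set_option linter.style.haveILetI false
set_option linter.unusedSectionVars false
set_option linter.unusedVariables false
open CategoryTheory AlgebraicGeometry
universe u
open Quiet

namespace Groth.Agent.S15042

section Helpers

open CategoryTheory.Limits TensorProduct Polynomial

/-- transport of a root tower along an isomorphism of the top ring. -/
theorem isRootTower_of_algEquiv (p : ℕ) : ∀ (n : ℕ) (A B B' : Type u) [CommRing A] [CommRing B]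
    [CommRing B'] [Algebra A B] [Algebra A B'], (B ≃ₐ[A] B') → Quiet.IsRootTower p n A B →
    Quiet.IsRootTower p n A B' := by
  intro n
  induction n with
  | zero =>
    intro A B B' _ _ _ _ _ e h
    change Nonempty (B ≃ₐ[A] A) at h
    change Nonempty (B' ≃ₐ[A] A)
    obtain ⟨e0⟩ := h
    exact ⟨e.symm.trans e0⟩
  | succ n ih =>
    intro A B B' _ _ _ _ _ e h
    change ∃ (a : A) (_ : Algebra (Quiet.RootRing p A a) B),
      IsScalarTower A (Quiet.RootRing p A a) B ∧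
        Quiet.IsRootTower p n (Quiet.RootRing p A a) B at h
    change ∃ (a : A) (_ : Algebra (Quiet.RootRing p A a) B'),
      IsScalarTower A (Quiet.RootRing p A a) B' ∧
        Quiet.IsRootTower p n (Quiet.RootRing p A a) B'
    obtain ⟨a, alg, tow, hn⟩ := h
    letI := alg
    haveI := tow
    letI alg' : Algebra (Quiet.RootRing p A a) B' :=
      ((e : B →+* B').comp (algebraMap (Quiet.RootRing p A a) B)).toAlgebra
    have tow' : IsScalarTower A (Quiet.RootRing p A a) B' := by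
      apply IsScalarTower.of_algebraMap_eq
      intro x
      have h1 : algebraMap A B x =
          algebraMap (Quiet.RootRing p A a) B (algebraMap A (Quiet.RootRing p A a) x) :=
        IsScalarTower.algebraMap_apply A (Quiet.RootRing p A a) B x
      have h2 : algebraMap A B' x = e (algebraMap A B x) := (e.commutes x).symm
      rw [h2, h1]
      rfl
    refine ⟨a, alg', tow', ?_⟩
    exact ih (Quiet.RootRing p A a) B B'
      (AlgEquiv.ofRingEquiv (f := e.toRingEquiv) (fun r => rfl)) hn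

/-- transitivity of base change for one root extraction. -/
theorem exists_equiv_aux {p : ℕ} {A A' B : Type u} [CommRing A] [CommRing A'] [CommRing B]
    [Algebra A A'] [Algebra A B] (a : A) (a' : A') (ha' : algebraMap A A' a = a')
    [Algebra (Quiet.RootRing p A a) B] [IsScalarTower A (Quiet.RootRing p A a) B] :
    ∃ (φ : Quiet.RootRing p A a →+* Quiet.RootRing p A' a'),
      letI : Algebra (Quiet.RootRing p A a) (Quiet.RootRing p A' a') := φ.toAlgebra
      ∃ E : (Quiet.RootRing p A' a' ⊗[Quiet.RootRing p A a] B) ≃+* (A' ⊗[A] B),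
        ∀ x : A', E (((AdjoinRoot.of _ : A' →+* Quiet.RootRing p A' a') x)
          ⊗ₜ[Quiet.RootRing p A a] (1 : B)) = x ⊗ₜ[A] (1 : B) := by
  let ofR : A →+* Quiet.RootRing p A a := AdjoinRoot.of _
  let ofR' : A' →+* Quiet.RootRing p A' a' := AdjoinRoot.of _
  let rt : Quiet.RootRing p A a := AdjoinRoot.root _
  let rt' : Quiet.RootRing p A' a' := AdjoinRoot.root _
  have hrt : rt ^ p = ofR a := by
    have h := AdjoinRoot.eval₂_root (X ^ p - C a : A[X])
    rw [eval₂_sub, eval₂_pow, eval₂_X, eval₂_C, sub_eq_zero] at h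
    exact h
  have hrt' : rt' ^ p = ofR' a' := by
    have h := AdjoinRoot.eval₂_root (X ^ p - C a' : A'[X])
    rw [eval₂_sub, eval₂_pow, eval₂_X, eval₂_C, sub_eq_zero] at h
    exact h
  have h0 : (X ^ p - C a : A[X]).eval₂ (ofR'.comp (algebraMap A A')) rt' = 0 := by
    rw [eval₂_sub, eval₂_pow, eval₂_X, eval₂_C, RingHom.comp_apply, ha', hrt', sub_self]
  let φ : Quiet.RootRing p A a →+* Quiet.RootRing p A' a' :=
    AdjoinRoot.lift (ofR'.comp (algebraMap A A')) rt' h0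
  have hφ_of : ∀ x : A, φ (ofR x) = ofR' (algebraMap A A' x) := fun x => AdjoinRoot.lift_of h0
  have hφ_rt : φ rt = rt' := AdjoinRoot.lift_root h0
  refine ⟨φ, ?_⟩
  letI algRR' : Algebra (Quiet.RootRing p A a) (Quiet.RootRing p A' a') := φ.toAlgebra
  show ∃ E : (Quiet.RootRing p A' a' ⊗[Quiet.RootRing p A a] B) ≃+* (A' ⊗[A] B),
    ∀ x : A', E ((ofR' x) ⊗ₜ[Quiet.RootRing p A a] (1 : B)) = x ⊗ₜ[A] (1 : B)
  let β : B := algebraMap (Quiet.RootRing p A a) B rt
  have hofB : ∀ x : A, algebraMap (Quiet.RootRing p A a) B (ofR x) = algebraMap A B x := fun x =>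
    (IsScalarTower.algebraMap_apply A (Quiet.RootRing p A a) B x).symm
  have hβ : β ^ p = algebraMap A B a := by
    show (algebraMap (Quiet.RootRing p A a) B rt) ^ p = _
    rw [← map_pow, hrt, hofB]
  have ht1 : ∀ x : A, (algebraMap A A' x) ⊗ₜ[A] (1 : B) = (1 : A') ⊗ₜ[A] (algebraMap A B x) := by
    intro x
    rw [Algebra.algebraMap_eq_smul_one, Algebra.algebraMap_eq_smul_one, TensorProduct.smul_tmul]
  have ht2 : ∀ r : Quiet.RootRing p A a, (φ r) ⊗ₜ[Quiet.RootRing p A a] (1 : B) =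
      (1 : Quiet.RootRing p A' a') ⊗ₜ[Quiet.RootRing p A a]
        (algebraMap (Quiet.RootRing p A a) B r) := by
    intro r
    have e1 : φ r = r • (1 : Quiet.RootRing p A' a') := by
      rw [Algebra.smul_def, mul_one]
      rfl
    rw [e1, Algebra.algebraMap_eq_smul_one, TensorProduct.smul_tmul]
  letI algRT : Algebra (Quiet.RootRing p A a) (A' ⊗[A] B) :=
    ((Algebra.TensorProduct.includeRight : B →ₐ[A] A' ⊗[A] B).toRingHom.comp
      (algebraMap (Quiet.RootRing p A a) B)).toAlgebra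
  have h1 : (X ^ p - C a' : A'[X]).eval₂
      (Algebra.TensorProduct.includeLeftRingHom : A' →+* A' ⊗[A] B) ((1 : A') ⊗ₜ[A] β) = 0 := by
    rw [eval₂_sub, eval₂_pow, eval₂_X, eval₂_C]
    show ((1 : A') ⊗ₜ[A] β) ^ p - a' ⊗ₜ[A] (1 : B) = 0
    rw [Algebra.TensorProduct.tmul_pow, one_pow, hβ, ← ha', ht1, sub_self]
  let f₀ : Quiet.RootRing p A' a' →+* A' ⊗[A] B :=
    AdjoinRoot.lift (Algebra.TensorProduct.includeLeftRingHom : A' →+* A' ⊗[A] B)
      ((1 : A') ⊗ₜ[A] β) h1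
  have hf₀_of : ∀ x : A', f₀ (ofR' x) = x ⊗ₜ[A] (1 : B) := fun x => AdjoinRoot.lift_of h1
  have hf₀_rt : f₀ rt' = (1 : A') ⊗ₜ[A] β := AdjoinRoot.lift_root h1
  have hcomm : ∀ r : Quiet.RootRing p A a,
      f₀ (algebraMap (Quiet.RootRing p A a) (Quiet.RootRing p A' a') r) =
        algebraMap (Quiet.RootRing p A a) (A' ⊗[A] B) r := by
    have hring : f₀.comp φ =
        (Algebra.TensorProduct.includeRight : B →ₐ[A] A' ⊗[A] B).toRingHom.comp
          (algebraMap (Quiet.RootRing p A a) B) := by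
      apply AdjoinRoot.ringHom_ext
      · ext x
        show f₀ (φ (ofR x)) = (1 : A') ⊗ₜ[A] (algebraMap (Quiet.RootRing p A a) B (ofR x))
        rw [hφ_of, hf₀_of, hofB, ht1]
      · show f₀ (φ rt) = (1 : A') ⊗ₜ[A] β
        rw [hφ_rt, hf₀_rt]
    intro r
    exact RingHom.congr_fun hring r
  let f : Quiet.RootRing p A' a' →ₐ[Quiet.RootRing p A a] A' ⊗[A] B :=
    { f₀ with commutes' := hcomm }
  let g : B →ₐ[Quiet.RootRing p A a] A' ⊗[A] B :=
    { (Algebra.TensorProduct.includeRight : B →ₐ[A] A' ⊗[A] B).toRingHom with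
      commutes' := fun r => rfl }
  let F : Quiet.RootRing p A' a' ⊗[Quiet.RootRing p A a] B →ₐ[Quiet.RootRing p A a] A' ⊗[A] B :=
    Algebra.TensorProduct.lift f g (fun _ _ => Commute.all _ _)
  have hF : ∀ (r' : Quiet.RootRing p A' a') (b : B),
      F (r' ⊗ₜ b) = f₀ r' * ((1 : A') ⊗ₜ[A] b) := fun r' b => rfl
  letI algAT2 : Algebra A (Quiet.RootRing p A' a' ⊗[Quiet.RootRing p A a] B) :=
    ((algebraMap (Quiet.RootRing p A a)
      (Quiet.RootRing p A' a' ⊗[Quiet.RootRing p A a] B)).comp ofR).toAlgebra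
  have halgAT2 : ∀ x : A, algebraMap A (Quiet.RootRing p A' a' ⊗[Quiet.RootRing p A a] B) x =
      (φ (ofR x)) ⊗ₜ[Quiet.RootRing p A a] (1 : B) := fun x => rfl
  let f2 : A' →ₐ[A] Quiet.RootRing p A' a' ⊗[Quiet.RootRing p A a] B :=
    { (Algebra.TensorProduct.includeLeftRingHom :
        Quiet.RootRing p A' a' →+* Quiet.RootRing p A' a' ⊗[Quiet.RootRing p A a] B).comp ofR' with
      commutes' := fun x => by
        rw [halgAT2, hφ_of]
        rfl }
  let g2 : B →ₐ[A] Quiet.RootRing p A' a' ⊗[Quiet.RootRing p A a] B :=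
    { (Algebra.TensorProduct.includeRight :
        B →ₐ[Quiet.RootRing p A a] Quiet.RootRing p A' a' ⊗[Quiet.RootRing p A a] B).toRingHom with
      commutes' := fun x => by
        rw [halgAT2, ht2, hofB]
        rfl }
  let G : A' ⊗[A] B →ₐ[A] Quiet.RootRing p A' a' ⊗[Quiet.RootRing p A a] B :=
    Algebra.TensorProduct.productMap f2 g2
  have hG : ∀ (x : A') (b : B), G (x ⊗ₜ b) =
      ((ofR' x) ⊗ₜ[Quiet.RootRing p A a] (1 : B)) *
        ((1 : Quiet.RootRing p A' a') ⊗ₜ[Quiet.RootRing p A a] b) := fun x b => rfl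
  have hGf₀ : ∀ r' : Quiet.RootRing p A' a', G (f₀ r') = r' ⊗ₜ[Quiet.RootRing p A a] (1 : B) := by
    have hring : (G : A' ⊗[A] B →+* Quiet.RootRing p A' a' ⊗[Quiet.RootRing p A a] B).comp f₀ =
        (Algebra.TensorProduct.includeLeftRingHom :
          Quiet.RootRing p A' a' →+* Quiet.RootRing p A' a' ⊗[Quiet.RootRing p A a] B) := by
      apply AdjoinRoot.ringHom_ext
      · ext x
        show G (f₀ (ofR' x)) = (ofR' x) ⊗ₜ[Quiet.RootRing p A a] (1 : B)
        rw [hf₀_of, hG, Algebra.TensorProduct.tmul_mul_tmul, mul_one, one_mul]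
      · show G (f₀ rt') = rt' ⊗ₜ[Quiet.RootRing p A a] (1 : B)
        rw [hf₀_rt, hG, map_one, Algebra.TensorProduct.tmul_mul_tmul, one_mul, one_mul,
          ← hφ_rt, ht2]
    intro r'
    exact RingHom.congr_fun hring r'
  have h₁ : (F : Quiet.RootRing p A' a' ⊗[Quiet.RootRing p A a] B →+* A' ⊗[A] B).comp
      (G : A' ⊗[A] B →+* Quiet.RootRing p A' a' ⊗[Quiet.RootRing p A a] B) =
      RingHom.id (A' ⊗[A] B) := by
    apply RingHom.ext
    intro t
    induction t using TensorProduct.induction_on with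
    | zero => simp
    | tmul x b =>
      show F (G (x ⊗ₜ b)) = x ⊗ₜ b
      rw [hG, Algebra.TensorProduct.tmul_mul_tmul, mul_one, one_mul, hF, hf₀_of,
        Algebra.TensorProduct.tmul_mul_tmul, mul_one, one_mul]
    | add t1 t2 h1 h2 => simp only [map_add, h1, h2]
  have h₂ : (G : A' ⊗[A] B →+* Quiet.RootRing p A' a' ⊗[Quiet.RootRing p A a] B).comp
      (F : Quiet.RootRing p A' a' ⊗[Quiet.RootRing p A a] B →+* A' ⊗[A] B) =
      RingHom.id (Quiet.RootRing p A' a' ⊗[Quiet.RootRing p A a] B) := by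
    apply RingHom.ext
    intro t
    induction t using TensorProduct.induction_on with
    | zero => simp
    | tmul r' b =>
      show G (F (r' ⊗ₜ b)) = r' ⊗ₜ b
      rw [hF, map_mul, hGf₀, hG, map_one, Algebra.TensorProduct.tmul_mul_tmul,
        Algebra.TensorProduct.tmul_mul_tmul]
      simp only [mul_one, one_mul]
    | add t1 t2 h1 h2 => simp only [map_add, h1, h2]
  refine ⟨RingEquiv.ofRingHom
    (F : Quiet.RootRing p A' a' ⊗[Quiet.RootRing p A a] B →+* A' ⊗[A] B)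
    (G : A' ⊗[A] B →+* Quiet.RootRing p A' a' ⊗[Quiet.RootRing p A a] B) h₁ h₂, fun x => ?_⟩
  show F ((ofR' x) ⊗ₜ[Quiet.RootRing p A a] (1 : B)) = x ⊗ₜ[A] (1 : B)
  rw [hF, hf₀_of, Algebra.TensorProduct.tmul_mul_tmul, mul_one, one_mul]

/-- base change of a root tower. -/
theorem isRootTower_baseChange (p : ℕ) : ∀ (n : ℕ) (A B A' : Type u) [CommRing A] [CommRing B]
    [CommRing A'] [Algebra A B] [Algebra A A'], Quiet.IsRootTower p n A B →
    Quiet.IsRootTower p n A' (A' ⊗[A] B) := by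
  intro n
  induction n with
  | zero =>
    intro A B A' _ _ _ _ _ h
    change Nonempty (B ≃ₐ[A] A) at h
    change Nonempty ((A' ⊗[A] B) ≃ₐ[A'] A')
    obtain ⟨e0⟩ := h
    exact ⟨(Algebra.TensorProduct.congr (AlgEquiv.refl : A' ≃ₐ[A'] A') e0).trans
      (Algebra.TensorProduct.rid A A' A')⟩
  | succ n ih =>
    intro A B A' _ _ _ _ _ h
    change ∃ (a : A) (_ : Algebra (Quiet.RootRing p A a) B),
      IsScalarTower A (Quiet.RootRing p A a) B ∧
        Quiet.IsRootTower p n (Quiet.RootRing p A a) B at h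
    change ∃ (a' : A') (_ : Algebra (Quiet.RootRing p A' a') (A' ⊗[A] B)),
      IsScalarTower A' (Quiet.RootRing p A' a') (A' ⊗[A] B) ∧
        Quiet.IsRootTower p n (Quiet.RootRing p A' a') (A' ⊗[A] B)
    obtain ⟨a, alg, tow, hn⟩ := h
    letI := alg
    haveI := tow
    obtain ⟨φ, E, hE⟩ := exists_equiv_aux (p := p) (A := A) (A' := A') (B := B) a
      (algebraMap A A' a) rfl
    letI algRR' : Algebra (Quiet.RootRing p A a) (Quiet.RootRing p A' (algebraMap A A' a)) :=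
      φ.toAlgebra
    have h1 : Quiet.IsRootTower p n (Quiet.RootRing p A' (algebraMap A A' a))
        (Quiet.RootRing p A' (algebraMap A A' a) ⊗[Quiet.RootRing p A a] B) := ih _ _ _ hn
    letI algR'T : Algebra (Quiet.RootRing p A' (algebraMap A A' a)) (A' ⊗[A] B) :=
      ((E : _ →+* A' ⊗[A] B).comp (algebraMap (Quiet.RootRing p A' (algebraMap A A' a))
        (Quiet.RootRing p A' (algebraMap A A' a) ⊗[Quiet.RootRing p A a] B))).toAlgebra
    refine ⟨algebraMap A A' a, algR'T, ?_, ?_⟩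
    · apply IsScalarTower.of_algebraMap_eq
      intro x
      exact (hE x).symm
    · exact isRootTower_of_algEquiv p n _ _ _
        (AlgEquiv.ofRingEquiv (f := E) (fun r => rfl)) h1

/-- base change of a `p`-th root morphism. -/
theorem isPthRoot_of_isPullback {p : ℕ} {V V' Z Z' : Scheme.{u}} (r : V ⟶ Z) (r' : V' ⟶ Z')
    (a : V' ⟶ V) (b : Z' ⟶ Z) (sq : IsPullback r' a b r) (hr : Quiet.IsPthRoot p r) :
    Quiet.IsPthRoot p r' := by
  intro z'
  obtain ⟨U, hzU, hUaff, n, hn⟩ := hr (b z')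
  obtain ⟨U', hU', hz'U', hU'U⟩ := TopologicalSpace.Opens.isBasis_iff_nbhd.mp
    Z'.isBasis_affineOpens (U := b ⁻¹ᵁ U.1) (x := z') hzU
  have hU' : IsAffineOpen U' := hU'
  have hUST : r ⁻¹ᵁ U.1 ≤ r ⁻¹ᵁ U.1 := le_rfl
  have hUSX : U' ≤ b ⁻¹ᵁ U.1 := hU'U
  have hle3 : r' ⁻¹ᵁ U' ≤ a ⁻¹ᵁ (r ⁻¹ᵁ U.1) := by
    intro x hx
    show r (a x) ∈ U.1
    have hw : r (a x) = b (r' x) := by
      rw [← Scheme.Hom.comp_apply, ← Scheme.Hom.comp_apply, sq.w]
    rw [hw]
    exact hU'U hx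
  have hle2 : r' ⁻¹ᵁ U' ≤ r' ⁻¹ᵁ U' := le_rfl
  have hUY : r' ⁻¹ᵁ U' = r' ⁻¹ᵁ U' ⊓ a ⁻¹ᵁ (r ⁻¹ᵁ U.1) :=
    le_antisymm (le_inf le_rfl hle3) inf_le_left
  have hUY' : IsAffineOpen (r' ⁻¹ᵁ U') := by
    have : IsAffine _ := U.2
    have : IsAffine _ := hUaff
    have : IsAffine _ := hU'
    exact .of_isIso (Scheme.Hom.isPullback_resLE sq hUST hUSX hUY).isoPullback.hom
  have hiso := isIso_pushoutSection_of_isAffineOpen sq hUST hUSX hUY U.2 hUaff hU'
  have hPO : IsPushout (b.appLE U.1 U' hUSX) (r.appLE U.1 (r ⁻¹ᵁ U.1) hUST)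
      (r'.appLE U' (r' ⁻¹ᵁ U') hle2) (a.appLE (r ⁻¹ᵁ U.1) (r' ⁻¹ᵁ U') hle3) :=
    (isIso_pushoutSection_iff sq hUST hUSX hUY).mp hiso
  refine ⟨⟨U', hU'⟩, hz'U', hUY', ?_⟩
  letI algAB : Algebra Γ(Z, U.1) Γ(V, r ⁻¹ᵁ U.1) := (r.app U.1).hom.toAlgebra
  letI algAA' : Algebra Γ(Z, U.1) Γ(Z', U') := (b.appLE U.1 U' hUSX).hom.toAlgebra
  letI algA'B' : Algebra Γ(Z', U') Γ(V', r' ⁻¹ᵁ U') := (r'.app U').hom.toAlgebra
  have hbc := isRootTower_baseChange p n Γ(Z, U.1) Γ(V, r ⁻¹ᵁ U.1) Γ(Z', U') hn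
  have hT := CommRingCat.isPushout_tensorProduct Γ(Z, U.1) Γ(Z', U') Γ(V, r ⁻¹ᵁ U.1)
  have hPO' : IsPushout (CommRingCat.ofHom (algebraMap Γ(Z, U.1) Γ(Z', U')))
      (CommRingCat.ofHom (algebraMap Γ(Z, U.1) Γ(V, r ⁻¹ᵁ U.1))) (r'.app U')
      (a.appLE (r ⁻¹ᵁ U.1) (r' ⁻¹ᵁ U') hle3) := by
    have h1 : r.appLE U.1 (r ⁻¹ᵁ U.1) hUST = r.app U.1 := by
      rw [Scheme.Hom.app_eq_appLE]
    have h2 : r'.appLE U' (r' ⁻¹ᵁ U') hle2 = r'.app U' := by
      rw [Scheme.Hom.app_eq_appLE]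
    rw [h1, h2] at hPO
    exact hPO
  have he_inl := hT.inl_isoIsPushout_hom _ _ hPO'
  have hcommE : ∀ x : Γ(Z', U'), (hT.isoIsPushout _ _ hPO').commRingCatIsoToRingEquiv
      (algebraMap Γ(Z', U') (Γ(Z', U') ⊗[Γ(Z, U.1)] Γ(V, r ⁻¹ᵁ U.1)) x) =
      algebraMap Γ(Z', U') Γ(V', r' ⁻¹ᵁ U') x := by
    intro x
    have h := congrArg (fun t => t.hom x) he_inl
    exact h
  dsimp only
  exact ⟨n, isRootTower_of_algEquiv p n _ _ _
    (AlgEquiv.ofRingEquiv (f := (hT.isoIsPushout _ _ hPO').commRingCatIsoToRingEquiv) hcommE) hbc⟩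

end Helpers


/-- Over a scheme `X` of prime characteristic `p`, if `f : Y ⟶ X` is quasi-etale (locally on the source
an extraction of `p`-th roots followed by an etale morphism) and `Y'` with its projections `g' : Y'
⟶ Y`, `f' : Y' ⟶ X'` is the fibre product of `f` and a morphism `g : X' ⟶ X`, then `f'` is
quasi-etale. -/
theorem result (p : ℕ) [Fact p.Prime] {X Y X' Y' : Scheme.{u}} [FrobSch.IsCharP X p]
    (f : Y ⟶ X) (g : X' ⟶ X) (f' : Y' ⟶ X') (g' : Y' ⟶ Y) (H : IsPullback g' f' f g)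
    (hf : Quiet.IsQuiet p f) : Quiet.IsQuiet p f' := by
  intro y'
  obtain ⟨V, Z, r, e, hyV, hr, he, hre⟩ := hf (g' y')
  haveI := he
  have hcomm : ((g' ∣_ V) ≫ r) ≫ e = ((g' ⁻¹ᵁ V).ι ≫ f') ≫ g := by
    rw [Category.assoc, hre, ← Category.assoc, morphismRestrict_ι, Category.assoc,
      Category.assoc, H.w]
  have sqL : IsPullback (g' ⁻¹ᵁ V).ι (g' ∣_ V) g' V.ι := (isPullback_morphismRestrict g' V).flip
  have sqO : IsPullback ((g' ⁻¹ᵁ V).ι ≫ f') (g' ∣_ V) g (V.ι ≫ f) := sqL.paste_horiz H.flip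
  have sq : IsPullback (Limits.pullback.lift ((g' ∣_ V) ≫ r) ((g' ⁻¹ᵁ V).ι ≫ f') hcomm) (g' ∣_ V)
      (Limits.pullback.fst e g) r := by
    refine IsPullback.of_right ?_ (Limits.pullback.lift_fst _ _ _) (IsPullback.of_hasPullback e g).flip
    rw [Limits.pullback.lift_snd, hre]
    exact sqO
  refine ⟨g' ⁻¹ᵁ V, Limits.pullback e g, Limits.pullback.lift ((g' ∣_ V) ≫ r) ((g' ⁻¹ᵁ V).ι ≫ f') hcomm,
    Limits.pullback.snd e g, hyV, ?_, inferInstance, Limits.pullback.lift_snd _ _ _⟩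
  exact isPthRoot_of_isPullback r _ (g' ∣_ V) (Limits.pullback.fst e g) sq hr

end Groth.Agent.S15042
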