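import Groth.Statements.S2105
import Mathlib

set_option autoImplicit false
universe u
open CAlg

namespace Groth.Agent.S2105

section aux
variable {A : Type u} [CommRing A]

lemma single_natAdd_natAdd {n m : ℕ} (j l : Fin m) (c : A) :
    (Pi.single (Fin.natAdd n j) c : Fin (n+m) → A) (Fin.natAdd n l) = (Pi.single j c : Fin m → A) l := by
  by_cases h : l = j
  · subst h; simp
  · rw [Pi.single_eq_of_ne h, Pi.single_eq_of_ne]
    intro h'; exact h ((Fin.natAdd_inj _).1 h')

lemma single_castAdd_castAdd {n m : ℕ} (j l : Fin n) (c : A) :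
    (Pi.single (Fin.castAdd m j) c : Fin (n+m) → A) (Fin.castAdd m l) = (Pi.single j c : Fin n → A) l := by
  by_cases h : l = j
  · subst h; simp
  · rw [Pi.single_eq_of_ne h, Pi.single_eq_of_ne]
    intro h'; exact h ((Fin.castAdd_inj).1 h')

lemma single_castAdd_natAdd {n m : ℕ} (j : Fin n) (l : Fin m) (c : A) :
    (Pi.single (Fin.castAdd m j) c : Fin (n+m) → A) (Fin.natAdd n l) = 0 := by
  rw [Pi.single_eq_of_ne]
  intro h
  have := congrArg Fin.val h
  simp at this
  omega

lemma single_natAdd_castAdd {n m : ℕ} (j : Fin m) (l : Fin n) (c : A) :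
    (Pi.single (Fin.natAdd n j) c : Fin (n+m) → A) (Fin.castAdd m l) = 0 := by
  rw [Pi.single_eq_of_ne]
  intro h
  have := congrArg Fin.val h
  simp at this
  omega

/-- extension by zero -/
def iota1 (n m : ℕ) : (Fin n → A) →ₗ[A] (Fin (n+m) → A) where
  toFun x := Fin.append x (fun _ => 0)
  map_add' x y := by
    funext k
    induction k using Fin.addCases with
    | left i => simp [Fin.append_left]
    | right j => simp [Fin.append_right]
  map_smul' c x := by
    funext k
    induction k using Fin.addCases with
    | left i => simp [Fin.append_left]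
    | right j => simp [Fin.append_right]

lemma iota1_single {n m : ℕ} (i : Fin n) (c : A) :
    iota1 n m (Pi.single i c : Fin n → A) = (Pi.single (Fin.castAdd m i) c : Fin (n+m) → A) := by
  funext k
  induction k using Fin.addCases with
  | left l =>
    simp only [iota1, LinearMap.coe_mk, AddHom.coe_mk]
    rw [Fin.append_left, single_castAdd_castAdd]
  | right l =>
    simp only [iota1, LinearMap.coe_mk, AddHom.coe_mk]
    rw [Fin.append_right, single_castAdd_natAdd]

end aux

/-- Appending to an `H_1`-regular sequence `f` a sequence `g` whose image modulo the ideal `(f)` is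
`H_1`-regular yields an `H_1`-regular sequence. -/
theorem result {A : Type u} [CommRing A] {n m : ℕ} (f : Fin n → A)
    (g : Fin m → A) (hf : CAlgX.IsH1Regular f)
    (hg : CAlgX.IsH1Regular (fun j => Ideal.Quotient.mk (Ideal.span (Set.range f)) (g j))) :
    CAlgX.IsH1Regular (Fin.append f g) := by
  classical
  intro a ha
  set J := Ideal.span (Set.range f) with hJ
  set h := Fin.append f g with hh
  set T : Submodule A (Fin (n+m) → A) := Submodule.span A
    {v | ∃ i j : Fin (n+m), v = Pi.single i (h j) - Pi.single j (h i)} with hT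
  show a ∈ T
  let p2 : (Fin (n+m) → A) →ₗ[A] (Fin m → A) := LinearMap.funLeft A A (Fin.natAdd n)
  let p1 : (Fin (n+m) → A) →ₗ[A] (Fin n → A) := LinearMap.funLeft A A (Fin.castAdd m)
  have p2_apply : ∀ v j, p2 v j = v (Fin.natAdd n j) := fun v j => rfl
  have p1_apply : ∀ v j, p1 v j = v (Fin.castAdd m j) := fun v j => rfl
  have hleft : ∀ i, h (Fin.castAdd m i) = f i := fun i => Fin.append_left f g i
  have hright : ∀ j, h (Fin.natAdd n j) = g j := fun j => Fin.append_right f g j
  -- all elements of T are relations
  have hTrel : ∀ v ∈ T, ∑ i, v i * h i = 0 := by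
    intro v hv
    induction hv using Submodule.span_induction with
    | mem v hv =>
      obtain ⟨i, j, rfl⟩ := hv
      simp only [Pi.sub_apply, sub_mul, Finset.sum_sub_distrib]
      rw [Finset.sum_eq_single i, Finset.sum_eq_single j]
      · simp [mul_comm]
      · intro b _ hb; rw [Pi.single_eq_of_ne hb, zero_mul]
      · intro hh; exact absurd (Finset.mem_univ _) hh
      · intro b _ hb; rw [Pi.single_eq_of_ne hb, zero_mul]
      · intro hh; exact absurd (Finset.mem_univ _) hh
    | zero => simp
    | add v w _ _ ihv ihw => simp [add_mul, Finset.sum_add_distrib, ihv, ihw]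
    | smul c v _ ihv =>
      simp only [Pi.smul_apply, smul_eq_mul, mul_assoc]
      rw [← Finset.mul_sum, ihv, mul_zero]
  set N := T.map p2 with hN
  -- (ii) generators
  have hgen : ∀ j k : Fin m, (Pi.single j (g k) - Pi.single k (g j) : Fin m → A) ∈ N := by
    intro j k
    refine ⟨Pi.single (Fin.natAdd n j) (h (Fin.natAdd n k)) - Pi.single (Fin.natAdd n k) (h (Fin.natAdd n j)),
      Submodule.subset_span ⟨_, _, rfl⟩, ?_⟩
    funext l
    rw [map_sub]
    simp only [Pi.sub_apply, p2_apply, single_natAdd_natAdd, hright]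
  -- (i) J^m ⊆ N
  have hJN1 : ∀ (j : Fin m) (c : A), c ∈ J → (Pi.single j c : Fin m → A) ∈ N := by
    intro j
    have : J ≤ N.comap (LinearMap.single A (fun _ : Fin m => A) j) := by
      rw [hJ, Ideal.span, Submodule.span_le]
      rintro _ ⟨i, rfl⟩
      show (Pi.single j (f i) : Fin m → A) ∈ N
      refine ⟨Pi.single (Fin.natAdd n j) (h (Fin.castAdd m i)) - Pi.single (Fin.castAdd m i) (h (Fin.natAdd n j)),
        Submodule.subset_span ⟨_, _, rfl⟩, ?_⟩
      funext l
      rw [map_sub]
      simp only [Pi.sub_apply, p2_apply, single_natAdd_natAdd, single_castAdd_natAdd, hleft, sub_zero]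
    intro c hc
    exact this hc
  have hJN : ∀ b : Fin m → A, (∀ j, b j ∈ J) → b ∈ N := by
    intro b hb
    rw [← Finset.univ_sum_single b]
    exact Submodule.sum_mem _ (fun j _ => hJN1 j _ (hb j))
  have hmk : ∀ (i l : Fin m) (c : A), Ideal.Quotient.mk J ((Pi.single i c : Fin m → A) l) =
      (Pi.single i (Ideal.Quotient.mk J c) : Fin m → A ⧸ J) l :=
    fun i l c => Pi.apply_single (fun _ => Ideal.Quotient.mk J) (fun _ => map_zero _) i c l
  -- lifting
  have hlift : ∀ vbar ∈ Submodule.span (A ⧸ J) {v : Fin m → A ⧸ J | ∃ i j : Fin m,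
      v = Pi.single i (Ideal.Quotient.mk J (g j)) - Pi.single j (Ideal.Quotient.mk J (g i))},
      ∀ b : Fin m → A, (∀ j, Ideal.Quotient.mk J (b j) = vbar j) → b ∈ N := by
    intro vbar hv
    induction hv using Submodule.span_induction with
    | mem v hv =>
      obtain ⟨i, j, rfl⟩ := hv
      intro b hb
      have : b = (Pi.single i (g j) - Pi.single j (g i)) + (b - (Pi.single i (g j) - Pi.single j (g i))) := by
        abel
      rw [this]
      refine add_mem (hgen i j) (hJN _ ?_)
      intro l
      rw [← Ideal.Quotient.eq_zero_iff_mem]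
      simp only [Pi.sub_apply, map_sub, hb, hmk, sub_self]
    | zero =>
      intro b hb
      refine hJN _ (fun j => ?_)
      rw [← Ideal.Quotient.eq_zero_iff_mem, hb]; rfl
    | add v w _ _ ihv ihw =>
      intro b hb
      let b1 : Fin m → A := fun j => (Ideal.Quotient.mk_surjective (v j)).choose
      have hb1 : ∀ j, Ideal.Quotient.mk J (b1 j) = v j := fun j => (Ideal.Quotient.mk_surjective (v j)).choose_spec
      have : b = b1 + (b - b1) := by abel
      rw [this]
      refine add_mem (ihv b1 hb1) (ihw _ ?_)
      intro j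
      simp only [Pi.sub_apply, map_sub, hb, hb1, Pi.add_apply]; ring
    | smul c v _ ihv =>
      intro b hb
      obtain ⟨c0, rfl⟩ := Ideal.Quotient.mk_surjective c
      let b1 : Fin m → A := fun j => (Ideal.Quotient.mk_surjective (v j)).choose
      have hb1 : ∀ j, Ideal.Quotient.mk J (b1 j) = v j := fun j => (Ideal.Quotient.mk_surjective (v j)).choose_spec
      have : b = c0 • b1 + (b - c0 • b1) := by abel
      rw [this]
      refine add_mem (Submodule.smul_mem _ _ (ihv b1 hb1)) (hJN _ ?_)
      intro j
      rw [← Ideal.Quotient.eq_zero_iff_mem]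
      simp only [Pi.sub_apply, Pi.smul_apply, smul_eq_mul, map_sub, map_mul, hb, hb1]
      ring
  -- the relation split
  have hsplit : ∀ v : Fin (n+m) → A, ∑ i, v i * h i = ∑ i, p1 v i * f i + ∑ j, p2 v j * g j := by
    intro v
    rw [Fin.sum_univ_add]
    simp only [hleft, hright, p1_apply, p2_apply]
  have hb : p2 a ∈ N := by
    apply hlift (fun j => Ideal.Quotient.mk J (p2 a j)) _ _ (fun j => rfl)
    apply hg
    have h1 := hsplit a
    rw [ha] at h1
    have h2 : Ideal.Quotient.mk J (∑ i, p1 a i * f i) = 0 := by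
      rw [Ideal.Quotient.eq_zero_iff_mem]
      exact Ideal.sum_mem _ (fun i _ => Ideal.mul_mem_left _ _ (Ideal.subset_span ⟨i, rfl⟩))
    have h3 := congrArg (Ideal.Quotient.mk J) h1
    rw [map_zero, map_add, h2, zero_add, map_sum] at h3
    simp only [map_mul] at h3
    exact h3.symm
  obtain ⟨t, ht, htb⟩ := hb
  have hrel : ∑ i, (a - t) i * h i = 0 := by
    simp only [Pi.sub_apply, sub_mul, Finset.sum_sub_distrib, ha, hTrel t ht, sub_zero]
  have hp2 : p2 (a - t) = 0 := by rw [map_sub, htb, sub_self]
  have ha1 : p1 (a - t) ∈ Submodule.span A {v : Fin n → A | ∃ i j : Fin n,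
      v = Pi.single i (f j) - Pi.single j (f i)} := by
    apply hf
    have := hsplit (a - t)
    rw [hrel, hp2] at this
    simpa using this.symm
  have hmap : (Submodule.span A {v : Fin n → A | ∃ i j : Fin n,
      v = Pi.single i (f j) - Pi.single j (f i)}).map (iota1 n m) ≤ T := by
    rw [Submodule.map_span, Submodule.span_le]
    rintro _ ⟨v, ⟨i, j, rfl⟩, rfl⟩
    rw [map_sub, iota1_single, iota1_single]
    refine Submodule.subset_span ⟨Fin.castAdd m i, Fin.castAdd m j, ?_⟩
    rw [hleft, hleft]
  have hat : a - t = iota1 n m (p1 (a - t)) := by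
    funext k
    induction k using Fin.addCases with
    | left i =>
      simp only [iota1, LinearMap.coe_mk, AddHom.coe_mk]
      rw [Fin.append_left]; rfl
    | right j =>
      simp only [iota1, LinearMap.coe_mk, AddHom.coe_mk]
      rw [Fin.append_right]
      exact congrFun hp2 j
  have : a = t + (a - t) := by abel
  rw [this]
  refine add_mem ht ?_
  rw [hat]
  exact hmap ⟨_, ha1, rfl⟩

end Groth.Agent.S2105
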