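import Groth.Statements.S2143
import Groth.Agent.H9.LocalDimField

set_option linter.style.haveILetI false

set_option autoImplicit false
universe u
open CAlg

namespace Groth.Agent.S2143


open Groth.Agent.H9.FibDim Groth.Agent.H9.LocalDimField

theorem result' {k S : Type u} [Field k] [CommRing S] [Algebra k S] [Algebra.FiniteType k S]
    (p : Ideal S) [p.IsPrime] :
    FlatMor.localDim (PrimeSpectrum S) ⟨p, inferInstance⟩ =
      ⨅ m : {m : Ideal S // m.IsMaximal ∧ p ≤ m}, ringKrullDim (Localization.AtPrime (hp := m.2.1.isPrime') m.1) := by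
  haveI : IsNoetherianRing S := Algebra.FiniteType.isNoetherianRing k S
  haveI : IsJacobsonRing S := isJacobsonRing_of_finiteType (A := k)
  rw [localDim_eq_iSup k S]
  apply le_antisymm
  · refine le_iInf fun m => ?_
    haveI := m.2.1
    haveI : m.1.IsPrime := m.2.1.isPrime'
    rw [IsLocalization.AtPrime.ringKrullDim_eq_height m.1]
    apply iSup_le
    rintro ⟨q0, hq0, hle⟩
    haveI := q0.2
    exact ringKrullDim_quotient_le_height k S q0.asIdeal m.1 (le_trans hle m.2.2)
  · obtain ⟨a, hap, ha⟩ := exists_away_dim_le S ⟨p, inferInstance⟩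
    obtain ⟨m, hm, hpm, ham⟩ := exists_maximal_of_notMem p a hap
    refine (iInf_le _ ⟨m, hm, hpm⟩).trans ?_
    haveI : m.IsPrime := hm.isPrime'
    show ringKrullDim (Localization.AtPrime m) ≤ _
    rw [IsLocalization.AtPrime.ringKrullDim_eq_height m]
    exact (height_le_ringKrullDim_away m a ham).trans ha


/-- (1) = (3): let `S` be of finite type over a field `k` and `𝔭` a prime of `S`. The local dimension of
`Spec S` at `𝔭` is the infimum of `dim S_𝔪` over the maximal ideals `𝔪 ⊇ 𝔭`. -/
theorem result {k S : Type u} [Field k] [CommRing S] [Algebra k S] [Algebra.FiniteType k S]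
    (p : Ideal S) [p.IsPrime] :
    FlatMor.localDim (PrimeSpectrum S) ⟨p, inferInstance⟩ =
      ⨅ m : {m : Ideal S // m.IsMaximal ∧ p ≤ m}, ringKrullDim (Localization.AtPrime (hp := m.2.1.isPrime') m.1) := by
  exact result' (k := k) p

end Groth.Agent.S2143
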