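import Groth.Statements.S9448
import Groth.Agent.H14.EtaleDim2
import Groth.Agent.H14.EtaleSpan
import Groth.Agent.S2143

set_option autoImplicit false
universe u
open Unram

namespace Groth.Agent.S9448

theorem trdeg_residueField_of_isMaximal (k : Type u) [Field k] (A : Type u) [CommRing A]
    [Algebra k A] [Algebra.FiniteType k A] (m : Ideal A) [m.IsMaximal] :
    Algebra.trdeg k m.ResidueField = ((0 : ℕ) : Cardinal) := by
  rw [Groth.Agent.H54.trdeg_eq_trdeg_of_isFractionRing k (A ⧸ m) m.ResidueField]
  letI := Ideal.Quotient.field m
  haveI : Module.Finite k (A ⧸ m) := finite_of_finite_type_of_isJacobsonRing k (A ⧸ m)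
  haveI : Algebra.IsAlgebraic k (A ⧸ m) := Algebra.IsAlgebraic.of_finite k (A ⧸ m)
  rw [trdeg_eq_zero]
  simp


/-- For a field k and a finite type algebra A over the polynomial ring k[x_1, …, x_n] (the variables
mapping to a_1, …, a_n), the structure map is étale if and only if (a) the local rings of A at all
maximal ideals have dimension n and (b) da_1, …, da_n generate the module of differentials of A over
k. -/
theorem result (k : Type u) [Field k] (n : ℕ)
    (A : Type u) [CommRing A] [Algebra k A] [Algebra (MvPolynomial (Fin n) k) A]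
    [IsScalarTower k (MvPolynomial (Fin n) k) A] [Algebra.FiniteType (MvPolynomial (Fin n) k) A] :
    Algebra.Etale (MvPolynomial (Fin n) k) A ↔
      (∀ (m : Ideal A) [m.IsMaximal], ringKrullDim (Localization.AtPrime m) = n) ∧
        Submodule.span A (Set.range fun i : Fin n =>
          KaehlerDifferential.D k A (algebraMap (MvPolynomial (Fin n) k) A (MvPolynomial.X i))) = ⊤ := by
  haveI : Algebra.FiniteType k A :=
    Algebra.FiniteType.trans (inferInstance : Algebra.FiniteType k (MvPolynomial (Fin n) k))
      inferInstance
  haveI : Algebra.FinitePresentation (MvPolynomial (Fin n) k) A :=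
    Algebra.FinitePresentation.of_finiteType.mp inferInstance
  rw [← Groth.Agent.H14.EtaleSpan.formallyUnramified_iff_span k (Fin n) A]
  constructor
  · intro h
    refine ⟨fun m _ => ?_, inferInstance⟩
    have := Groth.Agent.H14.EtaleDim2.etale_dim_add_trdeg k n A m 0
      (trdeg_residueField_of_isMaximal k A m)
    simpa using this
  · rintro ⟨hdim, hunr⟩
    rw [← Algebra.etaleLocus_eq_univ_iff_etale, Set.eq_univ_iff_forall]
    intro p
    haveI : Algebra.FormallyUnramified A (Localization.AtPrime p.asIdeal) :=
      Algebra.FormallyUnramified.of_isLocalization p.asIdeal.primeCompl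
    haveI : Algebra.IsUnramifiedAt (MvPolynomial (Fin n) k) p.asIdeal :=
      Algebra.FormallyUnramified.comp (MvPolynomial (Fin n) k) A _
    have hn : (n : WithBot ℕ∞) ≤ FlatMor.localDim (PrimeSpectrum A) ⟨p.asIdeal, inferInstance⟩ := by
      rw [Groth.Agent.S2143.result (k := k) p.asIdeal]
      refine le_iInf fun m => ?_
      haveI := m.2.1
      exact (hdim m.1).ge
    exact Groth.Agent.H14.EtaleDim.isEtaleAt_of_isUnramifiedAt k n A p.asIdeal hn

end Groth.Agent.S9448
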