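import Groth.Statements.S1852
import Mathlib

set_option autoImplicit false
set_option linter.style.haveILetI false
set_option linter.unusedSectionVars false
set_option linter.unusedVariables false
universe u
open CycAlg

namespace Groth.Agent.S1852

section Helpers

open CycDet

/-- localized length at a prime -/
noncomputable def ll {A : Type u} [CommRing A] (p : Ideal A) [p.IsPrime] (N : Type u)
    [AddCommGroup N] [Module A N] : ℕ∞ :=
  Module.length (Localization.AtPrime p) (LocalizedModule p.primeCompl N)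

theorem ll_exact {A : Type u} [CommRing A] (p : Ideal A) [p.IsPrime] {N₁ N₂ N₃ : Type u}
    [AddCommGroup N₁] [Module A N₁] [AddCommGroup N₂] [Module A N₂] [AddCommGroup N₃] [Module A N₃]
    (f : N₁ →ₗ[A] N₂) (g : N₂ →ₗ[A] N₃) (hf : Function.Injective f)
    (hg : Function.Surjective g) (h : Function.Exact f g) :
    ll p N₂ = ll p N₁ + ll p N₃ :=
  Module.length_eq_add_of_exact (LocalizedModule.map p.primeCompl f)
    (LocalizedModule.map p.primeCompl g)
    (LocalizedModule.map_injective _ f hf) (LocalizedModule.map_surjective _ g hg)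
    (LocalizedModule.map_exact _ f g h)

theorem ll_of_subsingleton {A : Type u} [CommRing A] (p : Ideal A) [p.IsPrime] (N : Type u)
    [AddCommGroup N] [Module A N] [Subsingleton N] : ll p N = 0 :=
  Module.length_eq_zero_iff.mpr inferInstance

theorem ll_congr {A : Type u} [CommRing A] (p : Ideal A) [p.IsPrime] {N₁ N₂ : Type u}
    [AddCommGroup N₁] [Module A N₁] [AddCommGroup N₂] [Module A N₂] (e : N₁ ≃ₗ[A] N₂) :
    ll p N₁ = ll p N₂ :=
  (IsLocalizedModule.mapEquiv p.primeCompl (LocalizedModule.mkLinearMap p.primeCompl N₁)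
    (LocalizedModule.mkLinearMap p.primeCompl N₂) (Localization.AtPrime p) e).length_eq

theorem ll_quotient_self {A : Type u} [CommRing A] (q : Ideal A) [q.IsPrime] :
    ll q (A ⧸ q) = 1 := by
  unfold ll
  rw [Module.length_eq_one_iff, isSimpleModule_iff_toSpanSingleton_surjective]
  have hsm : ∀ (r a : A), r • (Ideal.Quotient.mk q a) = Ideal.Quotient.mk q (r * a) :=
    fun _ _ => rfl
  have hmk0 : ∀ (a : A) (s : q.primeCompl),
      (LocalizedModule.mk (Ideal.Quotient.mk q a) s : LocalizedModule q.primeCompl (A ⧸ q)) = 0 →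
        a ∈ q := by
    intro a s h
    rw [← LocalizedModule.zero_mk s, LocalizedModule.mk_eq] at h
    obtain ⟨u, hu⟩ := h
    simp only [smul_zero, Submonoid.smul_def, hsm] at hu
    rw [Ideal.Quotient.eq_zero_iff_mem] at hu
    rcases Ideal.IsPrime.mem_or_mem ‹q.IsPrime› hu with h2 | h2
    · exact absurd h2 u.2
    · rcases Ideal.IsPrime.mem_or_mem ‹q.IsPrime› h2 with h3 | h3
      · exact absurd h3 s.2
      · exact h3
  constructor
  · refine ⟨⟨LocalizedModule.mk (Ideal.Quotient.mk q 1) 1, 0, fun h => ?_⟩⟩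
    exact (Ideal.ne_top_iff_one q).mp (Ideal.IsPrime.ne_top ‹q.IsPrime›) (hmk0 1 1 h)
  · intro x
    refine LocalizedModule.induction_on (fun m s => ?_) x
    intro hx y
    refine LocalizedModule.induction_on (fun n t => ?_) y
    obtain ⟨a, rfl⟩ := Ideal.Quotient.mk_surjective m
    obtain ⟨b, rfl⟩ := Ideal.Quotient.mk_surjective n
    have ha : a ∉ q := fun ha => hx (by
      rw [Ideal.Quotient.eq_zero_iff_mem.mpr ha, LocalizedModule.zero_mk])
    refine ⟨Localization.mk (b * s) (⟨a, ha⟩ * t), ?_⟩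
    rw [LinearMap.toSpanSingleton_apply, LocalizedModule.mk_smul_mk]
    refine LocalizedModule.mk_eq.mpr ⟨1, ?_⟩
    simp only [one_smul, Submonoid.smul_def, Submonoid.coe_mul, hsm]
    congr 1
    ring

theorem ll_step {A : Type u} [CommRing A] (p : Ideal A) [p.IsPrime] {M : Type u} [AddCommGroup M]
    [Module A M] (N N' : Submodule A M) (h : N ≤ N')
    (e : (↥N' ⧸ N.submoduleOf N') ≃ₗ[A] (A ⧸ p)) :
    ll p ↥N' = ll p ↥N + 1 := by
  rw [ll_exact p (N.submoduleOf N').subtype (N.submoduleOf N').mkQ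
    (Submodule.injective_subtype _) (Submodule.mkQ_surjective _)
    (LinearMap.exact_subtype_mkQ _), ll_congr p (Submodule.submoduleOfEquivOfLe h),
    ll_congr p e, ll_quotient_self]

theorem key_assoc {A : Type u} [CommRing A] [IsNoetherianRing A] {M : Type u} [AddCommGroup M]
    [Module A M] [Module.Finite A M] (q : PrimeSpectrum A)
    (hq : Minimal (fun p : PrimeSpectrum A => p ∈ Module.support A M) q)
    (N : Submodule A M) (hN : q ∈ Module.support A (M ⧸ N)) :
    ∃ y : M, ∀ r : A, r • y ∈ N ↔ r ∈ q.asIdeal := by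
  have hsub : Module.support A (M ⧸ N) ⊆ Module.support A M :=
    Module.support_subset_of_surjective N.mkQ N.mkQ_surjective
  have hmin : q.asIdeal ∈ (Module.annihilator A (M ⧸ N)).minimalPrimes := by
    refine ⟨⟨q.2, Module.mem_support_iff_of_finite.mp hN⟩, ?_⟩
    rintro p ⟨hp, hpa⟩ hpq
    have hmem : (⟨p, hp⟩ : PrimeSpectrum A) ∈ Module.support A (M ⧸ N) :=
      Module.mem_support_iff_of_finite.mpr hpa
    exact hq.2 (hsub hmem) hpq
  have hass : q.asIdeal ∈ associatedPrimes A (M ⧸ N) :=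
    Module.associatedPrimes.minimalPrimes_annihilator_subset_associatedPrimes A (M ⧸ N) hmin
  obtain ⟨-, z, hz⟩ := isAssociatedPrime_iff.mp hass
  obtain ⟨y, rfl⟩ := N.mkQ_surjective z
  refine ⟨y, fun r => ?_⟩
  rw [hz, Submodule.mem_colon_singleton, Submodule.mem_bot, ← map_smul, Submodule.mkQ_apply,
    Submodule.Quotient.mk_eq_zero]

theorem equiv_last {A : Type u} [CommRing A] {M : Type u} [AddCommGroup M] [Module A M]
    (I : Ideal A) (N N' : Submodule A M) (y : M) (hy : y ∈ N')
    (hle : N' ≤ N ⊔ Submodule.span A {y}) (hcol : ∀ r : A, r • y ∈ N ↔ r ∈ I) :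
    Nonempty ((↥N' ⧸ N.submoduleOf N') ≃ₗ[A] (A ⧸ I)) := by
  obtain ⟨f, hf⟩ : ∃ f : A →ₗ[A] (↥N' ⧸ N.submoduleOf N'),
      f = (N.submoduleOf N').mkQ ∘ₗ LinearMap.toSpanSingleton A ↥N' ⟨y, hy⟩ := ⟨_, rfl⟩
  have hfa : ∀ r : A, f r = (N.submoduleOf N').mkQ (r • (⟨y, hy⟩ : ↥N')) := by
    intro r; rw [hf]; rfl
  have hker : LinearMap.ker f = I := by
    ext r
    rw [LinearMap.mem_ker, hfa, Submodule.mkQ_apply, Submodule.Quotient.mk_eq_zero]
    exact hcol r
  have hsurj : Function.Surjective f := by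
    intro z
    obtain ⟨⟨n, hn⟩, rfl⟩ := (N.submoduleOf N').mkQ_surjective z
    obtain ⟨a, ha, b, hb, hab⟩ := Submodule.mem_sup.mp (hle hn)
    obtain ⟨r, rfl⟩ := Submodule.mem_span_singleton.mp hb
    refine ⟨r, ?_⟩
    rw [hfa, Submodule.mkQ_apply, Submodule.mkQ_apply, Submodule.Quotient.eq]
    have h1 : ((r • (⟨y, hy⟩ : ↥N') - ⟨n, hn⟩ : ↥N') : M) = -a := by
      show r • y - n = -a
      rw [← hab]; abel
    show ((r • (⟨y, hy⟩ : ↥N') - ⟨n, hn⟩ : ↥N') : M) ∈ N
    rw [h1]; exact N.neg_mem ha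
  have e1 : (A ⧸ LinearMap.ker f) ≃ₗ[A] (↥N' ⧸ N.submoduleOf N') :=
    LinearMap.quotKerEquivOfSurjective f hsurj
  have e2 : (A ⧸ LinearMap.ker f) ≃ₗ[A] (A ⧸ I) := Submodule.quotEquivOfEq _ _ hker
  exact ⟨e1.symm.trans e2⟩

theorem nonempty_congr {A : Type u} [CommRing A] {M : Type u} [AddCommGroup M] [Module A M]
    (I : Ideal A) {P P' Q Q' : Submodule A M} (hP : P = P') (hQ : Q = Q')
    (h : Nonempty ((↥Q ⧸ P.submoduleOf Q) ≃ₗ[A] (A ⧸ I))) :
    Nonempty ((↥Q' ⧸ P'.submoduleOf Q') ≃ₗ[A] (A ⧸ I)) := by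
  subst hP; subst hQ; exact h

variable {R : Type u} [CommRing R] [IsLocalRing R] {M : Type u} [AddCommGroup M] [Module R M]

theorem sb_mono {l : ℕ} (x : Fin l → M) {i j : ℕ} (h : i ≤ j) :
    spanBefore R M x i ≤ spanBefore R M x j := by
  unfold spanBefore
  apply Submodule.span_mono
  apply Set.image_mono
  intro k hk
  show ((k : Fin l) : ℕ) < j
  exact lt_of_lt_of_le hk h

theorem sb_zero {l : ℕ} (x : Fin l → M) : spanBefore R M x 0 = ⊥ := by
  unfold spanBefore
  rw [Submodule.span_eq_bot]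
  rintro _ ⟨j, hj, rfl⟩
  exact absurd hj (Nat.not_lt_zero _)

theorem sb_top {l : ℕ} (x : Fin l → M) :
    spanBefore R M x l = Submodule.span R (Set.range x) := by
  unfold spanBefore
  congr 1
  ext m
  constructor
  · rintro ⟨j, _, rfl⟩; exact ⟨j, rfl⟩
  · rintro ⟨j, rfl⟩; exact ⟨j, j.2, rfl⟩

theorem sb_snoc_le {l : ℕ} (x : Fin l → M) (y : M) {i : ℕ} (h : i ≤ l) :
    spanBefore R M (Fin.snoc (α := fun _ => M) x y : Fin (l + 1) → M) i =
      spanBefore R M x i := by
  unfold spanBefore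
  congr 1
  ext m
  constructor
  · rintro ⟨j, hj, rfl⟩
    have hj' : (j : ℕ) < i := hj
    obtain ⟨j', rfl⟩ : ∃ j' : Fin l, j = Fin.castSucc j' :=
      ⟨⟨j, lt_of_lt_of_le hj' h⟩, Fin.ext rfl⟩
    exact ⟨j', hj', (Fin.snoc_castSucc (α := fun _ => M) y x j').symm⟩
  · rintro ⟨j, hj, rfl⟩
    exact ⟨Fin.castSucc j, hj, Fin.snoc_castSucc (α := fun _ => M) y x j⟩

theorem sb_snoc_succ_le {l : ℕ} (x : Fin l → M) (y : M) :
    spanBefore R M (Fin.snoc (α := fun _ => M) x y : Fin (l + 1) → M) (l + 1) ≤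
      spanBefore R M x l ⊔ Submodule.span R {y} := by
  unfold spanBefore
  rw [Submodule.span_le]
  rintro _ ⟨j, -, rfl⟩
  rcases Fin.eq_castSucc_or_eq_last j with ⟨j', rfl⟩ | rfl
  · rw [Fin.snoc_castSucc]
    exact Submodule.mem_sup_left (Submodule.subset_span ⟨j', j'.2, rfl⟩)
  · rw [Fin.snoc_last]
    exact Submodule.mem_sup_right (Submodule.mem_span_singleton_self y)

theorem mem_sb_snoc {l : ℕ} (x : Fin l → M) (y : M) :
    y ∈ spanBefore R M (Fin.snoc (α := fun _ => M) x y : Fin (l + 1) → M) (l + 1) := by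
  unfold spanBefore
  refine Submodule.subset_span ⟨Fin.last l, ?_, ?_⟩
  · show ((Fin.last l : Fin (l + 1)) : ℕ) < l + 1
    exact Nat.lt_succ_self l
  · exact Fin.snoc_last (α := fun _ => M) y x

/-- the "good sequence" condition -/
def Good (q : Ideal R) {l : ℕ} (x : Fin l → M) : Prop :=
  ∀ i : Fin l, Nonempty ((↥(spanBefore R M x (i + 1)) ⧸
    (spanBefore R M x i).submoduleOf (spanBefore R M x (i + 1))) ≃ₗ[R] (R ⧸ q))

theorem good_snoc (q : Ideal R) {l : ℕ} (x : Fin l → M) (y : M)
    (hgood : Good q x)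
    (hy : ∀ r : R, r • y ∈ Submodule.span R (Set.range x) ↔ r ∈ q) :
    Good q (Fin.snoc (α := fun _ => M) x y : Fin (l + 1) → M) := by
  intro i
  rcases Fin.eq_castSucc_or_eq_last i with ⟨j, rfl⟩ | rfl
  · have h1 : spanBefore R M (Fin.snoc (α := fun _ => M) x y : Fin (l + 1) → M) (j : ℕ) =
        spanBefore R M x (j : ℕ) := sb_snoc_le x y (le_of_lt j.2)
    have h2 : spanBefore R M (Fin.snoc (α := fun _ => M) x y : Fin (l + 1) → M) ((j : ℕ) + 1) =
        spanBefore R M x ((j : ℕ) + 1) := sb_snoc_le x y j.2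
    exact nonempty_congr q h1.symm h2.symm (hgood j)
  · have h1 : spanBefore R M (Fin.snoc (α := fun _ => M) x y : Fin (l + 1) → M) l =
        Submodule.span R (Set.range x) := by
      rw [← sb_top x]; exact sb_snoc_le x y le_rfl
    have hle' : spanBefore R M (Fin.snoc (α := fun _ => M) x y : Fin (l + 1) → M) (l + 1) ≤
        Submodule.span R (Set.range x) ⊔ Submodule.span R {y} := by
      rw [← sb_top x]; exact sb_snoc_succ_le x y
    exact nonempty_congr q h1.symm rfl
      (equiv_last q (Submodule.span R (Set.range x))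
        (spanBefore R M (Fin.snoc (α := fun _ => M) x y : Fin (l + 1) → M) (l + 1)) y
        (mem_sb_snoc x y) hle' hy)

theorem part1 [IsNoetherianRing R] [Module.Finite R M] (q : PrimeSpectrum R)
    (hq : Minimal (fun p : PrimeSpectrum R => p ∈ Module.support R M) q) :
    ∃ (l : ℕ) (x : Fin l → M),
      q ∉ Module.support R (M ⧸ Submodule.span R (Set.range x)) ∧ Good q.asIdeal x := by
  have claim : ∀ N : Submodule R M, ∀ (l : ℕ) (x : Fin l → M),
      Submodule.span R (Set.range x) = N → Good q.asIdeal x →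
      ∃ (l' : ℕ) (x' : Fin l' → M),
        q ∉ Module.support R (M ⧸ Submodule.span R (Set.range x')) ∧ Good q.asIdeal x' := by
    intro N
    induction N using WellFoundedGT.induction with
    | ind N ih =>
      intro l x hxN hgood
      subst hxN
      by_cases hsupp : q ∈ Module.support R (M ⧸ Submodule.span R (Set.range x))
      · obtain ⟨y, hy⟩ := key_assoc q hq _ hsupp
        have hyN : y ∉ Submodule.span R (Set.range x) := by
          intro h
          have h1 : (1 : R) ∈ q.asIdeal := (hy 1).mp (by rwa [one_smul])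
          exact q.2.ne_top ((Ideal.eq_top_iff_one _).mpr h1)
        have hlt : Submodule.span R (Set.range x) <
            Submodule.span R (Set.range (Fin.snoc (α := fun _ => M) x y : Fin (l + 1) → M)) := by
          rw [SetLike.lt_iff_le_and_exists]
          refine ⟨?_, y, ?_, hyN⟩
          · rw [Submodule.span_le]
            rintro _ ⟨j, rfl⟩
            exact Submodule.subset_span
              ⟨Fin.castSucc j, Fin.snoc_castSucc (α := fun _ => M) y x j⟩
          · exact Submodule.subset_span ⟨Fin.last l, Fin.snoc_last (α := fun _ => M) y x⟩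
        exact ih _ hlt (l + 1) _ rfl (good_snoc q.asIdeal x y hgood hy)
      · exact ⟨l, x, hsupp, hgood⟩
  exact claim _ 0 (fun i => i.elim0) rfl (fun i => i.elim0)

theorem part2 (q : PrimeSpectrum R) {l : ℕ} (x : Fin l → M)
    (hsupp : q ∉ Module.support R (M ⧸ Submodule.span R (Set.range x)))
    (hx : Good q.asIdeal x) :
    (l : ℕ∞) = Module.length (Localization.AtPrime q.asIdeal)
      (LocalizedModule q.asIdeal.primeCompl M) := by
  have hind : ∀ i : ℕ, i ≤ l → ll q.asIdeal ↥(spanBefore R M x i) = (i : ℕ∞) := by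
    intro i
    induction i with
    | zero =>
      intro _
      haveI : Subsingleton ↥(spanBefore R M x 0) := by rw [sb_zero]; infer_instance
      rw [ll_of_subsingleton]; rfl
    | succ i ih =>
      intro hi
      obtain ⟨e⟩ := hx ⟨i, hi⟩
      rw [ll_step q.asIdeal (spanBefore R M x i) (spanBefore R M x (i + 1))
        (sb_mono x (Nat.le_succ i)) e, ih (Nat.le_of_succ_le hi)]
      push_cast; rfl
  have h1 := hind l le_rfl
  rw [sb_top] at h1
  have h2 : ll q.asIdeal M = ll q.asIdeal ↥(Submodule.span R (Set.range x)) +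
      ll q.asIdeal (M ⧸ Submodule.span R (Set.range x)) :=
    ll_exact q.asIdeal (Submodule.subtype _) (Submodule.mkQ _) (Submodule.injective_subtype _)
      (Submodule.mkQ_surjective _) (LinearMap.exact_subtype_mkQ _)
  have h3 : ll q.asIdeal (M ⧸ Submodule.span R (Set.range x)) = 0 := by
    unfold ll
    rw [Module.length_eq_zero_iff]
    exact Module.notMem_support_iff.mp hsupp
  change (l : ℕ∞) = ll q.asIdeal M
  rw [h2, h1, h3, add_zero]

end Helpers


/-- Let R be a Noetherian local ring, M a finite R-module and 𝔮 a minimal prime of the support of M.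
There are x₁, …, x_l in M such that 𝔮 is not in the support of M/⟨x₁, …, x_l⟩ and each ⟨x₁, …,
x_i⟩/⟨x₁, …, x_{i−1}⟩ is isomorphic to R/𝔮; and for any such sequence l equals the length of M_𝔮
over R_𝔮. -/
theorem result (R : Type u) [CommRing R] [IsNoetherianRing R] [IsLocalRing R] (M : Type u) [AddCommGroup M] [Module R M] [Module.Finite R M] (q : PrimeSpectrum R) (hq : Minimal (fun p : PrimeSpectrum R => p ∈ Module.support R M) q) : (∃ (l : ℕ) (x : Fin l → M), q ∉ Module.support R (M ⧸ Submodule.span R (Set.range x)) ∧ ∀ i : Fin l, Nonempty ((↥(CycDet.spanBefore R M x (i + 1)) ⧸ (CycDet.spanBefore R M x i).submoduleOf (CycDet.spanBefore R M x (i + 1))) ≃ₗ[R] (R ⧸ q.asIdeal))) ∧ ∀ (l : ℕ) (x : Fin l → M), q ∉ Module.support R (M ⧸ Submodule.span R (Set.range x)) → (∀ i : Fin l, Nonempty ((↥(CycDet.spanBefore R M x (i + 1)) ⧸ (CycDet.spanBefore R M x i).submoduleOf (CycDet.spanBefore R M x (i + 1))) ≃ₗ[R] (R ⧸ q.asIdeal))) → (l : ℕ∞) = Module.length (Localization.AtPrime q.asIdeal)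 (LocalizedModule q.asIdeal.primeCompl M) := by
  refine ⟨?_, ?_⟩
  · obtain ⟨l, x, h1, h2⟩ := part1 q hq
    exact ⟨l, x, h1, h2⟩
  · intro l x h1 h2
    exact part2 q x h1 h2

end Groth.Agent.S1852
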