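import Groth.Statements.S14359
import Mathlib.RingTheory.Ideal.KrullsHeightTheorem
import Mathlib.RingTheory.IntegralClosure.Algebra.Basic
import Mathlib.RingTheory.Localization.FractionRing
import Mathlib.Tactic.Ring
import Mathlib.Tactic.LinearCombination
import Mathlib.Tactic.FieldSimp

set_option autoImplicit false
universe u
open CAlg

namespace Groth.Agent.S14359

/-- Let A be a Noetherian integrally closed integral domain and b a nonzero element of A. Then every
associated prime of the A-module A/(b) has height one, so that A/(b) has no embedded associated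
primes. -/
theorem result
    (A : Type u) [CommRing A] [IsDomain A] [IsNoetherianRing A] [IsIntegrallyClosed A]
    (b : A) (hb : b ≠ 0) (p : Ideal A) (hp : p ∈ associatedPrimes A (A ⧸ Ideal.span {b})) :
    p.height = 1 := by
  obtain ⟨hprime, x, hx⟩ := (isAssociatedPrime_iff.mp hp)
  obtain ⟨a, rfl⟩ := Ideal.Quotient.mk_surjective x
  have hpa : ∀ r, r ∈ p ↔ b ∣ r * a := by
    intro r
    have e : r • (Ideal.Quotient.mk (Ideal.span {b}) a) =
        Ideal.Quotient.mk (Ideal.span {b}) (r * a) := rfl
    rw [hx, Submodule.mem_colon_singleton, Submodule.mem_bot, e,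
      Ideal.Quotient.eq_zero_iff_mem, Ideal.mem_span_singleton]
  have hbp : b ∈ p := (hpa b).mpr (Dvd.intro a rfl)
  have hnot : ¬ b ∣ a := by
    intro h
    have h1 : (1 : A) ∈ p := (hpa 1).mpr (by rwa [one_mul])
    exact hprime.ne_top ((Ideal.eq_top_iff_one p).mpr h1)
  have hpbot : p ≠ ⊥ := fun h => hb (by rw [h] at hbp; exact Ideal.mem_bot.mp hbp)
  have h1 : 1 ≤ p.height := by
    rw [Order.one_le_iff_ne_zero, Ne, Ideal.height_eq_zero_iff_eq_bot]
    exact hpbot
  -- key claim
  have hclaim : ∃ x ∈ p, ∃ y, y ∉ p ∧ b * y = a * x := by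
    by_contra hcon
    have hcon' : ∀ x ∈ p, ∀ y, b * y = a * x → y ∈ p := fun x hx y hy =>
      by_contra fun hyp => hcon ⟨x, hx, y, hyp, hy⟩
    have hbK : algebraMap A (FractionRing A) b ≠ 0 := by
      rwa [Ne, map_eq_zero_iff _ (IsFractionRing.injective A (FractionRing A))]
    have hN : Submodule.map (Algebra.linearMap A (FractionRing A)) p ≠ ⊥ := by
      intro h
      have h2 : algebraMap A (FractionRing A) b ∈
          Submodule.map (Algebra.linearMap A (FractionRing A)) p :=
        Submodule.mem_map_of_mem hbp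
      rw [h, Submodule.mem_bot] at h2
      exact hbK h2
    have hN' : (Submodule.map (Algebra.linearMap A (FractionRing A)) p).FG :=
      (IsNoetherian.noetherian p).map _
    have hsm : ∀ n ∈ Submodule.map (Algebra.linearMap A (FractionRing A)) p,
        (algebraMap A (FractionRing A) a / algebraMap A (FractionRing A) b) • n ∈
          Submodule.map (Algebra.linearMap A (FractionRing A)) p := by
      rintro n ⟨z, hz, rfl⟩
      obtain ⟨w, hw⟩ := (hpa z).mp hz
      have hwp : w ∈ p := hcon' z hz w (by rw [← hw]; ring)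
      refine ⟨w, hwp, ?_⟩
      rw [Algebra.linearMap_apply, Algebra.linearMap_apply, smul_eq_mul, div_mul_eq_mul_div,
        eq_div_iff hbK, ← map_mul, ← map_mul]
      congr 1
      linear_combination -hw
    have hint : IsIntegral A
        (algebraMap A (FractionRing A) a / algebraMap A (FractionRing A) b) :=
      isIntegral_of_smul_mem_submodule _ hN hN' _ hsm
    obtain ⟨c, hc⟩ := IsIntegrallyClosed.isIntegral_iff.mp hint
    apply hnot
    refine ⟨c, ?_⟩
    apply IsFractionRing.injective A (FractionRing A)
    rw [map_mul, hc]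
    field_simp
  obtain ⟨x, hxp, y, hyp, hxy⟩ := hclaim
  have hmin : p ∈ (Ideal.span {x}).minimalPrimes := by
    refine ⟨⟨hprime, (Ideal.span_singleton_le_iff_mem _).mpr hxp⟩, ?_⟩
    rintro q ⟨hq, hxq⟩ hqp z hz
    obtain ⟨w, hw⟩ := (hpa z).mp hz
    have hyz : y * z = x * w := by
      apply mul_left_cancel₀ hb
      linear_combination z * hxy + x * hw
    have h3 : y * z ∈ q := by
      rw [hyz]
      exact q.mul_mem_right _ (hxq (Ideal.mem_span_singleton_self x))
    rcases hq.mem_or_mem h3 with h | h
    · exact absurd (hqp h) hyp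
    · exact h
  have : (Ideal.span {x}).IsPrincipal := ⟨⟨x, rfl⟩⟩
  have h2 : p.height ≤ 1 :=
    Ideal.height_le_one_of_isPrincipal_of_mem_minimalPrimes _ p hmin
  exact le_antisymm h2 h1

end Groth.Agent.S14359
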