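import Groth.Statements.S1763
import Groth.Agent.H58.LCLocS
import Groth.Agent.H58.LCTors
import Groth.Agent.H58.LCFalt

set_option autoImplicit false
universe u
open LocCoh Groth.Agent.H58.LC

namespace Groth.Agent.S1763

section closure

variable {A : Type u} [CommRing A] [IsNoetherianRing A] (I : Ideal A)

theorem finite_of_exact {X Y Z : Type u} [AddCommGroup X] [Module A X] [AddCommGroup Y]
    [Module A Y] [AddCommGroup Z] [Module A Z] (f : X →ₗ[A] Y) (g : Y →ₗ[A] Z)
    (h : Function.Exact f g) [Module.Finite A X] [Module.Finite A Z] : Module.Finite A Y := by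
  refine Module.finite_def.2 (Submodule.fg_of_fg_map_of_fg_inf_ker g ?_ ?_)
  · exact IsNoetherian.noetherian _
  · rw [top_inf_eq, h.linearMap_ker_eq, LinearMap.range_eq_map]
    exact (Module.Finite.fg_top).map f

variable {N N' N'' : Type u} [AddCommGroup N] [Module A N] [AddCommGroup N'] [Module A N']
  [AddCommGroup N''] [Module A N'']

/-- submodules -/
theorem C_of_injective (f : N →ₗ[A] N') (hf : Function.Injective f) [Module.Finite A N']
    (h : Module.Finite A (LocCoh.H I 1 N')) : Module.Finite A (LocCoh.H I 1 N) := by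
  obtain ⟨δ, -, -, hex, -⟩ := les_mod I f (LinearMap.range f).mkQ hf
    (Submodule.mkQ_surjective _) (LinearMap.exact_map_mkQ_range f) 0
  haveI := finite_H_zero I (N' ⧸ LinearMap.range f)
  exact finite_of_exact δ _ hex

/-- extensions -/
theorem C_of_exact (f : N' →ₗ[A] N) (g : N →ₗ[A] N'') (hf : Function.Injective f)
    (hg : Function.Surjective g) (hfg : Function.Exact f g)
    (h' : Module.Finite A (LocCoh.H I 1 N')) (h'' : Module.Finite A (LocCoh.H I 1 N'')) :
    Module.Finite A (LocCoh.H I 1 N) := by
  obtain ⟨δ, -, -, -, hex⟩ := les_mod I f g hf hg hfg 0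
  exact finite_of_exact _ _ hex

/-- torsion modules -/
theorem C_of_isPowerTorsion (h : LocCoh.IsPowerTorsion I N) :
    Module.Finite A (LocCoh.H I 1 N) := by
  haveI := subsingleton_H_of_isPowerTorsion I 0 N h
  exact Module.Finite.of_finite

theorem C_of_subsingleton [Subsingleton N] : Module.Finite A (LocCoh.H I 1 N) :=
  C_of_isPowerTorsion I (fun m => ⟨0, fun a _ => Subsingleton.elim _ _⟩)

end closure

section coprimary

variable {A : Type u} [CommRing A] [IsNoetherianRing A] (I : Ideal A)
  (N : Type u) [AddCommGroup N] [Module A N] [Module.Finite A N] (p : Ideal A) [hp : p.IsPrime]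

theorem C_of_coprimary (k : ℕ) (hk : ∀ a ∈ p ^ k, ∀ x : N, a • x = 0)
    (hreg : ∀ s : A, s ∉ p → ∀ x : N, s • x = 0 → x = 0)
    (hC : ¬ I ≤ p → Module.Finite A (LocCoh.H I 1 (A ⧸ p))) :
    Module.Finite A (LocCoh.H I 1 N) := by
  by_cases hIp : I ≤ p
  · exact C_of_isPowerTorsion I (fun x => ⟨k, fun a ha => hk a (Ideal.pow_right_mono hIp k ha) x⟩)
  have hCp := hC hIp
  have h1p : (1 : A) ∉ p := (Ideal.ne_top_iff_one p).1 hp.ne_top
  have key : ∀ L : Submodule A N, (∀ s : A, s ∉ p → ∀ x : N, s • x ∈ L → x ∈ L) →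
      Module.Finite A (LocCoh.H I 1 (N ⧸ L)) := by
    intro L
    refine IsNoetherian.induction (P := fun L : Submodule A N =>
      (∀ s : A, s ∉ p → ∀ x : N, s • x ∈ L → x ∈ L) →
        Module.Finite A (LocCoh.H I 1 (N ⧸ L))) ?_ L
    intro L IH hsat
    by_cases hL : L = ⊤
    · haveI : Subsingleton (N ⧸ L) := Submodule.Quotient.subsingleton_iff.2 hL
      exact C_of_subsingleton I
    haveI : Nontrivial (N ⧸ L) := Submodule.Quotient.nontrivial_iff.2 hL
    obtain ⟨P, hP⟩ := associatedPrimes.nonempty A (N ⧸ L)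
    obtain ⟨hPp, x', hPx⟩ := (isAssociatedPrime_iff).1 hP
    obtain ⟨x, rfl⟩ := Submodule.Quotient.mk_surjective _ x'
    have hPx' : ∀ r : A, r ∈ P ↔ r • x ∈ L := by
      intro r
      rw [hPx, Submodule.mem_colon_singleton, Submodule.mem_bot, ← Submodule.Quotient.mk_smul,
        Submodule.Quotient.mk_eq_zero]
    have hPp' : P = p := by
      refine le_antisymm ?_ ?_
      · intro r hr
        by_contra hrp
        have hxL := hsat r hrp x ((hPx' r).1 hr)
        apply hPp.ne_top
        rw [Ideal.eq_top_iff_one, hPx', one_smul]; exact hxL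
      · intro r hr
        apply hPp.mem_of_pow_mem k
        rw [hPx', hk _ (Ideal.pow_mem_pow hr k)]
        exact L.zero_mem
    subst hPp'
    let L' : Submodule A N :=
      { carrier := {y | ∃ s : A, s ∉ P ∧ s • y ∈ L ⊔ Submodule.span A {x}}
        zero_mem' := ⟨1, h1p, by rw [smul_zero]; exact Submodule.zero_mem _⟩
        add_mem' := by
          rintro y₁ y₂ ⟨s₁, hs₁, h₁⟩ ⟨s₂, hs₂, h₂⟩
          refine ⟨s₁ * s₂, fun h => (hp.mem_or_mem h).elim hs₁ hs₂, ?_⟩
          rw [smul_add]
          refine Submodule.add_mem _ ?_ ?_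
          · rw [mul_comm, mul_smul]; exact Submodule.smul_mem _ _ h₁
          · rw [mul_smul]; exact Submodule.smul_mem _ _ h₂
        smul_mem' := by
          rintro r y ⟨s, hs, h⟩
          exact ⟨s, hs, by rw [smul_comm]; exact Submodule.smul_mem _ _ h⟩ }
    have hLL' : L ≤ L' := fun y hy =>
      ⟨1, h1p, by rw [one_smul]; exact Submodule.mem_sup_left hy⟩
    have hxL' : x ∈ L' :=
      ⟨1, h1p, by rw [one_smul]; exact Submodule.mem_sup_right (Submodule.mem_span_singleton_self x)⟩
    have hxL : x ∉ L := fun h => h1p ((hPx' 1).2 (by rwa [one_smul]))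
    have hlt : L < L' := lt_of_le_of_ne hLL' (fun h => hxL (h ▸ hxL'))
    have hsat' : ∀ s : A, s ∉ P → ∀ y : N, s • y ∈ L' → y ∈ L' := by
      rintro s hs y ⟨s', hs', h⟩
      exact ⟨s' * s, fun h => (hp.mem_or_mem h).elim hs' hs, by rwa [mul_smul]⟩
    have hC' := IH L' hlt hsat'
    obtain ⟨s₀, hs₀, hs₀L⟩ : ∃ s₀ : A, s₀ ∉ P ∧ ∀ y ∈ L', s₀ • y ∈ L ⊔ Submodule.span A {x} := by
      have := exists_smul_eq_zero_of_fg P.primeCompl
        (L'.map (L ⊔ Submodule.span A {x}).mkQ) ((IsNoetherian.noetherian L').map _) ?_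
      · obtain ⟨s₀, hs₀, h⟩ := this
        refine ⟨s₀, hs₀, fun y hy => ?_⟩
        have := h _ (Submodule.mem_map_of_mem hy)
        rwa [Submodule.mkQ_apply, ← Submodule.Quotient.mk_smul,
          Submodule.Quotient.mk_eq_zero] at this
      · rintro _ ⟨y, ⟨s, hs, h⟩, rfl⟩
        exact ⟨s, hs, by
          rw [Submodule.mkQ_apply, ← Submodule.Quotient.mk_smul, Submodule.Quotient.mk_eq_zero]
          exact h⟩
    let xb : N ⧸ L := Submodule.Quotient.mk x
    have hker : LinearMap.ker (LinearMap.toSpanSingleton A (N ⧸ L) xb) = P := by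
      ext r
      rw [LinearMap.mem_ker, LinearMap.toSpanSingleton_apply, ← Submodule.Quotient.mk_smul,
        Submodule.Quotient.mk_eq_zero, ← hPx']
    let ψ : (A ⧸ P) →ₗ[A] (N ⧸ L) :=
      Submodule.liftQ P (LinearMap.toSpanSingleton A (N ⧸ L) xb) (le_of_eq hker.symm)
    have hψinj : Function.Injective ψ := by
      rw [← LinearMap.ker_eq_bot]
      exact Submodule.ker_liftQ_eq_bot _ _ _ (le_of_eq hker)
    let K : Submodule A (N ⧸ L) := L'.map L.mkQ
    have hKψ : ∀ z ∈ K, (LinearMap.lsmul A (N ⧸ L) s₀) z ∈ LinearMap.range ψ := by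
      rintro _ ⟨y, hy, rfl⟩
      obtain ⟨l, hl, w, hw, hlw⟩ := Submodule.mem_sup.1 (hs₀L y hy)
      obtain ⟨r, rfl⟩ := Submodule.mem_span_singleton.1 hw
      refine ⟨Submodule.Quotient.mk r, ?_⟩
      show (LinearMap.toSpanSingleton A (N ⧸ L) xb) r = s₀ • L.mkQ y
      rw [LinearMap.toSpanSingleton_apply, Submodule.mkQ_apply, ← Submodule.Quotient.mk_smul,
        ← Submodule.Quotient.mk_smul, ← hlw, Submodule.Quotient.mk_add,
        (Submodule.Quotient.mk_eq_zero L).2 hl, zero_add]
    let φ : K →ₗ[A] LinearMap.range ψ := (LinearMap.lsmul A (N ⧸ L) s₀).restrict hKψ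
    have hφinj : Function.Injective φ := by
      rw [← LinearMap.ker_eq_bot, LinearMap.ker_eq_bot']
      rintro ⟨z, hz⟩ h0
      obtain ⟨y, hy, rfl⟩ := hz
      have h1 : s₀ • (L.mkQ y) = 0 := congrArg Subtype.val h0
      rw [Submodule.mkQ_apply, ← Submodule.Quotient.mk_smul, Submodule.Quotient.mk_eq_zero] at h1
      have := hsat s₀ hs₀ y h1
      exact Subtype.ext ((Submodule.Quotient.mk_eq_zero L).2 this)
    have hCK : Module.Finite A (LocCoh.H I 1 K) :=
      C_of_injective I ((LinearEquiv.ofInjective ψ hψinj).symm.toLinearMap ∘ₗ φ)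
        (by rw [LinearMap.coe_comp, LinearEquiv.coe_coe]
            exact (LinearEquiv.injective _).comp hφinj) hCp
    let g : (N ⧸ L) →ₗ[A] (N ⧸ L') := L.mapQ L' LinearMap.id (by simpa using hLL')
    have hg : Function.Surjective g := by
      intro z; obtain ⟨y, rfl⟩ := Submodule.Quotient.mk_surjective _ z
      exact ⟨Submodule.Quotient.mk y, rfl⟩
    have hex : Function.Exact K.subtype g := by
      intro z
      obtain ⟨y, rfl⟩ := Submodule.Quotient.mk_surjective _ z
      constructor
      · intro h
        have : y ∈ L' := (Submodule.Quotient.mk_eq_zero L').1 h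
        exact ⟨⟨_, Submodule.mem_map_of_mem this⟩, rfl⟩
      · rintro ⟨⟨_, y', hy', rfl⟩, h⟩
        have : y ∈ L' := by
          have h2 : y' - y ∈ L := by rw [← Submodule.Quotient.eq]; exact h
          have h3 : y = y' - (y' - y) := by abel
          rw [h3]; exact L'.sub_mem hy' (hLL' h2)
        exact (Submodule.Quotient.mk_eq_zero L').2 this
    exact C_of_exact I K.subtype g (Submodule.injective_subtype K) hg hex hCK hC'
  have h0 := key ⊥ (fun s hs x hx => by
    rw [Submodule.mem_bot] at hx ⊢; exact hreg s hs x hx)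
  exact C_of_injective I (⊥ : Submodule A N).mkQ
    (by rw [← LinearMap.ker_eq_bot, Submodule.ker_mkQ]) h0

end coprimary

/-- Fix a Noetherian ring A, an ideal I of A and a finitely generated A-module M. The local cohomology
module H¹_I(M) is finitely generated over A if and only if, for each associated prime p of M with I
⊄ p, the module H¹_I(A/p) is finitely generated over A. (Affine form, through finiteness of H¹_I, of
a statement about coherence of direct images along the inclusion of the open complement of V(I).) -/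
theorem result (A : Type u) [CommRing A] [IsNoetherianRing A] (I : Ideal A) (M : Type u) [AddCommGroup M] [Module A M] [Module.Finite A M] : Module.Finite A (LocCoh.H I 1 M) ↔ ∀ p : Ideal A, p ∈ associatedPrimes A M → ¬ I ≤ p → Module.Finite A (LocCoh.H I 1 (A ⧸ p)) := by
  classical
  constructor
  · intro h p hp _
    obtain ⟨-, ι, hι⟩ := (isAssociatedPrime_iff_exists_injective_linearMap p M).1 hp
    exact C_of_injective I ι hι h
  · intro h
    obtain ⟨t, ht⟩ :=
      Submodule.IsLasker.exists_isMinimalPrimaryDecomposition (Submodule.isLasker A M)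
        (⊥ : Submodule A M)
    have hq : ∀ q ∈ t, Module.Finite A (LocCoh.H I 1 (M ⧸ q)) := by
      intro q hq
      have hprim := ht.primary hq
      haveI : ((q.colon Set.univ).radical).IsPrime := hprim.isPrime_radical_colon
      have hpass : (q.colon Set.univ).radical ∈ associatedPrimes A M := ht.mem_associatedPrimes hq
      obtain ⟨k, hk⟩ := Ideal.exists_pow_le_of_le_radical_of_fg
        (le_refl (q.colon Set.univ).radical) (IsNoetherian.noetherian _)
      refine C_of_coprimary I (M ⧸ q) (q.colon Set.univ).radical k ?_ ?_ (h _ hpass)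
      · intro a ha x
        obtain ⟨m, rfl⟩ := Submodule.Quotient.mk_surjective _ x
        rw [← Submodule.Quotient.mk_smul, Submodule.Quotient.mk_eq_zero]
        exact Submodule.mem_colon.1 (hk ha) m (Set.mem_univ m)
      · intro s hs x hx
        obtain ⟨m, rfl⟩ := Submodule.Quotient.mk_surjective _ x
        rw [← Submodule.Quotient.mk_smul, Submodule.Quotient.mk_eq_zero] at hx
        rw [Submodule.Quotient.mk_eq_zero]
        exact (hprim.mem_or_mem hx).resolve_right hs
    have hinf : ∀ t' : Finset (Submodule A M),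
        (∀ q ∈ t', Module.Finite A (LocCoh.H I 1 (M ⧸ q))) →
        Module.Finite A (LocCoh.H I 1 (M ⧸ t'.inf id)) := by
      intro t'
      induction t' using Finset.induction_on with
      | empty =>
        intro _
        haveI : Subsingleton (M ⧸ (∅ : Finset (Submodule A M)).inf id) := by
          rw [Finset.inf_empty]; exact Submodule.Quotient.subsingleton_iff.2 rfl
        exact C_of_subsingleton I
      | insert q t' hqt IH =>
        intro hall
        have h1 := hall q (Finset.mem_insert_self q t')
        have h2 := IH (fun q' hq' => hall q' (Finset.mem_insert_of_mem hq'))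
        rw [Finset.inf_insert, id]
        generalize t'.inf id = L at h2 ⊢
        have hex : Function.Exact (LinearMap.inl A (M ⧸ q) (M ⧸ L))
            (LinearMap.snd A (M ⧸ q) (M ⧸ L)) := by
          rintro ⟨a, b⟩
          constructor
          · intro hb
            exact ⟨a, Prod.ext rfl (by simpa using hb.symm)⟩
          · rintro ⟨a', ha'⟩
            have := congrArg Prod.snd ha'
            simpa using this.symm
        have hprod : Module.Finite A (LocCoh.H I 1 ((M ⧸ q) × (M ⧸ L))) :=
          C_of_exact I _ _ LinearMap.inl_injective LinearMap.snd_surjective hex h1 h2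
        have hle : q ⊓ L ≤ LinearMap.ker (LinearMap.prod q.mkQ L.mkQ) := by
          rw [LinearMap.ker_prod, Submodule.ker_mkQ, Submodule.ker_mkQ]
        refine C_of_injective I ((q ⊓ L).liftQ (LinearMap.prod q.mkQ L.mkQ) hle) ?_ hprod
        rw [← LinearMap.ker_eq_bot]
        refine Submodule.ker_liftQ_eq_bot _ _ _ ?_
        rw [LinearMap.ker_prod, Submodule.ker_mkQ, Submodule.ker_mkQ]
    have h3 := hinf t hq
    rw [ht.inf_eq] at h3
    exact C_of_injective I (⊥ : Submodule A M).mkQ
      (by rw [← LinearMap.ker_eq_bot, Submodule.ker_mkQ]) h3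


end Groth.Agent.S1763
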