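import Groth.Statements.S17984
import Mathlib
import Groth.Agent.H65.WeilCoef

set_option autoImplicit false
universe u
open MvPolynomial
open WeilNum

namespace Groth.Agent.S17984

section aux

abbrev BB := MvPolynomial (Fin 2) ℤ

noncomputable abbrev gg (q : ℤ) : BB := X 0 * X 1 - C q

noncomputable abbrev i0 : Polynomial ℤ →ₐ[ℤ] BB := Polynomial.aeval (X 0 : BB)

noncomputable abbrev i1 : Polynomial ℤ →ₐ[ℤ] BB := Polynomial.aeval (X 1 : BB)

noncomputable abbrev II (q : ℤ) : Ideal BB := Ideal.span {gg q}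

theorem gmem (q : ℤ) : gg q ∈ II q := Ideal.subset_span (Set.mem_singleton _)

theorem step0 (q : ℤ) (b : BB) (u v : Polynomial ℤ) (hb : b - (i0 u + X 1 * i1 v) ∈ II q) :
    ∃ u' v' : Polynomial ℤ, b * X 0 - (i0 u' + X 1 * i1 v') ∈ II q := by
  refine ⟨Polynomial.X * u + Polynomial.C (q * v.coeff 0), Polynomial.C q * v.divX, ?_⟩
  have hv : i1 v = i1 v.divX * X 1 + C (v.coeff 0) := by
    calc i1 v = i1 (v.divX * Polynomial.X + Polynomial.C (v.coeff 0)) := by
          rw [Polynomial.divX_mul_X_add]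
      _ = _ := by simp [i1]
  have key : b * X 0 - (i0 (Polynomial.X * u + Polynomial.C (q * v.coeff 0)) +
      X 1 * i1 (Polynomial.C q * v.divX)) =
      (b - (i0 u + X 1 * i1 v)) * X 0 + gg q * i1 v := by
    simp only [map_add, map_mul, Polynomial.aeval_X, Polynomial.aeval_C,
      MvPolynomial.algebraMap_eq]
    linear_combination (C q) * hv
  rw [key]
  exact (II q).add_mem ((II q).mul_mem_right _ hb) ((II q).mul_mem_right _ (gmem q))

theorem step1 (q : ℤ) (b : BB) (u v : Polynomial ℤ) (hb : b - (i0 u + X 1 * i1 v) ∈ II q) :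
    ∃ u' v' : Polynomial ℤ, b * X 1 - (i0 u' + X 1 * i1 v') ∈ II q := by
  refine ⟨Polynomial.C q * u.divX, Polynomial.X * v + Polynomial.C (u.coeff 0), ?_⟩
  have hu : i0 u = i0 u.divX * X 0 + C (u.coeff 0) := by
    calc i0 u = i0 (u.divX * Polynomial.X + Polynomial.C (u.coeff 0)) := by
          rw [Polynomial.divX_mul_X_add]
      _ = _ := by simp [i0]
  have key : b * X 1 - (i0 (Polynomial.C q * u.divX) +
      X 1 * i1 (Polynomial.X * v + Polynomial.C (u.coeff 0))) =
      (b - (i0 u + X 1 * i1 v)) * X 1 + gg q * i0 u.divX := by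
    simp only [map_add, map_mul, Polynomial.aeval_X, Polynomial.aeval_C,
      MvPolynomial.algebraMap_eq]
    linear_combination (X 1) * hu
  rw [key]
  exact (II q).add_mem ((II q).mul_mem_right _ hb) ((II q).mul_mem_right _ (gmem q))

theorem normal_form (q : ℤ) (b : BB) :
    ∃ u v : Polynomial ℤ, b - (i0 u + X 1 * i1 v) ∈ II q := by
  induction b using MvPolynomial.induction_on with
  | C a =>
    refine ⟨Polynomial.C a, 0, ?_⟩
    simp
  | add b₁ b₂ h₁ h₂ =>
    obtain ⟨u₁, v₁, h₁⟩ := h₁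
    obtain ⟨u₂, v₂, h₂⟩ := h₂
    refine ⟨u₁ + u₂, v₁ + v₂, ?_⟩
    have key : b₁ + b₂ - (i0 (u₁ + u₂) + X 1 * i1 (v₁ + v₂)) =
        (b₁ - (i0 u₁ + X 1 * i1 v₁)) + (b₂ - (i0 u₂ + X 1 * i1 v₂)) := by
      rw [map_add, map_add]; ring
    rw [key]
    exact (II q).add_mem h₁ h₂
  | mul_X b i hb =>
    obtain ⟨u, v, hb⟩ := hb
    have hi : i = 0 ∨ i = 1 := by
      fin_cases i
      · exact Or.inl rfl
      · exact Or.inr rfl
    rcases hi with rfl | rfl
    · exact step0 q b u v hb
    · exact step1 q b u v hb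

noncomputable def rev (q : ℤ) (N : ℕ) (v : Polynomial ℤ) : Polynomial ℤ :=
  ∑ j ∈ Finset.range N, Polynomial.C (v.coeff j * q ^ (j + 1)) * Polynomial.X ^ (N - 1 - j)

theorem coeff_rev (q : ℤ) (N : ℕ) (v : Polynomial ℤ) (n : ℕ) :
    (rev q N v).coeff n = if n < N then v.coeff (N - 1 - n) * q ^ (N - n) else 0 := by
  unfold rev
  rw [Polynomial.finsetSum_coeff]
  simp only [Polynomial.coeff_C_mul_X_pow]
  split_ifs with h
  · rw [Finset.sum_eq_single (N - 1 - n)]
    · rw [if_pos (by omega), show N - 1 - n + 1 = N - n from by omega]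
    · intro j hj hne
      rw [if_neg]
      have := Finset.mem_range.mp hj
      omega
    · intro h'
      exfalso
      apply h'
      rw [Finset.mem_range]
      omega
  · refine Finset.sum_eq_zero (fun j hj => ?_)
    rw [if_neg]
    have := Finset.mem_range.mp hj
    omega

theorem shift (q : ℤ) (N : ℕ) (v : Polynomial ℤ) (hv : v.natDegree < N) :
    X 0 ^ N * (X 1 * i1 v) - i0 (rev q N v) ∈ II q := by
  have h1 : i1 v = ∑ j ∈ Finset.range N, v.coeff j • (X 1 : BB) ^ j :=
    Polynomial.aeval_eq_sum_range' hv _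
  rw [h1]
  unfold rev
  rw [Finset.mul_sum, Finset.mul_sum, map_sum, ← Finset.sum_sub_distrib]
  refine (II q).sum_mem (fun j hj => ?_)
  have hj' := Finset.mem_range.mp hj
  obtain ⟨w, hw⟩ := sub_dvd_pow_sub_pow ((X 0 : BB) * X 1) (C q) (j + 1)
  obtain ⟨m, hm⟩ : ∃ m, N = m + (j + 1) := ⟨N - 1 - j, by omega⟩
  have hm2 : N - 1 - j = m := by omega
  have key : (X 0 : BB) ^ N * (X 1 * v.coeff j • (X 1 : BB) ^ j) -
      i0 (Polynomial.C (v.coeff j * q ^ (j + 1)) * Polynomial.X ^ (N - 1 - j)) =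
      gg q * (C (v.coeff j) * X 0 ^ m * w) := by
    rw [hm2, hm]
    simp only [map_mul, map_pow, Polynomial.aeval_X, Polynomial.aeval_C,
      MvPolynomial.algebraMap_eq, MvPolynomial.smul_eq_C_mul]
    linear_combination (C (v.coeff j) * X 0 ^ m) * hw
  rw [key]
  exact (II q).mul_mem_right _ (gmem q)

theorem exists_U (q : ℤ) (hq : q ≠ 0) (c : BB) (D : ℕ) :
    ∃ (N : ℕ) (U : Polynomial ℤ), D ≤ N ∧ X 0 ^ N * c - i0 U ∈ II q ∧
      (∀ n, n < N → q ^ (N - n) ∣ U.coeff n) ∧ (U = 0 → c ∈ II q) := by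
  obtain ⟨u, v, huv⟩ := normal_form q c
  obtain ⟨N, hN⟩ : ∃ N, N = v.natDegree + 1 + D := ⟨_, rfl⟩
  refine ⟨N, Polynomial.X ^ N * u + rev q N v, by omega, ?_, ?_, ?_⟩
  · have hs := shift q N v (by omega)
    have key : X 0 ^ N * c - i0 (Polynomial.X ^ N * u + rev q N v) =
        X 0 ^ N * (c - (i0 u + X 1 * i1 v)) +
        (X 0 ^ N * (X 1 * i1 v) - i0 (rev q N v)) := by
      rw [map_add, map_mul, map_pow, Polynomial.aeval_X]
      ring
    rw [key]
    exact (II q).add_mem ((II q).mul_mem_left _ huv) hs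
  · intro n hn
    rw [Polynomial.coeff_add, Polynomial.coeff_X_pow_mul', if_neg (by omega), zero_add,
      coeff_rev, if_pos hn]
    exact dvd_mul_left _ _
  · intro hU0
    have hcoef : ∀ n, (Polynomial.X ^ N * u + rev q N v).coeff n = 0 := by
      intro n; rw [hU0]; simp
    have hu : u = 0 := by
      ext n
      have h1 := hcoef (n + N)
      rw [Polynomial.coeff_add, Polynomial.coeff_X_pow_mul', if_pos (by omega), coeff_rev,
        if_neg (by omega), add_zero, Nat.add_sub_cancel] at h1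
      simpa using h1
    have hv : v = 0 := by
      ext j
      by_cases hj : j < N
      · have h1 := hcoef (N - 1 - j)
        rw [Polynomial.coeff_add, Polynomial.coeff_X_pow_mul', if_neg (by omega), zero_add,
          coeff_rev, if_pos (by omega)] at h1
        have h2 : N - 1 - (N - 1 - j) = j := by omega
        rw [h2] at h1
        rcases mul_eq_zero.mp h1 with h | h
        · simpa using h
        · exact absurd h (pow_ne_zero _ hq)
      · rw [Polynomial.coeff_eq_zero_of_natDegree_lt (by omega)]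
        simp
    rw [hu, hv] at huv
    simpa using huv

theorem gauss (q : ℤ) (hq : q ≠ 0) (D N : ℕ) (P W : Polynomial ℤ)
    (hP0 : P.coeff 0 = q ^ D ∨ P.coeff 0 = -q ^ D)
    (hP : ∀ k, q ^ (D - k) ∣ P.coeff k)
    (hU : ∀ n, n < N → q ^ (N - n) ∣ (P * W).coeff n) :
    ∀ n, n < N - D → q ^ (N - D - n) ∣ W.coeff n := by
  intro n
  induction n using Nat.strong_induction_on with
  | _ n ih =>
    intro hn
    have hnN : n < N := by omega
    have h1 := hU n hnN
    rw [Polynomial.coeff_mul, ← Finset.add_sum_erase _ _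
      (show (0, n) ∈ Finset.HasAntidiagonal.antidiagonal n by simp)] at h1
    have h2 : q ^ (N - n) ∣ ∑ x ∈ (Finset.HasAntidiagonal.antidiagonal n).erase (0, n),
        P.coeff x.1 * W.coeff x.2 := by
      refine Finset.dvd_sum (fun x hx => ?_)
      obtain ⟨hne, hmem⟩ := Finset.mem_erase.mp hx
      have hsum : x.1 + x.2 = n := Finset.HasAntidiagonal.mem_antidiagonal.mp hmem
      have hx1 : 1 ≤ x.1 := by
        by_contra hcon
        apply hne
        have h0 : x.1 = 0 := by omega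
        exact Prod.ext (show x.1 = 0 from h0) (show x.2 = n by omega)
      have hW := ih x.2 (by omega) (by omega)
      have hPk := hP x.1
      have h3 : q ^ (N - n) ∣ q ^ (D - x.1) * q ^ (N - D - x.2) := by
        rw [← pow_add]
        exact pow_dvd_pow q (by omega)
      exact h3.trans (mul_dvd_mul hPk hW)
    have h3 : q ^ (N - n) ∣ P.coeff 0 * W.coeff n := (dvd_add_left h2).mp h1
    have h4 : q ^ (N - n) ∣ q ^ D * W.coeff n := by
      rcases hP0 with h | h
      · rwa [h] at h3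
      · rw [h, neg_mul] at h3
        exact (dvd_neg).mp h3
    have h5 : N - n = (N - D - n) + D := by omega
    rw [h5, pow_add, mul_comm (q ^ D)] at h4
    exact (mul_dvd_mul_iff_right (pow_ne_zero D hq)).mp h4

theorem unshift (q : ℤ) (M : ℕ) (W : Polynomial ℤ)
    (hW : ∀ n, n < M → q ^ (M - n) ∣ W.coeff n) :
    ∃ b' : BB, X 0 ^ M * b' - i0 W ∈ II q := by
  have hc : ∀ n, ∃ c : ℤ, n < M → W.coeff n = q ^ (M - n) * c := by
    intro n
    by_cases h : n < M
    · obtain ⟨c, hc⟩ := hW n h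
      exact ⟨c, fun _ => hc⟩
    · exact ⟨0, fun h' => absurd h' h⟩
  choose c hc using hc
  refine ⟨∑ n ∈ Finset.range (W.natDegree + 1),
    (if n < M then C (c n) * X 1 ^ (M - n) else C (W.coeff n) * X 0 ^ (n - M)), ?_⟩
  have h1 : i0 W = ∑ n ∈ Finset.range (W.natDegree + 1), W.coeff n • (X 0 : BB) ^ n :=
    Polynomial.aeval_eq_sum_range _
  rw [h1, Finset.mul_sum, ← Finset.sum_sub_distrib]
  refine (II q).sum_mem (fun n _ => ?_)
  by_cases h : n < M
  · rw [if_pos h]
    obtain ⟨w, hw⟩ := sub_dvd_pow_sub_pow ((X 0 : BB) * X 1) (C q) (M - n)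
    obtain ⟨m, hm⟩ : ∃ m, M = n + m := ⟨M - n, by omega⟩
    have hm2 : M - n = m := by omega
    rw [hm2] at hw
    have key : (X 0 : BB) ^ M * (C (c n) * X 1 ^ (M - n)) - W.coeff n • (X 0 : BB) ^ n =
        gg q * (C (c n) * X 0 ^ n * w) := by
      rw [hc n h, hm2, MvPolynomial.smul_eq_C_mul, map_mul, map_pow, hm]
      linear_combination (C (c n) * X 0 ^ n) * hw
    rw [key]
    exact (II q).mul_mem_right _ (gmem q)
  · rw [if_neg h]
    have key : (X 0 : BB) ^ M * (C (W.coeff n) * X 0 ^ (n - M)) -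
        W.coeff n • (X 0 : BB) ^ n = 0 := by
      obtain ⟨m, hm⟩ : ∃ m, n = M + m := ⟨n - M, by omega⟩
      have hm2 : n - M = m := by omega
      rw [hm2, hm, MvPolynomial.smul_eq_C_mul]
      ring
    rw [key]
    exact (II q).zero_mem

noncomputable def ev {L : Type*} [Field L] (t c : L) : BB →ₐ[ℤ] L :=
  MvPolynomial.aeval ![t, c / t]

theorem ev_X0 {L : Type*} [Field L] (t c : L) : ev t c (X 0) = t := by simp [ev]

theorem ev_X1 {L : Type*} [Field L] (t c : L) : ev t c (X 1) = c / t := by simp [ev]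

theorem ev_i0 {L : Type*} [Field L] (t c : L) (u : Polynomial ℤ) :
    ev t c (i0 u) = Polynomial.aeval t u := by
  show ev t c (Polynomial.aeval (X 0 : BB) u) = _
  rw [← Polynomial.aeval_algHom_apply, ev_X0]

theorem ev_gg {L : Type*} [Field L] (t : L) (q : ℤ) (ht : t ≠ 0) :
    ev t (q : L) (gg q) = 0 := by
  show ev t (q : L) (X 0 * X 1 - C q) = 0
  rw [map_sub, map_mul, ev_X0, ev_X1, mul_comm, div_mul_cancel₀ _ ht]
  simp [ev]

theorem ev_mem {L : Type*} [Field L] (t : L) (q : ℤ) (ht : t ≠ 0) {b : BB} (hb : b ∈ II q) :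
    ev t (q : L) b = 0 := by
  obtain ⟨d, rfl⟩ := Ideal.mem_span_singleton'.mp hb
  rw [map_mul, ev_gg t q ht, mul_zero]

theorem jaeval {L : Type} [Field L] (j : Polynomial ℤ →+* L) (u : Polynomial ℤ) :
    Polynomial.aeval (j Polynomial.X) u = j u := by
  conv_rhs => rw [← Polynomial.eval₂_C_X (p := u)]
  rw [Polynomial.hom_eval₂, Polynomial.aeval_def]
  congr 1
  exact RingHom.ext_int _ _

theorem theta_ker_gen {L : Type} [Field L] (j : Polynomial ℤ →+* L)
    (hj : Function.Injective j) (q : ℤ) (hq : q ≠ 0) (c : BB)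
    (hc : ev (j Polynomial.X) ((q : ℤ) : L) c = 0) : c ∈ II q := by
  have htX : j Polynomial.X ≠ 0 := by
    intro h
    apply Polynomial.X_ne_zero (R := ℤ)
    apply hj
    rw [map_zero]
    exact h
  obtain ⟨N, U, _, hU, _, hU0⟩ := exists_U q hq c 0
  apply hU0
  have h1 := ev_mem (j Polynomial.X) q htX hU
  rw [map_sub, map_mul, hc, mul_zero, zero_sub, neg_eq_zero, ev_i0, jaeval] at h1
  apply hj
  rw [h1, map_zero]

theorem X_pow_cancel_gen {L : Type} [Field L] (j : Polynomial ℤ →+* L)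
    (hj : Function.Injective j) (q : ℤ) (hq : q ≠ 0) (N : ℕ) (c : BB)
    (hc : X 0 ^ N * c ∈ II q) : c ∈ II q := by
  have htX : j Polynomial.X ≠ 0 := by
    intro h
    apply Polynomial.X_ne_zero (R := ℤ)
    apply hj
    rw [map_zero]
    exact h
  apply theta_ker_gen j hj q hq
  have h1 := ev_mem (j Polynomial.X) q htX hc
  rw [map_mul, map_pow, ev_X0] at h1
  exact (mul_eq_zero.mp h1).resolve_left (pow_ne_zero N htX)

theorem h_cancel_gen {L : Type} [Field L] (j : Polynomial ℤ →+* L)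
    (hj : Function.Injective j) (q : ℤ) (hq : q ≠ 0) (D : ℕ) (Pw : Polynomial ℤ)
    (hPw : Pw ≠ 0) (h : BB)
    (hh : X 0 ^ D * h - i0 Pw ∈ II q) (c : BB) (hc : h * c ∈ II q) : c ∈ II q := by
  have htX : j Polynomial.X ≠ 0 := by
    intro h
    apply Polynomial.X_ne_zero (R := ℤ)
    apply hj
    rw [map_zero]
    exact h
  apply theta_ker_gen j hj q hq
  have h1 := ev_mem (j Polynomial.X) q htX hc
  rw [map_mul] at h1
  have h2 := ev_mem (j Polynomial.X) q htX hh
  rw [map_sub, map_mul, map_pow, ev_X0, ev_i0, jaeval, sub_eq_zero] at h2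
  have h3 : ev (j Polynomial.X) ((q : ℤ) : L) h ≠ 0 := by
    intro h0
    rw [h0, mul_zero] at h2
    apply hPw
    apply hj
    rw [← h2, map_zero]
  exact (mul_eq_zero.mp h1).resolve_left h3

theorem X_pow_cancel (q : ℤ) (hq : q ≠ 0) (N : ℕ) (c : BB) (hc : X 0 ^ N * c ∈ II q) :
    c ∈ II q :=
  X_pow_cancel_gen (algebraMap (Polynomial ℤ) (FractionRing (Polynomial ℤ)))
    (IsFractionRing.injective _ _) q hq N c hc

theorem h_cancel (q : ℤ) (hq : q ≠ 0) (D : ℕ) (Pw : Polynomial ℤ) (hPw : Pw ≠ 0) (h : BB)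
    (hh : X 0 ^ D * h - i0 Pw ∈ II q) (c : BB) (hc : h * c ∈ II q) : c ∈ II q :=
  h_cancel_gen (algebraMap (Polynomial ℤ) (FractionRing (Polynomial ℤ)))
    (IsFractionRing.injective _ _) q hq D Pw hPw h hh c hc

theorem main_ker {ι : Type} {K : ι → Type u} [∀ i, Field (K i)] (t : ∀ i, K i)
    (ht : ∀ i, t i ≠ 0) (q : ℤ) (hq : q ≠ 0) (D : ℕ) (Pw : Polynomial ℤ)
    (hP0 : Pw.coeff 0 = q ^ D ∨ Pw.coeff 0 = -q ^ D)
    (hP : ∀ k, q ^ (D - k) ∣ Pw.coeff k)
    (hZ : ∀ U : Polynomial ℤ, (∀ i, Polynomial.aeval (t i) U = 0) → Pw ∣ U)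
    (h : BB) (hh : X 0 ^ D * h - i0 Pw ∈ II q)
    (b : BB) (hb : ∀ i, ev (t i) ((q : ℤ) : K i) b = 0) :
    b ∈ Ideal.span {gg q, h} := by
  obtain ⟨N, U, hDN, hU, hUc, _⟩ := exists_U q hq b D
  have hUz : ∀ i, Polynomial.aeval (t i) U = 0 := by
    intro i
    have h1 := ev_mem (t i) q (ht i) hU
    rw [map_sub, map_mul, hb i, mul_zero, zero_sub, neg_eq_zero, ev_i0] at h1
    exact h1
  obtain ⟨W, hW⟩ := hZ U hUz
  have hWc := gauss q hq D N Pw W hP0 hP (by rw [← hW]; exact hUc)
  obtain ⟨b', hb'⟩ := unshift q (N - D) W hWc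
  obtain ⟨M, hM⟩ : ∃ M, N = D + M := ⟨N - D, by omega⟩
  have hM2 : N - D = M := by omega
  rw [hM2] at hb'
  have h1 : X 0 ^ N * (b - h * b') ∈ II q := by
    have key : X 0 ^ N * (b - h * b') =
        (X 0 ^ N * b - i0 U) - (X 0 ^ D * h - i0 Pw) * i0 W -
          X 0 ^ D * h * (X 0 ^ M * b' - i0 W) := by
      rw [hW, map_mul, hM]
      ring
    rw [key]
    exact (II q).sub_mem ((II q).sub_mem hU ((II q).mul_mem_right _ hh))
      ((II q).mul_mem_left _ hb')
  have h2 := X_pow_cancel q hq N _ h1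
  have h3 : b = (b - h * b') + h * b' := by ring
  rw [h3]
  refine Ideal.add_mem _ ?_ ?_
  · exact Ideal.span_mono (by simp) h2
  · exact Ideal.mul_mem_right _ _ (Ideal.subset_span (by simp))

theorem prod_minpoly_dvd {ι : Type} [Fintype ι] {K : ι → Type u} [∀ i, Field (K i)]
    [∀ i, CharZero (K i)] (π : ∀ i, K i) (hint : ∀ i, IsIntegral ℤ (π i))
    (hinj : ∀ i j, minpoly ℤ (π i) = minpoly ℤ (π j) → i = j)
    (U : Polynomial ℤ) (hU : ∀ i, Polynomial.aeval (π i) U = 0) :
    (∏ i, minpoly ℤ (π i)) ∣ U := by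
  classical
  have key : ∀ s : Finset ι, ∀ U : Polynomial ℤ, (∀ i ∈ s, Polynomial.aeval (π i) U = 0) →
      (∏ i ∈ s, minpoly ℤ (π i)) ∣ U := by
    intro s
    refine Finset.induction_on s ?_ ?_
    · intro U _
      simp
    · intro a s ha ih U hU
      obtain ⟨U', hU'⟩ := minpoly.isIntegrallyClosed_dvd (hint a)
        (hU a (Finset.mem_insert_self a s))
      have h2 : ∀ j ∈ s, Polynomial.aeval (π j) U' = 0 := by
        intro j hj
        have h3 := hU j (Finset.mem_insert_of_mem hj)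
        rw [hU', map_mul] at h3
        rcases mul_eq_zero.mp h3 with h4 | h4
        · exfalso
          have h5 := minpoly.isIntegrallyClosed_dvd (hint j) h4
          have h6 : minpoly ℤ (π j) = minpoly ℤ (π a) := by
            refine Polynomial.eq_of_monic_of_associated (minpoly.monic (hint j))
              (minpoly.monic (hint a)) ?_
            exact associated_of_dvd_dvd h5
              ((minpoly.irreducible (hint j)).dvd_symm (minpoly.irreducible (hint a)) h5)
          have h7 := hinj j a h6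
          rw [h7] at hj
          exact ha hj
        · exact h4
      obtain ⟨U'', hU''⟩ := ih U' h2
      rw [Finset.prod_insert ha, hU', hU'']
      exact ⟨U'', by ring⟩
  exact key Finset.univ U (fun i _ => hU i)

theorem comp_eq {ι : Type} {K : ι → Type u} [∀ i, Field (K i)] (t c : ∀ i, K i) (i : ι)
    (b : BB) :
    (MvPolynomial.aeval ![t, fun j => c j / t j] b : (i : ι) → K i) i =
      ev (t i) (c i) b := by
  have h : (Pi.evalRingHom K i).comp
      ((MvPolynomial.aeval ![t, fun j => c j / t j] : BB →ₐ[ℤ] ((i : ι) → K i)) :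
        BB →+* ((i : ι) → K i)) = ((ev (t i) (c i) : BB →ₐ[ℤ] K i) : BB →+* K i) := by
    apply MvPolynomial.ringHom_ext
    · intro r
      exact RingHom.congr_fun (RingHom.ext_int
        (((Pi.evalRingHom K i).comp
          ((MvPolynomial.aeval ![t, fun j => c j / t j] : BB →ₐ[ℤ] ((i : ι) → K i)) :
            BB →+* ((i : ι) → K i))).comp C)
        (((ev (t i) (c i) : BB →ₐ[ℤ] K i) : BB →+* K i).comp C)) r
    · intro k
      fin_cases k <;> simp [ev]
  exact RingHom.congr_fun h b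

open scoped Pointwise in
theorem weakly_regular (q : ℤ) (hq : q ≠ 0) (D : ℕ) (Pw : Polynomial ℤ) (hPw : Pw ≠ 0) (h : BB)
    (hh : X 0 ^ D * h - i0 Pw ∈ II q) :
    RingTheory.Sequence.IsWeaklyRegular BB [gg q, h] := by
  rw [RingTheory.Sequence.isWeaklyRegular_cons_iff,
    RingTheory.Sequence.isWeaklyRegular_singleton_iff]
  have hg0 : gg q ≠ 0 := by
    intro h0
    have h1 := congrArg MvPolynomial.constantCoeff h0
    simp only [map_sub, map_mul, MvPolynomial.constantCoeff_X, MvPolynomial.constantCoeff_C,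
      mul_zero, zero_sub, map_zero, neg_eq_zero] at h1
    exact hq h1
  have hmem : ∀ c : BB, c ∈ (gg q • (⊤ : Submodule BB BB)) ↔ c ∈ II q := by
    intro c
    rw [Submodule.mem_smul_pointwise_iff_exists, Ideal.mem_span_singleton']
    constructor
    · rintro ⟨d, _, hd⟩
      exact ⟨d, by rw [← hd, smul_eq_mul, mul_comm]⟩
    · rintro ⟨d, hd⟩
      exact ⟨d, Submodule.mem_top, by rw [← hd, smul_eq_mul, mul_comm]⟩
  constructor
  · refine fun x y hxy => ?_
    exact mul_left_cancel₀ hg0 hxy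
  · refine fun x y hxy => ?_
    obtain ⟨a, rfl⟩ := Submodule.Quotient.mk_surjective _ x
    obtain ⟨b, rfl⟩ := Submodule.Quotient.mk_surjective _ y
    simp only [← Submodule.Quotient.mk_smul] at hxy
    rw [Submodule.Quotient.eq] at hxy ⊢
    rw [hmem] at hxy ⊢
    have h1 : h * (a - b) ∈ II q := by
      have h2 : h * (a - b) = h • a - h • b := by
        rw [smul_eq_mul, smul_eq_mul]; ring
      rw [h2]
      exact hxy
    exact h_cancel q hq D Pw hPw h hh _ h1

end aux

/-- Let p be a prime, e ≥ 1 and q = p^e. Let (π_i) be a finite family of pairwise nonconjugate Weil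
q-numbers: π_i is an element of a field K_i of characteristic zero, integral over ℤ with minimal
polynomial P_i, every complex root of P_i has absolute value √q, and P_i ≠ P_j for i ≠ j. Suppose
the total degree Σ_i deg P_i is even, equal to 2D (equivalently, the family contains either none or
both of the rational Weil q-numbers ±q^{1/2}). Put P_w = ∏_i P_i and let h ∈ ℤ[F, V] (F = X_0, V =
X_1) be any polynomial with F^D · h ≡ P_w(F) modulo FV − q; such an h exists, is unique modulo FV −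
q, and the product of the symmetric polynomials h_{π_i} is one. Then the kernel of the ring map ℤ[F,
V] → ∏_i K_i, F ↦ (π_i), V ↦ (q/π_i), whose image is the minimal central order R_w, is the ideal
generated by FV − q and h, and (FV − q, h) is a regular sequence in ℤ[F, V]: R_w is the complete
intersection ℤ[F, V]/(FV − q, h). -/
theorem result (p e : ℕ) [Fact p.Prime] (he : 0 < e)
    (ι : Type) [Fintype ι] (K : ι → Type u) [∀ i, Field (K i)] [∀ i, CharZero (K i)] (π : ∀ i, K i)
    (hint : ∀ i, IsIntegral ℤ (π i))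
    (hweil : ∀ i, ∀ z ∈ (minpoly ℤ (π i)).aroots ℂ, ‖z‖ = Real.sqrt ((p : ℝ) ^ e))
    (hinj : ∀ i j, minpoly ℤ (π i) = minpoly ℤ (π j) → i = j)
    (D : ℕ) (hD : ∑ i, (minpoly ℤ (π i)).natDegree = 2 * D)
    (h : MvPolynomial (Fin 2) ℤ)
    (hh : X 0 ^ D * h - Polynomial.aeval (X 0 : MvPolynomial (Fin 2) ℤ) (∏ i, minpoly ℤ (π i)) ∈
      Ideal.span ({X 0 * X 1 - C ((p : ℤ) ^ e)} : Set (MvPolynomial (Fin 2) ℤ))) :
    RingHom.ker (MvPolynomial.aeval ![fun i => π i, fun i => ((p : K i) ^ e) / π i] :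
        MvPolynomial (Fin 2) ℤ →ₐ[ℤ] ((i : ι) → K i)) =
        Ideal.span {X 0 * X 1 - C ((p : ℤ) ^ e), h} ∧
      RingTheory.Sequence.IsWeaklyRegular (MvPolynomial (Fin 2) ℤ) [X 0 * X 1 - C ((p : ℤ) ^ e), h] := by
  classical
  have hppos : (0 : ℤ) < (p : ℤ) ^ e :=
    pow_pos (by exact_mod_cast (Fact.out : p.Prime).pos) e
  have hq0 : ((p : ℤ) ^ e) ≠ 0 := hppos.ne'
  have hmonic : (∏ i, minpoly ℤ (π i)).Monic :=
    Polynomial.monic_prod_of_monic _ _ (fun i _ => minpoly.monic (hint i))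
  have hdeg : (∏ i, minpoly ℤ (π i)).natDegree = 2 * D := by
    rw [Polynomial.natDegree_prod_of_monic _ _ (fun i _ => minpoly.monic (hint i)), hD]
  have hqR : (((p : ℤ) ^ e : ℤ) : ℝ) = (p : ℝ) ^ e := by push_cast; rfl
  have hroots : ∀ z ∈ (∏ i, minpoly ℤ (π i)).aroots ℂ,
      ‖z‖ = Real.sqrt (((p : ℤ) ^ e : ℤ) : ℝ) := by
    intro z hz
    rw [Polynomial.mem_aroots] at hz
    obtain ⟨_, hz0⟩ := hz
    rw [map_prod] at hz0
    obtain ⟨i, _, hi⟩ := Finset.prod_eq_zero_iff.mp hz0
    rw [hqR]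
    exact hweil i z (Polynomial.mem_aroots.mpr ⟨(minpoly.monic (hint i)).ne_zero, hi⟩)
  obtain ⟨hP0, hPk⟩ := Groth.Agent.H65.WeilCoef.weil_int _ hmonic _ hppos D hdeg hroots
  have hπ0 : ∀ i, π i ≠ 0 := by
    intro i h0
    have hc0 : (minpoly ℤ (π i)).coeff 0 = 0 := by
      have h1 := minpoly.aeval ℤ (π i)
      have h2 : ∀ P : Polynomial ℤ,
          Polynomial.aeval (π i) P = algebraMap ℤ (K i) (P.coeff 0) := fun P => by
        rw [h0, Polynomial.coeff_zero_eq_aeval_zero']
      rw [h2] at h1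
      exact (algebraMap ℤ (K i)).injective_int (by rw [h1, map_zero])
    have hz : (0 : ℂ) ∈ (minpoly ℤ (π i)).aroots ℂ := by
      rw [Polynomial.mem_aroots]
      refine ⟨(minpoly.monic (hint i)).ne_zero, ?_⟩
      rw [← Polynomial.coeff_zero_eq_aeval_zero', hc0, map_zero]
    have h1 := hweil i 0 hz
    rw [norm_zero] at h1
    have h2 : 0 < Real.sqrt ((p : ℝ) ^ e) :=
      Real.sqrt_pos.mpr (pow_pos (by exact_mod_cast (Fact.out : p.Prime).pos) e)
    linarith
  have hcast : ∀ i, ((((p : ℤ) ^ e : ℤ)) : K i) = (p : K i) ^ e := by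
    intro i; push_cast; rfl
  have hcomp : ∀ (b : MvPolynomial (Fin 2) ℤ) (i : ι),
      ((MvPolynomial.aeval ![fun i => π i, fun i => ((p : K i) ^ e) / π i] :
        MvPolynomial (Fin 2) ℤ →ₐ[ℤ] ((i : ι) → K i)) b) i =
      ev (π i) ((((p : ℤ) ^ e : ℤ)) : K i) b := by
    intro b i
    rw [hcast]
    exact comp_eq (fun i => π i) (fun i => (p : K i) ^ e) i b
  have haevalPw : ∀ i, Polynomial.aeval (π i) (∏ j, minpoly ℤ (π j)) = 0 := by
    intro i
    rw [map_prod]
    exact Finset.prod_eq_zero (Finset.mem_univ i) (minpoly.aeval ℤ (π i))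
  have hh' : X 0 ^ D * h - i0 (∏ i, minpoly ℤ (π i)) ∈ II ((p : ℤ) ^ e) := hh
  refine ⟨?_, ?_⟩
  · apply le_antisymm
    · intro b hb
      rw [RingHom.mem_ker] at hb
      have hb' : ∀ i, ev (π i) ((((p : ℤ) ^ e : ℤ)) : K i) b = 0 := by
        intro i
        rw [← hcomp b i]
        have := congrFun hb i
        exact this
      exact main_ker π hπ0 _ hq0 D _ hP0 hPk
        (fun U hU => prod_minpoly_dvd π hint hinj U hU) h hh' b hb'
    · rw [Ideal.span_le]
      intro b hb
      rw [SetLike.mem_coe, RingHom.mem_ker]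
      funext i
      rw [hcomp b i]
      rcases hb with rfl | hb
      · exact ev_gg (π i) _ (hπ0 i)
      · rw [Set.mem_singleton_iff] at hb
        subst hb
        have h1 := ev_mem (π i) _ (hπ0 i) hh'
        rw [map_sub, map_mul, map_pow, ev_X0, ev_i0, haevalPw i, sub_zero] at h1
        exact (mul_eq_zero.mp h1).resolve_left (pow_ne_zero D (hπ0 i))
  · exact weakly_regular _ hq0 D _ hmonic.ne_zero h hh'

end Groth.Agent.S17984
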