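import Groth.Statements.S9129
import Groth.Agent.H29.FlatDepth
import Groth.Agent.H54.IntegralDim

set_option autoImplicit false
universe u
open CAlg

namespace Groth.Agent.S9129

/-- Suppose R → S is a flat local homomorphism between Noetherian local rings, with R Cohen–Macaulay.
Assume either that S is finite over R or that the Krull dimension of S is at most that of R. Then
the two rings have equal dimension and S is itself Cohen–Macaulay. -/
theorem result (R S : Type u) [CommRing R] [CommRing S]
    [LocCoh.IsCohenMacaulayLocalRing R] [IsNoetherianRing S] [IsLocalRing S] [Algebra R S]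
    [IsLocalHom (algebraMap R S)] [Module.Flat R S]
    (h : Module.Finite R S ∨ ringKrullDim S ≤ ringKrullDim R) :
    LocCoh.IsCohenMacaulayLocalRing S ∧ ringKrullDim R = ringKrullDim S := by
  have hCM : Module.supportDim R R = ((LocCoh.depth R R : ℕ∞) : WithBot ℕ∞) :=
    LocCoh.IsCohenMacaulayLocalRing.supportDim_eq_depth
  have h1 : LocCoh.depth R R ≤ LocCoh.depth S S := Groth.Agent.H29.FlatDepth.depth_le_depth
  have h2 := Groth.Agent.H29.CM.depth_le_supportDim (A := S) (M := S)
  have hdimle : ringKrullDim S ≤ ringKrullDim R := by
    rcases h with hfin | hle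
    · haveI := hfin
      haveI : Algebra.IsIntegral R S := Algebra.IsIntegral.of_finite R S
      exact Groth.Agent.H54.ringKrullDim_le_of_isIntegral
    · exact hle
  rw [Module.supportDim_self_eq_ringKrullDim] at hCM h2
  have h3 : ringKrullDim R ≤ ringKrullDim S := by
    rw [hCM]
    exact (WithBot.coe_le_coe.mpr h1).trans h2
  have heq : ringKrullDim R = ringKrullDim S := le_antisymm h3 hdimle
  refine ⟨⟨?_⟩, heq⟩
  rw [Module.supportDim_self_eq_ringKrullDim]
  apply le_antisymm
  · rw [← heq, hCM]
    exact WithBot.coe_le_coe.mpr h1
  · exact h2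

end Groth.Agent.S9129
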