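import Groth.Statements.S9159
import Groth.Agent.S2141
import Groth.Agent.S9180
import Groth.Agent.S2082
import Groth.Agent.S9129
import Groth.Agent.H72.RegLoc
import Groth.Agent.H54.AffineDim2

set_option autoImplicit false
universe u
open CAlg

namespace Groth.Agent.S9159

open TensorProduct

set_option linter.style.haveILetI false
set_option linter.unusedSectionVars false

theorem exists_trdeg_nat (k S : Type u) [Field k] [CommRing S] [Algebra k S]
    [Algebra.FiniteType k S] (q : Ideal S) [q.IsPrime] :
    ∃ r : ℕ, Algebra.trdeg k q.ResidueField = r := by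
  obtain ⟨n, hn, -⟩ := Groth.Agent.H54.exists_ringKrullDim_eq_trdeg k (S ⧸ q)
  refine ⟨n, ?_⟩
  rw [Groth.Agent.H54.trdeg_eq_trdeg_of_isFractionRing k (S ⧸ q) q.ResidueField, hn]

/-- In a quasi-finite algebra, the fibre local ring at a prime has dimension zero. -/
theorem fibre_height_eq_zero (P S : Type u) [CommRing P] [CommRing S] [Algebra P S]
    [Algebra.QuasiFinite P S] (p : Ideal P) (q : Ideal S) [q.IsPrime]
    (hp : q.comap (algebraMap P S) = p) :
    (q.map (Ideal.Quotient.mk (p.map (algebraMap P S)))).height = 0 := by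
  obtain ⟨I, hI⟩ : ∃ I : Ideal S, I = p.map (algebraMap P S) := ⟨_, rfl⟩
  rw [← hI]
  have hIq : I ≤ q := by rw [hI, Ideal.map_le_iff_le_comap, hp]
  have hsurj : Function.Surjective (Ideal.Quotient.mk I) := Ideal.Quotient.mk_surjective
  haveI hQ : (q.map (Ideal.Quotient.mk I)).IsPrime :=
    Ideal.map_isPrime_of_surjective hsurj (by rw [Ideal.mk_ker]; exact hIq)
  rw [Ideal.height_eq_zero_iff]
  refine ⟨⟨hQ, bot_le⟩, ?_⟩
  rintro Q' ⟨hQ'prime, -⟩ hQ'le
  haveI := hQ'prime
  -- pull back to S
  obtain ⟨q', hq'⟩ : ∃ q' : Ideal S, q' = Q'.comap (Ideal.Quotient.mk I) := ⟨_, rfl⟩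
  haveI : q'.IsPrime := by rw [hq']; exact Ideal.comap_isPrime _ _
  have hIq' : I ≤ q' := by
    rw [hq']
    intro x hx
    rw [Ideal.mem_comap, Ideal.Quotient.eq_zero_iff_mem.mpr hx]
    exact Q'.zero_mem
  have hq'q : q' ≤ q := by
    rw [hq']
    intro x hx
    have h1 : Ideal.Quotient.mk I x ∈ q.map (Ideal.Quotient.mk I) := hQ'le hx
    rwa [Ideal.mem_quotient_iff_mem hIq] at h1
  have hunder : q'.under P = q.under P := by
    apply le_antisymm
    · exact Ideal.comap_mono hq'q
    · rw [Ideal.under_def, Ideal.under_def, hp, ← Ideal.map_le_iff_le_comap, ← hI]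
      exact hIq'
  have heq : q' = q := Algebra.QuasiFinite.eq_of_le_of_under_eq (R := P) q' q hq'q hunder
  have : Q' = q.map (Ideal.Quotient.mk I) := by
    rw [← heq, hq', Ideal.map_comap_of_surjective _ hsurj]
  rw [this]

theorem main (k S : Type u) [Field k] [CommRing S]
    [Algebra k S] [Algebra.FiniteType k S] (d : ℕ) [Algebra (MvPolynomial (Fin d) k) S]
    [IsScalarTower k (MvPolynomial (Fin d) k) S] [Algebra.QuasiFinite (MvPolynomial (Fin d) k) S]
    (q : Ideal S) [q.IsPrime] :
    Module.Flat (MvPolynomial (Fin d) k) (Localization.AtPrime q) ↔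
      (LocCoh.IsCohenMacaulayLocalRing (Localization.AtPrime q) ∧
        FlatMor.localDim (PrimeSpectrum S) ⟨q, inferInstance⟩ = (d : WithBot ℕ∞)) := by
  obtain ⟨p, hp⟩ : ∃ p : Ideal (MvPolynomial (Fin d) k),
      p = q.comap (algebraMap (MvPolynomial (Fin d) k) S) := ⟨_, rfl⟩
  haveI : p.IsPrime := by rw [hp]; exact Ideal.comap_isPrime _ _
  haveI : q.LiesOver p := ⟨hp⟩
  letI : Algebra (Localization.AtPrime p) (Localization.AtPrime q) :=
    Localization.AtPrime.algebraOfLiesOver p q
  haveI : Localization.AtPrime.IsLiesOverAlgebra p q := inferInstance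
  haveI : IsScalarTower (MvPolynomial (Fin d) k) (Localization.AtPrime p)
    (Localization.AtPrime q) := inferInstance
  haveI : IsLocalHom (algebraMap (Localization.AtPrime p) (Localization.AtPrime q)) :=
    inferInstance
  haveI : Module.Finite p.ResidueField q.ResidueField := inferInstance
  haveI : IsScalarTower k p.ResidueField q.ResidueField := inferInstance
  haveI : IsRegularLocalRing (Localization.AtPrime p) := inferInstance
  haveI : IsNoetherianRing S := Algebra.FiniteType.isNoetherianRing k S
  haveI : IsNoetherianRing (Localization.AtPrime q) :=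
    IsLocalization.isNoetherianRing q.primeCompl _ inferInstance
  -- flatness over P_p vs over P
  have hflat : Module.Flat (Localization.AtPrime p) (Localization.AtPrime q) ↔
      Module.Flat (MvPolynomial (Fin d) k) (Localization.AtPrime q) :=
    Module.flat_iff_of_isLocalization (Localization.AtPrime p) p.primeCompl _
  -- transcendence degrees
  obtain ⟨r, hr⟩ := exists_trdeg_nat k (MvPolynomial (Fin d) k) p
  have hr' : Algebra.trdeg k q.ResidueField = r := by
    have h1 := trdeg_add_eq k p.ResidueField (A := q.ResidueField)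
    haveI : Algebra.IsAlgebraic p.ResidueField q.ResidueField := Algebra.IsAlgebraic.of_finite _ _
    rw [_root_.trdeg_eq_zero (R := p.ResidueField) (A := q.ResidueField), add_zero] at h1
    rw [← h1, hr]
  -- dimensions
  have hdq : ringKrullDim (Localization.AtPrime q) = q.height :=
    IsLocalization.AtPrime.ringKrullDim_eq_height q _
  have hdp : ringKrullDim (Localization.AtPrime p) = p.height :=
    IsLocalization.AtPrime.ringKrullDim_eq_height p _
  have hP : (p.height : WithBot ℕ∞) + (r : WithBot ℕ∞) = (d : WithBot ℕ∞) := by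
    have h1 := Groth.Agent.H54.height_add_ringKrullDim_quotient k (MvPolynomial (Fin d) k)
      ⟨p, inferInstance⟩
    rw [Groth.Agent.H54.ringKrullDim_mvPolynomial_field,
      Groth.Agent.S2141.dim_quot_eq_trdeg k (MvPolynomial (Fin d) k) p r hr] at h1
    exact h1
  have hS := Groth.Agent.S2141.result' (k := k) (S := S) q r hr'
  rw [hdq] at hS
  have hfib0 := fibre_height_eq_zero (MvPolynomial (Fin d) k) S p q hp.symm
  have hle : q.height ≤ p.height := by
    have := Ideal.height_le_height_add_of_liesOver p q
    rwa [hfib0, add_zero] at this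
  -- the closed fibre of P_p → S_q has dimension zero
  have hfibdim : ringKrullDim (Localization.AtPrime q ⧸
      (IsLocalRing.maximalIdeal (Localization.AtPrime p)).map
        (algebraMap (Localization.AtPrime p) (Localization.AtPrime q))) = 0 := by
    have h1 := Groth.Agent.S9180.dim_fibLoc (MvPolynomial (Fin d) k) S p q hp.symm
    rw [hfib0] at h1
    have hJ : (IsLocalRing.maximalIdeal (Localization.AtPrime p)).map
        (algebraMap (Localization.AtPrime p) (Localization.AtPrime q)) =
        (q.comap (algebraMap (MvPolynomial (Fin d) k) S)).map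
          (algebraMap (MvPolynomial (Fin d) k) (Localization.AtPrime q)) := by
      rw [← Localization.AtPrime.map_eq_maximalIdeal, Ideal.map_map,
        ← IsScalarTower.algebraMap_eq, hp]
    rw [Groth.Agent.S9180.ringKrullDim_quot_congr _ _ hJ]
    exact h1
  -- finiteness
  obtain ⟨a, ha⟩ : ∃ a : ℕ, q.height = a :=
    ENat.ne_top_iff_exists.mp Ideal.height_ne_top_of_isPrime |>.imp fun _ h => h.symm
  obtain ⟨c, hc⟩ : ∃ c : ℕ, p.height = c :=
    ENat.ne_top_iff_exists.mp Ideal.height_ne_top_of_isPrime |>.imp fun _ h => h.symm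
  rw [ha] at hS hdq hle
  rw [hc] at hP hdp hle
  have hcr : c + r = d := by exact_mod_cast hP
  have hac : a ≤ c := by exact_mod_cast hle
  rw [← hflat]
  constructor
  · intro hfl
    haveI := hfl
    haveI : LocCoh.IsCohenMacaulayLocalRing (Localization.AtPrime p) :=
      ⟨Groth.Agent.H72.RegLoc.isCM_of_isRegularLocalRing _⟩
    have hdimle : ringKrullDim (Localization.AtPrime q) ≤ ringKrullDim (Localization.AtPrime p) := by
      rw [hdq, hdp]; exact_mod_cast hac
    obtain ⟨hCM, hdimeq⟩ := Groth.Agent.S9129.result (Localization.AtPrime p)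
      (Localization.AtPrime q) (Or.inr hdimle)
    refine ⟨hCM, ?_⟩
    rw [hdp, hdq] at hdimeq
    have : c = a := by exact_mod_cast hdimeq
    rw [hS, ← this]
    exact_mod_cast hcr
  · rintro ⟨hCM, hld⟩
    haveI := hCM
    rw [hS] at hld
    have h1 : a + r = d := by exact_mod_cast hld
    have hca : a = c := by omega
    apply Groth.Agent.S2082.result
    rw [hfibdim, hdq, hdp, hca, add_zero]


/-- Fix a field k, a k-algebra S of finite type, and a quasi-finite map of k-algebras k[y_1, …, y_d] →
S. A prime q of S has S_q flat over k[y_1, …, y_d] exactly when S_q is Cohen–Macaulay and Spec S has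
local dimension d at q. -/
theorem result (k S : Type u) [Field k] [CommRing S]
    [Algebra k S] [Algebra.FiniteType k S] (d : ℕ) [Algebra (MvPolynomial (Fin d) k) S]
    [IsScalarTower k (MvPolynomial (Fin d) k) S] [Algebra.QuasiFinite (MvPolynomial (Fin d) k) S]
    (q : Ideal S) [q.IsPrime] :
    Module.Flat (MvPolynomial (Fin d) k) (Localization.AtPrime q) ↔
      (LocCoh.IsCohenMacaulayLocalRing (Localization.AtPrime q) ∧
        FlatMor.localDim (PrimeSpectrum S) ⟨q, inferInstance⟩ = (d : WithBot ℕ∞)) := by
  exact main k S d q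

end Groth.Agent.S9159
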