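import Groth.Statements.S9254
import Mathlib
import Groth.Agent.S9170
import Groth.Agent.H59.LCIReg
import Groth.Agent.H59.KRegMin

set_option autoImplicit false
universe u
attribute [local instance] HasDerivedCategory.standard
open CategoryTheory
open Synt

namespace Groth.Agent.S9254

open Groth.Agent.H59.Kosz in
theorem aux (R : Type u) [CommRing R] (n c : ℕ)
    (F : Fin c → MvPolynomial (Fin n) R) (h : Synt.IsRelGCI R n c F) :
    LCI.IsKoszulRegularSeq (MvPolynomial (Fin n) R) (List.ofFn F) := by
  classical
  rw [kreg_iff]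
  intro m hm
  have hphi : Phi (Submonoid.powers (1 : MvPolynomial (Fin n) R))
      (kz (sgl (ModuleCat.of (MvPolynomial (Fin n) R) (MvPolynomial (Fin n) R))) (List.ofFn F)) m := by
    apply phi_powers_of_forall_prime
    intro 𝔭 h𝔭 _
    haveI := h𝔭
    apply phi_of_ex 𝔭.primeCompl
      ((sglBC (MvPolynomial (Fin n) R) (Localization.AtPrime 𝔭)).kz (List.ofFn F))
    have hk : LCI.IsKoszulRegularSeq (Localization.AtPrime 𝔭)
        ((List.ofFn F).map (algebraMap (MvPolynomial (Fin n) R) (Localization.AtPrime 𝔭))) := by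
      by_cases hle : Ideal.span (Set.range F) ≤ 𝔭
      · exact kreg_of_isWeaklyRegular _
          (Groth.Agent.S9170.result R n c F h 𝔭 hle).1.toIsWeaklyRegular
      · obtain ⟨j, hj⟩ : ∃ j, F j ∉ 𝔭 := by
          by_contra hcon
          push Not at hcon
          exact hle (Ideal.span_le.mpr (by rintro _ ⟨j, rfl⟩; exact hcon j))
        exact kreg_of_isUnit_mem _ (algebraMap _ _ (F j))
          (IsLocalization.map_units (M := 𝔭.primeCompl) _ ⟨F j, hj⟩)
          (List.mem_map.mpr ⟨F j, (List.mem_ofFn' _ _).mpr ⟨j, rfl⟩, rfl⟩)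
    exact (kreg_iff _).mp hk m hm
  intro i k hi hk z hz
  obtain ⟨t, ⟨e, rfl⟩, w, hw⟩ := hphi i k hi hk z hz
  exact ⟨w, by simpa using hw⟩


/-- Let R be a ring and F_1, ..., F_c polynomials in R[x_1, ..., x_n] that present R[x_1, ...,
x_n]/(F_1, ..., F_c) as a relative global complete intersection over R. Then the Koszul complex of
F_1, ..., F_c over the polynomial ring is exact outside degree zero, that is, F_1, ..., F_c form a
Koszul-regular sequence. -/
theorem result (R : Type u) [CommRing R] (n c : ℕ)
    (F : Fin c → MvPolynomial (Fin n) R) (h : Synt.IsRelGCI R n c F) :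
    LCI.IsKoszulRegularSeq (MvPolynomial (Fin n) R) (List.ofFn F) := by
  exact aux R n c F h

end Groth.Agent.S9254
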