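import Groth.Statements.S5004
import Groth.Agent.H71.Vasconcelos
import Groth.Agent.H87.QRegLoc
import Groth.Agent.S5803

set_option autoImplicit false
universe u
open CategoryTheory CategoryTheory.Limits AlgebraicGeometry TopologicalSpace
open Nrm16

namespace Groth.Agent.S5004

theorem elemReg_of_isWeaklyRegular {A : Type u} [CommRing A] (rs : List A)
    (h : RingTheory.Sequence.IsWeaklyRegular A rs) : Groth.Agent.H71.VAS.ElemReg rs := by
  intro i hi w hw
  have h1 := h.regular_mod_prev i hi
  rw [isSMulRegular_quotient_iff_mem_of_smul_mem] at h1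
  have hI : (Ideal.ofList (rs.take i) • ⊤ : Submodule A A) = Ideal.ofList (rs.take i) := by
    simp
  have h2 := h1 w (by rw [hI]; exact hw)
  rw [hI] at h2
  exact h2

theorem ofFn_get_map {A B : Type u} (g : A → B) (rs : List A) :
    List.ofFn (fun i : Fin rs.length => g (rs.get i)) = rs.map g := by
  apply List.ext_getElem
  · simp
  · intro i h1 h2
    simp

/-- On a locally Noetherian scheme, every quasi-regular (quasi-coherent) ideal sheaf is a regular ideal
sheaf. -/
theorem result {X : Scheme.{u}} [IsLocallyNoetherian X] (I : X.IdealSheafData)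
    (h : RegImm.IsRegularIdeal RegImm.Kind.quasi I) : RegImm.IsRegularIdeal RegImm.Kind.regular I := by
  intro x hx
  obtain ⟨U, hxU, rs, hq, hI⟩ := h x hx
  haveI : IsNoetherianRing Γ(X, U.1) := IsLocallyNoetherian.component_noetherian U
  obtain ⟨y, hy⟩ : ∃ y : PrimeSpectrum Γ(X, U.1), y = U.2.primeIdealOf ⟨x, hxU⟩ := ⟨_, rfl⟩
  have hfy : U.2.fromSpec y = x := by
    rw [hy]; exact U.2.fromSpec_primeIdealOf ⟨x, hxU⟩
  have hkey : ∀ f : Γ(X, U.1), x ∈ X.basicOpen f ↔ f ∉ y.asIdeal := by
    intro f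
    have h2 := U.2.fromSpec_preimage_basicOpen f
    constructor
    · intro hxf
      have h3 : y ∈ U.2.fromSpec ⁻¹ᵁ X.basicOpen f := by
        show U.2.fromSpec y ∈ X.basicOpen f
        rw [hfy]; exact hxf
      rw [h2] at h3
      exact (PrimeSpectrum.mem_basicOpen _ _).1 h3
    · intro hf
      have h3 : y ∈ (PrimeSpectrum.basicOpen f) := (PrimeSpectrum.mem_basicOpen _ _).2 hf
      rw [← h2] at h3
      have h4 : U.2.fromSpec y ∈ X.basicOpen f := h3
      rwa [hfy] at h4
  have hIP : I.ideal U ≤ y.asIdeal := by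
    intro f hf
    by_contra hfy'
    have h1 := (hkey f).2 hfy'
    have hz := (Scheme.IdealSheafData.mem_support_iff_of_mem (I := I) (U := U) hxU).1 hx
    rw [Scheme.mem_zeroLocus_iff] at hz
    exact hz f hf h1
  haveI : y.asIdeal.IsPrime := y.isPrime
  have hq0 : CAlgX.IsQuasiRegular rs.get := hq
  have hq' : CAlgX.IsQuasiRegular (fun i : Fin rs.length =>
      algebraMap Γ(X, U.1) (Localization.AtPrime y.asIdeal) (rs.get i)) :=
    Groth.Agent.H87.QRegLoc.isQuasiRegular_of_isLocalization y.asIdeal.primeCompl rs.get hq0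
  have hmem : ∀ i : Fin rs.length,
      algebraMap Γ(X, U.1) (Localization.AtPrime y.asIdeal) (rs.get i) ∈
        IsLocalRing.maximalIdeal (Localization.AtPrime y.asIdeal) := by
    intro i
    rw [IsLocalization.AtPrime.to_map_mem_maximal_iff _ y.asIdeal]
    apply hIP
    rw [hI]
    exact Ideal.subset_span (List.get_mem rs i)
  have hWR := Groth.Agent.S5803.result (Localization.AtPrime y.asIdeal) rs.length _
    (fun i => by
      rw [← Ideal.jacobson_bot, IsLocalRing.jacobson_eq_maximalIdeal _ bot_ne_top]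
      exact hmem i) hq'
  rw [ofFn_get_map] at hWR
  have hER := elemReg_of_isWeaklyRegular _ hWR
  obtain ⟨g, hgy, hg⟩ := Groth.Agent.H71.VAS.exists_elemReg_away y.asIdeal rs hER
  have hxg : x ∈ X.basicOpen g := (hkey g).2 hgy
  haveI : IsLocalization.Away g Γ(X, X.basicOpen g) := U.2.isLocalization_basicOpen g
  have hER' := hg (Submonoid.powers g) Γ(X, X.basicOpen g)
    (IsLocalization.Away.algebraMap_isUnit g)
  have hWR' := Groth.Agent.H71.VAS.isWeaklyRegular_of_elemReg _ hER'
  have hIeq : I.ideal (X.affineBasicOpen g) =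
      Ideal.ofList (rs.map (algebraMap Γ(X, U.1) Γ(X, X.basicOpen g))) := by
    rw [← I.map_ideal_basicOpen U g, hI, Ideal.map_ofList]
    rfl
  refine ⟨X.affineBasicOpen g, hxg, rs.map (algebraMap Γ(X, U.1) Γ(X, X.basicOpen g)), ?_, hIeq⟩
  show RingTheory.Sequence.IsRegular _ _
  refine ⟨hWR', ?_⟩
  intro htop
  have hs : (Ideal.ofList (rs.map (algebraMap Γ(X, U.1) Γ(X, X.basicOpen g))) • ⊤ :
      Submodule Γ(X, X.basicOpen g) Γ(X, X.basicOpen g)) =
      Ideal.ofList (rs.map (algebraMap Γ(X, U.1) Γ(X, X.basicOpen g))) := by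
    simp
  have h2 : I.ideal (X.affineBasicOpen g) = ⊤ := by
    rw [hIeq]; exact (htop.trans hs).symm
  have hz := (Scheme.IdealSheafData.mem_support_iff_of_mem (I := I)
    (U := X.affineBasicOpen g) hxg).1 hx
  rw [Scheme.mem_zeroLocus_iff] at hz
  have h3 := hz 1 (by rw [SetLike.mem_coe, h2]; exact Submodule.mem_top)
  rw [Scheme.basicOpen_one] at h3
  exact h3 hxg

end Groth.Agent.S5004
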