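import Groth.Statements.S9150
import Groth.Agent.H66.RelCI4
import Groth.Agent.S9172

set_option autoImplicit false
universe u
open Synt

namespace Groth.Agent.S9150

/-- Let I be an ideal of a ring R and S̄ an R-algebra killed by I which is syntomic over R/I. Then S̄ is
covered by finitely many basic opens S̄_g each isomorphic, as an R-algebra, to S/IS for some
relative global complete intersection S over R. -/
theorem result (R : Type u) [CommRing R] (I : Ideal R) (Sb : Type u) [CommRing Sb]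
    [Algebra R Sb] [Algebra (R ⧸ I) Sb] [IsScalarTower R (R ⧸ I) Sb] (h : Synt.IsSyntomic (R ⧸ I) Sb) :
    ∃ s : Finset Sb, Ideal.span (s : Set Sb) = ⊤ ∧ ∀ g ∈ s,
      ∃ (n c : ℕ) (F : Fin c → MvPolynomial (Fin n) R), Synt.IsRelGCI R n c F ∧
        Nonempty (Localization.Away g ≃ₐ[R]
          (Synt.RelGCIRing R n c F ⧸ I.map (algebraMap R (Synt.RelGCIRing R n c F)))) := by
  classical
  have hloc : ∀ q : PrimeSpectrum Sb, ∃ g : Sb, g ∉ q.asIdeal ∧
      ∃ (n c : ℕ) (F : Fin c → MvPolynomial (Fin n) R), Synt.IsRelGCI R n c F ∧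
        Nonempty (Localization.Away g ≃ₐ[R]
          (Synt.RelGCIRing R n c F ⧸ I.map (algebraMap R (Synt.RelGCIRing R n c F)))) := by
    intro q
    obtain ⟨g, hg, n, c, Fb, hrelb, ⟨eb⟩⟩ :=
      Groth.Agent.H66.RelCI.exists_relGCI_of_isSyntomic h q
    have hlift : ∀ i, ∃ Fi : MvPolynomial (Fin n) R,
        MvPolynomial.map (Ideal.Quotient.mk I) Fi = Fb i := fun i =>
      MvPolynomial.map_surjective _ Ideal.Quotient.mk_surjective (Fb i)
    choose F hF using hlift
    have hFb : Fb = fun i => MvPolynomial.map (Ideal.Quotient.mk I) (F i) :=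
      funext fun i => (hF i).symm
    subst hFb
    obtain ⟨hh, hh1, hrel, ⟨eA⟩⟩ := Groth.Agent.S9172.result R n c F I hrelb
    obtain ⟨e1⟩ := Groth.Agent.H66.RelCI.nonempty_relGCIRing_quot_equiv R I n c F
    obtain ⟨e2⟩ := Groth.Agent.H66.RelCI.nonempty_quot_equiv_away I
      (Ideal.Quotient.mk (Ideal.span (Set.range F)) hh) hh1
    obtain ⟨e3⟩ := Groth.Agent.H66.RelCI.nonempty_quot_equiv_of_algEquiv I eA
    exact ⟨g, hg, n + 1, c + 1, _, hrel,
      ⟨(eb.restrictScalars R).trans (e1.trans (e2.trans e3))⟩⟩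
  have hspan : Ideal.span {g : Sb | ∃ (n c : ℕ) (F : Fin c → MvPolynomial (Fin n) R),
      Synt.IsRelGCI R n c F ∧ Nonempty (Localization.Away g ≃ₐ[R]
          (Synt.RelGCIRing R n c F ⧸ I.map (algebraMap R (Synt.RelGCIRing R n c F))))} = ⊤ := by
    by_contra hne
    obtain ⟨M, hM, hle⟩ := Ideal.exists_le_maximal _ hne
    obtain ⟨g, hg, hP⟩ := hloc ⟨M, hM.isPrime⟩
    exact hg (hle (Ideal.subset_span hP))
  obtain ⟨s, hsG, hs⟩ := (Ideal.span_eq_top_iff_finite _).mp hspan
  exact ⟨s, hs, fun g hg => hsG hg⟩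

end Groth.Agent.S9150
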