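import Groth.Statements.S7015
import Mathlib.LinearAlgebra.TensorProduct.Finiteness
import Mathlib.LinearAlgebra.Finsupp.LinearCombination
import Mathlib.RingTheory.Finiteness.Basic
import Mathlib.LinearAlgebra.FreeModule.Finite.Basic

set_option autoImplicit false
universe u
open CategoryTheory MonoidalCategory
open DRing

namespace Groth.Agent.S7015

open TensorProduct in
theorem finite_projective_left {R : Type u} [CommRing R] {M N : Type u} [AddCommGroup M] [Module R M]
    [AddCommGroup N] [Module R N] (t : M ⊗[R] N) (ε : N ⊗[R] M →ₗ[R] R)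
    (h : ∀ m : M, TensorProduct.rid R M
      ((ε.lTensor M) (TensorProduct.assoc R M N M (t ⊗ₜ[R] m))) = m) :
    Module.Finite R M ∧ Module.Projective R M := by
  classical
  obtain ⟨S, hS⟩ := TensorProduct.exists_finset t
  let f : M →ₗ[R] (S → R) := LinearMap.pi (fun i => ε ∘ₗ (TensorProduct.mk R N M i.1.2))
  let g : (S → R) →ₗ[R] M := Fintype.linearCombination R (fun i : S => i.1.1)
  have hgf : g ∘ₗ f = LinearMap.id := by
    apply LinearMap.ext
    intro m
    have h1 := h m
    rw [hS, TensorProduct.sum_tmul, map_sum, map_sum, map_sum] at h1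
    simp only [TensorProduct.assoc_tmul, LinearMap.lTensor_tmul, TensorProduct.rid_tmul] at h1
    simp only [LinearMap.comp_apply, LinearMap.id_apply, g, f, Fintype.linearCombination_apply,
      LinearMap.pi_apply, TensorProduct.mk_apply]
    rw [← Finset.sum_coe_sort S] at h1
    exact h1
  have hsurj : Function.Surjective g := fun m => ⟨f m, by
    have := congrArg (fun φ => φ m) hgf
    simpa using this⟩
  exact ⟨Module.Finite.of_surjective g hsurj, Module.Projective.of_split f g hgf⟩

open TensorProduct in
theorem finite_projective_right {R : Type u} [CommRing R] {M N : Type u} [AddCommGroup M] [Module R M]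
    [AddCommGroup N] [Module R N] (t : M ⊗[R] N) (ε : N ⊗[R] M →ₗ[R] R)
    (h : ∀ n : N, TensorProduct.lid R N
      ((ε.rTensor N) ((TensorProduct.assoc R N M N).symm (n ⊗ₜ[R] t))) = n) :
    Module.Finite R N ∧ Module.Projective R N := by
  classical
  obtain ⟨S, hS⟩ := TensorProduct.exists_finset t
  let f : N →ₗ[R] (S → R) := LinearMap.pi (fun i => ε ∘ₗ (TensorProduct.mk R N M).flip i.1.1)
  let g : (S → R) →ₗ[R] N := Fintype.linearCombination R (fun i : S => i.1.2)
  have hgf : g ∘ₗ f = LinearMap.id := by
    apply LinearMap.ext
    intro n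
    have h1 := h n
    rw [hS, TensorProduct.tmul_sum, map_sum, map_sum, map_sum] at h1
    simp only [TensorProduct.assoc_symm_tmul, LinearMap.rTensor_tmul, TensorProduct.lid_tmul] at h1
    simp only [LinearMap.comp_apply, LinearMap.id_apply, g, f, Fintype.linearCombination_apply,
      LinearMap.pi_apply, LinearMap.flip_apply, TensorProduct.mk_apply]
    rw [← Finset.sum_coe_sort S] at h1
    exact h1
  have hsurj : Function.Surjective g := fun n => ⟨f n, by
    have := congrArg (fun φ => φ n) hgf
    simpa using this⟩
  exact ⟨Module.Finite.of_surjective g hsurj, Module.Projective.of_split f g hgf⟩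


/-- Let R be a commutative ring and M, N R-modules such that N is a left dual of M for the tensor
product of R-modules, i.e. there are a coevaluation R → M ⊗ N and an evaluation N ⊗ M → R satisfying
the triangle identities (an exact pairing). Then M and N are finitely generated projective
R-modules. -/
theorem result (R : Type u) [CommRing R] (M N : Type u) [AddCommGroup M]
    [Module R M] [AddCommGroup N] [Module R N] [ExactPairing (ModuleCat.of R M) (ModuleCat.of R N)] :
    Module.Finite R M ∧ Module.Projective R M ∧ Module.Finite R N ∧ Module.Projective R N := by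
  let X : ModuleCat.{u} R := ModuleCat.of R M
  let Y : ModuleCat.{u} R := ModuleCat.of R N
  let η : (𝟙_ (ModuleCat.{u} R)) ⟶ X ⊗ Y := η_ X Y
  let ε : Y ⊗ X ⟶ (𝟙_ (ModuleCat.{u} R)) := ε_ X Y
  let t : TensorProduct R M N := η.hom (1 : R)
  have h1 : ∀ m : M, TensorProduct.rid R M
      ((ε.hom.lTensor M) (TensorProduct.assoc R M N M (TensorProduct.tmul R t m))) = m := by
    intro m
    have h := ExactPairing.evaluation_coevaluation X Y
    have h' := congrArg (fun φ => (ModuleCat.Hom.hom φ) (TensorProduct.tmul R (1 : R) m)) h
    have h'' : (ε.hom.lTensor M) (TensorProduct.assoc R M N M (TensorProduct.tmul R t m)) =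
        (TensorProduct.rid R M).symm (TensorProduct.lid R M (TensorProduct.tmul R (1 : R) m)) := h'
    rw [h'']
    simp
  have h2 : ∀ n : N, TensorProduct.lid R N
      ((ε.hom.rTensor N) ((TensorProduct.assoc R N M N).symm (TensorProduct.tmul R n t))) = n := by
    intro n
    have h := ExactPairing.coevaluation_evaluation X Y
    have h' := congrArg (fun φ => (ModuleCat.Hom.hom φ) (TensorProduct.tmul R n (1 : R))) h
    have h'' : (ε.hom.rTensor N) ((TensorProduct.assoc R N M N).symm (TensorProduct.tmul R n t)) =
        (TensorProduct.lid R N).symm (TensorProduct.rid R N (TensorProduct.tmul R n (1 : R))) := h'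
    rw [h'']
    simp
  obtain ⟨hM1, hM2⟩ := finite_projective_left t ε.hom h1
  obtain ⟨hN1, hN2⟩ := finite_projective_right t ε.hom h2
  exact ⟨hM1, hM2, hN1, hN2⟩

end Groth.Agent.S7015
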