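import Groth.Statements.S6480
import Groth.Agent.S0616

set_option autoImplicit false
universe u
open CycAlg

namespace Groth.Agent.S6480

open Groth.Agent.H17.Chi Groth.Agent.H17.HS
open scoped Pointwise

section lemmas

variable {A : Type u} [CommRing A]

/-- `ℓ(M/N) = ℓ(M/φ⁻¹N) + ℓ(M/φM)` when `N ⊆ φM`. -/
theorem length_quot_eq_add {M : Type*} [AddCommGroup M] [Module A M] (φ : M →ₗ[A] M)
    (N : Submodule A M) (hN : N ≤ LinearMap.range φ) :
    Module.length A (M ⧸ N) =
      Module.length A (M ⧸ N.comap φ) + Module.length A (M ⧸ LinearMap.range φ) := by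
  refine Module.length_eq_add_of_exact (Submodule.mapQ (N.comap φ) N φ le_rfl)
    (Submodule.factor hN) ?_ (Submodule.factor_surjective hN) ?_
  · rw [← LinearMap.ker_eq_bot, LinearMap.ker_eq_bot']
    intro x hx
    obtain ⟨x', rfl⟩ := Submodule.Quotient.mk_surjective _ x
    rw [Submodule.mapQ_apply, Submodule.Quotient.mk_eq_zero] at hx
    rw [Submodule.Quotient.mk_eq_zero]
    exact hx
  · intro y
    obtain ⟨y', rfl⟩ := Submodule.Quotient.mk_surjective _ y
    have hfy : Submodule.factor hN (Submodule.Quotient.mk y') = Submodule.Quotient.mk y' :=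
      Submodule.factor_mk hN y'
    rw [hfy, Submodule.Quotient.mk_eq_zero]
    constructor
    · rintro ⟨x, rfl⟩
      exact ⟨Submodule.Quotient.mk x, by rw [Submodule.mapQ_apply]⟩
    · rintro ⟨x, hx⟩
      obtain ⟨x', rfl⟩ := Submodule.Quotient.mk_surjective _ x
      rw [Submodule.mapQ_apply, Submodule.Quotient.eq] at hx
      have h1 : φ x' - y' ∈ LinearMap.range φ := hN hx
      have h2 : y' = φ x' - (φ x' - y') := by abel
      rw [h2]
      exact Submodule.sub_mem _ ⟨x', rfl⟩ h1

theorem range_lsmul (x : A) (N : Type*) [AddCommGroup N] [Module A N] :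
    LinearMap.range (LinearMap.lsmul A N x) = x • (⊤ : Submodule A N) := by
  ext n
  rw [LinearMap.mem_range, Submodule.mem_smul_pointwise_iff_exists]
  constructor
  · rintro ⟨b, rfl⟩
    exact ⟨b, Submodule.mem_top, rfl⟩
  · rintro ⟨b, -, rfl⟩
    exact ⟨b, rfl⟩

variable [IsNoetherianRing A]

theorem nzd_notMem_minimalPrimes {a : A} (ha : a ∈ nonZeroDivisors A) :
    ∀ q ∈ minimalPrimes A, a ∉ q := by
  intro q hq haq
  have hq' : q ∈ associatedPrimes A A := by
    apply Module.associatedPrimes.minimalPrimes_annihilator_subset_associatedPrimes A A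
    have h0 : Module.annihilator A A = ⊥ := Module.annihilator_eq_bot.mpr inferInstance
    rw [h0]
    exact hq
  have h1 : a ∈ ⋃ p ∈ associatedPrimes A A, (p : Set A) := Set.mem_biUnion hq' haq
  rw [biUnion_associatedPrimes_eq_compl_nonZeroDivisors] at h1
  exact h1 ha

variable [IsLocalRing A]

theorem ordFrac_div_eq (hA : ringKrullDim A = 1) (q : Ideal A) [q.IsPrime] (a b : A)
    (haq : a ∉ q) (hbq : b ∉ q) :
    CycAlg.ordFrac (A ⧸ q) q.ResidueField
        (algebraMap A q.ResidueField a / algebraMap A q.ResidueField b) =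
      ((Module.length A (A ⧸ (q ⊔ Ideal.span {a}))).toNat : ℤ) -
        ((Module.length A (A ⧸ (q ⊔ Ideal.span {b}))).toNat : ℤ) := by
  haveI hK : Ring.KrullDimLE 1 (A ⧸ q) := by
    rw [Ring.krullDimLE_iff]
    have := (ringKrullDim_quotient_le q).trans hA.le
    exact_mod_cast this
  have hcond : IsNoetherianRing (A ⧸ q) ∧ Ring.KrullDimLE 1 (A ⧸ q) ∧ Nontrivial (A ⧸ q) ∧
      IsFractionRing (A ⧸ q) q.ResidueField := ⟨inferInstance, hK, inferInstance, inferInstance⟩
  unfold CycAlg.ordFrac
  rw [dif_pos hcond]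
  have ha0 : Ideal.Quotient.mk q a ≠ 0 := fun h => haq (Ideal.Quotient.eq_zero_iff_mem.mp h)
  have hb0 : Ideal.Quotient.mk q b ≠ 0 := fun h => hbq (Ideal.Quotient.eq_zero_iff_mem.mp h)
  have ha1 : algebraMap A q.ResidueField a =
      algebraMap (A ⧸ q) q.ResidueField (Ideal.Quotient.mk q a) := rfl
  have hb1 : algebraMap A q.ResidueField b =
      algebraMap (A ⧸ q) q.ResidueField (Ideal.Quotient.mk q b) := rfl
  have hna : Ring.ord (A ⧸ q) (Ideal.Quotient.mk q a) =
      (((Module.length A (A ⧸ (q ⊔ Ideal.span {a}))).toNat : ℕ) : ℕ∞) := by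
    have h1 := Ring.ord_ne_top (mem_nonZeroDivisors_of_ne_zero ha0)
    rw [ord_quotient_eq] at h1 ⊢
    exact (ENat.natCast_toNat h1).symm
  have hnb : Ring.ord (A ⧸ q) (Ideal.Quotient.mk q b) =
      (((Module.length A (A ⧸ (q ⊔ Ideal.span {b}))).toNat : ℕ) : ℕ∞) := by
    have h1 := Ring.ord_ne_top (mem_nonZeroDivisors_of_ne_zero hb0)
    rw [ord_quotient_eq] at h1 ⊢
    exact (ENat.natCast_toNat h1).symm
  rw [ha1, hb1, map_div₀, Ring.ordFrac_eq_ord _ ha0, Ring.ordFrac_eq_ord _ hb0,
    Ring.ordMonoidWithZeroHom_eq_coe _ (mem_nonZeroDivisors_of_ne_zero ha0) hna,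
    Ring.ordMonoidWithZeroHom_eq_coe _ (mem_nonZeroDivisors_of_ne_zero hb0) hnb,
    ← WithZero.coe_div, WithZero.recZeroCoe_coe, toAdd_div, toAdd_ofAdd, toAdd_ofAdd]

end lemmas

/-- Let A be a Noetherian local ring of dimension 1, a, b ∈ A nonzerodivisors, A without embedded
primes, M a finite A-module without embedded associated primes and with Supp(M) = Spec(A). Put I =
{x ∈ A | x·(a/b) ∈ A}, and write 𝔮_1, …, 𝔮_t for the minimal prime ideals of A. The conclusion is
that M contains (a/b)IM, and that the difference length_A(M/(a/b)IM) minus length_A(M/IM) equals the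
sum over i of length_{A_{𝔮_i}}(M_{𝔮_i}) multiplied by ord_{A/𝔮_i}(a/b). Encoding: I is the ideal
quotient (bA : aA); '(a/b)IM ⊂ M' is aIM ⊆ bM; (a/b)IM is the submodule of m with bm ∈ aIM (b acts
injectively on M); ord_{A/𝔮}(a/b) is CycAlg.ordFrac on κ(𝔮) = Frac(A/𝔮); lengths are truncated to ℕ
(they are finite here). -/
theorem result {A : Type u} [CommRing A] [IsNoetherianRing A] [IsLocalRing A] (hA : ringKrullDim A = 1) {M : Type u} [AddCommGroup M] [Module A M] [Module.Finite A M] (a b : A) (ha : a ∈ nonZeroDivisors A) (hb : b ∈ nonZeroDivisors A) (hAemb : ∀ p ∈ associatedPrimes A A, p ∈ minimalPrimes A) (hMemb : ∀ p ∈ associatedPrimes A M, p ∈ minimalPrimes A) (hsupp : Module.support A M = Set.univ) (I : Ideal A) (hI : I = (Ideal.span {b}).colon (Ideal.span {a})) (P : Submodule A M) (hP : P = Submodule.comap (LinearMap.lsmul A M b) ((Ideal.span {a} * I) • (⊤ : Submodule A M))) : (Ideal.span {a} * I) • (⊤ : Submodule A M) ≤ LinearMap.range (LinearMap.lsmul A M b) ∧ ((Module.length A (M ⧸ P)).toNat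 : ℤ) - ((Module.length A (M ⧸ I • (⊤ : Submodule A M))).toNat : ℤ) = ∑ᶠ (q : PrimeSpectrum A) (_ : q.asIdeal ∈ minimalPrimes A), ((Module.length (Localization.AtPrime q.asIdeal) (LocalizedModule q.asIdeal.primeCompl M)).toNat : ℤ) * CycAlg.ordFrac (A ⧸ q.asIdeal) q.asIdeal.ResidueField (algebraMap A q.asIdeal.ResidueField a / algebraMap A q.asIdeal.ResidueField b) := by
  classical
  have hmin_a := nzd_notMem_minimalPrimes ha
  have hmin_b := nzd_notMem_minimalPrimes hb
  -- regularity on `M`
  have hreg : ∀ c : A, (∀ q ∈ minimalPrimes A, c ∉ q) → IsSMulRegular M c := by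
    intro c hc
    by_contra hn
    have h1 : c ∈ ({r : A | IsSMulRegular M r}ᶜ : Set A) := hn
    rw [← biUnion_associatedPrimes_eq_compl_regular A M] at h1
    obtain ⟨p, hp, hcp⟩ := Set.mem_iUnion₂.mp h1
    exact hc p (hMemb p hp) hcp
  have hreg_a := hreg a hmin_a
  have hreg_b := hreg b hmin_b
  -- finiteness of `ℓ(M/cM)`
  have hfin : ∀ c : A, (∀ q ∈ minimalPrimes A, c ∉ q) →
      Module.length A (M ⧸ c • (⊤ : Submodule A M)) ≠ ⊤ := by
    intro c hc
    by_cases hcu : IsUnit c
    · rw [length_quot_eq_zero_of_isUnit hcu]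
      exact ENat.zero_ne_top
    · refine length_quot_ne_top (x := c) ?_
      intro p _ hcp
      by_contra hpm
      obtain ⟨q, hq, hqp⟩ := Ideal.exists_minimalPrimes_le (bot_le : (⊥ : Ideal A) ≤ p.asIdeal)
      haveI : q.IsPrime := hq.1.1
      have hne : q ≠ p.asIdeal := fun h => hc q hq (h ▸ hcp)
      exact hpm (eq_maximalIdeal_of_lt hA.le (lt_of_le_of_ne hqp hne))
  -- the two formulas
  have hS : {q : PrimeSpectrum A | q.asIdeal ∈ minimalPrimes A}.Finite :=
    (Ideal.finite_minimalPrimes_of_isNoetherianRing A ⊥).preimage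
      (fun p _ q _ h => PrimeSpectrum.ext h)
  have hform : ∀ c : A, (∀ q ∈ minimalPrimes A, c ∉ q) →
      ((Module.length A (M ⧸ c • (⊤ : Submodule A M))).toNat : ℤ) =
        ∑ q ∈ hS.toFinset, ((Module.length (Localization.AtPrime q.asIdeal)
          (LocalizedModule q.asIdeal.primeCompl M)).toNat : ℤ) *
            ((Module.length A (A ⧸ (q.asIdeal ⊔ Ideal.span {c}))).toNat : ℤ) := by
    intro c hc
    have f1 := Groth.Agent.S0616.result hA M c hc
    rw [(isSMulRegular_iff_ker_lsmul_eq_bot M c).mp (hreg c hc), Module.length_bot, zero_add] at f1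
    have f2 : Module.length A (M ⧸ c • (⊤ : Submodule A M)) =
        ∑ q ∈ hS.toFinset, Module.length (Localization.AtPrime q.asIdeal)
          (LocalizedModule q.asIdeal.primeCompl M) *
            Module.length A (A ⧸ (q.asIdeal ⊔ Ideal.span {c})) :=
      f1.trans (finsum_mem_eq_finite_toFinset_sum (fun q : PrimeSpectrum A =>
        Module.length (Localization.AtPrime q.asIdeal)
          (LocalizedModule q.asIdeal.primeCompl M) *
            Module.length A (A ⧸ (q.asIdeal ⊔ Ideal.span {c}))) hS)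
    have hterm : ∀ q ∈ hS.toFinset, Module.length (Localization.AtPrime q.asIdeal)
          (LocalizedModule q.asIdeal.primeCompl M) *
            Module.length A (A ⧸ (q.asIdeal ⊔ Ideal.span {c})) ≠ ⊤ := by
      intro q hq
      refine ne_top_of_le_ne_top (hfin c hc) ?_
      rw [f2]
      exact Finset.single_le_sum (f := fun q : PrimeSpectrum A =>
        Module.length (Localization.AtPrime q.asIdeal)
          (LocalizedModule q.asIdeal.primeCompl M) *
            Module.length A (A ⧸ (q.asIdeal ⊔ Ideal.span {c}))) (fun _ _ => zero_le) hq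
    rw [f2, ENat.toNat_sum hterm]
    push_cast
    refine Finset.sum_congr rfl (fun q _ => ?_)
    rw [ENat.toNat_mul]
    push_cast
    rfl
  -- the ideal inclusions
  have hIb : Ideal.span {a} * I ≤ Ideal.span {b} := by
    rw [Ideal.mul_le]
    intro r hr s hs
    obtain ⟨c, rfl⟩ := Ideal.mem_span_singleton'.mp hr
    rw [hI] at hs
    have h1 : s • a ∈ Ideal.span {b} :=
      (Submodule.mem_colon.mp hs) a (Ideal.subset_span (Set.mem_singleton a))
    have h2 : c * a * s = c * (s • a) := by rw [smul_eq_mul]; ring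
    rw [h2]
    exact Ideal.mul_mem_left _ _ h1
  have hbI : b ∈ I := by
    rw [hI, Submodule.mem_colon]
    intro s hs
    obtain ⟨c, rfl⟩ := Ideal.mem_span_singleton'.mp hs
    rw [smul_eq_mul]
    exact Ideal.mem_span_singleton'.mpr ⟨c * a, by ring⟩
  have hNb : (Ideal.span {a} * I) • (⊤ : Submodule A M) ≤
      LinearMap.range (LinearMap.lsmul A M b) := by
    rw [range_lsmul, ← Submodule.ideal_span_singleton_smul]
    exact Submodule.smul_mono_left hIb
  have hNa : (Ideal.span {a} * I) • (⊤ : Submodule A M) ≤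
      LinearMap.range (LinearMap.lsmul A M a) := by
    rw [range_lsmul, ← Submodule.ideal_span_singleton_smul]
    exact Submodule.smul_mono_left Ideal.mul_le_left
  refine ⟨hNb, ?_⟩
  -- the preimage under `a`
  have hcomap_a : ((Ideal.span {a} * I) • (⊤ : Submodule A M)).comap (LinearMap.lsmul A M a) =
      I • (⊤ : Submodule A M) := by
    rw [Submodule.mul_smul, Submodule.ideal_span_singleton_smul]
    ext m
    rw [Submodule.mem_comap, LinearMap.lsmul_apply, Submodule.mem_smul_pointwise_iff_exists]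
    constructor
    · rintro ⟨n, hn, hnm⟩
      rw [← hreg_a hnm]
      exact hn
    · intro hm
      exact ⟨m, hm, rfl⟩
  have e1 := length_quot_eq_add (LinearMap.lsmul A M b) _ hNb
  have e2 := length_quot_eq_add (LinearMap.lsmul A M a) _ hNa
  rw [← hP, range_lsmul] at e1
  rw [hcomap_a, range_lsmul] at e2
  -- finiteness
  have hLa := hfin a hmin_a
  have hLb := hfin b hmin_b
  have hLI : Module.length A (M ⧸ I • (⊤ : Submodule A M)) ≠ ⊤ := by
    refine ne_top_of_le_ne_top hLb ?_
    have hle : b • (⊤ : Submodule A M) ≤ I • (⊤ : Submodule A M) := by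
      rw [← Submodule.ideal_span_singleton_smul]
      exact Submodule.smul_mono_left ((Ideal.span_singleton_le_iff_mem _).mpr hbI)
    exact Module.length_le_of_surjective (Submodule.factor hle) (Submodule.factor_surjective hle)
  have hLN : Module.length A (M ⧸ (Ideal.span {a} * I) • (⊤ : Submodule A M)) ≠ ⊤ := by
    rw [e2]
    exact WithTop.add_ne_top.mpr ⟨hLI, hLa⟩
  have hLP : Module.length A (M ⧸ P) ≠ ⊤ := by
    intro h
    rw [h, top_add] at e1
    exact hLN e1
  -- pass to integers
  have key : ((Module.length A (M ⧸ P)).toNat : ℤ) -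
      ((Module.length A (M ⧸ I • (⊤ : Submodule A M))).toNat : ℤ) =
      ((Module.length A (M ⧸ a • (⊤ : Submodule A M))).toNat : ℤ) -
      ((Module.length A (M ⧸ b • (⊤ : Submodule A M))).toNat : ℤ) := by
    have e3 := e1.symm.trans e2
    lift Module.length A (M ⧸ P) to ℕ using hLP with n1
    lift Module.length A (M ⧸ I • (⊤ : Submodule A M)) to ℕ using hLI with n2
    lift Module.length A (M ⧸ a • (⊤ : Submodule A M)) to ℕ using hLa with n3
    lift Module.length A (M ⧸ b • (⊤ : Submodule A M)) to ℕ using hLb with n4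
    simp only [ENat.toNat_natCast]
    have e4 : n1 + n4 = n2 + n3 := by exact_mod_cast e3
    omega
  rw [key, hform a hmin_a, hform b hmin_b, ← Finset.sum_sub_distrib]
  refine Eq.trans ?_ (finsum_mem_eq_finite_toFinset_sum _ hS).symm
  refine Finset.sum_congr rfl (fun q hq => ?_)
  have hq' : q.asIdeal ∈ minimalPrimes A := hS.mem_toFinset.mp hq
  rw [ordFrac_div_eq hA q.asIdeal a b (hmin_a _ hq') (hmin_b _ hq'), mul_sub]


end Groth.Agent.S6480
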