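import Groth.Statements.S12292
import Groth.Agent.H61.ExalCot

set_option autoImplicit false
universe u w m
open scoped TensorProduct
open DefT

namespace Groth.Agent.S12292

/-- Let A → B be a ring homomorphism and M a B-module. The equivalence classes of extensions of B by M
as A-algebras (surjections of A-algebras B' → B whose kernel is an ideal of square zero identified
with M, two extensions being equivalent when there is an isomorphism compatible with the identities
of B and M) are in bijection with T^1(B/A, M), computed from the choice-free presentation, the class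
of the trivial extension B ⊕ M corresponding to zero. (The published statement calls the
correspondence natural; this row asserts the existence of a bijection taking the trivial class to
zero.) -/
theorem result
    (A B : Type u) [CommRing A] [CommRing B] [Algebra A B] (M : Type u) [AddCommGroup M] [Module B M] :
    ∃ e : Exal.Exalcom A B M ≃ CotT.T1 (CotT.canon A B) M, e 0 = 0 := by
  classical
  let P := CotT.canon A B
  letI : Module P.toExtension.Ring M := Module.compHom M (algebraMap P.toExtension.Ring B)
  haveI : IsScalarTower P.toExtension.Ring B M := IsScalarTower.of_compHom P.toExtension.Ring B M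
  letI : Module A M := Module.compHom M (algebraMap A B)
  haveI : IsScalarTower A B M := IsScalarTower.of_compHom A B M
  haveI : IsScalarTower A P.toExtension.Ring M := ⟨fun a r x => by
    change algebraMap P.toExtension.Ring B (a • r) • x = a • (algebraMap P.toExtension.Ring B r • x)
    rw [Algebra.smul_def, map_mul, ← IsScalarTower.algebraMap_apply, mul_smul, algebraMap_smul]⟩
  let Ψ₀ : Exal.Ext A B M → Groth.Agent.H61.CotT2.C1 M P.toExtension := fun X =>
    Submodule.Quotient.mk (Groth.Agent.H61.ExalCot.exists_isClassOf P X).choose
  have hspec : ∀ X : Exal.Ext A B M, Groth.Agent.H61.ExalCot.IsClassOf P X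
      (Groth.Agent.H61.ExalCot.exists_isClassOf P X).choose :=
    fun X => (Groth.Agent.H61.ExalCot.exists_isClassOf P X).choose_spec
  have hΨ₀ : ∀ (X : Exal.Ext A B M) (φ : P.toExtension.Cotangent →ₗ[B] M),
      Groth.Agent.H61.ExalCot.IsClassOf P X φ → Ψ₀ X = Submodule.Quotient.mk φ := by
    intro X φ h
    change Submodule.Quotient.mk _ = Submodule.Quotient.mk φ
    rw [Submodule.Quotient.eq]
    exact Groth.Agent.H61.ExalCot.sub_mem_range P X _ _ (hspec X) h
  let Ψ : Exal.Exalcom A B M → Groth.Agent.H61.CotT2.C1 M P.toExtension :=
    Quotient.lift Ψ₀ (fun X Y hXY => by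
      obtain ⟨e⟩ := hXY
      exact (hΨ₀ Y _ (Groth.Agent.H61.ExalCot.isClassOf_of_equiv P X Y e _ (hspec X))).symm)
  have hinj : Function.Injective Ψ := by
    intro a b h
    induction a using Quotient.inductionOn with | h X
    induction b using Quotient.inductionOn with | h Y
    apply Quotient.sound
    have h' : Ψ₀ X = Ψ₀ Y := h
    change Submodule.Quotient.mk _ = Submodule.Quotient.mk _ at h'
    rw [Submodule.Quotient.eq] at h'
    exact Groth.Agent.H61.ExalCot.nonempty_equiv_of_sub_mem P X Y _ _ (hspec X) (hspec Y) h'
  have hsurj : Function.Surjective Ψ := by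
    intro c
    obtain ⟨φ, rfl⟩ := Submodule.Quotient.mk_surjective _ c
    obtain ⟨X, hX⟩ := Groth.Agent.H61.ExalCot.exists_ext_isClassOf (A := A) P φ
    exact ⟨Exal.Ext.cl X, hΨ₀ X φ hX⟩
  have h0 : Ψ 0 = 0 := by
    have := hΨ₀ (Exal.Ext.trivial A B M) 0 (Groth.Agent.H61.ExalCot.isClassOf_trivial P)
    rw [Submodule.Quotient.mk_zero] at this
    exact this
  refine ⟨(Equiv.ofBijective Ψ ⟨hinj, hsurj⟩).trans
    (Groth.Agent.H61.CotT2.T1equivC1 M P).symm.toEquiv, ?_⟩
  rw [Equiv.trans_apply, Equiv.ofBijective_apply, h0]
  exact map_zero (Groth.Agent.H61.CotT2.T1equivC1 M P).symm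

end Groth.Agent.S12292
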