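import Groth.Statements.S18818
import Groth.Agent.H93.Comod4
import Groth.Agent.H40.Comod
import Mathlib.LinearAlgebra.FiniteDimensional.Lemmas

set_option autoImplicit false
universe u v w w' x
open TensorProduct
open HopfRep

namespace Groth.Agent.S18818

/-- every nonzero finite-dimensional subcomodule contains a simple subcomodule -/
theorem exists_simple_le {k : Type u} [Field k]
    {C : Type v} [AddCommGroup C] [Module k C] [Coalgebra k C]
    {V : Type w} [AddCommGroup V] [Module k V] [HopfRep.Comod k C V]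
    (G₀ : Submodule k V) [Module.Finite k G₀] (hG₀ : HopfRep.IsSubcomod (k := k) (A := C) G₀)
    (hne : G₀ ≠ ⊥) :
    ∃ G : Submodule k V, G ≤ G₀ ∧ HopfRep.IsSubcomod (k := k) (A := C) G ∧ G ≠ ⊥ ∧
      ∀ W' : Submodule k V, HopfRep.IsSubcomod (k := k) (A := C) W' → W' ≤ G → W' = ⊥ ∨ W' = G := by
  classical
  have hex : ∃ n : ℕ, ∃ G : Submodule k V, G ≤ G₀ ∧ HopfRep.IsSubcomod (k := k) (A := C) G ∧ G ≠ ⊥ ∧
      Module.finrank k G = n := ⟨_, G₀, le_rfl, hG₀, hne, rfl⟩
  obtain ⟨G, hGle, hGsub, hGne, hGn⟩ := Nat.find_spec hex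
  refine ⟨G, hGle, hGsub, hGne, ?_⟩
  intro W' hW' hW'G
  by_cases hW'0 : W' = ⊥
  · exact Or.inl hW'0
  · right
    by_contra hne'
    have hlt : W' < G := lt_of_le_of_ne hW'G hne'
    haveI : Module.Finite k G := Module.Finite.of_injective (Submodule.inclusion hGle)
      (Submodule.inclusion_injective hGle)
    have := Submodule.finrank_lt_finrank_of_lt hlt
    rw [hGn] at this
    exact Nat.find_min hex this ⟨W', hW'G.trans hGle, hW', hW'0, rfl⟩

/-- Let k be a field, C a k-coalgebra and V a right C-comodule which is semisimple in the sense that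
every subcomodule has a complementary subcomodule (equivalently every injective comodule map into V
splits). Then V is completely reducible: V is the sum of its simple subcomodules, the nonzero
subcomodules W whose only subcomodules are 0 and W. (The source states this for representations of
an affine monoid scheme over k, i.e. left comodules over its coordinate bialgebra; the converse
implication and the stability of the class under subobjects and quotients are not part of this row.) -/
theorem result (k : Type u) [Field k]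
    (C : Type v) [AddCommGroup C] [Module k C] [Coalgebra k C]
    (V : Type w) [AddCommGroup V] [Module k V] [HopfRep.Comod k C V] (hV : HopfRep.IsSemisimpleComod k C V) :
    (⨆ W : {W : Submodule k V // HopfRep.IsSubcomod (k := k) (A := C) W ∧ W ≠ ⊥ ∧
        ∀ W' : Submodule k V, HopfRep.IsSubcomod (k := k) (A := C) W' → W' ≤ W → W' = ⊥ ∨ W' = W},
      (W.1 : Submodule k V)) = ⊤ := by
  classical
  set Soc : Submodule k V := (⨆ W : {W : Submodule k V // HopfRep.IsSubcomod (k := k) (A := C) W ∧ W ≠ ⊥ ∧
        ∀ W' : Submodule k V, HopfRep.IsSubcomod (k := k) (A := C) W' → W' ≤ W → W' = ⊥ ∨ W' = W},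
      (W.1 : Submodule k V)) with hSoc
  have hSocsub : HopfRep.IsSubcomod (k := k) (A := C) Soc :=
    Groth.Agent.H93.isSubcomod_iSup _ (fun W => W.2.1)
  obtain ⟨W', hW'sub, hcompl⟩ := hV Soc hSocsub
  have hW'bot : W' = ⊥ := by
    by_contra hW'ne
    obtain ⟨w, hwW', hw0⟩ := Submodule.exists_mem_ne_zero_of_ne_bot hW'ne
    obtain ⟨F, hFfin, hwF, hFsub⟩ := Groth.Agent.H40.exists_finite_subcomod_mem (k := k) (C := C) w
    have hG₀sub : HopfRep.IsSubcomod (k := k) (A := C) (F ⊓ W') :=
      Groth.Agent.H40.isSubcomod_inf hFsub hW'sub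
    haveI : Module.Finite k ↥(F ⊓ W') := Module.Finite.of_injective
      (Submodule.inclusion (inf_le_left : F ⊓ W' ≤ F)) (Submodule.inclusion_injective _)
    have hG₀ne : F ⊓ W' ≠ ⊥ := by
      intro h
      have : w ∈ F ⊓ W' := ⟨hwF, hwW'⟩
      rw [h] at this
      exact hw0 ((Submodule.mem_bot k).mp this)
    obtain ⟨G, hGle, hGsub, hGne, hGsimple⟩ := exists_simple_le (F ⊓ W') hG₀sub hG₀ne
    have h1 : G ≤ Soc := le_iSup (fun W : {W : Submodule k V // HopfRep.IsSubcomod (k := k) (A := C) W ∧ W ≠ ⊥ ∧
        ∀ W' : Submodule k V, HopfRep.IsSubcomod (k := k) (A := C) W' → W' ≤ W → W' = ⊥ ∨ W' = W} =>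
        (W.1 : Submodule k V)) ⟨G, hGsub, hGne, hGsimple⟩
    have h2 : G ≤ W' := hGle.trans inf_le_right
    have : G ≤ Soc ⊓ W' := le_inf h1 h2
    rw [hcompl.inf_eq_bot, le_bot_iff] at this
    exact hGne this
  rw [hW'bot] at hcompl
  exact eq_top_of_isCompl_bot hcompl

end Groth.Agent.S18818
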