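import Groth.Statements.S11199
import Mathlib.AlgebraicGeometry.Noetherian
import Mathlib.AlgebraicGeometry.Morphisms.FiniteType
import Mathlib.RingTheory.Noetherian.Basic

set_option autoImplicit false
universe u
open CategoryTheory MonoidalCategory CartesianMonoidalCategory MonObj GrpObj AlgebraicGeometry
open scoped TensorProduct
open AGF

namespace Groth.Agent.S11199

/-- Let k be an algebraically closed field, G a linear algebraic group over k (an affine smooth group
scheme over k) and H a closed subgroup of G (a smooth closed subgroup scheme, i : H → G). Then there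
are finitely many right-H-invariant global functions f₁, ..., fₙ on G which already cut out the
observable hull of H: a rational point of G whose right translation fixes each fⱼ fixes every
right-H-invariant global function. -/
theorem result (k : Type u) [Field k] [IsAlgClosed k]
    (G : Over (Spec (CommRingCat.of k))) [GrpObj G] [IsAffine G.left] [Smooth G.hom]
    (H : Over (Spec (CommRingCat.of k))) [GrpObj H] [Smooth H.hom] (i : H ⟶ G) [IsMonHom i]
    [IsClosedImmersion i.left] :
    ∃ s : Finset Γ(G.left, ⊤), (∀ f ∈ s, AGF.IsRTransInv i f) ∧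
      ∀ g : VecGrp.pt k k ⟶ G, (∀ f ∈ s, AGF.IsRTransInv g f) →
        ∀ f : Γ(G.left, ⊤), AGF.IsRTransInv i f → AGF.IsRTransInv g f := by
  classical
  haveI : LocallyOfFiniteType G.hom := inferInstance
  haveI : LocallyOfFiniteType (G ⊗ G).hom := by
    change LocallyOfFiniteType (Limits.pullback.fst G.hom G.hom ≫ G.hom)
    infer_instance
  haveI : IsAffine (G ⊗ G).left := by
    change IsAffine (Limits.pullback G.hom G.hom)
    infer_instance
  haveI : IsLocallyNoetherian (G ⊗ G).left :=
    LocallyOfFiniteType.isLocallyNoetherian (G ⊗ G).hom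
  haveI : IsNoetherianRing Γ((G ⊗ G).left, ⊤) :=
    IsLocallyNoetherian.component_noetherian ⟨⊤, isAffineOpen_top _⟩
  -- the difference map
  let Φ : Γ(G.left, ⊤) → Γ((G ⊗ G).left, ⊤) := fun f =>
    μ[G].left.appTop f - (fst G G).left.appTop f
  have key : ∀ {T : Over (Spec (CommRingCat.of k))} (g : T ⟶ G) (f : Γ(G.left, ⊤)),
      AGF.IsRTransInv g f ↔ (G ◁ g).left.appTop (Φ f) = 0 := by
    intro T g f
    have e1 : (G ◁ g).left.appTop (μ[G].left.appTop f) = ((G ◁ g) ≫ μ[G]).left.appTop f := by
      rw [Over.comp_left, Scheme.Hom.comp_appTop]; rfl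
    have e2 : (G ◁ g).left.appTop ((fst G G).left.appTop f) = (fst G T).left.appTop f := by
      have : (G ◁ g).left.appTop ((fst G G).left.appTop f) =
          ((G ◁ g) ≫ fst G G).left.appTop f := by
        rw [Over.comp_left, Scheme.Hom.comp_appTop]; rfl
      rw [this, whiskerLeft_fst]
    simp only [Φ, map_sub, e1, e2, sub_eq_zero]
    rfl
  let S : Set Γ(G.left, ⊤) := {f | AGF.IsRTransInv i f}
  have hfg : (Ideal.span (Φ '' S)).FG := IsNoetherian.noetherian _
  obtain ⟨t, htS, hspan⟩ := (Submodule.fg_span_iff_fg_span_finset_subset _).mp hfg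
  obtain ⟨s, hsS, hst⟩ := Finset.subset_set_image_iff.mp htS
  refine ⟨s, fun f hf => hsS hf, fun g hg f hf => ?_⟩
  rw [key]
  have hle : Ideal.span (Φ '' S) ≤ RingHom.ker (G ◁ g).left.appTop.hom := by
    change Submodule.span _ (Φ '' S) ≤ _
    rw [hspan]
    refine Submodule.span_le.mpr ?_
    intro x hx
    rw [← hst] at hx
    simp only [Finset.coe_image, Set.mem_image, Finset.mem_coe] at hx
    obtain ⟨f', hf', rfl⟩ := hx
    exact (key g f').mp (hg f' hf')
  exact hle (Ideal.subset_span ⟨f, hf, rfl⟩)

end Groth.Agent.S11199
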