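import Groth.Statements.S12733
import Groth.Agent.H63.ArtTheta

set_option autoImplicit false
universe u v
open CategoryTheory
open ArtFun

namespace Groth.Agent.S12733

/-- Let F, G be deformation functors on Artinian local Λ-algebras with residue field k (value at k a
point, and condition (RS): the comparison map for A₁ ×_A A₂ is bijective whenever A₂ → A is
surjective). A smooth morphism φ : F → G inducing a bijection on tangent spaces is an isomorphism:
every φ_A is bijective. -/
theorem result {Λ : Type u} {k : Type u} [CommRing Λ] [Field k] [Algebra Λ k]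
    [IsNoetherianRing Λ] [Module.Finite Λ k]
    {F G : ArtFun.Art Λ k ⥤ Type v}
    (hF0 : ArtFun.H0 F) (hF : (∀ ⦃B A A' A'' : ArtFun.Art Λ k⦄ (p' : B ⟶ A') (p'' : B ⟶ A'') (f' : A' ⟶ A) (f'' : A'' ⟶ A)
        (h : ArtFun.Art.IsFibreProd p' p'' f' f''), Function.Surjective f'' → Function.Bijective (ArtFun.cmp F h)))
    (hG0 : ArtFun.H0 G) (hG : (∀ ⦃B A A' A'' : ArtFun.Art Λ k⦄ (p' : B ⟶ A') (p'' : B ⟶ A'') (f' : A' ⟶ A) (f'' : A'' ⟶ A)
        (h : ArtFun.Art.IsFibreProd p' p'' f' f''), Function.Surjective f'' → Function.Bijective (ArtFun.cmp G h)))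
    (φ : F ⟶ G) (hφ : ArtFun.IsSmooth φ) (hd : Function.Bijective (ArtFun.TangentSpace.map φ))
    (A : ArtFun.Art Λ k) : Function.Bijective (φ.app A) := by
  have hsurj : Function.Surjective (φ.app A) := by
    intro g
    obtain ⟨x₀⟩ := hF0.1
    have hG0s := hG0.2
    obtain ⟨z, hz⟩ := hφ (ArtFun.Art.toBase A) A.res_surjective
      ⟨(x₀, g), Subsingleton.elim _ _⟩
    exact ⟨z, congrArg (fun t => t.1.2) hz⟩
  refine ⟨?_, hsurj⟩
  have key := Groth.Agent.H63.surjective_induction
    (fun (A B : ArtFun.Art Λ k) (_ : B ⟶ A) =>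
      Function.Injective (φ.app A) → Function.Injective (φ.app B)) ?_ ?_ ?_
    (ArtFun.Art.toBase A) A.res_surjective
  · have key' : Function.Injective (φ.app (ArtFun.Art.base Λ k)) →
        Function.Injective (φ.app A) := key
    apply key'
    have hsub := hF0.2
    intro x y _
    exact Subsingleton.elim x y
  · intro A B e he hA x y hxy
    have h1 : F.map e x = F.map e y := by
      apply hA
      rw [NatTrans.naturality_apply φ e x, NatTrans.naturality_apply φ e y, hxy]
    have h2 := congrArg (F.map (inv e)) h1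
    rwa [← Functor.map_comp_apply, ← Functor.map_comp_apply, IsIso.hom_inv_id,
      Functor.map_id_apply, Functor.map_id_apply] at h2
  · intro A B μ hsm hA x₁ x₂ hx
    have hμ := hsm.1
    have hC := Groth.Agent.H63.isFibreProd_fibreProd μ μ hμ
    obtain ⟨θ, hθ⟩ := Groth.Agent.H63.exists_theta hC hsm
    have hdual : Function.Surjective (ArtFun.Art.toBase (ArtFun.Art.dual Λ k)) :=
      (ArtFun.Art.dual Λ k).res_surjective
    have h1 : F.map μ x₁ = F.map μ x₂ := by
      apply hA
      rw [NatTrans.naturality_apply φ μ x₁, NatTrans.naturality_apply φ μ x₂, hx]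
    obtain ⟨z, hz⟩ := (hF _ _ μ μ hC hμ).2 ⟨(x₁, x₂), h1⟩
    have hz1 : F.map (Groth.Agent.H63.fibreProdFst μ μ hμ) z = x₁ := congrArg (fun t => t.1.1) hz
    have hz2 : F.map (Groth.Agent.H63.fibreProdSnd μ μ hμ) z = x₂ := congrArg (fun t => t.1.2) hz
    have hδ1 : Groth.Agent.H63.fibreProdLift μ μ hμ (𝟙 B) (𝟙 B) rfl ≫
        Groth.Agent.H63.fibreProdFst μ μ hμ = 𝟙 B :=
      Groth.Agent.H63.fibreProdLift_fst μ μ hμ (𝟙 B) (𝟙 B) rfl
    have hδ2 : Groth.Agent.H63.fibreProdLift μ μ hμ (𝟙 B) (𝟙 B) rfl ≫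
        Groth.Agent.H63.fibreProdSnd μ μ hμ = 𝟙 B :=
      Groth.Agent.H63.fibreProdLift_snd μ μ hμ (𝟙 B) (𝟙 B) rfl
    generalize Groth.Agent.H63.fibreProdLift μ μ hμ (𝟙 B) (𝟙 B) rfl = δ at hδ1 hδ2
    have hz01 : F.map (Groth.Agent.H63.fibreProdFst μ μ hμ) (F.map δ x₁) = x₁ := by
      rw [← Functor.map_comp_apply, hδ1, Functor.map_id_apply]
    have hz02 : F.map (Groth.Agent.H63.fibreProdSnd μ μ hμ) (F.map δ x₁) = x₁ := by
      rw [← Functor.map_comp_apply, hδ2, Functor.map_id_apply]
    have h4 : φ.app _ z = φ.app _ (F.map δ x₁) := by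
      apply (hG _ _ μ μ hC hμ).1
      apply ArtFun.FibProd.ext
      · change G.map (Groth.Agent.H63.fibreProdFst μ μ hμ) (φ.app _ z) =
          G.map (Groth.Agent.H63.fibreProdFst μ μ hμ) (φ.app _ (F.map δ x₁))
        rw [← NatTrans.naturality_apply φ _ z, ← NatTrans.naturality_apply φ _ (F.map δ x₁),
          hz1, hz01]
      · change G.map (Groth.Agent.H63.fibreProdSnd μ μ hμ) (φ.app _ z) =
          G.map (Groth.Agent.H63.fibreProdSnd μ μ hμ) (φ.app _ (F.map δ x₁))
        rw [← NatTrans.naturality_apply φ _ z, ← NatTrans.naturality_apply φ _ (F.map δ x₁),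
          hz2, hz02, hx]
    have h5 : F.map θ z = F.map θ (F.map δ x₁) := by
      apply hd.1
      change φ.app _ (F.map θ z) = φ.app _ (F.map θ (F.map δ x₁))
      rw [NatTrans.naturality_apply φ θ z, NatTrans.naturality_apply φ θ (F.map δ x₁), h4]
    have h6 : z = F.map δ x₁ := by
      apply (hF _ _ (ArtFun.Art.toBase B) (ArtFun.Art.toBase (ArtFun.Art.dual Λ k)) hθ hdual).1
      apply ArtFun.FibProd.ext
      · change F.map (Groth.Agent.H63.fibreProdFst μ μ hμ) z =
          F.map (Groth.Agent.H63.fibreProdFst μ μ hμ) (F.map δ x₁)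
        rw [hz1, hz01]
      · exact h5
    rw [← hz2, h6, hz02]
  · intro A B C p q hp hq hA
    exact hp (hq hA)

end Groth.Agent.S12733
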