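import Groth.Statements.S12742
import Groth.Agent.H63.ArtTheta

set_option autoImplicit false
universe u v
open CategoryTheory
open ArtFun

namespace Groth.Agent.S12742

/-- For functors, a morphism f : F → G of deformation functors on Artinian local Λ-algebras with residue
field k (values at k a point, condition (RS) for both) is smooth if and only if (1) it is surjective
on tangent spaces and (2) for every small extension A' → A and every x ∈ F(A) whose image in G(A)
lifts to G(A'), x lifts to F(A'). -/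
theorem result {Λ : Type u} {k : Type u} [CommRing Λ] [Field k] [Algebra Λ k]
    [IsNoetherianRing Λ] [Module.Finite Λ k]
    {F G : ArtFun.Art Λ k ⥤ Type v}
    (hF0 : ArtFun.H0 F) (hF : (∀ ⦃B A A' A'' : ArtFun.Art Λ k⦄ (p' : B ⟶ A') (p'' : B ⟶ A'') (f' : A' ⟶ A) (f'' : A'' ⟶ A)
        (h : ArtFun.Art.IsFibreProd p' p'' f' f''), Function.Surjective f'' → Function.Bijective (ArtFun.cmp F h)))
    (hG0 : ArtFun.H0 G) (hG : (∀ ⦃B A A' A'' : ArtFun.Art Λ k⦄ (p' : B ⟶ A') (p'' : B ⟶ A'') (f' : A' ⟶ A) (f'' : A'' ⟶ A)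
        (h : ArtFun.Art.IsFibreProd p' p'' f' f''), Function.Surjective f'' → Function.Bijective (ArtFun.cmp G h)))
    (f : F ⟶ G) :
    ArtFun.IsSmooth f ↔
      (Function.Surjective (ArtFun.TangentSpace.map f) ∧
        ∀ ⦃A' A : ArtFun.Art Λ k⦄ (μ : A' ⟶ A), ArtFun.Art.IsSmallExt μ → ∀ x : F.obj A,
          (∃ y' : G.obj A', G.map μ y' = f.app A x) → ∃ x' : F.obj A', F.map μ x' = x) := by
  constructor
  · intro hs
    refine ⟨?_, ?_⟩
    · intro g
      obtain ⟨x₀⟩ := hF0.1
      have hG0s := hG0.2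
      obtain ⟨z, hz⟩ := hs (ArtFun.Art.toBase (ArtFun.Art.dual Λ k))
        (ArtFun.Art.dual Λ k).res_surjective ⟨(x₀, g), Subsingleton.elim _ _⟩
      exact ⟨z, congrArg (fun t => t.1.2) hz⟩
    · intro A' A μ hsm x hy
      obtain ⟨y', hy'⟩ := hy
      obtain ⟨z, hz⟩ := hs μ hsm.1 ⟨(x, y'), hy'.symm⟩
      exact ⟨z, congrArg (fun t => t.1.1) hz⟩
  · rintro ⟨ht, hl⟩
    intro B A μ hμ
    have key := Groth.Agent.H63.surjective_induction
      (fun (A B : ArtFun.Art Λ k) (μ : B ⟶ A) => Function.Surjective (ArtFun.relCmp f μ))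
      ?_ ?_ ?_ μ hμ
    · exact key
    · -- isomorphisms
      intro A B e he t
      obtain ⟨⟨x, y⟩, hxy⟩ := t
      have hxy' : f.app A x = G.map e y := hxy
      refine ⟨F.map (inv e) x, Subtype.ext (Prod.ext ?_ ?_)⟩
      · change F.map e (F.map (inv e) x) = x
        rw [← Functor.map_comp_apply, IsIso.inv_hom_id, Functor.map_id_apply]
      · change f.app B (F.map (inv e) x) = y
        rw [NatTrans.naturality_apply f (inv e) x, hxy', ← Functor.map_comp_apply,
          IsIso.hom_inv_id, Functor.map_id_apply]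
    · -- small extensions
      intro A B μ hsm t
      obtain ⟨⟨x, y⟩, hxy⟩ := t
      have hxy' : f.app A x = G.map μ y := hxy
      have hμ := hsm.1
      obtain ⟨C, q₁, q₂, hC⟩ : ∃ (C : ArtFun.Art Λ k) (q₁ q₂ : C ⟶ B),
          ArtFun.Art.IsFibreProd q₁ q₂ μ μ :=
        ⟨_, _, _, Groth.Agent.H63.isFibreProd_fibreProd μ μ hμ⟩
      obtain ⟨θ, hθ⟩ := Groth.Agent.H63.exists_theta hC hsm
      have hdual : Function.Surjective (ArtFun.Art.toBase (ArtFun.Art.dual Λ k)) :=
        (ArtFun.Art.dual Λ k).res_surjective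
      obtain ⟨x', hx'⟩ := hl μ hsm x ⟨y, hxy'.symm⟩
      have hcompat : G.map μ (f.app B x') = G.map μ y := by
        rw [← NatTrans.naturality_apply f μ x', hx', hxy']
      obtain ⟨ζ, hζ⟩ := (hG q₁ q₂ μ μ hC hμ).2 ⟨(f.app B x', y), hcompat⟩
      have hζ1 : G.map q₁ ζ = f.app B x' := congrArg (fun t => t.1.1) hζ
      have hζ2 : G.map q₂ ζ = y := congrArg (fun t => t.1.2) hζ
      obtain ⟨w, hw⟩ : ∃ w : F.obj (ArtFun.Art.dual Λ k),
          f.app (ArtFun.Art.dual Λ k) w = G.map θ ζ := ht (G.map θ ζ)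
      have hF0s := hF0.2
      obtain ⟨z, hz⟩ := (hF q₁ θ (ArtFun.Art.toBase B)
        (ArtFun.Art.toBase (ArtFun.Art.dual Λ k)) hθ hdual).2 ⟨(x', w), Subsingleton.elim _ _⟩
      have hz1 : F.map q₁ z = x' := congrArg (fun t => t.1.1) hz
      have hz2 : F.map θ z = w := congrArg (fun t => t.1.2) hz
      have hfz : f.app C z = ζ := by
        apply (hG q₁ θ (ArtFun.Art.toBase B)
          (ArtFun.Art.toBase (ArtFun.Art.dual Λ k)) hθ hdual).1
        apply ArtFun.FibProd.ext
        · change G.map q₁ (f.app C z) = G.map q₁ ζ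
          rw [← NatTrans.naturality_apply f q₁ z, hz1, hζ1]
        · change G.map θ (f.app C z) = G.map θ ζ
          rw [← NatTrans.naturality_apply f θ z, hz2, hw]
      refine ⟨F.map q₂ z, Subtype.ext (Prod.ext ?_ ?_)⟩
      · change F.map μ (F.map q₂ z) = x
        rw [← Functor.map_comp_apply, ← hC.w, Functor.map_comp_apply, hz1, hx']
      · change f.app B (F.map q₂ z) = y
        rw [NatTrans.naturality_apply f q₂ z, hfz, hζ2]
    · -- composition
      intro A B C p q hp hq t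
      obtain ⟨⟨x, y⟩, hxy⟩ := t
      have hxy' : f.app A x = G.map (p ≫ q) y := hxy
      have hxy'' : f.app A x = G.map q (G.map p y) := by
        rw [hxy', Functor.map_comp_apply]
      obtain ⟨x₁, hx₁⟩ := hq ⟨(x, G.map p y), hxy''⟩
      have hx₁1 : F.map q x₁ = x := congrArg (fun t => t.1.1) hx₁
      have hx₁2 : f.app B x₁ = G.map p y := congrArg (fun t => t.1.2) hx₁
      obtain ⟨x₂, hx₂⟩ := hp ⟨(x₁, y), hx₁2⟩
      have hx₂1 : F.map p x₂ = x₁ := congrArg (fun t => t.1.1) hx₂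
      have hx₂2 : f.app C x₂ = y := congrArg (fun t => t.1.2) hx₂
      refine ⟨x₂, Subtype.ext (Prod.ext ?_ hx₂2)⟩
      change F.map (p ≫ q) x₂ = x
      rw [Functor.map_comp_apply, hx₂1, hx₁1]

end Groth.Agent.S12742
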