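import Groth.Statements.S12714
import Groth.Prelude.Def_W4sfdMinVersal
import Mathlib.RingTheory.Nakayama
import Mathlib.RingTheory.AdicCompletion.Functoriality
import Mathlib.Tactic.TFAE

set_option autoImplicit false
universe u v
open CategoryTheory
open ArtFun

namespace Groth.Agent.S12714

/-- For a morphism f : R → S of complete local Noetherian Λ-algebras with residue field k (compatible
with the augmentations to k), the following are equivalent: (1) f is surjective; (2) m_R/m_R² →
m_S/m_S² is surjective, written as f(m_R)S + m_S² = m_S; (3) the map of cotangent spaces relative to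
Λ is surjective, written as m_Λ S + f(m_R)S + m_S² = m_S with m_Λ the kernel of Λ → k. -/
theorem result {Λ : Type u} {k : Type u} [CommRing Λ] [Field k] [Algebra Λ k]
    [IsNoetherianRing Λ] [Module.Finite Λ k]
    (R S : ArtFun.CRing Λ k) (f : R.carrier →ₐ[Λ] S.carrier) (hf : S.res.comp f = R.res) :
    List.TFAE [Function.Surjective f,
      Ideal.map f (IsLocalRing.maximalIdeal R.carrier) ⊔ IsLocalRing.maximalIdeal S.carrier ^ 2 =
        IsLocalRing.maximalIdeal S.carrier,
      Ideal.map (algebraMap Λ S.carrier) (RingHom.ker (algebraMap Λ k)) ⊔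
        Ideal.map f (IsLocalRing.maximalIdeal R.carrier) ⊔ IsLocalRing.maximalIdeal S.carrier ^ 2 =
        IsLocalRing.maximalIdeal S.carrier] := by
  have hI_le : Ideal.map f (IsLocalRing.maximalIdeal R.carrier) ≤
      IsLocalRing.maximalIdeal S.carrier := by
    rw [Ideal.map_le_iff_le_comap]
    exact ArtFun.CRing.maximalIdeal_le_comap f hf
  have hJ_le : Ideal.map (algebraMap Λ S.carrier) (RingHom.ker (algebraMap Λ k)) ≤
      Ideal.map f (IsLocalRing.maximalIdeal R.carrier) := by
    rw [Ideal.map_le_iff_le_comap]
    intro l hl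
    rw [Ideal.mem_comap, ← f.commutes l]
    apply Ideal.mem_map_of_mem
    rw [ArtFun.CRing.mem_maximalIdeal_iff, AlgHom.commutes]
    exact RingHom.mem_ker.1 hl
  have hsq : IsLocalRing.maximalIdeal S.carrier ^ 2 ≤ IsLocalRing.maximalIdeal S.carrier :=
    Ideal.pow_le_self two_ne_zero
  tfae_have 1 → 2 := by
    intro hs
    have h : Ideal.map f (IsLocalRing.maximalIdeal R.carrier) =
        IsLocalRing.maximalIdeal S.carrier := by
      apply le_antisymm hI_le
      intro b hb
      obtain ⟨a, rfl⟩ := hs b
      apply Ideal.mem_map_of_mem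
      rw [ArtFun.CRing.mem_maximalIdeal_iff] at hb ⊢
      rw [← ArtFun.CRing.res_comp_apply f hf, hb]
    rw [h]
    exact sup_eq_left.2 hsq
  tfae_have 2 → 3 := by
    intro h2
    rw [sup_eq_right.2 hJ_le]
    exact h2
  tfae_have 3 → 1 := by
    intro h3
    rw [sup_eq_right.2 hJ_le] at h3
    have hmS : IsLocalRing.maximalIdeal S.carrier ≤
        Ideal.map f (IsLocalRing.maximalIdeal R.carrier) := by
      apply Submodule.le_of_le_smul_of_le_jacobson_bot (I := IsLocalRing.maximalIdeal S.carrier)
      · exact IsNoetherian.noetherian _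
      · exact IsLocalRing.maximalIdeal_le_jacobson ⊥
      · rw [Ideal.smul_eq_mul, ← sq, h3]
    have hmap : Ideal.map f.toRingHom (IsLocalRing.maximalIdeal R.carrier) =
        IsLocalRing.maximalIdeal S.carrier := le_antisymm hI_le hmS
    haveI hRc := R.isAdicComplete
    haveI hSc := S.isAdicComplete
    haveI : IsHausdorff (Ideal.map f.toRingHom (IsLocalRing.maximalIdeal R.carrier)) S.carrier := by
      rw [hmap]
      infer_instance
    show Function.Surjective f.toRingHom
    apply surjective_of_mk_map_comp_surjective (I := IsLocalRing.maximalIdeal R.carrier) f.toRingHom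
    intro y
    obtain ⟨s, rfl⟩ := Ideal.Quotient.mk_surjective y
    obtain ⟨r, hr⟩ := R.res_surjective (S.res s)
    refine ⟨r, ?_⟩
    rw [RingHom.comp_apply, Ideal.Quotient.eq, hmap, ArtFun.CRing.mem_maximalIdeal_iff, map_sub]
    have h1 : S.res (f.toRingHom r) = R.res r := ArtFun.CRing.res_comp_apply f hf r
    rw [h1, hr, sub_self]
  tfae_finish

end Groth.Agent.S12714
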