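import Groth.Statements.S12757
import Groth.Agent.S12714
import Groth.Agent.H63.ArtDer
import Groth.Agent.H63.ArtHom

set_option autoImplicit false
universe u v
open CategoryTheory
open ArtFun

namespace Groth.Agent.S12757

/-- For functors, let F be a functor on Artinian local Λ-algebras with residue field k with F(k) a
point. A versal family of F over a complete local Noetherian R with residue field k which is
bijective on tangent spaces (a hull; bijectivity implies bijectivity on orbits of the derivations of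
k) is minimal: every morphism of coefficient rings R' → R along which some formal element over R'
pushes forward to the formal element of the family is surjective. -/
theorem result {Λ : Type u} {k : Type u} [CommRing Λ] [Field k] [Algebra Λ k]
    [IsNoetherianRing Λ] [Module.Finite Λ k]
    {F : ArtFun.Art Λ k ⥤ Type v} (h0 : ArtFun.H0 F) (P : ArtFun.Hull F) :
    P.family.IsMinimalVersal := by
  refine ⟨P.miniversal.1, ?_⟩
  intro R' u f hf hpush
  have hTFAE := Groth.Agent.S12714.result R' P.ring f hf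
  apply (hTFAE.out 1 0).1
  by_contra hne
  obtain ⟨θ, hθ1, hθ2, s, hs⟩ := Groth.Agent.H63.exists_tangent_of_ne
    P.ring.res (ArtFun.CRing.mem_maximalIdeal_iff P.ring) R'.res R'.res_surjective
    f hf (IsLocalRing.maximalIdeal R'.carrier)
    (fun r hr => (ArtFun.CRing.mem_maximalIdeal_iff R' r).2 hr) hne
    (Ideal.map_le_iff_le_comap.2 (ArtFun.CRing.maximalIdeal_le_comap f hf))
  let φ₁ : ArtFun.HomSet P.ring.carrier P.ring.res (ArtFun.Art.dual Λ k) :=
    ⟨θ, AlgHom.ext fun s => hθ1 s⟩
  let φ₂ : ArtFun.HomSet P.ring.carrier P.ring.res (ArtFun.Art.dual Λ k) :=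
    ArtFun.HomSet.map ArtFun.Art.baseToDual (Groth.Agent.H63.homSetBase P.ring.res)
  have hfst2 : ∀ a : P.ring.carrier, TrivSqZeroExt.fst (φ₂.1 a) = P.ring.res a := fun a => rfl
  have hsnd2 : ∀ a : P.ring.carrier, TrivSqZeroExt.snd (φ₂.1 a) = 0 := fun a => rfl
  obtain ⟨φ₁', h1, h1'⟩ := Groth.Agent.H63.exists_factor_trunc_one P.ring φ₁
  obtain ⟨φ₂', h2, h2'⟩ := Groth.Agent.H63.exists_factor_trunc_one P.ring φ₂
  have hlevel : F.map (ArtFun.CRing.truncMapOfHom f hf 1) (u.elt 1) =
      P.family.app _ (P.ring.truncHom 1) := congrArg (fun w => w.elt 1) hpush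
  have hcomp : ArtFun.CRing.truncMapOfHom f hf 1 ≫ φ₁' =
      ArtFun.CRing.truncMapOfHom f hf 1 ≫ φ₂' := by
    apply ArtFun.Art.hom_ext
    apply AlgHom.ext
    intro y
    obtain ⟨r', rfl⟩ := Ideal.Quotient.mk_surjective y
    show φ₁' (Ideal.Quotient.mk _ (f r')) = φ₂' (Ideal.Quotient.mk _ (f r'))
    rw [h1', h2']
    refine TrivSqZeroExt.ext ?_ ?_
    · exact (hθ1 (f r')).trans (hfst2 (f r')).symm
    · exact (hθ2 r').trans (hsnd2 (f r')).symm
  have h12 : P.family.app _ φ₁ = P.family.app _ φ₂ := by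
    rw [← h1, ← h2, P.family.natural, P.family.natural, ← hlevel, ← Functor.map_comp_apply,
      ← Functor.map_comp_apply, hcomp]
  have heq : φ₁ = φ₂ := P.miniversal.2.1 h12
  apply hs
  have h3 := congrArg
    (fun (t : ArtFun.HomSet P.ring.carrier P.ring.res (ArtFun.Art.dual Λ k)) =>
      TrivSqZeroExt.snd (t.1 s)) heq
  exact h3.trans (hsnd2 s)

end Groth.Agent.S12757
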