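import Groth.Statements.S5008
import Groth.Agent.H14.LocalLift
import Groth.Agent.H14.LocalChart
import Mathlib

set_option autoImplicit false
universe u
open CategoryTheory CategoryTheory.Limits AlgebraicGeometry TopologicalSpace
open Unram17

namespace Groth.Agent.S5008


open IsLocalRing Groth.Agent.H14


/-- Let f : X ⟶ Y be locally of finite presentation and x a point of X. Then f is smooth at x if and
only if for every surjection of local rings B' → B with square-zero kernel, every morphism Spec B ⟶
X sending the closed point to x and every morphism Spec B' ⟶ Y making the square commute, there is a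
lift Spec B' ⟶ X compatible with both. (No Noetherian hypothesis on Y.) -/
theorem result {X Y : Scheme.{u}} (f : X ⟶ Y)
    [LocallyOfFinitePresentation f] (x : ↥X) :
    x ∈ f.smoothLocus ↔ ∀ (B B' : Type u) [CommRing B] [CommRing B'] [IsLocalRing B] [IsLocalRing B'] (φ : B' →+* B),
      Function.Surjective φ → RingHom.ker φ ^ 2 = ⊥ →
      ∀ (α : Spec (CommRingCat.of B) ⟶ X) (β : Spec (CommRingCat.of B') ⟶ Y),
        α.base (IsLocalRing.closedPoint B) = x → Spec.map (CommRingCat.ofHom φ) ≫ β = α ≫ f →
        ∃ γ : Spec (CommRingCat.of B') ⟶ X, Spec.map (CommRingCat.ofHom φ) ≫ γ = α ∧ γ ≫ f = β := by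
  obtain ⟨_, ⟨U, hU, rfl⟩, hxU, -⟩ :=
    Y.isBasis_affineOpens.exists_subset_of_mem_open (Set.mem_univ (f x)) isOpen_univ
  obtain ⟨_, ⟨V, hV, rfl⟩, hxV, hVU⟩ :=
    X.isBasis_affineOpens.exists_subset_of_mem_open hxU (U.2.preimage f.continuous)
  rw [Scheme.Hom.mem_smoothLocus, formallySmooth_stalkMap_iff U hU V hV hVU hxV]
  letI := (f.appLE U V hVU).hom.toAlgebra
  have hsq := IsAffineOpen.SpecMap_appLE_fromSpec f hU hV hVU
  constructor
  · intro h B B' _ _ _ _ φ hφ hker α β hα hcomm
    haveI : Algebra.FormallySmooth Γ(Y, U)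
      (Localization.AtPrime (hV.primeIdealOf ⟨x, hxV⟩).asIdeal) := h
    have hαV : α.base (closedPoint B) ∈ V := hα ▸ hxV
    obtain ⟨a, ha⟩ := exists_chart hV α hαV
    have hβU : β.base (closedPoint B') ∈ U := by
      rw [← closedPoint_of_surjective φ hφ]
      change (Spec.map (CommRingCat.ofHom φ) ≫ β).base (closedPoint B) ∈ U
      rw [hcomm]
      change f.base (α.base (closedPoint B)) ∈ U
      rw [hα]
      exact hxU
    obtain ⟨b, hb⟩ := exists_chart hU β hβU
    have hab : b ≫ CommRingCat.ofHom φ = f.appLE U V hVU ≫ a := by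
      apply Spec.map_injective
      rw [← cancel_mono hU.fromSpec, Spec.map_comp, Spec.map_comp, Category.assoc, Category.assoc,
        hb, hsq, ← Category.assoc, ha, hcomm]
    obtain ⟨c, hc1, hc2⟩ := exists_lift_of_formallySmooth_localization
      (hV.primeIdealOf ⟨x, hxV⟩).asIdeal φ hφ hker a.hom
      (comap_chart hV a x hxV (by rw [ha]; exact hα)) b.hom
      (by
        have := congrArg CommRingCat.Hom.hom hab
        exact this)
    refine ⟨Spec.map (CommRingCat.ofHom c) ≫ hV.fromSpec, ?_, ?_⟩
    · rw [← ha, ← Category.assoc, ← Spec.map_comp]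
      congr 2
      ext1
      exact hc1
    · rw [Category.assoc, ← hsq, ← Category.assoc, ← Spec.map_comp, ← hb]
      congr 2
      ext1
      exact hc2
  · intro H
    change Algebra.FormallySmooth Γ(Y, U)
      (Localization.AtPrime (hV.primeIdealOf ⟨x, hxV⟩).asIdeal)
    apply formallySmooth_localization_of_exists_lift
    intro B B' _ _ _ _ φ hφ hker a b ha hab
    have hα : (Spec.map (CommRingCat.ofHom a) ≫ hV.fromSpec).base (closedPoint B) = x := by
      change hV.fromSpec.base ((Spec.map (CommRingCat.ofHom a)).base (closedPoint B)) = x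
      have : (Spec.map (CommRingCat.ofHom a)).base (closedPoint B) =
          hV.primeIdealOf ⟨x, hxV⟩ := by
        apply PrimeSpectrum.ext
        exact ha
      rw [this]
      exact hV.fromSpec_primeIdealOf ⟨x, hxV⟩
    have hcomm : Spec.map (CommRingCat.ofHom φ) ≫
        (Spec.map (CommRingCat.ofHom b) ≫ hU.fromSpec) =
        (Spec.map (CommRingCat.ofHom a) ≫ hV.fromSpec) ≫ f := by
      rw [Category.assoc, ← hsq, ← Category.assoc, ← Category.assoc, ← Spec.map_comp,
        ← Spec.map_comp]
      congr 2
      ext1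
      exact hab
    obtain ⟨γ, hγ1, hγ2⟩ := H B B' φ hφ hker _ _ hα hcomm
    have hγV : γ.base (closedPoint B') ∈ V := by
      rw [← closedPoint_of_surjective φ hφ]
      change (Spec.map (CommRingCat.ofHom φ) ≫ γ).base (closedPoint B) ∈ V
      rw [hγ1, hα]
      exact hxV
    obtain ⟨c, hc⟩ := exists_chart hV γ hγV
    refine ⟨c.hom, ?_, ?_⟩
    · have h1 : c ≫ CommRingCat.ofHom φ = CommRingCat.ofHom a := by
        apply Spec.map_injective
        rw [← cancel_mono hV.fromSpec, Spec.map_comp, Category.assoc, hc, hγ1]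
      exact congrArg CommRingCat.Hom.hom h1
    · have h2 : f.appLE U V hVU ≫ c = CommRingCat.ofHom b := by
        apply Spec.map_injective
        rw [← cancel_mono hU.fromSpec, Spec.map_comp, Category.assoc, hsq, ← Category.assoc, hc,
          hγ2]
      exact congrArg CommRingCat.Hom.hom h2

end Groth.Agent.S5008
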