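import Groth.Statements.S14480
import Groth.Agent.H9.FibreGeneric
import Groth.Agent.H9.FibDimTarget
import Groth.Agent.H54.FibreDimTdeg
import Groth.Agent.H54.DimClosure

set_option autoImplicit false
universe u
open CategoryTheory AlgebraicGeometry
open CharCyc

namespace Groth.Agent.S14480


open Groth.Agent.H54 Groth.Agent.H9.FibDim Groth.Agent.H9.FibreGeneric TopologicalSpace

/-- The dimension of a closed subset of a scheme locally of finite type over a field is bounded by
any bound for the transcendence degrees of the residue fields of its points. -/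
theorem topologicalKrullDim_closed_le_of_forall_tdeg_le {k : Type u} [Field k] {X : Scheme.{u}}
    (s : X ⟶ Spec (CommRingCat.of k)) [LocallyOfFiniteType s] (T : Set X) (hT : IsClosed T) (n : ℕ)
    (h : ∀ x ∈ T, tdeg s x ≤ n) : topologicalKrullDim ↥T ≤ n := by
  classical
  haveI : QuasiSober ↥T := (hT.isClosedEmbedding_subtypeVal).quasiSober
  let g : TopologicalSpace.IrreducibleCloseds ↥T → ℕ :=
    fun W => tdeg s (W.isIrreducible.genericPoint : X)
  have hgen : ∀ W : TopologicalSpace.IrreducibleCloseds ↥T,
      closure ({W.isIrreducible.genericPoint} : Set ↥T) = (W : Set ↥T) :=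
    fun W => W.isIrreducible.closure_genericPoint W.isClosed
  have hg : StrictMono g := by
    intro W W' hlt
    have hsub : (W : Set ↥T) ⊆ (W' : Set ↥T) := hlt.le
    have hmem : W.isIrreducible.genericPoint ∈ (W' : Set ↥T) :=
      hsub ((hgen W).subset (subset_closure rfl))
    have hsp : W'.isIrreducible.genericPoint ⤳ W.isIrreducible.genericPoint :=
      specializes_iff_mem_closure.mpr ((hgen W').symm.subset hmem)
    have hsp' : (W'.isIrreducible.genericPoint : X) ⤳ (W.isIrreducible.genericPoint : X) :=
      Topology.IsInducing.subtypeVal.specializes_iff.mpr hsp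
    have hne : (W'.isIrreducible.genericPoint : X) ≠ (W.isIrreducible.genericPoint : X) := by
      intro heq
      have heq' : W'.isIrreducible.genericPoint = W.isIrreducible.genericPoint :=
        Subtype.ext heq
      apply hlt.ne
      apply TopologicalSpace.IrreducibleCloseds.ext
      exact (hgen W).symm.trans
        ((congrArg (fun y => closure ({y} : Set ↥T)) heq'.symm).trans (hgen W'))
    exact tdeg_lt_of_specializes s hsp' hne
  unfold topologicalKrullDim
  rw [Order.krullDim]
  apply iSup_le
  intro c
  have h1 := LTSeries.head_add_length_le_nat (c.map g hg)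
  have h2 : (c.map g hg).last ≤ n := h _ ((c.last).isIrreducible.genericPoint).2
  have h3 : c.length ≤ n := by
    have : (c.map g hg).length = c.length := rfl
    omega
  exact_mod_cast h3


/-- Let k be a field, let π : C → X be a morphism between k-schemes of finite type, and let n be a
natural number. For j ≥ 0 let B_j ⊆ X be the set of points x whose fibre π⁻¹(x) has dimension at
least j (so B_0 is the image of π). Then dim C ≤ n if and only if, for every j, the closure of B_j
in X has dimension at most n − j. Dimensions are topological Krull dimensions with the empty space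
of dimension ⊥, and the inequality is written additively as dim cl(B_j) + j ≤ n. -/
theorem result (k : Type u) [Field k] (C X : Scheme.{u})
    (q : X ⟶ Spec (CommRingCat.of k)) (π : C ⟶ X)
    [LocallyOfFiniteType q] [CompactSpace X] [LocallyOfFiniteType π] [CompactSpace C] (n : ℕ) :
    topologicalKrullDim C ≤ n ↔
      ∀ j : ℕ, topologicalKrullDim (closure {x : X | (j : WithBot ℕ∞) ≤ topologicalKrullDim (π.fiber x)}) +
        (j : WithBot ℕ∞) ≤ n := by
  classical
  obtain ⟨p, hp⟩ : ∃ p : C ⟶ Spec (CommRingCat.of k), π ≫ q = p := ⟨_, rfl⟩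
  haveI : LocallyOfFiniteType p := by rw [← hp]; infer_instance
  haveI : IsLocallyNoetherian C := LocallyOfFiniteType.isLocallyNoetherian p
  haveI : IsNoetherian C := {}
  have hB : ∀ (j : ℕ) (x : X), (j : WithBot ℕ∞) ≤ topologicalKrullDim (π.fiber x) ↔
      ∃ c : C, π.base c = x ∧ (j : WithBot ℕ∞) ≤ FlatMor.fibreDimAt π c :=
    fun j x => natCast_le_dim_fiber_iff π x j
  constructor
  · intro hC j
    have hclaim : ∀ y ∈ closure {x : X | (j : WithBot ℕ∞) ≤ topologicalKrullDim (π.fiber x)},
        tdeg q y + j ≤ n := by
      intro y hy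
      have hEcl : IsClosed {c : C | (j : WithBot ℕ∞) ≤ FlatMor.fibreDimAt π c} :=
        isClosed_setOf_natCast_le_fibreDimAt π j
      have hBE : {x : X | (j : WithBot ℕ∞) ≤ topologicalKrullDim (π.fiber x)} =
          π.base '' {c : C | (j : WithBot ℕ∞) ≤ FlatMor.fibreDimAt π c} := by
        ext x
        rw [Set.mem_setOf_eq, hB j x]
        constructor
        · rintro ⟨c, rfl, hc⟩; exact ⟨c, hc, rfl⟩
        · rintro ⟨c, hc, rfl⟩; exact ⟨c, rfl, hc⟩
      rw [hBE] at hy
      obtain ⟨S, hSfin, hScl, hSirr, hSU⟩ :=
        NoetherianSpace.exists_finite_set_isClosed_irreducible hEcl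
      rw [hSU, Set.image_sUnion, (hSfin.image _).closure_sUnion] at hy
      obtain ⟨_, ⟨t, ht, rfl⟩, hyt⟩ := Set.mem_iUnion₂.mp hy
      have hgen : closure ({(hSirr t ht).genericPoint} : Set C) = t :=
        (hSirr t ht).closure_genericPoint (hScl t ht)
      obtain ⟨e, he⟩ : ∃ e : C, e = (hSirr t ht).genericPoint := ⟨_, rfl⟩
      rw [← he] at hgen
      have heE : e ∈ {c : C | (j : WithBot ℕ∞) ≤ FlatMor.fibreDimAt π c} := by
        rw [hSU]
        exact Set.subset_sUnion_of_mem ht (hgen ▸ subset_closure rfl)
      have hsub : closure (π.base '' t) ⊆ closure ({π.base e} : Set X) := by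
        apply closure_minimal _ isClosed_closure
        rw [← hgen, ← Set.image_singleton]
        exact image_closure_subset_closure_image π.continuous
      have hsp : π.base e ⤳ y := specializes_iff_mem_closure.mpr (hsub hyt)
      obtain ⟨e', m, he'e, hπe', htr, hfd⟩ := exists_fibre_generization π e
      have hje : (j : WithBot ℕ∞) ≤ FlatMor.fibreDimAt π e := heE
      have hjm : j ≤ m := by exact_mod_cast hje.trans hfd
      have h1 : tdeg p e' = tdeg q (π.base e') + m := tdeg_eq_add_of_trdeg p q π hp e' m htr
      have h5 : ((tdeg p e' : ℕ) : WithBot ℕ∞) ≤ n := by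
        rw [← topologicalKrullDim_closure_singleton p e']
        exact (topologicalKrullDim_subspace_le _ _).trans hC
      have h5' : tdeg p e' ≤ n := by exact_mod_cast h5
      have h6 : tdeg q y ≤ tdeg q (π.base e) := tdeg_le_of_specializes q hsp
      rw [hπe'] at h1
      omega
    by_cases hT : (closure {x : X | (j : WithBot ℕ∞) ≤ topologicalKrullDim (π.fiber x)}).Nonempty
    · obtain ⟨y, hy⟩ := hT
      have hjn : j ≤ n := by have := hclaim y hy; omega
      have h1 := topologicalKrullDim_closed_le_of_forall_tdeg_le q _ isClosed_closure (n - j)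
        (fun x hx => by have := hclaim x hx; omega)
      calc _ ≤ ((n - j : ℕ) : WithBot ℕ∞) + (j : WithBot ℕ∞) := add_le_add h1 le_rfl
        _ = n := by exact_mod_cast Nat.sub_add_cancel hjn
    · rw [Set.not_nonempty_iff_eq_empty] at hT
      rw [hT]
      haveI : IsEmpty (IrreducibleCloseds ↥(∅ : Set X)) :=
        ⟨fun Z => (Z.isIrreducible.nonempty.some).2.elim⟩
      have hbot : topologicalKrullDim ↥(∅ : Set X) = ⊥ := Order.krullDim_eq_bot
      rw [hbot, WithBot.bot_add]
      exact bot_le
  · intro h
    apply topologicalKrullDim_le_of_forall_tdeg_le p n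
    intro c
    have h1 : tdeg q (π.base c) ≤ tdeg p c := tdeg_le_of_hom q p π hp c
    obtain ⟨j, hj⟩ : ∃ j, j = tdeg p c - tdeg q (π.base c) := ⟨_, rfl⟩
    have h2 : ((tdeg p c - tdeg q (π.base c) : ℕ) : WithBot ℕ∞) ≤ FlatMor.fibreDimAt π c :=
      tdeg_sub_le_fibreDimAt p q π hp c
    have h3 : FlatMor.fibreDimAt π c ≤ topologicalKrullDim (π.fiber (π.base c)) := by
      unfold FlatMor.fibreDimAt
      exact localDim_le_dim _ _
    have hmem : π.base c ∈ {x : X | (j : WithBot ℕ∞) ≤ topologicalKrullDim (π.fiber x)} := by
      rw [hj]; exact h2.trans h3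
    have h4 : ((tdeg q (π.base c) : ℕ) : WithBot ℕ∞) ≤ topologicalKrullDim
        ↥(closure {x : X | (j : WithBot ℕ∞) ≤ topologicalKrullDim (π.fiber x)}) := by
      rw [← topologicalKrullDim_closure_singleton q (π.base c)]
      exact dim_mono_subset (closure_mono (Set.singleton_subset_iff.mpr hmem))
    have h5 := (add_le_add h4 (le_refl (j : WithBot ℕ∞))).trans (h j)
    have h6 : tdeg q (π.base c) + j ≤ n := by exact_mod_cast h5
    omega

end Groth.Agent.S14480
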