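import Groth.Statements.S14901
import Groth.Agent.H54.IrredFibres
import Groth.Agent.H9.FibreGeneric
import Groth.Agent.H9.FibDimTop
import Groth.Agent.H9.FibDimRing

set_option autoImplicit false
universe u
open MovLem

namespace Groth.Agent.S14901


open CategoryTheory AlgebraicGeometry Topology Groth.Agent.H54 Groth.Agent.H9 Groth.Agent.H9.FibreGeneric

/-- A constructible set containing `η` contains a neighbourhood of `η` in `closure {η}`. -/
theorem exists_open_inter_closure_subset {T : Type*} [TopologicalSpace T] (η : T) {s : Set T}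
    (hs : IsConstructible s) :
    (η ∈ s → ∃ U : Set T, IsOpen U ∧ η ∈ U ∧ U ∩ closure {η} ⊆ s) ∧
      (η ∉ s → ∃ U : Set T, IsOpen U ∧ η ∈ U ∧ U ∩ closure {η} ⊆ sᶜ) := by
  induction hs using IsConstructible.empty_union_induction with
  | open_retrocompact U hU hU' =>
    refine ⟨fun h => ⟨U, hU, h, Set.inter_subset_left⟩,
      fun h => ⟨Set.univ, isOpen_univ, trivial, ?_⟩⟩
    rintro t ⟨-, ht⟩ htU
    exact h ((specializes_iff_mem_closure.mpr ht).mem_open hU htU)
  | union s hs t ht ihs iht =>
    refine ⟨fun h => ?_, fun h => ?_⟩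
    · rcases h with h | h
      · obtain ⟨U, h1, h2, h3⟩ := ihs.1 h
        exact ⟨U, h1, h2, h3.trans Set.subset_union_left⟩
      · obtain ⟨U, h1, h2, h3⟩ := iht.1 h
        exact ⟨U, h1, h2, h3.trans Set.subset_union_right⟩
    · have hs' : η ∉ s := fun h' => h (Or.inl h')
      have ht' : η ∉ t := fun h' => h (Or.inr h')
      obtain ⟨U, h1, h2, h3⟩ := ihs.2 hs'
      obtain ⟨V, k1, k2, k3⟩ := iht.2 ht'
      refine ⟨U ∩ V, h1.inter k1, ⟨h2, k2⟩, ?_⟩
      rintro z ⟨⟨hzU, hzV⟩, hzc⟩ (hz | hz)
      · exact h3 ⟨hzU, hzc⟩ hz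
      · exact k3 ⟨hzV, hzc⟩ hz
  | compl s hs ih =>
    refine ⟨fun h => ih.2 h, fun h => ?_⟩
    have h' : η ∈ s := by
      by_contra hc
      exact h hc
    obtain ⟨U, h1, h2, h3⟩ := ih.1 h'
    exact ⟨U, h1, h2, by rw [compl_compl]; exact h3⟩

/-- The dimension of a neighbourhood of `z` in its closure is at least the transcendence degree of
its residue field. -/
theorem tdeg_le_dim_inter {k : Type u} [Field k] {X : Scheme.{u}}
    (s : X ⟶ Spec (CommRingCat.of k)) [LocallyOfFiniteType s] (z : X) (W : X.Opens) (hz : z ∈ W) :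
    (tdeg s z : WithBot ℕ∞) ≤ topologicalKrullDim ↥((W : Set X) ∩ closure ({z} : Set X)) := by
  obtain ⟨A, j, hj, ψ, hψ, hft, ⟨P, rfl⟩, hsub⟩ := exists_chart s z W hz
  rw [← ringKrullDim_quotient_chart s j ψ hψ hft P,
    ← PrimeSpectrum.topologicalKrullDim_eq_ringKrullDim]
  have hmem : ∀ Q : PrimeSpectrum (A ⧸ (P : PrimeSpectrum A).asIdeal),
      j.base (PrimeSpectrum.comap (Ideal.Quotient.mk (P : PrimeSpectrum A).asIdeal) Q) ∈
        (W : Set X) ∩ closure ({j.base P} : Set X) := by
    intro Q
    refine ⟨hsub ⟨_, rfl⟩, ?_⟩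
    have hle : (P : PrimeSpectrum A).asIdeal ≤
        (PrimeSpectrum.comap (Ideal.Quotient.mk (P : PrimeSpectrum A).asIdeal) Q).asIdeal := by
      intro a ha
      rw [PrimeSpectrum.comap_asIdeal, Ideal.mem_comap, Ideal.Quotient.eq_zero_iff_mem.mpr ha]
      exact Q.asIdeal.zero_mem
    have hsp : (P : PrimeSpectrum A) ⤳
        PrimeSpectrum.comap (Ideal.Quotient.mk (P : PrimeSpectrum A).asIdeal) Q :=
      (PrimeSpectrum.le_iff_specializes _ _).mp hle
    have hsp' : j.base P ⤳
        j.base (PrimeSpectrum.comap (Ideal.Quotient.mk (P : PrimeSpectrum A).asIdeal) Q) :=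
      hsp.map j.continuous
    exact specializes_iff_mem_closure.mp hsp'
  have h1 : Topology.IsInducing
      (fun Q : PrimeSpectrum (A ⧸ (P : PrimeSpectrum A).asIdeal) =>
        (j.base (PrimeSpectrum.comap (Ideal.Quotient.mk (P : PrimeSpectrum A).asIdeal) Q) : X)) :=
    j.isOpenEmbedding.isInducing.comp
      (PrimeSpectrum.isClosedEmbedding_comap_of_surjective _ _
        Ideal.Quotient.mk_surjective).isInducing
  have h2 : Topology.IsInducing
      (Set.codRestrict (fun Q : PrimeSpectrum (A ⧸ (P : PrimeSpectrum A).asIdeal) =>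
        (j.base (PrimeSpectrum.comap (Ideal.Quotient.mk (P : PrimeSpectrum A).asIdeal) Q) : X))
        ((W : Set X) ∩ closure ({j.base P} : Set X)) hmem) :=
    h1.codRestrict _
  exact h2.topologicalKrullDim_le

/-- The transcendence degree of the image of a point bounds the dimension of the image from
below. -/
theorem tdeg_image_le_dim_range {k : Type u} [Field k] {S X : Scheme.{u}}
    (pS : S ⟶ Spec (CommRingCat.of k)) (pX : X ⟶ Spec (CommRingCat.of k))
    [LocallyOfFiniteType pS] [QuasiCompact pS] [LocallyOfFiniteType pX] [QuasiCompact pX]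
    (f : S ⟶ X) (hf : f ≫ pX = pS) (ζ : S) :
    (tdeg pX (f.base ζ) : WithBot ℕ∞) ≤ topologicalKrullDim ↥(Set.range f.base) := by
  haveI : CompactSpace S := QuasiCompact.compactSpace_of_compactSpace pS
  haveI : CompactSpace X := QuasiCompact.compactSpace_of_compactSpace pX
  haveI : IsLocallyNoetherian S := LocallyOfFiniteType.isLocallyNoetherian pS
  haveI : IsLocallyNoetherian X := LocallyOfFiniteType.isLocallyNoetherian pX
  haveI : IsNoetherian S := {}
  haveI : LocallyOfFiniteType (f ≫ pX) := by rw [hf]; infer_instance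
  haveI : LocallyOfFiniteType f := locallyOfFiniteType_of_comp f pX
  have hZc : IsConstructible (closure ({ζ} : Set S)) := by
    have hOc : IsConstructible (closure ({ζ} : Set S))ᶜ :=
      (TopologicalSpace.NoetherianSpace.isCompact _).isConstructible isClosed_closure.isOpen_compl
    have := hOc.compl
    rwa [compl_compl] at this
  have hE := f.isConstructible_image hZc
  obtain ⟨U, hU, hηU, hUs⟩ := (exists_open_inter_closure_subset (f.base ζ) hE).1
    ⟨ζ, subset_closure rfl, rfl⟩
  refine (tdeg_le_dim_inter pX (f.base ζ) ⟨U, hU⟩ hηU).trans ?_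
  apply FibDim.dim_mono_subset
  intro x hx
  obtain ⟨a, -, rfl⟩ := hUs hx
  exact ⟨a, rfl⟩


open AlgebraicGeometry CategoryTheory in
/-- Let k be a field, let S and X be separated k-schemes of finite type that are locally equidimensional
(all irreducible components passing through a given point have the same dimension), let f : S → X be
a k-morphism and Z ⊆ X a closed subset. Let d be the dimension of the image f(S), as a subspace of
X. If every point s of S with f(s) ∈ Z satisfies dim O_{S,s} ≥ d + 1 (equivalently: the closed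
subset f⁻¹(Z) of S has local codimension at least d + 1 at each of its points), then f⁻¹(Z) is
empty. -/
theorem result (k : Type u) [Field k] (S X : Scheme.{u})
    (pS : S ⟶ Spec (CommRingCat.of k)) (pX : X ⟶ Spec (CommRingCat.of k))
    [IsSeparated pS] [LocallyOfFiniteType pS] [QuasiCompact pS]
    [IsSeparated pX] [LocallyOfFiniteType pX] [QuasiCompact pX]
    (hS : ∀ (s : S) (A B : Set S), A ∈ irreducibleComponents (S : Type u) → B ∈ irreducibleComponents (S : Type u) →
      s ∈ A → s ∈ B → topologicalKrullDim A = topologicalKrullDim B)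
    (hX : ∀ (x : X) (A B : Set X), A ∈ irreducibleComponents (X : Type u) → B ∈ irreducibleComponents (X : Type u) →
      x ∈ A → x ∈ B → topologicalKrullDim A = topologicalKrullDim B)
    (f : S ⟶ X) (hf : f ≫ pX = pS) (Z : Set X) (hZ : IsClosed Z)
    (h : ∀ s : S, f.base s ∈ Z →
      topologicalKrullDim (Set.range f.base) + 1 ≤ ringKrullDim (S.presheaf.stalk s)) :
    f.base ⁻¹' Z = ∅ := by
  haveI : LocallyOfFiniteType (f ≫ pX) := by rw [hf]; infer_instance
  haveI : LocallyOfFiniteType f := locallyOfFiniteType_of_comp f pX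
  by_contra hne
  obtain ⟨s, hs⟩ := Set.nonempty_iff_ne_empty.mpr hne
  obtain ⟨w, n, hws, hfw, htr, hfd⟩ := exists_fibre_generization f s
  have hwZ : f.base w ∈ Z := by rw [hfw]; exact hs
  have hdim := h w hwZ
  rw [ringKrullDim_stalk_eq_coheight] at hdim
  obtain ⟨b, hb⟩ := ENat.ne_top_iff_exists.mp (coheight_ne_top pS w)
  obtain ⟨ζ, hζw, hle⟩ := exists_specializes_localDim_le pS w
  rw [localDim_eq pS w b hb.symm] at hle
  have hle' : tdeg pS w + b ≤ tdeg pS ζ := by exact_mod_cast hle
  have hζs : ζ ⤳ s := hζw.trans hws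
  have hopen := FibDim.isOpen_setOf_fibreDimAt_le f n
  have hζn : FlatMor.fibreDimAt f ζ ≤ n := hζs.mem_open hopen hfd
  have h1 := tdeg_sub_le_fibreDimAt pS pX f hf ζ
  have h2 : tdeg pS ζ - tdeg pX (f.base ζ) ≤ n := by exact_mod_cast h1.trans hζn
  have h3 : tdeg pS w = tdeg pX (f.base w) + n := tdeg_eq_add_of_trdeg pS pX f hf w n htr
  have h4 : b ≤ tdeg pX (f.base ζ) := by omega
  have h5 := tdeg_image_le_dim_range pS pX f hf ζ
  have h6 : ((b : ℕ) : WithBot ℕ∞) ≤ topologicalKrullDim ↥(Set.range f.base) :=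
    le_trans (by exact_mod_cast h4) h5
  rw [← hb] at hdim
  have h7 : ((b : ℕ) : WithBot ℕ∞) + 1 ≤ ((b : ℕ) : WithBot ℕ∞) :=
    (add_le_add h6 le_rfl).trans (by exact_mod_cast hdim)
  have h8 : b + 1 ≤ b := by exact_mod_cast h7
  omega

end Groth.Agent.S14901
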