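import Groth.Statements.S7418
import Groth.Agent.H37.LocGlue

set_option autoImplicit false
universe u
open CategoryTheory AlgebraicGeometry
open HTop

namespace Groth.Agent.S7418

/-- Being seminormal is a local property of rings: it passes to the localizations `A_f`, and if `f_1, …,
f_n` generate the unit ideal of `A` and each `A_{f_i}` is seminormal then `A` is seminormal. -/
theorem result :
    (∀ (A : Type u) [CommRing A] (f : A), HTop.IsSeminormalRing A → HTop.IsSeminormalRing (Localization.Away f)) ∧
    ∀ (A : Type u) [CommRing A] (s : Finset A), Ideal.span (s : Set A) = ⊤ →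
      (∀ f ∈ s, HTop.IsSeminormalRing (Localization.Away f)) → HTop.IsSeminormalRing A := by
  have key : ∀ (R : Type u) [CommRing R],
      HTop.IsSeminormalRing R ↔ Groth.Agent.H37.LocGlue.P 2 3 1 1 1 3 2 R := by
    intro R _
    simp only [HTop.IsSeminormalRing, Groth.Agent.H37.LocGlue.P, Nat.cast_one, one_mul]
  refine ⟨fun A _ f h => (key _).mpr
      (Groth.Agent.H37.LocGlue.P_away (by norm_num) (by norm_num) f (by norm_num) (by norm_num)
        (by norm_num) ((key A).mp h)),
    fun A _ s hs H => (key A).mpr
      (Groth.Agent.H37.LocGlue.P_of_span (by norm_num) (by norm_num) (by norm_num) (by norm_num)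
        s hs (fun f hf => (key _).mp (H f hf)))⟩

end Groth.Agent.S7418
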