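import Groth.Statements.S7419
import Groth.Agent.H37.LocGlue

set_option autoImplicit false
universe u
open CategoryTheory AlgebraicGeometry
open HTop

namespace Groth.Agent.S7419

/-- Being absolutely weakly normal is a local property of rings: it passes to the localizations `A_f`,
and if `f_1, …, f_n` generate the unit ideal of `A` and each `A_{f_i}` is absolutely weakly normal
then so is `A`. -/
theorem result :
    (∀ (A : Type u) [CommRing A] (f : A), HTop.IsAWNRing A → HTop.IsAWNRing (Localization.Away f)) ∧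
    ∀ (A : Type u) [CommRing A] (s : Finset A), Ideal.span (s : Set A) = ⊤ →
      (∀ f ∈ s, HTop.IsAWNRing (Localization.Away f)) → HTop.IsAWNRing A := by
  have key : ∀ (R : Type u) [CommRing R],
      HTop.IsSeminormalRing R ↔ Groth.Agent.H37.LocGlue.P 2 3 1 1 1 3 2 R := by
    intro R _
    simp only [HTop.IsSeminormalRing, Groth.Agent.H37.LocGlue.P, Nat.cast_one, one_mul]
  have keyp : ∀ (R : Type u) [CommRing R] (p : ℕ),
      (∀ x y : R, (p : R) ^ p * x = y ^ p → ∃! a : R, x = a ^ p ∧ y = (p : R) * a) ↔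
        Groth.Agent.H37.LocGlue.P p 1 1 p (p ^ p) 1 p R := by
    intro R _ p
    simp only [Groth.Agent.H37.LocGlue.P, Nat.cast_pow, pow_one, Nat.cast_one, one_mul]
  have hDp : ∀ p : ℕ, p * 1 = 1 * p := fun p => by rw [mul_one, one_mul]
  have hCp : ∀ p : ℕ, p ^ p * 1 ^ 1 = p ^ p := fun p => by simp
  refine ⟨fun A _ f h => ⟨(key _).mpr
      (Groth.Agent.H37.LocGlue.P_away (by norm_num) (by norm_num) f (by norm_num) (by norm_num)
        (by norm_num) ((key A).mp h.1)), fun p hp => (keyp _ p).mpr
      (Groth.Agent.H37.LocGlue.P_away (hDp p) (hCp p) f hp.pos (by norm_num)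
        (by norm_num) ((keyp A p).mp (h.2 p hp)))⟩,
    fun A _ s hs H => ⟨(key A).mpr
      (Groth.Agent.H37.LocGlue.P_of_span (by norm_num) (by norm_num) (by norm_num) (by norm_num)
        s hs (fun f hf => (key _).mp (H f hf).1)), fun p hp => (keyp A p).mpr
      (Groth.Agent.H37.LocGlue.P_of_span (hDp p) (hCp p) hp.pos (by norm_num)
        s hs (fun f hf => (keyp _ p).mp ((H f hf).2 p hp)))⟩⟩

end Groth.Agent.S7419
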