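import Groth.Statements.S7420
import Groth.Agent.S7418
import Groth.Agent.S7419
import Mathlib

set_option autoImplicit false
universe u
open CategoryTheory AlgebraicGeometry
open HTop

namespace Groth.Agent.S7420


theorem seminormal_equiv (R R' : Type u) [CommRing R] [CommRing R'] (e : R ≃+* R')
    (h : HTop.IsSeminormalRing R) : HTop.IsSeminormalRing R' := by
  intro x y hxy
  have hxy' : (e.symm x) ^ 3 = (e.symm y) ^ 2 := by
    rw [← map_pow, ← map_pow, hxy]
  obtain ⟨a, ⟨ha1, ha2⟩, hau⟩ := h _ _ hxy'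
  refine ⟨e a, ⟨?_, ?_⟩, ?_⟩
  · have := congrArg e ha1
    rwa [RingEquiv.apply_symm_apply, map_pow] at this
  · have := congrArg e ha2
    rwa [RingEquiv.apply_symm_apply, map_pow] at this
  · rintro b ⟨hb1, hb2⟩
    have := hau (e.symm b) ⟨by rw [hb1, map_pow], by rw [hb2, map_pow]⟩
    rw [← this, RingEquiv.apply_symm_apply]

theorem awn_equiv (R R' : Type u) [CommRing R] [CommRing R'] (e : R ≃+* R')
    (h : HTop.IsAWNRing R) : HTop.IsAWNRing R' := by
  refine ⟨seminormal_equiv R R' e h.1, ?_⟩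
  intro p hp x y hxy
  have hxy' : (p : R) ^ p * (e.symm x) = (e.symm y) ^ p := by
    rw [← map_pow, ← hxy, map_mul, map_pow, map_natCast]
  obtain ⟨a, ⟨ha1, ha2⟩, hau⟩ := h.2 p hp _ _ hxy'
  refine ⟨e a, ⟨?_, ?_⟩, ?_⟩
  · have := congrArg e ha1
    rwa [RingEquiv.apply_symm_apply, map_pow] at this
  · have := congrArg e ha2
    rwa [RingEquiv.apply_symm_apply, map_mul, map_natCast] at this
  · rintro b ⟨hb1, hb2⟩
    have := hau (e.symm b) ⟨by rw [hb1, map_pow], by rw [hb2, map_mul, map_natCast]⟩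
    rw [← this, RingEquiv.apply_symm_apply]

theorem aux (Pr : ∀ (R : Type u) [CommRing R], Prop)
    (hequiv : ∀ (R R' : Type u) [CommRing R] [CommRing R'] (_ : R ≃+* R'), Pr R → Pr R')
    (haway : ∀ (A : Type u) [CommRing A] (f : A), Pr A → Pr (Localization.Away f))
    (hspan : ∀ (A : Type u) [CommRing A] (s : Finset A), Ideal.span (s : Set A) = ⊤ →
      (∀ f ∈ s, Pr (Localization.Away f)) → Pr A)
    (X : Scheme.{u}) :
    (∀ x : X, ∃ U : X.affineOpens, x ∈ (U : X.Opens) ∧ Pr Γ(X, U)) ↔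
      ∀ U : X.affineOpens, Pr Γ(X, U) := by
  constructor
  · intro h V
    choose U hxU hU using h
    have hsup : (⨆ x, (U x : X.Opens)) = ⊤ := by
      rw [eq_top_iff]
      intro x _
      exact TopologicalSpace.Opens.mem_iSup.mpr ⟨x, hxU x⟩
    refine of_affine_open_cover (P := fun W => Pr Γ(X, W)) U hsup V ?_ ?_ hU
    · intro W f hW
      haveI := W.2.isLocalization_basicOpen f
      exact hequiv _ _ (IsLocalization.algEquiv (Submonoid.powers f) (Localization.Away f)
        Γ(X, X.basicOpen f)).toRingEquiv (haway _ f hW)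
    · intro W s hs H
      apply hspan _ s hs
      intro f hf
      haveI := W.2.isLocalization_basicOpen f
      exact hequiv _ _ (IsLocalization.algEquiv (Submonoid.powers f) Γ(X, X.basicOpen f)
        (Localization.Away f)).toRingEquiv (H ⟨f, hf⟩)
  · intro h x
    obtain ⟨W, hW, hxW, -⟩ := exists_isAffineOpen_mem_and_subset (X := X) (x := x) (U := ⊤) trivial
    exact ⟨⟨W, hW⟩, hxW, h ⟨W, hW⟩⟩

/-- A scheme `X` is seminormal if and only if `O_X(U)` is seminormal for every affine open `U ⊆ X`; the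
same holds with 'seminormal' replaced by 'absolutely weakly normal'. -/
theorem result (X : Scheme.{u}) :
    (HTop.IsSeminormal X ↔ ∀ U : X.affineOpens, HTop.IsSeminormalRing Γ(X, U)) ∧
    (HTop.IsAWN X ↔ ∀ U : X.affineOpens, HTop.IsAWNRing Γ(X, U)) := by
  refine ⟨?_, ?_⟩
  · exact aux (fun R _ => HTop.IsSeminormalRing R) seminormal_equiv
      (fun A _ f h => Groth.Agent.S7418.result.1 A f h)
      (fun A _ s hs H => Groth.Agent.S7418.result.2 A s hs H) X
  · exact aux (fun R _ => HTop.IsAWNRing R) awn_equiv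
      (fun A _ f h => Groth.Agent.S7419.result.1 A f h)
      (fun A _ s hs H => Groth.Agent.S7419.result.2 A s hs H) X

end Groth.Agent.S7420
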