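import Groth.Statements.S8741
import Groth.Agent.H92.AdeqLin

set_option autoImplicit false
universe u
open CategoryTheory Limits
open Adeq

namespace Groth.Agent.S8741

/-- An adequate functor `F` on `A`-algebras admits a surjection `L → F` from a direct sum `L` of
linearly adequate functors: there are linearly adequate `L_i`, a coproduct cocone of the family
which is a colimit, and an epimorphism from its point onto `F`. -/
theorem result (A : Type u) [CommRing A] (F : Adeq.MVF A) (hF : Adeq.adequate A F) :
    ∃ (ι : Type (u + 1)) (L : ι → Adeq.MVF A), (∀ i, Adeq.linAdequate A (L i)) ∧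
      ∃ (c : Cofan L) (_ : IsColimit c) (π : c.pt ⟶ F), Epi π := by
  classical
  let ι : Type (u + 1) := Σ B : Adeq.Alg A, F.obj (Adeq.pt B)
  choose L hL l η hη using
    (fun i : ι => Groth.Agent.H92.AdeqLin.exists_linAdequate_hitting F hF i.1 i.2)
  refine ⟨ι, L, hL, Cofan.mk (∐ L) (Sigma.ι L), coproductIsCoproduct L, Sigma.desc l, ?_⟩
  apply PresheafOfModules.epi_of_surjective
  intro X ξ
  let i : ι := ⟨X.unop.unop, ξ⟩
  refine ⟨(Sigma.ι L i).app X (η i), ?_⟩
  have h1 : Sigma.ι L i ≫ Sigma.desc l = l i := Sigma.ι_desc l i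
  have h2 := Groth.Agent.H92.AdeqBase.app_congr h1 X (η i)
  rw [Groth.Agent.H92.AdeqBase.comp_app_apply] at h2
  exact h2.trans (hη i)

end Groth.Agent.S8741
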