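import Groth.Statements.S2016
import Mathlib

set_option autoImplicit false
universe u
open EtAlg

namespace Groth.Agent.S2016


open Matrix

section Smith
universe v w
variable {S : Type u} [CommRing S]

lemma exists_dvd_all (h : ∀ a b : S, a ∣ b ∨ b ∣ a) {κ : Type v} [Fintype κ] [Nonempty κ] (x : κ → S) :
    ∃ i₀, ∀ i, x i₀ ∣ x i := by
  classical
  have key : ∀ s : Finset κ, s.Nonempty → ∃ i₀ ∈ s, ∀ i ∈ s, x i₀ ∣ x i := by
    intro s hs
    induction hs using Finset.Nonempty.cons_induction with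
    | singleton a =>
      exact ⟨a, Finset.mem_singleton_self a, fun i hi => by rw [Finset.mem_singleton.1 hi]⟩
    | cons a s ha hs ih =>
      obtain ⟨i₀, hi₀, hdiv⟩ := ih
      rcases h (x a) (x i₀) with h1 | h1
      · refine ⟨a, Finset.mem_cons_self a s, fun i hi => ?_⟩
        rcases Finset.mem_cons.1 hi with rfl | hi
        · exact dvd_rfl
        · exact h1.trans (hdiv i hi)
      · refine ⟨i₀, Finset.mem_cons.2 (Or.inr hi₀), fun i hi => ?_⟩
        rcases Finset.mem_cons.1 hi with rfl | hi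
        · exact h1
        · exact hdiv i hi
  obtain ⟨i₀, -, hi₀⟩ := key Finset.univ Finset.univ_nonempty
  exact ⟨i₀, fun i => hi₀ i (Finset.mem_univ i)⟩

lemma dvd_mul_mul {ι : Type v} [Fintype ι] (a : S) (A M B : Matrix ι ι S) (hM : ∀ i j, a ∣ M i j) :
    ∀ i j, a ∣ (A * M * B) i j := by
  intro i j
  rw [Matrix.mul_apply]
  refine Finset.dvd_sum fun k _ => Dvd.dvd.mul_right ?_ _
  rw [Matrix.mul_apply]
  exact Finset.dvd_sum fun l _ => Dvd.dvd.mul_left (hM l k) _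

/-- diagonalisability by determinant-one matrices -/
def P (S : Type u) [CommRing S] (ι : Type v) [Fintype ι] [DecidableEq ι] : Prop :=
  ∀ M : Matrix ι ι S, ∃ (A B : Matrix ι ι S) (d : ι → S),
    A.det = 1 ∧ B.det = 1 ∧ A * M * B = diagonal d

lemma P_reindex {ι : Type v} {κ : Type w} [Fintype ι] [DecidableEq ι] [Fintype κ] [DecidableEq κ]
    (e : κ ≃ ι) (h : P S ι) : P S κ := by
  intro M
  obtain ⟨A, B, d, hA, hB, hAB⟩ := h (M.submatrix e.symm e.symm)
  refine ⟨A.submatrix e e, B.submatrix e e, d ∘ e, ?_, ?_, ?_⟩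
  · rw [det_submatrix_equiv_self, hA]
  · rw [det_submatrix_equiv_self, hB]
  · have hM : M = (M.submatrix e.symm e.symm).submatrix e e := by simp
    conv_lhs => rw [hM]
    rw [submatrix_mul_equiv, submatrix_mul_equiv, hAB, submatrix_diagonal_equiv]

lemma pivot_row {ι : Type v} [Fintype ι] [DecidableEq ι] (M : Matrix ι ι S) (o i₀ j₀ : ι)
    (hdiv : ∀ i j, M i₀ j₀ ∣ M i j) :
    ∃ A : Matrix ι ι S, A.det = 1 ∧ (A * M) o j₀ = M i₀ j₀ := by
  by_cases h : i₀ = o
  · subst h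
    exact ⟨1, det_one, by rw [Matrix.one_mul]⟩
  · obtain ⟨q, hq⟩ := hdiv o j₀
    refine ⟨transvection o i₀ (1 - q), det_transvection_of_ne _ _ (Ne.symm h) _, ?_⟩
    rw [transvection_mul_apply_same, hq]; ring

lemma pivot_col {ι : Type v} [Fintype ι] [DecidableEq ι] (M : Matrix ι ι S) (o j₀ : ι) (a : S)
    (hdiv : ∀ i j, a ∣ M i j) (ha : M o j₀ = a) :
    ∃ B : Matrix ι ι S, B.det = 1 ∧ (M * B) o o = a := by
  by_cases h : j₀ = o
  · subst h
    exact ⟨1, det_one, by rw [Matrix.mul_one, ha]⟩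
  · obtain ⟨q, hq⟩ := hdiv o o
    refine ⟨transvection j₀ o (1 - q), det_transvection_of_ne _ _ h _, ?_⟩
    rw [mul_transvection_apply_same, hq, ha]; ring

lemma block_elim {r : ℕ} (M : Matrix (Unit ⊕ Fin r) (Unit ⊕ Fin r) S) (a : S)
    (ha : M (Sum.inl ()) (Sum.inl ()) = a) (hdiv : ∀ i j, a ∣ M i j) :
    ∃ (L R : Matrix (Unit ⊕ Fin r) (Unit ⊕ Fin r) S) (N : Matrix (Fin r) (Fin r) S),
      L.det = 1 ∧ R.det = 1 ∧ L * M * R = fromBlocks (diagonal fun _ => a) 0 0 N := by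
  choose q hq using hdiv
  let V' : Matrix (Fin r) Unit S := fun i _ => q (Sum.inr i) (Sum.inl ())
  let U' : Matrix Unit (Fin r) S := fun _ j => q (Sum.inl ()) (Sum.inr j)
  have h11 : M.toBlocks₁₁ = diagonal fun _ => a := by
    ext i j
    rw [Subsingleton.elim j i, diagonal_apply_eq]
    exact ha
  have h21 : V' * M.toBlocks₁₁ = M.toBlocks₂₁ := by
    ext i j
    rw [Matrix.mul_apply, Fintype.sum_unique]
    show q (Sum.inr i) (Sum.inl ()) * M (Sum.inl ()) (Sum.inl ()) = M (Sum.inr i) (Sum.inl ())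
    rw [ha, hq (Sum.inr i) (Sum.inl ()), mul_comm]
  have h12 : M.toBlocks₁₁ * U' = M.toBlocks₁₂ := by
    ext i j
    rw [Matrix.mul_apply, Fintype.sum_unique]
    show M (Sum.inl ()) (Sum.inl ()) * q (Sum.inl ()) (Sum.inr j) = M (Sum.inl ()) (Sum.inr j)
    rw [ha, hq (Sum.inl ()) (Sum.inr j)]
  refine ⟨fromBlocks 1 0 (-V') 1, fromBlocks 1 (-U') 0 1, M.toBlocks₂₂ - V' * M.toBlocks₁₂, ?_, ?_, ?_⟩
  · rw [det_fromBlocks_zero₁₂, det_one, det_one, one_mul]
  · rw [det_fromBlocks_zero₂₁, det_one, det_one, one_mul]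
  · conv_lhs => rw [← fromBlocks_toBlocks M]
    rw [fromBlocks_multiply, fromBlocks_multiply]
    simp only [Matrix.one_mul, Matrix.zero_mul, Matrix.mul_one, Matrix.mul_zero, add_zero, zero_add,
      Matrix.neg_mul, Matrix.mul_neg, h21, h12, neg_add_cancel, neg_zero]
    rw [h11, sub_eq_neg_add]

lemma P_step (hch : ∀ a b : S, a ∣ b ∨ b ∣ a) (r : ℕ) (ih : P S (Fin r)) : P S (Unit ⊕ Fin r) := by
  intro M
  obtain ⟨⟨i₀, j₀⟩, hmin⟩ :=
    exists_dvd_all hch (fun p : (Unit ⊕ Fin r) × (Unit ⊕ Fin r) => M p.1 p.2)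
  have hdiv : ∀ i j, M i₀ j₀ ∣ M i j := fun i j => hmin (i, j)
  obtain ⟨A₁, hA₁, hA₁M⟩ := pivot_row M (Sum.inl ()) i₀ j₀ hdiv
  obtain ⟨a, ha⟩ : ∃ a, a = M i₀ j₀ := ⟨_, rfl⟩
  rw [← ha] at hdiv hA₁M
  have hdiv1 : ∀ i j, a ∣ (A₁ * M) i j := fun i j => by
    have := dvd_mul_mul a A₁ M 1 hdiv i j
    rwa [Matrix.mul_one] at this
  obtain ⟨B₁, hB₁, hB₁M⟩ := pivot_col (A₁ * M) (Sum.inl ()) j₀ a hdiv1 hA₁M
  have hdiv2 : ∀ i j, a ∣ (A₁ * M * B₁) i j := dvd_mul_mul a A₁ M B₁ hdiv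
  obtain ⟨L, Rr, N, hL, hR, hLR⟩ := block_elim (A₁ * M * B₁) a hB₁M hdiv2
  obtain ⟨A₃, B₃, d', hA₃, hB₃, hAB₃⟩ := ih N
  refine ⟨fromBlocks 1 0 0 A₃ * L * A₁, B₁ * Rr * fromBlocks 1 0 0 B₃,
    Sum.elim (fun _ => a) d', ?_, ?_, ?_⟩
  · rw [det_mul, det_mul, det_fromBlocks_zero₂₁, det_one, hA₃, hL, hA₁]; norm_num
  · rw [det_mul, det_mul, det_fromBlocks_zero₂₁, det_one, hB₃, hR, hB₁]; norm_num
  · have : fromBlocks 1 0 0 A₃ * L * A₁ * M * (B₁ * Rr * fromBlocks 1 0 0 B₃) =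
        fromBlocks 1 0 0 A₃ * (L * (A₁ * M * B₁) * Rr) * fromBlocks 1 0 0 B₃ := by
      simp only [Matrix.mul_assoc]
    rw [this, hLR, fromBlocks_multiply, fromBlocks_multiply]
    simp only [Matrix.one_mul, Matrix.zero_mul, Matrix.mul_one, Matrix.mul_zero, add_zero, zero_add]
    rw [hAB₃, fromBlocks_diagonal]

theorem smith_fin (hch : ∀ a b : S, a ∣ b ∨ b ∣ a) : ∀ r : ℕ, P S (Fin r) := by
  intro r
  induction r with
  | zero => intro M; exact ⟨1, 1, 0, det_one, det_one, Subsingleton.elim _ _⟩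
  | succ r ih =>
    have e : Fin (r + 1) ≃ Unit ⊕ Fin r := Fintype.equivOfCardEq (by simp [add_comm])
    exact P_reindex e (P_step hch r ih)

theorem smith (hch : ∀ a b : S, a ∣ b ∨ b ∣ a) {ι : Type v} [Fintype ι] [DecidableEq ι]
    (M : Matrix ι ι S) : ∃ (A B : Matrix ι ι S) (d : ι → S),
      A.det = 1 ∧ B.det = 1 ∧ A * M * B = diagonal d :=
  P_reindex (Fintype.equivFin ι) (smith_fin hch _) M

end Smith

section Local
variable {R : Type u} [CommRing R] {ι : Type} [Fintype ι] [DecidableEq ι]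

lemma clear_mats (m : Ideal R) [m.IsPrime] {κ : Type} [Fintype κ]
    (Ms : κ → Matrix ι ι (Localization.AtPrime m)) :
    ∃ s : R, s ∈ m.primeCompl ∧ ∃ Ns : κ → Matrix ι ι R, ∀ k,
      (Ns k).map (algebraMap R (Localization.AtPrime m)) =
        algebraMap R (Localization.AtPrime m) s • Ms k := by
  classical
  obtain ⟨b, hb⟩ := IsLocalization.exist_integer_multiples m.primeCompl
    (Finset.univ : Finset (κ × ι × ι)) (fun x => Ms x.1 x.2.1 x.2.2)
  choose N₀ hN₀ using fun x : κ × ι × ι =>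
    (hb x (Finset.mem_univ x) :
      ∃ r, algebraMap R (Localization.AtPrime m) r = (b : R) • Ms x.1 x.2.1 x.2.2)
  refine ⟨b, b.2, fun k i j => N₀ (k, i, j), fun k => ?_⟩
  ext i j
  rw [Matrix.map_apply, Matrix.smul_apply, smul_eq_mul]
  show algebraMap R _ (N₀ (k, i, j)) = _
  rw [hN₀ (k, i, j), Algebra.smul_def]

lemma exists_smul_eq_zero (m : Ideal R) [m.IsPrime] (X : Matrix ι ι R)
    (hX : X.map (algebraMap R (Localization.AtPrime m)) = 0) :
    ∃ t : R, t ∈ m.primeCompl ∧ t • X = 0 := by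
  classical
  have h : ∀ p : ι × ι, ∃ t : m.primeCompl, (t : R) * X p.1 p.2 = 0 := fun p => by
    have h1 : algebraMap R (Localization.AtPrime m) (X p.1 p.2) = 0 := by
      have h2 := congrFun (congrFun hX p.1) p.2
      simpa using h2
    exact (IsLocalization.map_eq_zero_iff m.primeCompl _ _).1 h1
  choose t ht using h
  refine ⟨∏ p, (t p : R), Submonoid.prod_mem _ (fun p _ => (t p).2), ?_⟩
  ext i j
  have h3 := ht (i, j)
  dsimp only at h3
  rw [Matrix.smul_apply, Matrix.zero_apply, smul_eq_mul,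
    ← Finset.mul_prod_erase Finset.univ _ (Finset.mem_univ (i, j)), mul_comm ((t (i, j) : R)),
    mul_assoc, h3, mul_zero]

lemma local_data (m : Ideal R) [m.IsMaximal]
    (hch : ∀ a b : Localization.AtPrime m, a ∣ b ∨ b ∣ a) (Amat : Matrix ι ι R) :
    ∃ (g : R) (d : ι → R) (U V W V' : Matrix ι ι R), g ∉ m ∧ U * Amat = diagonal d * V ∧
      W * diagonal d = Amat * V' ∧ W * U = g • (1 : Matrix ι ι R) := by
  classical
  obtain ⟨φ, hφ⟩ : ∃ φ : R →+* Localization.AtPrime m, φ = algebraMap R (Localization.AtPrime m) :=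
    ⟨_, rfl⟩
  obtain ⟨P, Q, δ, hP, hQ, hPQ⟩ := smith hch (Amat.map φ)
  have hPP : P.adjugate * P = 1 := by rw [adjugate_mul, hP, one_smul]
  have hQQ : Q * Q.adjugate = 1 := by rw [mul_adjugate, hQ, one_smul]
  have ha : P * Amat.map φ = diagonal δ * Q.adjugate := by
    rw [← hPQ, Matrix.mul_assoc (P * Amat.map φ), hQQ, Matrix.mul_one]
  have hb : P.adjugate * diagonal δ = Amat.map φ * Q := by
    rw [← hPQ, ← Matrix.mul_assoc, ← Matrix.mul_assoc, hPP, Matrix.one_mul]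
  obtain ⟨s, hs, Ns, hNs⟩ := clear_mats m
    (![P, P.adjugate, Q, Q.adjugate, diagonal δ] : Fin 5 → Matrix ι ι (Localization.AtPrime m))
  rw [← hφ] at hNs
  have h0 : (Ns 0).map φ = φ s • P := hNs 0
  have h1 : (Ns 1).map φ = φ s • P.adjugate := hNs 1
  have h2 : (Ns 2).map φ = φ s • Q := hNs 2
  have h3 : (Ns 3).map φ = φ s • Q.adjugate := hNs 3
  have h4 : (Ns 4).map φ = φ s • diagonal δ := hNs 4
  obtain ⟨d₀, hd₀def⟩ : ∃ d₀ : ι → R, d₀ = fun i => Ns 4 i i := ⟨_, rfl⟩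
  have hd₀ : (diagonal d₀).map φ = φ s • diagonal δ := by
    rw [diagonal_map (map_zero φ)]
    ext i j
    by_cases hij : i = j
    · subst hij
      rw [diagonal_apply_eq, ← h4, hd₀def]; rfl
    · rw [diagonal_apply_ne _ hij, Matrix.smul_apply, diagonal_apply_ne _ hij, smul_zero]
  have hXa : (s • (Ns 0 * Amat) - diagonal d₀ * Ns 3).map φ = 0 := by
    rw [Matrix.map_sub _ (map_sub φ), Matrix.map_smul' _ _ _ (map_mul φ), Matrix.map_mul,
      Matrix.map_mul, h0, hd₀, h3, Matrix.smul_mul, Matrix.smul_mul, Matrix.mul_smul, ha, sub_self]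
  have hXb : (Ns 1 * diagonal d₀ - s • (Amat * Ns 2)).map φ = 0 := by
    rw [Matrix.map_sub _ (map_sub φ), Matrix.map_smul' _ _ _ (map_mul φ), Matrix.map_mul,
      Matrix.map_mul, h1, hd₀, h2, Matrix.smul_mul, Matrix.mul_smul, Matrix.mul_smul, hb, sub_self]
  have hXc : (Ns 1 * Ns 0 - (s * s) • (1 : Matrix ι ι R)).map φ = 0 := by
    rw [Matrix.map_sub _ (map_sub φ), Matrix.map_mul, h1, h0, Matrix.map_smul' _ _ _ (map_mul φ),
      Matrix.map_one _ (map_zero φ) (map_one φ), Matrix.smul_mul, Matrix.mul_smul, hPP, smul_smul,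
      map_mul, sub_self]
  rw [hφ] at hXa hXb hXc
  obtain ⟨ta, hta, hta0⟩ := exists_smul_eq_zero m _ hXa
  obtain ⟨tb, htb, htb0⟩ := exists_smul_eq_zero m _ hXb
  obtain ⟨tc, htc, htc0⟩ := exists_smul_eq_zero m _ hXc
  obtain ⟨t, htdef⟩ : ∃ t : R, t = ta * tb * tc := ⟨_, rfl⟩
  have ht : t ∈ m.primeCompl := by
    rw [htdef]; exact Submonoid.mul_mem _ (Submonoid.mul_mem _ hta htb) htc
  have ea : t • (s • (Ns 0 * Amat)) = t • (diagonal d₀ * Ns 3) := by
    have h5 : t • (s • (Ns 0 * Amat) - diagonal d₀ * Ns 3) = 0 := by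
      rw [show t = (tb * tc) * ta by rw [htdef]; ring, mul_smul, hta0, smul_zero]
    rwa [smul_sub, sub_eq_zero] at h5
  have eb : t • (Ns 1 * diagonal d₀) = t • (s • (Amat * Ns 2)) := by
    have h5 : t • (Ns 1 * diagonal d₀ - s • (Amat * Ns 2)) = 0 := by
      rw [show t = (ta * tc) * tb by rw [htdef]; ring, mul_smul, htb0, smul_zero]
    rwa [smul_sub, sub_eq_zero] at h5
  have ec : t • (Ns 1 * Ns 0) = t • ((s * s) • (1 : Matrix ι ι R)) := by
    have h5 : t • (Ns 1 * Ns 0 - (s * s) • (1 : Matrix ι ι R)) = 0 := by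
      rw [show t = (ta * tb) * tc by rw [htdef], mul_smul, htc0, smul_zero]
    rwa [smul_sub, sub_eq_zero] at h5
  refine ⟨t * s * t * (s * s), d₀, (t * s) • Ns 0, t • Ns 3, t • Ns 1, (t * s) • Ns 2, ?_, ?_, ?_, ?_⟩
  · have hg : t * s * t * (s * s) ∈ m.primeCompl :=
      Submonoid.mul_mem _ (Submonoid.mul_mem _ (Submonoid.mul_mem _ ht hs) ht)
        (Submonoid.mul_mem _ hs hs)
    exact hg
  · rw [Matrix.smul_mul, mul_smul, ea, Matrix.mul_smul]
  · rw [Matrix.smul_mul, eb, ← mul_smul, Matrix.mul_smul]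
  · calc (t • Ns 1) * ((t * s) • Ns 0) = (t * s) • (t • (Ns 1 * Ns 0)) := by
          rw [Matrix.smul_mul, Matrix.mul_smul, smul_comm]
      _ = (t * s) • (t • ((s * s) • (1 : Matrix ι ι R))) := by rw [ec]
      _ = (t * s * t * (s * s)) • (1 : Matrix ι ι R) := by rw [smul_smul, smul_smul]

/-- the target of the local maps -/
abbrev E (d : ι → R) : Type u := (i : ι) → R ⧸ Ideal.span {d i}

lemma maps_of_data (Amat : Matrix ι ι R) (g : R) (d : ι → R) (U V W V' : Matrix ι ι R)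
    (h1 : U * Amat = diagonal d * V) (h2 : W * diagonal d = Amat * V')
    (h3 : W * U = g • (1 : Matrix ι ι R)) :
    ∃ (β : ((ι → R) ⧸ LinearMap.range Amat.mulVecLin) →ₗ[R] E d)
      (α : E d →ₗ[R] ((ι → R) ⧸ LinearMap.range Amat.mulVecLin)),
      α ∘ₗ β = g • LinearMap.id := by
  classical
  let πE : (ι → R) →ₗ[R] E d :=
    LinearMap.pi fun i => (Submodule.mkQ (Ideal.span {d i})).comp (LinearMap.proj i)
  have hπ_apply : ∀ x i, πE x i = Submodule.Quotient.mk (x i) := fun x i => rfl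
  have hπ_surj : Function.Surjective πE := by
    intro y
    choose x hx using fun i => Submodule.Quotient.mk_surjective _ (y i)
    exact ⟨x, funext fun i => hx i⟩
  have hπD : ∀ z : ι → R, πE ((diagonal d).mulVec z) = 0 := by
    intro z
    funext i
    rw [hπ_apply, Pi.zero_apply, Submodule.Quotient.mk_eq_zero, mulVec_diagonal]
    exact Ideal.mul_mem_right _ _ (Ideal.subset_span rfl)
  have hker : ∀ x, πE x = 0 → ∃ y, (diagonal d).mulVec y = x := by
    intro x hx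
    have h5 : ∀ i, ∃ c, c * d i = x i := fun i => by
      have h6 := congrFun hx i
      rw [hπ_apply, Pi.zero_apply, Submodule.Quotient.mk_eq_zero] at h6
      exact Ideal.mem_span_singleton'.1 h6
    choose y hy using h5
    exact ⟨y, funext fun i => by rw [mulVec_diagonal, mul_comm, hy]⟩
  have hle : LinearMap.range Amat.mulVecLin ≤ LinearMap.ker (πE ∘ₗ U.mulVecLin) := by
    rintro _ ⟨y, rfl⟩
    rw [LinearMap.mem_ker]
    show πE (U.mulVec (Amat.mulVec y)) = 0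
    rw [Matrix.mulVec_mulVec, h1, ← Matrix.mulVec_mulVec]
    exact hπD _
  let β : ((ι → R) ⧸ LinearMap.range Amat.mulVecLin) →ₗ[R] E d :=
    (LinearMap.range Amat.mulVecLin).liftQ (πE ∘ₗ U.mulVecLin) hle
  have hle2 : LinearMap.ker πE ≤
      LinearMap.ker ((LinearMap.range Amat.mulVecLin).mkQ ∘ₗ W.mulVecLin) := by
    intro x hx
    obtain ⟨y, rfl⟩ := hker x (LinearMap.mem_ker.1 hx)
    rw [LinearMap.mem_ker]
    show Submodule.Quotient.mk (W.mulVec ((diagonal d).mulVec y)) = 0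
    rw [Matrix.mulVec_mulVec, h2, ← Matrix.mulVec_mulVec, Submodule.Quotient.mk_eq_zero]
    exact ⟨V'.mulVec y, rfl⟩
  let eE := πE.quotKerEquivOfSurjective hπ_surj
  let α₀ : ((ι → R) ⧸ LinearMap.ker πE) →ₗ[R] ((ι → R) ⧸ LinearMap.range Amat.mulVecLin) :=
    (LinearMap.ker πE).liftQ ((LinearMap.range Amat.mulVecLin).mkQ ∘ₗ W.mulVecLin) hle2
  let α : E d →ₗ[R] ((ι → R) ⧸ LinearMap.range Amat.mulVecLin) := α₀ ∘ₗ eE.symm.toLinearMap
  have hα : ∀ z, α (πE z) = Submodule.Quotient.mk (W.mulVec z) := by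
    intro z
    have h5 : eE.symm (πE z) = Submodule.Quotient.mk z := by
      rw [LinearEquiv.symm_apply_eq]; rfl
    show α₀ (eE.symm (πE z)) = _
    rw [h5]; rfl
  refine ⟨β, α, ?_⟩
  apply Submodule.linearMap_qext
  refine LinearMap.ext fun x => ?_
  show α (πE (U.mulVec x)) = g • Submodule.Quotient.mk x
  rw [hα, Matrix.mulVec_mulVec, h3, Matrix.smul_mulVec, Matrix.one_mulVec]
  rfl

end Local

section Patch
variable {R : Type u} [CommRing R]

/-- a split surjection gives a product decomposition -/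
noncomputable def splitEquiv {M E' : Type u} [AddCommGroup M] [Module R M] [AddCommGroup E']
    [Module R E'] (α : E' →ₗ[R] M) (β : M →ₗ[R] E') (h : α ∘ₗ β = LinearMap.id) :
    (M × LinearMap.ker α) ≃ₗ[R] E' :=
  LinearEquiv.ofBijective (β.coprod (LinearMap.ker α).subtype) (by
    have hαβ : ∀ m, α (β m) = m := fun m => LinearMap.congr_fun h m
    constructor
    · rw [← LinearMap.ker_eq_bot, LinearMap.ker_eq_bot']
      rintro ⟨m, k⟩ hmk
      rw [LinearMap.coprod_apply, Submodule.subtype_apply] at hmk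
      have h1 := congrArg α hmk
      rw [map_add, hαβ, LinearMap.mem_ker.1 k.2, add_zero, map_zero] at h1
      subst h1
      rw [map_zero, zero_add] at hmk
      exact Prod.ext rfl (Subtype.ext hmk)
    · intro x
      refine ⟨(α x, ⟨x - β (α x), ?_⟩), ?_⟩
      · rw [LinearMap.mem_ker, map_sub, hαβ, sub_self]
      · rw [LinearMap.coprod_apply, Submodule.subtype_apply]
        simp)

theorem main_cok
    (h : ∀ (m : Ideal R) [m.IsMaximal], ∀ a b : Localization.AtPrime m, a ∣ b ∨ b ∣ a)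
    {ι : Type} [Fintype ι] [DecidableEq ι] (Amat : Matrix ι ι R) :
    ∃ (n : ℕ) (f : Fin n → R) (N : Type u) (_ : AddCommGroup N) (_ : Module R N),
      Nonempty ((((ι → R) ⧸ LinearMap.range Amat.mulVecLin) × N) ≃ₗ[R]
        ((i : Fin n) → R ⧸ Ideal.span {f i})) := by
  classical
  let G : Set R := {g | ∃ (d : ι → R)
    (β : ((ι → R) ⧸ LinearMap.range Amat.mulVecLin) →ₗ[R] E d)
    (α : E d →ₗ[R] ((ι → R) ⧸ LinearMap.range Amat.mulVecLin)), α ∘ₗ β = g • LinearMap.id}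
  have hG : Ideal.span G = ⊤ := by
    by_contra hne
    obtain ⟨m, hm, hle⟩ := Ideal.exists_le_maximal _ hne
    obtain ⟨g, d, U, V, W, V', hg, h1, h2, h3⟩ := local_data m (h m) Amat
    obtain ⟨β, α, hαβ⟩ := maps_of_data Amat g d U V W V' h1 h2 h3
    exact hg (hle (Ideal.subset_span ⟨d, β, α, hαβ⟩))
  have h1 : (1 : R) ∈ Ideal.span G := by rw [hG]; trivial
  obtain ⟨k, c, gg, hsum⟩ := Submodule.mem_span_set'.1 h1
  choose d β α hαβ using fun j : Fin k =>
    (show ∃ (d : ι → R) (β : ((ι → R) ⧸ LinearMap.range Amat.mulVecLin) →ₗ[R] E d)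
      (α : E d →ₗ[R] ((ι → R) ⧸ LinearMap.range Amat.mulVecLin)),
      α ∘ₗ β = ((gg j : R)) • LinearMap.id from (gg j).2)
  let βt : ((ι → R) ⧸ LinearMap.range Amat.mulVecLin) →ₗ[R]
      ((p : Fin k × ι) → R ⧸ Ideal.span {d p.1 p.2}) :=
    LinearMap.pi fun p => (LinearMap.proj p.2).comp (β p.1)
  let pr : ∀ j : Fin k, ((p : Fin k × ι) → R ⧸ Ideal.span {d p.1 p.2}) →ₗ[R] E (d j) :=
    fun j => LinearMap.pi fun i =>
      (LinearMap.proj (R := R) (φ := fun p : Fin k × ι => R ⧸ Ideal.span {d p.1 p.2}) (j, i))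
  let αt : ((p : Fin k × ι) → R ⧸ Ideal.span {d p.1 p.2}) →ₗ[R]
      ((ι → R) ⧸ LinearMap.range Amat.mulVecLin) :=
    ∑ j, c j • (α j).comp (pr j)
  have hpr : ∀ j x, pr j (βt x) = β j x := fun j x => rfl
  have hαβt : αt ∘ₗ βt = LinearMap.id := by
    refine LinearMap.ext fun y => ?_
    show (∑ j, c j • (α j).comp (pr j)) (βt y) = y
    rw [LinearMap.sum_apply]
    have h5 : ∀ j, (c j • (α j).comp (pr j)) (βt y) = (c j * (gg j : R)) • y := by
      intro j
      rw [LinearMap.smul_apply, LinearMap.comp_apply, hpr]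
      have h6 := LinearMap.congr_fun (hαβ j) y
      rw [LinearMap.comp_apply, LinearMap.smul_apply, LinearMap.id_apply] at h6
      rw [h6, smul_smul]
    rw [Finset.sum_congr rfl (fun j _ => h5 j), ← Finset.sum_smul]
    have h7 : ∑ j, c j * (gg j : R) = 1 := by
      rw [← hsum]; rfl
    rw [h7, one_smul]
  let e := Fintype.equivFin (Fin k × ι)
  let e3 : ((p : Fin k × ι) → R ⧸ Ideal.span {d p.1 p.2}) ≃ₗ[R]
      ((t : Fin (Fintype.card (Fin k × ι))) → R ⧸ Ideal.span {d (e.symm t).1 (e.symm t).2}) :=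
    LinearEquiv.piCongrLeft' R (fun p : Fin k × ι => R ⧸ Ideal.span {d p.1 p.2}) e
  exact ⟨Fintype.card (Fin k × ι), fun t => d (e.symm t).1 (e.symm t).2, LinearMap.ker αt,
    inferInstance, inferInstance, ⟨(splitEquiv αt βt hαβt).trans e3⟩⟩

end Patch

/-- Let R be a ring such that for every maximal ideal m and all a, b in R_m, either a divides b or b
divides a in R_m. Then each finitely presented R-module is a direct summand of a direct sum of
finitely many cyclic modules R/fR. -/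
theorem result (R : Type u) [CommRing R]
    (h : ∀ (m : Ideal R) [m.IsMaximal], ∀ a b : Localization.AtPrime m, a ∣ b ∨ b ∣ a)
    (M : Type u) [AddCommGroup M] [Module R M] [Module.FinitePresentation R M] :
    ∃ (n : ℕ) (f : Fin n → R) (N : Type u) (_ : AddCommGroup N) (_ : Module R N),
      Nonempty ((M × N) ≃ₗ[R] ((i : Fin n) → R ⧸ Ideal.span {f i})) := by
  classical
  obtain ⟨n₀, K, e, hK⟩ := Module.FinitePresentation.exists_fin R M
  obtain ⟨r₀, w, hw⟩ := Submodule.fg_iff_exists_fin_generating_family.1 hK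
  let Amat : Matrix (Fin n₀ ⊕ Fin r₀) (Fin n₀ ⊕ Fin r₀) R :=
    fun i j => Sum.elim (fun a => Sum.elim (fun _ => 0) (fun b => w b a) j) (fun _ => 0) i
  have hAmul : ∀ y : Fin n₀ ⊕ Fin r₀ → R,
      Amat.mulVec y = Sum.elim (∑ b, y (Sum.inr b) • w b) 0 := by
    intro y
    funext i
    rcases i with a | b
    · simp [Amat, Matrix.mulVec, dotProduct, Fintype.sum_sum_type, Finset.sum_apply, mul_comm]
    · simp [Amat, Matrix.mulVec, dotProduct]
  obtain ⟨n, f, N, _, _, ⟨Eq⟩⟩ := main_cok h Amat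
  let Φ : (Fin n₀ ⊕ Fin r₀ → R) →ₗ[R] (((Fin n₀ → R) ⧸ K) × (Fin r₀ → R)) :=
    LinearMap.prod (K.mkQ ∘ₗ LinearMap.funLeft R R Sum.inl) (LinearMap.funLeft R R Sum.inr)
  have hΦ : ∀ x, Φ x = (Submodule.Quotient.mk (fun a => x (Sum.inl a)), fun b => x (Sum.inr b)) :=
    fun x => rfl
  have hsurj : Function.Surjective Φ := by
    rintro ⟨y, z⟩
    obtain ⟨x₀, rfl⟩ := Submodule.Quotient.mk_surjective _ y
    exact ⟨Sum.elim x₀ z, by rw [hΦ]; rfl⟩
  have hker : LinearMap.ker Φ = LinearMap.range Amat.mulVecLin := by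
    ext x
    rw [LinearMap.mem_ker, hΦ, Prod.mk_eq_zero, Submodule.Quotient.mk_eq_zero, LinearMap.mem_range]
    constructor
    · rintro ⟨hx1, hx2⟩
      rw [← hw] at hx1
      obtain ⟨c, hc⟩ := (Submodule.mem_span_range_iff_exists_fun R).1 hx1
      refine ⟨Sum.elim 0 c, ?_⟩
      rw [Matrix.mulVecLin_apply, hAmul]
      funext i
      rcases i with a | b
      · simp only [Sum.elim_inl, Sum.elim_inr]
        rw [hc]
      · simp only [Sum.elim_inr, Pi.zero_apply]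
        exact (congrFun hx2 b).symm
    · rintro ⟨y, rfl⟩
      rw [Matrix.mulVecLin_apply, hAmul]
      refine ⟨?_, ?_⟩
      · simp only [Sum.elim_inl]
        rw [← hw]
        have : (fun a => (∑ b, y (Sum.inr b) • w b) a) = ∑ b, y (Sum.inr b) • w b := rfl
        rw [this]
        exact Submodule.sum_mem _ fun b _ => Submodule.smul_mem _ _ (Submodule.subset_span ⟨b, rfl⟩)
      · funext b
        simp
  let e1 : ((Fin n₀ ⊕ Fin r₀ → R) ⧸ LinearMap.range Amat.mulVecLin) ≃ₗ[R] (M × (Fin r₀ → R)) :=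
    ((Submodule.quotEquivOfEq _ _ hker.symm).trans (Φ.quotKerEquivOfSurjective hsurj)).trans
      (LinearEquiv.prodCongr e.symm (LinearEquiv.refl R (Fin r₀ → R)))
  exact ⟨n, f, (Fin r₀ → R) × N, inferInstance, inferInstance,
    ⟨(LinearEquiv.prodAssoc R M (Fin r₀ → R) N).symm.trans
      ((LinearEquiv.prodCongr e1.symm (LinearEquiv.refl R N)).trans Eq)⟩⟩

end Groth.Agent.S2016
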