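import Groth.Statements.S9960
import Groth.Agent.H50.RepIso
import Groth.Agent.H50.Basic
import Groth.Agent.H50.Lfp
import Groth.Agent.H51.DiagSep
import Groth.Agent.H52.LocPBC
import Groth.Agent.H52.EtLocalInst

set_option autoImplicit false
universe u
open CategoryTheory CategoryTheory.Limits AlgebraicGeometry
open AlgSp

namespace Groth.Agent.S9960

open Groth.Agent.H50 Groth.Agent.H51 Groth.Agent.H52

/-- The diagonal of a morphism locally of finite type is locally of finite presentation, and of finite
presentation when the morphism is also quasi-separated. -/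
theorem result {S : Scheme.{u}} {X Y : AlgSp.Space S} (f : X ⟶ Y)
    (hf : AlgSp.LocP @LocallyOfFiniteType f.hom) :
    AlgSp.LocP @LocallyOfFinitePresentation (pullback.diagonal f.hom) ∧
    (AlgSp.IsQuasiSeparatedMor f.hom → AlgSp.IsFinitePresentationMor (pullback.diagonal f.hom)) := by
  obtain ⟨U, T, R, a, α, β, α', β', ι, r, hae, has, hre, hrs, sqR, sqT, h1, h2, magic⟩ :=
    exists_diagonal_chart X.property Y.property f.hom
  have hα'e : Etale α'.left := hae.2 a _ α' sqR.flip
  have hα's : Surjective α'.left := has.2 a _ α' sqR.flip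
  have hβ'e : Etale β'.left := hae.2 a _ β' sqR
  have hβ : LocallyOfFiniteType β.left :=
    P_snd_of_locP etLocal_lft Y.property (a ≫ f.hom) (a ≫ f.hom) α β sqT
      (locP_chart_comp hf a hae)
  have hι : LocallyOfFinitePresentation ι.left := by
    apply lfp_of_comp_of_lft ι.left β.left _ hβ
    rw [← Over.comp_left, h2]
    infer_instance
  have instE := AlgSp.repWith_isMultiplicative (S := S) @Etale
  have instS := AlgSp.repWith_isMultiplicative (S := S) @Surjective
  have hce : AlgSp.RepWith @Etale ((AlgSp.yon S).map α' ≫ a) :=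
    (AlgSp.RepWith @Etale).comp_mem _ _ ((AlgSp.repWith_yon_map_iff _ _).2 hα'e) hae
  have hcs : AlgSp.RepWith @Surjective ((AlgSp.yon S).map α' ≫ a) :=
    (AlgSp.RepWith @Surjective).comp_mem _ _ ((AlgSp.repWith_yon_map_iff _ _).2 hα's) has
  have part1 : AlgSp.LocP @LocallyOfFinitePresentation (pullback.diagonal f.hom) :=
    locP_of_one_chart etLocal_lfp _ _ r ι hce hcs hre magic.w hι
  refine ⟨part1, fun hqs => ⟨part1, isQuasiCompactMor_of_repWith hqs, ?_⟩⟩
  have hmono : Mono (pullback.diagonal f.hom) := inferInstance
  exact repWith_of_isIso @QuasiCompact (pullback.diagonal (pullback.diagonal f.hom))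

end Groth.Agent.S9960
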