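import Groth.Statements.S5979
-- import your own Groth.Agent.* helpers here

set_option autoImplicit false
universe u
open CategoryTheory CategoryTheory.Limits AlgebraicGeometry TopologicalSpace Opposite
open Nrm16

namespace Groth.Agent.S5979

open AlgebraicGeometry.Scheme.Modules in
/-- Pushforward of modules along an isomorphism of schemes is an equivalence. -/
lemma isEquivalence_pushforward {X Y : Scheme.{u}} (p : X ⟶ Y) [IsIso p] :
    (Scheme.Modules.pushforward p).IsEquivalence := by
  let e : X.Modules ≌ Y.Modules :=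
    CategoryTheory.Equivalence.mk (Scheme.Modules.pushforward p)
      (Scheme.Modules.pushforward (inv p))
      ((pushforwardId X).symm ≪≫ pushforwardCongr (IsIso.hom_inv_id p).symm ≪≫
        (pushforwardComp p (inv p)).symm)
      (pushforwardComp (inv p) p ≪≫ pushforwardCongr (IsIso.inv_hom_id p) ≪≫
        pushforwardId Y)
  exact e.isEquivalence_functor

/-- Pulling back sections along an isomorphism is bijective. -/
lemma pullSect_bijective {X Y : Scheme.{u}} (p : X ⟶ Y) [IsIso p] (M : Y.Modules) (U : Y.Opens) :
    Function.Bijective (OmegaSh.pullSect p M U).hom := by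
  have := isEquivalence_pushforward p
  haveI : IsIso ((Scheme.Modules.pullbackPushforwardAdjunction p).unit.app M) := inferInstance
  haveI : IsIso (OmegaSh.pullSect p M U) :=
    inferInstanceAs (IsIso (((Scheme.Modules.pullbackPushforwardAdjunction p).unit.app M).app U))
  exact ConcreteCategory.bijective_of_isIso (OmegaSh.pullSect p M U)

lemma map_bijective_of_eq {X : Scheme.{u}} (M : X.Modules) {A B : X.Opens} (h : A = B) :
    Function.Bijective (M.presheaf.map (homOfLE h.le).op).hom := by
  subst h
  have : (homOfLE (le_refl A)) = 𝟙 A := rfl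
  rw [this, op_id, M.presheaf.map_id]
  exact Function.bijective_id

lemma isIso_inclusion_of_eq {X : Scheme.{u}} {I J : X.IdealSheafData} (h : I ≤ J) (h' : J ≤ I) :
    IsIso (Scheme.IdealSheafData.inclusion h) := by
  refine ⟨Scheme.IdealSheafData.inclusion h', ?_, ?_⟩
  · rw [Scheme.IdealSheafData.inclusion_comp]
    exact Scheme.IdealSheafData.inclusion_id J
  · rw [Scheme.IdealSheafData.inclusion_comp]
    exact Scheme.IdealSheafData.inclusion_id I

lemma isIso_toNbhd_zero {X S : Scheme.{u}} (f : X ⟶ S) : IsIso (PrinPart.toNbhd f 0) := by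
  have h' : (PrinPart.diagCl f).ker ≤ (PrinPart.diagCl f).ker ^ (0 + 1) := by
    rw [zero_add, pow_one]
  have := isIso_inclusion_of_eq (PrinPart.ker_pow_succ_le (PrinPart.diagCl f) 0) h'
  show IsIso ((PrinPart.diagCl f).toImage ≫
    Scheme.IdealSheafData.inclusion (PrinPart.ker_pow_succ_le (PrinPart.diagCl f) 0))
  infer_instance



/-- Let f : X ⟶ S be a morphism of schemes and F an O_X-module. For every open U of X the canonical
operator d^0 : Γ(U, F) ⟶ Γ(U, P^0_{X/S}(F)) is bijective; so P^0_{X/S}(F) is identified with F, and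
P^0_{X/S} with O_X, through d^0. -/
theorem result {X S : Scheme.{u}} (f : X ⟶ S) (F : X.Modules) (U : X.Opens) :
    Function.Bijective (PrinPart.dP f 0 F U) := by
  haveI := isIso_toNbhd_zero f
  have h1 : PrinPart.pr1 f 0 = inv (PrinPart.toNbhd f 0) := by
    rw [← cancel_epi (PrinPart.toNbhd f 0), PrinPart.toNbhd_pr1, IsIso.hom_inv_id]
  have h2 : PrinPart.pr2 f 0 = inv (PrinPart.toNbhd f 0) := by
    rw [← cancel_epi (PrinPart.toNbhd f 0), PrinPart.toNbhd_pr2, IsIso.hom_inv_id]
  haveI : IsIso (PrinPart.pr2 f 0) := by rw [h2]; infer_instance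
  have hb := pullSect_bijective (PrinPart.pr2 f 0) F U
  have hc := map_bijective_of_eq ((Scheme.Modules.pullback (PrinPart.pr2 f 0)).obj F)
    (PrinPart.preimage_pr1 f 0 U)
  exact hc.comp hb

end Groth.Agent.S5979
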