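import Groth.Statements.S12794
import Groth.Agent.H32.Split

set_option autoImplicit false
open CategoryTheory
universe w v u
open Stk

namespace Groth.Agent.S12794

open FibCat Groth.Agent.H32.FibProd Groth.Agent.H32.Yoneda2

theorem isHomLift_comp_id_left {C : Type*} [Category C] {𝒳 : Type*} [Category 𝒳] (p : 𝒳 ⥤ C)
    {R S : C} (f : R ⟶ S) {a b c : 𝒳} (φ : a ⟶ b) (ψ : b ⟶ c) (h1 : p.IsHomLift (𝟙 R) φ)
    (h2 : p.IsHomLift f ψ) : p.IsHomLift f (φ ≫ ψ) := inferInstance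

theorem isHomLift_comp_id_right {C : Type*} [Category C] {𝒳 : Type*} [Category 𝒳] (p : 𝒳 ⥤ C)
    {R S : C} (f : R ⟶ S) {a b c : 𝒳} (φ : a ⟶ b) (ψ : b ⟶ c) (h1 : p.IsHomLift f φ)
    (h2 : p.IsHomLift (𝟙 S) ψ) : p.IsHomLift f (φ ≫ ψ) := inferInstance

theorem isHomLift_comp' {C : Type*} [Category C] {𝒳 : Type*} [Category 𝒳] (p : 𝒳 ⥤ C)
    {R S T : C} (f : R ⟶ S) (g : S ⟶ T) {a b c : 𝒳} (φ : a ⟶ b) (ψ : b ⟶ c)
    (h1 : p.IsHomLift f φ) (h2 : p.IsHomLift g ψ) : p.IsHomLift (f ≫ g) (φ ≫ ψ) := inferInstance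

theorem aux_nat {D : Type*} [Category D] {A B Ya Yb y : D} (Fk : A ⟶ B) (μb : B ⟶ Yb)
    (sb : Yb ⟶ y) (mb : B ⟶ y) (μa : A ⟶ Ya) (Yk : Ya ⟶ Yb) (sa : Ya ⟶ y) (ma : A ⟶ y)
    (h1 : μb ≫ sb = mb) (h2 : μa ≫ sa = ma) (h3 : Yk ≫ sb = sa) (h4 : Fk ≫ mb = ma) :
    (Fk ≫ μb) ≫ sb = (μa ≫ Yk) ≫ sb := by
  rw [Category.assoc, h1, h4, Category.assoc, h3, h2]

theorem aux_map {D E : Type*} [Category D] [Category E] (G : D ⥤ E) {A B B' Z : D} (f : A ⟶ B)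
    (g : B ⟶ Z) (f' : A ⟶ B') (g' : B' ⟶ Z) (n : f ≫ g = f' ≫ g') :
    G.map f ≫ G.map g = G.map f' ≫ G.map g' := by
  rw [← G.map_comp, ← G.map_comp, n]

theorem aux_map2 {D E : Type*} [Category D] [Category E] (G : D ⥤ E) {A B Z : D} (f : A ⟶ B)
    (g : B ⟶ Z) (h : A ⟶ Z) (n : f ≫ g = h) : G.map f ≫ G.map g = G.map h := by
  rw [← G.map_comp, n]

theorem aux_m {D : Type*} [Category D] {A B Xa Xb y : D} (Fk : A ⟶ B) (Feb : B ⟶ Xb)
    (Fea : A ⟶ Xa) (FKk χk : Xa ⟶ Xb) (φb : Xb ⟶ y) (φa : Xa ⟶ y)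
    (n : Fk ≫ Feb = Fea ≫ FKk) (hpre : FKk = χk) (h2 : χk ≫ φb = φa) :
    Fk ≫ (Feb ≫ φb) = Fea ≫ φa := by
  subst hpre
  rw [← Category.assoc, n, Category.assoc, h2]

section glue

variable {C : Type u} [Category.{v} C] {𝒳 𝒴 : BasedCategory.{v, max u v} C}
  (h𝒴 : FibCat.IsFibGrpd 𝒴.p) (F : 𝒳 ⥤ᵇ 𝒴)
  (y : 𝒴.obj) (R : Sieve (𝒴.p.obj y))
  (x : (Stk.sieveCat R).obj → 𝒳.obj) (φ : ∀ a, F.obj (x a) ⟶ y)
  (hφ : ∀ a : (Stk.sieveCat R).obj, 𝒴.p.IsHomLift a.obj.hom (φ a))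

theorem hk {a b : (Stk.sieveCat R).obj} (k : a ⟶ b) :
    a.obj.hom = k.hom.left ≫ b.obj.hom := (Over.w k.hom).symm

include hφ in
theorem dom_eq (a : (Stk.sieveCat R).obj) : 𝒴.p.obj (F.obj (x a)) = a.obj.left :=
  haveI := hφ a
  IsHomLift.domain_eq 𝒴.p a.obj.hom (φ a)

include h𝒴 hφ

theorem φ_sc (a : (Stk.sieveCat R).obj) : 𝒴.p.IsStronglyCartesian a.obj.hom (φ a) :=
  haveI := hφ a
  sc_of_isFibGrpd 𝒴.p h𝒴 a.obj.hom (φ a)

/-- the transition morphisms. -/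
noncomputable def χ {a b : (Stk.sieveCat R).obj} (k : a ⟶ b) : F.obj (x a) ⟶ F.obj (x b) :=
  haveI := φ_sc h𝒴 F y R x φ hφ b
  haveI := hφ a
  Functor.IsStronglyCartesian.map 𝒴.p b.obj.hom (φ b) (hk y R k) (φ a)

local notation "χ'" => χ h𝒴 F y R x φ hφ

theorem χ_fac {a b : (Stk.sieveCat R).obj} (k : a ⟶ b) : χ' k ≫ φ b = φ a :=
  haveI := φ_sc h𝒴 F y R x φ hφ b
  haveI := hφ a
  Functor.IsStronglyCartesian.fac 𝒴.p b.obj.hom (φ b) (hk y R k) (φ a)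

theorem χ_isHomLift {a b : (Stk.sieveCat R).obj} (k : a ⟶ b) :
    𝒴.p.IsHomLift k.hom.left (χ' k) :=
  haveI := φ_sc h𝒴 F y R x φ hφ b
  haveI := hφ a
  Functor.IsStronglyCartesian.map_isHomLift 𝒴.p b.obj.hom (φ b) (hk y R k) (φ a)

theorem χ_ext {a b : (Stk.sieveCat R).obj} (g : a.obj.left ⟶ b.obj.left)
    (ψ ψ' : F.obj (x a) ⟶ F.obj (x b)) (h1 : 𝒴.p.IsHomLift g ψ) (h1' : 𝒴.p.IsHomLift g ψ')
    (h2 : ψ ≫ φ b = ψ' ≫ φ b) : ψ = ψ' :=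
  haveI := φ_sc h𝒴 F y R x φ hφ b
  Functor.IsStronglyCartesian.ext 𝒴.p b.obj.hom (φ b) g h2

variable [F.toFunctor.Full] [F.toFunctor.Faithful]

/-- the descent datum as a functor. -/
noncomputable def Kfun : (Stk.sieveCat R).obj ⥤ 𝒳.obj where
  obj a := x a
  map k := F.toFunctor.preimage (χ' k)
  map_id a := by
    apply F.toFunctor.map_injective
    rw [Functor.map_preimage, CategoryTheory.Functor.map_id]
    have h1 : 𝒴.p.IsHomLift (𝟙 a.obj.left) (χ' (𝟙 a)) := χ_isHomLift h𝒴 F y R x φ hφ (𝟙 a)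
    have h2 : 𝒴.p.IsHomLift (𝟙 a.obj.left) (𝟙 (F.toFunctor.obj (x a))) :=
      IsHomLift.id (dom_eq F y R x φ hφ a)
    exact χ_ext h𝒴 F y R x φ hφ (𝟙 a.obj.left) _ _ h1 h2
      (by rw [χ_fac, Category.id_comp])
  map_comp {a b c} k l := by
    apply F.toFunctor.map_injective
    rw [Functor.map_preimage, CategoryTheory.Functor.map_comp, Functor.map_preimage, Functor.map_preimage]
    have h1 : 𝒴.p.IsHomLift (k.hom.left ≫ l.hom.left) (χ' (k ≫ l)) :=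
      χ_isHomLift h𝒴 F y R x φ hφ (k ≫ l)
    have h2 : 𝒴.p.IsHomLift (k.hom.left ≫ l.hom.left) (χ' k ≫ χ' l) :=
      isHomLift_comp' 𝒴.p _ _ _ _ (χ_isHomLift h𝒴 F y R x φ hφ k)
        (χ_isHomLift h𝒴 F y R x φ hφ l)
    exact χ_ext h𝒴 F y R x φ hφ (k.hom.left ≫ l.hom.left) _ _ h1 h2
      (by rw [χ_fac, Category.assoc, χ_fac, χ_fac])

theorem Kfun_map_isHomLift {a b : (Stk.sieveCat R).obj} (k : a ⟶ b) :
    𝒳.p.IsHomLift k.hom.left ((Kfun h𝒴 F y R x φ hφ).map k) := by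
  rw [← BasedFunctor.isHomLift_iff F]
  have : F.map ((Kfun h𝒴 F y R x φ hφ).map k) = χ' k := F.toFunctor.map_preimage _
  rw [this]
  exact χ_isHomLift h𝒴 F y R x φ hφ k

/-- the descent datum as a functor over `C`. -/
noncomputable def Kb : Stk.sieveCat R ⥤ᵇ 𝒳 where
  toFunctor := Kfun h𝒴 F y R x φ hφ
  w := CategoryTheory.Functor.ext (fun a => (F.w_obj (x a)).symm.trans (dom_eq F y R x φ hφ a))
    (fun a b k => by
      haveI := Kfun_map_isHomLift h𝒴 F y R x φ hφ k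
      exact IsHomLift.fac' 𝒳.p k.hom.left ((Kfun h𝒴 F y R x φ hφ).map k))

theorem exists_iso (hX : (Stk.resSieve R 𝒳).EssSurj) (hY : (Stk.resSieve R 𝒴).Full) :
    ∃ (ξ : 𝒳.obj) (e : F.toFunctor.obj ξ ≅ y), 𝒴.p.IsHomLift (𝟙 (𝒴.p.obj y)) e.hom := by
  obtain ⟨H, ⟨e⟩⟩ := hX.mem_essImage (Kb h𝒴 F y R x φ hφ)
  haveI : 𝒴.p.IsFibered := Groth.Agent.H32.Split.isFibered_of_isFibGrpd 𝒴 h𝒴
  obtain ⟨Yy, -, t, -, ht⟩ :=
    exists_based_functor (Groth.Agent.H32.Split.hT (𝒴.p.obj y)) y rfl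
  let τ : ∀ a : (Stk.sieveCat R).obj, a.obj ⟶ Groth.Agent.H32.Split.T (𝒴.p.obj y) := fun a =>
    Over.homMk a.obj.hom (by simp)
  have hτk : ∀ {a b : (Stk.sieveCat R).obj} (k : a ⟶ b), k.hom ≫ τ b = τ a := by
    intro a b k
    apply Over.OverMorphism.ext
    exact Over.w k.hom
  let s : ∀ a : (Stk.sieveCat R).obj, Yy.obj a.obj ⟶ y := fun a => Yy.map (τ a) ≫ t
  have hτl : ∀ a : (Stk.sieveCat R).obj,
      (FibCat.overCat (𝒴.p.obj y)).p.IsHomLift a.obj.hom (τ a) := fun a =>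
    IsHomLift.map (FibCat.overCat (𝒴.p.obj y)).p (τ a)
  have hs : ∀ a : (Stk.sieveCat R).obj, 𝒴.p.IsHomLift a.obj.hom (s a) := fun a =>
    isHomLift_comp_id_right 𝒴.p a.obj.hom (Yy.map (τ a)) t
      ((BasedFunctor.isHomLift_iff Yy a.obj.hom (τ a)).mpr (hτl a)) ht
  have ssc : ∀ a : (Stk.sieveCat R).obj, 𝒴.p.IsStronglyCartesian a.obj.hom (s a) := fun a =>
    haveI := hs a
    sc_of_isFibGrpd 𝒴.p h𝒴 a.obj.hom (s a)
  let m : ∀ a : (Stk.sieveCat R).obj, F.obj (H.obj a.obj) ⟶ y := fun a =>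
    F.map (e.hom.toNatTrans.app a) ≫ φ a
  have hm : ∀ a : (Stk.sieveCat R).obj, 𝒴.p.IsHomLift a.obj.hom (m a) := fun a =>
    isHomLift_comp_id_left 𝒴.p a.obj.hom (F.map (e.hom.toNatTrans.app a)) (φ a)
      ((BasedFunctor.isHomLift_iff F (𝟙 a.obj.left) (e.hom.toNatTrans.app a)).mpr
        (e.hom.isHomLift' a)) (hφ a)
  have hid : ∀ a : (Stk.sieveCat R).obj, a.obj.hom = 𝟙 a.obj.left ≫ a.obj.hom := fun a =>
    (Category.id_comp _).symm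
  let μ : ∀ a : (Stk.sieveCat R).obj, F.obj (H.obj a.obj) ⟶ Yy.obj a.obj := fun a =>
    haveI := ssc a
    haveI := hm a
    Functor.IsStronglyCartesian.map 𝒴.p a.obj.hom (s a) (hid a) (m a)
  have μ_fac : ∀ a, μ a ≫ s a = m a := fun a =>
    haveI := ssc a
    haveI := hm a
    Functor.IsStronglyCartesian.fac 𝒴.p a.obj.hom (s a) (hid a) (m a)
  have μ_lift : ∀ a : (Stk.sieveCat R).obj, 𝒴.p.IsHomLift (𝟙 a.obj.left) (μ a) := fun a =>
    haveI := ssc a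
    haveI := hm a
    Functor.IsStronglyCartesian.map_isHomLift 𝒴.p a.obj.hom (s a) (hid a) (m a)
  have nat : ∀ {a b : (Stk.sieveCat R).obj} (k : a ⟶ b),
      F.toFunctor.map (H.toFunctor.map k.hom) ≫ μ b = μ a ≫ Yy.toFunctor.map k.hom := by
    intro a b k
    have hkl : (FibCat.overCat (𝒴.p.obj y)).p.IsHomLift k.hom.left k.hom :=
      IsHomLift.map (FibCat.overCat (𝒴.p.obj y)).p k.hom
    have l1 : 𝒴.p.IsHomLift k.hom.left (F.toFunctor.map (H.toFunctor.map k.hom) ≫ μ b) :=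
      isHomLift_comp_id_right 𝒴.p k.hom.left _ _
        ((BasedFunctor.isHomLift_iff F _ _).mpr ((BasedFunctor.isHomLift_iff H _ _).mpr hkl))
        (μ_lift b)
    have l2 : 𝒴.p.IsHomLift k.hom.left (μ a ≫ Yy.toFunctor.map k.hom) :=
      isHomLift_comp_id_left 𝒴.p k.hom.left _ _ (μ_lift a)
        ((BasedFunctor.isHomLift_iff Yy _ _).mpr hkl)
    haveI := ssc b
    refine Functor.IsStronglyCartesian.ext 𝒴.p b.obj.hom (s b) k.hom.left ?_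
    have h3 : Yy.toFunctor.map k.hom ≫ s b = s a := by
      have e1 : Yy.toFunctor.map k.hom ≫ Yy.toFunctor.map (τ b) = Yy.toFunctor.map (τ a) :=
        aux_map2 Yy.toFunctor _ _ _ (hτk k)
      change Yy.toFunctor.map k.hom ≫ Yy.toFunctor.map (τ b) ≫ t = Yy.toFunctor.map (τ a) ≫ t
      rw [← Category.assoc, e1]
    have n := e.hom.toNatTrans.naturality k
    have hpre : F.toFunctor.map ((Kfun h𝒴 F y R x φ hφ).map k) = χ' k :=
      F.toFunctor.map_preimage _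
    have h4 : F.toFunctor.map (H.toFunctor.map k.hom) ≫ m b = m a :=
      aux_m _ _ _ _ _ _ _ (aux_map F.toFunctor _ _ _ _ n) hpre (χ_fac h𝒴 F y R x φ hφ k)
    exact aux_nat _ _ _ _ _ _ _ _ (μ_fac b) (μ_fac a) h3 h4
  let μ' : (Stk.resSieve R 𝒴).obj (BasedFunctor.comp H F) ⟶ (Stk.resSieve R 𝒴).obj Yy :=
    { app := fun a => μ a
      naturality := fun a b k => nat k
      isHomLift' := fun a => μ_lift a }
  obtain ⟨ν, -⟩ := hY.map_surjective μ'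
  let g : F.obj (H.obj (Groth.Agent.H32.Split.T (𝒴.p.obj y))) ⟶ y :=
    ν.toNatTrans.app (Groth.Agent.H32.Split.T (𝒴.p.obj y)) ≫ t
  have hg : 𝒴.p.IsHomLift (𝟙 (𝒴.p.obj y)) g :=
    isHomLift_comp_id_left 𝒴.p (𝟙 (𝒴.p.obj y)) _ _
      (ν.isHomLift' (Groth.Agent.H32.Split.T (𝒴.p.obj y))) ht
  have hgi : IsIso g := isIso_of_isFibGrpd 𝒴.p h𝒴 (𝟙 (𝒴.p.obj y)) g
  exact ⟨H.obj (Groth.Agent.H32.Split.T (𝒴.p.obj y)), asIso g, hg⟩

end glue


/-- Let `𝒳`, `𝒴` be stacks in groupoids over `C` for the topology `J` and `F : 𝒳 ⟶ 𝒴` a functor over `C`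
whose underlying functor is fully faithful. Then `F` is an equivalence over `C` if and only if every
object `y` of `𝒴` is locally in the essential image: there is a covering sieve `R` of the object
under `y` such that for every arrow `f` of `R` some object `x` of `𝒳` has a morphism `F x ⟶ y` lying
over `f` (equivalently, the pullback of `y` along `f` is isomorphic in its fibre to an object in the
image of `F`). (The published statement is for stacks over the site, not necessarily in groupoids,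
and 1-morphisms of stacks; this row treats stacks in groupoids.) -/
theorem result {C : Type u} [Category.{v} C] (J : GrothendieckTopology C) {𝒳 𝒴 : BasedCategory.{v, max u v} C}
    (h𝒳 : Stk.IsStack J 𝒳) (h𝒴 : Stk.IsStack J 𝒴) (F : 𝒳 ⥤ᵇ 𝒴) [F.toFunctor.Full] [F.toFunctor.Faithful] :
    FibCat.IsEquivOver F ↔
      ∀ y : 𝒴.obj, ∃ R ∈ J (𝒴.p.obj y), ∀ ⦃V : C⦄ (f : V ⟶ 𝒴.p.obj y), R f →
        ∃ (x : 𝒳.obj) (φ : F.obj x ⟶ y), 𝒴.p.IsHomLift f φ := by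
  rw [Groth.Agent.S5139.result]
  constructor
  · rintro ⟨-, hess⟩ y
    refine ⟨⊤, J.top_mem _, fun V f _ => ?_⟩
    obtain ⟨ξ, e, he⟩ := hess y
    have hξ : 𝒳.p.obj ξ = 𝒴.p.obj y :=
      (F.w_obj ξ).symm.trans (IsHomLift.domain_eq 𝒴.p (𝟙 (𝒴.p.obj y)) e.hom)
    obtain ⟨x', ψ, hψ⟩ := Groth.Agent.H32.FibProd.exists_lift_of_eq 𝒳.p h𝒳.1 hξ f
    have h1 : 𝒴.p.IsHomLift f (F.map ψ) := inferInstance
    exact ⟨x', F.map ψ ≫ e.hom, isHomLift_comp_id_right 𝒴.p f _ _ h1 he⟩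
  · intro h
    refine ⟨⟨inferInstance, inferInstance⟩, fun y => ?_⟩
    obtain ⟨R, hR, hloc⟩ := h y
    have hloc' : ∀ a : (Stk.sieveCat R).obj, ∃ (x : 𝒳.obj) (φ : F.obj x ⟶ y),
        𝒴.p.IsHomLift a.obj.hom φ := fun a => hloc a.obj.hom a.property
    choose x φ hφ using hloc'
    exact exists_iso h𝒴.1 F y R x φ hφ (h𝒳.2 R hR).essSurj (h𝒴.2 R hR).full

end Groth.Agent.S12794
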