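import Groth.Statements.S12983
import Groth.Agent.H65.QCMor

set_option autoImplicit false
universe u
open CategoryTheory AlgebraicGeometry
open AlgSt

namespace Groth.Agent.S12983


/-- The composition of two quasi-compact morphisms of algebraic stacks is quasi-compact. -/
theorem result
    (S : Scheme.{u}) (𝒳 : AlgSt.Cat S) (𝒴 : AlgSt.Cat S) (𝒵 : AlgSt.Cat S)
    (h𝒳 : AlgSt.IsAlgStack Scheme.fppfPrecoverage 𝒳)
    (h𝒴 : AlgSt.IsAlgStack Scheme.fppfPrecoverage 𝒴)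
    (h𝒵 : AlgSt.IsAlgStack Scheme.fppfPrecoverage 𝒵)
    (f : 𝒳 ⥤ᵇ 𝒴) (g : 𝒴 ⥤ᵇ 𝒵) :
    AlgSt.IsQuasiCompactMor Scheme.fppfPrecoverage f → AlgSt.IsQuasiCompactMor Scheme.fppfPrecoverage g → AlgSt.IsQuasiCompactMor Scheme.fppfPrecoverage (BasedFunctor.comp f g) := by
  intro hf hg 𝒲 h𝒲 hq z
  have h1 : AlgSt.IsAlgStack Scheme.fppfPrecoverage (FibCat.fp z g) :=
    Groth.Agent.H32.AlgStackFp.isAlgStack_fp h𝒵.isStack.1 h𝒵.diag h𝒲 h𝒴 z g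
  have q1 : AlgSt.IsQuasiCompact (FibCat.fp z g) := hg 𝒲 h𝒲 hq z
  have q2 : AlgSt.IsQuasiCompact (FibCat.fp (FibCat.fpSnd z g) f) :=
    hf (FibCat.fp z g) h1 q1 (FibCat.fpSnd z g)
  have g1 : FibCat.IsFibGrpd (FibCat.fp z g).p :=
    Groth.Agent.H32.Repr.fp_isFibGrpd z g h𝒲.isStack.1 h𝒴.isStack.1 h𝒵.isStack.1
  exact Groth.Agent.H65.QC.isQuasiCompact_of_equiv
    (Groth.Agent.H32.Repr.fp_isFibGrpd _ _ g1 h𝒳.isStack.1 h𝒴.isStack.1)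
    (Groth.Agent.H32.Repr.fp_isFibGrpd _ _ h𝒲.isStack.1 h𝒳.isStack.1 h𝒵.isStack.1)
    (Groth.Agent.H32.Fp4.assoc z g f) (Groth.Agent.H32.Fp4.assoc_isEquivOver z g f) q2

end Groth.Agent.S12983
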