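import Groth.Statements.S10557
import Groth.Agent.H51.LocSurj

set_option autoImplicit false
universe u
open CategoryTheory CategoryTheory.Limits AlgebraicGeometry
open AlgSp

namespace Groth.Agent.S10557

/-- Let g : X ⟶ Y and h : Y ⟶ Z be morphisms of algebraic spaces over S with g a surjection of fppf
sheaves (locally surjective for the fppf topology). For P one of flat, locally of finite type,
locally of finite presentation (checked on etale charts): if the composite X ⟶ Z has P then h has P. -/
theorem result {S : Scheme.{u}} {X Y Z : AlgSp.Space S} (g : X ⟶ Y) (h : Y ⟶ Z)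
    (hg : Sheaf.IsLocallySurjective g.hom) :
    (AlgSp.LocP @Flat (g ≫ h).hom → AlgSp.LocP @Flat h.hom) ∧
    (AlgSp.LocP @LocallyOfFiniteType (g ≫ h).hom → AlgSp.LocP @LocallyOfFiniteType h.hom) ∧
    (AlgSp.LocP @LocallyOfFinitePresentation (g ≫ h).hom →
      AlgSp.LocP @LocallyOfFinitePresentation h.hom) := by
  refine ⟨fun hP => ?_, fun hP => ?_, fun hP => ?_⟩
  · exact Groth.Agent.H51.locP_of_comp_of_locallySurjective @Flat
      (fun s f' k he _ hs H => Groth.Agent.H51.flat_of_comp_of_local_sections s f' k he hs H)
      X.property Y.property g.hom hg h.hom hP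
  · exact Groth.Agent.H51.locP_of_comp_of_locallySurjective @LocallyOfFiniteType
      (fun s f' k he he' hs H =>
        Groth.Agent.H49.FppfSource.lft_of_comp_of_fppf_family (fun i => s i ≫ f') k he he' hs
          (fun i => Groth.Agent.H51.lft_of_comp_of_local_sections s f' k
            (fun j => by have := he' j; infer_instance) H i))
      X.property Y.property g.hom hg h.hom hP
  · exact Groth.Agent.H51.locP_of_comp_of_locallySurjective @LocallyOfFinitePresentation
      (fun s f' k he he' hs H =>
        Groth.Agent.H49.FppfSource.lfp_of_comp_of_fppf_family (fun i => s i ≫ f') k he he' hs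
          (fun i => Groth.Agent.H51.lfp_of_comp_of_local_sections s f' k he' H i))
      X.property Y.property g.hom hg h.hom hP

end Groth.Agent.S10557
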