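import Groth.Statements.S12991
import Groth.Agent.H65.SpMaps

set_option autoImplicit false
universe u
open CategoryTheory AlgebraicGeometry
open AlgSt

namespace Groth.Agent.S12991


/-- Let P be smooth local on the source-and-target and f : 𝒳 → 𝒴 a morphism of algebraic stacks. Then f
has P read on one square of smooth scheme charts (x surjective) if and only if there is a
2-commutative square with algebraic spaces U, V, a smooth surjective U → 𝒳, a smooth V → 𝒴 and U → V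
having P. -/
theorem result
    (S : Scheme.{u}) (P : MorphismProperty (AlgSp.Sp S)) (hP : AlgSp.IsSmoothLocalST P)
    (𝒳 : AlgSt.Cat S) (𝒴 : AlgSt.Cat S)
    (h𝒳 : AlgSt.IsAlgStack Scheme.fppfPrecoverage 𝒳)
    (h𝒴 : AlgSt.IsAlgStack Scheme.fppfPrecoverage 𝒴)
    (f : 𝒳 ⥤ᵇ 𝒴) :
    AlgSt.LocQ P f ↔
      ∃ (U V : AlgSp.Space S) (x : AlgSt.ofSp U.obj ⥤ᵇ 𝒳) (y : AlgSt.ofSp V.obj ⥤ᵇ 𝒴) (h : U ⟶ V)
        (_ : BasedFunctor.comp x f ≅ BasedFunctor.comp (AlgSt.ofSpMap h.hom) y),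
        AlgSt.RepByAlgSpWith (AlgSp.LocP @Smooth) x ∧ AlgSt.RepByAlgSpWith AlgSp.IsSurjectiveMor x ∧
        AlgSt.RepByAlgSpWith (AlgSp.LocP @Smooth) y ∧ P h.hom := by
  have i1 := Groth.Agent.H32.AtlasRep.locP_respectsIso (S := S) @Smooth
  have i2 := Groth.Agent.H32.AtlasRep.isSurjectiveMor_respectsIso (S := S)
  have iX := h𝒳.isStack.1
  have iY := h𝒴.isStack.1
  constructor
  · rintro ⟨U, V, x, y, h, α, hx1, hx2, hy, hh⟩
    have hU := Groth.Agent.S6411.over_isFibGrpd U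
    have hV := Groth.Agent.S6411.over_isFibGrpd V
    have hU' : FibCat.IsFibGrpd (AlgSt.ofSp ((AlgSp.yon S).obj U)).p :=
      Groth.Agent.H32.StackOps.ofSp_isFibGrpd _
    have hV' : FibCat.IsFibGrpd (AlgSt.ofSp ((AlgSp.yon S).obj V)).p :=
      Groth.Agent.H32.StackOps.ofSp_isFibGrpd _
    refine ⟨⟨(AlgSp.yon S).obj U, AlgSp.IsAlgSpace.yon_obj U⟩,
      ⟨(AlgSp.yon S).obj V, AlgSp.IsAlgSpace.yon_obj V⟩,
      BasedFunctor.comp (AlgSt.toOverCat U) x, BasedFunctor.comp (AlgSt.toOverCat V) y,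
      ObjectProperty.homMk ((AlgSp.yon S).map h),
      Groth.Agent.H32.Fp4.whiskerLeftIso (AlgSt.toOverCat U) α, ?_, ?_, ?_, hh⟩
    · exact Groth.Agent.H32.StackOps.with_precomp_equiv _ hU' hU iX (AlgSt.toOverCat U)
        (Groth.Agent.H32.SpBridge.toOverCat_isEquivOver U) x hx1
    · exact Groth.Agent.H32.StackOps.with_precomp_equiv _ hU' hU iX (AlgSt.toOverCat U)
        (Groth.Agent.H32.SpBridge.toOverCat_isEquivOver U) x hx2
    · exact Groth.Agent.H32.StackOps.with_precomp_equiv _ hV' hV iY (AlgSt.toOverCat V)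
        (Groth.Agent.H32.SpBridge.toOverCat_isEquivOver V) y hy
  · rintro ⟨U, V, x, y, h, α, hx1, hx2, hy, hh⟩
    obtain ⟨V₁, q, hq1, hq2⟩ := V.property.atlas
    have hF' : AlgSp.IsAlgSpace (Limits.pullback h.hom q) :=
      Groth.Agent.H50.isAlgSpace_pullback h.hom q U.property (AlgSp.IsAlgSpace.yon_obj V₁)
        V.property.diag
    have sq : IsPullback (Limits.pullback.fst h.hom q) (Limits.pullback.snd h.hom q) h.hom q :=
      IsPullback.of_hasPullback _ _
    have hsnd : P (Limits.pullback.snd h.hom q) :=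
      hP.baseChange U.property V.property hF' (AlgSp.IsAlgSpace.yon_obj V₁) h.hom q
        (Limits.pullback.snd _ _) (Limits.pullback.fst _ _) sq
        (Groth.Agent.H32.AtlasRep.locP_smooth_of_repWith_etale q hq1) hh
    obtain ⟨U₁, p, hp1, hp2⟩ := hF'.atlas
    obtain ⟨h₁, hh₁⟩ : ∃ h₁ : U₁ ⟶ V₁, (AlgSp.yon S).map h₁ = p ≫ Limits.pullback.snd h.hom q :=
      ⟨(AlgSp.yon S).preimage (p ≫ Limits.pullback.snd h.hom q), Functor.map_preimage _ _⟩
    have hPh : P ((AlgSp.yon S).map h₁) := by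
      rw [hh₁]
      exact hP.precomp (AlgSp.IsAlgSpace.yon_obj U₁) hF' (AlgSp.IsAlgSpace.yon_obj V₁) p _
        (Groth.Agent.H32.AtlasRep.locP_smooth_of_repWith_etale p hp1) hsnd
    have hfst1 : AlgSp.RepWith @Etale (Limits.pullback.fst h.hom q) :=
      Groth.Agent.H50.repWith_fst_of_isPullback sq hq1
    have hfst2 : AlgSp.RepWith @Surjective (Limits.pullback.fst h.hom q) :=
      Groth.Agent.H50.repWith_fst_of_isPullback sq hq2
    have hξ1 : AlgSp.RepWith @Etale (p ≫ Limits.pullback.fst h.hom q) :=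
      (AlgSp.repWith_isMultiplicative (S := S) @Etale).comp_mem _ _ hp1 hfst1
    have hξ2 : AlgSp.RepWith @Surjective (p ≫ Limits.pullback.fst h.hom q) :=
      (AlgSp.repWith_isMultiplicative (S := S) @Surjective).comp_mem _ _ hp2 hfst2
    have w : (p ≫ Limits.pullback.fst h.hom q) ≫ h.hom = (AlgSp.yon S).map h₁ ≫ q := by
      rw [hh₁, Category.assoc, Category.assoc, Limits.pullback.condition]
    obtain ⟨β⟩ := Groth.Agent.H65.SpMaps.iso_of_pointMap_sq h.hom
      (p ≫ Limits.pullback.fst h.hom q) q h₁ w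
    have c1 := Groth.Agent.H32.AtlasRep.repByAlgSpWith_ofPoint @Etale (AlgSp.LocP @Smooth)
      (fun F' U snd h => Groth.Agent.H32.AtlasRep.locP_smooth_of_repWith_etale snd h) _ hξ1
    have c2 := Groth.Agent.H32.AtlasRep.repByAlgSpWith_ofPoint @Surjective AlgSp.IsSurjectiveMor
      (fun F' U snd h => Groth.Agent.H32.AtlasRep.isSurjectiveMor_of_repWith_to_yon snd h) _ hξ2
    have c3 := Groth.Agent.H32.AtlasRep.repByAlgSpWith_ofPoint @Etale (AlgSp.LocP @Smooth)
      (fun F' U snd h => Groth.Agent.H32.AtlasRep.locP_smooth_of_repWith_etale snd h) _ hq1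
    have hU₁ := Groth.Agent.S6411.over_isFibGrpd U₁
    have hV₁ := Groth.Agent.S6411.over_isFibGrpd V₁
    have hU' : FibCat.IsFibGrpd (AlgSt.ofSp U.obj).p := Groth.Agent.H32.StackOps.ofSp_isFibGrpd _
    have hV' : FibCat.IsFibGrpd (AlgSt.ofSp V.obj).p := Groth.Agent.H32.StackOps.ofSp_isFibGrpd _
    refine ⟨U₁, V₁,
      BasedFunctor.comp (Groth.Agent.H32.SpBridge.ofPoint (p ≫ Limits.pullback.fst h.hom q).hom) x,
      BasedFunctor.comp (Groth.Agent.H32.SpBridge.ofPoint q.hom) y, h₁, ?_,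
      Groth.Agent.H32.StackOps.with_comp Groth.Agent.H32.PFacts.good_smooth hU₁ hU' iX _ _ c1 hx1,
      Groth.Agent.H32.StackOps.with_comp Groth.Agent.H32.PFacts.good_surjective hU₁ hU' iX _ _ c2 hx2,
      Groth.Agent.H32.StackOps.with_comp Groth.Agent.H32.PFacts.good_smooth hV₁ hV' iY _ _ c3 hy,
      hPh⟩
    exact (Groth.Agent.H32.Fp4.whiskerLeftIso
        (Groth.Agent.H32.SpBridge.ofPoint (p ≫ Limits.pullback.fst h.hom q).hom) α) ≪≫
      (Groth.Agent.H32.SpTrack.whiskerRightIso β y)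

end Groth.Agent.S12991
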