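import Groth.Statements.S13039
import Groth.Agent.H65.LocQBC

set_option autoImplicit false
universe u
open CategoryTheory AlgebraicGeometry
open AlgSt

namespace Groth.Agent.S13039

open CategoryTheory.Limits FibCat Stk Groth.Agent.H32.FibProd Groth.Agent.H32.Fp2
  Groth.Agent.H32.Fp3 Groth.Agent.H32.Fp4 Groth.Agent.H32.SpBridge Groth.Agent.H32.PFacts
  Groth.Agent.H32.AlgStackEquiv Groth.Agent.H32.AtlasRep Groth.Agent.H32.SpComp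
  Groth.Agent.H32.StackOps Groth.Agent.H32.SectSt Groth.Agent.H32.Repr Groth.Agent.H32.SpTrack
  Groth.Agent.H32.PshFp Groth.Agent.H32.Sect Groth.Agent.H32.DiagDescent
  Groth.Agent.H65.QC Groth.Agent.H65.SpMaps Groth.Agent.H65.LocQ


/-- Suppose P, a property of morphisms between algebraic spaces, is local on source and target for the
smooth topology and is preserved by base change of algebraic spaces. Then the induced property of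
morphisms of algebraic stacks, read on one square of smooth charts, is stable under base change: it
passes from f : 𝒳 → 𝒴 to the projection 𝒴' ×_𝒴 𝒳 → 𝒴'. -/
theorem result
    (S : Scheme.{u}) (P : MorphismProperty (AlgSp.Sp S)) (hP : AlgSp.IsSmoothLocalST P)
    (hPb : ∀ ⦃X₁ Y₁ X₂ Y₂ : AlgSp.Sp S⦄, AlgSp.IsAlgSpace X₁ → AlgSp.IsAlgSpace Y₁ → AlgSp.IsAlgSpace X₂ →
      AlgSp.IsAlgSpace Y₂ → ∀ (a : X₁ ⟶ Y₁) (b : Y₂ ⟶ Y₁) (a' : X₂ ⟶ Y₂) (b' : X₂ ⟶ X₁),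
      IsPullback b' a' a b → P a → P a')
    (𝒳 : AlgSt.Cat S) (𝒴 : AlgSt.Cat S) (𝒴' : AlgSt.Cat S)
    (h𝒳 : AlgSt.IsAlgStack Scheme.fppfPrecoverage 𝒳)
    (h𝒴 : AlgSt.IsAlgStack Scheme.fppfPrecoverage 𝒴)
    (h𝒴' : AlgSt.IsAlgStack Scheme.fppfPrecoverage 𝒴')
    (f : 𝒳 ⥤ᵇ 𝒴) (g : 𝒴' ⥤ᵇ 𝒴) :
    AlgSt.LocQ P f → AlgSt.LocQ P (FibCat.fpFst g f) := by
  intro hLoc
  have i𝒳 := h𝒳.isStack.1
  have i𝒴 := h𝒴.isStack.1
  have i𝒴' := h𝒴'.isStack.1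
  obtain ⟨V', y', hy'1, hy'2⟩ := h𝒴'.atlas
  have iV' := Groth.Agent.S6411.over_isFibGrpd V'
  obtain ⟨U₁, V₁, x₁, y₁, h₁, α₁, a1, a2, a3, a4⟩ :=
    Groth.Agent.H65.LocQBC.locQ_fpFst_scheme hP hPb h𝒳 h𝒴 f hLoc (BasedFunctor.comp y' g)
  have iU₁ := Groth.Agent.S6411.over_isFibGrpd U₁
  have iV₁ := Groth.Agent.S6411.over_isFibGrpd V₁
  have iA : IsFibGrpd (fp (BasedFunctor.comp y' g) f).p := fp_isFibGrpd _ _ iV' i𝒳 i𝒴
  have iB : IsFibGrpd (fp g f).p := fp_isFibGrpd _ _ i𝒴' i𝒳 i𝒴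
  refine ⟨U₁, V₁, BasedFunctor.comp x₁ (pasteMid y' g f), BasedFunctor.comp y₁ y', h₁,
    whiskerRightIso α₁ y', ?_, ?_, ?_, a4⟩
  · exact with_comp good_smooth iU₁ iA iB x₁ (pasteMid y' g f) a1
      (with_pasteMid _ iV' i𝒴' i𝒴 i𝒳 y' g f hy'1)
  · exact with_comp good_surjective iU₁ iA iB x₁ (pasteMid y' g f) a2
      (with_pasteMid _ iV' i𝒴' i𝒴 i𝒳 y' g f hy'2)
  · exact with_comp good_smooth iV₁ iV' i𝒴' y₁ y' a3 hy'1

end Groth.Agent.S13039
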