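import Groth.Statements.S10292
import Groth.Agent.H52.ValLift
import Groth.Agent.H52.FibProd
import Groth.Agent.H52.LocPBC
import Groth.Agent.H52.EtLocalInst
import Groth.Agent.H52.FQDecent
import Groth.Agent.H52.Topology
import Groth.Agent.H52.Points

set_option autoImplicit false
universe u
open CategoryTheory CategoryTheory.Limits AlgebraicGeometry
open AlgSp

namespace Groth.Agent.S10292

open Groth.Agent.H52

/-- Along a flat morphism of algebraic spaces, a morphism from the spectrum of a valuation ring to the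
target whose closed point is hit lifts to the source after an extension of valuation rings
(injective and local). -/
theorem result {S : Scheme.{u}} {X Y : AlgSp.Space S} (f : X ⟶ Y)
    (hf : AlgSp.LocP @Flat f.hom) (A : Type u) [CommRing A] [IsDomain A] [ValuationRing A]
    (str : Spec (.of A) ⟶ S) (b : (AlgSp.yon S).obj (Over.mk str) ⟶ Y.obj)
    (hb : AlgSp.Points.ofPt b (IsLocalRing.closedPoint A) ∈ Set.range (AlgSp.Points.map f.hom)) :
    ∃ (A' : Type u) (_ : CommRing A') (_ : IsDomain A') (_ : ValuationRing A') (φ : A →+* A'),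
      Function.Injective φ ∧ IsLocalHom φ ∧
      ∃ l : (AlgSp.yon S).obj (Over.mk (Spec.map (CommRingCat.ofHom φ) ≫ str)) ⟶ X.obj,
        l ≫ f.hom = (AlgSp.yon S).map (Over.homMk (Spec.map (CommRingCat.ofHom φ)) rfl :
          Over.mk (Spec.map (CommRingCat.ofHom φ) ≫ str) ⟶ Over.mk str) ≫ b := by
  classical
  let T : Over S := Over.mk str
  have hT : IsAlgSpace ((yon S).obj T) := IsAlgSpace.yon_obj T
  let P := pullback f.hom b
  have sq : IsPullback (pullback.fst f.hom b) (pullback.snd f.hom b) f.hom b :=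
    IsPullback.of_hasPullback _ _
  have hP : IsAlgSpace P := isAlgSpace_of_isPullback sq Y.property.diag X.property hT
  obtain ⟨x, hx⟩ := hb
  obtain ⟨z, hz1, hz2⟩ := exists_point_of_isPullback sq x
    (Points.ofScheme T (IsLocalRing.closedPoint A))
    (by rw [hx, Points.ofPt_eq_map_ofScheme])
  obtain ⟨W, a, w, -, hae, haw⟩ := exists_affine_chart_at hP z
  obtain ⟨g, hg⟩ := (yon S).map_surjective (a ≫ pullback.snd f.hom b)
  have hflat : LocP @Flat (pullback.snd f.hom b) :=
    locP_baseChange etLocal_flat X.property Y.property hT sq hf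
  have hgflat : Flat g.left :=
    hflat a (𝟙 _) g hae (repWith_id _ T) (by rw [hg, Category.comp_id])
  have hgw : g.left w = IsLocalRing.closedPoint A := by
    apply ofScheme_injective T
    have h1 := ofPt_yon_map_comp g (𝟙 ((yon S).obj T)) w
    rw [Category.comp_id] at h1
    change Points.ofPt (𝟙 _) (g.left w) = _
    rw [← h1, hg, ← Points.map_ofPt, haw, hz2]
  obtain ⟨A', i1, i2, i3, φ, hφ, hloc, l₀, hl₀⟩ :=
    exists_valuationRing_lift_of_flat (A := A) g.left w hgw
  refine ⟨A', i1, i2, i3, φ, hφ, hloc, ?_⟩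
  have hw : l₀ ≫ W.hom = Spec.map (CommRingCat.ofHom φ) ≫ str := by
    rw [← hl₀, Category.assoc]
    congr 1
    exact (Over.w g).symm
  let l₁ : Over.mk (Spec.map (CommRingCat.ofHom φ) ≫ str) ⟶ W := Over.homMk l₀ hw
  refine ⟨(yon S).map l₁ ≫ a ≫ pullback.fst f.hom b, ?_⟩
  rw [Category.assoc, Category.assoc, sq.w, ← Category.assoc a, ← hg, ← Category.assoc,
    ← (yon S).map_comp]
  congr 2
  ext
  exact hl₀

end Groth.Agent.S10292
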