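import Groth.Statements.S12838
-- import your own Groth.Agent.* helpers here

set_option autoImplicit false
universe u
open CategoryTheory AlgebraicGeometry
open AlgSt

namespace Groth.Agent.S12838

section aux
open CategoryTheory.Limits MonoidalCategory CartesianMonoidalCategory MonObj GrpObj

variable {S : Scheme.{u}} {G : Over S} [GrpObj G] {X : Over S} (aX : AlgGrp.Action G X)

/-- `(a b) · c = a · (b · c)` on points. -/
theorem act_mul {Y : Over S} (a b : Y ⟶ G) (c : Y ⟶ X) :
    lift (a * b) c ≫ aX.act = lift a (lift b c ≫ aX.act) ≫ aX.act := by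
  have h1 : lift (a * b) c = lift (lift a b) c ≫ (μ[G] ▷ X) := by
    rw [lift_whiskerRight, Hom.mul_def]
  have h3 : lift (lift a b) c ≫ (α_ G G X).hom = lift a (lift b c) := by
    apply CartesianMonoidalCategory.hom_ext
    · simp only [Category.assoc, associator_hom_fst, lift_fst, lift_fst_assoc]
    · apply CartesianMonoidalCategory.hom_ext
      · simp only [Category.assoc, associator_hom_snd_fst, lift_fst, lift_snd, lift_fst_assoc]
      · simp only [Category.assoc, associator_hom_snd_snd, lift_snd]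
  rw [h1, Category.assoc, aX.mul_act, reassoc_of% h3, lift_whiskerLeft_assoc]

/-- `1 · c = c` on points. -/
theorem act_one {Y : Over S} (c : Y ⟶ X) : lift (toUnit Y ≫ η[G]) c ≫ aX.act = c := by
  have h1 : lift (toUnit Y ≫ η[G]) c = lift (toUnit Y) c ≫ (η[G] ▷ X) := by
    rw [lift_whiskerRight]
  rw [h1, Category.assoc, aX.one_act, leftUnitor_hom, lift_snd]

/-- right multiplication by a point of `G` on the trivial torsor is an isomorphism. -/
theorem rho_isIso {T : Over S} (g : T ⟶ G) :
    IsIso (lift (fst G T * (snd G T ≫ g)) (snd G T)) := by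
  refine ⟨⟨lift (fst G T * (snd G T ≫ g)⁻¹) (snd G T), ?_, ?_⟩⟩
  · simp only [comp_lift, comp_mul, comp_inv, lift_fst, lift_snd, lift_snd_assoc,
      mul_inv_cancel_right, lift_fst_snd]
  · simp only [comp_lift, comp_mul, comp_inv, lift_fst, lift_snd, lift_snd_assoc,
      inv_mul_cancel_right, lift_fst_snd]

/-- every morphism between trivial torsors is right multiplication by the image of the unit
section. -/
theorem hom_char {A B : Over S} (xa : A ⟶ X) (xb : B ⟶ X) (fb : A ⟶ B) (tp : G ⊗ A ⟶ G ⊗ B)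
    (hsnd : tp ≫ snd G B = snd G A ≫ fb)
    (heq : (AlgSt.leftMul G A).act ≫ tp = (G ◁ tp) ≫ (AlgSt.leftMul G B).act)
    (hφ : tp ≫ (G ◁ xb) ≫ aX.act = (G ◁ xa) ≫ aX.act) :
    ∃ g : A ⟶ G, g = lift (toUnit A ≫ η[G]) (𝟙 A) ≫ tp ≫ fst G B ∧
      lift g (fb ≫ xb) ≫ aX.act = xa ∧
      tp = lift (fst G A * (snd G A ≫ g)) (snd G A ≫ fb) := by
  obtain ⟨v, hv⟩ : ∃ v : A ⟶ G ⊗ A, v = lift (toUnit A ≫ η[G]) (𝟙 A) := ⟨_, rfl⟩
  have hv1 : v ≫ fst G A = 1 := by rw [hv, lift_fst, ← Hom.one_def]
  have hv2 : v ≫ snd G A = 𝟙 _ := by rw [hv, lift_snd]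
  refine ⟨v ≫ tp ≫ fst G B, by rw [hv], ?_, ?_⟩
  · have h1 : v ≫ tp ≫ (G ◁ xb) ≫ aX.act = v ≫ (G ◁ xa) ≫ aX.act := by
      rw [hφ]
    have h2 : v ≫ (G ◁ xa) ≫ aX.act = xa := by
      rw [hv, lift_whiskerLeft_assoc, Category.id_comp]
      exact act_one aX _
    have h3 : v ≫ tp ≫ (G ◁ xb) = lift (v ≫ tp ≫ fst G B) (fb ≫ xb) := by
      apply CartesianMonoidalCategory.hom_ext
      · simp only [Category.assoc, whiskerLeft_fst, lift_fst]
      · simp only [Category.assoc, whiskerLeft_snd, lift_snd]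
        rw [reassoc_of% hsnd, reassoc_of% hv2]
    rw [← h3]
    simp only [Category.assoc]
    rw [h1, h2]
  · have hψ : lift (fst G A) (snd G A ≫ v) ≫ (AlgSt.leftMul G A).act = 𝟙 _ := by
      apply CartesianMonoidalCategory.hom_ext
      · simp only [AlgSt.leftMul, Category.assoc, lift_fst, lift_snd, comp_mul, lift_fst_assoc,
          lift_snd_assoc, Category.id_comp]
        rw [hv1, comp_one, _root_.mul_one]
      · simp only [AlgSt.leftMul, Category.assoc, lift_snd, lift_snd_assoc, Category.id_comp]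
        rw [hv2, Category.comp_id]
    have key : tp = lift (fst G A) (snd G A ≫ v) ≫ (G ◁ tp) ≫ (AlgSt.leftMul G B).act := by
      rw [← heq, ← Category.assoc, hψ, Category.id_comp]
    apply CartesianMonoidalCategory.hom_ext
    · rw [lift_fst]
      conv_lhs => rw [key]
      simp only [AlgSt.leftMul, Category.assoc, lift_fst, lift_snd, comp_mul, lift_fst_assoc,
        lift_snd_assoc, whiskerLeft_fst, whiskerLeft_snd, whiskerLeft_fst_assoc,
        whiskerLeft_snd_assoc, lift_whiskerLeft_assoc]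
    · rw [lift_snd]
      exact hsnd

/-- right multiplication by a point `g` with `g · (x' ∘ f) = x` is a morphism of trivial
torsors over `f`. -/
theorem exists_hom_of_g {a b : (AlgSt.ofSch X).obj} (f : a.base ⟶ b.base) (g : a.base ⟶ G)
    (hg : lift g (f ≫ b.sec.down) ≫ aX.act = a.sec.down) :
    ∃ h : (AlgSt.quotMap Scheme.fppfPrecoverage G aX).obj a ⟶
        (AlgSt.quotMap Scheme.fppfPrecoverage G aX).obj b,
      h.base = f ∧ h.top = lift (fst G a.base * (snd G a.base ≫ g)) (snd G a.base ≫ f) := by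
  have e1 : (AlgSt.leftMul G a.base).act ≫
      lift (fst G a.base * (snd G a.base ≫ g)) (snd G a.base ≫ f) =
      (G ◁ lift (fst G a.base * (snd G a.base ≫ g)) (snd G a.base ≫ f)) ≫
        (AlgSt.leftMul G b.base).act := by
    apply CartesianMonoidalCategory.hom_ext
    · simp only [AlgSt.leftMul, Category.assoc, lift_fst, lift_snd, comp_lift, comp_mul,
        lift_fst_assoc, lift_snd_assoc, whiskerLeft_fst, whiskerLeft_snd, whiskerLeft_fst_assoc,
        whiskerLeft_snd_assoc]
      rw [_root_.mul_assoc]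
    · simp only [AlgSt.leftMul, Category.assoc, lift_fst, lift_snd, comp_lift, lift_snd_assoc,
        whiskerLeft_snd, whiskerLeft_snd_assoc]
  have e2 : IsPullback (lift (fst G a.base * (snd G a.base ≫ g)) (snd G a.base ≫ f))
      (snd G a.base) (snd G b.base) f := by
    have hρ := rho_isIso g
    have sq1 : IsPullback (lift (fst G a.base * (snd G a.base ≫ g)) (snd G a.base))
        (snd G a.base) (snd G a.base) (𝟙 a.base) :=
      IsPullback.of_horiz_isIso ⟨by rw [lift_snd, Category.comp_id]⟩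
    have sq := sq1.paste_horiz (AlgSt.isPullback_whiskerLeft (G := G) f)
    rw [lift_whiskerLeft, Category.id_comp] at sq
    exact sq
  have e3 : lift (fst G a.base * (snd G a.base ≫ g)) (snd G a.base ≫ f) ≫
      (G ◁ b.sec.down) ≫ aX.act = (G ◁ a.sec.down) ≫ aX.act := by
    rw [lift_whiskerLeft_assoc, act_mul]
    have h1 : lift (snd G a.base ≫ g) ((snd G a.base ≫ f) ≫ b.sec.down) =
        snd G a.base ≫ lift g (f ≫ b.sec.down) := by
      rw [comp_lift, Category.assoc]
    rw [h1, Category.assoc, hg]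
    congr 1
  exact ⟨AlgSt.QuotObj.Hom.mk f _ e1 e2 e3, rfl, rfl⟩

end aux

open MonoidalCategory CartesianMonoidalCategory MonObj GrpObj in
/-- Let `G` be a group scheme over `S` acting on an `S`-scheme `X`, `f : T ⟶ T'` a morphism of
`S`-schemes, `x` a `T`-point and `x'` a `T'`-point of `X`. In the quotient category `[X/G]` (scheme
torsors for the fppf topology with an equivariant morphism to `X`) the canonical functor `X ⟶ [X/G]`
sends `x` to the trivial torsor `G ×_S T ⟶ T`, with `G` acting by left multiplication on the first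
factor and the equivariant morphism `(h, t) ↦ h · x(t)`, and likewise for `x'`. The morphisms from
the image of `x` to the image of `x'` lying over `f` are exactly the maps `(h, t) ↦ (h · g(t),
f(t))` for those `T`-points `g` of `G` with `g · (x' ∘ f) = x`: every morphism over `f` is of this
form, and every such `g` defines one. -/
theorem result (S : Scheme.{u}) (G : Over S) [GrpObj G] (X : Over S)
    (aX : AlgGrp.Action G X) (T T' : Over S) (f : T ⟶ T') (x : T ⟶ X) (x' : T' ⟶ X) :
    (∀ h : (AlgSt.quotMap Scheme.fppfPrecoverage G aX).obj ((AlgSt.ofOverCat X).obj (Over.mk x)) ⟶ (AlgSt.quotMap Scheme.fppfPrecoverage G aX).obj ((AlgSt.ofOverCat X).obj (Over.mk x')),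
        h.base = f → ∃ g : T ⟶ G, lift g (f ≫ x') ≫ aX.act = x ∧
          h.top = lift (fst G T * (snd G T ≫ g)) (snd G T ≫ f)) ∧
    (∀ g : T ⟶ G, lift g (f ≫ x') ≫ aX.act = x →
        ∃ h : (AlgSt.quotMap Scheme.fppfPrecoverage G aX).obj ((AlgSt.ofOverCat X).obj (Over.mk x)) ⟶ (AlgSt.quotMap Scheme.fppfPrecoverage G aX).obj ((AlgSt.ofOverCat X).obj (Over.mk x')),
          h.base = f ∧ h.top = lift (fst G T * (snd G T ≫ g)) (snd G T ≫ f)) := by
  refine ⟨fun h hb => ?_, fun g hg => ?_⟩
  · obtain ⟨g, -, h1, h2⟩ := hom_char aX x x' h.base h.top h.cart.w h.eqv h.wφ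
    refine ⟨g, ?_, ?_⟩
    · rw [← hb]
      exact h1
    · rw [← hb]
      exact h2
  · exact exists_hom_of_g aX (a := (AlgSt.ofOverCat X).obj (Over.mk x))
      (b := (AlgSt.ofOverCat X).obj (Over.mk x')) f g hg

end Groth.Agent.S12838
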