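import Groth.Statements.S13575
import Groth.Agent.S12838
import Groth.Agent.S5139
-- import your own Groth.Agent.* helpers here

set_option autoImplicit false
universe u
open CategoryTheory AlgebraicGeometry MonoidalCategory
open AlgSt

namespace Groth.Agent.S13575

section aux
open CategoryTheory.Limits CartesianMonoidalCategory MonObj GrpObj
open Groth.Agent.S12838 (act_mul act_one hom_char exists_hom_of_g)

variable {S : Scheme.{u}} {G : Over S} [GrpObj G] {X : Over S} (aX : AlgGrp.Action G X)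

/-- the functor induced by the action map -/
noncomputable abbrev FA : AlgSt.ofSch (G ⊗ X) ⥤ᵇ AlgSt.ofSch X :=
  AlgSt.ofSpMap ((AlgSp.yon S).map aX.act)

/-- the functor induced by the projection -/
noncomputable abbrev FB (G X : Over S) : AlgSt.ofSch (G ⊗ X) ⥤ᵇ AlgSt.ofSch X :=
  AlgSt.ofSpMap ((AlgSp.yon S).map (snd G X))

/-- the canonical map to the quotient -/
noncomputable abbrev QQ : AlgSt.ofSch X ⥤ᵇ AlgSt.QuotSt Scheme.fppfPrecoverage G aX :=
  AlgSt.quotMap Scheme.fppfPrecoverage G aX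

theorem lift_fst_snd_act {T : Over S} (p : T ⟶ G ⊗ X) :
    lift (p ≫ fst G X) (𝟙 T ≫ (p ≫ snd G X)) ≫ aX.act = p ≫ aX.act := by
  rw [Category.id_comp, ← comp_lift, lift_fst_snd, Category.comp_id]

theorem lift_inv_act {T : Over S} (p : T ⟶ G ⊗ X) :
    lift ((p ≫ fst G X)⁻¹) (𝟙 T ≫ (p ≫ aX.act)) ≫ aX.act = p ≫ snd G X := by
  have h0 : p ≫ aX.act = lift (p ≫ fst G X) (p ≫ snd G X) ≫ aX.act := by
    rw [← comp_lift, lift_fst_snd, Category.comp_id]
  rw [Category.id_comp, h0, ← act_mul, _root_.inv_mul_cancel, Hom.one_def]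
  exact act_one aX _

theorem rho_inv_left {T : Over S} (g : T ⟶ G) :
    lift (fst G T * (snd G T ≫ g)) (snd G T ≫ 𝟙 T) ≫
      lift (fst G T * (snd G T ≫ g⁻¹)) (snd G T ≫ 𝟙 T) = 𝟙 (G ⊗ T) := by
  simp only [Category.comp_id, comp_lift, comp_mul, comp_inv, lift_fst, lift_snd, lift_snd_assoc,
    mul_inv_cancel_right, lift_fst_snd]

theorem rho_inv_right {T : Over S} (g : T ⟶ G) :
    lift (fst G T * (snd G T ≫ g⁻¹)) (snd G T ≫ 𝟙 T) ≫
      lift (fst G T * (snd G T ≫ g)) (snd G T ≫ 𝟙 T) = 𝟙 (G ⊗ T) := by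
  simp only [Category.comp_id, comp_lift, comp_mul, comp_inv, lift_fst, lift_snd, lift_snd_assoc,
    inv_mul_cancel_right, lift_fst_snd]

theorem rho_natural {T T' : Over S} (m : T ⟶ T') (g : T ⟶ G) (g' : T' ⟶ G) (hg : m ≫ g' = g) :
    (G ◁ m) ≫ lift (fst G T' * (snd G T' ≫ g')) (snd G T' ≫ 𝟙 T') =
      lift (fst G T * (snd G T ≫ g)) (snd G T ≫ 𝟙 T) ≫ (G ◁ m) := by
  subst hg
  apply CartesianMonoidalCategory.hom_ext
  · simp only [Category.assoc, Category.comp_id, lift_fst, lift_snd, lift_fst_assoc,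
      lift_snd_assoc, comp_mul, whiskerLeft_fst, whiskerLeft_snd, whiskerLeft_fst_assoc,
      whiskerLeft_snd_assoc]
  · simp only [Category.assoc, Category.comp_id, lift_fst, lift_snd, lift_fst_assoc,
      lift_snd_assoc, comp_mul, whiskerLeft_fst, whiskerLeft_snd, whiskerLeft_fst_assoc,
      whiskerLeft_snd_assoc]

theorem rho_natural_conv {T T' : Over S} (m₁ m₂ : T ⟶ T') (g : T ⟶ G) (g' : T' ⟶ G)
    (h : (G ◁ m₁) ≫ lift (fst G T' * (snd G T' ≫ g')) (snd G T' ≫ 𝟙 T') =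
      lift (fst G T * (snd G T ≫ g)) (snd G T ≫ 𝟙 T) ≫ (G ◁ m₂)) : m₁ ≫ g' = g := by
  obtain ⟨v, hv⟩ : ∃ v : T ⟶ G ⊗ T, v = lift (toUnit T ≫ η[G]) (𝟙 T) := ⟨_, rfl⟩
  have hv1 : v ≫ fst G T = 1 := by rw [hv, lift_fst, ← Hom.one_def]
  have hv2 : v ≫ snd G T = 𝟙 _ := by rw [hv, lift_snd]
  have hv2' : ∀ {Z : Over S} (k : T ⟶ Z), v ≫ snd G T ≫ k = k := fun k => by
    rw [← Category.assoc, hv2, Category.id_comp]
  have h' := congrArg (fun t => v ≫ t ≫ fst G T') h
  simp only [Category.assoc, Category.comp_id, lift_fst, lift_fst_assoc, comp_mul,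
    whiskerLeft_fst, whiskerLeft_fst_assoc, whiskerLeft_snd_assoc, hv1, hv2',
    _root_.one_mul] at h'
  exact h'

theorem rho_ess {T T₂ : Over S} (g : T ⟶ G) (fb : T ⟶ T₂) (y : T ⟶ X) :
    (G ◁ 𝟙 T) ≫ lift (fst G T * (snd G T ≫ g)) (snd G T ≫ fb) =
      lift (fst G T * (snd G T ≫ (lift g y ≫ fst G X))) (snd G T ≫ 𝟙 T) ≫ (G ◁ fb) := by
  rw [lift_fst]
  apply CartesianMonoidalCategory.hom_ext
  · simp only [Category.assoc, Category.comp_id, Category.id_comp,
      MonoidalCategory.whiskerLeft_id, lift_fst, lift_snd, lift_fst_assoc, lift_snd_assoc,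
      whiskerLeft_fst, whiskerLeft_snd, whiskerLeft_fst_assoc, whiskerLeft_snd_assoc]
  · simp only [Category.assoc, Category.comp_id, Category.id_comp,
      MonoidalCategory.whiskerLeft_id, lift_fst, lift_snd, lift_fst_assoc, lift_snd_assoc,
      whiskerLeft_fst, whiskerLeft_snd, whiskerLeft_fst_assoc, whiskerLeft_snd_assoc]

/-- isomorphisms of `ofSch U` from isomorphisms of the bases. -/
noncomputable def eltIso {U : Over S} {a b : (AlgSt.ofSch U).obj} (f : a.base ≅ b.base)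
    (hf : f.hom ≫ b.sec.down = a.sec.down) : a ≅ b where
  hom := ⟨f.hom, congrArg ULift.up hf⟩
  inv := ⟨f.inv, congrArg ULift.up
    (show f.inv ≫ a.sec.down = b.sec.down by rw [← hf, Iso.inv_hom_id_assoc])⟩
  hom_inv_id := Stk.EltObj.hom_ext f.hom_inv_id
  inv_hom_id := Stk.EltObj.hom_ext f.inv_hom_id

theorem eHom_ex (w : (AlgSt.ofSch (G ⊗ X)).obj) :
    ∃ h : (QQ aX).obj ((FA aX).obj w) ⟶ (QQ aX).obj ((FB G X).obj w),
      h.base = 𝟙 w.base ∧
      h.top = lift (fst G w.base * (snd G w.base ≫ (w.sec.down ≫ fst G X)))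
        (snd G w.base ≫ 𝟙 w.base) :=
  exists_hom_of_g aX (a := (FA aX).obj w) (b := (FB G X).obj w) (𝟙 w.base)
    (w.sec.down ≫ fst G X) (lift_fst_snd_act aX w.sec.down)

theorem eInv_ex (w : (AlgSt.ofSch (G ⊗ X)).obj) :
    ∃ h : (QQ aX).obj ((FB G X).obj w) ⟶ (QQ aX).obj ((FA aX).obj w),
      h.base = 𝟙 w.base ∧
      h.top = lift (fst G w.base * (snd G w.base ≫ (w.sec.down ≫ fst G X)⁻¹))
        (snd G w.base ≫ 𝟙 w.base) :=
  exists_hom_of_g aX (a := (FB G X).obj w) (b := (FA aX).obj w) (𝟙 w.base)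
    ((w.sec.down ≫ fst G X)⁻¹) (lift_inv_act aX w.sec.down)

/-- right multiplication by the group component. -/
noncomputable def eHom (w : (AlgSt.ofSch (G ⊗ X)).obj) :
    (QQ aX).obj ((FA aX).obj w) ⟶ (QQ aX).obj ((FB G X).obj w) := (eHom_ex aX w).choose

/-- right multiplication by the inverse of the group component. -/
noncomputable def eInv (w : (AlgSt.ofSch (G ⊗ X)).obj) :
    (QQ aX).obj ((FB G X).obj w) ⟶ (QQ aX).obj ((FA aX).obj w) := (eInv_ex aX w).choose

theorem eHom_base (w : (AlgSt.ofSch (G ⊗ X)).obj) : (eHom aX w).base = 𝟙 w.base :=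
  (eHom_ex aX w).choose_spec.1

theorem eHom_top (w : (AlgSt.ofSch (G ⊗ X)).obj) :
    (eHom aX w).top = lift (fst G w.base * (snd G w.base ≫ (w.sec.down ≫ fst G X)))
        (snd G w.base ≫ 𝟙 w.base) :=
  (eHom_ex aX w).choose_spec.2

theorem eInv_base (w : (AlgSt.ofSch (G ⊗ X)).obj) : (eInv aX w).base = 𝟙 w.base :=
  (eInv_ex aX w).choose_spec.1

theorem eInv_top (w : (AlgSt.ofSch (G ⊗ X)).obj) :
    (eInv aX w).top = lift (fst G w.base * (snd G w.base ≫ (w.sec.down ≫ fst G X)⁻¹))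
        (snd G w.base ≫ 𝟙 w.base) :=
  (eInv_ex aX w).choose_spec.2

/-- the component isomorphisms. -/
noncomputable def eIso (w : (AlgSt.ofSch (G ⊗ X)).obj) :
    (QQ aX).obj ((FA aX).obj w) ≅ (QQ aX).obj ((FB G X).obj w) where
  hom := eHom aX w
  inv := eInv aX w
  hom_inv_id := AlgSt.QuotObj.hom_ext
    (by
      show (eHom aX w).base ≫ (eInv aX w).base = 𝟙 _
      rw [eHom_base, eInv_base]
      exact Category.comp_id _)
    (by
      show (eHom aX w).top ≫ (eInv aX w).top = 𝟙 _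
      rw [eHom_top, eInv_top]
      exact rho_inv_left _)
  inv_hom_id := AlgSt.QuotObj.hom_ext
    (by
      show (eInv aX w).base ≫ (eHom aX w).base = 𝟙 _
      rw [eHom_base, eInv_base]
      exact Category.comp_id _)
    (by
      show (eInv aX w).top ≫ (eHom aX w).top = 𝟙 _
      rw [eHom_top, eInv_top]
      exact rho_inv_right _)

theorem eNat {w w' : (AlgSt.ofSch (G ⊗ X)).obj} (m : w ⟶ w') :
    (QQ aX).map ((FA aX).map m) ≫ eHom aX w' = eHom aX w ≫ (QQ aX).map ((FB G X).map m) := by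
  have hm : m.hom ≫ w'.sec.down = w.sec.down := congrArg ULift.down m.map_sec
  apply AlgSt.QuotObj.hom_ext
  · show m.hom ≫ (eHom aX w').base = (eHom aX w).base ≫ m.hom
    rw [eHom_base, eHom_base]
    exact (Category.comp_id _).trans (Category.id_comp _).symm
  · show (G ◁ m.hom) ≫ (eHom aX w').top = (eHom aX w).top ≫ (G ◁ m.hom)
    rw [eHom_top, eHom_top]
    exact rho_natural m.hom _ _ (by rw [← Category.assoc, hm])

/-- the underlying natural isomorphism. -/
noncomputable def eNatIso : (BasedFunctor.comp (FA aX) (QQ aX)).toFunctor ≅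
    (BasedFunctor.comp (FB G X) (QQ aX)).toFunctor :=
  NatIso.ofComponents (fun w => eIso aX w) (fun m => eNat aX m)

/-- the 2-isomorphism `π ∘ a ≅ π ∘ pr₂`. -/
noncomputable def e2 : BasedFunctor.comp (FA aX) (QQ aX) ≅ BasedFunctor.comp (FB G X) (QQ aX) :=
  BasedNatIso.mkNatIso (eNatIso aX) (fun w => by
    have h : (AlgSt.QuotObj.forget Scheme.fppfPrecoverage G aX).IsHomLift
        ((AlgSt.QuotObj.forget Scheme.fppfPrecoverage G aX).map (eHom aX w)) (eHom aX w) :=
      IsHomLift.map _ _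
    have hb : (AlgSt.QuotObj.forget Scheme.fppfPrecoverage G aX).map (eHom aX w) = 𝟙 w.base :=
      eHom_base aX w
    rw [hb] at h
    exact h)

theorem faithful_fpLift : (FibCat.fpLift (FA aX) (FB G X) (e2 aX)).toFunctor.Faithful where
  map_injective := by
    intro w w' m m' h
    have h1 := congrArg (fun φ : ((FibCat.fpLift (FA aX) (FB G X) (e2 aX)).toFunctor.obj w ⟶
      (FibCat.fpLift (FA aX) (FB G X) (e2 aX)).toFunctor.obj w') => φ.hom.fst.hom) h
    exact Stk.EltObj.hom_ext h1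

theorem full_fpLift : (FibCat.fpLift (FA aX) (FB G X) (e2 aX)).toFunctor.Full where
  map_surjective := by
    intro w w' φ
    have hw : (QQ aX).map φ.hom.fst ≫ eHom aX w' = eHom aX w ≫ (QQ aX).map φ.hom.snd := φ.hom.w
    have hbase : φ.hom.fst.hom = φ.hom.snd.hom := by
      have h2 : φ.hom.fst.hom ≫ (eHom aX w').base = (eHom aX w).base ≫ φ.hom.snd.hom :=
        congrArg AlgSt.QuotObj.Hom.base hw
      rw [eHom_base, eHom_base] at h2
      exact (Category.comp_id _).symm.trans (h2.trans (Category.id_comp _))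
    have htop : (G ◁ φ.hom.fst.hom) ≫ (eHom aX w').top =
        (eHom aX w).top ≫ (G ◁ φ.hom.snd.hom) := congrArg AlgSt.QuotObj.Hom.top hw
    rw [eHom_top, eHom_top] at htop
    have hg : φ.hom.fst.hom ≫ (w'.sec.down ≫ fst G X) = w.sec.down ≫ fst G X :=
      rho_natural_conv _ _ _ _ htop
    have hs : φ.hom.snd.hom ≫ (w'.sec.down ≫ snd G X) = w.sec.down ≫ snd G X :=
      congrArg ULift.down φ.hom.snd.map_sec
    have hm : φ.hom.fst.hom ≫ w'.sec.down = w.sec.down := by
      apply CartesianMonoidalCategory.hom_ext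
      · exact (Category.assoc _ _ _).trans hg
      · refine (Category.assoc _ _ _).trans ?_
        rw [hbase]
        exact hs
    refine ⟨⟨φ.hom.fst.hom, congrArg ULift.up hm⟩, ?_⟩
    apply ObjectProperty.hom_ext
    apply CategoricalPullback.hom_ext
    · exact Stk.EltObj.hom_ext rfl
    · exact Stk.EltObj.hom_ext hbase

/-- the object of `ofSch (G × X)` given by a point. -/
noncomputable abbrev mkPt {T : Over S} (p : T ⟶ G ⊗ X) : (AlgSt.ofSch (G ⊗ X)).obj := ⟨T, ⟨p⟩⟩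

/-- key compatibility used for essential surjectivity. -/
theorem ess_hc {x1 x2 : (AlgSt.ofSch X).obj} (h : (QQ aX).obj x1 ⟶ (QQ aX).obj x2)
    (g : x1.base ⟶ G)
    (h2 : h.top = lift (fst G x1.base * (snd G x1.base ≫ g)) (snd G x1.base ≫ h.base))
    (α : (FA aX).obj (mkPt (lift g (h.base ≫ x2.sec.down))) ⟶ x1)
    (β : (FB G X).obj (mkPt (lift g (h.base ≫ x2.sec.down))) ⟶ x2)
    (hα : α.hom = 𝟙 x1.base) (hβ : β.hom = h.base) :
    (QQ aX).map α ≫ h =
      eHom aX (mkPt (lift g (h.base ≫ x2.sec.down))) ≫ (QQ aX).map β := by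
  apply AlgSt.QuotObj.hom_ext
  · show α.hom ≫ h.base = (eHom aX (mkPt (lift g (h.base ≫ x2.sec.down)))).base ≫ β.hom
    rw [eHom_base, hα, hβ]
    rfl
  · show (G ◁ α.hom) ≫ h.top =
      (eHom aX (mkPt (lift g (h.base ≫ x2.sec.down)))).top ≫ (G ◁ β.hom)
    rw [eHom_top, h2, hα, hβ]
    exact rho_ess g h.base (h.base ≫ x2.sec.down)

/-- the object and the two component isomorphisms used for essential surjectivity. -/
theorem ess_data {x1 x2 : (AlgSt.ofSch X).obj} (i : (QQ aX).obj x1 ≅ (QQ aX).obj x2) :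
    ∃ (p : x1.base ⟶ G ⊗ X) (α : (FA aX).obj (mkPt p) ≅ x1) (β : (FB G X).obj (mkPt p) ≅ x2),
      α.hom.hom = 𝟙 x1.base ∧
      (QQ aX).map α.hom ≫ i.hom = eHom aX (mkPt p) ≫ (QQ aX).map β.hom := by
  obtain ⟨g, -, h1, h2⟩ := hom_char aX x1.sec.down x2.sec.down
    i.hom.base i.hom.top i.hom.cart.w i.hom.eqv i.hom.wφ
  let fbI : x1.base ≅ x2.base :=
    (AlgSt.QuotObj.forget Scheme.fppfPrecoverage G aX).mapIso i
  refine ⟨lift g (i.hom.base ≫ x2.sec.down),
    eltIso (a := (FA aX).obj (mkPt (lift g (i.hom.base ≫ x2.sec.down)))) (b := x1)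
      (Iso.refl x1.base) ((Category.id_comp _).trans h1.symm),
    eltIso (a := (FB G X).obj (mkPt (lift g (i.hom.base ≫ x2.sec.down)))) (b := x2)
      fbI (lift_snd _ _).symm, rfl, ?_⟩
  exact ess_hc aX i.hom g h2 _ _ rfl rfl

theorem fpLift_iso_hom (w : (AlgSt.ofSch (G ⊗ X)).obj) :
    ((FibCat.fpLift (FA aX) (FB G X) (e2 aX)).toFunctor.obj w).obj.iso.hom = eHom aX w := rfl

/-- isomorphisms in the 2-fibre product out of the image of `fpLift`. -/
theorem exists_fp_iso (w : (AlgSt.ofSch (G ⊗ X)).obj) (z : (FibCat.fp (QQ aX) (QQ aX)).obj)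
    (α : (FA aX).obj w ≅ z.obj.fst) (β : (FB G X).obj w ≅ z.obj.snd)
    (hc : (QQ aX).map α.hom ≫ z.obj.iso.hom = eHom aX w ≫ (QQ aX).map β.hom) :
    ∃ E : (FibCat.fpLift (FA aX) (FB G X) (e2 aX)).toFunctor.obj w ≅ z,
      E.hom.hom.fst = α.hom := by
  refine ⟨ObjectProperty.isoMk _ (CategoricalPullback.mkIso
    (x := ((FibCat.fpLift (FA aX) (FB G X) (e2 aX)).toFunctor.obj w).obj) (y := z.obj) α β ?_),
    rfl⟩
  rw [fpLift_iso_hom]
  exact hc

theorem essSurj_fpLift (z : (FibCat.fp (QQ aX) (QQ aX)).obj) :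
    ∃ (ξ : (AlgSt.ofSch (G ⊗ X)).obj)
      (e' : (FibCat.fpLift (FA aX) (FB G X) (e2 aX)).toFunctor.obj ξ ≅ z),
      (FibCat.fp (QQ aX) (QQ aX)).p.IsHomLift (𝟙 ((FibCat.fp (QQ aX) (QQ aX)).p.obj z))
        e'.hom := by
  obtain ⟨p, α, β, hα, hc⟩ := ess_data aX z.obj.iso
  obtain ⟨E, hE⟩ := exists_fp_iso aX (mkPt p) z α β hc
  refine ⟨mkPt p, E, ?_⟩
  have h := IsHomLift.map (FibCat.fp (QQ aX) (QQ aX)).p E.hom
  have hb : (FibCat.fp (QQ aX) (QQ aX)).p.map E.hom = 𝟙 z.obj.fst.base :=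
    (congrArg Stk.EltObj.Hom.hom hE).trans hα
  rw [hb] at h
  exact h

end aux

/-- For a group action: let a group scheme `G` over `S` act on a scheme `X` over `S` and let `π : X ⟶
[X/G]` be the canonical morphism to the quotient stack. Then the square with vertices `G ×_S X`,
`X`, `X`, `[X/G]`, whose sides are the action and the projection `G ×_S X ⟶ X` followed by `π`, is
2-cartesian for some 2-isomorphism `π ∘ a ≅ π ∘ pr₂`: the induced functor from `G ×_S X` to the
2-fibre product `X ×_{[X/G]} X` is an equivalence over `(Sch/S)`. Existence of the 2-isomorphism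
only; the canonical one is right multiplication by the group element. (The published statement is
for a groupoid in algebraic spaces; this row is the action groupoid of a group scheme, with torsors
given as schemes.) -/
theorem result {S : Scheme.{u}} (G : Over S) [GrpObj G]
    (X : Over S) (aX : AlgGrp.Action G X) :
    ∃ e : BasedFunctor.comp (AlgSt.ofSpMap ((AlgSp.yon S).map aX.act)) (AlgSt.quotMap Scheme.fppfPrecoverage G aX) ≅
        BasedFunctor.comp (AlgSt.ofSpMap ((AlgSp.yon S).map (CartesianMonoidalCategory.snd G X)))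
          (AlgSt.quotMap Scheme.fppfPrecoverage G aX),
      FibCat.IsTwoCartOver (AlgSt.ofSpMap ((AlgSp.yon S).map aX.act))
        (AlgSt.ofSpMap ((AlgSp.yon S).map (CartesianMonoidalCategory.snd G X))) e := by
  refine ⟨e2 aX, ?_⟩
  exact (Groth.Agent.S5139.result _).2
    ⟨⟨full_fpLift aX, faithful_fpLift aX⟩, essSurj_fpLift aX⟩

end Groth.Agent.S13575
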