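import Groth.Statements.S14978
import Groth.Agent.S12838
import Groth.Agent.H32.PshStack
-- import your own Groth.Agent.* helpers here

set_option autoImplicit false
universe u
open CategoryTheory MonoidalCategory CartesianMonoidalCategory AlgebraicGeometry
open AlgSt

namespace Groth.Agent.S14978

section aux
open CategoryTheory.Limits MonoidalCategory CartesianMonoidalCategory MonObj GrpObj Opposite
open Groth.Agent.H32.PshStack
open Groth.Agent.S12838 (act_mul)

universe w v₂ u₂ v₁ u₁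

section general
variable {C : Type u₁} [Category.{v₁} C] {P : Cᵒᵖ ⥤ Type w}

theorem eltObj_eq_of_secAs (x y : Stk.EltObj P) {W : C} (hx : x.base = W) (hy : y.base = W)
    (h : secAs x hx = secAs y hy) : x = y := by
  obtain ⟨bx, sx⟩ := x
  obtain ⟨by', sy⟩ := y
  dsimp at hx hy
  subst hx
  subst hy
  simp only [secAs, eqToHom_refl, op_id, FunctorToTypes.map_id_apply] at h
  subst h
  rfl

theorem secAs_of_eq (x : Stk.EltObj P) {W : C} (hx : x.base = W) (s : P.obj (op W))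
    (h : x = ⟨W, s⟩) : secAs x hx = s := by
  subst h
  exact secAs_self _ _

theorem basedFunctor_ext {𝒳 : BasedCategory.{v₂, u₂} C} {𝒴 : BasedCategory.{v₁, max u₁ w} C}
    (F₁ F₂ : 𝒳 ⥤ᵇ 𝒴) (h : F₁.toFunctor = F₂.toFunctor) : F₁ = F₂ := by
  obtain ⟨A, wA⟩ := F₁
  obtain ⟨B, wB⟩ := F₂
  obtain rfl : A = B := h
  rfl

theorem basedFunctor_eq_of_secAs {𝒜 : BasedCategory.{v₂, u₂} C} (Φ Ψ : 𝒜 ⥤ᵇ Stk.ofPsh P)
    (h : ∀ a : 𝒜.obj, secAs (Φ.obj a) (Φ.w_obj a) = secAs (Ψ.obj a) (Ψ.w_obj a)) : Φ = Ψ := by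
  obtain ⟨α⟩ := exists_iso_of_secAs Φ Ψ h
  have hobj : ∀ a, Φ.obj a = Ψ.obj a := fun a =>
    eltObj_eq_of_secAs _ _ (Φ.w_obj a) (Ψ.w_obj a) (h a)
  apply basedFunctor_ext
  refine Functor.ext_of_iso ((BasedNatTrans.forgetful _ _).mapIso α) hobj (fun a => ?_)
  exact hom_eq_of_lift _ _ (𝟙 (𝒜.p.obj a)) (α.hom.isHomLift' a)
    (IsHomLift.eqToHom_domain_lift_id (hobj a) (Φ.w_obj a))

theorem secAs_congr {𝒜 : BasedCategory.{v₂, u₂} C} {Φ Ψ : 𝒜 ⥤ᵇ Stk.ofPsh P} (h : Φ = Ψ)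
    (a : 𝒜.obj) : secAs (Φ.obj a) (Φ.w_obj a) = secAs (Ψ.obj a) (Ψ.w_obj a) := by
  subst h
  rfl

end general

variable {S : Scheme.{u}}

theorem map_comp_op (F : AlgSp.Sp S) {A B C : Over S} (a : A ⟶ B) (b : B ⟶ C)
    (y : F.obj.obj (op C)) :
    F.obj.map (a ≫ b).op y = F.obj.map a.op (F.obj.map b.op y) := by
  rw [op_comp, Functor.map_comp_apply]

theorem generate_mem_of_loc {P T : Over S} (π : P ⟶ T)
    (hloc : NonAbH1.IsLocallyTrivialFor Scheme.fppfPrecoverage (Over.mk π.left : Over T.left)) :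
    Sieve.generate (Presieve.singleton π) ∈ AlgSp.J S T := by
  obtain ⟨R, hR, hsec⟩ := hloc
  rw [AlgSp.J_eq, GrothendieckTopology.mem_over_iff]
  refine Scheme.fppfTopology.superset_covering ?_ (Precoverage.generate_mem_toGrothendieck hR)
  rintro Z g ⟨Y, k, r, hr, rfl⟩
  obtain ⟨s, hs⟩ := hsec r hr
  have hs' : s ≫ π.left = r := hs
  rw [Sieve.overEquiv_iff]
  refine ⟨P, Over.homMk (k ≫ s) ?_, π, Presieve.singleton.mk, ?_⟩
  · have := Over.w π
    simp only [Over.mk_hom, Category.assoc]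
    rw [← this, ← hs']
    simp only [Category.assoc]
  · ext
    simp only [Over.comp_left, Over.homMk_left, Category.assoc]
    rw [hs']

theorem desc_unique (F : AlgSp.Sp S) {P T : Over S} (π : P ⟶ T)
    (hloc : NonAbH1.IsLocallyTrivialFor Scheme.fppfPrecoverage (Over.mk π.left : Over T.left))
    (x : F.obj.obj (op P))
    (hx : ∀ {Z : Over S} (p₁ p₂ : Z ⟶ P), p₁ ≫ π = p₂ ≫ π →
      F.obj.map p₁.op x = F.obj.map p₂.op x) :
    ∃! y : F.obj.obj (op T), F.obj.map π.op y = x := by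
  have hsh : Presieve.IsSheafFor F.obj (Presieve.singleton π) :=
    (Presieve.isSheafFor_iff_generate _).2
      (((isSheaf_iff_isSheaf_of_type _ _).1 F.property) _ (generate_mem_of_loc π hloc))
  exact Presieve.isSheafFor_singleton.1 hsh x hx

variable {G : Over S} [GrpObj G] {X : Over S} (aX : AlgGrp.Action G X) {F : AlgSp.Sp S}
  (f : (AlgSp.yon S).obj X ⟶ F)

/-- the value of `f` at a point of `X`. -/
def fv {T : Over S} (x : T ⟶ X) : F.obj.obj (op T) := f.hom.app (op T) ⟨x⟩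

theorem fv_nat {T' T : Over S} (t : T' ⟶ T) (x : T ⟶ X) :
    F.obj.map t.op (fv f x) = fv f (t ≫ x) :=
  (NatTrans.naturality_apply f.hom t.op _).symm

theorem fv_inv (hf : (AlgSp.yon S).map aX.act ≫ f = (AlgSp.yon S).map (snd G X) ≫ f)
    {T : Over S} (l : T ⟶ G ⊗ X) : fv f (l ≫ aX.act) = fv f (l ≫ snd G X) := by
  have := congrArg (fun φ => φ.hom.app (op T) ⟨l⟩) hf
  exact this

theorem hx_of_quotObj (hf : (AlgSp.yon S).map aX.act ≫ f = (AlgSp.yon S).map (snd G X) ≫ f)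
    (A : AlgSt.QuotObj Scheme.fppfPrecoverage G aX) {Z : Over S} (p₁ p₂ : Z ⟶ A.P)
    (h : p₁ ≫ A.π = p₂ ≫ A.π) :
    F.obj.map p₁.op (fv f A.φ) = F.obj.map p₂.op (fv f A.φ) := by
  obtain ⟨l, hl1, hl2⟩ : ∃ l : Z ⟶ G ⊗ A.P, l ≫ A.act.act = p₁ ∧ l ≫ snd G A.P = p₂ :=
    ⟨A.cart.lift p₁ p₂ h, A.cart.lift_fst _ _ _, A.cart.lift_snd _ _ _⟩
  rw [fv_nat, fv_nat]
  calc fv f (p₁ ≫ A.φ) = fv f ((l ≫ A.act.act) ≫ A.φ) := by rw [hl1]
    _ = fv f ((l ≫ (G ◁ A.φ)) ≫ aX.act) := by rw [Category.assoc, A.eqv, Category.assoc]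
    _ = fv f ((l ≫ (G ◁ A.φ)) ≫ snd G X) := fv_inv aX f hf _
    _ = fv f (p₂ ≫ A.φ) := by rw [Category.assoc, whiskerLeft_snd, ← Category.assoc, hl2]

theorem mA_ex (hf : (AlgSp.yon S).map aX.act ≫ f = (AlgSp.yon S).map (snd G X) ≫ f)
    (A : AlgSt.QuotObj Scheme.fppfPrecoverage G aX) :
    ∃! y : F.obj.obj (op A.base), F.obj.map A.π.op y = fv f A.φ :=
  desc_unique F A.π A.loc (fv f A.φ) (fun p₁ p₂ h => hx_of_quotObj aX f hf A p₁ p₂ h)

/-- the descended section. -/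
noncomputable def mA (hf : (AlgSp.yon S).map aX.act ≫ f = (AlgSp.yon S).map (snd G X) ≫ f)
    (A : AlgSt.QuotObj Scheme.fppfPrecoverage G aX) : F.obj.obj (op A.base) :=
  (mA_ex aX f hf A).exists.choose

theorem mA_spec (hf : (AlgSp.yon S).map aX.act ≫ f = (AlgSp.yon S).map (snd G X) ≫ f)
    (A : AlgSt.QuotObj Scheme.fppfPrecoverage G aX) :
    F.obj.map A.π.op (mA aX f hf A) = fv f A.φ :=
  (mA_ex aX f hf A).exists.choose_spec

theorem mA_unique (hf : (AlgSp.yon S).map aX.act ≫ f = (AlgSp.yon S).map (snd G X) ≫ f)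
    (A : AlgSt.QuotObj Scheme.fppfPrecoverage G aX) (y : F.obj.obj (op A.base))
    (hy : F.obj.map A.π.op y = fv f A.φ) : y = mA aX f hf A :=
  (mA_ex aX f hf A).unique hy (mA_spec aX f hf A)

theorem mA_map (hf : (AlgSp.yon S).map aX.act ≫ f = (AlgSp.yon S).map (snd G X) ≫ f)
    {A B : AlgSt.QuotObj Scheme.fppfPrecoverage G aX} (h : A ⟶ B) :
    F.obj.map h.base.op (mA aX f hf B) = mA aX f hf A := by
  apply mA_unique
  rw [← map_comp_op, ← h.cart.w, map_comp_op, mA_spec, fv_nat, h.wφ]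

/-- the descended functor. -/
noncomputable def descF (hf : (AlgSp.yon S).map aX.act ≫ f = (AlgSp.yon S).map (snd G X) ≫ f) :
    AlgSt.QuotSt Scheme.fppfPrecoverage G aX ⥤ᵇ AlgSt.ofSp F where
  toFunctor :=
    { obj := fun A => ⟨A.base, mA aX f hf A⟩
      map := fun {A B} h => ⟨h.base, mA_map aX f hf h⟩
      map_id := fun A => Stk.EltObj.hom_ext rfl
      map_comp := fun h k => Stk.EltObj.hom_ext rfl }
  w := rfl

theorem descF_comp (hf : (AlgSp.yon S).map aX.act ≫ f = (AlgSp.yon S).map (snd G X) ≫ f) :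
    BasedFunctor.comp (AlgSt.quotMap Scheme.fppfPrecoverage G aX) (descF aX f hf) =
      AlgSt.ofSpMap f := by
  refine basedFunctor_eq_of_secAs _ _ (fun a => ?_)
  have e1 : secAs ((BasedFunctor.comp (AlgSt.quotMap Scheme.fppfPrecoverage G aX)
      (descF aX f hf)).obj a) ((BasedFunctor.comp (AlgSt.quotMap Scheme.fppfPrecoverage G aX)
      (descF aX f hf)).w_obj a) =
      mA aX f hf ((AlgSt.quotMap Scheme.fppfPrecoverage G aX).obj a) := secAs_of_eq _ _ _ rfl
  have e2 : secAs ((AlgSt.ofSpMap f).obj a) ((AlgSt.ofSpMap f).w_obj a) =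
      f.hom.app (op a.base) a.sec := secAs_of_eq _ _ _ rfl
  refine e1.trans (Eq.trans ?_ e2.symm)
  refine (mA_unique aX f hf ((AlgSt.quotMap Scheme.fppfPrecoverage G aX).obj a)
    (f.hom.app (op a.base) a.sec) ?_).symm
  show F.obj.map (snd G a.base).op (fv f a.sec.down) = fv f ((G ◁ a.sec.down) ≫ aX.act)
  rw [fv_nat, fv_inv aX f hf, whiskerLeft_snd]

/-- the tautological morphism from the trivial torsor over `P` to `A`. -/
noncomputable def tautHom (A : AlgSt.QuotObj Scheme.fppfPrecoverage G aX) :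
    (AlgSt.quotMap Scheme.fppfPrecoverage G aX).obj (⟨A.P, ⟨A.φ⟩⟩ : (AlgSt.ofSch X).obj) ⟶ A :=
  AlgSt.QuotObj.Hom.mk A.π A.act.act
    (by
      show (AlgSt.leftMul G A.P).act ≫ A.act.act = (G ◁ A.act.act) ≫ A.act.act
      have h1 : (AlgSt.leftMul G A.P).act ≫ A.act.act =
          lift (fst G (G ⊗ A.P)) (lift (snd G (G ⊗ A.P) ≫ fst G A.P)
            (snd G (G ⊗ A.P) ≫ snd G A.P) ≫ A.act.act) ≫ A.act.act := by
        rw [← act_mul]
        rfl
      rw [h1, ← comp_lift, lift_fst_snd, Category.comp_id]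
      congr 1)
    A.cart
    A.eqv

theorem descF_unique (hf : (AlgSp.yon S).map aX.act ≫ f = (AlgSp.yon S).map (snd G X) ≫ f)
    (φ' : AlgSt.QuotSt Scheme.fppfPrecoverage G aX ⥤ᵇ AlgSt.ofSp F)
    (hφ' : BasedFunctor.comp (AlgSt.quotMap Scheme.fppfPrecoverage G aX) φ' = AlgSt.ofSpMap f) :
    φ' = descF aX f hf := by
  refine basedFunctor_eq_of_secAs _ _ (fun A => ?_)
  have e0 : secAs ((descF aX f hf).obj A) ((descF aX f hf).w_obj A) = mA aX f hf A :=
    secAs_of_eq _ _ _ rfl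
  refine Eq.trans ?_ e0.symm
  apply mA_unique
  have e1 := secAs_functor_map φ' (tautHom aX A)
  have e2 := secAs_congr hφ' (⟨A.P, ⟨A.φ⟩⟩ : (AlgSt.ofSch X).obj)
  have e3 : secAs ((AlgSt.ofSpMap f).obj (⟨A.P, ⟨A.φ⟩⟩ : (AlgSt.ofSch X).obj))
      ((AlgSt.ofSpMap f).w_obj (⟨A.P, ⟨A.φ⟩⟩ : (AlgSt.ofSch X).obj)) = fv f A.φ :=
    secAs_of_eq _ _ _ rfl
  exact e1.trans (e2.trans e3)

end aux

/-- Let `S` be a scheme, `G` a group scheme over `S` whose structure morphism is affine, flat and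
locally of finite presentation, acting on a scheme `X` over `S`, and `M` an algebraic space over
`S`. A morphism of fppf sheaves `f : h_X ⟶ M` which is `G`-invariant (its composites with the action
`G ×_S X ⟶ X` and with the projection agree) factors through the canonical functor `X ⟶ [X/G]` by
exactly one functor `[X/G] ⟶ M` over `(Sch/S)` (this is the lifting half of the correspondence
between morphisms `[X/G] ⟶ M` and `G`-invariant morphisms `X ⟶ M`). Here `[X/G]` is the fppf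
quotient stack described by `G`-torsors that are schemes together with an equivariant map to `X`,
and `M` is viewed as the category of its sections over `(Sch/S)`; since that category is fibred in
sets, equality of functors over the base is the appropriate uniqueness. (The published statement
takes the base `S` affine; this row allows any base scheme.) -/
theorem result (S : Scheme.{u}) (G : Over S) [GrpObj G]
    [IsAffineHom G.hom] [Flat G.hom] [LocallyOfFinitePresentation G.hom]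
    (X : Over S) (aX : AlgGrp.Action G X) (M : AlgSp.Space S)
    (f : (AlgSp.yon S).obj X ⟶ M.obj)
    (hf : (AlgSp.yon S).map aX.act ≫ f = (AlgSp.yon S).map (snd G X) ≫ f) :
    ∃! φ : AlgSt.QuotSt Scheme.fppfPrecoverage G aX ⥤ᵇ AlgSt.ofSp M.obj,
      BasedFunctor.comp (AlgSt.quotMap Scheme.fppfPrecoverage G aX) φ = AlgSt.ofSpMap f := by
  refine ⟨descF aX f hf, descF_comp aX f hf, fun φ' hφ' => descF_unique aX f hf φ' hφ'⟩

end Groth.Agent.S14978
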