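import Groth.Statements.S16705
import Groth.Agent.S14978
import Groth.Agent.S13575
import Groth.Agent.H32.PshFp
-- import your own Groth.Agent.* helpers here

set_option autoImplicit false
universe u
open AlgSt

namespace Groth.Agent.S16705

section aux
open CategoryTheory AlgebraicGeometry CategoryTheory.Limits MonoidalCategory
  CartesianMonoidalCategory MonObj GrpObj Opposite
open Groth.Agent.H32.PshStack Groth.Agent.H32.PshFp
open Groth.Agent.S14978 (basedFunctor_eq_of_secAs secAs_of_eq descF descF_comp descF_unique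
  secAs_congr)
open Groth.Agent.S13575 (eHom eHom_base)

universe w v₂ u₂ v₁ u₁

section general
variable {C : Type u₁} [Category.{v₁} C] {P : Cᵒᵖ ⥤ Type w}

theorem eq_of_iso {𝒜 : BasedCategory.{v₂, u₂} C} {Φ Ψ : 𝒜 ⥤ᵇ Stk.ofPsh P}
    (h : Nonempty (Φ ≅ Ψ)) : Φ = Ψ := by
  obtain ⟨α⟩ := h
  exact basedFunctor_eq_of_secAs _ _ (fun a => secAs_eq_of_natTrans α.hom a)

theorem iso_of_eq {𝒜 : BasedCategory.{v₂, u₂} C} {Φ Ψ : 𝒜 ⥤ᵇ Stk.ofPsh P}
    (h : Φ = Ψ) : Nonempty (Φ ≅ Ψ) := by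
  subst h
  exact ⟨Iso.refl _⟩

end general

variable {S : Scheme.{u}}

theorem ofSpMap_comp {A B C : AlgSp.Sp S} (a : A ⟶ B) (b : B ⟶ C) :
    BasedFunctor.comp (AlgSt.ofSpMap a) (AlgSt.ofSpMap b) = AlgSt.ofSpMap (a ≫ b) := rfl

theorem ofSpMap_injective {A B : AlgSp.Sp S} {a b : A ⟶ B}
    (h : AlgSt.ofSpMap a = AlgSt.ofSpMap b) : a = b := by
  have h1 : pshMapOf (Stk.ofPshMap a.hom) = pshMapOf (Stk.ofPshMap b.hom) := congrArg pshMapOf h
  rw [pshMapOf_ofPshMap, pshMapOf_ofPshMap] at h1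
  exact Sheaf.hom_ext h1

theorem exists_ofSpMap {A B : AlgSp.Sp S} (Φ : AlgSt.ofSp A ⥤ᵇ AlgSt.ofSp B) :
    ∃ ψ : A ⟶ B, Φ = AlgSt.ofSpMap ψ :=
  ⟨ObjectProperty.homMk (pshMapOf Φ), (eq_of_iso (ofPshMap_pshMapOf Φ)).symm⟩

theorem isRepresentable_yon (Z : Over S) : ((AlgSp.yon S).obj Z).obj.IsRepresentable :=
  ⟨⟨Z, ⟨AlgSp.representableByOfIso (Iso.refl _)⟩⟩⟩

variable {G : Over S} [GrpObj G] {X Y : Over S} (aX : AlgGrp.Action G X)

theorem eHom_isHomLift (w : (AlgSt.ofSch (G ⊗ X)).obj) :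
    (AlgSt.QuotObj.forget Scheme.fppfPrecoverage G aX).IsHomLift (𝟙 w.base) (eHom aX w) := by
  have h := IsHomLift.map (AlgSt.QuotObj.forget Scheme.fppfPrecoverage G aX) (eHom aX w)
  have hb : (AlgSt.QuotObj.forget Scheme.fppfPrecoverage G aX).map (eHom aX w) = 𝟙 w.base :=
    eHom_base aX w
  rw [hb] at h
  exact h

theorem invariant_of_factor {F : AlgSp.Sp S}
    (φ : AlgSt.QuotSt Scheme.fppfPrecoverage G aX ⥤ᵇ AlgSt.ofSp F)
    (ψ' : (AlgSp.yon S).obj X ⟶ F)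
    (h : BasedFunctor.comp (AlgSt.quotMap Scheme.fppfPrecoverage G aX) φ = AlgSt.ofSpMap ψ') :
    (AlgSp.yon S).map aX.act ≫ ψ' = (AlgSp.yon S).map (snd G X) ≫ ψ' := by
  apply ofSpMap_injective
  rw [← ofSpMap_comp, ← ofSpMap_comp, ← h]
  refine basedFunctor_eq_of_secAs _ _ (fun w => ?_)
  have hm : (Stk.EltObj.forget F.obj).IsHomLift (𝟙 w.base) (φ.map (eHom aX w)) :=
    (BasedFunctor.isHomLift_iff φ _ _).mpr (eHom_isHomLift aX w)
  exact secAs_eq_of_hom (φ.map (eHom aX w)) hm _ _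

theorem key {F : AlgSp.Sp S} (f : X ⟶ Y)
    (π : AlgSt.QuotSt Scheme.fppfPrecoverage G aX ⥤ᵇ AlgSt.ofSch Y)
    (hπ : BasedFunctor.comp (AlgSt.quotMap Scheme.fppfPrecoverage G aX) π =
      AlgSt.ofSpMap ((AlgSp.yon S).map f))
    (φ : AlgSt.QuotSt Scheme.fppfPrecoverage G aX ⥤ᵇ AlgSt.ofSp F)
    (ψ' : (AlgSp.yon S).obj X ⟶ F)
    (hψ' : BasedFunctor.comp (AlgSt.quotMap Scheme.fppfPrecoverage G aX) φ = AlgSt.ofSpMap ψ')
    (g : (AlgSp.yon S).obj Y ⟶ F) :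
    Nonempty (BasedFunctor.comp π (AlgSt.ofSpMap g) ≅ φ) ↔ (AlgSp.yon S).map f ≫ g = ψ' := by
  have hcomp : BasedFunctor.comp (AlgSt.quotMap Scheme.fppfPrecoverage G aX)
      (BasedFunctor.comp π (AlgSt.ofSpMap g)) = AlgSt.ofSpMap ((AlgSp.yon S).map f ≫ g) := by
    rw [← ofSpMap_comp, ← hπ]
    rfl
  constructor
  · intro hiso
    have h1 := eq_of_iso hiso
    apply ofSpMap_injective
    rw [← hcomp, h1, hψ']
  · intro hg
    have hinv := invariant_of_factor aX φ ψ' hψ'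
    have e1 := descF_unique aX ψ' hinv φ hψ'
    have e2 := descF_unique aX ψ' hinv (BasedFunctor.comp π (AlgSt.ofSpMap g))
      (by rw [hcomp, hg])
    exact iso_of_eq (e2.trans e1.symm)

theorem main_mpr (f : X ⟶ Y)
    (π : AlgSt.QuotSt Scheme.fppfPrecoverage G aX ⥤ᵇ AlgSt.ofSch Y)
    (hπ : BasedFunctor.comp (AlgSt.quotMap Scheme.fppfPrecoverage G aX) π =
      AlgSt.ofSpMap ((AlgSp.yon S).map f))
    (hcq : GIT.IsCatQuot aX f) : AlgSt.IsCatModuliSch π := by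
  obtain ⟨hinv, huniv⟩ := hcq
  refine ⟨isRepresentable_yon Y, fun N hN φ => ?_⟩
  obtain ⟨Z, ⟨r⟩⟩ := Functor.IsRepresentable.has_representation (F := N.obj)
  obtain ⟨θ, -⟩ : ∃ θ : (AlgSp.yon S).obj Z ≅ N, θ = AlgSp.isoOfRepresentableBy r := ⟨_, rfl⟩
  obtain ⟨ψ', hψ'⟩ := exists_ofSpMap
    (BasedFunctor.comp (AlgSt.quotMap Scheme.fppfPrecoverage G aX) φ)
  have hinv' := invariant_of_factor aX φ ψ' hψ'
  obtain ⟨ψ, hψ⟩ := (AlgSp.yon S).map_surjective (ψ' ≫ θ.inv)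
  have hψinv : GIT.IsInvariant aX ψ := by
    apply (AlgSp.yon S).map_injective
    rw [Functor.map_comp, Functor.map_comp, hψ, ← Category.assoc, hinv', Category.assoc]
  obtain ⟨χ, hχ, hχu⟩ := huniv Z ψ hψinv
  refine ⟨(AlgSp.yon S).map χ ≫ θ.hom, (key aX f π hπ φ ψ' hψ' _).2 ?_, fun g' hg' => ?_⟩
  · rw [← Category.assoc, ← Functor.map_comp, hχ, hψ, Category.assoc, Iso.inv_hom_id,
      Category.comp_id]
  · have h1 := (key aX f π hπ φ ψ' hψ' g').1 hg'
    obtain ⟨χ', hχ'⟩ := (AlgSp.yon S).map_surjective (g' ≫ θ.inv)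
    have h2 : f ≫ χ' = ψ := by
      apply (AlgSp.yon S).map_injective
      rw [Functor.map_comp, hχ', ← Category.assoc, h1, hψ]
    have h3 : χ' = χ := hχu χ' h2
    rw [← h3, hχ', Category.assoc, Iso.inv_hom_id, Category.comp_id]

theorem main_mp (f : X ⟶ Y)
    (π : AlgSt.QuotSt Scheme.fppfPrecoverage G aX ⥤ᵇ AlgSt.ofSch Y)
    (hπ : BasedFunctor.comp (AlgSt.quotMap Scheme.fppfPrecoverage G aX) π =
      AlgSt.ofSpMap ((AlgSp.yon S).map f))
    (hcm : AlgSt.IsCatModuliSch π) : GIT.IsCatQuot aX f := by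
  obtain ⟨-, huniv⟩ := hcm
  have hinvf := invariant_of_factor aX π ((AlgSp.yon S).map f) hπ
  refine ⟨?_, fun Z ψ hψ => ?_⟩
  · apply (AlgSp.yon S).map_injective
    rw [Functor.map_comp, Functor.map_comp]
    exact hinvf
  · have hψ0 : aX.act ≫ ψ = snd G X ≫ ψ := hψ
    have hψ' : (AlgSp.yon S).map aX.act ≫ (AlgSp.yon S).map ψ =
        (AlgSp.yon S).map (snd G X) ≫ (AlgSp.yon S).map ψ := by
      rw [← Functor.map_comp, ← Functor.map_comp, hψ0]
    obtain ⟨g, hg, hgu⟩ := huniv ((AlgSp.yon S).obj Z) (isRepresentable_yon Z)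
      (descF aX ((AlgSp.yon S).map ψ) hψ')
    have hk := key aX f π hπ (descF aX ((AlgSp.yon S).map ψ) hψ') ((AlgSp.yon S).map ψ)
      (descF_comp aX _ hψ')
    obtain ⟨χ, hχ⟩ := (AlgSp.yon S).map_surjective g
    refine ⟨χ, ?_, fun χ' hχ' => ?_⟩
    · apply (AlgSp.yon S).map_injective
      rw [Functor.map_comp, hχ]
      exact (hk g).1 hg
    · have h1 := hgu ((AlgSp.yon S).map χ') ((hk _).2 (by rw [← Functor.map_comp, hχ']))
      apply (AlgSp.yon S).map_injective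
      rw [h1, hχ]

end aux

open CategoryTheory AlgebraicGeometry in
/-- Categorical case, schemes as test category: for the quotient stack `[X/G]` of an action of a group
scheme `G` affine, flat and locally of finite presentation over `S`, the morphism `π : [X/G] → Y`
induced by a morphism of schemes `f : X → Y` is a categorical moduli space in schemes if and only if
`f` is a categorical quotient in schemes. (The uniform variants and other test categories are not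
stated.) -/
theorem result (S : Scheme.{u}) (G : Over S) [GrpObj G]
    [IsAffineHom G.hom] [Flat G.hom] [LocallyOfFinitePresentation G.hom]
    (X Y : Over S) (aX : AlgGrp.Action G X) (f : X ⟶ Y)
    (π : AlgSt.QuotSt Scheme.fppfPrecoverage G aX ⥤ᵇ AlgSt.ofSch Y)
    (hπ : Nonempty (BasedFunctor.comp (AlgSt.quotMap Scheme.fppfPrecoverage G aX) π ≅
      AlgSt.ofSpMap ((AlgSp.yon S).map f))) :
    AlgSt.IsCatModuliSch π ↔ GIT.IsCatQuot aX f := by
  have hπ' := eq_of_iso hπ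
  exact ⟨main_mp aX f π hπ', main_mpr aX f π hπ'⟩

end Groth.Agent.S16705
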