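import Groth.Statements.S16721
import Groth.Agent.S16705
import Groth.Agent.H49.Fppf
import Mathlib.AlgebraicGeometry.AlgClosed.Basic
-- import your own Groth.Agent.* helpers here

set_option autoImplicit false
universe u
open CategoryTheory MonoidalCategory CartesianMonoidalCategory AlgebraicGeometry
open AlgSt

namespace Groth.Agent.S16721

section aux
open CategoryTheory.Limits MonObj GrpObj Opposite
open Groth.Agent.H32.PshStack Groth.Agent.H32.PshFp
open Groth.Agent.S14978 (basedFunctor_eq_of_secAs secAs_of_eq descF descF_comp descF_unique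
  secAs_congr tautHom)
open Groth.Agent.S12838 (exists_hom_of_g)
open Groth.Agent.S16705 (eq_of_iso iso_of_eq exists_ofSpMap invariant_of_factor key)

variable {S : Scheme.{u}}

/-- a nonempty scheme locally of finite type over an algebraically closed field has a rational
point. -/
theorem exists_section_of_isAlgClosed {K : Type u} [Field K] [IsAlgClosed K] {Z : Scheme.{u}}
    (f : Z ⟶ Spec (CommRingCat.of K)) [LocallyOfFiniteType f] [Nonempty Z] :
    ∃ s : Spec (CommRingCat.of K) ⟶ Z, s ≫ f = 𝟙 _ := by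
  haveI : JacobsonSpace Z := LocallyOfFiniteType.jacobsonSpace f
  obtain ⟨x, -, hx⟩ := nonempty_inter_closedPoints (X := Z) Set.univ_nonempty
    isOpen_univ.isLocallyClosed
  exact ⟨pointOfClosedPoint f x hx, pointOfClosedPoint_comp f x hx⟩

/-- an fppf-locally trivial scheme over (a copy of) the spectrum of an algebraically closed field has
a section. -/
theorem exists_section_of_loc {Ω : Type u} [Field Ω] [IsAlgClosed Ω] {P B₀ : Scheme.{u}}
    (π : P ⟶ B₀) (e : Spec (CommRingCat.of Ω) ⟶ B₀) [IsIso e]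
    (hloc : NonAbH1.IsLocallyTrivialFor Scheme.fppfPrecoverage (Over.mk π)) :
    ∃ s : Spec (CommRingCat.of Ω) ⟶ P, s ≫ π = e := by
  obtain ⟨R, hR, hsec⟩ := hloc
  obtain ⟨hsurj, hprop⟩ := Groth.Agent.H49.mem_fppfPrecoverage_iff.1 hR
  obtain ⟨T', r, hr, ⟨y, -⟩⟩ := hsurj (e (IsLocalRing.closedPoint Ω))
  obtain ⟨-, hlfp⟩ := hprop hr
  haveI : LocallyOfFinitePresentation r := hlfp
  haveI : Nonempty T' := ⟨y⟩
  haveI : LocallyOfFiniteType (r ≫ inv e) := inferInstance
  obtain ⟨σ, hσ⟩ := exists_section_of_isAlgClosed (r ≫ inv e)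
  obtain ⟨s', hs'⟩ := hsec r hr
  have hs'' : s' ≫ π = r := hs'
  refine ⟨σ ≫ s', ?_⟩
  rw [Category.assoc, hs'']
  have := congrArg (· ≫ e) hσ
  simpa using this

variable {G : Over S} [GrpObj G] {X Y : Over S} (aX : AlgGrp.Action G X)

/-- a morphism of `[X/G]` over an isomorphism is an isomorphism. -/
theorem isIso_of_isIso_base {A B : AlgSt.QuotObj Scheme.fppfPrecoverage G aX} (h : A ⟶ B)
    [IsIso h.base] : IsIso h := by
  haveI : IsIso h.top := h.cart.isIso_fst_of_isIso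
  have e1 : B.act.act ≫ inv h.top = (G ◁ inv h.top) ≫ A.act.act := by
    rw [IsIso.comp_inv_eq, Category.assoc, h.eqv, ← Category.assoc,
      ← MonoidalCategory.whiskerLeft_comp, IsIso.inv_hom_id, MonoidalCategory.whiskerLeft_id,
      Category.id_comp]
  have e2w : inv h.top ≫ A.π = B.π ≫ inv h.base := by
    rw [IsIso.inv_comp_eq, ← Category.assoc, h.cart.w, Category.assoc, IsIso.hom_inv_id,
      Category.comp_id]
  have e2 : IsPullback (inv h.top) B.π A.π (inv h.base) := IsPullback.of_horiz_isIso ⟨e2w⟩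
  have e3 : inv h.top ≫ A.φ = B.φ := by
    rw [IsIso.inv_comp_eq, h.wφ]
  refine ⟨⟨AlgSt.QuotObj.Hom.mk (inv h.base) (inv h.top) e1 e2 e3, ?_, ?_⟩⟩
  · exact AlgSt.QuotObj.hom_ext (IsIso.hom_inv_id h.base) (IsIso.hom_inv_id h.top)
  · exact AlgSt.QuotObj.hom_ext (IsIso.inv_hom_id h.base) (IsIso.inv_hom_id h.top)

/-- the morphism from the trivial torsor attached to a point of the total space. -/
noncomputable def secHom (A : AlgSt.QuotObj Scheme.fppfPrecoverage G aX) {T : Over S}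
    (s : T ⟶ A.P) :
    (AlgSt.quotMap Scheme.fppfPrecoverage G aX).obj (⟨T, ⟨s ≫ A.φ⟩⟩ : (AlgSt.ofSch X).obj) ⟶ A :=
  (AlgSt.quotMap Scheme.fppfPrecoverage G aX).map
    (⟨s, rfl⟩ : (⟨T, ⟨s ≫ A.φ⟩⟩ : (AlgSt.ofSch X).obj) ⟶ ⟨A.P, ⟨A.φ⟩⟩) ≫ tautHom aX A

theorem secHom_base (A : AlgSt.QuotObj Scheme.fppfPrecoverage G aX) {T : Over S}
    (s : T ⟶ A.P) : (secHom aX A s).base = s ≫ A.π := rfl

/-- sections of torsors over geometric points. -/
theorem exists_section_of_fiber {Ω : Type u} [Field Ω] [IsAlgClosed Ω]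
    (t : Spec (CommRingCat.of Ω) ⟶ S) (A : AlgSt.QuotObj Scheme.fppfPrecoverage G aX)
    (hA : A.base = Over.mk t) :
    ∃ s : Over.mk t ⟶ A.P, s ≫ A.π = eqToHom hA.symm := by
  haveI : IsIso ((Over.forget S).map (eqToHom hA.symm)) := inferInstance
  haveI : IsIso (eqToHom hA.symm).left := ‹IsIso ((Over.forget S).map (eqToHom hA.symm))›
  obtain ⟨s₀, hs₀⟩ := exists_section_of_loc (Ω := Ω) A.π.left (eqToHom hA.symm).left A.loc
  have hw : s₀ ≫ A.P.hom = t := by
    rw [← Over.w A.π, ← Category.assoc, hs₀]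
    exact Over.w (eqToHom hA.symm)
  refine ⟨Over.homMk s₀ hw, ?_⟩
  apply Over.OverMorphism.ext
  rw [Over.comp_left]
  exact hs₀

variable (f : X ⟶ Y) (π : AlgSt.QuotSt Scheme.fppfPrecoverage G aX ⥤ᵇ AlgSt.ofSch Y)
  (hπ : BasedFunctor.comp (AlgSt.quotMap Scheme.fppfPrecoverage G aX) π =
    AlgSt.ofSpMap ((AlgSp.yon S).map f))

include hπ in
/-- the section of the image of a trivial torsor. -/
theorem secAs_quotMap {T : Over S} (x₀ : T ⟶ X)
    (h : (π.obj ((AlgSt.quotMap Scheme.fppfPrecoverage G aX).obj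
      (⟨T, ⟨x₀⟩⟩ : (AlgSt.ofSch X).obj))).base = T) :
    secAs (π.obj ((AlgSt.quotMap Scheme.fppfPrecoverage G aX).obj
      (⟨T, ⟨x₀⟩⟩ : (AlgSt.ofSch X).obj))) h = ⟨x₀ ≫ f⟩ := by
  have e2 := secAs_congr hπ (⟨T, ⟨x₀⟩⟩ : (AlgSt.ofSch X).obj)
  have e3 : secAs ((AlgSt.ofSpMap ((AlgSp.yon S).map f)).obj (⟨T, ⟨x₀⟩⟩ : (AlgSt.ofSch X).obj))
      ((AlgSt.ofSpMap ((AlgSp.yon S).map f)).w_obj (⟨T, ⟨x₀⟩⟩ : (AlgSt.ofSch X).obj)) =
      ⟨x₀ ≫ f⟩ :=
    secAs_of_eq _ _ _ rfl
  exact e2.trans e3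

include hπ in
/-- the section of `π` at an object with a section of its torsor. -/
theorem fibSec_eq_of_section (A : AlgSt.QuotObj Scheme.fppfPrecoverage G aX) (T : Over S)
    (hA : A.base = T) (s : T ⟶ A.P) (hs : s ≫ A.π = eqToHom hA.symm) :
    AlgSt.fibSec π (Functor.Fiber.mk hA : (AlgSt.QuotSt Scheme.fppfPrecoverage G aX).p.Fiber T) =
      ⟨(s ≫ A.φ) ≫ f⟩ := by
  have hlift : (AlgSt.QuotObj.forget Scheme.fppfPrecoverage G aX).IsHomLift (𝟙 T)
      (secHom aX A s) := by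
    refine IsHomLift.of_fac' _ _ _ rfl hA ?_
    show (secHom aX A s).base = eqToHom (rfl : T = T) ≫ 𝟙 T ≫ eqToHom hA.symm
    rw [eqToHom_refl, Category.id_comp, Category.id_comp]
    exact (secHom_base aX A s).trans hs
  have hm : (Stk.EltObj.forget ((AlgSp.yon S).obj Y).obj).IsHomLift (𝟙 T)
      (π.map (secHom aX A s)) := (BasedFunctor.isHomLift_iff π _ _).mpr hlift
  have e1 := secAs_eq_of_hom (π.map (secHom aX A s)) hm
    ((π.w_obj _).trans rfl) ((π.w_obj A).trans hA)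
  have e2 := secAs_quotMap aX f π hπ (s ≫ A.φ) ((π.w_obj _).trans rfl)
  exact e1.symm.trans e2

/-- isomorphisms in a fibre from isomorphisms lying over the identity. -/
def fiberIsoMk {𝒳 : Type*} [Category 𝒳] {𝒮 : Type*} [Category 𝒮] {p : 𝒳 ⥤ 𝒮} {T : 𝒮}
    {x y : p.Fiber T} (i : x.1 ≅ y.1) (h : p.IsHomLift (𝟙 T) i.hom) : x ≅ y where
  hom := ⟨i.hom, h⟩
  inv := ⟨i.inv, by haveI := h; exact IsHomLift.lift_id_inv p T i⟩
  hom_inv_id := Subtype.ext i.hom_inv_id
  inv_hom_id := Subtype.ext i.inv_hom_id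

/-- two objects over `T` with sections of their torsors whose images in `X` are translates are
isomorphic in the fibre. -/
theorem exists_fiber_iso (A B : AlgSt.QuotObj Scheme.fppfPrecoverage G aX) (T : Over S)
    (hA : A.base = T) (hB : B.base = T) (sA : T ⟶ A.P) (hsA : sA ≫ A.π = eqToHom hA.symm)
    (sB : T ⟶ B.P) (hsB : sB ≫ B.π = eqToHom hB.symm) (g : T ⟶ G)
    (hg : lift g (sB ≫ B.φ) ≫ aX.act = sA ≫ A.φ) :
    Nonempty ((Functor.Fiber.mk hA : (AlgSt.QuotSt Scheme.fppfPrecoverage G aX).p.Fiber T) ≅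
      Functor.Fiber.mk hB) := by
  obtain ⟨ρ, hρ, -⟩ := exists_hom_of_g aX (a := (⟨T, ⟨sA ≫ A.φ⟩⟩ : (AlgSt.ofSch X).obj))
    (b := (⟨T, ⟨sB ≫ B.φ⟩⟩ : (AlgSt.ofSch X).obj)) (𝟙 T) g
    (by rw [Category.id_comp]; exact hg)
  have hρ' : ρ.base = 𝟙 T := hρ
  have eA : (secHom aX A sA).base = eqToHom hA.symm := (secHom_base aX A sA).trans hsA
  have eB : (secHom aX B sB).base = eqToHom hB.symm := (secHom_base aX B sB).trans hsB
  haveI : IsIso (secHom aX A sA).base := by
    rw [eA]; exact (inferInstance : IsIso (eqToHom hA.symm))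
  haveI : IsIso (secHom aX B sB).base := by
    rw [eB]; exact (inferInstance : IsIso (eqToHom hB.symm))
  haveI : IsIso ρ.base := by
    rw [hρ']; exact (inferInstance : IsIso (𝟙 T))
  haveI := isIso_of_isIso_base aX (secHom aX A sA)
  haveI := isIso_of_isIso_base aX (secHom aX B sB)
  haveI := isIso_of_isIso_base aX ρ
  let i : A ≅ B := (asIso (secHom aX A sA)).symm ≪≫ asIso ρ ≪≫ asIso (secHom aX B sB)
  refine ⟨fiberIsoMk (x := Functor.Fiber.mk hA) (y := Functor.Fiber.mk hB) i ?_⟩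
  refine IsHomLift.of_fac' _ _ _ hA hB ?_
  show (AlgSt.QuotObj.forget Scheme.fppfPrecoverage G aX).map
    (inv (secHom aX A sA) ≫ ρ ≫ secHom aX B sB) = _
  rw [Functor.map_comp, Functor.map_comp, Functor.map_inv]
  show inv (secHom aX A sA).base ≫ ρ.base ≫ (secHom aX B sB).base = _
  have h1 : inv (secHom aX A sA).base = eqToHom hA := by
    apply IsIso.inv_eq_of_hom_inv_id
    rw [eA]
    exact (eqToHom_trans hA.symm hA).trans (eqToHom_refl _ _)
  rw [h1, hρ', eB]
  rfl

end aux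

/-- Let `S` be a scheme, `G` a group scheme over `S` whose structure morphism is affine, flat and
locally of finite presentation, acting on a scheme `X` over `S`, and `f : X ⟶ Y` a `G`-invariant
morphism of schemes over `S`. Assume (i) for every algebraically closed field `Ω` and every `t :
Spec Ω ⟶ S`, every `Ω`-point of `Y` over `t` is the image of an `Ω`-point of `X`, and two `Ω`-points
of `X` over `t` with the same image in `Y` are translates of one another by an `Ω`-point of `G` (the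
geometric fibres of `f` are the orbits of geometric points); (ii) `f` is a categorical quotient in
the category of algebraic spaces over `S`: every `G`-invariant map of fppf sheaves `h_X ⟶ N` to an
algebraic space `N` factors uniquely through `h_Y`. Then the functor `[X/G] ⟶ Y` over `(Sch/S)`
induced by `f` (the one whose composite with `X ⟶ [X/G]` is the functor of `f`) is a coarse moduli
space: `h_Y` is an algebraic space, every functor from `[X/G]` to an algebraic space factors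
uniquely through it, and for every algebraically closed `Ω` it is a bijection from isomorphism
classes of objects of `[X/G]` over `Spec Ω` onto `Y(Spec Ω)`. Here `[X/G]` is the fppf quotient
stack described by `G`-torsors that are schemes with an equivariant map to `X`. Of the source's
hypothesis that `f` is a geometric quotient only the condition (i) on geometric points enters, and
only (i) is assumed. (The published setting has an affine base scheme; this row allows any base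
scheme.) -/
theorem result (S : Scheme.{u}) (G : Over S) [GrpObj G]
    [IsAffineHom G.hom] [Flat G.hom] [LocallyOfFinitePresentation G.hom]
    (X Y : Over S) (aX : AlgGrp.Action G X) (f : X ⟶ Y)
    (hinv : aX.act ≫ f = snd G X ≫ f)
    (horb : ∀ (Ω : Type u) [Field Ω] [IsAlgClosed Ω] (t : Spec (CommRingCat.of Ω) ⟶ S),
      (∀ y : Over.mk t ⟶ Y, ∃ x : Over.mk t ⟶ X, x ≫ f = y) ∧
      (∀ x x' : Over.mk t ⟶ X, x ≫ f = x' ≫ f → ∃ g : Over.mk t ⟶ G, lift g x' ≫ aX.act = x))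
    (hcat : ∀ (N : AlgSp.Space S) (ψ : (AlgSp.yon S).obj X ⟶ N.obj),
      (AlgSp.yon S).map aX.act ≫ ψ = (AlgSp.yon S).map (snd G X) ≫ ψ →
        ∃! χ : (AlgSp.yon S).obj Y ⟶ N.obj, (AlgSp.yon S).map f ≫ χ = ψ)
    (π : AlgSt.QuotSt Scheme.fppfPrecoverage G aX ⥤ᵇ AlgSt.ofSch Y)
    (hπ : Nonempty (BasedFunctor.comp (AlgSt.quotMap Scheme.fppfPrecoverage G aX) π ≅
      AlgSt.ofSpMap ((AlgSp.yon S).map f))) :
    AlgSt.IsCoarseModuli π := by
  have hπ' := Groth.Agent.S16705.eq_of_iso hπ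
  refine ⟨⟨AlgSp.IsAlgSpace.yon_obj Y, fun N hN φ => ?_⟩, fun Ω _ _ t => ⟨fun m => ?_, fun x y hxy => ?_⟩⟩
  · obtain ⟨ψ', hψ'⟩ := Groth.Agent.S16705.exists_ofSpMap
      (BasedFunctor.comp (AlgSt.quotMap Scheme.fppfPrecoverage G aX) φ)
    have hinv' := Groth.Agent.S16705.invariant_of_factor aX φ ψ' hψ'
    obtain ⟨χ, hχ, hχu⟩ := hcat ⟨N, hN⟩ ψ' hinv'
    exact ⟨χ, (Groth.Agent.S16705.key aX f π hπ' φ ψ' hψ' χ).2 hχ,
      fun g' hg' => hχu g' ((Groth.Agent.S16705.key aX f π hπ' φ ψ' hψ' g').1 hg')⟩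
  · obtain ⟨x₀, hx₀⟩ := (horb Ω t).1 m.down
    refine ⟨⟨(AlgSt.quotMap Scheme.fppfPrecoverage G aX).obj
      (⟨Over.mk t, ⟨x₀⟩⟩ : (AlgSt.ofSch X).obj), rfl⟩, ?_⟩
    have e := secAs_quotMap aX f π hπ' x₀ ((π.w_obj _).trans rfl)
    refine e.trans ?_
    exact congrArg ULift.up hx₀
  · obtain ⟨A, hA⟩ := x
    obtain ⟨B, hB⟩ := y
    obtain ⟨sA, hsA⟩ := exists_section_of_fiber aX t A hA
    obtain ⟨sB, hsB⟩ := exists_section_of_fiber aX t B hB
    have eA := fibSec_eq_of_section aX f π hπ' A _ hA sA hsA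
    have eB := fibSec_eq_of_section aX f π hπ' B _ hB sB hsB
    have h1 : (sA ≫ A.φ) ≫ f = (sB ≫ B.φ) ≫ f :=
      congrArg ULift.down (eA.symm.trans (hxy.trans eB))
    obtain ⟨g, hg⟩ := (horb Ω t).2 (sA ≫ A.φ) (sB ≫ B.φ) h1
    exact exists_fiber_iso aX A B _ hA hB sA hsA sB hsB g hg

end Groth.Agent.S16721
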