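import Groth.Statements.S8964
import Mathlib
import Groth.Agent.H66.QFInv1
import Groth.Agent.H66.QFInv3

set_option autoImplicit false
universe u
open TensorProduct
open QFDual

namespace Groth.Agent.S8964

open AlgebraicGeometry CategoryTheory in
/-- an open immersion of affine schemes is a flat epimorphism of rings -/
theorem flat_isEpi_of_isOpenImmersion (B' B : Type u) [CommRing B'] [CommRing B] [Algebra B' B]
    (h : IsOpenImmersion (Spec.map (CommRingCat.ofHom (algebraMap B' B)))) :
    Module.Flat B' B ∧ Algebra.IsEpi B' B := by
  constructor
  · have h1 : Flat (Spec.map (CommRingCat.ofHom (algebraMap B' B))) := inferInstance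
    have h2 : (algebraMap B' B).Flat := AlgebraicGeometry.Flat.SpecMap_iff.mp h1
    exact RingHom.flat_algebraMap_iff.mp h2
  · have hmono : Mono (Spec.map (CommRingCat.ofHom (algebraMap B' B))) := inferInstance
    have h2 : Mono (Scheme.Spec.map (CommRingCat.ofHom (algebraMap B' B)).op) := hmono
    have h3 : Mono (CommRingCat.ofHom (algebraMap B' B)).op := Scheme.Spec.mono_of_mono_map h2
    have hepi : Epi (CommRingCat.ofHom (algebraMap B' B)) :=
      unop_epi_of_mono (CommRingCat.ofHom (algebraMap B' B)).op
    exact CommRingCat.epi_iff_epi.mp hepi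

/-- `Hom_A(B', A)` is a finite `B'`-module for `A` Noetherian and `B'` finite over `A`. -/
theorem finite_omega (A B' : Type u) [CommRing A] [CommRing B'] [Algebra A B'] [IsNoetherianRing A]
    [Module.Finite A B'] : Module.Finite B' (Disc.Omega A B') := by
  letI modA : Module A (Disc.Omega A B') := Module.compHom _ (algebraMap A B')
  have hsm : ∀ (a : A) (φ : Disc.Omega A B'), a • φ = algebraMap A B' a • φ := fun _ _ => rfl
  haveI : IsScalarTower A B' (Disc.Omega A B') := ⟨fun a b φ => by
    show (a • b) • φ = algebraMap A B' a • (b • φ)
    rw [Algebra.smul_def, mul_smul]⟩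
  let ι : Disc.Omega A B' →ₗ[A] (B' →ₗ[A] A) :=
    { toFun := fun φ => φ.toLinearMap
      map_add' := fun _ _ => rfl
      map_smul' := fun a φ => by
        ext x
        show (algebraMap A B' a • φ).toLinearMap x = a • φ.toLinearMap x
        rw [Disc.Omega.smul_toLinearMap_apply, ← Algebra.smul_def, map_smul] }
  have hι : Function.Injective ι := fun φ ψ h => Disc.Omega.ext h
  haveI : IsNoetherian A (Disc.Omega A B') := isNoetherian_of_injective ι hι
  haveI : Module.Finite A (Disc.Omega A B') := inferInstance
  exact Module.Finite.of_restrictScalars_finite A B' (Disc.Omega A B')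


/-- A quasi-finite syntomic map has an invertible relative dualizing module. Let A be a Noetherian ring
and A → B a syntomic ring map (flat, of finite presentation, with fibres local complete
intersections), and suppose it factors through an intermediate ring B', with A → B' a finite map and
the induced morphism Spec B → Spec B' an open immersion, so that A → B is quasi-finite and ω_{B/A} =
B ⊗_{B'} Hom_A(B', A). Then ω_{B/A} is an invertible B-module. (The published statement is for a
locally quasi-finite syntomic morphism of locally Noetherian schemes and the sheaf ω_{Y/X}; this row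
is its form over a pair of affine opens.) -/
theorem result (A B' B : Type u) [CommRing A] [CommRing B'] [CommRing B] [IsNoetherianRing A] [Algebra A B'] [Algebra B' B] [Algebra A B] [IsScalarTower A B' B] (hf : QFDual.IsQFFactor A B' B) (hs : Synt.IsSyntomic A B) : Module.Invertible B (QFDual.omega A B' B) := by
  classical
  haveI : Module.Finite A B' := hf.finite
  obtain ⟨hflat, hepi⟩ := flat_isEpi_of_isOpenImmersion B' B hf.isOpenImmersion
  haveI := hflat
  haveI := hepi
  haveI : Algebra.FinitePresentation A B := hs.2.1
  haveI : IsNoetherianRing B := Algebra.FiniteType.isNoetherianRing A B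
  haveI : Module.Finite B' (Disc.Omega A B') := finite_omega A B'
  haveI : Module.Finite B (QFDual.omega A B' B) := inferInstance
  haveI : Module.FinitePresentation B (QFDual.omega A B' B) :=
    Module.finitePresentation_of_finite B _
  apply Groth.Agent.H66.QFInv1.invertible_of_forall_maximal
  intro q hq
  obtain ⟨Ah, _, _, _, _, hflatA, hcompl, hc, hres⟩ :=
    Groth.Agent.H66.QFInv3.exists_completion A (q.comap (algebraMap A B))
  haveI := hflatA
  haveI := hcompl
  obtain ⟨C, _, _, _, _, _, hflatC, hcomapC, ⟨e⟩⟩ :=
    Groth.Agent.H66.QFInv3.exists_local_cover A B' B Ah hs q hc hres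
  haveI := hflatC
  let e0 : C ⊗[B] (B ⊗[B'] Disc.Omega A B') ≃ₗ[C] C ⊗[B'] Disc.Omega A B' :=
    TensorProduct.AlgebraTensorModule.cancelBaseChange B' B C C (Disc.Omega A B')
  exact Groth.Agent.H66.QFInv1.localization_equiv_of_flat_local q hcomapC (e0 ≪≫ₗ e)

end Groth.Agent.S8964
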