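import Groth.Statements.S3047
import Mathlib
import Groth.Agent.H4.StalkPull2

set_option autoImplicit false
open CategoryTheory CategoryTheory.Limits AlgebraicGeometry Opposite
universe u
open EtDesc

namespace Groth.Agent.S3047

open Groth.Agent.H4 Groth.Agent.S0100 Groth.Agent.S19885

/-- For a surjective morphism of schemes f : X' -> X, the inverse image functor f^* on sheaves of sets
for the small etale sites is faithful and reflects isomorphisms. -/
theorem result {X' X : Scheme.{u}} (f : X' ⟶ X) [Surjective f] :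
    (EtDesc.pullSh f).Faithful ∧ (EtDesc.pullSh f).ReflectsIsomorphisms := by
  constructor
  · constructor
    intro F G a b hab
    apply Sheaf.hom_ext
    apply NatTrans.ext
    funext V
    apply ConcreteCategory.hom_ext
    intro s
    apply eq_of_locally_eq_type G V.unop
    intro v
    obtain ⟨Ω, _, _, ξ, τ, hτ⟩ := exists_point_over f V.unop v
    let Φ := Scheme.pointSmallEtale (ξ ≫ f)
    let Ψ := Scheme.pointSmallEtale ξ
    let iso := stalkPullIso f ξ (Type (u + 1))
    have na := iso.hom.naturality a
    have nb := iso.hom.naturality b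
    have hmap : Φ.presheafFiber.map a.hom = Φ.presheafFiber.map b.hom := by
      show Φ.sheafFiber.map a = Φ.sheafFiber.map b
      rw [← cancel_mono (iso.hom.app G), na, nb]
      show iso.hom.app F ≫ Ψ.sheafFiber.map ((EtDesc.pullSh f).map a) =
        iso.hom.app F ≫ Ψ.sheafFiber.map ((EtDesc.pullSh f).map b)
      rw [hab]
    have e2 : Φ.toPresheafFiber V.unop τ G.obj (a.hom.app V s) =
        Φ.toPresheafFiber V.unop τ G.obj (b.hom.app V s) := by
      have ha : Φ.presheafFiber.map a.hom (Φ.toPresheafFiber V.unop τ F.obj s) =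
          Φ.toPresheafFiber V.unop τ G.obj (a.hom.app V s) := by
        rw [GrothendieckTopology.Point.toPresheafFiber_naturality_apply]
      have hb : Φ.presheafFiber.map b.hom (Φ.toPresheafFiber V.unop τ F.obj s) =
          Φ.toPresheafFiber V.unop τ G.obj (b.hom.app V s) := by
        rw [GrothendieckTopology.Point.toPresheafFiber_naturality_apply]
      rw [← ha, ← hb, hmap]
    obtain ⟨W, k, w, hw, hk⟩ := (Φ.toPresheafFiber_eq_iff' V.unop τ _ _).1 e2
    refine ⟨W, k, w.left.base (default : Spec (CommRingCat.of Ω)), ?_, hk⟩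
    have h1 : w.left ≫ k.left = τ.left := congrArg (fun q => q.left) hw
    exact (congrArg (fun q => q.base (default : Spec (CommRingCat.of Ω))) h1).trans hτ
  · constructor
    intro F G a ha
    have hbij : ∀ (U : X.Etale) (u : U.left), ∃ (Ω : Type u) (_ : Field Ω) (_ : IsSepClosed Ω)
        (ξ' : Spec (CommRingCat.of Ω) ⟶ X) (t : (Scheme.pointSmallEtale ξ').fiber.obj U),
        t.left.base (default : Spec (CommRingCat.of Ω)) = u ∧
          Function.Bijective ((Scheme.pointSmallEtale ξ').presheafFiber.map a.hom) := by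
      intro U u
      obtain ⟨Ω, hΩ, hΩ', ξ, τ, hτ⟩ := exists_point_over f U u
      refine ⟨Ω, hΩ, hΩ', ξ ≫ f, τ, hτ, ?_⟩
      let iso := stalkPullIso f ξ (Type (u + 1))
      have na := iso.hom.naturality a
      haveI h0 : IsIso ((EtDesc.pullSh f ⋙ (Scheme.pointSmallEtale ξ).sheafFiber).map a) := by
        show IsIso ((Scheme.pointSmallEtale ξ).sheafFiber.map ((EtDesc.pullSh f).map a))
        infer_instance
      haveI : IsIso ((Scheme.pointSmallEtale (ξ ≫ f)).sheafFiber.map a ≫ iso.hom.app G) := by
        rw [na]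
        exact IsIso.comp_isIso
      haveI h3 : IsIso ((Scheme.pointSmallEtale (ξ ≫ f)).sheafFiber.map a) :=
        IsIso.of_isIso_comp_right _ (iso.hom.app G)
      exact (isIso_iff_bijective _).1 h3
    refine (Sheaf.isLocallyBijective_iff_isIso (A := Type (u + 1)) a).1 ⟨?_, ?_⟩
    · exact isLocallyInjective_of_stalks' a.hom (fun U u => by
        obtain ⟨Ω, h1, h2, ξ', t, ht, hb⟩ := hbij U u
        exact ⟨Ω, h1, h2, ξ', t, ht, hb.1⟩)
    · exact isLocallySurjective_of_stalks' a.hom (fun U u => by
        obtain ⟨Ω, h1, h2, ξ', t, ht, hb⟩ := hbij U u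
        exact ⟨Ω, h1, h2, ξ', t, ht, hb.2⟩)

end Groth.Agent.S3047
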