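import Groth.Statements.S8542
import Mathlib
import Groth.Agent.H45.EtPullExact

set_option autoImplicit false
universe u
open CategoryTheory CategoryTheory.Limits AlgebraicGeometry Opposite
open EtBC

namespace Groth.Agent.S8542

/-- Naturality of the pullback of global sections in the sheaf. -/
theorem secPull_nat {X Y : Scheme.{u}} (h : Y ⟶ X) {F G : EtDesc.Sh X} (φ : F ⟶ G)
    (s : EtDesc.sect F (EtCoh.top X)) :
    EtDesc.secPull h G (φ.hom.app (op (EtCoh.top X)) s) =
      ((EtDesc.pullSh h).map φ).hom.app (op (EtCoh.top Y)) (EtDesc.secPull h F s) := by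
  have e1 : ((EtDesc.adjSh h).unit.app G).hom.app (op (EtCoh.top X))
        (φ.hom.app (op (EtCoh.top X)) s) =
      ((EtDesc.pullSh h).map φ).hom.app (op ((EtCoh.bc h).obj (EtCoh.top X)))
        (((EtDesc.adjSh h).unit.app F).hom.app (op (EtCoh.top X)) s) :=
    congrArg (fun t : F ⟶ (EtDesc.pushSh h).obj ((EtDesc.pullSh h).obj G) =>
      t.hom.app (op (EtCoh.top X)) s) ((EtDesc.adjSh h).unit.naturality φ)
  unfold EtDesc.secPull
  rw [e1]
  exact (NatTrans.naturality_apply ((EtDesc.pullSh h).map φ).hom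
    (EtCore.bcTopIso h).inv.op _).symm

/-- Inverse image of étale sheaves of sets preserves finite limits. -/
theorem preservesFiniteLimits_pullSh {X Y : Scheme.{u}} (h : Y ⟶ X) :
    PreservesFiniteLimits (EtDesc.pullSh h) := by
  have : ∀ K : (Y.Etale)ᵒᵖ,
      HasExactColimitsOfShape (CostructuredArrow (EtCoh.bc h).op K) (Type (u + 1)) :=
    fun K => Groth.Agent.H45.hasExactColimitsOfShape_costructuredArrow_bc _ h K
  exact Groth.Agent.H45.sheafPullback_preservesFiniteLimits' (EtCoh.bc h) (Type (u + 1)) _ _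

/-- A monomorphism of sheaves of sets is injective on sections. -/
theorem injective_of_mono {X : Scheme.{u}} {F G : EtDesc.Sh X} (u : F ⟶ G) [Mono u] (U : X.Etale) :
    Function.Injective (u.hom.app (op U)) := by
  let E : EtDesc.Sh X ⥤ Type (u + 1) :=
    sheafToPresheaf X.smallEtaleTopology (Type (u + 1)) ⋙ (evaluation _ _).obj (op U)
  haveI : Mono (E.map u) := inferInstance
  exact (mono_iff_injective (E.map u)).1 inferInstance

/-- Let h : Y → X be a morphism of quasi-compact quasi-separated schemes such that for every sheaf of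
sets F on the small etale site of X the pullback map Γ(X, F) → Γ(Y, h^*F) is injective. Let u : F →
G be a monomorphism of sheaves of sets on X and ξ ∈ Γ(Y, h^*F) a section whose image in Γ(Y, h^*G)
lies in the image of Γ(X, G). Then ξ lies in the image of Γ(X, F). -/
theorem result {X Y : Scheme.{u}} [CompactSpace X] [QuasiSeparatedSpace X]
    [CompactSpace Y] [QuasiSeparatedSpace Y] (h : Y ⟶ X)
    (hinj : ∀ F : EtDesc.Sh X, Function.Injective (EtDesc.secPull h F))
    {F G : EtDesc.Sh X} (u : F ⟶ G) [Mono u] (ξ : EtDesc.sect ((EtDesc.pullSh h).obj F) (EtCoh.top Y))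
    (hξ : ((EtDesc.pullSh h).map u).hom.app (op (EtCoh.top Y)) ξ ∈ Set.range (EtDesc.secPull h G)) :
    ξ ∈ Set.range (EtDesc.secPull h F) := by
  obtain ⟨g₀, hg₀⟩ := hξ
  haveI : EssentiallySmall.{u + 1} X.Etale := inferInstance
  haveI : HasSubobjectClassifier (EtDesc.Sh X) := inferInstance
  haveI : IsRegularMonoCategory (EtDesc.Sh X) := inferInstance
  let r : RegularMono u := regularMonoOfMono u
  have hw : u ≫ r.left = u ≫ r.right := r.w
  have key : r.left.hom.app (op (EtCoh.top X)) g₀ = r.right.hom.app (op (EtCoh.top X)) g₀ := by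
    apply hinj r.Z
    rw [secPull_nat, secPull_nat, hg₀]
    have e : ((EtDesc.pullSh h).map u ≫ (EtDesc.pullSh h).map r.left) =
        ((EtDesc.pullSh h).map u ≫ (EtDesc.pullSh h).map r.right) := by
      rw [← Functor.map_comp, ← Functor.map_comp, hw]
    exact congrArg (fun t : (EtDesc.pullSh h).obj F ⟶ (EtDesc.pullSh h).obj r.Z =>
      t.hom.app (op (EtCoh.top Y)) ξ) e
  let E : EtDesc.Sh X ⥤ Type (u + 1) :=
    sheafToPresheaf X.smallEtaleTopology (Type (u + 1)) ⋙
      (evaluation _ _).obj (op (EtCoh.top X))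
  have hl := isLimitForkMapOfIsLimit E r.w r.isLimit
  obtain ⟨φ₀, hφ₀, -⟩ := Types.unique_of_type_equalizer _ _ hl g₀ key
  have hφ : u.hom.app (op (EtCoh.top X)) φ₀ = g₀ := hφ₀
  haveI := preservesFiniteLimits_pullSh h
  haveI : Mono ((EtDesc.pullSh h).map u) := inferInstance
  refine ⟨φ₀, injective_of_mono ((EtDesc.pullSh h).map u) (EtCoh.top Y) ?_⟩
  rw [← secPull_nat, hφ, hg₀]

end Groth.Agent.S8542
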