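import Groth.Statements.S0460
import Groth.Agent.H42.CohTopLocal

set_option autoImplicit false
universe u
open CategoryTheory
open CohTop

namespace Groth.Agent.S0460

open TopologicalSpace in
/-- Given an abelian sheaf F, an open U and a class ξ in H^(n+1)(U, F), there is an open covering of U
on each member of which ξ restricts to zero. -/
theorem result {X : TopCat.{u}} (F : CohTop.Ab X) (U : Opens X) (n : ℕ)
    (ξ : CohTop.HU F (n + 1) U) :
    ∃ (ι : Type u) (V : ι → Opens X) (hV : ∀ i, V i ≤ U), iSup V = U ∧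
      ∀ i, CohTop.res F (n + 1) (hV i) ξ = 0 := by
  let R : InjectiveResolution F := injectiveResolution F
  obtain ⟨s, hs, hξ⟩ := R.extMk_surjective
    (ξ : CategoryTheory.Abelian.Ext ((Groth.Agent.H42.CohTopLib.Zf X).obj U) F (n + 1)) (n + 2) rfl
  have hex := R.exact_succ n
  choose V hV hxV g hg using fun x : {x : X // x ∈ U} =>
    Groth.Agent.H42.CohTopLib.exists_local_lift hex s hs x.1 x.2
  refine ⟨{x : X // x ∈ U}, V, hV, ?_, ?_⟩
  · apply le_antisymm
    · exact iSup_le hV
    · intro x hx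
      exact Opens.mem_iSup.2 ⟨⟨x, hx⟩, hxV ⟨x, hx⟩⟩
  · intro i
    rw [← hξ]
    change (CategoryTheory.Abelian.Ext.mk₀ ((Groth.Agent.H42.CohTopLib.Zf X).map (homOfLE (hV i)))).comp
      (R.extMk s (n + 2) rfl hs) (zero_add (n + 1)) = 0
    rw [InjectiveResolution.mk₀_comp_extMk, R.extMk_eq_zero_iff _ _ _ _ n rfl]
    exact ⟨g i, hg i⟩

end Groth.Agent.S0460
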