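import Groth.Statements.S0415
import Groth.Agent.H3.UnivHomeo
import Mathlib.AlgebraicGeometry.Morphisms.Integral

set_option autoImplicit false
universe u
open FlatMor

namespace Groth.Agent.S0415

open AlgebraicGeometry CategoryTheory Limits in
/-- A morphism of schemes is a universal homeomorphism if and only if it is integral, universally
injective and surjective. -/
theorem result {X Y : Scheme.{u}} (f : X ⟶ Y) :
    FlatMor.IsUnivHomeo f ↔ IsIntegralHom f ∧ UniversallyInjective f ∧ Surjective f := by
  constructor
  · intro hf
    have hhomeo : IsHomeomorph f := hf _ _ _ IsPullback.of_id_snd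
    have h1 : UniversallyInjective f := by
      rw [universallyInjective_eq]
      refine MorphismProperty.universally_mono ?_ _ hf
      intro X Y f hf
      exact hf.injective
    have h2 : UniversallyClosed f := by
      rw [universallyClosed_eq]
      refine MorphismProperty.universally_mono ?_ _ hf
      intro X Y f hf
      exact hf.isClosedMap
    have h3 : IsAffineHom f := by
      apply isAffineHom_of_isInducing
      · exact hhomeo.isInducing
      · rw [hhomeo.surjective.range_eq]
        exact isClosed_univ
    refine ⟨IsIntegralHom.iff_universallyClosed_and_isAffineHom.mpr ⟨h2, h3⟩, h1, ⟨hhomeo.surjective⟩⟩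
  · rintro ⟨h1, h2, h3⟩
    intro X' Y' i₁ i₂ f' sq
    have hc : UniversallyClosed f' := MorphismProperty.of_isPullback sq.flip inferInstance
    have hi : UniversallyInjective f' := MorphismProperty.of_isPullback sq.flip h2
    have hs : Surjective f' := MorphismProperty.of_isPullback sq.flip h3
    change IsHomeomorph f'
    rw [isHomeomorph_iff_continuous_isClosedMap_bijective]
    exact ⟨f'.continuous, f'.isClosedMap, f'.injective, f'.surjective⟩

end Groth.Agent.S0415
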