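import Groth.Statements.S13837
import Groth.Agent.H69.UHomeo2

set_option autoImplicit false
universe u
open AlgebraicGeometry
open scoped TensorProduct
open HTop

namespace Groth.Agent.S13837


open Groth.Agent

section
variable (A B : Type u) [CommRing A] [CommRing B] [Algebra A B]

/-- The equaliser of `B ⇉ (B ⊗_A B)_red`. -/
noncomputable def E : Subalgebra A B :=
  AlgHom.equalizer
    ((Ideal.Quotient.mkₐ A (nilradical (B ⊗[A] B))).comp Algebra.TensorProduct.includeLeft)
    ((Ideal.Quotient.mkₐ A (nilradical (B ⊗[A] B))).comp Algebra.TensorProduct.includeRight)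

theorem mem_E (b : B) :
    b ∈ E A B ↔ IsNilpotent (b ⊗ₜ[A] (1 : B) - (1 : B) ⊗ₜ[A] b) := by
  rw [E, AlgHom.mem_equalizer]
  simp only [AlgHom.comp_apply, Ideal.Quotient.mkₐ_eq_mk, Algebra.TensorProduct.includeLeft_apply,
    Algebra.TensorProduct.includeRight_apply]
  rw [Ideal.Quotient.eq, mem_nilradical]

theorem ext_of_mem_E [Algebra.IsIntegral A B] {L : Type u} [Field L] (φ₁ φ₂ : E A B →+* L)
    (h : φ₁.comp (algebraMap A (E A B)) = φ₂.comp (algebraMap A (E A B))) : φ₁ = φ₂ := by
  haveI : Algebra.IsIntegral (E A B) B := Algebra.IsIntegral.tower_top A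
  have hk : ∀ φ : E A B →+* AlgebraicClosure L,
      RingHom.ker (algebraMap (E A B) B) ≤ RingHom.ker φ := by
    intro φ e he
    have h0 : (e : B) = 0 := RingHom.mem_ker.mp he
    have : e = 0 := Subtype.val_injective h0
    rw [this]
    exact Ideal.zero_mem _
  obtain ⟨ψ₁, hψ₁⟩ := H69.exists_ringHom_extension_algClosed
    ((algebraMap L (AlgebraicClosure L)).comp φ₁) (hk _)
  obtain ⟨ψ₂, hψ₂⟩ := H69.exists_ringHom_extension_algClosed
    ((algebraMap L (AlgebraicClosure L)).comp φ₂) (hk _)
  have a1 : ∀ e : E A B, ψ₁ (e : B) = algebraMap L (AlgebraicClosure L) (φ₁ e) :=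
    fun e => congrArg (fun f => f e) hψ₁
  have a2 : ∀ e : E A B, ψ₂ (e : B) = algebraMap L (AlgebraicClosure L) (φ₂ e) :=
    fun e => congrArg (fun f => f e) hψ₂
  letI : Algebra A (AlgebraicClosure L) := (ψ₁.comp (algebraMap A B)).toAlgebra
  have hcomm2 : ∀ a : A, ψ₂ (algebraMap A B a) = algebraMap A (AlgebraicClosure L) a := by
    intro a
    show ψ₂ (algebraMap A B a) = ψ₁ (algebraMap A B a)
    have e1 : algebraMap A B a = ((algebraMap A (E A B) a : E A B) : B) := rfl
    rw [e1, a1, a2]
    exact congrArg _ (congrArg (fun f => f a) h).symm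
  let ψ₁' : B →ₐ[A] AlgebraicClosure L := { ψ₁ with commutes' := fun a => rfl }
  let ψ₂' : B →ₐ[A] AlgebraicClosure L := { ψ₂ with commutes' := hcomm2 }
  ext e
  have hn : IsNilpotent ((e : B) ⊗ₜ[A] (1 : B) - (1 : B) ⊗ₜ[A] (e : B)) := (mem_E A B e).mp e.2
  have hn' := hn.map (Algebra.TensorProduct.productMap ψ₁' ψ₂')
  have h0 : Algebra.TensorProduct.productMap ψ₁' ψ₂'
      ((e : B) ⊗ₜ[A] (1 : B) - (1 : B) ⊗ₜ[A] (e : B)) = ψ₁ e - ψ₂ e := by
    rw [map_sub, Algebra.TensorProduct.productMap_apply_tmul,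
      Algebra.TensorProduct.productMap_apply_tmul, map_one, map_one, mul_one, one_mul]
    rfl
  rw [h0] at hn'
  have h00 := hn'.eq_zero
  have : algebraMap L (AlgebraicClosure L) (φ₁ e) = algebraMap L (AlgebraicClosure L) (φ₂ e) := by
    rw [← a1, ← a2]
    exact sub_eq_zero.mp h00
  exact (algebraMap L (AlgebraicClosure L)).injective this

end

/-- Let A ⊆ B be an integral ring extension where A and B have finitely many minimal prime ideals; then
the weak normalization of A in B is the equaliser of the two maps B ⇉ (B ⊗_A B)_red: the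
A-subalgebra E of elements b with b ⊗ 1 − 1 ⊗ b nilpotent in B ⊗_A B has Spec E → Spec A a universal
homeomorphism, and every A-subalgebra C of B with Spec C → Spec A a universal homeomorphism is
contained in E. -/
theorem result (A B : Type u) [CommRing A] [CommRing B] [Algebra A B] (hinj : Function.Injective (algebraMap A B))
    [Algebra.IsIntegral A B] (hA : (minimalPrimes A).Finite) (hB : (minimalPrimes B).Finite) :
    ∃ E : Subalgebra A B, (∀ b : B, b ∈ E ↔ IsNilpotent (b ⊗ₜ[A] (1 : B) - (1 : B) ⊗ₜ[A] b)) ∧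
      FlatMor.IsUnivHomeo (Spec.map (CommRingCat.ofHom (algebraMap A E))) ∧
      ∀ C : Subalgebra A B, FlatMor.IsUnivHomeo (Spec.map (CommRingCat.ofHom (algebraMap A C))) → C ≤ E := by
  refine ⟨E A B, mem_E A B, ?_, ?_⟩
  · haveI : Algebra.IsIntegral A (E A B) :=
      Algebra.IsIntegral.of_injective (E A B).val Subtype.val_injective
    refine H69.isUnivHomeo_Spec_of_integral_of_ringHom_ext (algebraMap A (E A B))
      (algebraMap_isIntegral_iff.mpr inferInstance) ?_ (fun L _ f g h => ext_of_mem_E A B f g h)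
    intro a b hab
    exact hinj (congrArg Subtype.val hab)
  · intro C hC c hc
    rw [mem_E, nilpotent_iff_mem_prime]
    intro P hP
    have hui := H69.universallyInjective_of_isUnivHomeo _ hC
    have key := H69.ringHom_ext_of_universallyInjective_Spec (algebraMap A C) hui
      ((algebraMap (B ⊗[A] B) P.ResidueField).comp
        ((Algebra.TensorProduct.includeLeft : B →ₐ[A] B ⊗[A] B).toRingHom.comp (C.val : C →+* B)))
      ((algebraMap (B ⊗[A] B) P.ResidueField).comp
        ((Algebra.TensorProduct.includeRight : B →ₐ[A] B ⊗[A] B).toRingHom.comp (C.val : C →+* B)))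
      (by
        ext a
        simp only [RingHom.comp_apply]
        congr 1
        exact ((Algebra.TensorProduct.includeLeft : B →ₐ[A] B ⊗[A] B).commutes a).trans
          ((Algebra.TensorProduct.includeRight : B →ₐ[A] B ⊗[A] B).commutes a).symm)
    have h1 := congrArg (fun f => f ⟨c, hc⟩) key
    simp only [RingHom.comp_apply] at h1
    have h2 : algebraMap (B ⊗[A] B) P.ResidueField (c ⊗ₜ[A] (1 : B) - (1 : B) ⊗ₜ[A] c) = 0 := by
      rw [map_sub, sub_eq_zero]
      exact h1
    exact Ideal.algebraMap_residueField_eq_zero.mp h2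

end Groth.Agent.S13837
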