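import Groth.Statements.S13811
import Groth.Agent.H69.EtaPtN

set_option autoImplicit false
universe u
open EtaPt

namespace Groth.Agent.S13811

/-- If f : A → B is an integral ring map with N_η(f) bijective, then every ring map from A to a
valuation ring R at whose fraction field η is bijective factors through f. Here η is a natural
transformation from the identity of the category of fields to an endofunctor F with F(η_K) bijective
and η_K purely inseparable for every field K, N_η(A) is the product of the F(k(p)) over the primes p
of A with diagonal map t_A, and M_η(A) ⊆ N_η(A) is the subring of elements sent into the range of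
t_R by every ring map from A to a valuation ring R at whose fraction field η is bijective; q_A : A →
M_η(A) is the corestriction of t_A. -/
theorem result (η : EtaPt.FieldEndo.{u}) {A B : Type u} [CommRing A] [CommRing B] (f : A →+* B)
    (hf : f.IsIntegral) (hN : Function.Bijective (η.Nmap f))
    (R : Type u) [CommRing R] [IsDomain R] [ValuationRing R] (hR : η.InV R) (g : A →+* R) :
    ∃ g' : B →+* R, g'.comp f = g := by
  classical
  have hι : Function.Injective (algebraMap R (FractionRing R)) :=
    IsFractionRing.injective R (FractionRing R)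
  have hpprime : (RingHom.ker g).IsPrime := RingHom.ker_isPrime g
  obtain ⟨q, hq⟩ := Groth.Agent.H69.comap_surjective_of_Nmap_injective η f hN.1
    ⟨RingHom.ker g, hpprime⟩
  have hpker : (PrimeSpectrum.comap f q).asIdeal = RingHom.ker g :=
    congrArg PrimeSpectrum.asIdeal hq
  have hρsurj := Groth.Agent.H69.map_residue_surjective_of_Nmap_surjective η f hN.2 q
  set p : PrimeSpectrum A := PrimeSpectrum.comap f q with hpdef
  set ρ : p.asIdeal.ResidueField →+* q.asIdeal.ResidueField :=
    Ideal.ResidueField.map p.asIdeal q.asIdeal f rfl with hρdef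
  have hf₁ : p.asIdeal ≤ RingHom.ker ((algebraMap R (FractionRing R)).comp g) := by
    intro a ha
    rw [hpker, RingHom.mem_ker] at ha
    rw [RingHom.mem_ker, RingHom.comp_apply, ha, map_zero]
  have hf₂ : p.asIdeal.primeCompl ≤
      (IsUnit.submonoid (FractionRing R)).comap ((algebraMap R (FractionRing R)).comp g) := by
    intro a ha
    rw [Submonoid.mem_comap, IsUnit.mem_submonoid_iff, isUnit_iff_ne_zero, RingHom.comp_apply]
    intro h0
    apply ha
    show a ∈ p.asIdeal
    rw [hpker, RingHom.mem_ker]
    exact hι (by rw [h0, map_zero])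
  let gbar : p.asIdeal.ResidueField →+* FractionRing R :=
    Ideal.ResidueField.lift p.asIdeal ((algebraMap R (FractionRing R)).comp g) hf₁ hf₂
  have hgbar : ∀ a, gbar (algebraMap A _ a) = algebraMap R (FractionRing R) (g a) :=
    fun a => Ideal.ResidueField.lift_algebraMap _ _ hf₁ hf₂ a
  let eL : FractionRing R ≃+* η.obj (FractionRing R) := RingEquiv.ofBijective (η.eta _) hR
  let eρ : η.obj p.asIdeal.ResidueField ≃+* η.obj q.asIdeal.ResidueField :=
    RingEquiv.ofBijective (η.map ρ) ⟨(η.map ρ).injective, hρsurj⟩
  let θ : q.asIdeal.ResidueField →+* FractionRing R :=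
    (eL.symm : η.obj (FractionRing R) →+* FractionRing R).comp
      ((η.map gbar).comp ((eρ.symm : η.obj q.asIdeal.ResidueField →+*
        η.obj p.asIdeal.ResidueField).comp (η.eta q.asIdeal.ResidueField)))
  have hθ : ∀ c : p.asIdeal.ResidueField, θ (ρ c) = gbar c := by
    intro c
    show eL.symm (η.map gbar (eρ.symm (η.eta _ (ρ c)))) = gbar c
    rw [← Groth.Agent.H69.map_eta_apply η ρ c]
    have h1 : eρ.symm (η.map ρ (η.eta _ c)) = η.eta _ c := eρ.symm_apply_apply _
    rw [h1, Groth.Agent.H69.map_eta_apply]
    exact eL.symm_apply_apply _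
  let h : B →+* FractionRing R := θ.comp (algebraMap B q.asIdeal.ResidueField)
  have hhf : ∀ a, h (f a) = algebraMap R (FractionRing R) (g a) := by
    intro a
    show θ (algebraMap B _ (f a)) = _
    rw [← Ideal.ResidueField.map_algebraMap p.asIdeal q.asIdeal f rfl a, hθ, hgbar]
  have hmem : ∀ b, h b ∈ (algebraMap R (FractionRing R)).range := by
    intro b
    obtain ⟨P, hP, hPb⟩ := hf b
    have hint : IsIntegral R (h b) := by
      refine ⟨P.map g, hP.map g, ?_⟩
      rw [Polynomial.eval₂_map]
      have h2 : (algebraMap R (FractionRing R)).comp g = h.comp f := by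
        ext a; exact (hhf a).symm
      rw [h2, ← Polynomial.hom_eval₂, hPb, map_zero]
    obtain ⟨r, hr⟩ := IsIntegrallyClosed.isIntegral_iff.mp hint
    exact ⟨r, hr⟩
  obtain ⟨g', hg'⟩ := Groth.Agent.H69.exists_factor_of_injective _ hι h hmem
  refine ⟨g', ?_⟩
  ext a
  apply hι
  have h3 := congrArg (fun k => k (f a)) (congrArg DFunLike.coe hg')
  simp only [RingHom.comp_apply] at h3
  rw [RingHom.comp_apply, h3, hhf]

end Groth.Agent.S13811
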