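import Groth.Statements.S10270
import Groth.Agent.H51.AffineMor

set_option autoImplicit false
universe u
open CategoryTheory CategoryTheory.Limits AlgebraicGeometry
open AlgSp

namespace Groth.Agent.S10270

/-- A morphism of algebraic spaces is integral if and only if it is affine and universally closed. -/
theorem result {S : Scheme.{u}} {X Y : AlgSp.Space S} (f : X ⟶ Y) :
    AlgSp.IsIntegralMor f.hom ↔ (AlgSp.IsAffineMor f.hom ∧ AlgSp.IsUnivClosedMor f.hom) := by
  constructor
  · intro hint
    refine ⟨fun Z hZ g => ?_, Groth.Agent.H51.isUnivClosedMor_of_isIntegralMor f.hom hint⟩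
    obtain ⟨W, i, fst, sq, hW, -⟩ := hint hZ g
    exact ⟨W, i, fst, sq, hW⟩
  · rintro ⟨haff, huc⟩ Z hZ g
    obtain ⟨W, i, fst, sq, hW⟩ := haff hZ g
    refine ⟨W, i, fst, sq, hW, ?_⟩
    have : IsAffine Z.left := hZ
    have : IsAffine W.left := hW
    have h1 : AlgSp.IsUnivClosedMor ((AlgSp.yon S).map i) :=
      Groth.Agent.H51.univSp_of_isPullback _ sq huc
    have h2 : UniversallyClosed i.left :=
      Groth.Agent.H51.universallyClosed_of_isUnivClosedMor_yon_map i h1
    exact IsIntegralHom.iff_universallyClosed_and_isAffineHom.2 ⟨h2, inferInstance⟩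

end Groth.Agent.S10270
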