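import Groth.Statements.S8992
-- import your own Groth.Agent.* helpers here

set_option autoImplicit false
universe u
open HTop

namespace Groth.Agent.S8992

/-- An algebra over the prime field with p elements is absolutely weakly normal if and only if its p-th
power map is bijective (the algebra is perfect). -/
theorem result (p : ℕ) [Fact p.Prime] (A : Type u) [CommRing A] [Algebra (ZMod p) A] : HTop.IsAWNRing A ↔ PerfectRing A p := by
  have hpp : p.Prime := Fact.out
  have hp0 : (p : A) = 0 := by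
    rw [← map_natCast (algebraMap (ZMod p) A) p, ZMod.natCast_self, map_zero]
  have hpne : p ≠ 0 := hpp.ne_zero
  constructor
  · rintro ⟨-, h⟩
    have h' := h p hpp
    refine ⟨⟨?_, ?_⟩⟩
    · intro a b hab
      simp only at hab
      have hx : (p : A) ^ p * (a ^ p) = (0 : A) ^ p := by
        rw [hp0, zero_pow hpne, zero_mul]
      obtain ⟨c, -, hc⟩ := h' (a ^ p) 0 hx
      have ha := hc a ⟨rfl, by rw [hp0, zero_mul]⟩
      have hb := hc b ⟨hab, by rw [hp0, zero_mul]⟩
      rw [ha, hb]
    · intro x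
      have hx : (p : A) ^ p * x = (0 : A) ^ p := by
        rw [hp0, zero_pow hpne, zero_mul]
      obtain ⟨a, ⟨ha, -⟩, -⟩ := h' x 0 hx
      exact ⟨a, ha.symm⟩
  · rintro ⟨hinj, hsurj⟩
    have hinj' : ∀ a b : A, a ^ p = b ^ p → a = b := fun a b h => hinj h
    obtain ⟨i, j, hij⟩ : ∃ i j : ℕ, 2 * i + 3 * j = p := by
      have := hpp.two_le
      exact ⟨(p - 3 * (p % 2)) / 2, p % 2, by omega⟩
    refine ⟨?_, ?_⟩
    · intro x y hxy
      obtain ⟨a, ha⟩ := hsurj (x ^ i * y ^ j)
      simp only at ha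
      have h2 : a ^ 2 = x := by
        apply hinj'
        calc (a ^ 2) ^ p = (a ^ p) ^ 2 := by ring
          _ = x ^ (2 * i) * (y ^ 2) ^ j := by rw [ha]; ring
          _ = x ^ (2 * i) * (x ^ 3) ^ j := by rw [hxy]
          _ = x ^ (2 * i + 3 * j) := by ring
          _ = x ^ p := by rw [hij]
      have h3 : a ^ 3 = y := by
        apply hinj'
        calc (a ^ 3) ^ p = (a ^ p) ^ 3 := by ring
          _ = (x ^ 3) ^ i * y ^ (3 * j) := by rw [ha]; ring
          _ = (y ^ 2) ^ i * y ^ (3 * j) := by rw [hxy]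
          _ = y ^ (2 * i + 3 * j) := by ring
          _ = y ^ p := by rw [hij]
      refine ⟨a, ⟨h2.symm, h3.symm⟩, ?_⟩
      rintro b ⟨hb2, hb3⟩
      apply hinj'
      calc b ^ p = b ^ (2 * i + 3 * j) := by rw [hij]
        _ = (b ^ 2) ^ i * (b ^ 3) ^ j := by ring
        _ = (a ^ 2) ^ i * (a ^ 3) ^ j := by rw [← hb2, ← hb3, h2, h3]
        _ = a ^ (2 * i + 3 * j) := by ring
        _ = a ^ p := by rw [hij]
    · intro q hq x y hxy
      by_cases hqp : q = p
      · subst hqp
        rw [hp0, zero_pow hpne, zero_mul] at hxy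
        have hy : y = 0 := by
          apply hinj'
          rw [← hxy, zero_pow hpne]
        obtain ⟨a, ha⟩ := hsurj x
        simp only at ha
        refine ⟨a, ⟨ha.symm, by rw [hy, hp0, zero_mul]⟩, ?_⟩
        rintro b ⟨hb, -⟩
        apply hinj'
        rw [← hb, ha]
      · have hcop : Nat.Coprime q p := (Nat.coprime_primes hq hpp).2 hqp
        have hu : IsUnit (q : A) := by
          have := ((ZMod.isUnit_iff_coprime q p).2 hcop).map (algebraMap (ZMod p) A)
          rwa [map_natCast] at this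
        obtain ⟨u, hu⟩ := hu
        refine ⟨(↑u⁻¹ : A) * y, ⟨?_, ?_⟩, ?_⟩
        · rw [mul_pow, ← hxy, ← hu, ← mul_assoc, ← mul_pow, Units.inv_mul, one_pow, one_mul]
        · rw [← hu, ← mul_assoc, Units.mul_inv, one_mul]
        · rintro b ⟨-, hb⟩
          rw [hb, ← hu, ← mul_assoc, Units.inv_mul, one_mul]

end Groth.Agent.S8992
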