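import Groth.Statements.S7400
import Groth.Agent.H69.SNTower

set_option autoImplicit false
universe u
open CategoryTheory AlgebraicGeometry
open Mor

namespace Groth.Agent.S7400


open Groth.Agent.H69 in
theorem hex_sn {A B : Type u} [CommRing A] [CommRing B] [Algebra A B]
    (hU : RingUH (algebraMap A B)) (hres : ResTriv (algebraMap A B))
    (S : Subalgebra A B) (hS : S ≠ ⊤) :
    ∃ b, b ∉ S ∧ StepSN S b := by
  have hχ : Function.Injective (S.val.toRingHom) := Subtype.val_injective
  have hcomp : (S.val.toRingHom).comp (algebraMap A S) = algebraMap A B := by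
    ext a; rfl
  have hUS : RingUH (S.val.toRingHom) := (RingUH.of_comp _ _ hχ (by rw [hcomp]; exact hU)).2
  have hresS : ResTriv (S.val.toRingHom) :=
    (ResTriv.of_comp _ _ hUS.bij.2 (by rw [hcomp]; exact hres)).2
  have hns : ¬ Function.Surjective (S.val.toRingHom) := by
    intro hs
    apply hS
    rw [eq_top_iff]
    intro b _
    obtain ⟨s, hs⟩ := hs b
    exact hs ▸ s.2
  have hmem : ∀ b : B, b ∈ (S.val.toRingHom).range ↔ b ∈ S := by
    intro b
    constructor
    · rintro ⟨s, rfl⟩; exact s.2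
    · intro hb; exact ⟨⟨b, hb⟩, rfl⟩
  obtain ⟨b, hb, h2, h3⟩ := exists_sq_cube_of_ringUH_resTriv _ hχ hns hUS hresS
  exact ⟨b, fun h => hb ((hmem b).mpr h), ⟨(hmem _).mp h2, (hmem _).mp h3⟩⟩

/-- Let `A ⊆ B` be a ring extension. The morphism `Spec B → Spec A` is a universal homeomorphism with
all residue field extensions trivial exactly when each finite subset of `B` is contained in some
`A[b_1, …, b_n] ⊆ B` such that `b_i^2` and `b_i^3` lie in `A[b_1, …, b_{i-1}]` for every `i`. (Here
`A → B` is an injective ring map and `A[b_1, …, b_{i-1}]` is the `A`-subalgebra generated by the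
earlier entries.) -/
theorem result {A B : Type u} [CommRing A] [CommRing B] [Algebra A B]
    (hinj : Function.Injective (algebraMap A B)) :
    (FlatMor.IsUnivHomeo (Spec.map (CommRingCat.ofHom (algebraMap A B))) ∧
      ∀ x : Spec (CommRingCat.of B),
        Function.Surjective ((Spec.map (CommRingCat.ofHom (algebraMap A B))).residueFieldMap x)) ↔
    ∀ E : Finset B, ∃ l : List B, (↑E : Set B) ⊆ Algebra.adjoin A {b : B | b ∈ l} ∧
      ∀ i : Fin l.length, l.get i ^ 2 ∈ Algebra.adjoin A {b : B | ∃ j : Fin l.length, j < i ∧ b = l.get j} ∧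
        l.get i ^ 3 ∈ Algebra.adjoin A {b : B | ∃ j : Fin l.length, j < i ∧ b = l.get j} := by
  constructor
  · rintro ⟨hU, hres⟩ E
    have hR := Groth.Agent.H69.ringUH_of_isUnivHomeo _ hU
    have hres' := (Groth.Agent.H69.resTriv_iff _).mp hres
    have htop := Groth.Agent.H69.towerAlg_eq_top (Groth.Agent.H69.StepSN (A := A) (B := B))
      Groth.Agent.H69.stepSN_mono Groth.Agent.H69.stepSN_fin (fun S hS => hex_sn hR hres' S hS)
    obtain ⟨l, hl, ht⟩ := Groth.Agent.H69.exists_tower_of_finset
      (Groth.Agent.H69.StepSN (A := A) (B := B)) Groth.Agent.H69.stepSN_mono E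
      (fun e _ => by rw [htop]; trivial)
    exact ⟨l, hl, ht⟩
  · intro H
    have H1 : ∀ E : Finset B, ∃ l : List B, (↑E : Set B) ⊆ Algebra.adjoin A {b : B | b ∈ l} ∧
        Groth.Agent.H69.IsTower (Groth.Agent.H69.StepSN (A := A)) l := by
      intro E
      obtain ⟨l, hl, ht⟩ := H E
      exact ⟨l, hl, ht⟩
    have H' : ∀ E : Finset B, ∃ l : List B, (↑E : Set B) ⊆ Algebra.adjoin A {b : B | b ∈ l} ∧
        Groth.Agent.H69.IsTower (Groth.Agent.H69.StepAWN (A := A)) l := by
      intro E
      obtain ⟨l, hl, ht⟩ := H1 E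
      exact ⟨l, hl, Groth.Agent.H69.isTower_awn_of_sn l ht⟩
    refine ⟨Groth.Agent.H69.isUnivHomeo_Spec_of_integral_of_ringHom_ext (algebraMap A B)
      (Groth.Agent.H69.isIntegral_of_towers H') hinj
      (fun L _ f g hfg => Groth.Agent.H69.ext_of_towers H' L f g hfg), ?_⟩
    exact (Groth.Agent.H69.resTriv_iff _).mpr (Groth.Agent.H69.resTriv_of_towers H1)

end Groth.Agent.S7400
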