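import Groth.Statements.S7401
import Groth.Agent.H69.SNTower

set_option autoImplicit false
universe u
open CategoryTheory AlgebraicGeometry
open Mor

namespace Groth.Agent.S7401


open Groth.Agent.H69 in
theorem hex_awn {A B : Type u} [CommRing A] [CommRing B] [Algebra A B]
    (hU : RingUH (algebraMap A B)) (S : Subalgebra A B) (hS : S ≠ ⊤) :
    ∃ b, b ∉ S ∧ StepAWN S b := by
  have hχ : Function.Injective (S.val.toRingHom) := Subtype.val_injective
  have hcomp : (S.val.toRingHom).comp (algebraMap A S) = algebraMap A B := by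
    ext a; rfl
  have hUS : RingUH (S.val.toRingHom) := (RingUH.of_comp _ _ hχ (by rw [hcomp]; exact hU)).2
  have hns : ¬ Function.Surjective (S.val.toRingHom) := by
    intro hs
    apply hS
    rw [eq_top_iff]
    intro b _
    obtain ⟨s, hs⟩ := hs b
    exact hs ▸ s.2
  have hmem : ∀ b : B, b ∈ (S.val.toRingHom).range ↔ b ∈ S := by
    intro b
    constructor
    · rintro ⟨s, rfl⟩; exact s.2
    · intro hb; exact ⟨⟨b, hb⟩, rfl⟩
  rcases exists_sq_cube_or_prime_of_ringUH _ hχ hns hUS with ⟨b, hb, h2, h3⟩ | ⟨p, b, hp, hb, h1, h2⟩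
  · exact ⟨b, fun h => hb ((hmem b).mpr h), Or.inl ⟨(hmem _).mp h2, (hmem _).mp h3⟩⟩
  · exact ⟨b, fun h => hb ((hmem b).mpr h), Or.inr ⟨p, hp, (hmem _).mp h1, (hmem _).mp h2⟩⟩

/-- Let `A ⊆ B` be a ring extension. Then `Spec B → Spec A` is a universal homeomorphism if and only if
every finite subset of `B` lies in a subextension `A[b_1, …, b_n]` such that for each `i` either
`b_i^2, b_i^3 ∈ A[b_1, …, b_{i-1}]` or there is a prime number `p` with `p b_i, b_i^p ∈ A[b_1, …,
b_{i-1}]`. -/
theorem result {A B : Type u} [CommRing A] [CommRing B] [Algebra A B]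
    (hinj : Function.Injective (algebraMap A B)) :
    FlatMor.IsUnivHomeo (Spec.map (CommRingCat.ofHom (algebraMap A B))) ↔
    ∀ E : Finset B, ∃ l : List B, (↑E : Set B) ⊆ Algebra.adjoin A {b : B | b ∈ l} ∧
      ∀ i : Fin l.length,
        (l.get i ^ 2 ∈ Algebra.adjoin A {b : B | ∃ j : Fin l.length, j < i ∧ b = l.get j} ∧
          l.get i ^ 3 ∈ Algebra.adjoin A {b : B | ∃ j : Fin l.length, j < i ∧ b = l.get j}) ∨
        ∃ p : ℕ, p.Prime ∧ (p : B) * l.get i ∈ Algebra.adjoin A {b : B | ∃ j : Fin l.length, j < i ∧ b = l.get j} ∧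
          l.get i ^ p ∈ Algebra.adjoin A {b : B | ∃ j : Fin l.length, j < i ∧ b = l.get j} := by
  constructor
  · intro hU E
    have hR := Groth.Agent.H69.ringUH_of_isUnivHomeo _ hU
    have htop := Groth.Agent.H69.towerAlg_eq_top (Groth.Agent.H69.StepAWN (A := A) (B := B))
      Groth.Agent.H69.stepAWN_mono Groth.Agent.H69.stepAWN_fin (fun S hS => hex_awn hR S hS)
    obtain ⟨l, hl, ht⟩ := Groth.Agent.H69.exists_tower_of_finset
      (Groth.Agent.H69.StepAWN (A := A) (B := B)) Groth.Agent.H69.stepAWN_mono E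
      (fun e _ => by rw [htop]; trivial)
    exact ⟨l, hl, ht⟩
  · intro H
    have H' : ∀ E : Finset B, ∃ l : List B, (↑E : Set B) ⊆ Algebra.adjoin A {b : B | b ∈ l} ∧
        Groth.Agent.H69.IsTower (Groth.Agent.H69.StepAWN (A := A)) l := by
      intro E
      obtain ⟨l, hl, ht⟩ := H E
      exact ⟨l, hl, ht⟩
    exact Groth.Agent.H69.isUnivHomeo_Spec_of_integral_of_ringHom_ext (algebraMap A B)
      (Groth.Agent.H69.isIntegral_of_towers H') hinj
      (fun L _ f g hfg => Groth.Agent.H69.ext_of_towers H' L f g hfg)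

end Groth.Agent.S7401
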