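import Groth.Statements.S9405
import Groth.Agent.H3.HenselFinite
import Groth.Agent.Lead.PiLocal
import Groth.Agent.S8804
import Mathlib.RingTheory.LocalRing.Quotient
import Mathlib.RingTheory.Henselian

set_option autoImplicit false
universe u
open CAlg

namespace Groth.Agent.S9405

/-- A module-finite algebra S over a complete Noetherian local ring R is a finite product of complete
Noetherian local rings; precisely, S has finitely many maximal ideals, S maps bijectively onto the
product of its localizations at them, and each of these localizations is Noetherian and complete for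
its maximal ideal. -/
theorem result (R : Type u) [CommRing R]
    [IsLocalRing R] [IsNoetherianRing R] [IsAdicComplete (IsLocalRing.maximalIdeal R) R]
    (S : Type u) [CommRing S] [Algebra R S] [Module.Finite R S] :
    Finite (MaximalSpectrum S) ∧
      Function.Bijective
        (algebraMap S ((m : MaximalSpectrum S) → Localization.AtPrime m.asIdeal)) ∧
      ∀ m : MaximalSpectrum S, IsNoetherianRing (Localization.AtPrime m.asIdeal) ∧
        IsAdicComplete (IsLocalRing.maximalIdeal (Localization.AtPrime m.asIdeal))
          (Localization.AtPrime m.asIdeal) := by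
  classical
  haveI : HenselianLocalRing R :=
    { is_henselian := by
        intro f hf a₀ h₁ h₂
        exact HenselianRing.is_henselian (I := IsLocalRing.maximalIdeal R) f hf a₀ h₁
          (h₂.map (Ideal.Quotient.mk (IsLocalRing.maximalIdeal R))) }
  obtain ⟨ι, _, A, _, hloc, ⟨e⟩⟩ := Groth.Agent.H3.exists_pi_isLocalRing_of_finite R S
  haveI := hloc
  have hfin := Groth.Agent.Lead.pi_local_finite A e
  have hbij := Groth.Agent.Lead.pi_local_bijective A e
  refine ⟨hfin, hbij, fun M => ?_⟩
  haveI : IsNoetherianRing S := Algebra.FiniteType.isNoetherianRing R S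
  haveI : IsNoetherianRing (Localization.AtPrime M.asIdeal) :=
    IsLocalization.isNoetherianRing M.asIdeal.primeCompl (Localization.AtPrime M.asIdeal)
      inferInstance
  refine ⟨inferInstance, ?_⟩
  have hsurj : Function.Surjective (algebraMap S (Localization.AtPrime M.asIdeal)) := fun t => by
    obtain ⟨x, hx⟩ := hbij.2 (Pi.single M t)
    refine ⟨x, ?_⟩
    have h1 := congrFun hx M
    rw [Pi.single_eq_same] at h1
    exact h1
  haveI : Module.Finite R (Localization.AtPrime M.asIdeal) :=
    Module.Finite.of_surjective
      (IsScalarTower.toAlgHom R S (Localization.AtPrime M.asIdeal)).toLinearMap hsurj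
  haveI hc1 : IsAdicComplete (IsLocalRing.maximalIdeal R) (Localization.AtPrime M.asIdeal) :=
    Groth.Agent.Lead.isAdicComplete_of_finite (IsLocalRing.maximalIdeal R) _
  haveI hc2 : IsAdicComplete ((IsLocalRing.maximalIdeal R).map
      (algebraMap R (Localization.AtPrime M.asIdeal))) (Localization.AtPrime M.asIdeal) :=
    (IsAdicComplete.map_algebraMap_iff (I := IsLocalRing.maximalIdeal R)
      (S := Localization.AtPrime M.asIdeal) (M := Localization.AtPrime M.asIdeal)).2 hc1
  have hJK : (IsLocalRing.maximalIdeal R).map (algebraMap R (Localization.AtPrime M.asIdeal)) ≤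
      IsLocalRing.maximalIdeal (Localization.AtPrime M.asIdeal) := by
    have h := Groth.Agent.H3.map_le_jacobson_of_isIntegral
      (S := Localization.AtPrime M.asIdeal) (IsLocalRing.maximalIdeal R)
      (IsLocalRing.maximalIdeal_le_jacobson _)
    rwa [IsLocalRing.jacobson_eq_maximalIdeal ⊥ bot_ne_top] at h
  letI : Field (R ⧸ IsLocalRing.maximalIdeal R) := Ideal.Quotient.field _
  haveI : Module.Finite (R ⧸ IsLocalRing.maximalIdeal R)
      (Localization.AtPrime M.asIdeal ⧸ (IsLocalRing.maximalIdeal R).map
        (algebraMap R (Localization.AtPrime M.asIdeal))) :=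
    Module.Finite.of_restrictScalars_finite R _ _
  haveI : IsArtinianRing (Localization.AtPrime M.asIdeal ⧸ (IsLocalRing.maximalIdeal R).map
        (algebraMap R (Localization.AtPrime M.asIdeal))) :=
    IsArtinianRing.of_finite (R ⧸ IsLocalRing.maximalIdeal R) _
  obtain ⟨N, hN⟩ := IsLocalRing.exists_maximalIdeal_pow_le_of_isArtinianRing_quotient
    ((IsLocalRing.maximalIdeal R).map (algebraMap R (Localization.AtPrime M.asIdeal)))
  exact Groth.Agent.S8804.isAdicComplete_of_pow_le _ _ N hJK
    ((Ideal.pow_le_pow_right (Nat.le_succ N)).trans hN)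

end Groth.Agent.S9405
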