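import Groth.Statements.S4564
import Mathlib
import Groth.Agent.S9405
import Groth.Agent.S0568
import Groth.Agent.H11.PSN2

set_option autoImplicit false
universe u
open CAlg

namespace Groth.Agent.S4564

/-- Let A be a complete Noetherian local domain with fraction field K and K' a finite extension of K.
Then the integral closure of A in K' is a local ring, complete for the adic topology of its maximal
ideal. -/
theorem result {A K' : Type u} [CommRing A]
    [IsDomain A] [IsLocalRing A] [IsNoetherianRing A] [IsAdicComplete (IsLocalRing.maximalIdeal A) A]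
    [Field K'] [Algebra A K'] [Algebra (FractionRing A) K'] [IsScalarTower A (FractionRing A) K']
    [FiniteDimensional (FractionRing A) K'] :
    ∃ _ : IsLocalRing (integralClosure A K'),
      IsAdicComplete (IsLocalRing.maximalIdeal (integralClosure A K')) (integralClosure A K') := by
  classical
  -- `A` is N-2
  have hNag := Groth.Agent.S0568.result A
  have hN2bot : CAlg.IsN2 (A ⧸ (⊥ : Ideal A)) := hNag.2 ⊥
  have hN2 : CAlg.IsN2 A := by
    letI : Algebra (A ⧸ (⊥ : Ideal A)) A := (RingEquiv.quotientBot A).toRingHom.toAlgebra
    exact Groth.Agent.H11.PSN2.isN2_of_bijective (A := A ⧸ (⊥ : Ideal A)) (B := A)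
      (RingEquiv.quotientBot A).bijective hN2bot
  haveI hfin : Module.Finite A (integralClosure A K') := hN2 K' inferInstance
  obtain ⟨hfinMax, hbij, -⟩ := Groth.Agent.S9405.result A (integralClosure A K')
  -- local
  have hsub : Subsingleton (MaximalSpectrum (integralClosure A K')) := by
    refine ⟨fun m₁ m₂ => ?_⟩
    by_contra hne
    obtain ⟨e, he⟩ := hbij.2 (Pi.single m₁ 1)
    have h0 : e * (1 - e) = 0 := by
      apply hbij.1
      rw [map_mul, map_sub, map_one, he, map_zero]
      funext m
      by_cases hm : m = m₁
      · subst hm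
        simp
      · simp [Pi.single_eq_of_ne hm]
    rcases mul_eq_zero.mp h0 with h1 | h1
    · have := congrFun he m₁
      rw [h1, map_zero, Pi.single_eq_same] at this
      exact zero_ne_one this
    · have h2 : e = 1 := (sub_eq_zero.mp h1).symm
      have := congrFun he m₂
      rw [h2, map_one, Pi.single_eq_of_ne (Ne.symm hne)] at this
      exact one_ne_zero this
  have hloc : IsLocalRing (integralClosure A K') := by
    obtain ⟨M, hM⟩ := Ideal.exists_maximal (integralClosure A K')
    refine IsLocalRing.of_unique_max_ideal ⟨M, hM, fun N hN => ?_⟩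
    have := hsub.elim ⟨N, hN⟩ ⟨M, hM⟩
    exact congrArg MaximalSpectrum.asIdeal this
  refine ⟨hloc, ?_⟩
  haveI hc1 : IsAdicComplete (IsLocalRing.maximalIdeal A) (integralClosure A K') :=
    Groth.Agent.Lead.isAdicComplete_of_finite (IsLocalRing.maximalIdeal A) _
  haveI hc2 : IsAdicComplete ((IsLocalRing.maximalIdeal A).map
      (algebraMap A (integralClosure A K'))) (integralClosure A K') :=
    (IsAdicComplete.map_algebraMap_iff (I := IsLocalRing.maximalIdeal A)
      (S := integralClosure A K') (M := integralClosure A K')).2 hc1
  have hJK : (IsLocalRing.maximalIdeal A).map (algebraMap A (integralClosure A K')) ≤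
      IsLocalRing.maximalIdeal (integralClosure A K') := by
    have h := Groth.Agent.H3.map_le_jacobson_of_isIntegral
      (S := integralClosure A K') (IsLocalRing.maximalIdeal A)
      (IsLocalRing.maximalIdeal_le_jacobson _)
    rwa [IsLocalRing.jacobson_eq_maximalIdeal ⊥ bot_ne_top] at h
  letI : Field (A ⧸ IsLocalRing.maximalIdeal A) := Ideal.Quotient.field _
  haveI : Module.Finite (A ⧸ IsLocalRing.maximalIdeal A)
      (integralClosure A K' ⧸ (IsLocalRing.maximalIdeal A).map
        (algebraMap A (integralClosure A K'))) :=
    Module.Finite.of_restrictScalars_finite A _ _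
  haveI : IsArtinianRing (integralClosure A K' ⧸ (IsLocalRing.maximalIdeal A).map
        (algebraMap A (integralClosure A K'))) :=
    IsArtinianRing.of_finite (A ⧸ IsLocalRing.maximalIdeal A) _
  obtain ⟨N, hN⟩ := IsLocalRing.exists_maximalIdeal_pow_le_of_isArtinianRing_quotient
    ((IsLocalRing.maximalIdeal A).map (algebraMap A (integralClosure A K')))
  exact Groth.Agent.S8804.isAdicComplete_of_pow_le _ _ N hJK
    ((Ideal.pow_le_pow_right (Nat.le_succ N)).trans hN)

end Groth.Agent.S4564
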