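import Groth.Statements.S3450
import Mathlib
import Groth.Agent.S4564
import Groth.Agent.S8804
import Groth.Agent.H11.Chevalley
import Groth.Agent.H17.JacobsonCompl
import Groth.Agent.H54.IntegralDim

set_option autoImplicit false
universe u
open EGA43

namespace Groth.Agent.S3450


open IsLocalRing

/-- `K` is the kernel of a finite local homomorphism to a DVR. -/
def F (A : Type u) [CommRing A] [IsLocalRing A] (K : Ideal A) : Prop :=
  ∃ (V : Type u) (_ : CommRing V) (_ : IsDomain V) (_ : IsDiscreteValuationRing V) (φ : A →+* V),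
    IsLocalHom φ ∧ φ.Finite ∧ RingHom.ker φ = K

lemma finite_integralClosure (E : Type u) [CommRing E] [IsDomain E] [IsLocalRing E]
    [IsNoetherianRing E] [IsAdicComplete (maximalIdeal E) E] (K' : Type u) [Field K']
    [Algebra E K'] [Algebra (FractionRing E) K'] [IsScalarTower E (FractionRing E) K']
    [FiniteDimensional (FractionRing E) K'] : Module.Finite E (integralClosure E K') := by
  have hNag := Groth.Agent.S0568.result E
  have hN2bot : CAlg.IsN2 (E ⧸ (⊥ : Ideal E)) := hNag.2 ⊥
  have hN2 : CAlg.IsN2 E := by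
    letI : Algebra (E ⧸ (⊥ : Ideal E)) E := (RingEquiv.quotientBot E).toRingHom.toAlgebra
    exact Groth.Agent.H11.PSN2.isN2_of_bijective (A := E ⧸ (⊥ : Ideal E)) (B := E)
      (RingEquiv.quotientBot E).bijective hN2bot
  exact hN2 K' inferInstance

/-- complete local domain of dimension one: its normalization is a DVR, finite over it -/
lemma dvr_of_dim_one (E : Type u) [CommRing E] [IsDomain E] [IsLocalRing E]
    [IsNoetherianRing E] [IsAdicComplete (maximalIdeal E) E] (hdim : ringKrullDim E = 1) :
    ∃ (V : Type u) (_ : CommRing V) (_ : IsDomain V) (_ : IsDiscreteValuationRing V)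
      (ψ : E →+* V), IsLocalHom ψ ∧ ψ.Finite ∧ Function.Injective ψ := by
  obtain ⟨hVloc, -⟩ := Groth.Agent.S4564.result (A := E) (K' := FractionRing E)
  haveI := hVloc
  haveI hfin : Module.Finite E (integralClosure E (FractionRing E)) :=
    finite_integralClosure E (FractionRing E)
  haveI : IsNoetherianRing (integralClosure E (FractionRing E)) :=
    IsNoetherianRing.of_finite E _
  haveI : IsIntegrallyClosed (integralClosure E (FractionRing E)) :=
    integralClosure.isIntegrallyClosedOfFiniteExtension (FractionRing E)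
  haveI : Algebra.IsIntegral E (integralClosure E (FractionRing E)) := inferInstance
  have hinj : Function.Injective (algebraMap E (integralClosure E (FractionRing E))) := by
    intro a b hab
    apply IsFractionRing.injective E (FractionRing E)
    have := congrArg (algebraMap (integralClosure E (FractionRing E)) (FractionRing E)) hab
    rwa [← IsScalarTower.algebraMap_apply, ← IsScalarTower.algebraMap_apply] at this
  have hdimV : ringKrullDim (integralClosure E (FractionRing E)) = 1 := by
    rw [Groth.Agent.H54.ringKrullDim_eq_of_isIntegral_of_injective hinj, hdim]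
  have hnf : ¬ IsField (integralClosure E (FractionRing E)) :=
    ((Groth.Agent.S8804.dim_eq_one_iff _).mp hdimV).1
  have hprimes := ((Groth.Agent.S8804.dim_eq_one_iff _).mp hdimV).2
  have hdvr : IsDiscreteValuationRing (integralClosure E (FractionRing E)) := by
    have htfae := (IsDiscreteValuationRing.TFAE (integralClosure E (FractionRing E)) hnf).out 0 3
    rw [htfae]
    refine ⟨inferInstance, ?_⟩
    refine ⟨maximalIdeal _, ⟨?_, inferInstance⟩, ?_⟩
    · intro h
      exact hnf ((IsLocalRing.isField_iff_maximalIdeal_eq).mpr h)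
    · rintro Q ⟨hQ0, hQp⟩
      exact IsLocalRing.eq_maximalIdeal (hprimes Q hQ0 hQp)
  refine ⟨integralClosure E (FractionRing E), inferInstance, inferInstance, hdvr,
    algebraMap E _, ?_, ?_, hinj⟩
  · -- local
    have hle : (maximalIdeal E).map (algebraMap E (integralClosure E (FractionRing E))) ≤
        maximalIdeal (integralClosure E (FractionRing E)) := by
      have h := Groth.Agent.H3.map_le_jacobson_of_isIntegral
        (S := integralClosure E (FractionRing E)) (maximalIdeal E)
        (IsLocalRing.maximalIdeal_le_jacobson _)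
      rwa [IsLocalRing.jacobson_eq_maximalIdeal ⊥ bot_ne_top] at h
    refine ⟨fun a ha => ?_⟩
    by_contra hna
    have h1 : a ∈ maximalIdeal E := (IsLocalRing.mem_maximalIdeal a).mpr hna
    have h2 := hle (Ideal.mem_map_of_mem _ h1)
    exact (IsLocalRing.mem_maximalIdeal _).mp h2 ha
  · exact RingHom.finite_algebraMap.mpr hfin

lemma F_of_dim_one (A : Type u) [CommRing A] [IsNoetherianRing A] [IsLocalRing A]
    [IsAdicComplete (maximalIdeal A) A] (P : Ideal A) [hP : P.IsPrime]
    (hdim : ringKrullDim (A ⧸ P) = 1) : F A P := by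
  haveI : IsLocalRing (A ⧸ P) :=
    IsLocalRing.of_surjective' (Ideal.Quotient.mk P) Ideal.Quotient.mk_surjective
  haveI hloc := IsLocalHom.of_surjective (Ideal.Quotient.mk P) Ideal.Quotient.mk_surjective
  have hmap : (maximalIdeal A).map (Ideal.Quotient.mk P) = maximalIdeal (A ⧸ P) := by
    ext x
    obtain ⟨x, rfl⟩ := Ideal.Quotient.mk_surjective x
    simp [sup_eq_left.mpr (le_maximalIdeal hP.ne_top)]
  haveI : IsAdicComplete (maximalIdeal (A ⧸ P)) (A ⧸ P) :=
    hmap ▸ Groth.Agent.S8804.isAdicComplete_quotient (maximalIdeal A) P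
  obtain ⟨V, i1, i2, i3, ψ, hψl, hψf, hψi⟩ := dvr_of_dim_one (A ⧸ P) hdim
  refine ⟨V, i1, i2, i3, ψ.comp (Ideal.Quotient.mk P), ?_, ?_, ?_⟩
  · exact RingHom.isLocalHom_comp _ _
  · exact hψf.comp (RingHom.Finite.of_surjective _ Ideal.Quotient.mk_surjective)
  · ext a
    rw [RingHom.mem_ker, RingHom.comp_apply, map_eq_zero_iff ψ hψi,
      Ideal.Quotient.eq_zero_iff_mem]

/-- a non-nilpotent non-unit is avoided by a prime with one-dimensional quotient -/
lemma exists_prime_dim_one (A : Type u) [CommRing A] [IsNoetherianRing A] [IsLocalRing A]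
    (x : A) (hx : x ∈ maximalIdeal A) (hnil : ¬ IsNilpotent x) :
    ∃ P : Ideal A, P.IsPrime ∧ x ∉ P ∧ ringKrullDim (A ⧸ P) = 1 := by
  have hne : {r : Ideal A | r.IsPrime ∧ x ∉ r}.Nonempty := by
    by_contra hemp
    rw [Set.not_nonempty_iff_eq_empty] at hemp
    apply hnil
    rw [← mem_nilradical, nilradical_eq_sInf, Ideal.mem_sInf]
    intro r hr
    by_contra hxr
    have : r ∈ {r : Ideal A | r.IsPrime ∧ x ∉ r} := ⟨hr, hxr⟩
    rw [hemp] at this
    exact this
  obtain ⟨P, ⟨hPp, hxP⟩, hPmax⟩ := set_has_maximal_iff_noetherian.mpr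
    (inferInstance : IsNoetherian A A) _ hne
  haveI := hPp
  have hPm : P ≠ maximalIdeal A := fun h => hxP (h ▸ hx)
  have habove : ∀ Q : Ideal A, Q.IsPrime → P < Q → Q = maximalIdeal A := by
    intro Q hQ hPQ
    by_contra hQm
    have hQlt : Q < maximalIdeal A := lt_of_le_of_ne (le_maximalIdeal hQ.ne_top) hQm
    obtain ⟨r, hr, hPr, hxr⟩ := Groth.Agent.H17.JacobsonCompl.exists_prime_gt_notMem hPp hQ
      (inferInstance : (maximalIdeal A).IsPrime) hPQ hQlt hxP
    exact hPmax r ⟨hr, hxr⟩ hPr
  refine ⟨P, hPp, hxP, ?_⟩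
  rw [Groth.Agent.S8804.dim_eq_one_iff]
  have hsurj : Function.Surjective (Ideal.Quotient.mk P) := Ideal.Quotient.mk_surjective
  refine ⟨fun hf => ?_, fun Q' hQ0 hQp => ?_⟩
  · have := Ideal.Quotient.maximal_of_isField P hf
    exact hPm (IsLocalRing.eq_maximalIdeal this)
  · have hc : (Q'.comap (Ideal.Quotient.mk P)).IsPrime := Ideal.comap_isPrime _ Q'
    have hle : P ≤ Q'.comap (Ideal.Quotient.mk P) := by
      intro a ha
      rw [Ideal.mem_comap, Ideal.Quotient.eq_zero_iff_mem.mpr ha]
      exact Q'.zero_mem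
    have hne' : P ≠ Q'.comap (Ideal.Quotient.mk P) := by
      intro h
      apply hQ0
      rw [← Ideal.map_comap_of_surjective _ hsurj Q', ← h, Ideal.map_quotient_self]
    have hcm := habove _ hc (lt_of_le_of_ne hle hne')
    have hQ' : Q' = (maximalIdeal A).map (Ideal.Quotient.mk P) := by
      rw [← hcm, Ideal.map_comap_of_surjective _ hsurj]
    rcases Ideal.map_eq_top_or_isMaximal_of_surjective (Ideal.Quotient.mk P) hsurj
      (inferInstance : (maximalIdeal A).IsMaximal) with h | h
    · exact absurd (hQ'.trans h) hQp.ne_top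
    · rw [hQ']; exact h

/-- finite intersections of DVR-point kernels -/
def G (A : Type u) [CommRing A] [IsLocalRing A] (I : Ideal A) : Prop :=
  ∃ s : Finset (Ideal A), (∀ K ∈ s, F A K) ∧ I = s.inf id

lemma G_inf {A : Type u} [CommRing A] [IsLocalRing A] {I J : Ideal A} (hI : G A I) (hJ : G A J) :
    G A (I ⊓ J) := by
  classical
  obtain ⟨s, hs, rfl⟩ := hI
  obtain ⟨t, ht, rfl⟩ := hJ
  refine ⟨s ∪ t, fun K hK => ?_, (Finset.inf_union).symm⟩
  rcases Finset.mem_union.mp hK with h | h
  · exact hs K h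
  · exact ht K h

lemma G_top {A : Type u} [CommRing A] [IsLocalRing A] : G A (⊤ : Ideal A) :=
  ⟨∅, fun K hK => absurd hK (Finset.notMem_empty K), by simp⟩

lemma G_of_F {A : Type u} [CommRing A] [IsLocalRing A] {K : Ideal A} (hK : F A K) : G A K :=
  ⟨{K}, fun K' hK' => by rw [Finset.mem_singleton.mp hK']; exact hK, by simp⟩

lemma exists_min (A : Type u) [CommRing A] [IsNoetherianRing A] [IsLocalRing A] (j : ℕ) :
    ∃ I : Ideal A, G A I ∧ ∀ I' : Ideal A, G A I' → I ≤ I' ⊔ maximalIdeal A ^ (j + 1) := by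
  haveI := Groth.Agent.H11.Chevalley.isArtinianRing_quot_pow (A := A) (j + 1) (Nat.succ_ne_zero j)
  let mk := Ideal.Quotient.mk (maximalIdeal A ^ (j + 1))
  have hsurj : Function.Surjective mk := Ideal.Quotient.mk_surjective
  let T : Set (Ideal (A ⧸ maximalIdeal A ^ (j + 1))) := {L | ∃ I, G A I ∧ L = I.map mk}
  have hT : T.Nonempty := ⟨_, ⊤, G_top, rfl⟩
  obtain ⟨L, ⟨I, hI, rfl⟩, hmin⟩ := IsArtinian.set_has_minimal T hT
  refine ⟨I, hI, fun I' hI' => ?_⟩
  have h1 : (I ⊓ I').map mk ≤ I.map mk := Ideal.map_mono inf_le_left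
  have h2 : ¬ (I ⊓ I').map mk < I.map mk := hmin _ ⟨I ⊓ I', G_inf hI hI', rfl⟩
  have h3 : I.map mk ≤ (I ⊓ I').map mk := by
    by_contra h
    exact h2 (lt_of_le_not_ge h1 h)
  have h4 : I.map mk ≤ I'.map mk := h3.trans (Ideal.map_mono inf_le_right)
  have h5 := Ideal.comap_mono (f := mk) h4
  rw [Ideal.comap_map_of_surjective _ hsurj, Ideal.comap_map_of_surjective _ hsurj,
    ← RingHom.ker_eq_comap_bot, Ideal.mk_ker] at h5
  exact le_sup_left.trans h5

/-- Let A be a Noetherian local ring which is reduced, complete (for the topology defined by its maximal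
ideal m) and not a field. Then for every n there are finitely many local homomorphisms φ_i : A → V_i
into discrete valuation rings, each making V_i a finite A-algebra, such that the intersection of
their kernels is contained in mⁿ. (Equivalently: such finite intersections form a base of
neighbourhoods of 0 for the m-adic topology.) -/
theorem result (A : Type u) [CommRing A] [IsNoetherianRing A]
    [IsLocalRing A] [IsReduced A] [IsAdicComplete (IsLocalRing.maximalIdeal A) A] (hA : ¬ IsField A) (n : ℕ) :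
    ∃ (k : ℕ) (V : Fin k → Type u) (_ : ∀ i, CommRing (V i)) (_ : ∀ i, IsDomain (V i))
      (_ : ∀ i, IsDiscreteValuationRing (V i)) (φ : ∀ i, A →+* V i),
      (∀ i, IsLocalHom (φ i) ∧ (φ i).Finite) ∧
        ⨅ i, RingHom.ker (φ i) ≤ IsLocalRing.maximalIdeal A ^ n := by
  classical
  choose I hIG hImin using exists_min A
  let J : ℕ → Ideal A := fun j => (Finset.range (j + 1)).inf I
  have hJG : ∀ j, G A (J j) := by
    intro j
    induction j with
    | zero => simpa [J] using hIG 0
    | succ j ih =>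
      have : J (j + 1) = J j ⊓ I (j + 1) := by
        simp only [J]
        rw [Finset.range_add_one (n := j + 1), Finset.inf_insert, inf_comm]
      rw [this]
      exact G_inf ih (hIG _)
  have hJanti : Antitone J := fun a b hab =>
    Finset.inf_mono (Finset.range_mono (by omega))
  have hJle : ∀ j, J j ≤ I j := fun j =>
    Finset.inf_le (Finset.mem_range.mpr (Nat.lt_succ_self j))
  have hsep : ∀ x : A, x ≠ 0 → x ∈ IsLocalRing.maximalIdeal A → ∃ K, F A K ∧ x ∉ K := by
    intro x hx0 hxm
    have hnil : ¬ IsNilpotent x := fun h => hx0 (IsReduced.eq_zero x h)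
    obtain ⟨P, hP, hxP, hdim⟩ := exists_prime_dim_one A x hxm hnil
    haveI := hP
    exact ⟨P, F_of_dim_one A P hdim, hxP⟩
  have hm0 : IsLocalRing.maximalIdeal A ≠ ⊥ := fun h =>
    hA (IsLocalRing.isField_iff_maximalIdeal_eq.mpr h)
  obtain ⟨y, hym, hy0⟩ := Submodule.exists_mem_ne_zero_of_ne_bot hm0
  obtain ⟨K0, hK0, -⟩ := hsep y hy0 hym
  have h0 : ∀ x, (∀ m, x ∈ J m) → x = 0 := by
    intro x hx
    by_contra hx0
    have hall : ∀ K, F A K → x ∈ K := by
      intro K hK
      apply Groth.Agent.H11.Chevalley.mem_of_forall_mem_sup_pow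
      intro k
      rcases k with _ | k
      · simp
      · exact hImin k K (G_of_F hK) (hJle k (hx k))
    by_cases hxu : IsUnit x
    · have hxK0 := hall K0 hK0
      obtain ⟨V, i1, i2, i3, φ, hl, hf, hk⟩ := hK0
      rw [← hk, RingHom.mem_ker] at hxK0
      have hu : IsUnit (φ x) := hxu.map φ
      rw [hxK0] at hu
      exact not_isUnit_zero hu
    · obtain ⟨K, hK, hxK⟩ := hsep x hx0 ((IsLocalRing.mem_maximalIdeal x).mpr hxu)
      exact hxK (hall K hK)
  obtain ⟨m, hm⟩ := Groth.Agent.H11.Chevalley.chevalley J hJanti h0 n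
  obtain ⟨s, hs, hJs⟩ := hJG m
  choose V i1 i2 i3 φ hloc hfin hker using (fun K : s => hs K.1 K.2)
  let e := s.equivFin
  refine ⟨s.card, fun i => V (e.symm i), fun i => i1 _, fun i => i2 _, fun i => i3 _,
    fun i => φ (e.symm i), fun i => ⟨hloc _, hfin _⟩, ?_⟩
  refine le_trans ?_ hm
  rw [hJs]
  apply Finset.le_inf
  intro K hK
  refine le_trans (iInf_le _ (e ⟨K, hK⟩)) ?_
  simp only [id]
  rw [hker, Equiv.symm_apply_apply]


end Groth.Agent.S3450
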