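import Groth.Statements.S9372
-- import your own Groth.Agent.* helpers here
import Groth.Agent.H39.GrMapIso

set_option autoImplicit false
universe u
open OmegaSh

namespace Groth.Agent.S9372



open AlgebraicGeometry CategoryTheory in
/-- In a cartesian square with i : Z → X, i' : Z' → X' quasi-compact immersions, g : X → X', gZ : Z →
Z', the canonical map gZ^* C_{Z'/X'} → C_{Z/X} is surjective, and an isomorphism when g is flat.
(The published statement allows arbitrary immersions; this row assumes i and i' quasi-compact.) -/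
theorem result {Z X Z' X' : Scheme.{u}} (i : Z ⟶ X) (i' : Z' ⟶ X') [IsImmersion i] [IsImmersion i']
    [QuasiCompact i] [QuasiCompact i'] (g : X ⟶ X') (gZ : Z ⟶ Z') (hsq : IsPullback i gZ g i')
    (φ : (Scheme.Modules.pullback gZ).obj (Omega.conormal i') ⟶ Omega.conormal i) (hφ : OmegaSh.IsConormalMap i i' g gZ φ) :
    Epi φ ∧ (Flat g → IsIso φ) := by
  have hφ' := Groth.Agent.H39.GrMap.track_of_isConormalMap i i' g gZ hφ
  refine ⟨Groth.Agent.H39.GrMap.epi_of_isPullback hφ' hsq.flip 1 (fun U => (pow_one _).symm)
    (fun U => (pow_one _).symm), fun hflat => ?_⟩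
  haveI := hflat
  exact Groth.Agent.H39.GrMap.isIso_of_isPullback_of_flat hφ' hsq.flip 1
    (fun U => (pow_one _).symm) (fun U => (pow_one _).symm)

end Groth.Agent.S9372
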