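import Groth.Statements.S9752
import Mathlib
import Groth.Agent.H70.BranchCount
import Groth.Agent.H70.BranchCountRing
import Groth.Agent.H70.UnibranchScheme
import Groth.Agent.S9237

set_option autoImplicit false
universe u
open Brnch

namespace Groth.Agent.S9752

open AlgebraicGeometry CategoryTheory TopologicalSpace IsLocalRing
open Groth.Agent.H70.BranchTop Groth.Agent.H70.GeomUnibranchNbhd Groth.Agent.H70.BranchCountRing
  Groth.Agent.H70.UnramUnibranch Groth.Agent.H70.UnibranchScheme Groth.Agent.H70.LocDomain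

set_option linter.style.haveILetI false

/-- ring level (≥) -/
theorem encard_le_of_henselization {A0 E : Type u} [CommRing A0] [CommRing E]
    [Algebra A0 E] [Algebra.Etale A0 E]
    (p : Ideal A0) [p.IsPrime] (Rp : Type u) [CommRing Rp] [IsLocalRing Rp] [Algebra A0 Rp]
    [IsLocalization.AtPrime Rp p]
    (Rh : Type u) [CommRing Rh] [IsLocalRing Rh] [Algebra Rp Rh] [IsLocalHom (algebraMap Rp Rh)]
    [Hensel.IsHenselization Rp Rh] [Algebra A0 Rh] [IsScalarTower A0 Rp Rh]
    (q' : Ideal E) [q'.IsPrime]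
    (ρ : E →ₐ[A0] ResidueField Rh) (hq : ∀ c, ρ c = 0 ↔ c ∈ q') :
    {P : Ideal E | P ∈ minimalPrimes E ∧ P ≤ q'}.encard ≤ ENat.card (minimalPrimes Rh) := by
  classical
  haveI hHens : HenselianLocalRing Rh := Hensel.IsHenselization.henselian (R := Rp)
  have hI := Groth.Agent.H47.HensNoeth.isIndEtaleLocal_of_isHenselization Rp Rh
  haveI : Module.Flat Rp Rh := hI.flat
  haveI : Module.Flat A0 Rp := IsLocalization.flat Rp p.primeCompl
  haveI : Module.Flat A0 Rh := Module.Flat.trans A0 Rp Rh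
  obtain ⟨φ', hφ'⟩ := Groth.Agent.H14.exists_lift_localization ρ q' hq
  letI algLS : Algebra (Localization.AtPrime q') Rh := φ'.toRingHom.toAlgebra
  haveI : IsScalarTower A0 (Localization.AtPrime q') Rh :=
    IsScalarTower.of_algebraMap_eq (fun a => (φ'.commutes a).symm)
  haveI : Module.Flat (Localization.AtPrime q') Rh :=
    Algebra.FormallyUnramified.flat_of_restrictScalars A0 _ Rh
  have hnu : ∀ c : E, c ∈ q' → ¬ IsUnit (φ' (algebraMap E _ c)) := fun c hc hu => by
    have h0 : residue Rh (φ' (algebraMap E _ c)) = 0 := by rw [hφ']; exact (hq c).mpr hc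
    exact ((mem_maximalIdeal _).mp ((residue_eq_zero_iff _).mp h0)) hu
  have hun : ∀ c : E, c ∉ q' → IsUnit (φ' (algebraMap E _ c)) := fun c hc => by
    by_contra hnu'
    have h0 : residue Rh (φ' (algebraMap E _ c)) = 0 :=
      (residue_eq_zero_iff _).mpr ((mem_maximalIdeal _).mpr hnu')
    rw [hφ'] at h0
    exact hc ((hq c).mp h0)
  have hloc : IsLocalHom φ'.toRingHom := ⟨fun x hx => by
    obtain ⟨⟨a, s⟩, hxs⟩ := IsLocalization.surj q'.primeCompl x
    have hx' : IsUnit (φ' x) := hx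
    have h1 : φ' x * φ' (algebraMap E _ (s : E)) = φ' (algebraMap E _ a) := by
      rw [← map_mul]
      exact congrArg φ' hxs
    have h2 : IsUnit (φ' (algebraMap E _ a)) := by
      rw [← h1]
      exact hx'.mul (hun s s.2)
    have h3 : a ∉ q' := fun h => hnu a h h2
    have h4 : IsUnit (algebraMap E (Localization.AtPrime q') a) :=
      IsLocalization.map_units _ (⟨a, h3⟩ : q'.primeCompl)
    rw [← hxs] at h4
    exact isUnit_of_mul_isUnit_left h4⟩
  have hflat : φ'.toRingHom.Flat := by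
    show Module.Flat (Localization.AtPrime q') Rh
    infer_instance
  exact encard_minimalPrimes_le_of_flat_local q' Rh φ'.toRingHom hloc hflat

theorem le_numBranchesAt {X : Scheme.{u}} {U : Scheme.{u}} (g : U ⟶ X) (u : U) [Etale g]
    (hres : Function.Bijective (g.residueFieldMap u)) :
    {Z : Set U | Z ∈ irreducibleComponents U ∧ u ∈ Z}.encard ≤ Brnch.numBranchesAt X (g u) := by
  obtain ⟨V, hV, hxV, -⟩ :=
    exists_isAffineOpen_mem_and_subset (x := g u) (U := (⊤ : X.Opens)) trivial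
  obtain ⟨W, hW, huW, hWV⟩ :=
    exists_isAffineOpen_mem_and_subset (x := u) (U := g ⁻¹ᵁ V) hxV
  have hEt : (g.appLE V W hWV).hom.Etale :=
    HasRingHomProperty.appLE (P := @Etale) g inferInstance ⟨V, hV⟩ ⟨W, hW⟩ hWV
  algebraize [(g.appLE V W hWV).hom]
  let p := (hV.primeIdealOf ⟨g u, hWV huW⟩).asIdeal
  let q := (hW.primeIdealOf ⟨u, huW⟩).asIdeal
  letI algSt : Algebra Γ(X, V) (X.presheaf.stalk (g u)) :=
    TopCat.Presheaf.algebra_section_stalk X.presheaf (⟨g u, hWV huW⟩ : V)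
  haveI : IsLocalization.AtPrime (X.presheaf.stalk (g u)) p :=
    hV.isLocalization_stalk ⟨g u, hWV huW⟩
  letI algStU : Algebra Γ(U, W) (U.presheaf.stalk u) :=
    TopCat.Presheaf.algebra_section_stalk U.presheaf (⟨u, huW⟩ : W)
  haveI : IsLocalization.AtPrime (U.presheaf.stalk u) q :=
    hW.isLocalization_stalk ⟨u, huW⟩
  let Rp := X.presheaf.stalk (g u)
  let Rh := Groth.Agent.H47.Hens.Hloc Rp
  letI : Algebra Γ(X, V) Rh := ((algebraMap Rp Rh).comp (algebraMap Γ(X, V) Rp)).toAlgebra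
  haveI : IsScalarTower Γ(X, V) Rp Rh := IsScalarTower.of_algebraMap_eq (fun _ => rfl)
  let e : ResidueField (X.presheaf.stalk (g u)) ≃+* ResidueField (U.presheaf.stalk u) :=
    RingEquiv.ofBijective (ResidueField.map (g.stalkMap u).hom) hres
  let ρr : Γ(U, W) →+* ResidueField Rh :=
    (ResidueField.map (algebraMap Rp Rh)).comp
      (e.symm.toRingHom.comp ((residue (U.presheaf.stalk u)).comp (U.presheaf.germ W u huW).hom))
  have hcomm : ∀ a : Γ(X, V), ρr (algebraMap Γ(X, V) Γ(U, W) a) =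
      algebraMap Γ(X, V) (ResidueField Rh) a := by
    intro a
    show (ResidueField.map (algebraMap Rp Rh)) (e.symm (residue _
      (U.presheaf.germ W u huW ((g.appLE V W hWV).hom a)))) = _
    rw [germ_appLE_apply]
    have h1 : residue (U.presheaf.stalk u)
        (g.stalkMap u (X.presheaf.germ V (g u) (hWV huW) a)) =
        e (residue _ (X.presheaf.germ V (g u) (hWV huW) a)) := rfl
    rw [h1, RingEquiv.symm_apply_apply]
    rfl
  let ρ : Γ(U, W) →ₐ[Γ(X, V)] ResidueField Rh := { ρr with commutes' := hcomm }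
  have hq : ∀ c, ρ c = 0 ↔ c ∈ q := by
    intro c
    show (ResidueField.map (algebraMap Rp Rh)) (e.symm (residue _
      (U.presheaf.germ W u huW c))) = 0 ↔ _
    rw [map_eq_zero_iff _ (RingHom.injective _), map_eq_zero_iff _ e.symm.injective,
      residue_eq_zero_iff]
    exact IsLocalization.AtPrime.to_map_mem_maximal_iff (U.presheaf.stalk u) q c
  rw [encard_scheme u hW huW]
  have h1 := encard_le_of_henselization p Rp Rh q ρ hq
  have h2 := Groth.Agent.S9237.result Rp Rh
  unfold Brnch.numBranchesAt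
  rw [← h2]
  exact h1

theorem numBranchesAt_le {X : Scheme.{u}} (x : X) :
    Brnch.numBranchesAt X x ≤ ⨆ (U : Scheme.{u}) (g : U ⟶ X) (u : U)
      (_ : Hens2.IsEtaleNbhd g u x),
      {Z : Set ↑U | Z ∈ irreducibleComponents ↑U ∧ u ∈ Z}.encard := by
  obtain ⟨V, hV, hxV, -⟩ :=
    exists_isAffineOpen_mem_and_subset (x := x) (U := (⊤ : X.Opens)) trivial
  let p := (hV.primeIdealOf ⟨x, hxV⟩).asIdeal
  letI algSt : Algebra Γ(X, V) (X.presheaf.stalk x) :=
    TopCat.Presheaf.algebra_section_stalk X.presheaf (⟨x, hxV⟩ : V)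
  haveI : IsLocalization.AtPrime (X.presheaf.stalk x) p :=
    hV.isLocalization_stalk ⟨x, hxV⟩
  let Rp := X.presheaf.stalk x
  let Rh := Groth.Agent.H47.Hens.Hloc Rp
  have hI := Groth.Agent.H47.HensNoeth.isIndEtaleLocal_of_isHenselization Rp Rh
  letI : Algebra Γ(X, V) Rh := ((algebraMap Rp Rh).comp (algebraMap Γ(X, V) Rp)).toAlgebra
  haveI : IsScalarTower Γ(X, V) Rp Rh := IsScalarTower.of_algebraMap_eq (fun _ => rfl)
  unfold Brnch.numBranchesAt
  rw [← Groth.Agent.S9237.result Rp Rh]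
  show (minimalPrimes Rh).encard ≤ _
  apply encard_le_of_forall_finset
  intro F hF
  obtain ⟨E0, _, _, _, φ0, hcard⟩ := exists_etale_card_le p Rp Rh hI F hF
  refine hcard.trans ?_
  let q0 : Ideal E0 := (maximalIdeal Rh).comap φ0.toRingHom
  haveI : q0.IsPrime := Ideal.comap_isPrime _ _
  haveI : q0.LiesOver p := liesOver_comap_maximalIdeal p Rp Rh E0 φ0
  have hRT : ∀ b : E0, ∃ a : Γ(X, V), ∃ s ∈ p.primeCompl,
      algebraMap Γ(X, V) E0 s * b - algebraMap Γ(X, V) E0 a ∈ q0 := by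
    intro b
    obtain ⟨r, hr⟩ := Groth.Agent.H47.Hens.exists_sub_mem_maximalIdeal' Rp Rh (φ0 b)
    obtain ⟨⟨a, s⟩, has⟩ := IsLocalization.surj p.primeCompl r
    refine ⟨a, s, s.2, ?_⟩
    show φ0 (algebraMap Γ(X, V) E0 s * b - algebraMap Γ(X, V) E0 a) ∈ maximalIdeal Rh
    rw [map_sub, map_mul, φ0.commutes, φ0.commutes]
    have e1 : algebraMap Γ(X, V) Rh a = algebraMap Rp Rh r * algebraMap Γ(X, V) Rh s := by
      rw [IsScalarTower.algebraMap_apply Γ(X, V) Rp Rh a, ← has, map_mul,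
        ← IsScalarTower.algebraMap_apply Γ(X, V) Rp Rh]
    have e2 : algebraMap Γ(X, V) Rh s * φ0 b - algebraMap Γ(X, V) Rh a =
        algebraMap Γ(X, V) Rh s * (φ0 b - algebraMap Rp Rh r) := by
      rw [e1]; ring
    rw [e2]
    exact Ideal.mul_mem_left _ _ hr
  let φ : CommRingCat.of Γ(X, V) ⟶ CommRingCat.of E0 := CommRingCat.ofHom (algebraMap Γ(X, V) E0)
  haveI : Etale (Spec.map φ) := by
    rw [HasRingHomProperty.Spec_iff (P := @Etale)]
    exact RingHom.etale_algebraMap.mpr inferInstance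
  haveI : IsOpenImmersion hV.fromSpec := hV.isOpenImmersion_fromSpec
  let g : Spec (CommRingCat.of E0) ⟶ X := Spec.map φ ≫ hV.fromSpec
  let u : ↥(Spec (CommRingCat.of E0)) := (⟨q0, inferInstance⟩ : PrimeSpectrum E0)
  have hgu : g u = x := by
    have h3 : (Spec.map φ) u = hV.primeIdealOf ⟨x, hxV⟩ := by
      apply PrimeSpectrum.ext
      show Ideal.comap (algebraMap Γ(X, V) E0) q0 = p
      exact (Ideal.over_def q0 p).symm
    show hV.fromSpec ((Spec.map φ) u) = x
    rw [h3]
    exact hV.fromSpec_primeIdealOf ⟨x, hxV⟩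
  have hTop : IsAffineOpen (⊤ : (Spec (CommRingCat.of E0)).Opens) := isAffineOpen_top _
  have hWV : (⊤ : (Spec (CommRingCat.of E0)).Opens) ≤ g ⁻¹ᵁ V := fun z _ =>
    fromSpec_mem hV ((Spec.map φ) z)
  let ι := Scheme.ΓSpecIso (CommRingCat.of E0)
  have hfs : hTop.fromSpec = Spec.map ι.inv := by
    rw [IsAffineOpen.fromSpec_top, Scheme.isoSpec_Spec_inv]
  have F1 : g.appLE V ⊤ hWV = φ ≫ ι.inv := by
    have h1 := IsAffineOpen.SpecMap_appLE_fromSpec g hV hTop hWV
    rw [hfs] at h1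
    have h2 : Spec.map ι.inv ≫ g = Spec.map (φ ≫ ι.inv) ≫ hV.fromSpec := by
      rw [Spec.map_comp, Category.assoc]
    rw [h2] at h1
    exact Spec.map_injective ((cancel_mono hV.fromSpec).mp h1)
  have F2 : ∀ b' : Γ(Spec (CommRingCat.of E0), ⊤),
      b' ∈ (hTop.primeIdealOf ⟨u, trivial⟩).asIdeal ↔ ι.hom b' ∈ q0 := by
    intro b'
    have h1 := hTop.fromSpec_primeIdealOf ⟨u, trivial⟩
    rw [hfs] at h1
    have h2 : ι.hom b' ∈ q0 ↔ ι.inv (ι.hom b') ∈ (hTop.primeIdealOf ⟨u, trivial⟩).asIdeal := by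
      have h3 : ((Spec.map ι.inv) (hTop.primeIdealOf ⟨u, trivial⟩)).asIdeal = q0 :=
        congrArg PrimeSpectrum.asIdeal h1
      rw [← h3]
      rfl
    rw [h2]
    have h4 : ι.inv (ι.hom b') = b' := by
      rw [← CommRingCat.comp_apply, Iso.hom_inv_id]; rfl
    rw [h4]
  have hnb : Hens2.IsEtaleNbhd g u x := by
    refine ⟨inferInstance, hgu, ⟨RingHom.injective _, ?_⟩⟩
    apply residueFieldMap_surjective g u hV hTop hWV trivial
    intro b'
    obtain ⟨a, s, hs, hmem⟩ := hRT (ι.hom b')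
    refine ⟨a, s, ?_, ?_⟩
    · have e : hV.primeIdealOf ⟨g u, hWV trivial⟩ = hV.primeIdealOf ⟨x, hxV⟩ := by
        congr 1
        exact Subtype.ext hgu
      rw [e]
      exact hs
    · rw [F2, F1, map_sub, map_mul]
      have h5 : ∀ t : Γ(X, V), ι.hom ((φ ≫ ι.inv).hom t) = algebraMap Γ(X, V) E0 t := by
        intro t
        show ι.hom (ι.inv (φ.hom t)) = _
        rw [← CommRingCat.comp_apply, Iso.inv_hom_id]; rfl
      rw [h5, h5]
      exact hmem
  have h5 := encard_primeSpectrum (R := E0) ⟨q0, inferInstance⟩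
  refine le_iSup_of_le (Spec (CommRingCat.of E0)) (le_iSup_of_le g (le_iSup_of_le u
    (le_iSup_of_le hnb ?_)))
  exact h5.symm.le


open AlgebraicGeometry CategoryTheory Limits in
/-- For a point x of a scheme X, the branch count of X at x (in ℕ∞) is the least upper bound, taken over
all elementary étale neighbourhoods (U, u) → (X, x) (g : U ⟶ X étale with g u = x and trivial
residue field extension), of how many irreducible components of U contain u. -/
theorem result (X : Scheme.{u}) (x : X) :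
    Brnch.numBranchesAt X x = ⨆ (U : Scheme.{u}) (g : U ⟶ X) (u : U) (_ : Hens2.IsEtaleNbhd g u x),
      {Z : Set ↑U | Z ∈ irreducibleComponents ↑U ∧ u ∈ Z}.encard := by
  apply le_antisymm (numBranchesAt_le x)
  refine iSup_le fun U => iSup_le fun g => iSup_le fun u => iSup_le ?_
  rintro ⟨hg, rfl, hres⟩
  exact le_numBranchesAt g u hres

end Groth.Agent.S9752
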