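import Groth.Statements.S9753
import Mathlib
import Groth.Agent.H70.BranchCount
import Groth.Agent.H70.BranchCountRing
import Groth.Agent.H70.GeomUnibranchScheme
import Groth.Agent.S9238

set_option autoImplicit false
universe u
open Brnch

namespace Groth.Agent.S9753

open AlgebraicGeometry CategoryTheory TopologicalSpace IsLocalRing
open Groth.Agent.H70.BranchTop Groth.Agent.H70.GeomUnibranchNbhd Groth.Agent.H70.BranchCountRing
  Groth.Agent.H70.UnramUnibranch

set_option linter.style.haveILetI false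

theorem le_numGeomBranchesAt {X : Scheme.{u}} {U : Scheme.{u}} (g : U ⟶ X) (u : U) [Etale g] :
    {Z : Set U | Z ∈ irreducibleComponents U ∧ u ∈ Z}.encard ≤
      Brnch.numGeomBranchesAt X (g u) := by
  obtain ⟨V, hV, hxV, -⟩ :=
    exists_isAffineOpen_mem_and_subset (x := g u) (U := (⊤ : X.Opens)) trivial
  obtain ⟨W, hW, huW, hWV⟩ :=
    exists_isAffineOpen_mem_and_subset (x := u) (U := g ⁻¹ᵁ V) hxV
  have hEt : (g.appLE V W hWV).hom.Etale :=
    HasRingHomProperty.appLE (P := @Etale) g inferInstance ⟨V, hV⟩ ⟨W, hW⟩ hWV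
  algebraize [(g.appLE V W hWV).hom]
  let p := (hV.primeIdealOf ⟨g u, hWV huW⟩).asIdeal
  let q := (hW.primeIdealOf ⟨u, huW⟩).asIdeal
  haveI : q.LiesOver p :=
    ⟨congr($(IsAffineOpen.comap_primeIdealOf_appLE V hV W hW hWV huW).1).symm⟩
  letI algSt : Algebra Γ(X, V) (X.presheaf.stalk (g u)) :=
    TopCat.Presheaf.algebra_section_stalk X.presheaf (⟨g u, hWV huW⟩ : V)
  haveI : IsLocalization.AtPrime (X.presheaf.stalk (g u)) p :=
    hV.isLocalization_stalk ⟨g u, hWV huW⟩
  rw [encard_scheme u hW huW]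
  obtain ⟨Rsh, _, _, _, _, hsh, ψ0, hψloc, -, hψflat⟩ :=
    Groth.Agent.H70.UnramUnibranch.exists_map_to_strictHenselization p (X.presheaf.stalk (g u)) q
  haveI := hsh
  have h1 := encard_minimalPrimes_le_of_flat_local q Rsh ψ0 hψloc hψflat
  have h2 := Groth.Agent.S9238.result (X.presheaf.stalk (g u)) Rsh
  unfold Brnch.numGeomBranchesAt
  rw [← h2]
  exact h1

theorem numGeomBranchesAt_le {X : Scheme.{u}} (x : X) :
    Brnch.numGeomBranchesAt X x ≤ ⨆ (U : Scheme.{u}) (g : U ⟶ X) (u : U) (_ : Etale g ∧ g u = x),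
      {Z : Set ↑U | Z ∈ irreducibleComponents ↑U ∧ u ∈ Z}.encard := by
  obtain ⟨V, hV, hxV, -⟩ :=
    exists_isAffineOpen_mem_and_subset (x := x) (U := (⊤ : X.Opens)) trivial
  let p := (hV.primeIdealOf ⟨x, hxV⟩).asIdeal
  letI algSt : Algebra Γ(X, V) (X.presheaf.stalk x) :=
    TopCat.Presheaf.algebra_section_stalk X.presheaf (⟨x, hxV⟩ : V)
  haveI : IsLocalization.AtPrime (X.presheaf.stalk x) p :=
    hV.isLocalization_stalk ⟨x, hxV⟩
  obtain ⟨Rsh, _, _, _, _, hsh⟩ := Groth.Agent.S0537.result (X.presheaf.stalk x)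
  haveI := hsh
  have hI := Groth.Agent.H47.HensNoeth.isIndEtaleLocal_of_isStrictHenselization
    (X.presheaf.stalk x) Rsh
  letI : Algebra Γ(X, V) Rsh :=
    ((algebraMap (X.presheaf.stalk x) Rsh).comp (algebraMap Γ(X, V) (X.presheaf.stalk x))).toAlgebra
  haveI : IsScalarTower Γ(X, V) (X.presheaf.stalk x) Rsh :=
    IsScalarTower.of_algebraMap_eq (fun _ => rfl)
  unfold Brnch.numGeomBranchesAt
  rw [← Groth.Agent.S9238.result (X.presheaf.stalk x) Rsh]
  show (minimalPrimes Rsh).encard ≤ _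
  apply encard_le_of_forall_finset
  intro F hF
  obtain ⟨E0, _, _, _, φ0, hcard⟩ := exists_etale_card_le p (X.presheaf.stalk x) Rsh hI F hF
  refine hcard.trans ?_
  let q0 : Ideal E0 := (maximalIdeal Rsh).comap φ0.toRingHom
  haveI : q0.IsPrime := Ideal.comap_isPrime _ _
  haveI : q0.LiesOver p := liesOver_comap_maximalIdeal p (X.presheaf.stalk x) Rsh E0 φ0
  let φ : CommRingCat.of Γ(X, V) ⟶ CommRingCat.of E0 := CommRingCat.ofHom (algebraMap Γ(X, V) E0)
  haveI : Etale (Spec.map φ) := by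
    rw [HasRingHomProperty.Spec_iff (P := @Etale)]
    exact RingHom.etale_algebraMap.mpr inferInstance
  haveI : IsOpenImmersion hV.fromSpec := hV.isOpenImmersion_fromSpec
  let g : Spec (CommRingCat.of E0) ⟶ X := Spec.map φ ≫ hV.fromSpec
  let u : ↥(Spec (CommRingCat.of E0)) := (⟨q0, inferInstance⟩ : PrimeSpectrum E0)
  have hgu : g u = x := by
    have h3 : (Spec.map φ) u = hV.primeIdealOf ⟨x, hxV⟩ := by
      apply PrimeSpectrum.ext
      show Ideal.comap (algebraMap Γ(X, V) E0) q0 = p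
      exact (Ideal.over_def q0 p).symm
    show hV.fromSpec ((Spec.map φ) u) = x
    rw [h3]
    exact hV.fromSpec_primeIdealOf ⟨x, hxV⟩
  have h5 := encard_primeSpectrum (R := E0) ⟨q0, inferInstance⟩
  refine le_iSup_of_le (Spec (CommRingCat.of E0)) (le_iSup_of_le g (le_iSup_of_le u
    (le_iSup_of_le ⟨inferInstance, hgu⟩ ?_)))
  exact h5.symm.le


open AlgebraicGeometry CategoryTheory Limits in
/-- Let X be a scheme and x ∈ X. Over all étale neighbourhoods (U, u) of (X, x) (g : U ⟶ X étale with g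
u = x), take the count (in ℕ∞) of irreducible components of U containing u; the supremum of these
counts is the geometric branch number of X at x. -/
theorem result (X : Scheme.{u}) (x : X) :
    Brnch.numGeomBranchesAt X x = ⨆ (U : Scheme.{u}) (g : U ⟶ X) (u : U) (_ : Etale g ∧ g u = x),
      {Z : Set ↑U | Z ∈ irreducibleComponents ↑U ∧ u ∈ Z}.encard := by
  apply le_antisymm (numGeomBranchesAt_le x)
  refine iSup_le fun U => iSup_le fun g => iSup_le fun u => iSup_le ?_
  rintro ⟨hg, rfl⟩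
  exact le_numGeomBranchesAt g u

end Groth.Agent.S9753
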