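import Groth.Statements.S16765
import Groth.Agent.H48.UnramBC

set_option autoImplicit false
universe u
open Unram17

namespace Groth.Agent.S16765

open AlgebraicGeometry CategoryTheory CategoryTheory.Limits in
theorem unramified_stalk_iff_of_isPullback {X S X' S' : Scheme.{u}} {f : X ⟶ S} {g : S' ⟶ S}
    {f' : X' ⟶ S'} {g' : X' ⟶ X} [LocallyOfFiniteType f] (H : IsPullback g' f' f g) (x' : X') :
    (f'.stalkMap x').hom.FormallyUnramified ↔
      (f.stalkMap (g'.base x')).hom.FormallyUnramified := by
  obtain ⟨e, h1, h2⟩ : ∃ e : X' ≅ pullback f g, f' = e.hom ≫ pullback.snd f g ∧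
      g' = e.hom ≫ pullback.fst f g :=
    ⟨H.isoPullback, (H.isoPullback_hom_snd).symm, (H.isoPullback_hom_fst).symm⟩
  clear H
  subst h1 h2
  have key := Groth.Agent.H48.unramified_stalk_baseChange_iff f g (e.hom.base x')
  refine Iff.trans ?_ key
  refine Iff.trans ?_ (RingHom.FormallyUnramified.respectsIso.cancel_right_isIso _
    (e.hom.stalkMap x'))
  rw [← CommRingCat.hom_comp, ← Scheme.Hom.stalkMap_comp]
  rfl

open AlgebraicGeometry CategoryTheory CategoryTheory.Limits in
theorem isPullback_fiberMapOver {X Y S : Scheme.{u}} (f : X ⟶ Y) (g : Y ⟶ S) (s : S) :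
    IsPullback ((f ≫ g).fiberι s) (CohIII.fiberMapOver f (f ≫ g) g rfl s) f (g.fiberι s) := by
  have t : IsPullback (pullback.snd g (S.fromSpecResidueField s)) (g.fiberι s)
      (S.fromSpecResidueField s) g := (IsPullback.of_hasPullback g _).flip
  have o : IsPullback (CohIII.fiberMapOver f (f ≫ g) g rfl s ≫
      pullback.snd g (S.fromSpecResidueField s)) ((f ≫ g).fiberι s)
      (S.fromSpecResidueField s) (f ≫ g) := by
    have h1 : CohIII.fiberMapOver f (f ≫ g) g rfl s ≫ pullback.snd g (S.fromSpecResidueField s) =
        pullback.snd (f ≫ g) (S.fromSpecResidueField s) := by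
      unfold CohIII.fiberMapOver
      exact (pullback.lift_snd _ _ _).trans (Category.comp_id _)
    rw [h1]
    exact (IsPullback.of_hasPullback (f ≫ g) _).flip
  have p : CohIII.fiberMapOver f (f ≫ g) g rfl s ≫ g.fiberι s = (f ≫ g).fiberι s ≫ f := by
    unfold CohIII.fiberMapOver Scheme.Hom.fiberι
    exact pullback.lift_fst _ _ _
  exact (IsPullback.of_right o p t).flip

open AlgebraicGeometry in
theorem stalk_congr {X Y : Scheme.{u}} (f : X ⟶ Y) {x y : X} (hxy : x = y) :
    (f.stalkMap x).hom.FormallyUnramified ↔ (f.stalkMap y).hom.FormallyUnramified := by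
  subst hxy; rfl

open AlgebraicGeometry CategoryTheory CategoryTheory.Limits in
/-- Let g : Y → S and h : X → S be locally of finite presentation, f : X → Y an S-morphism (f ≫ g = h;
in particular f is locally of finite presentation, so unramified amounts to formally unramified),
and x a point of X with image s = h(x). Then f is unramified at x (formally unramified on an open
neighbourhood of x) if and only if the induced morphism of fibres X_s → Y_s is unramified at the
point of X_s lying over x. No flatness is needed. -/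
theorem result {X Y S : Scheme.{u}} (g : Y ⟶ S) (h : X ⟶ S)
    [LocallyOfFinitePresentation g] [LocallyOfFinitePresentation h] (f : X ⟶ Y) (w : f ≫ g = h)
    (x : ↥X)
    (x' : ↥(h.fiber (h x))) (hx' : (h.fiberι (h x)) x' = x) :
    (∃ U : X.Opens, x ∈ U ∧ FormallyUnramified (U.ι ≫ f)) ↔
      ∃ V : (h.fiber (h x)).Opens, x' ∈ V ∧ FormallyUnramified (V.ι ≫ CohIII.fiberMapOver f h g w (h x)) := by
  subst w
  have hft : LocallyOfFiniteType f := locallyOfFiniteType_of_comp f g
  have hpb := isPullback_fiberMapOver f g ((f ≫ g) x)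
  have hftF : LocallyOfFiniteType (CohIII.fiberMapOver f (f ≫ g) g rfl ((f ≫ g) x)) :=
    MorphismProperty.of_isPullback (P := @LocallyOfFiniteType) hpb hft
  rw [Groth.Agent.H48.unramified_nhd_iff, Groth.Agent.H48.unramified_nhd_iff,
    unramified_stalk_iff_of_isPullback hpb x']
  exact (stalk_congr f hx').symm

end Groth.Agent.S16765
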