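import Groth.Statements.S16764
import Groth.Agent.H49.SmoothFibreMap
import Groth.Agent.S16765

set_option autoImplicit false
universe u
open Unram17

namespace Groth.Agent.S16764


open AlgebraicGeometry CategoryTheory CategoryTheory.Limits in
/-- Let g : Y → S and h : X → S be locally of finite presentation, f : X → Y an S-morphism (f ≫ g = h),
and x a point of X with image s = h(x) such that h is flat at x. Then f is étale at x (étale on an
open neighbourhood of x) if and only if the induced morphism of fibres X_s → Y_s is étale at the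
point of X_s lying over x. -/
theorem result {X Y S : Scheme.{u}} (g : Y ⟶ S) (h : X ⟶ S)
    [LocallyOfFinitePresentation g] [LocallyOfFinitePresentation h] (f : X ⟶ Y) (w : f ≫ g = h)
    (x : ↥X) (hflat : (h.stalkMap x).hom.Flat)
    (x' : ↥(h.fiber (h x))) (hx' : (h.fiberι (h x)) x' = x) :
    (∃ U : X.Opens, x ∈ U ∧ Etale (U.ι ≫ f)) ↔
      ∃ V : (h.fiber (h x)).Opens, x' ∈ V ∧ Etale (V.ι ≫ CohIII.fiberMapOver f h g w (h x)) := by
  subst w
  haveI lfp : LocallyOfFinitePresentation f :=
    Groth.Agent.H49.SmoothFibreMap.lfp_of_comp_of_lft f g ‹_› inferInstance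
  have hpb := Groth.Agent.S16765.isPullback_fiberMapOver f g ((f ≫ g) x)
  haveI lfp' : LocallyOfFinitePresentation (CohIII.fiberMapOver f (f ≫ g) g rfl ((f ≫ g) x)) :=
    MorphismProperty.of_isPullback (P := @LocallyOfFinitePresentation) hpb lfp
  constructor
  · rintro ⟨U, hxU, hU⟩
    refine ⟨((f ≫ g).fiberι ((f ≫ g) x)) ⁻¹ᵁ U, ?_, ?_⟩
    · show ((f ≫ g).fiberι ((f ≫ g) x)) x' ∈ U
      rw [hx']; exact hxU
    · have H' := (isPullback_morphismRestrict ((f ≫ g).fiberι ((f ≫ g) x)) U).paste_vert hpb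
      exact MorphismProperty.of_isPullback (P := @Etale) H' hU
  · rintro ⟨V, hxV, hV⟩
    have hsm : x' ∈ (CohIII.fiberMapOver f (f ≫ g) g rfl ((f ≫ g) x)).smoothLocus :=
      (Groth.Agent.H49.SmoothFibreMap.smooth_nhd_iff_mem_smoothLocus _ x').mp
        ⟨V, hxV, inferInstance⟩
    have hun : ((CohIII.fiberMapOver f (f ≫ g) g rfl ((f ≫ g) x)).stalkMap x').hom.FormallyUnramified :=
      ((Groth.Agent.H48.etale_nhd_iff_flat_unramified _ x').mp ⟨V, hxV, hV⟩).1
    have key := Groth.Agent.H49.SmoothFibreMap.mem_smoothLocus_of_flat_of_fiberMap f g _ _ _ hpb x'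
      (by rw [hx']; rfl) (by rw [hx']; exact hflat) hsm
    rw [hx'] at key
    have hun' := (Groth.Agent.S16765.unramified_stalk_iff_of_isPullback hpb x').mp hun
    have hun'' := (Groth.Agent.S16765.stalk_congr f hx').mp hun'
    exact (Groth.Agent.H48.etale_nhd_iff_flat_unramified f x).mpr
      ⟨hun'', Groth.Agent.H49.SmoothFibre.flat_stalkMap_of_mem_smoothLocus f x key⟩

end Groth.Agent.S16764
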