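import Groth.Statements.S5671
import Groth.Agent.H29.CM3
import Groth.Agent.H79.RegCM
import Groth.Agent.H17.RegHilb

set_option autoImplicit false
universe u
open CategoryTheory
open Dual

namespace Groth.Agent.S5671

/-- First assertion, in the local-algebra form to which its proof reduces it: let `A` be a regular local
ring of dimension `n`, `p ≥ 0`, and `M` a finite `A`-module whose support has dimension at most `n -
p`. Then `Ext^i_A(M, A) = 0` for every `i < p`. (The geometric statement: on a nonsingular
`n`-dimensional variety the sheaves `Ext^i(F, L)` vanish for `i < p` when `F` is coherent with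
support of dimension `≤ n - p` and `L` is locally free.) -/
theorem result (A : Type u) [CommRing A] [IsRegularLocalRing A] (M : Type u) [AddCommGroup M] [Module A M] [Module.Finite A M] (p : ℕ) (hdim : Module.supportDim A M + p ≤ ringKrullDim A) (i : ℕ) (hi : i < p) : Subsingleton (Abelian.Ext (ModuleCat.of A M) (ModuleCat.of A A) i) := by
  classical
  rcases subsingleton_or_nontrivial M with hM | hM
  · refine ⟨fun a b => ?_⟩
    have hZ : Limits.IsZero (ModuleCat.of A M) := ModuleCat.isZero_of_subsingleton _
    have key : ∀ e : Abelian.Ext (ModuleCat.of A M) (ModuleCat.of A A) i, e = 0 := fun e => by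
      rw [← e.mk₀_id_comp, hZ.eq_of_src (𝟙 _) 0, Abelian.Ext.mk₀_zero, Abelian.Ext.zero_comp]
    rw [key a, key b]
  · have hItop : Module.annihilator A M ≠ ⊤ := by
      intro h
      have h1 : (1 : A) ∈ Module.annihilator A M := h ▸ Submodule.mem_top
      obtain ⟨x, hx⟩ := exists_ne (0 : M)
      exact hx (by simpa using Module.mem_annihilator.mp h1 x)
    have hIm : Module.annihilator A M ≤ IsLocalRing.maximalIdeal A :=
      IsLocalRing.le_maximalIdeal hItop
    obtain ⟨c, u, hc, hu⟩ := Groth.Agent.H17.RegHilb.exists_generators
      (IsLocalRing.maximalIdeal A) (IsNoetherian.noetherian _)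
    have hn : ringKrullDim A = (c : ℕ) := by
      rw [hc]
      exact IsRegularLocalRing.spanFinrank_maximalIdeal.symm
    have hCM : LocCoh.IsCohenMacaulayModule A A := Groth.Agent.H79.RegCM.isCM_of_sop A c hn u hu
    have hkey := Groth.Agent.H29.CM.supportDim_eq_add_idealDepth_of_isCM hCM hItop
    rw [Module.supportDim_self_eq_ringKrullDim] at hkey
    have hsupp : Module.supportDim A
        (A ⧸ (Module.annihilator A M • (⊤ : Submodule A A))) = Module.supportDim A M := by
      rw [Module.supportDim_eq_of_equiv (Submodule.quotEquivOfEq _ (Module.annihilator A M)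
        (by rw [Ideal.smul_eq_mul, Ideal.mul_top])),
        Module.supportDim_quotient_eq_ringKrullDim,
        Module.supportDim_eq_ringKrullDim_quotient_annihilator]
    have hp : (p : ℕ∞) ≤ LocCoh.idealDepth (Module.annihilator A M) A := by
      obtain ⟨d, hd⟩ := Groth.Agent.H29.CM.exists_nat_supportDim (A := A) (M := M)
      rw [hkey, hsupp, hd] at hdim
      generalize LocCoh.idealDepth (Module.annihilator A M) A = δ at hdim ⊢
      induction δ with
      | top => exact le_top
      | coe k =>
        have h2 : d + p ≤ d + k := by exact_mod_cast hdim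
        exact_mod_cast (by omega : p ≤ k)
    have hIA : Module.annihilator A M • (⊤ : Submodule A A) ≠ ⊤ := by
      rw [Ideal.smul_eq_mul, Ideal.mul_top]
      exact hItop
    obtain ⟨rs, hw, hmem, hlen⟩ := (Groth.Agent.H15.Depth.le_idealDepth_iff hIA p).mp hp
    have hreg : RingTheory.Sequence.IsRegular A rs :=
      (RingTheory.Sequence.isRegular_iff_isWeaklyRegular_of_subset_jacobson_annihilator
        (fun r hr => IsLocalRing.maximalIdeal_le_jacobson _ (hIm (hmem r hr)))).mpr hw
    exact ModuleCat.subsingleton_ext_of_exists_isRegular (Module.annihilator A M)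
      (ModuleCat.of A M) (Module.support_eq_zeroLocus (R := A) (M := M)).subset
      (ModuleCat.of A A) (lt_top_iff_ne_top.mpr hIA) rs hmem hreg i (by omega)

end Groth.Agent.S5671
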