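import Groth.Statements.S11175
import Groth.Agent.S11665
import Groth.Agent.H72.LCVanish
import Groth.Agent.S0333
import Groth.Agent.S0340

set_option autoImplicit false
universe u
open CategoryTheory
open Goren

namespace Groth.Agent.S11175

/-- A Noetherian local ring A with maximal ideal m is Gorenstein (A has finite injective dimension as a
module over itself) if and only if there is a natural number d such that the local cohomology
modules H^i_m(A) (direct limits of Ext^i(A/m^n, A)) vanish for all i ≠ d and H^d_m(A) is an
injective A-module. -/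
theorem result (A : Type u) [CommRing A] [IsLocalRing A] [IsNoetherianRing A] : LocCoh.IsGorensteinLocalRing A ↔ ∃ d : ℕ, (∀ i : ℕ, i ≠ d → Subsingleton (LocCoh.H (IsLocalRing.maximalIdeal A) i A)) ∧ Module.Injective A (LocCoh.H (IsLocalRing.maximalIdeal A) d A) := by
  constructor
  · intro hG
    haveI := hG
    obtain ⟨d, hd⟩ := Groth.Agent.H29.CM.exists_nat_supportDim (A := A) (M := A)
    have hn : ringKrullDim A = d := by
      rw [← Module.supportDim_self_eq_ringKrullDim, hd]
      rfl
    obtain ⟨hv, -⟩ := Groth.Agent.H72.GorType.ext_kk_gorenstein A d hn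
    have hsupp : Module.support A (A ⧸ IsLocalRing.maximalIdeal A) =
        PrimeSpectrum.zeroLocus (IsLocalRing.maximalIdeal A : Set A) := by
      rw [Module.support_eq_zeroLocus, Ideal.annihilator_quotient]
    refine ⟨d, fun i hi => ?_, ?_⟩
    · rcases lt_or_gt_of_ne hi with h | h
      · exact Groth.Agent.S5162.ML2 (IsLocalRing.maximalIdeal A) (A ⧸ IsLocalRing.maximalIdeal A)
          hsupp d A (fun j hj => hv j (Nat.ne_of_lt hj)) i h
      · exact Groth.Agent.S0333.vanish_above (IsLocalRing.maximalIdeal A) d hn A i h
    · obtain ⟨g, hg⟩ := Groth.Agent.S11665.result A d hn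
      exact hg.isInjective
  · rintro ⟨d, hvan, hinj⟩
    rw [Groth.Agent.S0340.result]
    refine ⟨d + 1, fun i hi => ?_⟩
    have hsupp : Module.support A (A ⧸ IsLocalRing.maximalIdeal A) =
        PrimeSpectrum.zeroLocus (IsLocalRing.maximalIdeal A : Set A) := by
      rw [Module.support_eq_zeroLocus, Ideal.annihilator_quotient]
    haveI := Groth.Agent.H72.LCVanish.ext_vanish_above (IsLocalRing.maximalIdeal A)
      (A ⧸ IsLocalRing.maximalIdeal A) hsupp.subset d A hvan hinj i (by omega)
    exact (Groth.Agent.H72.ExtType.extIsoLeft
      (Groth.Agent.S0339.resEquiv (A := A)).symm.toModuleIso (ModuleCat.of A A)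
        i).injective.subsingleton

end Groth.Agent.S11175
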