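import Groth.Statements.S6304
import Mathlib.RingTheory.LocalRing.Module
import Mathlib.RingTheory.Flat.Basic

set_option autoImplicit false
universe u
open CAlg

namespace Groth.Agent.S6304

/-- If `0 → N₁ → N₂ → N₃ → 0` is exact with `N₃` flat, then `P ⊗ N₁ → P ⊗ N₂` is injective for
every module `P`. -/
theorem lTensor_injective_of_flat_quotient {R : Type u} [CommRing R]
    {N₁ N₂ N₃ : Type u} [AddCommGroup N₁] [Module R N₁] [AddCommGroup N₂] [Module R N₂]
    [AddCommGroup N₃] [Module R N₃] (g₁ : N₁ →ₗ[R] N₂) (g₂ : N₂ →ₗ[R] N₃)
    (hex : Function.Exact g₁ g₂) (hsurj : Function.Surjective g₂) (hinj : Function.Injective g₁)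
    [Module.Flat R N₃] (P : Type u) [AddCommGroup P] [Module R P] :
    Function.Injective (g₁.lTensor P) := by
  let π : (P →₀ R) →ₗ[R] P := Finsupp.linearCombination R id
  have hπ : Function.Surjective π := Finsupp.linearCombination_id_surjective R P
  refine lTensor_injective_of_exact_of_exact_of_rTensor_injective
    (M₁ := LinearMap.ker π) (M₂ := P →₀ R) (M₃ := P) (f₁ := (LinearMap.ker π).subtype) (f₂ := π)
    (g₁ := g₁) (g₂ := g₂) (LinearMap.exact_subtype_ker_map π) hπ hex hsurj ?_ ?_
  · exact Module.Flat.rTensor_preserves_injective_linearMap _ (Submodule.injective_subtype _)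
  · exact Module.Flat.lTensor_preserves_injective_linearMap g₁ hinj

/-- In a short exact sequence 0 → M' → M → M'' → 0 of R-modules whose right-hand term M'' is flat, the
middle term M is flat when M' is, and M' is flat when M is. -/
theorem result {R : Type u} [CommRing R] {M' M M'' : Type u} [AddCommGroup M'] [Module R M'] [AddCommGroup M] [Module R M] [AddCommGroup M''] [Module R M''] (f : M' →ₗ[R] M) (g : M →ₗ[R] M'') (hf : Function.Injective f) (hexact : Function.Exact f g) (hg : Function.Surjective g) [Module.Flat R M''] : (Module.Flat R M' → Module.Flat R M) ∧ (Module.Flat R M → Module.Flat R M') := by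
  have key := fun (P : Type u) [AddCommGroup P] [Module R P] =>
    lTensor_injective_of_flat_quotient f g hexact hg hf P
  constructor
  · intro hM'
    rw [Module.Flat.iff_rTensor_preserves_injective_linearMap]
    intro P Q _ _ _ _ u hu
    rw [injective_iff_map_eq_zero]
    intro x hx
    have h1 : g.lTensor P x = 0 := by
      apply Module.Flat.rTensor_preserves_injective_linearMap (M := M'') u hu
      rw [map_zero, ← LinearMap.comp_apply, LinearMap.rTensor_comp_lTensor,
        ← LinearMap.lTensor_comp_rTensor, LinearMap.comp_apply, hx, map_zero]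
    obtain ⟨y, rfl⟩ := (lTensor_exact P hexact hg x).mp h1
    have h2 : u.rTensor M' y = 0 := by
      apply key Q
      rw [map_zero, ← LinearMap.comp_apply, LinearMap.lTensor_comp_rTensor,
        ← LinearMap.rTensor_comp_lTensor, LinearMap.comp_apply, hx]
    have h3 : y = 0 := by
      apply Module.Flat.rTensor_preserves_injective_linearMap (M := M') u hu
      rw [h2, map_zero]
    rw [h3, map_zero]
  · intro hM
    rw [Module.Flat.iff_rTensor_preserves_injective_linearMap]
    intro P Q _ _ _ _ u hu
    rw [injective_iff_map_eq_zero]
    intro x hx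
    apply key P
    apply Module.Flat.rTensor_preserves_injective_linearMap (M := M) u hu
    rw [map_zero, map_zero, ← LinearMap.comp_apply, LinearMap.rTensor_comp_lTensor,
      ← LinearMap.lTensor_comp_rTensor, LinearMap.comp_apply, hx, map_zero]

end Groth.Agent.S6304
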