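import Groth.Statements.S15344
import Mathlib.AlgebraicGeometry.Morphisms.UniversallyInjective
import Mathlib.RingTheory.Valuation.LocalSubring
-- import your own Groth.Agent.* helpers here

set_option autoImplicit false
universe u
open CategoryTheory CategoryTheory.Limits AlgebraicGeometry
open Mor

namespace Groth.Agent.S15344


open IsLocalRing TensorProduct

/-- for a field extension, `a ⊗ 1 = 1 ⊗ a` forces `a` to come from the base -/
lemma mem_range_of_tmul_eq (k L : Type u) [Field k] [Field L] [Algebra k L] (a : L)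
    (h : a ⊗ₜ[k] (1 : L) = (1 : L) ⊗ₜ[k] a) : ∃ b : k, algebraMap k L b = a := by
  obtain ⟨lam, hlam⟩ := LinearMap.exists_leftInverse_of_injective (Algebra.linearMap k L)
    (LinearMap.ker_eq_bot.mpr (algebraMap k L).injective)
  have h1 : lam 1 = 1 := by
    have := LinearMap.congr_fun hlam 1
    simpa using this
  let T : L ⊗[k] L →ₗ[k] L := (TensorProduct.lid k L).toLinearMap ∘ₗ (lam.rTensor L)
  have e1 : T (a ⊗ₜ[k] (1 : L)) = algebraMap k L (lam a) := by
    simp [T, Algebra.algebraMap_eq_smul_one]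
  have e2 : T ((1 : L) ⊗ₜ[k] a) = a := by
    simp [T, h1]
  exact ⟨lam a, by rw [← e1, h, e2]⟩

/-- a monomorphism of schemes induces isomorphisms on residue fields -/
lemma residueFieldMap_surjective {P X' : Scheme.{u}} (p : P ⟶ X') [Mono p] (y : P) :
    Function.Surjective (p.residueFieldMap y).hom := by
  intro a
  let _ : Algebra (X'.residueField (p y)) (P.residueField y) := (p.residueFieldMap y).hom.toAlgebra
  let T : CommRingCat.{u} := CommRingCat.of (P.residueField y ⊗[X'.residueField (p y)] P.residueField y)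
  let i₁ : P.residueField y ⟶ T := CommRingCat.ofHom
    (Algebra.TensorProduct.includeLeft (R := X'.residueField (p y)) (S := X'.residueField (p y))
      (A := P.residueField y) (B := P.residueField y)).toRingHom
  let i₂ : P.residueField y ⟶ T := CommRingCat.ofHom
    (Algebra.TensorProduct.includeRight (R := X'.residueField (p y))
      (A := P.residueField y) (B := P.residueField y)).toRingHom
  have hι : p.residueFieldMap y ≫ i₁ = p.residueFieldMap y ≫ i₂ := by
    ext b
    show (algebraMap (X'.residueField (p y)) (P.residueField y) b) ⊗ₜ[X'.residueField (p y)] (1 : P.residueField y)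
      = (1 : P.residueField y) ⊗ₜ[X'.residueField (p y)] (algebraMap (X'.residueField (p y)) (P.residueField y) b)
    rw [Algebra.algebraMap_eq_smul_one, TensorProduct.smul_tmul]
  have h12 : Spec.map i₁ ≫ P.fromSpecResidueField y = Spec.map i₂ ≫ P.fromSpecResidueField y := by
    rw [← cancel_mono p, Category.assoc, Category.assoc,
      ← Scheme.Hom.SpecMap_residueFieldMap_fromSpecResidueField, ← Spec.map_comp_assoc,
      ← Spec.map_comp_assoc, hι]
  have h12' : i₁ = i₂ := Spec.map_injective ((cancel_mono _).mp h12)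
  have := congrArg (fun φ : P.residueField y ⟶ T => φ.hom a) h12'
  obtain ⟨b, hb⟩ := mem_range_of_tmul_eq (X'.residueField (p y)) (P.residueField y) a this
  exact ⟨b, hb⟩

lemma lift_of_reflects {X Y : Scheme.{u}} (f : Y ⟶ X) [Mono f]
    (H : ∀ (X' : Scheme.{u}) (g : X' ⟶ X) (y₀ y₁ : ↥(pullback f g)),
        (pullback.snd f g).base y₁ ⤳ (pullback.snd f g).base y₀ → y₁ ⤳ y₀)
    (S : ValuativeCommSq f)
    (l₀ : Spec (CommRingCat.of (IsLocalRing.ResidueField S.R)) ⟶ Y)
    (hl₀ : l₀ ≫ f = Spec.map (CommRingCat.ofHom (IsLocalRing.residue S.R)) ≫ S.i₂) :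
    S.commSq.HasLift := by
  let P := pullback f S.i₂
  let p : P ⟶ Spec (.of S.R) := pullback.snd f S.i₂
  let j₁ : Spec (.of S.K) ⟶ P :=
    pullback.lift S.i₁ (Spec.map (CommRingCat.ofHom (algebraMap S.R S.K))) S.commSq.w
  let j₀ : Spec (.of (IsLocalRing.ResidueField S.R)) ⟶ P :=
    pullback.lift l₀ (Spec.map (CommRingCat.ofHom (IsLocalRing.residue S.R))) hl₀
  let pt₁ : ↥(Spec (CommRingCat.of S.K)) := closedPoint S.K
  let pt₀ : ↥(Spec (CommRingCat.of (IsLocalRing.ResidueField S.R))) :=
    closedPoint (IsLocalRing.ResidueField S.R)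
  let y₁ : P := j₁ pt₁
  let y₀ : P := j₀ pt₀
  have e0 : p y₀ = closedPoint S.R := by
    have h1 : p y₀ = (j₀ ≫ p) pt₀ := (Scheme.Hom.comp_apply j₀ p pt₀).symm
    have h2 : j₀ ≫ p = Spec.map (CommRingCat.ofHom (IsLocalRing.residue S.R)) :=
      pullback.lift_snd _ _ _
    rw [h1, h2]
    exact IsLocalRing.PrimeSpectrum.comap_residue S.R _
  have hspec : p y₁ ⤳ p y₀ := by
    rw [e0]
    exact specializes_closedPoint _
  have h10 : y₁ ⤳ y₀ := H _ S.i₂ y₀ y₁ hspec
  let a : P.presheaf.stalk y₁ ⟶ .of S.K := Scheme.stalkClosedPointTo j₁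
  have ha : Spec.map a ≫ P.fromSpecStalk y₁ = j₁ := Scheme.Spec_stalkClosedPointTo_fromSpecStalk j₁
  let ψ : P.presheaf.stalk y₀ ⟶ .of S.K := P.presheaf.stalkSpecializes h10 ≫ a
  have hψ : Spec.map ψ ≫ P.fromSpecStalk y₀ = j₁ := by
    rw [Spec.map_comp, Category.assoc, Scheme.SpecMap_stalkSpecializes_fromSpecStalk, ha]
  let φ : CommRingCat.of S.R ⟶ P.presheaf.stalk y₀ := Spec.preimage (P.fromSpecStalk y₀ ≫ p)
  have hφ : Spec.map φ = P.fromSpecStalk y₀ ≫ p := Spec.map_preimage _
  have hψφ : φ ≫ ψ = CommRingCat.ofHom (algebraMap S.R S.K) := by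
    apply Spec.map_injective
    rw [Spec.map_comp, hφ, ← Category.assoc, hψ]
    exact pullback.lift_snd _ _ _
  have hψφ' : ∀ r : S.R, ψ.hom (φ.hom r) = algebraMap S.R S.K r := by
    intro r
    have := congrArg (fun θ : CommRingCat.of S.R ⟶ CommRingCat.of S.K => θ.hom r) hψφ
    simpa using this
  have hloc : ∀ r : S.R, r ∈ maximalIdeal S.R → φ.hom r ∈ maximalIdeal (P.presheaf.stalk y₀) := by
    intro r hr
    let ptC : ↥(Spec (P.presheaf.stalk y₀)) := closedPoint (P.presheaf.stalk y₀)
    have e : (Spec.map φ) ptC = closedPoint S.R := by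
      rw [hφ]
      have h1 : (P.fromSpecStalk y₀ ≫ p) ptC = p (P.fromSpecStalk y₀ ptC) :=
        Scheme.Hom.comp_apply _ _ _
      rw [h1]
      have h2 : P.fromSpecStalk y₀ ptC = y₀ := Scheme.fromSpecStalk_closedPoint
      rw [h2]
      exact e0
    have e' := congrArg PrimeSpectrum.asIdeal e
    change Ideal.comap φ.hom (maximalIdeal _) = maximalIdeal _ at e'
    rw [← e'] at hr
    exact hr
  have key : ∀ c : P.presheaf.stalk y₀, ∃ r : S.R, algebraMap S.R S.K r = ψ.hom c := by
    intro c
    by_cases h0 : ψ.hom c = 0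
    · exact ⟨0, by rw [h0, map_zero]⟩
    rcases ValuationRing.isInteger_or_isInteger S.R (ψ.hom c) with ⟨r, hr⟩ | ⟨r, hr⟩
    · exact ⟨r, hr⟩
    · by_cases hu : IsUnit r
      · obtain ⟨u, rfl⟩ := hu
        refine ⟨((u⁻¹ : S.Rˣ) : S.R), ?_⟩
        have h1 : algebraMap S.R S.K (u : S.R) * algebraMap S.R S.K ((u⁻¹ : S.Rˣ) : S.R) = 1 := by
          rw [← map_mul, Units.mul_inv, map_one]
        rw [hr] at h1
        have := congrArg (fun t => ψ.hom c * t) h1
        simp only [mul_one] at this
        rw [← mul_assoc, mul_inv_cancel₀ h0, one_mul] at this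
        exact this
      · exfalso
        have hrm : r ∈ maximalIdeal S.R := (IsLocalRing.mem_maximalIdeal r).mpr hu
        have h1 : φ.hom r ∈ maximalIdeal (P.presheaf.stalk y₀) := hloc r hrm
        have h2 : ψ.hom (c * φ.hom r - 1) = 0 := by
          rw [map_sub, map_mul, map_one, hψφ', hr, mul_inv_cancel₀ h0, sub_self]
        have h3 : c * φ.hom r - 1 ∈ maximalIdeal (P.presheaf.stalk y₀) := by
          rw [IsLocalRing.mem_maximalIdeal, mem_nonunits_iff]
          intro hx
          exact (hx.map ψ.hom).ne_zero h2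
        have h4 : c * φ.hom r ∈ maximalIdeal (P.presheaf.stalk y₀) := Ideal.mul_mem_left _ _ h1
        have h5 : (1 : P.presheaf.stalk y₀) ∈ maximalIdeal (P.presheaf.stalk y₀) := by
          have := Ideal.sub_mem _ h4 h3
          simpa using this
        exact (Ideal.ne_top_iff_one _).mp (IsLocalRing.maximalIdeal.isMaximal _).ne_top h5
  choose ρ hρ using key
  have inj : Function.Injective (algebraMap S.R S.K) := IsFractionRing.injective S.R S.K
  let ρr : ↑(P.presheaf.stalk y₀) →+* S.R :=
    { toFun := ρ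
      map_one' := inj ((hρ 1).trans ((map_one ψ.hom).trans (map_one (algebraMap S.R S.K)).symm))
      map_mul' := fun x y => inj (by
        rw [map_mul (algebraMap S.R S.K), hρ x, hρ y, hρ (x * y), map_mul ψ.hom])
      map_zero' := inj ((hρ 0).trans ((map_zero ψ.hom).trans (map_zero (algebraMap S.R S.K)).symm))
      map_add' := fun x y => inj (by
        rw [map_add (algebraMap S.R S.K), hρ x, hρ y, hρ (x + y), map_add ψ.hom]) }
  let ρ' : P.presheaf.stalk y₀ ⟶ CommRingCat.of S.R := CommRingCat.ofHom ρr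
  have hρφ : φ ≫ ρ' = 𝟙 _ := by
    ext r
    apply inj
    show algebraMap S.R S.K (ρ (φ.hom r)) = algebraMap S.R S.K r
    rw [hρ (φ.hom r), hψφ']
  let l : Spec (.of S.R) ⟶ Y := Spec.map ρ' ≫ P.fromSpecStalk y₀ ≫ pullback.fst f S.i₂
  have fac_right : l ≫ f = S.i₂ := by
    simp only [l, Category.assoc, pullback.condition]
    rw [← Category.assoc (P.fromSpecStalk y₀), ← hφ, ← Category.assoc, ← Spec.map_comp, hρφ,
      Spec.map_id, Category.id_comp]
  have fac_left : Spec.map (CommRingCat.ofHom (algebraMap S.R S.K)) ≫ l = S.i₁ := by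
    rw [← cancel_mono f, Category.assoc, fac_right, S.commSq.w]
  exact ⟨⟨{ l := l, fac_left := fac_left, fac_right := fac_right }⟩⟩

lemma reflects_of_lift {X Y : Scheme.{u}} (f : Y ⟶ X) [Mono f]
    (H : ∀ S : ValuativeCommSq f,
        (∃ l₀ : Spec (CommRingCat.of (IsLocalRing.ResidueField S.R)) ⟶ Y,
            l₀ ≫ f = Spec.map (CommRingCat.ofHom (IsLocalRing.residue S.R)) ≫ S.i₂) →
          S.commSq.HasLift)
    (X' : Scheme.{u}) (g : X' ⟶ X) (y₀ y₁ : ↥(pullback f g))
    (h : (pullback.snd f g).base y₁ ⤳ (pullback.snd f g).base y₀) : y₁ ⤳ y₀ := by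
  let P := pullback f g
  let p : P ⟶ X' := pullback.snd f g
  let q : P ⟶ Y := pullback.fst f g
  let x₀ : X' := p y₀
  let θ : X'.presheaf.stalk x₀ ⟶ P.residueField y₁ :=
    X'.presheaf.stalkSpecializes h ≫ p.stalkMap y₁ ≫ P.residue y₁
  obtain ⟨A, hA, hA_local⟩ := exists_factor_valuationRing θ.hom
  let θA : X'.presheaf.stalk x₀ ⟶ .of A := CommRingCat.ofHom (θ.hom.codRestrict _ hA)
  have w : P.fromSpecResidueField y₁ ≫ p =
      Spec.map (CommRingCat.ofHom (algebraMap A (P.residueField y₁))) ≫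
        Spec.map θA ≫ X'.fromSpecStalk x₀ := by
    rw [Scheme.fromSpecResidueField, Category.assoc, ← Scheme.SpecMap_stalkMap_fromSpecStalk,
      ← Scheme.SpecMap_stalkSpecializes_fromSpecStalk h]
    simp_rw [← Spec.map_comp_assoc]
    rfl
  let i₁ : Spec (.of (P.residueField y₁)) ⟶ Y := P.fromSpecResidueField y₁ ≫ q
  let i₂ : Spec (.of A) ⟶ X := Spec.map θA ≫ X'.fromSpecStalk x₀ ≫ g
  have sq : CommSq i₁ (Spec.map (CommRingCat.ofHom (algebraMap A (P.residueField y₁)))) f i₂ := by
    constructor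
    show (P.fromSpecResidueField y₁ ≫ q) ≫ f = _ ≫ (Spec.map θA ≫ X'.fromSpecStalk x₀ ≫ g)
    rw [Category.assoc, pullback.condition, ← Category.assoc, w]
    simp only [Category.assoc]
  let S : ValuativeCommSq f :=
    { R := A, K := P.residueField y₁, i₁ := i₁, i₂ := i₂, commSq := sq }
  -- residue field of `y₀`
  have hiso : IsIso (p.residueFieldMap y₀) := by
    rw [ConcreteCategory.isIso_iff_bijective]
    exact ⟨(p.residueFieldMap y₀).hom.injective, residueFieldMap_surjective p y₀⟩
  have : IsLocalHom θA.hom := hA_local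
  let κ : X'.residueField x₀ ⟶ CommRingCat.of (IsLocalRing.ResidueField A) :=
    CommRingCat.ofHom (IsLocalRing.ResidueField.map θA.hom)
  have hκ : X'.residue x₀ ≫ κ = θA ≫ CommRingCat.ofHom (IsLocalRing.residue A) := by
    ext r
    rfl
  let l₀ : Spec (CommRingCat.of (IsLocalRing.ResidueField A)) ⟶ Y :=
    Spec.map κ ≫ Spec.map (inv (p.residueFieldMap y₀)) ≫ P.fromSpecResidueField y₀ ≫ q
  have hl₀ : l₀ ≫ f = Spec.map (CommRingCat.ofHom (IsLocalRing.residue A)) ≫ i₂ := by
    show (Spec.map κ ≫ Spec.map (inv (p.residueFieldMap y₀)) ≫ P.fromSpecResidueField y₀ ≫ q) ≫ f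
      = _ ≫ (Spec.map θA ≫ X'.fromSpecStalk x₀ ≫ g)
    simp only [Category.assoc]
    rw [pullback.condition]
    rw [← Category.assoc (P.fromSpecResidueField y₀),
      ← Scheme.Hom.SpecMap_residueFieldMap_fromSpecResidueField]
    simp only [Category.assoc]
    rw [← Spec.map_comp_assoc (p.residueFieldMap y₀), IsIso.hom_inv_id, Spec.map_id,
      Category.id_comp]
    rw [Scheme.fromSpecResidueField]
    simp only [Category.assoc]
    rw [← Spec.map_comp_assoc, hκ, Spec.map_comp_assoc]
  obtain ⟨⟨l, fac_left, fac_right⟩⟩ := (H S ⟨l₀, hl₀⟩).exists_lift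
  change Spec.map (CommRingCat.ofHom (algebraMap A (P.residueField y₁))) ≫ l = i₁ at fac_left
  change l ≫ f = i₂ at fac_right
  let l' : Spec (.of A) ⟶ P := pullback.lift l (Spec.map θA ≫ X'.fromSpecStalk x₀) (by
    rw [fac_right]; simp only [i₂, Category.assoc])
  have hl'1 : Spec.map (CommRingCat.ofHom (algebraMap A (P.residueField y₁))) ≫ l' =
      P.fromSpecResidueField y₁ := by
    apply pullback.hom_ext
    · rw [Category.assoc, pullback.lift_fst, fac_left]
    · rw [Category.assoc, pullback.lift_snd, ← w]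
  let ptK : ↥(Spec (CommRingCat.of (P.residueField y₁))) := closedPoint (P.residueField y₁)
  let ptA : ↥(Spec (CommRingCat.of A)) := closedPoint A
  have e1 : l' (Spec.map (CommRingCat.ofHom (algebraMap A (P.residueField y₁))) ptK) = y₁ := by
    rw [← Scheme.Hom.comp_apply, hl'1]
    exact Scheme.fromSpecResidueField_apply y₁ ptK
  have e2 : l' ptA = y₀ := by
    apply p.injective
    have h1 : p (l' ptA) = (l' ≫ p) ptA := (Scheme.Hom.comp_apply l' p ptA).symm
    have h2 : l' ≫ p = Spec.map θA ≫ X'.fromSpecStalk x₀ := pullback.lift_snd _ _ _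
    rw [h1, h2, Scheme.Hom.comp_apply]
    have h3 : Spec.map θA ptA = closedPoint (X'.presheaf.stalk x₀) :=
      IsLocalRing.comap_closedPoint (S := A) θA.hom
    rw [h3]
    exact Scheme.fromSpecStalk_closedPoint
  rw [← e1, ← e2]
  exact (specializes_closedPoint _).map l'.continuous



/-- Let f : Y ⟶ X be a monomorphism of schemes, X quasi-separated. Then the projection Y ×_X X' ⟶ X'
reflects specializations (if the image of y₁ specializes to the image of y₀ then y₁ specializes to
y₀) after every base change X' ⟶ X if and only if, for every valuation ring A with fraction field K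
and every commutative square Spec K ⟶ Y, Spec A ⟶ X over f such that, in addition, some morphism
from the spectrum of the residue field of A to Y lies over Spec A ⟶ X, the square admits a lift Spec
A ⟶ Y. -/
theorem result {X Y : Scheme.{u}} [QuasiSeparatedSpace ↥X]
    (f : Y ⟶ X) [Mono f] :
    (∀ (X' : Scheme.{u}) (g : X' ⟶ X) (y₀ y₁ : ↥(pullback f g)),
        (pullback.snd f g).base y₁ ⤳ (pullback.snd f g).base y₀ → y₁ ⤳ y₀) ↔
      ∀ S : ValuativeCommSq f,
        (∃ l₀ : Spec (CommRingCat.of (IsLocalRing.ResidueField S.R)) ⟶ Y,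
            l₀ ≫ f = Spec.map (CommRingCat.ofHom (IsLocalRing.residue S.R)) ≫ S.i₂) →
          S.commSq.HasLift := by
  constructor
  · intro H S hS
    obtain ⟨l₀, hl₀⟩ := hS
    exact lift_of_reflects f H S l₀ hl₀
  · intro H X' g y₀ y₁ h
    exact reflects_of_lift f H X' g y₀ y₁ h

end Groth.Agent.S15344
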