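import Groth.Statements.S13602


set_option autoImplicit false
universe u
open CategoryTheory AlgebraicGeometry
open SymProd

namespace Groth.Agent.S13602

open CategoryTheory.Limits

/-- The prime ideal of `Γ(X, U)` of sections vanishing at the point `y ∈ U`. -/
noncomputable def primeAt {X : Scheme.{u}} (U : X.Opens) (y : X) (hy : y ∈ U) : Ideal Γ(X, U) :=
  (IsLocalRing.maximalIdeal (X.presheaf.stalk y)).comap (X.presheaf.germ U y hy).hom

theorem primeAt_isPrime {X : Scheme.{u}} (U : X.Opens) (y : X) (hy : y ∈ U) :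
    (primeAt U y hy).IsPrime :=
  Ideal.comap_isPrime _ _

theorem mem_basicOpen_iff {X : Scheme.{u}} (U : X.Opens) (y : X) (hy : y ∈ U) (h : Γ(X, U)) :
    y ∈ X.basicOpen h ↔ h ∉ primeAt U y hy := by
  rw [Scheme.mem_basicOpen X h y hy]
  have e : h ∈ primeAt U y hy ↔ ¬ IsUnit ((X.presheaf.germ U y hy).hom h) := by
    unfold primeAt
    rw [Ideal.mem_comap, IsLocalRing.mem_maximalIdeal, mem_nonunits_iff]
  exact ⟨fun hu hm => (e.1 hm) hu, fun hn => Classical.byContradiction fun hu => hn (e.2 hu)⟩

/-- Finitely many points of an open subset `O`, all lying in an affine open `U`, lie in a basic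
open of `U` contained in `O`. -/
theorem exists_basicOpen_le_of_finite {X : Scheme.{u}} {U : X.Opens} (hU : IsAffineOpen U)
    (O : X.Opens) {ι : Type} [Fintype ι] (pt : ι → X) (h1 : ∀ i, pt i ∈ U) (h2 : ∀ i, pt i ∈ O) :
    ∃ h : Γ(X, U), X.basicOpen h ≤ O ∧ ∀ i, pt i ∈ X.basicOpen h := by
  classical
  rcases isEmpty_or_nonempty ι with hι | ⟨⟨a⟩⟩
  · exact ⟨0, by rw [Scheme.basicOpen_zero]; exact bot_le, fun i => isEmptyElim i⟩
  choose g hg1 hg2 using fun i => hU.exists_basicOpen_le (V := O) ⟨pt i, h2 i⟩ (h1 i)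
  let I : Ideal Γ(X, U) := Ideal.span (Set.range g)
  have key := Ideal.subset_union_prime (R := Γ(X, U)) (s := (Finset.univ : Finset ι))
    (f := fun i => primeAt U (pt i) (h1 i)) a a
    (fun i _ _ _ => primeAt_isPrime U (pt i) (h1 i)) (I := I)
  have hI : ¬ ((I : Set Γ(X, U)) ⊆ ⋃ i ∈ (↑(Finset.univ : Finset ι) : Set ι),
      ((primeAt U (pt i) (h1 i) : Ideal Γ(X, U)) : Set Γ(X, U))) := by
    intro hsub
    obtain ⟨i, -, hi⟩ := key.1 hsub
    exact (mem_basicOpen_iff U _ (h1 i) (g i)).1 (hg2 i) (hi (Ideal.subset_span ⟨i, rfl⟩))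
  obtain ⟨h, hhI, hh⟩ := Set.not_subset.1 hI
  refine ⟨h, fun y hy => ?_, fun i => ?_⟩
  · have hyU : y ∈ U := X.basicOpen_le h hy
    by_contra hyO
    have hle : I ≤ primeAt U y hyU := by
      rw [Ideal.span_le]
      rintro _ ⟨i, rfl⟩
      by_contra hgi
      exact hyO (hg1 i ((mem_basicOpen_iff U y hyU (g i)).2 hgi))
    exact (mem_basicOpen_iff U y hyU h).1 hy (hle hhI)
  · rw [mem_basicOpen_iff U _ (h1 i)]
    intro hc
    exact hh (Set.mem_biUnion (Finset.mem_coe.2 (Finset.mem_univ i)) hc)

/-- The fibre power of an affine open `W` of `X` lying over an affine open `V` of `S` is an affine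
open of the fibre power of `X` over `S`. -/
theorem isAffineOpen_fibPow {X S : Scheme.{u}} (f : X ⟶ S) (d : ℕ) {V : S.Opens}
    (hV : IsAffineOpen V) {W : X.Opens} (hW : IsAffineOpen W) (hWV : W ≤ f ⁻¹ᵁ V)
    (Q : (SymProd.fibPow f d).Opens)
    (hQ : ∀ y, y ∈ Q ↔ ((WidePullback.base (fun _ : Fin d => f)).base y ∈ V ∧
      ∀ i, (WidePullback.π (fun _ : Fin d => f) i).base y ∈ W)) : IsAffineOpen Q := by
  have : IsAffine (V : Scheme.{u}) := hV
  have : IsAffine (W : Scheme.{u}) := hW
  let g : (W : Scheme.{u}) ⟶ (V : Scheme.{u}) := f.resLE V W hWV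
  have hg : g ≫ V.ι = W.ι ≫ f := Scheme.Hom.resLE_comp_ι f hWV
  have hπf : ∀ i, WidePullback.π (fun _ : Fin d => f) i ≫ f = WidePullback.base (fun _ : Fin d => f) :=
    fun i => WidePullback.π_arrow _ i
  let P' : Scheme.{u} :=
    widePullback (V : Scheme.{u}) (fun _ : Fin d => (W : Scheme.{u})) (fun _ => g)
  have : IsAffine P' := by
    have : ∀ i, IsAffine ((WidePullbackShape.wideCospan (V : Scheme.{u})
        (fun _ : Fin d => (W : Scheme.{u})) (fun _ => g)).obj i) := by
      rintro (_ | i)
      · exact hV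
      · exact hW
    exact Scheme.isAffine_of_isLimit (limit.cone (WidePullbackShape.wideCospan (V : Scheme.{u})
        (fun _ : Fin d => (W : Scheme.{u})) (fun _ => g))) (limit.isLimit _)
  let j : P' ⟶ SymProd.fibPow f d :=
    WidePullback.lift (WidePullback.base (fun _ : Fin d => g) ≫ V.ι)
      (fun i => WidePullback.π (fun _ : Fin d => g) i ≫ W.ι)
      (fun i => by
        show (WidePullback.π (fun _ : Fin d => g) i ≫ W.ι) ≫ f =
          WidePullback.base (fun _ : Fin d => g) ≫ V.ι
        rw [Category.assoc, ← hg, ← Category.assoc]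
        congr 1
        exact WidePullback.π_arrow _ i)
  have hjπ : ∀ i, j ≫ WidePullback.π (fun _ : Fin d => f) i =
      WidePullback.π (fun _ : Fin d => g) i ≫ W.ι :=
    fun i => WidePullback.lift_π _ _ _ _ i
  have hjb : j ≫ WidePullback.base (fun _ : Fin d => f) =
      WidePullback.base (fun _ : Fin d => g) ≫ V.ι :=
    WidePullback.lift_base _ _ _ _
  have hQV : Q ≤ (WidePullback.base (fun _ : Fin d => f)) ⁻¹ᵁ V := fun y hy => ((hQ y).1 hy).1
  have hQW : ∀ i, Q ≤ (WidePullback.π (fun _ : Fin d => f) i) ⁻¹ᵁ W :=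
    fun i y hy => ((hQ y).1 hy).2 i
  let k : (Q : Scheme.{u}) ⟶ P' :=
    WidePullback.lift ((WidePullback.base (fun _ : Fin d => f)).resLE V Q hQV)
      (fun i => (WidePullback.π (fun _ : Fin d => f) i).resLE W Q (hQW i))
      (fun i => by
        show (WidePullback.π (fun _ : Fin d => f) i).resLE W Q (hQW i) ≫ g =
          (WidePullback.base (fun _ : Fin d => f)).resLE V Q hQV
        rw [← cancel_mono V.ι, Category.assoc, hg, Scheme.Hom.resLE_comp_ι_assoc,
          Scheme.Hom.resLE_comp_ι, hπf])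
  have hkπ : ∀ i, k ≫ WidePullback.π (fun _ : Fin d => g) i =
      (WidePullback.π (fun _ : Fin d => f) i).resLE W Q (hQW i) :=
    fun i => WidePullback.lift_π _ _ _ _ i
  have hkb : k ≫ WidePullback.base (fun _ : Fin d => g) =
      (WidePullback.base (fun _ : Fin d => f)).resLE V Q hQV :=
    WidePullback.lift_base _ _ _ _
  have hkj : k ≫ j = Q.ι := by
    apply WidePullback.hom_ext
    · intro i
      rw [Category.assoc, hjπ, ← Category.assoc, hkπ, Scheme.Hom.resLE_comp_ι]
    · rw [Category.assoc, hjb, ← Category.assoc, hkb, Scheme.Hom.resLE_comp_ι]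
  have hrange : Set.range j ⊆ Set.range Q.ι := by
    rw [Scheme.Opens.range_ι]
    rintro _ ⟨t, rfl⟩
    refine (hQ _).2 ⟨?_, fun i => ?_⟩
    · have e : (WidePullback.base (fun _ : Fin d => f)).base (j.base t) =
          V.ι.base ((WidePullback.base (fun _ : Fin d => g)).base t) := by
        rw [← Scheme.Hom.comp_apply, ← Scheme.Hom.comp_apply, hjb]
      rw [e]
      exact ((WidePullback.base (fun _ : Fin d => g)).base t).2
    · have e : (WidePullback.π (fun _ : Fin d => f) i).base (j.base t) =
          W.ι.base ((WidePullback.π (fun _ : Fin d => g) i).base t) := by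
        rw [← Scheme.Hom.comp_apply, ← Scheme.Hom.comp_apply, hjπ]
      rw [e]
      exact ((WidePullback.π (fun _ : Fin d => g) i).base t).2
  let j' : P' ⟶ (Q : Scheme.{u}) := IsOpenImmersion.lift Q.ι j hrange
  have hj' : j' ≫ Q.ι = j := IsOpenImmersion.lift_fac _ _ _
  have hj'k : j' ≫ k = 𝟙 P' := by
    apply WidePullback.hom_ext
    · intro i
      rw [Category.assoc, Category.id_comp, hkπ, ← cancel_mono W.ι, Category.assoc,
        Scheme.Hom.resLE_comp_ι, ← Category.assoc, hj', hjπ]
    · rw [Category.assoc, Category.id_comp, hkb, ← cancel_mono V.ι, Category.assoc,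
        Scheme.Hom.resLE_comp_ι, ← Category.assoc, hj', hjb]
  have : IsIso k :=
    ⟨⟨j', by rw [← cancel_mono Q.ι, Category.assoc, hj', hkj, Category.id_comp], hj'k⟩⟩
  exact IsAffine.of_isIso k


/-- Let f : X ⟶ S be a morphism of schemes satisfying (AF): every finite set of points of X over a
single point of S lies in an affine open of X. Then for every d ≥ 0 and every point x of the d-fold
fibre power X ×_S ⋯ ×_S X, some affine open of the fibre power contains the whole orbit of x under
the symmetric group on d letters permuting the factors. (With the existence of a quotient by a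
finite group whose orbits lie in affine opens, this is the existence of the symmetric power
Sym^d(X/S) for X/S satisfying (AF).) -/
theorem result {X S : Scheme.{u}} (f : X ⟶ S) (hAF : SymProd.IsAF f)
    (d : ℕ) (x : ↥(SymProd.fibPow f d)) :
    ∃ U : (SymProd.fibPow f d).Opens, IsAffineOpen U ∧
      ∀ σ : Equiv.Perm (Fin d), (SymProd.permHom f d σ).base x ∈ U := by
  classical
  have hpt : ∀ i, f.base ((WidePullback.π (fun _ : Fin d => f) i).base x) =
      (WidePullback.base (fun _ : Fin d => f)).base x := by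
    intro i
    rw [← Scheme.Hom.comp_apply, WidePullback.π_arrow]
  obtain ⟨U, hU, hUx⟩ := hAF ((WidePullback.base (fun _ : Fin d => f)).base x)
    (Finset.univ.image fun i => (WidePullback.π (fun _ : Fin d => f) i).base x) (by
      intro y hy
      obtain ⟨i, -, rfl⟩ := Finset.mem_image.1 hy
      exact hpt i)
  have hUx' : ∀ i, (WidePullback.π (fun _ : Fin d => f) i).base x ∈ U :=
    fun i => hUx _ (Finset.mem_image.2 ⟨i, Finset.mem_univ i, rfl⟩)
  obtain ⟨V, hV, hsV, -⟩ := exists_isAffineOpen_mem_and_subset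
    (x := (WidePullback.base (fun _ : Fin d => f)).base x) (U := ⊤) trivial
  obtain ⟨h, hhO, hhx⟩ := exists_basicOpen_le_of_finite hU (f ⁻¹ᵁ V)
    (fun i : Fin d => (WidePullback.π (fun _ : Fin d => f) i).base x) hUx' (fun i => by
      show f.base ((WidePullback.π (fun _ : Fin d => f) i).base x) ∈ V
      rw [hpt i]; exact hsV)
  have hW : IsAffineOpen (X.basicOpen h) := hU.basicOpen h
  let Q : (SymProd.fibPow f d).Opens :=
    ⟨{y | (WidePullback.base (fun _ : Fin d => f)).base y ∈ V ∧
        ∀ i, (WidePullback.π (fun _ : Fin d => f) i).base y ∈ X.basicOpen h}, by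
      have e : {y | (WidePullback.base (fun _ : Fin d => f)).base y ∈ V ∧
          ∀ i, (WidePullback.π (fun _ : Fin d => f) i).base y ∈ X.basicOpen h} =
          ((WidePullback.base (fun _ : Fin d => f)).base ⁻¹' (V : Set S)) ∩
            ⋂ i, (WidePullback.π (fun _ : Fin d => f) i).base ⁻¹' (X.basicOpen h : Set X) := by
        ext y; simp
      rw [e]
      exact (V.isOpen.preimage (Scheme.Hom.continuous _)).inter
        (isOpen_iInter_of_finite fun i => (X.basicOpen h).isOpen.preimage (Scheme.Hom.continuous _))⟩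
  refine ⟨Q, isAffineOpen_fibPow f d hV hW hhO Q (fun y => Iff.rfl), fun σ => ?_⟩
  show (WidePullback.base (fun _ : Fin d => f)).base ((SymProd.permHom f d σ).base x) ∈ V ∧
    ∀ i, (WidePullback.π (fun _ : Fin d => f) i).base ((SymProd.permHom f d σ).base x) ∈
      X.basicOpen h
  refine ⟨?_, fun i => ?_⟩
  · rw [← Scheme.Hom.comp_apply, SymProd.permHom_base]
    exact hsV
  · rw [← Scheme.Hom.comp_apply, SymProd.permHom_π]
    exact hhx (σ.symm i)

end Groth.Agent.S13602
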