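import Groth.Statements.S5048
import Mathlib

set_option autoImplicit false
open CategoryTheory AlgebraicGeometry
universe u
open Unram

namespace Groth.Agent.S5048

/-- Let Y be an irreducible scheme with generic point η and f : X ⟶ Y flat, locally of finite type and
locally quasi-finite. Then a point x of X maps to η if and only if its closure is an irreducible
component of X; thus the irreducible components of X are in canonical bijection with the fibre over
η. -/
theorem result {X Y : Scheme.{u}} [IrreducibleSpace ↥Y] (f : X ⟶ Y)
    [Flat f] [LocallyOfFiniteType f] [LocallyQuasiFinite f] (x : X) :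
    f.base x = genericPoint Y ↔ closure ({x} : Set ↥X) ∈ irreducibleComponents ↥X := by
  have hgen : GeneralizingMap f.base := Flat.generalizingMap f
  constructor
  · intro hx
    refine ⟨isIrreducible_singleton.closure, ?_⟩
    intro Z hZ hle
    have hZc : IsIrreducible (closure Z) := hZ.closure
    obtain ⟨z, hz⟩ := QuasiSober.sober hZc isClosed_closure
    have hxz : x ∈ closure ({z} : Set X) := by
      rw [hz.def]
      exact subset_closure (hle (subset_closure rfl))
    have hspec : z ⤳ x := specializes_iff_mem_closure.mpr hxz
    have hfz : f.base z = genericPoint Y := by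
      refine (Specializes.antisymm ?_ ?_).eq
      · rw [← hx]; exact hspec.map f.continuous
      · exact genericPoint_specializes _
    have hdisc : _root_.IsDiscrete (f.base ⁻¹' {genericPoint Y}) := f.isDiscrete_preimage_singleton _
    haveI := hdisc.to_subtype
    have hspec' : (⟨z, hfz⟩ : f.base ⁻¹' {genericPoint Y}) ⤳ ⟨x, hx⟩ :=
      Topology.IsInducing.subtypeVal.specializes_iff.mp hspec
    have heq := congrArg Subtype.val hspec'.eq
    simp only at heq
    intro y hy
    have : y ∈ closure Z := subset_closure hy
    rw [← hz.def, heq] at this
    exact this
  · intro hx
    have h1 : genericPoint Y ⤳ f.base x := genericPoint_specializes _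
    obtain ⟨x', hx'x, hx'⟩ := hgen h1
    have hle : closure ({x} : Set X) ≤ closure {x'} :=
      closure_minimal (Set.singleton_subset_iff.mpr (specializes_iff_mem_closure.mp hx'x)) isClosed_closure
    have hle2 := hx.2 (isIrreducible_singleton.closure) hle
    have hxx' : x ⤳ x' := specializes_iff_mem_closure.mpr (hle2 (subset_closure rfl))
    have : x' = x := (hx'x.antisymm hxx').eq
    rw [← this, hx']

end Groth.Agent.S5048
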