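import Groth.Statements.S5049
import Mathlib
import Groth.Agent.H25.IrredGen

set_option autoImplicit false
open CategoryTheory AlgebraicGeometry
universe u
open Unram

namespace Groth.Agent.S5049

set_option linter.style.haveILetI false
set_option linter.unusedVariables false
open CategoryTheory AlgebraicGeometry


/-- Let f : X ⟶ Y be flat, locally of finite type and locally quasi-finite. If the irreducible
components of Y form a locally finite family of subsets, then so do the irreducible components of X. -/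
theorem result {X Y : Scheme.{u}} (f : X ⟶ Y)
    [Flat f] [LocallyOfFiniteType f] [LocallyQuasiFinite f]
    (hY : LocallyFinite (fun Z : ↥(irreducibleComponents ↥Y) => (Z : Set ↥Y))) :
    LocallyFinite (fun Z : ↥(irreducibleComponents ↥X) => (Z : Set ↥X)) := by
  intro x
  obtain ⟨t, ht, hfin⟩ := hY (f x)
  obtain ⟨U, hUt, hUo, hxU⟩ := mem_nhds_iff.mp ht
  obtain ⟨V, hV, hxV, hVU⟩ := exists_isAffineOpen_mem_and_subset (x := f x) (U := ⟨U, hUo⟩) hxU
  obtain ⟨W, hW, hxW, hWV⟩ := exists_isAffineOpen_mem_and_subset (x := x) (U := f ⁻¹ᵁ V) hxV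
  refine ⟨W, W.isOpen.mem_nhds hxW, ?_⟩
  have hWV' : W ≤ f ⁻¹ᵁ V := hWV
  -- finiteness downstairs, in set-builder form
  have hfinV : {Z ∈ irreducibleComponents ↥Y | (Z ∩ (V : Set Y)).Nonempty}.Finite := by
    refine (hfin.image Subtype.val).subset ?_
    rintro Z ⟨hZ, hZV⟩
    refine ⟨⟨Z, hZ⟩, ?_, rfl⟩
    obtain ⟨z, hzZ, hzV⟩ := hZV
    exact ⟨z, hzZ, hUt (hVU hzV)⟩
  -- finite fibres on `W`
  have hfib : ∀ y : Y, ((W : Set X) ∩ f ⁻¹' {y}).Finite := by
    intro y
    by_cases hy : y ∈ V
    · haveI : IsAffine W.toScheme := hW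
      have : IsAffine V.toScheme := hV
      have h1 := (f.resLE V W hWV').finite_preimage_singleton ⟨y, hy⟩
      refine (h1.image Subtype.val).subset ?_
      rintro w ⟨hwW, hwy⟩
      refine ⟨⟨w, hwW⟩, ?_, rfl⟩
      have h2 := congrArg (fun g => g.base ⟨w, hwW⟩) (Scheme.Hom.resLE_comp_ι f (U := V) (V := W) hWV')
      simp only [Scheme.Hom.comp_base, TopCat.hom_comp] at h2
      apply Subtype.ext
      exact h2.trans hwy
    · convert Set.finite_empty
      ext w
      simp only [Set.mem_inter_iff, Set.mem_preimage, Set.mem_singleton_iff, Set.mem_empty_iff_false,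
        iff_false, not_and]
      intro hwW hwy
      exact hy (hwy ▸ hWV hwW)
  have key := Groth.Agent.H25.IrredGen.finite_components_meeting (Flat.generalizingMap (f := f)) hfinV
    W.isOpen (fun w hw => hWV hw) hfib
  refine Set.Finite.of_finite_image (f := Subtype.val) (key.subset ?_) Subtype.val_injective.injOn
  rintro _ ⟨Z, hZ, rfl⟩
  exact ⟨Z.2, hZ⟩

end Groth.Agent.S5049
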