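import Groth.Statements.S5067
import Mathlib

set_option autoImplicit false
open CategoryTheory AlgebraicGeometry
universe u
open Unram

namespace Groth.Agent.S5067

open CategoryTheory.Limits

theorem locallyQuasiFinite_of_unramified {X Y : Scheme.{u}} (f : X ⟶ Y)
    [LocallyOfFiniteType f] [FormallyUnramified f] : LocallyQuasiFinite f := by
  refine ⟨fun {U} hU {V} hV e => ?_⟩
  have h1 : (f.appLE U V e).hom.FiniteType := f.finiteType_appLE hU hV e
  have h2 : (f.appLE U V e).hom.FormallyUnramified := f.formallyUnramified_appLE hU hV e
  algebraize [(f.appLE U V e).hom]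
  show (algebraMap _ _).QuasiFinite
  rw [RingHom.quasiFinite_algebraMap]
  infer_instance

/-- if the left leg of a triplet induces an iso on residue fields, the tensor has one prime. -/
theorem subsingleton_spec_tensor {X S : Scheme.{u}} (f : X ⟶ S) (T : Scheme.Pullback.Triplet f f)
    (hiso : IsIso (f.residueFieldMap T.x)) : Subsingleton ↥(Spec T.tensor) := by
  have hi : IsIso ((S.residueFieldCongr T.hx).inv ≫ f.residueFieldMap T.x) := inferInstance
  have : IsIso T.tensorInr := by
    unfold Scheme.Pullback.Triplet.tensorInr
    exact pushout_inr_iso_of_left_iso _ _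
  let i : X.residueField T.y ≅ T.tensor := asIso T.tensorInr
  refine ⟨fun p q => ?_⟩
  have h1 : ∀ r : ↥(Spec T.tensor), Spec.map i.inv (Spec.map i.hom r) = r := by
    intro r
    rw [← Scheme.Hom.comp_apply, ← Spec.map_comp, i.inv_hom_id, Spec.map_id]
    rfl
  have h2 : Spec.map i.hom p = Spec.map i.hom q := Subsingleton.elim _ _
  rw [← h1 p, ← h1 q, h2]


/-- Let f : X ⟶ Y be an étale separated morphism of integral schemes which maps the generic point of X
to the generic point of Y and induces a bijection between the residue fields of the generic points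
(f is birational). Then f is an open immersion. -/
theorem result {X Y : Scheme.{u}} [IsIntegral X] [IsIntegral Y]
    (f : X ⟶ Y) [Etale f] [IsSeparated f] (hgen : f.base (genericPoint X) = genericPoint Y)
    (hbir : Function.Bijective (f.residueFieldMap (genericPoint X)).hom) : IsOpenImmersion f := by
  have : LocallyQuasiFinite f := locallyQuasiFinite_of_unramified f
  -- (a) the only point of the generic fibre is the generic point
  have ha : ∀ x₁ : X, f x₁ = f (genericPoint X) → x₁ = genericPoint X := by
    intro x₁ h1
    have hspec : genericPoint X ⤳ x₁ := genericPoint_specializes x₁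
    have hdisc : _root_.IsDiscrete (f ⁻¹' {f (genericPoint X)}) :=
      f.isDiscrete_preimage_singleton (f (genericPoint X))
    have := hdisc.to_subtype
    have h2 : (⟨genericPoint X, rfl⟩ : ↥(f ⁻¹' {f (genericPoint X)})) ⤳ ⟨x₁, h1⟩ :=
      Topology.IsInducing.subtypeVal.specializes_iff.mp hspec
    have h3 := h2.eq
    exact (congrArg Subtype.val h3).symm
  -- (b) isomorphism on residue fields at points equal to the generic point
  have hiso : ∀ x : X, x = genericPoint X → IsIso (f.residueFieldMap x) := by
    rintro _ rfl
    exact (ConcreteCategory.isIso_iff_bijective _).mpr hbir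
  -- (c) uniqueness of the point above (ξ, ξ)
  have huniq : ∀ z₁ z₂ : ↥(pullback f f), pullback.fst f f z₁ = genericPoint X →
      pullback.snd f f z₁ = genericPoint X → pullback.fst f f z₂ = genericPoint X →
      pullback.snd f f z₂ = genericPoint X → z₁ = z₂ := by
    intro z₁ z₂ h11 h12 h21 h22
    apply Scheme.Pullback.carrierEquiv.injective
    apply Scheme.Pullback.carrierEquiv_eq_iff.mpr
    have e : Scheme.Pullback.Triplet.ofPoint z₁ = Scheme.Pullback.Triplet.ofPoint z₂ := by
      apply Scheme.Pullback.Triplet.ext
      · simp [h11, h21]
      · simp [h12, h22]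
    refine ⟨e, ?_⟩
    have hss := subsingleton_spec_tensor f (Scheme.Pullback.Triplet.ofPoint z₂)
      (hiso _ (by simpa using h21))
    exact @Subsingleton.elim _ hss _ _
  -- (d) the diagonal is surjective
  have hflat : Flat (pullback.snd f f) := inferInstance
  have hgenz : GeneralizingMap (pullback.snd f f) := Flat.generalizingMap _
  have hcl : IsClosed (Set.range (pullback.diagonal f)) :=
    (pullback.diagonal f).isClosedEmbedding.isClosed_range
  have hΔ1 : pullback.fst f f (pullback.diagonal f (genericPoint X)) = genericPoint X := by
    rw [← Scheme.Hom.comp_apply, pullback.diagonal_fst]; rfl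
  have hΔ2 : pullback.snd f f (pullback.diagonal f (genericPoint X)) = genericPoint X := by
    rw [← Scheme.Hom.comp_apply, pullback.diagonal_snd]; rfl
  have hsurj : Function.Surjective (pullback.diagonal f) := by
    intro z
    have hs : genericPoint X ⤳ pullback.snd f f z := genericPoint_specializes _
    obtain ⟨z', hz'z, hz'⟩ := hgenz hs
    have h1 : pullback.fst f f z' = genericPoint X := by
      apply ha
      have hc : f (pullback.fst f f z') = f (pullback.snd f f z') := by
        rw [← Scheme.Hom.comp_apply, ← Scheme.Hom.comp_apply, pullback.condition]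
      rw [hc, hz']
    have h2 : z' = pullback.diagonal f (genericPoint X) := huniq _ _ h1 hz' hΔ1 hΔ2
    have h3 : z ∈ closure ({z'} : Set ↥(pullback f f)) := hz'z.mem_closure
    have h4 : closure ({z'} : Set ↥(pullback f f)) ⊆ Set.range (pullback.diagonal f) :=
      hcl.closure_subset_iff.mpr (by rw [Set.singleton_subset_iff, h2]; exact ⟨_, rfl⟩)
    exact h4 h3
  -- (e) the diagonal is an iso
  have : Epi (pullback.diagonal f).base := by
    rw [TopCat.epi_iff_surjective]
    exact hsurj
  have : IsIso (pullback.diagonal f) := IsOpenImmersion.isIso _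
  have : Mono f := (pullback.isIso_diagonal_iff f).mp inferInstance
  exact IsOpenImmersion.of_flat_of_mono f

end Groth.Agent.S5067
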