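import Groth.Statements.S7194
import Groth.Agent.H73.WeilLoc6

set_option autoImplicit false
universe u
open CategoryTheory AlgebraicGeometry
open FlatMor

namespace Groth.Agent.S7194

/-- For a finite locally free morphism Z → S and an affine morphism X → S, the functor on S-schemes
sending T to the set of S-morphisms T ×_S Z → X is represented by an S-scheme W whose structure
morphism W → S is affine. -/
theorem result {Z X S : Scheme.{u}} (g : Z ⟶ S) (f : X ⟶ S) (hg : Mor2.IsFinLocFree g) [IsAffineHom f] :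
    ∃ W : Over S, IsAffineHom W.hom ∧ Nonempty ((Flatn.morS g f).RepresentableBy W) := by
  obtain ⟨hfin, hflat, hfp⟩ := hg
  haveI : IsFinite g := hfin
  have hmem : ∀ {T : Scheme.{u}} (t : T ⟶ S) (b : (Flatn.morS g f).obj (Opposite.op (Over.mk t)))
      (x : T) (V : S.Opens), t x ∈ V →
      x ∈ Groth.Agent.H73.WeilLoc.locOpen t b V (f ⁻¹ᵁ V) := by
    intro T t b x V hx
    rw [Groth.Agent.H73.WeilLoc.mem_locOpen]
    refine ⟨hx, fun y hy => ?_⟩
    show f _ ∈ V
    rw [Groth.Agent.H73.WeilLoc.f_lft, hy]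
    exact hx
  obtain ⟨W₀, ⟨R⟩⟩ := Groth.Agent.H73.WeilLoc.representable_of_cover (g := g) (f := f) (by
    intro T t b x
    obtain ⟨V, hsV, hV, hVU⟩ :=
      Groth.Agent.H73.WeilLoc.exists_hasLocRep g f ⟨hfin, hflat, hfp⟩ (t x)
    exact ⟨V, f ⁻¹ᵁ V, hVU _ (hV.preimage f) le_rfl, hmem t b x V hsV⟩)
  refine ⟨W₀, ?_, ⟨R⟩⟩
  apply isAffineHom_of_forall_exists_isAffineOpen
  intro s
  obtain ⟨V, hsV, hV, hVU⟩ :=
    Groth.Agent.H73.WeilLoc.exists_hasLocRep g f ⟨hfin, hflat, hfp⟩ s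
  obtain ⟨W_V, w_V, ξ_V, hWaff, hrep⟩ := hVU _ (hV.preimage f) le_rfl
  exact ⟨V, hsV, hV, Groth.Agent.H73.WeilLoc.isAffineOpen_preimage_of_locRep R hrep⟩

end Groth.Agent.S7194
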