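import Groth.Statements.S13174
import Mathlib

set_option autoImplicit false
universe u v w
open scoped TensorProduct
open ZeroCyc

namespace Groth.Agent.S13174

open TensorProduct

section Aux

variable {A : Type u} [CommRing A] {M : Type v} [AddCommGroup M] [Module A M]
  {N : Type w} [AddCommGroup N] [Module A N]
  (T : ∀ n : ℕ, MvPolynomial (Fin n) A ⊗[A] M → MvPolynomial (Fin n) A ⊗[A] N)

/-- value of a lift -/
noncomputable def val {S : Type u} [CommSemiring S] [Algebra A S] {n : ℕ}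
    (ψ : MvPolynomial (Fin n) A →ₐ[A] S) (p : MvPolynomial (Fin n) A ⊗[A] M) : S ⊗[A] N :=
  ψ.toLinearMap.rTensor N (T n p)

variable (hT : ∀ (n m : ℕ) (φ : MvPolynomial (Fin n) A →ₐ[A] MvPolynomial (Fin m) A),
    φ.toLinearMap.rTensor N ∘ T n = T m ∘ φ.toLinearMap.rTensor M)

include hT in
theorem val_comp {S : Type u} [CommSemiring S] [Algebra A S] {n m : ℕ}
    (γ : MvPolynomial (Fin n) A →ₐ[A] MvPolynomial (Fin m) A)
    (ψ' : MvPolynomial (Fin m) A →ₐ[A] S) (p : MvPolynomial (Fin n) A ⊗[A] M) :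
    val T ψ' (γ.toLinearMap.rTensor M p) = val T (ψ'.comp γ) p := by
  have h := congr_fun (hT n m γ) p
  simp only [Function.comp_apply] at h
  unfold val
  rw [← h, ← LinearMap.comp_apply, ← LinearMap.rTensor_comp, AlgHom.comp_toLinearMap]

include hT in
theorem val_add_tmul {S : Type u} [CommSemiring S] [Algebra A S] {n : ℕ}
    (ψ : MvPolynomial (Fin n) A →ₐ[A] S) (j : MvPolynomial (Fin n) A) (hj : ψ j = 0) (m : M)
    (q : MvPolynomial (Fin n) A ⊗[A] M) :
    val T ψ (q + j ⊗ₜ[A] m) = val T ψ q := by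
  let ι : MvPolynomial (Fin n) A →ₐ[A] MvPolynomial (Fin (n+1)) A := MvPolynomial.rename Fin.castSucc
  let α : MvPolynomial (Fin (n+1)) A →ₐ[A] MvPolynomial (Fin n) A :=
    MvPolynomial.aeval (Fin.snoc (α := fun _ => MvPolynomial (Fin n) A) (fun i => MvPolynomial.X i) j)
  let β : MvPolynomial (Fin (n+1)) A →ₐ[A] MvPolynomial (Fin n) A :=
    MvPolynomial.aeval (Fin.snoc (α := fun _ => MvPolynomial (Fin n) A) (fun i => MvPolynomial.X i) 0)
  have hαι : α.comp ι = AlgHom.id A _ := by
    apply MvPolynomial.algHom_ext; intro i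
    simp [ι, α]
  have hβι : β.comp ι = AlgHom.id A _ := by
    apply MvPolynomial.algHom_ext; intro i
    simp [ι, β]
  have hψ : ψ.comp α = ψ.comp β := by
    apply MvPolynomial.algHom_ext; intro i
    refine Fin.lastCases ?_ (fun i => ?_) i
    · simp [α, β, hj]
    · simp [α, β]
  let r : MvPolynomial (Fin (n+1)) A ⊗[A] M :=
    ι.toLinearMap.rTensor M q + (MvPolynomial.X (Fin.last n)) ⊗ₜ[A] m
  have hαr : α.toLinearMap.rTensor M r = q + j ⊗ₜ[A] m := by
    simp only [r, map_add, LinearMap.rTensor_tmul, AlgHom.toLinearMap_apply]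
    rw [← LinearMap.comp_apply, ← LinearMap.rTensor_comp, ← AlgHom.comp_toLinearMap, hαι]
    simp [α]
  have hβr : β.toLinearMap.rTensor M r = q := by
    simp only [r, map_add, LinearMap.rTensor_tmul, AlgHom.toLinearMap_apply]
    rw [← LinearMap.comp_apply, ← LinearMap.rTensor_comp, ← AlgHom.comp_toLinearMap, hβι]
    simp [β]
  rw [← hαr, val_comp T hT, hψ, ← val_comp T hT, hβr]

include hT in
theorem val_eq_of_rangeRestrict_eq {S : Type u} [CommSemiring S] [Algebra A S] {n : ℕ}
    (ψ : MvPolynomial (Fin n) A →ₐ[A] S) (p p' : MvPolynomial (Fin n) A ⊗[A] M)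
    (h : ψ.rangeRestrict.toLinearMap.rTensor M p = ψ.rangeRestrict.toLinearMap.rTensor M p') :
    val T ψ p = val T ψ p' := by
  set Nk : Submodule A (MvPolynomial (Fin n) A) := LinearMap.ker ψ.toLinearMap with hNk
  have hsurj : ∀ y : ψ.range, ∃ x, ψ x = y.1 := fun y => y.2
  choose g hg using hsurj
  have hmk : ∀ a b : MvPolynomial (Fin n) A, ψ a = ψ b → Nk.mkQ a = Nk.mkQ b := by
    intro a b hab
    rw [Submodule.mkQ_apply, Submodule.mkQ_apply, Submodule.Quotient.eq, hNk, LinearMap.mem_ker]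
    have h1 : a - b = a + (-1 : A) • b := by rw [neg_one_smul, sub_eq_add_neg]
    rw [h1, map_add, map_smul]
    simp only [AlgHom.toLinearMap_apply]
    rw [hab]
    have h2 : ψ b + (-1 : A) • ψ b = (1 + (-1 : A)) • ψ b := by rw [add_smul, one_smul]
    rw [h2]; simp
  let κ : ψ.range →ₗ[A] (MvPolynomial (Fin n) A ⧸ Nk) :=
    { toFun := fun y => Nk.mkQ (g y)
      map_add' := fun y y' => by
        rw [← map_add]; apply hmk; rw [map_add, hg, hg, hg]; rfl
      map_smul' := fun c y => by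
        rw [RingHom.id_apply, ← map_smul]; apply hmk; rw [map_smul, hg, hg]; rfl }
  have hκ : κ ∘ₗ ψ.rangeRestrict.toLinearMap = Nk.mkQ := by
    refine LinearMap.ext fun x => ?_
    show Nk.mkQ (g (ψ.rangeRestrict x)) = Nk.mkQ x
    apply hmk; rw [hg]; rfl
  have h2 : Nk.mkQ.rTensor M (p - p') = 0 := by
    rw [map_sub, ← hκ, LinearMap.rTensor_comp, LinearMap.comp_apply, LinearMap.comp_apply, h,
      sub_self]
  have h3 : p - p' ∈ LinearMap.range (Nk.subtype.rTensor M) := by
    rw [← rTensor_mkQ]; exact h2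
  obtain ⟨z, hz⟩ := h3
  have key : ∀ z : Nk ⊗[A] M, ∀ q, val T ψ (q + Nk.subtype.rTensor M z) = val T ψ q := by
    intro z
    induction z using TensorProduct.induction_on with
    | zero => intro q; simp
    | tmul j m =>
      intro q
      rw [LinearMap.rTensor_tmul]
      exact val_add_tmul T hT ψ j.1 (LinearMap.mem_ker.mp j.2) m q
    | add a b ha hb => intro q; rw [map_add, ← add_assoc, hb, ha]
  have hp : p = p' + (p - p') := by abel
  rw [hp, ← hz, key]

include hT in
theorem exists_val_eq_of_range_le {S : Type u} [CommSemiring S] [Algebra A S] {n m : ℕ}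
    (ψ : MvPolynomial (Fin n) A →ₐ[A] S) (ψ' : MvPolynomial (Fin m) A →ₐ[A] S)
    (h : ψ.range ≤ ψ'.range) (p : MvPolynomial (Fin n) A ⊗[A] M) :
    ∃ p' : MvPolynomial (Fin m) A ⊗[A] M, val T ψ' p' = val T ψ p ∧
      ψ'.rangeRestrict.toLinearMap.rTensor M p' =
        (Subalgebra.inclusion h).toLinearMap.rTensor M (ψ.rangeRestrict.toLinearMap.rTensor M p) := by
  have hex : ∀ i : Fin n, ∃ g, ψ' g = ψ (MvPolynomial.X i) := fun i => h ⟨MvPolynomial.X i, rfl⟩
  choose g hg using hex
  let γ : MvPolynomial (Fin n) A →ₐ[A] MvPolynomial (Fin m) A := MvPolynomial.aeval g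
  have hγ : ψ'.comp γ = ψ := by
    apply MvPolynomial.algHom_ext; intro i
    simp [γ, hg]
  refine ⟨γ.toLinearMap.rTensor M p, by rw [val_comp T hT, hγ], ?_⟩
  rw [← LinearMap.comp_apply, ← LinearMap.comp_apply, ← LinearMap.rTensor_comp,
    ← LinearMap.rTensor_comp]
  congr 2
  refine LinearMap.ext fun x => Subtype.ext ?_
  show ψ' (γ x) = ψ x
  exact AlgHom.congr_fun hγ x

include hT in
theorem val_wd {S : Type u} [CommSemiring S] [Algebra A S] {n₁ n₂ : ℕ}
    (ψ₁ : MvPolynomial (Fin n₁) A →ₐ[A] S) (ψ₂ : MvPolynomial (Fin n₂) A →ₐ[A] S)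
    (p₁ : MvPolynomial (Fin n₁) A ⊗[A] M) (p₂ : MvPolynomial (Fin n₂) A ⊗[A] M)
    (h : ψ₁.toLinearMap.rTensor M p₁ = ψ₂.toLinearMap.rTensor M p₂) :
    val T ψ₁ p₁ = val T ψ₂ p₂ := by
  have fg₁ : ψ₁.range.FG := by
    rw [← Algebra.map_top]; exact Subalgebra.FG.map _ Algebra.FiniteType.out
  have fg₂ : ψ₂.range.FG := by
    rw [← Algebra.map_top]; exact Subalgebra.FG.map _ Algebra.FiniteType.out
  have e₁ : ψ₁.range.val.toLinearMap.rTensor M (ψ₁.rangeRestrict.toLinearMap.rTensor M p₁) =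
      ψ₁.toLinearMap.rTensor M p₁ := by
    rw [← LinearMap.comp_apply, ← LinearMap.rTensor_comp]; rfl
  have e₂ : ψ₂.range.val.toLinearMap.rTensor M (ψ₂.rangeRestrict.toLinearMap.rTensor M p₂) =
      ψ₂.toLinearMap.rTensor M p₂ := by
    rw [← LinearMap.comp_apply, ← LinearMap.rTensor_comp]; rfl
  obtain ⟨B, hB₁, hB₂, hBfg, hB⟩ := TensorProduct.Algebra.eq_of_fg_of_subtype_eq' (R := A)
    (hA := fg₁) (hA' := fg₂) (t := ψ₁.rangeRestrict.toLinearMap.rTensor M p₁)
    (t' := ψ₂.rangeRestrict.toLinearMap.rTensor M p₂) (by rw [e₁, e₂, h])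
  obtain ⟨s, hs⟩ := PolynomialLaw.exists_range_φ_eq_of_fg (R := A) hBfg
  subst hs
  obtain ⟨q₁, hv₁, hr₁⟩ := exists_val_eq_of_range_le T hT ψ₁ (PolynomialLaw.φ A s) hB₁ p₁
  obtain ⟨q₂, hv₂, hr₂⟩ := exists_val_eq_of_range_le T hT ψ₂ (PolynomialLaw.φ A s) hB₂ p₂
  rw [← hv₁, ← hv₂]
  apply val_eq_of_rangeRestrict_eq T hT
  rw [hr₁, hr₂]
  exact hB

/-- the extension -/
noncomputable def ext' (S : Type u) [CommSemiring S] [Algebra A S] (t : S ⊗[A] M) : S ⊗[A] N :=
  val T (PolynomialLaw.exists_lift (R := A) t).choose_spec.choose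
    (PolynomialLaw.exists_lift (R := A) t).choose_spec.choose_spec.choose

include hT in
theorem ext'_eq {S : Type u} [CommSemiring S] [Algebra A S] {n : ℕ}
    (ψ : MvPolynomial (Fin n) A →ₐ[A] S) (p : MvPolynomial (Fin n) A ⊗[A] M) :
    ext' T S (ψ.toLinearMap.rTensor M p) = val T ψ p := by
  unfold ext'
  apply val_wd T hT
  exact (PolynomialLaw.exists_lift (R := A) (ψ.toLinearMap.rTensor M p)).choose_spec.choose_spec.choose_spec

end Aux


/-- Let M and N be A-modules. Polynomial laws M → N correspond one-to-one, by restriction, to families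
of maps T_n : M[t_1, …, t_n] → N[t_1, …, t_n], n ≥ 0, compatible with all A-algebra homomorphisms
A[t_1, …, t_n] → A[t_1, …, t_m]: in the definition of a polynomial law the category of A-algebras
may be replaced by the polynomial rings in finitely many variables. (Here a polynomial law is given
on all commutative A-algebra semirings of the universe of A.) -/
theorem result {A : Type u} [CommRing A] {M : Type v} [AddCommGroup M] [Module A M] {N : Type w} [AddCommGroup N] [Module A N] :
    Function.Bijective (fun F : M →ₚₗ[A] N =>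
      (⟨fun n => F.toFun' (MvPolynomial (Fin n) A), fun n m φ => F.isCompat' φ⟩ :
        {T : ∀ n : ℕ, MvPolynomial (Fin n) A ⊗[A] M → MvPolynomial (Fin n) A ⊗[A] N //
          ∀ (n m : ℕ) (φ : MvPolynomial (Fin n) A →ₐ[A] MvPolynomial (Fin m) A),
            φ.toLinearMap.rTensor N ∘ T n = T m ∘ φ.toLinearMap.rTensor M})) := by
  classical
  constructor
  · intro F G hFG
    have h : ∀ n, F.toFun' (MvPolynomial (Fin n) A) = G.toFun' (MvPolynomial (Fin n) A) :=
      fun n => congr_fun (congrArg Subtype.val hFG) n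
    apply PolynomialLaw.ext
    funext S _ _ t
    obtain ⟨n, ψ, p, rfl⟩ := PolynomialLaw.exists_lift (R := A) t
    rw [← PolynomialLaw.isCompat_apply' (f := F), ← PolynomialLaw.isCompat_apply' (f := G), h n]
  · rintro ⟨T, hT⟩
    let F : M →ₚₗ[A] N :=
      { toFun' := fun S _ _ => ext' T S
        isCompat' := by
          intro S _ _ S' _ _ φ
          funext t
          obtain ⟨n, ψ, p, rfl⟩ := PolynomialLaw.exists_lift (R := A) t
          simp only [Function.comp_apply]
          rw [ext'_eq T hT, ← LinearMap.comp_apply, ← LinearMap.rTensor_comp,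
            ← AlgHom.comp_toLinearMap, ext'_eq T hT]
          unfold val
          rw [AlgHom.comp_toLinearMap, LinearMap.rTensor_comp]
          rfl }
    refine ⟨F, Subtype.ext ?_⟩
    funext n t
    show ext' T _ t = T n t
    have h := ext'_eq T hT (AlgHom.id A (MvPolynomial (Fin n) A)) t
    rw [AlgHom.toLinearMap_id, LinearMap.rTensor_id, LinearMap.id_apply] at h
    rw [h]
    unfold val
    rw [AlgHom.toLinearMap_id, LinearMap.rTensor_id, LinearMap.id_apply]

end Groth.Agent.S13174
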