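import Groth.Statements.S18812
import Groth.Agent.H93.Integral
import Groth.Agent.H93.Comod
import Mathlib.LinearAlgebra.Basis.VectorSpace

set_option autoImplicit false
universe u v w
open TensorProduct
open HopfRep

namespace Groth.Agent.S18812

/-- Let k be a field and A a commutative Hopf algebra over k, the coordinate ring of an affine group
scheme G. Suppose the inclusion of constants k → A splits as a map of G-representations: there is a
k-linear map α : A → k which is a comodule map from the regular comodule A to the trivial comodule k
and satisfies α(1) = 1. Then every A-comodule, of any dimension, is semisimple: every subcomodule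
has a complementary subcomodule. (The source works with left comodules; this is the right-comodule
form. The converse implication is the easy one and is not part of this row.) -/
theorem result (k : Type u) [Field k] (A : Type v) [CommRing A] [HopfAlgebra k A]
    (α : A →ₗ[k] k) (hα : @Hoch.IsComodHom k _ A _ _ _ A _ _ _ k _ _ (HopfRep.Comod.trivial k A k) α)
    (h1 : α 1 = 1)
    (V : Type w) [AddCommGroup V] [Module k V] [HopfRep.Comod k A V] :
    HopfRep.IsSemisimpleComod k A V := by
  intro W hW
  have hInt := Groth.Agent.H93.isInt_of_isComodHom α hα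
  obtain ⟨p, hp⟩ := W.subtype.exists_leftInverse_of_injective (Submodule.ker_subtype W)
  let π : V →ₗ[k] V := W.subtype ∘ₗ p
  let P : V →ₗ[k] V := Groth.Agent.H93.retr α ∘ₗ π.rTensor A ∘ₗ
    HopfRep.Comod.coact (k := k) (A := A)
  have hPcomod : Hoch.IsComodHom A P := Groth.Agent.H93.isComodHom_average α hInt π
  have hPW : ∀ v : V, P v ∈ W := by
    intro v
    apply Groth.Agent.H93.retr_mem α W hW
    show π.rTensor A (HopfRep.Comod.coact (k := k) (A := A) v) ∈ _
    rw [LinearMap.rTensor_comp, LinearMap.comp_apply]
    exact ⟨_, rfl⟩
  have hπ : π ∘ₗ W.subtype = W.subtype := by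
    show (W.subtype ∘ₗ p) ∘ₗ W.subtype = W.subtype
    rw [LinearMap.comp_assoc, hp, LinearMap.comp_id]
  have hPid : ∀ w ∈ W, P w = w := by
    intro w hw
    obtain ⟨t, ht⟩ := hW w hw
    show Groth.Agent.H93.retr α (π.rTensor A (HopfRep.Comod.coact (k := k) (A := A) w)) = w
    have h2 : π.rTensor A (HopfRep.Comod.coact (k := k) (A := A) w) =
        HopfRep.Comod.coact (k := k) (A := A) w := by
      rw [← ht, ← LinearMap.comp_apply, ← LinearMap.rTensor_comp, hπ]
    rw [h2]
    exact Groth.Agent.H93.retr_coact α h1 w
  refine ⟨LinearMap.ker P, Groth.Agent.H93.isSubcomod_ker hPcomod, ?_, ?_⟩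
  · rw [Submodule.disjoint_def]
    intro x hxW hxK
    rw [← hPid x hxW]
    exact LinearMap.mem_ker.mp hxK
  · rw [codisjoint_iff, eq_top_iff]
    intro x _
    have hx : x = P x + (x - P x) := by abel
    rw [hx]
    refine Submodule.add_mem_sup (hPW x) ?_
    rw [LinearMap.mem_ker, map_sub, hPid _ (hPW x), sub_self]

end Groth.Agent.S18812
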