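import Groth.Statements.S15450
import Groth.Agent.H77.WeilGraph

set_option autoImplicit false
universe u v
open CategoryTheory AlgebraicGeometry
open WeilCoh

namespace Groth.Agent.S15450

open Groth.Agent.H77 in
theorem neg_one_pow_mul_sub (K : Type*) [Field K] (n r : ℕ) (hr : r ≤ 2 * n) :
    (-1 : K) ^ (r * (2 * n - r)) = (-1) ^ r := by
  rcases Nat.even_or_odd r with h | h
  · rw [Even.neg_one_pow (h.mul_right _), Even.neg_one_pow h]
  · have h2 : Odd (2 * n - r) := by
      obtain ⟨m, hm⟩ := h
      exact ⟨n - m - 1, by omega⟩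
    rw [Odd.neg_one_pow (h.mul h2), Odd.neg_one_pow h]

open Groth.Agent.H77


/-- Let H^* be a Weil cohomology theory (coefficients in K of characteristic zero, on nonsingular
connected projective varieties over an algebraically closed field k), φ an endomorphism of such a
variety X, and Γ_φ, Δ ⊂ X × X the graph of φ and the diagonal. Then (Γ_φ · Δ) = Σ_{i=0}^{2 dim X}
(−1)^i trace(φ^* | H^i(X)). The intersection number is written in the form Tr_{X×X}(cl(Γ_φ) ∪ cl(Δ))
that the argument establishes (it equals the Chow-ring intersection number once the cycle class map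
is known to be a ring homomorphism compatible with degrees); X × X is any object P with a cartesian
square p, q : P → X over Spec k, Γ_φ and Δ are the closures of the images of the generic point of X
under the sections j = (id, φ) and d = (id, id) of p. -/
theorem result (k : Type u) [Field k] [IsAlgClosed k] (K : Type v) [Field K] [CharZero K]
    (T : WeilCoh.Theory k K)
    (X P : WeilCoh.Var k) [IrreducibleSpace ↥X.obj.left] (φ : X ⟶ X)
    (p q : P ⟶ X) (hP : WeilCoh.IsProd p q) (j d : X ⟶ P)
    (hjp : j ≫ p = 𝟙 X) (hjq : j ≫ q = φ) (hdp : d ≫ p = 𝟙 X) (hdq : d ≫ q = 𝟙 X) :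
    T.tr P (T.cl P (WeilCoh.sm j (genericPoint ↥X.obj.left)) * T.cl P (WeilCoh.sm d (genericPoint ↥X.obj.left))) =
      ∑ i ∈ Finset.range (2 * WeilCoh.dim X.obj.left + 1),
        (-1 : K) ^ i * LinearMap.trace K ↥(T.gr X (i : ℤ)) (T.pullDeg φ (i : ℤ)) := by
  classical
  have hN := dim_eq_add_of_isProd T p q hP
  have hdim : WeilCoh.dim X.obj.left ≤ WeilCoh.dim P.obj.left := by omega
  let ι : ℕ → Type := fun r => Fin (Module.finrank K (T.gr X (r : ℤ)))
  let e : (r : ℕ) → Module.Basis (ι r) K (T.gr X (r : ℤ)) := fun r => Module.finBasis K _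
  have hdual : ∀ r : ℕ, ∃ f : ι r → T.gr X (2 * (WeilCoh.dim X.obj.left : ℤ) - r), ∀ i l,
      T.tr X ((f l : T.H X) * (e r i : T.H X)) = if i = l then 1 else 0 := by
    intro r
    have hp := T.duality X (2 * (WeilCoh.dim X.obj.left : ℤ) - r) r (by ring)
    choose f hf using fun l : ι r => hp.bijective_left.2 ((e r).coord l)
    refine ⟨f, fun i l => ?_⟩
    have := congrArg (fun ψ => ψ (e r i)) (hf l)
    simp only [pairing_apply] at this
    rw [this]
    simp [Module.Basis.coord_apply, Finsupp.single_apply]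
  choose f hf using hdual
  have hgraph := cl_graph T φ p q hP ι e f (fun r _ => hf r) j hjp hjq
  have hcomm : T.cl P (WeilCoh.sm j (genericPoint ↥X.obj.left)) *
      T.cl P (WeilCoh.sm d (genericPoint ↥X.obj.left)) =
      T.cl P (WeilCoh.sm d (genericPoint ↥X.obj.left)) *
      T.cl P (WeilCoh.sm j (genericPoint ↥X.obj.left)) := by
    rw [T.gradedComm P _ _ _ _ (T.cl_mem P _) (T.cl_mem P _)]
    rw [Even.neg_one_pow, one_smul]
    exact Even.mul_right (by simp [Int.natAbs_mul]) _
  rw [hcomm, ← tr_pull_section T d p hdp hdim, hgraph, map_sum, map_sum]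
  refine Finset.sum_congr rfl (fun r hr => ?_)
  have hr' : r ≤ 2 * WeilCoh.dim X.obj.left := by
    have := Finset.mem_range.mp hr; omega
  rw [map_sum, map_sum]
  have hterm : ∀ i : ι r, T.tr X (T.pull d (T.pull p (T.pull φ (e r i : T.H X)) *
      T.pull q (f r i : T.H X))) = (-1 : K) ^ r * (e r).repr (T.pullDeg φ r (e r i)) i := by
    intro i
    have h1 : ∀ x, T.pull d (T.pull p x) = x := fun x => by
      rw [← AlgHom.comp_apply, ← T.pull_comp, hdp, T.pull_id]; rfl
    have h2 : ∀ x, T.pull d (T.pull q x) = x := fun x => by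
      rw [← AlgHom.comp_apply, ← T.pull_comp, hdq, T.pull_id]; rfl
    rw [map_mul, h1, h2]
    show T.tr X (T.pull φ (e r i : T.H X) * (f r i : T.H X)) = _
    rw [T.gradedComm X r (2 * (WeilCoh.dim X.obj.left : ℤ) - r) _ _
      (T.pull_mem φ _ _ (e r i).2) (f r i).2, map_smul, smul_eq_mul,
      ← tr_mul_eq_repr T (e r) (f r) (hf r) (T.pullDeg φ r (e r i)) i]
    have e1 : (2 * (WeilCoh.dim X.obj.left : ℤ) - r).natAbs = 2 * WeilCoh.dim X.obj.left - r := by
      omega
    rw [e1, Int.natAbs_natCast, neg_one_pow_mul_sub K _ _ hr']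
    rfl
  rw [Finset.sum_congr rfl (fun i _ => hterm i), ← Finset.mul_sum]
  congr 1
  rw [LinearMap.trace_eq_matrix_trace K (e r), Matrix.trace]
  simp [Matrix.diag, LinearMap.toMatrix_apply]

end Groth.Agent.S15450
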