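import Groth.Statements.S13070
import Mathlib
import Groth.Agent.H74.PtCount4
import Groth.Agent.H42.PtCountSP
import Groth.Agent.H98.PtCountDIM
-- import your own Groth.Agent.* helpers here

set_option autoImplicit false
universe u
open CategoryTheory AlgebraicGeometry
open Zeta

namespace Groth.Agent.S13070

/-- For an arithmetic scheme X (of finite type over ℤ) of dimension r there are c_X > 0 and p₀ such that
#X(F_{p^m}) ≤ c_X p^{m(r−1)} for all primes p ≥ p₀ and m ≥ 1, and #X(F_{p^m}) ≤ c_X p^{mr} for p <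
p₀ and m ≥ 1. Here #X(F) is the number of morphisms Spec F → X, and the dimension is only assumed ≤
r. -/
theorem result {X : Scheme.{u}}
    (f : X ⟶ Spec (CommRingCat.of (ULift.{u} ℤ))) [LocallyOfFiniteType f] [QuasiCompact f] (r : ℕ)
    (hr : topologicalKrullDim X ≤ r) :
    ∃ (c : ℝ) (p₀ : ℕ), 0 < c ∧ ∀ (p m : ℕ), p.Prime → 1 ≤ m →
      ∀ (F : Type u) [Field F], Nat.card F = p ^ m →
        (p₀ ≤ p → (Nat.card (Spec (CommRingCat.of F) ⟶ X) : ℝ) ≤
            c * (p : ℝ) ^ ((m : ℝ) * ((r : ℝ) - 1))) ∧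
        (p < p₀ → (Nat.card (Spec (CommRingCat.of F) ⟶ X) : ℝ) ≤ c * (p : ℝ) ^ ((m : ℝ) * r)) := by
  classical
  obtain ⟨n, A, hft, hdim, hcard⟩ := Groth.Agent.H42.PtCountSP.exists_affine_pieces f r hr
  have hD : Groth.Agent.H74.PtCount.DimLemma.{u} := fun D _ _ _ _ E _ _ _ s hs =>
    Groth.Agent.H98.PtCountDIM.succ_le_ringKrullDim_of_localization E s hs
  have hring : ∀ i, ∃ c p₀ : ℕ, 0 < c ∧ ∀ (F : Type u) [Field F] [Finite F],
      Nat.card (A i →+* F) ≤ c * Nat.card F ^ r ∧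
      (p₀ ≤ ringChar F → Nat.card (A i →+* F) * Nat.card F ≤ c * Nat.card F ^ r) := fun i => by
    haveI := hft i
    exact Groth.Agent.H74.PtCount.ring_main hD (A i) r (hdim i)
  choose ci pi hci hi using hring
  refine ⟨((∑ i, ci i + 1 : ℕ) : ℝ), ∑ i, pi i, by positivity, ?_⟩
  intro p m hp hm F _ hF
  haveI : Finite F := Nat.finite_of_card_ne_zero (by rw [hF]; exact pow_ne_zero _ hp.ne_zero)
  haveI : Fintype F := Fintype.ofFinite F
  haveI := ringChar.charP F
  have hchar : ringChar F = p := by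
    have h1 : ((Nat.card F : ℕ) : F) = 0 := by
      rw [Nat.card_eq_fintype_card]; exact Nat.cast_card_eq_zero F
    have h2 : ringChar F ∣ p ^ m := by rw [← hF]; exact ringChar.dvd h1
    have h3 : (ringChar F).Prime := CharP.char_is_prime F (ringChar F)
    exact (Nat.prime_dvd_prime_iff_eq h3 hp).mp (h3.dvd_of_dvd_pow h2)
  have hq : 1 ≤ Nat.card F := Nat.card_pos
  have hweakN : Nat.card (Spec (CommRingCat.of F) ⟶ X) ≤ (∑ i, ci i) * Nat.card F ^ r := by
    calc Nat.card (Spec (CommRingCat.of F) ⟶ X) ≤ ∑ i, Nat.card ((A i) →+* F) := hcard F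
      _ ≤ ∑ i, ci i * Nat.card F ^ r := Finset.sum_le_sum (fun i _ => (hi i F).1)
      _ = (∑ i, ci i) * Nat.card F ^ r := (Finset.sum_mul _ _ _).symm
  have hstrongN : (∑ i, pi i) ≤ p →
      Nat.card (Spec (CommRingCat.of F) ⟶ X) * Nat.card F ≤ (∑ i, ci i) * Nat.card F ^ r := by
    intro h
    calc Nat.card (Spec (CommRingCat.of F) ⟶ X) * Nat.card F
        ≤ (∑ i, Nat.card ((A i) →+* F)) * Nat.card F := Nat.mul_le_mul_right _ (hcard F)
      _ = ∑ i, Nat.card ((A i) →+* F) * Nat.card F := Finset.sum_mul _ _ _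
      _ ≤ ∑ i, ci i * Nat.card F ^ r := by
          apply Finset.sum_le_sum
          intro i _
          apply (hi i F).2
          rw [hchar]
          exact (Finset.single_le_sum (f := pi) (fun _ _ => Nat.zero_le _)
            (Finset.mem_univ i)).trans h
      _ = (∑ i, ci i) * Nat.card F ^ r := (Finset.sum_mul _ _ _).symm
  have hp0 : (0 : ℝ) ≤ (p : ℝ) := Nat.cast_nonneg p
  have hQ : ((Nat.card F : ℕ) : ℝ) = (p : ℝ) ^ (m : ℝ) := by
    rw [hF, Nat.cast_pow, Real.rpow_natCast]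
  have hQpos : (0 : ℝ) < ((Nat.card F : ℕ) : ℝ) := by exact_mod_cast hq
  have hQr : (p : ℝ) ^ ((m : ℝ) * (r : ℝ)) = ((Nat.card F : ℕ) : ℝ) ^ r := by
    rw [Real.rpow_mul hp0, ← hQ, Real.rpow_natCast]
  constructor
  · intro h
    have h1 : (p : ℝ) ^ ((m : ℝ) * ((r : ℝ) - 1)) =
        ((Nat.card F : ℕ) : ℝ) ^ r / ((Nat.card F : ℕ) : ℝ) := by
      rw [Real.rpow_mul hp0, ← hQ, Real.rpow_sub_one hQpos.ne', Real.rpow_natCast]
    rw [h1, ← mul_div_assoc, le_div_iff₀ hQpos]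
    have h2 : ((Nat.card (Spec (CommRingCat.of F) ⟶ X) * Nat.card F : ℕ) : ℝ) ≤
        (((∑ i, ci i) * Nat.card F ^ r : ℕ) : ℝ) := by exact_mod_cast hstrongN h
    push_cast at h2 ⊢
    nlinarith [pow_nonneg hQpos.le r]
  · intro _
    rw [hQr]
    have h2 : ((Nat.card (Spec (CommRingCat.of F) ⟶ X) : ℕ) : ℝ) ≤
        (((∑ i, ci i) * Nat.card F ^ r : ℕ) : ℝ) := by exact_mod_cast hweakN
    push_cast at h2 ⊢
    nlinarith [pow_nonneg hQpos.le r]

end Groth.Agent.S13070
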