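import Groth.Statements.S13719
import Mathlib
import Groth.Agent.H76.PolLawBC
-- import your own Groth.Agent.* helpers here

set_option autoImplicit false
universe u
open scoped TensorProduct
open ZeroCyc

namespace Groth.Agent.S13719

open Groth.Agent.H76.PolLawBC

section Gen

open Polynomial

variable {A : Type u} [CommRing A]

theorem nontrivial_of_connected [ConnectedSpace (PrimeSpectrum A)] : Nontrivial A :=
  PrimeSpectrum.nonempty_iff_nontrivial.mp inferInstance

theorem idem_of_connected [ConnectedSpace (PrimeSpectrum A)] {e : A} (he : IsIdempotentElem e) :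
    e = 0 ∨ e = 1 := by
  have hcl : IsClopen ((PrimeSpectrum.basicOpen e : TopologicalSpace.Opens (PrimeSpectrum A)) :
      Set (PrimeSpectrum A)) := PrimeSpectrum.isClopen_iff.mpr ⟨e, he, rfl⟩
  rcases _root_.isClopen_iff.mp hcl with h | h
  · left
    apply PrimeSpectrum.basicOpen_injOn_isIdempotentElem he IsIdempotentElem.zero
    apply TopologicalSpace.Opens.ext
    exact h.trans (by simp)
  · right
    apply PrimeSpectrum.basicOpen_injOn_isIdempotentElem he IsIdempotentElem.one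
    apply TopologicalSpace.Opens.ext
    exact h.trans (by simp)

theorem coeffA (p : A[X]) (j : ℕ) :
    (Polynomial.aeval (C X * X : A[X][X]) p).coeff j = C (p.coeff j) * X ^ j := by
  induction p using Polynomial.induction_on' with
  | add p q hp hq => rw [map_add, coeff_add, coeff_add, hp, hq, map_add, add_mul]
  | monomial n a =>
    have e1 : Polynomial.aeval (C X * X : A[X][X]) (monomial n a) = C (C a * X ^ n) * X ^ n := by
      rw [aeval_monomial, mul_pow, ← C_pow, C_mul, mul_assoc]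
      rfl
    rw [e1, coeff_C_mul_X_pow, coeff_monomial]
    by_cases h : j = n
    · subst h; rw [if_pos rfl, if_pos rfl]
    · rw [if_neg h, if_neg (Ne.symm h), map_zero, zero_mul]

theorem coeffB (p : A[X]) (j : ℕ) :
    (Polynomial.aeval (X : A[X][X]) p).coeff j = C (p.coeff j) := by
  induction p using Polynomial.induction_on' with
  | add p q hp hq => rw [map_add, coeff_add, coeff_add, hp, hq, map_add]
  | monomial n a =>
    have e1 : Polynomial.aeval (X : A[X][X]) (monomial n a) = C (C a) * X ^ n := by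
      rw [aeval_monomial]
      rfl
    rw [e1, coeff_C_mul_X_pow, coeff_monomial]
    by_cases h : j = n
    · subst h; rw [if_pos rfl, if_pos rfl]
    · rw [if_neg h, if_neg (Ne.symm h), map_zero]

theorem aevalC (p : A[X]) : Polynomial.aeval (C X : A[X][X]) p = C p := by
  induction p using Polynomial.induction_on' with
  | add p q hp hq => rw [map_add, hp, hq, map_add]
  | monomial n a =>
    rw [aeval_monomial, ← C_pow, ← C_mul_X_pow_eq_monomial, C_mul]
    rfl

theorem eq_X_pow_of_mult [ConnectedSpace (PrimeSpectrum A)] (P : A[X])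
    (hM : Polynomial.aeval (C X * X : A[X][X]) P =
      Polynomial.aeval (C X : A[X][X]) P * Polynomial.aeval (X : A[X][X]) P)
    (hU : Polynomial.aeval (1 : A) P = 1) : ∃ k : ℕ, P = X ^ k := by
  have : Nontrivial A := nontrivial_of_connected
  have hij : ∀ i j : ℕ, (if i = j then P.coeff j else 0) = P.coeff i * P.coeff j := by
    intro i j
    have hj : (Polynomial.aeval (C X * X : A[X][X]) P).coeff j =
        (Polynomial.aeval (C X : A[X][X]) P * Polynomial.aeval (X : A[X][X]) P).coeff j := by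
      rw [hM]
    rw [coeffA, aevalC, coeff_C_mul, coeffB] at hj
    have h2 : (C (P.coeff j) * X ^ j : A[X]).coeff i = (P * C (P.coeff j)).coeff i := by rw [hj]
    rw [coeff_C_mul_X_pow, coeff_mul_C] at h2
    exact h2
  have hP0 : P ≠ 0 := by
    intro h0
    rw [h0, map_zero] at hU
    exact zero_ne_one hU
  have hk : P.coeff P.natDegree ≠ 0 := Polynomial.leadingCoeff_ne_zero.mpr hP0
  refine ⟨P.natDegree, ?_⟩
  have h1 : P.coeff P.natDegree = 1 := by
    have hid : IsIdempotentElem (P.coeff P.natDegree) := by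
      have := hij P.natDegree P.natDegree
      rw [if_pos rfl] at this
      exact this.symm
    rcases idem_of_connected hid with h | h
    · exact absurd h hk
    · exact h
  ext i
  rw [coeff_X_pow]
  by_cases hi : i = P.natDegree
  · rw [if_pos hi, hi, h1]
  · rw [if_neg hi]
    have := hij i P.natDegree
    rw [if_neg hi, h1, mul_one] at this
    exact this.symm

variable {B : Type u} [CommRing B] [Algebra A B]

theorem rid_eq (S : Type u) [CommSemiring S] [Algebra A S] (y : S ⊗[A] A) :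
    TensorProduct.rid A S y = Algebra.TensorProduct.rid A S S y := by
  induction y using TensorProduct.induction_on with
  | zero => rw [map_zero, map_zero]
  | tmul s a => rw [TensorProduct.rid_tmul, Algebra.TensorProduct.rid_tmul]
  | add x y hx hy => rw [map_add, map_add, hx, hy]

theorem val_one_of (f : B →ₚₗ[A] A) (hf : PolLaw.IsMult f) (S : Type u) [CommSemiring S]
    [Algebra A S] : val f S 1 = 1 := by
  unfold val
  rw [(hf S).1, rid_eq, map_one]

theorem val_mul_of (f : B →ₚₗ[A] A) (hf : PolLaw.IsMult f) (S : Type u) [CommSemiring S]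
    [Algebra A S] (x y : S ⊗[A] B) : val f S (x * y) = val f S x * val f S y := by
  unfold val
  rw [(hf S).2, rid_eq, map_mul, ← rid_eq, ← rid_eq]

theorem smul_eq_tmul_mul (S : Type u) [CommSemiring S] [Algebra A S] (s : S) (y : S ⊗[A] B) :
    s • y = (s ⊗ₜ[A] (1 : B)) * y := by
  induction y using TensorProduct.induction_on with
  | zero => rw [smul_zero, mul_zero]
  | tmul a b =>
    rw [TensorProduct.smul_tmul', Algebra.TensorProduct.tmul_mul_tmul, smul_eq_mul, one_mul]
  | add x y hx hy => rw [smul_add, mul_add, hx, hy]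

theorem exists_pow [ConnectedSpace (PrimeSpectrum A)] (f : B →ₚₗ[A] A) (hf : PolLaw.IsMult f)
    (w : ∀ (S : Type u) [CommSemiring S] [Algebra A S], S → S ⊗[A] B)
    (hnat : ∀ (S S' : Type u) [CommSemiring S] [Algebra A S] [CommSemiring S'] [Algebra A S']
      (φ : S →ₐ[A] S') (s : S),
      Algebra.TensorProduct.map φ (AlgHom.id A B) (w S s) = w S' (φ s))
    (hmul : ∀ (S : Type u) [CommSemiring S] [Algebra A S] (s s' : S),
      w S (s * s') = w S s * w S s')
    (hone : ∀ (S : Type u) [CommSemiring S] [Algebra A S], w S 1 = 1) :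
    ∃ k : ℕ, ∀ (S : Type u) [CommSemiring S] [Algebra A S] (s : S),
      f.toFun' S (w S s) = s ^ k • (1 : S ⊗[A] A) := by
  obtain ⟨P, hP⟩ : ∃ P : A[X], P = val f A[X] (w A[X] X) := ⟨_, rfl⟩
  have hval : ∀ (S : Type u) [CommSemiring S] [Algebra A S] (s : S),
      val f S (w S s) = Polynomial.aeval s P := by
    intro S _ _ s
    have h := val_map f (Polynomial.aeval s : A[X] →ₐ[A] S) (w A[X] X)
    rw [hnat, Polynomial.aeval_X] at h
    rw [h, hP]
  have hM : Polynomial.aeval (C X * X : A[X][X]) P =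
      Polynomial.aeval (C X : A[X][X]) P * Polynomial.aeval (X : A[X][X]) P := by
    have h1 := hval A[X][X] (C X * X)
    have h2 := hval A[X][X] (C X)
    have h3 := hval A[X][X] X
    rw [← h1, ← h2, ← h3, hmul, val_mul_of f hf]
  have hU : Polynomial.aeval (1 : A) P = 1 := by
    rw [← hval A 1, hone, val_one_of f hf]
  obtain ⟨k, hk⟩ := eq_X_pow_of_mult P hM hU
  refine ⟨k, fun S _ _ s => ?_⟩
  apply (TensorProduct.rid A S).injective
  have hv : val f S (w S s) = s ^ k := by rw [hval, hk, map_pow, Polynomial.aeval_X]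
  have hr : TensorProduct.rid A S (s ^ k • (1 : S ⊗[A] A)) = s ^ k := by
    rw [Algebra.TensorProduct.one_def, TensorProduct.smul_tmul', TensorProduct.rid_tmul, one_smul,
      smul_eq_mul, mul_one]
  exact hv.trans hr.symm

end Gen

section Prod

variable {A : Type u} [CommRing A] {B₁ : Type u} [CommRing B₁] [Algebra A B₁] {B₂ : Type u}
  [CommRing B₂] [Algebra A B₂]

local notation "Φ[" S "]" => Algebra.TensorProduct.prodRight A S S B₁ B₂

theorem Phi_fst (S : Type u) [CommSemiring S] [Algebra A S] (z : S ⊗[A] (B₁ × B₂)) :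
    ((Φ[S]) z).1 = LinearMap.lTensor S (LinearMap.fst A B₁ B₂) z := by
  induction z using TensorProduct.induction_on with
  | zero => rw [map_zero, map_zero]; rfl
  | tmul s b => rfl
  | add x y hx hy => rw [map_add, Prod.fst_add, hx, hy, map_add]

theorem Phi_snd (S : Type u) [CommSemiring S] [Algebra A S] (z : S ⊗[A] (B₁ × B₂)) :
    ((Φ[S]) z).2 = LinearMap.lTensor S (LinearMap.snd A B₁ B₂) z := by
  induction z using TensorProduct.induction_on with
  | zero => rw [map_zero, map_zero]; rfl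
  | tmul s b => rfl
  | add x y hx hy => rw [map_add, Prod.snd_add, hx, hy, map_add]

theorem Phi_nat {S S' : Type u} [CommSemiring S] [Algebra A S] [CommSemiring S'] [Algebra A S']
    (φ : S →ₐ[A] S') (z : S ⊗[A] (B₁ × B₂)) :
    (Φ[S']) (Algebra.TensorProduct.map φ (AlgHom.id A (B₁ × B₂)) z) =
      (Algebra.TensorProduct.map φ (AlgHom.id A B₁) ((Φ[S]) z).1,
        Algebra.TensorProduct.map φ (AlgHom.id A B₂) ((Φ[S]) z).2) := by
  induction z using TensorProduct.induction_on with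
  | zero => simp; rfl
  | tmul s b => rfl
  | add x y hx hy =>
    simp only [map_add, Prod.fst_add, Prod.snd_add, hx, hy, Prod.mk_add_mk]

theorem Phi_symm_nat {S S' : Type u} [CommSemiring S] [Algebra A S] [CommSemiring S']
    [Algebra A S'] (φ : S →ₐ[A] S') (y₁ : S ⊗[A] B₁) (y₂ : S ⊗[A] B₂) :
    Algebra.TensorProduct.map φ (AlgHom.id A (B₁ × B₂)) ((Φ[S]).symm (y₁, y₂)) =
      (Φ[S']).symm (Algebra.TensorProduct.map φ (AlgHom.id A B₁) y₁,
        Algebra.TensorProduct.map φ (AlgHom.id A B₂) y₂) := by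
  apply (Φ[S']).injective
  rw [Phi_nat, AlgEquiv.apply_symm_apply, AlgEquiv.apply_symm_apply]

theorem decomp (S : Type u) [CommSemiring S] [Algebra A S] (x : S ⊗[A] (B₁ × B₂)) :
    x = (Φ[S]).symm (LinearMap.lTensor S (LinearMap.fst A B₁ B₂) x, 1) *
      (Φ[S]).symm (1, LinearMap.lTensor S (LinearMap.snd A B₁ B₂) x) := by
  rw [← map_mul, Prod.mk_mul_mk, mul_one, one_mul, ← Phi_fst, ← Phi_snd, Prod.mk.eta,
    AlgEquiv.symm_apply_apply]

variable (A B₁ B₂) in
/-- `(s, 1)` in `S ⊗ (B₁ × B₂)`. -/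
noncomputable def uu₁ (S : Type u) [CommSemiring S] [Algebra A S] (s : S) : S ⊗[A] (B₁ × B₂) :=
  (Φ[S]).symm (s ⊗ₜ[A] (1 : B₁), (1 : S ⊗[A] B₂))

variable (A B₁ B₂) in
/-- `(1, s)` in `S ⊗ (B₁ × B₂)`. -/
noncomputable def uu₂ (S : Type u) [CommSemiring S] [Algebra A S] (s : S) : S ⊗[A] (B₁ × B₂) :=
  (Φ[S]).symm ((1 : S ⊗[A] B₁), s ⊗ₜ[A] (1 : B₂))

theorem uu₁_nat (S S' : Type u) [CommSemiring S] [Algebra A S] [CommSemiring S'] [Algebra A S']
    (φ : S →ₐ[A] S') (s : S) :
    Algebra.TensorProduct.map φ (AlgHom.id A (B₁ × B₂)) (uu₁ A B₁ B₂ S s) =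
      uu₁ A B₁ B₂ S' (φ s) := by
  unfold uu₁
  rw [Phi_symm_nat, Algebra.TensorProduct.map_tmul, map_one, map_one]

theorem uu₂_nat (S S' : Type u) [CommSemiring S] [Algebra A S] [CommSemiring S'] [Algebra A S']
    (φ : S →ₐ[A] S') (s : S) :
    Algebra.TensorProduct.map φ (AlgHom.id A (B₁ × B₂)) (uu₂ A B₁ B₂ S s) =
      uu₂ A B₁ B₂ S' (φ s) := by
  unfold uu₂
  rw [Phi_symm_nat, Algebra.TensorProduct.map_tmul, map_one, map_one]

theorem uu₁_mul (S : Type u) [CommSemiring S] [Algebra A S] (s s' : S) :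
    uu₁ A B₁ B₂ S (s * s') = uu₁ A B₁ B₂ S s * uu₁ A B₁ B₂ S s' := by
  unfold uu₁
  rw [← map_mul, Prod.mk_mul_mk, Algebra.TensorProduct.tmul_mul_tmul, one_mul, one_mul]

theorem uu₂_mul (S : Type u) [CommSemiring S] [Algebra A S] (s s' : S) :
    uu₂ A B₁ B₂ S (s * s') = uu₂ A B₁ B₂ S s * uu₂ A B₁ B₂ S s' := by
  unfold uu₂
  rw [← map_mul, Prod.mk_mul_mk, Algebra.TensorProduct.tmul_mul_tmul, one_mul, one_mul]

theorem uu₁_one (S : Type u) [CommSemiring S] [Algebra A S] : uu₁ A B₁ B₂ S 1 = 1 := by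
  unfold uu₁
  rw [← Algebra.TensorProduct.one_def, Prod.mk_one_one, map_one]

theorem uu₂_one (S : Type u) [CommSemiring S] [Algebra A S] : uu₂ A B₁ B₂ S 1 = 1 := by
  unfold uu₂
  rw [← Algebra.TensorProduct.one_def, Prod.mk_one_one, map_one]

theorem uu_mul_uu (S : Type u) [CommSemiring S] [Algebra A S] (s : S) :
    s • (1 : S ⊗[A] (B₁ × B₂)) = uu₁ A B₁ B₂ S s * uu₂ A B₁ B₂ S s := by
  unfold uu₁ uu₂
  rw [← map_mul, Prod.mk_mul_mk, mul_one, one_mul, Algebra.TensorProduct.prodRight_symm_tmul,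
    Prod.mk_one_one, smul_eq_tmul_mul, mul_one]

theorem lT_fst_uu₁ (S : Type u) [CommSemiring S] [Algebra A S] (s : S) :
    LinearMap.lTensor S (LinearMap.fst A B₁ B₂) (uu₁ A B₁ B₂ S s) = s • (1 : S ⊗[A] B₁) := by
  rw [← Phi_fst, smul_eq_tmul_mul, mul_one]
  unfold uu₁
  rw [AlgEquiv.apply_symm_apply]

theorem lT_snd_uu₁ (S : Type u) [CommSemiring S] [Algebra A S] (s : S) :
    LinearMap.lTensor S (LinearMap.snd A B₁ B₂) (uu₁ A B₁ B₂ S s) = 1 := by
  rw [← Phi_snd]
  unfold uu₁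
  rw [AlgEquiv.apply_symm_apply]

theorem lT_fst_uu₂ (S : Type u) [CommSemiring S] [Algebra A S] (s : S) :
    LinearMap.lTensor S (LinearMap.fst A B₁ B₂) (uu₂ A B₁ B₂ S s) = 1 := by
  rw [← Phi_fst]
  unfold uu₂
  rw [AlgEquiv.apply_symm_apply]

theorem lT_snd_uu₂ (S : Type u) [CommSemiring S] [Algebra A S] (s : S) :
    LinearMap.lTensor S (LinearMap.snd A B₁ B₂) (uu₂ A B₁ B₂ S s) = s • (1 : S ⊗[A] B₂) := by
  rw [← Phi_snd, smul_eq_tmul_mul, mul_one]
  unfold uu₂
  rw [AlgEquiv.apply_symm_apply]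

/-- the first factor `y ↦ f (y, 1)`. -/
noncomputable def law₁ (f : (B₁ × B₂) →ₚₗ[A] A) : B₁ →ₚₗ[A] A where
  toFun' S _ _ := fun y => f.toFun' S ((Φ[S]).symm (y, 1))
  isCompat' {S} _ _ {S'} _ _ φ := by
    funext y
    simp only [Function.comp_apply]
    have h := Phi_symm_nat φ y (1 : S ⊗[A] B₂)
    rw [map_one] at h
    rw [rTensor_eq_map φ y, ← h, ← rTensor_eq_map, ← PolynomialLaw.isCompat_apply']

/-- the second factor `y ↦ f (1, y)`. -/
noncomputable def law₂ (f : (B₁ × B₂) →ₚₗ[A] A) : B₂ →ₚₗ[A] A where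
  toFun' S _ _ := fun y => f.toFun' S ((Φ[S]).symm (1, y))
  isCompat' {S} _ _ {S'} _ _ φ := by
    funext y
    simp only [Function.comp_apply]
    have h := Phi_symm_nat φ (1 : S ⊗[A] B₁) y
    rw [map_one] at h
    rw [rTensor_eq_map φ y, ← h, ← rTensor_eq_map, ← PolynomialLaw.isCompat_apply']

theorem law₁_mult (f : (B₁ × B₂) →ₚₗ[A] A) (hf : PolLaw.IsMult f) : PolLaw.IsMult (law₁ f) := by
  intro S _ _
  refine ⟨?_, fun y y' => ?_⟩
  · show f.toFun' S ((Φ[S]).symm ((1 : S ⊗[A] B₁), (1 : S ⊗[A] B₂))) = 1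
    rw [Prod.mk_one_one, map_one, (hf S).1]
  · show f.toFun' S ((Φ[S]).symm (y * y', 1)) =
      f.toFun' S ((Φ[S]).symm (y, 1)) * f.toFun' S ((Φ[S]).symm (y', 1))
    rw [← (hf S).2, ← map_mul, Prod.mk_mul_mk, one_mul]

theorem law₂_mult (f : (B₁ × B₂) →ₚₗ[A] A) (hf : PolLaw.IsMult f) : PolLaw.IsMult (law₂ f) := by
  intro S _ _
  refine ⟨?_, fun y y' => ?_⟩
  · show f.toFun' S ((Φ[S]).symm ((1 : S ⊗[A] B₁), (1 : S ⊗[A] B₂))) = 1
    rw [Prod.mk_one_one, map_one, (hf S).1]
  · show f.toFun' S ((Φ[S]).symm (1, y * y')) =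
      f.toFun' S ((Φ[S]).symm (1, y)) * f.toFun' S ((Φ[S]).symm (1, y'))
    rw [← (hf S).2, ← map_mul, Prod.mk_mul_mk, one_mul]

theorem law₁_homog (f : (B₁ × B₂) →ₚₗ[A] A) (hf : PolLaw.IsMult f) (k : ℕ)
    (hk : ∀ (S : Type u) [CommSemiring S] [Algebra A S] (s : S),
      f.toFun' S (uu₁ A B₁ B₂ S s) = s ^ k • (1 : S ⊗[A] A)) : PolLaw.IsHomog (law₁ f) k := by
  intro S _ _ s y
  show f.toFun' S ((Φ[S]).symm (s • y, 1)) = s ^ k • f.toFun' S ((Φ[S]).symm (y, 1))
  have e : (Φ[S]).symm (s • y, (1 : S ⊗[A] B₂)) = uu₁ A B₁ B₂ S s * (Φ[S]).symm (y, 1) := by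
    unfold uu₁
    rw [← map_mul, Prod.mk_mul_mk, one_mul, ← smul_eq_tmul_mul]
  rw [e, (hf S).2, hk, smul_mul_assoc, one_mul]

theorem law₂_homog (f : (B₁ × B₂) →ₚₗ[A] A) (hf : PolLaw.IsMult f) (k : ℕ)
    (hk : ∀ (S : Type u) [CommSemiring S] [Algebra A S] (s : S),
      f.toFun' S (uu₂ A B₁ B₂ S s) = s ^ k • (1 : S ⊗[A] A)) : PolLaw.IsHomog (law₂ f) k := by
  intro S _ _ s y
  show f.toFun' S ((Φ[S]).symm (1, s • y)) = s ^ k • f.toFun' S ((Φ[S]).symm (1, y))
  have e : (Φ[S]).symm ((1 : S ⊗[A] B₁), s • y) = uu₂ A B₁ B₂ S s * (Φ[S]).symm (1, y) := by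
    unfold uu₂
    rw [← map_mul, Prod.mk_mul_mk, one_mul, ← smul_eq_tmul_mul]
  rw [e, (hf S).2, hk, smul_mul_assoc, one_mul]

theorem fact (f : (B₁ × B₂) →ₚₗ[A] A) (hf : PolLaw.IsMult f) (S : Type u) [CommSemiring S]
    [Algebra A S] (x : S ⊗[A] (B₁ × B₂)) :
    f.toFun' S x = (law₁ f).toFun' S (LinearMap.lTensor S (LinearMap.fst A B₁ B₂) x) *
      (law₂ f).toFun' S (LinearMap.lTensor S (LinearMap.snd A B₁ B₂) x) := by
  show f.toFun' S x =
    f.toFun' S ((Φ[S]).symm (LinearMap.lTensor S (LinearMap.fst A B₁ B₂) x, 1)) *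
      f.toFun' S ((Φ[S]).symm (1, LinearMap.lTensor S (LinearMap.snd A B₁ B₂) x))
  rw [← (hf S).2, ← decomp]

end Prod



/-- Let A be a commutative ring whose prime spectrum is connected, B₁, B₂ commutative A-algebras and F :
B₁ × B₂ → A a multiplicative polynomial law homogeneous of degree d (a family of zero-cycles of
degree d on the disjoint union Spec B₁ ⊔ Spec B₂ over Spec A). Then there are natural numbers d₁ +
d₂ = d, the multiplicities of the family on the two pieces, and multiplicative laws F₁ : B₁ → A, F₂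
: B₂ → A homogeneous of degrees d₁, d₂ with F(x) = F₁(x₁) F₂(x₂) for every test algebra S and x ∈ S
⊗ (B₁ × B₂) with components x₁, x₂; and the degrees d₁, d₂ of any such factorisation are uniquely
determined. (The published statement is for finitely many algebraic spaces affine over a connected
algebraic space S; this row is the case of two pieces over an affine base.) -/
theorem result {A : Type u} [CommRing A] [ConnectedSpace (PrimeSpectrum A)]
    {B₁ : Type u} [CommRing B₁] [Algebra A B₁] {B₂ : Type u} [CommRing B₂] [Algebra A B₂]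
    {d : ℕ} (F : PolLaw.MulLaw A (B₁ × B₂) A d) :
    ∃ d₁ d₂ : ℕ, d₁ + d₂ = d ∧
      (∃ (F₁ : PolLaw.MulLaw A B₁ A d₁) (F₂ : PolLaw.MulLaw A B₂ A d₂),
        ∀ (S : Type u) [CommSemiring S] [Algebra A S] (x : S ⊗[A] (B₁ × B₂)),
          F.law.toFun' S x = F₁.law.toFun' S (LinearMap.lTensor S (LinearMap.fst A B₁ B₂) x) *
            F₂.law.toFun' S (LinearMap.lTensor S (LinearMap.snd A B₁ B₂) x)) ∧
      ∀ (e₁ e₂ : ℕ) (G₁ : PolLaw.MulLaw A B₁ A e₁) (G₂ : PolLaw.MulLaw A B₂ A e₂),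
        (∀ (S : Type u) [CommSemiring S] [Algebra A S] (x : S ⊗[A] (B₁ × B₂)),
          F.law.toFun' S x = G₁.law.toFun' S (LinearMap.lTensor S (LinearMap.fst A B₁ B₂) x) *
            G₂.law.toFun' S (LinearMap.lTensor S (LinearMap.snd A B₁ B₂) x)) → e₁ = d₁ ∧ e₂ = d₂ := by
  have : Nontrivial A := nontrivial_of_connected
  obtain ⟨d₁, h₁⟩ : ∃ k : ℕ, ∀ (S : Type u) [CommSemiring S] [Algebra A S] (s : S),
      F.law.toFun' S (uu₁ A B₁ B₂ S s) = s ^ k • (1 : S ⊗[A] A) :=
    exists_pow F.law F.mult (fun S _ _ s => uu₁ A B₁ B₂ S s)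
      (fun S S' _ _ _ _ φ s => uu₁_nat S S' φ s) (fun S _ _ s s' => uu₁_mul S s s')
      (fun S _ _ => uu₁_one S)
  obtain ⟨d₂, h₂⟩ : ∃ k : ℕ, ∀ (S : Type u) [CommSemiring S] [Algebra A S] (s : S),
      F.law.toFun' S (uu₂ A B₁ B₂ S s) = s ^ k • (1 : S ⊗[A] A) :=
    exists_pow F.law F.mult (fun S _ _ s => uu₂ A B₁ B₂ S s)
      (fun S S' _ _ _ _ φ s => uu₂_nat S S' φ s) (fun S _ _ s s' => uu₂_mul S s s')
      (fun S _ _ => uu₂_one S)
  have key : ∀ k k' : ℕ, ((Polynomial.X : Polynomial A) ^ k • (1 : Polynomial A ⊗[A] A)) =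
      (Polynomial.X : Polynomial A) ^ k' • (1 : Polynomial A ⊗[A] A) → k = k' := by
    intro k k' h
    have h' := congrArg (TensorProduct.rid A (Polynomial A)) h
    rw [Algebra.TensorProduct.one_def, TensorProduct.smul_tmul', TensorProduct.smul_tmul',
      TensorProduct.rid_tmul, TensorProduct.rid_tmul, one_smul, one_smul, smul_eq_mul, smul_eq_mul,
      mul_one, mul_one] at h'
    have h'' := congrArg Polynomial.natDegree h'
    rwa [Polynomial.natDegree_X_pow, Polynomial.natDegree_X_pow] at h''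
  have hsum : d₁ + d₂ = d := by
    apply key
    have h := F.homog (Polynomial A) Polynomial.X 1
    rw [(F.mult (Polynomial A)).1, uu_mul_uu (Polynomial A) Polynomial.X,
      (F.mult (Polynomial A)).2, h₁, h₂, smul_mul_smul_comm, one_mul, ← pow_add] at h
    exact h
  refine ⟨d₁, d₂, hsum, ⟨⟨law₁ F.law, law₁_homog F.law F.mult d₁ h₁, law₁_mult F.law F.mult⟩,
    ⟨law₂ F.law, law₂_homog F.law F.mult d₂ h₂, law₂_mult F.law F.mult⟩,
    fun S _ _ x => fact F.law F.mult S x⟩, ?_⟩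
  intro e₁ e₂ G₁ G₂ hG
  constructor
  · symm
    apply key
    have h := hG (Polynomial A) (uu₁ A B₁ B₂ (Polynomial A) Polynomial.X)
    rw [h₁, lT_fst_uu₁, lT_snd_uu₁, (G₂.mult (Polynomial A)).1, mul_one,
      G₁.homog (Polynomial A) Polynomial.X 1, (G₁.mult (Polynomial A)).1] at h
    exact h
  · symm
    apply key
    have h := hG (Polynomial A) (uu₂ A B₁ B₂ (Polynomial A) Polynomial.X)
    rw [h₂, lT_fst_uu₂, lT_snd_uu₂, (G₁.mult (Polynomial A)).1, one_mul,
      G₂.homog (Polynomial A) Polynomial.X 1, (G₂.mult (Polynomial A)).1] at h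
    exact h

end Groth.Agent.S13719
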