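import Mathlib
import Groth.Statements.S14080

set_option autoImplicit false
universe u
open ArSing

namespace Groth.Agent.S14080

open PowerSeries

variable {k : Type u} [Field k]

theorem coeff_one_mul (φ ψ : PowerSeries k) :
    coeff 1 (φ * ψ) = constantCoeff φ * coeff 1 ψ + coeff 1 φ * constantCoeff ψ := by
  have hanti : Finset.HasAntidiagonal.antidiagonal 1 =
      ({((0 : ℕ), (1 : ℕ)), (1, 0)} : Finset (ℕ × ℕ)) := by decide
  rw [coeff_mul, hanti, Finset.sum_pair (by decide)]
  simp only [coeff_zero_eq_constantCoeff_apply]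

theorem constantCoeff_algEquiv (σ : PowerSeries k ≃ₐ[k] PowerSeries k)
    (hu : constantCoeff (σ X) = 0) (f : PowerSeries k) :
    constantCoeff (σ f) = constantCoeff f := by
  obtain ⟨g, c, rfl⟩ : ∃ g c, f = X * g + C c := ⟨_, _, eq_X_mul_shift_add_const f⟩
  have hC : σ (C c) = C c := by rw [C_eq_algebraMap, σ.commutes]
  rw [map_add σ, map_mul σ, hC]
  simp [hu]

theorem coeff_one_algEquiv (σ : PowerSeries k ≃ₐ[k] PowerSeries k)
    (hu : constantCoeff (σ X) = 0) (f : PowerSeries k) :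
    coeff 1 (σ f) = coeff 1 (σ X) * coeff 1 f := by
  obtain ⟨g, c, rfl⟩ : ∃ g c, f = X * g + C c := ⟨_, _, eq_X_mul_shift_add_const f⟩
  have hC : σ (C c) = C c := by rw [C_eq_algebraMap, σ.commutes]
  have h0 := constantCoeff_algEquiv σ hu g
  rw [map_add σ, map_mul σ, hC]
  simp only [map_add, coeff_one_mul, hu, h0, coeff_C, constantCoeff_X, coeff_one_X]
  simp

theorem eq_subst (σ : PowerSeries k ≃ₐ[k] PowerSeries k) (hu : constantCoeff (σ X) = 0)
    (f : PowerSeries k) : σ f = f.subst (σ X) := by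
  have hs : HasSubst (σ X) := HasSubst.of_constantCoeff_zero' hu
  have key : ∀ n : ℕ, ∀ f : PowerSeries k, X ^ n ∣ σ f - f.subst (σ X) := by
    intro n
    induction n with
    | zero => intro f; simp
    | succ n ih =>
      intro f
      obtain ⟨g, c, rfl⟩ : ∃ g c, f = X * g + C c := ⟨_, _, eq_X_mul_shift_add_const f⟩
      have hC : σ (C c) = C c := by rw [C_eq_algebraMap, σ.commutes]
      have hC2 : (C c : PowerSeries k).subst (σ X) = C c := subst_C c
      have h1 : σ (X * g + C c) - (X * g + C c).subst (σ X) =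
          σ X * (σ g - g.subst (σ X)) := by
        rw [map_add σ, map_mul σ, subst_add hs, subst_mul hs, subst_X hs, hC, hC2]
        ring
      rw [h1, pow_succ']
      exact mul_dvd_mul (X_dvd_iff.mpr hu) (ih g)
  ext n
  have h := key (n + 1) f
  rw [X_pow_dvd_iff] at h
  have h' := h n (Nat.lt_succ_self n)
  rwa [map_sub, sub_eq_zero] at h'

/-- Let k be a field in which 2 is invertible and σ an involutive k-algebra automorphism of the power
series ring k[[t]], with ξ the coefficient of t in σ(t). Then ξ^2 = 1, the k-algebra endomorphism φ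
with φ(t) = (t + ξ σ(t))/2 is an automorphism, and φ⁻¹ σ φ is the automorphism t ↦ ξ t. (The
published statement is over an algebraically closed field of characteristic prime to 2; only the
invertibility of 2 is used, so any field with 2 ≠ 0 is allowed here.) -/
theorem result (k : Type u) [Field k] (h2 : (2 : k) ≠ 0)
    (σ : PowerSeries k ≃ₐ[k] PowerSeries k) (hσ : ∀ f, σ (σ f) = f) :
    (PowerSeries.coeff 1 (σ PowerSeries.X)) ^ 2 = 1 ∧
    ∃ φ : PowerSeries k ≃ₐ[k] PowerSeries k,
      φ PowerSeries.X = PowerSeries.C (2⁻¹ : k) *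
        (PowerSeries.X + PowerSeries.C (PowerSeries.coeff 1 (σ PowerSeries.X)) * σ PowerSeries.X) ∧
      ∀ f, φ.symm (σ (φ f)) = PowerSeries.rescale (PowerSeries.coeff 1 (σ PowerSeries.X)) f := by
  -- Step 1: σ X has zero constant coefficient
  have hu0 : constantCoeff (σ X) = 0 := by
    by_contra h
    have h1 : IsUnit (σ X) := isUnit_iff_constantCoeff.mpr (IsUnit.mk0 _ h)
    have h2' : IsUnit (X : PowerSeries k) := by
      have := h1.map σ.symm
      simpa using this
    have h3 := isUnit_iff_constantCoeff.mp h2'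
    simp at h3
  have hsub : ∀ f, σ f = f.subst (σ X) := eq_subst σ hu0
  have h3 : 1 = coeff 1 (σ X) * coeff 1 (σ X) := by
    have := coeff_one_algEquiv σ hu0 (σ X)
    rwa [hσ X, coeff_one_X] at this
  obtain ⟨u, hudef⟩ : ∃ u, σ X = u := ⟨_, rfl⟩
  rw [hudef] at hu0 hsub h3 ⊢
  obtain ⟨ξ, hξdef⟩ : ∃ ξ, coeff 1 u = ξ := ⟨_, rfl⟩
  rw [hξdef] at h3 ⊢
  have hσu : σ u = X := by rw [← hudef]; exact hσ X
  have hu : HasSubst u := HasSubst.of_constantCoeff_zero' hu0
  obtain ⟨w, hwdef⟩ : ∃ w, w = C (2⁻¹ : k) * (X + C ξ * u) := ⟨_, rfl⟩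
  rw [← hwdef]
  have hw0 : constantCoeff w = 0 := by rw [hwdef]; simp [hu0]
  have hw1 : coeff 1 w = 1 := by
    rw [hwdef, coeff_C_mul, map_add, coeff_one_X, coeff_C_mul, hξdef, ← h3, one_add_one_eq_two,
      inv_mul_cancel₀ h2]
  have hwU : IsUnit (coeff 1 w) := by rw [hw1]; exact isUnit_one
  have hw : HasSubst w := HasSubst.of_constantCoeff_zero' hw0
  obtain ⟨v, hvdef⟩ : ∃ v, v = w.substInvOfIsUnit hwU := ⟨_, rfl⟩
  have hv : HasSubst v := by rw [hvdef]; exact HasSubst.substInvOfIsUnit w hwU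
  have hvw : (subst w v : PowerSeries k) = X := by
    rw [hvdef]; exact subst_substInvOfIsUnit_left w hw0 hwU
  have hwv : (subst v w : PowerSeries k) = X := by
    rw [hvdef]; exact subst_substInvOfIsUnit_right w hw0 hwU
  let Φ : PowerSeries k →ₐ[k] PowerSeries k := substAlgHom hw
  let Ψ : PowerSeries k →ₐ[k] PowerSeries k := substAlgHom hv
  have hΦ : ∀ g : PowerSeries k, Φ g = subst w g := fun g => congrFun (coe_substAlgHom hw) g
  have hΨ : ∀ g : PowerSeries k, Ψ g = subst v g := fun g => congrFun (coe_substAlgHom hv) g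
  have h12 : Φ.comp Ψ = AlgHom.id k (PowerSeries k) := by
    refine AlgHom.ext (fun f => ?_)
    show Φ (Ψ f) = f
    rw [hΦ, hΨ, subst_comp_subst_apply hv hw, hvw, X_subst]
  have h21 : Ψ.comp Φ = AlgHom.id k (PowerSeries k) := by
    refine AlgHom.ext (fun f => ?_)
    show Ψ (Φ f) = f
    rw [hΦ, hΨ, subst_comp_subst_apply hw hv, hwv, X_subst]
  have hCC : C ξ * C ξ = (1 : PowerSeries k) := by rw [← map_mul, ← h3, map_one]
  have key : (subst u w : PowerSeries k) = subst w (ξ • X : PowerSeries k) := by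
    have e1 : (subst u w : PowerSeries k) = C (2⁻¹ : k) * (u + C ξ * X) := by
      have hC1 : σ (C (2⁻¹ : k)) = C (2⁻¹ : k) := by rw [C_eq_algebraMap, σ.commutes]
      have hC2 : σ (C ξ) = C ξ := by rw [C_eq_algebraMap, σ.commutes]
      rw [← hsub w, hwdef, map_mul σ, map_add σ, map_mul σ, hC1, hC2, hudef, hσu]
    have e2 : (subst w (ξ • X : PowerSeries k) : PowerSeries k) = C ξ * w := by
      have hC3 : (C ξ : PowerSeries k).subst w = C ξ := subst_C ξ
      rw [smul_eq_C_mul, subst_mul hw, subst_X hw, hC3]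
    rw [e1, e2, hwdef]
    linear_combination (-(C (2⁻¹ : k) * u)) * hCC
  refine ⟨by rw [sq]; exact h3.symm, AlgEquiv.ofAlgHom Φ Ψ h12 h21, ?_, ?_⟩
  · show Φ X = w
    rw [hΦ, subst_X hw]
  · intro f
    rw [AlgEquiv.symm_apply_eq]
    show σ (Φ f) = Φ (rescale ξ f)
    rw [hΦ, hΦ, hsub, subst_comp_subst_apply hw hu, rescale_eq_subst,
      subst_comp_subst_apply (HasSubst.smul_X' ξ) hw, key]

end Groth.Agent.S14080
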