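import Groth.Statements.S14096
import Mathlib
import Groth.Agent.H76.NodeAlg
-- import your own Groth.Agent.* helpers here

set_option autoImplicit false
universe u
open ArSing

namespace Groth.Agent.S14096


section Helpers

open MvPowerSeries
open Groth.Agent.H76.NodeAlg (q gen q_mk Q_apply axis_apply q_gen_same q_gen_ne q_algebraMap gen_mul q_surjective dvd_iff exists_decomp fin2_cases)

theorem h01 : (0 : Fin 2) ≠ 1 := by decide
theorem h10 : (1 : Fin 2) ≠ 0 := by decide

theorem flat_mem' {R S : Type u} [CommRing R] [CommRing S] [Algebra R S] [Module.Flat R S] (r : R) (s : S)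
    (h : algebraMap R S r * s = 0) (I : Ideal S) (hI : ∀ a : R, r * a = 0 → algebraMap R S a ∈ I) :
    s ∈ I := by
  have h' : ∑ i : Fin 1, (fun _ : Fin 1 => r) i • (fun _ : Fin 1 => s) i = 0 := by
    rw [Fin.sum_univ_one]
    show r • s = 0
    rw [Algebra.smul_def]
    exact h
  obtain ⟨κ, a, y, h1, h2⟩ := Module.Flat.isTrivialRelation_of_sum_smul_eq_zero
    (f := fun _ : Fin 1 => r) (x := fun _ : Fin 1 => s) h'
  have hs : s = ∑ j, a 0 j • y j := h1 0
  rw [hs]
  refine Ideal.sum_mem _ fun j _ => ?_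
  rw [Algebra.smul_def]
  refine Ideal.mul_mem_right _ _ (hI _ ?_)
  have h3 := h2 j
  rw [Fin.sum_univ_one] at h3
  exact h3

/-- consequence of the equational criterion of flatness for a relation with one term -/
theorem flat_mem {R S : Type u} [CommRing R] [CommRing S] (f : R →+* S) (hf : f.Flat) (r : R) (s : S)
    (h : f r * s = 0) (I : Ideal S) (hI : ∀ a : R, r * a = 0 → f a ∈ I) : s ∈ I := by
  letI : Algebra R S := f.toAlgebra
  haveI : Module.Flat R S := hf
  exact flat_mem' r s h I hI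

theorem resc_C {R : Type*} [CommRing R] (a c : R) :
    PowerSeries.rescale a (PowerSeries.C c) = PowerSeries.C c := by
  ext n
  rw [PowerSeries.coeff_rescale, PowerSeries.coeff_C]
  split_ifs with h
  · rw [h, pow_zero, one_mul]
  · rw [mul_zero]

theorem resc_expand {R : Type*} [CommRing R] (f : PowerSeries R) :
    PowerSeries.rescale (-1 : R) (PowerSeries.expand 2 two_ne_zero f) =
      PowerSeries.expand 2 two_ne_zero f := by
  ext n
  rw [PowerSeries.coeff_rescale, PowerSeries.coeff_expand]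
  split_ifs with h
  · obtain ⟨m, rfl⟩ := h
    rw [pow_mul, neg_one_sq, one_pow, one_mul]
  · rw [mul_zero]

theorem expand_inj {R : Type*} [CommRing R] (f g : PowerSeries R)
    (h : PowerSeries.expand 2 two_ne_zero f = PowerSeries.expand 2 two_ne_zero g) : f = g := by
  ext n
  have := congrArg (PowerSeries.coeff (2 * n)) h
  rwa [PowerSeries.coeff_expand_mul, PowerSeries.coeff_expand_mul] at this

theorem exists_expand {R : Type*} [CommRing R] (h2R : ∀ c : R, c + c = 0 → c = 0) (g : PowerSeries R)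
    (hg : PowerSeries.rescale (-1 : R) g = g) :
    ∃ g' : PowerSeries R, PowerSeries.expand 2 two_ne_zero g' = g ∧
      PowerSeries.constantCoeff g' = PowerSeries.constantCoeff g := by
  refine ⟨PowerSeries.mk fun n => PowerSeries.coeff (2 * n) g, ?_, ?_⟩
  · ext n
    rw [PowerSeries.coeff_expand]
    split_ifs with h
    · obtain ⟨m, rfl⟩ := h
      rw [Nat.mul_div_cancel_left m two_pos, PowerSeries.coeff_mk]
    · have hodd : Odd n := Nat.odd_iff.mpr (by omega)
      have h1 := congrArg (PowerSeries.coeff n) hg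
      rw [PowerSeries.coeff_rescale, hodd.neg_one_pow, neg_one_mul] at h1
      have h3 : PowerSeries.coeff n g + PowerSeries.coeff n g = 0 := by
        linear_combination -h1
      exact (h2R _ h3).symm
  · rw [← PowerSeries.coeff_zero_eq_constantCoeff_apply,
      ← PowerSeries.coeff_zero_eq_constantCoeff_apply, PowerSeries.coeff_mk, Nat.mul_zero]

variable (k : Type u) [Field k]

theorem hC2 (h2 : (2:k) ≠ 0) : (C (2⁻¹ : k) : MvPowerSeries (Fin 2) k) * 2 = 1 := by
  have e2 : (2 : MvPowerSeries (Fin 2) k) = C (2 : k) :=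
    (map_ofNat (C : k →+* MvPowerSeries (Fin 2) k) 2).symm
  rw [e2, ← map_mul, inv_mul_cancel₀ h2, map_one]

noncomputable def aF : Fin 2 → MvPowerSeries (Fin 2) k :=
  ![C (2⁻¹ : k) * (X 0 - X 1), C (2⁻¹ : k) * (X 0 + X 1)]

noncomputable def bF : Fin 2 → MvPowerSeries (Fin 2) k := ![X 0 + X 1, X 1 - X 0]

theorem aF_zero : aF k 0 = C (2⁻¹ : k) * (X 0 - X 1) := rfl
theorem aF_one : aF k 1 = C (2⁻¹ : k) * (X 0 + X 1) := rfl
theorem bF_zero : bF k 0 = X 0 + X 1 := rfl
theorem bF_one : bF k 1 = X 1 - X 0 := rfl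

theorem haF : HasSubst (aF k) := by
  refine hasSubst_of_constantCoeff_zero (fun s => ?_)
  rcases fin2_cases h01 s with rfl | rfl
  · rw [aF_zero, map_mul, map_sub, constantCoeff_X, constantCoeff_X, sub_self, mul_zero]
  · rw [aF_one, map_mul, map_add, constantCoeff_X, constantCoeff_X, add_zero, mul_zero]

theorem hbF : HasSubst (bF k) := by
  refine hasSubst_of_constantCoeff_zero (fun s => ?_)
  rcases fin2_cases h01 s with rfl | rfl
  · rw [bF_zero, map_add, constantCoeff_X, constantCoeff_X, add_zero]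
  · rw [bF_one, map_sub, constantCoeff_X, constantCoeff_X, sub_self]

noncomputable def Θ : MvPowerSeries (Fin 2) k →ₐ[k] MvPowerSeries (Fin 2) k := substAlgHom (haF k)
noncomputable def Ψ : MvPowerSeries (Fin 2) k →ₐ[k] MvPowerSeries (Fin 2) k := substAlgHom (hbF k)

theorem Θ_X (s : Fin 2) : Θ k (X s) = aF k s := substAlgHom_X (haF k) s
theorem Ψ_X (s : Fin 2) : Ψ k (X s) = bF k s := substAlgHom_X (hbF k) s

theorem C_eq (c : k) :
    (C c : MvPowerSeries (Fin 2) k) = algebraMap k (MvPowerSeries (Fin 2) k) c := by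
  first | rfl | simp [MvPowerSeries.algebraMap_apply]

theorem Θ_C (c : k) : Θ k (C c) = C c := by rw [C_eq, AlgHom.commutes]
theorem Ψ_C (c : k) : Ψ k (C c) = C c := by rw [C_eq, AlgHom.commutes]

theorem ΨΘ (h2 : (2:k) ≠ 0) (f : MvPowerSeries (Fin 2) k) : Ψ k (Θ k f) = f := by
  have key : (fun s => subst (bF k) (aF k s)) = (X : Fin 2 → MvPowerSeries (Fin 2) k) := by
    funext s
    have e1 : subst (bF k) (aF k s) = Ψ k (aF k s) := (substAlgHom_apply (hbF k) _).symm
    rw [e1]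
    rcases fin2_cases h01 s with rfl | rfl
    · rw [aF_zero, map_mul, map_sub, Ψ_X, Ψ_X, Ψ_C, bF_zero, bF_one]
      linear_combination (X 0 : MvPowerSeries (Fin 2) k) * hC2 k h2
    · rw [aF_one, map_mul, map_add, Ψ_X, Ψ_X, Ψ_C, bF_zero, bF_one]
      linear_combination (X 1 : MvPowerSeries (Fin 2) k) * hC2 k h2
  have e2 : Ψ k (Θ k f) = subst (bF k) (subst (aF k) f) := by
    rw [Ψ, Θ, substAlgHom_apply, substAlgHom_apply]
  rw [e2, subst_comp_subst_apply (haF k) (hbF k), key]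
  exact congrFun subst_self f

theorem ΘΨ (h2 : (2:k) ≠ 0) (f : MvPowerSeries (Fin 2) k) : Θ k (Ψ k f) = f := by
  have key : (fun s => subst (aF k) (bF k s)) = (X : Fin 2 → MvPowerSeries (Fin 2) k) := by
    funext s
    have e1 : subst (aF k) (bF k s) = Θ k (bF k s) := (substAlgHom_apply (haF k) _).symm
    rw [e1]
    rcases fin2_cases h01 s with rfl | rfl
    · rw [bF_zero, map_add, Θ_X, Θ_X, aF_zero, aF_one]
      linear_combination (X 0 : MvPowerSeries (Fin 2) k) * hC2 k h2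
    · rw [bF_one, map_sub, Θ_X, Θ_X, aF_zero, aF_one]
      linear_combination (X 1 : MvPowerSeries (Fin 2) k) * hC2 k h2
  have e2 : Θ k (Ψ k f) = subst (aF k) (subst (bF k) f) := by
    rw [Ψ, Θ, substAlgHom_apply, substAlgHom_apply]
  rw [e2, subst_comp_subst_apply (hbF k) (haF k), key]
  exact congrFun subst_self f

noncomputable def ΘE (h2 : (2:k) ≠ 0) : MvPowerSeries (Fin 2) k ≃ₐ[k] MvPowerSeries (Fin 2) k :=
  AlgEquiv.ofAlgHom (Θ k) (Ψ k) (AlgHom.ext (ΘΨ k h2)) (AlgHom.ext (ΨΘ k h2))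

theorem Θ_eqn (h2 : (2:k) ≠ 0) : Θ k (ArSing.eqn k 1) = X 0 * X 1 - C (0:k) := by
  rw [ArSing.eqn, map_sub, map_pow, map_pow, Θ_X, Θ_X, aF_zero, aF_one, map_zero, sub_zero]
  linear_combination ((X 0 * X 1 : MvPowerSeries (Fin 2) k) * (C (2⁻¹:k) * 2 + 1)) * hC2 k h2

noncomputable def eNode (h2 : (2:k) ≠ 0) : ArSing.ring k 1 ≃ₐ[k] ArLef.NodeAlg k (0:k) :=
  Ideal.quotientEquivAlg (Ideal.span {ArSing.eqn k 1})
    (Ideal.span {(X 0 * X 1 - C (0:k) : MvPowerSeries (Fin 2) k)}) (ΘE k h2) (by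
      rw [Ideal.map_span, Set.image_singleton]
      exact congrArg (fun z => Ideal.span {z}) (Θ_eqn k h2).symm)

theorem eNode_mk (h2 : (2:k) ≠ 0) (F : MvPowerSeries (Fin 2) k) :
    eNode k h2 (Ideal.Quotient.mk _ F) = Ideal.Quotient.mk _ (Θ k F) := rfl

theorem eNode_u (h2 : (2:k) ≠ 0) : eNode k h2 (ArSing.x k 1 + ArSing.y k 1) = gen (0:k) 0 := by
  have e1 : ArSing.x k 1 + ArSing.y k 1 =
      Ideal.Quotient.mk (Ideal.span {ArSing.eqn k 1}) (X 0 + X 1) := (map_add _ _ _).symm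
  rw [e1, eNode_mk, map_add, Θ_X, Θ_X, aF_zero, aF_one]
  refine congrArg (Ideal.Quotient.mk _) ?_
  linear_combination (X 0 : MvPowerSeries (Fin 2) k) * hC2 k h2

theorem eNode_v (h2 : (2:k) ≠ 0) : eNode k h2 (ArSing.y k 1 - ArSing.x k 1) = gen (0:k) 1 := by
  have e1 : ArSing.y k 1 - ArSing.x k 1 =
      Ideal.Quotient.mk (Ideal.span {ArSing.eqn k 1}) (X 1 - X 0) := (map_sub _ _ _).symm
  rw [e1, eNode_mk, map_sub, Θ_X, Θ_X, aF_zero, aF_one]
  refine congrArg (Ideal.Quotient.mk _) ?_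
  linear_combination (X 1 : MvPowerSeries (Fin 2) k) * hC2 k h2

theorem ha0 : (0:k) ∈ IsLocalRing.maximalIdeal k := zero_mem _

theorem hm0 : IsLocalRing.maximalIdeal k = Ideal.span {(0:k)} := by
  rw [IsLocalRing.maximalIdeal_eq_bot]
  exact (Ideal.span_singleton_eq_bot.mpr rfl).symm

noncomputable def pj (h2 : (2:k) ≠ 0) (j : Fin 2) :
    ArSing.ring k 1 →+* PowerSeries (IsLocalRing.ResidueField k) :=
  (q (ha0 k) j).comp
    ((eNode k h2 : ArSing.ring k 1 ≃ₐ[k] ArLef.NodeAlg k (0:k)) :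
      ArSing.ring k 1 →+* ArLef.NodeAlg k (0:k))

theorem pj_apply (h2 : (2:k) ≠ 0) (j : Fin 2) (a : ArSing.ring k 1) :
    pj k h2 j a = q (ha0 k) j (eNode k h2 a) := rfl

theorem pj_alg (h2 : (2:k) ≠ 0) (j : Fin 2) (b : k) :
    pj k h2 j (algebraMap k (ArSing.ring k 1) b) = PowerSeries.C (IsLocalRing.residue k b) := by
  rw [pj_apply, AlgEquiv.commutes, q_algebraMap]

theorem pj_u0 (h2 : (2:k) ≠ 0) : pj k h2 0 (ArSing.x k 1 + ArSing.y k 1) = PowerSeries.X := by
  rw [pj_apply, eNode_u, q_gen_same]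

theorem pj_u1 (h2 : (2:k) ≠ 0) : pj k h2 1 (ArSing.x k 1 + ArSing.y k 1) = 0 := by
  rw [pj_apply, eNode_u, q_gen_ne (ha0 k) h01]

theorem pj_v0 (h2 : (2:k) ≠ 0) : pj k h2 0 (ArSing.y k 1 - ArSing.x k 1) = 0 := by
  rw [pj_apply, eNode_v, q_gen_ne (ha0 k) h10]

theorem pj_v1 (h2 : (2:k) ≠ 0) : pj k h2 1 (ArSing.y k 1 - ArSing.x k 1) = PowerSeries.X := by
  rw [pj_apply, eNode_v, q_gen_same]

theorem p0_zero_iff (h2 : (2:k) ≠ 0) (a : ArSing.ring k 1) :
    pj k h2 0 a = 0 ↔ (ArSing.y k 1 - ArSing.x k 1) ∣ a := by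
  rw [pj_apply, ← dvd_iff (ha0 k) h10 (hm0 k)]
  constructor
  · rintro ⟨w, hw⟩
    refine ⟨(eNode k h2).symm w, ?_⟩
    apply (eNode k h2).injective
    rw [hw, map_mul, eNode_v, AlgEquiv.apply_symm_apply]
  · rintro ⟨w, rfl⟩
    rw [map_mul, eNode_v]
    exact Dvd.intro _ rfl

theorem p1_zero_iff (h2 : (2:k) ≠ 0) (a : ArSing.ring k 1) :
    pj k h2 1 a = 0 ↔ (ArSing.x k 1 + ArSing.y k 1) ∣ a := by
  rw [pj_apply, ← dvd_iff (ha0 k) h01 (hm0 k)]
  constructor
  · rintro ⟨w, hw⟩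
    refine ⟨(eNode k h2).symm w, ?_⟩
    apply (eNode k h2).injective
    rw [hw, map_mul, eNode_u, AlgEquiv.apply_symm_apply]
  · rintro ⟨w, rfl⟩
    rw [map_mul, eNode_u]
    exact Dvd.intro _ rfl

theorem huv (h2 : (2:k) ≠ 0) :
    (ArSing.x k 1 + ArSing.y k 1) * (ArSing.y k 1 - ArSing.x k 1) = 0 := by
  apply (eNode k h2).injective
  rw [map_mul, eNode_u, eNode_v, gen_mul, map_zero]
  exact (map_zero (eNode k h2)).symm

theorem joint (h2 : (2:k) ≠ 0) (a b : ArSing.ring k 1) (e0 : pj k h2 0 a = pj k h2 0 b)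
    (e1 : pj k h2 1 a = pj k h2 1 b) : a = b := by
  rw [← sub_eq_zero]
  have h0' : pj k h2 0 (a - b) = 0 := by rw [map_sub, e0, sub_self]
  have h1' : pj k h2 1 (a - b) = 0 := by rw [map_sub, e1, sub_self]
  obtain ⟨w, hw⟩ := (p0_zero_iff k h2 _).mp h0'
  rw [hw, map_mul, pj_v1] at h1'
  have hw1 : pj k h2 1 w = 0 := by
    rcases mul_eq_zero.mp h1' with h | h
    · exact absurd h PowerSeries.X_ne_zero
    · exact h
  obtain ⟨z, hz⟩ := (p1_zero_iff k h2 _).mp hw1
  rw [hw, hz, ← mul_assoc, mul_comm (ArSing.y k 1 - ArSing.x k 1), huv k h2, zero_mul]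

theorem cc_eq (h2 : (2:k) ≠ 0) (a : ArSing.ring k 1) :
    PowerSeries.constantCoeff (pj k h2 0 a) = PowerSeries.constantCoeff (pj k h2 1 a) := by
  rw [pj_apply, pj_apply]
  obtain ⟨F, hF⟩ := Ideal.Quotient.mk_surjective (eNode k h2 a)
  rw [← hF, q_mk, q_mk, Q_apply, Q_apply]
  simp only [← PowerSeries.coeff_zero_eq_constantCoeff_apply, PowerSeries.coeff_map, axis_apply,
    Finsupp.single_zero]

theorem exists_pair (h2 : (2:k) ≠ 0) (f g : PowerSeries (IsLocalRing.ResidueField k))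
    (hfg : PowerSeries.constantCoeff f = PowerSeries.constantCoeff g) :
    ∃ a : ArSing.ring k 1, pj k h2 0 a = f ∧ pj k h2 1 a = g := by
  obtain ⟨r0, hr0⟩ := q_surjective (ha0 k) 0 f
  have ha0' : pj k h2 0 ((eNode k h2).symm r0) = f := by
    rw [pj_apply, AlgEquiv.apply_symm_apply, hr0]
  have hX : PowerSeries.X ∣ g - pj k h2 1 ((eNode k h2).symm r0) := by
    rw [PowerSeries.X_dvd_iff, map_sub, ← cc_eq k h2, ha0', hfg, sub_self]
  obtain ⟨g', hg'⟩ := hX
  obtain ⟨r1, hr1⟩ := q_surjective (ha0 k) 1 g'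
  have h3 : pj k h2 1 ((eNode k h2).symm r1) = g' := by
    rw [pj_apply, AlgEquiv.apply_symm_apply, hr1]
  refine ⟨(eNode k h2).symm r0 + (ArSing.y k 1 - ArSing.x k 1) * (eNode k h2).symm r1, ?_, ?_⟩
  · rw [map_add, map_mul, pj_v0, zero_mul, add_zero, ha0']
  · rw [map_add, map_mul, pj_v1, h3, ← hg']
    ring

theorem cont (F G : ArLef.NodeAlg k (0:k) →+* PowerSeries (IsLocalRing.ResidueField k))
    (hc : ∀ b : k, F (algebraMap k _ b) = G (algebraMap k _ b))
    (h0 : F (gen (0:k) 0) = G (gen (0:k) 0)) (h1 : F (gen (0:k) 1) = G (gen (0:k) 1))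
    (hX0 : PowerSeries.X ∣ F (gen (0:k) 0)) (hX1 : PowerSeries.X ∣ F (gen (0:k) 1)) : F = G := by
  have hgen : ∀ i : Fin 2, F (Ideal.Quotient.mk _ (X i)) = G (Ideal.Quotient.mk _ (X i)) := by
    intro i
    rcases fin2_cases h01 i with rfl | rfl
    · exact h0
    · exact h1
  have hpoly : ∀ P : MvPolynomial (Fin 2) k,
      F (Ideal.Quotient.mk _ (P : MvPowerSeries (Fin 2) k)) =
        G (Ideal.Quotient.mk _ (P : MvPowerSeries (Fin 2) k)) := by
    intro P
    induction P using MvPolynomial.induction_on with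
    | C b => rw [MvPolynomial.coe_C]; exact hc b
    | add p₁ p₂ hp₁ hp₂ => rw [MvPolynomial.coe_add, map_add, map_add, map_add, hp₁, hp₂]
    | mul_X p i hp =>
      rw [MvPolynomial.coe_mul, MvPolynomial.coe_X, map_mul, map_mul, map_mul, hp, hgen i]
  apply RingHom.ext
  intro r
  obtain ⟨S, rfl⟩ := Ideal.Quotient.mk_surjective r
  ext n
  obtain ⟨P, G₁, H₁, hS⟩ := exists_decomp n S
  have e1 : ∀ Φ : ArLef.NodeAlg k (0:k) →+* PowerSeries (IsLocalRing.ResidueField k),
      Φ (Ideal.Quotient.mk _ S) = Φ (Ideal.Quotient.mk _ (P : MvPowerSeries (Fin 2) k)) +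
        Φ (gen (0:k) 0) ^ (n+1) * Φ (Ideal.Quotient.mk _ G₁) +
        Φ (gen (0:k) 1) ^ (n+1) * Φ (Ideal.Quotient.mk _ H₁) := by
    intro Φ
    conv_lhs => rw [hS]
    simp only [map_add, map_mul, map_pow]
  have hz : ∀ s t : PowerSeries (IsLocalRing.ResidueField k),
      PowerSeries.coeff n ((PowerSeries.X * s) ^ (n+1) * t) = 0 := by
    intro s t
    rw [mul_pow, mul_assoc, PowerSeries.coeff_X_pow_mul', if_neg (show ¬ n + 1 ≤ n by omega)]
  obtain ⟨s0, hs0⟩ := hX0
  obtain ⟨s1, hs1⟩ := hX1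
  rw [e1 F, e1 G, hpoly P, ← h0, ← h1, hs0, hs1]
  simp only [map_add, hz]

theorem contA (h2 : (2:k) ≠ 0) (F G : ArSing.ring k 1 →+* PowerSeries (IsLocalRing.ResidueField k))
    (hc : ∀ b : k, F (algebraMap k _ b) = G (algebraMap k _ b))
    (hu : F (ArSing.x k 1 + ArSing.y k 1) = G (ArSing.x k 1 + ArSing.y k 1))
    (hv : F (ArSing.y k 1 - ArSing.x k 1) = G (ArSing.y k 1 - ArSing.x k 1))
    (hXu : PowerSeries.X ∣ F (ArSing.x k 1 + ArSing.y k 1))
    (hXv : PowerSeries.X ∣ F (ArSing.y k 1 - ArSing.x k 1)) (a : ArSing.ring k 1) : F a = G a := by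
  have es0 : (eNode k h2).symm (gen (0:k) 0) = ArSing.x k 1 + ArSing.y k 1 := by
    rw [← eNode_u k h2, AlgEquiv.symm_apply_apply]
  have es1 : (eNode k h2).symm (gen (0:k) 1) = ArSing.y k 1 - ArSing.x k 1 := by
    rw [← eNode_v k h2, AlgEquiv.symm_apply_apply]
  let ι : ArLef.NodeAlg k (0:k) →+* ArSing.ring k 1 :=
    ((eNode k h2).symm : ArLef.NodeAlg k (0:k) →+* ArSing.ring k 1)
  have hι : ∀ r, ι r = (eNode k h2).symm r := fun r => rfl
  have key : F.comp ι = G.comp ι := by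
    refine cont k _ _ ?_ ?_ ?_ ?_ ?_
    · intro b
      rw [RingHom.comp_apply, RingHom.comp_apply, hι, AlgEquiv.commutes]
      exact hc b
    · rw [RingHom.comp_apply, RingHom.comp_apply, hι, es0]; exact hu
    · rw [RingHom.comp_apply, RingHom.comp_apply, hι, es1]; exact hv
    · rw [RingHom.comp_apply, hι, es0]; exact hXu
    · rw [RingHom.comp_apply, hι, es1]; exact hXv
  have h := RingHom.congr_fun key (eNode k h2 a)
  rw [RingHom.comp_apply, RingHom.comp_apply, hι, AlgEquiv.symm_apply_apply] at h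
  exact h

end Helpers



/-- K algebraically closed of characteristic ≠ 2, σ the involution of the node algebra A_1 =
k[[x,y]]/(y^2 - x^2) exchanging x and y, and φ : A_1 → A_1 the k-algebra map with φ(x + y) = x + y
and φ(y - x) = (y - x)^2 (in the branch coordinates u = x + y, v = y - x with uv = 0: u ↦ u, v ↦
v^2). Then the invariant subalgebra of σ is the image of φ and φ is injective (so A_1^σ ≅ A_1), and
the fixed locus of σ is the branch v = 0: the ideal generated by the elements σ(a) - a is the ideal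
(y - x), a minimal prime ideal generated by a zero-divisor (so not a Cartier divisor). Moreover φ is
not flat. (The published statement asserts that this extension is faithfully flat; it is not: as a
module over the invariant subalgebra B = k[[u,w]]/(uw), w = v^2, A_1 is B ⊕ (B/uB)·v, and B/uB is
not flat over B — equivalently the fibre length jumps from 1 on the branch w = 0 to 2 at the closed
point.) -/
theorem result (k : Type u) [Field k] [IsAlgClosed k]
    (h2 : (2 : k) ≠ 0)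
    (σ : ArSing.ring k 1 ≃ₐ[k] ArSing.ring k 1) (hx : σ (ArSing.x k 1) = ArSing.y k 1)
    (hy : σ (ArSing.y k 1) = ArSing.x k 1)
    (φ : ArSing.ring k 1 →ₐ[k] ArSing.ring k 1) (hφu : φ (ArSing.x k 1 + ArSing.y k 1) = ArSing.x k 1 + ArSing.y k 1)
    (hφv : φ (ArSing.y k 1 - ArSing.x k 1) = (ArSing.y k 1 - ArSing.x k 1) ^ 2) :
    (∀ a : ArSing.ring k 1, σ a = a ↔ a ∈ φ.range) ∧ Function.Injective φ ∧
    Ideal.span (Set.range fun a : ArSing.ring k 1 => σ a - a) = Ideal.span {ArSing.y k 1 - ArSing.x k 1} ∧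
    (ArSing.y k 1 - ArSing.x k 1) ∉ nonZeroDivisors (ArSing.ring k 1) ∧
    Ideal.span {ArSing.y k 1 - ArSing.x k 1} ∈ minimalPrimes (ArSing.ring k 1) ∧
    ¬ φ.toRingHom.Flat := by
  classical
  have h2K : (2 : IsLocalRing.ResidueField k) ≠ 0 := by
    have := (map_ne_zero (IsLocalRing.residue k)).mpr h2
    rwa [map_ofNat] at this
  have h2R : ∀ c : IsLocalRing.ResidueField k, c + c = 0 → c = 0 := by
    intro c hc
    have h3 : (2 : IsLocalRing.ResidueField k) * c = 0 := by rw [two_mul]; exact hc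
    exact (mul_eq_zero.mp h3).resolve_left h2K
  have hσu : σ (ArSing.x k 1 + ArSing.y k 1) = ArSing.x k 1 + ArSing.y k 1 := by
    rw [map_add, hx, hy, add_comm]
  have hσv : σ (ArSing.y k 1 - ArSing.x k 1) = -(ArSing.y k 1 - ArSing.x k 1) := by
    rw [map_sub, hx, hy, neg_sub]
  have S0 : ∀ a, pj k h2 0 (σ a) = pj k h2 0 a := by
    intro a
    refine contA k h2 ((pj k h2 0).comp (σ : ArSing.ring k 1 →+* ArSing.ring k 1)) (pj k h2 0)
      ?_ ?_ ?_ ?_ ?_ a
    · intro b
      show pj k h2 0 (σ (algebraMap k _ b)) = _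
      rw [σ.commutes]
    · show pj k h2 0 (σ _) = _
      rw [hσu]
    · show pj k h2 0 (σ _) = _
      rw [hσv, map_neg, pj_v0, neg_zero]
    · refine Dvd.intro 1 ?_
      show PowerSeries.X * 1 = pj k h2 0 (σ _)
      rw [mul_one, hσu, pj_u0]
    · refine Dvd.intro 0 ?_
      show PowerSeries.X * 0 = pj k h2 0 (σ _)
      rw [mul_zero, hσv, map_neg, pj_v0, neg_zero]
  have S1 : ∀ a, pj k h2 1 (σ a) = PowerSeries.rescale (-1) (pj k h2 1 a) := by
    intro a
    refine contA k h2 ((pj k h2 1).comp (σ : ArSing.ring k 1 →+* ArSing.ring k 1))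
      ((PowerSeries.rescale (-1 : IsLocalRing.ResidueField k)).comp (pj k h2 1)) ?_ ?_ ?_ ?_ ?_ a
    · intro b
      show pj k h2 1 (σ (algebraMap k _ b)) =
        PowerSeries.rescale (-1) (pj k h2 1 (algebraMap k _ b))
      rw [σ.commutes, pj_alg, resc_C]
    · show pj k h2 1 (σ _) = PowerSeries.rescale (-1) (pj k h2 1 _)
      rw [hσu, pj_u1, map_zero]
    · show pj k h2 1 (σ _) = PowerSeries.rescale (-1) (pj k h2 1 _)
      rw [hσv, map_neg, pj_v1, PowerSeries.rescale_X, map_neg, map_one, neg_one_mul]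
    · refine Dvd.intro 0 ?_
      show PowerSeries.X * 0 = pj k h2 1 (σ _)
      rw [mul_zero, hσu, pj_u1]
    · refine Dvd.intro (-1) ?_
      show PowerSeries.X * (-1) = pj k h2 1 (σ _)
      rw [hσv, map_neg, pj_v1, mul_neg, mul_one]
  have P0 : ∀ a, pj k h2 0 (φ a) = pj k h2 0 a := by
    intro a
    refine contA k h2 ((pj k h2 0).comp (φ : ArSing.ring k 1 →+* ArSing.ring k 1)) (pj k h2 0)
      ?_ ?_ ?_ ?_ ?_ a
    · intro b
      show pj k h2 0 (φ (algebraMap k _ b)) = _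
      rw [φ.commutes]
    · show pj k h2 0 (φ _) = _
      rw [hφu]
    · show pj k h2 0 (φ _) = _
      rw [hφv, map_pow, pj_v0, zero_pow two_ne_zero]
    · refine Dvd.intro 1 ?_
      show PowerSeries.X * 1 = pj k h2 0 (φ _)
      rw [mul_one, hφu, pj_u0]
    · refine Dvd.intro 0 ?_
      show PowerSeries.X * 0 = pj k h2 0 (φ _)
      rw [mul_zero, hφv, map_pow, pj_v0, zero_pow two_ne_zero]
  have P1 : ∀ a, pj k h2 1 (φ a) = PowerSeries.expand 2 two_ne_zero (pj k h2 1 a) := by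
    intro a
    refine contA k h2 ((pj k h2 1).comp (φ : ArSing.ring k 1 →+* ArSing.ring k 1))
      (((PowerSeries.expand 2 two_ne_zero : PowerSeries (IsLocalRing.ResidueField k) →ₐ[IsLocalRing.ResidueField k] PowerSeries (IsLocalRing.ResidueField k)) :
        PowerSeries (IsLocalRing.ResidueField k) →+* PowerSeries (IsLocalRing.ResidueField k)).comp (pj k h2 1))
      ?_ ?_ ?_ ?_ ?_ a
    · intro b
      show pj k h2 1 (φ (algebraMap k _ b)) =
        PowerSeries.expand 2 two_ne_zero (pj k h2 1 (algebraMap k _ b))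
      rw [φ.commutes, pj_alg, PowerSeries.expand_C]
    · show pj k h2 1 (φ _) = PowerSeries.expand 2 two_ne_zero (pj k h2 1 _)
      rw [hφu, pj_u1, map_zero]
    · show pj k h2 1 (φ _) = PowerSeries.expand 2 two_ne_zero (pj k h2 1 _)
      rw [hφv, map_pow, pj_v1, PowerSeries.expand_X]
    · refine Dvd.intro 0 ?_
      show PowerSeries.X * 0 = pj k h2 1 (φ _)
      rw [mul_zero, hφu, pj_u1]
    · refine Dvd.intro PowerSeries.X ?_
      show PowerSeries.X * PowerSeries.X = pj k h2 1 (φ _)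
      rw [hφv, map_pow, pj_v1, pow_two]
  have hker : Ideal.span {ArSing.y k 1 - ArSing.x k 1} = RingHom.ker (pj k h2 0) := by
    ext a
    rw [Ideal.mem_span_singleton, RingHom.mem_ker, p0_zero_iff]
  refine ⟨?_, ?_, ?_, ?_, ?_, ?_⟩
  · intro a
    constructor
    · intro ha
      have hev : PowerSeries.rescale (-1) (pj k h2 1 a) = pj k h2 1 a := by rw [← S1, ha]
      obtain ⟨g', hg', hcc⟩ := exists_expand h2R _ hev
      obtain ⟨b, hb0, hb1⟩ := exists_pair k h2 (pj k h2 0 a) g' (by rw [hcc, cc_eq])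
      refine (AlgHom.mem_range φ).mpr ⟨b, ?_⟩
      apply joint k h2
      · rw [P0, hb0]
      · rw [P1, hb1, hg']
    · intro hmem
      obtain ⟨b, rfl⟩ := (AlgHom.mem_range φ).mp hmem
      apply joint k h2
      · rw [S0]
      · rw [S1, P1, resc_expand]
  · intro a b hab
    apply joint k h2
    · rw [← P0 a, ← P0 b, hab]
    · apply expand_inj
      rw [← P1 a, ← P1 b, hab]
  · apply le_antisymm
    · rw [Ideal.span_le]
      rintro _ ⟨a, rfl⟩
      show σ a - a ∈ Ideal.span {ArSing.y k 1 - ArSing.x k 1}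
      rw [Ideal.mem_span_singleton, ← p0_zero_iff k h2, map_sub, S0, sub_self]
    · rw [Ideal.span_singleton_le_iff_mem]
      have hc' : algebraMap k (ArSing.ring k 1) (2⁻¹) * 2 = 1 := by
        have e2 : (2 : ArSing.ring k 1) = algebraMap k (ArSing.ring k 1) 2 :=
          (map_ofNat (algebraMap k (ArSing.ring k 1)) 2).symm
        rw [e2, ← map_mul, inv_mul_cancel₀ h2, map_one]
      have hmem : σ (ArSing.y k 1 - ArSing.x k 1) - (ArSing.y k 1 - ArSing.x k 1) ∈
          Ideal.span (Set.range fun a : ArSing.ring k 1 => σ a - a) :=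
        Ideal.subset_span ⟨_, rfl⟩
      have e3 : ArSing.y k 1 - ArSing.x k 1 = (-algebraMap k (ArSing.ring k 1) (2⁻¹)) *
          (σ (ArSing.y k 1 - ArSing.x k 1) - (ArSing.y k 1 - ArSing.x k 1)) := by
        rw [hσv]
        linear_combination (-(ArSing.y k 1 - ArSing.x k 1)) * hc'
      rw [e3]
      exact Ideal.mul_mem_left _ _ hmem
  · intro hv
    have h0 := (mul_right_mem_nonZeroDivisors_eq_zero_iff hv).mp (huv k h2)
    have h3 := pj_u0 k h2
    rw [h0, map_zero] at h3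
    exact PowerSeries.X_ne_zero h3.symm
  · have hprime : (Ideal.span {ArSing.y k 1 - ArSing.x k 1} : Ideal (ArSing.ring k 1)).IsPrime := by
      rw [hker]; exact RingHom.ker_isPrime _
    have hP : (Ideal.span {ArSing.y k 1 - ArSing.x k 1} : Ideal (ArSing.ring k 1)).IsPrime ∧
        (⊥ : Ideal (ArSing.ring k 1)) ≤ Ideal.span {ArSing.y k 1 - ArSing.x k 1} := ⟨hprime, bot_le⟩
    have hmin : ∀ ⦃q' : Ideal (ArSing.ring k 1)⦄, (q'.IsPrime ∧ (⊥ : Ideal (ArSing.ring k 1)) ≤ q') →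
        q' ≤ Ideal.span {ArSing.y k 1 - ArSing.x k 1} →
        Ideal.span {ArSing.y k 1 - ArSing.x k 1} ≤ q' := by
      rintro q' ⟨hq', -⟩ hle
      rw [Ideal.span_singleton_le_iff_mem]
      have h0 : (ArSing.x k 1 + ArSing.y k 1) * (ArSing.y k 1 - ArSing.x k 1) ∈ q' := by
        rw [huv k h2]; exact q'.zero_mem
      rcases hq'.mem_or_mem h0 with hu | hv
      · exfalso
        have h3 := hle hu
        rw [hker, RingHom.mem_ker, pj_u0] at h3
        exact PowerSeries.X_ne_zero h3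
      · exact hv
    exact (And.intro hP hmin :
      Minimal (fun q' : Ideal (ArSing.ring k 1) => q'.IsPrime ∧ ⊥ ≤ q') _)
  · intro hflat
    have hmem : (ArSing.y k 1 - ArSing.x k 1) ∈
        Ideal.span {(ArSing.y k 1 - ArSing.x k 1) ^ 2} := by
      refine flat_mem φ.toRingHom hflat (ArSing.x k 1 + ArSing.y k 1)
        (ArSing.y k 1 - ArSing.x k 1) ?_ _ ?_
      · show φ (ArSing.x k 1 + ArSing.y k 1) * (ArSing.y k 1 - ArSing.x k 1) = 0
        rw [hφu, huv k h2]
      · intro a ha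
        show φ a ∈ _
        have h0 : pj k h2 0 a = 0 := by
          have h3 := congrArg (pj k h2 0) ha
          rw [map_mul, pj_u0, map_zero] at h3
          rcases mul_eq_zero.mp h3 with h | h
          · exact absurd h PowerSeries.X_ne_zero
          · exact h
        obtain ⟨w, rfl⟩ := (p0_zero_iff k h2 a).mp h0
        rw [map_mul, hφv]
        exact Ideal.mul_mem_right _ _ (Ideal.subset_span (Set.mem_singleton _))
    obtain ⟨w, hw⟩ := Ideal.mem_span_singleton'.mp hmem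
    have h1 := congrArg (pj k h2 1) hw
    rw [map_mul, map_pow, pj_v1] at h1
    have h3 := congrArg (PowerSeries.coeff 1) h1
    rw [mul_comm, PowerSeries.coeff_X_pow_mul', PowerSeries.coeff_one_X,
      if_neg (show ¬ 2 ≤ 1 by omega)] at h3
    exact zero_ne_one h3

end Groth.Agent.S14096
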