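import Groth.Statements.S14083
import Mathlib
import Groth.Agent.H76.NodeAlg
import Groth.Agent.S14096
import Groth.Agent.S14080
-- import your own Groth.Agent.* helpers here

set_option autoImplicit false
universe u
open ArSing

namespace Groth.Agent.S14083


abbrev PK (k : Type u) [Field k] : Type u := PowerSeries (IsLocalRing.ResidueField k)
abbrev AutK (k : Type u) [Field k] : Type u := PK k ≃ₐ[IsLocalRing.ResidueField k] PK k

section Helpers

open Groth.Agent.S14096 (pj pj_apply eNode ha0 pj_alg pj_u0 pj_u1 pj_v0 pj_v1 p0_zero_iff p1_zero_iff huv joint cc_eq exists_pair resc_C)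
open Groth.Agent.H76.NodeAlg (q_surjective)

theorem cc_X {F : Type u} [Field F] (φ : PowerSeries F ≃ₐ[F] PowerSeries F) :
    PowerSeries.constantCoeff (φ PowerSeries.X) = 0 := by
  by_contra h
  have h1 : IsUnit (φ PowerSeries.X) := PowerSeries.isUnit_iff_constantCoeff.mpr (IsUnit.mk0 _ h)
  have h2' : IsUnit (PowerSeries.X : PowerSeries F) := by
    have := h1.map φ.symm
    simpa using this
  have h3 := PowerSeries.isUnit_iff_constantCoeff.mp h2'
  simp at h3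

theorem cc_equiv {F : Type u} [Field F] (φ : PowerSeries F ≃ₐ[F] PowerSeries F) (f : PowerSeries F) :
    PowerSeries.constantCoeff (φ f) = PowerSeries.constantCoeff f :=
  Groth.Agent.S14080.constantCoeff_algEquiv φ (cc_X φ) f

noncomputable def rhoHom (F : Type u) [Field F] : PowerSeries F →ₐ[F] PowerSeries F :=
  { toRingHom := PowerSeries.rescale (-1 : F)
    commutes' := fun c => by
      show PowerSeries.rescale (-1 : F) (algebraMap F (PowerSeries F) c) =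
        algebraMap F (PowerSeries F) c
      rw [← PowerSeries.C_eq_algebraMap]
      exact resc_C _ _ }

theorem rhoHom_apply (F : Type u) [Field F] (f : PowerSeries F) :
    rhoHom F f = PowerSeries.rescale (-1 : F) f := rfl

theorem rho_rho (F : Type u) [Field F] (f : PowerSeries F) : rhoHom F (rhoHom F f) = f := by
  rw [rhoHom_apply, rhoHom_apply, PowerSeries.rescale_rescale, neg_mul_neg, one_mul]
  simp

noncomputable def rho (F : Type u) [Field F] : PowerSeries F ≃ₐ[F] PowerSeries F :=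
  AlgEquiv.ofAlgHom (rhoHom F) (rhoHom F) (AlgHom.ext (rho_rho F)) (AlgHom.ext (rho_rho F))

theorem rho_apply (F : Type u) [Field F] (f : PowerSeries F) :
    rho F f = PowerSeries.rescale (-1 : F) f := rfl

variable (k : Type u) [Field k] (h2 : (2:k) ≠ 0)

theorem pj_surj (j : Fin 2) : Function.Surjective (pj k h2 j) := by
  intro f
  obtain ⟨r, hr⟩ := q_surjective (ha0 k) j f
  exact ⟨(eNode k h2).symm r, by rw [pj_apply, AlgEquiv.apply_symm_apply, hr]⟩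

theorem exists_hom (G₀ G₁ : ArSing.ring k 1 →+* PK k)
    (hcc : ∀ a, PowerSeries.constantCoeff (G₀ a) = PowerSeries.constantCoeff (G₁ a))
    (hc₀ : ∀ b : k, G₀ (algebraMap k _ b) = PowerSeries.C (IsLocalRing.residue k b))
    (hc₁ : ∀ b : k, G₁ (algebraMap k _ b) = PowerSeries.C (IsLocalRing.residue k b)) :
    ∃ Φ : ArSing.ring k 1 →ₐ[k] ArSing.ring k 1,
      (∀ a, pj k h2 0 (Φ a) = G₀ a) ∧ (∀ a, pj k h2 1 (Φ a) = G₁ a) := by
  choose F hF0 hF1 using fun a => exists_pair k h2 (G₀ a) (G₁ a) (hcc a)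
  let Φr : ArSing.ring k 1 →+* ArSing.ring k 1 :=
    { toFun := F
      map_one' := by
        apply joint k h2
        · rw [hF0, map_one, map_one]
        · rw [hF1, map_one, map_one]
      map_mul' := by
        intro a b
        apply joint k h2
        · rw [hF0, map_mul, map_mul, hF0, hF0]
        · rw [hF1, map_mul, map_mul, hF1, hF1]
      map_zero' := by
        apply joint k h2
        · rw [hF0, map_zero, map_zero]
        · rw [hF1, map_zero, map_zero]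
      map_add' := by
        intro a b
        apply joint k h2
        · rw [hF0, map_add, map_add, hF0, hF0]
        · rw [hF1, map_add, map_add, hF1, hF1] }
  refine ⟨{ toRingHom := Φr, commutes' := ?_ }, hF0, hF1⟩
  intro b
  show F (algebraMap k _ b) = algebraMap k _ b
  apply joint k h2
  · rw [hF0, hc₀, pj_alg]
  · rw [hF1, hc₁, pj_alg]

theorem hc_aux (φ : AutK k) (j : Fin 2) (b : k) :
    φ (pj k h2 j (algebraMap k _ b)) = PowerSeries.C (IsLocalRing.residue k b) := by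
  rw [pj_alg, PowerSeries.C_eq_algebraMap, AlgEquiv.commutes]

theorem straight (φ₀ φ₁ : AutK k) :
    ∃ Φ : ArSing.ring k 1 ≃ₐ[k] ArSing.ring k 1,
      (∀ a, pj k h2 0 (Φ a) = φ₀ (pj k h2 0 a)) ∧ (∀ a, pj k h2 1 (Φ a) = φ₁ (pj k h2 1 a)) := by
  obtain ⟨Φ, hΦ0, hΦ1⟩ := exists_hom k h2
    ((φ₀ : PK k →+* PK k).comp (pj k h2 0)) ((φ₁ : PK k →+* PK k).comp (pj k h2 1))
    (fun a => by
      show PowerSeries.constantCoeff (φ₀ (pj k h2 0 a)) =
        PowerSeries.constantCoeff (φ₁ (pj k h2 1 a))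
      rw [cc_equiv, cc_equiv, cc_eq])
    (fun b => hc_aux k h2 φ₀ 0 b) (fun b => hc_aux k h2 φ₁ 1 b)
  obtain ⟨Ψ, hΨ0, hΨ1⟩ := exists_hom k h2
    ((φ₀.symm : PK k →+* PK k).comp (pj k h2 0)) ((φ₁.symm : PK k →+* PK k).comp (pj k h2 1))
    (fun a => by
      show PowerSeries.constantCoeff (φ₀.symm (pj k h2 0 a)) =
        PowerSeries.constantCoeff (φ₁.symm (pj k h2 1 a))
      rw [cc_equiv, cc_equiv, cc_eq])
    (fun b => hc_aux k h2 φ₀.symm 0 b) (fun b => hc_aux k h2 φ₁.symm 1 b)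
  have hΦ0' : ∀ a, pj k h2 0 (Φ a) = φ₀ (pj k h2 0 a) := hΦ0
  have hΦ1' : ∀ a, pj k h2 1 (Φ a) = φ₁ (pj k h2 1 a) := hΦ1
  have hΨ0' : ∀ a, pj k h2 0 (Ψ a) = φ₀.symm (pj k h2 0 a) := hΨ0
  have hΨ1' : ∀ a, pj k h2 1 (Ψ a) = φ₁.symm (pj k h2 1 a) := hΨ1
  refine ⟨AlgEquiv.ofAlgHom Φ Ψ (AlgHom.ext fun a => ?_) (AlgHom.ext fun a => ?_), hΦ0', hΦ1'⟩
  · show Φ (Ψ a) = a
    apply joint k h2
    · rw [hΦ0', hΨ0', AlgEquiv.apply_symm_apply]
    · rw [hΦ1', hΨ1', AlgEquiv.apply_symm_apply]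
  · show Ψ (Φ a) = a
    apply joint k h2
    · rw [hΨ0', hΦ0', AlgEquiv.symm_apply_apply]
    · rw [hΨ1', hΦ1', AlgEquiv.symm_apply_apply]

theorem crossed (φ₀ φ₁ : AutK k) :
    ∃ Φ : ArSing.ring k 1 ≃ₐ[k] ArSing.ring k 1,
      (∀ a, pj k h2 0 (Φ a) = φ₀ (pj k h2 1 a)) ∧ (∀ a, pj k h2 1 (Φ a) = φ₁ (pj k h2 0 a)) := by
  obtain ⟨Φ, hΦ0, hΦ1⟩ := exists_hom k h2
    ((φ₀ : PK k →+* PK k).comp (pj k h2 1)) ((φ₁ : PK k →+* PK k).comp (pj k h2 0))
    (fun a => by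
      show PowerSeries.constantCoeff (φ₀ (pj k h2 1 a)) =
        PowerSeries.constantCoeff (φ₁ (pj k h2 0 a))
      rw [cc_equiv, cc_equiv, cc_eq])
    (fun b => hc_aux k h2 φ₀ 1 b) (fun b => hc_aux k h2 φ₁ 0 b)
  obtain ⟨Ψ, hΨ0, hΨ1⟩ := exists_hom k h2
    ((φ₁.symm : PK k →+* PK k).comp (pj k h2 1)) ((φ₀.symm : PK k →+* PK k).comp (pj k h2 0))
    (fun a => by
      show PowerSeries.constantCoeff (φ₁.symm (pj k h2 1 a)) =
        PowerSeries.constantCoeff (φ₀.symm (pj k h2 0 a))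
      rw [cc_equiv, cc_equiv, cc_eq])
    (fun b => hc_aux k h2 φ₁.symm 1 b) (fun b => hc_aux k h2 φ₀.symm 0 b)
  have hΦ0' : ∀ a, pj k h2 0 (Φ a) = φ₀ (pj k h2 1 a) := hΦ0
  have hΦ1' : ∀ a, pj k h2 1 (Φ a) = φ₁ (pj k h2 0 a) := hΦ1
  have hΨ0' : ∀ a, pj k h2 0 (Ψ a) = φ₁.symm (pj k h2 1 a) := hΨ0
  have hΨ1' : ∀ a, pj k h2 1 (Ψ a) = φ₀.symm (pj k h2 0 a) := hΨ1
  refine ⟨AlgEquiv.ofAlgHom Φ Ψ (AlgHom.ext fun a => ?_) (AlgHom.ext fun a => ?_), hΦ0', hΦ1'⟩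
  · show Φ (Ψ a) = a
    apply joint k h2
    · rw [hΦ0', hΨ1', AlgEquiv.apply_symm_apply]
    · rw [hΦ1', hΨ0', AlgEquiv.apply_symm_apply]
  · show Ψ (Φ a) = a
    apply joint k h2
    · rw [hΨ0', hΦ1', AlgEquiv.symm_apply_apply]
    · rw [hΨ1', hΦ0', AlgEquiv.symm_apply_apply]

theorem fac (i j : Fin 2) (ψ : ArSing.ring k 1 →+* ArSing.ring k 1)
    (hψc : ∀ b : k, ψ (algebraMap k _ b) = algebraMap k _ b)
    (hker : ∀ a, pj k h2 i a = 0 → pj k h2 j (ψ a) = 0) :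
    ∃ s : PK k →ₐ[IsLocalRing.ResidueField k] PK k, ∀ a, pj k h2 j (ψ a) = s (pj k h2 i a) := by
  have hle : RingHom.ker (pj k h2 i) ≤ RingHom.ker ((pj k h2 j).comp ψ) := by
    intro a ha
    rw [RingHom.mem_ker] at ha ⊢
    exact hker a ha
  have hs₀ : ∀ a, (pj k h2 i).liftOfSurjective (pj_surj k h2 i) ⟨(pj k h2 j).comp ψ, hle⟩
      (pj k h2 i a) = pj k h2 j (ψ a) :=
    fun a => RingHom.liftOfSurjective_comp_apply _ _ ⟨_, hle⟩ a
  refine ⟨{ toRingHom := (pj k h2 i).liftOfSurjective (pj_surj k h2 i) ⟨(pj k h2 j).comp ψ, hle⟩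
            commutes' := ?_ }, fun a => (hs₀ a).symm⟩
  intro c
  obtain ⟨b, rfl⟩ := IsLocalRing.residue_surjective c
  show (pj k h2 i).liftOfSurjective (pj_surj k h2 i) ⟨(pj k h2 j).comp ψ, hle⟩
    (algebraMap _ _ (IsLocalRing.residue k b)) = algebraMap _ _ (IsLocalRing.residue k b)
  rw [← PowerSeries.C_eq_algebraMap, ← pj_alg k h2 i b, hs₀, hψc]
  simp only [pj_alg]

theorem tau_uv (τ : ArSing.ring k 1 → ArSing.ring k 1) (ξ₀ ξ₁ : IsLocalRing.ResidueField k)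
    (h0 : ∀ a, pj k h2 0 (τ a) = PowerSeries.rescale ξ₀ (pj k h2 0 a))
    (h1 : ∀ a, pj k h2 1 (τ a) = PowerSeries.rescale ξ₁ (pj k h2 1 a)) :
    (ξ₀ = 1 → τ (ArSing.x k 1 + ArSing.y k 1) = ArSing.x k 1 + ArSing.y k 1) ∧
    (ξ₀ = -1 → τ (ArSing.x k 1 + ArSing.y k 1) = -(ArSing.x k 1 + ArSing.y k 1)) ∧
    (ξ₁ = 1 → τ (ArSing.y k 1 - ArSing.x k 1) = ArSing.y k 1 - ArSing.x k 1) ∧
    (ξ₁ = -1 → τ (ArSing.y k 1 - ArSing.x k 1) = -(ArSing.y k 1 - ArSing.x k 1)) := by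
  refine ⟨fun h => ?_, fun h => ?_, fun h => ?_, fun h => ?_⟩
  · apply joint k h2
    · rw [h0, pj_u0, h]; simp
    · rw [h1, pj_u1, map_zero]
  · apply joint k h2
    · rw [h0, map_neg, pj_u0, h, PowerSeries.rescale_X, map_neg, map_one, neg_one_mul]
    · rw [h1, map_neg, pj_u1, map_zero, neg_zero]
  · apply joint k h2
    · rw [h0, pj_v0, map_zero]
    · rw [h1, pj_v1, h]; simp
  · apply joint k h2
    · rw [h0, map_neg, pj_v0, map_zero, neg_zero]
    · rw [h1, map_neg, pj_v1, h, PowerSeries.rescale_X, map_neg, map_one, neg_one_mul]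

end Helpers



/-- Over an algebraically closed field k of characteristic different from 2, every non-trivial k-algebra
involution σ of the node algebra A_1 = k[[x,y]]/(y^2 - x^2) is conjugate, by a k-algebra
automorphism φ of A_1, to one of the three involutions (x, y) ↦ (x, -y), (x, y) ↦ (-x, -y), (x, y) ↦
(y, x). -/
theorem result (k : Type u) [Field k] [IsAlgClosed k]
    (h2 : (2 : k) ≠ 0)
    (σ : ArSing.ring k 1 ≃ₐ[k] ArSing.ring k 1) (hσ : ∀ a, σ (σ a) = a) (hne : σ ≠ AlgEquiv.refl) :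
    ∃ φ : ArSing.ring k 1 ≃ₐ[k] ArSing.ring k 1,
      (φ.symm (σ (φ (ArSing.x k 1))) = ArSing.x k 1 ∧ φ.symm (σ (φ (ArSing.y k 1))) = -ArSing.y k 1) ∨
      (φ.symm (σ (φ (ArSing.x k 1))) = -ArSing.x k 1 ∧ φ.symm (σ (φ (ArSing.y k 1))) = -ArSing.y k 1) ∨
      (φ.symm (σ (φ (ArSing.x k 1))) = ArSing.y k 1 ∧ φ.symm (σ (φ (ArSing.y k 1))) = ArSing.x k 1) := by
  classical
  have h2K : (2 : IsLocalRing.ResidueField k) ≠ 0 := by
    have := (map_ne_zero (IsLocalRing.residue k)).mpr h2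
    rwa [map_ofNat] at this
  have hc' : algebraMap k (ArSing.ring k 1) (2⁻¹) * 2 = 1 := by
    have e2 : (2 : ArSing.ring k 1) = algebraMap k (ArSing.ring k 1) 2 :=
      (map_ofNat (algebraMap k (ArSing.ring k 1)) 2).symm
    rw [e2, ← map_mul, inv_mul_cancel₀ h2, map_one]
  have hxc : ArSing.x k 1 = algebraMap k (ArSing.ring k 1) (2⁻¹) *
      ((ArSing.x k 1 + ArSing.y k 1) - (ArSing.y k 1 - ArSing.x k 1)) := by
    linear_combination (-(ArSing.x k 1)) * hc'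
  have hyc : ArSing.y k 1 = algebraMap k (ArSing.ring k 1) (2⁻¹) *
      ((ArSing.x k 1 + ArSing.y k 1) + (ArSing.y k 1 - ArSing.x k 1)) := by
    linear_combination (-(ArSing.y k 1)) * hc'
  have hXY : ∀ (T : ArSing.ring k 1 ≃ₐ[k] ArSing.ring k 1) (U V : ArSing.ring k 1),
      T (ArSing.x k 1 + ArSing.y k 1) = U → T (ArSing.y k 1 - ArSing.x k 1) = V →
      T (ArSing.x k 1) = algebraMap k (ArSing.ring k 1) (2⁻¹) * (U - V) ∧
      T (ArSing.y k 1) = algebraMap k (ArSing.ring k 1) (2⁻¹) * (U + V) := by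
    intro T U V hU hV
    constructor
    · have h3 := congrArg T hxc
      rw [map_mul, map_sub, AlgEquiv.commutes, hU, hV] at h3
      exact h3
    · have h3 := congrArg T hyc
      rw [map_mul, map_add, AlgEquiv.commutes, hU, hV] at h3
      exact h3
  have huv0 := Groth.Agent.S14096.huv k h2
  have hu_ne : ArSing.x k 1 + ArSing.y k 1 ≠ 0 := by
    intro h
    have h3 := Groth.Agent.S14096.pj_u0 k h2
    rw [h, map_zero] at h3
    exact PowerSeries.X_ne_zero h3.symm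
  have hv_ne : ArSing.y k 1 - ArSing.x k 1 ≠ 0 := by
    intro h
    have h3 := Groth.Agent.S14096.pj_v1 k h2
    rw [h, map_zero] at h3
    exact PowerSeries.X_ne_zero h3.symm
  have hσu_ne : σ (ArSing.x k 1 + ArSing.y k 1) ≠ 0 :=
    fun h => hu_ne ((map_eq_zero_iff σ σ.injective).mp h)
  have hσv_ne : σ (ArSing.y k 1 - ArSing.x k 1) ≠ 0 :=
    fun h => hv_ne ((map_eq_zero_iff σ σ.injective).mp h)
  have h00 : Groth.Agent.S14096.pj k h2 0 (σ (ArSing.x k 1 + ArSing.y k 1)) *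
      Groth.Agent.S14096.pj k h2 0 (σ (ArSing.y k 1 - ArSing.x k 1)) = 0 := by
    rw [← map_mul, ← map_mul, huv0, map_zero σ, map_zero]
  have h11 : Groth.Agent.S14096.pj k h2 1 (σ (ArSing.x k 1 + ArSing.y k 1)) *
      Groth.Agent.S14096.pj k h2 1 (σ (ArSing.y k 1 - ArSing.x k 1)) = 0 := by
    rw [← map_mul, ← map_mul, huv0, map_zero σ, map_zero]
  rcases mul_eq_zero.mp h00 with hB | hA
  · -- swapping case
    have hB1 : Groth.Agent.S14096.pj k h2 1 (σ (ArSing.x k 1 + ArSing.y k 1)) ≠ 0 :=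
      fun h => hσu_ne (Groth.Agent.S14096.joint k h2 _ _ (by rw [hB, map_zero])
        (by rw [h, map_zero]))
    have hB' : Groth.Agent.S14096.pj k h2 1 (σ (ArSing.y k 1 - ArSing.x k 1)) = 0 :=
      (mul_eq_zero.mp h11).resolve_left hB1
    have hk10 : ∀ a, Groth.Agent.S14096.pj k h2 1 a = 0 →
        Groth.Agent.S14096.pj k h2 0 (σ a) = 0 := by
      intro a ha
      obtain ⟨w, rfl⟩ := (Groth.Agent.S14096.p1_zero_iff k h2 a).mp ha
      rw [map_mul, map_mul, hB, zero_mul]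
    have hk01 : ∀ a, Groth.Agent.S14096.pj k h2 0 a = 0 →
        Groth.Agent.S14096.pj k h2 1 (σ a) = 0 := by
      intro a ha
      obtain ⟨w, rfl⟩ := (Groth.Agent.S14096.p0_zero_iff k h2 a).mp ha
      rw [map_mul, map_mul, hB', zero_mul]
    obtain ⟨s, hs⟩ := fac k h2 1 0 (σ : ArSing.ring k 1 →+* ArSing.ring k 1) σ.commutes hk10
    obtain ⟨s', hs'⟩ := fac k h2 0 1 (σ : ArSing.ring k 1 →+* ArSing.ring k 1) σ.commutes hk01
    have hs_ : ∀ a, Groth.Agent.S14096.pj k h2 0 (σ a) = s (Groth.Agent.S14096.pj k h2 1 a) := hs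
    have hs'' : ∀ a, Groth.Agent.S14096.pj k h2 1 (σ a) = s' (Groth.Agent.S14096.pj k h2 0 a) := hs'
    have hss' : ∀ f, s (s' f) = f := by
      intro f
      obtain ⟨a, rfl⟩ := pj_surj k h2 0 f
      rw [← hs'', ← hs_, hσ]
    have hs's : ∀ f, s' (s f) = f := by
      intro f
      obtain ⟨a, rfl⟩ := pj_surj k h2 1 f
      rw [← hs_, ← hs'', hσ]
    obtain ⟨Φ, hΦ0, hΦ1⟩ := straight k h2 AlgEquiv.refl
      ((rho (IsLocalRing.ResidueField k)).trans
        (AlgEquiv.ofAlgHom s' s (AlgHom.ext hs's) (AlgHom.ext hss')))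
    have hΦ0' : ∀ a, Groth.Agent.S14096.pj k h2 0 (Φ a) = Groth.Agent.S14096.pj k h2 0 a := hΦ0
    have hΦ1' : ∀ a, Groth.Agent.S14096.pj k h2 1 (Φ a) =
        s' (PowerSeries.rescale (-1) (Groth.Agent.S14096.pj k h2 1 a)) := hΦ1
    have hT0 : ∀ a, Groth.Agent.S14096.pj k h2 0 (Φ.symm (σ (Φ a))) =
        PowerSeries.rescale (-1) (Groth.Agent.S14096.pj k h2 1 a) := by
      intro a
      have e := hΦ0' (Φ.symm (σ (Φ a)))
      rw [AlgEquiv.apply_symm_apply, hs_, hΦ1', hss'] at e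
      exact e.symm
    have hT1 : ∀ a, Groth.Agent.S14096.pj k h2 1 (Φ.symm (σ (Φ a))) =
        PowerSeries.rescale (-1) (Groth.Agent.S14096.pj k h2 0 a) := by
      intro a
      have e := hΦ1' (Φ.symm (σ (Φ a)))
      rw [AlgEquiv.apply_symm_apply, hs'', hΦ0'] at e
      have e2 := congrArg s e
      rw [hss', hss'] at e2
      rw [e2, PowerSeries.rescale_rescale, neg_mul_neg, one_mul]
      simp
    have hTu : Φ.symm (σ (Φ (ArSing.x k 1 + ArSing.y k 1))) = -(ArSing.y k 1 - ArSing.x k 1) := by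
      apply Groth.Agent.S14096.joint k h2
      · rw [hT0, Groth.Agent.S14096.pj_u1, map_zero, map_neg, Groth.Agent.S14096.pj_v0, neg_zero]
      · rw [hT1, Groth.Agent.S14096.pj_u0, map_neg, Groth.Agent.S14096.pj_v1,
          PowerSeries.rescale_X, map_neg, map_one, neg_one_mul]
    have hTv : Φ.symm (σ (Φ (ArSing.y k 1 - ArSing.x k 1))) = -(ArSing.x k 1 + ArSing.y k 1) := by
      apply Groth.Agent.S14096.joint k h2
      · rw [hT0, Groth.Agent.S14096.pj_v1, map_neg, Groth.Agent.S14096.pj_u0,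
          PowerSeries.rescale_X, map_neg, map_one, neg_one_mul]
      · rw [hT1, Groth.Agent.S14096.pj_v0, map_zero, map_neg, Groth.Agent.S14096.pj_u1, neg_zero]
    obtain ⟨hX, hY⟩ := hXY ((Φ.trans σ).trans Φ.symm) _ _ hTu hTv
    refine ⟨Φ, Or.inl ⟨?_, ?_⟩⟩
    · exact hX.trans (by linear_combination (ArSing.x k 1) * hc')
    · exact hY.trans (by linear_combination (-(ArSing.y k 1)) * hc')
  · -- branch preserving case
    have hA1 : Groth.Agent.S14096.pj k h2 1 (σ (ArSing.y k 1 - ArSing.x k 1)) ≠ 0 :=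
      fun h => hσv_ne (Groth.Agent.S14096.joint k h2 _ _ (by rw [hA, map_zero])
        (by rw [h, map_zero]))
    have hA' : Groth.Agent.S14096.pj k h2 1 (σ (ArSing.x k 1 + ArSing.y k 1)) = 0 :=
      (mul_eq_zero.mp h11).resolve_right hA1
    have hk0 : ∀ a, Groth.Agent.S14096.pj k h2 0 a = 0 →
        Groth.Agent.S14096.pj k h2 0 (σ a) = 0 := by
      intro a ha
      obtain ⟨w, rfl⟩ := (Groth.Agent.S14096.p0_zero_iff k h2 a).mp ha
      rw [map_mul, map_mul, hA, zero_mul]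
    have hk1 : ∀ a, Groth.Agent.S14096.pj k h2 1 a = 0 →
        Groth.Agent.S14096.pj k h2 1 (σ a) = 0 := by
      intro a ha
      obtain ⟨w, rfl⟩ := (Groth.Agent.S14096.p1_zero_iff k h2 a).mp ha
      rw [map_mul, map_mul, hA', zero_mul]
    obtain ⟨s₀, hs₀⟩ := fac k h2 0 0 (σ : ArSing.ring k 1 →+* ArSing.ring k 1) σ.commutes hk0
    obtain ⟨s₁, hs₁⟩ := fac k h2 1 1 (σ : ArSing.ring k 1 →+* ArSing.ring k 1) σ.commutes hk1
    have hs₀' : ∀ a, Groth.Agent.S14096.pj k h2 0 (σ a) = s₀ (Groth.Agent.S14096.pj k h2 0 a) := hs₀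
    have hs₁' : ∀ a, Groth.Agent.S14096.pj k h2 1 (σ a) = s₁ (Groth.Agent.S14096.pj k h2 1 a) := hs₁
    have hinv0 : ∀ f, s₀ (s₀ f) = f := by
      intro f
      obtain ⟨a, rfl⟩ := pj_surj k h2 0 f
      rw [← hs₀', ← hs₀', hσ]
    have hinv1 : ∀ f, s₁ (s₁ f) = f := by
      intro f
      obtain ⟨a, rfl⟩ := pj_surj k h2 1 f
      rw [← hs₁', ← hs₁', hσ]
    obtain ⟨hξ₀, φ₀, -, hφ₀⟩ := Groth.Agent.S14080.result (IsLocalRing.ResidueField k) h2K
      (AlgEquiv.ofAlgHom s₀ s₀ (AlgHom.ext hinv0) (AlgHom.ext hinv0)) hinv0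
    obtain ⟨hξ₁, φ₁, -, hφ₁⟩ := Groth.Agent.S14080.result (IsLocalRing.ResidueField k) h2K
      (AlgEquiv.ofAlgHom s₁ s₁ (AlgHom.ext hinv1) (AlgHom.ext hinv1)) hinv1
    obtain ⟨ξ₀, hξ₀def⟩ : ∃ ξ, PowerSeries.coeff 1
      ((AlgEquiv.ofAlgHom s₀ s₀ (AlgHom.ext hinv0) (AlgHom.ext hinv0)) PowerSeries.X) = ξ := ⟨_, rfl⟩
    obtain ⟨ξ₁, hξ₁def⟩ : ∃ ξ, PowerSeries.coeff 1
      ((AlgEquiv.ofAlgHom s₁ s₁ (AlgHom.ext hinv1) (AlgHom.ext hinv1)) PowerSeries.X) = ξ := ⟨_, rfl⟩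
    rw [hξ₀def] at hξ₀ hφ₀
    rw [hξ₁def] at hξ₁ hφ₁
    have hφ₀' : ∀ f, φ₀.symm (s₀ (φ₀ f)) = PowerSeries.rescale ξ₀ f := hφ₀
    have hφ₁' : ∀ f, φ₁.symm (s₁ (φ₁ f)) = PowerSeries.rescale ξ₁ f := hφ₁
    have hξ₀' : ξ₀ = 1 ∨ ξ₀ = -1 := mul_self_eq_one_iff.mp (by rw [← sq]; exact hξ₀)
    have hξ₁' : ξ₁ = 1 ∨ ξ₁ = -1 := mul_self_eq_one_iff.mp (by rw [← sq]; exact hξ₁)
    -- straight conjugation
    obtain ⟨Φ, hΦ0, hΦ1⟩ := straight k h2 φ₀ φ₁
    have hS0 : ∀ a, Groth.Agent.S14096.pj k h2 0 (Φ.symm (σ (Φ a))) =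
        PowerSeries.rescale ξ₀ (Groth.Agent.S14096.pj k h2 0 a) := by
      intro a
      have e := hΦ0 (Φ.symm (σ (Φ a)))
      rw [AlgEquiv.apply_symm_apply, hs₀', hΦ0] at e
      rw [← hφ₀']
      apply φ₀.injective
      rw [AlgEquiv.apply_symm_apply]
      exact e.symm
    have hS1 : ∀ a, Groth.Agent.S14096.pj k h2 1 (Φ.symm (σ (Φ a))) =
        PowerSeries.rescale ξ₁ (Groth.Agent.S14096.pj k h2 1 a) := by
      intro a
      have e := hΦ1 (Φ.symm (σ (Φ a)))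
      rw [AlgEquiv.apply_symm_apply, hs₁', hΦ1] at e
      rw [← hφ₁']
      apply φ₁.injective
      rw [AlgEquiv.apply_symm_apply]
      exact e.symm
    obtain ⟨tu1, tu2, tv1, tv2⟩ := tau_uv k h2 (fun a => Φ.symm (σ (Φ a))) ξ₀ ξ₁ hS0 hS1
    -- crossed conjugation
    obtain ⟨Φc, hΦc0, hΦc1⟩ := crossed k h2 φ₀ φ₁
    have hC1 : ∀ a, Groth.Agent.S14096.pj k h2 1 (Φc.symm (σ (Φc a))) =
        PowerSeries.rescale ξ₀ (Groth.Agent.S14096.pj k h2 1 a) := by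
      intro a
      have e := hΦc0 (Φc.symm (σ (Φc a)))
      rw [AlgEquiv.apply_symm_apply, hs₀', hΦc0] at e
      rw [← hφ₀']
      apply φ₀.injective
      rw [AlgEquiv.apply_symm_apply]
      exact e.symm
    have hC0 : ∀ a, Groth.Agent.S14096.pj k h2 0 (Φc.symm (σ (Φc a))) =
        PowerSeries.rescale ξ₁ (Groth.Agent.S14096.pj k h2 0 a) := by
      intro a
      have e := hΦc1 (Φc.symm (σ (Φc a)))
      rw [AlgEquiv.apply_symm_apply, hs₁', hΦc1] at e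
      rw [← hφ₁']
      apply φ₁.injective
      rw [AlgEquiv.apply_symm_apply]
      exact e.symm
    obtain ⟨cu1, cu2, cv1, cv2⟩ := tau_uv k h2 (fun a => Φc.symm (σ (Φc a))) ξ₁ ξ₀ hC0 hC1
    rcases hξ₀' with e0 | e0 <;> rcases hξ₁' with e1 | e1
    · -- (1,1): σ = id
      exfalso
      have hid : ∀ a, Φ.symm (σ (Φ a)) = a := fun a =>
        Groth.Agent.S14096.joint k h2 _ _ (by rw [hS0, e0]; simp) (by rw [hS1, e1]; simp)
      apply hne
      apply AlgEquiv.ext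
      intro b
      obtain ⟨a, rfl⟩ := Φ.surjective b
      have h3 := hid a
      rw [AlgEquiv.symm_apply_eq] at h3
      exact h3
    · -- (1,-1)
      obtain ⟨hX, hY⟩ := hXY ((Φ.trans σ).trans Φ.symm) _ _ (tu1 e0) (tv2 e1)
      refine ⟨Φ, Or.inr (Or.inr ⟨?_, ?_⟩)⟩
      · exact hX.trans (by linear_combination (ArSing.y k 1) * hc')
      · exact hY.trans (by linear_combination (ArSing.x k 1) * hc')
    · -- (-1,1): use the crossed conjugation
      obtain ⟨hX, hY⟩ := hXY ((Φc.trans σ).trans Φc.symm) _ _ (cu1 e1) (cv2 e0)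
      refine ⟨Φc, Or.inr (Or.inr ⟨?_, ?_⟩)⟩
      · exact hX.trans (by linear_combination (ArSing.y k 1) * hc')
      · exact hY.trans (by linear_combination (ArSing.x k 1) * hc')
    · -- (-1,-1)
      obtain ⟨hX, hY⟩ := hXY ((Φ.trans σ).trans Φ.symm) _ _ (tu2 e0) (tv2 e1)
      refine ⟨Φ, Or.inr (Or.inl ⟨?_, ?_⟩)⟩
      · exact hX.trans (by linear_combination (-(ArSing.x k 1)) * hc')
      · exact hY.trans (by linear_combination (-(ArSing.y k 1)) * hc')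

end Groth.Agent.S14083
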