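import Groth.Statements.S14081
import Mathlib
import Groth.Agent.S14080
import Groth.Agent.S14083
import Groth.Agent.S14096
import Groth.Agent.H76.NodeAlg
-- import your own Groth.Agent.* helpers here

set_option autoImplicit false
universe u
open ArSing

namespace Groth.Agent.S14081


open PowerSeries
open Groth.Agent.S14083 (rhoHom rhoHom_apply rho_rho cc_X)
open Groth.Agent.S14096 (resc_C resc_expand expand_inj exists_expand)
open Groth.Agent.H76.NodeAlg (fin2_cases zero_ne_one')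

section KLevel
variable {k : Type u} [Field k]

theorem hC2K (h2 : (2:k) ≠ 0) : (C (2⁻¹ : k) : PowerSeries k) * 2 = 1 := by
  have e2 : (2 : PowerSeries k) = C (2 : k) := (map_ofNat (C : k →+* PowerSeries k) 2).symm
  rw [e2, ← map_mul, inv_mul_cancel₀ h2, map_one]

noncomputable abbrev EE (k : Type u) [Field k] : PowerSeries k →ₐ[k] PowerSeries k :=
  PowerSeries.expand 2 two_ne_zero

theorem EE_X : EE k (X : PowerSeries k) = X ^ 2 := PowerSeries.expand_X 2 two_ne_zero
theorem EE_C (c : k) : EE k (C c) = C c := PowerSeries.expand_C 2 two_ne_zero c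

theorem rho_X : rhoHom k (X : PowerSeries k) = -X := by
  rw [rhoHom_apply, rescale_X, map_neg, map_one, neg_one_mul]

theorem rho_C (c : k) : rhoHom k (C c) = C c := by
  rw [rhoHom_apply]; exact resc_C _ _

theorem cc_rho (f : PowerSeries k) : constantCoeff (rhoHom k f) = constantCoeff f := by
  rw [rhoHom_apply, ← coeff_zero_eq_constantCoeff_apply, ← coeff_zero_eq_constantCoeff_apply,
    coeff_rescale, pow_zero, one_mul]

theorem rho_EE (a : PowerSeries k) : rhoHom k (EE k a) = EE k a := by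
  rw [rhoHom_apply]; exact resc_expand a

theorem rho_X_sq : rhoHom k ((X : PowerSeries k) ^ 2) = X ^ 2 := by
  rw [map_pow, rho_X, neg_sq]

theorem rho_X_pow_odd (r : ℕ) (hodd : Odd (r + 1)) :
    rhoHom k ((X : PowerSeries k) ^ (r + 1)) = -X ^ (r + 1) := by
  rw [map_pow, rho_X, hodd.neg_pow]

theorem cc_algHom_X (Θ : PowerSeries k →ₐ[k] PowerSeries k) : constantCoeff (Θ X) = 0 := by
  by_contra h
  have hu : IsUnit ((X : PowerSeries k) - C (constantCoeff (Θ X))) := by
    rw [isUnit_iff_constantCoeff, map_sub, constantCoeff_X, constantCoeff_C, zero_sub]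
    exact (IsUnit.mk0 _ h).neg
  have hu2 := hu.map Θ
  rw [map_sub, C_eq_algebraMap, AlgHom.commutes, ← C_eq_algebraMap, isUnit_iff_constantCoeff,
    map_sub, constantCoeff_C, sub_self] at hu2
  exact not_isUnit_zero hu2

theorem dvd_sub_of_dvd_sub (Θ₁ Θ₂ : PowerSeries k →ₐ[k] PowerSeries k) (d : ℕ)
    (h : X ^ d ∣ Θ₁ X - Θ₂ X) (f : PowerSeries k) : X ^ d ∣ Θ₁ f - Θ₂ f := by
  have h0 : constantCoeff (Θ₁ X) = 0 := cc_algHom_X Θ₁
  have key : ∀ n : ℕ, n ≤ d → ∀ f : PowerSeries k, X ^ n ∣ Θ₁ f - Θ₂ f := by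
    intro n
    induction n with
    | zero => intro _ f; rw [pow_zero]; exact one_dvd _
    | succ n ih =>
      intro hn f
      obtain ⟨g, c, rfl⟩ : ∃ g c, f = X * g + C c := ⟨_, _, eq_X_mul_shift_add_const f⟩
      have hC1 : Θ₁ (C c) = C c := by rw [C_eq_algebraMap, AlgHom.commutes]
      have hC2 : Θ₂ (C c) = C c := by rw [C_eq_algebraMap, AlgHom.commutes]
      have h1 : Θ₁ (X * g + C c) - Θ₂ (X * g + C c) =
          Θ₁ X * (Θ₁ g - Θ₂ g) + (Θ₁ X - Θ₂ X) * Θ₂ g := by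
        simp only [map_add, map_mul, hC1, hC2]
        ring
      rw [h1]
      refine dvd_add ?_ ?_
      · rw [pow_succ']
        exact mul_dvd_mul (X_dvd_iff.mpr h0) (ih (Nat.le_of_succ_le hn) g)
      · exact Dvd.dvd.mul_right ((pow_dvd_pow X hn).trans h) _
  exact key d le_rfl f

theorem algHom_ext_X (Θ₁ Θ₂ : PowerSeries k →ₐ[k] PowerSeries k) (h : Θ₁ X = Θ₂ X) :
    Θ₁ = Θ₂ := by
  apply AlgHom.ext
  intro f
  ext n
  have hd := dvd_sub_of_dvd_sub Θ₁ Θ₂ (n + 1) (by rw [h, sub_self]; exact dvd_zero _) f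
  rw [X_pow_dvd_iff] at hd
  have h' := hd n (Nat.lt_succ_self n)
  rwa [map_sub, sub_eq_zero] at h'

theorem dvd_map_of_dvd (Θ : PowerSeries k →ₐ[k] PowerSeries k) {n : ℕ} {g : PowerSeries k}
    (h : X ^ n ∣ g) : X ^ n ∣ Θ g := by
  have h1 : (X : PowerSeries k) ^ n ∣ (Θ X) ^ n :=
    pow_dvd_pow_of_dvd (X_dvd_iff.mpr (cc_algHom_X Θ)) n
  have h2 : (Θ X) ^ n ∣ Θ g := by
    rw [← map_pow]; exact map_dvd Θ h
  exact h1.trans h2

def InA (r : ℕ) (f : PowerSeries k) : Prop := X ^ (r + 1) ∣ f - rhoHom k f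

theorem InA_def (r : ℕ) (f : PowerSeries k) : InA r f ↔ X ^ (r + 1) ∣ f - rhoHom k f := Iff.rfl

theorem InA_add (r : ℕ) {f g : PowerSeries k} (hf : InA r f) (hg : InA r g) : InA r (f + g) := by
  rw [InA_def] at hf hg ⊢
  have e : f + g - rhoHom k (f + g) = (f - rhoHom k f) + (g - rhoHom k g) := by
    rw [map_add]; ring
  rw [e]; exact dvd_add hf hg

theorem InA_of_dvd (r : ℕ) {f : PowerSeries k} (h : X ^ (r + 1) ∣ f) : InA r f := by
  rw [InA_def]
  exact dvd_sub h (dvd_map_of_dvd (rhoHom k) h)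

theorem InA_of (r : ℕ) (a b : PowerSeries k) :
    InA r (EE k a + X ^ (r + 1) * EE k b) := by
  refine InA_add r ?_ (InA_of_dvd r (Dvd.intro _ rfl))
  rw [InA_def, rho_EE, sub_self]
  exact dvd_zero _

theorem exists_of_InA (h2 : (2:k) ≠ 0) (r : ℕ) (hodd : Odd (r + 1)) {f : PowerSeries k}
    (hf : InA r f) : ∃ a b : PowerSeries k, f = EE k a + X ^ (r + 1) * EE k b := by
  obtain ⟨g, hg⟩ := (InA_def r f).mp hf
  have h2R : ∀ c : k, c + c = 0 → c = 0 := by
    intro c hc
    have h3 : (2:k) * c = 0 := by rw [two_mul]; exact hc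
    exact (mul_eq_zero.mp h3).resolve_left h2
  have hgρ : rhoHom k g = g := by
    have h1 : rhoHom k f - f = rhoHom k (X ^ (r + 1)) * rhoHom k g := by
      rw [← map_mul, ← hg, map_sub, rho_rho]
    rw [rho_X_pow_odd r hodd] at h1
    have h3 : X ^ (r + 1) * rhoHom k g = X ^ (r + 1) * g := by linear_combination h1 + hg
    exact mul_left_cancel₀ (pow_ne_zero _ X_ne_zero) h3
  obtain ⟨b', hb', -⟩ := exists_expand h2R g ((rhoHom_apply k g).symm.trans hgρ)
  have hsum : rhoHom k (f + rhoHom k f) = f + rhoHom k f := by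
    rw [map_add, rho_rho, add_comm]
  obtain ⟨a', ha', -⟩ := exists_expand h2R (f + rhoHom k f) ((rhoHom_apply k _).symm.trans hsum)
  refine ⟨C (2⁻¹ : k) * a', C (2⁻¹ : k) * b', ?_⟩
  have ha'' : EE k a' = f + rhoHom k f := ha'
  have hb'' : EE k b' = g := hb'
  rw [map_mul, map_mul, EE_C, ha'', hb'']
  linear_combination (-f) * hC2K h2 + C (2⁻¹ : k) * hg

theorem InA_map (h2 : (2:k) ≠ 0) (r : ℕ) (hodd : Odd (r + 1))
    (Θ : PowerSeries k →ₐ[k] PowerSeries k)
    (hΘ : X ^ (r + 1) ∣ (Θ X) ^ 2 - (rhoHom k (Θ X)) ^ 2) {f : PowerSeries k} (hf : InA r f) :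
    InA r (Θ f) := by
  obtain ⟨a, b, rfl⟩ := exists_of_InA h2 r hodd hf
  rw [map_add, map_mul, map_pow]
  refine InA_add r ?_ (InA_of_dvd r
    (Dvd.dvd.mul_right (pow_dvd_pow_of_dvd (X_dvd_iff.mpr (cc_algHom_X Θ)) _) _))
  rw [InA_def]
  have hX : X ^ (r + 1) ∣ (Θ.comp (EE k)) X - (((rhoHom k).comp Θ).comp (EE k)) X := by
    show X ^ (r + 1) ∣ Θ (EE k X) - rhoHom k (Θ (EE k X))
    rw [EE_X, map_pow, map_pow]
    exact hΘ
  exact dvd_sub_of_dvd_sub (Θ.comp (EE k)) (((rhoHom k).comp Θ).comp (EE k)) (r + 1) hX a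

theorem dvd_add_rho_of_sq (h2 : (2:k) ≠ 0) (r : ℕ) (τ : PowerSeries k)
    (h1 : coeff 1 τ ≠ 0) (h : X ^ (r + 1) ∣ τ ^ 2 - (rhoHom k τ) ^ 2) :
    X ^ r ∣ τ + rhoHom k τ := by
  obtain ⟨w, hw⟩ : ∃ w, τ - rhoHom k τ = X * w :=
    X_dvd_iff.mpr (by rw [map_sub, cc_rho, sub_self])
  have hwu : IsUnit w := by
    rw [isUnit_iff_constantCoeff]
    have e1 : coeff 1 (τ - rhoHom k τ) = constantCoeff w := by
      rw [hw, ← coeff_zero_eq_constantCoeff_apply]
      exact coeff_succ_X_mul 0 w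
    have e2 : coeff 1 (τ - rhoHom k τ) = 2 * coeff 1 τ := by
      rw [map_sub, rhoHom_apply, coeff_rescale, pow_one]; ring
    rw [← e1, e2]
    exact IsUnit.mk0 _ (mul_ne_zero h2 h1)
  have h3 : X ^ (r + 1) ∣ X * (w * (τ + rhoHom k τ)) := by
    have e : X * (w * (τ + rhoHom k τ)) = τ ^ 2 - (rhoHom k τ) ^ 2 := by
      linear_combination (-(τ + rhoHom k τ)) * hw
    rw [e]; exact h
  rw [pow_succ', mul_dvd_mul_iff_left X_ne_zero] at h3
  exact hwu.dvd_mul_left.mp h3

theorem sq_of_par (r : ℕ) (τ : PowerSeries k) (h : X ^ r ∣ τ + rhoHom k τ) :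
    X ^ (r + 1) ∣ τ ^ 2 - (rhoHom k τ) ^ 2 := by
  have hX : X ∣ τ - rhoHom k τ := X_dvd_iff.mpr (by rw [map_sub, cc_rho, sub_self])
  have e : τ ^ 2 - (rhoHom k τ) ^ 2 = (τ - rhoHom k τ) * (τ + rhoHom k τ) := by ring
  rw [e, pow_succ']
  exact mul_dvd_mul hX h

theorem K_main (h2 : (2:k) ≠ 0) (r : ℕ) (hodd : Odd (r + 1))
    (T : PowerSeries k →ₐ[k] PowerSeries k)
    (hTT : T (T X) = X) (hne : T X ≠ X) (hA : InA r ((T X) ^ 2)) :
    ∃ Φ : PowerSeries k ≃ₐ[k] PowerSeries k, (∀ f, T (Φ f) = Φ (rhoHom k f)) ∧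
      (∀ f, InA r f → InA r (Φ f)) ∧ (∀ f, InA r f → InA r (Φ.symm f)) := by
  have hTTf : ∀ f, T (T f) = f := by
    have h := algHom_ext_X (T.comp T) (AlgHom.id k _) (show T (T X) = X from hTT)
    intro f
    exact DFunLike.congr_fun h f
  obtain ⟨σK, hσK⟩ : ∃ σK : PowerSeries k ≃ₐ[k] PowerSeries k, ∀ f, σK f = T f :=
    ⟨AlgEquiv.ofAlgHom T T (AlgHom.ext hTTf) (AlgHom.ext hTTf), fun _ => rfl⟩
  obtain ⟨hc2, Φ, hΦX, hΦ⟩ := Groth.Agent.S14080.result k h2 σK
    (fun f => by rw [hσK, hσK]; exact hTTf f)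
  simp only [hσK] at hc2 hΦX hΦ
  have hA' : X ^ (r + 1) ∣ (T X) ^ 2 - (rhoHom k (T X)) ^ 2 := by
    have h := (InA_def r _).mp hA
    rwa [map_pow] at h
  have hc2' : coeff 1 (T X) * coeff 1 (T X) = 1 := by rw [← sq]; exact hc2
  rcases mul_self_eq_one_iff.mp hc2' with hc | hc
  · exfalso
    apply hne
    have h5 := hΦ (Φ.symm X)
    rw [hc, AlgEquiv.apply_symm_apply, rescale_one, RingHom.id_apply] at h5
    exact Φ.symm.injective h5
  · have hΦT : ∀ f, T (Φ f) = Φ (rhoHom k f) := by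
      intro f
      have h5 := hΦ f
      rw [hc, AlgEquiv.symm_apply_eq] at h5
      exact h5
    have hu : Φ X = C (2⁻¹ : k) * (X - T X) := by
      rw [hΦX, hc, map_neg, map_one]; ring
    have h1ne : coeff 1 (T X) ≠ 0 := by rw [hc]; exact neg_ne_zero.mpr one_ne_zero
    have hτr : X ^ r ∣ T X + rhoHom k (T X) := dvd_add_rho_of_sq h2 r (T X) h1ne hA'
    have hur : X ^ r ∣ Φ X + rhoHom k (Φ X) := by
      have e : Φ X + rhoHom k (Φ X) = -(C (2⁻¹ : k)) * (T X + rhoHom k (T X)) := by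
        rw [hu, map_mul, map_sub, rho_C, rho_X]; ring
      rw [e]; exact Dvd.dvd.mul_left hτr _
    refine ⟨Φ, hΦT, ?_, ?_⟩
    · intro f hf
      exact InA_map h2 r hodd Φ.toAlgHom (sq_of_par r (Φ X) hur) hf
    · intro f hf
      obtain ⟨Θ₁, hΘ₁⟩ : ∃ Θ₁ : PowerSeries k →ₐ[k] PowerSeries k,
          ∀ g, Θ₁ g = rhoHom k (Φ.symm (rhoHom k (Φ g))) :=
        ⟨(((rhoHom k).comp Φ.symm.toAlgHom).comp (rhoHom k)).comp Φ.toAlgHom, fun _ => rfl⟩
      have hd : X ^ r ∣ Θ₁ X - (AlgHom.id k (PowerSeries k)) X := by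
        have e : Θ₁ X - (AlgHom.id k (PowerSeries k)) X =
            rhoHom k (Φ.symm (Φ X + rhoHom k (Φ X))) := by
          rw [hΘ₁, AlgHom.id_apply]
          simp only [map_add, AlgEquiv.symm_apply_apply, rho_X]
          ring
        rw [e]
        exact dvd_map_of_dvd (rhoHom k) (dvd_map_of_dvd Φ.symm.toAlgHom hur)
      have h4 := dvd_sub_of_dvd_sub Θ₁ (AlgHom.id k _) r hd (Φ.symm X)
      have e5 : Θ₁ (Φ.symm X) - (AlgHom.id k (PowerSeries k)) (Φ.symm X) =
          -(Φ.symm X + rhoHom k (Φ.symm X)) := by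
        rw [hΘ₁, AlgHom.id_apply]
        simp only [AlgEquiv.apply_symm_apply, rho_X, map_neg]
        ring
      rw [e5] at h4
      have hvr : X ^ r ∣ Φ.symm X + rhoHom k (Φ.symm X) := dvd_neg.mp h4
      exact InA_map h2 r hodd Φ.symm.toAlgHom (sq_of_par r (Φ.symm X) hvr) hf

end KLevel

section ALevel
variable (k : Type u) [Field k] (r : ℕ)

noncomputable def nuA : Fin 2 → PowerSeries k := ![X ^ 2, X ^ (r + 1)]

theorem nuA_zero : nuA k r 0 = X ^ 2 := rfl
theorem nuA_one : nuA k r 1 = X ^ (r + 1) := rfl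

theorem nuA_hasSubst : MvPowerSeries.HasSubst (nuA k r) := by
  refine MvPowerSeries.hasSubst_of_constantCoeff_zero (fun s => ?_)
  rcases fin2_cases zero_ne_one' s with rfl | rfl
  · show constantCoeff (nuA k r 0) = 0
    rw [nuA_zero, map_pow, constantCoeff_X, zero_pow two_ne_zero]
  · show constantCoeff (nuA k r 1) = 0
    rw [nuA_one, map_pow, constantCoeff_X, zero_pow (Nat.succ_ne_zero r)]

noncomputable def nu0 : MvPowerSeries (Fin 2) k →ₐ[k] PowerSeries k :=
  MvPowerSeries.substAlgHom (nuA_hasSubst k r)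

theorem nu0_X (s : Fin 2) : nu0 k r (MvPowerSeries.X s) = nuA k r s :=
  MvPowerSeries.substAlgHom_X (nuA_hasSubst k r) s

theorem nu0_eqn : nu0 k r (ArSing.eqn k r) = 0 := by
  rw [ArSing.eqn, map_sub, map_pow, map_pow, nu0_X, nu0_X, nuA_one, nuA_zero]
  ring

noncomputable def nu : ArSing.ring k r →ₐ[k] PowerSeries k :=
  Ideal.Quotient.liftₐ (Ideal.span {ArSing.eqn k r}) (nu0 k r) (fun a ha => by
    obtain ⟨c, rfl⟩ := Ideal.mem_span_singleton'.mp ha
    rw [map_mul, nu0_eqn, mul_zero])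

theorem nu_mk (F : MvPowerSeries (Fin 2) k) :
    nu k r (Ideal.Quotient.mk (Ideal.span {ArSing.eqn k r}) F) = nu0 k r F := rfl

theorem nu_x : nu k r (ArSing.x k r) = X ^ 2 := by
  show nu k r (Ideal.Quotient.mk (Ideal.span {ArSing.eqn k r}) (MvPowerSeries.X 0)) = X ^ 2
  rw [nu_mk, nu0_X, nuA_zero]

theorem nu_y : nu k r (ArSing.y k r) = X ^ (r + 1) := by
  show nu k r (Ideal.Quotient.mk (Ideal.span {ArSing.eqn k r}) (MvPowerSeries.X 1)) = X ^ (r + 1)
  rw [nu_mk, nu0_X, nuA_one]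

theorem y_sq : ArSing.y k r ^ 2 = ArSing.x k r ^ (r + 1) := by
  show (Ideal.Quotient.mk (Ideal.span {ArSing.eqn k r}) (MvPowerSeries.X 1)) ^ 2 =
    (Ideal.Quotient.mk (Ideal.span {ArSing.eqn k r}) (MvPowerSeries.X 0)) ^ (r + 1)
  rw [← map_pow, ← map_pow, Ideal.Quotient.eq]
  exact Ideal.mem_span_singleton_self _

theorem algebraMap_eq_mk (c : k) : algebraMap k (ArSing.ring k r) c =
    Ideal.Quotient.mk (Ideal.span {ArSing.eqn k r}) (MvPowerSeries.C c) := by
  rw [Groth.Agent.S14096.C_eq k c] <;> rfl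

theorem xMap_X : ArSing.xMap k r X = ArSing.x k r := by
  unfold ArSing.xMap
  rw [AlgHom.comp_apply, PowerSeries.substAlgHom_X] <;> rfl

theorem xMap_C (c : k) : ArSing.xMap k r (C c) = algebraMap k (ArSing.ring k r) c := by
  rw [C_eq_algebraMap, AlgHom.commutes]

theorem nu_xMap (a : PowerSeries k) : nu k r (ArSing.xMap k r a) = EE k a := by
  have h := algHom_ext_X ((nu k r).comp (ArSing.xMap k r)) (EE k)
    (show nu k r (ArSing.xMap k r X) = EE k X by rw [xMap_X, nu_x, EE_X])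
  exact DFunLike.congr_fun h a

theorem x_not_unit : ¬ IsUnit (ArSing.x k r) := by
  intro hu
  have h := hu.map (nu k r)
  rw [nu_x, isUnit_iff_constantCoeff, map_pow, constantCoeff_X, zero_pow two_ne_zero] at h
  exact not_isUnit_zero h

theorem ringA_nontrivial : Nontrivial (ArSing.ring k r) :=
  (nu k r).toRingHom.domain_nontrivial

theorem ringA_local : IsLocalRing (ArSing.ring k r) := by
  haveI := ringA_nontrivial k r
  exact IsLocalRing.of_surjective' (Ideal.Quotient.mk (Ideal.span {ArSing.eqn k r}))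
    Ideal.Quotient.mk_surjective

theorem decomp1 (F : MvPowerSeries (Fin 2) k) :
    ∃ G H : MvPowerSeries (Fin 2) k,
      F = MvPowerSeries.C (MvPowerSeries.constantCoeff F) + MvPowerSeries.X 0 * G
        + MvPowerSeries.X 1 * H := by
  obtain ⟨D, hDdef⟩ : ∃ D : MvPowerSeries (Fin 2) k,
      D = F - MvPowerSeries.C (MvPowerSeries.constantCoeff F) := ⟨_, rfl⟩
  have hD0 : MvPowerSeries.coeff 0 D = 0 := by
    rw [hDdef, map_sub, MvPowerSeries.coeff_zero_C,
      MvPowerSeries.coeff_zero_eq_constantCoeff_apply, sub_self]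
  obtain ⟨G₁, hG₁⟩ : ∃ G₁ : MvPowerSeries (Fin 2) k, ∀ m : Fin 2 →₀ ℕ,
      MvPowerSeries.coeff m G₁ = if 0 < m 0 then MvPowerSeries.coeff m D else 0 :=
    ⟨fun m => if 0 < m 0 then MvPowerSeries.coeff m D else 0, fun m => rfl⟩
  have hG1 : (MvPowerSeries.X 0 : MvPowerSeries (Fin 2) k) ^ 1 ∣ G₁ := by
    rw [MvPowerSeries.X_pow_dvd_iff]
    intro m hm
    rw [hG₁, if_neg (by omega)]
  have hG2 : (MvPowerSeries.X 1 : MvPowerSeries (Fin 2) k) ^ 1 ∣ D - G₁ := by
    rw [MvPowerSeries.X_pow_dvd_iff]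
    intro m hm
    rw [map_sub, hG₁]
    split_ifs with h0
    · rw [sub_self]
    · rw [sub_zero]
      have hm0 : m = 0 := by
        ext i
        rcases fin2_cases zero_ne_one' i with rfl | rfl
        · show m 0 = 0
          omega
        · show m 1 = 0
          omega
      rw [hm0]; exact hD0
  rw [pow_one] at hG1 hG2
  obtain ⟨G, hG⟩ := hG1
  obtain ⟨H, hH⟩ := hG2
  refine ⟨G, H, ?_⟩
  rw [← hG, ← hH, hDdef]
  ring

theorem step (α : ArSing.ring k r) : ∃ (c c' : k) (β : ArSing.ring k r),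
    α = algebraMap k (ArSing.ring k r) c + algebraMap k (ArSing.ring k r) c' * ArSing.y k r
      + ArSing.x k r * β := by
  obtain ⟨F, rfl⟩ := Ideal.Quotient.mk_surjective α
  obtain ⟨G, H, hF⟩ := decomp1 k F
  obtain ⟨G', H', hH⟩ := decomp1 k H
  refine ⟨MvPowerSeries.constantCoeff F, MvPowerSeries.constantCoeff H,
    Ideal.Quotient.mk _ G + ArSing.y k r * Ideal.Quotient.mk _ G'
      + ArSing.x k r ^ r * Ideal.Quotient.mk _ H', ?_⟩
  have hF' : F = MvPowerSeries.C (MvPowerSeries.constantCoeff F) + MvPowerSeries.X 0 * G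
      + MvPowerSeries.X 1 * (MvPowerSeries.C (MvPowerSeries.constantCoeff H)
        + MvPowerSeries.X 0 * G' + MvPowerSeries.X 1 * H') := by
    rw [← hH]; exact hF
  have e1 : (Ideal.Quotient.mk (Ideal.span {ArSing.eqn k r}) F) =
      Ideal.Quotient.mk _ (MvPowerSeries.C (MvPowerSeries.constantCoeff F))
        + ArSing.x k r * Ideal.Quotient.mk _ G
        + ArSing.y k r * (Ideal.Quotient.mk _ (MvPowerSeries.C (MvPowerSeries.constantCoeff H))
          + ArSing.x k r * Ideal.Quotient.mk _ G' + ArSing.y k r * Ideal.Quotient.mk _ H') := by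
    conv_lhs => rw [hF']
    simp only [map_add, map_mul]
  rw [e1, algebraMap_eq_mk, algebraMap_eq_mk]
  linear_combination (Ideal.Quotient.mk _ H') * y_sq k r

noncomputable def cA (α : ArSing.ring k r) : k := (step k r α).choose
noncomputable def cB (α : ArSing.ring k r) : k := (step k r α).choose_spec.choose
noncomputable def nxt (α : ArSing.ring k r) : ArSing.ring k r :=
  (step k r α).choose_spec.choose_spec.choose

theorem step_spec (α : ArSing.ring k r) :
    α = algebraMap k (ArSing.ring k r) (cA k r α)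
      + algebraMap k (ArSing.ring k r) (cB k r α) * ArSing.y k r
      + ArSing.x k r * nxt k r α :=
  (step k r α).choose_spec.choose_spec.choose_spec

noncomputable def sa (α : ArSing.ring k r) : PowerSeries k :=
  PowerSeries.mk fun n => cA k r ((nxt k r)^[n] α)
noncomputable def sb (α : ArSing.ring k r) : PowerSeries k :=
  PowerSeries.mk fun n => cB k r ((nxt k r)^[n] α)

theorem sa_eq (α : ArSing.ring k r) :
    sa k r α = C (cA k r α) + X * sa k r (nxt k r α) := by
  ext n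
  cases n with
  | zero =>
    rw [map_add, coeff_zero_C, coeff_zero_X_mul, add_zero, sa, coeff_mk, Function.iterate_zero,
      id_eq]
  | succ n =>
    rw [map_add, coeff_succ_X_mul, coeff_C, if_neg (Nat.succ_ne_zero n), zero_add, sa, sa,
      coeff_mk, coeff_mk, Function.iterate_succ_apply]

theorem sb_eq (α : ArSing.ring k r) :
    sb k r α = C (cB k r α) + X * sb k r (nxt k r α) := by
  ext n
  cases n with
  | zero =>
    rw [map_add, coeff_zero_C, coeff_zero_X_mul, add_zero, sb, coeff_mk, Function.iterate_zero,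
      id_eq]
  | succ n =>
    rw [map_add, coeff_succ_X_mul, coeff_C, if_neg (Nat.succ_ne_zero n), zero_add, sb, sb,
      coeff_mk, coeff_mk, Function.iterate_succ_apply]

theorem xMap_sa (α : ArSing.ring k r) : ArSing.xMap k r (sa k r α) =
    algebraMap k (ArSing.ring k r) (cA k r α)
      + ArSing.x k r * ArSing.xMap k r (sa k r (nxt k r α)) := by
  conv_lhs => rw [sa_eq k r α]
  rw [map_add, map_mul, xMap_C, xMap_X]

theorem xMap_sb (α : ArSing.ring k r) : ArSing.xMap k r (sb k r α) =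
    algebraMap k (ArSing.ring k r) (cB k r α)
      + ArSing.x k r * ArSing.xMap k r (sb k r (nxt k r α)) := by
  conv_lhs => rw [sb_eq k r α]
  rw [map_add, map_mul, xMap_C, xMap_X]

theorem nf_dvd (n : ℕ) : ∀ α : ArSing.ring k r, ∃ β : ArSing.ring k r,
    α - (ArSing.xMap k r (sa k r α) + ArSing.xMap k r (sb k r α) * ArSing.y k r)
      = ArSing.x k r ^ n * β := by
  induction n with
  | zero =>
    intro α
    refine ⟨α - (ArSing.xMap k r (sa k r α) + ArSing.xMap k r (sb k r α) * ArSing.y k r), ?_⟩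
    rw [pow_zero, one_mul]
  | succ n ih =>
    intro α
    obtain ⟨β, hβ⟩ := ih (nxt k r α)
    refine ⟨β, ?_⟩
    rw [xMap_sa k r α, xMap_sb k r α, pow_succ']
    linear_combination (step_spec k r α) + ArSing.x k r * hβ

theorem nf (α : ArSing.ring k r) : ∃ a b : PowerSeries k,
    α = ArSing.xMap k r a + ArSing.xMap k r b * ArSing.y k r := by
  refine ⟨sa k r α, sb k r α, ?_⟩
  haveI := ringA_local k r
  have hI : Ideal.span {ArSing.x k r} ≠ (⊤ : Ideal (ArSing.ring k r)) := by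
    rw [Ne, Ideal.span_singleton_eq_top]; exact x_not_unit k r
  have hK := Ideal.iInf_pow_eq_bot_of_isLocalRing _ hI
  have hmem : α - (ArSing.xMap k r (sa k r α) + ArSing.xMap k r (sb k r α) * ArSing.y k r) ∈
      (⨅ i : ℕ, Ideal.span {ArSing.x k r} ^ i) := by
    rw [Ideal.mem_iInf]
    intro n
    rw [Ideal.span_singleton_pow, Ideal.mem_span_singleton]
    obtain ⟨β, hβ⟩ := nf_dvd k r n α
    exact ⟨β, hβ⟩
  rw [hK, Ideal.mem_bot, sub_eq_zero] at hmem
  exact hmem

theorem nu_injective (h2 : (2:k) ≠ 0) (hodd : Odd (r + 1)) : Function.Injective (nu k r) := by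
  rw [injective_iff_map_eq_zero]
  intro α hα
  obtain ⟨a, b, rfl⟩ := nf k r α
  rw [map_add, map_mul, nu_xMap, nu_xMap, nu_y] at hα
  have hρ := congrArg (rhoHom k) hα
  rw [map_add, map_mul, rho_EE, rho_EE, rho_X_pow_odd r hodd, map_zero] at hρ
  have ha : EE k a = 0 := by
    linear_combination (C (2⁻¹ : k)) * hα + (C (2⁻¹ : k)) * hρ - (EE k a) * hC2K h2
  have hb : EE k b * X ^ (r + 1) = 0 := by linear_combination hα - ha
  have hb' : EE k b = 0 := by
    rcases mul_eq_zero.mp hb with h | h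
    · exact h
    · exact absurd h (pow_ne_zero _ X_ne_zero)
  have ha0 : a = 0 := expand_inj a 0 (by rw [map_zero]; exact ha)
  have hb0 : b = 0 := expand_inj b 0 (by rw [map_zero]; exact hb')
  rw [ha0, hb0, map_zero, zero_mul, add_zero]

theorem nu_mem (α : ArSing.ring k r) : InA r (nu k r α) := by
  obtain ⟨a, b, rfl⟩ := nf k r α
  rw [map_add, map_mul, nu_xMap, nu_xMap, nu_y, mul_comm (EE k b)]
  exact InA_of r a b

theorem exists_nu_eq (h2 : (2:k) ≠ 0) (hodd : Odd (r + 1)) {f : PowerSeries k} (hf : InA r f) :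
    ∃ α : ArSing.ring k r, nu k r α = f := by
  obtain ⟨a, b, rfl⟩ := exists_of_InA h2 r hodd hf
  exact ⟨ArSing.xMap k r a + ArSing.y k r * ArSing.xMap k r b, by
    rw [map_add, map_mul, nu_xMap, nu_xMap, nu_y]⟩

end ALevel



/-- Over an algebraically closed field k of characteristic prime to 2 and to r+1, with r even, every
non-trivial k-algebra involution σ of A_r = k[[x,y]]/(y^2 - x^(r+1)) is conjugate, by a k-algebra
automorphism φ of A_r, to the involution x ↦ x, y ↦ -y (that is, φ⁻¹σφ fixes the class of x and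
negates the class of y). -/
theorem result (k : Type u) [Field k] [IsAlgClosed k] (r : ℕ)
    (h2 : (2 : k) ≠ 0) (hr : ((r + 1 : ℕ) : k) ≠ 0) (hev : Even r)
    (σ : ArSing.ring k r ≃ₐ[k] ArSing.ring k r) (hσ : ∀ a, σ (σ a) = a) (hne : σ ≠ AlgEquiv.refl) :
    ∃ φ : ArSing.ring k r ≃ₐ[k] ArSing.ring k r,
      φ.symm (σ (φ (ArSing.x k r))) = ArSing.x k r ∧
      φ.symm (σ (φ (ArSing.y k r))) = -ArSing.y k r := by
  obtain ⟨s, rfl⟩ := hev
  have hodd : Odd (s + s + 1) := ⟨s, by omega⟩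
  have hinj := nu_injective k (s + s) h2 hodd
  obtain ⟨ξ, hξ⟩ : ∃ ξ, nu k (s + s) (σ (ArSing.x k (s + s))) = ξ := ⟨_, rfl⟩
  obtain ⟨η, hη⟩ : ∃ η, nu k (s + s) (σ (ArSing.y k (s + s))) = η := ⟨_, rfl⟩
  have hrel : η ^ 2 = ξ ^ (s + s + 1) := by
    have h := congrArg (fun a => nu k (s + s) (σ a)) (y_sq k (s + s))
    simp only [map_pow] at h
    rw [hξ, hη] at h
    exact h
  have hξ0 : constantCoeff ξ = 0 := by
    have h : constantCoeff (nu k (s + s) (σ (ArSing.xMap k (s + s) X))) = 0 :=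
      cc_algHom_X ((nu k (s + s)).comp
        ((σ : ArSing.ring k (s + s) →ₐ[k] ArSing.ring k (s + s)).comp (ArSing.xMap k (s + s))))
    rw [xMap_X, hξ] at h
    exact h
  have hξne : ξ ≠ 0 := by
    intro h
    have h1 : σ (ArSing.x k (s + s)) = 0 := hinj (by rw [hξ, h, map_zero])
    have h3 := congrArg (nu k (s + s)) ((map_eq_zero_iff σ σ.injective).mp h1)
    rw [nu_x, map_zero] at h3
    exact pow_ne_zero 2 X_ne_zero h3
  have hηne : η ≠ 0 := by
    intro h
    have h1 : σ (ArSing.y k (s + s)) = 0 := hinj (by rw [hη, h, map_zero])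
    have h3 := congrArg (nu k (s + s)) ((map_eq_zero_iff σ σ.injective).mp h1)
    rw [nu_y, map_zero] at h3
    exact pow_ne_zero _ X_ne_zero h3
  obtain ⟨τ, hτ⟩ : ∃ τ, ξ ^ (s + 1) = η * τ := by
    rcases ValuationRing.dvd_total η (ξ ^ (s + 1)) with h | h
    · exact h
    · exfalso
      obtain ⟨c, hc⟩ := h
      have h3 : ξ ^ (s + s + 1) * (ξ * c ^ 2) = ξ ^ (s + s + 1) * 1 := by
        linear_combination (-(η + ξ ^ (s + 1) * c)) * hc + hrel
      have h4 := mul_left_cancel₀ (pow_ne_zero _ hξne) h3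
      have h5 := congrArg constantCoeff h4
      rw [map_mul, hξ0, zero_mul, map_one] at h5
      exact zero_ne_one h5
  have hτ2 : τ ^ 2 = ξ := by
    have h3 : η ^ 2 * τ ^ 2 = η ^ 2 * ξ := by
      linear_combination (-(ξ ^ (s + 1) + η * τ)) * hτ - ξ * hrel
    exact mul_left_cancel₀ (pow_ne_zero 2 hηne) h3
  have hτN : τ ^ (s + s + 1) = η := by
    have e : τ ^ (s + s + 1) = τ * ξ ^ s := by rw [← hτ2]; ring
    have h4 : η * (τ * ξ ^ s) = η * η := by
      linear_combination (-(ξ ^ s)) * hτ - hrel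
    rw [e]
    exact mul_left_cancel₀ hηne h4
  have hτ0 : constantCoeff τ = 0 := by
    have h := congrArg constantCoeff hτ2
    rw [map_pow, hξ0] at h
    exact (pow_eq_zero_iff two_ne_zero).mp h
  obtain ⟨T, hTX⟩ : ∃ T : PowerSeries k →ₐ[k] PowerSeries k, T X = τ :=
    ⟨PowerSeries.substAlgHom (HasSubst.of_constantCoeff_zero' hτ0), PowerSeries.substAlgHom_X _⟩
  have hkey : ∀ a, nu k (s + s) (σ (ArSing.xMap k (s + s) a)) = T (EE k a) := by
    have h := algHom_ext_X ((nu k (s + s)).comp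
        ((σ : ArSing.ring k (s + s) →ₐ[k] ArSing.ring k (s + s)).comp (ArSing.xMap k (s + s))))
      (T.comp (EE k))
      (show nu k (s + s) (σ (ArSing.xMap k (s + s) X)) = T (EE k X) by
        rw [xMap_X, hξ, EE_X, map_pow, hTX, hτ2])
    intro a
    exact DFunLike.congr_fun h a
  have hνσ : ∀ α, nu k (s + s) (σ α) = T (nu k (s + s) α) := by
    intro α
    obtain ⟨a, b, rfl⟩ := nf k (s + s) α
    simp only [map_add, map_mul, map_pow, nu_xMap, nu_y, hkey, hTX, hτN, hη]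
  have hθ2 : (T τ) ^ 2 = X ^ 2 := by
    rw [← map_pow, hτ2, ← hξ, ← hνσ, hσ, nu_x]
  have hθN : (T τ) ^ (s + s + 1) = X ^ (s + s + 1) := by
    rw [← map_pow, hτN, ← hη, ← hνσ, hσ, nu_y]
  have hθ : T τ = X := by
    have e1 : (T τ) ^ (s + s + 1) = T τ * ((T τ) ^ 2) ^ s := by ring
    rw [e1, hθ2] at hθN
    have e2 : (X : PowerSeries k) ^ (s + s + 1) = X * (X ^ 2) ^ s := by ring
    rw [e2] at hθN
    exact mul_right_cancel₀ (pow_ne_zero _ (pow_ne_zero _ X_ne_zero)) hθN
  have hTT : T (T X) = X := by rw [hTX]; exact hθ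
  have hne' : T X ≠ X := by
    intro h
    apply hne
    have hT : T = AlgHom.id k _ := algHom_ext_X T (AlgHom.id k _) (show T X = X from h)
    ext α
    have h3 : nu k (s + s) (σ α) = nu k (s + s) α := by rw [hνσ, hT, AlgHom.id_apply]
    exact hinj h3
  have hA : InA (s + s) ((T X) ^ 2) := by
    rw [hTX, hτ2, ← hξ]
    exact nu_mem k (s + s) _
  obtain ⟨Φ, hΦT, hΦA, hΦA'⟩ := K_main h2 (s + s) hodd T hTT hne' hA
  have hex : ∀ α, ∃ β, nu k (s + s) β = Φ (nu k (s + s) α) := fun α =>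
    exists_nu_eq k (s + s) h2 hodd (hΦA _ (nu_mem k (s + s) α))
  have hex' : ∀ α, ∃ β, nu k (s + s) β = Φ.symm (nu k (s + s) α) := fun α =>
    exists_nu_eq k (s + s) h2 hodd (hΦA' _ (nu_mem k (s + s) α))
  choose φf hφf using hex
  choose ψf hψf using hex'
  obtain ⟨φ₀, hφ₀⟩ : ∃ φ₀ : ArSing.ring k (s + s) →ₐ[k] ArSing.ring k (s + s),
      ∀ α, nu k (s + s) (φ₀ α) = Φ (nu k (s + s) α) :=
    ⟨{ toFun := φf
       map_one' := by
        show φf 1 = 1
        exact hinj (by simp only [hφf, map_one])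
       map_mul' := fun a b => by
        show φf (a * b) = φf a * φf b
        exact hinj (by simp only [hφf, map_mul])
       map_zero' := by
        show φf 0 = 0
        exact hinj (by simp only [hφf, map_zero])
       map_add' := fun a b => by
        show φf (a + b) = φf a + φf b
        exact hinj (by simp only [hφf, map_add])
       commutes' := fun c => by
        show φf (algebraMap k _ c) = algebraMap k _ c
        exact hinj (by simp only [hφf, AlgHom.commutes, AlgEquiv.commutes]) },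
     fun α => hφf α⟩
  obtain ⟨ψ₀, hψ₀⟩ : ∃ ψ₀ : ArSing.ring k (s + s) →ₐ[k] ArSing.ring k (s + s),
      ∀ α, nu k (s + s) (ψ₀ α) = Φ.symm (nu k (s + s) α) :=
    ⟨{ toFun := ψf
       map_one' := by
        show ψf 1 = 1
        exact hinj (by simp only [hψf, map_one])
       map_mul' := fun a b => by
        show ψf (a * b) = ψf a * ψf b
        exact hinj (by simp only [hψf, map_mul])
       map_zero' := by
        show ψf 0 = 0
        exact hinj (by simp only [hψf, map_zero])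
       map_add' := fun a b => by
        show ψf (a + b) = ψf a + ψf b
        exact hinj (by simp only [hψf, map_add])
       commutes' := fun c => by
        show ψf (algebraMap k _ c) = algebraMap k _ c
        exact hinj (by simp only [hψf, AlgHom.commutes, AlgEquiv.commutes]) },
     fun α => hψf α⟩
  obtain ⟨φ, hφ⟩ : ∃ φ : ArSing.ring k (s + s) ≃ₐ[k] ArSing.ring k (s + s),
      ∀ α, nu k (s + s) (φ α) = Φ (nu k (s + s) α) :=
    ⟨AlgEquiv.ofAlgHom φ₀ ψ₀
      (AlgHom.ext fun α => hinj (by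
        simp only [AlgHom.comp_apply, AlgHom.id_apply, hφ₀, hψ₀, AlgEquiv.apply_symm_apply]))
      (AlgHom.ext fun α => hinj (by
        simp only [AlgHom.comp_apply, AlgHom.id_apply, hφ₀, hψ₀, AlgEquiv.symm_apply_apply])),
     fun α => hφ₀ α⟩
  refine ⟨φ, ?_, ?_⟩
  · rw [AlgEquiv.symm_apply_eq]
    apply hinj
    rw [hνσ, hφ, hΦT, nu_x, rho_X_sq]
  · rw [AlgEquiv.symm_apply_eq, map_neg]
    apply hinj
    rw [map_neg, hνσ, hφ, hΦT, nu_y, rho_X_pow_odd (s + s) hodd, map_neg]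

end Groth.Agent.S14081
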