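import Groth.Statements.S14082
import Mathlib
import Groth.Agent.S14081
-- import your own Groth.Agent.* helpers here

set_option autoImplicit false
universe u
open ArSing

namespace Groth.Agent.S14082


open PowerSeries
open Groth.Agent.S14083 (rhoHom rhoHom_apply rho_rho cc_X)
open Groth.Agent.S14096 (resc_C)
open Groth.Agent.H76.NodeAlg (fin2_cases zero_ne_one')
open Groth.Agent.S14081 (hC2K rho_X rho_C cc_rho rho_X_pow_odd cc_algHom_X dvd_sub_of_dvd_sub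
  algHom_ext_X dvd_map_of_dvd nf xMap_X xMap_C y_sq)

section KLevel
variable {k : Type u} [Field k]

theorem algHom_C (Θ : PowerSeries k →ₐ[k] PowerSeries k) (c : k) : Θ (C c) = C c := by
  rw [C_eq_algebraMap, AlgHom.commutes]

theorem algEquiv_C (Φ : PowerSeries k ≃ₐ[k] PowerSeries k) (c : k) : Φ (C c) = C c := by
  rw [C_eq_algebraMap, AlgEquiv.commutes]

theorem rho_X_pow_even (n : ℕ) (h : Even n) :
    rhoHom k ((X : PowerSeries k) ^ n) = X ^ n := by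
  rw [map_pow, rho_X, h.neg_pow]

noncomputable def rescHom (c : k) : PowerSeries k →ₐ[k] PowerSeries k :=
  { toRingHom := PowerSeries.rescale c
    commutes' := fun a => by
      show PowerSeries.rescale c (algebraMap k (PowerSeries k) a) = algebraMap k (PowerSeries k) a
      rw [← PowerSeries.C_eq_algebraMap]
      exact resc_C _ _ }

theorem rescHom_apply (c : k) (f : PowerSeries k) : rescHom c f = rescale c f := rfl

theorem rescHom_invol (c : k) (hcc : c * c = 1) (f : PowerSeries k) :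
    rescHom c (rescHom c f) = f := by
  rw [rescHom_apply, rescHom_apply, rescale_rescale, hcc, rescale_one, RingHom.id_apply]

theorem exists_aut (w : PowerSeries k) (hw0 : constantCoeff w = 0) (hwU : IsUnit (coeff 1 w)) :
    ∃ Φ : PowerSeries k ≃ₐ[k] PowerSeries k, Φ X = w := by
  have hw : HasSubst w := HasSubst.of_constantCoeff_zero' hw0
  obtain ⟨v, hvdef⟩ : ∃ v, v = w.substInvOfIsUnit hwU := ⟨_, rfl⟩
  have hv : HasSubst v := by rw [hvdef]; exact HasSubst.substInvOfIsUnit w hwU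
  have hvw : (subst w v : PowerSeries k) = X := by
    rw [hvdef]; exact subst_substInvOfIsUnit_left w hw0 hwU
  have hwv : (subst v w : PowerSeries k) = X := by
    rw [hvdef]; exact subst_substInvOfIsUnit_right w hw0 hwU
  let Φ : PowerSeries k →ₐ[k] PowerSeries k := substAlgHom hw
  let Ψ : PowerSeries k →ₐ[k] PowerSeries k := substAlgHom hv
  have hΦ : ∀ g : PowerSeries k, Φ g = subst w g := fun g => congrFun (coe_substAlgHom hw) g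
  have hΨ : ∀ g : PowerSeries k, Ψ g = subst v g := fun g => congrFun (coe_substAlgHom hv) g
  have h12 : Φ.comp Ψ = AlgHom.id k (PowerSeries k) := by
    refine AlgHom.ext (fun f => ?_)
    show Φ (Ψ f) = f
    rw [hΦ, hΨ, subst_comp_subst_apply hv hw, hvw, X_subst]
  have h21 : Ψ.comp Φ = AlgHom.id k (PowerSeries k) := by
    refine AlgHom.ext (fun f => ?_)
    show Ψ (Φ f) = f
    rw [hΦ, hΨ, subst_comp_subst_apply hw hv, hwv, X_subst]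
  refine ⟨AlgEquiv.ofAlgHom Φ Ψ h12 h21, ?_⟩
  show Φ X = w
  rw [hΦ, subst_X hw]

theorem invol (h2 : (2:k) ≠ 0) (S : PowerSeries k →ₐ[k] PowerSeries k)
    (hSS : ∀ f, S (S f) = f) :
    (coeff 1 (S X)) ^ 2 = 1 ∧ ∃ Φ : PowerSeries k ≃ₐ[k] PowerSeries k,
      Φ X = C (2⁻¹ : k) * (X + C (coeff 1 (S X)) * S X) ∧
      ∀ f, S (Φ f) = Φ (rescale (coeff 1 (S X)) f) := by
  obtain ⟨E, hE⟩ : ∃ E : PowerSeries k ≃ₐ[k] PowerSeries k, ∀ f, E f = S f :=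
    ⟨AlgEquiv.ofAlgHom S S (AlgHom.ext hSS) (AlgHom.ext hSS), fun _ => rfl⟩
  obtain ⟨hc2, Φ, hΦX, hΦ⟩ := Groth.Agent.S14080.result k h2 E
    (fun f => by rw [hE, hE]; exact hSS f)
  simp only [hE] at hc2 hΦX hΦ
  refine ⟨hc2, Φ, hΦX, fun f => ?_⟩
  have h5 := hΦ f
  rw [AlgEquiv.symm_apply_eq] at h5
  exact h5

end KLevel

section Lift
variable (k : Type u) [Field k]

theorem exists_lift (r : ℕ) (p q : PowerSeries k) (hp : constantCoeff p = 0)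
    (hq : constantCoeff q = 0) (h : q ^ 2 = p ^ (r + 1)) :
    ∃ ν : ArSing.ring k r →ₐ[k] PowerSeries k,
      ν (ArSing.x k r) = p ∧ ν (ArSing.y k r) = q := by
  have hs : MvPowerSeries.HasSubst (![p, q] : Fin 2 → PowerSeries k) := by
    refine MvPowerSeries.hasSubst_of_constantCoeff_zero (fun s => ?_)
    rcases fin2_cases zero_ne_one' s with rfl | rfl
    · exact hp
    · exact hq
  obtain ⟨L, hL⟩ : ∃ L : MvPowerSeries (Fin 2) k →ₐ[k] PowerSeries k,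
      ∀ s : Fin 2, L (MvPowerSeries.X s) = (![p, q] : Fin 2 → PowerSeries k) s :=
    ⟨MvPowerSeries.substAlgHom hs, fun s => MvPowerSeries.substAlgHom_X hs s⟩
  have hL0 : L (MvPowerSeries.X 0) = p := hL 0
  have hL1 : L (MvPowerSeries.X 1) = q := hL 1
  have h0 : L (ArSing.eqn k r) = 0 := by
    rw [ArSing.eqn, map_sub, map_pow, map_pow, hL0, hL1, h, sub_self]
  refine ⟨Ideal.Quotient.liftₐ (Ideal.span {ArSing.eqn k r}) L (fun a ha => ?_), ?_, ?_⟩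
  · obtain ⟨c, rfl⟩ := Ideal.mem_span_singleton'.mp ha
    rw [map_mul, h0, mul_zero]
  · exact hL0
  · exact hL1

theorem nu_xMap' {r : ℕ} (ν : ArSing.ring k r →ₐ[k] PowerSeries k)
    (hx : ν (ArSing.x k r) = X) (a : PowerSeries k) : ν (ArSing.xMap k r a) = a := by
  have h := algHom_ext_X (ν.comp (ArSing.xMap k r)) (AlgHom.id k _)
    (show ν (ArSing.xMap k r X) = X by rw [xMap_X, hx])
  exact DFunLike.congr_fun h a

theorem branch (s : ℕ) (ν : ArSing.ring k (2 * s + 1) →ₐ[k] PowerSeries k)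
    (σ : ArSing.ring k (2 * s + 1) ≃ₐ[k] ArSing.ring k (2 * s + 1)) :
    ∃ S : PowerSeries k →ₐ[k] PowerSeries k,
      S X = ν (σ (ArSing.x k (2 * s + 1))) ∧
      (ν (σ (ArSing.y k (2 * s + 1))) = (ν (σ (ArSing.x k (2 * s + 1)))) ^ (s + 1) ∨
        ν (σ (ArSing.y k (2 * s + 1))) = -(ν (σ (ArSing.x k (2 * s + 1)))) ^ (s + 1)) ∧
      ∀ a b, ν (σ (ArSing.xMap k (2 * s + 1) a
          + ArSing.xMap k (2 * s + 1) b * ArSing.y k (2 * s + 1))) =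
        S a + S b * ν (σ (ArSing.y k (2 * s + 1))) := by
  refine ⟨(ν.comp σ.toAlgHom).comp (ArSing.xMap k (2 * s + 1)), ?_, ?_, ?_⟩
  · show ν (σ (ArSing.xMap k (2 * s + 1) X)) = ν (σ (ArSing.x k (2 * s + 1)))
    rw [xMap_X]
  · have h := congrArg (fun a => ν (σ a)) (y_sq k (2 * s + 1))
    simp only [map_pow] at h
    have h' : (ν (σ (ArSing.y k (2 * s + 1))) - (ν (σ (ArSing.x k (2 * s + 1)))) ^ (s + 1)) *
        (ν (σ (ArSing.y k (2 * s + 1))) + (ν (σ (ArSing.x k (2 * s + 1)))) ^ (s + 1)) = 0 := by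
      linear_combination h
    rcases mul_eq_zero.mp h' with h3 | h3
    · left; exact sub_eq_zero.mp h3
    · right; exact eq_neg_of_add_eq_zero_left h3
  · intro a b
    show ν (σ (ArSing.xMap k (2 * s + 1) a
          + ArSing.xMap k (2 * s + 1) b * ArSing.y k (2 * s + 1))) =
        ν (σ (ArSing.xMap k (2 * s + 1) a)) + ν (σ (ArSing.xMap k (2 * s + 1) b))
          * ν (σ (ArSing.y k (2 * s + 1)))
    simp only [map_add, map_mul]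

end Lift

section Pair
variable {k : Type u} [Field k] {s : ℕ}
  (ν₁ ν₂ : ArSing.ring k (2 * s + 1) →ₐ[k] PowerSeries k)
  (h1x : ν₁ (ArSing.x k (2 * s + 1)) = X) (h1y : ν₁ (ArSing.y k (2 * s + 1)) = X ^ (s + 1))
  (h2x : ν₂ (ArSing.x k (2 * s + 1)) = X) (h2y : ν₂ (ArSing.y k (2 * s + 1)) = -X ^ (s + 1))

include h1x h1y h2x h2y

theorem nu1_nf (a b : PowerSeries k) :
    ν₁ (ArSing.xMap k (2 * s + 1) a + ArSing.xMap k (2 * s + 1) b * ArSing.y k (2 * s + 1)) =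
      a + b * X ^ (s + 1) := by
  rw [map_add, map_mul, nu_xMap' k ν₁ h1x, nu_xMap' k ν₁ h1x, h1y]

theorem nu2_nf (a b : PowerSeries k) :
    ν₂ (ArSing.xMap k (2 * s + 1) a + ArSing.xMap k (2 * s + 1) b * ArSing.y k (2 * s + 1)) =
      a - b * X ^ (s + 1) := by
  rw [map_add, map_mul, nu_xMap' k ν₂ h2x, nu_xMap' k ν₂ h2x, h2y]
  ring

theorem joint_inj (h2 : (2:k) ≠ 0) {α β : ArSing.ring k (2 * s + 1)}
    (e1 : ν₁ α = ν₁ β) (e2 : ν₂ α = ν₂ β) : α = β := by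
  obtain ⟨a, b, hab⟩ := nf k (2 * s + 1) (α - β)
  have e1' : ν₁ (α - β) = 0 := by rw [map_sub, e1, sub_self]
  have e2' : ν₂ (α - β) = 0 := by rw [map_sub, e2, sub_self]
  rw [hab, nu1_nf ν₁ ν₂ h1x h1y h2x h2y] at e1'
  rw [hab, nu2_nf ν₁ ν₂ h1x h1y h2x h2y] at e2'
  have ha : a = 0 := by
    linear_combination (C (2⁻¹ : k)) * e1' + (C (2⁻¹ : k)) * e2' - a * hC2K h2
  have hb : b * X ^ (s + 1) = 0 := by linear_combination e1' - ha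
  have hb' : b = 0 := (mul_eq_zero.mp hb).resolve_right (pow_ne_zero _ X_ne_zero)
  have h0 : α - β = 0 := by rw [hab, ha, hb', map_zero, zero_mul, add_zero]
  exact sub_eq_zero.mp h0

theorem exists_pair (h2 : (2:k) ≠ 0) (f g : PowerSeries k) (hfg : X ^ (s + 1) ∣ f - g) :
    ∃ α : ArSing.ring k (2 * s + 1), ν₁ α = f ∧ ν₂ α = g := by
  obtain ⟨d, hd⟩ := hfg
  refine ⟨ArSing.xMap k (2 * s + 1) (C (2⁻¹ : k) * (f + g))
    + ArSing.xMap k (2 * s + 1) (C (2⁻¹ : k) * d) * ArSing.y k (2 * s + 1), ?_, ?_⟩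
  · rw [nu1_nf ν₁ ν₂ h1x h1y h2x h2y]
    linear_combination f * hC2K h2 - C (2⁻¹ : k) * hd
  · rw [nu2_nf ν₁ ν₂ h1x h1y h2x h2y]
    linear_combination g * hC2K h2 + C (2⁻¹ : k) * hd

theorem dvd_pair (α : ArSing.ring k (2 * s + 1)) : X ^ (s + 1) ∣ ν₁ α - ν₂ α := by
  obtain ⟨a, b, rfl⟩ := nf k (2 * s + 1) α
  rw [nu1_nf ν₁ ν₂ h1x h1y h2x h2y, nu2_nf ν₁ ν₂ h1x h1y h2x h2y]
  exact ⟨2 * b, by ring⟩

theorem buildHom (h2 : (2:k) ≠ 0) (Θ₁ Θ₂ : PowerSeries k →ₐ[k] PowerSeries k)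
    (hΘ : X ^ (s + 1) ∣ Θ₁ X - Θ₂ X) :
    ∃ θ : ArSing.ring k (2 * s + 1) →ₐ[k] ArSing.ring k (2 * s + 1),
      ∀ α, ν₁ (θ α) = Θ₁ (ν₁ α) ∧ ν₂ (θ α) = Θ₂ (ν₂ α) := by
  have hex : ∀ α : ArSing.ring k (2 * s + 1), ∃ β : ArSing.ring k (2 * s + 1),
      ν₁ β = Θ₁ (ν₁ α) ∧ ν₂ β = Θ₂ (ν₂ α) := by
    intro α
    apply exists_pair ν₁ ν₂ h1x h1y h2x h2y h2
    have e : Θ₁ (ν₁ α) - Θ₂ (ν₂ α) = (Θ₁ (ν₁ α) - Θ₂ (ν₁ α)) + Θ₂ (ν₁ α - ν₂ α) := by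
      rw [map_sub]; ring
    rw [e]
    exact dvd_add (dvd_sub_of_dvd_sub Θ₁ Θ₂ (s + 1) hΘ _)
      (dvd_map_of_dvd Θ₂ (dvd_pair ν₁ ν₂ h1x h1y h2x h2y α))
  choose θf hθf using hex
  have h1f : ∀ α, ν₁ (θf α) = Θ₁ (ν₁ α) := fun α => (hθf α).1
  have h2f : ∀ α, ν₂ (θf α) = Θ₂ (ν₂ α) := fun α => (hθf α).2
  have hj : ∀ {α β : ArSing.ring k (2 * s + 1)}, ν₁ α = ν₁ β → ν₂ α = ν₂ β → α = β :=
    fun e1 e2 => joint_inj ν₁ ν₂ h1x h1y h2x h2y h2 e1 e2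
  refine ⟨{ toFun := θf, map_one' := ?_, map_mul' := ?_, map_zero' := ?_, map_add' := ?_,
            commutes' := ?_ }, fun α => hθf α⟩
  · show θf 1 = 1
    exact hj (by simp only [h1f, map_one]) (by simp only [h2f, map_one])
  · intro a b
    show θf (a * b) = θf a * θf b
    exact hj (by simp only [h1f, map_mul]) (by simp only [h2f, map_mul])
  · show θf 0 = 0
    exact hj (by simp only [h1f, map_zero]) (by simp only [h2f, map_zero])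
  · intro a b
    show θf (a + b) = θf a + θf b
    exact hj (by simp only [h1f, map_add]) (by simp only [h2f, map_add])
  · intro c
    show θf (algebraMap k _ c) = algebraMap k _ c
    exact hj (by simp only [h1f, AlgHom.commutes]) (by simp only [h2f, AlgHom.commutes])

theorem buildAut (h2 : (2:k) ≠ 0) (Φ₁ Φ₂ : PowerSeries k ≃ₐ[k] PowerSeries k)
    (hΦ : X ^ (s + 1) ∣ Φ₁ X - Φ₂ X) :
    ∃ φ : ArSing.ring k (2 * s + 1) ≃ₐ[k] ArSing.ring k (2 * s + 1),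
      ∀ α, ν₁ (φ α) = Φ₁ (ν₁ α) ∧ ν₂ (φ α) = Φ₂ (ν₂ α) := by
  have hΦ' : X ^ (s + 1) ∣ Φ₁.symm X - Φ₂.symm X := by
    have h1 : X ^ (s + 1) ∣ Φ₁.toAlgHom (Φ₂.symm X) - Φ₂.toAlgHom (Φ₂.symm X) :=
      dvd_sub_of_dvd_sub Φ₁.toAlgHom Φ₂.toAlgHom (s + 1) hΦ _
    have h2' := dvd_map_of_dvd Φ₁.symm.toAlgHom h1
    have e : Φ₁.symm.toAlgHom (Φ₁.toAlgHom (Φ₂.symm X) - Φ₂.toAlgHom (Φ₂.symm X)) =
        -(Φ₁.symm X - Φ₂.symm X) := by
      show Φ₁.symm (Φ₁ (Φ₂.symm X) - Φ₂ (Φ₂.symm X)) = _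
      rw [map_sub, AlgEquiv.symm_apply_apply, AlgEquiv.apply_symm_apply]
      ring
    rw [e] at h2'
    exact dvd_neg.mp h2'
  obtain ⟨φ₀, hφ₀⟩ := buildHom ν₁ ν₂ h1x h1y h2x h2y h2 Φ₁.toAlgHom Φ₂.toAlgHom hΦ
  obtain ⟨ψ₀, hψ₀⟩ := buildHom ν₁ ν₂ h1x h1y h2x h2y h2 Φ₁.symm.toAlgHom Φ₂.symm.toAlgHom hΦ'
  have hφ1 : ∀ α, ν₁ (φ₀ α) = Φ₁ (ν₁ α) := fun α => (hφ₀ α).1
  have hφ2 : ∀ α, ν₂ (φ₀ α) = Φ₂ (ν₂ α) := fun α => (hφ₀ α).2
  have hψ1 : ∀ α, ν₁ (ψ₀ α) = Φ₁.symm (ν₁ α) := fun α => (hψ₀ α).1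
  have hψ2 : ∀ α, ν₂ (ψ₀ α) = Φ₂.symm (ν₂ α) := fun α => (hψ₀ α).2
  have hj : ∀ {α β : ArSing.ring k (2 * s + 1)}, ν₁ α = ν₁ β → ν₂ α = ν₂ β → α = β :=
    fun e1 e2 => joint_inj ν₁ ν₂ h1x h1y h2x h2y h2 e1 e2
  refine ⟨AlgEquiv.ofAlgHom φ₀ ψ₀
    (AlgHom.ext fun α => hj
      (by simp only [AlgHom.comp_apply, AlgHom.id_apply, hφ1, hψ1, AlgEquiv.apply_symm_apply])
      (by simp only [AlgHom.comp_apply, AlgHom.id_apply, hφ2, hψ2, AlgEquiv.apply_symm_apply]))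
    (AlgHom.ext fun α => hj
      (by simp only [AlgHom.comp_apply, AlgHom.id_apply, hφ1, hψ1, AlgEquiv.symm_apply_apply])
      (by simp only [AlgHom.comp_apply, AlgHom.id_apply, hφ2, hψ2, AlgEquiv.symm_apply_apply])),
    fun α => hφ₀ α⟩

theorem preserve_case (h2 : (2:k) ≠ 0) (hs1 : 1 < s + 1)
    (σ : ArSing.ring k (2 * s + 1) ≃ₐ[k] ArSing.ring k (2 * s + 1))
    (hσ : ∀ a, σ (σ a) = a) (hne : σ ≠ AlgEquiv.refl)
    (S₁ S₂ : PowerSeries k →ₐ[k] PowerSeries k)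
    (hP1 : ∀ α, ν₁ (σ α) = S₁ (ν₁ α)) (hP2 : ∀ α, ν₂ (σ α) = S₂ (ν₂ α)) :
    ∃ φ : ArSing.ring k (2 * s + 1) ≃ₐ[k] ArSing.ring k (2 * s + 1),
      (φ.symm (σ (φ (ArSing.x k (2 * s + 1)))) = ArSing.x k (2 * s + 1) ∧
        φ.symm (σ (φ (ArSing.y k (2 * s + 1)))) = -ArSing.y k (2 * s + 1)) ∨
      (φ.symm (σ (φ (ArSing.x k (2 * s + 1)))) = -ArSing.x k (2 * s + 1) ∧
        φ.symm (σ (φ (ArSing.y k (2 * s + 1)))) = ArSing.y k (2 * s + 1)) ∨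
      (φ.symm (σ (φ (ArSing.x k (2 * s + 1)))) = -ArSing.x k (2 * s + 1) ∧
        φ.symm (σ (φ (ArSing.y k (2 * s + 1)))) = -ArSing.y k (2 * s + 1)) := by
  have hj : ∀ {α β : ArSing.ring k (2 * s + 1)}, ν₁ α = ν₁ β → ν₂ α = ν₂ β → α = β :=
    fun e1 e2 => joint_inj ν₁ ν₂ h1x h1y h2x h2y h2 e1 e2
  have hS₁X : S₁ X = ν₁ (σ (ArSing.x k (2 * s + 1))) := by rw [hP1, h1x]
  have hS₂X : S₂ X = ν₂ (σ (ArSing.x k (2 * s + 1))) := by rw [hP2, h2x]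
  have hSS1 : ∀ f, S₁ (S₁ f) = f := by
    intro f
    have h := hP1 (σ (ArSing.xMap k (2 * s + 1) f))
    rw [hσ, hP1, nu_xMap' k ν₁ h1x] at h
    exact h.symm
  have hSS2 : ∀ f, S₂ (S₂ f) = f := by
    intro f
    have h := hP2 (σ (ArSing.xMap k (2 * s + 1) f))
    rw [hσ, hP2, nu_xMap' k ν₂ h2x] at h
    exact h.symm
  obtain ⟨hc1sq, Φ₁, hΦ₁X, hΦ₁⟩ := invol h2 S₁ hSS1
  obtain ⟨-, Φ₂, hΦ₂X, hΦ₂⟩ := invol h2 S₂ hSS2
  have hd12 : X ^ (s + 1) ∣ S₁ X - S₂ X := by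
    rw [hS₁X, hS₂X]; exact dvd_pair ν₁ ν₂ h1x h1y h2x h2y _
  have hcc : coeff 1 (S₁ X) = coeff 1 (S₂ X) := by
    have h := (X_pow_dvd_iff.mp hd12) 1 hs1
    rw [map_sub, sub_eq_zero] at h
    exact h
  obtain ⟨c, hc₁⟩ : ∃ c, coeff 1 (S₁ X) = c := ⟨_, rfl⟩
  have hc₂ : coeff 1 (S₂ X) = c := by rw [← hcc]; exact hc₁
  rw [hc₁] at hc1sq hΦ₁X hΦ₁
  rw [hc₂] at hΦ₂X hΦ₂
  have hcc' : c * c = 1 := by rw [← sq]; exact hc1sq
  rcases mul_self_eq_one_iff.mp hcc' with hc | hc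
  · exfalso
    apply hne
    have hS1id : ∀ g, S₁ g = g := by
      intro g
      have h5 := hΦ₁ (Φ₁.symm g)
      rw [hc, AlgEquiv.apply_symm_apply, rescale_one, RingHom.id_apply,
        AlgEquiv.apply_symm_apply] at h5
      exact h5
    have hS2id : ∀ g, S₂ g = g := by
      intro g
      have h5 := hΦ₂ (Φ₂.symm g)
      rw [hc, AlgEquiv.apply_symm_apply, rescale_one, RingHom.id_apply,
        AlgEquiv.apply_symm_apply] at h5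
      exact h5
    ext α
    have e : σ α = α := hj (by rw [hP1, hS1id]) (by rw [hP2, hS2id])
    exact e
  · rw [hc] at hΦ₁X hΦ₁ hΦ₂X hΦ₂
    have hSΦ1 : ∀ f, S₁ (Φ₁ f) = Φ₁ (rhoHom k f) := fun f => hΦ₁ f
    have hSΦ2 : ∀ f, S₂ (Φ₂ f) = Φ₂ (rhoHom k f) := fun f => hΦ₂ f
    have hdvd : X ^ (s + 1) ∣ Φ₁ X - Φ₂ X := by
      have e : Φ₁ X - Φ₂ X = C (2⁻¹ : k) * C (-1) * (S₁ X - S₂ X) := by
        rw [hΦ₁X, hΦ₂X]; ring
      rw [e]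
      exact Dvd.dvd.mul_left hd12 _
    obtain ⟨φ, hφ⟩ := buildAut ν₁ ν₂ h1x h1y h2x h2y h2 Φ₁ Φ₂ hdvd
    have hφ1 : ∀ α, ν₁ (φ α) = Φ₁ (ν₁ α) := fun α => (hφ α).1
    have hφ2 : ∀ α, ν₂ (φ α) = Φ₂ (ν₂ α) := fun α => (hφ α).2
    have hX : φ.symm (σ (φ (ArSing.x k (2 * s + 1)))) = -ArSing.x k (2 * s + 1) := by
      rw [AlgEquiv.symm_apply_eq, map_neg]
      exact hj (by rw [map_neg, hP1, hφ1, hSΦ1, h1x, rho_X, map_neg])
        (by rw [map_neg, hP2, hφ2, hSΦ2, h2x, rho_X, map_neg])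
    rcases Nat.even_or_odd (s + 1) with hev | hod
    · refine ⟨φ, Or.inr (Or.inl ⟨hX, ?_⟩)⟩
      rw [AlgEquiv.symm_apply_eq]
      exact hj (by rw [hP1, hφ1, hSΦ1, h1y, rho_X_pow_even _ hev])
        (by rw [hP2, hφ2, hSΦ2, h2y]; simp only [map_neg, rho_X_pow_even _ hev])
    · refine ⟨φ, Or.inr (Or.inr ⟨hX, ?_⟩)⟩
      rw [AlgEquiv.symm_apply_eq, map_neg]
      exact hj (by rw [map_neg, hP1, hφ1, hSΦ1, h1y, rho_X_pow_odd s hod, map_neg])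
        (by rw [map_neg, hP2, hφ2, hSΦ2, h2y]; simp only [map_neg, rho_X_pow_odd s hod])

theorem swap_case (h2 : (2:k) ≠ 0) (hs1 : 1 < s + 1)
    (σ : ArSing.ring k (2 * s + 1) ≃ₐ[k] ArSing.ring k (2 * s + 1))
    (hσ : ∀ a, σ (σ a) = a)
    (S₁ S₂ : PowerSeries k →ₐ[k] PowerSeries k)
    (hW1 : ∀ α, ν₁ (σ α) = S₁ (ν₂ α)) (hW2 : ∀ α, ν₂ (σ α) = S₂ (ν₁ α)) :
    ∃ φ : ArSing.ring k (2 * s + 1) ≃ₐ[k] ArSing.ring k (2 * s + 1),
      (φ.symm (σ (φ (ArSing.x k (2 * s + 1)))) = ArSing.x k (2 * s + 1) ∧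
        φ.symm (σ (φ (ArSing.y k (2 * s + 1)))) = -ArSing.y k (2 * s + 1)) ∨
      (φ.symm (σ (φ (ArSing.x k (2 * s + 1)))) = -ArSing.x k (2 * s + 1) ∧
        φ.symm (σ (φ (ArSing.y k (2 * s + 1)))) = ArSing.y k (2 * s + 1)) ∨
      (φ.symm (σ (φ (ArSing.x k (2 * s + 1)))) = -ArSing.x k (2 * s + 1) ∧
        φ.symm (σ (φ (ArSing.y k (2 * s + 1)))) = -ArSing.y k (2 * s + 1)) := by
  have hj : ∀ {α β : ArSing.ring k (2 * s + 1)}, ν₁ α = ν₁ β → ν₂ α = ν₂ β → α = β :=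
    fun e1 e2 => joint_inj ν₁ ν₂ h1x h1y h2x h2y h2 e1 e2
  have hS₁X : S₁ X = ν₁ (σ (ArSing.x k (2 * s + 1))) := by rw [hW1, h2x]
  have hS₂X : S₂ X = ν₂ (σ (ArSing.x k (2 * s + 1))) := by rw [hW2, h1x]
  have hS12 : ∀ f, S₁ (S₂ f) = f := by
    intro f
    have h := hW1 (σ (ArSing.xMap k (2 * s + 1) f))
    rw [hσ, hW2, nu_xMap' k ν₁ h1x] at h
    exact h.symm
  have hS21 : ∀ f, S₂ (S₁ f) = f := by
    intro f
    have h := hW2 (σ (ArSing.xMap k (2 * s + 1) f))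
    rw [hσ, hW1, nu_xMap' k ν₂ h2x] at h
    exact h.symm
  obtain ⟨E, hE⟩ : ∃ E : PowerSeries k ≃ₐ[k] PowerSeries k, ∀ f, E f = S₁ f :=
    ⟨AlgEquiv.ofAlgHom S₁ S₂ (AlgHom.ext hS12) (AlgHom.ext hS21), fun _ => rfl⟩
  have hd12 : X ^ (s + 1) ∣ S₁ X - S₂ X := by
    rw [hS₁X, hS₂X]; exact dvd_pair ν₁ ν₂ h1x h1y h2x h2y _
  have hd11 : X ^ (s + 1) ∣ S₁ (S₁ X) - X := by
    have h := dvd_map_of_dvd S₁ hd12
    rwa [map_sub, hS12] at h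
  obtain ⟨c, hc⟩ : ∃ c, coeff 1 (S₁ X) = c := ⟨_, rfl⟩
  have hcc : c * c = 1 := by
    have h := Groth.Agent.S14080.coeff_one_algEquiv E (cc_X E) (E X)
    simp only [hE] at h
    have h' := (X_pow_dvd_iff.mp hd11) 1 hs1
    rw [map_sub, coeff_one_X, sub_eq_zero] at h'
    rw [hc] at h
    rw [← h, h']
  have hCC : (C c : PowerSeries k) * C c = 1 := by rw [← map_mul, hcc, map_one]
  obtain ⟨u, hudef⟩ : ∃ u, u = C (2⁻¹ : k) * (X + C c * S₁ X) := ⟨_, rfl⟩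
  have hu0 : constantCoeff u = 0 := by rw [hudef]; simp [cc_algHom_X S₁]
  have hu1 : coeff 1 u = 1 := by
    rw [hudef, coeff_C_mul, map_add, coeff_one_X, coeff_C_mul, hc, hcc, one_add_one_eq_two,
      inv_mul_cancel₀ h2]
  obtain ⟨Φ₂, hΦ₂X⟩ := exists_aut u hu0 (by rw [hu1]; exact isUnit_one)
  obtain ⟨R, hR⟩ : ∃ R : PowerSeries k ≃ₐ[k] PowerSeries k, ∀ f, R f = rescale c f :=
    ⟨AlgEquiv.ofAlgHom (rescHom c) (rescHom c) (AlgHom.ext (rescHom_invol c hcc))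
      (AlgHom.ext (rescHom_invol c hcc)), fun _ => rfl⟩
  obtain ⟨Φ₁, hΦ₁⟩ : ∃ Φ₁ : PowerSeries k ≃ₐ[k] PowerSeries k,
      ∀ f, Φ₁ f = S₁ (Φ₂ (rescale c f)) :=
    ⟨(R.trans Φ₂).trans E, fun f => by
      rw [AlgEquiv.trans_apply, AlgEquiv.trans_apply, hE, hR]⟩
  have hSΦ2 : ∀ f, S₁ (Φ₂ f) = Φ₁ (rescale c f) := by
    intro f
    rw [hΦ₁, rescale_rescale, hcc, rescale_one, RingHom.id_apply]
  have hSΦ1 : ∀ f, S₂ (Φ₁ f) = Φ₂ (rescale c f) := by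
    intro f
    rw [hΦ₁, hS21]
  have hΦ₁X : Φ₁ X = C c * S₁ u := by
    rw [hΦ₁, rescale_X, map_mul, map_mul, algEquiv_C, algHom_C, hΦ₂X]
  have hdvd : X ^ (s + 1) ∣ Φ₁ X - Φ₂ X := by
    have e : Φ₁ X - Φ₂ X = C (2⁻¹ : k) * (S₁ (S₁ X) - X) := by
      rw [hΦ₁X, hΦ₂X, hudef]
      simp only [map_mul, map_add, algHom_C]
      linear_combination (C (2⁻¹ : k) * S₁ (S₁ X)) * hCC
    rw [e]
    exact Dvd.dvd.mul_left hd11 _
  obtain ⟨φ, hφ⟩ := buildAut ν₁ ν₂ h1x h1y h2x h2y h2 Φ₁ Φ₂ hdvd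
  have hφ1 : ∀ α, ν₁ (φ α) = Φ₁ (ν₁ α) := fun α => (hφ α).1
  have hφ2 : ∀ α, ν₂ (φ α) = Φ₂ (ν₂ α) := fun α => (hφ α).2
  have Fx1 : ν₁ (σ (φ (ArSing.x k (2 * s + 1)))) = C c * ν₁ (φ (ArSing.x k (2 * s + 1))) := by
    rw [hW1, hφ2, hSΦ2, h2x, rescale_X, map_mul, algEquiv_C, hφ1, h1x]
  have Fx2 : ν₂ (σ (φ (ArSing.x k (2 * s + 1)))) = C c * ν₂ (φ (ArSing.x k (2 * s + 1))) := by
    rw [hW2, hφ1, hSΦ1, h1x, rescale_X, map_mul, algEquiv_C, hφ2, h2x]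
  have Fy1 : ν₁ (σ (φ (ArSing.y k (2 * s + 1)))) =
      -(C c ^ (s + 1) * ν₁ (φ (ArSing.y k (2 * s + 1)))) := by
    rw [hW1, hφ2, hSΦ2, h2y, hφ1, h1y]
    simp only [map_neg, map_mul, map_pow, rescale_X, algEquiv_C]
    ring
  have Fy2 : ν₂ (σ (φ (ArSing.y k (2 * s + 1)))) =
      -(C c ^ (s + 1) * ν₂ (φ (ArSing.y k (2 * s + 1)))) := by
    rw [hW2, hφ1, hSΦ1, h1y, hφ2, h2y]
    simp only [map_neg, map_mul, map_pow, rescale_X, algEquiv_C]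
    ring
  rcases mul_self_eq_one_iff.mp hcc with hc1 | hc1
  · have hC1 : (C c : PowerSeries k) = 1 := by rw [hc1, map_one]
    refine ⟨φ, Or.inl ⟨?_, ?_⟩⟩
    · rw [AlgEquiv.symm_apply_eq]
      exact hj (by rw [Fx1, hC1, one_mul]) (by rw [Fx2, hC1, one_mul])
    · rw [AlgEquiv.symm_apply_eq, map_neg]
      exact hj (by rw [map_neg, Fy1, hC1, one_pow, one_mul])
        (by rw [map_neg, Fy2, hC1, one_pow, one_mul])
  · have hC1 : (C c : PowerSeries k) = -1 := by rw [hc1, map_neg, map_one]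
    have hX : φ.symm (σ (φ (ArSing.x k (2 * s + 1)))) = -ArSing.x k (2 * s + 1) := by
      rw [AlgEquiv.symm_apply_eq, map_neg]
      exact hj (by rw [map_neg, Fx1, hC1, neg_one_mul]) (by rw [map_neg, Fx2, hC1, neg_one_mul])
    rcases Nat.even_or_odd (s + 1) with hev | hod
    · refine ⟨φ, Or.inr (Or.inr ⟨hX, ?_⟩)⟩
      rw [AlgEquiv.symm_apply_eq, map_neg]
      exact hj (by rw [map_neg, Fy1, hC1, hev.neg_one_pow, one_mul])
        (by rw [map_neg, Fy2, hC1, hev.neg_one_pow, one_mul])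
    · refine ⟨φ, Or.inr (Or.inl ⟨hX, ?_⟩)⟩
      rw [AlgEquiv.symm_apply_eq]
      exact hj (by rw [Fy1, hC1, hod.neg_one_pow, neg_one_mul, neg_neg])
        (by rw [Fy2, hC1, hod.neg_one_pow, neg_one_mul, neg_neg])

end Pair



/-- Over an algebraically closed field k of characteristic prime to 2 and to r+1, with r odd and r ≥ 3,
every non-trivial k-algebra involution σ of A_r = k[[x,y]]/(y^2 - x^(r+1)) is conjugate, by a
k-algebra automorphism φ of A_r, to one of the three involutions (x, y) ↦ (x, -y), (x, y) ↦ (-x, y),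
(x, y) ↦ (-x, -y). -/
theorem result (k : Type u) [Field k] [IsAlgClosed k] (r : ℕ)
    (h2 : (2 : k) ≠ 0) (hr : ((r + 1 : ℕ) : k) ≠ 0) (hodd : Odd r) (h3 : 3 ≤ r)
    (σ : ArSing.ring k r ≃ₐ[k] ArSing.ring k r) (hσ : ∀ a, σ (σ a) = a) (hne : σ ≠ AlgEquiv.refl) :
    ∃ φ : ArSing.ring k r ≃ₐ[k] ArSing.ring k r,
      (φ.symm (σ (φ (ArSing.x k r))) = ArSing.x k r ∧ φ.symm (σ (φ (ArSing.y k r))) = -ArSing.y k r) ∨
      (φ.symm (σ (φ (ArSing.x k r))) = -ArSing.x k r ∧ φ.symm (σ (φ (ArSing.y k r))) = ArSing.y k r) ∨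
      (φ.symm (σ (φ (ArSing.x k r))) = -ArSing.x k r ∧ φ.symm (σ (φ (ArSing.y k r))) = -ArSing.y k r) := by
  obtain ⟨s, rfl⟩ := hodd
  have hs1 : 1 < s + 1 := by omega
  obtain ⟨ν₁, h1x, h1y⟩ := exists_lift k (2 * s + 1) X (X ^ (s + 1)) constantCoeff_X
    (by rw [map_pow, constantCoeff_X, zero_pow (Nat.succ_ne_zero s)]) (by ring)
  obtain ⟨ν₂, h2x, h2y⟩ := exists_lift k (2 * s + 1) X (-X ^ (s + 1)) constantCoeff_X
    (by rw [map_neg, map_pow, constantCoeff_X, zero_pow (Nat.succ_ne_zero s), neg_zero])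
    (by ring)
  have hj : ∀ {α β : ArSing.ring k (2 * s + 1)}, ν₁ α = ν₁ β → ν₂ α = ν₂ β → α = β :=
    fun e1 e2 => joint_inj ν₁ ν₂ h1x h1y h2x h2y h2 e1 e2
  have hν1 := nu1_nf ν₁ ν₂ h1x h1y h2x h2y
  have hν2 := nu2_nf ν₁ ν₂ h1x h1y h2x h2y
  obtain ⟨S₁, hS₁X, hη₁, hσ1⟩ := branch k s ν₁ σ
  obtain ⟨S₂, hS₂X, hη₂, hσ2⟩ := branch k s ν₂ σ
  rcases hη₁ with e₁ | e₁ <;> rcases hη₂ with e₂ | e₂
  · exfalso
    have e : σ (ArSing.y k (2 * s + 1)) = σ (ArSing.x k (2 * s + 1) ^ (s + 1)) :=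
      hj (by simp only [map_pow]; exact e₁) (by simp only [map_pow]; exact e₂)
    have e' := congrArg ν₂ (σ.injective e)
    rw [h2y, map_pow, h2x] at e'
    have e'' : (X : PowerSeries k) ^ (s + 1) = 0 := by
      linear_combination (-(C (2⁻¹ : k))) * e' - X ^ (s + 1) * hC2K h2
    exact pow_ne_zero _ X_ne_zero e''
  · apply preserve_case ν₁ ν₂ h1x h1y h2x h2y h2 hs1 σ hσ hne S₁ S₂
    · intro α
      obtain ⟨a, b, rfl⟩ := nf k (2 * s + 1) α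
      rw [hσ1 a b, hν1 a b, e₁, map_add, map_mul, map_pow, hS₁X]
    · intro α
      obtain ⟨a, b, rfl⟩ := nf k (2 * s + 1) α
      rw [hσ2 a b, hν2 a b, e₂, map_sub, map_mul, map_pow, hS₂X]
      ring
  · apply swap_case ν₁ ν₂ h1x h1y h2x h2y h2 hs1 σ hσ S₁ S₂
    · intro α
      obtain ⟨a, b, rfl⟩ := nf k (2 * s + 1) α
      rw [hσ1 a b, hν2 a b, e₁, map_sub, map_mul, map_pow, hS₁X]
      ring
    · intro α
      obtain ⟨a, b, rfl⟩ := nf k (2 * s + 1) α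
      rw [hσ2 a b, hν1 a b, e₂, map_add, map_mul, map_pow, hS₂X]
  · exfalso
    have e : σ (ArSing.y k (2 * s + 1)) = σ (-(ArSing.x k (2 * s + 1) ^ (s + 1))) :=
      hj (by simp only [map_neg, map_pow]; exact e₁) (by simp only [map_neg, map_pow]; exact e₂)
    have e' := congrArg ν₁ (σ.injective e)
    rw [h1y, map_neg, map_pow, h1x] at e'
    have e'' : (X : PowerSeries k) ^ (s + 1) = 0 := by
      linear_combination (C (2⁻¹ : k)) * e' - X ^ (s + 1) * hC2K h2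
    exact pow_ne_zero _ X_ne_zero e''

end Groth.Agent.S14082
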