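import Groth.Statements.S14093
import Mathlib
import Groth.Agent.S14081
import Groth.Agent.S14082
import Groth.Agent.H76.NodeAlg
-- import your own Groth.Agent.* helpers here

set_option autoImplicit false
universe u
open ArSing

namespace Groth.Agent.S14093


open PowerSeries
open Groth.Agent.S14081 (hC2K EE EE_X algHom_ext_X nu nu_x nu_y nu_xMap xMap_X xMap_C y_sq nf
  x_not_unit ringA_local)
open Groth.Agent.H76.NodeAlg (length_step)

section KLevel
variable {k : Type u} [Field k]

theorem pair_zero (h2 : (2:k) ≠ 0) (n : ℕ) (a b : PowerSeries k)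
    (h1 : EE k a + EE k b * X ^ n = 0) (h3 : EE k a + EE k b * (-X ^ n) = 0) :
    a = 0 ∧ b = 0 := by
  have ha : EE k a = 0 := by
    linear_combination (C (2⁻¹ : k)) * h1 + (C (2⁻¹ : k)) * h3 - (EE k a) * hC2K h2
  have hb : EE k b * X ^ n = 0 := by linear_combination h1 - ha
  have hb' : EE k b = 0 := by
    rcases mul_eq_zero.mp hb with h | h
    · exact h
    · exact absurd h (pow_ne_zero _ X_ne_zero)
  exact ⟨Groth.Agent.S14096.expand_inj a 0 (by rw [map_zero]; exact ha),
    Groth.Agent.S14096.expand_inj b 0 (by rw [map_zero]; exact hb')⟩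

end KLevel

section ALevel
variable (k : Type u) [Field k] (r : ℕ)

theorem exists_mu : ∃ μ : ArSing.ring k r →ₐ[k] PowerSeries k,
    μ (ArSing.x k r) = X ^ 2 ∧ μ (ArSing.y k r) = -X ^ (r + 1) :=
  Groth.Agent.S14082.exists_lift k r (X ^ 2) (-X ^ (r + 1))
    (by rw [map_pow, constantCoeff_X, zero_pow two_ne_zero])
    (by rw [map_neg, map_pow, constantCoeff_X, zero_pow (Nat.succ_ne_zero r), neg_zero])
    (by ring)

theorem mu_xMap (μ : ArSing.ring k r →ₐ[k] PowerSeries k) (hμx : μ (ArSing.x k r) = X ^ 2)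
    (a : PowerSeries k) : μ (ArSing.xMap k r a) = EE k a := by
  have h := algHom_ext_X (μ.comp (ArSing.xMap k r)) (EE k)
    (show μ (ArSing.xMap k r X) = EE k X by rw [xMap_X, hμx, EE_X])
  exact DFunLike.congr_fun h a

theorem nf_unique (h2 : (2:k) ≠ 0) (a b : PowerSeries k)
    (h : ArSing.xMap k r a + ArSing.xMap k r b * ArSing.y k r = 0) : a = 0 ∧ b = 0 := by
  obtain ⟨μ, hμx, hμy⟩ := exists_mu k r
  have h1 := congrArg (nu k r) h
  rw [map_add, map_mul, nu_xMap, nu_xMap, nu_y, map_zero] at h1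
  have h3 := congrArg μ h
  rw [map_add, map_mul, mu_xMap k r μ hμx, mu_xMap k r μ hμx, hμy, map_zero] at h3
  exact pair_zero h2 (r + 1) a b h1 h3

theorem joint_inj' (h2 : (2:k) ≠ 0) (μ : ArSing.ring k r →ₐ[k] PowerSeries k)
    (hμx : μ (ArSing.x k r) = X ^ 2) (hμy : μ (ArSing.y k r) = -X ^ (r + 1))
    {α β : ArSing.ring k r} (h1 : nu k r α = nu k r β) (h3 : μ α = μ β) : α = β := by
  obtain ⟨a, b, hab⟩ := nf k r (α - β)
  have e1 : nu k r (α - β) = 0 := by rw [map_sub, h1, sub_self]
  have e3 : μ (α - β) = 0 := by rw [map_sub, h3, sub_self]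
  rw [hab, map_add, map_mul, nu_xMap, nu_xMap, nu_y] at e1
  rw [hab, map_add, map_mul, mu_xMap k r μ hμx, mu_xMap k r μ hμx, hμy] at e3
  obtain ⟨ha, hb⟩ := pair_zero h2 (r + 1) a b e1 e3
  rw [ha, hb, map_zero, zero_mul, add_zero] at hab
  exact sub_eq_zero.mp hab

theorem sigma_xMap (h2 : (2:k) ≠ 0) (σ : ArSing.ring k r ≃ₐ[k] ArSing.ring k r)
    (hx : σ (ArSing.x k r) = ArSing.x k r) (f : PowerSeries k) :
    σ (ArSing.xMap k r f) = ArSing.xMap k r f := by
  obtain ⟨μ, hμx, hμy⟩ := exists_mu k r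
  apply joint_inj' k r h2 μ hμx hμy
  · have h := algHom_ext_X (((nu k r).comp σ.toAlgHom).comp (ArSing.xMap k r)) (EE k)
      (show nu k r (σ (ArSing.xMap k r X)) = EE k X by rw [xMap_X, hx, nu_x, EE_X])
    have h' : nu k r (σ (ArSing.xMap k r f)) = EE k f := DFunLike.congr_fun h f
    rw [nu_xMap, h']
  · have h := algHom_ext_X ((μ.comp σ.toAlgHom).comp (ArSing.xMap k r)) (EE k)
      (show μ (σ (ArSing.xMap k r X)) = EE k X by rw [xMap_X, hx, hμx, EE_X])
    have h' : μ (σ (ArSing.xMap k r f)) = EE k f := DFunLike.congr_fun h f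
    rw [mu_xMap k r μ hμx, h']

theorem part1 (h2 : (2:k) ≠ 0) (σ : ArSing.ring k r ≃ₐ[k] ArSing.ring k r)
    (hx : σ (ArSing.x k r) = ArSing.x k r) (hy : σ (ArSing.y k r) = -ArSing.y k r)
    (α : ArSing.ring k r) : σ α = α ↔ α ∈ (ArSing.xMap k r).range := by
  constructor
  · intro hα
    obtain ⟨a, b, rfl⟩ := nf k r α
    rw [map_add, map_mul, sigma_xMap k r h2 σ hx, sigma_xMap k r h2 σ hx, hy] at hα
    have h0 : ArSing.xMap k r 0 + ArSing.xMap k r (b + b) * ArSing.y k r = 0 := by
      rw [map_zero, map_add]; linear_combination (-1 : ArSing.ring k r) * hα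
    obtain ⟨-, hb⟩ := nf_unique k r h2 0 (b + b) h0
    have hb0 : b = 0 := by linear_combination (C (2⁻¹ : k)) * hb - b * hC2K h2
    rw [AlgHom.mem_range]
    refine ⟨a, ?_⟩
    rw [hb0, map_zero, zero_mul, add_zero]
  · intro hα
    obtain ⟨f, rfl⟩ := (AlgHom.mem_range _).mp hα
    exact sigma_xMap k r h2 σ hx f

theorem part2a (h2 : (2:k) ≠ 0) : (ArSing.xMap k r).toRingHom.Flat := by
  letI alg : Algebra (PowerSeries k) (ArSing.ring k r) := (ArSing.xMap k r).toRingHom.toAlgebra
  show Module.Flat (PowerSeries k) (ArSing.ring k r)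
  let L : (PowerSeries k × PowerSeries k) →ₗ[PowerSeries k] ArSing.ring k r :=
    { toFun := fun p => ArSing.xMap k r p.1 + ArSing.xMap k r p.2 * ArSing.y k r
      map_add' := fun p q => by
        show ArSing.xMap k r (p.1 + q.1) + ArSing.xMap k r (p.2 + q.2) * ArSing.y k r =
          (ArSing.xMap k r p.1 + ArSing.xMap k r p.2 * ArSing.y k r) +
          (ArSing.xMap k r q.1 + ArSing.xMap k r q.2 * ArSing.y k r)
        rw [map_add, map_add]; ring
      map_smul' := fun c p => by
        show ArSing.xMap k r (c * p.1) + ArSing.xMap k r (c * p.2) * ArSing.y k r =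
          ArSing.xMap k r c * (ArSing.xMap k r p.1 + ArSing.xMap k r p.2 * ArSing.y k r)
        rw [map_mul, map_mul]; ring }
  have hinj : Function.Injective L := by
    rw [injective_iff_map_eq_zero]
    intro p hp
    have hp' : ArSing.xMap k r p.1 + ArSing.xMap k r p.2 * ArSing.y k r = 0 := hp
    obtain ⟨h1, h2'⟩ := nf_unique k r h2 p.1 p.2 hp'
    exact Prod.ext h1 h2'
  have hsurj : Function.Surjective L := by
    intro α
    obtain ⟨a, b, rfl⟩ := nf k r α
    exact ⟨(a, b), rfl⟩
  exact Module.Flat.of_linearEquiv (LinearEquiv.ofBijective L ⟨hinj, hsurj⟩).symm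

theorem part2b :
    Ideal.map (ArSing.xMap k r) (IsLocalRing.maximalIdeal (PowerSeries k)) ≠ ⊤ := by
  rw [PowerSeries.maximalIdeal_eq_span_X, Ideal.map_span, Set.image_singleton, Ne,
    Ideal.span_singleton_eq_top, xMap_X]
  exact x_not_unit k r

theorem ideal_eq (h2 : (2:k) ≠ 0) (σ : ArSing.ring k r ≃ₐ[k] ArSing.ring k r)
    (hx : σ (ArSing.x k r) = ArSing.x k r) (hy : σ (ArSing.y k r) = -ArSing.y k r) :
    Ideal.span (Set.range fun a : ArSing.ring k r => σ a - a) = Ideal.span {ArSing.y k r} := by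
  have hxc : ArSing.xMap k r (C (2⁻¹ : k)) * 2 = 1 := by
    have := congrArg (ArSing.xMap k r) (hC2K h2)
    rwa [map_mul, map_ofNat, map_one] at this
  apply le_antisymm
  · rw [Ideal.span_le]
    rintro _ ⟨α, rfl⟩
    obtain ⟨a, b, rfl⟩ := nf k r α
    show σ (ArSing.xMap k r a + ArSing.xMap k r b * ArSing.y k r) -
      (ArSing.xMap k r a + ArSing.xMap k r b * ArSing.y k r) ∈ Ideal.span {ArSing.y k r}
    rw [map_add, map_mul, sigma_xMap k r h2 σ hx, sigma_xMap k r h2 σ hx, hy]
    exact Ideal.mem_span_singleton'.mpr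
      ⟨-(ArSing.xMap k r b + ArSing.xMap k r b), by ring⟩
  · rw [Ideal.span_le, Set.singleton_subset_iff]
    have hmem : σ (ArSing.y k r) - ArSing.y k r ∈
        Ideal.span (Set.range fun a : ArSing.ring k r => σ a - a) :=
      Ideal.subset_span ⟨ArSing.y k r, rfl⟩
    have e : ArSing.y k r =
        (-ArSing.xMap k r (C (2⁻¹ : k))) * (σ (ArSing.y k r) - ArSing.y k r) := by
      rw [hy]; linear_combination (-ArSing.y k r) * hxc
    have hm := Ideal.mul_mem_left _ (-ArSing.xMap k r (C (2⁻¹ : k))) hmem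
    rw [← e] at hm
    exact hm

theorem y_nzd (h2 : (2:k) ≠ 0) : ArSing.y k r ∈ nonZeroDivisors (ArSing.ring k r) := by
  rw [mem_nonZeroDivisors_iff_right]
  intro α hα
  obtain ⟨a, b, rfl⟩ := nf k r α
  have h0 : ArSing.xMap k r (b * X ^ (r + 1)) + ArSing.xMap k r a * ArSing.y k r = 0 := by
    rw [map_mul, map_pow, xMap_X]
    linear_combination hα - ArSing.xMap k r b * y_sq k r
  obtain ⟨hb, ha⟩ := nf_unique k r h2 _ _ h0
  have hb' : b = 0 := by
    rcases mul_eq_zero.mp hb with h | h
    · exact h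
    · exact absurd h (pow_ne_zero _ X_ne_zero)
  rw [ha, hb', map_zero, zero_mul, add_zero]

theorem memK (h2 : (2:k) ≠ 0) (j : ℕ) (hj : j ≤ r + 1) (a b : PowerSeries k) :
    ArSing.xMap k r a + ArSing.xMap k r b * ArSing.y k r ∈
      Ideal.span {ArSing.y k r, ArSing.x k r ^ j} ↔ X ^ j ∣ a := by
  constructor
  · intro h
    obtain ⟨c, d, hcd⟩ := Ideal.mem_span_pair.mp h
    obtain ⟨c1, c2, rfl⟩ := nf k r c
    obtain ⟨d1, d2, rfl⟩ := nf k r d
    have h0 : ArSing.xMap k r (c2 * X ^ (r + 1) + d1 * X ^ j - a) +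
        ArSing.xMap k r (c1 + d2 * X ^ j - b) * ArSing.y k r = 0 := by
      simp only [map_sub, map_add, map_mul, map_pow, xMap_X]
      linear_combination hcd - ArSing.xMap k r c2 * y_sq k r
    obtain ⟨ha, -⟩ := nf_unique k r h2 _ _ h0
    have ha' : a = c2 * X ^ (r + 1) + d1 * X ^ j := (sub_eq_zero.mp ha).symm
    rw [ha']
    exact dvd_add ((pow_dvd_pow X hj).mul_left c2) (dvd_mul_left _ _)
  · rintro ⟨a', rfl⟩
    rw [Ideal.mem_span_pair]
    refine ⟨ArSing.xMap k r b, ArSing.xMap k r a', ?_⟩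
    rw [map_mul, map_pow, xMap_X]; ring

theorem K1_max (h2 : (2:k) ≠ 0) :
    (Ideal.span {ArSing.y k r, ArSing.x k r ^ 1}).IsMaximal := by
  have h1r : 1 ≤ r + 1 := Nat.le_add_left 1 r
  rw [Ideal.isMaximal_iff]
  constructor
  · intro h1
    have e : (1 : ArSing.ring k r) =
        ArSing.xMap k r 1 + ArSing.xMap k r 0 * ArSing.y k r := by
      rw [map_one, map_zero, zero_mul, add_zero]
    rw [e, memK k r h2 1 h1r, pow_one, X_dvd_iff, map_one] at h1
    exact one_ne_zero h1
  · intro J z hKJ hz hzJ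
    obtain ⟨a, b, rfl⟩ := nf k r z
    rw [memK k r h2 1 h1r, pow_one, X_dvd_iff] at hz
    have hmem : ArSing.xMap k r (a - C (constantCoeff a)) + ArSing.xMap k r b * ArSing.y k r ∈ J := by
      apply hKJ
      rw [memK k r h2 1 h1r, pow_one, X_dvd_iff, map_sub, constantCoeff_C, sub_self]
    have hc : ArSing.xMap k r (C (constantCoeff a)) ∈ J := by
      have hs := J.sub_mem hzJ hmem
      have e : ArSing.xMap k r a + ArSing.xMap k r b * ArSing.y k r -
          (ArSing.xMap k r (a - C (constantCoeff a)) + ArSing.xMap k r b * ArSing.y k r) =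
          ArSing.xMap k r (C (constantCoeff a)) := by
        rw [map_sub]; ring
      rwa [e] at hs
    have e1 : (1 : ArSing.ring k r) =
        ArSing.xMap k r (C (constantCoeff a)⁻¹) * ArSing.xMap k r (C (constantCoeff a)) := by
      rw [← map_mul, ← map_mul, inv_mul_cancel₀ hz, map_one, map_one]
    rw [e1]
    exact J.mul_mem_left _ hc

theorem length_K (h2 : (2:k) ≠ 0) : ∀ j : ℕ, j ≤ r + 1 →
    Module.length (ArSing.ring k r)
      (ArSing.ring k r ⧸ Ideal.span {ArSing.y k r, ArSing.x k r ^ j}) = j := by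
  intro j
  induction j with
  | zero =>
    intro _
    have htop : Ideal.span {ArSing.y k r, ArSing.x k r ^ 0} = ⊤ :=
      Ideal.eq_top_of_isUnit_mem _
        (Ideal.subset_span (Set.mem_insert_of_mem _ (Set.mem_singleton _)))
        (by rw [pow_zero]; exact isUnit_one)
    rw [Nat.cast_zero, Module.length_eq_zero_iff, Ideal.Quotient.subsingleton_iff]
    exact htop
  | succ j ih =>
    intro hj
    have hj' : j ≤ r + 1 := Nat.le_of_succ_le hj
    have h1r : 1 ≤ r + 1 := Nat.le_add_left 1 r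
    have hK1 : Module.length (ArSing.ring k r)
        (ArSing.ring k r ⧸ Ideal.span {ArSing.y k r, ArSing.x k r ^ 1}) = 1 := by
      rw [Module.length_eq_one_iff, isSimpleModule_iff_quot_maximal]
      exact ⟨_, K1_max k r h2, ⟨LinearEquiv.refl _ _⟩⟩
    have key := length_step (Ideal.span {ArSing.y k r, ArSing.x k r ^ 1})
      (Ideal.span {ArSing.y k r, ArSing.x k r ^ j})
      (Ideal.span {ArSing.y k r, ArSing.x k r ^ (j + 1)}) (ArSing.x k r ^ j)
      (by
        intro z hz
        obtain ⟨c, d, rfl⟩ := Ideal.mem_span_pair.mp hz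
        exact Ideal.mem_span_pair.mpr ⟨ArSing.x k r ^ j * c, d, by ring⟩)
      (by
        intro z hz
        obtain ⟨a, b, rfl⟩ := nf k r z
        have e : ArSing.x k r ^ j * (ArSing.xMap k r a + ArSing.xMap k r b * ArSing.y k r) =
            ArSing.xMap k r (X ^ j * a) + ArSing.xMap k r (X ^ j * b) * ArSing.y k r := by
          rw [map_mul, map_mul, map_pow, xMap_X]; ring
        rw [e, memK k r h2 (j + 1) hj, pow_succ,
          mul_dvd_mul_iff_left (pow_ne_zero j X_ne_zero)] at hz
        rw [memK k r h2 1 h1r, pow_one]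
        exact hz)
      (by
        rw [Ideal.span_le]
        intro z hz
        rw [Set.mem_insert_iff, Set.mem_singleton_iff] at hz
        rcases hz with rfl | rfl
        · exact Ideal.subset_span (Set.mem_insert _ _)
        · rw [pow_succ]
          exact Ideal.mul_mem_right _ _
            (Ideal.subset_span (Set.mem_insert_of_mem _ (Set.mem_singleton _))))
      (by
        intro z hz
        obtain ⟨a, b, rfl⟩ := nf k r z
        rw [memK k r h2 j hj'] at hz
        obtain ⟨a', rfl⟩ := hz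
        refine ⟨ArSing.xMap k r a', ?_⟩
        have e : ArSing.xMap k r (X ^ j * a') + ArSing.xMap k r b * ArSing.y k r -
            ArSing.x k r ^ j * ArSing.xMap k r a' = ArSing.xMap k r b * ArSing.y k r := by
          rw [map_mul, map_pow, xMap_X]; ring
        rw [e]
        exact Ideal.mul_mem_left _ _ (Ideal.subset_span (Set.mem_insert _ _)))
      (by
        intro z
        exact Ideal.mul_mem_right _ _
          (Ideal.subset_span (Set.mem_insert_of_mem _ (Set.mem_singleton _))))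
    rw [key, ih hj', hK1, Nat.cast_succ, add_comm]

theorem K_last : Ideal.span {ArSing.y k r, ArSing.x k r ^ (r + 1)} =
    Ideal.span {ArSing.y k r} := by
  apply le_antisymm
  · rw [Ideal.span_le]
    intro z hz
    rw [Set.mem_insert_iff, Set.mem_singleton_iff] at hz
    rcases hz with rfl | rfl
    · exact Ideal.mem_span_singleton_self _
    · rw [← y_sq k r, sq]
      exact Ideal.mul_mem_left _ _ (Ideal.mem_span_singleton_self _)
  · exact Ideal.span_mono (Set.singleton_subset_iff.mpr (Set.mem_insert _ _))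

theorem part4 (h2 : (2:k) ≠ 0) (σ : ArSing.ring k r ≃ₐ[k] ArSing.ring k r)
    (hx : σ (ArSing.x k r) = ArSing.x k r) (hy : σ (ArSing.y k r) = -ArSing.y k r) :
    Module.length (ArSing.ring k r)
      (ArSing.ring k r ⧸ Ideal.span (Set.range fun a : ArSing.ring k r => σ a - a)) = r + 1 := by
  rw [ideal_eq k r h2 σ hx hy, ← K_last k r, length_K k r h2 (r + 1) le_rfl, Nat.cast_succ]

end ALevel



/-- For an algebraically closed field k of characteristic prime to 2 and to r+1 and the involution σ of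
A_r = k[[x,y]]/(y^2 - x^(r+1)) with σ(x) = x, σ(y) = -y: the invariant subalgebra is k[[x]] (the
image of t ↦ x from k[[t]]), the inclusion k[[x]] → A_r is faithfully flat (flat, and the maximal
ideal of k[[t]] does not generate the unit ideal of A_r), and the fixed locus (the closed subscheme
cut out by all σ(a) - a) is a Cartier divisor of length r + 1, i.e. its ideal is generated by one
nonzerodivisor and the quotient has length r + 1. -/
theorem result (k : Type u) [Field k] [IsAlgClosed k] (r : ℕ)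
    (h2 : (2 : k) ≠ 0) (hr : ((r + 1 : ℕ) : k) ≠ 0)
    (σ : ArSing.ring k r ≃ₐ[k] ArSing.ring k r) (hx : σ (ArSing.x k r) = ArSing.x k r)
    (hy : σ (ArSing.y k r) = -ArSing.y k r) :
    (∀ a : ArSing.ring k r, σ a = a ↔ a ∈ (ArSing.xMap k r).range) ∧
    ((ArSing.xMap k r).toRingHom.Flat ∧
      Ideal.map (ArSing.xMap k r) (IsLocalRing.maximalIdeal (PowerSeries k)) ≠ ⊤) ∧
    (∃ g : ArSing.ring k r, g ∈ nonZeroDivisors (ArSing.ring k r) ∧
      Ideal.span (Set.range fun a : ArSing.ring k r => σ a - a) = Ideal.span {g}) ∧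
    Module.length (ArSing.ring k r)
      (ArSing.ring k r ⧸ Ideal.span (Set.range fun a : ArSing.ring k r => σ a - a)) = r + 1 := by
  exact ⟨part1 k r h2 σ hx hy, ⟨part2a k r h2, part2b k r⟩,
    ⟨ArSing.y k r, y_nzd k r h2, ideal_eq k r h2 σ hx hy⟩, part4 k r h2 σ hx hy⟩

end Groth.Agent.S14093
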