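import Groth.Statements.S18252
import Mathlib

set_option autoImplicit false
universe u
open W4c5m1nsnscurves
open Curves

namespace Groth.Agent.S18252

open MvPolynomial

noncomputable section

/-! ### Ring-identity certificates -/

section Certs
variable {S : Type*} [CommRing S]

theorem cF1 (x y s t a si ti c : S) (hL : x + y = a + si + ti + s + t)
    (hC : c = y * s + x * si - si * s) :
    s * x - (s * (a + s + t) + si * x + ti * s - c) = 0 := by
  linear_combination s * hL + hC

theorem cF2 (x y s t a si ti c cb : S) (hL : x + y = a + si + ti + s + t)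
    (hC : c = y * s + x * si - si * s) (hCB : cb = y * ti + x * t - ti * t) :
    (a + s + t) * x - (s * (a + s + t) + (a + si + ti) * (x - ti) + cb - c) = 0 := by
  linear_combination (s - ti) * hL - hCB + hC

theorem cF3 (xi xj cij cji s t a c : S)
    (hT : cij * xj + cji * xi - xi * xj + (a + s + t) * s = c) :
    xi * xj - (s * (a + s + t) + cij * xj + cji * xi - c) = 0 := by
  linear_combination (-1 : S) * hT

theorem cB_C_cl (X2 X3 Xi ci cbi c : S)
    (hCR1 : X2 * Xi = X2 * X3 + ci * Xi + cbi * X2 - c) :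
    (ci + cbi + X3 - Xi) * X2 + Xi * ci - ci * X2 - c = 0 := by
  linear_combination (-1 : S) * hCR1

theorem cB_CB_cl (X2 X3 Xi a ci cbi c cb : S)
    (hCR1 : X2 * Xi = X2 * X3 + ci * Xi + cbi * X2 - c)
    (hCR2 : X3 * Xi = X2 * X3 + (a + ci + cbi) * (Xi - cbi) + cb - c) :
    (ci + cbi + X3 - Xi) * cbi + Xi * (X3 - a - X2) - cbi * (X3 - a - X2) - cb = 0 := by
  linear_combination hCR2 - hCR1

theorem cB_T_ccl (X2 X3 Xi Xj a cij cji c : S)
    (hCR3 : Xi * Xj = X2 * X3 + cij * Xj + cji * Xi - c) :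
    cij * Xj + cji * Xi - Xi * Xj + (a + X2 + (X3 - a - X2)) * X2 - c = 0 := by
  linear_combination (-1 : S) * hCR3

theorem cB_T_clc (X2 X3 Xi Xk a ci cbi ck cbk cik cki c cb : S)
    (hCR2 : X3 * Xi = X2 * X3 + (a + ci + cbi) * (Xi - cbi) + cb - c)
    (hCR3 : Xi * Xk = X2 * X3 + cik * Xk + cki * Xi - c)
    (hUL : cik + cki = a + ci + cbi + ck + cbk)
    (hUC : c = cki * ck + cik * ci - ci * ck)
    (hUCB : cb = cki * cbi + cik * cbk - cbi * cbk) :
    Xi * (ck + cbk + X3 - Xk) + (ci + cbi + X3 - Xi) * cik - cik * (ck + cbk + X3 - Xk)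
      + (a + ck + cbk) * ck - c = 0 := by
  linear_combination hCR2 - hCR3 + (-Xi + cbi - ck) * hUL + hUCB - hUC

end Certs

/-! ### The relations of `URing` as equations -/

section Rels
variable (R : Type u) [CommRing R] (m : ℕ)

lemma rel_lin (i j : Fin m) (h : i ≠ j) :
    ugen R m (.cij i j h) + ugen R m (.cij j i h.symm) =
      ugen R m .a + ugen R m (.ci i) + ugen R m (.cbi i) + ugen R m (.ci j) + ugen R m (.cbi j) := by
  have hmem : (X (.cij i j h) + X (.cij j i (Ne.symm h)) -
      (X .a + X (.ci i) + X (.cbi i) + X (.ci j) + X (.cbi j)) : MvPolynomial (UGen m) R)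
        ∈ URel R m :=
    Or.inl (Or.inl (Or.inl ⟨⟨(i, j), h⟩, rfl⟩))
  have h2 := Ideal.Quotient.eq_zero_iff_mem.mpr (Ideal.subset_span hmem)
  rw [map_sub, sub_eq_zero] at h2
  simp only [map_add] at h2
  exact h2

lemma rel_c (i j : Fin m) (h : i ≠ j) :
    ugen R m .c = ugen R m (.cij j i h.symm) * ugen R m (.ci j)
      + ugen R m (.cij i j h) * ugen R m (.ci i) - ugen R m (.ci i) * ugen R m (.ci j) := by
  have hmem : (X (.cij j i (Ne.symm h)) * X (.ci j) + X (.cij i j h) * X (.ci i) -
      X (.ci i) * X (.ci j) - X .c : MvPolynomial (UGen m) R) ∈ URel R m :=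
    Or.inl (Or.inl (Or.inr ⟨⟨(i, j), h⟩, rfl⟩))
  have h2 := Ideal.Quotient.eq_zero_iff_mem.mpr (Ideal.subset_span hmem)
  simp only [map_sub, map_add, map_mul] at h2
  have h3 : ugen R m (.cij j i h.symm) * ugen R m (.ci j)
      + ugen R m (.cij i j h) * ugen R m (.ci i) - ugen R m (.ci i) * ugen R m (.ci j)
      - ugen R m .c = 0 := h2
  linear_combination (-1 : URing R m) * h3

lemma rel_cb (i j : Fin m) (h : i ≠ j) :
    ugen R m .cb = ugen R m (.cij j i h.symm) * ugen R m (.cbi i)
      + ugen R m (.cij i j h) * ugen R m (.cbi j) - ugen R m (.cbi i) * ugen R m (.cbi j) := by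
  have hmem : (X (.cij j i (Ne.symm h)) * X (.cbi i) + X (.cij i j h) * X (.cbi j) -
      X (.cbi i) * X (.cbi j) - X .cb : MvPolynomial (UGen m) R) ∈ URel R m :=
    Or.inl (Or.inr ⟨⟨(i, j), h⟩, rfl⟩)
  have h2 := Ideal.Quotient.eq_zero_iff_mem.mpr (Ideal.subset_span hmem)
  simp only [map_sub, map_add, map_mul] at h2
  have h3 : ugen R m (.cij j i h.symm) * ugen R m (.cbi i)
      + ugen R m (.cij i j h) * ugen R m (.cbi j) - ugen R m (.cbi i) * ugen R m (.cbi j)
      - ugen R m .cb = 0 := h2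
  linear_combination (-1 : URing R m) * h3

lemma rel_cub (i j l : Fin m) (h1 : i ≠ j) (h2 : j ≠ l) (h3 : i ≠ l) :
    ugen R m (.cij i j h1) * ugen R m (.cij j l h2)
      + ugen R m (.cij j i h1.symm) * ugen R m (.cij i l h3)
      - ugen R m (.cij i l h3) * ugen R m (.cij j l h2)
      + (ugen R m .a + ugen R m (.ci l) + ugen R m (.cbi l)) * ugen R m (.ci l)
      = ugen R m .c := by
  have hmem : (X (.cij i j h1) * X (.cij j l h2) + X (.cij j i (Ne.symm h1)) * X (.cij i l h3) -
      X (.cij i l h3) * X (.cij j l h2) + (X .a + X (.ci l) + X (.cbi l)) * X (.ci l) - X .c :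
        MvPolynomial (UGen m) R) ∈ URel R m :=
    Or.inr ⟨⟨(i, j, l), h1, h2, h3⟩, rfl⟩
  have h2' := Ideal.Quotient.eq_zero_iff_mem.mpr (Ideal.subset_span hmem)
  simp only [map_sub, map_add, map_mul] at h2'
  exact sub_eq_zero.mp h2'

lemma uincl_ugen (g : UGen m) : uincl R m (ugen R m g) = ugen R (m + 1) (UGen.castSucc g) := by
  show (Ideal.Quotient.mkₐ R (Ideal.span (URel R (m + 1)))) (rename UGen.castSucc (X g)) = _
  rw [rename_X]
  rfl

end Rels

/-! ### The curve algebra over `URing R m` -/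

section Main
variable (R : Type u) [CommRing R] (m : ℕ)

abbrev A : Type u := CurveAlg (URing R m) m (ugen R m)

def ι : URing R m →+* A R m :=
  (Ideal.Quotient.mk (Ideal.span (CRel (URing R m) m (ugen R m)))).comp C

def X2 : A R m := Ideal.Quotient.mk (Ideal.span (CRel (URing R m) m (ugen R m))) (X CVar.x2)

def X3 : A R m := Ideal.Quotient.mk (Ideal.span (CRel (URing R m) m (ugen R m))) (X CVar.x3)

def Xi (i : Fin m) : A R m :=
  Ideal.Quotient.mk (Ideal.span (CRel (URing R m) m (ugen R m))) (X (CVar.xi i))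

lemma CR1 (i : Fin m) : X2 R m * Xi R m i = X2 R m * X3 R m
    + ι R m (ugen R m (.ci i)) * Xi R m i + ι R m (ugen R m (.cbi i)) * X2 R m
    - ι R m (ugen R m .c) := by
  have hmem : (X .x2 * X (.xi i) -
      (X .x2 * X .x3 + C (ugen R m (.ci i)) * X (.xi i) + C (ugen R m (.cbi i)) * X .x2
        - C (ugen R m .c)) : MvPolynomial (CVar m) (URing R m))
      ∈ CRel (URing R m) m (ugen R m) :=
    Or.inl (Or.inl ⟨i, rfl⟩)
  have h2 := Ideal.Quotient.eq_zero_iff_mem.mpr (Ideal.subset_span hmem)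
  simp only [map_sub, map_add, map_mul] at h2
  exact sub_eq_zero.mp h2

lemma CR2 (i : Fin m) : X3 R m * Xi R m i = X2 R m * X3 R m
    + (ι R m (ugen R m .a) + ι R m (ugen R m (.ci i)) + ι R m (ugen R m (.cbi i)))
        * (Xi R m i - ι R m (ugen R m (.cbi i)))
    + ι R m (ugen R m .cb) - ι R m (ugen R m .c) := by
  have hmem : (X .x3 * X (.xi i) -
      (X .x2 * X .x3 + C (ugen R m .a + ugen R m (.ci i) + ugen R m (.cbi i))
          * (X (.xi i) - C (ugen R m (.cbi i)))
        + C (ugen R m .cb) - C (ugen R m .c)) : MvPolynomial (CVar m) (URing R m))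
      ∈ CRel (URing R m) m (ugen R m) :=
    Or.inl (Or.inr ⟨i, rfl⟩)
  have h2 := Ideal.Quotient.eq_zero_iff_mem.mpr (Ideal.subset_span hmem)
  simp only [map_sub, map_add, map_mul] at h2
  exact sub_eq_zero.mp h2

lemma CR3 (i j : Fin m) (h : i ≠ j) : Xi R m i * Xi R m j = X2 R m * X3 R m
    + ι R m (ugen R m (.cij i j h)) * Xi R m j + ι R m (ugen R m (.cij j i h.symm)) * Xi R m i
    - ι R m (ugen R m .c) := by
  have hmem : (X (.xi i) * X (.xi j) -
      (X .x2 * X .x3 + C (ugen R m (.cij i j h)) * X (.xi j)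
        + C (ugen R m (.cij j i (Ne.symm h))) * X (.xi i)
        - C (ugen R m .c)) : MvPolynomial (CVar m) (URing R m))
      ∈ CRel (URing R m) m (ugen R m) :=
    Or.inr ⟨⟨(i, j), h⟩, rfl⟩
  have h2 := Ideal.Quotient.eq_zero_iff_mem.mpr (Ideal.subset_span hmem)
  simp only [map_sub, map_add, map_mul] at h2
  exact sub_eq_zero.mp h2

lemma UL (i j : Fin m) (h : i ≠ j) :
    ι R m (ugen R m (.cij i j h)) + ι R m (ugen R m (.cij j i h.symm)) =
      ι R m (ugen R m .a) + ι R m (ugen R m (.ci i)) + ι R m (ugen R m (.cbi i))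
        + ι R m (ugen R m (.ci j)) + ι R m (ugen R m (.cbi j)) := by
  simpa only [map_add] using congrArg (ι R m) (rel_lin R m i j h)

lemma UC (i j : Fin m) (h : i ≠ j) :
    ι R m (ugen R m .c) = ι R m (ugen R m (.cij j i h.symm)) * ι R m (ugen R m (.ci j))
      + ι R m (ugen R m (.cij i j h)) * ι R m (ugen R m (.ci i))
      - ι R m (ugen R m (.ci i)) * ι R m (ugen R m (.ci j)) := by
  simpa only [map_add, map_sub, map_mul] using congrArg (ι R m) (rel_c R m i j h)

lemma UCB (i j : Fin m) (h : i ≠ j) :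
    ι R m (ugen R m .cb) = ι R m (ugen R m (.cij j i h.symm)) * ι R m (ugen R m (.cbi i))
      + ι R m (ugen R m (.cij i j h)) * ι R m (ugen R m (.cbi j))
      - ι R m (ugen R m (.cbi i)) * ι R m (ugen R m (.cbi j)) := by
  simpa only [map_add, map_sub, map_mul] using congrArg (ι R m) (rel_cb R m i j h)

lemma UT (i j l : Fin m) (h1 : i ≠ j) (h2 : j ≠ l) (h3 : i ≠ l) :
    ι R m (ugen R m (.cij i j h1)) * ι R m (ugen R m (.cij j l h2))
      + ι R m (ugen R m (.cij j i h1.symm)) * ι R m (ugen R m (.cij i l h3))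
      - ι R m (ugen R m (.cij i l h3)) * ι R m (ugen R m (.cij j l h2))
      + (ι R m (ugen R m .a) + ι R m (ugen R m (.ci l)) + ι R m (ugen R m (.cbi l)))
          * ι R m (ugen R m (.ci l))
      = ι R m (ugen R m .c) := by
  simpa only [map_add, map_sub, map_mul] using congrArg (ι R m) (rel_cub R m i j l h1 h2 h3)

/-! ### Forward map -/

def xval : CVar m → URing R (m + 1)
  | .x2 => ugen R (m + 1) (.ci (Fin.last m))
  | .x3 => ugen R (m + 1) .a + ugen R (m + 1) (.ci (Fin.last m))
      + ugen R (m + 1) (.cbi (Fin.last m))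
  | .xi i => ugen R (m + 1) (.cij i.castSucc (Fin.last m) (Fin.castSucc_lt_last i).ne)

def F0 : MvPolynomial (CVar m) (URing R m) →+* URing R (m + 1) :=
  eval₂Hom (uincl R m : URing R m →+* URing R (m + 1)) (xval R m)

lemma F0_C (r : URing R m) : F0 R m (C r) = uincl R m r := eval₂Hom_C _ _ r

lemma F0_X (x : CVar m) : F0 R m (X x) = xval R m x := eval₂Hom_X' _ _ x

lemma F0_rel (p : MvPolynomial (CVar m) (URing R m))
    (hp : p ∈ CRel (URing R m) m (ugen R m)) : F0 R m p = 0 := by
  simp only [CRel, Set.mem_union, Set.mem_range] at hp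
  rcases hp with (⟨i, rfl⟩ | ⟨i, rfl⟩) | ⟨q, rfl⟩
  · simp only [map_sub, map_add, map_mul, F0_C, F0_X, xval, uincl_ugen, UGen.castSucc]
    linear_combination cF1 _ _ _ _ _ _ _ _
      (rel_lin R (m + 1) i.castSucc (Fin.last m) (Fin.castSucc_lt_last i).ne)
      (rel_c R (m + 1) i.castSucc (Fin.last m) (Fin.castSucc_lt_last i).ne)
  · simp only [map_sub, map_add, map_mul, F0_C, F0_X, xval, uincl_ugen, UGen.castSucc]
    linear_combination cF2 _ _ _ _ _ _ _ _ _
      (rel_lin R (m + 1) i.castSucc (Fin.last m) (Fin.castSucc_lt_last i).ne)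
      (rel_c R (m + 1) i.castSucc (Fin.last m) (Fin.castSucc_lt_last i).ne)
      (rel_cb R (m + 1) i.castSucc (Fin.last m) (Fin.castSucc_lt_last i).ne)
  · obtain ⟨⟨i, j⟩, h⟩ := q
    simp only [map_sub, map_add, map_mul, F0_C, F0_X, xval, uincl_ugen, UGen.castSucc]
    linear_combination cF3 _ _ _ _ _ _ _ _
      (rel_cub R (m + 1) i.castSucc j.castSucc (Fin.last m)
        (fun e => h (Fin.castSucc_injective _ e))
        (Fin.castSucc_lt_last j).ne (Fin.castSucc_lt_last i).ne)

def F : A R m →+* URing R (m + 1) :=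
  Ideal.Quotient.lift (Ideal.span (CRel (URing R m) m (ugen R m))) (F0 R m) (fun p hp => by
    have : Ideal.span (CRel (URing R m) m (ugen R m)) ≤ RingHom.ker (F0 R m) :=
      Ideal.span_le.mpr (fun p hp => RingHom.mem_ker.mpr (F0_rel R m p hp))
    exact RingHom.mem_ker.mp (this hp))

lemma F_ι (r : URing R m) : F R m (ι R m r) = uincl R m r := by
  show F0 R m (C r) = _
  exact F0_C R m r

lemma F_X2 : F R m (X2 R m) = ugen R (m + 1) (.ci (Fin.last m)) := by
  show F0 R m (X CVar.x2) = _
  rw [F0_X]; rfl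

lemma F_X3 : F R m (X3 R m) = ugen R (m + 1) .a + ugen R (m + 1) (.ci (Fin.last m))
    + ugen R (m + 1) (.cbi (Fin.last m)) := by
  show F0 R m (X CVar.x3) = _
  rw [F0_X]; rfl

lemma F_Xi (i : Fin m) : F R m (Xi R m i) =
    ugen R (m + 1) (.cij i.castSucc (Fin.last m) (Fin.castSucc_lt_last i).ne) := by
  show F0 R m (X (CVar.xi i)) = _
  rw [F0_X]; rfl

/-! ### Backward map -/

def dn (p : Fin (m + 1)) : Option (Fin m) :=
  if h : p.val < m then some ⟨p.val, h⟩ else none

lemma dn_castSucc (i : Fin m) : dn m i.castSucc = some i := by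
  unfold dn
  rw [dif_pos (show (i.castSucc : Fin (m + 1)).val < m from i.2)]
  rfl

lemma dn_last : dn m (Fin.last m) = none := by
  unfold dn
  rw [dif_neg (by simp)]

def gval : UGen (m + 1) → A R m
  | .a => ι R m (ugen R m .a)
  | .c => ι R m (ugen R m .c)
  | .cb => ι R m (ugen R m .cb)
  | .ci p => match dn m p with
      | some i => ι R m (ugen R m (.ci i))
      | none => X2 R m
  | .cbi p => match dn m p with
      | some i => ι R m (ugen R m (.cbi i))
      | none => X3 R m - ι R m (ugen R m .a) - X2 R m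
  | .cij p q _ => match dn m p, dn m q with
      | some i, some j => if h : i = j then 0 else ι R m (ugen R m (.cij i j h))
      | some i, none => Xi R m i
      | none, some j => ι R m (ugen R m (.ci j)) + ι R m (ugen R m (.cbi j)) + X3 R m - Xi R m j
      | none, none => 0

lemma gval_a : gval R m .a = ι R m (ugen R m .a) := rfl
lemma gval_c : gval R m .c = ι R m (ugen R m .c) := rfl
lemma gval_cb : gval R m .cb = ι R m (ugen R m .cb) := rfl

lemma gval_ci_c (i : Fin m) : gval R m (.ci i.castSucc) = ι R m (ugen R m (.ci i)) := by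
  simp only [gval, dn_castSucc]

lemma gval_ci_l : gval R m (.ci (Fin.last m)) = X2 R m := by
  simp only [gval, dn_last]

lemma gval_cbi_c (i : Fin m) : gval R m (.cbi i.castSucc) = ι R m (ugen R m (.cbi i)) := by
  simp only [gval, dn_castSucc]

lemma gval_cbi_l : gval R m (.cbi (Fin.last m)) = X3 R m - ι R m (ugen R m .a) - X2 R m := by
  simp only [gval, dn_last]

lemma gval_cij_cc (i j : Fin m) (h : i ≠ j) (h' : i.castSucc ≠ j.castSucc) :
    gval R m (.cij i.castSucc j.castSucc h') = ι R m (ugen R m (.cij i j h)) := by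
  simp only [gval, dn_castSucc, dif_neg h]

lemma gval_cij_cl (i : Fin m) (h' : i.castSucc ≠ Fin.last m) :
    gval R m (.cij i.castSucc (Fin.last m) h') = Xi R m i := by
  simp only [gval, dn_castSucc, dn_last]

lemma gval_cij_lc (j : Fin m) (h' : Fin.last m ≠ j.castSucc) :
    gval R m (.cij (Fin.last m) j.castSucc h') =
      ι R m (ugen R m (.ci j)) + ι R m (ugen R m (.cbi j)) + X3 R m - Xi R m j := by
  simp only [gval, dn_castSucc, dn_last]

def G0 : MvPolynomial (UGen (m + 1)) R →+* A R m :=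
  eval₂Hom ((ι R m).comp (algebraMap R (URing R m))) (gval R m)

lemma G0_C (r : R) : G0 R m (C r) = ι R m (algebraMap R (URing R m) r) := eval₂Hom_C _ _ r

lemma G0_X (g : UGen (m + 1)) : G0 R m (X g) = gval R m g := eval₂Hom_X' _ _ g

lemma G0_rel (p : MvPolynomial (UGen (m + 1)) R) (hp : p ∈ URel R (m + 1)) : G0 R m p = 0 := by
  simp only [URel, Set.mem_union, Set.mem_range] at hp
  rcases hp with ((⟨q, rfl⟩ | ⟨q, rfl⟩) | ⟨q, rfl⟩) | ⟨q, rfl⟩
  · obtain ⟨⟨p, q⟩, h⟩ := q
    rcases Fin.eq_castSucc_or_eq_last p with ⟨i, rfl⟩ | rfl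
    · rcases Fin.eq_castSucc_or_eq_last q with ⟨j, rfl⟩ | rfl
      · have hij : i ≠ j := fun e => h (congrArg Fin.castSucc e)
        simp only [map_sub, map_add, map_mul, G0_X, gval_a, gval_c, gval_cb, gval_ci_c,
          gval_cbi_c, gval_cij_cc R m i j hij, gval_cij_cc R m j i hij.symm]
        linear_combination UL R m i j hij
      · simp only [map_sub, map_add, map_mul, G0_X, gval_a, gval_c, gval_cb, gval_ci_c,
          gval_cbi_c, gval_ci_l, gval_cbi_l, gval_cij_cl, gval_cij_lc]
        ring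
    · rcases Fin.eq_castSucc_or_eq_last q with ⟨j, rfl⟩ | rfl
      · simp only [map_sub, map_add, map_mul, G0_X, gval_a, gval_c, gval_cb, gval_ci_c,
          gval_cbi_c, gval_ci_l, gval_cbi_l, gval_cij_cl, gval_cij_lc]
        ring
      · exact absurd rfl h
  · obtain ⟨⟨p, q⟩, h⟩ := q
    rcases Fin.eq_castSucc_or_eq_last p with ⟨i, rfl⟩ | rfl
    · rcases Fin.eq_castSucc_or_eq_last q with ⟨j, rfl⟩ | rfl
      · have hij : i ≠ j := fun e => h (congrArg Fin.castSucc e)
        simp only [map_sub, map_add, map_mul, G0_X, gval_a, gval_c, gval_cb, gval_ci_c,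
          gval_cbi_c, gval_cij_cc R m i j hij, gval_cij_cc R m j i hij.symm]
        linear_combination (-1 : A R m) * UC R m i j hij
      · simp only [map_sub, map_add, map_mul, G0_X, gval_a, gval_c, gval_cb, gval_ci_c,
          gval_cbi_c, gval_ci_l, gval_cbi_l, gval_cij_cl, gval_cij_lc]
        linear_combination cB_C_cl _ _ _ _ _ _ (CR1 R m i)
    · rcases Fin.eq_castSucc_or_eq_last q with ⟨j, rfl⟩ | rfl
      · simp only [map_sub, map_add, map_mul, G0_X, gval_a, gval_c, gval_cb, gval_ci_c,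
          gval_cbi_c, gval_ci_l, gval_cbi_l, gval_cij_cl, gval_cij_lc]
        linear_combination cB_C_cl _ _ _ _ _ _ (CR1 R m j)
      · exact absurd rfl h
  · obtain ⟨⟨p, q⟩, h⟩ := q
    rcases Fin.eq_castSucc_or_eq_last p with ⟨i, rfl⟩ | rfl
    · rcases Fin.eq_castSucc_or_eq_last q with ⟨j, rfl⟩ | rfl
      · have hij : i ≠ j := fun e => h (congrArg Fin.castSucc e)
        simp only [map_sub, map_add, map_mul, G0_X, gval_a, gval_c, gval_cb, gval_ci_c,
          gval_cbi_c, gval_cij_cc R m i j hij, gval_cij_cc R m j i hij.symm]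
        linear_combination (-1 : A R m) * UCB R m i j hij
      · simp only [map_sub, map_add, map_mul, G0_X, gval_a, gval_c, gval_cb, gval_ci_c,
          gval_cbi_c, gval_ci_l, gval_cbi_l, gval_cij_cl, gval_cij_lc]
        linear_combination cB_CB_cl _ _ _ _ _ _ _ _ (CR1 R m i) (CR2 R m i)
    · rcases Fin.eq_castSucc_or_eq_last q with ⟨j, rfl⟩ | rfl
      · simp only [map_sub, map_add, map_mul, G0_X, gval_a, gval_c, gval_cb, gval_ci_c,
          gval_cbi_c, gval_ci_l, gval_cbi_l, gval_cij_cl, gval_cij_lc]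
        linear_combination cB_CB_cl _ _ _ _ _ _ _ _ (CR1 R m j) (CR2 R m j)
      · exact absurd rfl h
  · obtain ⟨⟨p, q, r⟩, h1, h2, h3⟩ := q
    rcases Fin.eq_castSucc_or_eq_last p with ⟨i, rfl⟩ | rfl
    · rcases Fin.eq_castSucc_or_eq_last q with ⟨j, rfl⟩ | rfl
      · have hij : i ≠ j := fun e => h1 (congrArg Fin.castSucc e)
        rcases Fin.eq_castSucc_or_eq_last r with ⟨l, rfl⟩ | rfl
        · have hjl : j ≠ l := fun e => h2 (congrArg Fin.castSucc e)
          have hil : i ≠ l := fun e => h3 (congrArg Fin.castSucc e)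
          simp only [map_sub, map_add, map_mul, G0_X, gval_a, gval_c, gval_cb, gval_ci_c,
            gval_cbi_c, gval_cij_cc R m i j hij, gval_cij_cc R m j i hij.symm,
            gval_cij_cc R m j l hjl, gval_cij_cc R m i l hil]
          linear_combination UT R m i j l hij hjl hil
        · simp only [map_sub, map_add, map_mul, G0_X, gval_a, gval_c, gval_cb, gval_ci_c,
            gval_cbi_c, gval_ci_l, gval_cbi_l, gval_cij_cl, gval_cij_lc,
            gval_cij_cc R m i j hij, gval_cij_cc R m j i hij.symm]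
          linear_combination cB_T_ccl _ _ _ _ _ _ _ _ (CR3 R m i j hij)
      · rcases Fin.eq_castSucc_or_eq_last r with ⟨l, rfl⟩ | rfl
        · have hil : i ≠ l := fun e => h3 (congrArg Fin.castSucc e)
          simp only [map_sub, map_add, map_mul, G0_X, gval_a, gval_c, gval_cb, gval_ci_c,
            gval_cbi_c, gval_ci_l, gval_cbi_l, gval_cij_cl, gval_cij_lc,
            gval_cij_cc R m i l hil]
          linear_combination cB_T_clc _ _ _ _ _ _ _ _ _ _ _ _ _ (CR2 R m i) (CR3 R m i l hil)
            (UL R m i l hil) (UC R m i l hil) (UCB R m i l hil)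
        · exact absurd rfl h2
    · rcases Fin.eq_castSucc_or_eq_last q with ⟨j, rfl⟩ | rfl
      · rcases Fin.eq_castSucc_or_eq_last r with ⟨l, rfl⟩ | rfl
        · have hjl : j ≠ l := fun e => h2 (congrArg Fin.castSucc e)
          simp only [map_sub, map_add, map_mul, G0_X, gval_a, gval_c, gval_cb, gval_ci_c,
            gval_cbi_c, gval_ci_l, gval_cbi_l, gval_cij_cl, gval_cij_lc,
            gval_cij_cc R m j l hjl]
          linear_combination cB_T_clc _ _ _ _ _ _ _ _ _ _ _ _ _ (CR2 R m j) (CR3 R m j l hjl)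
            (UL R m j l hjl) (UC R m j l hjl) (UCB R m j l hjl)
        · exact absurd rfl h3
      · exact absurd rfl h1

def G : URing R (m + 1) →+* A R m :=
  Ideal.Quotient.lift (Ideal.span (URel R (m + 1))) (G0 R m) (fun p hp => by
    have : Ideal.span (URel R (m + 1)) ≤ RingHom.ker (G0 R m) :=
      Ideal.span_le.mpr (fun p hp => RingHom.mem_ker.mpr (G0_rel R m p hp))
    exact RingHom.mem_ker.mp (this hp))

lemma G_ugen (g : UGen (m + 1)) : G R m (ugen R (m + 1) g) = gval R m g := by
  show G0 R m (X g) = _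
  exact G0_X R m g

lemma G_uincl : (G R m).comp (uincl R m : URing R m →+* URing R (m + 1)) = ι R m := by
  apply Ideal.Quotient.ringHom_ext
  apply MvPolynomial.ringHom_ext
  · intro r
    show G R m (uincl R m (algebraMap R (URing R m) r)) = ι R m (algebraMap R (URing R m) r)
    rw [AlgHom.commutes]
    show G0 R m (C r) = _
    exact G0_C R m r
  · intro g
    show G R m (uincl R m (ugen R m g)) = ι R m (ugen R m g)
    rw [uincl_ugen, G_ugen]
    cases g with
    | a => rfl
    | c => rfl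
    | cb => rfl
    | ci i => exact gval_ci_c R m i
    | cbi i => exact gval_cbi_c R m i
    | cij i j h => exact gval_cij_cc R m i j h _

lemma GF : (G R m).comp (F R m) = RingHom.id (A R m) := by
  apply Ideal.Quotient.ringHom_ext
  apply MvPolynomial.ringHom_ext
  · intro r
    show G R m (F R m (ι R m r)) = ι R m r
    rw [F_ι]
    exact RingHom.congr_fun (G_uincl R m) r
  · intro x
    cases x with
    | x2 =>
      show G R m (F R m (X2 R m)) = X2 R m
      rw [F_X2, G_ugen, gval_ci_l]
    | x3 =>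
      show G R m (F R m (X3 R m)) = X3 R m
      rw [F_X3, map_add, map_add, G_ugen, G_ugen, G_ugen, gval_ci_l, gval_cbi_l, gval_a]
      ring
    | xi i =>
      show G R m (F R m (Xi R m i)) = Xi R m i
      rw [F_Xi, G_ugen, gval_cij_cl]

lemma FG : (F R m).comp (G R m) = RingHom.id (URing R (m + 1)) := by
  apply Ideal.Quotient.ringHom_ext
  apply MvPolynomial.ringHom_ext
  · intro r
    show F R m (G0 R m (C r)) = algebraMap R (URing R (m + 1)) r
    rw [G0_C, F_ι, AlgHom.commutes]
  · intro g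
    show F R m (G R m (ugen R (m + 1) g)) = ugen R (m + 1) g
    rw [G_ugen]
    cases g with
    | a => rw [gval_a, F_ι, uincl_ugen]; rfl
    | c => rw [gval_c, F_ι, uincl_ugen]; rfl
    | cb => rw [gval_cb, F_ι, uincl_ugen]; rfl
    | ci p =>
      rcases Fin.eq_castSucc_or_eq_last p with ⟨i, rfl⟩ | rfl
      · rw [gval_ci_c, F_ι, uincl_ugen]; rfl
      · rw [gval_ci_l, F_X2]
    | cbi p =>
      rcases Fin.eq_castSucc_or_eq_last p with ⟨i, rfl⟩ | rfl
      · rw [gval_cbi_c, F_ι, uincl_ugen]; rfl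
      · rw [gval_cbi_l, map_sub, map_sub, F_X3, F_X2, F_ι, uincl_ugen]
        show _ - ugen R (m + 1) .a - _ = _
        ring
    | cij p q h =>
      rcases Fin.eq_castSucc_or_eq_last p with ⟨i, rfl⟩ | rfl
      · rcases Fin.eq_castSucc_or_eq_last q with ⟨j, rfl⟩ | rfl
        · have hij : i ≠ j := fun e => h (congrArg Fin.castSucc e)
          rw [gval_cij_cc R m i j hij, F_ι, uincl_ugen]; rfl
        · rw [gval_cij_cl, F_Xi]
      · rcases Fin.eq_castSucc_or_eq_last q with ⟨j, rfl⟩ | rfl
        · rw [gval_cij_lc, map_sub, map_add, map_add, F_ι, F_ι, F_X3, F_Xi, uincl_ugen,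
            uincl_ugen]
          show ugen R (m + 1) (.ci j.castSucc) + ugen R (m + 1) (.cbi j.castSucc)
            + (ugen R (m + 1) .a + ugen R (m + 1) (.ci (Fin.last m))
              + ugen R (m + 1) (.cbi (Fin.last m)))
            - ugen R (m + 1) (.cij j.castSucc (Fin.last m) (Fin.castSucc_lt_last j).ne)
            = ugen R (m + 1) (.cij (Fin.last m) j.castSucc h)
          linear_combination (-1 : URing R (m + 1)) * rel_lin R (m + 1) (Fin.last m) j.castSucc h
        · exact absurd rfl h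

end Main

end

/-- Let R be a commutative ring and m ≥ 1, so that n = m + 3 ≥ 4. Consider the projection U_{n+1} → U_n
forgetting the coordinates c_{n+1}, c̄_{n+1}, c_{i,n+1}, c_{n+1,i}, i.e. the ring map O(U_n) →
O(U_{n+1}) sending each generator to the generator with the same indices, and the affine curve C_n →
U_n, i.e. the curve algebra over O(U_n) whose constants a, c, c̄, c_i, c̄_i, c_{ij} are the
generators of O(U_n) themselves. Then x_2 ↦ c_{n+1}, x_3 ↦ a + c_{n+1} + c̄_{n+1}, x_i ↦ c_{i,n+1}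
defines an isomorphism O(C_n) ≅ O(U_{n+1}) over O(U_n): there is a ring isomorphism with these
values on the variables whose composite with the structure map O(U_n) → O(C_n) is the projection's
ring map. -/
theorem result (R : Type u) [CommRing R] (m : ℕ) (hm : 1 ≤ m) :
    ∃ e : CurveAlg (URing R m) m (ugen R m) ≃+* URing R (m + 1),
      (∀ r : URing R m, e (algebraMap (URing R m) (CurveAlg (URing R m) m (ugen R m)) r) = uincl R m r) ∧
      e (Ideal.Quotient.mk (Ideal.span (CRel (URing R m) m (ugen R m))) (MvPolynomial.X CVar.x2)) =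
        ugen R (m + 1) (UGen.ci (Fin.last m)) ∧
      e (Ideal.Quotient.mk (Ideal.span (CRel (URing R m) m (ugen R m))) (MvPolynomial.X CVar.x3)) =
        ugen R (m + 1) UGen.a + ugen R (m + 1) (UGen.ci (Fin.last m)) + ugen R (m + 1) (UGen.cbi (Fin.last m)) ∧
      ∀ i : Fin m, e (Ideal.Quotient.mk (Ideal.span (CRel (URing R m) m (ugen R m))) (MvPolynomial.X (CVar.xi i))) =
        ugen R (m + 1) (UGen.cij i.castSucc (Fin.last m) (Fin.castSucc_lt_last i).ne) := by
  refine ⟨RingEquiv.ofRingHom (F R m) (G R m) (FG R m) (GF R m), ?_, ?_, ?_, ?_⟩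
  · intro r
    exact F_ι R m r
  · exact F_X2 R m
  · exact F_X3 R m
  · intro i
    exact F_Xi R m i

end Groth.Agent.S18252
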