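import Groth.Statements.S18246
import Mathlib
import Groth.Agent.H77.CurveBasis
import Groth.Agent.H61.CurveRelOfIndep

set_option autoImplicit false
universe u
open W4c5m1nsnscurves
open Curves

namespace Groth.Agent.S18246

/-- Let R be a commutative ring and m ≥ 1, so that n = m + 3 ≥ 4 points are marked, and let v assign
values in R to the coordinates a, c, c̄, c_i, c̄_i (one index i for each of the points 4, …, n) and
c_{ij} (i ≠ j) of U_n, with no condition. Let A be the R-algebra on x_2, x_3, x_i with the relations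
x_2 x_i = x_2 x_3 + c_i x_i + c̄_i x_2 − c, x_3 x_i = x_2 x_3 + (a + c_i + c̄_i)(x_i − c̄_i) + c̄ −
c and x_i x_j = x_2 x_3 + c_{ij} x_j + c_{ji} x_i − c for i ≠ j. Then the classes of the monomials
1, x_2^k x_3 (k ≥ 1) and y^k (y any one of the variables, k ≥ 1) are linearly independent over R and
span A if and only if the values v satisfy all the defining relations of U_n: c_{ij} + c_{ji} = a +
c_i + c̄_i + c_j + c̄_j, c = c_{ji} c_j + c_{ij} c_i − c_i c_j, c̄ = c_{ji} c̄_i + c_{ij} c̄_j −
c̄_i c̄_j for i ≠ j, and c_{ij} c_{jk} + c_{ji} c_{ik} − c_{ik} c_{jk} + (a + c_k + c̄_k) c_k = c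
for i, j, k distinct. (The published statement writes the relations of the curve with constants
c_{ij} for all pairs, d_{ij}, a, b, c, d and asserts the equivalence with a longer list of equations
among them; here the constants are already expressed in the coordinates a, c, c̄, c_i, c̄_i, c_{ij}
of U_n, in which that list becomes the relations above.) -/
theorem result (R : Type u) [CommRing R] (m : ℕ) (hm : 1 ≤ m)
    (v : UGen m → R) :
    (LinearIndependent R (cmon R m v) ∧ Submodule.span R (Set.range (cmon R m v)) = ⊤) ↔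
      (∀ p ∈ URel R m, MvPolynomial.eval v p = 0) := by
  constructor
  · rintro ⟨hli, -⟩
    exact Groth.Agent.H61.CurveRelOfIndep.rel_of_indep R m v hli
  · intro hU
    have hL : ∀ (i j : Fin m) (h : i ≠ j), v (.cij i j h) + v (.cij j i h.symm)
        - (v .a + v (.ci i) + v (.cbi i) + v (.ci j) + v (.cbi j)) = 0 := by
      intro i j h
      have := hU _ (Or.inl (Or.inl (Or.inl ⟨⟨(i, j), h⟩, rfl⟩)))
      simpa only [map_sub, map_add, map_mul, MvPolynomial.eval_X] using this
    have hQ : ∀ (i j : Fin m) (h : i ≠ j), v (.cij j i h.symm) * v (.ci j)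
        + v (.cij i j h) * v (.ci i) - v (.ci i) * v (.ci j) - v .c = 0 := by
      intro i j h
      have := hU _ (Or.inl (Or.inl (Or.inr ⟨⟨(i, j), h⟩, rfl⟩)))
      simpa only [map_sub, map_add, map_mul, MvPolynomial.eval_X] using this
    have hQb : ∀ (i j : Fin m) (h : i ≠ j), v (.cij j i h.symm) * v (.cbi i)
        + v (.cij i j h) * v (.cbi j) - v (.cbi i) * v (.cbi j) - v .cb = 0 := by
      intro i j h
      have := hU _ (Or.inl (Or.inr ⟨⟨(i, j), h⟩, rfl⟩))
      simpa only [map_sub, map_add, map_mul, MvPolynomial.eval_X] using this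
    have hT : ∀ (i j k : Fin m) (hij : i ≠ j) (hjk : j ≠ k) (hik : i ≠ k),
        v (.cij i j hij) * v (.cij j k hjk) + v (.cij j i hij.symm) * v (.cij i k hik)
          - v (.cij i k hik) * v (.cij j k hjk) + (v .a + v (.ci k) + v (.cbi k)) * v (.ci k)
          - v .c = 0 := by
      intro i j k hij hjk hik
      have := hU _ (Or.inr ⟨⟨(i, (j, k)), ⟨hij, hjk, hik⟩⟩, rfl⟩)
      simpa only [map_sub, map_add, map_mul, MvPolynomial.eval_X] using this
    exact ⟨Groth.Agent.H77.CurveRules.indep v ⟨0, hm⟩ hL hQ hQb hT,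
      Groth.Agent.H77.CurveRules.span_top v ⟨0, hm⟩⟩

end Groth.Agent.S18246
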