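import Groth.Statements.S18247
import Mathlib

set_option autoImplicit false
universe u
open W4c5m1nsnscurves
open Curves

namespace Groth.Agent.S18247

open MvPolynomial

abbrev P := MvPolynomial (Fin 6) ℤ

noncomputable def lin : P := X 0 + X 1 + X 2 + X 3 + X 4 - X 5

noncomputable def ψ0 : UGen 2 → P
  | .a => X 0
  | .c => lin * X 3 + X 5 * X 1 - X 1 * X 3
  | .cb => lin * X 2 + X 5 * X 4 - X 2 * X 4
  | .ci i => if i = 0 then X 1 else X 3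
  | .cbi i => if i = 0 then X 2 else X 4
  | .cij i _ _ => if i = 0 then X 5 else lin

noncomputable def ψ : MvPolynomial (UGen 2) ℤ →ₐ[ℤ] P := aeval ψ0

lemma ψ_rel (p : MvPolynomial (UGen 2) ℤ) (hp : p ∈ URel ℤ 2) : ψ p = 0 := by
  simp only [URel, Set.mem_union, Set.mem_range] at hp
  rcases hp with ((⟨q, rfl⟩ | ⟨q, rfl⟩) | ⟨q, rfl⟩) | ⟨q, rfl⟩
  · obtain ⟨⟨i, j⟩, h⟩ := q
    fin_cases i <;> fin_cases j
    · exact absurd rfl h
    · simp [ψ, ψ0, lin]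
    · simp [ψ, ψ0, lin]
      ring
    · exact absurd rfl h
  · obtain ⟨⟨i, j⟩, h⟩ := q
    fin_cases i <;> fin_cases j
    · exact absurd rfl h
    · simp [ψ, ψ0, lin]
    · simp [ψ, ψ0, lin]
      ring
    · exact absurd rfl h
  · obtain ⟨⟨i, j⟩, h⟩ := q
    fin_cases i <;> fin_cases j
    · exact absurd rfl h
    · simp [ψ, ψ0, lin]
    · simp [ψ, ψ0, lin]
      ring
    · exact absurd rfl h
  · obtain ⟨⟨i, j, k⟩, h1, h2, h3⟩ := q
    exfalso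
    fin_cases i <;> fin_cases j <;> fin_cases k <;> simp_all

noncomputable def ψq : URing ℤ 2 →ₐ[ℤ] P :=
  Ideal.Quotient.liftₐ (Ideal.span (URel ℤ 2)) ψ (fun p hp => by
    have : Ideal.span (URel ℤ 2) ≤ RingHom.ker (ψ : MvPolynomial (UGen 2) ℤ →+* P) :=
      Ideal.span_le.mpr (fun p hp => RingHom.mem_ker.mpr (ψ_rel p hp))
    exact RingHom.mem_ker.mp (this hp))

lemma ψq_ugen (g : UGen 2) : ψq (ugen ℤ 2 g) = ψ0 g := by
  simp [ψq, ugen, ψ]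

noncomputable def F : P →ₐ[ℤ] URing ℤ 2 :=
  MvPolynomial.aeval (R := ℤ) (S₁ := URing ℤ 2)
      ![ugen ℤ 2 .a, ugen ℤ 2 (.ci 0), ugen ℤ 2 (.cbi 0), ugen ℤ 2 (.ci 1), ugen ℤ 2 (.cbi 1),
        ugen ℤ 2 (.cij 0 1 Fin.zero_ne_one)]

lemma left_inv : ψq.comp F = AlgHom.id ℤ P := by
  apply MvPolynomial.algHom_ext
  intro k
  fin_cases k <;> simp [F, ψq_ugen, ψ0]

lemma relL : ugen ℤ 2 (.cij 0 1 Fin.zero_ne_one) + ugen ℤ 2 (.cij 1 0 (Ne.symm Fin.zero_ne_one)) =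
    ugen ℤ 2 .a + ugen ℤ 2 (.ci 0) + ugen ℤ 2 (.cbi 0) + ugen ℤ 2 (.ci 1) + ugen ℤ 2 (.cbi 1) := by
  have h : (X (.cij 0 1 Fin.zero_ne_one) + X (.cij 1 0 (Ne.symm Fin.zero_ne_one)) -
      (X .a + X (.ci 0) + X (.cbi 0) + X (.ci 1) + X (.cbi 1)) : MvPolynomial (UGen 2) ℤ)
        ∈ URel ℤ 2 :=
    Or.inl (Or.inl (Or.inl ⟨⟨(0, 1), Fin.zero_ne_one⟩, rfl⟩))
  have h2 := Ideal.Quotient.eq_zero_iff_mem.mpr (Ideal.subset_span h)
  rw [map_sub, sub_eq_zero] at h2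
  simp only [map_add] at h2
  exact h2

lemma relQ1 : ugen ℤ 2 (.cij 1 0 (Ne.symm Fin.zero_ne_one)) * ugen ℤ 2 (.ci 1)
    + ugen ℤ 2 (.cij 0 1 Fin.zero_ne_one) * ugen ℤ 2 (.ci 0)
    - ugen ℤ 2 (.ci 0) * ugen ℤ 2 (.ci 1) - ugen ℤ 2 .c = 0 := by
  have h : (X (.cij 1 0 (Ne.symm Fin.zero_ne_one)) * X (.ci 1)
      + X (.cij 0 1 Fin.zero_ne_one) * X (.ci 0) - X (.ci 0) * X (.ci 1) - X .c :
        MvPolynomial (UGen 2) ℤ) ∈ URel ℤ 2 :=
    Or.inl (Or.inl (Or.inr ⟨⟨(0, 1), Fin.zero_ne_one⟩, rfl⟩))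
  have h2 := Ideal.Quotient.eq_zero_iff_mem.mpr (Ideal.subset_span h)
  simp only [map_sub, map_add, map_mul] at h2
  exact h2

lemma relQ2 : ugen ℤ 2 (.cij 1 0 (Ne.symm Fin.zero_ne_one)) * ugen ℤ 2 (.cbi 0)
    + ugen ℤ 2 (.cij 0 1 Fin.zero_ne_one) * ugen ℤ 2 (.cbi 1)
    - ugen ℤ 2 (.cbi 0) * ugen ℤ 2 (.cbi 1) - ugen ℤ 2 .cb = 0 := by
  have h : (X (.cij 1 0 (Ne.symm Fin.zero_ne_one)) * X (.cbi 0)
      + X (.cij 0 1 Fin.zero_ne_one) * X (.cbi 1) - X (.cbi 0) * X (.cbi 1) - X .cb :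
        MvPolynomial (UGen 2) ℤ) ∈ URel ℤ 2 :=
    Or.inl (Or.inr ⟨⟨(0, 1), Fin.zero_ne_one⟩, rfl⟩)
  have h2 := Ideal.Quotient.eq_zero_iff_mem.mpr (Ideal.subset_span h)
  simp only [map_sub, map_add, map_mul] at h2
  exact h2

lemma F_lin : F lin = ugen ℤ 2 (.cij 1 0 (Ne.symm Fin.zero_ne_one)) := by
  have : F lin = ugen ℤ 2 .a + ugen ℤ 2 (.ci 0) + ugen ℤ 2 (.cbi 0) + ugen ℤ 2 (.ci 1)
      + ugen ℤ 2 (.cbi 1) - ugen ℤ 2 (.cij 0 1 Fin.zero_ne_one) := by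
    simp [F, lin]
  rw [this]
  linear_combination (-1) * relL

lemma F_X (k : Fin 6) : F (X k) = ![ugen ℤ 2 .a, ugen ℤ 2 (.ci 0), ugen ℤ 2 (.cbi 0),
    ugen ℤ 2 (.ci 1), ugen ℤ 2 (.cbi 1), ugen ℤ 2 (.cij 0 1 Fin.zero_ne_one)] k := by
  simp [F]

lemma right_inv : F.comp ψq = AlgHom.id ℤ (URing ℤ 2) := by
  apply Ideal.Quotient.algHom_ext
  apply MvPolynomial.algHom_ext
  intro g
  show F (ψq (ugen ℤ 2 g)) = ugen ℤ 2 g
  rw [ψq_ugen]
  cases g with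
  | a => simp [ψ0, F_X]
  | c =>
    simp only [ψ0, map_sub, map_add, map_mul, F_lin, F_X]
    simp
    linear_combination relQ1
  | cb =>
    simp only [ψ0, map_sub, map_add, map_mul, F_lin, F_X]
    simp
    linear_combination relQ2
  | ci i => fin_cases i <;> simp [ψ0, F_X]
  | cbi i => fin_cases i <;> simp [ψ0, F_X]
  | cij i j h =>
    fin_cases i <;> fin_cases j
    · exact absurd rfl h
    · simp [ψ0, F_X]
    · simp [ψ0, F_lin]
    · exact absurd rfl h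

/-- Case n = 5: the coordinate ring of U_5 over ℤ (m = 2 indices, standing for the points 4 and 5;
generators a, c, c̄, c_4, c̄_4, c_5, c̄_5, c_{45}, c_{54} with the linear and the two quadratic
relations for the one pair of indices, and no triple) is the polynomial ring on a, c_4, c̄_4, c_5,
c̄_5, c_{45}: the ℤ-algebra map from the polynomial ring in six variables sending the variables to
these six classes, in this order, is bijective. -/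
theorem result :
    Function.Bijective (MvPolynomial.aeval (R := ℤ) (S₁ := URing ℤ 2)
      ![ugen ℤ 2 .a, ugen ℤ 2 (.ci 0), ugen ℤ 2 (.cbi 0), ugen ℤ 2 (.ci 1), ugen ℤ 2 (.cbi 1),
        ugen ℤ 2 (.cij 0 1 Fin.zero_ne_one)]) := by
  show Function.Bijective ⇑F
  rw [Function.bijective_iff_has_inverse]
  refine ⟨ψq, fun x => ?_, fun y => ?_⟩
  · exact DFunLike.congr_fun left_inv x
  · exact DFunLike.congr_fun right_inv y

end Groth.Agent.S18247
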