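import Groth.Statements.S12936
import Mathlib

set_option autoImplicit false
universe u v
open InvTh

namespace Groth.Agent.S12936

/-- Let `B` be a commutative ring with an action of a finite group `Γ` by ring automorphisms and `P` a
maximal ideal of `B`, with decomposition group `D_P = {γ | γP = P}` and decomposition ring `D =
B^{D_P}`. Then `D = B^Γ + (P ∩ D)`: every element of `B` fixed by `D_P` is congruent modulo `P` to a
`Γ`-invariant element. Hence the residue field of `D` at `P ∩ D` is that of `B^Γ` at `P ∩ B^Γ`; for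
an arbitrary prime `P` the same equality of residue fields follows by localising at `P ∩ B^Γ`. (The
published statement prints this residue field as `k(P)`; the proof establishes the equality with the
residue field of `B^Γ` stated here.) -/
theorem result
    (B : Type u) [CommRing B] (Γ : Type v) [Group Γ] [Finite Γ] [MulSemiringAction Γ B]
    (P : Ideal B) [P.IsMaximal] (x : B)
    (hx : ∀ γ : Γ, (∀ y : B, y ∈ P ↔ γ • y ∈ P) → γ • x = x) :
    ∃ c : B, (∀ γ : Γ, γ • c = c) ∧ x - c ∈ P := by
  classical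
  cases nonempty_fintype Γ
  -- the decomposition group
  let D : Subgroup Γ :=
    { carrier := {γ | ∀ y : B, y ∈ P ↔ γ • y ∈ P}
      one_mem' := by intro y; simp
      mul_mem' := by
        intro a b ha hb y
        rw [mul_smul]
        exact (hb y).trans (ha (b • y))
      inv_mem' := by
        intro a ha y
        have := ha (a⁻¹ • y)
        rw [smul_inv_smul] at this
        exact this.symm }
  have hD : ∀ γ : Γ, γ ∈ D ↔ ∀ y : B, y ∈ P ↔ γ • y ∈ P := fun γ => Iff.rfl
  -- conjugate ideals
  let Q : Γ → Ideal B := fun γ => Ideal.comap (MulSemiringAction.toRingHom Γ B γ) P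
  have hQmem : ∀ γ b, b ∈ Q γ ↔ γ • b ∈ P := fun γ b => Iff.rfl
  have hQmax : ∀ γ, (Q γ).IsMaximal := by
    intro γ
    apply Ideal.comap_isMaximal_of_surjective
    exact MulAction.surjective γ
  have hcop : ∀ γ ∈ (Finset.univ.filter (fun γ : Γ => γ ∉ D)), P ⊔ Q γ = ⊤ := by
    intro γ hγ
    rw [Finset.mem_filter] at hγ
    apply Ideal.IsMaximal.coprime_of_ne inferInstance (hQmax γ)
    intro h
    apply hγ.2
    rw [hD]
    intro y
    rw [← hQmem, ← h]
  have htop := Ideal.sup_iInf_eq_top hcop
  have h1 : (1 : B) ∈ P ⊔ ⨅ γ ∈ (Finset.univ.filter (fun γ : Γ => γ ∉ D)), Q γ := by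
    rw [htop]; trivial
  obtain ⟨p, hp, u, hu, hpu⟩ := Submodule.mem_sup.mp h1
  have hu' : ∀ σ : Γ, σ ∉ D → σ • u ∈ P := by
    intro σ hσ
    rw [← hQmem]
    have := (Submodule.mem_iInf _).mp hu σ
    exact (Submodule.mem_iInf _).mp this (by simp [hσ])
  -- the D-invariant element v
  let v : B := ∏ δ : D, (δ : Γ) • u
  have hvinv : ∀ δ' ∈ D, δ' • v = v := by
    intro δ' hδ'
    simp only [v]
    rw [Finset.smul_prod']
    simp only [← mul_smul]
    exact Fintype.prod_equiv (Equiv.mulLeft (⟨δ', hδ'⟩ : D)) _ _ (fun δ => rfl)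
  have hv1 : 1 - v ∈ P := by
    rw [← Ideal.Quotient.eq]
    simp only [v, map_prod, map_one]
    symm
    apply Finset.prod_eq_one
    intro δ _
    rw [← map_one (Ideal.Quotient.mk P), Ideal.Quotient.eq]
    have hup : u - 1 = -p := by rw [← hpu]; ring
    have : (δ : Γ) • u - 1 = (δ : Γ) • (u - 1) := by rw [smul_sub, smul_one]
    rw [this, hup]
    exact ((hD δ).mp δ.2 (-p)).mp (P.neg_mem hp)
  have hvσ : ∀ σ : Γ, σ ∉ D → σ • v ∈ P := by
    intro σ hσ
    have hdvd : u ∣ v := by
      have := Finset.dvd_prod_of_mem (fun δ : D => (δ : Γ) • u) (Finset.mem_univ (1 : D))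
      simpa using this
    obtain ⟨w, hw⟩ := hdvd
    rw [hw, smul_mul']
    exact P.mul_mem_right _ (hu' σ hσ)
  -- the D-invariant element y
  let y : B := x * v
  have hyinv : ∀ δ ∈ D, δ • y = y := by
    intro δ hδ
    simp only [y]
    rw [smul_mul', hvinv δ hδ, hx δ ((hD δ).mp hδ)]
  have hyσ : ∀ σ : Γ, σ ∉ D → σ • y ∈ P := by
    intro σ hσ
    simp only [y]
    rw [smul_mul']
    exact P.mul_mem_left _ (hvσ σ hσ)
  have hxy : x - y ∈ P := by
    have : x - y = x * (1 - v) := by simp only [y]; ring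
    rw [this]
    exact P.mul_mem_left _ hv1
  -- the orbit of y
  let S : Finset B := Finset.univ.image (fun γ : Γ => γ • y)
  have hyS : y ∈ S := Finset.mem_image.mpr ⟨1, Finset.mem_univ _, one_smul _ _⟩
  refine ⟨∑ z ∈ S, z, ?_, ?_⟩
  · intro γ
    rw [Finset.smul_sum]
    have himg : S.image (fun z => γ • z) = S := by
      ext z
      simp only [S, Finset.mem_image, Finset.mem_univ, true_and, exists_exists_eq_and]
      constructor
      · rintro ⟨g, rfl⟩
        exact ⟨γ * g, mul_smul _ _ _⟩
      · rintro ⟨g, rfl⟩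
        exact ⟨γ⁻¹ * g, by rw [← mul_smul, mul_inv_cancel_left]⟩
    calc ∑ z ∈ S, γ • z = ∑ z ∈ S.image (fun z => γ • z), z :=
          (Finset.sum_image (f := fun z => z) (g := fun z => γ • z) (s := S)
            (fun a _ b _ hab => MulAction.injective γ hab)).symm
      _ = ∑ z ∈ S, z := by rw [himg]
  · rw [← Finset.add_sum_erase S (fun z => z) hyS]
    have hrest : ∑ z ∈ S.erase y, z ∈ P := by
      apply Ideal.sum_mem
      intro z hz
      rw [Finset.mem_erase] at hz
      obtain ⟨hne, hzS⟩ := hz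
      obtain ⟨σ, -, rfl⟩ := Finset.mem_image.mp hzS
      apply hyσ
      intro hσ
      exact hne (hyinv σ hσ)
    have : x - (y + ∑ z ∈ S.erase y, z) = (x - y) - ∑ z ∈ S.erase y, z := by ring
    rw [this]
    exact P.sub_mem hxy hrest

end Groth.Agent.S12936
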