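import Groth.Statements.S12937
import Groth.Agent.S12936

set_option autoImplicit false
set_option maxHeartbeats 1000000
universe u v
open InvTh

namespace Groth.Agent.S12937

open Polynomial

section Core

variable {B : Type u} [CommRing B] {G : Type v} [Group G] [Finite G] [MulSemiringAction G B]

/-- invariants of a subgroup -/
def invSub (H : Subgroup G) : Subring B where
  carrier := {b | ∀ h ∈ H, h • b = b}
  mul_mem' := fun {a b} ha hb h hh => by rw [smul_mul', ha h hh, hb h hh]
  one_mem' := fun h _ => smul_one h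
  add_mem' := fun {a b} ha hb h hh => by rw [smul_add, ha h hh, hb h hh]
  zero_mem' := fun h _ => smul_zero h
  neg_mem' := fun {a} ha h hh => by rw [smul_neg, ha h hh]

lemma prod_smul_mem_invSub (H : Subgroup G) [Fintype H] (z : B) :
    ∏ h : H, (h : G) • z ∈ invSub (B := B) H := by
  intro h' hh'
  rw [Finset.smul_prod']
  simp only [← mul_smul]
  exact Fintype.prod_equiv (Equiv.mulLeft (⟨h', hh'⟩ : H)) _ _ (fun δ => rfl)

variable (P : Ideal B) [P.IsMaximal]

lemma exists_inv_mod (H : Subgroup G) (hH : ∀ h ∈ H, ∀ y ∈ P, h • y ∈ P) (t : B)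
    (ht : t ∈ invSub (B := B) H) (htP : t ∉ P) :
    ∃ c ∈ invSub (B := B) H, t * c - 1 ∈ P := by
  classical
  cases nonempty_fintype G
  obtain ⟨z, hz⟩ : ∃ z, t * z - 1 ∈ P := by
    obtain ⟨y, i, hi, hyi⟩ := Ideal.IsMaximal.exists_inv (I := P) inferInstance htP
    refine ⟨y, ?_⟩
    have h1 : t * y - 1 = -i := by rw [← hyi]; ring
    rw [h1]
    exact P.neg_mem hi
  have hz' : ∀ h ∈ H, t * (h • z) - 1 ∈ P := by
    intro h hh
    have h1 : h • (t * z - 1) = t * (h • z) - 1 := by
      rw [smul_sub, smul_mul', smul_one, ht h hh]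
    rw [← h1]
    exact hH h hh _ hz
  refine ⟨t ^ (Fintype.card H - 1) * ∏ h : H, (h : G) • z,
    Subring.mul_mem _ (Subring.pow_mem _ ht _) (prod_smul_mem_invSub H z), ?_⟩
  rw [← Ideal.Quotient.eq, map_one, map_mul, map_mul, map_pow, map_prod]
  have hcard : Fintype.card H - 1 + 1 = Fintype.card H := Nat.sub_add_cancel Fintype.card_pos
  have h2 : ∀ h : H, Ideal.Quotient.mk P t * Ideal.Quotient.mk P ((h : G) • z) = 1 := by
    intro h
    rw [← map_mul, ← map_one (Ideal.Quotient.mk P), Ideal.Quotient.eq]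
    exact hz' h h.2
  calc Ideal.Quotient.mk P t * (Ideal.Quotient.mk P t ^ (Fintype.card H - 1) *
        ∏ h : H, Ideal.Quotient.mk P ((h : G) • z))
      = Ideal.Quotient.mk P t ^ Fintype.card H *
        ∏ h : H, Ideal.Quotient.mk P ((h : G) • z) := by
        rw [← mul_assoc, ← pow_succ', hcard]
    _ = ∏ h : H, (Ideal.Quotient.mk P t * Ideal.Quotient.mk P ((h : G) • z)) := by
        rw [Finset.prod_mul_distrib, Finset.prod_const, Finset.card_univ]
    _ = 1 := Finset.prod_eq_one (fun h _ => h2 h)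

/-- the subfield of residues of invariants -/
noncomputable def resField (H : Subgroup G) (hH : ∀ h ∈ H, ∀ y ∈ P, h • y ∈ P) :
    @Subfield (B ⧸ P) (Ideal.Quotient.field P).toDivisionRing :=
  letI := Ideal.Quotient.field P
  { toSubring := (invSub (B := B) H).map (Ideal.Quotient.mk P)
    inv_mem' := by
      rintro _ ⟨t, ht, rfl⟩
      by_cases htP : t ∈ P
      · rw [Ideal.Quotient.eq_zero_iff_mem.mpr htP, inv_zero]
        exact Subring.zero_mem _
      · obtain ⟨c, hc, htc⟩ := exists_inv_mod P H hH t ht htP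
        have h1 : Ideal.Quotient.mk P t * Ideal.Quotient.mk P c = 1 := by
          rw [← map_mul, ← map_one (Ideal.Quotient.mk P), Ideal.Quotient.eq]
          exact htc
        rw [inv_eq_of_mul_eq_one_right h1]
        exact ⟨c, hc, rfl⟩ }

lemma mk_mem_resField (H : Subgroup G) (hH : ∀ h ∈ H, ∀ y ∈ P, h • y ∈ P) {b : B}
    (hb : b ∈ invSub (B := B) H) : Ideal.Quotient.mk P b ∈ resField P H hH := ⟨b, hb, rfl⟩

lemma exists_of_mem_resField (H : Subgroup G) (hH : ∀ h ∈ H, ∀ y ∈ P, h • y ∈ P) {c : B ⧸ P}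
    (hc : c ∈ resField P H hH) : ∃ b ∈ invSub (B := B) H, Ideal.Quotient.mk P b = c := hc

/-- the polynomial with roots the conjugates of `x` under a subgroup -/
noncomputable def conjPoly (H : Subgroup G) [Fintype H] (x : B) : B[X] :=
  ∏ h : H, (X - C ((h : G) • x))

lemma conjPoly_coeff_mem (H : Subgroup G) [Fintype H] (x : B) (i : ℕ) :
    (conjPoly H x).coeff i ∈ invSub (B := B) H := by
  intro h' hh'
  have h1 : (conjPoly H x).map (MulSemiringAction.toRingHom G B h') = conjPoly H x := by
    unfold conjPoly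
    rw [Polynomial.map_prod]
    simp only [Polynomial.map_sub, Polynomial.map_X, Polynomial.map_C,
      MulSemiringAction.toRingHom_apply, ← mul_smul]
    exact Fintype.prod_equiv (Equiv.mulLeft (⟨h', hh'⟩ : H)) _ _ (fun δ => rfl)
  have h2 := congrArg (fun p => p.coeff i) h1
  simp only [Polynomial.coeff_map, MulSemiringAction.toRingHom_apply] at h2
  exact h2

lemma conjPoly_map (H : Subgroup G) [Fintype H] (hH : H ≤ P.inertia G) (x : B) :
    (conjPoly H x).map (Ideal.Quotient.mk P) =
      (X - C (Ideal.Quotient.mk P x)) ^ Fintype.card H := by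
  unfold conjPoly
  rw [Polynomial.map_prod]
  have h1 : ∀ h : H, (X - C ((h : G) • x)).map (Ideal.Quotient.mk P) =
      X - C (Ideal.Quotient.mk P x) := by
    intro h
    rw [Polynomial.map_sub, Polynomial.map_X, Polynomial.map_C]
    congr 2
    rw [Ideal.Quotient.eq]
    exact hH h.2 x
  rw [Finset.prod_congr rfl (fun h _ => h1 h), Finset.prod_const, Finset.card_univ]

/-- an element whose residue is separable over the invariants is congruent to an element fixed by
the inertia group -/
theorem sep_imp (x : B) (g : B[X]) (hg : ∀ (i : ℕ) (γ : G), γ • g.coeff i = g.coeff i)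
    (hsep : (g.map (Ideal.Quotient.mk P)).Separable) (hroot : g.eval x ∈ P) :
    ∃ y : B, (∀ γ : G, γ ∈ P.inertia G → γ • y = y) ∧ x - y ∈ P := by
  classical
  cases nonempty_fintype G
  letI : Field (B ⧸ P) := Ideal.Quotient.field P
  obtain ⟨T, hTdef⟩ : ∃ T : Subgroup G, T = P.inertia G := ⟨_, rfl⟩
  have hTmem : ∀ h ∈ T, ∀ b : B, h • b - b ∈ P := by
    intro h hh b
    rw [hTdef] at hh
    exact hh b
  have hT : ∀ h ∈ T, ∀ y ∈ P, h • y ∈ P := by
    intro h hh y hy
    have h1 : h • y - y ∈ P := hTmem h hh y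
    have h2 : h • y = (h • y - y) + y := by ring
    rw [h2]
    exact P.add_mem h1 hy
  let K : Subfield (B ⧸ P) := resField P T hT
  let xb : B ⧸ P := Ideal.Quotient.mk P x
  have hF : (X - C xb) ^ Fintype.card T ∈ Polynomial.lifts (algebraMap K (B ⧸ P)) := by
    rw [← conjPoly_map P T hTdef.le x, Polynomial.lifts_iff_coeff_lifts]
    intro n
    rw [Polynomial.coeff_map]
    exact ⟨⟨_, mk_mem_resField P T hT (conjPoly_coeff_mem T x n)⟩, rfl⟩
  have hGl : g.map (Ideal.Quotient.mk P) ∈ Polynomial.lifts (algebraMap K (B ⧸ P)) := by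
    rw [Polynomial.lifts_iff_coeff_lifts]
    intro n
    rw [Polynomial.coeff_map]
    exact ⟨⟨_, mk_mem_resField P T hT (fun h _ => hg n h)⟩, rfl⟩
  obtain ⟨F₀, hF₀, -, hF₀m⟩ := Polynomial.lifts_and_natDegree_eq_and_monic hF
    ((Polynomial.monic_X_sub_C xb).pow _)
  obtain ⟨G₀, hG₀⟩ := (Polynomial.mem_lifts _).mp hGl
  have hxF : Polynomial.aeval xb F₀ = 0 := by
    rw [Polynomial.aeval_def, Polynomial.eval₂_eq_eval_map, hF₀, Polynomial.eval_pow,
      Polynomial.eval_sub, Polynomial.eval_X, Polynomial.eval_C, sub_self,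
      zero_pow Fintype.card_ne_zero]
  have hxG : Polynomial.aeval xb G₀ = 0 := by
    rw [Polynomial.aeval_def, Polynomial.eval₂_eq_eval_map, hG₀, Polynomial.eval_map,
      Polynomial.eval₂_at_apply]
    exact Ideal.Quotient.eq_zero_iff_mem.mpr hroot
  have hint : IsIntegral K xb := ⟨F₀, hF₀m, (Polynomial.aeval_def xb F₀).symm.trans hxF⟩
  have hGsep : G₀.Separable := by
    rw [← Polynomial.separable_map (algebraMap K (B ⧸ P)), hG₀]
    exact hsep
  have hmsep : (minpoly K xb).Separable := hGsep.of_dvd (minpoly.dvd K xb hxG)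
  have hdiv : (minpoly K xb).map (algebraMap K (B ⧸ P)) ∣ (X - C xb) ^ Fintype.card T := by
    rw [← hF₀]
    exact Polynomial.map_dvd _ (minpoly.dvd K xb hxF)
  obtain ⟨j, -, hj⟩ := (dvd_prime_pow (Polynomial.prime_X_sub_C xb) _).mp hdiv
  have hmon : ((minpoly K xb).map (algebraMap K (B ⧸ P))).Monic := (minpoly.monic hint).map _
  have heq : (minpoly K xb).map (algebraMap K (B ⧸ P)) = (X - C xb) ^ j :=
    Polynomial.eq_of_monic_of_associated hmon ((Polynomial.monic_X_sub_C xb).pow j) hj
  have hsepj : ((X - C xb) ^ j).Separable := by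
    rw [← heq]
    exact hmsep.map
  have hj0 : j ≠ 0 := by
    rintro rfl
    rw [pow_zero] at heq
    have h1 := congrArg Polynomial.natDegree heq
    rw [Polynomial.natDegree_map, Polynomial.natDegree_one] at h1
    exact (minpoly.natDegree_pos hint).ne' h1
  have hj1 : j = 1 :=
    (Polynomial.Separable.of_pow (Polynomial.not_isUnit_X_sub_C xb) hj0 hsepj).2
  have hdeg : (minpoly K xb).degree = 1 := by
    rw [← Polynomial.degree_map (minpoly K xb) (algebraMap K (B ⧸ P)), heq, hj1, pow_one,
      Polynomial.degree_X_sub_C]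
  obtain ⟨k, hk⟩ := minpoly.mem_range_of_degree_eq_one K xb hdeg
  obtain ⟨y, hy, hyk⟩ := exists_of_mem_resField P T hT k.2
  refine ⟨y, fun γ hγ => hy γ (hTdef ▸ hγ), ?_⟩
  rw [← Ideal.Quotient.eq]
  exact (hyk.trans hk).symm

/-- for a group stabilising the maximal ideal, the residue of an element fixed by the inertia group
is separable over the residues of the invariants -/
theorem inv_imp_sep (hG : ∀ (g : G), ∀ y ∈ P, g • y ∈ P) (y : B)
    (hy : ∀ t ∈ P.inertia G, t • y = y) :
    ∃ g : B[X], (∀ (i : ℕ) (γ : G), γ • g.coeff i = g.coeff i) ∧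
      (g.map (Ideal.Quotient.mk P)).Separable ∧ g.eval y ∈ P := by
  classical
  cases nonempty_fintype G
  letI : Field (B ⧸ P) := Ideal.Quotient.field P
  let σ : G → (B ⧸ P →+* B ⧸ P) := fun g =>
    Ideal.Quotient.lift P ((Ideal.Quotient.mk P).comp (MulSemiringAction.toRingHom G B g))
      (fun a ha => Ideal.Quotient.eq_zero_iff_mem.mpr (hG g a ha))
  have σ_mk : ∀ (g : G) (b : B), σ g (Ideal.Quotient.mk P b) = Ideal.Quotient.mk P (g • b) :=
    fun g b => rfl
  have σ_mul : ∀ (g g' : G) (c : B ⧸ P), σ (g * g') c = σ g (σ g' c) := by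
    intro g g' c
    obtain ⟨b, rfl⟩ := Ideal.Quotient.mk_surjective c
    rw [σ_mk, σ_mk, σ_mk, mul_smul]
  have σ_one : ∀ c : B ⧸ P, σ 1 c = c := by
    intro c
    obtain ⟨b, rfl⟩ := Ideal.Quotient.mk_surjective c
    rw [σ_mk, one_smul]
  have σ_inj : ∀ g, Function.Injective (σ g) := fun g => (σ g).injective
  obtain ⟨T, hTdef⟩ : ∃ T : Subgroup G, T = P.inertia G := ⟨_, rfl⟩
  have hT_iff : ∀ g, g ∈ T ↔ ∀ c, σ g c = c := by
    intro g
    rw [hTdef]
    constructor
    · intro hg c
      obtain ⟨b, rfl⟩ := Ideal.Quotient.mk_surjective c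
      rw [σ_mk, Ideal.Quotient.eq]
      exact hg b
    · intro h b
      have h1 := h (Ideal.Quotient.mk P b)
      rw [σ_mk, Ideal.Quotient.eq] at h1
      exact h1
  have hTstab : ∀ h ∈ T, ∀ y ∈ P, h • y ∈ P := fun h _ y hy => hG h y hy
  have hTnormal : T.Normal := by
    refine ⟨fun t ht g => (hT_iff _).mpr (fun c => ?_)⟩
    rw [σ_mul (g * t) g⁻¹, σ_mul g t, (hT_iff t).mp ht, ← σ_mul, mul_inv_cancel, σ_one]
  haveI := hTnormal
  let K : Subfield (B ⧸ P) := resField P T hTstab
  have hinvT : ∀ (g : G) (b : B), b ∈ invSub (B := B) T → g • b ∈ invSub (B := B) T := by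
    intro g b hb t ht
    have h1 : g⁻¹ * t * g ∈ T := by
      have h2 := hTnormal.conj_mem t ht g⁻¹
      rwa [inv_inv] at h2
    calc t • g • b = g • (g⁻¹ * t * g) • b := by
          rw [← mul_smul, ← mul_smul]; congr 1; group
      _ = g • b := by rw [hb _ h1]
  have hσK : ∀ g, ∀ c ∈ K, σ g c ∈ K := by
    intro g c hc
    obtain ⟨b, hb, rfl⟩ := exists_of_mem_resField P T hTstab hc
    rw [σ_mk]
    exact mk_mem_resField P T hTstab (hinvT g b hb)
  have hkey : ∀ g, (∀ c ∈ K, σ g c = c) → g ∈ T := by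
    intro g hg
    rw [hT_iff]
    intro c
    obtain ⟨b, rfl⟩ := Ideal.Quotient.mk_surjective c
    have h1 : ((X - C (Ideal.Quotient.mk P b)) ^ Fintype.card T).map (σ g) =
        (X - C (Ideal.Quotient.mk P b)) ^ Fintype.card T := by
      rw [← conjPoly_map P T hTdef.le b]
      apply Polynomial.ext
      intro n
      rw [Polynomial.coeff_map, Polynomial.coeff_map]
      exact hg _ (mk_mem_resField P T hTstab (conjPoly_coeff_mem T b n))
    rw [Polynomial.map_pow, Polynomial.map_sub, Polynomial.map_X, Polynomial.map_C] at h1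
    have h2 := congrArg (Polynomial.eval (Ideal.Quotient.mk P b)) h1
    rw [Polynomial.eval_pow, Polynomial.eval_pow, Polynomial.eval_sub, Polynomial.eval_sub,
      Polynomial.eval_X, Polynomial.eval_C, Polynomial.eval_C, sub_self,
      zero_pow Fintype.card_ne_zero] at h2
    have h3 := (pow_eq_zero_iff Fintype.card_ne_zero).mp h2
    exact (sub_eq_zero.mp h3).symm
  -- the quotient by the inertia group and independence of characters
  haveI : Fintype (G ⧸ T) := Fintype.ofFinite (G ⧸ T)
  let ψ : G ⧸ T → (K →* (B ⧸ P)) := fun q => ((σ q.out).comp K.subtype).toMonoidHom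
  have hψ : ∀ (q : G ⧸ T) (c : K), ψ q c = σ q.out c.1 := fun q c => rfl
  have hψinj : Function.Injective ψ := by
    intro q q' h
    have h1 : ∀ c ∈ K, σ (q'.out⁻¹ * q.out) c = c := by
      intro c hc
      have h2 : σ q.out c = σ q'.out c := DFunLike.congr_fun h ⟨c, hc⟩
      rw [σ_mul, h2, ← σ_mul, inv_mul_cancel, σ_one]
    have h3 := hkey _ h1
    have h4 : (QuotientGroup.mk q'.out : G ⧸ T) = QuotientGroup.mk q.out :=
      QuotientGroup.eq.mpr h3
    rw [QuotientGroup.out_eq', QuotientGroup.out_eq'] at h4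
    exact h4.symm
  have hli : LinearIndependent (B ⧸ P) (fun q : G ⧸ T => (ψ q : K → B ⧸ P)) :=
    (linearIndependent_monoidHom K (B ⧸ P)).comp ψ hψinj
  obtain ⟨u₀, hu₀⟩ : ∃ u₀ : K, ∑ q : G ⧸ T, ψ q u₀ ≠ 0 := by
    by_contra hcon
    push Not at hcon
    have h1 : ∑ q : G ⧸ T, (1 : B ⧸ P) • (ψ q : K → B ⧸ P) = 0 := by
      funext u
      rw [Finset.sum_apply]
      simp only [one_smul, Pi.zero_apply]
      exact hcon u
    have h2 := Fintype.linearIndependent_iff.mp hli (fun _ => 1) h1 (QuotientGroup.mk 1)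
    exact one_ne_zero h2
  obtain ⟨u, hu, huu₀⟩ := exists_of_mem_resField P T hTstab u₀.2
  let tr : B → B := fun b => ∑ q : G ⧸ T, q.out • b
  have htr_inv : ∀ b ∈ invSub (B := B) T, ∀ g : G, g • tr b = tr b := by
    intro b hb g
    show g • ∑ q : G ⧸ T, q.out • b = ∑ q : G ⧸ T, q.out • b
    rw [Finset.smul_sum]
    have h1 : ∀ q : G ⧸ T, g • q.out • b = ((QuotientGroup.mk g : G ⧸ T) * q).out • b := by
      intro q
      obtain ⟨h, hh⟩ := QuotientGroup.mk_out_eq_mul T (g * q.out)
      have h2 : (QuotientGroup.mk g : G ⧸ T) * q = QuotientGroup.mk (g * q.out) := by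
        rw [QuotientGroup.mk_mul, QuotientGroup.out_eq']
      rw [h2, hh, mul_smul, hb h h.2, mul_smul]
    rw [Finset.sum_congr rfl (fun q _ => h1 q)]
    exact Fintype.sum_equiv (Equiv.mulLeft (QuotientGroup.mk g : G ⧸ T)) _ _ (fun q => rfl)
  have htr_mk : ∀ b, Ideal.Quotient.mk P (tr b) =
      ∑ q : G ⧸ T, σ q.out (Ideal.Quotient.mk P b) := by
    intro b
    show Ideal.Quotient.mk P (∑ q : G ⧸ T, q.out • b) = _
    rw [map_sum]
    exact Finset.sum_congr rfl (fun q _ => (σ_mk q.out b).symm)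
  have hs1 : Ideal.Quotient.mk P (tr u) = ∑ q : G ⧸ T, ψ q u₀ := by
    rw [htr_mk]
    apply Finset.sum_congr rfl
    intro q _
    rw [hψ, ← huu₀]
  have htu : tr u ∉ P := by
    intro h
    apply hu₀
    rw [← hs1]
    exact Ideal.Quotient.eq_zero_iff_mem.mpr h
  have htop : ∀ h ∈ (⊤ : Subgroup G), ∀ y ∈ P, h • y ∈ P := fun h _ y hy => hG h y hy
  obtain ⟨cinv, hcinv, htc⟩ := exists_inv_mod P ⊤ htop (tr u) (fun h _ => htr_inv u hu h) htu
  have htc1 : Ideal.Quotient.mk P (tr u) * Ideal.Quotient.mk P cinv = 1 := by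
    rw [← map_mul, ← map_one (Ideal.Quotient.mk P), Ideal.Quotient.eq]
    exact htc
  have hlift : ∀ w ∈ K, (∀ g, σ g w = w) →
      ∃ b' : B, (∀ g : G, g • b' = b') ∧ Ideal.Quotient.mk P b' = w := by
    intro w hw hfix
    obtain ⟨bw, hbw, rfl⟩ := exists_of_mem_resField P T hTstab hw
    have hs2 : Ideal.Quotient.mk P (tr (u * bw)) =
        Ideal.Quotient.mk P (tr u) * Ideal.Quotient.mk P bw := by
      rw [htr_mk, htr_mk, Finset.sum_mul]
      apply Finset.sum_congr rfl
      intro q _
      rw [map_mul, map_mul, hfix]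
    refine ⟨tr (u * bw) * cinv, fun g => ?_, ?_⟩
    · rw [smul_mul', htr_inv (u * bw) (Subring.mul_mem _ hu hbw) g,
        hcinv g (Subgroup.mem_top g)]
    · rw [map_mul, hs2, mul_comm (Ideal.Quotient.mk P (tr u)), mul_assoc, htc1, mul_one]
  -- the polynomial of the conjugates of the residue of `y`
  let a : B ⧸ P := Ideal.Quotient.mk P y
  have haK : a ∈ K := mk_mem_resField P T hTstab (fun t ht => hy t (hTdef ▸ ht))
  let O : Finset (B ⧸ P) := Finset.univ.image (fun g : G => σ g a)
  have haO : a ∈ O := Finset.mem_image.mpr ⟨1, Finset.mem_univ _, σ_one a⟩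
  have hOK : ∀ c ∈ O, c ∈ K := by
    intro c hc
    obtain ⟨g, -, rfl⟩ := Finset.mem_image.mp hc
    exact hσK g a haK
  have hOimg : ∀ g, O.image (σ g) = O := by
    intro g
    ext c
    constructor
    · intro hc
      obtain ⟨c', hc', rfl⟩ := Finset.mem_image.mp hc
      obtain ⟨g', -, rfl⟩ := Finset.mem_image.mp hc'
      exact Finset.mem_image.mpr ⟨g * g', Finset.mem_univ _, σ_mul g g' a⟩
    · intro hc
      obtain ⟨g', -, rfl⟩ := Finset.mem_image.mp hc
      exact Finset.mem_image.mpr ⟨σ (g⁻¹ * g') a,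
        Finset.mem_image.mpr ⟨g⁻¹ * g', Finset.mem_univ _, rfl⟩,
        by rw [← σ_mul, mul_inv_cancel_left]⟩
  obtain ⟨hp, hpdef⟩ : ∃ hp : (B ⧸ P)[X], hp = ∏ c ∈ O, (X - C c) := ⟨_, rfl⟩
  have hsepp : hp.Separable := by
    rw [hpdef]
    exact Polynomial.separable_prod_X_sub_C_iff'.mpr (fun x _ y _ hxy => hxy)
  have hrootp : hp.eval a = 0 := by
    rw [hpdef, Polynomial.eval_prod]
    exact Finset.prod_eq_zero haO
      (by rw [Polynomial.eval_sub, Polynomial.eval_X, Polynomial.eval_C, sub_self])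
  have hcoefK : ∀ i, hp.coeff i ∈ K := by
    intro i
    have h1 : hp ∈ Polynomial.lifts (algebraMap K (B ⧸ P)) := by
      rw [hpdef]
      refine prod_mem (fun c hc => ?_)
      refine (Polynomial.mem_lifts _).mpr ⟨X - C ⟨c, hOK c hc⟩, ?_⟩
      rw [Polynomial.map_sub, Polynomial.map_X, Polynomial.map_C]
      rfl
    obtain ⟨k, hk⟩ := (Polynomial.lifts_iff_coeff_lifts hp).mp h1 i
    rw [← hk]
    exact k.2
  have hcoef_fix : ∀ g i, σ g (hp.coeff i) = hp.coeff i := by
    intro g i
    have h1 : hp.map (σ g) = hp := by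
      rw [hpdef, Polynomial.map_prod]
      simp only [Polynomial.map_sub, Polynomial.map_X, Polynomial.map_C]
      calc ∏ c ∈ O, (X - C (σ g c)) = ∏ c ∈ O.image (σ g), (X - C c) :=
            (Finset.prod_image (s := O) (g := σ g)
              (f := fun c => (X - C c : (B ⧸ P)[X]))
              (fun x _ y _ hxy => σ_inj g hxy)).symm
        _ = ∏ c ∈ O, (X - C c) := by rw [hOimg g]
    have h2 := congrArg (fun p => p.coeff i) h1
    simpa only [Polynomial.coeff_map] using h2
  have hcoef_lift : ∀ i, ∃ b' : B, (∀ g : G, g • b' = b') ∧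
      Ideal.Quotient.mk P b' = hp.coeff i :=
    fun i => hlift _ (hcoefK i) (fun g => hcoef_fix g i)
  choose bc hbc_inv hbc_mk using hcoef_lift
  obtain ⟨gpoly, hgdef⟩ : ∃ gpoly : B[X],
      gpoly = ∑ i ∈ Finset.range (hp.natDegree + 1), Polynomial.monomial i (bc i) := ⟨_, rfl⟩
  have hgmap : gpoly.map (Ideal.Quotient.mk P) = hp := by
    rw [hgdef, Polynomial.map_sum]
    simp only [Polynomial.map_monomial, hbc_mk]
    exact hp.as_sum_range.symm
  refine ⟨gpoly, ?_, ?_, ?_⟩
  · intro i γ
    have h1 : gpoly.coeff i ∈ invSub (B := B) (⊤ : Subgroup G) := by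
      rw [hgdef, Polynomial.finsetSum_coeff]
      apply Subring.sum_mem
      intro j _
      rw [Polynomial.coeff_monomial]
      split_ifs
      · exact fun g _ => hbc_inv j g
      · exact Subring.zero_mem _
    exact h1 γ (Subgroup.mem_top γ)
  · rw [hgmap]
    exact hsepp
  · rw [← Ideal.Quotient.eq_zero_iff_mem, ← Polynomial.eval₂_at_apply, ← Polynomial.eval_map,
      hgmap]
    exact hrootp

end Core


/-- Let `B` be a commutative ring with an action of a finite group `Γ` by ring automorphisms, `P` a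
maximal ideal of `B`, `T = {γ | γ x - x ∈ P for all x}` its inertia group, `B^T` the inertia ring
and `B^Γ` the ring of invariants, so that `k(P ∩ B^Γ) ⊆ k(P ∩ B^T) ⊆ k(P) = B/P`. Then `k(P ∩ B^T)`
is the largest separable extension of `k(P ∩ B^Γ)` inside `k(P)`: an element `x` of `B` is congruent
modulo `P` to a `T`-invariant element if and only if `x mod P` is a root of some polynomial with
`Γ`-invariant coefficients whose reduction modulo `P` is separable. (The published statement is for
every prime ideal `P`, as an equality of residue fields; this row takes `P` maximal, the case to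
which the published proof reduces by localising at `P ∩ B^Γ`.) -/
theorem result
    (B : Type u) [CommRing B] (Γ : Type v) [Group Γ] [Finite Γ] [MulSemiringAction Γ B]
    (P : Ideal B) [P.IsMaximal] (x : B) :
    (∃ y : B, (∀ γ : Γ, γ ∈ P.inertia Γ → γ • y = y) ∧ x - y ∈ P) ↔
      ∃ g : Polynomial B, (∀ (i : ℕ) (γ : Γ), γ • g.coeff i = g.coeff i) ∧
        (g.map (Ideal.Quotient.mk P)).Separable ∧ Polynomial.aeval x g ∈ P := by
  constructor
  · rintro ⟨y, hy, hxy⟩
    classical
    let D : Subgroup Γ :=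
      { carrier := {γ | ∀ z : B, z ∈ P ↔ γ • z ∈ P}
        one_mem' := by intro z; simp
        mul_mem' := by
          intro a b ha hb z
          rw [mul_smul]
          exact (hb z).trans (ha (b • z))
        inv_mem' := by
          intro a ha z
          have := ha (a⁻¹ • z)
          rw [smul_inv_smul] at this
          exact this.symm }
    have hGD : ∀ (g : D), ∀ z ∈ P, g • z ∈ P := fun g z hz => (g.2 z).mp hz
    have hyD : ∀ t ∈ P.inertia D, t • y = y := by
      intro t ht
      exact hy (t : Γ) (fun z => ht z)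
    obtain ⟨gD, hgD, hsepD, hrootD⟩ := inv_imp_sep P hGD y hyD
    have hc : ∀ i, ∃ c : B, (∀ γ : Γ, γ • c = c) ∧ gD.coeff i - c ∈ P := by
      intro i
      exact Groth.Agent.S12936.result B Γ P (gD.coeff i) (fun γ hγ => hgD i ⟨γ, hγ⟩)
    choose c hc_inv hc_mem using hc
    have hmapeq : (∑ i ∈ Finset.range (gD.natDegree + 1),
        Polynomial.monomial i (c i)).map (Ideal.Quotient.mk P) =
          gD.map (Ideal.Quotient.mk P) := by
      calc (∑ i ∈ Finset.range (gD.natDegree + 1),
            Polynomial.monomial i (c i)).map (Ideal.Quotient.mk P)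
          = ∑ i ∈ Finset.range (gD.natDegree + 1),
              Polynomial.monomial i (Ideal.Quotient.mk P (c i)) := by
            rw [Polynomial.map_sum]
            simp only [Polynomial.map_monomial]
        _ = ∑ i ∈ Finset.range (gD.natDegree + 1),
              Polynomial.monomial i (Ideal.Quotient.mk P (gD.coeff i)) := by
            apply Finset.sum_congr rfl
            intro i _
            rw [Ideal.Quotient.eq.mpr (hc_mem i)]
        _ = (∑ i ∈ Finset.range (gD.natDegree + 1),
              Polynomial.monomial i (gD.coeff i)).map (Ideal.Quotient.mk P) := by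
            rw [Polynomial.map_sum]
            simp only [Polynomial.map_monomial]
        _ = gD.map (Ideal.Quotient.mk P) := by rw [← gD.as_sum_range]
    refine ⟨∑ i ∈ Finset.range (gD.natDegree + 1), Polynomial.monomial i (c i), ?_, ?_, ?_⟩
    · intro i γ
      have h1 : (∑ j ∈ Finset.range (gD.natDegree + 1), Polynomial.monomial j (c j)).coeff i ∈
          invSub (B := B) (⊤ : Subgroup Γ) := by
        rw [Polynomial.finsetSum_coeff]
        apply Subring.sum_mem
        intro j _
        rw [Polynomial.coeff_monomial]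
        split_ifs
        · exact fun g _ => hc_inv j g
        · exact Subring.zero_mem _
      exact h1 γ (Subgroup.mem_top γ)
    · rw [hmapeq]
      exact hsepD
    · show Polynomial.eval x _ ∈ P
      rw [← Ideal.Quotient.eq_zero_iff_mem, ← Polynomial.eval₂_at_apply, ← Polynomial.eval_map,
        hmapeq, Ideal.Quotient.eq.mpr hxy, Polynomial.eval_map, Polynomial.eval₂_at_apply]
      exact Ideal.Quotient.eq_zero_iff_mem.mpr hrootD
  · rintro ⟨g, hg, hsep, hroot⟩
    exact sep_imp P x g hg hsep hroot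

end Groth.Agent.S12937
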