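import Groth.Statements.S15077
import Mathlib
import Groth.Agent.H18.IsoOfGen
import Groth.Agent.H18.TensorAssoc
import Groth.Agent.H18.AmpleTwistGG
import Groth.Agent.H8.InvRestrict
import Groth.Prelude.Def_SecTwist

set_option autoImplicit false
set_option maxHeartbeats 400000
set_option backward.isDefEq.respectTransparency.types false
universe u
open CategoryTheory CategoryTheory.Limits AlgebraicGeometry
open OrdSurf

namespace Groth.Agent.S15077

open TopologicalSpace Opposite
open Groth.Agent.H8 (res_res res_smul ringRes_res section_eq_of_cover app_res)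
open Groth.Agent.H18.SecTw Groth.Agent.H18.TensorGen

section ProjSpaceProper
variable (n : ℕ) (R : Type u) [CommRing R]

instance isScalarTower_polyGrading :
    IsScalarTower R (CohB1.polyGrading n R 0) (MvPolynomial (Fin (n + 1)) R) :=
  IsScalarTower.of_algebraMap_eq (R := R) (S := ↥(CohB1.polyGrading n R 0))
    (A := MvPolynomial (Fin (n + 1)) R) (fun _ => rfl)

instance finiteType_polyGrading :
    Algebra.FiniteType (CohB1.polyGrading n R 0) (MvPolynomial (Fin (n + 1)) R) :=
  Algebra.FiniteType.of_restrictScalars_finiteType R _ _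

theorem algebraMap_polyGrading_zero_surjective :
    Function.Surjective (algebraMap R (CohB1.polyGrading n R 0)) := by
  rintro ⟨p, hp⟩
  have hp' : p ∈ MvPolynomial.homogeneousSubmodule (Fin (n + 1)) R 0 := hp
  rw [MvPolynomial.homogeneousSubmodule_zero] at hp'
  obtain ⟨r, hr⟩ := Submodule.mem_one.mp hp'
  exact ⟨r, Subtype.ext hr⟩

instance isProper_projSpace_toSpec : IsProper (CohB1.ProjSpace.toSpec n R) := by
  haveI : IsClosedImmersion
      (Spec.map (CommRingCat.ofHom (algebraMap R (CohB1.polyGrading n R 0)))) :=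
    IsClosedImmersion.spec_of_surjective _ (algebraMap_polyGrading_zero_surjective n R)
  exact inferInstanceAs (IsProper (Proj.toSpecZero (CohB1.polyGrading n R) ≫
    Spec.map (CommRingCat.ofHom (algebraMap R (CohB1.polyGrading n R 0)))))

end ProjSpaceProper

variable {X : Scheme.{u}}

/-! ### The functor `- ⊗ L` -/

section Functor
open MonoidalCategory

instance tensorRight_additive (N : CohB1.PMod X) : (tensorRight N).Additive where
  map_add {A B f g} := by
    ext1 U
    exact MonoidalPreadditive.add_whiskerRight (C := ModuleCat _) (f.app U) (g.app U)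

set_option backward.isDefEq.respectTransparency false in
noncomputable def F1 (X : Scheme.{u}) : X.Modules ⥤ CohB1.PMod X :=
  Scheme.Modules.toPresheafOfModules X

set_option backward.isDefEq.respectTransparency false in
noncomputable def F3 (X : Scheme.{u}) : CohB1.PMod X ⥤ X.Modules := CohB1.sheafifyMod X

set_option backward.isDefEq.respectTransparency false in
instance F1_additive : (F1 X).Additive where
  map_add := rfl

set_option backward.isDefEq.respectTransparency false in
instance F3_additive : (F3 X).Additive := by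
  unfold F3 CohB1.sheafifyMod
  exact (PresheafOfModules.sheafificationAdjunction (𝟙 X.ringCatSheaf.obj)).left_adjoint_additive

noncomputable def T (L : X.Modules) : X.Modules ⥤ X.Modules :=
  F1 X ⋙ tensorRight (CohB1.toPMod L) ⋙ F3 X

instance T_additive (L : X.Modules) : (T L).Additive := by
  unfold T
  infer_instance

set_option backward.isDefEq.respectTransparency false in
/-- `f ⊗ L`. -/
noncomputable def Tmap (L : X.Modules) {A B : X.Modules} (f : A ⟶ B) :
    CohB1.tensorMod A L ⟶ CohB1.tensorMod B L := (T L).map f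

set_option backward.isDefEq.respectTransparency false in
theorem Tmap_comp (L : X.Modules) {A B C : X.Modules} (f : A ⟶ B) (g : B ⟶ C) :
    Tmap L f ≫ Tmap L g = Tmap L (f ≫ g) := ((T L).map_comp f g).symm

set_option backward.isDefEq.respectTransparency false in
theorem Tmap_id (L A : X.Modules) : Tmap L (𝟙 A) = 𝟙 _ := (T L).map_id A

set_option backward.isDefEq.respectTransparency false in
theorem Tbiprod (L A B : X.Modules) :
    Nonempty (CohB1.tensorMod (A ⊞ B) L ≅ CohB1.tensorMod A L ⊞ CohB1.tensorMod B L) :=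
  haveI : PreservesBinaryBiproducts (T L) := preservesBinaryBiproducts_of_preservesBiproducts (T L)
  ⟨(T L).mapBiprod A B⟩

end Functor

/-! ### Calculus of `Nonempty (A ≅ B)` -/

theorem ntrans {C : Type*} [Category C] {A B D : C} (h1 : Nonempty (A ≅ B))
    (h2 : Nonempty (B ≅ D)) : Nonempty (A ≅ D) := by
  obtain ⟨e1⟩ := h1
  obtain ⟨e2⟩ := h2
  exact ⟨e1 ≪≫ e2⟩

theorem nsymm {C : Type*} [Category C] {A B : C} (h1 : Nonempty (A ≅ B)) : Nonempty (B ≅ A) := by
  obtain ⟨e1⟩ := h1
  exact ⟨e1.symm⟩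

theorem nrefl {C : Type*} [Category C] (A : C) : Nonempty (A ≅ A) := ⟨Iso.refl A⟩

theorem ncongr {A A' B B' : X.Modules} (h1 : Nonempty (A ≅ A')) (h2 : Nonempty (B ≅ B')) :
    Nonempty (CohB1.tensorMod A B ≅ CohB1.tensorMod A' B') := by
  obtain ⟨e1⟩ := h1
  obtain ⟨e2⟩ := h2
  exact Groth.Agent.H18.TensorModIso.nonempty_tensorMod_congr e1 e2

theorem ncomm (A B : X.Modules) : Nonempty (CohB1.tensorMod A B ≅ CohB1.tensorMod B A) :=
  Groth.Agent.H18.AmpleTwistGG.nonempty_tensorMod_comm A B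

theorem nassoc (F : X.Modules) {A B : X.Modules} (hA : PicF.IsInvertible A)
    (hB : PicF.IsInvertible B) :
    Nonempty (CohB1.tensorMod (CohB1.tensorMod F A) B ≅ CohB1.tensorMod F (CohB1.tensorMod A B)) :=
  Groth.Agent.H18.TensorAssoc.nonempty_tensorMod_assoc F A B hA hB

theorem nunitR (A : X.Modules) : Nonempty (CohB1.tensorMod A (Coh.structureModule X) ≅ A) :=
  ⟨SecTwist.unitorR A⟩

theorem nunitL (A : X.Modules) : Nonempty (CohB1.tensorMod (Coh.structureModule X) A ≅ A) :=
  ntrans (ncomm _ _) (nunitR A)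

/-- `I ⊗ (I ⊗ M) ≅ M` when `I ⊗ I ≅ O`. -/
theorem sqCancel {I M : X.Modules} (hI : PicF.IsInvertible I) (hM : PicF.IsInvertible M)
    (hII : Nonempty (CohB1.tensorMod I I ≅ Coh.structureModule X)) :
    Nonempty (CohB1.tensorMod I (CohB1.tensorMod I M) ≅ M) :=
  ntrans (nsymm (nassoc I hI hM)) (ntrans (ncongr hII (nrefl M)) (nunitL M))

theorem bcongr {A A' B B' : X.Modules} (h1 : Nonempty (A ≅ A')) (h2 : Nonempty (B ≅ B')) :
    Nonempty (A ⊞ B ≅ A' ⊞ B') := by
  obtain ⟨e1⟩ := h1
  obtain ⟨e2⟩ := h2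
  exact ⟨biprod.mapIso e1 e2⟩

theorem bcomm (A B : X.Modules) : Nonempty (A ⊞ B ≅ B ⊞ A) := ⟨biprod.braiding A B⟩

theorem bassoc (A B C : X.Modules) : Nonempty ((A ⊞ B) ⊞ C ≅ A ⊞ (B ⊞ C)) :=
  ⟨biprod.associator A B C⟩

theorem bcongr4 {A A' B B' C C' D D' : X.Modules} (h1 : Nonempty (A ≅ A'))
    (h2 : Nonempty (B ≅ B')) (h3 : Nonempty (C ≅ C')) (h4 : Nonempty (D ≅ D')) :
    Nonempty (A ⊞ (B ⊞ (C ⊞ D)) ≅ A' ⊞ (B' ⊞ (C' ⊞ D'))) :=
  bcongr h1 (bcongr h2 (bcongr h3 h4))

theorem dist4 (L A B C D : X.Modules) :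
    Nonempty (CohB1.tensorMod (A ⊞ (B ⊞ (C ⊞ D))) L ≅
      CohB1.tensorMod A L ⊞ (CohB1.tensorMod B L ⊞ (CohB1.tensorMod C L ⊞ CohB1.tensorMod D L))) :=
  ntrans (Tbiprod L A _) (bcongr (nrefl _) (ntrans (Tbiprod L B _)
    (bcongr (nrefl _) (Tbiprod L C D))))

theorem permI (A B C D : X.Modules) :
    Nonempty (B ⊞ (A ⊞ (D ⊞ C)) ≅ A ⊞ (B ⊞ (C ⊞ D))) :=
  ntrans (bcongr (nrefl B) (bcongr (nrefl A) (bcomm D C)))
    (ntrans (nsymm (bassoc B A _)) (ntrans (bcongr (bcomm B A) (nrefl _)) (bassoc A B _)))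

theorem permJ (A B C D : X.Modules) :
    Nonempty (C ⊞ (D ⊞ (A ⊞ B)) ≅ A ⊞ (B ⊞ (C ⊞ D))) :=
  ntrans (nsymm (bassoc C D _)) (ntrans (bcomm _ _) (bassoc A B _))

theorem permK (A B C D : X.Modules) :
    Nonempty (D ⊞ (C ⊞ (B ⊞ A)) ≅ A ⊞ (B ⊞ (C ⊞ D))) :=
  ntrans (bcomm D _) (ntrans (bcongr (ntrans (bcomm C _)
    (ntrans (bcongr (bcomm B A) (nrefl C)) (bassoc A B C))) (nrefl D))
    (ntrans (bassoc A _ D) (bcongr (nrefl A) (bassoc B C D))))

/-! ### Endomorphisms of an invertible module are global functions -/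

theorem exists_scalar {L : X.Modules} (hL : PicF.IsInvertible L) (ψ : L ⟶ L) :
    ∃ g : Γ(X, ⊤), ∀ (W : X.Opens) (s : Γ(L, W)),
      ψ.app W s = X.presheaf.map (homOfLE (le_top : W ≤ ⊤)).op g • s := by
  classical
  choose V lam hxV hlam using fun x : X => exists_isGen hL x
  have hu : ∀ x, ∃ u : Γ(X, V x), u • lam x = ψ.app (V x) (lam x) := fun x => (hlam x).self.2 _
  choose u hu using hu
  -- the key local formula
  have key : ∀ (x : X) (W : X.Opens) (hW : W ≤ V x) (s : Γ(L, W)),
      ψ.app W s = X.presheaf.map (homOfLE hW).op (u x) • s := by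
    intro x W hW s
    obtain ⟨r, hr⟩ := ((hlam x).res hW).self.2 s
    have hr' : r • L.presheaf.map (homOfLE hW).op (lam x) = s := hr
    rw [← hr', Scheme.Modules.Hom.app_smul, app_res, ← hu x, res_smul, ← mul_smul, ← mul_smul,
      mul_comm]
  have hcompat : TopCat.Presheaf.IsCompatible X.presheaf V u := by
    intro x y
    change X.presheaf.map (homOfLE (inf_le_left : V x ⊓ V y ≤ V x)).op (u x) =
      X.presheaf.map (homOfLE (inf_le_right : V x ⊓ V y ≤ V y)).op (u y)
    have hgen := (hlam y).res (inf_le_right : V x ⊓ V y ≤ V y)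
    apply hgen.self.1
    show X.presheaf.map (homOfLE (inf_le_left : V x ⊓ V y ≤ V x)).op (u x) •
        L.presheaf.map (homOfLE (inf_le_right : V x ⊓ V y ≤ V y)).op (lam y) =
      X.presheaf.map (homOfLE (inf_le_right : V x ⊓ V y ≤ V y)).op (u y) •
        L.presheaf.map (homOfLE (inf_le_right : V x ⊓ V y ≤ V y)).op (lam y)
    rw [← key x _ inf_le_left, ← key y _ inf_le_right]
  have hcover : (⊤ : X.Opens) ≤ iSup V := fun x _ => Opens.mem_iSup.mpr ⟨x, hxV x⟩
  obtain ⟨g, hg, -⟩ := TopCat.Sheaf.existsUnique_gluing' (F := X.sheaf)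
    V ⊤ (fun x => homOfLE le_top) hcover u hcompat
  refine ⟨g, fun W s => ?_⟩
  refine section_eq_of_cover L _ _ (fun x hx => ?_)
  refine ⟨W ⊓ V x, inf_le_left, ⟨hx, hxV x⟩, ?_⟩
  rw [← app_res, key x _ inf_le_right, res_smul, ringRes_res]
  congr 1
  have h1 : X.presheaf.map (homOfLE (le_top : V x ≤ ⊤)).op g = u x := hg x
  rw [← h1, ringRes_res]

theorem id_ne_zero [IsIntegral X] {L : X.Modules} (hL : PicF.IsInvertible L) :
    (𝟙 L : L ⟶ L) ≠ 0 := by
  intro h
  obtain ⟨x⟩ : Nonempty X := inferInstance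
  obtain ⟨V, lam, hxV, hlam⟩ := exists_isGen hL x
  haveI : Nonempty V := ⟨⟨x, hxV⟩⟩
  have h0 : lam = 0 := congrArg (fun φ : L ⟶ L => φ.app V lam) h
  have h1 : (1 : Γ(X, V)) = 0 := by
    apply hlam.self.1
    show (1 : Γ(X, V)) • lam = (0 : Γ(X, V)) • lam
    rw [h0, smul_zero, smul_zero]
  exact one_ne_zero h1

theorem nonempty_iso_of_comp_ne_zero (hfield : IsField (Γ(X, ⊤) : Type u)) {L M : X.Modules}
    (hL : PicF.IsInvertible L) (hM : PicF.IsInvertible M) (a : L ⟶ M) (b : M ⟶ L)
    (hab : a ≫ b ≠ 0) : Nonempty (L ≅ M) := by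
  obtain ⟨g, hg⟩ := exists_scalar hL (a ≫ b)
  have hg0 : g ≠ 0 := by
    rintro rfl
    apply hab
    apply Scheme.Modules.hom_ext
    intro W
    ext s
    refine (hg W s).trans ?_
    rw [map_zero, zero_smul]
    rfl
  obtain ⟨ginv, hginv⟩ := hfield.mul_inv_cancel hg0
  haveI : IsIso a := by
    refine Groth.Agent.H18.IsoOfGen.isIso_of_isGen_image hL a (fun x => ?_)
    obtain ⟨V, lam, mu, hxV, hlam, hmu⟩ := exists_isGen_pair hL hM x
    refine ⟨V, lam, hxV, ?_⟩
    obtain ⟨c, hc⟩ := hmu.self.2 (a.app V lam)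
    obtain ⟨d, hd⟩ := hlam.self.2 (b.app V mu)
    have hc' : c • mu = a.app V lam := hc
    have hd' : d • lam = b.app V mu := hd
    have h1 : (a ≫ b).app V lam = (c * d) • lam := by
      show b.app V (a.app V lam) = _
      rw [← hc', Scheme.Modules.Hom.app_smul, ← hd', ← mul_smul]
    have h2 : c * d = X.presheaf.map (homOfLE (le_top : V ≤ ⊤)).op g := by
      apply hlam.self.1
      show (c * d) • lam = X.presheaf.map (homOfLE (le_top : V ≤ ⊤)).op g • lam
      rw [← h1, hg V lam]
    have hunit : d * X.presheaf.map (homOfLE (le_top : V ≤ ⊤)).op ginv * c = 1 := by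
      rw [mul_comm, ← mul_assoc, h2, ← map_mul, hginv, map_one]
    rw [← hc']
    have hgen : IsGen M V ((d * X.presheaf.map (homOfLE (le_top : V ≤ ⊤)).op ginv) • (c • mu)) := by
      rw [← mul_smul, hunit, one_smul]
      exact hmu
    exact Groth.Agent.H18.IsoOfGen.isGen_of_isGen_smul _ _ hgen
  exact ⟨asIso a⟩

theorem split2 {L A B : X.Modules} (a : L ⟶ A ⊞ B) (b : A ⊞ B ⟶ L) (h : a ≫ b ≠ 0) :
    (a ≫ biprod.fst) ≫ (biprod.inl ≫ b) ≠ 0 ∨ (a ≫ biprod.snd) ≫ (biprod.inr ≫ b) ≠ 0 := by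
  by_contra hcon
  push_neg at hcon
  apply h
  have h1 : a ≫ b = a ≫ (biprod.fst ≫ biprod.inl + biprod.snd ≫ biprod.inr) ≫ b := by
    rw [biprod.total, Category.id_comp]
  rw [h1, Preadditive.add_comp, Preadditive.comp_add]
  have h2 := hcon.1
  have h3 := hcon.2
  simp only [Category.assoc] at h2 h3 ⊢
  rw [h2, h3, add_zero]


/-- Let k be an algebraically closed field of characteristic zero and X a smooth projective surface over
k (an integral k-scheme, smooth over k, of dimension two, admitting a closed immersion over k into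
some projective space P^n_k). Let I and J be invertible O_X-modules that are two-torsion, I ⊗ I ≅
O_X and J ⊗ J ≅ O_X, let K = I ⊗ J, and let F = O_X ⊕ I ⊕ J ⊕ K (so that O_X, I, J, K form a Klein
four-group of classes in Pic X when I, J, K are nontrivial and distinct). Then for every invertible
O_X-module L, the O_X-modules F ⊗ L and F are isomorphic if and only if L is isomorphic to one of
O_X, I, J, K. (The published statement is for the abelian surface E_1 × E_2, with I and J pulled
back from two-torsion line bundles on the two elliptic curves and F the underlying module of the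
quaternion algebra built from them; this row is stated on any smooth projective surface for any
two-torsion invertible I and J.) -/
theorem result (k : Type u) [Field k] [IsAlgClosed k] [CharZero k]
    (X : Scheme.{u}) [X.Over (Spec (CommRingCat.of k))] [IsIntegral X]
    [Smooth (X ↘ Spec (CommRingCat.of k))] (hdim : topologicalKrullDim X = 2)
    (hproj : ∃ (n : ℕ) (ι : X ⟶ CohB1.ProjSpace n k), IsClosedImmersion ι ∧
      ι ≫ CohB1.ProjSpace.toSpec n k = X ↘ Spec (CommRingCat.of k))
    (I J : X.Modules) (hI : PicF.IsInvertible I) (hJ : PicF.IsInvertible J)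
    (hI2 : Nonempty (CohB1.tensorMod I I ≅ Coh.structureModule X))
    (hJ2 : Nonempty (CohB1.tensorMod J J ≅ Coh.structureModule X))
    (L : X.Modules) (hL : PicF.IsInvertible L) :
    Nonempty (CohB1.tensorMod (Coh.structureModule X ⊞ I ⊞ J ⊞ CohB1.tensorMod I J) L ≅
        Coh.structureModule X ⊞ I ⊞ J ⊞ CohB1.tensorMod I J) ↔
      (Nonempty (L ≅ Coh.structureModule X) ∨ Nonempty (L ≅ I) ∨ Nonempty (L ≅ J) ∨
        Nonempty (L ≅ CohB1.tensorMod I J)) := by
  obtain ⟨n, ι, hι, hιf⟩ := hproj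
  haveI := hι
  haveI : IsProper (X ↘ Spec (CommRingCat.of k)) := by
    rw [← hιf]
    infer_instance
  have hfield : IsField (Γ(X, ⊤) : Type u) :=
    isField_of_universallyClosed k (X ↘ Spec (CommRingCat.of k))
  have hO : PicF.IsInvertible (Coh.structureModule X) :=
    Groth.Agent.H8.isInvertible_structureModule X
  have hK : PicF.IsInvertible (CohB1.tensorMod I J) := isInvertible_tensorMod hI hJ
  constructor
  · rintro ⟨e⟩
    obtain ⟨w⟩ := nunitL L
    let σ : L ⟶ Coh.structureModule X ⊞ I ⊞ J ⊞ CohB1.tensorMod I J :=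
      w.inv ≫ Tmap L biprod.inl ≫ e.hom
    let ρ : Coh.structureModule X ⊞ I ⊞ J ⊞ CohB1.tensorMod I J ⟶ L :=
      e.inv ≫ Tmap L biprod.fst ≫ w.hom
    have hσρ : σ ≫ ρ = 𝟙 L := by
      show (w.inv ≫ Tmap L biprod.inl ≫ e.hom) ≫ (e.inv ≫ Tmap L biprod.fst ≫ w.hom) = 𝟙 L
      simp only [Category.assoc, Iso.hom_inv_id_assoc]
      rw [← Category.assoc (Tmap L biprod.inl), Tmap_comp, biprod.inl_fst, Tmap_id,
        Category.id_comp, Iso.inv_hom_id]
    have h0 : σ ≫ ρ ≠ 0 := by
      rw [hσρ]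
      exact id_ne_zero hL
    rcases split2 σ ρ h0 with h | h
    · exact Or.inl (nonempty_iso_of_comp_ne_zero hfield hL hO _ _ h)
    · rcases split2 _ _ h with h | h
      · exact Or.inr (Or.inl (nonempty_iso_of_comp_ne_zero hfield hL hI _ _ h))
      · rcases split2 _ _ h with h | h
        · exact Or.inr (Or.inr (Or.inl (nonempty_iso_of_comp_ne_zero hfield hL hJ _ _ h)))
        · exact Or.inr (Or.inr (Or.inr (nonempty_iso_of_comp_ne_zero hfield hL hK _ _ h)))
  · intro h
    have hKI : Nonempty (CohB1.tensorMod (CohB1.tensorMod I J) I ≅ J) :=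
      ntrans (ncomm _ _) (sqCancel hI hJ hI2)
    have hKJ : Nonempty (CohB1.tensorMod (CohB1.tensorMod I J) J ≅ I) :=
      ntrans (ncongr (ncomm I J) (nrefl J)) (ntrans (ncomm _ _) (sqCancel hJ hI hJ2))
    rcases h with h | h | h | h
    · exact ntrans (ncongr (nrefl _) h) (ntrans (dist4 _ _ _ _ _)
        (bcongr4 (nunitR _) (nunitR _) (nunitR _) (nunitR _)))
    · refine ntrans (ncongr (nrefl _) h) (ntrans (dist4 _ _ _ _ _) (ntrans
        (bcongr4 (nunitL I) hI2 (ncomm J I) hKI) (permI _ _ _ _)))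
    · refine ntrans (ncongr (nrefl _) h) (ntrans (dist4 _ _ _ _ _) (ntrans
        (bcongr4 (nunitL J) (nrefl _) hJ2 hKJ) (permJ _ _ _ _)))
    · have hIK : Nonempty (CohB1.tensorMod I (CohB1.tensorMod I J) ≅ J) := sqCancel hI hJ hI2
      have hJK : Nonempty (CohB1.tensorMod J (CohB1.tensorMod I J) ≅ I) :=
        ntrans (ncongr (nrefl J) (ncomm I J)) (sqCancel hJ hI hJ2)
      have hKK : Nonempty (CohB1.tensorMod (CohB1.tensorMod I J) (CohB1.tensorMod I J) ≅
          Coh.structureModule X) :=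
        ntrans (nsymm (nassoc (CohB1.tensorMod I J) hI hJ)) (ntrans (ncongr hKI (nrefl J)) hJ2)
      refine ntrans (ncongr (nrefl _) h) (ntrans (dist4 _ _ _ _ _) (ntrans
        (bcongr4 (nunitL _) hIK hJK hKK) (permK _ _ _ _)))

end Groth.Agent.S15077
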