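import Groth.Statements.S15339
import Mathlib
import Groth.Agent.S15077
import Groth.Agent.H18.TensorPowIso
import Groth.Agent.H18.HomOfGens
import Groth.Agent.H18.TensorSec
import Groth.Agent.H18.IsoOfGen

set_option autoImplicit false
set_option maxHeartbeats 400000
set_option backward.isDefEq.respectTransparency.types false
universe u
open CategoryTheory CategoryTheory.Limits AlgebraicGeometry
open VBCurve

namespace Groth.Agent.S15339

open TopologicalSpace Opposite
open Groth.Agent.H8 (res_res res_smul ringRes_res section_eq_of_cover app_res)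
open Groth.Agent.H18.SecTw Groth.Agent.H18.TensorGen
open Groth.Agent.S15077

variable {X : Scheme.{u}}

/-! ### The scalar of an endomorphism of an invertible module -/

theorem scalar_unique {M : X.Modules} (hM : PicF.IsInvertible M) (g g' : Γ(X, ⊤))
    (h : ∀ (W : X.Opens) (s : Γ(M, W)),
      X.presheaf.map (homOfLE (le_top : W ≤ ⊤)).op g • s =
      X.presheaf.map (homOfLE (le_top : W ≤ ⊤)).op g' • s) : g = g' := by
  choose V lam hxV hlam using fun x : X => exists_isGen hM x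
  have hcover : (⊤ : X.Opens) ≤ iSup V := fun x _ => Opens.mem_iSup.mpr ⟨x, hxV x⟩
  refine TopCat.Sheaf.eq_of_locally_eq' (F := X.sheaf) V ⊤ (fun x => homOfLE le_top) hcover g g'
    (fun x => ?_)
  exact (hlam x).self.1 (h (V x) (lam x))

noncomputable def sc {M : X.Modules} (hM : PicF.IsInvertible M) (ψ : M ⟶ M) : Γ(X, ⊤) :=
  Classical.choose (exists_scalar hM ψ)

theorem sc_spec {M : X.Modules} (hM : PicF.IsInvertible M) (ψ : M ⟶ M) (W : X.Opens)
    (s : Γ(M, W)) :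
    ψ.app W s = X.presheaf.map (homOfLE (le_top : W ≤ ⊤)).op (sc hM ψ) • s :=
  Classical.choose_spec (exists_scalar hM ψ) W s

theorem sc_eq {M : X.Modules} (hM : PicF.IsInvertible M) (ψ : M ⟶ M) (g : Γ(X, ⊤))
    (h : ∀ (W : X.Opens) (s : Γ(M, W)),
      ψ.app W s = X.presheaf.map (homOfLE (le_top : W ≤ ⊤)).op g • s) :
    sc hM ψ = g :=
  scalar_unique hM _ _ (fun W s => (sc_spec hM ψ W s).symm.trans (h W s))

theorem sc_add {M : X.Modules} (hM : PicF.IsInvertible M) (ψ ψ' : M ⟶ M) :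
    sc hM (ψ + ψ') = sc hM ψ + sc hM ψ' := by
  refine sc_eq hM _ _ (fun W s => ?_)
  rw [map_add, add_smul, ← sc_spec hM ψ, ← sc_spec hM ψ']
  rfl

theorem sc_comp {M : X.Modules} (hM : PicF.IsInvertible M) (ψ ψ' : M ⟶ M) :
    sc hM (ψ ≫ ψ') = sc hM ψ * sc hM ψ' := by
  refine sc_eq hM _ _ (fun W s => ?_)
  rw [map_mul, mul_comm, mul_smul, ← sc_spec hM ψ, ← sc_spec hM ψ']
  rfl

theorem sc_id {M : X.Modules} (hM : PicF.IsInvertible M) : sc hM (𝟙 M) = 1 := by
  refine sc_eq hM _ _ (fun W s => ?_)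
  rw [map_one, one_smul]
  rfl

theorem sc_zero {M : X.Modules} (hM : PicF.IsInvertible M) : sc hM (0 : M ⟶ M) = 0 := by
  refine sc_eq hM _ _ (fun W s => ?_)
  rw [map_zero, zero_smul]
  rfl

noncomputable def scHom {M : X.Modules} (hM : PicF.IsInvertible M) : (M ⟶ M) →+ Γ(X, ⊤) where
  toFun := sc hM
  map_zero' := sc_zero hM
  map_add' := sc_add hM

theorem sc_sum {M : X.Modules} (hM : PicF.IsInvertible M) {ι : Type*} (s : Finset ι)
    (f : ι → (M ⟶ M)) : sc hM (∑ i ∈ s, f i) = ∑ i ∈ s, sc hM (f i) :=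
  map_sum (scHom hM) f s

/-! ### Cancellation -/

theorem cancel_right {M N : X.Modules} (hM : PicF.IsInvertible M) (hN : PicF.IsInvertible N)
    (e : CohB1.tensorMod M N ≅ N) : Nonempty (Coh.structureModule X ≅ M) := by
  classical
  choose V μ ν hxV hμ hν using fun x : X => exists_isGen_pair hM hN x
  have hm : ∀ x, ∃ m : Γ(M, V x), tm M N m (ν x) = e.inv.app (V x) (ν x) :=
    fun x => (Groth.Agent.H18.TensorSec.bijective_tm (F := M) (hν x)).2 _
  choose m hm using hm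
  have key : ∀ (x : X) (W : X.Opens) (hW : W ≤ V x) (n : Γ(N, W)),
      tm M N (M.presheaf.map (homOfLE hW).op (m x)) n = e.inv.app W n := by
    intro x W hW n
    obtain ⟨r, hr⟩ := ((hν x).res hW).self.2 n
    have hr' : r • N.presheaf.map (homOfLE hW).op (ν x) = n := hr
    rw [← hr', tm_smul_right, ← tm_res, hm x, Scheme.Modules.Hom.app_smul, app_res]
  have hcohm : ∀ (i j : X) (W : X.Opens) (hi : W ≤ V i) (hj : W ≤ V j),
      M.presheaf.map (homOfLE hi).op (m i) = M.presheaf.map (homOfLE hj).op (m j) := by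
    intro i j W hi hj
    apply (Groth.Agent.H18.TensorSec.bijective_tm (F := M) ((hν i).res hi)).1
    show tm M N _ _ = tm M N _ _
    rw [key i W hi, key j W hj]
  have hα : ∀ i : X, IsGen (Coh.structureModule X) (V i)
      (show Γ(Coh.structureModule X, V i) from (1 : Γ(X, V i))) := fun i => isGen_one (V i)
  have hres1 : ∀ (W W' : X.Opens) (h : W' ≤ W),
      (Coh.structureModule X).presheaf.map (homOfLE h).op
        (show Γ(Coh.structureModule X, W) from (1 : Γ(X, W))) =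
      (show Γ(Coh.structureModule X, W') from (1 : Γ(X, W'))) :=
    fun W W' h => map_one (X.presheaf.map (homOfLE h).op).hom
  have hcoh : Groth.Agent.H18.HomOfGens.Coh V
      (fun i => (show Γ(Coh.structureModule X, V i) from (1 : Γ(X, V i)))) m := by
    refine Groth.Agent.H18.HomOfGens.coh_of_transition hα (fun i j => 1) (fun i j => ?_)
      (fun i j => ?_)
    · rw [one_smul, hres1, hres1]
    · rw [one_smul]
      exact hcohm j i _ _ _
  obtain ⟨φ, hφ⟩ := Groth.Agent.H18.HomOfGens.exists_hom_of_gens (fun p => ⟨p, hxV p⟩) hα hcoh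
  haveI : IsIso φ := by
    refine Groth.Agent.H18.IsoOfGen.isIso_of_isGen_image
      (Groth.Agent.H8.isInvertible_structureModule X) φ (fun x => ?_)
    refine ⟨V x, (show Γ(Coh.structureModule X, V x) from (1 : Γ(X, V x))), hxV x, ?_⟩
    rw [hφ x]
    obtain ⟨c, hc⟩ := (hμ x).self.2 (m x)
    have hc' : c • μ x = m x := hc
    obtain ⟨d, hd⟩ := (hν x).self.2 (e.hom.app (V x) (tm M N (μ x) (ν x)))
    have hd' : d • ν x = e.hom.app (V x) (tm M N (μ x) (ν x)) := hd
    have hinv : e.hom.app (V x) (e.inv.app (V x) (ν x)) = ν x :=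
      congrArg (fun ψ : N ⟶ N => ψ.app (V x) (ν x)) e.inv_hom_id
    have h1 : (c * d) • ν x = (1 : Γ(X, V x)) • ν x := by
      rw [one_smul, mul_smul, hd', ← Scheme.Modules.Hom.app_smul, ← tm_smul_left, hc', hm x, hinv]
    have h2 : c * d = 1 := (hν x).self.1 h1
    rw [← hc']
    apply Groth.Agent.H18.IsoOfGen.isGen_of_isGen_smul d (c • μ x)
    rw [← mul_smul, mul_comm, h2, one_smul]
    exact hμ x
  exact ⟨asIso φ⟩

theorem pow_inj {L : X.Modules} (hL : PicF.IsInvertible L)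
    (hnt : ∀ m : ℕ, 0 < m → ¬ Nonempty (CohB1.tensorPow L m ≅ Coh.structureModule X))
    {a b : ℕ} (h : Nonempty (CohB1.tensorPow L a ≅ CohB1.tensorPow L b)) : a = b := by
  by_contra hab
  wlog hlt : a < b generalizing a b
  · exact this (nsymm h) (fun h' => hab h'.symm) (by omega)
  obtain ⟨m, hm⟩ : ∃ m, b = a + m := ⟨b - a, by omega⟩
  have hm0 : 0 < m := by omega
  have h1 : Nonempty (CohB1.tensorMod (CohB1.tensorPow L m) (CohB1.tensorPow L a) ≅
      CohB1.tensorPow L a) :=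
    ntrans (Groth.Agent.H18.TensorPowIso.nonempty_tensorPow_add hL m a)
      (ntrans (Groth.Agent.H18.TensorPowIso.nonempty_tensorPow_congr L (by omega : m + a = b))
        (nsymm h))
  obtain ⟨e⟩ := h1
  obtain ⟨e'⟩ := cancel_right (isInvertible_tensorPow hL m) (isInvertible_tensorPow hL a) e
  exact hnt m hm0 ⟨e'.symm⟩

/-! ### Finite decompositions and the Krull–Schmidt count -/

structure Dec (E : X.Modules) where
  A : Type
  [fin : Fintype A]
  [dec : DecidableEq A]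
  N : A → X.Modules
  ι : ∀ a, N a ⟶ E
  π : ∀ a, E ⟶ N a
  ι_π_self : ∀ a, ι a ≫ π a = 𝟙 (N a)
  ι_π_ne : ∀ a b, a ≠ b → ι a ≫ π b = 0
  total : ∑ a, π a ≫ ι a = 𝟙 E

attribute [instance] Dec.fin Dec.dec

theorem total_of_jointly_epi {E : X.Modules} {A : Type} [Fintype A] [DecidableEq A]
    (N : A → X.Modules) (ι : ∀ a, N a ⟶ E) (π : ∀ a, E ⟶ N a)
    (h1 : ∀ a, ι a ≫ π a = 𝟙 (N a)) (h2 : ∀ a b, a ≠ b → ι a ≫ π b = 0)
    (hepi : ∀ (f g : E ⟶ E), (∀ a, ι a ≫ f = ι a ≫ g) → f = g) :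
    ∑ a, π a ≫ ι a = 𝟙 E := by
  apply hepi
  intro a
  rw [Preadditive.comp_sum, Category.comp_id]
  rw [Finset.sum_eq_single a]
  · rw [← Category.assoc, h1, Category.id_comp]
  · intro b _ hb
    rw [← Category.assoc, h2 a b (Ne.symm hb), zero_comp]
  · intro h
    exact absurd (Finset.mem_univ a) h

theorem sum_through {E E' : X.Modules} (D' : Dec E') (e : E ≅ E') {P Q : X.Modules}
    (f : P ⟶ E) (g : E ⟶ Q) :
    ∑ b : D'.A, (f ≫ e.hom ≫ D'.π b) ≫ (D'.ι b ≫ e.inv ≫ g) = f ≫ g := by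
  have h1 : ∑ b : D'.A, (f ≫ e.hom ≫ D'.π b) ≫ (D'.ι b ≫ e.inv ≫ g) =
      (f ≫ e.hom) ≫ (∑ b : D'.A, D'.π b ≫ D'.ι b) ≫ (e.inv ≫ g) := by
    rw [Preadditive.sum_comp, Preadditive.comp_sum]
    refine Finset.sum_congr rfl (fun b _ => ?_)
    simp only [Category.assoc]
  rw [h1, D'.total, Category.id_comp, Category.assoc, Iso.hom_inv_id_assoc]

abbrev Sub {E : X.Modules} (D : Dec E) (M : X.Modules) : Type :=
  {a : D.A // Nonempty (M ≅ D.N a)}

theorem ks_count (hfield : IsField (Γ(X, ⊤) : Type u)) {E E' : X.Modules} (D : Dec E)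
    (D' : Dec E') (hN' : ∀ b, PicF.IsInvertible (D'.N b))
    (e : E ≅ E') {M : X.Modules} (hM : PicF.IsInvertible M) :
    Nat.card (Sub D M) ≤ Nat.card (Sub D' M) := by
  classical
  haveI : Nontrivial (Γ(X, ⊤) : Type u) := hfield.nontrivial
  have φ : ∀ a : Sub D M, M ≅ D.N a.1 := fun a => Classical.choice a.2
  have ψ : ∀ b : Sub D' M, M ≅ D'.N b.1 := fun b => Classical.choice b.2
  let R₁ : Matrix (Sub D M) (Sub D' M) (Γ(X, ⊤) : Type u) :=
    fun a b => sc hM ((((φ a).hom ≫ D.ι a.1) ≫ e.hom ≫ D'.π b.1) ≫ (ψ b).inv)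
  let R₂ : Matrix (Sub D' M) (Sub D M) (Γ(X, ⊤) : Type u) :=
    fun b a => sc hM ((ψ b).hom ≫ (D'.ι b.1 ≫ e.inv ≫ (D.π a.1 ≫ (φ a).inv)))
  have hmul : R₁ * R₂ = 1 := by
    ext a a'
    rw [Matrix.mul_apply, Matrix.one_apply]
    have hterm0 : ∀ b : D'.A, ¬ Nonempty (M ≅ D'.N b) →
        (((φ a).hom ≫ D.ι a.1) ≫ e.hom ≫ D'.π b) ≫
          (D'.ι b ≫ e.inv ≫ (D.π a'.1 ≫ (φ a').inv)) = 0 := by
      intro b hb
      by_contra h
      exact hb (nonempty_iso_of_comp_ne_zero hfield hM (hN' b) _ _ h)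
    have hsub : ∑ b : Sub D' M, (((φ a).hom ≫ D.ι a.1) ≫ e.hom ≫ D'.π b.1) ≫
          (D'.ι b.1 ≫ e.inv ≫ (D.π a'.1 ≫ (φ a').inv)) =
        ∑ b : D'.A, (((φ a).hom ≫ D.ι a.1) ≫ e.hom ≫ D'.π b) ≫
          (D'.ι b ≫ e.inv ≫ (D.π a'.1 ≫ (φ a').inv)) := by
      refine (Finset.sum_subtype
        (Finset.univ.filter (fun b : D'.A => Nonempty (M ≅ D'.N b)))
        (fun x => ⟨fun h => (Finset.mem_filter.mp h).2,
          fun h => Finset.mem_filter.mpr ⟨Finset.mem_univ _, h⟩⟩)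
        (fun b : D'.A => (((φ a).hom ≫ D.ι a.1) ≫ e.hom ≫ D'.π b) ≫
          (D'.ι b ≫ e.inv ≫ (D.π a'.1 ≫ (φ a').inv)))).symm.trans ?_
      exact Finset.sum_filter_of_ne (fun b _ hb => by
        by_contra h
        exact hb (hterm0 b h))
    have hstep : ∀ b : Sub D' M, R₁ a b * R₂ b a' =
        sc hM ((((φ a).hom ≫ D.ι a.1) ≫ e.hom ≫ D'.π b.1) ≫
          (D'.ι b.1 ≫ e.inv ≫ (D.π a'.1 ≫ (φ a').inv))) := by
      intro b
      show sc hM _ * sc hM _ = _
      rw [← sc_comp]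
      congr 1
      simp only [Category.assoc, Iso.inv_hom_id_assoc]
    rw [Finset.sum_congr rfl (fun b _ => hstep b), ← sc_sum, hsub,
      sum_through D' e ((φ a).hom ≫ D.ι a.1) (D.π a'.1 ≫ (φ a').inv)]
    by_cases haa : a = a'
    · subst haa
      rw [if_pos rfl]
      have h3 : ((φ a).hom ≫ D.ι a.1) ≫ (D.π a.1 ≫ (φ a).inv) = 𝟙 M := by
        rw [Category.assoc, ← Category.assoc (D.ι a.1), D.ι_π_self, Category.id_comp,
          Iso.hom_inv_id]
      rw [h3, sc_id]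
    · rw [if_neg haa]
      have hne : a.1 ≠ a'.1 := fun h => haa (Subtype.ext h)
      have h3 : ((φ a).hom ≫ D.ι a.1) ≫ (D.π a'.1 ≫ (φ a').inv) = 0 := by
        rw [Category.assoc, ← Category.assoc (D.ι a.1), D.ι_π_ne _ _ hne, zero_comp, comp_zero]
      rw [h3, sc_zero]
  have hrank : Fintype.card (Sub D M) ≤ Fintype.card (Sub D' M) := by
    calc Fintype.card (Sub D M)
        = (1 : Matrix (Sub D M) (Sub D M) (Γ(X, ⊤) : Type u)).rank := Matrix.rank_one.symm
      _ = (R₁ * R₂).rank := by rw [hmul]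
      _ ≤ R₁.rank := Matrix.rank_mul_le_left R₁ R₂
      _ ≤ Fintype.card (Sub D' M) := Matrix.rank_le_card_width R₁
  rw [Nat.card_eq_fintype_card, Nat.card_eq_fintype_card]
  exact hrank

/-! ### Nested coproducts -/

noncomputable def nι {n : ℕ} (c : Fin n → ℕ) (G : Fin n → X.Modules)
    (a : Σ i : Fin n, Fin (c i)) :
    G a.1 ⟶ ∐ fun i : Fin n => ∐ fun _ : Fin (c i) => G i :=
  Sigma.ι (fun _ : Fin (c a.1) => G a.1) a.2 ≫
    Sigma.ι (fun i : Fin n => ∐ fun _ : Fin (c i) => G i) a.1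

noncomputable def nπ {n : ℕ} (c : Fin n → ℕ) (G : Fin n → X.Modules)
    (a : Σ i : Fin n, Fin (c i)) :
    (∐ fun i : Fin n => ∐ fun _ : Fin (c i) => G i) ⟶ G a.1 :=
  Sigma.π (fun i : Fin n => ∐ fun _ : Fin (c i) => G i) a.1 ≫
    Sigma.π (fun _ : Fin (c a.1) => G a.1) a.2

theorem nι_nπ_self {n : ℕ} (c : Fin n → ℕ) (G : Fin n → X.Modules)
    (a : Σ i : Fin n, Fin (c i)) : nι c G a ≫ nπ c G a = 𝟙 (G a.1) := by
  unfold nι nπ
  rw [Category.assoc, Sigma.ι_π_eq_id_assoc, Sigma.ι_π_eq_id]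

theorem nι_nπ_ne {n : ℕ} (c : Fin n → ℕ) (G : Fin n → X.Modules)
    (a b : Σ i : Fin n, Fin (c i)) (hab : a ≠ b) : nι c G a ≫ nπ c G b = 0 := by
  obtain ⟨i, j⟩ := a
  obtain ⟨i', j'⟩ := b
  by_cases h : i = i'
  · subst h
    have hj : j ≠ j' := fun h' => hab (by rw [h'])
    unfold nι nπ
    rw [Category.assoc, Sigma.ι_π_eq_id_assoc]
    exact Sigma.ι_π_of_ne _ hj
  · unfold nι nπ
    rw [Category.assoc, Sigma.ι_π_of_ne_assoc _ h, zero_comp, comp_zero]

theorem n_hom_ext {n : ℕ} (c : Fin n → ℕ) (G : Fin n → X.Modules) {Q : X.Modules}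
    (f g : (∐ fun i : Fin n => ∐ fun _ : Fin (c i) => G i) ⟶ Q)
    (h : ∀ a, nι c G a ≫ f = nι c G a ≫ g) : f = g := by
  refine Sigma.hom_ext _ _ (fun i => Sigma.hom_ext _ _ (fun j => ?_))
  have := h ⟨i, j⟩
  unfold nι at this
  simpa only [Category.assoc] using this

noncomputable def decNested {n : ℕ} (c : Fin n → ℕ) (G : Fin n → X.Modules) :
    Dec (∐ fun i : Fin n => ∐ fun _ : Fin (c i) => G i) where
  A := Σ i : Fin n, Fin (c i)
  N := fun a => G a.1
  ι := nι c G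
  π := nπ c G
  ι_π_self := nι_nπ_self c G
  ι_π_ne := nι_nπ_ne c G
  total := total_of_jointly_epi _ _ _ (nι_nπ_self c G) (nι_nπ_ne c G) (n_hom_ext c G)

theorem single_iso {n : ℕ} (c : Fin n → ℕ) (G : Fin n → X.Modules) (i₀ : Fin n)
    (h1 : c i₀ = 1) (h0 : ∀ i, i ≠ i₀ → c i = 0) :
    Nonempty ((∐ fun i : Fin n => ∐ fun _ : Fin (c i) => G i) ≅ G i₀) := by
  have huniq : ∀ a : Σ i : Fin n, Fin (c i), a = ⟨i₀, ⟨0, by omega⟩⟩ := by
    rintro ⟨i, j⟩
    by_cases hi : i = i₀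
    · subst hi
      have hj : j = ⟨0, by omega⟩ := Fin.ext (by have := j.2; omega)
      rw [hj]
    · exfalso
      have h3 := j.2
      have h4 := h0 i hi
      omega
  refine ⟨⟨nπ c G ⟨i₀, ⟨0, by omega⟩⟩, nι c G ⟨i₀, ⟨0, by omega⟩⟩, ?_,
    nι_nπ_self c G ⟨i₀, ⟨0, by omega⟩⟩⟩⟩
  have ht : ∑ a : Σ i : Fin n, Fin (c i), nπ c G a ≫ nι c G a =
      𝟙 (∐ fun i : Fin n => ∐ fun _ : Fin (c i) => G i) := (decNested c G).total
  rw [Finset.sum_eq_single (⟨i₀, ⟨0, by omega⟩⟩ : Σ i : Fin n, Fin (c i))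
    (fun b _ hb => absurd (huniq b) hb) (fun h => absurd (Finset.mem_univ _) h)] at ht
  exact ht

theorem card_fiber {n : ℕ} (c : Fin n → ℕ) (p : Fin n → Prop) (i₀ : Fin n)
    (hp : ∀ i, p i ↔ i = i₀) :
    Nat.card {a : Σ i : Fin n, Fin (c i) // p a.1} = c i₀ := by
  rw [Nat.card_congr ((Equiv.subtypeEquivRight
    (fun a : Σ i : Fin n, Fin (c i) => hp a.1)).trans (Equiv.sigmaSubtype i₀))]
  exact Nat.card_fin _

theorem card_fiber_empty {n : ℕ} (c : Fin n → ℕ) (p : Fin n → Prop) (hp : ∀ i, ¬ p i) :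
    Nat.card {a : Σ i : Fin n, Fin (c i) // p a.1} = 0 := by
  haveI : IsEmpty {a : Σ i : Fin n, Fin (c i) // p a.1} := ⟨fun a => hp _ a.2⟩
  exact Nat.card_of_isEmpty

theorem card_pow {L : X.Modules} (hL : PicF.IsInvertible L)
    (hnt : ∀ m : ℕ, 0 < m → ¬ Nonempty (CohB1.tensorPow L m ≅ Coh.structureModule X))
    (P : Polynomial ℕ) (t : ℕ) :
    Nat.card {a : Σ i : Fin (P.natDegree + 1), Fin (P.coeff ↑i) //
      Nonempty (CohB1.tensorPow L t ≅ CohB1.tensorPow L ↑a.1)} = P.coeff t := by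
  by_cases ht : t ≤ P.natDegree
  · exact card_fiber (fun i : Fin (P.natDegree + 1) => P.coeff ↑i)
      (fun i => Nonempty (CohB1.tensorPow L t ≅ CohB1.tensorPow L ↑i))
      ⟨t, Nat.lt_succ_of_le ht⟩
      (fun i => ⟨fun h => Fin.ext (pow_inj hL hnt h).symm, fun h => by
        subst h
        exact nrefl _⟩)
  · rw [Polynomial.coeff_eq_zero_of_natDegree_lt (not_le.mp ht)]
    exact card_fiber_empty (fun i : Fin (P.natDegree + 1) => P.coeff ↑i)
      (fun i => Nonempty (CohB1.tensorPow L t ≅ CohB1.tensorPow L ↑i)) (fun i h => ht (by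
      have h5 := pow_inj hL hnt h
      have h6 := i.2
      omega))

theorem coeff_le (hfield : IsField (Γ(X, ⊤) : Type u)) {L : X.Modules}
    (hL : PicF.IsInvertible L)
    (hnt : ∀ m : ℕ, 0 < m → ¬ Nonempty (CohB1.tensorPow L m ≅ Coh.structureModule X))
    (P Q : Polynomial ℕ)
    (e : (∐ fun i : Fin (P.natDegree + 1) => ∐ fun _ : Fin (P.coeff ↑i) => CohB1.tensorPow L ↑i) ≅
      (∐ fun i : Fin (Q.natDegree + 1) => ∐ fun _ : Fin (Q.coeff ↑i) => CohB1.tensorPow L ↑i))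
    (t : ℕ) : P.coeff t ≤ Q.coeff t := by
  have h := ks_count hfield
    (decNested (fun i : Fin (P.natDegree + 1) => P.coeff ↑i) (fun i => CohB1.tensorPow L ↑i))
    (decNested (fun i : Fin (Q.natDegree + 1) => Q.coeff ↑i) (fun i => CohB1.tensorPow L ↑i))
    (fun b => isInvertible_tensorPow hL _) e (isInvertible_tensorPow hL t)
  have h' : Nat.card {a : Σ i : Fin (P.natDegree + 1), Fin (P.coeff ↑i) //
        Nonempty (CohB1.tensorPow L t ≅ CohB1.tensorPow L ↑a.1)} ≤
      Nat.card {a : Σ i : Fin (Q.natDegree + 1), Fin (Q.coeff ↑i) //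
        Nonempty (CohB1.tensorPow L t ≅ CohB1.tensorPow L ↑a.1)} := h
  rw [card_pow hL hnt P t, card_pow hL hnt Q t] at h'
  exact h'

/-- Let X be a smooth proper integral curve (integral, smooth and proper of dimension one) over an
algebraically closed field k and L an invertible O_X-module. Then L is finite in the sense of Weil:
there are two distinct polynomials P ≠ Q with natural-number coefficients such that P(L) ≅ Q(L),
where P(L) denotes the direct sum over i of P_i copies of the i-th tensor power L^{⊗ i} (L^{⊗ 0} =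
O_X) if and only if L^{⊗ m} ≅ O_X for some m > 0. -/
theorem result (k : Type u) [Field k] [IsAlgClosed k] (X : Scheme.{u}) [X.Over (Spec (CommRingCat.of k))]
    [IsIntegral X] [IsProper (X ↘ Spec (CommRingCat.of k))] [Smooth (X ↘ Spec (CommRingCat.of k))]
    (hdim : topologicalKrullDim X = 1)
    (L : X.Modules) (hL : PicF.IsInvertible L) :
    (∃ P Q : Polynomial ℕ, P ≠ Q ∧ Nonempty ((∐ fun i : Fin (P.natDegree + 1) => ∐ fun _ : Fin (P.coeff ↑i) => CohB1.tensorPow L ↑i) ≅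
      (∐ fun i : Fin (Q.natDegree + 1) => ∐ fun _ : Fin (Q.coeff ↑i) => CohB1.tensorPow L ↑i))) ↔
    ∃ m : ℕ, 0 < m ∧ Nonempty (CohB1.tensorPow L m ≅ Coh.structureModule X) := by
  have hfield : IsField (Γ(X, ⊤) : Type u) :=
    isField_of_universallyClosed k (X ↘ Spec (CommRingCat.of k))
  constructor
  · rintro ⟨P, Q, hPQ, ⟨e⟩⟩
    by_contra hcon
    have hnt : ∀ m : ℕ, 0 < m → ¬ Nonempty (CohB1.tensorPow L m ≅ Coh.structureModule X) :=
      fun m hm h => hcon ⟨m, hm, h⟩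
    apply hPQ
    ext t
    exact le_antisymm (coeff_le hfield hL hnt P Q e t) (coeff_le hfield hL hnt Q P e.symm t)
  · rintro ⟨m, hm, he⟩
    refine ⟨Polynomial.X ^ m, 1, ?_, ?_⟩
    · intro h
      have h2 := congrArg (fun p : Polynomial ℕ => p.coeff 0) h
      simp only [Polynomial.coeff_X_pow, Polynomial.coeff_one_zero] at h2
      rw [if_neg (by omega)] at h2
      exact zero_ne_one h2
    · have hdP : (Polynomial.X ^ m : Polynomial ℕ).natDegree = m := Polynomial.natDegree_X_pow m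
      have hdQ : (1 : Polynomial ℕ).natDegree = 0 := Polynomial.natDegree_one
      have hP : Nonempty ((∐ fun i : Fin ((Polynomial.X ^ m : Polynomial ℕ).natDegree + 1) =>
          ∐ fun _ : Fin ((Polynomial.X ^ m : Polynomial ℕ).coeff ↑i) => CohB1.tensorPow L ↑i) ≅
          CohB1.tensorPow L m) :=
        single_iso (fun i : Fin ((Polynomial.X ^ m : Polynomial ℕ).natDegree + 1) =>
            (Polynomial.X ^ m : Polynomial ℕ).coeff ↑i) (fun i => CohB1.tensorPow L ↑i)
          ⟨m, by omega⟩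
          (by
            show (Polynomial.X ^ m : Polynomial ℕ).coeff m = 1
            rw [Polynomial.coeff_X_pow, if_pos rfl])
          (fun i hi => by
            show (Polynomial.X ^ m : Polynomial ℕ).coeff ↑i = 0
            rw [Polynomial.coeff_X_pow, if_neg (fun h => hi (Fin.ext h))])
      have hQ : Nonempty ((∐ fun i : Fin ((1 : Polynomial ℕ).natDegree + 1) =>
          ∐ fun _ : Fin ((1 : Polynomial ℕ).coeff ↑i) => CohB1.tensorPow L ↑i) ≅
          CohB1.tensorPow L 0) :=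
        single_iso (fun i : Fin ((1 : Polynomial ℕ).natDegree + 1) =>
            (1 : Polynomial ℕ).coeff ↑i) (fun i => CohB1.tensorPow L ↑i)
          ⟨0, by omega⟩
          (by
            show (1 : Polynomial ℕ).coeff 0 = 1
            exact Polynomial.coeff_one_zero)
          (fun i hi => by
            exfalso
            apply hi
            apply Fin.ext
            have h3 := i.2
            show (i : ℕ) = 0
            omega)
      exact ntrans hP (ntrans he (nsymm hQ))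

end Groth.Agent.S15339
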