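import Groth.Statements.S15622
import Mathlib.RingTheory.Etale.Pi
import Mathlib.RingTheory.Finiteness.Prod
import Mathlib.RingTheory.TensorProduct.IsBaseChangePi
import Mathlib.CategoryTheory.Limits.Shapes.BinaryProducts
import Mathlib.CategoryTheory.Limits.Shapes.Terminal

set_option autoImplicit false
set_option maxHeartbeats 400000
universe u
open SchFin SchFin.FEt

namespace Groth.Agent.S15622

open SchFin CategoryTheory CategoryTheory.Limits

theorem etale_punit (R : Type u) [CommRing R] : Algebra.Etale R PUnit.{u+1} where
  formallyEtale := by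
    rw [Algebra.FormallyEtale.iff_of_surjective (fun x => ⟨0, Subsingleton.elim _ _⟩)]
    have : RingHom.ker (algebraMap R PUnit.{u+1}) = ⊤ := by
      ext x; simp only [RingHom.mem_ker, Submodule.mem_top]
    rw [this]
    exact (by simp [IsIdempotentElem] : IsIdempotentElem (⊤ : Ideal R))
  finitePresentation := by
    refine Algebra.FinitePresentation.of_surjective (f := Algebra.ofId R PUnit.{u+1})
      (fun x => ⟨0, Subsingleton.elim _ _⟩) ?_
    have : RingHom.ker (Algebra.ofId R PUnit.{u+1}).toRingHom = ⊤ := by
      ext x; simp only [RingHom.mem_ker, Submodule.mem_top]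
    rw [this]
    exact ⟨{1}, by simp⟩

theorem etale_prod (R A B : Type u) [CommRing R] [CommRing A] [CommRing B] [Algebra R A]
    [Algebra R B] [Algebra.Etale R A] [Algebra.Etale R B] : Algebra.Etale R (A × B) := by
  let F : Bool → Type u := fun b => cond b A B
  let i1 : ∀ b, CommRing (F b) := fun b => by
    cases b
    · exact (inferInstance : CommRing B)
    · exact (inferInstance : CommRing A)
  let i2 : ∀ b, Algebra R (F b) := fun b => by
    cases b
    · exact (inferInstance : Algebra R B)
    · exact (inferInstance : Algebra R A)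
  have i3 : ∀ b, Algebra.Etale R (F b) := fun b => by
    cases b
    · exact (inferInstance : Algebra.Etale R B)
    · exact (inferInstance : Algebra.Etale R A)
  let e : (Π b, F b) ≃ₐ[R] A × B :=
    { toFun := fun f => (f true, f false)
      invFun := fun x b => by
        cases b
        · exact x.2
        · exact x.1
      left_inv := fun f => by funext b; cases b <;> rfl
      right_inv := fun x => rfl
      map_mul' := fun f g => rfl
      map_add' := fun f g => rfl
      commutes' := fun r => rfl }
  exact Algebra.Etale.of_equiv e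

theorem isBCAlong_of_subsingleton {R S : Type u} [CommRing R] [CommRing S] (g : R →+* S)
    {M N : Type u} [AddCommGroup M] [AddCommGroup N] [Module R M] [Module S N]
    [Subsingleton M] [Subsingleton N] (f : M →ₛₗ[g] N) : IsBCAlong g f := by
  unfold IsBCAlong
  refine ⟨fun a b _ => Subsingleton.elim _ _, fun n => ⟨0, Subsingleton.elim _ _⟩⟩

theorem isBCAlong_prod {R S : Type u} [CommRing R] [CommRing S] (g : R →+* S)
    {M N M' N' : Type u} [AddCommGroup M] [AddCommGroup N] [Module R M] [Module S N]
    [AddCommGroup M'] [AddCommGroup N'] [Module R M'] [Module S N']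
    (f : M →ₛₗ[g] N) (f' : M' →ₛₗ[g] N') (hf : IsBCAlong g f) (hf' : IsBCAlong g f')
    (F : (M × M') →ₛₗ[g] (N × N')) (hF : ∀ x, F x = (f x.1, f' x.2)) : IsBCAlong g F := by
  unfold IsBCAlong at hf hf' ⊢
  letI : Algebra R S := g.toAlgebra
  letI : Module R N := Module.compHom N g
  letI : Module R N' := Module.compHom N' g
  haveI : IsScalarTower R S N := IsScalarTower.of_algebraMap_smul fun _ _ => rfl
  haveI : IsScalarTower R S N' := IsScalarTower.of_algebraMap_smul fun _ _ => rfl
  refine IsBaseChange.of_equiv
    ((TensorProduct.prodRight R S S M M') ≪≫ₗ (hf.equiv.prodCongr hf'.equiv)) ?_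
  intro x
  simp only [LinearEquiv.trans_apply, TensorProduct.prodRight_tmul, LinearEquiv.prodCongr_apply,
    IsBaseChange.equiv_tmul, one_smul]
  exact (hF x).symm

/-- the zero algebra -/
def zeroAlg (X : RSpace.{u}) : Alg X where
  carrier _ := PUnit.{u+1}
  res _ := RingHom.id _
  res_algebraMap _ _ := rfl
  res_self _ _ := rfl
  res_comp _ _ _ := rfl

theorem zeroAlg_isEtCover (X : RSpace.{u}) : (zeroAlg X).IsEtCover := by
  refine ⟨fun p q h => ?_, fun p => ⟨?_, ?_⟩⟩
  · haveI : Subsingleton ((zeroAlg X).toMod.carrier p) := (inferInstance : Subsingleton PUnit.{u+1})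
    haveI : Subsingleton ((zeroAlg X).toMod.carrier q) := (inferInstance : Subsingleton PUnit.{u+1})
    exact isBCAlong_of_subsingleton _ _
  · exact (inferInstance : Module.Finite (X.ring p) PUnit.{u+1})
  · exact etale_punit (X.ring p)

/-- the pointwise product of two algebras -/
def prodAlg {X : RSpace.{u}} (A B : Alg X) : Alg X where
  carrier p := A.carrier p × B.carrier p
  res h := RingHom.prodMap (A.res h) (B.res h)
  res_algebraMap h a := Prod.ext (A.res_algebraMap h a) (B.res_algebraMap h a)
  res_self p b := Prod.ext (A.res_self p b.1) (B.res_self p b.2)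
  res_comp h h' b := Prod.ext (A.res_comp h h' b.1) (B.res_comp h h' b.2)

theorem prodAlg_isEtCover {X : RSpace.{u}} (A B : Alg X) (hA : A.IsEtCover) (hB : B.IsEtCover) :
    (prodAlg A B).IsEtCover := by
  refine ⟨fun p q h => ?_, fun p => ⟨?_, ?_⟩⟩
  · exact isBCAlong_prod (X.res h) (A.toMod.res h) (B.toMod.res h) (hA.1 p q h) (hB.1 p q h)
      ((prodAlg A B).toMod.res h) (fun x => rfl)
  · haveI := (hA.2 p).1
    haveI := (hB.2 p).1
    exact (inferInstance : Module.Finite (X.ring p) (A.carrier p × B.carrier p))
  · haveI := (hA.2 p).2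
    haveI := (hB.2 p).2
    exact etale_prod (X.ring p) (A.carrier p) (B.carrier p)

/-- first projection -/
def prodFst {X : RSpace.{u}} (A B : Alg X) : prodAlg A B ⟶ A :=
  ⟨fun p => AlgHom.fst (X.ring p) (A.carrier p) (B.carrier p), fun _ _ => rfl⟩

/-- second projection -/
def prodSnd {X : RSpace.{u}} (A B : Alg X) : prodAlg A B ⟶ B :=
  ⟨fun p => AlgHom.snd (X.ring p) (A.carrier p) (B.carrier p), fun _ _ => rfl⟩

/-- pairing -/
def prodLift {X : RSpace.{u}} {A B T : Alg X} (f : T ⟶ A) (g : T ⟶ B) : T ⟶ prodAlg A B :=
  ⟨fun p => AlgHom.prod (f.app p) (g.app p), fun h b => Prod.ext (f.compat h b) (g.compat h b)⟩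


open SchFin CategoryTheory CategoryTheory.Limits in
/-- For a schematic finite space, the category of étale covers (quasi-coherent algebras whose value at
every point is finite and étale over the ring of that point) has a terminal object and has binary
products. (In the published statement: finite direct products, the terminal object being the zero
algebra.) -/
theorem result (X : RSpace.{u}) (hX : X.IsSchematic) :
    HasTerminal (FEt X) ∧ HasBinaryProducts (FEt X) := by
  constructor
  · let T : FEt X := ⟨zeroAlg X, zeroAlg_isEtCover X⟩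
    haveI : ∀ Y : FEt X, Nonempty (Y ⟶ T) := fun Y =>
      ⟨ObjectProperty.homMk ⟨fun p =>
        { toFun := fun _ => PUnit.unit
          map_one' := rfl
          map_mul' := fun _ _ => rfl
          map_zero' := rfl
          map_add' := fun _ _ => rfl
          commutes' := fun _ => rfl }, fun _ _ => rfl⟩⟩
    haveI : ∀ Y : FEt X, Subsingleton (Y ⟶ T) := fun Y =>
      ⟨fun f g => by
        apply ObjectProperty.hom_ext
        apply Alg.hom_ext
        intro p
        apply AlgHom.ext
        intro x
        exact Subsingleton.elim (α := PUnit.{u+1}) _ _⟩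
    exact hasTerminal_of_unique T
  · haveI : ∀ {A B : FEt X}, HasLimit (pair A B) := fun {A B} => by
      let P : FEt X := ⟨prodAlg A.obj B.obj, prodAlg_isEtCover A.obj B.obj A.property B.property⟩
      let fst : P ⟶ A := ObjectProperty.homMk (prodFst A.obj B.obj)
      let snd : P ⟶ B := ObjectProperty.homMk (prodSnd A.obj B.obj)
      refine HasLimit.mk ⟨BinaryFan.mk fst snd, BinaryFan.IsLimit.mk _
        (fun {T} f g => ObjectProperty.homMk (prodLift f.hom g.hom)) ?_ ?_ ?_⟩
      · intro T f g
        apply ObjectProperty.hom_ext
        apply Alg.hom_ext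
        intro p
        apply AlgHom.ext
        intro x
        rfl
      · intro T f g
        apply ObjectProperty.hom_ext
        apply Alg.hom_ext
        intro p
        apply AlgHom.ext
        intro x
        rfl
      · intro T f g m h1 h2
        apply ObjectProperty.hom_ext
        apply Alg.hom_ext
        intro p
        apply AlgHom.ext
        intro x
        have e1 := congrArg (fun k => k.hom.app p x) h1
        have e2 := congrArg (fun k => k.hom.app p x) h2
        exact Prod.ext e1 e2
    exact hasBinaryProducts_of_hasLimit_pair (FEt X)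

end Groth.Agent.S15622
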