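import Groth.Statements.S15626
import Groth.Agent.H78.SF7

set_option autoImplicit false
set_option maxHeartbeats 400000
universe u
open SchFin SchFin.FEt

namespace Groth.Agent.S15626

open SchFin CategoryTheory in
/-- Over a schematic finite space, a monomorphism in the category of étale covers is injective at every
point (the converse implication being elementary). -/
theorem result (X : RSpace.{u}) (hX : X.IsSchematic) {A B : FEt X} (f : A ⟶ B)
    [Mono f] (p : X.pt) : Function.Injective (f.hom.app p) := by
  obtain ⟨E, hE⟩ := Groth.Agent.H78.SF.exists_kerFam hX.1 A.property B.property f.hom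
  let C : FEt X := ⟨Groth.Agent.S15622.prodAlg (Alg.str X) (Alg.str X),
    Groth.Agent.S15622.prodAlg_isEtCover _ _ (Groth.Agent.H78.SF.str_isEtCover X)
      (Groth.Agent.H78.SF.str_isEtCover X)⟩
  let g₁ : C ⟶ A := ObjectProperty.homMk (Groth.Agent.H78.SF.famHom E)
  let g₂ : C ⟶ A := ObjectProperty.homMk
    (Groth.Agent.H78.SF.famHom (Groth.Agent.H78.SF.IdemFam.zero A.obj))
  have hcomp : g₁ ≫ f = g₂ ≫ f := by
    apply ObjectProperty.hom_ext
    apply Alg.hom_ext
    intro q
    apply AlgHom.ext
    intro (uv : X.ring q × X.ring q)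
    show f.hom.app q (algebraMap (X.ring q) (A.obj.carrier q) uv.1 * E.e q +
        algebraMap (X.ring q) (A.obj.carrier q) uv.2 * (1 - E.e q)) =
      f.hom.app q (algebraMap (X.ring q) (A.obj.carrier q) uv.1 * 0 +
        algebraMap (X.ring q) (A.obj.carrier q) uv.2 * (1 - 0))
    have h0 : f.hom.app q (E.e q) = 0 := by
      rw [← RingHom.mem_ker, hE q]; exact Ideal.mem_span_singleton_self _
    simp only [map_add, map_mul, map_sub, map_one, h0, map_zero, mul_zero, sub_zero]
  have heq : g₁ = g₂ := (cancel_mono f).mp hcomp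
  have h1 : E.e p = 0 := by
    have h2 := congrArg (fun k => k.hom.app p ((1, 0) : X.ring p × X.ring p)) heq
    have h3 : algebraMap (X.ring p) (A.obj.carrier p) (1 : X.ring p) * E.e p +
        algebraMap (X.ring p) (A.obj.carrier p) (0 : X.ring p) * (1 - E.e p) =
      algebraMap (X.ring p) (A.obj.carrier p) (1 : X.ring p) * 0 +
        algebraMap (X.ring p) (A.obj.carrier p) (0 : X.ring p) * (1 - 0) := h2
    simpa using h3
  rw [injective_iff_map_eq_zero]
  intro a ha
  have h4 : a ∈ Ideal.span {E.e p} := by rw [← hE p]; exact ha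
  rw [h1] at h4
  simpa using h4

end Groth.Agent.S15626
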