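import Groth.Statements.S15628
import Groth.Agent.H78.SF7

set_option autoImplicit false
set_option maxHeartbeats 400000
universe u
open SchFin SchFin.FEt

namespace Groth.Agent.S15628

open SchFin CategoryTheory CategoryTheory.Limits in
/-- Over a schematic finite space, a morphism f from an étale cover A to an étale cover B which is
surjective at every point identifies B with a direct factor of A: there are an étale cover D and a
morphism from A to D which together with f exhibit A as the product of B and D in the category of
étale covers. (The published statement assumes f an epimorphism of étale covers and first shows that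
epimorphisms are exactly the pointwise surjective morphisms, a step resting on an extension result
for quasi-coherent modules recalled there without proof; this row takes f surjective at every
point.) -/
theorem result (X : RSpace.{u}) (hX : X.IsSchematic)
    {A B : FEt X} (f : A ⟶ B) (hf : ∀ p : X.pt, Function.Surjective (f.hom.app p)) :
    ∃ (D : FEt X) (π : A ⟶ D), Nonempty (IsLimit (BinaryFan.mk f π)) := by
  obtain ⟨E, hE⟩ := Groth.Agent.H78.SF.exists_kerFam hX.1 A.property B.property f.hom
  let D : FEt X := ⟨Groth.Agent.H78.SF.pieceAlg A.obj E,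
    Groth.Agent.H78.SF.pieceAlg_isEtCover A.obj A.property E⟩
  let π : A ⟶ D := ObjectProperty.homMk (Groth.Agent.H78.SF.toPiece A.obj E)
  have hfe : ∀ p, f.hom.app p (E.e p) = 0 := fun p => by
    rw [← RingHom.mem_ker, hE p]; exact Ideal.mem_span_singleton_self _
  have hπ1 : ∀ p, π.hom.app p (1 - E.e p) = 0 := fun p =>
    Ideal.Quotient.eq_zero_iff_mem.mpr (Ideal.mem_span_singleton_self _)
  have hπe : ∀ p, π.hom.app p (E.e p) = 1 := fun p => by
    have h1 := hπ1 p
    rw [map_sub, map_one, sub_eq_zero] at h1
    exact h1.symm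
  have hbij : ∀ p, Function.Bijective (AlgHom.prod (f.hom.app p) (π.hom.app p)) := by
    intro p
    constructor
    · rw [injective_iff_map_eq_zero]
      intro d hd
      have hd1 : f.hom.app p d = 0 := congrArg Prod.fst hd
      have hd2 : π.hom.app p d = 0 := congrArg Prod.snd hd
      have h1 : d ∈ Ideal.span {E.e p} := by rw [← hE p]; exact hd1
      have h2 : d ∈ Ideal.span {1 - E.e p} := Ideal.Quotient.eq_zero_iff_mem.mp hd2
      obtain ⟨c, hc⟩ := Ideal.mem_span_singleton'.mp h1
      obtain ⟨c', hc'⟩ := Ideal.mem_span_singleton'.mp h2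
      have he : E.e p * E.e p = E.e p := E.idem p
      have h3 : d * E.e p = d := by rw [← hc, mul_assoc, he]
      have h4 : d * E.e p = 0 := by
        rw [← hc']
        linear_combination (-c') * he
      rw [← h3, h4]
    · rintro ⟨b, dd⟩
      obtain ⟨a₁, rfl⟩ := hf p b
      obtain ⟨a₂, rfl⟩ := Groth.Agent.H78.SF.toPiece_surjective A.obj E p dd
      refine ⟨(1 - E.e p) * a₁ + E.e p * a₂, Prod.ext ?_ ?_⟩
      · show f.hom.app p ((1 - E.e p) * a₁ + E.e p * a₂) = f.hom.app p a₁
        simp only [map_add, map_mul, map_sub, map_one, hfe p, sub_zero, one_mul, zero_mul, add_zero]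
      · show π.hom.app p ((1 - E.e p) * a₁ + E.e p * a₂) = π.hom.app p a₂
        rw [map_add, map_mul, map_mul, hπ1 p, hπe p, zero_mul, one_mul, zero_add]
  let Φ : ∀ p, A.obj.carrier p ≃ₐ[X.ring p] (B.obj.carrier p × D.obj.carrier p) := fun p =>
    AlgEquiv.ofBijective (AlgHom.prod (f.hom.app p) (π.hom.app p)) (hbij p)
  have hΦ1 : ∀ p (z : B.obj.carrier p × D.obj.carrier p), f.hom.app p ((Φ p).symm z) = z.1 :=
    fun p z => congrArg Prod.fst ((Φ p).apply_symm_apply z)
  have hΦ2 : ∀ p (z : B.obj.carrier p × D.obj.carrier p), π.hom.app p ((Φ p).symm z) = z.2 :=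
    fun p z => congrArg Prod.snd ((Φ p).apply_symm_apply z)
  refine ⟨D, π, ⟨BinaryFan.IsLimit.mk _
    (fun {T} g k => ObjectProperty.homMk
      ⟨fun p => (Φ p).symm.toAlgHom.comp (AlgHom.prod (g.hom.app p) (k.hom.app p)),
       fun {p q} h t => by
        apply (hbij q).1
        apply Prod.ext
        · show f.hom.app q (A.obj.res h ((Φ p).symm (g.hom.app p t, k.hom.app p t))) =
            f.hom.app q ((Φ q).symm (g.hom.app q (T.obj.res h t), k.hom.app q (T.obj.res h t)))
          rw [← f.hom.compat, hΦ1, hΦ1]
          exact g.hom.compat h t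
        · show π.hom.app q (A.obj.res h ((Φ p).symm (g.hom.app p t, k.hom.app p t))) =
            π.hom.app q ((Φ q).symm (g.hom.app q (T.obj.res h t), k.hom.app q (T.obj.res h t)))
          rw [← π.hom.compat, hΦ2, hΦ2]
          exact k.hom.compat h t⟩) ?_ ?_ ?_⟩⟩
  · intro T g k
    apply ObjectProperty.hom_ext
    apply Alg.hom_ext
    intro p
    apply AlgHom.ext
    intro t
    exact hΦ1 p _
  · intro T g k
    apply ObjectProperty.hom_ext
    apply Alg.hom_ext
    intro p
    apply AlgHom.ext
    intro t
    exact hΦ2 p _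
  · intro T g k m h1 h2
    apply ObjectProperty.hom_ext
    apply Alg.hom_ext
    intro p
    apply AlgHom.ext
    intro t
    apply (hbij p).1
    have e1 : f.hom.app p (m.hom.app p t) = g.hom.app p t :=
      congrArg (fun j => j.hom.app p t) h1
    have e2 : π.hom.app p (m.hom.app p t) = k.hom.app p t :=
      congrArg (fun j => j.hom.app p t) h2
    apply Prod.ext
    · show f.hom.app p (m.hom.app p t) = f.hom.app p ((Φ p).symm (g.hom.app p t, k.hom.app p t))
      rw [hΦ1, e1]
    · show π.hom.app p (m.hom.app p t) = π.hom.app p ((Φ p).symm (g.hom.app p t, k.hom.app p t))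
      rw [hΦ2, e2]

end Groth.Agent.S15628
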