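import Groth.Statements.S5068
import Groth.Agent.H79.CIOpen
import Groth.Agent.S5774
import Groth.Agent.S5775

set_option autoImplicit false
universe u
open CInt

namespace Groth.Agent.S5068


open RingTheory.Sequence in
/-- Weak regularity on the `C`-module `C ⧸ (I • ⊤)` versus on the ring `C ⧸ I`. -/
theorem isWeaklyRegular_quot_iff {C : Type u} [CommRing C] (I : Ideal C) (fs : List C) :
    IsWeaklyRegular (C ⧸ (I • (⊤ : Submodule C C))) fs ↔
      IsWeaklyRegular (C ⧸ I) (fs.map (Ideal.Quotient.mk I)) := by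
  have h : (I • (⊤ : Submodule C C)) = I := by simp
  rw [(Submodule.quotEquivOfEq _ _ h).isWeaklyRegular_congr fs]
  exact (isWeaklyRegular_map_algebraMap_iff (C ⧸ I) (C ⧸ I) fs).symm

/-- Flatness of `C ⧸ (I • ⊤)` versus `C ⧸ I`. -/
theorem flat_quot_iff (A : Type u) {C : Type u} [CommRing A] [CommRing C] [Algebra A C]
    (I : Ideal C) :
    Module.Flat A (C ⧸ (I • (⊤ : Submodule C C))) ↔ Module.Flat A (C ⧸ I) := by
  have h : (I • (⊤ : Submodule C C)) = I := by simp
  exact ⟨fun _ => Module.Flat.of_linearEquiv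
      ((Submodule.quotEquivOfEq _ _ h).symm.restrictScalars A),
    fun _ => Module.Flat.of_linearEquiv ((Submodule.quotEquivOfEq _ _ h).restrictScalars A)⟩

/-- Suppose A and C are Noetherian local rings joined by a flat local homomorphism A → C whose closed
fibre C/m_A C is a regular local ring, and consider a local ring B obtained as a quotient of C by an
ideal J (encoded as a surjective C-algebra B, with J taken to be the kernel). The ideal J admits a
generating sequence that is transversally regular relative to A (each term a non-zero-divisor modulo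
the previous ones, and every partial quotient C/(f_1, …, f_j) A-flat) exactly when two things hold:
B is A-flat, and B/m_A B is a complete intersection (meaning its completion is a regular local ring
divided by a regular sequence). -/
theorem result (A C B : Type u) [CommRing A] [IsLocalRing A]
    [IsNoetherianRing A] [CommRing C] [IsLocalRing C] [IsNoetherianRing C] [Algebra A C] [IsLocalHom (algebraMap A C)]
    [Module.Flat A C] (hreg : IsRegularLocalRing (EGA4.FibRing A C))
    [CommRing B] [IsLocalRing B] [Algebra C B] [Algebra A B] [IsScalarTower A C B] [IsLocalHom (algebraMap A B)]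
    (hsurj : Function.Surjective (algebraMap C B)) :
    (∃ rs : List C, Ideal.ofList rs = RingHom.ker (algebraMap C B) ∧ RegImm.IsTransRegularSeq A C rs) ↔
      (Module.Flat A B ∧ Pi1.IsCompleteIntersection (EGA4.FibRing A B)) := by
  classical
  haveI := hreg
  -- notation
  set 𝔪 : Ideal C := EGA4.mB A C with h𝔪
  set J : Ideal C := RingHom.ker (algebraMap C B) with hJ
  have hJtop : J ≠ ⊤ := RingHom.ker_ne_top _
  have hJm : J ≤ IsLocalRing.maximalIdeal C := IsLocalRing.le_maximalIdeal hJtop
  have hmB : EGA4.mB A B = 𝔪.map (algebraMap C B) := by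
    rw [h𝔪, EGA4.mB, EGA4.mB, Ideal.map_map, ← IsScalarTower.algebraMap_eq]
  -- the map `C̄ → B̄`
  have hle : 𝔪 ≤ (EGA4.mB A B).comap (algebraMap C B) := by
    rw [hmB]; exact Ideal.le_comap_map
  let ψ : EGA4.FibRing A C →+* EGA4.FibRing A B :=
    Ideal.quotientMap (EGA4.mB A B) (algebraMap C B) hle
  have hψsurj : Function.Surjective ψ :=
    Ideal.quotientMap_surjective hsurj
  have hψker : RingHom.ker ψ = J.map (Ideal.Quotient.mk 𝔪) := by
    ext x
    obtain ⟨c, rfl⟩ := Ideal.Quotient.mk_surjective x
    rw [RingHom.mem_ker, Ideal.quotientMap_mk, Ideal.Quotient.eq_zero_iff_mem, hmB,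
      Ideal.mem_quotient_iff_mem_sup]
    constructor
    · intro h
      obtain ⟨c', hc', hcc'⟩ := (Ideal.mem_map_iff_of_surjective _ hsurj).mp h
      have h1 : c - c' ∈ J := by
        rw [hJ, RingHom.mem_ker, map_sub, hcc', sub_self]
      have h2 : c = (c - c') + c' := by ring
      rw [h2]
      exact Submodule.add_mem _ (Submodule.mem_sup_left h1) (Submodule.mem_sup_right hc')
    · intro h
      obtain ⟨j, hj, c', hc', rfl⟩ := Submodule.mem_sup.mp h
      rw [map_add, (RingHom.mem_ker).mp hj, zero_add]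
      exact Ideal.mem_map_of_mem _ hc'
  set J' : Ideal (EGA4.FibRing A C) := J.map (Ideal.Quotient.mk 𝔪) with hJ'
  have hJ'top : J' ≠ ⊤ := by
    rw [← hψker]; exact RingHom.ker_ne_top _
  haveI : Nontrivial (EGA4.FibRing A C ⧸ J') := Ideal.Quotient.nontrivial_iff.mpr hJ'top
  haveI : IsLocalRing (EGA4.FibRing A C ⧸ J') := inferInstance
  let e : (EGA4.FibRing A C ⧸ J') ≃+* EGA4.FibRing A B :=
    (Ideal.quotEquivOfEq hψker.symm).trans (RingHom.quotientKerEquivOfSurjective hψsurj)
  -- CI of the fibre ⇔ `J'` regular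
  have hCI : Pi1.IsCompleteIntersection (EGA4.FibRing A B) ↔
      ∃ rs : List (EGA4.FibRing A C), RingTheory.Sequence.IsRegular (EGA4.FibRing A C) rs ∧
        Ideal.ofList rs = J' := by
    constructor
    · intro h
      obtain ⟨B', hB', hB'reg, rs', hm, hr, ⟨e'⟩⟩ :=
        Groth.Agent.H79.CIOpen.isCI_of_ringEquiv e.symm h
      exact Groth.Agent.H79.CIPres.regular_of_cplEquiv_quot J' hJ'top rs' hr e'
    · intro h
      exact Groth.Agent.H79.CIOpen.isCI_of_ringEquiv e
        (Groth.Agent.H79.CIPres.isCompleteIntersection_quot J' hJ'top h)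
  -- `B ≅ C ⧸ J` over `A`
  let eB : (C ⧸ J) ≃ₗ[A] B :=
    (Ideal.quotientKerAlgEquivOfSurjective (f := IsScalarTower.toAlgHom A C B) hsurj).toLinearEquiv
  rw [hCI]
  constructor
  · rintro ⟨rs, hrsJ, hw, hfl⟩
    refine ⟨?_, rs.map (Ideal.Quotient.mk 𝔪), ⟨?_, ?_⟩, ?_⟩
    · have h1 := hfl rs.length le_rfl
      rw [List.take_length, hrsJ] at h1
      exact Module.Flat.of_linearEquiv eB.symm
    · rw [← isWeaklyRegular_quot_iff]
      exact Groth.Agent.H57.isWeaklyRegular_quot_of_flat_take (IsLocalRing.maximalIdeal A) rs C hw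
        (fun i _ hi => (flat_quot_iff A _).mpr (hfl i hi))
    · simp only [smul_eq_mul, Ideal.mul_top]
      rw [← Ideal.map_ofList, hrsJ]
      exact fun h => hJ'top h.symm
    · rw [← Ideal.map_ofList, hrsJ]
  · rintro ⟨hflat, gs, hgs, hgsJ⟩
    haveI := hflat
    -- lift `gs` to `J`
    have hlift : ∀ g ∈ gs, ∃ f : C, f ∈ J ∧ Ideal.Quotient.mk 𝔪 f = g := by
      intro g hg
      have : g ∈ J' := hgsJ ▸ Ideal.subset_span hg
      exact (Ideal.mem_map_iff_of_surjective _ Ideal.Quotient.mk_surjective).mp this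
    let φ : EGA4.FibRing A C → C := fun g => if h : g ∈ gs then (hlift g h).choose else 0
    have hφ1 : ∀ g ∈ gs, φ g ∈ J := fun g hg => by
      simp only [φ, dif_pos hg]; exact (hlift g hg).choose_spec.1
    have hφ2 : ∀ g ∈ gs, Ideal.Quotient.mk 𝔪 (φ g) = g := fun g hg => by
      simp only [φ, dif_pos hg]; exact (hlift g hg).choose_spec.2
    set fs : List C := gs.map φ with hfs
    have hfsmap : fs.map (Ideal.Quotient.mk 𝔪) = gs := by
      rw [hfs, List.map_map]
      conv_rhs => rw [← List.map_id gs]
      exact List.map_congr_left (fun g hg => hφ2 g hg)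
    have hfsJ : ∀ f ∈ fs, f ∈ J := by
      intro f hf
      obtain ⟨g, hg, rfl⟩ := List.mem_map.mp hf
      exact hφ1 g hg
    have hfsle : Ideal.ofList fs ≤ J := Ideal.span_le.mpr hfsJ
    have hsup : Ideal.ofList fs ⊔ 𝔪 = J ⊔ 𝔪 := by
      have h1 : (Ideal.ofList fs).map (Ideal.Quotient.mk 𝔪) = J.map (Ideal.Quotient.mk 𝔪) := by
        rw [Ideal.map_ofList, hfsmap, hgsJ]
      have h2 := congrArg (Ideal.comap (Ideal.Quotient.mk 𝔪)) h1
      rwa [Ideal.comap_map_of_surjective _ Ideal.Quotient.mk_surjective,
        Ideal.comap_map_of_surjective _ Ideal.Quotient.mk_surjective,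
        ← RingHom.ker_eq_comap_bot, Ideal.mk_ker] at h2
    have hw' : RingTheory.Sequence.IsWeaklyRegular
        (C ⧸ ((IsLocalRing.maximalIdeal A).map (algebraMap A C) • (⊤ : Submodule C C))) fs := by
      rw [isWeaklyRegular_quot_iff, hfsmap]
      exact hgs.toIsWeaklyRegular
    have hR : Module.Flat A (C ⧸ (J : Submodule C C)) := Module.Flat.of_linearEquiv eB
    obtain ⟨hw, hJeq⟩ := Groth.Agent.S5775.result A C C J hR fs
      (fun f hf => hJm (hfsJ f hf))
      (by simpa using hfsle) hw' (by
        ext x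
        obtain ⟨c, rfl⟩ := Submodule.Quotient.mk_surjective _ x
        have key : ∀ K : Submodule C C, Submodule.Quotient.mk c ∈ Submodule.map
            (Submodule.mkQ ((IsLocalRing.maximalIdeal A).map (algebraMap A C) •
              (⊤ : Submodule C C))) K ↔
            c ∈ ((IsLocalRing.maximalIdeal A).map (algebraMap A C) • (⊤ : Submodule C C)) ⊔ K := by
          intro K
          rw [← Submodule.mkQ_apply, ← Submodule.mem_comap, Submodule.comap_map_mkQ]
        have hL : Ideal.ofList fs • (⊤ : Submodule C (C ⧸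
            ((IsLocalRing.maximalIdeal A).map (algebraMap A C) • (⊤ : Submodule C C)))) =
            Submodule.map (Submodule.mkQ ((IsLocalRing.maximalIdeal A).map (algebraMap A C) •
              (⊤ : Submodule C C))) (Ideal.ofList fs • (⊤ : Submodule C C)) := by
          rw [Submodule.map_smul'', Submodule.map_top, Submodule.range_mkQ]
        rw [hL, key, key]
        have hN : ((IsLocalRing.maximalIdeal A).map (algebraMap A C) • (⊤ : Submodule C C)) = 𝔪 := by
          simp [h𝔪, EGA4.mB]
        have hK : (Ideal.ofList fs • (⊤ : Submodule C C)) = Ideal.ofList fs := by simp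
        rw [hN, hK, sup_comm, hsup, sup_comm])
    obtain ⟨-, hfl⟩ := Groth.Agent.S5774.result A C C fs hw'
    refine ⟨fs, ?_, hw, fun j hj => (flat_quot_iff A _).mp (hfl j hj)⟩
    rw [hJeq]; simp

end Groth.Agent.S5068
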