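import Groth.Statements.S1710
import Groth.Agent.H9.EffCartier
import Groth.Agent.H9.FlatExt2

set_option autoImplicit false
universe u
open CategoryTheory CategoryTheory.Limits AlgebraicGeometry TopologicalSpace
open SDiv

namespace Groth.Agent.S1710

/-- Let f : X ⟶ S be a morphism and 𝓘₁, 𝓘₂ ideal sheaves of effective Cartier divisors D₁ ⊆ D₂ on X,
both flat over S, and let 𝓘 be the ideal sheaf of an effective Cartier divisor D with D₂ = D₁ + D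
(that is, 𝓘₁𝓘 = 𝓘₂). Then D is flat over S as well. -/
theorem result {X S : Scheme.{u}} (f : X ⟶ S) (𝓘₁ 𝓘₂ 𝓘 : X.IdealSheafData)
    (h₁ : (BlowUp.IsEffCartierIdeal 𝓘₁ ∧ Flat (𝓘₁.subschemeι ≫ f))) (h₂ : (BlowUp.IsEffCartierIdeal 𝓘₂ ∧ Flat (𝓘₂.subschemeι ≫ f))) (h : BlowUp.IsEffCartierIdeal 𝓘) (hsum : 𝓘₁ * 𝓘 = 𝓘₂) :
    Flat (𝓘.subschemeι ≫ f) := by
  obtain ⟨hc₁, hf₁⟩ := h₁
  obtain ⟨-, hf₂⟩ := h₂
  apply Groth.Agent.H9.flat_of_exists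
  intro x _
  obtain ⟨V, hV, hxV, -⟩ := exists_isAffineOpen_mem_and_subset (x := f x) (U := ⊤) trivial
  obtain ⟨U, hxU, hUV, ⟨t₁, ht₁, hI₁⟩, ⟨t, ht, hI⟩⟩ :=
    Groth.Agent.H9.exists_affine_isPrincipalNZD₂ hc₁ h (f ⁻¹ᵁ V) x hxV
  refine ⟨⟨V, hV⟩, U, hxU, hUV, ?_⟩
  rw [hI]
  apply Groth.Agent.H9.ringHom_flat_quot_of_mul _ t₁ t ht₁
  · rw [← hI₁]
    exact Groth.Agent.H9.flat_quotient_of_flat f 𝓘₁ hf₁ ⟨V, hV⟩ U hUV
  · have h2 : 𝓘₂.ideal U = Ideal.span {t₁ * t} := by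
      rw [← hsum, Scheme.IdealSheafData.ideal_mul, Pi.mul_apply, hI₁, hI,
        Ideal.span_singleton_mul_span_singleton]
    rw [← h2]
    exact Groth.Agent.H9.flat_quotient_of_flat f 𝓘₂ hf₂ ⟨V, hV⟩ U hUV

end Groth.Agent.S1710
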