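import Groth.Statements.S1172
import Groth.Agent.H79.DivDiff

set_option autoImplicit false
open CategoryTheory CategoryTheory.Limits AlgebraicGeometry
universe u
open HilbD

namespace Groth.Agent.S1172

/-- Let f : X ⟶ S be smooth of relative dimension 1 and let D₁ ⊆ D₂ be closed subschemes of X (ideal
sheaves I₂ ≤ I₁) which are finite locally free over S of degrees d₁ and d₂. Then there is a closed
subscheme D (ideal sheaf I), finite locally free over S of degree d₂ - d₁, with D₂ = D₁ + D, i.e. I₂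
= I₁I. -/
theorem result {X S : Scheme.{u}} (f : X ⟶ S) [SmoothOfRelativeDimension 1 f]
    (I₁ I₂ : X.IdealSheafData) (hle : I₂ ≤ I₁) (d₁ d₂ : ℕ) (h₁ : Mor2.IsFinLocFreeOfDeg d₁ (I₁.subschemeι ≫ f))
    (h₂ : Mor2.IsFinLocFreeOfDeg d₂ (I₂.subschemeι ≫ f)) :
    ∃ I : X.IdealSheafData, Mor2.IsFinLocFreeOfDeg (d₂ - d₁) (I.subschemeι ≫ f) ∧ I₂ = I₁ * I := by
  obtain ⟨hf₁, hd₁⟩ := h₁
  obtain ⟨hf₂, hd₂⟩ := h₂
  have hc₁ := Groth.Agent.H79.DivSum.effCartier_of_finLocFree f I₁ hf₁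
  have hc₂ := Groth.Agent.H79.DivSum.effCartier_of_finLocFree f I₂ hf₂
  obtain ⟨I, hc, hsum⟩ := Groth.Agent.H79.DivDiff.exists_factor I₁ I₂ hc₁ hc₂ hle
  subst hsum
  have hflat : Flat (I.subschemeι ≫ f) :=
    Groth.Agent.S1710.result f I₁ (I₁ * I) I ⟨hc₁, hf₁.2.1⟩ ⟨hc₂, hf₂.2.1⟩ hc rfl
  obtain ⟨hlqf, hlfp⟩ := Groth.Agent.H79.CurveDiv.lqf_lfp_of_effCartier f I hc
  have hle' : I₁ * I ≤ I :=
    fun U => (Ideal.mul_le_right : I₁.ideal U * I.ideal U ≤ I.ideal U)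
  have hfin : IsFinite (I.subschemeι ≫ f) := by
    have e : Scheme.IdealSheafData.inclusion hle' ≫ (I₁ * I).subschemeι = I.subschemeι :=
      Scheme.IdealSheafData.inclusion_subschemeι hle'
    rw [← e, Category.assoc]
    have := hf₂.1
    infer_instance
  have hF : Mor2.IsFinLocFree (I.subschemeι ≫ f) := ⟨hfin, hflat, hlfp⟩
  obtain ⟨-, hd⟩ := Groth.Agent.H79.DivSumDeg.finLocFree_mul f I₁ I hf₁ hF
  refine ⟨I, ⟨hF, fun y => ?_⟩, rfl⟩
  have h3 := hd y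
  rw [hd₂ y, hd₁ y] at h3
  omega


end Groth.Agent.S1172
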