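import Groth.Statements.S9867
import Mathlib
import Groth.Agent.S0084

set_option autoImplicit false
set_option maxHeartbeats 400000
open CategoryTheory CategoryTheory.Limits AlgebraicGeometry Opposite
universe u
open Desc

namespace Groth.Agent.S9867

theorem flat_codesc : RingHom.CodescendsAlong RingHom.Flat RingHom.FaithfullyFlat := by
  refine .mk _ RingHom.Flat.respectsIso fun R S T _ _ _ _ _ h h' ↦ ?_
  rw [RingHom.flat_algebraMap_iff] at h' ⊢
  rw [RingHom.faithfullyFlat_algebraMap_iff] at h
  exact Module.Flat.of_flat_tensorProduct R T S

set_option backward.isDefEq.respectTransparency.types false in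
theorem flat_desc : MorphismProperty.DescendsAlong (@Flat : MorphismProperty Scheme.{u})
    (@Surjective ⊓ @Flat ⊓ @QuasiCompact) :=
  HasRingHomProperty.descendsAlong_flat flat_codesc

set_option backward.isDefEq.respectTransparency.types false in

/-- Being finite locally free (finite, flat and locally of finite presentation), and being finite
locally free of a given degree d, are fpqc local on the base; the descent directions, stated as
descent along surjective flat quasi-compact morphisms: if the base change of f along such a morphism
is finite locally free then so is f, and if moreover that base change has constant rank d (Mathlib's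
rank function of a finite flat morphism) then f has constant rank d. (With Zariski-locality on the
target these give the statements for arbitrary fpqc coverings; stability under base change is the
other direction.) -/
theorem result :
    MorphismProperty.DescendsAlong (fun _ _ f => Mor2.IsFinLocFree f : MorphismProperty Scheme.{u})
      (@Surjective ⊓ @Flat ⊓ @QuasiCompact : MorphismProperty Scheme.{u}) ∧
    ∀ d : ℕ, MorphismProperty.DescendsAlong (fun _ _ f => Mor2.IsFinLocFreeOfDeg d f : MorphismProperty Scheme.{u})
      (@Surjective ⊓ @Flat ⊓ @QuasiCompact : MorphismProperty Scheme.{u}) := by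
  haveI := flat_desc.{u}
  haveI := Groth.Agent.S0084.result.{u}
  have h1 : ∀ {A X Y Z : Scheme.{u}} {fst : A ⟶ X} {snd : A ⟶ Y} {f : X ⟶ Z} {g : Y ⟶ Z},
      IsPullback fst snd f g →
      (@Surjective ⊓ @Flat ⊓ @QuasiCompact : MorphismProperty Scheme.{u}) f →
      Mor2.IsFinLocFree fst → Mor2.IsFinLocFree g := by
    intro A X Y Z fst snd f g h hf ⟨h1, h2, h3⟩
    exact ⟨MorphismProperty.of_isPullback_of_descendsAlong (P := @IsFinite) h hf h1,
      MorphismProperty.of_isPullback_of_descendsAlong (P := @Flat) h hf h2,
      MorphismProperty.of_isPullback_of_descendsAlong (P := @LocallyOfFinitePresentation) h hf h3⟩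
  refine ⟨⟨fun h hf hfst => h1 h hf hfst⟩,
    fun d => ⟨fun {A X Y Z fst snd f g} h hf hfst => ?_⟩⟩
  obtain ⟨hlf, hr⟩ := hfst
  have hg := h1 h hf hlf
  refine ⟨hg, fun z => ?_⟩
  haveI : IsFinite g := hg.1
  haveI : Flat g := hg.2.1
  haveI : Surjective f := hf.1.1
  obtain ⟨x, rfl⟩ := f.surjective z
  rw [← Scheme.Hom.finrank_of_isPullback snd fst g f h.flip x]
  exact hr x

end Groth.Agent.S9867
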