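import Groth.Statements.S8905
import Groth.Agent.H59.KoszH1Bridge
import Groth.Agent.S15821
import Groth.Agent.S2103

set_option autoImplicit false
universe u
open CategoryTheory CategoryTheory.Limits AlgebraicGeometry TopologicalSpace
open SDiv

namespace Groth.Agent.S8905


/-- Let i : Z ⟶ X be an immersion of schemes. If i is a regular immersion then it is Koszul-regular; if
Koszul-regular then H_1-regular; if H_1-regular then quasi-regular. -/
theorem result {Z X : Scheme.{u}} (i : Z ⟶ X) :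
    (RegImm.IsRegularImmersion RegImm.Kind.regular i → RegImm.IsRegularImmersion RegImm.Kind.koszul i) ∧
      (RegImm.IsRegularImmersion RegImm.Kind.koszul i → RegImm.IsRegularImmersion RegImm.Kind.h1 i) ∧
      (RegImm.IsRegularImmersion RegImm.Kind.h1 i → RegImm.IsRegularImmersion RegImm.Kind.quasi i) := by
  refine ⟨?_, ?_, ?_⟩
  · rintro ⟨himm, h⟩
    refine ⟨himm, fun z => ?_⟩
    obtain ⟨U, hU, hcl, rs, hrs, hker⟩ := h z
    refine ⟨U, hU, hcl, rs, ?_, hker⟩
    exact (Groth.Agent.S15821.result _ rs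
      (RingTheory.Sequence.IsRegular.toIsWeaklyRegular hrs)).1
  · rintro ⟨himm, h⟩
    refine ⟨himm, fun z => ?_⟩
    obtain ⟨U, hU, hcl, rs, hrs, hker⟩ := h z
    refine ⟨U, hU, hcl, rs, ?_, hker⟩
    exact Groth.Agent.H59.Kosz.isH1Regular_of_isKoszulRegularSeq rs hrs
  · rintro ⟨himm, h⟩
    refine ⟨himm, fun z => ?_⟩
    obtain ⟨U, hU, hcl, rs, hrs, hker⟩ := h z
    refine ⟨U, hU, hcl, rs, ?_, hker⟩
    exact Groth.Agent.S2103.result rs.get hrs

end Groth.Agent.S8905
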