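import Groth.Statements.S5937
-- import your own Groth.Agent.* helpers here
import Groth.Agent.H39.DerUniv

set_option autoImplicit false
universe u
open CategoryTheory CategoryTheory.Limits AlgebraicGeometry
open Unram17
open TopologicalSpace OmegaSh Groth.Agent.H39 Groth.Agent

namespace Groth.Agent.S5937



/-- Take a morphism of schemes f : X ⟶ Y and an O_X-module Ω' equipped with a universal Y-derivation d :
O_X → Ω' (so that Ω' is a sheaf of differentials of X over Y). Then f is formally unramified if and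
only if Ω' is a zero object of the category of O_X-modules. -/
theorem result {X Y : Scheme.{u}} (f : X ⟶ Y)
    (Ω' : X.Modules) (d : OmegaSh.Der f Ω') (hd : OmegaSh.IsUniversal d) :
    FormallyUnramified f ↔ IsZero Ω' := by
  constructor
  · intro hf
    have hsmall : ∀ (V : X.Opens) (hV : IsAffineOpen V) (U : Y.Opens) (hU : IsAffineOpen U)
        (e : V ≤ f ⁻¹ᵁ U) (t : Γ(X, V)), d.app V t = 0 := by
      intro V hV U hU e t
      letI : Algebra Γ(Y, U) Γ(X, V) := (f.appLE U V e).hom.toAlgebra
      have hfu : Algebra.FormallyUnramified Γ(Y, U) Γ(X, V) :=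
        hf.formallyUnramified_appLE hU hV e
      obtain ⟨ψ, hψ⟩ := DerUniv.exists_addEquiv_kaehler f hU hV e hd
      have hzero : ∀ x : Γ(X, hV.fromSpec ''ᵁ ⊤), d.app _ x = 0 := by
        intro x
        apply ψ.injective
        rw [hψ, map_zero]
        exact Subsingleton.elim _ _
      have e1 : hV.fromSpec ''ᵁ ⊤ = V := by
        rw [Scheme.Hom.image_top_eq_opensRange, hV.opensRange_fromSpec]
      have key : ∀ (V' : X.Opens), V' = V → (∀ x : Γ(X, V'), d.app V' x = 0) →
          ∀ t : Γ(X, V), d.app V t = 0 := by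
        rintro V' rfl h; exact h
      exact key _ e1 hzero t
    have hall : ∀ (W : X.Opens) (s : Γ(X, W)), d.app W s = 0 := by
      intro W s
      apply DerAff.sect_ext_of_basis Ω'
        (B := fun V : {V : X.Opens | IsAffineOpen V ∧ ∃ U : Y.Opens, IsAffineOpen U ∧ V ≤ f ⁻¹ᵁ U} =>
          V.1) (by rw [Subtype.range_coe]; exact DerUniv.isBasis_small f)
      rintro ⟨V, hV, U, hU, e⟩ hi
      rw [← DerAff.der_app_map, hsmall V hV U hU e, map_zero]
    rw [IsZero.iff_id_eq_zero]
    apply DerKit.hom_ext_of_universal hd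
    intro W s
    rw [hall, map_zero, map_zero]
  · intro hz
    have hall : ∀ (W : X.Opens) (s : Γ(X, W)), d.app W s = 0 := by
      intro W s
      have h1 : 𝟙 Ω' = 0 := (IsZero.iff_id_eq_zero _).mp hz
      have h2 := congr(($h1).app W (d.app W s))
      exact h2
    refine ⟨fun {U} hU {V} hV e => ?_⟩
    letI : Algebra Γ(Y, U) Γ(X, V) := (f.appLE U V e).hom.toAlgebra
    obtain ⟨ψ, hψ⟩ := DerUniv.exists_addEquiv_kaehler f hU hV e hd
    show Algebra.FormallyUnramified Γ(Y, U) Γ(X, V)
    constructor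
    have hD : ∀ t : Γ(X, V), KaehlerDifferential.D Γ(Y, U) Γ(X, V) t = 0 := by
      intro t
      have h3 := hψ ((hV.fromSpec.appIso ⊤).inv ((Scheme.ΓSpecIso Γ(X, V)).inv t))
      rw [hall, map_zero] at h3
      have h4 : (hV.fromSpec.appIso ⊤).hom ((hV.fromSpec.appIso ⊤).inv
          ((Scheme.ΓSpecIso Γ(X, V)).inv t)) = (Scheme.ΓSpecIso Γ(X, V)).inv t :=
        congr($((hV.fromSpec.appIso ⊤).inv_hom_id) ((Scheme.ΓSpecIso Γ(X, V)).inv t))
      rw [h4, S5947.inv_hom] at h3
      exact h3.symm
    suffices h : (⊤ : Submodule Γ(X, V) Ω[Γ(X, V)⁄Γ(Y, U)]) ≤ ⊥ from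
      (subsingleton_iff_forall_eq 0).mpr fun y ↦ h trivial
    rw [← KaehlerDifferential.span_range_derivation, Submodule.span_le]
    rintro _ ⟨t, rfl⟩
    exact hD t

end Groth.Agent.S5937
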