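import Groth.Statements.S9386
-- import your own Groth.Agent.* helpers here
import Groth.Agent.H39.DiffCompatLocal
import Groth.Agent.H8.RelFPBaseChange

set_option autoImplicit false
universe u
open OmegaSh

namespace Groth.Agent.S9386

open AlgebraicGeometry CategoryTheory CategoryTheory.Limits


open Groth.Agent.H39 in
/-- Index type of the cover of `X' = X ×_S S'` by products of affines. -/
structure Idx {X S X' S' : Scheme.{u}} (f : X ⟶ S) (g : S' ⟶ S) : Type u where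
  U : S.Opens
  V : X.Opens
  U' : S'.Opens
  hU : IsAffineOpen U
  hV : IsAffineOpen V
  hU' : IsAffineOpen U'
  hVU : V ≤ f ⁻¹ᵁ U
  hU'U : U' ≤ g ⁻¹ᵁ U

lemma isOpenCover_prod {X S X' S' : Scheme.{u}} (f : X ⟶ S) (g : S' ⟶ S) (g' : X' ⟶ X)
    (f' : X' ⟶ S') (w : g' ≫ f = f' ≫ g) :
    TopologicalSpace.IsOpenCover (fun i : Idx (X' := X') f g => g' ⁻¹ᵁ i.V ⊓ f' ⁻¹ᵁ i.U') := by
  rw [TopologicalSpace.IsOpenCover, eq_top_iff]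
  intro x' _
  obtain ⟨U, hU, hxU, -⟩ := (TopologicalSpace.Opens.isBasis_iff_nbhd.mp (S.isBasis_affineOpens))
    (TopologicalSpace.Opens.mem_top (f.base (g'.base x')))
  obtain ⟨V, hV, hxV, hVU⟩ := (TopologicalSpace.Opens.isBasis_iff_nbhd.mp (X.isBasis_affineOpens))
    (show g'.base x' ∈ f ⁻¹ᵁ U from hxU)
  have hx2 : f'.base x' ∈ g ⁻¹ᵁ U := by
    show g.base (f'.base x') ∈ U
    have h1 : g.base (f'.base x') = f.base (g'.base x') := by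
      rw [← Scheme.Hom.comp_apply, ← Scheme.Hom.comp_apply, w]
    rw [h1]; exact hxU
  obtain ⟨U', hU', hxU', hU'U⟩ :=
    (TopologicalSpace.Opens.isBasis_iff_nbhd.mp (S'.isBasis_affineOpens)) hx2
  exact TopologicalSpace.Opens.mem_iSup.mpr ⟨⟨U, V, U', hU, hV, hU', hVU, hU'U⟩, hxV, hxU'⟩


open AlgebraicGeometry CategoryTheory in
/-- For a cartesian square X' = X ×_S S' with projection g' : X' → X, the canonical map g'^*Ω_{X/S} →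
Ω_{X'/S'} is an isomorphism (receptacle form: Ω_{X/S}, Ω_{X'/S'} are any modules carrying universal
derivations and the map is pinned by its values on pulled-back differentials). -/
theorem result {X S X' S' : Scheme.{u}} (f : X ⟶ S) (g : S' ⟶ S) (g' : X' ⟶ X) (f' : X' ⟶ S')
    (hsq : IsPullback g' f' f g) (Ω : X.Modules) (d : OmegaSh.Der f Ω) (hd : OmegaSh.IsUniversal d)
    (Ω' : X'.Modules) (d' : OmegaSh.Der f' Ω') (hd' : OmegaSh.IsUniversal d')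
    (c : (Scheme.Modules.pullback g').obj Ω ⟶ Ω') (hc : OmegaSh.IsDiffCompat g' d d' c) : IsIso c := by
  haveI : Ω.IsQuasicoherent := Groth.Agent.H39.DerFin.isQuasicoherent_of_isUniversal f hd
  haveI : Ω'.IsQuasicoherent := Groth.Agent.H39.DerFin.isQuasicoherent_of_isUniversal f' hd'
  haveI : ((Scheme.Modules.pullback g').obj Ω).IsQuasicoherent :=
    Groth.Agent.H8.isQuasicoherent_pullback g' Ω
  have hW : ∀ i : Idx (X' := X') f g, IsAffineOpen (g' ⁻¹ᵁ i.V ⊓ f' ⁻¹ᵁ i.U') := fun i =>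
    Groth.Agent.H8.isAffineOpen_prodOpen hsq i.hU i.hU' i.hU'U i.hV i.hVU
  refine Groth.Agent.H8.isIso_of_bijective_affine_cover c
    (fun i : Idx (X' := X') f g => g' ⁻¹ᵁ i.V ⊓ f' ⁻¹ᵁ i.U')
    (isOpenCover_prod f g g' f' hsq.w) hW (fun i => ?_)
  obtain ⟨U, V, U', hU, hV, hU', hVU, hU'U⟩ := i
  have hpush : IsPushout (f.appLE U V hVU) (g.appLE U U' hU'U)
      (g'.appLE V (g' ⁻¹ᵁ V ⊓ f' ⁻¹ᵁ U') inf_le_left)
      (f'.appLE U' (g' ⁻¹ᵁ V ⊓ f' ⁻¹ᵁ U') inf_le_right) := by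
    have := isIso_pushoutSection_of_isAffineOpen hsq hU'U hVU rfl hU hU' hV
    exact (isIso_pushoutSection_iff hsq hU'U hVU rfl).mp this
  letI a1 : Algebra Γ(S, U) Γ(X, V) := (f.appLE U V hVU).hom.toAlgebra
  letI a2 : Algebra Γ(S, U) Γ(S', U') := (g.appLE U U' hU'U).hom.toAlgebra
  letI a3 : Algebra Γ(X, V) Γ(X', g' ⁻¹ᵁ V ⊓ f' ⁻¹ᵁ U') :=
    (g'.appLE V (g' ⁻¹ᵁ V ⊓ f' ⁻¹ᵁ U') inf_le_left).hom.toAlgebra
  letI a4 : Algebra Γ(S', U') Γ(X', g' ⁻¹ᵁ V ⊓ f' ⁻¹ᵁ U') :=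
    (f'.appLE U' (g' ⁻¹ᵁ V ⊓ f' ⁻¹ᵁ U') inf_le_right).hom.toAlgebra
  letI a5 : Algebra Γ(S, U) Γ(X', g' ⁻¹ᵁ V ⊓ f' ⁻¹ᵁ U') :=
    ((g'.appLE V (g' ⁻¹ᵁ V ⊓ f' ⁻¹ᵁ U') inf_le_left).hom.comp (f.appLE U V hVU).hom).toAlgebra
  haveI t1 : IsScalarTower Γ(S, U) Γ(X, V) Γ(X', g' ⁻¹ᵁ V ⊓ f' ⁻¹ᵁ U') :=
    IsScalarTower.of_algebraMap_eq' rfl
  haveI t2 : IsScalarTower Γ(S, U) Γ(S', U') Γ(X', g' ⁻¹ᵁ V ⊓ f' ⁻¹ᵁ U') :=
    IsScalarTower.of_algebraMap_eq' (congrArg CommRingCat.Hom.hom hpush.w)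
  haveI hpo : Algebra.IsPushout Γ(S, U) Γ(X, V) Γ(S', U') Γ(X', g' ⁻¹ᵁ V ⊓ f' ⁻¹ᵁ U') :=
    CommRingCat.isPushout_iff_isPushout.mp hpush
  haveI hpo' : Algebra.IsPushout Γ(S, U) Γ(S', U') Γ(X, V) Γ(X', g' ⁻¹ᵁ V ⊓ f' ⁻¹ᵁ U') :=
    hpo.symm
  refine Groth.Agent.H39.DiffCompatLocal.app_bijective f f' g' hd hd' hc hU hV hVU hU'
    (hW ⟨U, V, U', hU, hV, hU', hVU, hU'U⟩) inf_le_right inf_le_left
    (KaehlerDifferential.tensorKaehlerEquiv Γ(S, U) Γ(S', U') Γ(X, V)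
      Γ(X', g' ⁻¹ᵁ V ⊓ f' ⁻¹ᵁ U')) (fun s => ?_)
  rw [KaehlerDifferential.tensorKaehlerEquiv_tmul_D, one_smul]
  rfl

end Groth.Agent.S9386
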