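import Groth.Statements.S7005
import Groth.Agent.H35.RelFP
import Mathlib

set_option autoImplicit false
universe u
open CAlg

namespace Groth.Agent.S7005

open TensorProduct

attribute [local instance] MvPolynomial.algebraMvPolynomial

/-- Quotient step: if `N = D ⊗_A M` is finitely presented over `E` (with `E → D` surjective) and
`D → A'` is surjective with finitely generated kernel, then `A' ⊗_A M` is finitely presented over
`E`. -/
theorem fp_quotient_step {A D A' E : Type u} [CommRing A] [CommRing D] [CommRing A'] [CommRing E]
    [Algebra A D] [Algebra A A'] [Algebra D A'] [IsScalarTower A D A']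
    [Algebra E D] [Algebra E A'] [IsScalarTower E D A']
    (hED : Function.Surjective (algebraMap E D)) (hDA' : Function.Surjective (algebraMap D A'))
    (hJ : (RingHom.ker (algebraMap D A')).FG)
    (M : Type u) [AddCommGroup M] [Module A M]
    [Module.FinitePresentation E (D ⊗[A] M)] : Module.FinitePresentation E (A' ⊗[A] M) := by
  let π : D ⊗[A] M →ₗ[D] A' ⊗[A] M :=
    TensorProduct.AlgebraTensorModule.rTensor A M (Algebra.linearMap D A')
  let ρA : D →ₗ[A] A' := (Algebra.linearMap D A').restrictScalars A
  have hπ : ∀ x, π x = ρA.rTensor M x := fun x => rfl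
  have hsurj : Function.Surjective π := by
    intro x
    obtain ⟨y, hy⟩ := LinearMap.rTensor_surjective M (g := ρA) hDA' x
    exact ⟨y, (hπ y).trans hy⟩
  haveI : Module.Finite D (D ⊗[A] M) := Module.Finite.of_restrictScalars_finite E D _
  have hker : LinearMap.ker π = RingHom.ker (algebraMap D A') • (⊤ : Submodule D (D ⊗[A] M)) := by
    apply le_antisymm
    · intro x hx
      have hx' : ρA.rTensor M x = 0 := by rw [← hπ]; exact hx
      have hex := rTensor_exact M (LinearMap.exact_subtype_ker_map ρA) hDA'
      obtain ⟨y, rfl⟩ := (hex x).1 hx'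
      clear hx hx'
      induction y using TensorProduct.induction_on with
      | zero => rw [map_zero]; exact zero_mem _
      | tmul j m =>
        have hj : (j : D) ∈ RingHom.ker (algebraMap D A') := by
          have := j.2
          rw [LinearMap.mem_ker] at this
          exact this
        have e : (LinearMap.rTensor M (LinearMap.ker ρA).subtype) (j ⊗ₜ[A] m) =
            (j : D) • ((1 : D) ⊗ₜ[A] m) := by
          rw [LinearMap.rTensor_tmul, TensorProduct.smul_tmul', smul_eq_mul, mul_one]
          rfl
        rw [e]
        exact Submodule.smul_mem_smul hj trivial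
      | add y₁ y₂ h₁ h₂ => rw [map_add]; exact add_mem h₁ h₂
    · rw [Submodule.smul_le]
      intro j hj n _
      rw [LinearMap.mem_ker, map_smul, ← algebraMap_smul A' j (π n)]
      rw [RingHom.mem_ker] at hj
      rw [hj, zero_smul]
  have hfg : (LinearMap.ker π).FG := by
    rw [hker]
    exact Submodule.FG.smul hJ (Module.Finite.fg_top)
  refine Module.finitePresentation_of_surjective (π.restrictScalars E) hsurj ?_
  rw [LinearMap.ker_restrictScalars]
  exact hfg.restrictScalars_of_surjective hED

/-- Let R → A be a finite type homomorphism of commutative rings, α : R[x_1, ..., x_n] → A a surjective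
R-algebra homomorphism and M an A-module which is finitely presented as an R[x_1, ..., x_n]-module
through α. Let A → A' be a ring homomorphism of finite presentation and γ : R[z_1, ..., z_k] → A' a
surjective R-algebra homomorphism. Then A' ⊗_A M is finitely presented as an R[z_1, ..., z_k]-module
through γ. -/
theorem result {R A A' : Type u} [CommRing R] [CommRing A]
    [CommRing A'] [Algebra R A] [Algebra A A'] [Algebra R A'] [IsScalarTower R A A'] [Algebra.FiniteType R A]
    [Algebra.FinitePresentation A A'] (M : Type u) [AddCommGroup M] [Module A M] {n k : ℕ}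
    (α : MvPolynomial (Fin n) R →ₐ[R] A) (hα : Function.Surjective α)
    (hM : @Module.FinitePresentation (MvPolynomial (Fin n) R) (M) _ _ (Module.compHom (M) α.toRingHom))
    (γ : MvPolynomial (Fin k) R →ₐ[R] A') (hγ : Function.Surjective γ) :
    @Module.FinitePresentation (MvPolynomial (Fin k) R) (TensorProduct A A' M) _ _ (Module.compHom (TensorProduct A A' M) γ.toRingHom) := by
  classical
  obtain ⟨m, ρ, hρ, hJ⟩ := (inferInstance : Algebra.FinitePresentation A A').out
  letI algPA : Algebra (MvPolynomial (Fin n) R) A := α.toRingHom.toAlgebra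
  haveI t0 : IsScalarTower R (MvPolynomial (Fin n) R) A :=
    IsScalarTower.of_algebraMap_eq (fun r => (α.commutes r).symm)
  letI mP : Module (MvPolynomial (Fin n) R) M := Module.compHom M α.toRingHom
  haveI t7 : IsScalarTower (MvPolynomial (Fin n) R) A M := ⟨fun p a m => by
    show (α p * a) • m = α p • (a • m)
    rw [mul_smul]⟩
  haveI : Module.FinitePresentation (MvPolynomial (Fin n) R) M := hM
  haveI h1 : Module.FinitePresentation (MvPolynomial (Fin m) (MvPolynomial (Fin n) R))
      (MvPolynomial (Fin m) A ⊗[A] M) :=
    H35.fp_baseChange_pushout (C := MvPolynomial (Fin n) R) (A := A)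
      (C' := MvPolynomial (Fin m) (MvPolynomial (Fin n) R)) (A' := MvPolynomial (Fin m) A) M
  letI algDA' : Algebra (MvPolynomial (Fin m) A) A' := ρ.toRingHom.toAlgebra
  haveI t1 : IsScalarTower A (MvPolynomial (Fin m) A) A' :=
    IsScalarTower.of_algebraMap_eq (fun a => (ρ.commutes a).symm)
  letI algEA' : Algebra (MvPolynomial (Fin m) (MvPolynomial (Fin n) R)) A' :=
    ((algebraMap (MvPolynomial (Fin m) A) A').comp
      (algebraMap (MvPolynomial (Fin m) (MvPolynomial (Fin n) R)) (MvPolynomial (Fin m) A))).toAlgebra
  haveI t2 : IsScalarTower (MvPolynomial (Fin m) (MvPolynomial (Fin n) R))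
      (MvPolynomial (Fin m) A) A' := IsScalarTower.of_algebraMap_eq' rfl
  have hED : Function.Surjective (algebraMap (MvPolynomial (Fin m) (MvPolynomial (Fin n) R))
      (MvPolynomial (Fin m) A)) := MvPolynomial.map_surjective _ hα
  haveI h2 : Module.FinitePresentation (MvPolynomial (Fin m) (MvPolynomial (Fin n) R))
      (A' ⊗[A] M) :=
    fp_quotient_step (D := MvPolynomial (Fin m) A) hED hρ hJ M
  let ε : MvPolynomial (Fin m) (MvPolynomial (Fin n) R) →ₐ[R] A' :=
    (ρ.restrictScalars R).comp (MvPolynomial.mapAlgHom α)
  have hε : Function.Surjective ε := hρ.comp hED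
  letI mZ : Module (MvPolynomial (Fin k) R) (A' ⊗[A] M) := Module.compHom _ γ.toRingHom
  refine S6992.fp_transfer_alg (MvPolynomial (Fin m) (MvPolynomial (Fin n) R))
    (MvPolynomial (Fin k) R) ε hε γ hγ (A' ⊗[A] M) (fun b x => ?_) (fun c x => rfl)
  induction x using TensorProduct.induction_on with
  | zero => rw [smul_zero, smul_zero]
  | tmul a' x =>
    rw [TensorProduct.smul_tmul', TensorProduct.smul_tmul', Algebra.smul_def, smul_eq_mul]
    rfl
  | add x y hx hy => rw [smul_add, smul_add, hx, hy]

end Groth.Agent.S7005
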