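import Groth.Statements.S8375
import Mathlib

set_option autoImplicit false
universe u
open scoped TensorProduct
open SGA3t2b

namespace Groth.Agent.S8375

theorem coeff_charpoly_retract {K : Type*} [Field K] {V W : Type*} [AddCommGroup V] [Module K V]
    [FiniteDimensional K V] [AddCommGroup W] [Module K W] [FiniteDimensional K W]
    (f : V →ₗ[K] V) (i : V →ₗ[K] W) (s : W →ₗ[K] V) (hsi : s ∘ₗ i = LinearMap.id) (j : ℕ) :
    (i ∘ₗ f ∘ₗ s).charpoly.coeff (j + Module.finrank K W - Module.finrank K V) =
      f.charpoly.coeff j := by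
  classical
  have hinj : Function.Injective i := LinearMap.injective_of_comp_eq_id _ _ hsi
  have hle : Module.finrank K V ≤ Module.finrank K W :=
    LinearMap.finrank_le_finrank_of_injective hinj
  let bV := Module.finBasis K V
  let bW := Module.finBasis K W
  let Am : Matrix (Fin (Module.finrank K W)) (Fin (Module.finrank K V)) K :=
    LinearMap.toMatrix bV bW i
  let Bm : Matrix (Fin (Module.finrank K V)) (Fin (Module.finrank K W)) K :=
    LinearMap.toMatrix bW bV (f ∘ₗ s)
  have hAB : Am * Bm = LinearMap.toMatrix bW bW (i ∘ₗ f ∘ₗ s) := by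
    rw [LinearMap.toMatrix_comp bW bV bW]
  have hBA : Bm * Am = LinearMap.toMatrix bV bV f := by
    rw [← LinearMap.toMatrix_comp bV bW bV, LinearMap.comp_assoc, hsi, LinearMap.comp_id]
  have h := Matrix.charpoly_mul_comm' Am Bm
  rw [hAB, hBA, LinearMap.charpoly_toMatrix, LinearMap.charpoly_toMatrix, Fintype.card_fin,
    Fintype.card_fin] at h
  have h2 := congrArg (fun p => Polynomial.coeff p (j + Module.finrank K W)) h
  beta_reduce at h2
  rw [Polynomial.coeff_X_pow_mul', Polynomial.coeff_X_pow_mul, if_pos (by omega)] at h2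
  exact h2

/-- Over an affine base Spec A: let L be a Lie algebra over A which is a finitely generated projective
A-module, such that the nilpotent rank of the fibre Lie algebras κ(p) ⊗ L is a locally constant
function of p ∈ Spec A. Then for every a ∈ L the set of primes p at which 1 ⊗ a is a regular element
of κ(p) ⊗ L is open in Spec A. (The published statement is over an arbitrary base and first asserts
that the locus of regular elements in the vector bundle of L is open; this row states its
consequence for a given section a, over an affine base.) -/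
theorem result {A : Type u} [CommRing A] {L : Type u} [LieRing L]
    [LieAlgebra A L] [Module.Finite A L] [Module.Projective A L]
    (hC0 : ∀ p : PrimeSpectrum A, ∃ f : A, f ∉ p.asIdeal ∧ ∀ q : PrimeSpectrum A, f ∉ q.asIdeal →
        LieAlgebra.rank q.asIdeal.ResidueField (q.asIdeal.ResidueField ⊗[A] L) =
          LieAlgebra.rank p.asIdeal.ResidueField (p.asIdeal.ResidueField ⊗[A] L)) (a : L) :
    IsOpen {p : PrimeSpectrum A |
      LieAlgebra.IsRegular p.asIdeal.ResidueField ((1 : p.asIdeal.ResidueField) ⊗ₜ[A] a)} := by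
  classical
  obtain ⟨n, s, i, -, -, hsi⟩ := Module.Finite.exists_comp_eq_id_of_projective A L
  set Φ : (Fin n → A) →ₗ[A] (Fin n → A) := i ∘ₗ (LieAlgebra.ad A L a : L →ₗ[A] L) ∘ₗ s with hΦ
  set P := Φ.charpoly with hP
  have key : ∀ (q : PrimeSpectrum A) (j : ℕ),
      ((LieAlgebra.ad q.asIdeal.ResidueField (q.asIdeal.ResidueField ⊗[A] L)
        ((1 : q.asIdeal.ResidueField) ⊗ₜ[A] a)).charpoly).coeff j =
        algebraMap A q.asIdeal.ResidueField (P.coeff (j + n - Module.rankAtStalk L q)) := by
    intro q j
    have hnt : Nontrivial A := q.nontrivial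
    have h1 : (LieAlgebra.ad q.asIdeal.ResidueField (q.asIdeal.ResidueField ⊗[A] L)
        ((1 : q.asIdeal.ResidueField) ⊗ₜ[A] a)) =
        ((LieAlgebra.ad A L a : L →ₗ[A] L)).baseChange q.asIdeal.ResidueField :=
      LieModule.toEnd_baseChange _ _ _ _ _
    have hsi' : s.baseChange q.asIdeal.ResidueField ∘ₗ i.baseChange q.asIdeal.ResidueField =
        LinearMap.id := by
      rw [← LinearMap.baseChange_comp, hsi, LinearMap.baseChange_id]
    have h2 := coeff_charpoly_retract
      ((LieAlgebra.ad A L a : L →ₗ[A] L).baseChange q.asIdeal.ResidueField)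
      (i.baseChange q.asIdeal.ResidueField) (s.baseChange q.asIdeal.ResidueField) hsi' j
    have h3 : i.baseChange q.asIdeal.ResidueField ∘ₗ
        (LieAlgebra.ad A L a : L →ₗ[A] L).baseChange q.asIdeal.ResidueField ∘ₗ
        s.baseChange q.asIdeal.ResidueField = Φ.baseChange q.asIdeal.ResidueField := by
      rw [hΦ, LinearMap.baseChange_comp, LinearMap.baseChange_comp]
    rw [h3, LinearMap.charpoly_baseChange, Polynomial.coeff_map] at h2
    have h4 : Module.finrank q.asIdeal.ResidueField
        (q.asIdeal.ResidueField ⊗[A] (Fin n → A)) = n := by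
      rw [Module.finrank_baseChange, Module.finrank_fin_fun]
    have h5 : Module.finrank q.asIdeal.ResidueField (q.asIdeal.ResidueField ⊗[A] L) =
        Module.rankAtStalk L q := (Module.rankAtStalk_eq q).symm
    rw [h4, h5] at h2
    rw [h1, ← h2]
  rw [isOpen_iff_forall_mem_open]
  intro p hp
  obtain ⟨f, hfp, hf⟩ := hC0 p
  have hfpres : Module.FinitePresentation A L := Module.finitePresentation_of_projective A L
  have hlc := Module.isLocallyConstant_rankAtStalk (R := A) (M := L)
  have hV : IsOpen {q : PrimeSpectrum A | Module.rankAtStalk L q = Module.rankAtStalk L p} :=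
    hlc.isOpen_fiber _
  set m := LieAlgebra.rank p.asIdeal.ResidueField (p.asIdeal.ResidueField ⊗[A] L) + n -
    Module.rankAtStalk L p with hm
  refine ⟨((PrimeSpectrum.basicOpen f : Set (PrimeSpectrum A)) ∩
    {q : PrimeSpectrum A | Module.rankAtStalk L q = Module.rankAtStalk L p}) ∩
    (PrimeSpectrum.basicOpen (P.coeff m) : Set (PrimeSpectrum A)), ?_, ?_, ?_⟩
  · rintro q ⟨⟨hq1, hq2⟩, hq3⟩
    have hq1' : f ∉ q.asIdeal := hq1
    have hq3' : P.coeff m ∉ q.asIdeal := hq3
    have hq2' : Module.rankAtStalk L q = Module.rankAtStalk L p := hq2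
    show LieAlgebra.IsRegular q.asIdeal.ResidueField ((1 : q.asIdeal.ResidueField) ⊗ₜ[A] a)
    rw [LieAlgebra.isRegular_def, key q, hf q hq1', hq2', ← hm]
    rw [Ne, Ideal.algebraMap_residueField_eq_zero]
    exact hq3'
  · exact ((PrimeSpectrum.basicOpen f).isOpen.inter hV).inter (PrimeSpectrum.basicOpen _).isOpen
  · refine ⟨⟨hfp, rfl⟩, ?_⟩
    have hp' : LieAlgebra.IsRegular p.asIdeal.ResidueField
      ((1 : p.asIdeal.ResidueField) ⊗ₜ[A] a) := hp
    rw [LieAlgebra.isRegular_def, key p, ← hm, Ne, Ideal.algebraMap_residueField_eq_zero] at hp'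
    exact hp'

end Groth.Agent.S8375
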