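import Groth.Statements.S1802
import Groth.Agent.H2.AffPunct
import Groth.Agent.H58.LCTors

set_option autoImplicit false
universe u
open AlgebraicGeometry
open LocCoh

namespace Groth.Agent.S1802

/-- For a Noetherian ring. Let I be an ideal of a Noetherian ring A with cd(A, I) = 1, i.e. H^i_I(M) = 0
for all modules M and all i ≥ 2 but H^1_I(M) ≠ 0 for some M. Then the open subscheme Spec A minus
V(I) is nonempty and affine. -/
theorem result (A : Type u) [CommRing A] [IsNoetherianRing A] (I : Ideal A) (h1 : LocCoh.CdLE A I 1) (h0 : ¬ LocCoh.CdLE A I 0) : Nonempty (↑(LocCoh.puncturedOpen A I) : Scheme.{u}) ∧ IsAffine (↑(LocCoh.puncturedOpen A I) : Scheme.{u}) := by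
  refine ⟨?_, (Groth.Agent.H2.AffPunct.isAffineOpen_punctured_iff_cdLE_one A I).2 h1⟩
  by_contra hne
  rw [not_nonempty_iff] at hne
  apply h0
  have hU : ∀ p : PrimeSpectrum A, p ∈ PrimeSpectrum.zeroLocus (I : Set A) := by
    intro p
    by_contra hp
    exact hne.false ⟨p, hp⟩
  have hI : I ≤ nilradical A := by
    intro x hx
    rw [nilradical_eq_sInf, Ideal.mem_sInf]
    intro J hJ
    exact hU ⟨J, hJ⟩ hx
  obtain ⟨n, hn⟩ : ∃ n, I ^ n = ⊥ := by
    obtain ⟨n, hn⟩ := IsNoetherianRing.isNilpotent_nilradical A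
    exact ⟨n, le_bot_iff.1 ((Ideal.pow_right_mono hI n).trans (le_of_eq hn))⟩
  intro M _ _ i hi
  refine Groth.Agent.H58.LC.subsingleton_H_of_isPowerTorsion' I M (fun m => ⟨n, fun a ha => ?_⟩) i hi
  rw [hn] at ha
  rw [(Submodule.mem_bot A).1 ha, zero_smul]

end Groth.Agent.S1802
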