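import Groth.Statements.S12604
import Groth.Agent.H27.Tate.WDivGlobal
import Groth.Agent.H27.Tate.ExistsExp
import Groth.Agent.S12606
import Groth.Agent.S12615

set_option autoImplicit false
open FunFld

namespace Groth.Agent.S12604

/-- Over an algebraically closed constant field, let `τ` be a `k`-endomorphism of the function field `K`
of genus `g`, of degree `deg τ = [K : τ(K)]`, and `φ = (φ₀, …, φₙ)` a projective map such that
`τ(φ)` is not a `K`-multiple of `φ`, with `τ`-orders `j₁, …, jₙ`. Then the number `N` of strong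
fixed points of `τ` (places whose maximal ideal `τ` maps into its square) is finite and `n N ≤ (n +
deg τ) deg φ + (2g - 2)(j₁ + ⋯ + jₙ)`, i.e. `N ≤ (1/n) deg W(φ, τ)`. -/
theorem result
    (k K : Type*) [Field k] [IsAlgClosed k] [Field K] [Algebra k K]
    (hK : FunFld.IsFunctionField k K) (τ : K →ₐ[k] K) {n : ℕ} (φ : Fin (n + 1) → K) (hφ : LinearIndependent k φ)
    (hτφ : ¬ ∃ y : K, ∀ i, τ (φ i) = y * φ i) (s : K) (H : K →ₐ[k] PowerSeries K) (hH : LocRes.IsHasseFamily s H)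
    (J : Fin n → ℕ) (hJ : FunFld.IsOrders K (FunFld.hcol τ H φ) J) :
    {P : FunFld.Place k K | FunFld.IsStrongFixedPt τ P}.Finite ∧
    (n : ℤ) * (Set.ncard {P : FunFld.Place k K | FunFld.IsStrongFixedPt τ P} : ℤ) ≤
      ((n : ℤ) + Module.finrank τ.fieldRange K) * (FunFld.mapDiv k φ).deg +
        (2 * (FunFld.genus k K : ℤ) - 2) * ∑ l, (J l : ℤ) := by
  classical
  -- expansions at every place
  choose Φ hΦ using fun P : FunFld.Place k K => Groth.Agent.H27.ExistsExp.exists_expansion hK P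
  obtain ⟨W, hWdef⟩ : ∃ W : FunFld.Divisor k K, W = FunFld.wDiv τ H Φ s φ J := ⟨_, rfl⟩
  have hW0 : 0 ≤ W := by
    rw [hWdef]; exact Groth.Agent.H27.WDivGlobal.wDiv_nonneg hK φ hφ τ s H hH J hJ Φ hΦ
  have hWdeg := Groth.Agent.H27.WDivGlobal.deg_wDiv hK φ τ s H hH J Φ hΦ
  rw [← hWdef] at hWdeg
  -- `n ≥ 1`
  have hn : 0 < n := by
    rcases Nat.eq_zero_or_pos n with h0 | h0
    · exfalso
      subst h0
      apply hτφ
      refine ⟨τ (φ 0) / φ 0, fun i => ?_⟩
      have hi : i = 0 := Fin.ext (by have := i.2; omega)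
      rw [hi, div_mul_cancel₀ _ (hφ.ne_zero 0)]
    · exact h0
  -- coefficient at a strong fixed point
  have hcoef : ∀ P : FunFld.Place k K, FunFld.IsStrongFixedPt τ P → (n : ℤ) ≤ W P := by
    intro P hP
    obtain ⟨t, Ht, φ', y, hy0, ht, hHt, hφ'i, hφ'li, heff, hnorm, hJ', hWeq⟩ :=
      Groth.Agent.H27.WDivGlobal.normalize hK φ hφ τ s H hH J hJ Φ hΦ P
    have hτφ' : ¬ ∃ z : K, ∀ i, τ (φ' i) = z * φ' i := by
      rintro ⟨z, hz⟩
      apply hτφ
      have hτy : τ y ≠ 0 := (map_ne_zero_iff τ τ.injective).2 hy0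
      refine ⟨z * y / τ y, fun i => ?_⟩
      have := hz i
      rw [hφ'i, map_mul] at this
      field_simp
      rw [mul_comm (τ (φ i)), this]
      ring
    obtain ⟨J', hJ'ord⟩ := Groth.Agent.H27.Jump.exists_localOrders hK P φ' hφ'li heff hnorm t ht
      Ht hHt
    have hfix : FunFld.IsFixedPt τ P := Groth.Agent.H27.LocDet.strong_fixed P hP
    obtain ⟨h1, -⟩ := Groth.Agent.S12615.result k K hK τ P hfix φ' hφ'li heff hnorm t ht Ht hHt
      J hJ' J' hJ'ord Φ hΦ
    have h2 := Groth.Agent.S12606.result k K hK τ P hP hn φ' hφ'li heff hnorm hτφ' t ht Ht hHt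
      J hJ' J' hJ'ord
    have hJ'pos : 0 < J' ⟨0, hn⟩ :=
      ((Groth.Agent.H27.LocOrd.isJump_hcolAt_succ_iff hK P ht hHt φ' hnorm (J' ⟨0, hn⟩)).1
        ((hJ'ord.2 (J' ⟨0, hn⟩)).1 ⟨⟨0, hn⟩, rfl⟩)).1
    have h3 : ∑ _l : Fin n, (1 : ℤ) ≤ ∑ l, ((J' l : ℤ) - J l) :=
      Finset.sum_le_sum (fun l _ => by
        have := h2 l
        omega)
    rw [Finset.sum_const, Finset.card_univ, Fintype.card_fin, nsmul_eq_mul, mul_one] at h3
    rw [hWdef, ← hWeq]
    exact h3.trans h1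
  -- finiteness
  have hsub : {P : FunFld.Place k K | FunFld.IsStrongFixedPt τ P} ⊆ ↑W.support := by
    intro P hP
    rw [Finset.mem_coe, Finsupp.mem_support_iff]
    have := hcoef P hP
    omega
  have hfin : {P : FunFld.Place k K | FunFld.IsStrongFixedPt τ P}.Finite :=
    W.support.finite_toSet.subset hsub
  refine ⟨hfin, ?_⟩
  -- the degree bound
  obtain ⟨E, hE⟩ : ∃ E : FunFld.Divisor k K, E = ∑ P ∈ hfin.toFinset, Finsupp.single P (1 : ℤ) :=
    ⟨_, rfl⟩
  have hEapply : ∀ Q : FunFld.Place k K, E Q = if FunFld.IsStrongFixedPt τ Q then 1 else 0 := by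
    intro Q
    rw [hE, Finsupp.finsetSum_apply]
    simp only [Finsupp.single_apply]
    rw [Finset.sum_ite_eq']
    simp only [Set.Finite.mem_toFinset, Set.mem_ofPred_eq]
  have hEdeg : E.deg = (Set.ncard {P : FunFld.Place k K | FunFld.IsStrongFixedPt τ P} : ℤ) := by
    rw [hE, ← Groth.Agent.H55.degHom_apply, map_sum]
    simp only [Groth.Agent.H55.degHom_apply, Groth.Agent.H55.deg_single,
      Groth.Agent.H55.deg_eq_one_of_isAlgClosed hK, Nat.cast_one, mul_one]
    rw [Finset.sum_const, nsmul_eq_mul, mul_one, Set.ncard_eq_toFinset_card _ hfin]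
  have hle : (n : ℤ) • E ≤ W := by
    intro Q
    rw [Finsupp.smul_apply, hEapply, smul_eq_mul]
    split_ifs with hQ
    · rw [mul_one]; exact hcoef Q hQ
    · rw [mul_zero]; exact hW0 Q
  have := Groth.Agent.H55.deg_mono hle
  rw [Groth.Agent.H55.deg_zsmul, hEdeg, hWdeg] at this
  linarith

end Groth.Agent.S12604
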