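import Groth.Statements.S12608
import Groth.Agent.H27.WDiv

set_option autoImplicit false
open FunFld

namespace Groth.Agent.S12608

open WithZero Groth.Agent.H55 Groth.Agent.H27.Expn Groth.Agent.H27.LocOrd Groth.Agent.H27.LocDet
open Groth.Agent.H27.WDiv


/-- Over an algebraically closed constant field, let `φ = (φ₀, …, φₙ)` be an effective projective map
normalized at the place `P`, `t` a local parameter at `P`, `j₁, …, jₙ` the orders of `φ` and `j'₁,
…, j'ₙ` the orders of `φ` at `P`. Then `jₗ ≤ j'ₗ` for all `l`, and the following are equivalent: all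
`j'ₗ = jₗ`; the Wronskian `w_t(φ)` does not vanish at `P`; the Weierstrass divisor `W(φ)` has
coefficient `0` at `P` (the divisor of `dt` in it read through a family of Laurent expansions). -/
theorem result
    (k K : Type*) [Field k] [IsAlgClosed k] [Field K] [Algebra k K]
    (hK : FunFld.IsFunctionField k K) (P : FunFld.Place k K) {n : ℕ} (φ : Fin (n + 1) → K) (hφ : LinearIndependent k φ)
    (heff : (1 : K) ∈ Submodule.span k (Set.range φ)) (hnorm : ∀ i, P.1 (φ i) ≤ 1)
    (t : K) (ht : P.1 t = WithZero.exp (-1))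
    (Ht : K →ₐ[k] PowerSeries K) (hHt : LocRes.IsHasseFamily t Ht)
    (J : Fin n → ℕ) (hJ : FunFld.IsOrders K (FunFld.hcol (AlgHom.id k K) Ht φ) J)
    (J' : Fin n → ℕ) (hJ' : FunFld.IsOrders (IsLocalRing.ResidueField P.O) (FunFld.hcolAt P Ht φ) J')
    (Φ : FunFld.Place k K → (K →ₐ[k] LaurentSeries k))
    (hΦ : ∀ P : FunFld.Place k K, LocRes.IsExpansionAt P.1 (Φ P)) :
    (∀ l, J l ≤ J' l) ∧
    ((∀ l, J' l = J l) ↔ FunFld.evalP P (FunFld.wrMat (AlgHom.id k K) Ht φ J).det ≠ 0) ∧
    ((∀ l, J' l = J l) ↔ FunFld.wDiv (AlgHom.id k K) Ht Φ t φ J P = 0) := by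
  classical
  have hPid : IsFixedPt (AlgHom.id k K) P := fun z hz => hz
  have hJ'pos : ∀ l, 0 < J' l := fun l =>
    ((isJump_hcolAt_succ_iff hK P ht hHt φ hnorm (J' l)).1 ((hJ'.2 (J' l)).1 ⟨l, rfl⟩)).1
  have hJ'det : P.1 (wrMat (AlgHom.id k K) Ht φ J').det = 1 := by
    obtain ⟨-, h2⟩ := Groth.Agent.S12605.result k K hK _ P hPid φ hφ heff hnorm t ht Ht hHt
      J' hJ' J' hJ'.1
    have h3 : (binomMat k J' J').det ≠ 0 := by
      rw [Matrix.det_of_isLowerTriangular]
      · refine Finset.prod_ne_zero_iff.2 (fun l _ => ?_)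
        simp [binomMat]
      · intro i j hij
        simp only [binomMat, Matrix.of_apply]
        rw [Nat.choose_eq_zero_of_lt (hJ'.1 (by simpa using hij)), Nat.cast_zero]
    have := (h2 (Or.inl hJ'pos)).2 h3
    simpa using this
  have hle : ∀ l, J l ≤ J' l := by
    apply Groth.Agent.S12601.result k K hK φ hφ _ t Ht hHt J hJ J' hJ'.1
    intro h0
    rw [h0, map_zero] at hJ'det
    exact zero_ne_one hJ'det
  have hw0 := det_wrMat_ne_zero hK φ hφ _ t Ht hHt J hJ
  obtain ⟨h1, -⟩ := Groth.Agent.S12605.result k K hK _ P hPid φ hφ heff hnorm t ht Ht hHt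
    J' hJ' J hJ.1
  obtain ⟨w, hw⟩ : ∃ w : K, w = (wrMat (AlgHom.id k K) Ht φ J).det := ⟨_, rfl⟩
  rw [← hw] at h1 hw0
  have key : (∀ l, J' l = J l) ↔ P.1 w = 1 := by
    constructor
    · intro h
      have : J' = J := funext h
      rw [hw, ← this]
      exact hJ'det
    · intro h
      rw [h, ← exp_zero, exp_le_exp] at h1
      have hnn : ∀ l ∈ Finset.univ, (0 : ℤ) ≤ (J' l : ℤ) - J l := fun l _ => by
        have := hle l
        omega
      have hsum : ∑ l, ((J' l : ℤ) - J l) = 0 :=
        le_antisymm (by omega) (Finset.sum_nonneg hnn)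
      intro l
      have := (Finset.sum_eq_zero_iff_of_nonneg hnn).1 hsum l (Finset.mem_univ l)
      omega
  refine ⟨hle, ?_, ?_⟩
  · rw [key, ← hw]
    constructor
    · intro h
      rw [evalP_eq hK P h.le]
      intro h0
      have h3 : cst P w = 0 := (resHom_bijective hK P).1 (h0.trans (map_zero _).symm)
      have h4 := (val_lt_one_iff_cst hK P h.le).2 h3
      rw [h] at h4
      exact lt_irrefl _ h4
    · intro h
      have hint : P.1 w ≤ 1 := by
        by_contra hn
        apply h
        unfold evalP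
        rw [dif_neg hn]
      rw [evalP_eq hK P hint] at h
      have h3 : cst P w ≠ 0 := fun h0 => h (by rw [h0, map_zero])
      have h4 := mt (val_lt_one_iff_cst hK P hint).1 h3
      exact le_antisymm hint (not_lt.1 h4)
  · rw [key, wDiv_apply_of_fixed hK _ P hPid φ heff hnorm t ht Ht J Φ (hΦ P), ← hw,
      pl_val_eq_one_iff P hw0]

end Groth.Agent.S12608
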