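import Groth.Statements.S12609
import Groth.Agent.H27.LocOrd
import Groth.Agent.H27.CanGap

set_option autoImplicit false
open FunFld

namespace Groth.Agent.S12609

open WithZero Groth.Agent.H55 Groth.Agent.H27.Expn Groth.Agent.H27.LocOrd
open Groth.Agent.H27.CanGap


/-- Over an algebraically closed constant field, let `φ` be the canonical map (a basis of `L(C)`, `C`
canonical), normalized at the place `P` after multiplication by `y ≠ 0`, and `t` a local parameter
at `P`. For `j ≥ 1`: the canonical orders at `P` include `j` exactly when `j + 1` is a gap number at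
`P`, i.e. `L((j+1)P) = L(jP)`. -/
theorem result
    (k K : Type*) [Field k] [IsAlgClosed k] [Field K] [Algebra k K]
    (hK : FunFld.IsFunctionField k K) (C : FunFld.Divisor k K) (hC : FunFld.IsCanonical k K C)
    {n : ℕ} (φ : Fin (n + 1) → K) (hφ : LinearIndependent k φ)
    (hspan : Submodule.span k (Set.range φ) = FunFld.L C)
    (P : FunFld.Place k K) (y : K) (hy : y ≠ 0)
    (heff : (1 : K) ∈ Submodule.span k (Set.range (y • φ))) (hnorm : ∀ i, P.1 (y * φ i) ≤ 1)
    (t : K) (ht : P.1 t = WithZero.exp (-1))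
    (Ht : K →ₐ[k] PowerSeries K) (hHt : LocRes.IsHasseFamily t Ht) (j : ℕ) (hj : 1 ≤ j) :
    FunFld.IsJump (IsLocalRing.ResidueField P.O) (FunFld.hcolAt P Ht (y • φ)) (j + 1) ↔
      FunFld.L (Finsupp.single P ((j : ℤ) + 1)) = FunFld.L (Finsupp.single P (j : ℤ)) := by
  classical
  have hgen : FunFld.genus k K = n + 1 := by
    have h1 := (ell_canonical hK hC).1
    unfold ell at h1
    rw [← hspan, finrank_span_eq_card hφ, Fintype.card_fin] at h1
    exact h1.symm
  have hint : ∀ i, P.1 ((y • φ) i) ≤ 1 := fun i => hnorm i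
  have hLint : ∀ g ∈ L C, P.1 (y * g) ≤ 1 := by
    intro g hg
    rw [← hspan] at hg
    obtain ⟨μ, rfl⟩ := (Submodule.mem_span_range_iff_exists_fun k).1 hg
    rw [Finset.mul_sum]
    have : ∀ i, y * μ i • φ i = μ i • (y * φ i) := fun i => by rw [mul_smul_comm]
    simp_rw [this]
    exact val_lincomb_le P (fun i => y * φ i) hnorm μ
  have hmem : ∀ f, f ∈ Submodule.span k (Set.range (y • φ)) ↔ ∃ g ∈ L C, f = y * g := by
    intro f
    rw [Submodule.mem_span_range_iff_exists_fun, ← hspan]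
    constructor
    · rintro ⟨μ, rfl⟩
      refine ⟨∑ i, μ i • φ i, (Submodule.mem_span_range_iff_exists_fun k).2 ⟨μ, rfl⟩, ?_⟩
      rw [Finset.mul_sum]
      exact Finset.sum_congr rfl (fun i _ => by rw [Pi.smul_apply, smul_eq_mul, mul_smul_comm])
    · rintro ⟨g, hg, rfl⟩
      obtain ⟨μ, rfl⟩ := (Submodule.mem_span_range_iff_exists_fun k).1 hg
      refine ⟨μ, ?_⟩
      rw [Finset.mul_sum]
      exact Finset.sum_congr rfl (fun i _ => by rw [Pi.smul_apply, smul_eq_mul, mul_smul_comm])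
  obtain ⟨g₀, hg₀, hg₀y⟩ := (hmem 1).1 heff
  obtain ⟨g₁, hg₁, hg₁v⟩ := canonical_bpf hK hC (by omega) P
  have hyv : P.1 y = exp (-(C P)) := by
    have h1 : P.1 y * P.1 g₀ = 1 := by rw [← map_mul, ← hg₀y, map_one]
    have h2 : P.1 g₀ ≤ exp (C P) := hg₀ P
    have h3 : P.1 y * exp (C P) ≤ 1 := by
      rw [← hg₁v, ← map_mul]
      exact hLint g₁ hg₁
    apply le_antisymm
    · calc P.1 y = P.1 y * exp (C P) * exp (-(C P)) := by
            rw [mul_assoc, ← exp_add]
            simp
        _ ≤ 1 * exp (-(C P)) := mul_le_mul' h3 le_rfl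
        _ = _ := one_mul _
    · calc exp (-(C P)) = exp (-(C P)) * (P.1 y * P.1 g₀) := by rw [h1, mul_one]
        _ = P.1 y * (exp (-(C P)) * P.1 g₀) := mul_left_comm _ _ _
        _ ≤ P.1 y * (exp (-(C P)) * exp (C P)) := mul_le_mul' le_rfl (mul_le_mul' le_rfl h2)
        _ = P.1 y := by
            rw [← exp_add]
            simp
  rw [isJump_hcolAt_succ_iff hK P ht hHt (y • φ) hint j,
    gap_iff hK hC P (by omega : (0 : ℤ) ≤ j)]
  constructor
  · rintro ⟨-, f, hf, hfv⟩
    obtain ⟨g, hg, rfl⟩ := (hmem f).1 hf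
    refine ⟨g, hg, ?_⟩
    rw [map_mul, hyv] at hfv
    calc P.1 g = exp (C P) * (exp (-(C P)) * P.1 g) := by
          rw [← mul_assoc, ← exp_add]
          simp
      _ = exp (C P) * exp (-(j : ℤ)) := by rw [hfv]
      _ = exp (C P - j) := by
          rw [← exp_add]
          congr 1
  · rintro ⟨g, hg, hgv⟩
    refine ⟨hj, y * g, (hmem _).2 ⟨g, hg, rfl⟩, ?_⟩
    rw [map_mul, hyv, hgv, ← exp_add]
    congr 1
    ring

end Groth.Agent.S12609
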