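import Groth.Statements.S6031
-- import your own Groth.Agent.* helpers here
import Groth.Agent.H45.AffineVanishing
import Groth.Agent.H45.ExtContraLES

set_option autoImplicit false
universe u
open CategoryTheory CategoryTheory.Limits TopologicalSpace AlgebraicGeometry
open LocCohZ

namespace Groth.Agent.S6031

/-- Let Y be an affine scheme, U an open subset with closed complement Z and M a quasi-coherent
O_Y-module with underlying abelian sheaf F. Then 0 → H^0_Z(Y, F) → H^0(Y, F) → H^0(U, F) → H^1_Z(Y,
F) → 0 is exact, i.e. the connecting map H^0(U, F) → H^1_Z(Y, F) is surjective, and the connecting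
maps H^i(U, F) → H^{i+1}_Z(Y, F) are bijective for all i ≥ 1. (The published statement assumes U
quasi-compact; the printed proof of these two assertions only uses the vanishing of the higher
cohomology of F on the affine scheme Y, so U is an arbitrary open here.) -/
theorem result (Y : Scheme.{u}) [IsAffine Y] (M : Y.Modules)
    (hM : Coh.IsQCoh M) (U : Y.Opens) :
    Function.Surjective (LocCohZ.delta (X := Y.carrier) (Coh.toAb M) 0 (le_top : U ≤ ⊤)) ∧
      ∀ i : ℕ, 1 ≤ i →
        Function.Bijective (LocCohZ.delta (X := Y.carrier) (Coh.toAb M) i (le_top : U ≤ ⊤)) := by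
  haveI : M.IsQuasicoherent := hM
  have hvan : ∀ p : ℕ, Subsingleton
      (Abelian.Ext (zqSeq (X := Y.carrier) (le_top : U ≤ ⊤)).X₂ (Coh.toAb M) (p + 1)) := by
    intro p
    have h := Groth.Agent.H45.AffineVanishing.subsingleton_HU_basicOpen M (1 : Γ(Y, ⊤)) p
    rw [Scheme.basicOpen_one] at h
    exact h
  have hS := zqSeq_shortExact (X := Y.carrier) (le_top : U ≤ ⊤)
  have hsurj : ∀ i : ℕ,
      Function.Surjective (LocCohZ.delta (X := Y.carrier) (Coh.toAb M) i (le_top : U ≤ ⊤)) := by
    intro i x₃
    haveI := hvan i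
    exact Groth.Agent.H45.ExtContraLES.exists_of_toH_eq_zero hS (Coh.toAb M) i x₃
      (Subsingleton.elim _ _)
  refine ⟨hsurj 0, fun i hi => ⟨?_, hsurj i⟩⟩
  obtain ⟨p, rfl⟩ := Nat.exists_eq_succ_of_ne_zero (Nat.one_le_iff_ne_zero.1 hi)
  haveI := hvan p
  rw [injective_iff_map_eq_zero]
  intro x₁ hx₁
  obtain ⟨x₂, rfl⟩ := Groth.Agent.H45.ExtContraLES.exists_of_del_eq_zero hS (Coh.toAb M) (p + 1)
    x₁ hx₁
  rw [Subsingleton.elim x₂ 0]
  exact map_zero _

end Groth.Agent.S6031
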