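import Groth.Statements.S5173
import Groth.Agent.H82.KCShift
import Groth.Agent.H82.CechInj

set_option autoImplicit false
universe u
open LocCoh

namespace Groth.Agent.S5173

/-- Let A be a Noetherian ring, f_1, …, f_r generators of an ideal I and M an A-module. For every i the
local cohomology H^i_I(M) = colim_n Ext^i_A(A/I^n, M) is isomorphic, as an A-module, to colim_n
H^i(f^n, M), the direct limit of the Koszul cohomology of the powers. (Existence of an A-linear
isomorphism is asserted; in the source the isomorphism is the unique map of δ-functors which in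
degree 0 identifies both sides with the I-power torsion of M.) -/
theorem result (A : Type u) [CommRing A] [IsNoetherianRing A] (fs : List A) (M : Type u) [AddCommGroup M] [Module A M] (i : ℕ) : Nonempty (LocCoh.H (Ideal.span {a | a ∈ fs}) i M ≃ₗ[A] CohIII.koszulHLim fs (ModuleCat.of A M) i) := by
  obtain ⟨e₁⟩ := Groth.Agent.H82.KC.nonempty_koszulHLim_equiv_extCechH fs (ModuleCat.of A M) i
  obtain ⟨e₂⟩ := Groth.Agent.H82.Cech.nonempty_cechH_iso_localCohomology fs (ModuleCat.of A M) i
  exact ⟨(e₁.trans e₂.toLinearEquiv).symm⟩

end Groth.Agent.S5173
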