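import Groth.Statements.S0380
import Mathlib
import Groth.Agent.H58.LCLocS

set_option autoImplicit false
universe u v
open LocCoh

namespace Groth.Agent.S0380

/-- Local cohomology with support in I vanishes above degree d on all modules exactly when, for every
prime p, local cohomology over A_p with support in I A_p vanishes above degree d on all A_p-modules. -/
theorem result (R : Type u) [CommRing R] [IsNoetherianRing R] (I : Ideal R) (d : ℕ) : LocCoh.CdLE R I d ↔ ∀ (p : Ideal R) [p.IsPrime], LocCoh.CdLE (Localization.AtPrime p) (I.map (algebraMap R (Localization.AtPrime p))) d := by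
  constructor
  · intro h p _ N _ _ i hi
    haveI : IsNoetherianRing (Localization.AtPrime p) :=
      IsLocalization.isNoetherianRing p.primeCompl _ inferInstance
    letI : Module R N := Module.compHom N (algebraMap R (Localization.AtPrime p))
    haveI : IsScalarTower R (Localization.AtPrime p) N :=
      IsScalarTower.of_algebraMap_smul (fun r x => rfl)
    obtain ⟨φ, -⟩ := Groth.Agent.H58.LC.semiEq_H R (Localization.AtPrime p) I i N
    haveI : Subsingleton (LocCoh.H I i N) := h N i hi
    exact φ.injective.subsingleton
  · intro h M _ _ i hi
    refine ⟨fun x y => ?_⟩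
    have key : ∀ z : LocCoh.H I i M, z = 0 := by
      intro z
      by_contra hz
      have hne : LinearMap.ker (LinearMap.toSpanSingleton R (LocCoh.H I i M) z) ≠ ⊤ := by
        intro htop
        have h1 : (1 : R) ∈ LinearMap.ker (LinearMap.toSpanSingleton R (LocCoh.H I i M) z) := by
          rw [htop]; exact Submodule.mem_top
        rw [LinearMap.mem_ker, LinearMap.toSpanSingleton_apply, one_smul] at h1
        exact hz h1
      obtain ⟨m, hm, hle⟩ := Ideal.exists_le_maximal _ hne
      haveI := hm.isPrime
      haveI : IsNoetherianRing (Localization.AtPrime m) :=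
        IsLocalization.isNoetherianRing m.primeCompl _ inferInstance
      haveI := Groth.Agent.H58.LC.isLocalizedModule_Hmap_mkLinearMap_of_submonoid
        m.primeCompl I M i
      obtain ⟨φ, -⟩ := Groth.Agent.H58.LC.semiEq_H R (Localization.AtPrime m) I i
        (LocalizedModule m.primeCompl M)
      haveI : Subsingleton (LocCoh.H (I.map (algebraMap R (Localization.AtPrime m))) i
          (LocalizedModule m.primeCompl M)) := h m (LocalizedModule m.primeCompl M) i hi
      haveI : Subsingleton (LocCoh.H I i (LocalizedModule m.primeCompl M)) :=
        φ.symm.injective.subsingleton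
      obtain ⟨⟨s, hs⟩, hsz⟩ := (IsLocalizedModule.eq_zero_iff m.primeCompl
        (Groth.Agent.H58.LC.Hmap I i (LocalizedModule.mkLinearMap m.primeCompl M)) (m := z)).1
        (Subsingleton.elim _ _)
      have hsm : s ∈ m := hle (by
        rw [LinearMap.mem_ker, LinearMap.toSpanSingleton_apply]; exact hsz)
      exact hs hsm
    rw [key x, key y]

end Groth.Agent.S0380
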