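import Groth.Statements.S19589
import Mathlib

set_option autoImplicit false
universe u v
open Brauer

namespace Groth.Agent.S19589

open TensorProduct MulOpposite

/-- bijectivity of `mulLeftRight` for endomorphisms of a finite free module -/
lemma bij_end_pi (R : Type u) [CommRing R] (n : ℕ) :
    Function.Bijective (AlgHom.mulLeftRight R (Module.End R (Fin n → R))) := by
  have hM : Function.Bijective (AlgHom.mulLeftRight R (Matrix (Fin n) (Fin n) R)) :=
    Function.bijective_iff_has_inverse.mpr
      ⟨AlgHom.mulLeftRightMatrix_inv R (Fin n),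
        DFunLike.congr_fun (AlgHom.mulLeftRightMatrix.inv_comp R (Fin n)),
        DFunLike.congr_fun (AlgHom.mulLeftRightMatrix.comp_inv R (Fin n))⟩
  let e : Matrix (Fin n) (Fin n) R ≃ₐ[R] Module.End R (Fin n → R) := Matrix.toLinAlgEquiv'
  refine (Function.Bijective.of_comp_iff (AlgHom.mulLeftRight R (Module.End R (Fin n → R)))
    (Algebra.TensorProduct.congr e e.op).bijective).1 ?_
  rw [← AlgEquiv.coe_toAlgHom, ← AlgHom.coe_comp, IsAzumaya.mulLeftRight_comp_congr]
  simp [hM]

/-- Let R be a commutative ring and P a finitely generated projective R-module which is faithful. Then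
End_R(P) is an Azumaya R-algebra. (The published statement is for a finite locally free sheaf E on a
scheme X and the sheaf of algebras End(E); this row is the case of affine X. Azumaya is taken in the
sense that includes faithfulness over R, which is why P is assumed faithful; the published notion
also admits rank zero.) -/
theorem result (R : Type u) [CommRing R]
    (P : Type v) [AddCommGroup P] [Module R P] [Module.Finite R P] [Module.Projective R P]
    [FaithfulSMul R P] : IsAzumaya R (Module.End R P) := by
  obtain ⟨n, p, i, -, -, hpi⟩ := Module.Finite.exists_comp_eq_id_of_projective R P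
  have hpi' : ∀ x, p (i x) = x := fun x => LinearMap.congr_fun hpi x
  -- conjugation maps
  let ci : Module.End R P →ₗ[R] Module.End R (Fin n → R) :=
    { toFun := fun f => i ∘ₗ f ∘ₗ p
      map_add' := fun f g => by
        refine LinearMap.ext fun v => ?_
        simp
      map_smul' := fun r f => by
        refine LinearMap.ext fun v => ?_
        simp }
  let cp : Module.End R (Fin n → R) →ₗ[R] Module.End R P :=
    { toFun := fun g => p ∘ₗ g ∘ₗ i
      map_add' := fun f g => by
        refine LinearMap.ext fun v => ?_
        simp
      map_smul' := fun r f => by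
        refine LinearMap.ext fun v => ?_
        simp }
  have hci : ∀ (f : Module.End R P) v, ci f v = i (f (p v)) := fun f v => rfl
  have hcp : ∀ (g : Module.End R (Fin n → R)) x, cp g x = p (g (i x)) := fun g x => rfl
  have hcc : ∀ f, cp (ci f) = f := by
    intro f
    ext x
    rw [hcp, hci, hpi', hpi']
  have hcc' : cp ∘ₗ ci = LinearMap.id := LinearMap.ext hcc
  -- module structure
  have hproj : Module.Projective R (Module.End R P) := Module.Projective.of_split ci cp hcc'
  have hfin : Module.Finite R (Module.End R P) :=
    Module.Finite.of_surjective cp (fun f => ⟨ci f, hcc f⟩)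
  have hfaith : FaithfulSMul R (Module.End R P) := by
    refine ⟨fun {r s} h => ?_⟩
    apply FaithfulSMul.eq_of_smul_eq_smul (α := P)
    intro x
    have := LinearMap.congr_fun (h 1) x
    simpa using this
  -- the retract maps on the tensor side
  let oi : (Module.End R P)ᵐᵒᵖ →ₗ[R] (Module.End R (Fin n → R))ᵐᵒᵖ :=
    (opLinearEquiv R).toLinearMap ∘ₗ ci ∘ₗ (opLinearEquiv R).symm.toLinearMap
  let op' : (Module.End R (Fin n → R))ᵐᵒᵖ →ₗ[R] (Module.End R P)ᵐᵒᵖ :=
    (opLinearEquiv R).toLinearMap ∘ₗ cp ∘ₗ (opLinearEquiv R).symm.toLinearMap
  have hoi : ∀ g, oi g = op (ci g.unop) := fun g => rfl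
  have hop' : ∀ g, op' g = op (cp g.unop) := fun g => rfl
  let Fi := TensorProduct.map ci oi
  let Fp := TensorProduct.map cp op'
  have hFF : ∀ x, Fp (Fi x) = x := by
    intro x
    induction x using TensorProduct.induction_on with
    | zero => simp
    | tmul f g =>
      simp only [Fi, Fp, TensorProduct.map_tmul, hoi, hop', unop_op, hcc, op_unop]
    | add x y hx hy => rw [map_add, map_add, hx, hy]
  have hY := bij_end_pi R n
  have nat_i : ∀ x, AlgHom.mulLeftRight R (Module.End R (Fin n → R)) (Fi x) =
      ci ∘ₗ (AlgHom.mulLeftRight R (Module.End R P) x) ∘ₗ cp := by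
    intro x
    induction x using TensorProduct.induction_on with
    | zero => simp
    | tmul f g =>
      apply LinearMap.ext
      intro h
      apply LinearMap.ext
      intro v
      simp only [Fi, TensorProduct.map_tmul, hoi, AlgHom.mulLeftRight_apply, unop_op,
        LinearMap.coe_comp, Function.comp_apply, Module.End.mul_apply, hci, hcp]
    | add x y hx hy =>
      rw [map_add, map_add, map_add, hx, hy, LinearMap.add_comp, LinearMap.comp_add]
  have nat_p : ∀ y, AlgHom.mulLeftRight R (Module.End R P) (Fp y) =
      cp ∘ₗ (AlgHom.mulLeftRight R (Module.End R (Fin n → R)) y) ∘ₗ ci := by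
    intro y
    induction y using TensorProduct.induction_on with
    | zero => simp
    | tmul f g =>
      apply LinearMap.ext
      intro h
      apply LinearMap.ext
      intro v
      simp only [Fp, TensorProduct.map_tmul, hop', AlgHom.mulLeftRight_apply, unop_op,
        LinearMap.coe_comp, Function.comp_apply, Module.End.mul_apply, hci, hcp]
    | add x y hx hy =>
      rw [map_add, map_add, map_add, hx, hy, LinearMap.add_comp, LinearMap.comp_add]
  refine ⟨⟨?_, ?_⟩⟩
  · intro x x' h
    have h1 : AlgHom.mulLeftRight R (Module.End R (Fin n → R)) (Fi x) =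
        AlgHom.mulLeftRight R (Module.End R (Fin n → R)) (Fi x') := by
      rw [nat_i, nat_i, h]
    have h2 := hY.1 h1
    rw [← hFF x, ← hFF x', h2]
  · intro φ
    obtain ⟨y, hy⟩ := hY.2 (ci ∘ₗ φ ∘ₗ cp)
    refine ⟨Fp y, ?_⟩
    rw [nat_p, hy]
    apply LinearMap.ext
    intro h
    simp only [LinearMap.coe_comp, Function.comp_apply, hcc]

end Groth.Agent.S19589
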