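import Groth.Statements.S18468
import Mathlib

set_option autoImplicit false
universe u
open OortTate

namespace Groth.Agent.S18468

open WithConv

section pow

variable (R : Type u) [CommRing R] (A : Type u) [CommRing A] [HopfAlgebra R A]

theorem powConv_def (n : ℕ) :
    SGA3b.powConv R A n = ofConv (toConv (AlgHom.id R A) ^ n) := rfl

theorem toConv_powConv (n : ℕ) :
    toConv (SGA3b.powConv R A n) = toConv (AlgHom.id R A) ^ n := rfl

theorem powConv_zero_apply (a : A) :
    SGA3b.powConv R A 0 a = algebraMap R A (Coalgebra.counit a) := by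
  rw [powConv_def, pow_zero]
  rfl

theorem powConv_one : SGA3b.powConv R A 1 = AlgHom.id R A := by
  rw [powConv_def, pow_one]

theorem powConv_comp (n m : ℕ) :
    (SGA3b.powConv R A n).comp (SGA3b.powConv R A m) = SGA3b.powConv R A (n * m) := by
  induction m with
  | zero =>
    apply AlgHom.ext
    intro a
    rw [AlgHom.comp_apply, Nat.mul_zero, powConv_zero_apply, AlgHom.commutes]
  | succ m ih =>
    have h := AlgHom.comp_convMul_distrib (SGA3b.powConv R A n)
      (toConv (AlgHom.id R A) ^ m) (toConv (AlgHom.id R A))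
    have e1 : (toConv (AlgHom.id R A) ^ m).ofConv = SGA3b.powConv R A m := rfl
    rw [e1, ih, ofConv_toConv, AlgHom.comp_id, toConv_powConv, toConv_powConv, ← pow_add,
      ← pow_succ] at h
    rw [powConv_def R A (m + 1), h, Nat.mul_succ]
    rfl

theorem counit_comp_powConv (n : ℕ) :
    (Bialgebra.counitAlgHom R A).comp (SGA3b.powConv R A n) = Bialgebra.counitAlgHom R A := by
  have hone : toConv (Bialgebra.counitAlgHom R A) = (1 : WithConv (A →ₐ[R] R)) := by
    rw [AlgHom.convOne_def]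
    congr 1
  induction n with
  | zero =>
    apply AlgHom.ext
    intro a
    rw [AlgHom.comp_apply, powConv_zero_apply, AlgHom.commutes]
    rfl
  | succ n ih =>
    have h := AlgHom.comp_convMul_distrib (Bialgebra.counitAlgHom R A)
      (toConv (AlgHom.id R A) ^ n) (toConv (AlgHom.id R A))
    have e1 : (toConv (AlgHom.id R A) ^ n).ofConv = SGA3b.powConv R A n := rfl
    rw [e1, ih, ofConv_toConv, AlgHom.comp_id, hone, mul_one, ← pow_succ] at h
    rw [powConv_def R A (n + 1), h, ← hone, ofConv_toConv]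

theorem powConv_mod (p : ℕ) (hp : (toConv (AlgHom.id R A)) ^ p = 1) (n : ℕ) :
    SGA3b.powConv R A (n % p) = SGA3b.powConv R A n := by
  rw [powConv_def, powConv_def]
  congr 1
  conv_rhs => rw [← Nat.mod_add_div n p, pow_add, pow_mul, hp, one_pow, mul_one]

end pow

section orth

theorem sum_char_eq_zero {G : Type*} [Group G] [Fintype G] {R : Type*} [CommRing R]
    (ψ : G →* Rˣ) (g : G) (hg : IsUnit (((ψ g : Rˣ) : R) - 1)) :
    ∑ m : G, ((ψ m : Rˣ) : R) = 0 := by
  have h1 : ∑ m : G, ((ψ m : Rˣ) : R) = ∑ m : G, ((ψ (g * m) : Rˣ) : R) :=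
    (Fintype.sum_equiv (Equiv.mulLeft g) _ _ (fun m => rfl)).symm
  have h2 : (((ψ g : Rˣ) : R) - 1) * ∑ m : G, ((ψ m : Rˣ) : R) = 0 := by
    rw [sub_mul, one_mul, Finset.mul_sum, sub_eq_zero]
    conv_rhs => rw [h1]
    refine Finset.sum_congr rfl (fun m _ => ?_)
    rw [map_mul, Units.val_mul]
  exact (hg.mul_right_eq_zero).mp h2

end orth

section main

variable (p : ℕ) [Fact p.Prime] (R : Type u) [CommRing R] (u : R) (χ : (ZMod p)ˣ →* Rˣ)
  (A : Type u) [CommRing A] [HopfAlgebra R A]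

/-- the operator `[m]` -/
noncomputable def T (m : (ZMod p)ˣ) : A →ₗ[R] A :=
  (SGA3b.powConv R A (m : ZMod p).val).toLinearMap

theorem T_one : T p R A 1 = LinearMap.id := by
  unfold T
  rw [Units.val_one, ZMod.val_one, powConv_one]
  rfl

theorem T_mul (hp : (toConv (AlgHom.id R A)) ^ p = 1) (m m' : (ZMod p)ˣ) :
    T p R A (m * m') = T p R A m ∘ₗ T p R A m' := by
  unfold T
  rw [Units.val_mul, ZMod.val_mul, powConv_mod R A p hp, ← powConv_comp]
  rfl

theorem counit_T (m : (ZMod p)ˣ) (a : A) :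
    Coalgebra.counit (R := R) (T p R A m a) = Coalgebra.counit a := by
  have h := AlgHom.congr_fun (counit_comp_powConv R A (m : ZMod p).val) a
  exact h

theorem mem_eigenAug (i : ℕ) (f : A) :
    f ∈ OortTate.eigenAug R A p χ i ↔
      Coalgebra.counit (R := R) f = 0 ∧ ∀ m : (ZMod p)ˣ, T p R A m f = (((χ m : Rˣ) : R) ^ i) • f := by
  unfold OortTate.eigenAug
  rw [Submodule.mem_inf, Submodule.mem_iInf, LinearMap.mem_ker]
  refine and_congr Iff.rfl (forall_congr' fun m => ?_)
  rw [Module.End.mem_eigenspace_iff]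
  rfl

theorem proj_apply (i : ℕ) (f : A) :
    OortTate.proj R A p u χ i f =
      u • ∑ m : (ZMod p)ˣ, ((((χ m⁻¹ : Rˣ) : R) ^ i) • T p R A m f) := by
  unfold OortTate.proj
  rw [LinearMap.smul_apply, LinearMap.sum_apply]
  rfl

theorem T_proj (hp : (toConv (AlgHom.id R A)) ^ p = 1) (i : ℕ) (m' : (ZMod p)ˣ) (f : A) :
    T p R A m' (OortTate.proj R A p u χ i f) =
      (((χ m' : Rˣ) : R) ^ i) • OortTate.proj R A p u χ i f := by
  rw [proj_apply]
  simp only [map_smul, map_sum, Finset.smul_sum, smul_smul]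
  refine Fintype.sum_equiv (Equiv.mulLeft m') _ _ (fun m => ?_)
  have e : m' * (m' * m)⁻¹ = m⁻¹ := by rw [mul_inv_rev, mul_comm m⁻¹, mul_inv_cancel_left]
  have e2 : ((χ m⁻¹ : Rˣ) : R) ^ i =
      ((χ m' : Rˣ) : R) ^ i * ((χ (m' * m)⁻¹ : Rˣ) : R) ^ i := by
    rw [← mul_pow, ← Units.val_mul, ← map_mul, e]
  change (u * ((χ m⁻¹ : Rˣ) : R) ^ i) • T p R A m' (T p R A m f) =
    (((χ m' : Rˣ) : R) ^ i * (u * ((χ (m' * m)⁻¹ : Rˣ) : R) ^ i)) • T p R A (m' * m) f
  rw [← LinearMap.comp_apply, ← T_mul p R A hp, mul_left_comm, e2]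

theorem counit_proj (i : ℕ) (f : A) (hf : Coalgebra.counit (R := R) f = 0) :
    Coalgebra.counit (R := R) (OortTate.proj R A p u χ i f) = 0 := by
  rw [proj_apply, map_smul, map_sum]
  simp only [map_smul, counit_T, hf, smul_zero, Finset.sum_const_zero]

theorem proj_mem (hp : (toConv (AlgHom.id R A)) ^ p = 1) (i : ℕ) (f : A)
    (hf : Coalgebra.counit (R := R) f = 0) :
    OortTate.proj R A p u χ i f ∈ OortTate.eigenAug R A p χ i := by
  rw [mem_eigenAug]
  exact ⟨counit_proj p R u χ A i f hf, fun m => T_proj p R u χ A hp i m f⟩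

theorem proj_of_mem (i j : ℕ) (f : A) (hf : f ∈ OortTate.eigenAug R A p χ j) :
    OortTate.proj R A p u χ i f =
      (u * ∑ m : (ZMod p)ˣ, (((χ m⁻¹ : Rˣ) : R) ^ i * ((χ m : Rˣ) : R) ^ j)) • f := by
  rw [mem_eigenAug] at hf
  rw [proj_apply, mul_smul, Finset.sum_smul]
  congr 1
  refine Finset.sum_congr rfl (fun m _ => ?_)
  rw [hf.2 m, smul_smul]

theorem card_units_cast : (Fintype.card (ZMod p)ˣ : R) = ((p - 1 : ℕ) : R) := by
  rw [ZMod.card_units]

theorem sum_diag (i : ℕ) :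
    ∑ m : (ZMod p)ˣ, (((χ m⁻¹ : Rˣ) : R) ^ i * ((χ m : Rˣ) : R) ^ i) = ((p - 1 : ℕ) : R) := by
  have h : ∀ m : (ZMod p)ˣ, (((χ m⁻¹ : Rˣ) : R) ^ i * ((χ m : Rˣ) : R) ^ i) = 1 := by
    intro m
    rw [← mul_pow, ← Units.val_mul, ← map_mul, inv_mul_cancel, map_one, Units.val_one, one_pow]
  simp only [h, Finset.sum_const, Finset.card_univ, nsmul_eq_mul, mul_one]
  exact card_units_cast p R

theorem sum_offdiag (hχ : ∀ m : (ZMod p)ˣ, m ≠ 1 → IsUnit ((χ m : R) - 1)) (i j : ℕ)
    (hi : i < p - 1) (hj : j < p - 1) (hij : i ≠ j) :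
    ∑ m : (ZMod p)ˣ, (((χ m⁻¹ : Rˣ) : R) ^ i * ((χ m : Rˣ) : R) ^ j) = 0 := by
  obtain ⟨g, hg⟩ := IsCyclic.exists_generator (α := (ZMod p)ˣ)
  have hord : orderOf g = p - 1 := by
    rw [orderOf_eq_card_of_forall_mem_zpowers hg, Nat.card_eq_fintype_card, ZMod.card_units]
  let ψ : (ZMod p)ˣ →* Rˣ := χ.comp (zpowGroupHom ((j : ℤ) - (i : ℤ)))
  have hψ' : ∀ m : (ZMod p)ˣ, χ m⁻¹ ^ i * χ m ^ j = ψ m := by
    intro m
    have e : m⁻¹ ^ i * m ^ j = m ^ ((j : ℤ) - (i : ℤ)) := by
      rw [zpow_sub, zpow_natCast, zpow_natCast, inv_pow, mul_comm]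
    change χ m⁻¹ ^ i * χ m ^ j = χ (m ^ ((j : ℤ) - (i : ℤ)))
    rw [← e, map_mul, map_pow, map_pow]
  have hψ : ∀ m : (ZMod p)ˣ, (((χ m⁻¹ : Rˣ) : R) ^ i * ((χ m : Rˣ) : R) ^ j) =
      ((ψ m : Rˣ) : R) := by
    intro m
    rw [← hψ' m, Units.val_mul, Units.val_pow_eq_pow_val, Units.val_pow_eq_pow_val]
  simp only [hψ]
  refine sum_char_eq_zero ψ g ?_
  apply hχ
  change g ^ ((j : ℤ) - (i : ℤ)) ≠ 1
  intro h1
  rw [← orderOf_dvd_iff_zpow_eq_one, hord] at h1
  have h2 : |(j : ℤ) - (i : ℤ)| < ((p - 1 : ℕ) : ℤ) := by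
    rw [abs_lt]
    constructor <;> omega
  have h3 := Int.eq_zero_of_abs_lt_dvd h1 h2
  omega

theorem proj_self_of_mem (hu : u * ((p - 1 : ℕ) : R) = 1) (i : ℕ) (f : A)
    (hf : f ∈ OortTate.eigenAug R A p χ i) : OortTate.proj R A p u χ i f = f := by
  rw [proj_of_mem p R u χ A i i f hf, sum_diag, hu, one_smul]

theorem proj_ne_of_mem (hχ : ∀ m : (ZMod p)ˣ, m ≠ 1 → IsUnit ((χ m : R) - 1)) (i j : ℕ)
    (hi : i < p - 1) (hj : j < p - 1) (hij : i ≠ j) (f : A)
    (hf : f ∈ OortTate.eigenAug R A p χ j) : OortTate.proj R A p u χ i f = 0 := by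
  rw [proj_of_mem p R u χ A i j f hf, sum_offdiag p R χ hχ i j hi hj hij, mul_zero, zero_smul]

theorem geom_char (hχ : ∀ m : (ZMod p)ˣ, m ≠ 1 → IsUnit ((χ m : R) - 1)) (m : (ZMod p)ˣ)
    (hm : m ≠ 1) : ∑ i ∈ Finset.range (p - 1), ((χ m⁻¹ : Rˣ) : R) ^ i = 0 := by
  have hm' : m⁻¹ ≠ 1 := by
    intro h
    exact hm (inv_eq_one.mp h)
  have h1 := geom_sum_mul ((χ m⁻¹ : Rˣ) : R) (p - 1)
  have h2 : ((χ m⁻¹ : Rˣ) : R) ^ (p - 1) = 1 := by
    rw [← Units.val_pow_eq_pow_val, ← map_pow, ← ZMod.card_units p, pow_card_eq_one, map_one,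
      Units.val_one]
  rw [h2, sub_self] at h1
  exact ((hχ _ hm').mul_left_eq_zero).mp h1

theorem sum_proj (hu : u * ((p - 1 : ℕ) : R) = 1)
    (hχ : ∀ m : (ZMod p)ˣ, m ≠ 1 → IsUnit ((χ m : R) - 1)) (f : A) :
    ∑ i : Fin (p - 1), OortTate.proj R A p u χ (i : ℕ) f = f := by
  simp only [proj_apply]
  rw [← Finset.smul_sum, Finset.sum_comm]
  simp only [← Finset.sum_smul]
  rw [Finset.sum_eq_single (1 : (ZMod p)ˣ)]
  · rw [T_one, LinearMap.id_apply, inv_one, map_one, Units.val_one]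
    simp only [one_pow, Finset.sum_const, Finset.card_univ, Fintype.card_fin, nsmul_eq_mul,
      mul_one]
    rw [smul_smul, hu, one_smul]
  · intro m _ hm
    rw [Fin.sum_univ_eq_sum_range (fun i => ((χ m⁻¹ : Rˣ) : R) ^ i) (p - 1),
      geom_char p R χ hχ m hm, zero_smul]
  · intro h
    exact absurd (Finset.mem_univ _) h

end main

/-- Let p be a prime, R a commutative ring containing u with u(p − 1) = 1, and χ a homomorphism from the
units of ℤ/p to the units of R such that χ(m) − 1 is a unit for every m ≠ 1 (the situation of an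
algebra over the subring Λ_p of the p-adic integers generated by the Teichmüller values and 1/(p(p −
1)), with χ the Teichmüller character, which is the published setting). Let A be a commutative Hopf
algebra over R such that the p-th convolution power of the identity of A is the neutral element ε
followed by the unit (the affine group G = Spec A is killed by p), so that for a unit m of ℤ/p the
power map [m] of A depends only on m. For 0 ≤ i < p − 1 let I_i ⊆ A be the submodule of those f with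
ε(f) = 0 and [m]f = χ(m)^i f for every m. Then the augmentation ideal ker ε is the internal direct
sum of the I_i (the family is independent and its supremum is ker ε), and each I_i is the image of
ker ε under the averaging operator u Σ_m χ(m)^{−i}[m]. (The published statement is for the Hopf
algebra of a group scheme of order p over a Λ_p-algebra, which is commutative and killed by p; the
hypotheses here are what the argument uses.) -/
theorem result
    (p : ℕ) [Fact p.Prime] (R : Type u) [CommRing R] (u : R) (hu : u * ((p - 1 : ℕ) : R) = 1)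
    (χ : (ZMod p)ˣ →* Rˣ) (hχ : ∀ m : (ZMod p)ˣ, m ≠ 1 → IsUnit ((χ m : R) - 1))
    (A : Type u) [CommRing A] [HopfAlgebra R A]
    (hp : (WithConv.toConv (AlgHom.id R A)) ^ p = 1) :
    iSupIndep (fun i : Fin (p - 1) => OortTate.eigenAug R A p χ (i : ℕ)) ∧
      (⨆ i : Fin (p - 1), OortTate.eigenAug R A p χ (i : ℕ)) =
        LinearMap.ker (Bialgebra.counitAlgHom R A).toLinearMap ∧
      ∀ i : Fin (p - 1), OortTate.eigenAug R A p χ (i : ℕ) =
        Submodule.map (OortTate.proj R A p u χ (i : ℕ))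
          (LinearMap.ker (Bialgebra.counitAlgHom R A).toLinearMap) := by
  have hle : ∀ i : ℕ, OortTate.eigenAug R A p χ i ≤
      LinearMap.ker (Bialgebra.counitAlgHom R A).toLinearMap := fun i => inf_le_left
  have hker : ∀ f : A, f ∈ LinearMap.ker (Bialgebra.counitAlgHom R A).toLinearMap ↔
      Coalgebra.counit (R := R) f = 0 := fun f => Iff.rfl
  refine ⟨?_, ?_, ?_⟩
  · rw [iSupIndep_def]
    intro i
    rw [Submodule.disjoint_def]
    intro f hf1 hf2
    have h1 : OortTate.proj R A p u χ (i : ℕ) f = f :=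
      proj_self_of_mem p R u χ A hu i f hf1
    have h2 : (⨆ j, ⨆ (_ : j ≠ i), OortTate.eigenAug R A p χ (j : ℕ)) ≤
        LinearMap.ker (OortTate.proj R A p u χ (i : ℕ)) := by
      refine iSup₂_le (fun j hj g hg => ?_)
      rw [LinearMap.mem_ker]
      refine proj_ne_of_mem p R u χ A hχ i j i.2 j.2 ?_ g hg
      intro h
      exact hj (Fin.ext h.symm)
    rw [← h1]
    exact LinearMap.mem_ker.mp (h2 hf2)
  · apply le_antisymm
    · exact iSup_le (fun i => hle i)
    · intro f hf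
      rw [← sum_proj p R u χ A hu hχ f]
      refine Submodule.sum_mem _ (fun i _ => ?_)
      exact Submodule.mem_iSup_of_mem i (proj_mem p R u χ A hp i f ((hker f).mp hf))
  · intro i
    apply le_antisymm
    · intro f hf
      exact ⟨f, hle i hf, proj_self_of_mem p R u χ A hu i f hf⟩
    · rintro _ ⟨f, hf, rfl⟩
      exact proj_mem p R u χ A hp i f ((hker f).mp hf)

end Groth.Agent.S18468
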