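import Groth.Statements.S18471
import Groth.Agent.S18468
import Mathlib

set_option autoImplicit false
universe u
open OortTate

namespace Groth.Agent.S18471

open WithConv TensorProduct Groth.Agent.S18468

section dual

variable (R : Type u) [CommRing R] (A : Type u) [CommRing A] [HopfAlgebra R A]
  [Coalgebra.IsCocomm R A] [Module.Finite R A] [Module.Projective R A]

omit [Coalgebra.IsCocomm R A] in
theorem mul'_map_dual (f g : A →ₗ[R] A) (F G : CartDual.D R A →ₗ[R] CartDual.D R A)
    (hF : ∀ z, (F z).ofConv = z.ofConv ∘ₗ f) (hG : ∀ z, (G z).ofConv = z.ofConv ∘ₗ g)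
    (y : CartDual.D R A ⊗[R] CartDual.D R A) :
    (LinearMap.mul' R (CartDual.D R A) (TensorProduct.map F G y)).ofConv =
      CartDual.ev₂ R A y ∘ₗ TensorProduct.map f g ∘ₗ Coalgebra.comul := by
  induction y using TensorProduct.induction_on with
  | zero => simp
  | add y₁ y₂ h₁ h₂ => simp only [map_add, WithConv.ofConv_add, h₁, h₂, LinearMap.add_comp]
  | tmul x z =>
    rw [TensorProduct.map_tmul, LinearMap.mul'_apply, LinearMap.convMul_def,
      WithConv.ofConv_toConv, hF, hG, CartDual.ev₂_tmul_eq', LinearMap.comp_assoc]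
    congr 1
    rw [← LinearMap.comp_assoc, ← TensorProduct.map_comp]

omit [Coalgebra.IsCocomm R A] in
theorem linPow_dual (n : ℕ) : ∀ x : CartDual.D R A,
    (((toConv (LinearMap.id : CartDual.D R A →ₗ[R] CartDual.D R A)) ^ n).ofConv x).ofConv =
      x.ofConv ∘ₗ ((toConv (LinearMap.id : A →ₗ[R] A)) ^ n).ofConv := by
  induction n with
  | zero =>
    intro x
    apply LinearMap.ext
    intro a
    simp [pow_zero, LinearMap.convOne_def, Algebra.algebraMap_eq_smul_one, mul_comm]
  | succ n ih =>
    intro x
    rw [pow_succ, pow_succ]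
    have h := mul'_map_dual R A ((toConv (LinearMap.id : A →ₗ[R] A)) ^ n).ofConv LinearMap.id
      ((toConv (LinearMap.id : CartDual.D R A →ₗ[R] CartDual.D R A)) ^ n).ofConv LinearMap.id
      ih (fun z => rfl) (Coalgebra.comul x)
    change (LinearMap.mul' R (CartDual.D R A) (TensorProduct.map
      ((toConv (LinearMap.id : CartDual.D R A →ₗ[R] CartDual.D R A)) ^ n).ofConv LinearMap.id
      (Coalgebra.comul x))).ofConv = _
    rw [h, CartDual.comul_def, CartDual.ev₂_comul]
    rfl

end dual

section main

theorem powConv_toLinearMap (R : Type u) [CommRing R] (B : Type u) [CommRing B] [HopfAlgebra R B]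
    (n : ℕ) :
    (SGA3b.powConv R B n).toLinearMap = ((toConv (LinearMap.id : B →ₗ[R] B)) ^ n).ofConv := by
  have := AlgHom.toLinearMap_convPow (toConv (AlgHom.id R B)) n
  exact congrArg ofConv this

variable (p : ℕ) [Fact p.Prime] (R : Type u) [CommRing R] (u : R) (χ : (ZMod p)ˣ →* Rˣ)
  (A : Type u) [CommRing A] [HopfAlgebra R A] [Coalgebra.IsCocomm R A]
  [Module.Finite R A] [Module.Projective R A]

theorem T_dual (m : (ZMod p)ˣ) (x : CartDual.D R A) :
    (T p R (CartDual.D R A) m x).ofConv = x.ofConv ∘ₗ T p R A m := by
  unfold T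
  rw [powConv_toLinearMap, powConv_toLinearMap]
  exact linPow_dual R A _ x

theorem mem_eigenAug_dual (i : ℕ) (x : CartDual.D R A) :
    x ∈ OortTate.eigenAug R (CartDual.D R A) p χ i ↔
      x.ofConv 1 = 0 ∧ ∀ m : (ZMod p)ˣ, x.ofConv ∘ₗ T p R A m = (((χ m : Rˣ) : R) ^ i) • x.ofConv := by
  rw [mem_eigenAug]
  refine and_congr Iff.rfl (forall_congr' fun m => ?_)
  rw [← T_dual]
  constructor
  · intro h
    rw [h]
    rfl
  · intro h
    apply WithConv.ofConv_injective
    rw [h]
    rfl

omit [Coalgebra.IsCocomm R A] [Module.Finite R A] [Module.Projective R A] in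
theorem proj_T_comm (hp : (toConv (AlgHom.id R A)) ^ p = 1) (i : ℕ) (m' : (ZMod p)ˣ) (f : A) :
    OortTate.proj R A p u χ i (T p R A m' f) = T p R A m' (OortTate.proj R A p u χ i f) := by
  rw [proj_apply, proj_apply, map_smul, map_sum]
  congr 1
  refine Finset.sum_congr rfl fun m _ => ?_
  rw [map_smul]
  congr 1
  rw [← LinearMap.comp_apply, ← LinearMap.comp_apply, ← T_mul p R A hp, ← T_mul p R A hp, mul_comm]

end main

/-- Let p be a prime, R a commutative ring containing u with u(p − 1) = 1, and χ a homomorphism from the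
units of ℤ/p to the units of R such that χ(m) − 1 is a unit for every m ≠ 1 (the situation of an
algebra over the subring Λ_p of the p-adic integers generated by the Teichmüller values and 1/(p(p −
1)), with χ the Teichmüller character, which is the published setting). Let A be a commutative and
cocommutative Hopf algebra over R, finitely generated and projective as an R-module, such that the
p-th convolution power of the identity of A is the neutral element (a finite locally free
commutative group killed by p), and let A^D = Hom_R(A, R) be its dual Hopf algebra (the Cartier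
dual). For i ≥ 0 let I_i(A) ⊆ A and I_i(A^D) ⊆ A^D be the submodules of elements f of the respective
augmentation ideals with [m]f = χ(m)^i f for every unit m of ℤ/p, [m] the power map. Then
restriction of linear forms to I_i(A) is a bijection from I_i(A^D) onto the dual module
Hom_R(I_i(A), R). (The published statement is for a group scheme of order p over a Λ_p-algebra and
asserts an isomorphism of R-modules; the map here is the one its proof uses.) -/
theorem result
    (p : ℕ) [Fact p.Prime] (R : Type u) [CommRing R] (u : R) (hu : u * ((p - 1 : ℕ) : R) = 1)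
    (χ : (ZMod p)ˣ →* Rˣ) (hχ : ∀ m : (ZMod p)ˣ, m ≠ 1 → IsUnit ((χ m : R) - 1))
    (A : Type u) [CommRing A] [HopfAlgebra R A] [Coalgebra.IsCocomm R A]
    [Module.Finite R A] [Module.Projective R A]
    (hp : (WithConv.toConv (AlgHom.id R A)) ^ p = 1) (i : ℕ) :
    Function.Bijective (fun f : OortTate.eigenAug R (CartDual.D R A) p χ i =>
      ((CartDual.toDual R A) (f : CartDual.D R A)).comp (OortTate.eigenAug R A p χ i).subtype) := by
  classical
  have hmemD := mem_eigenAug_dual p R χ A i
  -- key evaluation formula
  have key : ∀ w : CartDual.D R A, w ∈ OortTate.eigenAug R (CartDual.D R A) p χ i →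
      ∀ f : A, w.ofConv (OortTate.proj R A p u χ i f) = w.ofConv f := by
    intro w hw f
    obtain ⟨_, hw2⟩ := (hmemD w).mp hw
    rw [proj_apply, map_smul, map_sum]
    have h1 : ∀ m : (ZMod p)ˣ, w.ofConv ((((χ m⁻¹ : Rˣ) : R) ^ i) • T p R A m f) =
        (((χ m⁻¹ : Rˣ) : R) ^ i * ((χ m : Rˣ) : R) ^ i) * w.ofConv f := by
      intro m
      have := LinearMap.congr_fun (hw2 m) f
      rw [LinearMap.comp_apply] at this
      rw [map_smul, this, LinearMap.smul_apply, smul_eq_mul, smul_eq_mul, mul_assoc]
    simp only [h1]
    rw [← Finset.sum_mul, sum_diag, smul_eq_mul, ← mul_assoc, hu, one_mul]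
  have hcounit : ∀ a : A, Coalgebra.counit (R := R) (a - algebraMap R A (Coalgebra.counit a)) = 0 := by
    intro a
    rw [map_sub, Bialgebra.counit_algebraMap, sub_self]
  constructor
  · intro x y hxy
    apply Subtype.ext
    apply WithConv.ofConv_injective
    apply LinearMap.ext
    intro a
    have hx1 := ((hmemD x.1).mp x.2).1
    have hy1 := ((hmemD y.1).mp y.2).1
    have ha : a = (a - algebraMap R A (Coalgebra.counit a)) + (Coalgebra.counit (R := R) a) • (1 : A) := by
      rw [Algebra.algebraMap_eq_smul_one]; abel
    have hmem := proj_mem p R u χ A hp i _ (hcounit a)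
    have h2 := LinearMap.congr_fun hxy ⟨_, hmem⟩
    simp only [LinearMap.comp_apply, Submodule.subtype_apply, CartDual.toDual_apply] at h2
    rw [key x.1 x.2, key y.1 y.2] at h2
    rw [ha, map_add, map_add, map_smul, map_smul, hx1, hy1, h2]
  · intro ψ
    let P₀ : A →ₗ[R] A := OortTate.proj R A p u χ i ∘ₗ
      (LinearMap.id - Algebra.linearMap R A ∘ₗ (Coalgebra.counit : A →ₗ[R] R))
    have hP₀ : ∀ a, P₀ a = OortTate.proj R A p u χ i (a - algebraMap R A (Coalgebra.counit a)) :=
      fun a => rfl
    let P : A →ₗ[R] OortTate.eigenAug R A p χ i :=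
      LinearMap.codRestrict _ P₀ (fun a => by
        rw [hP₀]; exact proj_mem p R u χ A hp i _ (hcounit a))
    have hP : ∀ a, (P a : A) = P₀ a := fun a => rfl
    let x : CartDual.D R A := toConv (ψ ∘ₗ P)
    have hx : x ∈ OortTate.eigenAug R (CartDual.D R A) p χ i := by
      rw [hmemD]
      constructor
      · change ψ (P 1) = 0
        have : P 1 = 0 := by
          apply Subtype.ext
          rw [hP, hP₀, Bialgebra.counit_one, map_one, sub_self, map_zero]
          rfl
        rw [this, map_zero]
      · intro m
        apply LinearMap.ext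
        intro a
        change ψ (P (T p R A m a)) = (((χ m : Rˣ) : R) ^ i) • ψ (P a)
        have : P (T p R A m a) = (((χ m : Rˣ) : R) ^ i) • P a := by
          apply Subtype.ext
          rw [Submodule.coe_smul, hP, hP, hP₀, hP₀, counit_T]
          have h1 : T p R A m a - algebraMap R A (Coalgebra.counit a) =
              T p R A m (a - algebraMap R A (Coalgebra.counit a)) := by
            rw [map_sub]
            congr 1
            exact (AlgHom.commutes (SGA3b.powConv R A (m : ZMod p).val) _).symm
          rw [h1, proj_T_comm p R u χ A hp, T_proj p R u χ A hp]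
        rw [this, map_smul]
    refine ⟨⟨x, hx⟩, ?_⟩
    apply LinearMap.ext
    intro f
    change ψ (P f) = ψ f
    congr 1
    apply Subtype.ext
    rw [hP, hP₀]
    have hf0 : Coalgebra.counit (R := R) (f : A) = 0 :=
      ((mem_eigenAug p R χ A i f.1).mp f.2).1
    rw [hf0, map_zero, sub_zero]
    exact proj_self_of_mem p R u χ A hu i f.1 f.2

end Groth.Agent.S18471
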