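import Groth.Statements.S15053
import Groth.Agent.H84.OT4

set_option autoImplicit false
universe u v
open Hopf

namespace Groth.Agent.S15053

open WithConv TensorProduct Groth.Agent.H84.OT

/-- Let R be a commutative ring, p a prime number and A a commutative Hopf algebra over R which is
finitely generated and projective as an R-module, of rank p at every prime of R (a finite locally
free R-group scheme G = Spec A of order p, not assumed commutative). Then G is commutative: the
comultiplication of A is cocommutative. (The published statement assumes a Noetherian base ring
which is an algebra over a certain ring of integers Λ of a cyclotomic field; this row allows any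
commutative base ring.) -/
theorem result (R : Type u) [CommRing R] (p : ℕ) [Fact p.Prime] (A : Type v) [CommRing A]
    [HopfAlgebra R A] [Module.Finite R A] [Module.Projective R A]
    (hp : ∀ q : PrimeSpectrum R, Module.rankAtStalk A q = p) :
    Coalgebra.IsCocomm R A := by
  apply isCocomm_of_dual_comm_proj
  intro f g
  apply WithConv.ofConv_injective
  apply LinearMap.ext
  intro a
  rw [← sub_eq_zero]
  apply eq_zero_of_forall_Snag
  intro m hm
  haveI : Module.Free (Snag m) (Snag m ⊗[R] A) :=
    Module.free_of_flat_of_isLocalRing (R := Snag m) (P := Snag m ⊗[R] A)
  have hrank : Module.finrank (Snag m) (Snag m ⊗[R] A) = p := by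
    have h1 := Module.rankAtStalk_baseChange (R := R) (M := A) (S := Snag m)
      (IsLocalRing.closedPoint (Snag m))
    rw [hp] at h1
    have h2 := congrFun (Module.rankAtStalk_eq_finrank_of_free (R := Snag m)
      (M := Snag m ⊗[R] A)) (IsLocalRing.closedPoint (Snag m))
    rw [h1] at h2
    exact h2.symm
  have hc := dual_comm_of_local (Snag m) (Snag m ⊗[R] A) p hrank
    (toConv (bcF (Snag m) f.ofConv)) (toConv (bcF (Snag m) g.ofConv))
  have h3 := conv_bcF_apply (Snag m) f.ofConv g.ofConv a
  have h4 := conv_bcF_apply (Snag m) g.ofConv f.ofConv a
  rw [hc] at h3
  rw [map_sub, sub_eq_zero]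
  exact h3.symm.trans h4

end Groth.Agent.S15053
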