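import Groth.Statements.S18474
import Groth.Agent.H84.OT16
import Groth.Agent.S15048
import Groth.Agent.S15053

set_option autoImplicit false
universe u
open OortTate

namespace Groth.Agent.S18474

open WithConv TensorProduct Groth.Agent.H84.OT Groth.Agent.S18468

/-- Let p be a prime, R a commutative ring containing u with u(p − 1) = 1, and χ a homomorphism from the
units of ℤ/p to the units of R such that χ(m) − 1 is a unit for every m ≠ 1 (the situation of an
algebra over the subring Λ_p of the p-adic integers generated by the Teichmüller values and 1/(p(p −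
1)), with χ the Teichmüller character, which is the published setting); assume moreover χ(m) ≡ m
modulo pR for every m. Let A be a commutative Hopf algebra over R which is finitely generated and
projective as an R-module, of rank p at every prime of R (a group scheme of order p over Spec R; it
is commutative and killed by p, so that the power map [m] of A depends only on the unit m of ℤ/p),
and let I_1 ⊆ A be the submodule of those f with ε(f) = 0 and [m]f = χ(m)f for every unit m of ℤ/p
(an invertible R-module, with I_1^p ⊆ I_1). Then the R-algebra homomorphism from the tensor algebra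
of I_1 to A extending the inclusion I_1 ⊆ A is surjective, and its kernel is the ideal generated by
the elements ι(x_1)⋯ι(x_p) − ι(g) with x_1, …, x_p, g ∈ I_1 and g = x_1⋯x_p in A. (The source states
this for the symmetric algebra of I_1; for an invertible module the tensor algebra is commutative
and is its symmetric algebra.) The published argument obtains commutativity and p-torsion of G over
a locally Noetherian base; this row allows any commutative ring R, over which both still hold. -/
theorem result
    (p : ℕ) [Fact p.Prime] (R : Type u) [CommRing R] (u : R) (hu : u * ((p - 1 : ℕ) : R) = 1)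
    (χ : (ZMod p)ˣ →* Rˣ) (hχ : ∀ m : (ZMod p)ˣ, m ≠ 1 → IsUnit ((χ m : R) - 1))
    (hχp : ∀ m : (ZMod p)ˣ, ((χ m : Rˣ) : R) - (((m : ZMod p).val : ℕ) : R) ∈ Ideal.span ({(p : R)} : Set R))
    (A : Type u) [CommRing A] [HopfAlgebra R A] [Module.Finite R A] [Module.Projective R A]
    (hrk : ∀ q : PrimeSpectrum R, Module.rankAtStalk A q = p) :
    Function.Surjective (TensorAlgebra.lift R (OortTate.eigenAug R A p χ 1).subtype) ∧
      RingHom.ker (TensorAlgebra.lift R (OortTate.eigenAug R A p χ 1).subtype) =
        Ideal.span {x : TensorAlgebra R (OortTate.eigenAug R A p χ 1) |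
          ∃ (f : Fin p → OortTate.eigenAug R A p χ 1) (g : OortTate.eigenAug R A p χ 1),
            (g : A) = ∏ i, (f i : A) ∧
            x = (List.ofFn fun i => TensorAlgebra.ι R (f i)).prod - TensorAlgebra.ι R g} := by
  classical
  have hp : p.Prime := Fact.out
  haveI : Coalgebra.IsCocomm R A := Groth.Agent.S15053.result R p A hrk
  have hpk : (toConv (AlgHom.id R A)) ^ p = 1 := Groth.Agent.S15048.result R A p hrk
  obtain ⟨L, hL⟩ : ∃ L : TensorAlgebra R (OortTate.eigenAug R A p χ 1) →ₐ[R] A,
      L = TensorAlgebra.lift R (OortTate.eigenAug R A p χ 1).subtype := ⟨_, rfl⟩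
  obtain ⟨N, hN⟩ : ∃ N : ℕ → Submodule R (TensorAlgebra R (OortTate.eigenAug R A p χ 1)),
      N = fun n => (LinearMap.range (TensorAlgebra.ι R : OortTate.eigenAug R A p χ 1 →ₗ[R]
        TensorAlgebra R (OortTate.eigenAug R A p χ 1))) ^ n := ⟨_, rfl⟩
  obtain ⟨J, hJ⟩ : ∃ J : Ideal (TensorAlgebra R (OortTate.eigenAug R A p χ 1)),
      J = Ideal.span {x : TensorAlgebra R (OortTate.eigenAug R A p χ 1) |
          ∃ (f : Fin p → OortTate.eigenAug R A p χ 1) (g : OortTate.eigenAug R A p χ 1),
            (g : A) = ∏ i, (f i : A) ∧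
            x = (List.ofFn fun i => TensorAlgebra.ι R (f i)).prod - TensorAlgebra.ι R g} :=
    ⟨_, rfl⟩
  rw [← hL, ← hJ]
  have hLι : ∀ y : OortTate.eigenAug R A p χ 1, L (TensorAlgebra.ι R y) = (y : A) := by
    intro y
    rw [hL, TensorAlgebra.lift_ι_apply]
    rfl
  have hmapN : ∀ n, (N n).map L.toLinearMap = (OortTate.eigenAug R A p χ 1) ^ n := by
    intro n
    rw [hN, hL]
    exact map_range_iota_pow p R χ A n
  -- `J ≤ ker L`
  have hJker : J ≤ RingHom.ker L := by
    rw [hJ, Ideal.span_le]
    rintro _ ⟨f, g, hg, rfl⟩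
    rw [SetLike.mem_coe, RingHom.mem_ker, map_sub, hLι, map_list_prod, List.map_ofFn, sub_eq_zero,
      hg, ← List.prod_ofFn]
    congr 1
    apply congrArg
    funext i
    exact hLι (f i)
  -- degree `p` reduces to degree one
  have hE : N p ≤ J.restrictScalars R ⊔ N 1 := by
    rw [hN]
    show (LinearMap.range (TensorAlgebra.ι R : OortTate.eigenAug R A p χ 1 →ₗ[R]
        TensorAlgebra R (OortTate.eigenAug R A p χ 1))) ^ p ≤ _
    rw [Submodule.pow_eq_span_pow_set, Submodule.span_le]
    intro a ha
    rw [Set.mem_pow] at ha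
    obtain ⟨F, rfl⟩ := ha
    have hF : ∀ i, ∃ y : OortTate.eigenAug R A p χ 1, TensorAlgebra.ι R y =
        ((F i : _) : TensorAlgebra R (OortTate.eigenAug R A p χ 1)) := fun i => (F i).2
    choose g hg using hF
    let G : OortTate.eigenAug R A p χ 1 := ⟨∏ i, (g i : A),
      prod_mem_eigenAug_one p R χ A (fun i => (g i : A)) (fun i => (g i).2)⟩
    have h1 : (List.ofFn fun i => ((F i : _) : TensorAlgebra R (OortTate.eigenAug R A p χ 1))).prod =
        ((List.ofFn fun i => TensorAlgebra.ι R (g i)).prod - TensorAlgebra.ι R G) +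
          TensorAlgebra.ι R G := by
      rw [sub_add_cancel]
      congr 1
      apply congrArg
      funext i
      exact (hg i).symm
    rw [h1]
    apply Submodule.add_mem
    · apply Submodule.mem_sup_left
      rw [hJ]
      exact Ideal.subset_span ⟨g, G, rfl, rfl⟩
    · apply Submodule.mem_sup_right
      show _ ∈ (LinearMap.range (TensorAlgebra.ι R : OortTate.eigenAug R A p χ 1 →ₗ[R]
        TensorAlgebra R (OortTate.eigenAug R A p χ 1))) ^ 1
      rw [pow_one]
      exact ⟨G, rfl⟩
  have hNmem : ∀ t (z : TensorAlgebra R (OortTate.eigenAug R A p χ 1)), z ∈ N t →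
      z ∈ (LinearMap.range (TensorAlgebra.ι R : OortTate.eigenAug R A p χ 1 →ₗ[R]
        TensorAlgebra R (OortTate.eigenAug R A p χ 1))) ^ t := by
    intro t z hz
    rw [hN] at hz
    exact hz
  have hNadd : ∀ a b, N (a + b) = N a * N b := by
    intro a b
    rw [hN]
    exact pow_add _ a b
  -- every degree lands in `J + (degrees < p)`
  have hF : ∀ n, N n ≤ J.restrictScalars R ⊔ ⨆ t ∈ Finset.range p, N t := by
    intro n
    induction n using Nat.strong_induction_on with
    | _ n ih =>
      rcases Nat.lt_or_ge n p with hn | hn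
      · exact le_sup_of_le_right (le_iSup₂_of_le n (Finset.mem_range.2 hn) le_rfl)
      · have hn' : n = (n - p) + p := by omega
        have h1 : N n = N (n - p) * N p := by
          rw [← hNadd, ← hn']
        rw [h1]
        calc N (n - p) * N p ≤ N (n - p) * (J.restrictScalars R ⊔ N 1) :=
              mul_le_mul' le_rfl hE
          _ = N (n - p) * J.restrictScalars R ⊔ N (n - p) * N 1 := Submodule.mul_sup _ _ _
          _ ≤ J.restrictScalars R ⊔ ⨆ t ∈ Finset.range p, N t := sup_le ?_ ?_
        · refine le_sup_of_le_left ?_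
          rw [Submodule.mul_le]
          intro a _ b hb
          exact J.mul_mem_left a hb
        · rw [← hNadd]
          exact ih (n - p + 1) (by have := hp.two_le; omega)
  have htop : ∀ z : TensorAlgebra R (OortTate.eigenAug R A p χ 1),
      z ∈ J.restrictScalars R ⊔ ⨆ t ∈ Finset.range p, N t := by
    intro z
    have h1 := (DirectSum.Decomposition.isInternal (fun n : ℕ =>
      (LinearMap.range (TensorAlgebra.ι R : OortTate.eigenAug R A p χ 1 →ₗ[R]
        TensorAlgebra R (OortTate.eigenAug R A p χ 1))) ^ n)).submodule_iSup_eq_top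
    have h2 : (⨆ n, N n) = ⊤ := by
      rw [hN]
      exact h1
    have h3 : (⨆ n, N n) ≤ J.restrictScalars R ⊔ ⨆ t ∈ Finset.range p, N t := iSup_le hF
    rw [h2] at h3
    exact h3 Submodule.mem_top
  have hLN : ∀ t, 1 ≤ t → ∀ z ∈ N t, L z ∈ OortTate.eigenAug R A p χ t := by
    intro t ht z hz
    have h1 : L z ∈ (OortTate.eigenAug R A p χ 1) ^ t := by
      rw [← hmapN t]
      exact ⟨z, hz, rfl⟩
    obtain ⟨s, rfl⟩ : ∃ s, t = s + 1 := ⟨t - 1, by omega⟩
    exact eigenAug_one_pow_le p R χ A s h1
  refine ⟨?_, le_antisymm ?_ hJker⟩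
  · -- surjectivity
    intro a
    have hmem : ∀ t ∈ Finset.Ico 1 p, qq p R u χ A t a ∈ LinearMap.range L.toLinearMap := by
      intro t ht
      rw [Finset.mem_Ico] at ht
      have h1 := qq_mem p R u χ A hpk t a
      rw [← eigenAug_one_pow_eq p R u χ A hpk hu hχ hχp hrk t ht.1 (by omega), ← hmapN t] at h1
      obtain ⟨z, -, hz⟩ := h1
      exact ⟨z, hz⟩
    have h2 : a = algebraMap R A (Coalgebra.counit (R := R) a) +
        ∑ t ∈ Finset.Ico 1 p, qq p R u χ A t a := by
      rw [sum_qq_Ico p R u χ A hu hχ, aug_apply]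
      ring
    have h3 : a ∈ LinearMap.range L.toLinearMap := by
      rw [h2]
      apply Submodule.add_mem
      · exact ⟨algebraMap R _ (Coalgebra.counit (R := R) a), AlgHom.commutes L _⟩
      · exact Submodule.sum_mem _ hmem
    obtain ⟨z, hz⟩ := h3
    exact ⟨z, hz⟩
  · -- the kernel
    intro z hz
    rw [RingHom.mem_ker] at hz
    obtain ⟨j, hj, y, hy, rfl⟩ := Submodule.mem_sup.1 (htop z)
    rw [Submodule.mem_iSup_finset_iff_exists_sum] at hy
    obtain ⟨μ, rfl⟩ := hy
    have hj0 : L j = 0 := RingHom.mem_ker.1 (hJker hj)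
    rw [map_add, hj0, zero_add, map_sum, Finset.range_eq_Ico,
      Finset.sum_eq_sum_Ico_succ_bot hp.pos] at hz
    have hμ0 : ((μ 0 : _) : TensorAlgebra R (OortTate.eigenAug R A p χ 1)) ∈
        (1 : Submodule R (TensorAlgebra R (OortTate.eigenAug R A p χ 1))) := by
      have := hNmem 0 _ (μ 0).2
      rwa [pow_zero] at this
    obtain ⟨r, hr⟩ := Submodule.mem_one.1 hμ0
    have hL0 : L (μ 0) = algebraMap R A r := by
      rw [← hr, AlgHom.commutes]
    rw [hL0] at hz
    obtain ⟨hr0, hall⟩ := decomp_indep p R u χ A hu hχ r (fun t => L (μ t))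
      (fun t ht => hLN t (Finset.mem_Ico.1 ht).1 _ (μ t).2) hz
    have hμt : ∀ t ∈ Finset.Ico 1 p,
        ((μ t : _) : TensorAlgebra R (OortTate.eigenAug R A p χ 1)) = 0 := by
      intro t ht
      have h1 := hall t ht
      have h2 := hNmem t _ (μ t).2
      rw [hL] at h1
      rw [Finset.mem_Ico] at ht
      exact lift_injOn_pow p R u χ A hpk hu hχ hχp hrk t ht.1 (by omega) _ h2 h1
    have hsum : ∑ i ∈ Finset.range p,
        ((μ i : _) : TensorAlgebra R (OortTate.eigenAug R A p χ 1)) = 0 := by
      refine Finset.sum_eq_zero (fun i hi => ?_)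
      by_cases hi0 : i = 0
      · subst hi0
        rw [← hr, hr0, map_zero]
      · exact hμt i (Finset.mem_Ico.2 ⟨by omega, Finset.mem_range.1 hi⟩)
    rw [hsum, add_zero]
    exact hj

end Groth.Agent.S18474
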