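import Groth.Statements.S11275
import Mathlib.Tactic
import Mathlib.LinearAlgebra.Matrix.Block
import Mathlib.Data.Fin.Tuple.Sort
import Mathlib.Order.Interval.Finset.Fin

set_option autoImplicit false
universe u
open W4bk4grassmannian

namespace Groth.Agent.S11275


theorem det_mem_of_bij {R : Type*} [CommRing R] {ρ γ : Type} [Fintype ρ] [Fintype γ]
    (Y : Matrix ρ γ R) (t m : ℕ) (N : Matrix (Fin m) (Fin m) R) (c : Fin m → γ)
    (u : Fin t → Fin m) (f : Fin t → ρ) (hu : Function.Bijective u)
    (hN : ∀ a j, N (u a) j = Y (f a) (c j)) : N.det ∈ CAlgX.minorIdeal Y t := by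
  obtain ⟨e, he⟩ : ∃ e : Fin t ≃ Fin m, ∀ a, e a = u a := ⟨Equiv.ofBijective u hu, fun a => rfl⟩
  have h1 : N.det = (N.submatrix e e).det := (Matrix.det_submatrix_equiv_self e N).symm
  have h2 : N.submatrix e e = Y.submatrix f (c ∘ e) := by
    ext a b
    simp only [Matrix.submatrix_apply, Function.comp]
    rw [he a]
    exact hN a _
  rw [h1, h2]
  exact Ideal.subset_span ⟨(f, c ∘ e), rfl⟩

theorem det_mem_minorIdeal {R : Type*} [CommRing R] {ρ γ : Type} [Fintype ρ] [Fintype γ]
    (Y : Matrix ρ γ R) (t : ℕ) : ∀ (m : ℕ) (N : Matrix (Fin m) (Fin m) R) (c : Fin m → γ)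
    (u : Fin t → Fin m) (f : Fin t → ρ), Function.Injective u →
    (∀ a j, N (u a) j = Y (f a) (c j)) → N.det ∈ CAlgX.minorIdeal Y t := by
  intro m
  induction m with
  | zero =>
    intro N c u f hu hN
    exact det_mem_of_bij Y t 0 N c u f ⟨hu, fun i => i.elim0⟩ hN
  | succ m ih =>
    intro N c u f hu hN
    by_cases hsurj : Function.Surjective u
    · exact det_mem_of_bij Y t (m + 1) N c u f ⟨hu, hsurj⟩ hN
    · have hex0 : ∃ i, ∀ a, u a ≠ i := by
        by_contra hcon
        apply hsurj
        intro i
        by_contra hi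
        apply hcon
        exact ⟨i, fun a ha => hi ⟨a, ha⟩⟩
      obtain ⟨i, hi⟩ := hex0
      rw [Matrix.det_succ_row N i]
      refine Ideal.sum_mem _ fun j _ => Ideal.mul_mem_left _ _ ?_
      have hex : ∀ a, ∃ z, i.succAbove z = u a := fun a => Fin.exists_succAbove_eq (hi a)
      choose u' hu' using hex
      apply ih (N.submatrix i.succAbove j.succAbove) (c ∘ j.succAbove) u' f
      · intro a b hab
        apply hu
        rw [← hu' a, ← hu' b, hab]
      · intro a j'
        simp only [Matrix.submatrix_apply, Function.comp]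
        rw [hu' a]
        exact hN a _

open W4bk4grassmannian in
/-- Ideal-theoretic form; determinantal ideals as ideals of opposite cells of Schubert varieties: let K
be a commutative ring, d, r ≥ 1, 1 ≤ t ≤ min(d, r), Z the generic r × d matrix over K[z_{ij}] and
[I_d ; Z] the (d + r) × d matrix with the identity block on top. For θ ∈ I(d, d + r) let q_θ be the
d × d minor of [I_d ; Z] on the rows θ (the Plücker coordinate p_θ on the opposite big cell). Then
the ideal generated by the q_θ with θ_{d-t} ≥ d (0-indexed; these are the θ not below the index φ =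
(t-1, …, d-1, d+r+1-t, …, d+r-1) of the Schubert variety whose opposite cell is D_t) equals the
ideal generated by the t × t minors of Z. (The published statement is over an algebraically closed
field and identifies the determinantal variety D_t with the opposite cell of the Schubert variety
X(φ); this row states the equality of ideals behind that identification, over any commutative ring
K.) -/
theorem result (K : Type u) [CommRing K] (d r t : ℕ) (hd : 0 < d)
    (ht : 0 < t) (htd : t ≤ d) (htr : t ≤ r) :
    Ideal.span {f : CellRing K d r | ∃ θ : Idx d (d + r),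
        d ≤ (θ.1 ⟨d - t, Nat.sub_lt hd ht⟩).val ∧ f = cellMinor K d r θ} =
      CAlgX.minorIdeal (genMatrix K r d) t := by
  classical
  apply le_antisymm
  · -- ⊆
    apply Ideal.span_le.mpr
    rintro _ ⟨θ, hθ, rfl⟩
    unfold cellMinor
    obtain ⟨uu, huu⟩ : ∃ uu : Fin t → Fin d, ∀ a, (uu a).val = d - t + a.val :=
      ⟨fun a => ⟨d - t + a.val, by have := a.isLt; omega⟩, fun a => rfl⟩
    have hge : ∀ a, d ≤ (θ.1 (uu a)).val := by
      intro a
      have h1 : (⟨d - t, Nat.sub_lt hd ht⟩ : Fin d) ≤ uu a := by
        rw [Fin.le_def, huu a]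
        exact Nat.le_add_right _ _
      have h2 := θ.2.monotone h1
      rw [Fin.le_def] at h2
      exact le_trans hθ h2
    obtain ⟨ff, hff⟩ : ∃ ff : Fin t → Fin r, ∀ a, (ff a).val = (θ.1 (uu a)).val - d :=
      ⟨fun a => ⟨(θ.1 (uu a)).val - d, by have := (θ.1 (uu a)).isLt; omega⟩, fun a => rfl⟩
    apply det_mem_minorIdeal (genMatrix K r d) t d _ id uu ff
    · intro a b hab
      apply Fin.ext
      have h1 := huu a
      have h2 := huu b
      rw [hab] at h1
      omega
    · intro a j
      simp only [Matrix.submatrix_apply, cellMatrix, genMatrix, Matrix.of_apply, id]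
      rw [dif_neg (by have := hge a; omega)]
      congr 2
      apply Fin.ext
      rw [hff a]
  · -- ⊇
    apply Ideal.span_le.mpr
    rintro _ ⟨⟨f, g⟩, rfl⟩
    show ((genMatrix K r d).submatrix f g).det ∈ _
    by_cases hf : Function.Injective f
    swap
    · have : ∃ a b, f a = f b ∧ a ≠ b := by
        by_contra hcon
        apply hf
        intro a b hab
        by_contra hne
        exact hcon ⟨a, b, hab, hne⟩
      obtain ⟨a, b, hab, hne⟩ := this
      rw [Matrix.det_zero_of_row_eq hne (by
        funext j
        simp only [Matrix.submatrix_apply, hab])]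
      exact zero_mem _
    by_cases hg : Function.Injective g
    swap
    · have : ∃ a b, g a = g b ∧ a ≠ b := by
        by_contra hcon
        apply hg
        intro a b hab
        by_contra hne
        exact hcon ⟨a, b, hab, hne⟩
      obtain ⟨a, b, hab, hne⟩ := this
      rw [Matrix.det_zero_of_column_eq hne (by
        intro k
        simp only [Matrix.submatrix_apply, hab])]
      exact zero_mem _
    -- both injective
    obtain ⟨a, ha⟩ : ∃ a : Fin d → Fin (d + r), ∀ j, a j =
        if h : ∃ k, g k = j then (⟨d + (f h.choose).val, by have := (f h.choose).isLt; omega⟩ : Fin (d + r))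
        else ⟨j.val, by have := j.isLt; omega⟩ := ⟨_, fun _ => rfl⟩
    have ha1 : ∀ k, (a (g k)).val = d + (f k).val := by
      intro k
      have hex : ∃ k', g k' = g k := ⟨k, rfl⟩
      rw [ha, dif_pos hex]
      have : hex.choose = k := hg hex.choose_spec
      show d + (f hex.choose).val = d + (f k).val
      rw [this]
    have ha2 : ∀ j, (¬ ∃ k, g k = j) → (a j).val = j.val := by
      intro j hj
      rw [ha, dif_neg hj]
    have hainj : Function.Injective a := by
      intro j j' hjj
      have hv : (a j).val = (a j').val := by rw [hjj]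
      by_cases h1 : ∃ k, g k = j
      · obtain ⟨k, rfl⟩ := h1
        by_cases h2 : ∃ k, g k = j'
        · obtain ⟨k', rfl⟩ := h2
          rw [ha1, ha1] at hv
          have : f k = f k' := Fin.ext (by omega)
          rw [hf this]
        · rw [ha1, ha2 _ h2] at hv
          have := j'.isLt
          omega
      · by_cases h2 : ∃ k, g k = j'
        · obtain ⟨k', rfl⟩ := h2
          rw [ha1, ha2 _ h1] at hv
          have := j.isLt
          omega
        · rw [ha2 _ h1, ha2 _ h2] at hv
          exact Fin.ext hv
    obtain ⟨σ, hσ⟩ : ∃ σ : Equiv.Perm (Fin d), σ = Tuple.sort a := ⟨_, rfl⟩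
    have hmono : Monotone (a ∘ σ) := by rw [hσ]; exact Tuple.monotone_sort a
    have hstrict : StrictMono (a ∘ σ) :=
      hmono.strictMono_of_injective (hainj.comp σ.injective)
    have hθcond : d ≤ ((a ∘ σ) ⟨d - t, Nat.sub_lt hd ht⟩).val := by
      by_contra hlt
      have hcard : (Finset.univ.image g).card = t := by
        rw [Finset.card_image_of_injective _ hg, Finset.card_univ, Fintype.card_fin]
      have hcompl : ((Finset.univ.image g)ᶜ).card = d - t := by
        rw [Finset.card_compl, hcard, Fintype.card_fin]
      have hsub : (Finset.Iic (⟨d - t, Nat.sub_lt hd ht⟩ : Fin d)).image σ ⊆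
          (Finset.univ.image g)ᶜ := by
        intro x hx
        rw [Finset.mem_image] at hx
        obtain ⟨i, hi, rfl⟩ := hx
        rw [Finset.mem_compl, Finset.mem_image]
        rintro ⟨k, -, hk⟩
        have h1 : (a ∘ σ) i ≤ (a ∘ σ) ⟨d - t, Nat.sub_lt hd ht⟩ := hmono (Finset.mem_Iic.mp hi)
        have h2 : ((a ∘ σ) i).val = d + (f k).val := by
          show (a (σ i)).val = _
          rw [← hk, ha1]
        rw [Fin.le_def] at h1
        omega
      have hcardIic : ((Finset.Iic (⟨d - t, Nat.sub_lt hd ht⟩ : Fin d)).image σ).card =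
          d - t + 1 := by
        rw [Finset.card_image_of_injective _ σ.injective, Fin.card_Iic]
      have := Finset.card_le_card hsub
      omega
    obtain ⟨N, hNdef⟩ : ∃ N : Matrix (Fin d) (Fin d) (CellRing K d r),
        N = (cellMatrix K d r).submatrix a id := ⟨_, rfl⟩
    have hcell : cellMinor K d r ⟨a ∘ σ, hstrict⟩ = (Equiv.Perm.sign σ : ℤ) * N.det := by
      unfold cellMinor
      rw [← Matrix.det_permute σ N, hNdef]
      rfl
    have hN1 : ∀ k j, N (g k) j = MvPolynomial.X (f k, j) := by
      intro k j
      rw [hNdef]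
      simp only [Matrix.submatrix_apply, id, cellMatrix, Matrix.of_apply]
      rw [dif_neg (by rw [ha1]; omega)]
      congr 2
      apply Fin.ext
      show (a (g k)).val - d = (f k).val
      rw [ha1]
      omega
    have hN2 : ∀ i, (¬ ∃ k, g k = i) → ∀ j, N i j = if i.val = j.val then 1 else 0 := by
      intro i hi j
      rw [hNdef]
      simp only [Matrix.submatrix_apply, id, cellMatrix, Matrix.of_apply]
      rw [dif_pos (by rw [ha2 i hi]; exact i.isLt), ha2 i hi]
    have hdet : N.det = (Matrix.toSquareBlockProp N fun j => ∃ k, g k = j).det *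
        (Matrix.toSquareBlockProp N fun j => ¬ ∃ k, g k = j).det :=
      Matrix.twoBlockTriangular_det N (fun j => ∃ k, g k = j) (by
        intro i hi j hj
        rw [hN2 i hi, if_neg]
        intro hij
        apply hi
        obtain ⟨k, hk⟩ := hj
        exact ⟨k, hk.trans (Fin.ext hij).symm⟩)
    have hB2 : Matrix.toSquareBlockProp N (fun j => ¬ ∃ k, g k = j) = 1 := by
      apply Matrix.ext
      rintro ⟨i, hi⟩ ⟨j, hj⟩
      rw [Matrix.toSquareBlockProp_def, Matrix.of_apply, Matrix.one_apply]
      show N i j = _
      rw [hN2 i hi]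
      by_cases hij : i = j
      · subst hij
        rw [if_pos rfl, if_pos rfl]
      · rw [if_neg (fun h => hij (Fin.ext h)), if_neg (fun h => hij (Subtype.mk.inj h))]
    obtain ⟨e, he⟩ : ∃ e : Fin t ≃ {j : Fin d // ∃ k, g k = j}, ∀ k, (e k).val = g k :=
      ⟨Equiv.ofBijective (fun k => ⟨g k, k, rfl⟩)
        ⟨fun k k' hkk => hg (Subtype.mk.inj hkk), fun ⟨j, k, hk⟩ => ⟨k, Subtype.ext hk⟩⟩,
        fun k => rfl⟩
    have hB1 : (Matrix.toSquareBlockProp N fun j => ∃ k, g k = j).det =
        ((genMatrix K r d).submatrix f g).det := by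
      rw [← Matrix.det_submatrix_equiv_self e]
      congr 1
      apply Matrix.ext
      intro k l
      rw [Matrix.submatrix_apply, Matrix.toSquareBlockProp_def, Matrix.of_apply,
        Matrix.submatrix_apply, he k, he l, hN1]
      rfl
    rw [hB1, hB2, Matrix.det_one, mul_one] at hdet
    rw [← hdet]
    have hmem : cellMinor K d r ⟨a ∘ σ, hstrict⟩ ∈ Ideal.span {f : CellRing K d r |
        ∃ θ : Idx d (d + r), d ≤ (θ.1 ⟨d - t, Nat.sub_lt hd ht⟩).val ∧ f = cellMinor K d r θ} :=
      Ideal.subset_span ⟨⟨a ∘ σ, hstrict⟩, hθcond, rfl⟩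
    rw [hcell] at hmem
    rcases Int.units_eq_one_or (Equiv.Perm.sign σ) with h1 | h1
    · rw [h1] at hmem
      simpa using hmem
    · rw [h1] at hmem
      have h3 := neg_mem_iff.mpr hmem
      simpa using h3

end Groth.Agent.S11275
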