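import Groth.Statements.S11267
import Groth.Agent.H85.DetMain

set_option autoImplicit false
universe u
open W4bk4grassmannian

namespace Groth.Agent.S11267

open W4bk4grassmannian in
/-- Second Fundamental Theorem of invariant theory for the general linear group acting on pairs of
matrices: let K be an algebraically closed field and m, n, q natural numbers. The kernel of the
K-algebra map K[y_{ij}] → K[u_{ik}, ξ_{kj}] (coordinate rings of M_{m,q} and of M_{m,n} × M_{n,q})
sending y_{ij} to Σ_k u_{ik} ξ_{kj}, the (i, j) entry of the product matrix, is the ideal generated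
by the (n + 1) × (n + 1) minors of the generic m × q matrix (y_{ij}). -/
theorem result (K : Type u) [Field K] [IsAlgClosed K] (m n q : ℕ) :
    RingHom.ker (pairingMap K n m q).toRingHom = CAlgX.minorIdeal (genMatrix K m q) (n + 1) := by
  apply le_antisymm
  · intro f hf
    have hf' : pairingMap K n m q f = 0 := hf
    have hvan : ∀ (U₀ : Matrix (Fin m) (Fin n) K) (W₀ : Matrix (Fin n) (Fin q) K),
        MvPolynomial.aeval (fun p : Fin m × Fin q => (U₀ * W₀) p.1 p.2) f = 0 := by
      intro U₀ W₀
      have hcomp : (MvPolynomial.aeval (Sum.elim (fun p : Fin m × Fin n => U₀ p.1 p.2)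
          (fun p : Fin n × Fin q => W₀ p.1 p.2)) : PairRing K n m q →ₐ[K] K).comp
            (pairingMap K n m q) =
          MvPolynomial.aeval (fun p : Fin m × Fin q => (U₀ * W₀) p.1 p.2) := by
        apply MvPolynomial.algHom_ext
        intro p
        rw [AlgHom.comp_apply, MvPolynomial.aeval_X]
        unfold pairingMap
        rw [MvPolynomial.aeval_X, map_sum, Matrix.mul_apply]
        apply Finset.sum_congr rfl
        intro k _
        rw [map_mul, MvPolynomial.aeval_X, MvPolynomial.aeval_X]
        rfl
      rw [← hcomp, AlgHom.comp_apply, hf', map_zero]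
    by_cases hq : 0 < q
    · exact Groth.Agent.H85.Det.mem_of_vanish hq rfl f hvan
    · have hq0 : q = 0 := by omega
      subst hq0
      have hfC := MvPolynomial.eq_C_of_isEmpty f
      have h1 : (pairingMap K n m 0) (MvPolynomial.C (MvPolynomial.coeff 0 f)) =
          MvPolynomial.C (MvPolynomial.coeff 0 f) := by
        unfold pairingMap
        rw [MvPolynomial.aeval_C]
        rfl
      rw [hfC, h1] at hf'
      have h0 : MvPolynomial.coeff 0 f = 0 :=
        MvPolynomial.C_injective _ _ (by rw [hf', MvPolynomial.C_0])
      rw [hfC, h0, MvPolynomial.C_0]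
      exact Ideal.zero_mem _
  · unfold CAlgX.minorIdeal
    rw [Ideal.span_le]
    rintro _ ⟨⟨f', g'⟩, rfl⟩
    rw [SetLike.mem_coe, RingHom.mem_ker]
    show pairingMap K n m q (Matrix.det _) = 0
    rw [AlgHom.map_det]
    have : (pairingMap K n m q).mapMatrix ((genMatrix K m q).submatrix f' g') =
        (Matrix.of fun (i : Fin (n + 1)) (k : Fin n) =>
          (MvPolynomial.X (Sum.inl (f' i, k)) : PairRing K n m q)) *
        (Matrix.of fun (k : Fin n) (j : Fin (n + 1)) =>
          (MvPolynomial.X (Sum.inr (k, g' j)) : PairRing K n m q)) := by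
      ext i j
      rw [AlgHom.mapMatrix_apply, Matrix.map_apply, Matrix.submatrix_apply, Matrix.mul_apply]
      unfold genMatrix pairingMap
      rw [Matrix.of_apply, MvPolynomial.aeval_X]
      rfl
    rw [this]
    exact Groth.Agent.H85.Det.det_mul_eq_zero_of_lt (Nat.lt_succ_self n) _ _

end Groth.Agent.S11267
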