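import Groth.Statements.S17745
import Mathlib

set_option autoImplicit false
universe u
open CategoryTheory AlgebraicGeometry
open QsChow

namespace Groth.Agent.S17745

theorem residueDegree_of_section {X Y : Scheme.{u}} (π : Y ⟶ X) (s : X ⟶ Y) (hs : s ≫ π = 𝟙 X)
    (x : X) : π.residueDegree (s x) = 1 := by
  have hiso : ∀ (f : X ⟶ X), f = 𝟙 X → Function.Bijective (f.residueFieldMap x).hom := by
    rintro f rfl
    rw [Scheme.residueFieldMap_id]
    exact Function.bijective_id
  have h1 : Function.Bijective ((s.residueFieldMap x).hom ∘ (π.residueFieldMap (s x)).hom) := by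
    have h0 := hiso _ hs
    have e := Scheme.residueFieldMap_comp s π x
    exact (congrArg (fun m => Function.Bijective ⇑(CommRingCat.Hom.hom m)) e).mp h0
  have hinj : Function.Injective (s.residueFieldMap x).hom := (s.residueFieldMap x).hom.injective
  have h2 : Function.Bijective (π.residueFieldMap (s x)).hom := by
    refine ⟨(π.residueFieldMap (s x)).hom.injective, ?_⟩
    intro b
    obtain ⟨a, ha⟩ := h1.2 ((s.residueFieldMap x).hom b)
    exact ⟨a, hinj ha⟩
  unfold Scheme.Hom.residueDegree
  letI := (π.residueFieldMap (s x)).hom.toAlgebra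
  have h3 : Function.Bijective
      (Algebra.linearMap (X.residueField (π (s x))) (Y.residueField (s x))) := h2
  rw [← (LinearEquiv.ofBijective _ h3).finrank_eq, Module.finrank_self]

/-- General form: a `k`-scheme whose structure morphism factors through `Spec F` (with `F ≠ k` a finite
intermediate field) has full norm subgroups (no smoothness or separability needed). -/
theorem main (k : Type u) [Field k] (K : Type u) [Field K] [Algebra k K]
    (F : IntermediateField k K) [FiniteDimensional k F] (hF : F ≠ ⊥)
    (X : Scheme.{u}) [X.Over (Spec (CommRingCat.of k))] (g : X ⟶ Spec (CommRingCat.of F))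
    (hg : g ≫ Spec.map (CommRingCat.ofHom (algebraMap k F)) = X ↘ Spec (CommRingCat.of k))
    (δ : X → ℤ) (j : ℤ) :
    QsChow.normSubgroup k K X δ j = ⊤ := by
  classical
  rw [eq_top_iff]
  intro c _
  obtain ⟨⟨β, hβ⟩, rfl⟩ := QuotientAddGroup.mk'_surjective (ChowOps.ratTriv X δ j) c
  let π : Curv2.bc k X F ⟶ X := Curv2.bcFst k X F
  let s : X ⟶ Curv2.bc k X F := Limits.pullback.lift (𝟙 X) g (by rw [Category.id_comp, hg])
  have hs : s ≫ π = 𝟙 X := Limits.pullback.lift_fst _ _ _
  have hsx : ∀ x : X, π (s x) = x := fun x => by
    rw [← Scheme.Hom.comp_apply, hs]; rfl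
  let α : AlgebraicCycle (Curv2.bc k X F) ℤ :=
    { toFun := fun y => if y = s (π y) then β (π y) else 0
      supportWithinDomain' := fun _ _ => trivial
      supportLocallyFiniteWithinDomain' := by
        intro z _
        obtain ⟨t, ht, hfin⟩ := β.supportLocallyFiniteWithinDomain' (π z) trivial
        refine ⟨π ⁻¹' t, π.continuous.continuousAt ht, ?_⟩
        refine (hfin.image s).subset ?_
        intro y hy
        obtain ⟨hy1, hy2⟩ := hy
        have hy2' : (if y = s (π y) then β (π y) else 0) ≠ 0 := hy2
        by_cases hys : y = s (π y)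
        · rw [if_pos hys] at hy2'
          exact ⟨π y, ⟨hy1, hy2'⟩, hys.symm⟩
        · rw [if_neg hys] at hy2'
          exact absurd rfl hy2' }
  have hαapp : ∀ y, α y = if y = s (π y) then β (π y) else 0 := fun y => rfl
  have hαZ : α ∈ Cyc.Zk (Curv2.bc k X F) (δ ∘ ⇑(Curv2.bcFst k X F).base) j := by
    intro y hy
    rw [hαapp]
    by_cases hys : y = s (π y)
    · rw [if_pos hys]
      exact hβ (π y) hy
    · rw [if_neg hys]
  have hpush : AlgebraicCycle.map (Curv2.bcFst k X F) (δ ∘ ⇑(Curv2.bcFst k X F).base) δ α = β := by
    ext x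
    simp only [AlgebraicCycle.map, Function.locallyFinsupp.map_apply]
    have key : ∀ y : ↥(Curv2.bc k X F),
        (∑ᶠ (_ : y ∈ ⇑(Curv2.bcFst k X F) ⁻¹' {x}), α y *
          ((AlgebraicCycle.mapCoeff (Curv2.bcFst k X F) (δ ∘ ⇑(Curv2.bcFst k X F).base) δ y : ℕ) : ℤ))
          = if y = s x then β x else 0 := by
      intro y
      rw [finsum_eq_if]
      by_cases hy : y = s x
      · have hmem : y ∈ ⇑(Curv2.bcFst k X F) ⁻¹' {x} := by
          rw [hy]; exact hsx x
        rw [if_pos hmem, if_pos hy, hy, hαapp, hsx x, if_pos rfl]
        have hdeg : AlgebraicCycle.mapCoeff (Curv2.bcFst k X F)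
            (δ ∘ ⇑(Curv2.bcFst k X F).base) δ (s x) = 1 := by
          unfold AlgebraicCycle.mapCoeff
          rw [if_pos (show (δ ∘ ⇑(Curv2.bcFst k X F)) (s x) = δ ((Curv2.bcFst k X F) (s x)) from rfl)]
          exact residueDegree_of_section π s hs x
        rw [hdeg]; simp
      · rw [if_neg hy]
        by_cases hmem : y ∈ ⇑(Curv2.bcFst k X F) ⁻¹' {x}
        · rw [if_pos hmem]
          have hpy : π y = x := hmem
          rw [hαapp, hpy, if_neg hy, zero_mul]
        · rw [if_neg hmem]
    rw [finsum_congr key, finsum_eq_single _ (s x) (fun y hy => if_neg hy), if_pos rfl]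
  have hmem : AlgebraicCycle.map (Curv2.bcFst k X F) (δ ∘ ⇑(Curv2.bcFst k X F).base) δ α ∈
      Cyc.Zk X δ j := by rw [hpush]; exact hβ
  have hcl : (QuotientAddGroup.mk' (ChowOps.ratTriv X δ j)) ⟨β, hβ⟩ =
      ChowOps.cl (AlgebraicCycle.map (Curv2.bcFst k X F)
        (δ ∘ ⇑(Curv2.bcFst k X F).base) δ α) hmem := by
    show ChowOps.clHom X δ j ⟨β, hβ⟩ = ChowOps.clHom X δ j ⟨_, hmem⟩
    congr 1
    exact Subtype.ext hpush.symm
  rw [hcl]
  unfold QsChow.normSubgroup
  apply AddSubgroup.subset_closure
  exact ⟨F, inferInstance, hF, α, hαZ, hmem, rfl⟩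

/-- For a field extension K of k (separable algebraic) and a k-scheme X with weight function δ, call
norm subgroup of CH_j(X) the subgroup generated by the classes of the push-forwards to X of j-cycles
on the base changes X_F, over the intermediate fields F of K over k that are finite over k and
different from k (the quotient by it is the degree-j part of the conormed Chow group of X relative
to K over k). Let F be an intermediate field of K over k, finite over k and different from k, and
let X be a smooth variety over F (a scheme with a smooth, separated and quasi-compact morphism g to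
Spec F), regarded as a k-scheme by composing g with Spec F → Spec k. Then for every weight function
δ on X (a dimension function induced from weight 0 on Spec k) and every integer j the norm subgroup
of CH_j(X) relative to K over k is the whole Chow group: all conormed Chow groups of X vanish. (The
source's F is tacitly different from k; for F = k the assertion fails, e.g. with K = k.) -/
theorem result
    (k : Type u) [Field k] (K : Type u) [Field K] [Algebra k K] [Algebra.IsSeparable k K]
    (F : IntermediateField k K) [FiniteDimensional k F] (hF : F ≠ ⊥)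
    (X : Scheme.{u}) [X.Over (Spec (CommRingCat.of k))] (g : X ⟶ Spec (CommRingCat.of F))
    (hg : g ≫ Spec.map (CommRingCat.ofHom (algebraMap k F)) = X ↘ Spec (CommRingCat.of k))
    (hsm : Smooth g) [IsSeparated g] [QuasiCompact g]
    (δ : X → ℤ) (hδ : Cyc.IsSetup X δ)
    (hcompat : Cyc.DeltaCompat (X ↘ Spec (CommRingCat.of k)) δ (fun _ => 0)) (j : ℤ) :
    QsChow.normSubgroup k K X δ j = ⊤ := by
  exact main k K F hF X g hg δ j

end Groth.Agent.S17745
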