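import Groth.Statements.S17746
import Mathlib
import Groth.Agent.S17745
import Groth.Agent.H68.ClopenIdem
import Groth.Agent.H85.GalIdem

set_option autoImplicit false
universe u
open CategoryTheory AlgebraicGeometry
open QsChow

namespace Groth.Agent.S17746

open CategoryTheory.Limits TensorProduct

/-- Flat base change for global sections of a qcqs scheme over an affine base
(same proof as helper51's `H51.QAffDesc.isPushout_appTop_of_flat`, from Mathlib's `pushoutSection`). -/
theorem isPushout_appTop_of_flat {X Y B T : Scheme.{u}} {f : T ⟶ B} {g : Y ⟶ X} {iX : X ⟶ B}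
    {iY : Y ⟶ T} (H : IsPullback g iY iX f) [Flat f] [IsAffine B] [IsAffine T] [CompactSpace X]
    [QuasiSeparatedSpace X] : IsPushout iX.appTop f.appTop g.appTop iY.appTop := by
  have h1 : IsIso (pushoutSection H (US := ⊤) (UT := ⊤) (UX := ⊤) (UY := ⊤) le_top le_top
      (by simp)) :=
    isIso_pushoutSection_of_isQuasiSeparated_of_flat_right H _ _ _ (isAffineOpen_top _)
      (isAffineOpen_top _) isCompact_univ isQuasiSeparated_univ
  have h2 := (isIso_pushoutSection_iff H (US := ⊤) (UT := ⊤) (UX := ⊤) (UY := ⊤) le_top le_top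
      (by simp)).1 h1
  have e : ∀ {A B' : Scheme.{u}} (m : A ⟶ B') (hm : (⊤ : A.Opens) ≤ m ⁻¹ᵁ ⊤),
      m.appLE ⊤ ⊤ hm = m.appTop := by
    intro A B' m hm
    rw [Scheme.Hom.appTop, ← Scheme.Hom.appLE_eq_app]
    rfl
  have e1 : iX.appTop = iX.appLE ⊤ ⊤ (by simp) := (e iX _).symm
  have e2 : f.appTop = f.appLE ⊤ ⊤ (by simp) := (e f _).symm
  have e3 : g.appTop = g.appLE ⊤ ⊤ (by simp) := (e g _).symm
  have e4 : iY.appTop = iY.appLE ⊤ ⊤ (by simp) := (e iY _).symm
  rw [e1, e2, e3, e4]
  exact h2

/-- idempotents of the global sections of a connected scheme are trivial -/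
theorem idem_trivial_of_connected (X : Scheme.{u}) [ConnectedSpace X] (a : Γ(X, ⊤))
    (ha : IsIdempotentElem a) : a = 0 ∨ a = 1 := by
  have hcl := Groth.Agent.H68.ClopenIdem.isClopen_basicOpen ha
  rcases isClopen_iff.mp hcl with h | h
  · left
    refine Groth.Agent.H68.ClopenIdem.eq_of_basicOpen_eq ha IsIdempotentElem.zero ?_
    apply SetLike.coe_injective
    rw [h, Scheme.basicOpen_zero]
    rfl
  · right
    refine Groth.Agent.H68.ClopenIdem.eq_of_basicOpen_eq ha IsIdempotentElem.one ?_
    apply SetLike.coe_injective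
    rw [h, Scheme.basicOpen_of_isUnit _ isUnit_one]
    rfl

/-- a nonempty non-connected scheme has a nontrivial idempotent global section -/
theorem exists_idem_of_not_connected (Y : Scheme.{u}) [Nonempty Y] (hY : ¬ ConnectedSpace Y) :
    ∃ ε : Γ(Y, ⊤), IsIdempotentElem ε ∧ ε ≠ 0 ∧ ε ≠ 1 := by
  have hnpre : ¬ PreconnectedSpace Y := fun h => hY { toPreconnectedSpace := h, toNonempty := ‹_› }
  rw [preconnectedSpace_iff_clopen] at hnpre
  push Not at hnpre
  obtain ⟨U, hU, hU0, hU1⟩ := hnpre
  obtain ⟨ε, hε, hεU⟩ := Groth.Agent.H68.ClopenIdem.exists_idempotent_of_isClopen U hU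
  refine ⟨ε, hε, ?_, ?_⟩
  · rintro rfl
    have hUe : U = ∅ := by
      rw [← hεU, Scheme.basicOpen_zero]
      rfl
    rw [hUe] at hU0
    exact Set.not_nonempty_empty hU0
  · rintro rfl
    apply hU1
    rw [← hεU, Scheme.basicOpen_of_isUnit _ isUnit_one]
    rfl

/-- the key geometric input: a factorization of the structure morphism through `Spec F`. -/
theorem exists_factorization
    (k : Type u) [Field k] (K : Type u) [Field K] [Algebra k K]
    (L : IntermediateField k K) [FiniteDimensional k L] [IsGalois k L]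
    (X : Scheme.{u}) [X.Over (Spec (CommRingCat.of k))]
    [QuasiSeparated (X ↘ Spec (CommRingCat.of k))]
    [QuasiCompact (X ↘ Spec (CommRingCat.of k))]
    [ConnectedSpace X] (hdisc : ¬ ConnectedSpace ↥(Curv2.bc k X L)) :
    ∃ (F : IntermediateField k K) (_ : FiniteDimensional k F) (_ : F ≠ ⊥)
      (g : X ⟶ Spec (CommRingCat.of F)),
      g ≫ Spec.map (CommRingCat.ofHom (algebraMap k F)) = X ↘ Spec (CommRingCat.of k) := by
  classical
  -- notation
  obtain ⟨f0, hf0⟩ : ∃ f0 : X ⟶ Spec (CommRingCat.of k), f0 = X ↘ Spec (CommRingCat.of k) :=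
    ⟨_, rfl⟩
  obtain ⟨jm, hjm⟩ : ∃ jm : Spec (CommRingCat.of (L : Type u)) ⟶ Spec (CommRingCat.of k),
      jm = Spec.map (CommRingCat.ofHom (algebraMap k L)) := ⟨_, rfl⟩
  have : QuasiSeparated f0 := hf0 ▸ inferInstance
  have : QuasiCompact f0 := hf0 ▸ inferInstance
  have : CompactSpace X := QuasiCompact.compactSpace_of_compactSpace f0
  have : QuasiSeparatedSpace X := quasiSeparatedSpace_of_quasiSeparated f0
  have : Flat jm := by
    rw [hjm]
    exact Flat.SpecMap_iff.mpr (RingHom.Flat.of_isField (Field.toIsField k) _)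
  have hdisc' : ¬ ConnectedSpace ↥(pullback f0 jm) := by
    rw [hf0, hjm]; exact hdisc
  -- nonempty
  have : Subsingleton ↥(Spec (CommRingCat.of k)) :=
    inferInstanceAs (Subsingleton (PrimeSpectrum k))
  have : Nonempty ↥(Spec (CommRingCat.of (L : Type u))) :=
    inferInstanceAs (Nonempty (PrimeSpectrum L))
  have : Nonempty ↥(pullback f0 jm) := by
    obtain ⟨x⟩ : Nonempty X := inferInstance
    obtain ⟨y⟩ : Nonempty ↥(Spec (CommRingCat.of (L : Type u))) := inferInstance
    obtain ⟨z, -, -⟩ := Scheme.Pullback.exists_preimage_pullback (f := f0) (g := jm) x y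
      (Subsingleton.elim _ _)
    exact ⟨z⟩
  obtain ⟨ε, hε, hε0, hε1⟩ := exists_idem_of_not_connected _ hdisc'
  -- flat base change
  have hpo := isPushout_appTop_of_flat (IsPullback.of_hasPullback f0 jm)
  have hpo2 : IsPushout ((Scheme.ΓSpecIso (CommRingCat.of k)).inv ≫ f0.appTop)
      (CommRingCat.ofHom (algebraMap k L)) (pullback.fst f0 jm).appTop
      ((Scheme.ΓSpecIso (CommRingCat.of (L : Type u))).inv ≫ (pullback.snd f0 jm).appTop) := by
    refine hpo.of_iso (Scheme.ΓSpecIso (CommRingCat.of k)) (Iso.refl _)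
      (Scheme.ΓSpecIso (CommRingCat.of (L : Type u))) (Iso.refl _) ?_ ?_ ?_ ?_
    · simp
    · rw [hjm]; exact Scheme.ΓSpecIso_naturality _
    · simp
    · simp
  let algA : Algebra k Γ(X, ⊤) :=
    ((Scheme.ΓSpecIso (CommRingCat.of k)).inv ≫ f0.appTop).hom.toAlgebra
  have hpo3 := CommRingCat.isPushout_tensorProduct k Γ(X, ⊤) L
  have hpo2' : IsPushout (CommRingCat.ofHom (algebraMap k Γ(X, ⊤)))
      (CommRingCat.ofHom (algebraMap k L)) (pullback.fst f0 jm).appTop
      ((Scheme.ΓSpecIso (CommRingCat.of (L : Type u))).inv ≫ (pullback.snd f0 jm).appTop) := hpo2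
  let θ : Γ(X, ⊤) ⊗[k] L ≃+* Γ(pullback f0 jm, ⊤) :=
    (hpo3.isoIsPushout _ _ hpo2').commRingCatIsoToRingEquiv
  let θ' : (L : Type u) ⊗[k] Γ(X, ⊤) ≃+* Γ(pullback f0 jm, ⊤) :=
    (Algebra.TensorProduct.comm k L Γ(X, ⊤)).toRingEquiv.trans θ
  have he : IsIdempotentElem (θ'.symm ε) := hε.map θ'.symm
  have he0 : θ'.symm ε ≠ 0 := fun h => hε0 (by
    have := congrArg θ' h
    rwa [RingEquiv.apply_symm_apply, map_zero] at this)
  have he1 : θ'.symm ε ≠ 1 := fun h => hε1 (by
    have := congrArg θ' h
    rwa [RingEquiv.apply_symm_apply, map_one] at this)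
  obtain ⟨F', hF', ⟨φ⟩⟩ := Groth.Agent.H85.GalIdem.exists_intermediateField_algHom
    (k := k) (L := L) (A := Γ(X, ⊤)) (idem_trivial_of_connected X) (θ'.symm ε) he he0 he1
  -- lift to an intermediate field of K
  refine ⟨IntermediateField.lift F', ?_, ?_, ?_⟩
  · exact Module.Finite.equiv (IntermediateField.liftAlgEquiv F').toLinearEquiv
  · intro h
    apply hF'
    apply IntermediateField.lift_injective L
    rw [h]
    ext x
    simp only [IntermediateField.lift, IntermediateField.mem_map, IntermediateField.mem_bot]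
    constructor
    · rintro ⟨c, rfl⟩
      exact ⟨algebraMap k L c, ⟨c, rfl⟩, rfl⟩
    · rintro ⟨y, ⟨c, rfl⟩, rfl⟩
      exact ⟨c, rfl⟩
  · let ψ : IntermediateField.lift F' →ₐ[k] Γ(X, ⊤) :=
      φ.comp ((IntermediateField.liftAlgEquiv F').symm : _ →ₐ[k] F')
    refine ⟨X.toSpecΓ ≫ Spec.map (CommRingCat.ofHom ψ.toRingHom), ?_⟩
    rw [Category.assoc, ← Spec.map_comp, ← hf0]
    have h1 : CommRingCat.ofHom (algebraMap k (IntermediateField.lift F')) ≫
        CommRingCat.ofHom ψ.toRingHom =
        (Scheme.ΓSpecIso (CommRingCat.of k)).inv ≫ f0.appTop := by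
      ext c
      show ψ (algebraMap k (IntermediateField.lift F') c) = algebraMap k Γ(X, ⊤) c
      exact ψ.commutes c
    rw [h1, Spec.map_comp, ← Scheme.toSpecΓ_naturality_assoc, toSpecΓ_SpecMap_ΓSpecIso_inv,
      Category.comp_id]

/-- For a field extension K of k (separable algebraic) and a k-scheme X with weight function δ, call
norm subgroup of CH_j(X) the subgroup generated by the classes of the push-forwards to X of j-cycles
on the base changes X_F, over the intermediate fields F of K over k that are finite over k and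
different from k (the quotient by it is the degree-j part of the conormed Chow group of X relative
to K over k). Let L be an intermediate field of K over k that is finite Galois over k, and let X be
a smooth variety over k (smooth, separated and quasi-compact structure morphism) that is connected
and whose base change X_L is not connected. Then for every weight function δ on X (a dimension
function induced from weight 0 on Spec k) and every integer j the norm subgroup of CH_j(X) relative
to K over k is the whole Chow group: all conormed Chow groups of X vanish. -/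
theorem result
    (k : Type u) [Field k] (K : Type u) [Field K] [Algebra k K] [Algebra.IsSeparable k K]
    (L : IntermediateField k K) [FiniteDimensional k L] [IsGalois k L]
    (X : Scheme.{u}) [X.Over (Spec (CommRingCat.of k))]
    (hsm : Smooth (X ↘ Spec (CommRingCat.of k))) [IsSeparated (X ↘ Spec (CommRingCat.of k))]
    [QuasiCompact (X ↘ Spec (CommRingCat.of k))]
    [ConnectedSpace X] (hdisc : ¬ ConnectedSpace ↥(Curv2.bc k X L))
    (δ : X → ℤ) (hδ : Cyc.IsSetup X δ)
    (hcompat : Cyc.DeltaCompat (X ↘ Spec (CommRingCat.of k)) δ (fun _ => 0)) (j : ℤ) :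
    QsChow.normSubgroup k K X δ j = ⊤ := by
  obtain ⟨F, hFfin, hFbot, g, hg⟩ := exists_factorization k K L X hdisc
  exact Groth.Agent.S17745.main k K F hFbot X g hg δ j

end Groth.Agent.S17746
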