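import Groth.Statements.S17153
import Groth.Agent.H85.IsocDet

set_option autoImplicit false
universe u v
open Isoc

namespace Groth.Agent.S17153

open Groth.Agent.H85
open scoped Isocrystal Pointwise

section Helpers

variable {p : ℕ} [Fact p.Prime] {k : Type u} [Field k] [CharP k p] [PerfectRing k p]

theorem stdIsoc_single (τ : K(p, k) →+* K(p, k)) (d : ℤ) (h : ℕ) (i : Fin h) (c : K(p, k)) :
    stdIsoc τ d h (Pi.single i c) =
      Pi.single (finRotate h i)
        ((if (finRotate h i).val = 0 then (p : K(p, k)) ^ d else 1) * τ c) := by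
  ext l
  rw [stdIsoc_apply]
  by_cases hl : l = finRotate h i
  · subst hl
    rw [Equiv.symm_apply_apply, Pi.single_eq_same, Pi.single_eq_same]
  · have : (finRotate h).symm l ≠ i := fun h' => hl (by rw [← h', Equiv.apply_symm_apply])
    rw [Pi.single_eq_of_ne this, Pi.single_eq_of_ne hl, map_zero, mul_zero]

theorem std_E_succ (τ : K(p, k) →+* K(p, k)) (d : ℤ) (n m : ℕ) (hm : m < n) :
    stdIsoc τ d (n + 1) (Pi.single (⟨m, by omega⟩ : Fin (n + 1)) (1 : K(p, k))) =
      Pi.single (⟨m + 1, by omega⟩ : Fin (n + 1)) (1 : K(p, k)) := by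
  rw [stdIsoc_single, finRotate_of_lt hm]
  simp

theorem std_E_last (τ : K(p, k) →+* K(p, k)) (d : ℤ) (n : ℕ) :
    stdIsoc τ d (n + 1) (Pi.single (⟨n, by omega⟩ : Fin (n + 1)) (1 : K(p, k))) =
      ((p : K(p, k)) ^ d) • Pi.single (⟨0, by omega⟩ : Fin (n + 1)) (1 : K(p, k)) := by
  rw [stdIsoc_single, finRotate_last']
  ext l
  by_cases hl : l = ⟨0, by omega⟩
  · subst hl
    simp
  · rw [Pi.smul_apply, Pi.single_eq_of_ne hl, Pi.single_eq_of_ne hl, smul_zero]

theorem std_iter_E (τ : K(p, k) →+* K(p, k)) (d : ℤ) (n m j : ℕ) (hmj : m + j < n + 1) :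
    (⇑(stdIsoc τ d (n + 1)))^[j] (Pi.single (⟨m, by omega⟩ : Fin (n + 1)) (1 : K(p, k))) =
      Pi.single (⟨m + j, hmj⟩ : Fin (n + 1)) (1 : K(p, k)) := by
  induction j with
  | zero => rfl
  | succ j ih =>
    rw [Function.iterate_succ', Function.comp_apply, ih (by omega)]
    exact std_E_succ τ d n (m + j) (by omega)

theorem std_iter_full (τ : K(p, k) →+* K(p, k)) (d : ℤ) (n m : ℕ) (hm : m < n + 1) :
    (⇑(stdIsoc τ d (n + 1)))^[n + 1] (Pi.single (⟨m, hm⟩ : Fin (n + 1)) (1 : K(p, k))) =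
      ((p : K(p, k)) ^ d) • Pi.single (⟨m, hm⟩ : Fin (n + 1)) (1 : K(p, k)) := by
  have hsplit : ∀ x, (⇑(stdIsoc τ d (n + 1)))^[n + 1] x =
      (⇑(stdIsoc τ d (n + 1)))^[m] ((stdIsoc τ d (n + 1))
        ((⇑(stdIsoc τ d (n + 1)))^[n - m] x)) := by
    intro x
    rw [← Function.iterate_succ_apply' (⇑(stdIsoc τ d (n + 1))) (n - m) x,
      ← Function.iterate_add_apply]
    have e : m + (n - m).succ = n + 1 := by omega
    rw [e]
  rw [hsplit, std_iter_E τ d n m (n - m) (by omega)]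
  have h1 : (Pi.single (⟨m + (n - m), by omega⟩ : Fin (n + 1)) (1 : K(p, k)) :
      Fin (n + 1) → K(p, k)) = Pi.single (⟨n, by omega⟩ : Fin (n + 1)) 1 := by
    congr 1
    apply Fin.ext
    show m + (n - m) = n
    omega
  rw [h1, std_E_last, iterate_zpow_smul, std_iter_E τ d n 0 m (by omega)]
  congr 2
  apply Fin.ext
  show 0 + m = m
  omega

theorem std_isIsoc (a : ℤ) (d : ℤ) (h : ℕ) : IsIsoc (stdIsoc (frob p k a) d h) := by
  have hinj : Function.Injective (stdIsoc (frob p k a) d h) := by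
    rw [injective_iff_map_eq_zero]
    intro x hx
    ext j
    have := congrFun hx (finRotate h j)
    rw [stdIsoc_apply, Equiv.symm_apply_apply, Pi.zero_apply] at this
    have hc : (if (finRotate h j).val = 0 then (p : K(p, k)) ^ d else 1) ≠ 0 := by
      split_ifs
      · exact zpow_ne_zero _ pL_ne_zero
      · exact one_ne_zero
    have h2 := (mul_eq_zero.mp this).resolve_left hc
    rw [Pi.zero_apply]
    exact (map_eq_zero _).mp h2
  exact ⟨inferInstance, hinj, semilinear_surjective_of_injective (frob_bijective a) _ hinj⟩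

theorem std_isIsoclinic (a : ℤ) (d : ℤ) (n : ℕ) :
    IsIsoclinic (stdIsoc (frob p k a) d (n + 1)) ((d : ℚ) / ((n + 1 : ℕ) : ℚ)) := by
  have hM₀ : (Submodule.span (WittVector p k)
      (Set.range (Pi.basisFun K(p, k) (Fin (n + 1))))).IsLattice K(p, k) :=
    ⟨Submodule.fg_span (Set.finite_range _), by
      rw [Submodule.span_span_of_tower]; exact (Pi.basisFun K(p, k) (Fin (n + 1))).span_eq⟩
  refine ⟨_, hM₀, d, n + 1, Nat.succ_pos n, rfl, ?_⟩
  rw [latImg_span (presW_frob a)]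
  have h2 : pPow d (Submodule.span (WittVector p k)
      (Set.range (Pi.basisFun K(p, k) (Fin (n + 1))))) =
      Submodule.span (WittVector p k)
        (((p : K(p, k)) ^ d) • Set.range (Pi.basisFun K(p, k) (Fin (n + 1)))) :=
    Submodule.smul_span _ _
  rw [h2, ← Set.image_smul]
  congr 1
  refine Set.image_congr ?_
  rintro _ ⟨i, rfl⟩
  rw [Pi.basisFun_apply]
  exact std_iter_full (frob p k a) d n i.val i.isLt

end Helpers

/-- Let k be a perfect field of characteristic p, W = W(k), L its fraction field, a ∈ ℤ, and λ = d/h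
with h > 0 and gcd(d, h) = 1. The standard σ^a-F-isocrystal N_λ of slope λ — the space L^h with the
σ^a-semilinear F determined by F e_i = e_{i+1} (i + 1 < h) and F e_{h−1} = p^d · e_0 — is a simple
isocrystal: an L-subspace of L^h carried into itself by F is either 0 or everything. (The source
introduces N_λ for a ≠ 0 only; the simplicity argument, via sub-isocrystals of an isoclinic
isocrystal having the same slope, does not use that restriction, and the statement is made for all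
a.) -/
theorem result (p : ℕ) [Fact p.Prime] (k : Type u) [Field k] [CharP k p] [PerfectRing k p]
    (a : ℤ) (d : ℤ) (h : ℕ) (hh : 0 < h) (hdh : Int.gcd d h = 1)
    (P : Submodule (FractionRing (WittVector p k)) (Fin h → (FractionRing (WittVector p k))))
    (hP : ∀ x ∈ P, Isoc.stdIsoc (Isoc.frob p k a) d h x ∈ P) : P = ⊥ ∨ P = ⊤ := by
  by_cases hbot : P = ⊥
  · exact Or.inl hbot
  right
  obtain ⟨n, rfl⟩ : ∃ n, h = n + 1 := ⟨h - 1, by omega⟩
  have hF : IsIsoc (stdIsoc (frob p k a) d (n + 1)) := std_isIsoc a d (n + 1)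
  have hiso := std_isIsoclinic (p := p) (k := k) a d n
  have hisoP : IsIsoclinic ((stdIsoc (frob p k a) d (n + 1)).restrict hP)
      ((d : ℚ) / ((n + 1 : ℕ) : ℚ)) :=
    isIsoclinic_restrict (frob_bijective a) (surjW_frob a) _ hF _ hiso P hP
  obtain ⟨M', hM', r, s, hs, hrs, hFM'⟩ := hisoP
  obtain ⟨e, he⟩ := exists_lattice_basis (Module.finBasis K(p, k) P) M' hM'
  subst he
  have hτ := presW_frob (p := p) (k := k) a
  have hD' := isOrdP_det_of_eq (presW_pow hτ s) e
    (iter ((stdIsoc (frob p k a) d (n + 1)).restrict hP) s) r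
    (fun x hx => (latImg_le_iff _ s _ _).mp hFM'.le x hx)
    (fun x hx => by
      have h1 : ((p : K(p, k)) ^ r) • x ∈
          latImg ((stdIsoc (frob p k a) d (n + 1)).restrict hP) s
            (Submodule.span (WittVector p k) (Set.range e)) := by
        rw [hFM']; exact smul_mem_pPow r _ hx
      obtain ⟨y, hy, hyx⟩ := (mem_latImg_iff (surjW_frob a) _ s _ _).mp h1
      exact ⟨y, hy, hyx⟩)
  obtain ⟨s', rfl⟩ : ∃ s', s = s' + 1 := ⟨s - 1, by omega⟩
  have hdet : (smat e ((stdIsoc (frob p k a) d (n + 1)).restrict hP)).det ≠ 0 :=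
    det_smat_ne_zero_of_iter e _ s' (isOrdP_ne_zero hD')
  obtain ⟨d', hd'⟩ := exists_isOrdP hdet
  have hD := isOrdP_det_smat_iter hτ e _ d' hd' (s' + 1)
  have hkey := isOrdP_unique hD' hD
  rw [Fintype.card_fin] at hkey
  -- arithmetic
  have hsQ : ((s' + 1 : ℕ) : ℚ) ≠ 0 := by exact_mod_cast Nat.succ_ne_zero s'
  have hnQ : ((n + 1 : ℕ) : ℚ) ≠ 0 := by exact_mod_cast Nat.succ_ne_zero n
  rw [div_eq_div_iff hsQ hnQ] at hrs
  have hrs' : r * ((n + 1 : ℕ) : ℤ) = d * ((s' + 1 : ℕ) : ℤ) := by exact_mod_cast hrs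
  set h' : ℕ := Module.finrank K(p, k) P with hh'
  have hspos : (0 : ℤ) < ((s' + 1 : ℕ) : ℤ) := by exact_mod_cast Nat.succ_pos s'
  have e1 : ((s' + 1 : ℕ) : ℤ) * (d' * ((n + 1 : ℕ) : ℤ)) = ((s' + 1 : ℕ) : ℤ) * (d * (h' : ℤ)) := by
    calc ((s' + 1 : ℕ) : ℤ) * (d' * ((n + 1 : ℕ) : ℤ))
        = (((s' + 1 : ℕ) : ℤ) * d') * ((n + 1 : ℕ) : ℤ) := by ring
      _ = (r * (h' : ℤ)) * ((n + 1 : ℕ) : ℤ) := by rw [hkey]
      _ = (r * ((n + 1 : ℕ) : ℤ)) * (h' : ℤ) := by ring
      _ = (d * ((s' + 1 : ℕ) : ℤ)) * (h' : ℤ) := by rw [hrs']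
      _ = ((s' + 1 : ℕ) : ℤ) * (d * (h' : ℤ)) := by ring
  have e2 : d' * ((n + 1 : ℕ) : ℤ) = d * (h' : ℤ) := mul_left_cancel₀ hspos.ne' e1
  have hdvd : (((n + 1 : ℕ) : ℤ)) ∣ d * (h' : ℤ) := ⟨d', by rw [← e2]; ring⟩
  have hgcd : Int.gcd ((n + 1 : ℕ) : ℤ) d = 1 := by rw [Int.gcd_comm]; exact hdh
  have hdvd' : (((n + 1 : ℕ) : ℤ)) ∣ (h' : ℤ) := Int.dvd_of_dvd_mul_right_of_gcd_one hdvd hgcd
  have hpos : 0 < h' := by
    rw [hh']
    exact Nat.pos_of_ne_zero fun h0 => hbot (Submodule.finrank_eq_zero.mp h0)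
  have hle : n + 1 ≤ h' := by
    have := Int.le_of_dvd (by exact_mod_cast hpos) hdvd'
    exact_mod_cast this
  have hle' : h' ≤ n + 1 := by
    have := Submodule.finrank_le P
    rwa [Module.finrank_fin_fun] at this
  apply Submodule.eq_top_of_finrank_eq
  rw [Module.finrank_fin_fun]
  omega

end Groth.Agent.S17153
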