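import Groth.Statements.S11268
-- import your own Groth.Agent.* helpers here

set_option autoImplicit false
open W4bk4grassmannian

namespace Groth.Agent.S11268

theorem val_le_of_strictMono {d n : ℕ} (a : Fin d → Fin n) (ha : StrictMono a) :
    ∀ (k : ℕ) (hk : k < d), k ≤ (a ⟨k, hk⟩).val := by
  intro k
  induction k with
  | zero => intro _; exact Nat.zero_le _
  | succ k ih =>
    intro hk
    have h1 := ih (Nat.lt_of_succ_lt hk)
    have h2 : a ⟨k, Nat.lt_of_succ_lt hk⟩ < a ⟨k + 1, hk⟩ :=
      ha (by simp [Fin.lt_def])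
    have h3 := Fin.lt_def.mp h2
    omega


open W4bk4grassmannian in
/-- Let τ < w in I(d,n), the strictly increasing maps Fin d → Fin n ordered entrywise. Then there is a
Schubert divisor φ of w, i.e. φ < w with Σ_t (φ_t - t) + 1 = Σ_t (w_t - t), such that τ ≤ φ: every
proper Schubert subvariety of X(w) lies in a Schubert divisor of X(w). -/
theorem result (d n : ℕ) (τ w : Idx d n) (h : τ < w) :
    ∃ φ ∈ divisors w, τ ≤ φ := by
  classical
  obtain ⟨hle, hnle⟩ := lt_iff_le_not_ge.mp h
  have hle' : ∀ s, τ.1 s ≤ w.1 s := fun s => hle s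
  -- the set of indices where τ < w is nonempty
  have hex : ∃ s, τ.1 s < w.1 s := by
    by_contra hcon
    push_neg at hcon
    exact hnle (fun s => hcon s)
  -- least such index
  let S : Finset (Fin d) := Finset.univ.filter (fun s => τ.1 s < w.1 s)
  have hS : S.Nonempty := by
    obtain ⟨s, hs⟩ := hex
    exact ⟨s, by simp [S, hs]⟩
  let t := S.min' hS
  have ht : τ.1 t < w.1 t := by
    have := Finset.min'_mem S hS
    simpa [S] using this
  have htmin : ∀ s, s < t → τ.1 s = w.1 s := by
    intro s hs
    by_contra hne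
    have hlt : τ.1 s < w.1 s := lt_of_le_of_ne (hle' s) hne
    have : t ≤ s := Finset.min'_le S s (by simp [S, hlt])
    exact absurd hs (not_lt.mpr this)
  have htv : (τ.1 t).val < (w.1 t).val := Fin.lt_def.mp ht
  have htt : t.val ≤ (τ.1 t).val := val_le_of_strictMono τ.1 τ.2 t.val t.isLt
  let f : Fin d → Fin n := fun s =>
    if s = t then ⟨(w.1 t).val - 1, lt_of_le_of_lt (Nat.sub_le _ _) (w.1 t).isLt⟩ else w.1 s
  have hft : (f t).val = (w.1 t).val - 1 := by simp [f]
  have hfs : ∀ s, s ≠ t → f s = w.1 s := fun s hs => by simp [f, hs]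
  have hf : StrictMono f := by
    intro s s' hss'
    by_cases h1 : s = t
    · have h2 : s' ≠ t := by rintro rfl; exact absurd hss' (by rw [h1]; exact lt_irrefl _)
      rw [hfs s' h2, Fin.lt_def, h1, hft]
      have : w.1 t < w.1 s' := w.2 (h1 ▸ hss')
      have := Fin.lt_def.mp this
      omega
    · by_cases h2 : s' = t
      · rw [hfs s h1, Fin.lt_def, h2, hft]
        have hst : s < t := h2 ▸ hss'
        have e1 : τ.1 s = w.1 s := htmin s hst
        have e2 : τ.1 s < τ.1 t := τ.2 hst
        have e3 := Fin.lt_def.mp e2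
        rw [← e1]
        omega
      · rw [hfs s h1, hfs s' h2]
        exact w.2 hss'
  refine ⟨⟨f, hf⟩, ⟨?_, ?_⟩, ?_⟩
  · rw [lt_iff_le_not_ge]
    constructor
    · intro s
      change f s ≤ w.1 s
      by_cases h1 : s = t
      · rw [Fin.le_def, h1, hft]; omega
      · rw [hfs s h1]
    · intro hcon
      have := hcon t
      change w.1 t ≤ f t at this
      rw [Fin.le_def, hft] at this
      omega
  · unfold codeg
    rw [← Finset.add_sum_erase Finset.univ _ (Finset.mem_univ t),
      ← Finset.add_sum_erase Finset.univ (fun s : Fin d => (w.1 s).val - s.val) (Finset.mem_univ t)]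
    have e1 : ∑ x ∈ Finset.univ.erase t, ((f x).val - x.val) =
        ∑ x ∈ Finset.univ.erase t, ((w.1 x).val - x.val) := by
      apply Finset.sum_congr rfl
      intro x hx
      rw [hfs x (Finset.ne_of_mem_erase hx)]
    change ((f t).val - t.val) + ∑ x ∈ Finset.univ.erase t, ((f x).val - x.val) + 1 = _
    rw [e1, hft]
    omega
  · intro s
    change τ.1 s ≤ f s
    by_cases h1 : s = t
    · rw [Fin.le_def, h1, hft]; omega
    · rw [hfs s h1]; exact hle' s

end Groth.Agent.S11268
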