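import Groth.Statements.S11254
import Groth.Agent.H85.PlIndep
import Groth.Agent.S11268

set_option autoImplicit false
universe u
open W4bk4grassmannian

namespace Groth.Agent.S11254
open W4bk4grassmannian in
/-- Let K be an algebraically closed field, 0 < d < n, and I(d,n) the strictly increasing maps Fin d →
Fin n ordered entrywise; S = K[X_θ : θ ∈ I(d,n)] is the Plücker polynomial ring and, for τ ∈ I(d,n),
J(τ) ⊆ S is the ideal of polynomials vanishing at the d × d row-minors of every n × d matrix over K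
whose minors on rows φ ≰ τ are zero (the homogeneous ideal of the Schubert variety X(τ) ⊆ G(d,n)).
Let τ ∈ I(d,n) admit some φ < τ (X(τ) has positive dimension). Then J(τ) + (X_τ) = ⋂_φ J(φ), the
intersection over the Schubert divisors φ of τ, i.e. the φ < τ with Σ_t (φ_t - t) + 1 = Σ_t (τ_t -
t). (For the zero-dimensional Schubert variety there is no divisor and the left side is the
irrelevant ideal, so positive dimension is required at the level of ideals.) -/
theorem result (K : Type u) [Field K] [IsAlgClosed K]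
    (d n : ℕ) (hd : 0 < d) (hdn : d < n) (τ : Idx d n) (hτ : ∃ φ : Idx d n, φ < τ) :
    schubertVanishing K d n τ ⊔ Ideal.span {MvPolynomial.X τ} =
      ⨅ φ ∈ divisors τ, schubertVanishing K d n φ := by
  open Groth.Agent.H85.Pl in
  have h := master (K := K) hd (fun i : {φ : Idx d n // φ ∈ divisors τ} => i.1)
    (schubertVanishing K d n τ ⊔ Ideal.span {MvPolynomial.X τ}) ?_ ?_ ?_
  · rw [h, iInf_subtype]
  · exact le_trans (Groth.Agent.H85.Pl.plIdealTop_le_schubertVanishing τ) le_sup_left
  · apply le_iInf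
    rintro ⟨φ, hφ⟩
    have hlt : φ < τ := hφ.1
    apply sup_le
    · exact Groth.Agent.H85.Pl.schubertVanishing_anti hlt.le
    · rw [Ideal.span_le]
      intro f hf
      rw [Set.mem_singleton_iff] at hf
      rw [hf]
      exact Groth.Agent.H85.Pl.X_mem_schubertVanishing φ τ (not_le_of_gt hlt)
  · intro m c hc hnot
    obtain ⟨φ0, hφ0⟩ := hτ
    obtain ⟨ψ0, hψ0, _⟩ := Groth.Agent.S11268.result d n φ0 τ hφ0
    rcases Nat.eq_zero_or_pos m with hm | hm
    · subst hm
      exact absurd ⟨⟨ψ0, hψ0⟩, fun k => k.elim0⟩ hnot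
    · have hle : ∀ k, c k ≤ c ⟨0, hm⟩ := fun k => hc (Fin.mk_le_mk.mpr (Nat.zero_le _))
      by_cases h0 : c ⟨0, hm⟩ ≤ τ
      · rcases eq_or_lt_of_le h0 with heq | hlt
        · apply Ideal.mem_sup_right
          apply Groth.Agent.H85.Pl.chainMon_mem_of_X_mem _ c ⟨0, hm⟩
          rw [heq]
          exact Ideal.subset_span rfl
        · obtain ⟨ψ, hψ, hψle⟩ := Groth.Agent.S11268.result d n _ τ hlt
          exact absurd ⟨⟨ψ, hψ⟩, fun k => le_trans (hle k) hψle⟩ hnot
      · apply Ideal.mem_sup_left
        exact Groth.Agent.H85.Pl.chainMon_mem_of_X_mem _ c ⟨0, hm⟩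
          (Groth.Agent.H85.Pl.X_mem_schubertVanishing τ _ h0)

end Groth.Agent.S11254
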