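import Groth.Statements.S1662
import Groth.Agent.H9.ComapMul
import Groth.Agent.H9.NzdPushout

set_option autoImplicit false
universe u
open CategoryTheory CategoryTheory.Limits AlgebraicGeometry
open Divisors

namespace Groth.Agent.S1662

/-- Let f : X → S, D an effective Cartier divisor on X such that D → S is flat, and g : S' → S any
morphism. Then the inverse image of D in X ×_S S' is an effective Cartier divisor. -/
theorem result {X S S' : Scheme.{u}} (f : X ⟶ S) (D : X.IdealSheafData) (hD : BlowUp.IsEffCartierIdeal D)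
    [Flat (D.subschemeι ≫ f)] (g : S' ⟶ S) :
    BlowUp.IsEffCartierIdeal (D.comap (pullback.fst f g)) := by
  intro z
  obtain ⟨V, hV, hsV, -⟩ :=
    exists_isAffineOpen_mem_and_subset (x := f (pullback.fst f g z)) (U := ⊤) trivial
  obtain ⟨U, hxU, hUV, t, ht, hI⟩ :=
    Groth.Agent.H9.exists_affine_isPrincipalNZD hD (f ⁻¹ᵁ V) (pullback.fst f g z) hsV
  have hs'V : pullback.snd f g z ∈ g ⁻¹ᵁ V := by
    show g (pullback.snd f g z) ∈ V
    have h1 : g (pullback.snd f g z) = f (pullback.fst f g z) := by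
      rw [← Scheme.Hom.comp_apply, ← Scheme.Hom.comp_apply, pullback.condition]
    rw [h1]
    exact hsV
  obtain ⟨V', hV', hs'V', hV'V⟩ :=
    exists_isAffineOpen_mem_and_subset (x := pullback.snd f g z) (U := g ⁻¹ᵁ V) hs'V
  have hUV' : U.1 ≤ f ⁻¹ᵁ V := hUV
  have hV'V' : V' ≤ g ⁻¹ᵁ V := hV'V
  have H := IsPullback.of_hasPullback f g
  have hUYaff : IsAffineOpen (pullback.fst f g ⁻¹ᵁ U.1 ⊓ pullback.snd f g ⁻¹ᵁ V') := by
    haveI : IsAffine V := hV
    haveI : IsAffine V' := hV'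
    haveI : IsAffine U.1 := U.2
    exact .of_isIso (Scheme.Hom.isPullback_resLE H hV'V' hUV' rfl).isoPullback.hom
  have hpush := (isIso_pushoutSection_iff H hV'V' hUV' rfl).1
    (isIso_pushoutSection_of_isAffineOpen H hV'V' hUV' rfl hV hV' U.2)
  have hflat := Groth.Agent.H9.flat_quotient_of_flat f D inferInstance ⟨V, hV⟩ U hUV'
  rw [hI] at hflat
  refine ⟨⟨_, hUYaff⟩, ⟨hxU, hs'V'⟩,
    ((pullback.fst f g).appLE U.1 (pullback.fst f g ⁻¹ᵁ U.1 ⊓ pullback.snd f g ⁻¹ᵁ V')
      inf_le_left).hom t, ?_, ?_⟩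
  · exact Groth.Agent.H9.nzd_of_isPushout hpush ht hflat
  · rw [Groth.Agent.H9.comap_ideal _ D U ⟨_, hUYaff⟩ inf_le_left, hI, Ideal.map_span,
      Set.image_singleton]

end Groth.Agent.S1662
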