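import Groth.Statements.S5120
import Mathlib.RingTheory.AdjoinRoot

set_option autoImplicit false
universe u
open SGA1t

namespace Groth.Agent.S5120

open Polynomial Module in
theorem key (p : ℕ) (hp : 1 < p) (A : Type u) [CommRing A] [Nontrivial A] :
    Function.Bijective (fun c : Fin p → A[X] =>
      ∑ i : Fin p, aeval (X - X ^ p : A[X]) (c i) * X ^ (i : ℕ)) := by
  classical
  let f : A[X][X] := X ^ p - (X - C (X : A[X]))
  have hdeg : degree (X - C (X : A[X]) : A[X][X]) < (p : WithBot ℕ) := by
    rw [degree_X_sub_C]; exact_mod_cast hp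
  have hmonic : f.Monic := monic_X_pow_sub hdeg
  have hnat : f.natDegree = p := by
    have h1 : natDegree (X - C (X : A[X]) : A[X][X]) < natDegree (X ^ p : A[X][X]) := by
      rw [natDegree_X_sub_C, natDegree_X_pow]; exact hp
    have h2 := natDegree_sub_eq_left_of_natDegree_lt h1
    rw [natDegree_X_pow] at h2
    exact h2
  let φ : A[X] →+* A[X] := (aeval (X - X ^ p : A[X]) : A[X] →ₐ[A] A[X]).toRingHom
  have hφ : ∀ r, φ r = aeval (X - X ^ p : A[X]) r := fun r => rfl
  have hf0 : f.eval₂ φ (X : A[X]) = 0 := by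
    simp only [f, eval₂_sub, eval₂_pow, eval₂_X, eval₂_C, hφ, aeval_X]
    ring
  let F : AdjoinRoot f →+* A[X] := AdjoinRoot.lift φ X hf0
  let G : A[X] →+* AdjoinRoot f :=
    eval₂RingHom ((AdjoinRoot.of f).comp C) (AdjoinRoot.root f)
  have hrel : AdjoinRoot.of f (X : A[X]) = AdjoinRoot.root f - AdjoinRoot.root f ^ p := by
    have h := AdjoinRoot.mk_self (f := f)
    simp only [f, map_sub, map_pow, AdjoinRoot.mk_X, AdjoinRoot.mk_C] at h
    linear_combination h
  have hFG : ∀ q, F (G q) = q := by
    intro q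
    have h1 : F.comp G = RingHom.id _ := by
      apply Polynomial.ringHom_ext
      · intro a
        simp [F, G, hφ]
      · simp [F, G]
    exact RingHom.congr_fun h1 q
  have hGφ : ∀ r : A[X], G (φ r) = AdjoinRoot.of f r := by
    intro r
    have h1 : G.comp φ = AdjoinRoot.of f := by
      apply Polynomial.ringHom_ext
      · intro a
        simp [G, hφ]
      · simp [G, hφ, hrel]
    exact RingHom.congr_fun h1 r
  have hGF : ∀ x, G (F x) = x := by
    intro x
    obtain ⟨r, rfl⟩ := AdjoinRoot.mk_surjective x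
    have h1 : (G.comp F).comp (AdjoinRoot.mk f) = AdjoinRoot.mk f := by
      apply Polynomial.ringHom_ext
      · intro r
        simp [F, hGφ]
      · simp [F, G]
    exact RingHom.congr_fun h1 r
  let pb := AdjoinRoot.powerBasis' hmonic
  let b : Basis (Fin p) A[X] (AdjoinRoot f) := pb.basis.reindex (finCongr hnat)
  have hb : ∀ i : Fin p, b i = AdjoinRoot.root f ^ (i : ℕ) := by
    intro i
    simp [b, pb, PowerBasis.basis_eq_pow]
  have hΨ : ∀ c : Fin p → A[X],
      (∑ i : Fin p, aeval (X - X ^ p : A[X]) (c i) * X ^ (i : ℕ)) = F (b.equivFun.symm c) := by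
    intro c
    rw [Basis.equivFun_symm_apply, map_sum]
    refine Finset.sum_congr rfl fun i _ => ?_
    rw [hb, Algebra.smul_def, AdjoinRoot.algebraMap_eq, map_mul, map_pow]
    simp [F, hφ]
  constructor
  · intro c c' h
    simp only [hΨ] at h
    have h2 := congrArg G h
    rw [hGF, hGF] at h2
    exact b.equivFun.symm.injective h2
  · intro q
    refine ⟨b.equivFun (G q), ?_⟩
    show (∑ i : Fin p, aeval (X - X ^ p : A[X]) (b.equivFun (G q) i) * X ^ (i : ℕ)) = q
    rw [hΨ, LinearEquiv.symm_apply_apply, hFG]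

open Polynomial in
/-- The computation behind the exactness of the Artin-Schreier sequence 0 → Z/p → G_a → G_a → 0 in
characteristic p, i.e. faithful flatness of ℘ = id − F: Let p be a prime and A a ring of
characteristic p. Then A[t] is free of rank p over itself via the endomorphism t ↦ t − t^p, with
basis 1, t, …, t^{p−1}: every polynomial q can be written in exactly one way as Σ_{i<p} c_i(t − t^p)
t^i. -/
theorem result (p : ℕ) [Fact p.Prime] (A : Type u) [CommRing A] [CharP A p]
    (q : A[X]) :
    ∃! c : Fin p → A[X], q = ∑ i : Fin p, aeval (X - X ^ p : A[X]) (c i) * X ^ (i : ℕ) := by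
  have hprime : p.Prime := Fact.out
  haveI : Nontrivial A := CharP.nontrivial_of_char_ne_one (R := A) hprime.one_lt.ne'
  have hbij := key p hprime.one_lt A
  obtain ⟨c, hc, huniq⟩ := hbij.existsUnique q
  exact ⟨c, hc.symm, fun c' hc' => huniq c' hc'.symm⟩

end Groth.Agent.S5120
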