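import Groth.Statements.S11091
import Mathlib
import Groth.Agent.S9405
-- import your own Groth.Agent.* helpers here

set_option autoImplicit false
universe u
attribute [local instance] FractionRing.liftAlgebra
open CAlg

namespace Groth.Agent.S11091

/-- Let A be a complete discrete valuation ring and B a Dedekind domain which is a finite torsion-free
A-algebra whose fraction field is separable over that of A (the integral closure of A in a finite
separable extension E of the fraction field F). Then B has exactly one maximal ideal; equivalently,
since the discrete valuations of E extending a multiple of the valuation of F correspond to the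
nonzero primes of B, the valuation of F extends uniquely to E, and B is a complete discrete
valuation ring. -/
theorem result (A B : Type u) [CommRing A] [IsDomain A] [IsDiscreteValuationRing A]
    [IsAdicComplete (IsLocalRing.maximalIdeal A) A]
    [CommRing B] [IsDedekindDomain B] [Algebra A B] [Module.Finite A B] [Module.IsTorsionFree A B]
    [Algebra.IsSeparable (FractionRing A) (FractionRing B)] :
    ∃! M : Ideal B, M.IsMaximal := by
  classical
  obtain ⟨_, hbij, _⟩ := Groth.Agent.S9405.result A B
  obtain ⟨M0, hM0⟩ := Ideal.exists_maximal B
  refine ⟨M0, hM0, fun M hM => ?_⟩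
  by_contra hne
  let m0 : MaximalSpectrum B := ⟨M0, hM0⟩
  let m1 : MaximalSpectrum B := ⟨M, hM⟩
  have hm : m1 ≠ m0 := fun h => hne (congrArg MaximalSpectrum.asIdeal h)
  let ε : (m : MaximalSpectrum B) → Localization.AtPrime m.asIdeal := Pi.single m0 1
  obtain ⟨b, hb⟩ := hbij.2 ε
  obtain ⟨c, hc⟩ := hbij.2 (1 - ε)
  have hbc : b * c = 0 := by
    apply hbij.1
    rw [map_mul, hb, hc, map_zero]
    funext m
    by_cases hmm : m = m0
    · subst hmm
      simp [ε]
    · simp [ε, Pi.single_apply, hmm]
  rcases mul_eq_zero.mp hbc with h | h
  · rw [h, map_zero] at hb
    have := congrFun hb m0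
    simp [ε] at this
  · rw [h, map_zero] at hc
    have := congrFun hc m1
    simp [ε, Pi.single_apply, hm] at this


end Groth.Agent.S11091
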