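import Groth.Statements.S16920
import Mathlib

set_option autoImplicit false
open CategoryTheory AlgebraicGeometry
universe u
open Variety

namespace Groth.Agent.S16920

open Cardinal

theorem exists_maximal_avoiding {k : Type u} [Field k] [IsAlgClosed k] [Uncountable k]
    {B : Type u} [CommRing B] [Algebra k B] [Algebra.FiniteType k B] (f : ℕ → B)
    (h0 : (0 : B) ∉ Submonoid.closure (Set.range f)) :
    ∃ m : Ideal B, m.IsMaximal ∧ ∀ n, f n ∉ m := by
  classical
  obtain ⟨S, hS⟩ : ∃ S, S = Submonoid.closure (Set.range f) := ⟨_, rfl⟩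
  have hfS : ∀ j, f j ∈ S := fun j => by rw [hS]; exact Submonoid.subset_closure ⟨j, rfl⟩
  haveI : Nontrivial (Localization S) := by
    rw [← not_subsingleton_iff_nontrivial, IsLocalization.subsingleton_iff (M := S), hS]
    exact h0
  obtain ⟨s, hs⟩ := (Algebra.FiniteType.out : (⊤ : Subalgebra k B).FG)
  let ι : B →ₐ[k] Localization S := IsScalarTower.toAlgHom k B (Localization S)
  let gen : (↥s ⊕ ℕ) → Localization S :=
    Sum.elim (fun b => ι b.1) (fun j => IsLocalization.mk' (Localization S) (1 : B) ⟨f j, hfS j⟩)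
  let ψ : MvPolynomial (↥s ⊕ ℕ) k →ₐ[k] Localization S := MvPolynomial.aeval gen
  let A₀ : Subalgebra k (Localization S) := ψ.range
  have hgen : ∀ x, gen x ∈ A₀ := fun x => ⟨MvPolynomial.X x, MvPolynomial.aeval_X gen x⟩
  have hB : ∀ b, ι b ∈ A₀ := by
    have h1 : ι.range ≤ A₀ := by
      rw [← Algebra.map_top, ← hs, AlgHom.map_adjoin]
      refine Algebra.adjoin_le ?_
      rintro _ ⟨b, hb, rfl⟩
      exact hgen (Sum.inl ⟨b, hb⟩)
    exact fun b => h1 ⟨b, rfl⟩
  obtain ⟨M, hM⟩ := Ideal.exists_maximal A₀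
  letI : Field (A₀ ⧸ M) := Ideal.Quotient.field M
  have hrank : Module.rank k (A₀ ⧸ M) ≤ ℵ₀ := by
    let q : MvPolynomial (↥s ⊕ ℕ) k →ₗ[k] (A₀ ⧸ M) :=
      ((Ideal.Quotient.mkₐ k M).comp ψ.rangeRestrict).toLinearMap
    have hq : Function.Surjective q :=
      (Ideal.Quotient.mkₐ_surjective k M).comp ψ.rangeRestrict_surjective
    refine (LinearMap.rank_le_of_surjective q hq).trans ?_
    rw [MvPolynomial.rank_eq]
    exact Cardinal.mk_le_aleph0
  haveI : Algebra.IsAlgebraic k (A₀ ⧸ M) := by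
    by_contra h
    rw [← Algebra.transcendental_iff_not_isAlgebraic] at h
    have h1 := Algebra.Transcendental.rank_eq_cardinalMk k (A₀ ⧸ M)
    have h2 : #k ≤ #(A₀ ⧸ M) := Cardinal.mk_le_of_injective (algebraMap k (A₀ ⧸ M)).injective
    have h3 : ℵ₀ < #k := Cardinal.aleph0_lt_mk
    rw [h1] at hrank
    exact absurd (h3.trans_le h2) (not_lt.mpr hrank)
  haveI : Algebra.IsIntegral k (A₀ ⧸ M) := Algebra.IsAlgebraic.isIntegral
  have hbij := IsAlgClosed.algebraMap_bijective_of_isIntegral (k := k) (K := A₀ ⧸ M)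
  let χ : B →ₐ[k] (A₀ ⧸ M) := (Ideal.Quotient.mkₐ k M).comp (ι.codRestrict A₀ hB)
  have hχs : Function.Surjective χ := by
    intro e
    obtain ⟨c, rfl⟩ := hbij.2 e
    exact ⟨algebraMap k B c, χ.commutes c⟩
  refine ⟨RingHom.ker χ.toRingHom, RingHom.ker_isMaximal_of_surjective χ.toRingHom hχs,
    fun j hj => ?_⟩
  rw [RingHom.mem_ker] at hj
  have hinv : χ (f j) * Ideal.Quotient.mk M ⟨gen (Sum.inr j), hgen _⟩ = 1 := by
    show Ideal.Quotient.mk M ⟨ι (f j), hB _⟩ * Ideal.Quotient.mk M ⟨gen (Sum.inr j), hgen _⟩ = 1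
    rw [← map_mul, ← map_one (Ideal.Quotient.mk M)]
    congr 1
    apply Subtype.ext
    show ι (f j) * IsLocalization.mk' (Localization S) (1 : B) ⟨f j, hfS j⟩ = 1
    show algebraMap B (Localization S) (f j) * _ = 1
    have h5 := IsLocalization.mk'_spec' (Localization S) (1 : B) (⟨f j, hfS j⟩ : S)
    rw [map_one] at h5
    exact h5
  rw [show χ (f j) = 0 from hj, zero_mul] at hinv
  exact zero_ne_one hinv

/-- Let k be an uncountable algebraically closed field, V an irreducible k-scheme of finite type and Z₀,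
Z₁, … closed subsets of V, each different from V. Then the set of closed points of V lying in no Zₙ
is dense in V. (The published statement: a nonempty c-open subset of an irreducible quasi-projective
variety is Zariski dense, a variety being read through its closed points; nonemptiness of the c-open
subset amounts to every Zₙ being a proper subset, while quasi-projectivity and the standing
characteristic-zero assumption play no role and are dropped.) -/
theorem result (k : Type u) [Field k] [IsAlgClosed k]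
    [Uncountable k] (V : Scheme.{u}) (sV : V ⟶ Spec (CommRingCat.of k)) [IrreducibleSpace V]
    [LocallyOfFiniteType sV] [QuasiCompact sV] (Z : ℕ → TopologicalSpace.Closeds V)
    (hZ : ∀ n, (Z n : Set V) ≠ Set.univ) :
    Dense {x : V | IsClosed ({x} : Set V) ∧ ∀ n, x ∉ Z n} := by
  classical
  haveI : JacobsonSpace (Spec (CommRingCat.of k)) := inferInstance
  haveI : JacobsonSpace V := LocallyOfFiniteType.jacobsonSpace sV
  rw [dense_iff_inter_open]
  rintro U hU ⟨u, hu⟩
  obtain ⟨_, ⟨W, hW, rfl⟩, huW, hWU⟩ := V.isBasis_affineOpens.exists_subset_of_mem_open hu hU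
  have hle : W ≤ sV ⁻¹ᵁ ⊤ := by simp
  have hft : (sV.appLE ⊤ W hle).hom.FiniteType :=
    sV.finiteType_appLE (isAffineOpen_top _) hW hle
  let φ : k →+* Γ(V, W) :=
    (sV.appLE ⊤ W hle).hom.comp (Scheme.ΓSpecIso (CommRingCat.of k)).inv.hom
  have hφ : φ.FiniteType := hft.comp (RingHom.FiniteType.of_surjective _
    ((ConcreteCategory.bijective_of_isIso (Scheme.ΓSpecIso (CommRingCat.of k)).inv).2))
  letI : Algebra k Γ(V, W) := φ.toAlgebra
  haveI : Algebra.FiniteType k Γ(V, W) := hφ
  have hne : ∀ n, ∃ w : V, w ∈ W ∧ w ∉ Z n := by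
    intro n
    by_contra h
    push Not at h
    have hd : Dense (W : Set V) := W.isOpen.dense ⟨u, huW⟩
    have h1 : (Z n : Set V) = Set.univ := by
      refine Set.eq_univ_of_univ_subset ?_
      rw [← hd.closure_eq]
      exact closure_minimal h (Z n).isClosed
    exact hZ n h1
  choose w hwW hwZ using hne
  have hf : ∀ n, ∃ f : Γ(V, W),
      V.basicOpen f ≤ ⟨(Z n : Set V)ᶜ, (Z n).isClosed.isOpen_compl⟩ ∧ w n ∈ V.basicOpen f :=
    fun n => hW.exists_basicOpen_le (V := ⟨(Z n : Set V)ᶜ, (Z n).isClosed.isOpen_compl⟩)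
      ⟨w n, hwZ n⟩ (hwW n)
  choose f hfZ hfw using hf
  have h0 : (0 : Γ(V, W)) ∉ Submonoid.closure (Set.range f) := by
    let T : Submonoid Γ(V, W) :=
      { carrier := {b | ((V.basicOpen b : V.Opens) : Set V).Nonempty}
        one_mem' := by
          show ((V.basicOpen (1 : Γ(V, W)) : V.Opens) : Set V).Nonempty
          rw [Scheme.basicOpen_one]; exact ⟨u, huW⟩
        mul_mem' := by
          intro a b ha hb
          show ((V.basicOpen (a * b) : V.Opens) : Set V).Nonempty
          rw [Scheme.basicOpen_mul]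
          exact nonempty_preirreducible_inter (V.basicOpen a).isOpen (V.basicOpen b).isOpen ha hb }
    intro h
    have h1 : (0 : Γ(V, W)) ∈ T :=
      (Submonoid.closure_le.mpr (by rintro _ ⟨n, rfl⟩; exact ⟨w n, hfw n⟩)) h
    obtain ⟨x, hx⟩ := h1
    rw [Scheme.basicOpen_zero] at hx
    exact hx
  obtain ⟨m, hm, hfm⟩ := exists_maximal_avoiding (k := k) f h0
  let p : Spec Γ(V, W) := (⟨m, hm.isPrime⟩ : PrimeSpectrum Γ(V, W))
  refine ⟨hW.fromSpec p, ?_, ?_, ?_⟩
  · exact hWU (by rw [← hW.range_fromSpec]; exact ⟨p, rfl⟩)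
  · have hp : p ∈ closedPoints (Spec Γ(V, W)) :=
      (PrimeSpectrum.isClosed_singleton_iff_isMaximal p).mpr hm
    rw [← hW.fromSpec.isOpenEmbedding.preimage_closedPoints] at hp
    exact hp
  · intro n hxZ
    have h1 : p ∈ hW.fromSpec ⁻¹ᵁ V.basicOpen (f n) := by
      rw [hW.fromSpec_preimage_basicOpen]; exact hfm n
    exact hfZ n h1 hxZ

end Groth.Agent.S16920
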