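import Groth.Statements.S14891
import Mathlib

set_option autoImplicit false
universe u
open CAlg

namespace Groth.Agent.S14891

open IsLocalRing MvPolynomial

section
variable {K L Γ₀ Γ₁ : Type u} [Field K] [Field L] [Algebra K L]
    [LinearOrderedCommGroupWithZero Γ₀] [LinearOrderedCommGroupWithZero Γ₁]
    (vK : Valuation K Γ₀) (vL : Valuation L Γ₁) [vK.HasExtension vL]

/-- A unit of the valuation ring has valuation one. -/
lemma val_eq_one_of_isUnit (a : vL.valuationSubring) (ha : IsUnit a) : vL (a : L) = 1 := by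
  obtain ⟨b, hb⟩ := ha.exists_right_inv
  have h1 : vL (a : L) * vL (b : L) = 1 := by
    have h0 : (a : L) * (b : L) = 1 := congrArg Subtype.val hb
    rw [← map_mul, h0, map_one]
  have ha1 : vL (a : L) ≤ 1 := a.2
  have hb1 : vL (b : L) ≤ 1 := b.2
  refine le_antisymm ha1 ?_
  calc (1 : Γ₁) = vL (a : L) * vL (b : L) := h1.symm
    _ ≤ vL (a : L) * 1 := mul_le_mul' le_rfl hb1
    _ = vL (a : L) := mul_one _

/-- Gauss-norm lemma: the value of a nonzero polynomial in lifts of residually algebraically
independent elements is the value of an element of `K`. -/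
lemma gauss {ι : Type*} (y : ι → vL.valuationSubring)
    (hy : AlgebraicIndependent (ResidueField vK.valuationSubring)
      (fun j => residue vL.valuationSubring (y j)))
    (q : MvPolynomial ι K) (hq : q ≠ 0) :
    ∃ c : K, c ≠ 0 ∧ vL (aeval (fun j => (y j : L)) q) = vL (algebraMap K L c) := by
  classical
  have hne : q.support.Nonempty := by
    rwa [Finset.nonempty_iff_ne_empty, Ne, MvPolynomial.support_eq_empty]
  obtain ⟨m, hm, hmax⟩ := Finset.exists_max_image q.support (fun n => vK (coeff n q)) hne
  obtain ⟨c, hc⟩ : ∃ c : K, c = coeff m q := ⟨_, rfl⟩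
  have hc0 : c ≠ 0 := by rw [hc]; exact MvPolynomial.mem_support_iff.mp hm
  have hvc : vK c ≠ 0 := (Valuation.ne_zero_iff _).mpr hc0
  have hle : ∀ n, vK (coeff n q) ≤ vK c := by
    intro n
    by_cases hn : n ∈ q.support
    · rw [hc]; exact hmax n hn
    · rw [MvPolynomial.notMem_support_iff.mp hn, map_zero]; exact zero_le
  obtain ⟨q₀, hq₀⟩ : ∃ q₀ : MvPolynomial ι vK.valuationSubring,
      map (algebraMap vK.valuationSubring K) q₀ = C c⁻¹ * q := by
    have : C c⁻¹ * q ∈ Set.range (map (algebraMap vK.valuationSubring K)) := by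
      rw [mem_range_map_iff_coeffs_subset]
      intro a ha
      rw [Finset.mem_coe, mem_coeffs_iff] at ha
      obtain ⟨n, -, rfl⟩ := ha
      rw [coeff_C_mul]
      refine ⟨⟨c⁻¹ * coeff n q, ?_⟩, rfl⟩
      rw [Valuation.mem_valuationSubring_iff, map_mul, map_inv₀]
      exact (inv_mul_le_one₀ (zero_lt_iff.mpr hvc)).mpr (hle n)
    exact this
  have hcoef : coeff m (map (residue vK.valuationSubring) q₀) = 1 := by
    rw [coeff_map]
    have h1 : (algebraMap vK.valuationSubring K) (coeff m q₀) = 1 := by
      rw [← coeff_map, hq₀, coeff_C_mul, ← hc, inv_mul_cancel₀ hc0]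
    have h2 : coeff m q₀ = 1 := Subtype.ext h1
    rw [h2, map_one]
  have hne0 : map (residue vK.valuationSubring) q₀ ≠ 0 := by
    intro h; rw [h, coeff_zero] at hcoef; exact zero_ne_one hcoef
  obtain ⟨a, ha⟩ : ∃ a : vL.valuationSubring,
      a = eval₂ (algebraMap vK.valuationSubring vL.valuationSubring) y q₀ := ⟨_, rfl⟩
  have hres : residue vL.valuationSubring a =
      aeval (fun j => residue vL.valuationSubring (y j))
        (map (residue vK.valuationSubring) q₀) := by
    rw [ha, aeval_def, eval₂_map, eval₂_comp_left]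
    rfl
  have hunit : IsUnit a := by
    rw [← residue_ne_zero_iff_isUnit, hres]
    intro h0
    exact hne0 ((algebraicIndependent_iff.mp hy) _ h0)
  have hva : vL (a : L) = 1 := val_eq_one_of_isUnit vL a hunit
  have hev : aeval (fun j => (y j : L)) (C c⁻¹ * q) = (a : L) := by
    rw [← hq₀, aeval_def, eval₂_map, ha]
    change _ = vL.valuationSubring.subtype (eval₂ _ y q₀)
    rw [eval₂_comp_left]
    rfl
  refine ⟨c, hc0, ?_⟩
  have hfin : aeval (fun j => (y j : L)) q = algebraMap K L c * (a : L) := by
    rw [← hev, map_mul, aeval_C, ← mul_assoc, ← map_mul, mul_inv_cancel₀ hc0, map_one, one_mul]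
  rw [hfin, map_mul, hva, mul_one]

omit [vK.HasExtension vL] in
/-- A unit of `L` whose value is the value of a nonzero element of `K` lies in the subgroup
generated by the valuation units and the image of `Kˣ`. -/
lemma mem_H_of_val_eq (u : Lˣ) (c : K) (hc : c ≠ 0)
    (h : vL (u : L) = vL (algebraMap K L c)) :
    u ∈ vL.valuationSubring.unitGroup ⊔ (Units.map (algebraMap K L).toMonoidHom).range := by
  obtain ⟨w, hwr, hwv⟩ : ∃ w : Lˣ, w ∈ (Units.map (algebraMap K L).toMonoidHom).range ∧
      (w : L) = algebraMap K L c :=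
    ⟨Units.map (algebraMap K L).toMonoidHom (Units.mk0 c hc), ⟨_, rfl⟩, rfl⟩
  have h1 : u * w⁻¹ ∈ vL.valuationSubring.unitGroup := by
    rw [Valuation.mem_unitGroup_iff, Units.val_mul, map_mul, Units.val_inv_eq_inv_val,
      map_inv₀, hwv, h]
    exact mul_inv_cancel₀ ((Valuation.ne_zero_iff _).mpr ((map_ne_zero _).mpr hc))
  have : u = (u * w⁻¹) * w := by group
  rw [this]
  exact Subgroup.mul_mem_sup h1 hwr

/-- The key algebraic independence statement. -/
lemma algInd {σ ι : Type*} (x : σ → Lˣ) (y : ι → vL.valuationSubring)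
    (hx : LinearIndependent ℤ (fun i => (QuotientAddGroup.mk (Additive.ofMul (x i)) :
        Additive Lˣ ⧸ Subgroup.toAddSubgroup (vL.valuationSubring.unitGroup ⊔
          (Units.map (algebraMap K L).toMonoidHom).range))))
    (hy : AlgebraicIndependent (ResidueField vK.valuationSubring)
      (fun j => residue vL.valuationSubring (y j))) :
    AlgebraicIndependent K (Sum.elim (fun i => (x i : L)) (fun j => (y j : L))) := by
  classical
  rw [algebraicIndependent_iff]
  intro p hp
  obtain ⟨f, hf⟩ : ∃ f : MvPolynomial ι K →+* L,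
      f = (aeval (fun j => (y j : L)) : MvPolynomial ι K →ₐ[K] L).toRingHom := ⟨_, rfl⟩
  obtain ⟨P, hP⟩ : ∃ P, P = sumRingEquiv K σ ι p := ⟨_, rfl⟩
  have key : aeval (Sum.elim (fun i => (x i : L)) (fun j => (y j : L))) p =
      eval₂ f (fun i => (x i : L)) P := by
    have hhom : (aeval (Sum.elim (fun i => (x i : L)) (fun j => (y j : L))) :
          MvPolynomial (σ ⊕ ι) K →ₐ[K] L).toRingHom =
        (eval₂Hom f (fun i => (x i : L))).comp (sumRingEquiv K σ ι).toRingHom := by
      apply MvPolynomial.ringHom_ext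
      · intro r
        simp [sumRingEquiv_C, hf]
      · rintro (i | j)
        · simp [sumRingEquiv_X_inl]
        · simp [sumRingEquiv_X_inr, hf]
    have := DFunLike.congr_fun hhom p
    rw [hP]
    exact this
  by_contra hp0
  have hP0 : P ≠ 0 := by
    rw [hP]; exact (map_ne_zero_iff _ (sumRingEquiv K σ ι).injective).mpr hp0
  have hsum : ∑ d ∈ P.support, f (coeff d P) * ∏ i ∈ d.support, (x i : L) ^ d i = 0 := by
    rw [← eval₂_eq, ← key, hp]
  have hgauss : ∀ d ∈ P.support, ∃ c : K, c ≠ 0 ∧
      vL (f (coeff d P)) = vL (algebraMap K L c) := by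
    intro d hd
    rw [hf]
    exact gauss vK vL y hy (coeff d P) (MvPolynomial.mem_support_iff.mp hd)
  obtain ⟨U, hU, hUcls⟩ : ∃ U : (σ →₀ ℕ) → Lˣ,
      (∀ d : σ →₀ ℕ, ((U d : Lˣ) : L) = ∏ i ∈ d.support, (x i : L) ^ d i) ∧
      (∀ d : σ →₀ ℕ, (QuotientAddGroup.mk (Additive.ofMul (U d)) :
        Additive Lˣ ⧸ Subgroup.toAddSubgroup (vL.valuationSubring.unitGroup ⊔
          (Units.map (algebraMap K L).toMonoidHom).range)) =
        Finsupp.linearCombination ℤ (fun i => (QuotientAddGroup.mk (Additive.ofMul (x i)) :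
        Additive Lˣ ⧸ Subgroup.toAddSubgroup (vL.valuationSubring.unitGroup ⊔
          (Units.map (algebraMap K L).toMonoidHom).range)))
          (d.mapRange ((↑) : ℕ → ℤ) Nat.cast_zero)) := by
    refine ⟨fun d => ∏ i ∈ d.support, x i ^ d i, ?_, ?_⟩
    · intro d
      simp [Units.coe_prod]
    · intro d
      rw [Finsupp.linearCombination_apply,
        Finsupp.sum_mapRange_index (by intro i; exact zero_smul _ _)]
      rw [ofMul_prod, Finsupp.sum]
      rw [← QuotientAddGroup.mk'_apply, map_sum]
      refine Finset.sum_congr rfl fun i _ => ?_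
      rw [ofMul_pow, map_nsmul, natCast_zsmul]
      rfl
  have hinj : ∀ d d' : σ →₀ ℕ, (U d)⁻¹ * U d' ∈ vL.valuationSubring.unitGroup ⊔
      (Units.map (algebraMap K L).toMonoidHom).range → d = d' := by
    intro d d' hmem
    have heq : (QuotientAddGroup.mk (Additive.ofMul (U d)) :
        Additive Lˣ ⧸ Subgroup.toAddSubgroup (vL.valuationSubring.unitGroup ⊔
          (Units.map (algebraMap K L).toMonoidHom).range)) =
        QuotientAddGroup.mk (Additive.ofMul (U d')) := by
      rw [QuotientAddGroup.eq]
      exact hmem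
    rw [hUcls, hUcls] at heq
    exact Finsupp.mapRange_injective _ _ Nat.cast_injective (hx heq)
  have hdist : ∀ d ∈ P.support, ∀ d' ∈ P.support,
      vL (f (coeff d P) * ∏ i ∈ d.support, (x i : L) ^ d i) =
      vL (f (coeff d' P) * ∏ i ∈ d'.support, (x i : L) ^ d' i) → d = d' := by
    intro d hd d' hd' h
    obtain ⟨c, hc0, hc⟩ := hgauss d hd
    obtain ⟨c', hc0', hc'⟩ := hgauss d' hd'
    apply hinj
    apply mem_H_of_val_eq vL _ (c / c') (div_ne_zero hc0 hc0')
    rw [map_mul, map_mul, hc, hc', ← hU, ← hU] at h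
    have h1 : vL ((U d : Lˣ) : L) ≠ 0 := (Valuation.ne_zero_iff _).mpr (U d).ne_zero
    have h2 : vL (algebraMap K L c') ≠ 0 :=
      (Valuation.ne_zero_iff _).mpr ((map_ne_zero _).mpr hc0')
    rw [Units.val_mul, Units.val_inv_eq_inv_val, map_mul, map_inv₀, map_div₀, map_div₀,
      eq_div_iff h2, mul_assoc, inv_mul_eq_iff_eq_mul₀ h1, mul_comm (vL ((U d : Lˣ) : L)),
      h, mul_comm]
  obtain ⟨d₀, hd₀, hmax⟩ := Finset.exists_max_image P.support
    (fun d => vL (f (coeff d P) * ∏ i ∈ d.support, (x i : L) ^ d i))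
    (by rwa [Finset.nonempty_iff_ne_empty, Ne, MvPolynomial.support_eq_empty])
  have hlt : ∀ d ∈ P.support \ {d₀},
      vL (f (coeff d P) * ∏ i ∈ d.support, (x i : L) ^ d i) <
      vL (f (coeff d₀ P) * ∏ i ∈ d₀.support, (x i : L) ^ d₀ i) := by
    intro d hd
    rw [Finset.mem_sdiff, Finset.mem_singleton] at hd
    exact lt_of_le_of_ne (hmax d hd.1) fun h => hd.2 (hdist d hd.1 d₀ hd₀ h)
  have hval := Valuation.map_sum_eq_of_lt vL hd₀ hlt
  rw [hsum, map_zero] at hval
  have hT0 : vL (f (coeff d₀ P) * ∏ i ∈ d₀.support, (x i : L) ^ d₀ i) ≠ 0 := by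
    obtain ⟨c, hc0, hc⟩ := hgauss d₀ hd₀
    rw [map_mul, hc, ← hU]
    exact mul_ne_zero ((Valuation.ne_zero_iff _).mpr ((map_ne_zero _).mpr hc0))
      ((Valuation.ne_zero_iff _).mpr (U d₀).ne_zero)
  exact hT0 hval.symm

end


/-- Let L/K be an extension of valued fields, i.e. v_L is a valuation on L whose restriction to K is
equivalent to v_K. Write E for the rational rank of the quotient of value groups |L^×|/|K^×| — here
the rank of the abelian group L^× modulo the subgroup generated by the units of the valuation ring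
of v_L and the image of K^× — and F for the transcendence degree of the residue field of v_L over
that of v_K. Then E + F ≤ tr.deg(L/K) (an inequality of cardinals). -/
theorem result
    {K L Γ₀ Γ₁ : Type u} [Field K] [Field L] [Algebra K L]
    [LinearOrderedCommGroupWithZero Γ₀] [LinearOrderedCommGroupWithZero Γ₁]
    (vK : Valuation K Γ₀) (vL : Valuation L Γ₁) [vK.HasExtension vL] :
    Module.rank ℤ (Additive Lˣ ⧸ Subgroup.toAddSubgroup
        (vL.valuationSubring.unitGroup ⊔ (Units.map (algebraMap K L).toMonoidHom).range)) +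
      Algebra.trdeg (IsLocalRing.ResidueField vK.valuationSubring)
        (IsLocalRing.ResidueField vL.valuationSubring) ≤ Algebra.trdeg K L := by
  classical
  obtain ⟨s, hs, hsli⟩ := exists_set_linearIndependent_of_isDomain ℤ
    (Additive Lˣ ⧸ Subgroup.toAddSubgroup
        (vL.valuationSubring.unitGroup ⊔ (Units.map (algebraMap K L).toMonoidHom).range))
  have hrep : ∀ g : Additive Lˣ ⧸ Subgroup.toAddSubgroup
        (vL.valuationSubring.unitGroup ⊔ (Units.map (algebraMap K L).toMonoidHom).range),
      ∃ u : Lˣ, (QuotientAddGroup.mk (Additive.ofMul u) : Additive Lˣ ⧸ Subgroup.toAddSubgroup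
        (vL.valuationSubring.unitGroup ⊔ (Units.map (algebraMap K L).toMonoidHom).range)) = g := by
    intro g
    obtain ⟨a, rfl⟩ := QuotientAddGroup.mk_surjective g
    exact ⟨Additive.toMul a, rfl⟩
  choose r hr using hrep
  have hx : LinearIndependent ℤ (fun i : s => (QuotientAddGroup.mk (Additive.ofMul (r i.1)) :
      Additive Lˣ ⧸ Subgroup.toAddSubgroup
        (vL.valuationSubring.unitGroup ⊔ (Units.map (algebraMap K L).toMonoidHom).range))) := by
    have hfun : (fun i : s => (QuotientAddGroup.mk (Additive.ofMul (r i.1)) :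
      Additive Lˣ ⧸ Subgroup.toAddSubgroup
        (vL.valuationSubring.unitGroup ⊔ (Units.map (algebraMap K L).toMonoidHom).range))) =
        fun i : s => id (i : Additive Lˣ ⧸ Subgroup.toAddSubgroup
        (vL.valuationSubring.unitGroup ⊔ (Units.map (algebraMap K L).toMonoidHom).range)) := by
      funext i; exact hr i.1
    rw [hfun]; exact hsli
  have : FaithfulSMul (IsLocalRing.ResidueField vK.valuationSubring)
      (IsLocalRing.ResidueField vL.valuationSubring) :=
    (faithfulSMul_iff_algebraMap_injective _ _).mpr (RingHom.injective _)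
  obtain ⟨ι, ybar, hybar⟩ := exists_isTranscendenceBasis'
    (IsLocalRing.ResidueField vK.valuationSubring) (IsLocalRing.ResidueField vL.valuationSubring)
  have hlift : ∀ j, ∃ b : vL.valuationSubring,
      IsLocalRing.residue vL.valuationSubring b = ybar j :=
    fun j => IsLocalRing.residue_surjective _
  choose y hy using hlift
  have hyind : AlgebraicIndependent (IsLocalRing.ResidueField vK.valuationSubring)
      (fun j => IsLocalRing.residue vL.valuationSubring (y j)) := by
    have hfun : (fun j => IsLocalRing.residue vL.valuationSubring (y j)) = ybar := funext hy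
    rw [hfun]; exact hybar.1
  have hind := algInd vK vL (fun i : s => r i.1) y hx hyind
  have hcard := hind.cardinalMk_le_trdeg
  rw [Cardinal.mk_sum, Cardinal.lift_id, Cardinal.lift_id, hs,
    hybar.cardinalMk_eq_trdeg] at hcard
  exact hcard

end Groth.Agent.S14891
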