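import Groth.Statements.S17546
import Groth.Agent.H87.DecayingPow
import Groth.Agent.S17536

set_option autoImplicit false
universe u v w
open W4c5adicflatcompl
open CAlg

namespace Groth.Agent.S17546

/-- For a Noetherian ring A which is I-adically complete and any set Z, the A-module of I-adically
decaying functions Z → A is I-adically complete. -/
theorem result {A : Type u} [CommRing A] [IsNoetherianRing A]
    (I : Ideal A) [IsAdicComplete I A] (Z : Type v) :
    IsAdicComplete I (decaying I Z A) := by
  have hH : IsHausdorff I (decaying I Z A) := Groth.Agent.S17536.result I Z A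
  have hP : IsPrecomplete I (decaying I Z A) := by
    refine ⟨fun F hF => ?_⟩
    -- pointwise Cauchy
    have hpt : ∀ z : Z, ∀ {m n : ℕ}, m ≤ n →
        (F m : Z → A) z ≡ (F n : Z → A) z [SMOD (I ^ m • ⊤ : Submodule A A)] := by
      intro z m n hmn
      have h := hF hmn
      rw [SModEq.sub_mem] at h ⊢
      exact Groth.Agent.H87.decaying_apply_mem h z
    choose L hL using fun z => IsPrecomplete.prec' (I := I) (fun n => (F n : Z → A) z) (hpt z)
    have hLdec : L ∈ decaying I Z A := by
      intro k
      refine ((F k).2 k).subset ?_
      intro z hz h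
      apply hz
      have h1 := hL z k
      rw [SModEq.sub_mem] at h1
      have : L z = (F k : Z → A) z - ((F k : Z → A) z - L z) := by ring
      rw [this]
      exact Submodule.sub_mem _ h h1
    refine ⟨⟨L, hLdec⟩, fun n => ?_⟩
    rw [SModEq.sub_mem, Groth.Agent.H87.mem_pow_smul_top_decaying_iff]
    intro z
    have h1 := hL z n
    rw [SModEq.sub_mem] at h1
    exact Groth.Agent.H87.mem_pow_of_mem_smul_top I h1
  exact { toIsHausdorff := hH, toIsPrecomplete := hP }

end Groth.Agent.S17546
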