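import Groth.Statements.S4543
import Groth.Agent.S4542
import Mathlib

set_option autoImplicit false
universe u
open EGA41

namespace Groth.Agent.S4543

open IsLocalRing in
/-- Let A be a Noetherian ring, J an ideal of A, B and B' two A-algebras which are Noetherian local
rings, the structure maps being continuous for the J-adic topology on A (JB and JB' lie in the
maximal ideals); suppose B and B' are complete for the J-adic topologies, B is a formally smooth
A-algebra for the J-adic topology on A and the JB-adic topology on B (nilpotent test ideals, test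
algebras killed by a power of J, test maps killing a power of JB), and B' is a flat A-module. Then
every (A/J)-algebra isomorphism u₀ : B/JB ≅ B'/JB' comes from an A-algebra isomorphism u : B ≅ B' by
passing to quotients. (B is taken formally smooth for the JB-adic topology, the topology along which
the argument lifts B → B'/JB' to B'; read with the convention that a local ring carries the adic
topology of its maximal ideal, the published hypothesis would be formal smoothness for the
maximal-ideal topology on B, a weaker condition when JB is strictly smaller than the maximal ideal,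
and that reading is not what the argument establishes.) -/
theorem result {A B B' : Type u} [CommRing A] [IsNoetherianRing A] (J : Ideal A)
    [CommRing B] [IsLocalRing B] [IsNoetherianRing B] [Algebra A B]
    [CommRing B'] [IsLocalRing B'] [IsNoetherianRing B'] [Algebra A B']
    (hB : J.map (algebraMap A B) ≤ maximalIdeal B) (hB' : J.map (algebraMap A B') ≤ maximalIdeal B')
    [IsAdicComplete (J.map (algebraMap A B)) B] [IsAdicComplete (J.map (algebraMap A B')) B']
    (hfs : EGA41.IsFormallySmoothAdic A J B (J.map (algebraMap A B))) [Module.Flat A B']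
    (u₀ : (B ⧸ J.map (algebraMap A B)) ≃ₐ[A ⧸ J] (B' ⧸ J.map (algebraMap A B'))) :
    ∃ u : B ≃ₐ[A] B', ∀ b : B,
      Ideal.Quotient.mk (J.map (algebraMap A B')) (u b) = u₀ (Ideal.Quotient.mk (J.map (algebraMap A B)) b) := by
  classical
  -- representation of elements of `J B`
  have hrep : ∀ x ∈ J.map (algebraMap A B), ∃ (ι : Type) (_ : Fintype ι) (j : ι → A) (c : ι → B),
      (∀ i, j i ∈ J) ∧ x = ∑ i, j i • c i := by
    intro x hx
    refine Submodule.span_induction (p := fun x _ => ∃ (ι : Type) (_ : Fintype ι) (j : ι → A)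
      (c : ι → B), (∀ i, j i ∈ J) ∧ x = ∑ i, j i • c i) ?_ ?_ ?_ ?_ hx
    · rintro _ ⟨a, ha, rfl⟩
      refine ⟨PUnit, inferInstance, fun _ => a, fun _ => 1, fun _ => ha, ?_⟩
      simp [Algebra.algebraMap_eq_smul_one]
    · exact ⟨PEmpty, inferInstance, PEmpty.elim, PEmpty.elim, fun i => i.elim, by simp⟩
    · rintro x y _ _ ⟨ι₁, _, j₁, c₁, h₁, rfl⟩ ⟨ι₂, _, j₂, c₂, h₂, rfl⟩
      refine ⟨ι₁ ⊕ ι₂, inferInstance, Sum.elim j₁ j₂, Sum.elim c₁ c₂, ?_, ?_⟩
      · rintro (i | i)
        · exact h₁ i
        · exact h₂ i
      · simp [Fintype.sum_sum_type]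
    · rintro b x _ ⟨ι, _, j, c, h, rfl⟩
      refine ⟨ι, inferInstance, j, fun i => b * c i, h, ?_⟩
      rw [smul_eq_mul, Finset.mul_sum]
      exact Finset.sum_congr rfl (fun i _ => (mul_smul_comm _ _ _))
  -- the map to lift
  let ψr : B →+* (B' ⧸ J.map (algebraMap A B')) :=
    (u₀ : (B ⧸ J.map (algebraMap A B)) →+* (B' ⧸ J.map (algebraMap A B'))).comp
      (Ideal.Quotient.mk (J.map (algebraMap A B)))
  have hψc : ∀ a : A, ψr (algebraMap A B a) = algebraMap A (B' ⧸ J.map (algebraMap A B')) a := by
    intro a
    change u₀ (Ideal.Quotient.mk _ (algebraMap A B a)) = _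
    have h1 : Ideal.Quotient.mk (J.map (algebraMap A B)) (algebraMap A B a) =
        algebraMap (A ⧸ J) (B ⧸ J.map (algebraMap A B)) (Ideal.Quotient.mk J a) := rfl
    rw [h1, u₀.commutes]
    rfl
  let ψ : B →ₐ[A] (B' ⧸ J.map (algebraMap A B')) := { ψr with commutes' := hψc }
  have hψ : ∀ b : B, ψ b = u₀ (Ideal.Quotient.mk _ b) := fun b => rfl
  haveI hH : IsHausdorff ((J.map (algebraMap A B')).map
      (Ideal.Quotient.mk (J.map (algebraMap A B')))) (B' ⧸ J.map (algebraMap A B')) := by
    rw [Ideal.map_quotient_self]; infer_instance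
  have hu : ∃ k : ℕ, ((J.map (algebraMap A B)) ^ k).map ψ.toRingHom ≤
      (J.map (algebraMap A B')).map (Ideal.Quotient.mk (J.map (algebraMap A B'))) := by
    refine ⟨1, ?_⟩
    rw [pow_one, Ideal.map_le_iff_le_comap]
    intro b hb
    rw [Ideal.mem_comap]
    have h0 : ψ.toRingHom b = 0 := by
      change u₀ (Ideal.Quotient.mk _ b) = 0
      rw [Ideal.Quotient.eq_zero_iff_mem.2 hb, map_zero]
    rw [h0]
    exact zero_mem _
  obtain ⟨v, -, hv⟩ := Groth.Agent.S4542.result J (J.map (algebraMap A B))
    (J.map (algebraMap A B')) hfs ⟨1, by simp⟩ (J.map (algebraMap A B')) ⟨1, by simp⟩ ψ hu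
  have hvψ : ∀ b : B, Ideal.Quotient.mk (J.map (algebraMap A B')) (v b) =
      u₀ (Ideal.Quotient.mk _ b) := fun b => DFunLike.congr_fun hv b
  -- surjectivity
  have hmapv : (J.map (algebraMap A B)).map v.toRingHom = J.map (algebraMap A B') := by
    rw [Ideal.map_map]
    congr 1
    exact v.comp_algebraMap
  have hsurj : Function.Surjective v := by
    haveI : IsHausdorff ((J.map (algebraMap A B)).map v.toRingHom) B' := by
      rw [hmapv]; infer_instance
    apply surjective_of_mk_map_comp_surjective (I := J.map (algebraMap A B)) v.toRingHom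
    intro y
    obtain ⟨y', rfl⟩ := Ideal.Quotient.mk_surjective y
    obtain ⟨b, hb⟩ := u₀.surjective (Ideal.Quotient.mk _ y')
    obtain ⟨b', rfl⟩ := Ideal.Quotient.mk_surjective b
    refine ⟨b', ?_⟩
    have h2 := hvψ b'
    rw [hb] at h2
    rw [RingHom.comp_apply]
    rw [Ideal.Quotient.eq] at h2 ⊢
    rw [hmapv]
    exact h2
  -- injectivity
  have hK : RingHom.ker v.toRingHom ≤ (J.map (algebraMap A B)) • RingHom.ker v.toRingHom := by
    intro x hx
    have hx0 : v x = 0 := hx
    have hxJ : x ∈ J.map (algebraMap A B) := by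
      have h2 := hvψ x
      rw [hx0, map_zero] at h2
      have h3 : Ideal.Quotient.mk (J.map (algebraMap A B)) x = 0 :=
        u₀.injective (by rw [← h2, map_zero])
      exact Ideal.Quotient.eq_zero_iff_mem.1 h3
    obtain ⟨ι, _, j, c, hj, rfl⟩ := hrep x hxJ
    have hrel : ∑ i, j i • v (c i) = 0 := by
      rw [← hx0, map_sum]
      exact Finset.sum_congr rfl (fun i _ => (map_smul v _ _).symm)
    obtain ⟨k, a, y, hy1, hy2⟩ := Module.Flat.isTrivialRelation_of_sum_smul_eq_zero (R := A) (M := B') hrel
    choose d hd using fun t => hsurj (y t)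
    have hκ : ∀ i, c i - ∑ t, a i t • d t ∈ RingHom.ker v.toRingHom := by
      intro i
      rw [RingHom.mem_ker]
      change v (c i - ∑ t, a i t • d t) = 0
      have hy1i : v (c i) = ∑ t, a i t • y t := hy1 i
      rw [map_sub, map_sum, hy1i, sub_eq_zero]
      exact Finset.sum_congr rfl (fun t _ => by rw [map_smul, hd t])
    have hsum : ∑ i, j i • c i = ∑ i, j i • (c i - ∑ t, a i t • d t) := by
      have h4 : ∑ i, j i • ∑ t, a i t • d t = 0 := by
        simp_rw [Finset.smul_sum, smul_smul]
        rw [Finset.sum_comm]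
        refine Finset.sum_eq_zero (fun t _ => ?_)
        rw [← Finset.sum_smul, hy2 t, zero_smul]
      simp_rw [smul_sub]
      rw [Finset.sum_sub_distrib, h4, sub_zero]
    rw [hsum]
    refine Submodule.sum_mem _ (fun i _ => ?_)
    have h5 : j i • (c i - ∑ t, a i t • d t) =
        algebraMap A B (j i) • (c i - ∑ t, a i t • d t) := by
      rw [Algebra.smul_def, smul_eq_mul]
    rw [h5]
    exact Submodule.smul_mem_smul (Ideal.mem_map_of_mem _ (hj i)) (hκ i)
  have hker : RingHom.ker v.toRingHom = ⊥ := by
    have hfg : (RingHom.ker v.toRingHom).FG := IsNoetherian.noetherian _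
    refine Submodule.eq_bot_of_le_smul_of_le_jacobson_bot (J.map (algebraMap A B)) _ hfg hK ?_
    rw [IsLocalRing.jacobson_eq_maximalIdeal ⊥ bot_ne_top]
    exact hB
  have hinj : Function.Injective v := (RingHom.injective_iff_ker_eq_bot v.toRingHom).2 hker
  exact ⟨AlgEquiv.ofBijective v ⟨hinj, hsurj⟩, fun b => hvψ b⟩

end Groth.Agent.S4543
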