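import Groth.Statements.S2456
import Mathlib
import Groth.Agent.S2462
import Groth.Agent.S9455
import Groth.Agent.H44.MacLaneAll
-- import your own Groth.Agent.* helpers here

set_option autoImplicit false
universe u
open EGA41

set_option linter.style.haveILetI false
set_option linter.unusedSectionVars false
set_option linter.unusedVariables false

namespace Groth.Agent.S2456

open IsLocalRing

theorem ulift_int_ringHom_ext {R : Type*} [Semiring R] (f g : ULift.{u} ℤ →+* R) : f = g := by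
  refine RingHom.ext fun z => ?_
  exact RingHom.congr_fun (RingHom.ext_int
    (f.comp (ULift.ringEquiv : ULift.{u} ℤ ≃+* ℤ).symm.toRingHom)
    (g.comp (ULift.ringEquiv : ULift.{u} ℤ ≃+* ℤ).symm.toRingHom)) z.down

/-- A formally smooth `ℤ`-algebra is formally smooth for any adic topologies over `ULift ℤ`. -/
theorem adic_of_formallySmooth_int (W : Type u) [CommRing W] [Algebra (ULift.{u} ℤ) W]
    [Algebra.FormallySmooth ℤ W] (𝔞 : Ideal (ULift.{u} ℤ)) (𝔟 : Ideal W) :
    EGA41.IsFormallySmoothAdic (ULift.{u} ℤ) 𝔞 W 𝔟 := by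
  intro C _ _ J hJ _ u _
  let u' : W →ₐ[ℤ] C ⧸ J :=
    { u.toRingHom with
      commutes' := fun z => RingHom.congr_fun
        (RingHom.ext_int (u.toRingHom.comp (algebraMap ℤ W)) (algebraMap ℤ (C ⧸ J))) z }
  let v' : W →ₐ[ℤ] C := Algebra.FormallySmooth.lift J hJ u'
  refine ⟨{ v'.toRingHom with
    commutes' := fun z => RingHom.congr_fun (ulift_int_ringHom_ext
      (v'.toRingHom.comp (algebraMap (ULift.{u} ℤ) W)) (algebraMap (ULift.{u} ℤ) C)) z }, ?_⟩
  refine AlgHom.ext fun w => ?_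
  exact Algebra.FormallySmooth.mk_lift J hJ u' w

/-- `Λ/p^n` is formally smooth over `ℤ/p^n` for a DVR `Λ` with maximal ideal `(p)`. -/
theorem formallySmooth_int_quotient (Λ : Type u) [CommRing Λ] [IsDomain Λ]
    [IsDiscreteValuationRing Λ] (p : ℕ)
    (hp : p.Prime) (hm : IsLocalRing.maximalIdeal Λ = Ideal.span {(p : Λ)}) (n : ℕ) (hn : 1 ≤ n) :
    Algebra.FormallySmooth (ℤ ⧸ Ideal.span {(p : ℤ) ^ n})
      (Λ ⧸ (Ideal.span {(p : ℤ) ^ n}).map (algebraMap ℤ Λ)) := by
  classical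
  haveI : Fact p.Prime := ⟨hp⟩
  have hp0 : (p : Λ) ≠ 0 := by
    intro h
    have h1 : IsLocalRing.maximalIdeal Λ = ⊥ := by
      rw [hm, h]
      exact Ideal.span_singleton_eq_bot.mpr rfl
    exact IsDiscreteValuationRing.not_isField Λ (IsLocalRing.isField_iff_maximalIdeal_eq.mpr h1)
  have hpnu : ¬ IsUnit (p : Λ) := by
    intro h
    have h1 : IsLocalRing.maximalIdeal Λ = ⊤ := by
      rw [hm]
      exact Ideal.span_singleton_eq_top.mpr h
    exact (IsLocalRing.maximalIdeal.isMaximal Λ).ne_top h1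
  haveI hcz : CharZero Λ := by
    obtain ⟨q, hq⟩ := CharP.exists Λ
    haveI := hq
    rcases CharP.char_is_prime_or_zero Λ q with hqp | hq0
    · exfalso
      by_cases hqe : q = p
      · subst hqe
        exact hp0 (CharP.cast_eq_zero Λ q)
      · have hcop : Nat.Coprime p q := (Nat.coprime_primes hp hqp).mpr (Ne.symm hqe)
        have h := Nat.gcd_eq_gcd_ab p q
        rw [hcop.gcd_eq_one] at h
        have h' := congrArg (Int.cast : ℤ → Λ) h
        push_cast at h'
        rw [CharP.cast_eq_zero Λ q, zero_mul, add_zero] at h'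
        exact hpnu (IsUnit.of_mul_eq_one _ h'.symm)
    · subst hq0
      exact CharP.charP_to_charZero Λ
  haveI : Module.Flat ℤ Λ := inferInstance
  have hbase : Algebra.FormallySmooth (ℤ ⧸ Ideal.span {(p : ℤ) ^ 1})
      (Λ ⧸ (Ideal.span {(p : ℤ) ^ 1}).map (algebraMap ℤ Λ)) := by
    rw [← RingHom.formallySmooth_algebraMap]
    have hpK : ((p : ℕ) : IsLocalRing.ResidueField Λ) = 0 := by
      have h1 : IsLocalRing.residue Λ (p : Λ) = 0 :=
        (IsLocalRing.residue_eq_zero_iff _).mpr (by rw [hm]; exact Ideal.mem_span_singleton_self _)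
      rwa [map_natCast] at h1
    haveI : CharP (IsLocalRing.ResidueField Λ) p := (CharP.charP_iff_prime_eq_zero hp).mpr hpK
    letI a1 : Algebra (ZMod p) (IsLocalRing.ResidueField Λ) := ZMod.algebra _ p
    letI a2 : Algebra (ULift.{u} (ZMod p)) (IsLocalRing.ResidueField Λ) :=
      ((algebraMap (ZMod p) (IsLocalRing.ResidueField Λ)).comp
        (ULift.ringEquiv : ULift.{u} (ZMod p) ≃+* ZMod p).toRingHom).toAlgebra
    haveI : PerfectField (ULift.{u} (ZMod p)) := inferInstance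
    have hFS : Algebra.FormallySmooth (ULift.{u} (ZMod p)) (IsLocalRing.ResidueField Λ) :=
      Groth.Agent.H44.MacLane.formallySmooth_iff_isGeometricallyReduced.mpr
        Groth.Agent.H44.MacLane.isGeometricallyReduced_of_perfectField
    have hψ : (algebraMap (ULift.{u} (ZMod p)) (IsLocalRing.ResidueField Λ)).FormallySmooth :=
      RingHom.formallySmooth_algebraMap.mpr hFS
    have hI1 : Ideal.span {(p : ℤ) ^ 1} = Ideal.span {((p : ℕ) : ℤ)} := by rw [pow_one]
    let e₁ : (ℤ ⧸ Ideal.span {(p : ℤ) ^ 1}) ≃+* ULift.{u} (ZMod p) :=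
      (Ideal.quotEquivOfEq hI1).trans ((Int.quotientSpanNatEquivZMod p).trans ULift.ringEquiv.symm)
    have hI2 : IsLocalRing.maximalIdeal Λ
        = (Ideal.span {(p : ℤ) ^ 1}).map (algebraMap ℤ Λ) := by
      rw [hm, Ideal.map_span, Set.image_singleton, pow_one, map_natCast]
    let e₂ : IsLocalRing.ResidueField Λ ≃+*
        (Λ ⧸ (Ideal.span {(p : ℤ) ^ 1}).map (algebraMap ℤ Λ)) := Ideal.quotEquivOfEq hI2
    have hcomp : algebraMap (ℤ ⧸ Ideal.span {(p : ℤ) ^ 1})
        (Λ ⧸ (Ideal.span {(p : ℤ) ^ 1}).map (algebraMap ℤ Λ))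
        = e₂.toRingHom.comp ((algebraMap (ULift.{u} (ZMod p)) (IsLocalRing.ResidueField Λ)).comp
            e₁.toRingHom) := by
      apply Ideal.Quotient.ringHom_ext
      exact RingHom.ext_int _ _
    rw [hcomp]
    exact ((RingHom.FormallySmooth.of_bijective (f := e₁.toRingHom) e₁.bijective).comp hψ).comp
      (RingHom.FormallySmooth.of_bijective (f := e₂.toRingHom) e₂.bijective)
  exact Groth.Agent.S9455.formallySmooth_quotient_pow (A := ℤ) (B := Λ) (p : ℤ) hbase n hn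

/-- A DVR with maximal ideal `(p)` is formally smooth over `ℤ` for the `p`-adic topologies. -/
theorem adic_of_cohenRing (Λ : Type u) [CommRing Λ] [IsDomain Λ] [IsDiscreteValuationRing Λ]
    [Algebra (ULift.{u} ℤ) Λ]
    (p : ℕ) (hp : p.Prime) (hm : maximalIdeal Λ = Ideal.span {(p : Λ)}) (𝔟 : Ideal Λ) :
    EGA41.IsFormallySmoothAdic (ULift.{u} ℤ)
      (Ideal.span {(ULift.up (p : ℤ) : ULift.{u} ℤ)}) Λ 𝔟 := by
  intro C _ _ J hJ hk u _
  obtain ⟨k, hk⟩ := hk
  have halg : ∀ z : ULift.{u} ℤ, algebraMap (ULift.{u} ℤ) C z = ((z.down : ℤ) : C) := by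
    intro z
    exact RingHom.congr_fun (ulift_int_ringHom_ext (algebraMap (ULift.{u} ℤ) C)
      ((Int.castRingHom C).comp (ULift.ringEquiv : ULift.{u} ℤ ≃+* ℤ).toRingHom)) z
  have hpk : ((p : ℕ) : C) ^ k = 0 := by
    have h1 : algebraMap (ULift.{u} ℤ) C ((ULift.up (p : ℤ)) ^ k) = 0 := by
      have h2 : algebraMap (ULift.{u} ℤ) C ((ULift.up (p : ℤ)) ^ k) ∈
          (Ideal.span {(ULift.up (p : ℤ) : ULift.{u} ℤ)} ^ k).map (algebraMap (ULift.{u} ℤ) C) :=
        Ideal.mem_map_of_mem _ (Ideal.pow_mem_pow (Ideal.mem_span_singleton_self _) k)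
      rw [hk] at h2
      exact (Submodule.mem_bot _).1 h2
    rw [map_pow, halg] at h1
    simpa using h1
  obtain ⟨n, hn⟩ : ∃ n, n = k + 1 := ⟨_, rfl⟩
  have hn1 : 1 ≤ n := by omega
  have hpn : ((p : ℕ) : C) ^ n = 0 := by rw [hn, pow_succ, hpk, zero_mul]
  haveI hFS := formallySmooth_int_quotient Λ p hp hm n hn1
  have hlift : ∀ a ∈ Ideal.span {(p : ℤ) ^ n}, Int.castRingHom C a = 0 := by
    intro a ha
    obtain ⟨b, rfl⟩ := Ideal.mem_span_singleton'.1 ha
    rw [map_mul, map_pow, map_natCast, hpn, mul_zero]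
  letI algZC : Algebra (ℤ ⧸ Ideal.span {(p : ℤ) ^ n}) C :=
    (Ideal.Quotient.lift (Ideal.span {(p : ℤ) ^ n}) (Int.castRingHom C) hlift).toAlgebra
  have hu0 : ∀ a ∈ (Ideal.span {(p : ℤ) ^ n}).map (algebraMap ℤ Λ), u.toRingHom a = 0 := by
    intro a ha
    have hle : (Ideal.span {(p : ℤ) ^ n}).map (algebraMap ℤ Λ) ≤ RingHom.ker u.toRingHom := by
      rw [Ideal.map_le_iff_le_comap, Ideal.span_le, Set.singleton_subset_iff]
      simp only [SetLike.mem_coe, Ideal.mem_comap, RingHom.mem_ker]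
      have h1 : u.toRingHom (algebraMap ℤ Λ ((p : ℤ) ^ n))
          = Ideal.Quotient.mk J (((p : ℕ) : C) ^ n) := by
        simp
      rw [h1, hpn, map_zero]
    exact hle ha
  let ū : (Λ ⧸ (Ideal.span {(p : ℤ) ^ n}).map (algebraMap ℤ Λ)) →+* C ⧸ J :=
    Ideal.Quotient.lift _ u.toRingHom hu0
  have hcomm : ū.comp (algebraMap (ℤ ⧸ Ideal.span {(p : ℤ) ^ n})
      (Λ ⧸ (Ideal.span {(p : ℤ) ^ n}).map (algebraMap ℤ Λ)))
      = algebraMap (ℤ ⧸ Ideal.span {(p : ℤ) ^ n}) (C ⧸ J) :=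
    Ideal.Quotient.ringHom_ext (RingHom.ext_int _ _)
  let ūa : (Λ ⧸ (Ideal.span {(p : ℤ) ^ n}).map (algebraMap ℤ Λ))
      →ₐ[ℤ ⧸ Ideal.span {(p : ℤ) ^ n}] C ⧸ J :=
    { ū with commutes' := fun z => RingHom.congr_fun hcomm z }
  let vn : (Λ ⧸ (Ideal.span {(p : ℤ) ^ n}).map (algebraMap ℤ Λ))
      →ₐ[ℤ ⧸ Ideal.span {(p : ℤ) ^ n}] C := Algebra.FormallySmooth.lift J hJ ūa
  let v : Λ →+* C := vn.toRingHom.comp (Ideal.Quotient.mk _)
  refine ⟨{ v with
    commutes' := fun z => RingHom.congr_fun (ulift_int_ringHom_ext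
      (v.comp (algebraMap (ULift.{u} ℤ) Λ)) (algebraMap (ULift.{u} ℤ) C)) z }, ?_⟩
  refine AlgHom.ext fun w => ?_
  exact Algebra.FormallySmooth.mk_lift J hJ ūa (Ideal.Quotient.mk _ w)

/-- The lifting statement, given formal smoothness of `W` over `ULift ℤ` for suitable topologies. -/
theorem core {W C : Type u} [CommRing W] [IsLocalRing W]
    [CommRing C] [IsLocalRing C] [IsNoetherianRing C] [IsAdicComplete (maximalIdeal C) C]
    [Algebra (ULift.{u} ℤ) W] [Algebra (ULift.{u} ℤ) C]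
    (J : Ideal C) (hJ : J ≠ ⊤) [IsLocalRing (C ⧸ J)] (u : W →+* C ⧸ J) [IsLocalHom u]
    (𝔞 : Ideal (ULift.{u} ℤ))
    (hB : EGA41.IsFormallySmoothAdic (ULift.{u} ℤ) 𝔞 W (maximalIdeal W))
    (hA : 𝔞.map (algebraMap (ULift.{u} ℤ) C) ≤ maximalIdeal C) :
    ∃ v : W →+* C, IsLocalHom v ∧ (Ideal.Quotient.mk J).comp v = u := by
  classical
  let ua : W →ₐ[ULift.{u} ℤ] C ⧸ J :=
    { u with
      commutes' := fun z => RingHom.congr_fun (ulift_int_ringHom_ext
        (u.comp (algebraMap (ULift.{u} ℤ) W)) (algebraMap (ULift.{u} ℤ) (C ⧸ J))) z }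
  have hu : (maximalIdeal W).map ua.toRingHom ≤ (maximalIdeal C).map (Ideal.Quotient.mk J) := by
    rw [Ideal.map_le_iff_le_comap]
    intro w hw
    rw [Ideal.mem_comap]
    obtain ⟨c, hc⟩ := Ideal.Quotient.mk_surjective (u w)
    have hc' : c ∈ maximalIdeal C := by
      rw [mem_maximalIdeal, mem_nonunits_iff]
      intro hcu
      have h1 : IsUnit (u w) := by rw [← hc]; exact hcu.map _
      exact (mem_nonunits_iff.1 ((mem_maximalIdeal w).1 hw)) (isUnit_of_map_unit u w h1)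
    change u w ∈ _
    rw [← hc]
    exact Ideal.mem_map_of_mem _ hc'
  obtain ⟨v, -, hv⟩ := Groth.Agent.S2462.result 𝔞 (maximalIdeal W) hB hA J hJ ua hu
  refine ⟨v.toRingHom, ⟨fun w hw => ?_⟩, ?_⟩
  · have h1 : IsUnit (u w) := by
      have h2 : Ideal.Quotient.mk J (v w) = u w := AlgHom.congr_fun hv w
      rw [← h2]
      exact IsUnit.map (Ideal.Quotient.mk J) hw
    exact isUnit_of_map_unit u w h1
  · refine RingHom.ext fun w => ?_
    exact AlgHom.congr_fun hv w

theorem result_field {K C : Type u} [Field K] [CharZero K]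
    [CommRing C] [IsLocalRing C] [IsNoetherianRing C] [IsAdicComplete (maximalIdeal C) C]
    (J : Ideal C) (hJ : J ≠ ⊤) [IsLocalRing (C ⧸ J)] (u : K →+* C ⧸ J) [IsLocalHom u] :
    ∃ v : K →+* C, IsLocalHom v ∧ (Ideal.Quotient.mk J).comp v = u := by
  letI algW : Algebra (ULift.{u} ℤ) K := ULift.algebra' ℤ K
  letI algC : Algebra (ULift.{u} ℤ) C := ULift.algebra' ℤ C
  haveI h1 : Algebra.FormallySmooth ℤ ℚ :=
    Algebra.FormallySmooth.of_isLocalization (nonZeroDivisors ℤ)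
  haveI h2 : Algebra.FormallySmooth ℚ K := Groth.Agent.H44.MacLane.formallySmooth_of_charZero
  haveI h3 : Algebra.FormallySmooth ℤ K := Algebra.FormallySmooth.comp ℤ ℚ K
  refine core J hJ u ⊥ (adic_of_formallySmooth_int K ⊥ _) ?_
  rw [Ideal.map_bot]
  exact bot_le

theorem result_cohen {W C : Type u} [CommRing W] [IsLocalRing W] [IsDomain W]
    [IsDiscreteValuationRing W]
    (p : ℕ) (hp : p.Prime) (hm : maximalIdeal W = Ideal.span {(p : W)})
    [CommRing C] [IsLocalRing C] [IsNoetherianRing C] [IsAdicComplete (maximalIdeal C) C]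
    (J : Ideal C) (hJ : J ≠ ⊤) [IsLocalRing (C ⧸ J)] (u : W →+* C ⧸ J) [IsLocalHom u] :
    ∃ v : W →+* C, IsLocalHom v ∧ (Ideal.Quotient.mk J).comp v = u := by
  letI algW : Algebra (ULift.{u} ℤ) W := ULift.algebra' ℤ W
  letI algC : Algebra (ULift.{u} ℤ) C := ULift.algebra' ℤ C
  refine core J hJ u (Ideal.span {(ULift.up (p : ℤ) : ULift.{u} ℤ)})
    (adic_of_cohenRing W p hp hm _) ?_
  rw [Ideal.map_span, Set.image_singleton, Ideal.span_le, Set.singleton_subset_iff, SetLike.mem_coe]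
  have h0 : algebraMap (ULift.{u} ℤ) C (ULift.up (p : ℤ)) = ((p : ℕ) : C) := by
    change algebraMap ℤ C (p : ℤ) = _
    simp
  rw [h0, mem_maximalIdeal, mem_nonunits_iff]
  intro hpu
  have h1 : IsUnit (u ((p : ℕ) : W)) := by
    rw [map_natCast, ← map_natCast (Ideal.Quotient.mk J)]
    exact hpu.map _
  have h2 : IsUnit ((p : ℕ) : W) := isUnit_of_map_unit u _ h1
  have h3 : ((p : ℕ) : W) ∈ maximalIdeal W := by rw [hm]; exact Ideal.mem_span_singleton_self _
  exact (mem_nonunits_iff.1 ((mem_maximalIdeal _).1 h3)) h2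


open IsLocalRing in
/-- Let W be a Cohen ring (a field of characteristic zero, or a complete discrete valuation ring with
maximal ideal generated by the residue characteristic), C a complete Noetherian local ring and J ≠ C
an ideal of C. Then every local homomorphism u : W → C/J is induced by a local homomorphism v : W →
C. -/
theorem result {W C : Type u} [CommRing W] [IsLocalRing W] (hW : EGA41.IsCohenRingEGA W)
    [CommRing C] [IsLocalRing C] [IsNoetherianRing C] [IsAdicComplete (maximalIdeal C) C]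
    (J : Ideal C) (hJ : J ≠ ⊤) [IsLocalRing (C ⧸ J)] (u : W →+* C ⧸ J) [IsLocalHom u] :
    ∃ v : W →+* C, IsLocalHom v ∧ (Ideal.Quotient.mk J).comp v = u := by
  rcases hW with ⟨hF, hC⟩ | ⟨hD, hDVR, hcomp, p, hp, hm⟩
  · exact @result_field W C hF.toField hC _ _ _ _ J hJ _ u _
  · exact result_cohen p hp hm J hJ u

end Groth.Agent.S2456
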