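import Groth.Statements.S9316
import Groth.Agent.H23.RegularSeq
import Mathlib.RingTheory.SimpleModule.Basic
import Mathlib.RingTheory.HopkinsLevitzki
import Mathlib.RingTheory.Length
import Mathlib.RingTheory.FiniteLength
import Mathlib.Tactic

set_option autoImplicit false
universe u
open CAlg

namespace Groth.Agent.S9316

section Aux
open IsLocalRing

/-- Square-zero-kernel surjections reflect units. -/
theorem isUnit_of_map_sqZero {A B : Type*} [CommRing A] [CommRing B] (f : A →+* B)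
    (hf : Function.Surjective f) (hsq : ∀ x y, f x = 0 → f y = 0 → x * y = 0) (a : A)
    (ha : IsUnit (f a)) : IsUnit a := by
  obtain ⟨c, hc⟩ := isUnit_iff_exists_inv.mp ha
  obtain ⟨b, rfl⟩ := hf c
  have hj : f (a * b - 1) = 0 := by rw [map_sub, map_mul, hc, map_one, sub_self]
  have hjj : (a * b - 1) * (a * b - 1) = 0 := hsq _ _ hj hj
  refine isUnit_iff_exists_inv.mpr ⟨b * (1 - (a * b - 1)), ?_⟩
  have h1 : a * (b * (1 - (a * b - 1))) = 1 - (a * b - 1) * (a * b - 1) := by ring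
  rw [h1, hjj, sub_zero]

theorem semisimple_of_killed {A : Type*} [CommRing A] (𝔪 : Ideal A) [𝔪.IsMaximal]
    (M : Type*) [AddCommGroup M] [Module A M] (h : ∀ a ∈ 𝔪, ∀ x : M, a • x = 0) :
    IsSemisimpleModule A M := by
  letI : Field (A ⧸ 𝔪) := Ideal.Quotient.field 𝔪
  have htors : Module.IsTorsionBySet A M (𝔪 : Set A) := fun x a => h a.1 a.2 x
  letI : Module (A ⧸ 𝔪) M := htors.module
  haveI : RingHomSurjective (Ideal.Quotient.mk 𝔪) := ⟨Ideal.Quotient.mk_surjective⟩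
  exact (LinearMap.isSemisimpleModule_iff_of_bijective htors.semilinearMap
    Function.bijective_id).mpr inferInstance

theorem eq_zero_of_mem_coatoms {A : Type*} [Ring A] {M : Type*} [AddCommGroup M] [Module A M]
    [IsSemisimpleModule A M] (x : M) (hx : ∀ N : Submodule A M, IsCoatom N → x ∈ N) : x = 0 := by
  have hD : sInf {N : Submodule A M | IsCoatom N} = ⊥ := by
    obtain ⟨C, hC⟩ := exists_isCompl (sInf {N : Submodule A M | IsCoatom N})
    rcases eq_top_or_exists_le_coatom C with h | ⟨N, hN, hCN⟩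
    · rw [h] at hC
      have h2 := hC.inf_eq_bot
      rwa [inf_top_eq] at h2
    · exfalso
      apply hN.1
      rw [eq_top_iff, ← hC.sup_eq_top]
      exact sup_le (sInf_le hN) hCN
  have h3 : x ∈ sInf {N : Submodule A M | IsCoatom N} := by
    rw [Submodule.mem_sInf]; exact fun N hN => hx N hN
  rw [hD] at h3
  exact (Submodule.mem_bot A).mp h3

/-- the product of the kernels inside the product of the quotients -/
def KP {A : Type u} [CommRing A] (J : Ideal A) {ι : Type u} (N' : ι → Ideal A) :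
    Submodule A ((i : ι) → A ⧸ N' i) where
  carrier := {p | ∀ i, p i ∈ Ideal.map (Ideal.Quotient.mk (N' i)) J}
  add_mem' := fun ha hb i => Ideal.add_mem _ (ha i) (hb i)
  zero_mem' := fun i => Ideal.zero_mem _
  smul_mem' := fun c p hp i => by
    show c • p i ∈ _
    rw [Algebra.smul_def]
    exact Ideal.mul_mem_left _ _ (hp i)

theorem mem_KP {A : Type u} [CommRing A] (J : Ideal A) {ι : Type u} (N' : ι → Ideal A)
    (p : (i : ι) → A ⧸ N' i) :
    p ∈ KP J N' ↔ ∀ i, ∃ j ∈ J, Ideal.Quotient.mk (N' i) j = p i := by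
  constructor
  · intro hp i
    exact (Ideal.mem_map_iff_of_surjective _ Ideal.Quotient.mk_surjective).mp (hp i)
  · intro hp i
    obtain ⟨j, hj, hji⟩ := hp i
    rw [← hji]; exact Ideal.mem_map_of_mem _ hj

variable {R S : Type u} [CommRing R] [CommRing S] [Algebra R S]

theorem assemble {A T : Type u} [CommRing A] [CommRing T] [Algebra R A] [Algebra R T]
    (π : A →ₐ[R] T) (hπ : Function.Surjective π) (μ : S →ₐ[R] T)
    (hsq : ∀ x y, π x = 0 → π y = 0 → x * y = 0)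
    (𝔪 : Ideal A) [𝔪.IsMaximal] (hkill : ∀ a ∈ 𝔪, ∀ j, π j = 0 → a * j = 0)
    {ι : Type u} (N' : ι → Ideal A)
    (hinj : ∀ j, π j = 0 → (∀ i, j ∈ N' i) → j = 0)
    (χf : ∀ i, S →ₐ[R] A ⧸ N' i)
    (hχf : ∀ i s, ∃ a : A, π a = μ s ∧ Ideal.Quotient.mk (N' i) a = χf i s) :
    ∃ χ : S →ₐ[R] A, π.comp χ = μ := by
  classical
  have hJmem : ∀ j, j ∈ RingHom.ker π ↔ π j = 0 := fun j => RingHom.mem_ker
  haveI hss : IsSemisimpleModule A ↥(KP (RingHom.ker π) N') := by
    refine semisimple_of_killed 𝔪 _ (fun a ha x => ?_)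
    apply Subtype.ext
    funext i
    obtain ⟨j, hj, hji⟩ := (mem_KP _ _ _).mp x.2 i
    show a • (x : (i : ι) → A ⧸ N' i) i = 0
    rw [← hji, Algebra.smul_def, Ideal.Quotient.algebraMap_eq, ← map_mul,
      hkill a ha j ((hJmem j).mp hj), map_zero]
  let g : ↥(RingHom.ker π) →ₗ[A] ↥(KP (RingHom.ker π) N') :=
    LinearMap.codRestrict (KP (RingHom.ker π) N')
      ((Algebra.linearMap A ((i : ι) → A ⧸ N' i)).comp (Submodule.subtype (RingHom.ker π)))
      (fun j => (mem_KP _ _ _).mpr (fun i => ⟨j.1, j.2, rfl⟩))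
  have hg : ∀ x : ↥(RingHom.ker π),
      (g x : (i : ι) → A ⧸ N' i) = algebraMap A ((i : ι) → A ⧸ N' i) x.1 := fun x => rfl
  have hginj : Function.Injective g := by
    rw [← LinearMap.ker_eq_bot, LinearMap.ker_eq_bot']
    intro x hx
    apply Subtype.ext
    refine hinj x.1 ((hJmem _).mp x.2) (fun i => ?_)
    have h1 : (g x : (i : ι) → A ⧸ N' i) i = 0 := by rw [hx]; rfl
    exact Ideal.Quotient.eq_zero_iff_mem.mp h1
  obtain ⟨Q', hQ'⟩ := exists_isCompl (LinearMap.range g)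
  let Q : Submodule A ((i : ι) → A ⧸ N' i) :=
    Q'.map (Submodule.subtype (KP (RingHom.ker π) N'))
  have hQK : Q ≤ KP (RingHom.ker π) N' := Submodule.map_subtype_le _ _
  have hQb : ∀ p ∈ KP (RingHom.ker π) N',
      ∃ j, π j = 0 ∧ p - algebraMap A ((i : ι) → A ⧸ N' i) j ∈ Q := by
    intro p hp
    have h1 : (⟨p, hp⟩ : ↥(KP (RingHom.ker π) N')) ∈ LinearMap.range g ⊔ Q' := by
      rw [hQ'.sup_eq_top]; exact Submodule.mem_top
    obtain ⟨y, hy, z, hz, hyz⟩ := Submodule.mem_sup.mp h1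
    obtain ⟨x, rfl⟩ := hy
    refine ⟨x.1, (hJmem _).mp x.2, ?_⟩
    have h3 : algebraMap A ((i : ι) → A ⧸ N' i) x.1 + (z : (i : ι) → A ⧸ N' i) = p :=
      congrArg Subtype.val hyz
    have h2 : p - algebraMap A ((i : ι) → A ⧸ N' i) x.1 = (z : (i : ι) → A ⧸ N' i) := by
      rw [← h3, add_sub_cancel_left]
    rw [h2]
    exact ⟨z, hz, rfl⟩
  have hQc : ∀ j, π j = 0 → algebraMap A ((i : ι) → A ⧸ N' i) j ∈ Q → j = 0 := by
    intro j hj hjQ
    obtain ⟨z, hz, hzj⟩ := hjQ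
    have hx : g ⟨j, (hJmem j).mpr hj⟩ = z := Subtype.ext hzj.symm
    have h1 : g ⟨j, (hJmem j).mpr hj⟩ ∈ LinearMap.range g ⊓ Q' :=
      ⟨⟨_, rfl⟩, hx ▸ hz⟩
    rw [hQ'.inf_eq_bot, Submodule.mem_bot] at h1
    have h2 := hginj (h1.trans (map_zero g).symm)
    exact congrArg Subtype.val h2
  have hKsq : ∀ q₁ ∈ KP (RingHom.ker π) N', ∀ q₂ ∈ KP (RingHom.ker π) N', q₁ * q₂ = 0 := by
    intro q₁ h₁ q₂ h₂
    funext i
    obtain ⟨j₁, hj₁, e₁⟩ := (mem_KP _ _ _).mp h₁ i
    obtain ⟨j₂, hj₂, e₂⟩ := (mem_KP _ _ _).mp h₂ i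
    show q₁ i * q₂ i = 0
    rw [← e₁, ← e₂, ← map_mul, hsq j₁ j₂ ((hJmem _).mp hj₁) ((hJmem _).mp hj₂), map_zero]
  let X : S →ₐ[R] ((i : ι) → A ⧸ N' i) := Pi.algHom R (fun i => A ⧸ N' i) χf
  have hXK : ∀ s a, π a = μ s →
      X s - algebraMap A ((i : ι) → A ⧸ N' i) a ∈ KP (RingHom.ker π) N' := by
    intro s a ha
    rw [mem_KP]
    intro i
    obtain ⟨a', ha', hae⟩ := hχf i s
    refine ⟨a' - a, (hJmem _).mpr (by rw [map_sub, ha', ha, sub_self]), ?_⟩
    show _ = X s i - algebraMap A ((i : ι) → A ⧸ N' i) a i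
    rw [map_sub, hae]; rfl
  have hex : ∀ s, ∃ a, π a = μ s ∧ X s - algebraMap A ((i : ι) → A ⧸ N' i) a ∈ Q := by
    intro s
    obtain ⟨a₀, ha₀⟩ := hπ (μ s)
    obtain ⟨j, hj, hjQ⟩ := hQb _ (hXK s a₀ ha₀)
    refine ⟨a₀ + j, by rw [map_add, ha₀, hj, add_zero], ?_⟩
    have h1 : X s - algebraMap A ((i : ι) → A ⧸ N' i) (a₀ + j) =
        X s - algebraMap A ((i : ι) → A ⧸ N' i) a₀ -
          algebraMap A ((i : ι) → A ⧸ N' i) j := by
      rw [map_add]; abel
    rw [h1]; exact hjQ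
  have hun : ∀ s a a', (π a = μ s ∧ X s - algebraMap A ((i : ι) → A ⧸ N' i) a ∈ Q) →
      (π a' = μ s ∧ X s - algebraMap A ((i : ι) → A ⧸ N' i) a' ∈ Q) → a = a' := by
    intro s a a' h h'
    have h1 : π (a - a') = 0 := by rw [map_sub, h.1, h'.1, sub_self]
    have h2 : algebraMap A ((i : ι) → A ⧸ N' i) (a - a') ∈ Q := by
      have h3 : algebraMap A ((i : ι) → A ⧸ N' i) (a - a') =
          (X s - algebraMap A ((i : ι) → A ⧸ N' i) a') -
            (X s - algebraMap A ((i : ι) → A ⧸ N' i) a) := by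
        rw [map_sub]; abel
      rw [h3]; exact Q.sub_mem h'.2 h.2
    exact sub_eq_zero.mp (hQc _ h1 h2)
  choose c hc using hex
  have hΦR : ∀ r : R, algebraMap A ((i : ι) → A ⧸ N' i) (algebraMap R A r) =
      algebraMap R ((i : ι) → A ⧸ N' i) r :=
    fun r => (IsScalarTower.algebraMap_apply R A ((i : ι) → A ⧸ N' i) r).symm
  refine ⟨{ toFun := c
            map_one' := ?_
            map_mul' := ?_
            map_zero' := ?_
            map_add' := ?_
            commutes' := ?_ }, AlgHom.ext fun s => (hc s).1⟩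
  · exact hun 1 _ _ (hc 1) ⟨by rw [map_one, map_one],
      by rw [map_one, map_one, sub_self]; exact Q.zero_mem⟩
  · intro s t
    refine hun (s * t) _ _ (hc (s * t))
      ⟨by rw [map_mul, map_mul, (hc s).1, (hc t).1], ?_⟩
    have hq₁ := (hc s).2
    have hq₂ := (hc t).2
    have h0 : (X s - algebraMap A ((i : ι) → A ⧸ N' i) (c s)) *
        (X t - algebraMap A ((i : ι) → A ⧸ N' i) (c t)) = 0 :=
      hKsq _ (hQK hq₁) _ (hQK hq₂)
    have h1 : X (s * t) - algebraMap A ((i : ι) → A ⧸ N' i) (c s * c t) =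
        c t • (X s - algebraMap A ((i : ι) → A ⧸ N' i) (c s)) +
          c s • (X t - algebraMap A ((i : ι) → A ⧸ N' i) (c t)) +
          (X s - algebraMap A ((i : ι) → A ⧸ N' i) (c s)) *
            (X t - algebraMap A ((i : ι) → A ⧸ N' i) (c t)) := by
      rw [map_mul, map_mul, Algebra.smul_def, Algebra.smul_def]; ring
    rw [h1, h0, add_zero]
    exact Q.add_mem (Q.smul_mem _ hq₁) (Q.smul_mem _ hq₂)
  · exact hun 0 _ _ (hc 0) ⟨by rw [map_zero, map_zero],
      by rw [map_zero, map_zero, sub_self]; exact Q.zero_mem⟩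
  · intro s t
    refine hun (s + t) _ _ (hc (s + t))
      ⟨by rw [map_add, map_add, (hc s).1, (hc t).1], ?_⟩
    have h1 : X (s + t) - algebraMap A ((i : ι) → A ⧸ N' i) (c s + c t) =
        (X s - algebraMap A ((i : ι) → A ⧸ N' i) (c s)) +
          (X t - algebraMap A ((i : ι) → A ⧸ N' i) (c t)) := by
      rw [map_add, map_add]; abel
    rw [h1]; exact Q.add_mem (hc s).2 (hc t).2
  · intro r
    refine hun _ _ _ (hc _) ⟨by rw [AlgHom.commutes, AlgHom.commutes], ?_⟩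
    rw [AlgHom.commutes, hΦR, sub_self]; exact Q.zero_mem

variable [IsLocalRing R] [IsLocalRing S]

/-- the small-extension lifting property -/
def SmallLift (R S : Type u) [CommRing R] [CommRing S] [IsLocalRing R] [IsLocalRing S]
    [Algebra R S] : Prop :=
  ∀ (A : Type u) [CommRing A] [IsLocalRing A] [IsArtinianRing A] [Algebra R A]
    [IsLocalHom (algebraMap R A)] (J : Ideal A), J ^ 2 = ⊥ → Module.length A J = 1 →
    ∀ [IsLocalRing (A ⧸ J)] (ψ : S →ₐ[R] A ⧸ J) [IsLocalHom ψ.toRingHom],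
      Function.Bijective (ResidueField.map ψ.toRingHom) →
      ∃ χ : S →ₐ[R] A, (Ideal.Quotient.mkₐ R J).comp χ = ψ

theorem isLocalRing_quot_pow {n : ℕ} (hn : n ≠ 0) :
    IsLocalRing (S ⧸ (maximalIdeal S) ^ n) := by
  haveI : Nontrivial (S ⧸ (maximalIdeal S) ^ n) :=
    Ideal.Quotient.nontrivial_iff.mpr (fun h =>
      (maximalIdeal.isMaximal S).ne_top
        (top_le_iff.mp (by rw [← h]; exact Ideal.pow_le_self hn)))
  exact IsLocalRing.of_surjective' (Ideal.Quotient.mk _) Ideal.Quotient.mk_surjective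

theorem isArtinianRing_quot_pow [IsNoetherianRing S] {n : ℕ} (hn : n ≠ 0) :
    IsArtinianRing (S ⧸ (maximalIdeal S) ^ n) := by
  haveI := isLocalRing_quot_pow (S := S) hn
  rw [isArtinianRing_iff_isNilpotent_maximalIdeal]
  refine ⟨n, ?_⟩
  rw [← Groth.Agent.H23.map_mk_maximalIdeal ((maximalIdeal S) ^ n), ← Ideal.map_pow,
    Ideal.map_quotient_self]
  rfl

theorem smallLift_surj (H : SmallLift R S) {n : ℕ} (hn : n ≠ 0)
    (A : Type u) [CommRing A] [IsLocalRing A] [IsArtinianRing A] [Algebra R A]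
    [IsLocalHom (algebraMap R A)] (π : A →ₐ[R] S ⧸ (maximalIdeal S) ^ n)
    (hπ : Function.Surjective π) (hsq : RingHom.ker π ^ 2 = ⊥)
    (hlen : Module.length A (RingHom.ker π) = 1) :
    ∃ χ : S →ₐ[R] A, π.comp χ = Ideal.Quotient.mkₐ R ((maximalIdeal S) ^ n) := by
  haveI := isLocalRing_quot_pow (S := S) hn
  let e := Ideal.quotientKerAlgEquivOfSurjective hπ
  haveI : IsLocalRing (A ⧸ RingHom.ker π) := e.symm.toRingEquiv.isLocalRing
  let ψ₁ : S →ₐ[R] A ⧸ RingHom.ker π :=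
    e.symm.toAlgHom.comp (Ideal.Quotient.mkₐ R ((maximalIdeal S) ^ n))
  have hsurj : Function.Surjective ψ₁ :=
    e.symm.surjective.comp (Ideal.Quotient.mkₐ_surjective R _)
  haveI : IsLocalHom ψ₁.toRingHom := IsLocalHom.of_surjective _ hsurj
  have hbij : Function.Bijective (ResidueField.map ψ₁.toRingHom) := by
    refine ⟨(ResidueField.map ψ₁.toRingHom).injective, fun y => ?_⟩
    obtain ⟨y, rfl⟩ := residue_surjective y
    obtain ⟨s, rfl⟩ := hsurj y
    exact ⟨residue S s, ResidueField.map_residue _ _⟩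
  obtain ⟨χ, hχ⟩ := H A (RingHom.ker π) hsq hlen ψ₁ hbij
  refine ⟨χ, AlgHom.ext fun s => ?_⟩
  have h1 : e ((Ideal.Quotient.mkₐ R (RingHom.ker π)) (χ s)) = e (ψ₁ s) := by
    rw [← hχ]; rfl
  have h2 : e ((Ideal.Quotient.mkₐ R (RingHom.ker π)) (χ s)) = π (χ s) :=
    Ideal.quotientKerAlgEquivOfSurjective_mk hπ (χ s)
  have h3 : e (ψ₁ s) = Ideal.Quotient.mkₐ R ((maximalIdeal S) ^ n) s :=
    e.apply_symm_apply _
  show π (χ s) = _
  rw [← h2, h1, h3]

theorem lift_hyperplane [IsNoetherianRing S] [IsLocalHom (algebraMap R S)]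
    (H : SmallLift R S) {m : ℕ} (hm : m ≠ 0)
    (A : Type u) [CommRing A] [IsLocalRing A] [Algebra R A]
    (π : A →ₐ[R] S ⧸ (maximalIdeal S) ^ m) (hπ : Function.Surjective π)
    (hsq : ∀ x y, π x = 0 → π y = 0 → x * y = 0)
    (N : Ideal A) (hNJ : ∀ a ∈ N, π a = 0) (hne : ∃ j, π j = 0 ∧ j ∉ N)
    (hmax : ∀ K : Ideal A, N ≤ K → (∀ a ∈ K, π a = 0) → K = N ∨ ∀ j, π j = 0 → j ∈ K) :
    ∃ χ : S →ₐ[R] A ⧸ N, ∀ s, ∃ a : A,
      π a = Ideal.Quotient.mkₐ R ((maximalIdeal S) ^ m) s ∧ Ideal.Quotient.mk N a = χ s := by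
  haveI hT := isLocalRing_quot_pow (S := S) hm
  haveI hTart : IsArtinianRing (S ⧸ (maximalIdeal S) ^ m) := isArtinianRing_quot_pow hm
  let πN : A ⧸ N →ₐ[R] S ⧸ (maximalIdeal S) ^ m := Ideal.Quotient.liftₐ N π hNJ
  have hπNsurj : Function.Surjective πN := fun t => by
    obtain ⟨a, rfl⟩ := hπ t; exact ⟨Ideal.Quotient.mk N a, rfl⟩
  have hNtop : N ≠ ⊤ := by
    intro h
    have h1 : π 1 = 0 := hNJ 1 (h ▸ Submodule.mem_top)
    rw [map_one] at h1
    exact one_ne_zero h1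
  haveI : Nontrivial (A ⧸ N) := Ideal.Quotient.nontrivial_iff.mpr hNtop
  haveI : IsLocalRing (A ⧸ N) :=
    IsLocalRing.of_surjective' (Ideal.Quotient.mk N) Ideal.Quotient.mk_surjective
  have hker : ∀ y : A ⧸ N, y ∈ RingHom.ker πN ↔ ∃ j, π j = 0 ∧ Ideal.Quotient.mk N j = y := by
    intro y
    rw [RingHom.mem_ker]
    constructor
    · intro hy
      obtain ⟨a, rfl⟩ := Ideal.Quotient.mk_surjective y
      exact ⟨a, hy, rfl⟩
    · rintro ⟨j, hj, rfl⟩; exact hj
  have hsqN : RingHom.ker πN ^ 2 = ⊥ := by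
    rw [pow_two, eq_bot_iff, Ideal.mul_le]
    intro u hu v hv
    obtain ⟨a, ha, rfl⟩ := (hker u).mp hu
    obtain ⟨b, hb, rfl⟩ := (hker v).mp hv
    rw [← map_mul, hsq a b ha hb, map_zero]; exact Submodule.zero_mem _
  have hatom : IsAtom (RingHom.ker πN) := by
    constructor
    · intro h0
      obtain ⟨j, hj, hjN⟩ := hne
      apply hjN
      have h1 : Ideal.Quotient.mk N j ∈ RingHom.ker πN := (hker _).mpr ⟨j, hj, rfl⟩
      rw [h0, Ideal.mem_bot] at h1
      exact Ideal.Quotient.eq_zero_iff_mem.mp h1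
    · intro b hb
      have hK1 : N ≤ Ideal.comap (Ideal.Quotient.mk N) b := by
        intro a ha
        rw [Ideal.mem_comap, Ideal.Quotient.eq_zero_iff_mem.mpr ha]
        exact Submodule.zero_mem _
      have hK2 : ∀ a ∈ Ideal.comap (Ideal.Quotient.mk N) b, π a = 0 := by
        intro a ha
        have h1 : Ideal.Quotient.mk N a ∈ RingHom.ker πN := hb.le (Ideal.mem_comap.mp ha)
        exact RingHom.mem_ker.mp h1
      rcases hmax _ hK1 hK2 with h | h
      · rw [eq_bot_iff]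
        intro y hy
        obtain ⟨a, rfl⟩ := Ideal.Quotient.mk_surjective y
        have h1 : a ∈ Ideal.comap (Ideal.Quotient.mk N) b := Ideal.mem_comap.mpr hy
        rw [h] at h1
        rw [Ideal.mem_bot]; exact Ideal.Quotient.eq_zero_iff_mem.mpr h1
      · exfalso
        apply hb.not_ge
        intro y hy
        obtain ⟨j, hj, rfl⟩ := (hker y).mp hy
        exact Ideal.mem_comap.mp (h j hj)
  haveI hsimple : IsSimpleModule (A ⧸ N) ↥(RingHom.ker πN) := isSimpleModule_iff_isAtom.mpr hatom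
  have hlen : Module.length (A ⧸ N) ↥(RingHom.ker πN) = 1 :=
    Module.length_eq_one_iff.mpr hsimple
  haveI : IsArtinianRing (A ⧸ N) := by
    have e : ((A ⧸ N) ⧸ RingHom.ker πN) ≃ₐ[R] (S ⧸ (maximalIdeal S) ^ m) :=
      Ideal.quotientKerAlgEquivOfSurjective hπNsurj
    haveI : IsArtinianRing ((A ⧸ N) ⧸ RingHom.ker πN) := e.symm.toRingEquiv.isArtinianRing
    haveI h2 : IsArtinian (A ⧸ N) ((A ⧸ N) ⧸ RingHom.ker πN) :=
      isArtinian_of_surjective_algebraMap (S := A ⧸ N) (R := (A ⧸ N) ⧸ RingHom.ker πN)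
        Ideal.Quotient.mk_surjective
    haveI h1 : IsArtinian (A ⧸ N) ↥(RingHom.ker πN) := by
      have hfl : IsFiniteLength (A ⧸ N) ↥(RingHom.ker πN) := by
        rw [← Module.length_ne_top_iff, hlen]; exact ENat.one_ne_top
      exact (isFiniteLength_iff_isNoetherian_isArtinian.mp hfl).2
    exact (isArtinian_iff_submodule_quotient (RingHom.ker πN)).mpr ⟨h1, h2⟩
  haveI : IsLocalHom (algebraMap R (A ⧸ N)) := by
    constructor
    intro r hr
    have h1 : IsUnit (πN (algebraMap R (A ⧸ N) r)) := hr.map πN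
    rw [AlgHom.commutes] at h1
    have h2 : algebraMap R (S ⧸ (maximalIdeal S) ^ m) r =
        Ideal.Quotient.mk _ (algebraMap R S r) := rfl
    rw [h2] at h1
    haveI : IsLocalHom (Ideal.Quotient.mk ((maximalIdeal S) ^ m)) :=
      IsLocalHom.of_surjective _ Ideal.Quotient.mk_surjective
    exact isUnit_of_map_unit (algebraMap R S) r (isUnit_of_map_unit (Ideal.Quotient.mk _) _ h1)
  obtain ⟨χ, hχ⟩ := smallLift_surj H hm (A ⧸ N) πN hπNsurj hsqN hlen
  refine ⟨χ, fun s => ?_⟩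
  obtain ⟨a, ha⟩ := Ideal.Quotient.mk_surjective (χ s)
  refine ⟨a, ?_, ha⟩
  have h1 : πN (χ s) = Ideal.Quotient.mkₐ R ((maximalIdeal S) ^ m) s :=
    congrArg (fun f => f s) hχ
  rw [← ha] at h1; exact h1

/-- coatoms of the kernel, as ideals -/
def coIdeal {A : Type u} [CommRing A] (J : Ideal A)
    (N : {N : Submodule A ↥J // IsCoatom N}) : Ideal A :=
  N.1.map (Submodule.subtype J)

theorem mem_coIdeal {A : Type u} [CommRing A] (J : Ideal A)
    (N : {N : Submodule A ↥J // IsCoatom N}) (a : A) :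
    a ∈ coIdeal J N ↔ ∃ y ∈ N.1, (y : A) = a := Submodule.mem_map

theorem lift_core [IsNoetherianRing S] [IsLocalHom (algebraMap R S)] (H : SmallLift R S)
    {m : ℕ} (hm : m ≠ 0) (A : Type u) [CommRing A] [Algebra R A]
    (π : A →ₐ[R] S ⧸ (maximalIdeal S) ^ m) (hπ : Function.Surjective π)
    (h1 : ∀ a j, π a ∈ Ideal.map (Ideal.Quotient.mk ((maximalIdeal S) ^ m)) (maximalIdeal S) →
      π j = 0 → a * j = 0) :
    ∃ χ : S →ₐ[R] A, π.comp χ = Ideal.Quotient.mkₐ R ((maximalIdeal S) ^ m) := by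
  classical
  haveI hT := isLocalRing_quot_pow (S := S) hm
  have hsq : ∀ x y, π x = 0 → π y = 0 → x * y = 0 := fun x y hx hy =>
    h1 x y (by rw [hx]; exact Submodule.zero_mem _) hy
  haveI : IsLocalHom π.toRingHom :=
    ⟨fun a ha => isUnit_of_map_sqZero π.toRingHom hπ hsq a ha⟩
  haveI : IsLocalRing A := RingHom.domain_isLocalRing π.toRingHom
  have hkill : ∀ a ∈ maximalIdeal A, ∀ j, π j = 0 → a * j = 0 := by
    intro a ha j hj
    refine h1 a j ?_ hj
    rw [Groth.Agent.H23.map_mk_maximalIdeal, mem_maximalIdeal, mem_nonunits_iff]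
    intro hu
    exact (mem_nonunits_iff.mp ((mem_maximalIdeal a).mp ha))
      (isUnit_of_map_unit π.toRingHom a hu)
  haveI hssJ : IsSemisimpleModule A ↥(RingHom.ker π) :=
    semisimple_of_killed (maximalIdeal A) _
      (fun a ha x => Subtype.ext (hkill a ha x.1 (RingHom.mem_ker.mp x.2)))
  have hN'J : ∀ (N : {N : Submodule A ↥(RingHom.ker π) // IsCoatom N}),
      ∀ a ∈ coIdeal (RingHom.ker π) N, π a = 0 := by
    intro N a ha
    obtain ⟨y, _, rfl⟩ := (mem_coIdeal _ _ _).mp ha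
    exact RingHom.mem_ker.mp y.2
  have hne : ∀ (N : {N : Submodule A ↥(RingHom.ker π) // IsCoatom N}),
      ∃ j, π j = 0 ∧ j ∉ coIdeal (RingHom.ker π) N := by
    intro N
    obtain ⟨y, -, hy⟩ := SetLike.exists_of_lt (lt_top_iff_ne_top.mpr N.2.1)
    refine ⟨y.1, RingHom.mem_ker.mp y.2, fun hmem => hy ?_⟩
    obtain ⟨y', hy', hyy⟩ := (mem_coIdeal _ _ _).mp hmem
    have : y' = y := Subtype.ext hyy
    rw [← this]; exact hy'
  have hmax : ∀ (N : {N : Submodule A ↥(RingHom.ker π) // IsCoatom N}) (K : Ideal A),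
      coIdeal (RingHom.ker π) N ≤ K → (∀ a ∈ K, π a = 0) →
      K = coIdeal (RingHom.ker π) N ∨ ∀ j, π j = 0 → j ∈ K := by
    intro N K hNK hK
    have hle : N.1 ≤ Submodule.comap (Submodule.subtype (RingHom.ker π)) K := by
      intro y hy
      exact hNK ((mem_coIdeal _ _ _).mpr ⟨y, hy, rfl⟩)
    rcases eq_or_lt_of_le hle with h | h
    · left
      refine le_antisymm ?_ hNK
      intro a ha
      have h2 : (⟨a, RingHom.mem_ker.mpr (hK a ha)⟩ : ↥(RingHom.ker π)) ∈ N.1 := by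
        rw [h]; exact ha
      exact (mem_coIdeal _ _ _).mpr ⟨_, h2, rfl⟩
    · right
      intro j hj
      have h2 : (⟨j, RingHom.mem_ker.mpr hj⟩ : ↥(RingHom.ker π)) ∈
          Submodule.comap (Submodule.subtype (RingHom.ker π)) K := by
        rw [N.2.2 _ h]; exact Submodule.mem_top
      exact h2
  have hinj : ∀ j, π j = 0 → (∀ N : {N : Submodule A ↥(RingHom.ker π) // IsCoatom N},
      j ∈ coIdeal (RingHom.ker π) N) → j = 0 := by
    intro j hj hall
    have h2 : (⟨j, RingHom.mem_ker.mpr hj⟩ : ↥(RingHom.ker π)) = 0 := by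
      apply eq_zero_of_mem_coatoms (A := A)
      intro N hN
      obtain ⟨y, hy, hyj⟩ := (mem_coIdeal _ ⟨N, hN⟩ _).mp (hall ⟨N, hN⟩)
      have : y = ⟨j, RingHom.mem_ker.mpr hj⟩ := Subtype.ext hyj
      rw [← this]; exact hy
    exact congrArg Subtype.val h2
  have hχ : ∀ N : {N : Submodule A ↥(RingHom.ker π) // IsCoatom N},
      ∃ χ : S →ₐ[R] A ⧸ coIdeal (RingHom.ker π) N, ∀ s, ∃ a : A,
        π a = Ideal.Quotient.mkₐ R ((maximalIdeal S) ^ m) s ∧
          Ideal.Quotient.mk (coIdeal (RingHom.ker π) N) a = χ s :=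
    fun N => lift_hyperplane H hm A π hπ hsq _ (hN'J N) (hne N) (hmax N)
  choose χf hχf using hχ
  exact assemble π hπ (Ideal.Quotient.mkₐ R ((maximalIdeal S) ^ m)) hsq (maximalIdeal A) hkill
    (coIdeal (RingHom.ker π)) hinj χf hχf

theorem lift_base [IsNoetherianRing S] [IsLocalHom (algebraMap R S)] (H : SmallLift R S)
    (A B : Type u) [CommRing A] [CommRing B] [Algebra R A] [Algebra R B]
    (π : A →ₐ[R] B) (hπ : Function.Surjective π) (ψ : S →ₐ[R] B) (n : ℕ)
    (hn : ∀ x ∈ (maximalIdeal S) ^ n, ψ x = 0)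
    (h1 : ∀ a j, π a ∈ Ideal.map ψ (maximalIdeal S) → π j = 0 → a * j = 0) :
    ∃ χ : S →ₐ[R] A, π.comp χ = ψ := by
  have hm : n + 1 ≠ 0 := Nat.succ_ne_zero n
  have hn' : ∀ x ∈ (maximalIdeal S) ^ (n + 1), ψ x = 0 := fun x hx =>
    hn x (Ideal.pow_le_pow_right (Nat.le_succ n) hx)
  let ψb : S ⧸ (maximalIdeal S) ^ (n + 1) →ₐ[R] B := Ideal.Quotient.liftₐ _ ψ hn'
  have hψb : ∀ s, ψb (Ideal.Quotient.mk _ s) = ψ s := fun s => rfl
  let A' : Subalgebra R (A × (S ⧸ (maximalIdeal S) ^ (n + 1))) :=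
    AlgHom.equalizer (π.comp (AlgHom.fst R A _)) (ψb.comp (AlgHom.snd R A _))
  have hA' : ∀ x : A', π x.1.1 = ψb x.1.2 := fun x => x.2
  let π' : A' →ₐ[R] S ⧸ (maximalIdeal S) ^ (n + 1) := (AlgHom.snd R A _).comp A'.val
  have hπ' : Function.Surjective π' := by
    intro t
    obtain ⟨a, ha⟩ := hπ (ψb t)
    exact ⟨⟨(a, t), ha⟩, rfl⟩
  obtain ⟨χ', hχ'⟩ := lift_core H hm A' π' hπ' (by
    intro a j ha hj
    obtain ⟨s, hs, hsa⟩ :=
      (Ideal.mem_map_iff_of_surjective _ Ideal.Quotient.mk_surjective).mp ha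
    have h3 : π a.1.1 ∈ Ideal.map ψ (maximalIdeal S) := by
      rw [hA' a]
      have h5 : a.1.2 = Ideal.Quotient.mk _ s := hsa.symm
      rw [h5, hψb]; exact Ideal.mem_map_of_mem _ hs
    have h6 : j.1.2 = 0 := hj
    have h4 : π j.1.1 = 0 := by
      rw [hA' j, h6, map_zero]
    apply Subtype.ext
    apply Prod.ext
    · show a.1.1 * j.1.1 = 0
      exact h1 _ _ h3 h4
    · show a.1.2 * j.1.2 = 0
      rw [h6, mul_zero])
  refine ⟨(AlgHom.fst R A _).comp (A'.val.comp χ'), AlgHom.ext fun s => ?_⟩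
  have h2 : π' (χ' s) = Ideal.Quotient.mk _ s := congrArg (fun f => f s) hχ'
  show π (χ' s).1.1 = ψ s
  rw [hA' (χ' s), ← hψb s, ← h2]; rfl

theorem lift_general [IsNoetherianRing S] [IsLocalHom (algebraMap R S)] (H : SmallLift R S) :
    ∀ (k : ℕ) (A B : Type u) [CommRing A] [CommRing B] [Algebra R A] [Algebra R B]
      (π : A →ₐ[R] B) (_ : Function.Surjective π) (ψ : S →ₐ[R] B) (n : ℕ)
      (_ : ∀ x ∈ (maximalIdeal S) ^ n, ψ x = 0)
      (_ : ∀ a j, π a ∈ Ideal.map ψ ((maximalIdeal S) ^ k) → π j = 0 → a * j = 0),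
      ∃ χ : S →ₐ[R] A, π.comp χ = ψ := by
  intro k
  induction k with
  | zero =>
    intro A B _ _ _ _ π hπ ψ n hn hk
    have hinj : Function.Injective π := by
      rw [injective_iff_map_eq_zero]
      intro j hj
      have h1 : (1 : A) * j = 0 := hk 1 j (by
        rw [pow_zero, Ideal.one_eq_top, Ideal.map_top]; exact Submodule.mem_top) hj
      rwa [one_mul] at h1
    let e : A ≃ₐ[R] B := AlgEquiv.ofBijective π ⟨hinj, hπ⟩
    refine ⟨e.symm.toAlgHom.comp ψ, AlgHom.ext fun s => ?_⟩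
    exact e.apply_symm_apply (ψ s)
  | succ k ih =>
    intro A B _ _ _ _ π hπ ψ n hn hk
    have hsq : ∀ x y, π x = 0 → π y = 0 → x * y = 0 := fun x y hx hy =>
      hk x y (by rw [hx]; exact Submodule.zero_mem _) hy
    have hJ₁ : ∀ a ∈ Ideal.comap π (Ideal.map ψ ((maximalIdeal S) ^ k)) * RingHom.ker π,
        π a = 0 := fun a ha => RingHom.mem_ker.mp (Ideal.mul_le_right ha)
    let π₁ : A ⧸ (Ideal.comap π (Ideal.map ψ ((maximalIdeal S) ^ k)) * RingHom.ker π) →ₐ[R] B :=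
      Ideal.Quotient.liftₐ _ π hJ₁
    have hπ₁ : Function.Surjective π₁ := fun b => by
      obtain ⟨a, rfl⟩ := hπ b; exact ⟨Ideal.Quotient.mk _ a, rfl⟩
    obtain ⟨χ₁, hχ₁⟩ := ih _ B π₁ hπ₁ ψ n hn (by
      intro a₁ j₁ ha₁ hj₁
      obtain ⟨a, rfl⟩ := Ideal.Quotient.mk_surjective a₁
      obtain ⟨j, rfl⟩ := Ideal.Quotient.mk_surjective j₁
      rw [← map_mul, Ideal.Quotient.eq_zero_iff_mem]
      exact Ideal.mul_mem_mul (Ideal.mem_comap.mpr ha₁) (RingHom.mem_ker.mpr hj₁))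
    have hχ₁s : ∀ s, π₁ (χ₁ s) = ψ s := fun s => congrArg (fun f => f s) hχ₁
    have hsq₁ : ∀ u v, π₁ u = 0 → π₁ v = 0 → u * v = 0 := by
      intro u v hu hv
      obtain ⟨a, rfl⟩ := Ideal.Quotient.mk_surjective u
      obtain ⟨b, rfl⟩ := Ideal.Quotient.mk_surjective v
      rw [← map_mul, hsq a b hu hv, map_zero]
    have hn₁ : ∀ x ∈ (maximalIdeal S) ^ (n + n), χ₁ x = 0 := by
      intro x hx
      rw [pow_add, ← Ideal.smul_eq_mul] at hx
      refine Submodule.smul_induction_on hx ?_ ?_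
      · intro y hy z hz
        rw [smul_eq_mul, map_mul]
        exact hsq₁ _ _ (by rw [hχ₁s, hn y hy]) (by rw [hχ₁s, hn z hz])
      · intro y z hy hz
        rw [map_add, hy, hz, add_zero]
    obtain ⟨χ, hχ⟩ := lift_base H A _ (Ideal.Quotient.mkₐ R _)
      (Ideal.Quotient.mkₐ_surjective R _) χ₁ (n + n) hn₁ (by
      intro a j ha hj
      have hj' : j ∈ Ideal.comap π (Ideal.map ψ ((maximalIdeal S) ^ k)) • RingHom.ker π :=
        Ideal.Quotient.eq_zero_iff_mem.mp hj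
      have ha' : π a ∈ Ideal.map ψ (maximalIdeal S) := by
        have hle : Ideal.map χ₁ (maximalIdeal S) ≤
            Ideal.comap π₁ (Ideal.map ψ (maximalIdeal S)) := by
          rw [Ideal.map_le_iff_le_comap]
          intro s hs
          rw [Ideal.mem_comap, Ideal.mem_comap, hχ₁s]
          exact Ideal.mem_map_of_mem _ hs
        exact Ideal.mem_comap.mp (hle ha)
      refine Submodule.smul_induction_on hj' ?_ ?_
      · intro b hb c hc
        rw [smul_eq_mul, ← mul_assoc]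
        refine hk (a * b) c ?_ (RingHom.mem_ker.mp hc)
        rw [map_mul, pow_succ', Ideal.map_mul]
        exact Ideal.mul_mem_mul ha' (Ideal.mem_comap.mp hb)
      · intro y z hy hz
        rw [mul_add, hy, hz, add_zero])
    refine ⟨χ, AlgHom.ext fun s => ?_⟩
    have h2 : Ideal.Quotient.mk _ (χ s) = χ₁ s := congrArg (fun f => f s) hχ
    show π (χ s) = ψ s
    rw [← hχ₁s, ← h2]; rfl

theorem main [IsNoetherianRing S] [IsLocalHom (algebraMap R S)] (H : SmallLift R S) :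
    CAlgX.IsAdicFormallySmooth R S (maximalIdeal S) := by
  intro A _ _ J hJ ψ hψ
  obtain ⟨k, hk⟩ := hψ
  refine lift_general H k A (A ⧸ J) (Ideal.Quotient.mkₐ R J)
    (Ideal.Quotient.mkₐ_surjective R J) ψ k hk ?_
  intro a j ha hj
  have h0 : Ideal.map ψ ((maximalIdeal S) ^ k) = ⊥ := by
    rw [eq_bot_iff, Ideal.map_le_iff_le_comap]
    intro x hx
    rw [Ideal.mem_comap, hk x hx]; exact Submodule.zero_mem _
  rw [h0, Ideal.mem_bot] at ha
  have ha' : a ∈ J := Ideal.Quotient.eq_zero_iff_mem.mp ha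
  have hj' : j ∈ J := Ideal.Quotient.eq_zero_iff_mem.mp hj
  have h2 : a * j ∈ J ^ 2 := by rw [pow_two]; exact Ideal.mul_mem_mul ha' hj'
  rw [hJ] at h2
  exact (Ideal.mem_bot).mp h2

end Aux

open IsLocalRing in
/-- Let `R → S` be a local homomorphism of local rings with `S` Noetherian. Then `R → S` is formally
smooth for the adic topology of the maximal ideal of `S` if and only if lifts exist along small
extensions: for every Artinian local ring `A` with a local structure map `R → A`, every ideal `J` of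
`A` of square zero which has length one as an `A`-module, and every local `R`-algebra homomorphism
`ψ : S → A/J` inducing a bijection on residue fields, there is an `R`-algebra homomorphism `S → A`
lifting `ψ`. -/
theorem result {R S : Type u} [CommRing R] [CommRing S]
    [IsLocalRing R] [IsLocalRing S] [IsNoetherianRing S] [Algebra R S] [IsLocalHom (algebraMap R S)] :
    CAlgX.IsAdicFormallySmooth R S (maximalIdeal S) ↔
      ∀ (A : Type u) [CommRing A] [IsLocalRing A] [IsArtinianRing A] [Algebra R A]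
        [IsLocalHom (algebraMap R A)] (J : Ideal A), J ^ 2 = ⊥ → Module.length A J = 1 →
        ∀ [IsLocalRing (A ⧸ J)] (ψ : S →ₐ[R] A ⧸ J) [IsLocalHom ψ.toRingHom],
          Function.Bijective (ResidueField.map ψ.toRingHom) →
          ∃ χ : S →ₐ[R] A, (Ideal.Quotient.mkₐ R J).comp χ = ψ := by
  constructor
  · intro hsm A _ _ _ _ _ J hJ hlen _ ψ _ hbij
    apply hsm A J hJ ψ
    obtain ⟨k, hk⟩ : IsNilpotent (IsLocalRing.maximalIdeal (A ⧸ J)) := by
      have h3 := IsArtinianRing.isNilpotent_jacobson_bot (R := A ⧸ J)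
      rwa [IsLocalRing.jacobson_eq_maximalIdeal ⊥ bot_ne_top] at h3
    refine ⟨k, fun x hx => ?_⟩
    have h1 : IsLocalRing.maximalIdeal S ≤
        Ideal.comap ψ.toRingHom (IsLocalRing.maximalIdeal (A ⧸ J)) := by
      intro y hy
      rw [Ideal.mem_comap, IsLocalRing.mem_maximalIdeal, mem_nonunits_iff]
      intro hu
      exact (mem_nonunits_iff.mp ((IsLocalRing.mem_maximalIdeal y).mp hy))
        (isUnit_of_map_unit ψ.toRingHom y hu)
    have h2 : ψ.toRingHom x ∈ (IsLocalRing.maximalIdeal (A ⧸ J)) ^ k :=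
      Ideal.le_comap_pow _ k (Ideal.pow_right_mono h1 k hx)
    rw [hk, Ideal.zero_eq_bot, Ideal.mem_bot] at h2
    exact h2
  · intro H
    exact main H

end Groth.Agent.S9316
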