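import Groth.Statements.S2477
import Groth.Agent.H61.PowerSeriesComplete
import Groth.Agent.H87.LimSystem
import Mathlib.RingTheory.MvPowerSeries.Derivative
import Mathlib.RingTheory.Kaehler.Basic

set_option autoImplicit false
set_option maxHeartbeats 400000
universe u
open EGA41

namespace Groth.Agent.S2477


open IsLocalRing MvPowerSeries

theorem maximalIdeal_eq (k : Type u) [Field k] (r : ℕ) :
    maximalIdeal (MvPowerSeries (Fin r) k) =
      Ideal.span (Set.range (X : Fin r → MvPowerSeries (Fin r) k)) := by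
  refine le_antisymm (fun f hf => ?_) Groth.Agent.H61.PS.span_X_le
  rw [Groth.Agent.H61.PS.mem_maximalIdeal_iff, IsLocalRing.maximalIdeal_eq_bot, Ideal.mem_bot] at hf
  have := Groth.Agent.H61.PS.mem_span_X_pow_of_coeff_eq_zero 1 f (fun x hx => by
    have hx0 : x = 0 := (Finsupp.degree_eq_zero_iff x).1 (Nat.lt_one_iff.1 hx)
    rw [hx0]; exact hf)
  rwa [pow_one] at this

theorem D_mem (k : Type u) [Field k] (r : ℕ) (f : MvPowerSeries (Fin r) k) :
    KaehlerDifferential.D k (MvPowerSeries (Fin r) k) f ∈
      Submodule.span (MvPowerSeries (Fin r) k)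
        (Set.range fun i : Fin r => KaehlerDifferential.D k (MvPowerSeries (Fin r) k) (X i)) ⊔
      (maximalIdeal (MvPowerSeries (Fin r) k) • ⊤ :
        Submodule (MvPowerSeries (Fin r) k) (Ω[MvPowerSeries (Fin r) k⁄k])) := by
  have hg : f - C (constantCoeff f) ∈ maximalIdeal (MvPowerSeries (Fin r) k) := by
    rw [Groth.Agent.H61.PS.mem_maximalIdeal_iff, map_sub, constantCoeff_C, sub_self]
    exact zero_mem _
  have hC : KaehlerDifferential.D k (MvPowerSeries (Fin r) k) (C (constantCoeff f)) = 0 := by
    have : (C (constantCoeff f) : MvPowerSeries (Fin r) k) =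
        algebraMap k (MvPowerSeries (Fin r) k) (constantCoeff f) := by
      rw [MvPowerSeries.algebraMap_apply]; rfl
    rw [this, Derivation.map_algebraMap]
  have hf : KaehlerDifferential.D k (MvPowerSeries (Fin r) k) f =
      KaehlerDifferential.D k (MvPowerSeries (Fin r) k) (f - C (constantCoeff f)) := by
    rw [map_sub, hC, sub_zero]
  rw [hf]
  rw [maximalIdeal_eq] at hg
  have key : ∀ g : MvPowerSeries (Fin r) k, g ∈ Submodule.span (MvPowerSeries (Fin r) k)
      (Set.range (X : Fin r → MvPowerSeries (Fin r) k)) →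
      KaehlerDifferential.D k (MvPowerSeries (Fin r) k) g ∈
      Submodule.span (MvPowerSeries (Fin r) k)
        (Set.range fun i : Fin r => KaehlerDifferential.D k (MvPowerSeries (Fin r) k) (X i)) ⊔
      (maximalIdeal (MvPowerSeries (Fin r) k) • ⊤ :
        Submodule (MvPowerSeries (Fin r) k) (Ω[MvPowerSeries (Fin r) k⁄k])) := by
    intro g hg'
    induction hg' using Submodule.span_induction with
    | mem x hx =>
      obtain ⟨i, rfl⟩ := hx
      exact Submodule.mem_sup_left (Submodule.subset_span ⟨i, rfl⟩)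
    | zero => rw [map_zero]; exact zero_mem _
    | add x y _ _ hx hy => rw [map_add]; exact add_mem hx hy
    | smul a x hx ih =>
      rw [smul_eq_mul, Derivation.leibniz]
      refine add_mem (Submodule.smul_mem _ _ ih) (Submodule.mem_sup_right ?_)
      refine Submodule.smul_mem_smul ?_ Submodule.mem_top
      rw [maximalIdeal_eq]; exact hx
  exact key _ hg

theorem main (k : Type u) [Field k] (r : ℕ) :
    Nonempty ((Fin r → MvPowerSeries (Fin r) k) ≃ₗ[MvPowerSeries (Fin r) k]
      AdicCompletion (maximalIdeal (MvPowerSeries (Fin r) k)) (Ω[MvPowerSeries (Fin r) k⁄k])) := by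
  classical
  have hck : IsAdicComplete (maximalIdeal k) k := by
    rw [IsLocalRing.maximalIdeal_eq_bot]; infer_instance
  have hcomplete : IsAdicComplete (maximalIdeal (MvPowerSeries (Fin r) k))
      (MvPowerSeries (Fin r) k) := Groth.Agent.H61.PS.isAdicComplete
  have hfg : (maximalIdeal (MvPowerSeries (Fin r) k)).FG := by
    rw [maximalIdeal_eq]; exact Submodule.fg_span (Set.finite_range _)
  set ι := AdicCompletion.of (maximalIdeal (MvPowerSeries (Fin r) k))
    (Ω[MvPowerSeries (Fin r) k⁄k]) with hι
  set m : Fin r → AdicCompletion (maximalIdeal (MvPowerSeries (Fin r) k))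
      (Ω[MvPowerSeries (Fin r) k⁄k]) :=
    fun i => ι (KaehlerDifferential.D k (MvPowerSeries (Fin r) k) (X i)) with hm
  have hΩ : ∀ ω : Ω[MvPowerSeries (Fin r) k⁄k], ω ∈
      Submodule.span (MvPowerSeries (Fin r) k)
        (Set.range fun i : Fin r => KaehlerDifferential.D k (MvPowerSeries (Fin r) k) (X i)) ⊔
      (maximalIdeal (MvPowerSeries (Fin r) k) • ⊤ :
        Submodule (MvPowerSeries (Fin r) k) (Ω[MvPowerSeries (Fin r) k⁄k])) := by
    intro ω
    have h1 : ω ∈ Submodule.span (MvPowerSeries (Fin r) k)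
        (Set.range (KaehlerDifferential.D k (MvPowerSeries (Fin r) k))) := by
      rw [KaehlerDifferential.span_range_derivation]; exact Submodule.mem_top
    refine (Submodule.span_le.2 ?_) h1
    rintro _ ⟨f, rfl⟩
    exact D_mem k r f
  have hιΩ : ∀ ω : Ω[MvPowerSeries (Fin r) k⁄k], ι ω ∈
      Submodule.span (MvPowerSeries (Fin r) k) (Set.range m) ⊔
        (maximalIdeal (MvPowerSeries (Fin r) k) • ⊤ : Submodule (MvPowerSeries (Fin r) k)
          (AdicCompletion (maximalIdeal (MvPowerSeries (Fin r) k))
            (Ω[MvPowerSeries (Fin r) k⁄k]))) := by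
    intro ω
    have h1 := Submodule.mem_map_of_mem (f := ι) (hΩ ω)
    rw [Submodule.map_sup, Submodule.map_span, Submodule.map_smul''] at h1
    have e1 : (ι '' Set.range fun i : Fin r =>
        KaehlerDifferential.D k (MvPowerSeries (Fin r) k) (X i)) = Set.range m := by
      rw [← Set.range_comp]; rfl
    rw [e1] at h1
    obtain ⟨a, ha, b, hb, hab⟩ := Submodule.mem_sup.1 h1
    rw [← hab]
    exact add_mem (Submodule.mem_sup_left ha)
      (Submodule.mem_sup_right (Submodule.smul_mono le_rfl le_top hb))
  have hspan : Submodule.span (MvPowerSeries (Fin r) k) (Set.range m) ⊔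
      (maximalIdeal (MvPowerSeries (Fin r) k) • ⊤ : Submodule (MvPowerSeries (Fin r) k)
        (AdicCompletion (maximalIdeal (MvPowerSeries (Fin r) k))
          (Ω[MvPowerSeries (Fin r) k⁄k]))) = ⊤ := by
    rw [eq_top_iff]
    intro x _
    obtain ⟨ω, hω⟩ := Submodule.mkQ_surjective _
      (AdicCompletion.eval (maximalIdeal (MvPowerSeries (Fin r) k))
        (Ω[MvPowerSeries (Fin r) k⁄k]) 1 x)
    have h1 : x - ι ω ∈ (maximalIdeal (MvPowerSeries (Fin r) k) ^ 1 • ⊤ :
        Submodule (MvPowerSeries (Fin r) k)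
          (AdicCompletion (maximalIdeal (MvPowerSeries (Fin r) k))
            (Ω[MvPowerSeries (Fin r) k⁄k]))) := by
      rw [AdicCompletion.pow_smul_top_eq_ker_eval hfg, LinearMap.mem_ker, map_sub, hι,
        AdicCompletion.eval_of, hω, sub_self]
    rw [pow_one] at h1
    have := add_mem (Submodule.mem_sup_right h1) (hιΩ ω)
    rwa [sub_add_cancel] at this
  have htop := Groth.Agent.H87.LimSystem.span_eq_top_of_hausdorff
    (maximalIdeal (MvPowerSeries (Fin r) k)) m hspan
  have hsurj : Function.Surjective (Fintype.linearCombination (MvPowerSeries (Fin r) k) m) := by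
    rw [← LinearMap.range_eq_top, Fintype.range_linearCombination, htop]
  have hinj : Function.Injective (Fintype.linearCombination (MvPowerSeries (Fin r) k) m) := by
    rw [injective_iff_map_eq_zero]
    intro c hc
    have h1 : ι (∑ i, c i • KaehlerDifferential.D k (MvPowerSeries (Fin r) k) (X i)) = 0 := by
      rw [map_sum]
      rw [Fintype.linearCombination_apply] at hc
      rw [← hc]
      refine Finset.sum_congr rfl fun i _ => ?_
      rw [map_smul]
    have h2 : ∀ n : ℕ, (∑ i, c i • KaehlerDifferential.D k (MvPowerSeries (Fin r) k) (X i)) ∈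
        (maximalIdeal (MvPowerSeries (Fin r) k) ^ n • ⊤ :
          Submodule (MvPowerSeries (Fin r) k) (Ω[MvPowerSeries (Fin r) k⁄k])) := by
      intro n
      have := congrArg (fun y => y.1 n) h1
      simp only [hι, AdicCompletion.of_apply] at this
      exact (Submodule.Quotient.mk_eq_zero _).1 this
    funext j
    have h3 : (pderiv k j).liftKaehlerDifferential
        (∑ i, c i • KaehlerDifferential.D k (MvPowerSeries (Fin r) k) (X i)) = c j := by
      rw [map_sum]
      simp only [map_smul, Derivation.liftKaehlerDifferential_comp_D, pderiv_X, smul_eq_mul]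
      rw [Finset.sum_eq_single j]
      · rw [Pi.single_eq_same, mul_one]
      · intro i _ hij
        rw [Pi.single_eq_of_ne hij, mul_zero]
      · intro h; exact absurd (Finset.mem_univ j) h
    have h4 : ∀ n : ℕ, c j ∈ maximalIdeal (MvPowerSeries (Fin r) k) ^ n := by
      intro n
      have := Submodule.mem_map_of_mem (f := (pderiv k j).liftKaehlerDifferential) (h2 n)
      rw [Submodule.map_smul'', h3] at this
      have h5 := (Submodule.smul_mono (le_refl (maximalIdeal (MvPowerSeries (Fin r) k) ^ n))
        (le_top : Submodule.map (pderiv k j).liftKaehlerDifferential ⊤ ≤ ⊤)) this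
      rwa [smul_eq_mul, Ideal.mul_top] at h5
    exact IsHausdorff.haus hcomplete.toIsHausdorff (c j) (fun n => by
      rw [SModEq.zero, smul_eq_mul, Ideal.mul_top]; exact h4 n)
  exact ⟨LinearEquiv.ofBijective _ ⟨hinj, hsurj⟩⟩

open IsLocalRing in
/-- Let k be a field and A = k[[T_1, …, T_r]] with its usual k-algebra structure. Then the adic
completion Ω̂_{A/k} of Ω_{A/k} is a free A-module of rank r. -/
theorem result (k : Type u) [Field k] (r : ℕ) :
    Module.Finite (MvPowerSeries (Fin r) k) (AdicCompletion (maximalIdeal (MvPowerSeries (Fin r) k)) (Ω[MvPowerSeries (Fin r) k⁄k])) ∧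
    Module.Free (MvPowerSeries (Fin r) k) (AdicCompletion (maximalIdeal (MvPowerSeries (Fin r) k)) (Ω[MvPowerSeries (Fin r) k⁄k])) ∧
      Module.finrank (MvPowerSeries (Fin r) k) (AdicCompletion (maximalIdeal (MvPowerSeries (Fin r) k)) (Ω[MvPowerSeries (Fin r) k⁄k])) = r := by
  obtain ⟨Φ⟩ := main k r
  refine ⟨Module.Finite.equiv Φ, Module.Free.of_equiv Φ, ?_⟩
  rw [← Φ.finrank_eq, Module.finrank_fin_fun]

end Groth.Agent.S2477
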