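import Groth.Statements.S9622
-- import your own Groth.Agent.* helpers here
import Mathlib.RingTheory.Finiteness.NilpotentKer
import Mathlib.RingTheory.QuasiFinite.Basic

set_option autoImplicit false
universe u
open CAlg

namespace Groth.Agent.S9622

theorem finite_of_finite_quotient {R S : Type u} [CommRing R] [CommRing S] [Algebra R S]
    [IsArtinianRing S] [IsLocalRing S]
    (h : Module.Finite R (S ⧸ IsLocalRing.maximalIdeal S)) : Module.Finite R S := by
  refine Module.finite_of_surjective_of_ker_le_nilradical
    (Ideal.Quotient.mkₐ R (IsLocalRing.maximalIdeal S)) Ideal.Quotient.mk_surjective ?_ ?_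
  · refine Ideal.mk_ker.trans_le ?_
    rw [Ring.KrullDimLE.nilradical_eq_maximalIdeal]
  · rw [← RingHom.ker_coe_toRingHom, Ideal.Quotient.mkₐ_ker]
    exact IsNoetherian.noetherian _

/-- Let R → S be a ring map whose target S is a local Artinian ring, and write m for the maximal ideal
of S. Then S is a finite R-module exactly when S/m is, and S is an R-algebra of finite type exactly
when S/m is. -/
theorem result {R S : Type u} [CommRing R] [CommRing S] [Algebra R S] [IsArtinianRing S] [IsLocalRing S] :
    (Module.Finite R S ↔ Module.Finite R (S ⧸ IsLocalRing.maximalIdeal S)) ∧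
      (Algebra.FiniteType R S ↔ Algebra.FiniteType R (S ⧸ IsLocalRing.maximalIdeal S)) := by
  refine ⟨⟨fun h => Module.Finite.of_surjective
      (Ideal.Quotient.mkₐ R (IsLocalRing.maximalIdeal S)).toLinearMap Ideal.Quotient.mk_surjective,
      fun h => finite_of_finite_quotient h⟩, ⟨fun h => inferInstance, fun h => ?_⟩⟩
  obtain ⟨n, f, hf⟩ := Algebra.FiniteType.iff_quotient_mvPolynomial''.mp h
  let π : S →ₐ[R] S ⧸ IsLocalRing.maximalIdeal S := Ideal.Quotient.mkₐ R (IsLocalRing.maximalIdeal S)
  have hπ : Function.Surjective π := Ideal.Quotient.mk_surjective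
  let g : MvPolynomial (Fin n) R →ₐ[R] S :=
    MvPolynomial.aeval (fun i => Function.surjInv hπ (f (MvPolynomial.X i)))
  have hg : π.comp g = f := by
    apply MvPolynomial.algHom_ext
    intro i
    simp only [AlgHom.comp_apply, g, MvPolynomial.aeval_X]
    exact Function.surjInv_eq hπ _
  letI : Algebra (MvPolynomial (Fin n) R) S := g.toRingHom.toAlgebra
  haveI : IsScalarTower R (MvPolynomial (Fin n) R) S :=
    IsScalarTower.of_algebraMap_eq fun r => (g.commutes r).symm
  have hfin : Module.Finite (MvPolynomial (Fin n) R) (S ⧸ IsLocalRing.maximalIdeal S) := by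
    refine Module.Finite.of_surjective
      (Algebra.linearMap (MvPolynomial (Fin n) R) (S ⧸ IsLocalRing.maximalIdeal S)) ?_
    intro y
    obtain ⟨p, hp⟩ := hf y
    refine ⟨p, ?_⟩
    rw [← hp, ← hg]
    rfl
  have hfin' : Module.Finite (MvPolynomial (Fin n) R) S := finite_of_finite_quotient hfin
  exact Algebra.FiniteType.trans (S := MvPolynomial (Fin n) R) inferInstance inferInstance

end Groth.Agent.S9622
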