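import Groth.Statements.S5080
import Groth.Agent.H87.UnitsTrick
import Groth.Agent.H87.ComplFinite

set_option autoImplicit false
set_option maxHeartbeats 400000
universe u
open EGA418

namespace Groth.Agent.S5080


open IsLocalRing TensorProduct

section gen

variable {R M : Type*} [CommRing R] [AddCommGroup M] [Module R M]

/-- generators localize. -/
theorem span_localized (S : Submonoid R) (s : Set M) (hs : Submodule.span R s = ⊤) :
    Submodule.span (Localization S) (LocalizedModule.mkLinearMap S M '' s) = ⊤ := by
  have key : ∀ m : M, LocalizedModule.mkLinearMap S M m ∈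
      Submodule.span (Localization S) (LocalizedModule.mkLinearMap S M '' s) := by
    intro m
    have hm : m ∈ Submodule.span R s := by rw [hs]; exact Submodule.mem_top
    induction hm using Submodule.span_induction with
    | mem y hy => exact Submodule.subset_span ⟨y, hy, rfl⟩
    | zero => rw [map_zero]; exact Submodule.zero_mem _
    | add y z _ _ hy hz => rw [map_add]; exact Submodule.add_mem _ hy hz
    | smul r y _ hy =>
      rw [map_smul, ← algebraMap_smul (Localization S) r]
      exact Submodule.smul_mem _ _ hy
  rw [eq_top_iff]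
  rintro x -
  induction x using LocalizedModule.induction_on with
  | h m t =>
    have h1 : LocalizedModule.mk m t =
        Localization.mk (1 : R) t • LocalizedModule.mkLinearMap S M m := by
      rw [LocalizedModule.mkLinearMap_apply, LocalizedModule.mk_smul_mk, one_smul, mul_one]
    rw [h1]
    exact Submodule.smul_mem _ _ (key m)

variable [IsLocalRing R]

/-- generators pass to the fibre `κ ⊗ M`. -/
theorem span_fibre (g : Set M) (hg : Submodule.span R g = ⊤) :
    Submodule.span (ResidueField R) ((fun l : M => (1 : ResidueField R) ⊗ₜ[R] l) '' g) = ⊤ := by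
  have key : ∀ l : M, (1 : ResidueField R) ⊗ₜ[R] l ∈
      Submodule.span (ResidueField R) ((fun l : M => (1 : ResidueField R) ⊗ₜ[R] l) '' g) := by
    intro l
    have hl : l ∈ Submodule.span R g := by rw [hg]; exact Submodule.mem_top
    induction hl using Submodule.span_induction with
    | mem y hy => exact Submodule.subset_span ⟨y, hy, rfl⟩
    | zero => rw [TensorProduct.tmul_zero]; exact Submodule.zero_mem _
    | add y z _ _ hy hz => rw [TensorProduct.tmul_add]; exact Submodule.add_mem _ hy hz
    | smul r y _ hy =>
      have h2 : (1 : ResidueField R) ⊗ₜ[R] (r • y) =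
          (algebraMap R (ResidueField R) r) • ((1 : ResidueField R) ⊗ₜ[R] y) := by
        rw [TensorProduct.tmul_smul, algebraMap_smul]
      rw [h2]
      exact Submodule.smul_mem _ _ hy
  rw [eq_top_iff]
  rintro t -
  induction t using TensorProduct.induction_on with
  | zero => exact Submodule.zero_mem _
  | add a b ha hb => exact Submodule.add_mem _ ha hb
  | tmul c l =>
    have h1 : c ⊗ₜ[R] l = c • ((1 : ResidueField R) ⊗ₜ[R] l) := by
      rw [TensorProduct.smul_tmul', smul_eq_mul, mul_one]
    rw [h1]
    exact Submodule.smul_mem _ _ (key l)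

/-- the fibre map `M → κ ⊗ M` is surjective. -/
theorem mk_one_surjective (t : ResidueField R ⊗[R] M) : ∃ l : M, (1 : ResidueField R) ⊗ₜ[R] l = t := by
  induction t using TensorProduct.induction_on with
  | zero => exact ⟨0, TensorProduct.tmul_zero _ _⟩
  | add a b ha hb =>
    obtain ⟨l₁, rfl⟩ := ha
    obtain ⟨l₂, rfl⟩ := hb
    exact ⟨l₁ + l₂, TensorProduct.tmul_add _ _ _⟩
  | tmul c l =>
    obtain ⟨r, rfl⟩ := IsLocalRing.residue_surjective c
    refine ⟨r • l, ?_⟩
    rw [TensorProduct.tmul_smul, TensorProduct.smul_tmul']
    congr 1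
    rw [Algebra.smul_def, mul_one]
    rfl

/-- lifting a spanning family from the fibre (Nakayama). -/
theorem span_eq_top_of_fibre [Module.Finite R M] {ι : Type*} (f : ι → M)
    (h : Submodule.span (ResidueField R)
      (Set.range fun i => (1 : ResidueField R) ⊗ₜ[R] f i) = ⊤) :
    Submodule.span R (Set.range f) = ⊤ := by
  rw [← IsLocalRing.map_tensorProduct_mk_eq_top, Submodule.map_span,
    ← Submodule.restrictScalars_span R (ResidueField R) Ideal.Quotient.mk_surjective,
    Submodule.restrictScalars_eq_top_iff, ← Set.range_comp]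
  exact h

end gen

section main

variable (k A : Type u) [Field k] [CommRing A] [IsLocalRing A] [IsNoetherianRing A] [Algebra k A]
  [IsAdicComplete (maximalIdeal A) A] [Module.Finite k (ResidueField A)]

theorem finite_Ωh :
    Module.Finite A (AdicCompletion (maximalIdeal A) (Ω[A⁄k])) := by
  have hfg : (maximalIdeal A).FG := (maximalIdeal A).fg_of_isNoetherianRing
  haveI : Module.Finite k (A ⧸ maximalIdeal A) := ‹Module.Finite k (ResidueField A)›
  haveI : Module.Finite (A ⧸ maximalIdeal A) (Ω[(A ⧸ maximalIdeal A)⁄k]) := inferInstance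
  haveI : Module.Finite A (maximalIdeal A).Cotangent :=
    Module.Finite.of_surjective (maximalIdeal A).toCotangent (Ideal.toCotangent_surjective _)
  haveI := Groth.Agent.H87.ComplFinite.finite_kaehler_quotient (A := k) (B := A) (maximalIdeal A)
  exact Groth.Agent.H87.ComplFinite.finite_adicCompletion_of_finite_quotient (maximalIdeal A) hfg

theorem span_of_D :
    Submodule.span A (Set.range fun a : A => AdicCompletion.of (maximalIdeal A) (Ω[A⁄k])
      (KaehlerDifferential.D k A a)) = ⊤ := by
  haveI := finite_Ωh k A
  have hfg : (maximalIdeal A).FG := (maximalIdeal A).fg_of_isNoetherianRing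
  have hN : Submodule.span A (Set.range fun a : A => AdicCompletion.of (maximalIdeal A) (Ω[A⁄k])
      (KaehlerDifferential.D k A a)) =
      LinearMap.range (AdicCompletion.of (maximalIdeal A) (Ω[A⁄k])) := by
    rw [LinearMap.range_eq_map, ← KaehlerDifferential.span_range_derivation, Submodule.map_span,
      ← Set.range_comp]
    rfl
  rw [hN, eq_top_iff]
  refine Submodule.le_of_le_smul_of_le_jacobson_bot Module.Finite.fg_top
    (IsLocalRing.maximalIdeal_le_jacobson ⊥) ?_
  intro x _
  obtain ⟨y, hy⟩ := Submodule.mkQ_surjective _ (AdicCompletion.eval (maximalIdeal A) (Ω[A⁄k]) 1 x)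
  have h1 : x - AdicCompletion.of (maximalIdeal A) (Ω[A⁄k]) y ∈
      (maximalIdeal A ^ 1 • ⊤ : Submodule A (AdicCompletion (maximalIdeal A) (Ω[A⁄k]))) := by
    rw [AdicCompletion.pow_smul_top_eq_ker_eval hfg, LinearMap.mem_ker, map_sub,
      AdicCompletion.eval_of, hy, sub_self]
  rw [pow_one] at h1
  have := add_mem (Submodule.mem_sup_right h1)
    (Submodule.mem_sup_left (LinearMap.mem_range_self _ y) :
      AdicCompletion.of (maximalIdeal A) (Ω[A⁄k]) y ∈
        LinearMap.range (AdicCompletion.of (maximalIdeal A) (Ω[A⁄k])) ⊔
          (maximalIdeal A • ⊤ : Submodule A (AdicCompletion (maximalIdeal A) (Ω[A⁄k]))))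
  rwa [sub_add_cancel] at this

end main

/-- Let k be a field, A a complete Noetherian local k-algebra with maximal ideal m whose residue field
is a finite extension of k, p a prime ideal distinct from m, Ω̂ the completion of the module of
differentials of A over k, and M the least number of generators of the A_p-module Ω̂_p. Then for
every family x_1, …, x_M of elements of m not in p there are units u_1, …, u_M of A such that the
images in Ω̂_p of the differentials d(u_i x_i) generate Ω̂_p. -/
theorem result (k A : Type u) [Field k] [CommRing A]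
    [IsLocalRing A] [IsNoetherianRing A] [Algebra k A] [IsAdicComplete (IsLocalRing.maximalIdeal A) A]
    [Module.Finite k (IsLocalRing.ResidueField A)] (p : Ideal A) [p.IsPrime] (hp : p ≠ IsLocalRing.maximalIdeal A)
    (M : ℕ) (hgen : ∃ s : Fin M → (LocalizedModule p.primeCompl (AdicCompletion (IsLocalRing.maximalIdeal A) (KaehlerDifferential k A))), Submodule.span (Localization.AtPrime p) (Set.range s) = ⊤)
    (hmin : ∀ (s : Finset (LocalizedModule p.primeCompl (AdicCompletion (IsLocalRing.maximalIdeal A) (KaehlerDifferential k A)))), Submodule.span (Localization.AtPrime p) (↑s : Set (LocalizedModule p.primeCompl (AdicCompletion (IsLocalRing.maximalIdeal A) (KaehlerDifferential k A)))) = ⊤ → M ≤ s.card)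
    (x : Fin M → A) (hx : ∀ i, x i ∈ IsLocalRing.maximalIdeal A ∧ x i ∉ p) :
    ∃ u : Fin M → Aˣ, Submodule.span (Localization.AtPrime p)
      (Set.range (fun i => LocalizedModule.mkLinearMap p.primeCompl (AdicCompletion (IsLocalRing.maximalIdeal A) (KaehlerDifferential k A)) (AdicCompletion.of (IsLocalRing.maximalIdeal A) (KaehlerDifferential k A) (KaehlerDifferential.D k A ((u i : A) * x i))))) = ⊤ := by
  classical
  haveI hfinΩ := finite_Ωh k A
  -- notation
  set Ωh := AdicCompletion (maximalIdeal A) (KaehlerDifferential k A) with hΩh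
  set L := LocalizedModule p.primeCompl Ωh with hL
  set Ap := Localization.AtPrime p with hAp
  set κ := ResidueField Ap with hκ
  let g : A → L := fun a => LocalizedModule.mkLinearMap p.primeCompl Ωh
    (AdicCompletion.of (maximalIdeal A) (KaehlerDifferential k A) (KaehlerDifferential.D k A a))
  let δ : A → κ ⊗[Ap] L := fun a => (1 : κ) ⊗ₜ[Ap] g a
  let res : A →+* κ := (algebraMap Ap κ).comp (algebraMap A Ap)
  have hgspan : Submodule.span Ap (Set.range g) = ⊤ := by
    have := span_localized p.primeCompl _ (span_of_D k A)
    rw [← Set.range_comp] at this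
    exact this
  have hδspan : Submodule.span κ (Set.range δ) = ⊤ := by
    have := span_fibre (R := Ap) (Set.range g) hgspan
    rw [← Set.range_comp] at this
    exact this
  have hadd : ∀ a b, δ (a + b) = δ a + δ b := by
    intro a b
    simp only [δ, g, map_add, TensorProduct.tmul_add]
  have hmul : ∀ a b, δ (a * b) = res a • δ b + res b • δ a := by
    intro a b
    have h1 : g (a * b) = algebraMap A Ap a • g b + algebraMap A Ap b • g a := by
      simp only [g, Derivation.leibniz, map_add, map_smul, algebraMap_smul]
    have e : ∀ (r : Ap) (l : L), (1 : κ) ⊗ₜ[Ap] (r • l) =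
        algebraMap Ap κ r • ((1 : κ) ⊗ₜ[Ap] l) := by
      intro r l
      rw [TensorProduct.tmul_smul, algebraMap_smul]
    simp only [δ]
    rw [h1, TensorProduct.tmul_add, e, e]
    rfl
  -- an element of `m` outside `p`
  obtain ⟨z, hzm, hzp⟩ : ∃ z ∈ maximalIdeal A, z ∉ p := by
    by_contra hcon
    push Not at hcon
    exact hp (le_antisymm (IsLocalRing.le_maximalIdeal (Ideal.IsPrime.ne_top ‹_›)) hcon)
  have hres : ∀ a : A, a ∉ p → res a ≠ 0 := by
    intro a ha h0
    have h1 : algebraMap A Ap a ∈ maximalIdeal Ap := by
      rw [← IsLocalRing.residue_eq_zero_iff]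
      exact h0
    exact ha ((IsLocalization.AtPrime.to_map_mem_maximal_iff Ap p a).mp h1)
  -- dimension of the fibre
  haveI : Module.Finite Ap L := inferInstance
  haveI : Module.Finite κ (κ ⊗[Ap] L) := inferInstance
  have hfin : Module.finrank κ (κ ⊗[Ap] L) = M := by
    apply le_antisymm
    · obtain ⟨s, hs⟩ := hgen
      have h1 := span_fibre (R := Ap) (Set.range s) hs
      rw [← Set.range_comp] at h1
      have h2 := finrank_range_le_card (R := κ) ((fun l : L => (1 : κ) ⊗ₜ[Ap] l) ∘ s)
      rw [Set.finrank, h1, finrank_top, Fintype.card_fin] at h2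
      exact h2
    · set d := Module.finrank κ (κ ⊗[Ap] L) with hd
      let b := Module.finBasis κ (κ ⊗[Ap] L)
      choose f hf using fun j => mk_one_surjective (R := Ap) (M := L) (b j)
      have h1 : Submodule.span Ap (Set.range f) = ⊤ :=
        IsLocalRing.span_eq_top_of_tmul_eq_basis f b hf
      have h2 := hmin (Finset.univ.image f) (by
        rw [Finset.coe_image, Finset.coe_univ, Set.image_univ]; exact h1)
      calc M ≤ (Finset.univ.image f).card := h2
        _ ≤ (Finset.univ : Finset (Fin d)).card := Finset.card_image_le
        _ = d := by rw [Finset.card_univ, Fintype.card_fin]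
  obtain ⟨u, hu⟩ := Groth.Agent.H87.UnitsTrick.greedy res δ hadd hmul hδspan z hzm (hres z hzp)
    M hfin x (fun i => hres (x i) (hx i).2)
  refine ⟨u, ?_⟩
  have := span_eq_top_of_fibre (R := Ap) (M := L) (fun i => g ((u i : A) * x i)) hu
  exact this

end Groth.Agent.S5080
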