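import Groth.Statements.S4557
import Groth.Agent.H87.GenRankE
import Groth.Agent.H87.GenRankB
import Groth.Agent.S5991
import Groth.Agent.S5080
import Groth.Agent.H54.IntegralDim
import Groth.Agent.H61.ObsDimMain

set_option autoImplicit false
set_option maxHeartbeats 400000
universe u
open EGA41

namespace Groth.Agent.S4557


open IsLocalRing TensorProduct Polynomial

section sep

variable {R A : Type*} [CommRing R] [IsDomain R] [CommRing A] [IsDomain A] [Algebra R A]

theorem aeval_derivative_ne_zero (hinj : Function.Injective (algebraMap R A)) (a : A) (P : R[X])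
    (h0 : aeval a P = 0) (hs : (P.map (algebraMap R (FractionRing R))).Separable) :
    aeval a (derivative P) ≠ 0 := by
  intro h1
  let g : R →+* FractionRing A := (algebraMap A (FractionRing A)).comp (algebraMap R A)
  have hg : Function.Injective g := fun x y h =>
    hinj (IsFractionRing.injective A (FractionRing A) h)
  let φ : FractionRing R →+* FractionRing A := IsFractionRing.lift hg
  have hφ' : ∀ x, φ (algebraMap R (FractionRing R) x) = g x := fun x =>
    IsFractionRing.lift_algebraMap hg x
  have hφ : φ.comp (algebraMap R (FractionRing R)) = g := RingHom.ext hφ'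
  obtain ⟨u, v, huv⟩ := hs
  have h2 := congrArg (eval₂ φ (algebraMap A (FractionRing A) a)) huv
  rw [eval₂_add, eval₂_mul, eval₂_mul, eval₂_one, derivative_map, eval₂_map, eval₂_map, hφ] at h2
  have h3 : ∀ Q : R[X], eval₂ g (algebraMap A (FractionRing A) a) Q =
      algebraMap A (FractionRing A) (aeval a Q) := by
    intro Q
    rw [aeval_def, hom_eval₂]
  rw [h3, h3, h0, h1, map_zero, mul_zero, mul_zero, add_zero] at h2
  exact zero_ne_one h2

theorem exists_smul_eq_zero (hinj : Function.Injective (algebraMap R A))
    (hsep : ∀ a : A, ∃ P : R[X], aeval a P = 0 ∧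
      (P.map (algebraMap R (FractionRing R))).Separable) (y : Ω[A⁄R]) :
    ∃ s : A, s ≠ 0 ∧ s • y = 0 := by
  have hy : y ∈ Submodule.span A (Set.range (KaehlerDifferential.D R A)) := by
    rw [KaehlerDifferential.span_range_derivation]; trivial
  induction hy using Submodule.span_induction with
  | mem x hx =>
    obtain ⟨a, rfl⟩ := hx
    obtain ⟨P, h0, hs⟩ := hsep a
    refine ⟨aeval a (derivative P), aeval_derivative_ne_zero hinj a P h0 hs, ?_⟩
    rw [← Derivation.map_aeval, h0, map_zero]
  | zero => exact ⟨1, one_ne_zero, smul_zero _⟩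
  | add x y _ _ hx hy =>
    obtain ⟨s, hs, hsx⟩ := hx
    obtain ⟨t, ht, hty⟩ := hy
    refine ⟨s * t, mul_ne_zero hs ht, ?_⟩
    have e1 : (s * t) • x = 0 := by rw [mul_comm, mul_smul, hsx, smul_zero]
    have e2 : (s * t) • y = 0 := by rw [mul_smul, hty, smul_zero]
    rw [smul_add, e1, e2, add_zero]
  | smul a x _ hx =>
    obtain ⟨s, hs, hsx⟩ := hx
    exact ⟨s, hs, by rw [smul_comm, hsx, smul_zero]⟩

end sep

section gens

variable (k : Type u) [Field k] (r : ℕ) (A : Type u) [CommRing A] [IsLocalRing A]
  [Algebra (MvPowerSeries (Fin r) k) A] [IsLocalHom (algebraMap (MvPowerSeries (Fin r) k) A)]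

theorem mem_span_sup (x : A ⊗[MvPowerSeries (Fin r) k] Ω[MvPowerSeries (Fin r) k⁄k]) :
    x ∈ Submodule.span A (Set.range fun i : Fin r => (1 : A) ⊗ₜ[MvPowerSeries (Fin r) k]
        KaehlerDifferential.D k (MvPowerSeries (Fin r) k) (MvPowerSeries.X i)) ⊔
      (maximalIdeal A • ⊤ :
        Submodule A (A ⊗[MvPowerSeries (Fin r) k] Ω[MvPowerSeries (Fin r) k⁄k])) := by
  have hT : ∀ w : Ω[MvPowerSeries (Fin r) k⁄k], w ∈
      Submodule.span (MvPowerSeries (Fin r) k)
        (Set.range fun i : Fin r => KaehlerDifferential.D k (MvPowerSeries (Fin r) k)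
          (MvPowerSeries.X i)) ⊔
      (maximalIdeal (MvPowerSeries (Fin r) k) • ⊤ :
        Submodule (MvPowerSeries (Fin r) k) (Ω[MvPowerSeries (Fin r) k⁄k])) := by
    intro w
    have hw : w ∈ Submodule.span (MvPowerSeries (Fin r) k)
        (Set.range (KaehlerDifferential.D k (MvPowerSeries (Fin r) k))) := by
      rw [KaehlerDifferential.span_range_derivation]; trivial
    induction hw using Submodule.span_induction with
    | mem x hx =>
      obtain ⟨f, rfl⟩ := hx
      exact Groth.Agent.S2477.D_mem k r f
    | zero => exact zero_mem _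
    | add x y _ _ hx hy => exact add_mem hx hy
    | smul a x _ hx => exact Submodule.smul_mem _ _ hx
  have h1 : ∀ w : Ω[MvPowerSeries (Fin r) k⁄k], (1 : A) ⊗ₜ[MvPowerSeries (Fin r) k] w ∈
      Submodule.span A (Set.range fun i : Fin r => (1 : A) ⊗ₜ[MvPowerSeries (Fin r) k]
        KaehlerDifferential.D k (MvPowerSeries (Fin r) k) (MvPowerSeries.X i)) ⊔
      (maximalIdeal A • ⊤ :
        Submodule A (A ⊗[MvPowerSeries (Fin r) k] Ω[MvPowerSeries (Fin r) k⁄k])) := by
    intro w
    obtain ⟨w1, hw1, w2, hw2, rfl⟩ := Submodule.mem_sup.1 (hT w)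
    rw [TensorProduct.tmul_add]
    refine add_mem (Submodule.mem_sup_left ?_) (Submodule.mem_sup_right ?_)
    · induction hw1 using Submodule.span_induction with
      | mem x hx =>
        obtain ⟨i, rfl⟩ := hx
        exact Submodule.subset_span ⟨i, rfl⟩
      | zero => rw [TensorProduct.tmul_zero]; exact zero_mem _
      | add x y _ _ hx hy => rw [TensorProduct.tmul_add]; exact add_mem hx hy
      | smul a x _ hx =>
        rw [TensorProduct.tmul_smul, ← algebraMap_smul A a]
        exact Submodule.smul_mem _ _ hx
    · refine Submodule.smul_induction_on hw2 (fun μ hμ x _ => ?_) (fun x y hx hy => ?_)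
      · rw [TensorProduct.tmul_smul, ← algebraMap_smul A μ]
        refine Submodule.smul_mem_smul ?_ Submodule.mem_top
        exact _root_.map_nonunit (algebraMap (MvPowerSeries (Fin r) k) A) μ hμ
      · rw [TensorProduct.tmul_add]; exact add_mem hx hy
  induction x using TensorProduct.induction_on with
  | zero => exact zero_mem _
  | add x y hx hy => exact add_mem hx hy
  | tmul a w =>
    have : a ⊗ₜ[MvPowerSeries (Fin r) k] w = a • ((1 : A) ⊗ₜ[MvPowerSeries (Fin r) k] w) := by
      rw [TensorProduct.smul_tmul', smul_eq_mul, mul_one]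
    rw [this]
    exact Submodule.smul_mem _ _ (h1 w)

end gens

open IsLocalRing TensorProduct in
/-- Let A be a complete Noetherian local integral domain, A₀ a subring of A isomorphic to a power series
ring k[[T_1, …, T_r]] over a field k such that A is a finite A₀-algebra and the field of fractions E
of A is a separable extension of the field of fractions L₀ of A₀ (here: A₀ = k[[T]] → A injective
and finite, A a k-algebra through A₀, and every element of A is a root of a polynomial over A₀ which
is separable over L₀). Then rk_A Ω̂_{A/k} = rk_E (Ω̂_{A/k} ⊗_A E) = dim A = r, where Ω̂_{A/k} is the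
𝔪-adic completion of Ω_{A/k}; stated as dim_E (E ⊗_A Ω̂_{A/k}) = r. -/
theorem result (k : Type u) [Field k] (r : ℕ) (A : Type u) [CommRing A]
    [IsDomain A] [IsLocalRing A] [IsNoetherianRing A] [IsAdicComplete (maximalIdeal A) A]
    [Algebra (MvPowerSeries (Fin r) k) A] [Algebra k A] [IsScalarTower k (MvPowerSeries (Fin r) k) A]
    (hinj : Function.Injective (algebraMap (MvPowerSeries (Fin r) k) A)) [Module.Finite (MvPowerSeries (Fin r) k) A]
    (hsep : ∀ a : A, ∃ P : Polynomial (MvPowerSeries (Fin r) k), Polynomial.aeval a P = 0 ∧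
      (P.map (algebraMap (MvPowerSeries (Fin r) k) (FractionRing (MvPowerSeries (Fin r) k)))).Separable) :
    Module.finrank (FractionRing A) (FractionRing A ⊗[A] AdicCompletion (maximalIdeal A) (Ω[A⁄k])) = r := by
  classical
  haveI : IsDomain (MvPowerSeries (Fin r) k) := NoZeroDivisors.to_isDomain _
  haveI : FaithfulSMul (MvPowerSeries (Fin r) k) A :=
    (faithfulSMul_iff_algebraMap_injective (MvPowerSeries (Fin r) k) A).mpr hinj
  haveI : Algebra.IsIntegral (MvPowerSeries (Fin r) k) A := inferInstance
  haveI : IsLocalHom (algebraMap (MvPowerSeries (Fin r) k) A) := inferInstance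
  haveI : Module.Finite k (ResidueField A) := Groth.Agent.H87.GenRankE.finite_residueField k r A
  have hdim : ringKrullDim A = (r : WithBot ℕ∞) := by
    rw [Groth.Agent.H54.ringKrullDim_eq_of_ringHom_isIntegral_of_injective
      (algebraMap (MvPowerSeries (Fin r) k) A) (algebraMap_isIntegral_iff.mpr inferInstance) hinj,
      Groth.Agent.H61.Obs.ps_dim_eq]
  haveI : Module.Finite A (AdicCompletion (maximalIdeal A) (Ω[A⁄k])) :=
    Groth.Agent.S5080.finite_Ωh k A
  -- lower bound
  have hlow : r ≤ Module.finrank (FractionRing A)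
      (FractionRing A ⊗[A] AdicCompletion (maximalIdeal A) (Ω[A⁄k])) := by
    obtain ⟨D, L, hLfg, hDL, hspan⟩ :=
      Groth.Agent.H87.GenRankB.exists_derivations k A (FractionRing A) r hdim
    obtain ⟨Φ, hΦ⟩ :=
      Groth.Agent.H87.GenRankE.exists_Phi_of_derivations k A (FractionRing A) r D L hLfg hDL
    have hΨ : Function.Surjective (Φ.liftBaseChange (FractionRing A)) := by
      rw [← LinearMap.range_eq_top, eq_top_iff, ← hspan, Submodule.span_le]
      rintro _ ⟨a, rfl⟩
      refine ⟨(1 : FractionRing A) ⊗ₜ[A] AdicCompletion.of (maximalIdeal A) (Ω[A⁄k])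
        (KaehlerDifferential.D k A a), ?_⟩
      rw [LinearMap.liftBaseChange_one_tmul, hΦ]
    have := LinearMap.finrank_le_finrank_of_surjective hΨ
    rwa [Module.finrank_fin_fun] at this
  -- upper bound
  have hup : Module.finrank (FractionRing A)
      (FractionRing A ⊗[A] AdicCompletion (maximalIdeal A) (Ω[A⁄k])) ≤ r := by
    haveI := Groth.Agent.H61.Obs.ps_isRegularLocalRing (k := k) r
    haveI : IsNoetherianRing (MvPowerSeries (Fin r) k) := inferInstance
    haveI : IsAdicComplete (maximalIdeal (MvPowerSeries (Fin r) k)) (MvPowerSeries (Fin r) k) :=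
      Groth.Agent.H61.PS.isAdicComplete
    haveI : Module.Finite (ResidueField A) (Ω[ResidueField A⁄k]) := inferInstance
    obtain ⟨hcompl, hsurj, hex⟩ := Groth.Agent.S5991.result k (MvPowerSeries (Fin r) k) A
    have hgen := Groth.Agent.H87.GenRankE.span_of_eq_top (maximalIdeal A)
      (maximalIdeal A).fg_of_isNoetherianRing _ (mem_span_sup k r A)
    set fh := (AdicCompletion.map (maximalIdeal A)
      (KaehlerDifferential.mapBaseChange k (MvPowerSeries (Fin r) k) A)).restrictScalars A with hfh
    set gh := (AdicCompletion.map (maximalIdeal A)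
      (KaehlerDifferential.map k (MvPowerSeries (Fin r) k) A A)).restrictScalars A with hgh
    let v : Fin r → FractionRing A ⊗[A] AdicCompletion (maximalIdeal A) (Ω[A⁄k]) := fun i =>
      (1 : FractionRing A) ⊗ₜ[A] fh (AdicCompletion.of (maximalIdeal A) _
        ((1 : A) ⊗ₜ[MvPowerSeries (Fin r) k]
          KaehlerDifferential.D k (MvPowerSeries (Fin r) k) (MvPowerSeries.X i)))
    have hz : ∀ z, (1 : FractionRing A) ⊗ₜ[A] fh z ∈ Submodule.span (FractionRing A) (Set.range v) := by
      intro z
      have hz' : z ∈ Submodule.span A (Set.range fun i : Fin r =>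
          AdicCompletion.of (maximalIdeal A) _ ((1 : A) ⊗ₜ[MvPowerSeries (Fin r) k]
            KaehlerDifferential.D k (MvPowerSeries (Fin r) k) (MvPowerSeries.X i))) := by
        rw [hgen]; trivial
      induction hz' using Submodule.span_induction with
      | mem x hx =>
        obtain ⟨i, rfl⟩ := hx
        exact Submodule.subset_span ⟨i, rfl⟩
      | zero => rw [map_zero, TensorProduct.tmul_zero]; exact zero_mem _
      | add x y _ _ hx hy => rw [map_add, TensorProduct.tmul_add]; exact add_mem hx hy
      | smul a x _ hx =>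
        rw [map_smul, TensorProduct.tmul_smul, ← algebraMap_smul (FractionRing A) a]
        exact Submodule.smul_mem _ _ hx
    have hv : Submodule.span (FractionRing A) (Set.range v) = ⊤ := by
      rw [eq_top_iff]
      rintro x -
      induction x using TensorProduct.induction_on with
      | zero => exact zero_mem _
      | add x y hx hy => exact add_mem hx hy
      | tmul c m =>
        obtain ⟨y, hy⟩ := (AdicCompletion.ofLinearEquiv (maximalIdeal A)
          (Ω[A⁄MvPowerSeries (Fin r) k])).surjective (gh m)
        obtain ⟨s, hs, hsy⟩ := exists_smul_eq_zero hinj hsep y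
        have h1 : gh (s • m) = 0 := by
          rw [map_smul, ← hy, ← map_smul, hsy, map_zero]
        have h2 : s • m ∈ LinearMap.range (AdicCompletion.map (maximalIdeal A)
            (KaehlerDifferential.mapBaseChange k (MvPowerSeries (Fin r) k) A)) := by
          rw [hex]; exact h1
        obtain ⟨z, hz1⟩ := h2
        have h3 := hz z
        have h4 : fh z = s • m := hz1
        rw [h4] at h3
        have hs' : algebraMap A (FractionRing A) s ≠ 0 := by
          intro h0
          exact hs ((IsFractionRing.injective A (FractionRing A)) (by rw [h0, map_zero]))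
        have h5 : c ⊗ₜ[A] m = (c * (algebraMap A (FractionRing A) s)⁻¹) •
            ((1 : FractionRing A) ⊗ₜ[A] (s • m)) := by
          rw [TensorProduct.tmul_smul, ← algebraMap_smul (FractionRing A) s, smul_smul,
            mul_assoc, inv_mul_cancel₀ hs', mul_one, TensorProduct.smul_tmul', smul_eq_mul, mul_one]
        rw [h5]
        exact Submodule.smul_mem _ _ h3
    have h6 := finrank_range_le_card (R := FractionRing A) v
    rw [Set.finrank, hv, finrank_top, Fintype.card_fin] at h6
    exact h6
  omega

end Groth.Agent.S4557
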