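import Groth.Statements.S12815
import Mathlib

set_option autoImplicit false
open CategoryTheory
universe v u
open Stk

namespace Groth.Agent.S12815

universe w₃ w₄

section Gen
variable {C : Type u} [Category.{v} C]

section Helpers
variable {ℬ : Type w₃} [Category.{w₄} ℬ] (p : ℬ ⥤ C)

theorem sc_of_isHomLift (h : FibCat.IsFibGrpd p) {R S : C} (f : R ⟶ S) {a b : ℬ} (φ : a ⟶ b)
    (hφ : p.IsHomLift f φ) : p.IsStronglyCartesian f φ := by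
  subst_hom_lift p f φ
  exact h.isStronglyCartesian φ

theorem sc_ext {R S : C} {a b : ℬ} (f : R ⟶ S) (φ : a ⟶ b) (hsc : p.IsStronglyCartesian f φ)
    {R' : C} {a' : ℬ} (g : R' ⟶ R) (ψ ψ' : a' ⟶ a) (h1 : p.IsHomLift g ψ) (h2 : p.IsHomLift g ψ')
    (h : ψ ≫ φ = ψ' ≫ φ) : ψ = ψ' :=
  Functor.IsStronglyCartesian.ext p f φ g h

theorem sc_exists {R S : C} {a b : ℬ} (f : R ⟶ S) (φ : a ⟶ b) (hsc : p.IsStronglyCartesian f φ)
    {a' : ℬ} (φ' : a' ⟶ b) (h : p.IsHomLift f φ') :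
    ∃ χ : a' ⟶ a, p.IsHomLift (𝟙 R) χ ∧ χ ≫ φ = φ' :=
  ⟨Functor.IsStronglyCartesian.map p f φ (Category.id_comp f).symm φ',
    Functor.IsStronglyCartesian.map_isHomLift p f φ (Category.id_comp f).symm φ',
    Functor.IsStronglyCartesian.fac p f φ (Category.id_comp f).symm φ'⟩

theorem lift_comp_id_right {S T : C} (f : S ⟶ T) {a b c : ℬ} (φ : a ⟶ b) (ψ : b ⟶ c)
    (h1 : p.IsHomLift f φ) (h2 : p.IsHomLift (𝟙 T) ψ) : p.IsHomLift f (φ ≫ ψ) := inferInstance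

theorem lift_comp_id_left {S T : C} (f : S ⟶ T) {a b c : ℬ} (φ : a ⟶ b) (ψ : b ⟶ c)
    (h1 : p.IsHomLift (𝟙 S) φ) (h2 : p.IsHomLift f ψ) : p.IsHomLift f (φ ≫ ψ) := inferInstance

theorem lift_id_comp (S : C) {a b c : ℬ} (φ : a ⟶ b) (ψ : b ⟶ c)
    (h1 : p.IsHomLift (𝟙 S) φ) (h2 : p.IsHomLift (𝟙 S) ψ) : p.IsHomLift (𝟙 S) (φ ≫ ψ) :=
  inferInstance

end Helpers

section Chains
variable {𝒟 : Type w₃} [Category.{w₄} 𝒟]

theorem chainE {X₁ Y₁ Z₁ W₁ X₂ Y₂ Z₂ W₂ : 𝒟} (A₁ : X₁ ⟶ Y₁) (J₁ : Y₁ ⟶ Z₁) (I₁ : X₁ ⟶ W₁)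
    (T₁ : W₁ ⟶ Z₁) (δt : Z₁ ⟶ Z₂) (δg : W₁ ⟶ W₂) (γb : X₁ ⟶ X₂) (I₂ : X₂ ⟶ W₂) (T₂ : W₂ ⟶ Z₂)
    (A₂ : X₂ ⟶ Y₂) (J₂ : Y₂ ⟶ Z₂) (J₂' : Z₂ ⟶ Y₂)
    (E1 : A₁ ≫ J₁ = I₁ ≫ T₁) (E2 : A₂ ≫ J₂ = I₂ ≫ T₂) (f2 : T₁ ≫ δt = δg ≫ T₂)
    (f3 : I₁ ≫ δg = γb ≫ I₂) (hJ : J₂ ≫ J₂' = 𝟙 _) :
    A₁ ≫ J₁ ≫ δt ≫ J₂' = γb ≫ A₂ := by
  calc A₁ ≫ J₁ ≫ δt ≫ J₂' = (A₁ ≫ J₁) ≫ δt ≫ J₂' := by simp only [Category.assoc]
    _ = (I₁ ≫ T₁) ≫ δt ≫ J₂' := by rw [E1]
    _ = I₁ ≫ (T₁ ≫ δt) ≫ J₂' := by simp only [Category.assoc]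
    _ = I₁ ≫ (δg ≫ T₂) ≫ J₂' := by rw [f2]
    _ = (I₁ ≫ δg) ≫ T₂ ≫ J₂' := by simp only [Category.assoc]
    _ = (γb ≫ I₂) ≫ T₂ ≫ J₂' := by rw [f3]
    _ = γb ≫ (I₂ ≫ T₂) ≫ J₂' := by simp only [Category.assoc]
    _ = γb ≫ (A₂ ≫ J₂) ≫ J₂' := by rw [E2]
    _ = γb ≫ A₂ ≫ (J₂ ≫ J₂') := by simp only [Category.assoc]
    _ = γb ≫ A₂ := by rw [hJ, Category.comp_id]

theorem chainU {W₁ Z₁ Y₁ Y₂ Z₂ W₂ X₂ : 𝒟} (T₁ : W₁ ⟶ Z₁) (J₁ : Z₁ ⟶ Y₁) (ζ : Y₁ ⟶ Y₂)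
    (J₂ : Y₂ ⟶ Z₂) (εt : Z₁ ⟶ Z₂) (εg : W₁ ⟶ W₂) (T₂ : W₂ ⟶ Z₂) (M₁ : W₁ ⟶ Y₁) (γb : W₁ ⟶ X₂)
    (M₂ : X₂ ⟶ Y₂)
    (n : T₁ ≫ εt = εg ≫ T₂) (hε : εt = J₁ ≫ ζ ≫ J₂) (hM : M₁ = T₁ ≫ J₁)
    (p : M₁ ≫ ζ = γb ≫ M₂) :
    εg ≫ T₂ = γb ≫ M₂ ≫ J₂ := by
  calc εg ≫ T₂ = T₁ ≫ εt := n.symm
    _ = T₁ ≫ J₁ ≫ ζ ≫ J₂ := by rw [hε]
    _ = ((T₁ ≫ J₁) ≫ ζ) ≫ J₂ := by simp only [Category.assoc]
    _ = (M₁ ≫ ζ) ≫ J₂ := by rw [hM]
    _ = (γb ≫ M₂) ≫ J₂ := by rw [p]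
    _ = γb ≫ M₂ ≫ J₂ := by simp only [Category.assoc]

theorem chainN {X Y₁' Y₂' Y₁ Y₂ X₂ : 𝒟} (M₁ : X ⟶ Y₁') (ζ : Y₁' ⟶ Y₂') (H₂ : Y₂' ⟶ Y₂)
    (H₁ : Y₁' ⟶ Y₁) (ξa : Y₁ ⟶ Y₂) (γb : X ⟶ X₂) (M₂ : X₂ ⟶ Y₂') (MH₁ : X ⟶ Y₁) (MH₂ : X₂ ⟶ Y₂)
    (hζ : ζ ≫ H₂ = H₁ ≫ ξa) (c1 : MH₁ = M₁ ≫ H₁) (c2 : MH₂ = M₂ ≫ H₂)
    (p : MH₁ ≫ ξa = γb ≫ MH₂) :
    (M₁ ≫ ζ) ≫ H₂ = (γb ≫ M₂) ≫ H₂ := by
  calc (M₁ ≫ ζ) ≫ H₂ = M₁ ≫ ζ ≫ H₂ := by simp only [Category.assoc]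
    _ = M₁ ≫ H₁ ≫ ξa := by rw [hζ]
    _ = (M₁ ≫ H₁) ≫ ξa := by simp only [Category.assoc]
    _ = MH₁ ≫ ξa := by rw [c1]
    _ = γb ≫ MH₂ := p
    _ = γb ≫ M₂ ≫ H₂ := by rw [c2]
    _ = (γb ≫ M₂) ≫ H₂ := by simp only [Category.assoc]

theorem chainNat {A B A' B' T X : 𝒟} (K₁k : A ⟶ A') (d' : A' ⟶ B') (T' : B' ⟶ T)
    (d : A ⟶ B) (K₂k : B ⟶ B') (t1' : A' ⟶ X) (ξ : X ⟶ T) (t1 : A ⟶ X) (T0 : B ⟶ T)
    (h' : d' ≫ T' = t1' ≫ ξ) (h : d ≫ T0 = t1 ≫ ξ) (c1 : K₁k ≫ t1' = t1) (c2 : K₂k ≫ T' = T0) :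
    (K₁k ≫ d') ≫ T' = (d ≫ K₂k) ≫ T' := by
  rw [Category.assoc, h', ← Category.assoc, c1, Category.assoc, c2, h]

end Chains

variable {𝒳 : BasedCategory.{v, max u v} C}

/-- the morphism to the terminal object of `Over V` -/
def tau {V : C} (g : Over V) : g ⟶ Over.mk (𝟙 V) := Over.homMk g.hom (by simp)

theorem tau_lift {V : C} (K : FibCat.overCat V ⥤ᵇ 𝒳) (g : Over V) :
    𝒳.p.IsHomLift g.hom (K.map (tau g)) := by
  haveI : (FibCat.overCat V).p.IsHomLift g.hom (tau g) := IsHomLift.map (Over.forget V) (tau g)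
  infer_instance

theorem comp_tau {V : C} {g g' : Over V} (k : g ⟶ g') : k ≫ tau g' = tau g :=
  Over.OverMorphism.ext (Over.w k)

theorem map_lift {V : C} (K : FibCat.overCat V ⥤ᵇ 𝒳) {g g' : Over V} (k : g ⟶ g') :
    𝒳.p.IsHomLift k.left (K.map k) := by
  haveI : (FibCat.overCat V).p.IsHomLift k.left k := IsHomLift.map (Over.forget V) k
  infer_instance

theorem exists_ext (h𝒳 : FibCat.IsFibGrpd 𝒳.p) {V : C} (K₁ K₂ : FibCat.overCat V ⥤ᵇ 𝒳)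
    (ξ : K₁.obj (Over.mk (𝟙 V)) ⟶ K₂.obj (Over.mk (𝟙 V))) (hξ : 𝒳.p.IsHomLift (𝟙 V) ξ) :
    ∃ δ : K₁ ⟶ K₂, δ.toNatTrans.app (Over.mk (𝟙 V)) = ξ := by
  have hsc : ∀ g : Over V, 𝒳.p.IsStronglyCartesian g.hom (K₂.map (tau g)) := fun g =>
    sc_of_isHomLift 𝒳.p h𝒳 _ _ (tau_lift K₂ g)
  have hd : ∀ g : Over V, ∃ d : K₁.obj g ⟶ K₂.obj g, 𝒳.p.IsHomLift (𝟙 g.left) d ∧
      d ≫ K₂.map (tau g) = K₁.map (tau g) ≫ ξ := fun g =>
    sc_exists 𝒳.p g.hom (K₂.map (tau g)) (hsc g) (K₁.map (tau g) ≫ ξ)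
      (lift_comp_id_right 𝒳.p g.hom _ _ (tau_lift K₁ g) hξ)
  choose d hd1 hd2 using hd
  have nat : ∀ {g g' : Over V} (k : g ⟶ g'), K₁.map k ≫ d g' = d g ≫ K₂.map k :=
    fun {g g'} k => by
    refine sc_ext 𝒳.p g'.hom (K₂.map (tau g')) (hsc g') k.left _ _
      (lift_comp_id_right 𝒳.p k.left _ _ (map_lift K₁ k) (hd1 g'))
      (lift_comp_id_left 𝒳.p k.left _ _ (hd1 g) (map_lift K₂ k)) ?_
    have c1 : K₁.map k ≫ K₁.map (tau g') = K₁.map (tau g) :=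
      (K₁.toFunctor.map_comp k (tau g')).symm.trans
        (congrArg (fun x => K₁.toFunctor.map x) (comp_tau k))
    have c2 : K₂.map k ≫ K₂.map (tau g') = K₂.map (tau g) :=
      (K₂.toFunctor.map_comp k (tau g')).symm.trans
        (congrArg (fun x => K₂.toFunctor.map x) (comp_tau k))
    exact chainNat (K₁.map k) (d g') (K₂.map (tau g')) (d g) (K₂.map k) (K₁.map (tau g')) ξ
      (K₁.map (tau g)) (K₂.map (tau g)) (hd2 g') (hd2 g) c1 c2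
  refine ⟨{ toNatTrans := { app := d, naturality := fun g g' k => nat k },
            isHomLift' := fun g => hd1 g }, ?_⟩
  have h1 : tau (Over.mk (𝟙 V)) = 𝟙 (Over.mk (𝟙 V)) := Over.OverMorphism.ext rfl
  have h2 := hd2 (Over.mk (𝟙 V))
  have m1 : K₁.map (tau (Over.mk (𝟙 V))) = 𝟙 _ :=
    (congrArg (fun x => K₁.toFunctor.map x) h1).trans (K₁.toFunctor.map_id _)
  have m2 : K₂.map (tau (Over.mk (𝟙 V))) = 𝟙 _ :=
    (congrArg (fun x => K₂.toFunctor.map x) h1).trans (K₂.toFunctor.map_id _)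
  exact (Category.comp_id _).symm.trans
    ((congrArg (fun x => d (Over.mk (𝟙 V)) ≫ x) m2.symm).trans
      (h2.trans ((congrArg (fun x => x ≫ ξ) m1).trans (Category.id_comp _))))

variable {U : C}

/-- composition with the arrow `a` of the sieve `R` -/
def cFun (R : Sieve U) (a : R.arrows.category) : Over a.obj.left ⥤ R.arrows.category :=
  ObjectProperty.lift _ (Over.map a.obj.hom) (fun g => R.downward_closed a.property g.hom)

/-- `cFun` as a functor over `C` -/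
def cB (R : Sieve U) (a : R.arrows.category) : FibCat.overCat a.obj.left ⥤ᵇ Stk.sieveCat R where
  toFunctor := cFun R a
  w := rfl

/-- `cFun` on the pulled back sieve -/
def cFunS (S : Sieve U) {R : Sieve U} (a : R.arrows.category) :
    (S.pullback a.obj.hom).arrows.category ⥤ S.arrows.category :=
  ObjectProperty.lift _ (ObjectProperty.ι _ ⋙ Over.map a.obj.hom) (fun b => b.property)

/-- `cFunS` as a functor over `C` -/
def cBS (S : Sieve U) {R : Sieve U} (a : R.arrows.category) :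
    Stk.sieveCat (S.pullback a.obj.hom) ⥤ᵇ Stk.sieveCat S where
  toFunctor := cFunS S a
  w := rfl

/-- the inclusion of a smaller sieve -/
def inclSR {S R : Sieve U} (hSR : S ≤ R) : Stk.sieveCat S ⥤ᵇ Stk.sieveCat R where
  toFunctor := ObjectProperty.ιOfLE (fun g hg => hSR g.hom hg)
  w := rfl

/-- `a` is isomorphic to the image of the terminal object -/
def jIso (R : Sieve U) (a : R.arrows.category) :
    (cFun R a).obj (Over.mk (𝟙 a.obj.left)) ≅ a :=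
  ObjectProperty.isoMk _ (Over.isoMk (Iso.refl _) (by rfl))

theorem homR_ext {R : Sieve U} {a b : R.arrows.category} (m m' : a ⟶ b)
    (h : m.hom.left = m'.hom.left) : m = m' := by
  apply ObjectProperty.hom_ext
  exact Over.OverMorphism.ext h

theorem lift_map {R : Sieve U} (G : Stk.sieveCat R ⥤ᵇ 𝒳) {a b : R.arrows.category} (m : a ⟶ b) :
    𝒳.p.IsHomLift m.hom.left (G.map m) := by
  haveI : (Stk.sieveCat R).p.IsHomLift m.hom.left m := IsHomLift.map (Stk.sieveCat R).p m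
  infer_instance

theorem faithful_SR {S R : Sieve U} (hSR : S ≤ R)
    (hR : ∀ ⦃V : C⦄ (f : V ⟶ U), R f → Stk.IsPrestackFor (S.pullback f) 𝒳)
    {G₁ G₂ : Stk.sieveCat R ⥤ᵇ 𝒳} (α β : G₁ ⟶ G₂)
    (h : ∀ b : S.arrows.category, α.toNatTrans.app ((inclSR hSR).obj b) =
      β.toNatTrans.app ((inclSR hSR).obj b)) :
    α = β := by
  apply BasedNatTrans.homCategory.ext
  ext a
  obtain ⟨hfull, hfaith⟩ := hR a.obj.hom a.property
  haveI := hfaith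
  have key : (Stk.resSieve (S.pullback a.obj.hom) 𝒳).map (BasedCategory.whiskerLeft (cB R a) α) =
      (Stk.resSieve (S.pullback a.obj.hom) 𝒳).map (BasedCategory.whiskerLeft (cB R a) β) := by
    apply BasedNatTrans.homCategory.ext
    ext b
    exact h ((cFunS S a).obj b)
  have key2 := (Stk.resSieve (S.pullback a.obj.hom) 𝒳).map_injective key
  have e0 : α.toNatTrans.app ((cFun R a).obj (Over.mk (𝟙 a.obj.left))) =
      β.toNatTrans.app ((cFun R a).obj (Over.mk (𝟙 a.obj.left))) :=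
    congrArg (fun ε => ε.toNatTrans.app (Over.mk (𝟙 a.obj.left))) key2
  have n1 : G₁.map (jIso R a).hom ≫ α.toNatTrans.app a =
      α.toNatTrans.app ((cFun R a).obj (Over.mk (𝟙 a.obj.left))) ≫ G₂.map (jIso R a).hom :=
    α.toNatTrans.naturality (jIso R a).hom
  have n2 : G₁.map (jIso R a).hom ≫ β.toNatTrans.app a =
      β.toNatTrans.app ((cFun R a).obj (Over.mk (𝟙 a.obj.left))) ≫ G₂.map (jIso R a).hom :=
    β.toNatTrans.naturality (jIso R a).hom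
  have e1 : G₁.map (jIso R a).hom ≫ α.toNatTrans.app a =
      G₁.map (jIso R a).hom ≫ β.toNatTrans.app a :=
    n1.trans ((congrArg (fun x => x ≫ G₂.map (jIso R a).hom) e0).trans n2.symm)
  exact (cancel_epi (G₁.map (jIso R a).hom)).1 e1

/-- the characterising property of the extension at `a` -/
def PSR {S R : Sieve U} (hSR : S ≤ R) {G₁ G₂ : Stk.sieveCat R ⥤ᵇ 𝒳}
    (γ : BasedFunctor.comp (inclSR hSR) G₁ ⟶ BasedFunctor.comp (inclSR hSR) G₂)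
    (a : R.arrows.category) (ξ : G₁.obj a ⟶ G₂.obj a) : Prop :=
  𝒳.p.IsHomLift (𝟙 a.obj.left) ξ ∧ ∀ (b : S.arrows.category) (m : (inclSR hSR).obj b ⟶ a),
    G₁.map m ≫ ξ = γ.toNatTrans.app b ≫ G₂.map m

theorem PSR_unique (h𝒳 : FibCat.IsFibGrpd 𝒳.p) {S R : Sieve U} (hSR : S ≤ R)
    (hR : ∀ ⦃V : C⦄ (f : V ⟶ U), R f → Stk.IsPrestackFor (S.pullback f) 𝒳)
    {G₁ G₂ : Stk.sieveCat R ⥤ᵇ 𝒳}
    (γ : BasedFunctor.comp (inclSR hSR) G₁ ⟶ BasedFunctor.comp (inclSR hSR) G₂)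
    (a : R.arrows.category) (ξ ξ' : G₁.obj a ⟶ G₂.obj a)
    (h : PSR hSR γ a ξ) (h' : PSR hSR γ a ξ') : ξ = ξ' := by
  obtain ⟨hfull, hfaith⟩ := hR a.obj.hom a.property
  haveI := hfaith
  have hJ1 : ∀ G : Stk.sieveCat R ⥤ᵇ 𝒳, 𝒳.p.IsHomLift (𝟙 a.obj.left) (G.map (jIso R a).hom) :=
    fun G => lift_map G (jIso R a).hom
  have hJ2 : ∀ G : Stk.sieveCat R ⥤ᵇ 𝒳, 𝒳.p.IsHomLift (𝟙 a.obj.left) (G.map (jIso R a).inv) :=
    fun G => lift_map G (jIso R a).inv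
  have conj : ∀ ζ : G₁.obj a ⟶ G₂.obj a, 𝒳.p.IsHomLift (𝟙 a.obj.left) ζ →
      𝒳.p.IsHomLift (𝟙 a.obj.left) (G₁.map (jIso R a).hom ≫ ζ ≫ G₂.map (jIso R a).inv) :=
    fun ζ hζ => lift_id_comp 𝒳.p _ _ _ (hJ1 G₁) (lift_id_comp 𝒳.p _ _ _ hζ (hJ2 G₂))
  obtain ⟨h1, h2⟩ := h
  obtain ⟨h1', h2'⟩ := h'
  obtain ⟨δ, hδ⟩ := exists_ext h𝒳 (BasedFunctor.comp (cB R a) G₁) (BasedFunctor.comp (cB R a) G₂)
    (G₁.map (jIso R a).hom ≫ ξ ≫ G₂.map (jIso R a).inv) (conj ξ h1)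
  obtain ⟨δ', hδ'⟩ := exists_ext h𝒳 (BasedFunctor.comp (cB R a) G₁)
    (BasedFunctor.comp (cB R a) G₂)
    (G₁.map (jIso R a).hom ≫ ξ' ≫ G₂.map (jIso R a).inv) (conj ξ' h1')
  have main : ∀ (ζ : G₁.obj a ⟶ G₂.obj a)
      (hζ : ∀ (b : S.arrows.category) (m : (inclSR hSR).obj b ⟶ a),
        G₁.map m ≫ ζ = γ.toNatTrans.app b ≫ G₂.map m)
      (ε : BasedFunctor.comp (cB R a) G₁ ⟶ BasedFunctor.comp (cB R a) G₂)
      (hε : ε.toNatTrans.app (Over.mk (𝟙 a.obj.left)) =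
        G₁.map (jIso R a).hom ≫ ζ ≫ G₂.map (jIso R a).inv)
      (b : (S.pullback a.obj.hom).arrows.category),
      ε.toNatTrans.app b.obj ≫ G₂.map ((cFun R a).map (tau b.obj)) =
        γ.toNatTrans.app ((cFunS S a).obj b) ≫
          G₂.map ((cFun R a).map (tau b.obj) ≫ (jIso R a).hom) ≫ G₂.map (jIso R a).inv := by
    intro ζ hζ ε hε b
    exact chainU (G₁.map ((cFun R a).map (tau b.obj))) (G₁.map (jIso R a).hom) ζ
      (G₂.map (jIso R a).inv)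
      (ε.toNatTrans.app (Over.mk (𝟙 a.obj.left))) (ε.toNatTrans.app b.obj)
      (G₂.map ((cFun R a).map (tau b.obj)))
      (G₁.map ((cFun R a).map (tau b.obj) ≫ (jIso R a).hom))
      (γ.toNatTrans.app ((cFunS S a).obj b))
      (G₂.map ((cFun R a).map (tau b.obj) ≫ (jIso R a).hom))
      (ε.toNatTrans.naturality (tau b.obj)) hε
      (G₁.toFunctor.map_comp _ _)
      (hζ ((cFunS S a).obj b) ((cFun R a).map (tau b.obj) ≫ (jIso R a).hom))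
  have hsc : ∀ b : (S.pullback a.obj.hom).arrows.category,
      𝒳.p.IsStronglyCartesian b.obj.hom (G₂.map ((cFun R a).map (tau b.obj))) := fun b =>
    sc_of_isHomLift 𝒳.p h𝒳 _ _ (tau_lift (BasedFunctor.comp (cB R a) G₂) b.obj)
  have key : (Stk.resSieve (S.pullback a.obj.hom) 𝒳).map δ =
      (Stk.resSieve (S.pullback a.obj.hom) 𝒳).map δ' := by
    apply BasedNatTrans.homCategory.ext
    ext b
    exact sc_ext 𝒳.p b.obj.hom (G₂.map ((cFun R a).map (tau b.obj))) (hsc b) (𝟙 b.obj.left)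
      (δ.toNatTrans.app b.obj) (δ'.toNatTrans.app b.obj) (δ.isHomLift' b.obj)
      (δ'.isHomLift' b.obj) ((main ξ h2 δ hδ b).trans (main ξ' h2' δ' hδ' b).symm)
  have key2 := (Stk.resSieve (S.pullback a.obj.hom) 𝒳).map_injective key
  have e0 : G₁.map (jIso R a).hom ≫ ξ ≫ G₂.map (jIso R a).inv =
      G₁.map (jIso R a).hom ≫ ξ' ≫ G₂.map (jIso R a).inv :=
    hδ.symm.trans ((congrArg (fun ε => ε.toNatTrans.app (Over.mk (𝟙 a.obj.left))) key2).trans hδ')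
  have e1 := (cancel_epi (G₁.map (jIso R a).hom)).1 e0
  exact (cancel_mono (G₂.map (jIso R a).inv)).1 e1

theorem PSR_exists {S R : Sieve U} (hSR : S ≤ R)
    (hR : ∀ ⦃V : C⦄ (f : V ⟶ U), R f → Stk.IsPrestackFor (S.pullback f) 𝒳)
    {G₁ G₂ : Stk.sieveCat R ⥤ᵇ 𝒳}
    (γ : BasedFunctor.comp (inclSR hSR) G₁ ⟶ BasedFunctor.comp (inclSR hSR) G₂)
    (a : R.arrows.category) : ∃ ξ : G₁.obj a ⟶ G₂.obj a, PSR hSR γ a ξ := by
  obtain ⟨hfull, hfaith⟩ := hR a.obj.hom a.property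
  haveI := hfull
  obtain ⟨δ, hδ⟩ := (Stk.resSieve (S.pullback a.obj.hom) 𝒳).map_surjective
    (X := BasedFunctor.comp (cB R a) G₁) (Y := BasedFunctor.comp (cB R a) G₂)
    (BasedCategory.whiskerLeft (cBS S a) γ)
  refine ⟨G₁.map (jIso R a).inv ≫ δ.toNatTrans.app (Over.mk (𝟙 a.obj.left)) ≫
    G₂.map (jIso R a).hom, And.intro ?_ ?_⟩
  · exact lift_id_comp 𝒳.p _ _ _ (lift_map G₁ (jIso R a).inv)
      (lift_id_comp 𝒳.p _ _ _ (δ.isHomLift' (Over.mk (𝟙 a.obj.left)))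
        (lift_map G₂ (jIso R a).hom))
  · intro b m
    have hw : m.hom.left ≫ a.obj.hom = b.obj.hom := Over.w m.hom
    have hg : (S.pullback a.obj.hom).arrows (Over.mk m.hom.left).hom := by
      show S.arrows (m.hom.left ≫ a.obj.hom)
      rw [hw]; exact b.property
    let bg : (S.pullback a.obj.hom).arrows.category := ⟨Over.mk m.hom.left, hg⟩
    have hw' : (Iso.refl b.obj.left).hom ≫ b.obj.hom = ((cFunS S a).obj bg).obj.hom :=
      (Category.id_comp b.obj.hom).trans hw.symm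
    let i : (cFunS S a).obj bg ≅ b := ObjectProperty.isoMk _ (Over.isoMk (Iso.refl _) hw')
    have f1 : δ.toNatTrans.app (Over.mk m.hom.left) = γ.toNatTrans.app ((cFunS S a).obj bg) :=
      congrArg (fun ε => ε.toNatTrans.app bg) hδ
    have f2 : G₁.map ((cFun R a).map (tau (Over.mk m.hom.left))) ≫
          δ.toNatTrans.app (Over.mk (𝟙 a.obj.left)) =
        δ.toNatTrans.app (Over.mk m.hom.left) ≫
          G₂.map ((cFun R a).map (tau (Over.mk m.hom.left))) :=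
      δ.toNatTrans.naturality (tau (Over.mk m.hom.left))
    have f3 : G₁.map ((inclSR hSR).map i.inv) ≫ γ.toNatTrans.app ((cFunS S a).obj bg) =
        γ.toNatTrans.app b ≫ G₂.map ((inclSR hSR).map i.inv) := γ.toNatTrans.naturality i.inv
    have f3' : G₁.map ((inclSR hSR).map i.inv) ≫ δ.toNatTrans.app (Over.mk m.hom.left) =
        γ.toNatTrans.app b ≫ G₂.map ((inclSR hSR).map i.inv) :=
      (congrArg (fun x => G₁.map ((inclSR hSR).map i.inv) ≫ x) f1).trans f3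
    have e4 : m ≫ (jIso R a).inv =
        (inclSR hSR).map i.inv ≫ (cFun R a).map (tau (Over.mk m.hom.left)) := by
      apply homR_ext
      show m.hom.left ≫ 𝟙 _ = 𝟙 _ ≫ m.hom.left
      rw [Category.comp_id, Category.id_comp]
    have E1 : G₁.map m ≫ G₁.map (jIso R a).inv = G₁.map ((inclSR hSR).map i.inv) ≫
        G₁.map ((cFun R a).map (tau (Over.mk m.hom.left))) :=
      (G₁.toFunctor.map_comp m (jIso R a).inv).symm.trans
        ((congrArg (fun x => G₁.toFunctor.map x) e4).trans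
          (G₁.toFunctor.map_comp ((inclSR hSR).map i.inv)
            ((cFun R a).map (tau (Over.mk m.hom.left)))))
    have E2 : G₂.map m ≫ G₂.map (jIso R a).inv = G₂.map ((inclSR hSR).map i.inv) ≫
        G₂.map ((cFun R a).map (tau (Over.mk m.hom.left))) :=
      (G₂.toFunctor.map_comp m (jIso R a).inv).symm.trans
        ((congrArg (fun x => G₂.toFunctor.map x) e4).trans
          (G₂.toFunctor.map_comp ((inclSR hSR).map i.inv)
            ((cFun R a).map (tau (Over.mk m.hom.left)))))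
    have hJ : G₂.map (jIso R a).inv ≫ G₂.map (jIso R a).hom = 𝟙 _ :=
      (G₂.toFunctor.map_comp _ _).symm.trans
        ((congrArg (fun x => G₂.toFunctor.map x) (jIso R a).inv_hom_id).trans
          (G₂.toFunctor.map_id _))
    exact chainE _ _ _ _ _ _ _ _ _ _ _ _ E1 E2 f2 f3' hJ

theorem full_SR (h𝒳 : FibCat.IsFibGrpd 𝒳.p) {S R : Sieve U} (hSR : S ≤ R)
    (hR : ∀ ⦃V : C⦄ (f : V ⟶ U), R f → Stk.IsPrestackFor (S.pullback f) 𝒳)
    {G₁ G₂ : Stk.sieveCat R ⥤ᵇ 𝒳}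
    (γ : BasedFunctor.comp (inclSR hSR) G₁ ⟶ BasedFunctor.comp (inclSR hSR) G₂) :
    ∃ α : G₁ ⟶ G₂, ∀ b : S.arrows.category,
      α.toNatTrans.app ((inclSR hSR).obj b) = γ.toNatTrans.app b := by
  have hE := fun a => PSR_exists hSR hR γ a
  choose ξ hξ using hE
  have nat : ∀ {a' a : R.arrows.category} (h : a' ⟶ a), G₁.map h ≫ ξ a = ξ a' ≫ G₂.map h := by
    intro a' a h
    have sc : 𝒳.p.IsStronglyCartesian h.hom.left (G₂.map h) :=
      sc_of_isHomLift 𝒳.p h𝒳 _ _ (lift_map G₂ h)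
    obtain ⟨ζ, hζ1, hζ2⟩ := sc_exists 𝒳.p h.hom.left (G₂.map h) sc (G₁.map h ≫ ξ a)
      (lift_comp_id_right 𝒳.p h.hom.left _ _ (lift_map G₁ h) (And.left (hξ a)))
    have hPζ : PSR hSR γ a' ζ := by
      refine And.intro hζ1 ?_
      intro b m
      exact sc_ext 𝒳.p h.hom.left (G₂.map h) sc m.hom.left (G₁.map m ≫ ζ)
        (γ.toNatTrans.app b ≫ G₂.map m)
        (lift_comp_id_right 𝒳.p m.hom.left _ _ (lift_map G₁ m) hζ1)
        (lift_comp_id_left 𝒳.p m.hom.left _ _ (γ.isHomLift' b) (lift_map G₂ m))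
        (chainN (G₁.map m) ζ (G₂.map h) (G₁.map h) (ξ a) (γ.toNatTrans.app b) (G₂.map m)
          (G₁.map (m ≫ h)) (G₂.map (m ≫ h)) hζ2 (G₁.toFunctor.map_comp m h)
          (G₂.toFunctor.map_comp m h) (And.right (hξ a) b (m ≫ h)))
    rw [← PSR_unique h𝒳 hSR hR γ a' ζ (ξ a') hPζ (hξ a')]
    exact hζ2.symm
  refine ⟨{ toNatTrans := { app := ξ, naturality := fun a' a h => nat h },
            isHomLift' := fun a => And.left (hξ a) }, ?_⟩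
  intro b
  have p := And.right (hξ ((inclSR hSR).obj b)) b (𝟙 _)
  have e1 : G₁.map (𝟙 ((inclSR hSR).obj b)) = 𝟙 _ := G₁.toFunctor.map_id _
  have e2 : G₂.map (𝟙 ((inclSR hSR).obj b)) = 𝟙 _ := G₂.toFunctor.map_id _
  exact (Category.id_comp _).symm.trans
    ((congrArg (fun x => x ≫ ξ ((inclSR hSR).obj b)) e1.symm).trans
      (p.trans ((congrArg (fun x => γ.toNatTrans.app b ≫ x) e2).trans (Category.comp_id _))))

theorem main_thm (h𝒳 : FibCat.IsFibGrpd 𝒳.p) {S R : Sieve U} (hSR : S ≤ R)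
    (hS : Stk.IsStackFor S 𝒳)
    (hR : ∀ ⦃V : C⦄ (f : V ⟶ U), R f → Stk.IsPrestackFor (S.pullback f) 𝒳) :
    Stk.IsStackFor R 𝒳 := by
  have hEq : (Stk.resSieve S 𝒳).IsEquivalence := hS
  haveI := hEq.faithful
  haveI := hEq.full
  haveI := hEq.essSurj
  refine Functor.IsEquivalence.mk ?_ ?_ ?_
  · refine ⟨fun {G G'} α β hαβ => ?_⟩
    apply (Stk.resSieve S 𝒳).map_injective
    apply BasedNatTrans.homCategory.ext
    ext b
    exact congrArg (fun ε => ε.toNatTrans.app ((inclSR hSR).obj b)) hαβ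
  · refine ⟨fun {G G'} γ => ?_⟩
    obtain ⟨δ, hδ⟩ := (Stk.resSieve S 𝒳).map_surjective (X := G) (Y := G')
      (BasedCategory.whiskerLeft (inclSR hSR) γ)
    refine ⟨δ, ?_⟩
    apply faithful_SR hSR hR
    intro b
    exact congrArg (fun ε => ε.toNatTrans.app b) hδ
  · refine ⟨fun H => ?_⟩
    obtain ⟨G, hG⟩ : ∃ G, G = (Stk.resSieve S 𝒳).objPreimage
        (BasedFunctor.comp (inclSR hSR) H) := ⟨_, rfl⟩
    have θ : BasedFunctor.comp (inclSR hSR) (BasedFunctor.comp (Stk.sieveIncl R) G) ≅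
        BasedFunctor.comp (inclSR hSR) H := by
      rw [hG]
      exact (Stk.resSieve S 𝒳).objObjPreimageIso (BasedFunctor.comp (inclSR hSR) H)
    obtain ⟨a1, ha1⟩ := full_SR h𝒳 hSR hR θ.hom
    obtain ⟨a2, ha2⟩ := full_SR h𝒳 hSR hR θ.inv
    have e1 : a1 ≫ a2 = 𝟙 _ := by
      apply faithful_SR hSR hR
      intro b
      have := congrArg (fun ε => ε.toNatTrans.app b) θ.hom_inv_id
      exact (congrArg₂ (fun x y => x ≫ y) (ha1 b) (ha2 b)).trans this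
    have e2 : a2 ≫ a1 = 𝟙 _ := by
      apply faithful_SR hSR hR
      intro b
      have := congrArg (fun ε => ε.toNatTrans.app b) θ.inv_hom_id
      exact (congrArg₂ (fun x y => x ≫ y) (ha2 b) (ha1 b)).trans this
    exact ⟨G, ⟨⟨a1, a2, e1, e2⟩⟩⟩

end Gen

/-- Let `𝒳` be fibred in groupoids over `C` and let `S ≤ R` be sieves on an object `U` (a family
refining another with the same target). If the gluing functor for `S` is an equivalence (restriction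
of functors `C/U ⟶ 𝒳` over `C` to `S`), and for every arrow `f : V ⟶ U` of `R` restriction of
functors `C/V ⟶ 𝒳` over `C` to the pulled-back sieve `f^*S` is fully faithful, then the gluing
functor for `R` is an equivalence. (The published statement is for two families of maps with chosen
pullbacks and asks full faithfulness only over the members `U_i` of the coarser family and
faithfulness over the products `U_i ×_U U_{i'}`; this row asks full faithfulness over every arrow of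
the sieve they generate, a stronger hypothesis, and needs no fibre products; the published statement
is for a fibred category, this row for a category fibred in groupoids, the setting in which the
sieve form of the descent condition is the stack condition.) -/
theorem result {C : Type u} [Category.{v} C] {𝒳 : BasedCategory.{v, max u v} C}
    (h𝒳 : FibCat.IsFibGrpd 𝒳.p) {U : C} {S R : Sieve U} (hSR : S ≤ R) (hS : Stk.IsStackFor S 𝒳)
    (hR : ∀ ⦃V : C⦄ (f : V ⟶ U), R f → Stk.IsPrestackFor (S.pullback f) 𝒳) :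
    Stk.IsStackFor R 𝒳 := by
  exact main_thm h𝒳 hSR hS hR

end Groth.Agent.S12815
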