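import Groth.Statements.S18195
import Mathlib
import Groth.Agent.H89.LocImm2

set_option autoImplicit false
universe u
open LocImm

namespace Groth.Agent.S18195

open CategoryTheory AlgebraicGeometry in
/-- Let `f : X ⟶ Y` and `g : Y ⟶ Z` be morphisms of Noetherian schemes with `g` separated and `f ≫ g` a
localizing immersion (localizing and injective on points). If `f` has schematically dense image,
i.e. each ring map `Γ(Y, U) → Γ(X, f⁻¹U)` is injective, then `f` is a localizing immersion. -/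
theorem result {X Y Z : Scheme.{u}} [IsNoetherian X] [IsNoetherian Y] [IsNoetherian Z]
    (f : X ⟶ Y) (g : Y ⟶ Z) (hfg : LocImm.IsLocImmersion (f ≫ g)) [IsSeparated g]
    (hd : ∀ U : Y.Opens, Function.Injective (f.app U).hom) : LocImm.IsLocImmersion f := by
  have hinj : Function.Injective f.base := by
    intro x₁ x₂ h
    apply hfg.2
    show (f ≫ g) x₁ = (f ≫ g) x₂
    rw [Scheme.Hom.comp_apply, Scheme.Hom.comp_apply, h]
  refine ⟨?_, hinj⟩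
  intro x
  obtain ⟨W₀, V₀, hW₀, hV₀, hxW₀, -, heq₀, e₀, hl₀⟩ :=
    Groth.Agent.H89.LocImmLib.exists_refined_chart (f ≫ g) hfg x ⊤ trivial
  have hfxW₀ : f x ∈ g ⁻¹ᵁ W₀ := hxW₀
  obtain ⟨U, hU, hxU, hUW₀⟩ := exists_isAffineOpen_mem_and_subset hfxW₀
  obtain ⟨N', hxN', hN'⟩ :=
    Groth.Agent.H89.LocImmLib.exists_nhd_preimage_le (f ≫ g) hfg (f ⁻¹ᵁ U) x hxU
  obtain ⟨a, ha1, ha2⟩ := hW₀.exists_basicOpen_le (V := N') ⟨(f ≫ g) x, hxN'⟩ hxW₀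
  have hVa : X.basicOpen ((f ≫ g).appLE W₀ V₀ e₀ a) = (f ≫ g) ⁻¹ᵁ (Z.basicOpen a) := by
    rw [Scheme.basicOpen_appLE, heq₀]
    apply le_antisymm inf_le_right
    apply le_inf _ le_rfl
    exact (f ≫ g).preimage_mono (Z.basicOpen_le a)
  have e_a : X.basicOpen ((f ≫ g).appLE W₀ V₀ e₀ a) ≤ (f ≫ g) ⁻¹ᵁ (Z.basicOpen a) := hVa.le
  have hl_a := Groth.Agent.H89.LocImmLib.chart_basicOpen (f ≫ g) hW₀ hV₀ e₀ hl₀ a e_a
  have eU : U ≤ g ⁻¹ᵁ W₀ := hUW₀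
  have hU'' : Y.basicOpen (g.appLE W₀ U eU a) = U ⊓ g ⁻¹ᵁ (Z.basicOpen a) :=
    Scheme.basicOpen_appLE g U W₀ eU a
  have hVaU : X.basicOpen ((f ≫ g).appLE W₀ V₀ e₀ a) =
      f ⁻¹ᵁ (Y.basicOpen (g.appLE W₀ U eU a)) := by
    rw [hU'', hVa]
    apply le_antisymm
    · intro z hz
      exact ⟨hN' (ha1 hz), hz⟩
    · intro z hz
      exact hz.2
  have e1 : Y.basicOpen (g.appLE W₀ U eU a) ≤ g ⁻¹ᵁ (Z.basicOpen a) := by
    rw [hU'']; exact inf_le_right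
  have e2 : X.basicOpen ((f ≫ g).appLE W₀ V₀ e₀ a) ≤
      f ⁻¹ᵁ (Y.basicOpen (g.appLE W₀ U eU a)) := hVaU.le
  have hcomp : g.appLE (Z.basicOpen a) (Y.basicOpen (g.appLE W₀ U eU a)) e1 ≫
      f.appLE (Y.basicOpen (g.appLE W₀ U eU a)) (X.basicOpen ((f ≫ g).appLE W₀ V₀ e₀ a)) e2 =
      (f ≫ g).appLE (Z.basicOpen a) (X.basicOpen ((f ≫ g).appLE W₀ V₀ e₀ a)) e_a :=
    Scheme.Hom.appLE_comp_appLE f g _ _ _ e1 e2
  have hγinj : Function.Injective (f.appLE (Y.basicOpen (g.appLE W₀ U eU a))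
      (X.basicOpen ((f ≫ g).appLE W₀ V₀ e₀ a)) e2).hom := by
    have aux : ∀ (V' : X.Opens) (_ : V' = f ⁻¹ᵁ (Y.basicOpen (g.appLE W₀ U eU a)))
        (e : V' ≤ f ⁻¹ᵁ (Y.basicOpen (g.appLE W₀ U eU a))),
        Function.Injective (f.appLE (Y.basicOpen (g.appLE W₀ U eU a)) V' e).hom := by
      rintro _ rfl e
      rw [← Scheme.Hom.app_eq_appLE]
      exact hd _
    exact aux _ hVaU e2
  have hlγ : LocImm.IsLocHom (f.appLE (Y.basicOpen (g.appLE W₀ U eU a))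
      (X.basicOpen ((f ≫ g).appLE W₀ V₀ e₀ a)) e2).hom := by
    apply Groth.Agent.H89.LocImmLib.isLocHom_of_comp_of_injective
      (g.appLE (Z.basicOpen a) (Y.basicOpen (g.appLE W₀ U eU a)) e1).hom _ hγinj
    rw [← CommRingCat.hom_comp, hcomp]
    exact hl_a
  have hxVa : x ∈ X.basicOpen ((f ≫ g).appLE W₀ V₀ e₀ a) := by
    rw [hVa]; exact ha2
  exact ⟨⟨Y.basicOpen (g.appLE W₀ U eU a), hU.basicOpen _⟩,
    ⟨X.basicOpen ((f ≫ g).appLE W₀ V₀ e₀ a), hV₀.basicOpen _⟩, hxVa, e2, hlγ⟩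

end Groth.Agent.S18195
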