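import Groth.Statements.S18207
import Mathlib
open CategoryTheory AlgebraicGeometry TopologicalSpace

set_option autoImplicit false
universe u
open LocImm

namespace Groth.Agent.S18207

open CategoryTheory AlgebraicGeometry in
/-- A morphism of Noetherian schemes is a localizing immersion (localizing and injective on points) if
and only if it is a localizing monomorphism in the category of schemes. -/
theorem result {X Y : Scheme.{u}} [IsNoetherian X] [IsNoetherian Y] (f : X ⟶ Y) :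
    LocImm.IsLocImmersion f ↔ (LocImm.IsLocalizing f ∧ Mono f) := by
  constructor
  · rintro ⟨hloc, hinj⟩
    refine ⟨hloc, ⟨fun {T} g h e => ?_⟩⟩
    have hpt : ∀ t' : T, g t' = h t' := by
      intro t'
      apply hinj
      have h1 : (g ≫ f) t' = (h ≫ f) t' := by rw [e]
      rw [Scheme.Hom.comp_apply, Scheme.Hom.comp_apply] at h1
      exact h1
    have key : ∀ t : T, ∃ W : T.Opens, t ∈ W ∧ W.ι ≫ g = W.ι ≫ h := by
      intro t
      obtain ⟨U, V, hxV, hVU, S, hS⟩ := hloc (g t)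
      have hxV' : h t ∈ V.1 := by rw [← hpt t]; exact hxV
      have hg : g ⁻¹ᵁ V.1 ⊓ h ⁻¹ᵁ V.1 ≤ g ⁻¹ᵁ V.1 := inf_le_left
      have hh : g ⁻¹ᵁ V.1 ⊓ h ⁻¹ᵁ V.1 ≤ h ⁻¹ᵁ V.1 := inf_le_right
      refine ⟨g ⁻¹ᵁ V.1 ⊓ h ⁻¹ᵁ V.1, ⟨hxV, hxV'⟩, ?_⟩
      have hg' : g.resLE V.1 _ hg ≫ V.1.ι = (g ⁻¹ᵁ V.1 ⊓ h ⁻¹ᵁ V.1).ι ≫ g :=
        Scheme.Hom.resLE_comp_ι _ _
      have hh' : h.resLE V.1 _ hh ≫ V.1.ι = (g ⁻¹ᵁ V.1 ⊓ h ⁻¹ᵁ V.1).ι ≫ h :=
        Scheme.Hom.resLE_comp_ι _ _
      rw [← hg', ← hh']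
      congr 1
      haveI : IsAffine (V.1 : Scheme) := V.2
      apply ext_of_isAffine
      have hk : g.resLE V.1 _ hg ≫ f.resLE U.1 V.1 hVU =
          h.resLE V.1 _ hh ≫ f.resLE U.1 V.1 hVU := by
        rw [← cancel_mono U.1.ι, Category.assoc, Category.assoc, Scheme.Hom.resLE_comp_ι,
          ← Category.assoc, ← Category.assoc, hg', hh', Category.assoc, Category.assoc, e]
      have hk' := congrArg Scheme.Hom.appTop hk
      rw [Scheme.Hom.comp_appTop, Scheme.Hom.comp_appTop] at hk'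
      have hres : (f.resLE U.1 V.1 hVU).appTop =
          U.1.topIso.hom ≫ f.appLE U.1 V.1 hVU ≫ V.1.topIso.inv :=
        Scheme.Hom.resLE_app_top _ _
      rw [hres] at hk'
      simp only [Category.assoc] at hk'
      have hφ := (cancel_epi _).mp hk'
      have hab : (V.1.topIso.inv ≫ (g.resLE V.1 _ hg).appTop) =
          (V.1.topIso.inv ≫ (h.resLE V.1 _ hh).appTop) := by
        apply CommRingCat.hom_ext
        letI := (f.appLE U.1 V.1 hVU).hom.toAlgebra
        refine IsLocalization.ringHom_ext S ?_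
        exact congrArg CommRingCat.Hom.hom hφ
      exact (cancel_epi _).mp hab
    choose W hW hWe using key
    refine Scheme.Cover.hom_ext (T.openCoverOfIsOpenCover W ?_) _ _ fun t => hWe t
    exact IsOpenCover.mk (eq_top_iff.mpr fun t _ => Opens.mem_iSup.mpr ⟨t, hW t⟩)
  · rintro ⟨hloc, hmono⟩
    exact ⟨hloc, f.injective⟩

end Groth.Agent.S18207
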