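import Groth.Statements.S3425
import Mathlib
import Groth.Agent.H9.FibreMapCons
import Groth.Agent.H38.NowhereDenseFibre

set_option linter.style.haveILetI false

set_option autoImplicit false
open CategoryTheory AlgebraicGeometry
universe u
open EGA43

namespace Groth.Agent.S3425


section helpers

open CategoryTheory.Limits TopologicalSpace Topology

/-- (copied from helper63's `H63.OrbitLC.exists_open_of_isConstructible`, to avoid its heavy import
chain) The part of a constructible set which is open in its closure is dense in it. -/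
theorem exists_open_of_isConstructible {X : Type*} [TopologicalSpace X] {s : Set X}
    (hs : IsConstructible s) :
    ∀ W : Set X, IsOpen W → (W ∩ s).Nonempty →
      ∃ U : Set X, IsOpen U ∧ U ⊆ W ∧ (U ∩ closure s).Nonempty ∧ U ∩ closure s ⊆ s := by
  induction s, hs using BooleanSubalgebra.closure_sdiff_sup_induction with
  | isSublattice =>
    exact ⟨fun s hs t ht ↦ ⟨hs.1.union ht.1, hs.2.union ht.2⟩,
      fun s hs t ht ↦ ⟨hs.1.inter ht.1, hs.2.inter_isOpen ht.2 ht.1⟩⟩
  | bot_mem => exact ⟨isOpen_empty, .empty⟩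
  | top_mem => exact ⟨isOpen_univ, .univ⟩
  | sdiff A hA B hB =>
    intro W hW hne
    refine ⟨W ∩ A, hW.inter hA.1, Set.inter_subset_left, ?_, ?_⟩
    · obtain ⟨x, hxW, hxA, hxB⟩ := hne
      exact ⟨x, ⟨hxW, hxA⟩, subset_closure ⟨hxA, hxB⟩⟩
    · rintro x ⟨⟨-, hxA⟩, hxc⟩
      have : closure (A \ B) ⊆ Bᶜ :=
        closure_minimal (fun y hy => hy.2) hB.1.isClosed_compl
      exact ⟨hxA, this hxc⟩
  | sup s _ t _ hs' ht' =>
    intro W hW hne0
    by_cases h1 : (W ∩ (closure t)ᶜ ∩ s).Nonempty
    · obtain ⟨U, hUo, hUW, hne, hsub⟩ :=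
        hs' (W ∩ (closure t)ᶜ) (hW.inter isClosed_closure.isOpen_compl) h1
      refine ⟨U, hUo, hUW.trans Set.inter_subset_left, ?_, ?_⟩
      · exact hne.mono (Set.inter_subset_inter_right _ (closure_mono Set.subset_union_left))
      · rintro x ⟨hxU, hxc⟩
        change x ∈ closure (s ∪ t) at hxc
        rw [closure_union] at hxc
        rcases hxc with hxc | hxc
        · exact Or.inl (hsub ⟨hxU, hxc⟩)
        · exact absurd hxc (hUW hxU).2
    · by_cases h2 : (W ∩ (closure s)ᶜ ∩ t).Nonempty
      · obtain ⟨U, hUo, hUW, hne, hsub⟩ :=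
          ht' (W ∩ (closure s)ᶜ) (hW.inter isClosed_closure.isOpen_compl) h2
        refine ⟨U, hUo, hUW.trans Set.inter_subset_left, ?_, ?_⟩
        · exact hne.mono (Set.inter_subset_inter_right _ (closure_mono Set.subset_union_right))
        · rintro x ⟨hxU, hxc⟩
          change x ∈ closure (s ∪ t) at hxc
          rw [closure_union] at hxc
          rcases hxc with hxc | hxc
          · exact absurd hxc (hUW hxU).2
          · exact Or.inr (hsub ⟨hxU, hxc⟩)
      · have hst : W ∩ s ⊆ closure t := by
          intro x hx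
          by_contra hxc
          exact h1 ⟨x, ⟨hx.1, hxc⟩, hx.2⟩
        have hWt : (W ∩ t).Nonempty := by
          obtain ⟨x, hxW, hx | hx⟩ := hne0
          · exact mem_closure_iff.mp (hst ⟨hxW, hx⟩) W hW hxW
          · exact ⟨x, hxW, hx⟩
        obtain ⟨U, hUo, hUW, hne, hsub⟩ := ht' W hW hWt
        refine ⟨U, hUo, hUW, ?_, ?_⟩
        · exact hne.mono (Set.inter_subset_inter_right _ (closure_mono Set.subset_union_right))
        · rintro x ⟨hxU, hxc⟩
          change x ∈ closure (s ∪ t) at hxc
          rw [closure_union] at hxc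
          rcases hxc with hxc | hxc
          · have h3 : x ∈ closure (W ∩ s) := hW.inter_closure ⟨hUW hxU, hxc⟩
            have h4 : x ∈ closure t := closure_minimal hst isClosed_closure h3
            exact Or.inr (hsub ⟨hxU, h4⟩)
          · exact Or.inr (hsub ⟨hxU, hxc⟩)

/-- A dense constructible set has dense interior. -/
theorem dense_interior_of_isConstructible {X : Type*} [TopologicalSpace X] {s : Set X}
    (hs : IsConstructible s) (hd : Dense s) : Dense (interior s) := by
  rw [dense_iff_inter_open]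
  intro W hW hne
  have h1 : (W ∩ s).Nonempty := hd.inter_open_nonempty W hW hne
  obtain ⟨U, hUo, hUW, hne', hsub⟩ := exists_open_of_isConstructible hs W hW h1
  rw [hd.closure_eq, Set.inter_univ] at hne' hsub
  obtain ⟨x, hx⟩ := hne'
  exact ⟨x, hUW hx, mem_interior.mpr ⟨U, hsub, hUo, hx⟩⟩

theorem fiberι_mem {X S : Scheme.{u}} (f : X ⟶ S) (s : S) (z : f.fiber s) :
    f.base ((f.fiberι s).base z) = s := by
  have h : (f.fiberι s).base z ∈ Set.range (f.fiberι s).base := Set.mem_range_self z
  rw [f.range_fiberι s] at h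
  exact h

theorem exists_fiberι_eq {X S : Scheme.{u}} (f : X ⟶ S) (s : S) (x : X) (hx : f.base x = s) :
    ∃ z : f.fiber s, (f.fiberι s).base z = x := by
  have h : x ∈ Set.range (f.fiberι s).base := by
    rw [f.range_fiberι s]; exact hx
  exact h

/-- **Dichotomy for fibrewise density** over an integral Noetherian base. -/
theorem dichotomy_dense {B T : Scheme.{u}} [IsIntegral T] [IsNoetherian T] (g : B ⟶ T)
    [LocallyOfFiniteType g] [QuasiCompact g] (Z : Set B) (hZ : IsConstructible Z) (E : Set T)
    (hE : ∀ t, t ∈ E ↔ Dense ((g.fiberι t).base ⁻¹' Z)) :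
    (interior E).Nonempty ∨ (interior Eᶜ).Nonempty := by
  haveI : IsLocallyNoetherian T := inferInstance
  haveI : LocallyOfFinitePresentation g := Groth.Agent.S1344.lfp_of_lft g
  haveI : IsLocallyNoetherian B := LocallyOfFiniteType.isLocallyNoetherian g
  haveI : CompactSpace B := QuasiCompact.compactSpace_of_compactSpace g
  haveI : IsNoetherian B := ⟨⟩
  haveI : QuasiSeparatedSpace T :=
    Groth.Agent.H9.CMCons.quasiSeparatedSpace_of_noetherianSpace T
  have hopen : ∀ U : Set B, IsOpen U → IsConstructible U := fun U hU =>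
    isConstructible_compl.mp
      (Groth.Agent.H38.GenericConstr.isConstructible_of_isClosed hU.isClosed_compl)
  set η := genericPoint T with hηdef
  have hη := genericPoint_spec T
  have hind := (g.fiberι η).isEmbedding.isInducing
  by_cases hd : Dense ((g.fiberι η).base ⁻¹' Z)
  · left
    have hZη : IsConstructible ((g.fiberι η).base ⁻¹' Z) :=
      (g.fiberι η).isConstructible_preimage hZ
    have hdi := dense_interior_of_isConstructible hZη hd
    obtain ⟨U, hU, hUeq⟩ := hind.isOpen_iff.mp (isOpen_interior (s := (g.fiberι η).base ⁻¹' Z))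
    have hnd : IsNowhereDense ((g.fiberι η).base ⁻¹' Uᶜ) := by
      rw [Set.preimage_compl, hUeq,
        (isOpen_interior.isClosed_compl).isNowhereDense_iff, interior_compl, hdi.closure_eq,
        Set.compl_univ]
    obtain ⟨V₁, hηV₁, hV₁⟩ :=
      Groth.Agent.H38.NowhereDenseFibre.exists_opens_forall_isNowhereDense g Uᶜ
        hU.isClosed_compl hnd
    have hD : IsConstructible (U ∩ Zᶜ) := (hopen U hU).inter hZ.compl
    have hgD : IsConstructible (g.base '' (U ∩ Zᶜ)) := g.isConstructible_image hD
    have hηD : η ∉ g.base '' (U ∩ Zᶜ) := by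
      rintro ⟨b, ⟨hbU, hbZ⟩, hb⟩
      obtain ⟨b', rfl⟩ := exists_fiberι_eq g η b hb
      have h1 : b' ∈ (g.fiberι η).base ⁻¹' U := hbU
      rw [hUeq] at h1
      have h2 : b' ∈ (g.fiberι η).base ⁻¹' Z := interior_subset h1
      exact hbZ h2
    obtain ⟨V₂, hV₂o, hηV₂, hV₂⟩ :=
      (Groth.Agent.H38.GenericConstr.nhds_or_of_isConstructible hη hgD).2 hηD
    refine ⟨η, mem_interior.mpr ⟨(V₁ : Set T) ∩ V₂, ?_, V₁.isOpen.inter hV₂o, ⟨hηV₁, hηV₂⟩⟩⟩
    rintro t ⟨ht1, ht2⟩
    rw [hE]
    have h1 := hV₁ t ht1
    have h2 : Dense ((g.fiberι t).base ⁻¹' U) := by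
      have hcl : IsClosed ((g.fiberι t).base ⁻¹' Uᶜ) :=
        hU.isClosed_compl.preimage (g.fiberι t).continuous
      rw [hcl.isNowhereDense_iff, interior_eq_empty_iff_dense_compl, ← Set.preimage_compl,
        compl_compl] at h1
      exact h1
    refine h2.mono ?_
    intro b hb
    by_contra hbZ
    exact hV₂ ht2 ⟨(g.fiberι t).base b, ⟨hb, hbZ⟩, fiberι_mem g t b⟩
  · right
    rw [dense_iff_inter_open] at hd
    push Not at hd
    obtain ⟨Wη, hWηo, hWηne, hWηZ⟩ := hd
    obtain ⟨W, hW, hWeq⟩ := hind.isOpen_iff.mp hWηo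
    have hg1 : IsConstructible (g.base '' (W ∩ Z)) :=
      g.isConstructible_image ((hopen W hW).inter hZ)
    have hg2 : IsConstructible (g.base '' W) := g.isConstructible_image (hopen W hW)
    have hη1 : η ∉ g.base '' (W ∩ Z) := by
      rintro ⟨b, ⟨hbW, hbZ⟩, hb⟩
      obtain ⟨b', rfl⟩ := exists_fiberι_eq g η b hb
      have h1 : b' ∈ Wη := by rw [← hWeq]; exact hbW
      exact Set.eq_empty_iff_forall_notMem.mp hWηZ b' ⟨h1, hbZ⟩
    have hη2 : η ∈ g.base '' W := by
      obtain ⟨b', hb'⟩ := hWηne
      refine ⟨(g.fiberι η).base b', ?_, fiberι_mem g η b'⟩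
      rw [← hWeq] at hb'
      exact hb'
    obtain ⟨V₁, hV₁o, hηV₁, hV₁⟩ :=
      (Groth.Agent.H38.GenericConstr.nhds_or_of_isConstructible hη hg1).2 hη1
    obtain ⟨V₂, hV₂o, hηV₂, hV₂⟩ :=
      (Groth.Agent.H38.GenericConstr.nhds_or_of_isConstructible hη hg2).1 hη2
    refine ⟨η, mem_interior.mpr ⟨V₁ ∩ V₂, ?_, hV₁o.inter hV₂o, ⟨hηV₁, hηV₂⟩⟩⟩
    rintro t ⟨ht1, ht2⟩
    rw [Set.mem_compl_iff, hE]
    intro hdt
    obtain ⟨b, hbW, hbt⟩ := hV₂ ht2
    obtain ⟨b', rfl⟩ := exists_fiberι_eq g t b hbt
    obtain ⟨c, hcW, hcZ⟩ := hdt.inter_open_nonempty _ (hW.preimage (g.fiberι t).continuous)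
      ⟨b', hbW⟩
    exact hV₁ ht1 ⟨(g.fiberι t).base c, ⟨hcW, hcZ⟩, fiberι_mem g t c⟩

theorem isFieldStableMor_dominant :
    ConsProp.IsFieldStableMor.{u} (fun _ _ _ f _ => IsDominant f) := by
  intro X X' Y Y' T T' f g f' g' eX eY h _ _ _ _ _ _ _ _ hY hX
  haveI : UniversallyOpen h := inferInstance
  haveI : UniversallyOpen eY :=
    MorphismProperty.of_isPullback (P := @UniversallyOpen) hY.flip inferInstance
  have hrange : Set.range f'.base = eY.base ⁻¹' Set.range f.base := by
    ext y'
    constructor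
    · rintro ⟨x', rfl⟩
      exact ⟨eX.base x', congr($(hX.w) x')⟩
    · rintro ⟨x, hx⟩
      obtain ⟨p, -, hp⟩ := Scheme.exists_preimage_of_isPullback hX x y' hx
      exact ⟨p, hp⟩
  constructor
  · intro hf
    have hf' : IsDominant f := hf
    show IsDominant f'
    rw [isDominant_iff, DenseRange, hrange]
    exact hf'.denseRange.preimage eY.isOpenMap
  · intro hf'
    have hf'' : IsDominant f' := hf'
    show IsDominant f
    haveI : Surjective h := Groth.Agent.H9.CMCons.surjective_of_subsingleton h
    haveI : Surjective eY :=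
      MorphismProperty.of_isPullback (P := @Surjective) hY.flip inferInstance
    rw [isDominant_iff]
    have h1 : DenseRange (eY.base ∘ f'.base) :=
      eY.surjective.denseRange.comp hf''.denseRange eY.continuous
    refine h1.mono ?_
    rintro _ ⟨x', rfl⟩
    exact ⟨eX.base x', congr($(hX.w) x')⟩

theorem isConsMor_dominant : ConsProp.IsConsMor.{u} (fun _ _ _ f _ => IsDominant f) := by
  refine ⟨isFieldStableMor_dominant, ?_⟩
  intro X Y S f g _ _ _ _ _ _
  haveI : IsLocallyNoetherian S := inferInstance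
  haveI : IsLocallyNoetherian Y := LocallyOfFiniteType.isLocallyNoetherian g
  haveI : LocallyOfFiniteType f := locallyOfFiniteType_of_comp f g
  haveI : LocallyOfFinitePresentation f := Groth.Agent.S1344.lfp_of_lft f
  haveI : QuasiSeparated g := Groth.Agent.H24.qs_of_lft_noetherian g
  haveI : QuasiCompact f := QuasiCompact.of_comp f g
  haveI : CompactSpace Y := QuasiCompact.compactSpace_of_compactSpace g
  haveI : IsNoetherian Y := ⟨⟩
  haveI : QuasiSeparatedSpace Y :=
    Groth.Agent.H9.CMCons.quasiSeparatedSpace_of_noetherianSpace Y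
  have hZ : IsConstructible (Set.range f.base) := by
    rw [← Set.image_univ]
    exact f.isConstructible_image IsConstructible.univ
  refine dichotomy_dense g (Set.range f.base) hZ _ (fun s => ?_)
  show IsDominant (MoreMor.fiberMap f g s) ↔ _
  rw [isDominant_iff, DenseRange, Groth.Agent.H38.NowhereDenseFibre.range_fiberMap]

end helpers

open CategoryTheory.Limits in
theorem result' {X Y S : Scheme.{u}} (f : X ⟶ Y) (g : Y ⟶ S)
    [LocallyOfFinitePresentation g] [QuasiCompact g] [QuasiSeparated g]
    [LocallyOfFinitePresentation (f ≫ g)] [QuasiCompact (f ≫ g)] [QuasiSeparated (f ≫ g)] :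
    Topology.IsLocallyConstructible {s : S |
      IsDominant (pullback.lift (pullback.fst (f ≫ g) (S.fromSpecResidueField s) ≫ f) (pullback.snd (f ≫ g) (S.fromSpecResidueField s))
          ((Category.assoc _ _ _).trans pullback.condition) :
        pullback (f ≫ g) (S.fromSpecResidueField s) ⟶ pullback g (S.fromSpecResidueField s))} :=
  Groth.Agent.H24.isLocallyConstructible_locusMor isConsMor_dominant f g


open CategoryTheory.Limits in
/-- Let g : Y ⟶ S and f : X ⟶ Y be such that X and Y are of finite presentation over S (locally of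
finite presentation, quasi-compact and quasi-separated). For each point s of S let f_s be the
induced morphism from the fibre of f ≫ g over s to the fibre of g over s. Then the set of s for
which f_s is dominant is locally constructible in S. -/
theorem result {X Y S : Scheme.{u}} (f : X ⟶ Y) (g : Y ⟶ S)
    [LocallyOfFinitePresentation g] [QuasiCompact g] [QuasiSeparated g]
    [LocallyOfFinitePresentation (f ≫ g)] [QuasiCompact (f ≫ g)] [QuasiSeparated (f ≫ g)] :
    Topology.IsLocallyConstructible {s : S |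
      IsDominant (pullback.lift (pullback.fst (f ≫ g) (S.fromSpecResidueField s) ≫ f) (pullback.snd (f ≫ g) (S.fromSpecResidueField s))
          ((Category.assoc _ _ _).trans pullback.condition) :
        pullback (f ≫ g) (S.fromSpecResidueField s) ⟶ pullback g (S.fromSpecResidueField s))} := by
  exact result' f g

end Groth.Agent.S3425
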