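import Groth.Statements.S9355
import Groth.Agent.S9176
import Groth.Agent.H9.CMFlatSch

set_option linter.style.haveILetI false

set_option autoImplicit false
universe u
open FibDim

namespace Groth.Agent.S9355


open AlgebraicGeometry CategoryTheory TensorProduct Algebra.TensorProduct in
/-- On an affine chart `W → V`, the locus `fibreDimAt ≤ n` is quasi-compact. -/
theorem isCompact_inter_chart {X S : Scheme.{u}} (f : X ⟶ S) [LocallyOfFinitePresentation f] (n : ℕ)
    {V : S.Opens} (hV : IsAffineOpen V) {W : X.Opens} (hW : IsAffineOpen W) (hWV : W ≤ f ⁻¹ᵁ V) :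
    IsCompact ({x : ↑X | FlatMor.fibreDimAt f x ≤ n} ∩ (W : Set X)) := by
  letI : Algebra Γ(S, V) Γ(X, W) := (f.appLE V W hWV).hom.toAlgebra
  haveI : Algebra.FinitePresentation Γ(S, V) Γ(X, W) :=
    (RingHom.finitePresentation_algebraMap).mp (f.finitePresentation_appLE hV hW hWV)
  have hc := (Groth.Agent.S9176.result Γ(S, V) Γ(X, W) n).2
  have heq : ({x : ↑X | FlatMor.fibreDimAt f x ≤ n} ∩ (W : Set X)) =
      (fun q => hW.fromSpec.base q) '' {q : PrimeSpectrum Γ(X, W) |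
        ∀ Q : PrimeSpectrum ((q.asIdeal.under Γ(S, V)).Fiber Γ(X, W)),
        Q.asIdeal.comap (Algebra.TensorProduct.includeRight.toRingHom) = q.asIdeal →
          FlatMor.localDim (PrimeSpectrum ((q.asIdeal.under Γ(S, V)).Fiber Γ(X, W))) Q ≤
            (n : WithBot ℕ∞)} := ?_
  · rw [heq]
    exact hc.image hW.fromSpec.base.hom.2
  ext x
  simp only [Set.mem_inter_iff, Set.mem_ofPred_eq, Set.mem_image, SetLike.mem_coe]
  constructor
  · rintro ⟨hx, hxW⟩
    refine ⟨hW.primeIdealOf ⟨x, hxW⟩, ?_, hW.fromSpec_primeIdealOf ⟨x, hxW⟩⟩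
    intro Q hQ
    have := Groth.Agent.H9.CMFlatSch.localDim_fiber_eq_fibreDimAt f x hV hW hWV hxW
      ((hW.primeIdealOf ⟨x, hxW⟩).asIdeal.under Γ(S, V)) rfl Q hQ
    rw [this]
    exact hx
  · rintro ⟨q, hq, rfl⟩
    have hxW : hW.fromSpec.base q ∈ W := by
      have := hW.range_fromSpec
      have h2 : hW.fromSpec.base q ∈ Set.range hW.fromSpec.base := ⟨q, rfl⟩
      rw [this] at h2
      exact h2
    refine ⟨?_, hxW⟩
    have hqq : hW.primeIdealOf ⟨hW.fromSpec.base q, hxW⟩ = q :=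
      hW.fromSpec.isOpenEmbedding.injective (hW.fromSpec_primeIdealOf ⟨hW.fromSpec.base q, hxW⟩)
    haveI : (PrimeSpectrum.asIdeal q).IsPrime := q.2
    obtain ⟨Q, hQ⟩ := Groth.Agent.H9.FibDim.exists_fiber_prime
      ((PrimeSpectrum.asIdeal q).under Γ(S, V)) (PrimeSpectrum.asIdeal q)
    have h1 := hq Q hQ
    have h2 := Groth.Agent.H9.CMFlatSch.localDim_fiber_eq_fibreDimAt f (hW.fromSpec.base q) hV hW hWV hxW
      (q.asIdeal.under Γ(S, V)) (by rw [hqq]) Q (by rw [hqq]; exact hQ)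
    show FlatMor.fibreDimAt f (hW.fromSpec.base q) ≤ n
    rw [← h2]
    exact h1

open AlgebraicGeometry CategoryTheory in
theorem result' {X S : Scheme.{u}} (f : X ⟶ S) [LocallyOfFinitePresentation f] (n : ℕ) :
    IsRetrocompact {x : ↑X | FlatMor.fibreDimAt f x ≤ n} := by
  intro U hUc hUo
  -- cover U by affine charts
  have hcover : ∀ x : U, ∃ W : X.Opens, IsAffineOpen W ∧ (x : X) ∈ W ∧ (W : Set X) ⊆ U ∧
      IsCompact ({x : ↑X | FlatMor.fibreDimAt f x ≤ n} ∩ (W : Set X)) := by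
    rintro ⟨x, hxU⟩
    obtain ⟨V, hV, hxV, -⟩ :=
      exists_isAffineOpen_mem_and_subset (X := S) (x := f.base x) (U := ⊤) trivial
    obtain ⟨W, hW, hxW, e⟩ :=
      exists_isAffineOpen_mem_and_subset (X := X) (x := x) (U := f ⁻¹ᵁ V ⊓ ⟨U, hUo⟩) ⟨hxV, hxU⟩
    exact ⟨W, hW, hxW, fun z hz => (e hz).2,
      isCompact_inter_chart f n hV hW (fun z hz => (e hz).1)⟩
  choose W hWaff hxW hWU hWc using hcover
  obtain ⟨t, ht⟩ := hUc.elim_finite_subcover (fun x : U => ((W x : X.Opens) : Set X))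
    (fun x => (W x).2) (fun x hx => Set.mem_iUnion.mpr ⟨⟨x, hx⟩, hxW ⟨x, hx⟩⟩)
  have heq : {x : ↑X | FlatMor.fibreDimAt f x ≤ n} ∩ U =
      ⋃ x ∈ t, ({x : ↑X | FlatMor.fibreDimAt f x ≤ n} ∩ (W x : Set X)) := by
    ext z
    simp only [Set.mem_inter_iff, Set.mem_iUnion, exists_prop]
    constructor
    · rintro ⟨hz, hzU⟩
      obtain ⟨x, hx⟩ := Set.mem_iUnion.mp (ht hzU)
      obtain ⟨hxt, hzW⟩ := Set.mem_iUnion.mp hx
      exact ⟨x, hxt, hz, hzW⟩
    · rintro ⟨x, -, hz, hzW⟩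
      exact ⟨hz, hWU x hzW⟩
  rw [heq]
  exact t.isCompact_biUnion (fun x _ => hWc x)


open AlgebraicGeometry CategoryTheory in
/-- For f : X → S locally of finite presentation and n ≥ 0, the open set U_n of points x with dim_x(X_{f
x}) ≤ n is retrocompact in X. -/
theorem result {X S : Scheme.{u}} (f : X ⟶ S) [LocallyOfFinitePresentation f] (n : ℕ) :
    IsRetrocompact {x : ↑X | FlatMor.fibreDimAt f x ≤ n} := by
  exact result' f n

end Groth.Agent.S9355
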