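import Groth.Statements.S3451
import Mathlib
import Groth.Agent.H9.FibClosure2
import Groth.Agent.H9.Equidim
import Groth.Agent.S9355
import Groth.Agent.H38.FibreDimCons

set_option linter.style.haveILetI false

set_option autoImplicit false
open CategoryTheory AlgebraicGeometry
universe u
open EGA43

namespace Groth.Agent.S3451


section helpers

open Groth.Agent.H9.FibClosure Groth.Agent.H54 Groth.Agent.H9.FibDim Groth.Agent.H9.FibreGeneric
  Groth.Agent.H9.Equidim Topology

/-- A generic point of an irreducible component has local dimension equal to its `tdeg`. -/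
theorem localDim_generic {k : Type u} [Field k] {F : Scheme.{u}}
    (s : F ⟶ Spec (CommRingCat.of k)) [LocallyOfFiniteType s] (ξ : F)
    (hξ : closure ({ξ} : Set F) ∈ irreducibleComponents (F : Type u)) :
    FlatMor.localDim F ξ = ((tdeg s ξ : ℕ) : WithBot ℕ∞) := by
  have hco : Order.coheight ξ = ((0 : ℕ) : ℕ∞) := by
    rw [Nat.cast_zero, Order.coheight_eq_zero]
    exact isMax_of_generic hξ
  have h1 := localDim_eq s ξ 0 hco
  rw [add_zero] at h1
  exact h1

/-- The dimension of a component through `w` is the `tdeg` of a generic point specializing to `w`. -/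
theorem exists_generic_of_component {k : Type u} [Field k] {F : Scheme.{u}}
    (s : F ⟶ Spec (CommRingCat.of k)) [LocallyOfFiniteType s] (w : F) (Z : Set F)
    (hZ : Z ∈ irreducibleComponents (F : Type u)) (hw : w ∈ Z) :
    ∃ ζ : F, ζ ⤳ w ∧ closure ({ζ} : Set F) ∈ irreducibleComponents (F : Type u) ∧
      topologicalKrullDim ↥Z = ((tdeg s ζ : ℕ) : WithBot ℕ∞) := by
  obtain ⟨ζ, hcl, hdim⟩ := Groth.Agent.S4702.dim_irreducibleComponent_eq_tdeg s Z hZ
  refine ⟨ζ, ?_, by rw [hcl]; exact hZ, hdim⟩
  rw [specializes_iff_mem_closure, hcl]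
  exact hw

/-- **Fibre-level criterion**: all components through `w` have the same dimension iff `w` is not
in the closure of the locus of strictly smaller local dimension. -/
theorem equidim_iff {k : Type u} [Field k] {F : Scheme.{u}}
    (s : F ⟶ Spec (CommRingCat.of k)) [LocallyOfFiniteType s] (w : F) :
    (∃ e : ℕ, ∀ Z ∈ irreducibleComponents (F : Type u), w ∈ Z →
      topologicalKrullDim ↥Z = (e : WithBot ℕ∞)) ↔
      w ∉ closure {w' : F | FlatMor.localDim F w' < FlatMor.localDim F w} := by
  constructor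
  · rintro ⟨e, he⟩ hcl
    -- tdeg of generic points through w is e
    have hgen : ∀ ξ : F, ξ ⤳ w → closure ({ξ} : Set F) ∈ irreducibleComponents (F : Type u) →
        tdeg s ξ = e := by
      intro ξ hξw hξ
      obtain ⟨ζ, hcl', hdim⟩ := Groth.Agent.S4702.dim_irreducibleComponent_eq_tdeg s _ hξ
      have hζ : ζ = ξ := (isGenericPoint_def.mpr hcl').eq isGenericPoint_closure
      subst hζ
      rw [he _ hξ (specializes_iff_mem_closure.mp hξw)] at hdim
      exact_mod_cast hdim.symm
    -- local dimension at w is at most e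
    have hle : FlatMor.localDim F w ≤ (e : WithBot ℕ∞) := by
      obtain ⟨ζ, hζw, hle⟩ := exists_specializes_localDim_le s w
      obtain ⟨ξ, hξζ, hξ⟩ := exists_generic_specializes ζ
      refine hle.trans ?_
      have h1 : tdeg s ζ ≤ tdeg s ξ := tdeg_le_of_specializes s hξζ
      rw [hgen ξ (hξζ.trans hζw) hξ] at h1
      exact_mod_cast h1
    obtain ⟨U, hwU, hU⟩ := exists_open_generic s w
    obtain ⟨a, haU, ha⟩ := mem_closure_iff.mp hcl U U.isOpen hwU
    obtain ⟨ξ₀, hξ₀a, hξ₀w⟩ := hU a haU
    obtain ⟨ξ, hξξ₀, hξ⟩ := exists_generic_specializes ξ₀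
    have h1 : FlatMor.localDim F ξ = (e : WithBot ℕ∞) := by
      rw [localDim_generic s ξ hξ, hgen ξ (hξξ₀.trans hξ₀w) hξ]
    have h2 : FlatMor.localDim F ξ ≤ FlatMor.localDim F a :=
      localDim_le_of_specializes (hξξ₀.trans hξ₀a)
    have h3 : FlatMor.localDim F a < FlatMor.localDim F w := ha
    rw [h1] at h2
    exact absurd (h2.trans_lt h3) (not_lt.mpr hle)
  · intro hncl
    obtain ⟨b, hb⟩ := ENat.ne_top_iff_exists.mp (coheight_ne_top s w)
    have hw := localDim_eq s w b hb.symm
    refine ⟨tdeg s w + b, fun Z hZ hwZ => ?_⟩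
    obtain ⟨ζ, hζw, hζ, hdim⟩ := exists_generic_of_component s w Z hZ hwZ
    rw [hdim, ← localDim_generic s ζ hζ, ← hw]
    have hle : FlatMor.localDim F ζ ≤ FlatMor.localDim F w := localDim_le_of_specializes hζw
    rcases hle.lt_or_eq with hlt | heq
    · exfalso
      apply hncl
      have hsub : ({ζ} : Set F) ⊆ {w' : F | FlatMor.localDim F w' < FlatMor.localDim F w} := by
        rintro _ rfl
        exact hlt
      exact closure_mono hsub (specializes_iff_mem_closure.mp hζw)
    · exact heq

/-- Membership in the equidimensional locus in terms of the fibrewise closure. -/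
theorem mem_iff {X S : Scheme.{u}} (f : X ⟶ S) [LocallyOfFiniteType f] (x : X) :
    (∃ e : ℕ, ∀ Z ∈ irreducibleComponents (↥(f.fiber (f.base x)) : Type u), f.asFiber x ∈ Z →
        topologicalKrullDim (↥Z : Type u) = e) ↔
      x ∉ FC f {x' : X | FlatMor.fibreDimAt f x' < FlatMor.fibreDimAt f x} := by
  rw [equidim_iff (fiberQ f (f.base x)) (f.asFiber x)]
  have hx : (f.fiberι (f.base x)).base (f.asFiber x) = x := f.fiberι_asFiber x
  have e : {w' : f.fiber (f.base x) | FlatMor.localDim _ w' < FlatMor.localDim _ (f.asFiber x)} =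
      (f.fiberι (f.base x)).base ⁻¹' {x' : X | FlatMor.fibreDimAt f x' < FlatMor.fibreDimAt f x} := by
    ext w'
    simp only [Set.mem_ofPred_eq, Set.mem_preimage]
    rw [localDim_fiber, localDim_fiber, hx]
  rw [e, ← fiberι_mem_FC_iff, hx]

theorem lt_succ_iff_le (d : WithBot ℕ∞) (n : ℕ) :
    d < ((n + 1 : ℕ) : WithBot ℕ∞) ↔ d ≤ (n : WithBot ℕ∞) := by
  rw [← not_le, natCast_le_iff_not_le, not_not]

theorem isLocallyConstructible_le {X S : Scheme.{u}} (f : X ⟶ S) [LocallyOfFinitePresentation f]
    (n : ℕ) : IsLocallyConstructible {x : X | FlatMor.fibreDimAt f x ≤ (n : WithBot ℕ∞)} :=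
  ((Groth.Agent.S9355.result f n).isConstructible
    (isOpen_setOf_fibreDimAt_le f n)).isLocallyConstructible

theorem isLocallyConstructible_lt {X S : Scheme.{u}} (f : X ⟶ S) [LocallyOfFinitePresentation f]
    (n : ℕ) : IsLocallyConstructible {x : X | FlatMor.fibreDimAt f x < (n : WithBot ℕ∞)} := by
  cases n with
  | zero =>
    convert IsLocallyConstructible.empty (X := X) using 1
    ext x
    simp only [Set.mem_ofPred_eq, Set.mem_empty_iff_false, iff_false, not_lt]
    obtain ⟨m, hm⟩ := Groth.Agent.H38.FibreDimCons.exists_fibreDimAt_eq f x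
    rw [hm]
    exact_mod_cast Nat.zero_le m
  | succ n =>
    convert isLocallyConstructible_le f n using 1
    ext x
    exact lt_succ_iff_le _ n

end helpers

theorem result' {X S : Scheme.{u}} (f : X ⟶ S)
    [LocallyOfFinitePresentation f] :
    Topology.IsLocallyConstructible {x : X | ∃ e : ℕ,
      ∀ Z ∈ irreducibleComponents (↥(f.fiber (f.base x)) : Type u), f.asFiber x ∈ Z →
        topologicalKrullDim (↥Z : Type u) = e} := by
  have hset : {x : X | ∃ e : ℕ,
      ∀ Z ∈ irreducibleComponents (↥(f.fiber (f.base x)) : Type u), f.asFiber x ∈ Z →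
        topologicalKrullDim (↥Z : Type u) = e} =
      {x : X | x ∉ Groth.Agent.H9.FibClosure.FC f
        {x' : X | FlatMor.fibreDimAt f x' < FlatMor.fibreDimAt f x}} := by
    ext x
    exact mem_iff f x
  rw [hset]
  intro x₀
  obtain ⟨W, hW, hx₀W, -⟩ :=
    exists_isAffineOpen_mem_and_subset (X := X) (x := x₀) (U := ⊤) trivial
  refine ⟨W, W.isOpen.mem_nhds hx₀W, W.isOpen, ?_⟩
  haveI : IsAffine (W : Scheme.{u}) := hW
  -- bound on `W`
  obtain ⟨N, hN⟩ := hW.isCompact.elim_directed_cover
    (fun m : ℕ => {x : X | FlatMor.fibreDimAt f x ≤ (m : WithBot ℕ∞)})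
    (fun m => Groth.Agent.H9.FibDim.isOpen_setOf_fibreDimAt_le f m)
    (by
      intro x _
      obtain ⟨n, hn⟩ := Groth.Agent.H38.FibreDimCons.exists_fibreDimAt_eq f x
      exact Set.mem_iUnion.mpr ⟨n, hn.le⟩)
    (by
      apply Monotone.directed_le
      intro a b hab x hx
      have hx' : FlatMor.fibreDimAt f x ≤ (a : WithBot ℕ∞) := hx
      exact hx'.trans (by exact_mod_cast hab))
  let E' : Set X := ⋃ n ∈ (Finset.range (N + 1) : Set ℕ),
    ({x : X | FlatMor.fibreDimAt f x ≤ (n : WithBot ℕ∞)} ∩
      {x : X | FlatMor.fibreDimAt f x < (n : WithBot ℕ∞)}ᶜ) ∩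
      (Groth.Agent.H9.FibClosure.FC f {x' : X | FlatMor.fibreDimAt f x' < (n : WithBot ℕ∞)})ᶜ
  have hE' : Topology.IsLocallyConstructible E' := by
    apply Topology.IsLocallyConstructible.biUnion (Finset.finite_toSet _)
    intro n _
    exact ((isLocallyConstructible_le f n).inter
      (Groth.Agent.H9.CMCons.isLocallyConstructible_compl (isLocallyConstructible_lt f n))).inter
      (Groth.Agent.H9.CMCons.isLocallyConstructible_compl
        (Groth.Agent.H9.FibClosure.isLocallyConstructible_FC' f _ (isLocallyConstructible_lt f n)))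
  have hc : Topology.IsConstructible (W.ι.base ⁻¹' E') :=
    (hE'.preimage_of_isOpenEmbedding W.ι.isOpenEmbedding).isConstructible
  have heq : W.ι.base ⁻¹' {x : X | x ∉ Groth.Agent.H9.FibClosure.FC f
        {x' : X | FlatMor.fibreDimAt f x' < FlatMor.fibreDimAt f x}} = W.ι.base ⁻¹' E' := by
    ext ⟨x, hxW⟩
    show x ∉ Groth.Agent.H9.FibClosure.FC f
        {x' : X | FlatMor.fibreDimAt f x' < FlatMor.fibreDimAt f x} ↔ x ∈ E'
    obtain ⟨n, hn⟩ := Groth.Agent.H38.FibreDimCons.exists_fibreDimAt_eq f x
    have hnN : n ≤ N := by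
      have h1 : FlatMor.fibreDimAt f x ≤ (N : WithBot ℕ∞) := hN hxW
      rw [hn] at h1
      exact_mod_cast h1
    rw [hn]
    constructor
    · intro hx
      refine Set.mem_biUnion (x := n) (by simpa using Nat.lt_succ_of_le hnN) ⟨⟨?_, ?_⟩, hx⟩
      · show FlatMor.fibreDimAt f x ≤ (n : WithBot ℕ∞)
        rw [hn]
      · show ¬ FlatMor.fibreDimAt f x < (n : WithBot ℕ∞)
        rw [hn]
        exact lt_irrefl _
    · intro hx
      obtain ⟨m, -, ⟨⟨h1, h2⟩, h3⟩⟩ := Set.mem_iUnion₂.mp hx
      have h1' : FlatMor.fibreDimAt f x ≤ (m : WithBot ℕ∞) := h1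
      have h2' : ¬ FlatMor.fibreDimAt f x < (m : WithBot ℕ∞) := h2
      rw [hn] at h1' h2'
      have hmn : m = n := by
        have a1 : n ≤ m := by exact_mod_cast h1'
        have a2 : ¬ n < m := by
          intro h
          apply h2'
          exact_mod_cast h
        omega
      subst hmn
      exact h3
  rw [← heq] at hc
  exact hc


/-- Let f : X ⟶ S be locally of finite presentation. The set of points x of X such that the fibre of f
through x is equidimensional at x (all irreducible components of that fibre passing through x have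
the same dimension) is locally constructible in X. -/
theorem result {X S : Scheme.{u}} (f : X ⟶ S)
    [LocallyOfFinitePresentation f] :
    Topology.IsLocallyConstructible {x : X | ∃ e : ℕ,
      ∀ Z ∈ irreducibleComponents (↥(f.fiber (f.base x)) : Type u), f.asFiber x ∈ Z →
        topologicalKrullDim (↥Z : Type u) = e} := by
  exact result' f

end Groth.Agent.S3451
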