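import Groth.Statements.S1464
import Groth.Agent.H24.ConsLocus
import Groth.Agent.H24.ConsLim
import Groth.Agent.S9777
import Groth.Agent.H9.FibDimTarget
import Groth.Agent.S3451

set_option linter.style.haveILetI false

set_option autoImplicit false
universe u
open FlatMor

namespace Groth.Agent.S1464


section helpers
open AlgebraicGeometry CategoryTheory Limits Topology Groth.Agent.H24 Groth.Agent.H9.FibDim

theorem isLocallyConstructible_ge {X S : Scheme.{u}} (f : X ⟶ S) [LocallyOfFinitePresentation f]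
    (n : ℕ) : IsLocallyConstructible {x : X | (n : WithBot ℕ∞) ≤ FlatMor.fibreDimAt f x} := by
  cases n with
  | zero =>
    convert IsLocallyConstructible.univ (X := X) using 1
    ext x
    simp only [Set.mem_ofPred_eq, Set.mem_univ, iff_true]
    have h0 := localDim_ne_bot (f.fiber (f.base x)) (f.asFiber x)
    unfold FlatMor.fibreDimAt
    rcases h1 : FlatMor.localDim (f.fiber (f.base x)) (f.asFiber x) with _ | e
    · exact absurd h1 h0
    · exact WithBot.coe_le_coe.mpr zero_le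
  | succ k =>
    have : {x : X | ((k + 1 : ℕ) : WithBot ℕ∞) ≤ FlatMor.fibreDimAt f x} =
        {x : X | FlatMor.fibreDimAt f x ≤ (k : WithBot ℕ∞)}ᶜ := by
      ext x
      simp only [Set.mem_ofPred_eq, Set.mem_compl_iff]
      exact natCast_le_iff_not_le _ k
    rw [this]
    exact Groth.Agent.H24.isLocallyConstructible_compl
      (Groth.Agent.S3451.isLocallyConstructible_le f k)

theorem isLocallyConstructible_le_dim {X S : Scheme.{u}} (f : X ⟶ S)
    [LocallyOfFinitePresentation f] [QuasiCompact f] (n : ℕ) :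
    IsLocallyConstructible {s : S | (n : WithBot ℕ∞) ≤ topologicalKrullDim (f.fiber s)} := by
  have : {s : S | (n : WithBot ℕ∞) ≤ topologicalKrullDim (f.fiber s)} =
      f '' {x : X | (n : WithBot ℕ∞) ≤ FlatMor.fibreDimAt f x} := by
    ext s
    simp only [Set.mem_ofPred_eq, Set.mem_image]
    rw [natCast_le_dim_fiber_iff]
    constructor
    · rintro ⟨x, hx, h⟩; exact ⟨x, h, hx⟩
    · rintro ⟨x, h, hx⟩; exact ⟨x, hx, h⟩
  rw [this]
  exact f.isLocallyConstructible_image (isLocallyConstructible_ge f n)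

theorem dim_eq_iff (D : WithBot ℕ∞) (d : ℕ) :
    D = (d : WithBot ℕ∞) ↔
      (d : WithBot ℕ∞) ≤ D ∧ ¬ ((d + 1 : ℕ) : WithBot ℕ∞) ≤ D := by
  rw [natCast_le_iff_not_le, not_not]
  constructor
  · rintro rfl; exact ⟨le_rfl, le_rfl⟩
  · rintro ⟨h1, h2⟩; exact le_antisymm h2 h1

/-- **EGA IV 9.5.5-type**: the set of points where the fibre has dimension exactly `d` is locally
constructible. -/
theorem isLocallyConstructible_dim_eq {X S : Scheme.{u}} (f : X ⟶ S)
    [LocallyOfFinitePresentation f] [QuasiCompact f] (d : ℕ) :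
    IsLocallyConstructible {s : S | topologicalKrullDim (f.fiber s) = (d : WithBot ℕ∞)} := by
  have : {s : S | topologicalKrullDim (f.fiber s) = (d : WithBot ℕ∞)} =
      {s : S | (d : WithBot ℕ∞) ≤ topologicalKrullDim (f.fiber s)} ∩
        {s : S | ((d + 1 : ℕ) : WithBot ℕ∞) ≤ topologicalKrullDim (f.fiber s)}ᶜ := by
    ext s
    exact dim_eq_iff _ d
  rw [this]
  exact (isLocallyConstructible_le_dim f d).inter
    (Groth.Agent.H24.isLocallyConstructible_compl (isLocallyConstructible_le_dim f (d + 1)))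


theorem finiteType_int_Γ (S : Scheme.{u}) [IsAffine S] (k : NsIdx S) :
    Algebra.FiniteType ℤ Γ((nsD S).obj k, ⊤) := by
  letI := ULift.algebra' (R := ℤ) (A := Γ(S, ⊤))
  have hft : Algebra.FiniteType (ULift.{u} ℤ) k.unop.1 :=
    (Subalgebra.fg_iff_finiteType _).mp k.unop.2
  have h1 : Algebra.FiniteType ℤ (ULift.{u} ℤ) :=
    Algebra.FiniteType.of_surjective (Algebra.ofId ℤ (ULift.{u} ℤ)) (fun x => ⟨x.down, by
      apply ULift.ext; simp⟩)
  have h2 : Algebra.FiniteType ℤ k.unop.1 := Algebra.FiniteType.trans h1 hft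
  have e : k.unop.1 ≃+* Γ((nsD S).obj k, ⊤) :=
    (Scheme.ΓSpecIso (CommRingCat.of k.unop.1)).symm.commRingCatIsoToRingEquiv
  exact Algebra.FiniteType.equiv h2 e.toIntAlgEquiv

theorem result' {X S : Scheme.{u}} (f : X ⟶ S) [IsAffine X] [IsAffine S]
    [LocallyOfFinitePresentation f] (d : ℕ)
    (hd : ∀ s : S, topologicalKrullDim ↑(f.fiber s) = d) :
    ∃ (X₀ S₀ : Scheme.{u}) (f₀ : X₀ ⟶ S₀) (g : S ⟶ S₀) (g' : X ⟶ X₀), IsAffine X₀ ∧ IsAffine S₀ ∧
      IsPullback g' f f₀ g ∧ Algebra.FiniteType ℤ Γ(S₀, ⊤) ∧ LocallyOfFiniteType f₀ ∧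
      ∀ s₀ : S₀, topologicalKrullDim ↑(f₀.fiber s₀) = d := by
  let D := nsD S
  let c := nsCone S
  have hc : IsLimit c := nsIsLimit S
  let f' : X ⟶ c.pt := f
  have a1 : LocallyOfFinitePresentation f' := ‹LocallyOfFinitePresentation f›
  have a2 : QuasiCompact f' := (inferInstance : QuasiCompact f)
  have a3 : QuasiSeparated f' := (inferInstance : QuasiSeparated f)
  obtain ⟨i₁, X₁, f₁, g₁, h1, h2, h3, sq₁⟩ := desc_of_finitePresentation hc f'
  haveI := h1
  haveI := h2
  haveI := h3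
  -- a stage at which the total space is affine
  have hcpt : ∀ j : Over i₁, CompactSpace ((pbDiagram D (𝟙 i₁) f₁).obj j) := fun j => by
    show CompactSpace ↥(pullback f₁ (D.map (j.hom ≫ 𝟙 i₁)))
    have : QuasiCompact (pullback.snd f₁ (D.map (j.hom ≫ 𝟙 i₁))) := inferInstance
    exact QuasiCompact.compactSpace_of_compactSpace (pullback.snd f₁ (D.map (j.hom ≫ 𝟙 i₁)))
  have hqs : ∀ j : Over i₁, QuasiSeparatedSpace ((pbDiagram D (𝟙 i₁) f₁).obj j) := fun j => by
    show QuasiSeparatedSpace ↥(pullback f₁ (D.map (j.hom ≫ 𝟙 i₁)))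
    have : QuasiSeparated (pullback.snd f₁ (D.map (j.hom ≫ 𝟙 i₁))) := inferInstance
    exact quasiSeparatedSpace_of_quasiSeparated (pullback.snd f₁ (D.map (j.hom ≫ 𝟙 i₁)))
  have haffX : IsAffine (pbCone D (𝟙 i₁) f₁ c g₁ f' sq₁.w).pt := ‹IsAffine X›
  obtain ⟨j, hj⟩ := Scheme.exists_isAffine_of_isLimit (pbDiagram D (𝟙 i₁) f₁)
    (pbCone D (𝟙 i₁) f₁ c g₁ f' sq₁.w) (isLimitPbCone D (𝟙 i₁) f₁ c hc g₁ f' sq₁)
  -- stage `i₂ = j.left`
  let i₂ : NsIdx S := j.left
  let X₂ : Scheme.{u} := pullback f₁ (D.map (j.hom ≫ 𝟙 i₁))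
  let f₂ : X₂ ⟶ D.obj i₂ := pullback.snd f₁ (D.map (j.hom ≫ 𝟙 i₁))
  let g₂ : X ⟶ X₂ := pbLift D (𝟙 i₁) f₁ c g₁ f' sq₁.w j
  have sq₂ : IsPullback g₂ f' f₂ (c.π.app i₂) := isPullback_pbLift D (𝟙 i₁) f₁ c g₁ f' sq₁ j
  have hX₂ : IsAffine X₂ := hj
  have b1 : LocallyOfFinitePresentation f₂ := by
    show LocallyOfFinitePresentation (pullback.snd f₁ (D.map (j.hom ≫ 𝟙 i₁))); infer_instance
  have b2 : QuasiCompact f₂ := by
    show QuasiCompact (pullback.snd f₁ (D.map (j.hom ≫ 𝟙 i₁))); infer_instance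
  -- the bad locus at stage `i₂`
  let E₂ : Set (D.obj i₂) := {t | topologicalKrullDim (f₂.fiber t) = (d : WithBot ℕ∞)}ᶜ
  have hE₂ : IsConstructible E₂ :=
    (Groth.Agent.H24.isLocallyConstructible_compl
      (isLocallyConstructible_dim_eq f₂ d)).isConstructible
  have hpre : c.π.app i₂ ⁻¹' E₂ = ∅ := by
    ext s
    simp only [Set.mem_preimage, Set.mem_empty_iff_false, iff_false]
    intro hs
    apply hs
    show topologicalKrullDim (f₂.fiber (c.π.app i₂ s)) = (d : WithBot ℕ∞)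
    rw [← Groth.Agent.S9777.result f₂ (c.π.app i₂) f' g₂ sq₂ s]
    exact hd s
  obtain ⟨k, b, hb⟩ := exists_preimage_eq_empty_of_isConstructible D c hc E₂ hE₂ hpre
  obtain ⟨g', hg'1, hg'2, sq'⟩ := restage_data f₂ g₂ sq₂ b
  have hfst : IsAffineHom (pullback.fst f₂ (D.map b)) := inferInstance
  refine ⟨pullback f₂ (D.map b), D.obj k, pullback.snd f₂ (D.map b), c.π.app k, g',
    isAffine_of_isAffineHom (pullback.fst f₂ (D.map b)), inferInstance, sq',
    finiteType_int_Γ S k, inferInstance, ?_⟩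
  intro s₀
  rw [Groth.Agent.S9777.result f₂ (D.map b) (pullback.snd f₂ (D.map b)) (pullback.fst f₂ (D.map b))
    (IsPullback.of_hasPullback f₂ (D.map b)) s₀]
  by_contra hne
  have : s₀ ∈ D.map b ⁻¹' E₂ := hne
  rw [hb] at this
  exact this

end helpers


open AlgebraicGeometry CategoryTheory Limits in
/-- Let f : X → S be a morphism of finite presentation between affine schemes all of whose fibres have
dimension d. Then f is the base change of a morphism of finite type f₀ : X₀ → S₀ between affine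
schemes with S₀ of finite type over ℤ, where f₀ can be chosen with the same property. -/
theorem result {X S : Scheme.{u}} (f : X ⟶ S) [IsAffine X] [IsAffine S] [LocallyOfFinitePresentation f] (d : ℕ) (hd : ∀ s : S, topologicalKrullDim ↑(f.fiber s) = d) :
    ∃ (X₀ S₀ : Scheme.{u}) (f₀ : X₀ ⟶ S₀) (g : S ⟶ S₀) (g' : X ⟶ X₀), IsAffine X₀ ∧ IsAffine S₀ ∧ IsPullback g' f f₀ g ∧
      Algebra.FiniteType ℤ Γ(S₀, ⊤) ∧ LocallyOfFiniteType f₀ ∧ ∀ s₀ : S₀, topologicalKrullDim ↑(f₀.fiber s₀) = d := by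
  exact result' f d hd

end Groth.Agent.S1464
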