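import Groth.Statements.S2057
import Mathlib
import Groth.Agent.H46.TensorVanish

set_option autoImplicit false
set_option linter.style.haveILetI false
universe u
open CAlg

namespace Groth.Agent.S2057

open TensorProduct


/-- An injective linear map `f : M₁ → M₂` is universally injective if and only if: whenever elements
`x_i` of `M₁` satisfy `f(x_i) = Σ_j a_{ij} y_j` for some `y_j ∈ M₂` and scalars `a_{ij}`, there are
`z_j ∈ M₁` with `x_i = Σ_j a_{ij} z_j`. -/
theorem result {R M₁ M₂ : Type u} [CommRing R] [AddCommGroup M₁]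
    [Module R M₁] [AddCommGroup M₂] [Module R M₂] (f : M₁ →ₗ[R] M₂) (hf : Function.Injective f) :
    CAlgX.UniversallyInjective R f ↔
      ∀ (n m : ℕ) (x : Fin n → M₁) (y : Fin m → M₂) (a : Fin n → Fin m → R),
        (∀ i, f (x i) = ∑ j, a i j • y j) → ∃ z : Fin m → M₁, ∀ i, x i = ∑ j, a i j • z j := by
  classical
  constructor
  · -- universally injective ⇒ equational condition
    intro hU n m x y a hrel
    let col : Fin m → (Fin n → R) := fun j i => a i j
    let K : Submodule R (Fin n → R) := Submodule.span R (Set.range col)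
    let e : Fin n → (Fin n → R) := fun i => Pi.single i 1
    let ut : M₁ ⊗[R] (Fin n → R) := ∑ i, x i ⊗ₜ[R] e i
    have hcol : ∀ j, ∑ i, a i j • e i = col j := by
      intro j
      funext i'
      simp [e, col, Finset.sum_apply, Pi.single_apply]
    have hmk : ∀ j, ∑ i, a i j • K.mkQ (e i) = 0 := by
      intro j
      have h1 : K.mkQ (∑ i, a i j • e i) = ∑ i, a i j • K.mkQ (e i) := by
        rw [map_sum]; simp
      rw [← h1, hcol j]
      exact (Submodule.Quotient.mk_eq_zero K).mpr (Submodule.subset_span ⟨j, rfl⟩)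
    have h0 : f.rTensor ((Fin n → R) ⧸ K) (K.mkQ.lTensor M₁ ut) = 0 := by
      simp only [ut, map_sum, LinearMap.lTensor_tmul, LinearMap.rTensor_tmul]
      simp_rw [hrel, TensorProduct.sum_tmul, TensorProduct.smul_tmul]
      rw [Finset.sum_comm]
      refine Finset.sum_eq_zero fun j _ => ?_
      rw [← TensorProduct.tmul_sum, hmk j, TensorProduct.tmul_zero]
    have h1 : K.mkQ.lTensor M₁ ut = 0 :=
      hU ((Fin n → R) ⧸ K) (by rw [h0, map_zero])
    have hex := Groth.Agent.H46.TV.exact_aux (N := M₁) K.mkQ (Submodule.mkQ_surjective K)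
    obtain ⟨w, hw⟩ := (hex ut).mp h1
    obtain ⟨c, mm, κ, hwsum⟩ := TensorProduct.exists_sum_tmul_eq w
    -- each κ t lies in K
    have hκ : ∀ t, ∃ r : Fin m → R, ∑ j, r j • col j = ((κ t : LinearMap.ker K.mkQ) : Fin n → R) := by
      intro t
      have hmem : ((κ t : LinearMap.ker K.mkQ) : Fin n → R) ∈ K := by
        have h2 : K.mkQ ((κ t : LinearMap.ker K.mkQ) : Fin n → R) = 0 := LinearMap.mem_ker.mp (κ t).2
        exact (Submodule.Quotient.mk_eq_zero K).mp h2
      exact (Submodule.mem_span_range_iff_exists_fun R).mp hmem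
    choose r hr using hκ
    refine ⟨fun j => ∑ t, r t j • mm t, fun i => ?_⟩
    -- coefficient extraction
    let ci : M₁ ⊗[R] (Fin n → R) →ₗ[R] M₁ :=
      (TensorProduct.rid R M₁).toLinearMap ∘ₗ (LinearMap.lTensor M₁ (LinearMap.proj i))
    have hci : ∀ (mx : M₁) (gx : Fin n → R), ci (mx ⊗ₜ[R] gx) = gx i • mx := by
      intro mx gx; simp [ci]
    have e1 : ci ut = x i := by
      simp only [ut, map_sum, hci, e]
      simp [Pi.single_apply]
    have e2 : ci ut = ∑ t, ((κ t : LinearMap.ker K.mkQ) : Fin n → R) i • mm t := by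
      rw [← hw, hwsum]
      simp only [map_sum, LinearMap.lTensor_tmul, hci, Submodule.subtype_apply]
    rw [← e1, e2]
    simp_rw [← hr, Finset.sum_apply, Pi.smul_apply, smul_eq_mul, col, Finset.sum_smul,
      Finset.smul_sum, smul_smul]
    rw [Finset.sum_comm]
    refine Finset.sum_congr rfl fun j _ => Finset.sum_congr rfl fun t _ => ?_
    rw [mul_comm]
  · -- equational condition ⇒ universally injective
    intro hE Q _ _
    rw [injective_iff_map_eq_zero]
    intro u hu
    obtain ⟨X, b, k, n, hX, hk, hfX⟩ := Groth.Agent.H46.TV.stepA f u hu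
    let s : Finset Q := X.support ∪ Finset.univ.biUnion (fun l => (k l).support)
    have hsubX : X.support ⊆ s := Finset.subset_union_left
    have hsubk : ∀ l, (k l).support ⊆ s := fun l =>
      (Finset.subset_biUnion_of_mem (fun l => (k l).support) (Finset.mem_univ l)).trans
        Finset.subset_union_right
    have hsumk : ∀ l, ∑ q ∈ s, k l q • q = 0 := by
      intro l
      have := hk l
      rw [Finsupp.linearCombination_apply, Finsupp.sum_of_support_subset _ (hsubk l) _
        (by intro q _; exact zero_smul _ _)] at this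
      exact this
    let σ : Fin s.card ≃ s := s.equivFin.symm
    obtain ⟨z, hz⟩ := hE s.card b (fun i => X (σ i)) n (fun i l => k l (σ i))
      (fun i => hfX (σ i))
    have hzq : ∀ q ∈ s, X q = ∑ l, k l q • z l := by
      intro q hq
      have := hz (σ.symm ⟨q, hq⟩)
      simpa using this
    rw [hX, Finsupp.sum_of_support_subset X hsubX (fun q m => m ⊗ₜ[R] q)
      (fun q _ => TensorProduct.zero_tmul _ _)]
    calc ∑ q ∈ s, X q ⊗ₜ[R] q = ∑ q ∈ s, ∑ l, z l ⊗ₜ[R] (k l q • q) := by
          refine Finset.sum_congr rfl fun q hq => ?_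
          rw [hzq q hq, TensorProduct.sum_tmul]
          refine Finset.sum_congr rfl fun l _ => ?_
          rw [TensorProduct.smul_tmul]
      _ = ∑ l, z l ⊗ₜ[R] (∑ q ∈ s, k l q • q) := by
          rw [Finset.sum_comm]
          refine Finset.sum_congr rfl fun l _ => ?_
          rw [TensorProduct.tmul_sum]
      _ = 0 := by
          refine Finset.sum_eq_zero fun l _ => ?_
          rw [hsumk l, TensorProduct.tmul_zero]

end Groth.Agent.S2057
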