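import Groth.Statements.S6302
import Mathlib
-- import your own Groth.Agent.* helpers here

set_option autoImplicit false
universe u
open CAlg

namespace Groth.Agent.S6302

open TensorProduct

section helpers

variable {R : Type u} [CommRing R]

/-- The action of an `m × n` matrix `a` on vectors with entries in a module `M`. -/
def actL {m n : ℕ} (a : Fin m → Fin n → R) (M : Type u) [AddCommGroup M] [Module R M] :
    (Fin n → M) →ₗ[R] (Fin m → M) :=
  LinearMap.pi fun i => ∑ j : Fin n, a i j • (LinearMap.proj j : (Fin n → M) →ₗ[R] M)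

theorem actL_apply {m n : ℕ} (a : Fin m → Fin n → R) (M : Type u) [AddCommGroup M] [Module R M]
    (y : Fin n → M) (i : Fin m) : actL a M y i = ∑ j, a i j • y j := by
  simp [actL, LinearMap.pi_apply, LinearMap.sum_apply]

theorem actL_map {m n : ℕ} (a : Fin m → Fin n → R) {M M' : Type u} [AddCommGroup M] [Module R M]
    [AddCommGroup M'] [Module R M'] (h : M →ₗ[R] M') (y : Fin n → M) :
    actL a M' (fun j => h (y j)) = fun i => h (actL a M y i) := by
  funext i
  simp [actL_apply, map_sum]

theorem star {m n : ℕ} (a : Fin m → Fin n → R) (M : Type u) [AddCommGroup M] [Module R M]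
    (w : M ⊗[R] (Fin n → R)) :
    piScalarRight R R M (Fin m) ((actL a R).lTensor M w) =
      actL a M (piScalarRight R R M (Fin n) w) := by
  induction w using TensorProduct.induction_on with
  | zero => simp
  | tmul x v =>
    funext i
    simp [actL_apply, piScalarRight_apply, piScalarRightHom_tmul, Finset.sum_smul, mul_smul]
  | add w₁ w₂ h₁ h₂ => simp only [map_add, h₁, h₂]

theorem nat_piScalarRight {m : ℕ} {M M' : Type u} [AddCommGroup M] [Module R M]
    [AddCommGroup M'] [Module R M'] (h : M →ₗ[R] M') (w : M ⊗[R] (Fin m → R)) :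
    piScalarRight R R M' (Fin m) (h.rTensor (Fin m → R) w) =
      fun i => h (piScalarRight R R M (Fin m) w i) := by
  induction w using TensorProduct.induction_on with
  | zero => funext i; simp
  | tmul x v =>
    funext i
    simp [piScalarRight_apply, piScalarRightHom_tmul]
  | add w₁ w₂ h₁ h₂ =>
    funext i
    simp only [map_add, h₁, h₂, Pi.add_apply]

/-- The matrix property: a system `a • x' = x` solvable after applying `f` is solvable. -/
def MatProp {M₁ M₂ : Type u} [AddCommGroup M₁] [Module R M₁] [AddCommGroup M₂] [Module R M₂]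
    (f : M₁ →ₗ[R] M₂) : Prop :=
  ∀ (m n : ℕ) (a : Fin m → Fin n → R) (x : Fin m → M₁) (y : Fin n → M₂),
    (fun i => f (x i)) = actL a M₂ y → ∃ x' : Fin n → M₁, x = actL a M₁ x'

theorem matProp_of_universallyInjective {M₁ M₂ : Type u} [AddCommGroup M₁] [Module R M₁]
    [AddCommGroup M₂] [Module R M₂] (f : M₁ →ₗ[R] M₂) (hf : CAlgX.UniversallyInjective R f) :
    MatProp f := by
  intro m n a x y hxy
  have hex : Function.Exact (actL a R) (LinearMap.range (actL a R)).mkQ := by
    rw [LinearMap.exact_iff]; simp
  have hex1 := lTensor_exact M₁ hex (Submodule.mkQ_surjective _)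
  have h0 : (LinearMap.range (actL a R)).mkQ.lTensor M₁
      ((piScalarRight R R M₁ (Fin m)).symm x) = 0 := by
    apply hf ((Fin m → R) ⧸ LinearMap.range (actL a R))
    rw [map_zero]
    have e1 : f.rTensor _ ((LinearMap.range (actL a R)).mkQ.lTensor M₁
        ((piScalarRight R R M₁ (Fin m)).symm x)) =
        (LinearMap.range (actL a R)).mkQ.lTensor M₂
          (f.rTensor _ ((piScalarRight R R M₁ (Fin m)).symm x)) := by
      rw [← LinearMap.comp_apply, ← LinearMap.comp_apply, LinearMap.rTensor_comp_lTensor,
        LinearMap.lTensor_comp_rTensor]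
    have e2 : f.rTensor (Fin m → R) ((piScalarRight R R M₁ (Fin m)).symm x) =
        (actL a R).lTensor M₂ ((piScalarRight R R M₂ (Fin n)).symm y) := by
      apply (piScalarRight R R M₂ (Fin m)).injective
      rw [nat_piScalarRight, star, LinearEquiv.apply_symm_apply, LinearEquiv.apply_symm_apply]
      exact hxy
    rw [e1, e2, ← LinearMap.comp_apply, ← LinearMap.lTensor_comp]
    have hz : (LinearMap.range (actL a R)).mkQ ∘ₗ (actL a R) = 0 := by
      refine LinearMap.ext fun v => ?_
      simp only [LinearMap.coe_comp, Function.comp_apply, Submodule.mkQ_apply,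
        LinearMap.zero_apply]
      exact (Submodule.Quotient.mk_eq_zero _).mpr (LinearMap.mem_range_self _ v)
    rw [hz, LinearMap.lTensor_zero, LinearMap.zero_apply]
  obtain ⟨t', ht'⟩ := (hex1 _).mp h0
  refine ⟨piScalarRight R R M₁ (Fin n) t', ?_⟩
  rw [← star, ht', LinearEquiv.apply_symm_apply]

/-- Core: the matrix property implies splitting when the cokernel is finitely presented. -/
theorem exists_section_of_matProp {M₁ M₂ M₃ : Type u} [AddCommGroup M₁] [Module R M₁]
    [AddCommGroup M₂] [Module R M₂] [AddCommGroup M₃] [Module R M₃]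
    [Module.FinitePresentation R M₃] (f : M₁ →ₗ[R] M₂) (g : M₂ →ₗ[R] M₃)
    (hexact : Function.Exact f g) (hg : Function.Surjective g) (hf : MatProp f) :
    ∃ s : M₃ →ₗ[R] M₂, g.comp s = LinearMap.id := by
  obtain ⟨n, m, π, ρ, hπ, hρπ⟩ := Module.FinitePresentation.exists_fin' R M₃
  -- the matrix of ρ
  let a : Fin m → Fin n → R := fun i j => ρ (Pi.single i 1) j
  -- lifts of the generators
  choose y hy using fun j : Fin n => hg (π (Pi.single j 1))
  have hπa : ∀ v : Fin n → R, π v = ∑ j, v j • π (Pi.single j 1) := by
    intro v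
    conv_lhs => rw [← Finset.univ_sum_single v]
    rw [map_sum]
    refine Finset.sum_congr rfl fun j _ => ?_
    rw [← map_smul]
    congr 1
    rw [← Pi.single_smul', smul_eq_mul, mul_one]
  have hgy : ∀ i, g (actL a M₂ y i) = 0 := by
    intro i
    rw [actL_apply, map_sum]
    simp only [map_smul, hy]
    rw [← hπa (ρ (Pi.single i 1))]
    exact hρπ.apply_apply_eq_zero _
  choose x hx using fun i : Fin m => (hexact (actL a M₂ y i)).mp (hgy i)
  obtain ⟨x', hx'⟩ := hf m n a x y (funext hx)
  -- corrected lifts
  let y' : Fin n → M₂ := fun j => y j - f (x' j)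
  have hy'0 : ∀ i, actL a M₂ y' i = 0 := by
    intro i
    have h1 : actL a M₂ y' = actL a M₂ y - actL a M₂ (fun j => f (x' j)) := by
      rw [← map_sub]; rfl
    rw [h1, actL_map, Pi.sub_apply, ← hx', hx, sub_self]
  have hgy' : ∀ j, g (y' j) = π (Pi.single j 1) := by
    intro j
    show g (y j - f (x' j)) = _
    rw [map_sub, hy, hexact.apply_apply_eq_zero, sub_zero]
  let σ : (Fin n → R) →ₗ[R] M₂ := Fintype.linearCombination R y'
  have hσ : ∀ v, σ v = ∑ j, v j • y' j := fun v => Fintype.linearCombination_apply R y' v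
  have hσρ : ∀ w : Fin m → R, σ (ρ w) = 0 := by
    have : σ ∘ₗ ρ = 0 := by
      apply LinearMap.pi_ext'
      intro i
      ext
      simp only [LinearMap.coe_comp, LinearMap.coe_single, Function.comp_apply,
        LinearMap.zero_apply]
      rw [hσ]
      have := hy'0 i
      rw [actL_apply] at this
      exact this
    intro w
    exact LinearMap.congr_fun this w
  have hker : LinearMap.ker π ≤ LinearMap.ker σ := by
    intro v hv
    obtain ⟨w, rfl⟩ := (hρπ v).mp hv
    exact hσρ w
  have hgσ : ∀ v, g (σ v) = π v := by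
    intro v
    rw [hσ, map_sum, hπa v]
    simp only [map_smul, hgy']
  refine ⟨(LinearMap.ker π).liftQ σ hker ∘ₗ
    (LinearMap.quotKerEquivOfSurjective π hπ).symm.toLinearMap, ?_⟩
  ext z
  obtain ⟨v, rfl⟩ := hπ z
  have e : (LinearMap.quotKerEquivOfSurjective π hπ).symm (π v) =
      Submodule.Quotient.mk v := by
    rw [LinearEquiv.symm_apply_eq]; rfl
  simp only [LinearMap.coe_comp, LinearEquiv.coe_coe, Function.comp_apply, LinearMap.id_coe, id_eq]
  rw [e, Submodule.liftQ_apply, hgσ]

end helpers

/-- Let 0 → M₁ → M₂ → M₃ → 0 be a short exact sequence of R-modules with M₃ of finite presentation. If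
the sequence is universally exact (its first map is universally injective) then it is split: M₂ → M₃
admits a section. (The converse, split implies universally exact, is elementary and not stated.) -/
theorem result {R : Type u} [CommRing R] {M₁ M₂ M₃ : Type u} [AddCommGroup M₁] [Module R M₁] [AddCommGroup M₂] [Module R M₂] [AddCommGroup M₃] [Module R M₃] [Module.FinitePresentation R M₃] (f : M₁ →ₗ[R] M₂) (g : M₂ →ₗ[R] M₃) (hexact : Function.Exact f g) (hg : Function.Surjective g) (hf : CAlgX.UniversallyInjective R f) : ∃ s : M₃ →ₗ[R] M₂, g.comp s = LinearMap.id := by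
  exact exists_section_of_matProp f g hexact hg (matProp_of_universallyInjective f hf)

end Groth.Agent.S6302
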