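import Groth.Statements.S14372
import Groth.Agent.H91.ProjDimThm

set_option autoImplicit false
universe u
open Fano

namespace Groth.Agent.S14372

/-- Over an algebraically closed field k of arbitrary characteristic, let f be a homogeneous form of
degree d ≥ 2 in n + 1 variables and U a linear subspace of k^(n+1) on which f vanishes, such that at
every nonzero vector of U some partial derivative of f does not vanish (the hypersurface f = 0 in
P^n contains the r-plane P(U), r + 1 = dim U, and is smooth at every point of it). Then 2 · dim U ≤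
n + 1, i.e. r ≤ (n − 1)/2. (The published statement assumes the hypersurface smooth everywhere; this
row assumes smoothness only along P(U).) -/
theorem result (k : Type u) [Field k] [IsAlgClosed k]
    (n d : ℕ) (hd : 2 ≤ d) (f : MvPolynomial (Fin (n + 1)) k) (hf : f.IsHomogeneous d)
    (U : Submodule k (Fin (n + 1) → k)) (hU : ∀ u ∈ U, MvPolynomial.eval u f = 0)
    (hsm : ∀ u ∈ U, u ≠ 0 → ∃ i : Fin (n + 1), MvPolynomial.eval u (MvPolynomial.pderiv i f) ≠ 0) :
    2 * Module.finrank k ↥U ≤ n + 1 := by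
  classical
  by_contra hlt
  push Not at hlt
  obtain ⟨W, hW⟩ := Submodule.exists_isCompl U
  have hdim : Module.finrank k U + Module.finrank k W = n + 1 := by
    rw [Submodule.finrank_add_eq_of_isCompl hW, Module.finrank_fin_fun]
  obtain ⟨r, hr⟩ : ∃ r, r = Module.finrank k U := ⟨_, rfl⟩
  obtain ⟨c, hc⟩ : ∃ c, c = Module.finrank k W := ⟨_, rfl⟩
  obtain ⟨b⟩ : Nonempty (Module.Basis (Fin r) k U) := ⟨Module.finBasisOfFinrankEq k U hr.symm⟩
  obtain ⟨bw⟩ : Nonempty (Module.Basis (Fin c) k W) := ⟨Module.finBasisOfFinrankEq k W hc.symm⟩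
  have hcr : c < r := by omega
  obtain ⟨g, hg⟩ : ∃ g : Fin (n + 1) → MvPolynomial (Fin r) k,
      g = fun i => ∑ l, MvPolynomial.C ((b l : Fin (n + 1) → k) i) * MvPolynomial.X l := ⟨_, rfl⟩
  obtain ⟨G, hG⟩ : ∃ G : Fin c → MvPolynomial (Fin r) k,
      G = fun j => ∑ i, MvPolynomial.C ((bw j : Fin (n + 1) → k) i) *
        MvPolynomial.aeval g (MvPolynomial.pderiv i f) := ⟨_, rfl⟩
  have hev : ∀ (s : Fin r → k) (p : MvPolynomial (Fin (n + 1)) k),
      MvPolynomial.eval s (MvPolynomial.aeval g p) =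
        MvPolynomial.eval (fun i => ∑ l, (b l : Fin (n + 1) → k) i * s l) p := by
    intro s p
    have h1 := MvPolynomial.comp_aeval_apply g
      (MvPolynomial.aeval s : MvPolynomial (Fin r) k →ₐ[k] k) p
    have h2 : (fun i => (MvPolynomial.aeval s : MvPolynomial (Fin r) k →ₐ[k] k) (g i)) =
        fun i => ∑ l, (b l : Fin (n + 1) → k) i * s l := by
      funext i
      rw [hg]
      simp
    rw [h2] at h1
    exact h1
  have hus : ∀ s : Fin r → k, ((b.equivFun.symm s : U) : Fin (n + 1) → k) =
      fun i => ∑ l, (b l : Fin (n + 1) → k) i * s l := by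
    intro s
    rw [b.equivFun_symm_apply]
    funext i
    simp [Finset.sum_apply, mul_comm]
  have hG0 : ∀ j, MvPolynomial.eval (0 : Fin r → k) (G j) = 0 := by
    intro j
    rw [hG]
    simp only [map_sum, map_mul, MvPolynomial.eval_C, hev]
    have hz : (fun i' => ∑ l, (b l : Fin (n + 1) → k) i' * (0 : Fin r → k) l) = 0 := by
      funext i'; simp
    rw [hz]
    apply Finset.sum_eq_zero
    intro i _
    have hh : (MvPolynomial.pderiv i f).IsHomogeneous (d - 1) := hf.pderiv
    have hcc : MvPolynomial.constantCoeff (MvPolynomial.pderiv i f) = 0 := by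
      rw [MvPolynomial.constantCoeff_eq]
      apply hh.coeff_eq_zero
      rw [map_zero]
      omega
    rw [MvPolynomial.eval_zero, hcc, mul_zero]
  obtain ⟨s, hs0, hsG⟩ := Groth.Agent.H91.ProjDimThm.exists_common_zero k r (Finset.univ.image G)
    (by
      intro q hq
      obtain ⟨j, -, rfl⟩ := Finset.mem_image.mp hq
      exact hG0 j)
    (lt_of_le_of_lt Finset.card_image_le (by rw [Finset.card_univ, Fintype.card_fin]; exact hcr))
  have hu_ne : (b.equivFun.symm s : U) ≠ 0 := by
    intro h
    apply hs0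
    have h1 := congrArg b.equivFun h
    rwa [LinearEquiv.apply_symm_apply, map_zero] at h1
  obtain ⟨uv, huv⟩ : ∃ uv : Fin (n + 1) → k, uv = ((b.equivFun.symm s : U) : Fin (n + 1) → k) :=
    ⟨_, rfl⟩
  have huvU : uv ∈ U := by rw [huv]; exact (b.equivFun.symm s).2
  have huv_ne : uv ≠ 0 := by
    rw [huv]
    exact fun h => hu_ne (Submodule.coe_eq_zero.mp h)
  obtain ⟨i0, hi0⟩ := hsm uv huvU huv_ne
  obtain ⟨D, hDdef⟩ : ∃ D : (Fin (n + 1) → k) →ₗ[k] k,
      D = ∑ i, (MvPolynomial.eval uv (MvPolynomial.pderiv i f)) •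
        (LinearMap.proj i : (Fin (n + 1) → k) →ₗ[k] k) := ⟨_, rfl⟩
  have hD : ∀ w, D w = ∑ i, w i * MvPolynomial.eval uv (MvPolynomial.pderiv i f) := by
    intro w
    rw [hDdef]
    simp [LinearMap.sum_apply, mul_comm]
  have hDU : U ≤ LinearMap.ker D := by
    intro w hw
    rw [LinearMap.mem_ker, hD]
    apply Groth.Agent.H91.ProjDimThm.dirDeriv_eq_zero f uv w
    intro t
    exact hU _ (U.add_mem huvU (U.smul_mem t hw))
  have hDbw : ∀ j, D (bw j : Fin (n + 1) → k) = 0 := by
    intro j
    rw [hD]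
    have h1 := hsG (G j) (Finset.mem_image_of_mem G (Finset.mem_univ j))
    rw [hG] at h1
    simp only [map_sum, map_mul, MvPolynomial.eval_C, hev] at h1
    rw [← hus s, ← huv] at h1
    exact h1
  have hDW : W ≤ LinearMap.ker D := by
    intro w hw
    rw [LinearMap.mem_ker]
    have hw' := bw.sum_equivFun ⟨w, hw⟩
    have hw2 : w = ∑ j, bw.equivFun ⟨w, hw⟩ j • (bw j : Fin (n + 1) → k) := by
      have h1 : ((∑ j, bw.equivFun ⟨w, hw⟩ j • bw j : W) : Fin (n + 1) → k) = w :=
        congrArg Subtype.val hw'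
      rw [Submodule.coe_sum] at h1
      simp only [Submodule.coe_smul] at h1
      exact h1.symm
    rw [hw2, map_sum]
    apply Finset.sum_eq_zero
    intro j _
    rw [map_smul, hDbw j, smul_zero]
  have htop : (⊤ : Submodule k (Fin (n + 1) → k)) ≤ LinearMap.ker D := by
    rw [← hW.sup_eq_top]
    exact sup_le hDU hDW
  have hfin := htop (Submodule.mem_top : (Pi.single i0 1 : Fin (n + 1) → k) ∈ ⊤)
  rw [LinearMap.mem_ker, hD] at hfin
  apply hi0
  simpa [Pi.single_apply, Finset.sum_ite_eq'] using hfin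

end Groth.Agent.S14372
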