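import Groth.Statements.S18404
import Mathlib

set_option autoImplicit false
universe u
open Cubic

namespace Groth.Agent.S18404

open MvPolynomial in
theorem eval_form (k : ℂ) (x : Fin 3 → ℂ) :
    eval x (HesseCubic.form k) = x 0 ^ 3 + x 1 ^ 3 + x 2 ^ 3 - 3 * k * (x 0 * x 1 * x 2) := by
  simp [HesseCubic.form]

theorem coeffs_zero {c0 c1 c2 : ℂ} (h : ∀ t : ℂ, t ^ 2 * c2 + t * c1 + c0 = 0) :
    c0 = 0 ∧ c1 = 0 ∧ c2 = 0 := by
  have h0 := h 0
  have h1 := h 1
  have h2 := h (-1)
  have e0 : c0 = 0 := by simpa using h0
  subst e0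
  have e2 : c2 = 0 := by linear_combination (1 / 2 : ℂ) * h1 + (1 / 2 : ℂ) * h2
  subst e2
  have e1 : c1 = 0 := by linear_combination h1
  exact ⟨rfl, e1, rfl⟩

theorem flex_aux (k a b c p q r : ℂ) (hk : k ^ 3 ≠ 1)
    (hA : a ^ 3 + b ^ 3 + c ^ 3 - 3 * k * (a * b * c) = 0)
    (hB : (a ^ 2 - k * b * c) * p + (b ^ 2 - k * a * c) * q + (c ^ 2 - k * a * b) * r = 0)
    (hC : a * p ^ 2 + b * q ^ 2 + c * r ^ 2 - k * (c * p * q + b * p * r + a * q * r) = 0)
    (hn : b * r - c * q ≠ 0 ∨ c * p - a * r ≠ 0 ∨ a * q - b * p ≠ 0) : a * b * c = 0 := by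
  have hk' : 1 - k ^ 3 ≠ 0 := fun h => hk (by linear_combination -h)
  have e0 : (b * r - c * q) ^ 2 * (a * b * c) * (1 - k ^ 3) = 0 := by
    linear_combination
      ((a * p ^ 2 + b * q ^ 2 + c * r ^ 2 - k * (c * p * q + b * p * r + a * q * r)) * a -
        (a * p - k / 2 * (c * q + b * r)) ^ 2 + (b * r - c * q) ^ 2 * k ^ 2 / 4) * hA +
      (2 * (a ^ 2 - k * b * c) * (a * p - k / 2 * (c * q + b * r)) -
        ((a ^ 2 - k * b * c) * p + (b ^ 2 - k * a * c) * q + (c ^ 2 - k * a * b) * r) * a) * hB -
      (a ^ 2 - k * b * c) ^ 2 * hC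
  have e1 : (c * p - a * r) ^ 2 * (a * b * c) * (1 - k ^ 3) = 0 := by
    linear_combination
      ((a * p ^ 2 + b * q ^ 2 + c * r ^ 2 - k * (c * p * q + b * p * r + a * q * r)) * b -
        (b * q - k / 2 * (c * p + a * r)) ^ 2 + (c * p - a * r) ^ 2 * k ^ 2 / 4) * hA +
      (2 * (b ^ 2 - k * a * c) * (b * q - k / 2 * (c * p + a * r)) -
        ((a ^ 2 - k * b * c) * p + (b ^ 2 - k * a * c) * q + (c ^ 2 - k * a * b) * r) * b) * hB -
      (b ^ 2 - k * a * c) ^ 2 * hC
  have e2 : (a * q - b * p) ^ 2 * (a * b * c) * (1 - k ^ 3) = 0 := by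
    linear_combination
      ((a * p ^ 2 + b * q ^ 2 + c * r ^ 2 - k * (c * p * q + b * p * r + a * q * r)) * c -
        (c * r - k / 2 * (b * p + a * q)) ^ 2 + (a * q - b * p) ^ 2 * k ^ 2 / 4) * hA +
      (2 * (c ^ 2 - k * a * b) * (c * r - k / 2 * (b * p + a * q)) -
        ((a ^ 2 - k * b * c) * p + (b ^ 2 - k * a * c) * q + (c ^ 2 - k * a * b) * r) * c) * hB -
      (c ^ 2 - k * a * b) ^ 2 * hC
  by_contra habc
  rcases hn with h | h | h
  · have := mul_ne_zero (mul_ne_zero (pow_ne_zero 2 h) habc) hk'
    exact this e0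
  · have := mul_ne_zero (mul_ne_zero (pow_ne_zero 2 h) habc) hk'
    exact this e1
  · have := mul_ne_zero (mul_ne_zero (pow_ne_zero 2 h) habc) hk'
    exact this e2


open MvPolynomial in
/-- Let k ∈ ℂ with k³ ≠ 1 and let h = X₀³ + X₁³ + X₂³ − 3k·X₀X₁X₂ be the Hesse cubic. For a nonzero
vector v with h(v) = 0, the corresponding point is a flex of the plane curve of h — some line
through it meets the curve there with multiplicity three, i.e. there is a vector w linearly
independent from v with h(v + t·w) = t³·h(w) for every t — exactly when v is a scalar multiple of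
one of the nine vectors (0, 1, −γ), (−γ, 0, 1), (1, −γ, 0) with γ³ = 1. -/
theorem result (k : ℂ) (hk : k ^ 3 ≠ 1) (v : Fin 3 → ℂ) (hv : v ≠ 0)
    (hCv : eval v (HesseCubic.form k) = 0) :
    (∃ w : Fin 3 → ℂ, LinearIndependent ℂ ![v, w] ∧
        ∀ t : ℂ, eval (v + t • w) (HesseCubic.form k) = t ^ 3 * eval w (HesseCubic.form k)) ↔
      ∃ γ c : ℂ, γ ^ 3 = 1 ∧ (v = c • ![0, 1, -γ] ∨ v = c • ![-γ, 0, 1] ∨ v = c • ![1, -γ, 0]) := by
  constructor
  · rintro ⟨w, hlin, hw⟩
    have hA : v 0 ^ 3 + v 1 ^ 3 + v 2 ^ 3 - 3 * k * (v 0 * v 1 * v 2) = 0 := by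
      rw [← eval_form]; exact hCv
    have key : ∀ t : ℂ, t ^ 2 * (3 * (v 0 * w 0 ^ 2 + v 1 * w 1 ^ 2 + v 2 * w 2 ^ 2 -
        k * (v 2 * w 0 * w 1 + v 1 * w 0 * w 2 + v 0 * w 1 * w 2))) +
        t * (3 * ((v 0 ^ 2 - k * v 1 * v 2) * w 0 + (v 1 ^ 2 - k * v 0 * v 2) * w 1 +
          (v 2 ^ 2 - k * v 0 * v 1) * w 2)) + 0 = 0 := by
      intro t
      have h := hw t
      rw [eval_form, eval_form] at h
      simp only [Pi.add_apply, Pi.smul_apply, smul_eq_mul] at h
      linear_combination h - hA
    obtain ⟨-, h1, h2⟩ := coeffs_zero key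
    have hB : (v 0 ^ 2 - k * v 1 * v 2) * w 0 + (v 1 ^ 2 - k * v 0 * v 2) * w 1 +
        (v 2 ^ 2 - k * v 0 * v 1) * w 2 = 0 := by
      have h3 : (3 : ℂ) ≠ 0 := by norm_num
      exact (mul_eq_zero.mp h1).resolve_left h3
    have hC : v 0 * w 0 ^ 2 + v 1 * w 1 ^ 2 + v 2 * w 2 ^ 2 -
        k * (v 2 * w 0 * w 1 + v 1 * w 0 * w 2 + v 0 * w 1 * w 2) = 0 := by
      have h3 : (3 : ℂ) ≠ 0 := by norm_num
      exact (mul_eq_zero.mp h2).resolve_left h3
    have hn : v 1 * w 2 - v 2 * w 1 ≠ 0 ∨ v 2 * w 0 - v 0 * w 2 ≠ 0 ∨
        v 0 * w 1 - v 1 * w 0 ≠ 0 := by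
      by_contra hcon
      push Not at hcon
      obtain ⟨n0, n1, n2⟩ := hcon
      rw [LinearIndependent.pair_iff] at hlin
      apply hv
      have r0 := (hlin (w 0) (-(v 0)) (by
        funext i
        fin_cases i
        · simp; ring
        · simp; linear_combination -n2
        · simp; linear_combination n1)).2
      have r1 := (hlin (w 1) (-(v 1)) (by
        funext i
        fin_cases i
        · simp; linear_combination n2
        · simp; ring
        · simp; linear_combination -n0)).2
      have r2 := (hlin (w 2) (-(v 2)) (by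
        funext i
        fin_cases i
        · simp; linear_combination -n1
        · simp; linear_combination n0
        · simp; ring)).2
      funext i
      fin_cases i
      · simpa using r0
      · simpa using r1
      · simpa using r2
    have habc := flex_aux k (v 0) (v 1) (v 2) (w 0) (w 1) (w 2) hk hA hB hC hn
    rcases mul_eq_zero.mp habc with hab | hc
    · rcases mul_eq_zero.mp hab with ha | hb
      · -- v 0 = 0
        have hb0 : v 1 ≠ 0 := by
          intro hb0
          apply hv
          have hc0 : v 2 = 0 := by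
            have : v 2 ^ 3 = 0 := by rw [ha, hb0] at hA; linear_combination hA
            exact pow_eq_zero_iff (by norm_num) |>.mp this
          funext i
          fin_cases i
          · simpa using ha
          · simpa using hb0
          · simpa using hc0
        refine ⟨-(v 2) / v 1, v 1, ?_, Or.inl ?_⟩
        · rw [ha] at hA
          field_simp
          linear_combination -hA
        · funext i
          fin_cases i
          · simp [ha]
          · simp
          · simp; field_simp
      · -- v 1 = 0
        have hc0 : v 2 ≠ 0 := by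
          intro hc0
          apply hv
          have ha0 : v 0 = 0 := by
            have : v 0 ^ 3 = 0 := by rw [hb, hc0] at hA; linear_combination hA
            exact pow_eq_zero_iff (by norm_num) |>.mp this
          funext i
          fin_cases i
          · simpa using ha0
          · simpa using hb
          · simpa using hc0
        refine ⟨-(v 0) / v 2, v 2, ?_, Or.inr (Or.inl ?_)⟩
        · rw [hb] at hA
          field_simp
          linear_combination -hA
        · funext i
          fin_cases i
          · simp; field_simp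
          · simp [hb]
          · simp
    · -- v 2 = 0
      have ha0 : v 0 ≠ 0 := by
        intro ha0
        apply hv
        have hb0 : v 1 = 0 := by
          have : v 1 ^ 3 = 0 := by rw [hc, ha0] at hA; linear_combination hA
          exact pow_eq_zero_iff (by norm_num) |>.mp this
        funext i
        fin_cases i
        · simpa using ha0
        · simpa using hb0
        · simpa using hc
      refine ⟨-(v 1) / v 0, v 0, ?_, Or.inr (Or.inr ?_)⟩
      · rw [hc] at hA
        field_simp
        linear_combination -hA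
      · funext i
        fin_cases i
        · simp
        · simp; field_simp
        · simp [hc]
  · rintro ⟨γ, c, hγ, hvc⟩
    have hc0 : c ≠ 0 := by
      rintro rfl
      apply hv
      rcases hvc with h | h | h <;> simpa using h
    rcases hvc with h | h | h
    · refine ⟨c • ![1, -(k * γ), 0], ?_, ?_⟩
      · rw [LinearIndependent.pair_iff]
        intro s t hst
        have e0 := congrFun hst 0
        have e1 := congrFun hst 1
        rw [h] at e0 e1
        simp at e0 e1
        have ht : t = 0 := by
          rcases e0 with h0 | h0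
          · exact h0
          · exact absurd h0 hc0
        subst ht
        simp at e1
        exact ⟨e1.resolve_right hc0, rfl⟩
      · intro t
        rw [eval_form, eval_form, h]
        simp
        linear_combination (-c ^ 3) * hγ
    · refine ⟨c • ![0, 1, -(k * γ)], ?_, ?_⟩
      · rw [LinearIndependent.pair_iff]
        intro s t hst
        have e1 := congrFun hst 1
        have e2 := congrFun hst 2
        rw [h] at e1 e2
        simp at e1 e2
        have ht : t = 0 := by
          rcases e1 with h0 | h0
          · exact h0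
          · exact absurd h0 hc0
        subst ht
        simp at e2
        exact ⟨e2.resolve_right hc0, rfl⟩
      · intro t
        rw [eval_form, eval_form, h]
        simp
        linear_combination (-c ^ 3) * hγ
    · refine ⟨c • ![-(k * γ), 0, 1], ?_, ?_⟩
      · rw [LinearIndependent.pair_iff]
        intro s t hst
        have e0 := congrFun hst 0
        have e2 := congrFun hst 2
        rw [h] at e0 e2
        simp at e0 e2
        have ht : t = 0 := by
          rcases e2 with h0 | h0
          · exact h0
          · exact absurd h0 hc0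
        subst ht
        simp at e0
        exact ⟨e0.resolve_right hc0, rfl⟩
      · intro t
        rw [eval_form, eval_form, h]
        simp
        linear_combination (-c ^ 3) * hγ

end Groth.Agent.S18404
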