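import Groth.Statements.S19391

set_option autoImplicit false
universe u
open InvQ

namespace Groth.Agent.S19391

open Polynomial in
theorem rootPoly_eq (R : Type u) [CommRing R] (la mu : Fin 4 → R) :
    W4c6intromoduli.rootPoly la mu =
      C (mu 0 * mu 1 * mu 2 * mu 3)
      + C (-(la 0 * mu 1 * mu 2 * mu 3 + mu 0 * la 1 * mu 2 * mu 3 + mu 0 * mu 1 * la 2 * mu 3
          + mu 0 * mu 1 * mu 2 * la 3)) * X
      + C (la 0 * la 1 * mu 2 * mu 3 + la 0 * mu 1 * la 2 * mu 3 + la 0 * mu 1 * mu 2 * la 3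
          + mu 0 * la 1 * la 2 * mu 3 + mu 0 * la 1 * mu 2 * la 3 + mu 0 * mu 1 * la 2 * la 3) * X ^ 2
      + C (-(la 0 * la 1 * la 2 * mu 3 + la 0 * la 1 * mu 2 * la 3 + la 0 * mu 1 * la 2 * la 3
          + mu 0 * la 1 * la 2 * la 3)) * X ^ 3
      + C (la 0 * la 1 * la 2 * la 3) * X ^ 4 := by
  unfold W4c6intromoduli.rootPoly
  rw [Fin.prod_univ_four]
  simp only [map_mul, map_add, map_neg]
  ring

open Polynomial in
theorem coeff_quartic (R : Type u) [CommRing R] (a b c d e : R) :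
    (C a + C b * X + C c * X ^ 2 + C d * X ^ 3 + C e * X ^ 4 : R[X]).coeff 0 = a ∧
    (C a + C b * X + C c * X ^ 2 + C d * X ^ 3 + C e * X ^ 4 : R[X]).coeff 1 = b ∧
    (C a + C b * X + C c * X ^ 2 + C d * X ^ 3 + C e * X ^ 4 : R[X]).coeff 2 = c ∧
    (C a + C b * X + C c * X ^ 2 + C d * X ^ 3 + C e * X ^ 4 : R[X]).coeff 3 = d ∧
    (C a + C b * X + C c * X ^ 2 + C d * X ^ 3 + C e * X ^ 4 : R[X]).coeff 4 = e := by
  refine ⟨?_, ?_, ?_, ?_, ?_⟩ <;>
  simp [Polynomial.coeff_X, Polynomial.coeff_X_pow, Polynomial.coeff_C]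

theorem coef0 (R : Type u) [CommRing R] (la mu : Fin 4 → R) :
    W4c6intromoduli.coef la mu 0 = mu 0 * mu 1 * mu 2 * mu 3 := by
  unfold W4c6intromoduli.coef
  rw [rootPoly_eq]
  exact (coeff_quartic R _ _ _ _ _).1

theorem coef1 (R : Type u) [CommRing R] (la mu : Fin 4 → R) :
    W4c6intromoduli.coef la mu 1 = -(la 0 * mu 1 * mu 2 * mu 3 + mu 0 * la 1 * mu 2 * mu 3 + mu 0 * mu 1 * la 2 * mu 3
          + mu 0 * mu 1 * mu 2 * la 3) := by
  unfold W4c6intromoduli.coef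
  rw [rootPoly_eq]
  exact (coeff_quartic R _ _ _ _ _).2.1

theorem coef2 (R : Type u) [CommRing R] (la mu : Fin 4 → R) :
    W4c6intromoduli.coef la mu 2 = la 0 * la 1 * mu 2 * mu 3 + la 0 * mu 1 * la 2 * mu 3 + la 0 * mu 1 * mu 2 * la 3
          + mu 0 * la 1 * la 2 * mu 3 + mu 0 * la 1 * mu 2 * la 3 + mu 0 * mu 1 * la 2 * la 3 := by
  unfold W4c6intromoduli.coef
  rw [rootPoly_eq]
  exact (coeff_quartic R _ _ _ _ _).2.2.1

theorem coef3 (R : Type u) [CommRing R] (la mu : Fin 4 → R) :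
    W4c6intromoduli.coef la mu 3 = -(la 0 * la 1 * la 2 * mu 3 + la 0 * la 1 * mu 2 * la 3 + la 0 * mu 1 * la 2 * la 3
          + mu 0 * la 1 * la 2 * la 3) := by
  unfold W4c6intromoduli.coef
  rw [rootPoly_eq]
  exact (coeff_quartic R _ _ _ _ _).2.2.2.1

theorem coef4 (R : Type u) [CommRing R] (la mu : Fin 4 → R) :
    W4c6intromoduli.coef la mu 4 = la 0 * la 1 * la 2 * la 3 := by
  unfold W4c6intromoduli.coef
  rw [rootPoly_eq]
  exact (coeff_quartic R _ _ _ _ _).2.2.2.2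

theorem disc_eq (R : Type u) [CommRing R] (la mu : Fin 4 → R) :
    W4c6intromoduli.disc la mu =
      (la 1 * mu 0 - la 0 * mu 1) ^ 2 * (la 2 * mu 0 - la 0 * mu 2) ^ 2 * (la 3 * mu 0 - la 0 * mu 3) ^ 2
      * (la 2 * mu 1 - la 1 * mu 2) ^ 2 * (la 3 * mu 1 - la 1 * mu 3) ^ 2 * (la 3 * mu 2 - la 2 * mu 3) ^ 2 := by
  unfold W4c6intromoduli.disc
  rw [Finset.prod_filter, Fintype.prod_prod_type]
  simp [Fin.prod_univ_four]
  ring

theorem result (R : Type u) [CommRing R] (la mu : Fin 4 → R) :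
    27 * W4c6intromoduli.disc la mu =
      4 * W4c6intromoduli.invI (W4c6intromoduli.coef la mu) ^ 3
        - W4c6intromoduli.invJ (W4c6intromoduli.coef la mu) ^ 2 := by
  unfold W4c6intromoduli.invI W4c6intromoduli.invJ
  rw [disc_eq, coef0, coef1, coef2, coef3, coef4]
  ring

end Groth.Agent.S19391
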