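import Groth.Statements.S19392
import Groth.Agent.S19391
import Mathlib.Tactic.LinearCombination
import Mathlib.Tactic.FinCases
import Mathlib.Tactic.Ring

set_option autoImplicit false
universe u
open InvQ

namespace Groth.Agent.S19392

/-- cross product of two root points -/
def dd {k : Type u} [Field k] (la mu : Fin 4 → k) (a b : Fin 4) : k := la b * mu a - la a * mu b

theorem invI_eq {k : Type u} [Field k] (la mu : Fin 4 → k) :
    W4c6intromoduli.invI (W4c6intromoduli.coef la mu) =
      (dd la mu 0 1 * dd la mu 2 3) ^ 2 + (dd la mu 0 1 * dd la mu 2 3) * (dd la mu 0 2 * dd la mu 3 1)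
        + (dd la mu 0 2 * dd la mu 3 1) ^ 2 := by
  unfold W4c6intromoduli.invI dd
  rw [Groth.Agent.S19391.coef0, Groth.Agent.S19391.coef1, Groth.Agent.S19391.coef2,
    Groth.Agent.S19391.coef3, Groth.Agent.S19391.coef4]
  ring

theorem invJ_eq {k : Type u} [Field k] (la mu : Fin 4 → k) :
    W4c6intromoduli.invJ (W4c6intromoduli.coef la mu) =
      -((dd la mu 0 1 * dd la mu 2 3 - dd la mu 0 2 * dd la mu 3 1)
        * (dd la mu 0 1 * dd la mu 2 3 + 2 * (dd la mu 0 2 * dd la mu 3 1))
        * (2 * (dd la mu 0 1 * dd la mu 2 3) + dd la mu 0 2 * dd la mu 3 1)) := by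
  unfold W4c6intromoduli.invJ dd
  rw [Groth.Agent.S19391.coef0, Groth.Agent.S19391.coef1, Groth.Agent.S19391.coef2,
    Groth.Agent.S19391.coef3, Groth.Agent.S19391.coef4]
  ring

theorem plucker {k : Type u} [Field k] (la mu : Fin 4 → k) :
    dd la mu 0 1 * dd la mu 2 3 + dd la mu 0 2 * dd la mu 3 1 + dd la mu 0 3 * dd la mu 1 2 = 0 := by
  unfold dd
  ring

theorem dd_symm {k : Type u} [Field k] (la mu : Fin 4 → k) (a b : Fin 4) (h : dd la mu a b = 0) :
    dd la mu b a = 0 := by
  unfold dd at h ⊢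
  linear_combination -h

theorem dd_trans {k : Type u} [Field k] (la mu : Fin 4 → k) (a b c : Fin 4)
    (hb : la b ≠ 0 ∨ mu b ≠ 0) (h1 : dd la mu a b = 0) (h2 : dd la mu b c = 0) :
    dd la mu a c = 0 := by
  unfold dd at h1 h2 ⊢
  rcases hb with hb | hb
  · apply mul_left_cancel₀ hb
    linear_combination (la c) * h1 + (la a) * h2
  · apply mul_left_cancel₀ hb
    linear_combination (mu c) * h1 + (mu a) * h2

theorem AB_zero {k : Type u} [Field k] (h3 : (3 : k) ≠ 0) (A B : k)
    (hI : A ^ 2 + A * B + B ^ 2 = 0) (hJ : -((A - B) * (A + 2 * B) * (2 * A + B)) = 0) :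
    A = 0 ∧ B = 0 := by
  rw [neg_eq_zero] at hJ
  rcases mul_eq_zero.mp hJ with h | h
  · rcases mul_eq_zero.mp h with h | h
    · have hAB : A = B := sub_eq_zero.mp h
      subst hAB
      have : (3 : k) * A ^ 2 = 0 := by linear_combination hI
      have hA : A = 0 := by
        rcases mul_eq_zero.mp this with h | h
        · exact absurd h h3
        · exact pow_eq_zero_iff (two_ne_zero) |>.mp h
      exact ⟨hA, hA⟩
    · have hAB : A = -2 * B := by linear_combination h
      subst hAB
      have : (3 : k) * B ^ 2 = 0 := by linear_combination hI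
      have hB : B = 0 := by
        rcases mul_eq_zero.mp this with h | h
        · exact absurd h h3
        · exact pow_eq_zero_iff (two_ne_zero) |>.mp h
      exact ⟨by rw [hB]; ring, hB⟩
  · have hAB : B = -2 * A := by linear_combination h
    subst hAB
    have : (3 : k) * A ^ 2 = 0 := by linear_combination hI
    have hA : A = 0 := by
      rcases mul_eq_zero.mp this with h | h
      · exact absurd h h3
      · exact pow_eq_zero_iff (two_ne_zero) |>.mp h
    exact ⟨hA, by rw [hA]; ring⟩

theorem result (k : Type u) [Field k]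
    (h2 : (2 : k) ≠ 0) (h3 : (3 : k) ≠ 0) (la mu : Fin 4 → k) (hne : ∀ i, la i ≠ 0 ∨ mu i ≠ 0) :
    (W4c6intromoduli.invI (W4c6intromoduli.coef la mu) = 0 ∧
        W4c6intromoduli.invJ (W4c6intromoduli.coef la mu) = 0) ↔
      ∃ i j l : Fin 4, i ≠ j ∧ j ≠ l ∧ i ≠ l ∧
        la i * mu j = la j * mu i ∧ la j * mu l = la l * mu j := by
  have conv : ∀ a b : Fin 4, dd la mu a b = 0 → la a * mu b = la b * mu a := by
    intro a b h
    unfold dd at h
    exact (sub_eq_zero.mp h).symm
  have conv' : ∀ a b : Fin 4, la a * mu b = la b * mu a → dd la mu a b = 0 := by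
    intro a b h
    unfold dd
    exact sub_eq_zero.mpr h.symm
  rw [invI_eq, invJ_eq]
  constructor
  · rintro ⟨hI, hJ⟩
    obtain ⟨hA, hB⟩ := AB_zero h3 _ _ hI hJ
    have hC : dd la mu 0 3 * dd la mu 1 2 = 0 := by
      have := plucker la mu
      rw [hA, hB] at this
      simpa using this
    rcases mul_eq_zero.mp hA with a1 | a1 <;> rcases mul_eq_zero.mp hB with b1 | b1 <;>
      rcases mul_eq_zero.mp hC with c1 | c1
    · exact ⟨1, 0, 2, by decide, by decide, by decide, conv _ _ (dd_symm _ _ _ _ a1), conv _ _ b1⟩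
    · exact ⟨1, 0, 2, by decide, by decide, by decide, conv _ _ (dd_symm _ _ _ _ a1), conv _ _ b1⟩
    · exact ⟨0, 1, 3, by decide, by decide, by decide, conv _ _ a1, conv _ _ (dd_symm _ _ _ _ b1)⟩
    · exact ⟨0, 1, 3, by decide, by decide, by decide, conv _ _ a1, conv _ _ (dd_symm _ _ _ _ b1)⟩
    · exact ⟨2, 0, 3, by decide, by decide, by decide, conv _ _ (dd_symm _ _ _ _ b1), conv _ _ c1⟩
    · exact ⟨3, 2, 0, by decide, by decide, by decide, conv _ _ (dd_symm _ _ _ _ a1),
        conv _ _ (dd_symm _ _ _ _ b1)⟩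
    · exact ⟨2, 3, 1, by decide, by decide, by decide, conv _ _ a1, conv _ _ b1⟩
    · exact ⟨2, 3, 1, by decide, by decide, by decide, conv _ _ a1, conv _ _ b1⟩
  · rintro ⟨i, j, l, hij, hjl, hil, h1, h2⟩
    have e1 : dd la mu i j = 0 := conv' _ _ h1
    have e2 : dd la mu j l = 0 := conv' _ _ h2
    have e3 : dd la mu i l = 0 := dd_trans la mu i j l (hne j) e1 e2
    have e1' := dd_symm _ _ _ _ e1
    have e2' := dd_symm _ _ _ _ e2
    have e3' := dd_symm _ _ _ _ e3
    have hAB : dd la mu 0 1 * dd la mu 2 3 = 0 ∧ dd la mu 0 2 * dd la mu 3 1 = 0 := by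
      fin_cases i <;> fin_cases j <;> fin_cases l <;>
        first
        | (exfalso; revert hij hjl hil; decide)
        | (simp only [Fin.isValue, Fin.zero_eta, Fin.mk_one, Fin.reduceFinMk] at e1 e2 e3 e1' e2' e3'
           simp [e1, e2, e3, e1', e2', e3'])
    obtain ⟨hA, hB⟩ := hAB
    rw [hA, hB]
    constructor <;> ring

end Groth.Agent.S19392
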