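import Groth.Statements.S6786
import Mathlib.CategoryTheory.CofilteredSystem
import Mathlib.CategoryTheory.Limits.ConcreteCategory.Basic

set_option autoImplicit false
open CategoryTheory CategoryTheory.Limits
universe u
open HomAlg3

namespace Groth.Agent.S6786

section Sections

open Opposite

lemma thin {X Y : ℕᵒᵖ} (p q : X ⟶ Y) : p = q := Quiver.Hom.unop_inj (Subsingleton.elim _ _)

theorem nonempty_sections_nat (F : ℕᵒᵖ ⥤ Type u) (hne : ∀ i, Nonempty (F.obj i))
    (hsurj : ∀ ⦃i j : ℕᵒᵖ⦄ (f : i ⟶ j), Function.Surjective (F.map f)) :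
    Nonempty F.sections := by
  classical
  let t : ∀ n : ℕ, op (n + 1) ⟶ op n := fun n => (homOfLE (Nat.le_succ n)).op
  have hx : ∃ x : ∀ n : ℕ, F.obj (op n), ∀ n, F.map (t n) (x (n + 1)) = x n := by
    let x : ∀ n : ℕ, F.obj (op n) := fun n =>
      Nat.rec (motive := fun n => F.obj (op n)) (hne _).some
        (fun n xn => (hsurj (t n) xn).choose) n
    exact ⟨x, fun n => (hsurj (t n) (x n)).choose_spec⟩
  obtain ⟨x, hx⟩ := hx
  have hxle : ∀ m n (h : m ≤ n), F.map (homOfLE h).op (x n) = x m := by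
    intro m n h
    induction n, h using Nat.le_induction with
    | base =>
      have : (homOfLE (le_refl m)).op = 𝟙 (op m) := thin _ _
      rw [this, Functor.map_id_apply]
    | succ n hmn ih =>
      have : (homOfLE (Nat.le_succ_of_le hmn)).op = t n ≫ (homOfLE hmn).op := thin _ _
      rw [this, Functor.map_comp_apply, hx, ih]
  refine ⟨⟨fun i => x i.unop, ?_⟩⟩
  intro i j f
  have e : f = (homOfLE f.unop.le).op := thin _ _
  change F.map f (x i.unop) = x j.unop
  rw [e]
  exact hxle _ _ _

end Sections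

/-- For a sequence `(A_i) ⟶ (B_i) ⟶ (C_i) ⟶ (D_i)` of inverse systems of abelian groups over `ℕ` that is
exact levelwise at the two middle places, if `(A_i)` is Mittag-Leffler then `lim B_i ⟶ lim C_i ⟶ lim
D_i` is exact. -/
theorem result {A B C D : ℕᵒᵖ ⥤ AddCommGrpCat.{u}} (a : A ⟶ B) (b : B ⟶ C) (c : C ⟶ D) (hB : ∀ i, (b.app i).hom.ker = (a.app i).hom.range) (hC : ∀ i, (c.app i).hom.ker = (b.app i).hom.range) (hA : (A ⋙ forget AddCommGrpCat).IsMittagLeffler) : (limMap c).hom.ker = (limMap b).hom.range := by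
  classical
  have hBcomp : ∀ {i j k : ℕᵒᵖ} (f : i ⟶ j) (g : j ⟶ k) (x : B.obj i),
      (B.map (f ≫ g)).hom x = (B.map g).hom ((B.map f).hom x) := by
    intro i j k f g x
    rw [B.map_comp]
    rfl
  have hBid : ∀ (i : ℕᵒᵖ) (x : B.obj i), (B.map (𝟙 i)).hom x = x := by
    intro i x
    rw [B.map_id]
    rfl
  have hunat : ∀ {i j : ℕᵒᵖ} (f : i ⟶ j) (a' : A.obj i),
      (a.app j).hom ((A.map f).hom a') = (B.map f).hom ((a.app i).hom a') := by
    intro i j f a'
    exact ConcreteCategory.congr_hom (a.naturality f) a'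
  have hvnat : ∀ {i j : ℕᵒᵖ} (f : i ⟶ j) (x : B.obj i),
      (b.app j).hom ((B.map f).hom x) = (C.map f).hom ((b.app i).hom x) := by
    intro i j f x
    exact ConcreteCategory.congr_hom (b.naturality f) x
  have hvu : ∀ i (a' : A.obj i), (b.app i).hom ((a.app i).hom a') = 0 := by
    intro i a'
    have : (a.app i).hom a' ∈ (b.app i).hom.ker := by
      rw [hB i]
      exact ⟨a', rfl⟩
    exact this
  have hker : ∀ i (x : B.obj i), (b.app i).hom x = 0 → ∃ a', (a.app i).hom a' = x := by
    intro i x hx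
    have : x ∈ (a.app i).hom.range := by
      rw [← hB i]
      exact hx
    exact this
  have hcb : ∀ i (x : B.obj i), (c.app i).hom ((b.app i).hom x) = 0 := by
    intro i x
    have : (b.app i).hom x ∈ (c.app i).hom.ker := by
      rw [hC i]
      exact ⟨x, rfl⟩
    exact this
  ext z
  constructor
  · intro hz
    have hz0 : (limMap c).hom z = 0 := hz
    set cz : ∀ i : ℕᵒᵖ, C.obj i := fun i => (limit.π C i).hom z with hcz
    have hcc : ∀ {i j : ℕᵒᵖ} (f : i ⟶ j), (C.map f).hom (cz i) = cz j := by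
      intro i j f
      have := ConcreteCategory.congr_hom (limit.w C f) z
      exact this
    have hczk : ∀ i, (c.app i).hom (cz i) = 0 := by
      intro i
      have h1 := ConcreteCategory.congr_hom (limMap_π c i) z
      have h2 : (limit.π D i).hom ((limMap c).hom z) = (c.app i).hom ((limit.π C i).hom z) := h1
      rw [hz0, map_zero] at h2
      exact h2.symm
    let E : ℕᵒᵖ ⥤ Type u :=
      { obj := fun i => {x : B.obj i // (b.app i).hom x = cz i}
        map := fun {i j} f => ↾(fun x => ⟨(B.map f).hom x.1, by rw [hvnat, x.2, hcc]⟩)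
        map_id := fun i => by
          ext x
          exact hBid i x.1
        map_comp := fun f g => by
          ext x
          exact hBcomp f g x.1 }
    have hEne : ∀ i, Nonempty (E.obj i) := fun i => by
      have : cz i ∈ (b.app i).hom.range := by
        rw [← hC i]
        exact hczk i
      obtain ⟨x, hx⟩ := this
      exact ⟨⟨x, hx⟩⟩
    have hEML : E.IsMittagLeffler := by
      intro j
      obtain ⟨i₀, f₀, hf₀⟩ := hA j
      refine ⟨i₀, f₀, ?_⟩
      intro k g
      rintro _ ⟨⟨x, hx⟩, rfl⟩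
      obtain ⟨w, hw1, hw2⟩ := directed_of (· ≤ ·) k.unop i₀.unop
      let k' : ℕᵒᵖ := Opposite.op w
      let p : k' ⟶ k := (homOfLE hw1).op
      let h : k' ⟶ i₀ := (homOfLE hw2).op
      have hpg : p ≫ g = h ≫ f₀ := thin _ _
      obtain ⟨⟨x', hx'⟩⟩ := hEne k'
      have hd : (b.app i₀).hom (x - (B.map h).hom x') = 0 := by
        rw [map_sub, hx, hvnat, hx', hcc, sub_self]
      obtain ⟨a₀, ha₀⟩ := hker i₀ _ hd
      have hmem : (A.map f₀).hom a₀ ∈ Set.range ((A ⋙ forget AddCommGrpCat).map (h ≫ f₀)) :=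
        hf₀ (h ≫ f₀) ⟨a₀, rfl⟩
      obtain ⟨a', ha'⟩ := hmem
      have ha'' : (A.map (h ≫ f₀)).hom a' = (A.map f₀).hom a₀ := ha'
      have hb3 : (b.app k').hom (x' + (a.app k').hom a') = cz k' := by
        rw [map_add, hx', hvu, add_zero]
      refine ⟨E.map p ⟨x' + (a.app k').hom a', hb3⟩, ?_⟩
      rw [← Functor.map_comp_apply, hpg]
      apply Subtype.ext
      change (B.map (h ≫ f₀)).hom (x' + (a.app k').hom a') = (B.map f₀).hom x
      rw [map_add, ← hunat, ha'', hunat, hBcomp, ← map_add, ha₀, add_sub_cancel]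
    have : ∀ j, Nonempty (E.obj j) := hEne
    have hG := nonempty_sections_nat E.toEventualRanges
      (fun i => E.toEventualRanges_nonempty hEML i) (E.surjective_toEventualRanges hEML)
    obtain ⟨σ'⟩ := hG
    let σ : E.sections := E.toEventualRangesSectionsEquiv σ'
    let hlimB : IsLimit ((forget AddCommGrpCat).mapCone (limit.cone B)) :=
      isLimitOfPreserves (forget AddCommGrpCat) (limit.isLimit B)
    let sec : (B ⋙ forget AddCommGrpCat).sections :=
      ⟨fun i => (σ.1 i).1, fun {i j} f => congrArg Subtype.val (σ.2 f)⟩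
    let y : (limit B : AddCommGrpCat) := (Types.isLimitEquivSections hlimB).symm sec
    have hy : ∀ i, (limit.π B i).hom y = (σ.1 i).1 := fun i =>
      Types.isLimitEquivSections_symm_apply hlimB sec i
    refine ⟨y, ?_⟩
    apply Concrete.limit_ext C
    intro i
    have h1 := ConcreteCategory.congr_hom (limMap_π b i) y
    have h2 : (limit.π C i).hom ((limMap b).hom y) = (b.app i).hom ((limit.π B i).hom y) := h1
    change (limit.π C i).hom ((limMap b).hom y) = (limit.π C i).hom z
    rw [h2, hy i]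
    exact (σ.1 i).2
  · rintro ⟨y, rfl⟩
    show (limMap c).hom ((limMap b).hom y) = 0
    apply Concrete.limit_ext D
    intro i
    have h1 := ConcreteCategory.congr_hom (limMap_π c i) ((limMap b).hom y)
    have h2 : (limit.π D i).hom ((limMap c).hom ((limMap b).hom y)) =
        (c.app i).hom ((limit.π C i).hom ((limMap b).hom y)) := h1
    have h3 := ConcreteCategory.congr_hom (limMap_π b i) y
    have h4 : (limit.π C i).hom ((limMap b).hom y) = (b.app i).hom ((limit.π B i).hom y) := h3
    change (limit.π D i).hom ((limMap c).hom ((limMap b).hom y)) = (limit.π D i).hom 0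
    rw [h2, h4, hcb, map_zero]

end Groth.Agent.S6786
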