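import Groth.Statements.S19425
import Mathlib
import Groth.Agent.H63.EquivFlat
import Groth.Agent.H93.GeomCat

set_option autoImplicit false
universe u
open CategoryTheory MonoidalCategory CartesianMonoidalCategory MonObj AlgebraicGeometry Topology
open NRQuot

namespace Groth.Agent.S19425

section General

open Groth.Agent.H93.GeomCat Groth.Agent.H63.EquivFlat

theorem appLE_bijective_of_image_eq {A B : Scheme.{u}} (j : A ⟶ B) [IsOpenImmersion j]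
    (O : B.Opens) (OA : A.Opens) (h : j ''ᵁ OA = O) (e : OA ≤ j ⁻¹ᵁ O) :
    Function.Bijective (j.appLE O OA e) := by
  subst h
  have h1 : j.appLE (j ''ᵁ OA) OA e = (j.appIso OA).hom := by
    rw [Scheme.Hom.appIso_hom']
  rw [h1]
  exact ConcreteCategory.bijective_of_isIso _

variable {X Y P XU PU : Scheme.{u}} (φ : X ⟶ Y) (σ π : P ⟶ X)
    (U : Y.Opens) (j : XU ⟶ X) [IsOpenImmersion j]
    (hj : Set.range j = ((φ ⁻¹ᵁ U : X.Opens) : Set X))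
    (ψ : XU ⟶ U.toScheme) (hψ : ψ ≫ U.ι = j ≫ φ)
    (σU πU : PU ⟶ XU) (J : PU ⟶ P)
    (hσ : J ≫ σ = σU ≫ j) (hπ : J ≫ π = πU ≫ j) (sq : IsPullback πU J j π)

include hj hψ hσ hπ sq in
theorem sections_restrict [IsOpenImmersion J] (hinvU : σU ≫ ψ = πU ≫ ψ)
    (hsec : ∀ W : Y.Opens, Function.Injective (φ.app W) ∧ Set.range (φ.app W) =
       {f | σ.appLE (φ ⁻¹ᵁ W) (σ ⁻¹ᵁ (φ ⁻¹ᵁ W) ⊓ π ⁻¹ᵁ (φ ⁻¹ᵁ W)) inf_le_left f =
            π.appLE (φ ⁻¹ᵁ W) (σ ⁻¹ᵁ (φ ⁻¹ᵁ W) ⊓ π ⁻¹ᵁ (φ ⁻¹ᵁ W)) inf_le_right f})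
    (V : U.toScheme.Opens) :
    Function.Injective (ψ.app V) ∧ Set.range (ψ.app V) =
       {f | σU.appLE (ψ ⁻¹ᵁ V) (σU ⁻¹ᵁ (ψ ⁻¹ᵁ V) ⊓ πU ⁻¹ᵁ (ψ ⁻¹ᵁ V)) inf_le_left f =
            πU.appLE (ψ ⁻¹ᵁ V) (σU ⁻¹ᵁ (ψ ⁻¹ᵁ V) ⊓ πU ⁻¹ᵁ (ψ ⁻¹ᵁ V)) inf_le_right f} := by
  classical
  have hmemU : ∀ v : U.toScheme, U.ι v ∈ U := fun v => by
    have : U.ι v ∈ Set.range U.ι := Set.mem_range_self v
    rwa [Scheme.Opens.range_ι] at this
  have pt1 : ∀ x' : XU, U.ι (ψ x') = φ (j x') := fun x' => by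
    rw [← Scheme.Hom.comp_apply, ← Scheme.Hom.comp_apply, hψ]
  have ptσ : ∀ p' : PU, σ (J p') = j (σU p') := fun p' => by
    rw [← Scheme.Hom.comp_apply, ← Scheme.Hom.comp_apply, hσ]
  have ptπ : ∀ p' : PU, π (J p') = j (πU p') := fun p' => by
    rw [← Scheme.Hom.comp_apply, ← Scheme.Hom.comp_apply, hπ]
  have jinj : Function.Injective j := j.isOpenEmbedding.injective
  have Uinj : Function.Injective U.ι := U.ι.isOpenEmbedding.injective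
  have hX : j ''ᵁ (ψ ⁻¹ᵁ V) = φ ⁻¹ᵁ (U.ι ''ᵁ V) := by
    apply TopologicalSpace.Opens.ext
    ext x
    show x ∈ j '' (ψ ⁻¹' V) ↔ φ x ∈ U.ι '' V
    constructor
    · rintro ⟨x', hx', rfl⟩
      exact ⟨ψ x', hx', pt1 x'⟩
    · rintro ⟨v, hv, hvx⟩
      have hxU : x ∈ Set.range j := by
        rw [hj]
        show φ x ∈ U
        rw [← hvx]; exact hmemU v
      obtain ⟨x', rfl⟩ := hxU
      have hv' : ψ x' = v := Uinj ((pt1 x').trans hvx.symm)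
      exact ⟨x', by show ψ x' ∈ V; rw [hv']; exact hv, rfl⟩
  have memX : ∀ x' : XU, j x' ∈ φ ⁻¹ᵁ (U.ι ''ᵁ V) ↔ x' ∈ ψ ⁻¹ᵁ V := fun x' => by
    rw [← hX]
    constructor
    · rintro ⟨x'', hx'', he⟩
      rwa [← jinj he]
    · intro h; exact ⟨x', h, rfl⟩
  have hP : J ''ᵁ (σU ⁻¹ᵁ (ψ ⁻¹ᵁ V) ⊓ πU ⁻¹ᵁ (ψ ⁻¹ᵁ V)) =
      σ ⁻¹ᵁ (φ ⁻¹ᵁ (U.ι ''ᵁ V)) ⊓ π ⁻¹ᵁ (φ ⁻¹ᵁ (U.ι ''ᵁ V)) := by
    apply TopologicalSpace.Opens.ext
    ext p
    constructor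
    · rintro ⟨p', ⟨h1, h2⟩, rfl⟩
      refine ⟨?_, ?_⟩
      · show σ (J p') ∈ φ ⁻¹ᵁ (U.ι ''ᵁ V)
        rw [ptσ]; exact (memX _).mpr h1
      · show π (J p') ∈ φ ⁻¹ᵁ (U.ι ''ᵁ V)
        rw [ptπ]; exact (memX _).mpr h2
    · rintro ⟨h1, h2⟩
      have h2' : π p ∈ j ''ᵁ (ψ ⁻¹ᵁ V) := by rw [hX]; exact h2
      obtain ⟨x', hx', hx'p⟩ := h2'
      obtain ⟨p', hp'1, hp'2⟩ := exists_preimage_of_isPullback sq x' p hx'p
      subst hp'2
      refine ⟨p', ⟨?_, ?_⟩, rfl⟩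
      · show σU p' ∈ ψ ⁻¹ᵁ V
        rw [← memX, ← ptσ]; exact h1
      · show πU p' ∈ ψ ⁻¹ᵁ V
        rw [hp'1]; exact hx'
  have leY : V ≤ U.ι ⁻¹ᵁ (U.ι ''ᵁ V) := (U.ι.preimage_image_eq V).ge
  have leX : ψ ⁻¹ᵁ V ≤ j ⁻¹ᵁ (φ ⁻¹ᵁ (U.ι ''ᵁ V)) := fun x' hx' => (memX x').mpr hx'
  have leJ : σU ⁻¹ᵁ (ψ ⁻¹ᵁ V) ⊓ πU ⁻¹ᵁ (ψ ⁻¹ᵁ V) ≤
      J ⁻¹ᵁ (σ ⁻¹ᵁ (φ ⁻¹ᵁ (U.ι ''ᵁ V)) ⊓ π ⁻¹ᵁ (φ ⁻¹ᵁ (U.ι ''ᵁ V))) := by
    rw [← hP]; exact (J.preimage_image_eq _).ge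
  have eY := appLE_bijective_of_image_eq U.ι (U.ι ''ᵁ V) V rfl leY
  have eX := appLE_bijective_of_image_eq j (φ ⁻¹ᵁ (U.ι ''ᵁ V)) (ψ ⁻¹ᵁ V) hX leX
  have eJ := appLE_bijective_of_image_eq J _ _ hP leJ
  have c1 : φ.app (U.ι ''ᵁ V) ≫ j.appLE (φ ⁻¹ᵁ (U.ι ''ᵁ V)) (ψ ⁻¹ᵁ V) leX =
      U.ι.appLE (U.ι ''ᵁ V) V leY ≫ ψ.app V := by
    rw [← Scheme.Hom.comp_appLE, ψ.app_eq_appLE, Scheme.Hom.appLE_comp_appLE]
    exact appLE_congr_hom _ _ hψ.symm _ _ _ _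
  refine ⟨?_, ?_⟩
  · intro s s' hss'
    obtain ⟨t, rfl⟩ := eY.2 s
    obtain ⟨t', rfl⟩ := eY.2 s'
    have h1 : (U.ι.appLE (U.ι ''ᵁ V) V leY ≫ ψ.app V) t =
        (U.ι.appLE (U.ι ''ᵁ V) V leY ≫ ψ.app V) t' := by
      simpa only [CommRingCat.comp_apply] using hss'
    rw [← c1] at h1
    have h2 : φ.app (U.ι ''ᵁ V) t = φ.app (U.ι ''ᵁ V) t' :=
      eX.1 (by simpa only [CommRingCat.comp_apply] using h1)
    rw [(hsec _).1 h2]
  · ext f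
    simp only [Set.mem_range, Set.mem_setOf_eq]
    constructor
    · rintro ⟨s, rfl⟩
      have h0 := invSection_of_invariant σU πU ψ hinvU V (ψ ⁻¹ᵁ V) rfl
        (σU ⁻¹ᵁ (ψ ⁻¹ᵁ V) ⊓ πU ⁻¹ᵁ (ψ ⁻¹ᵁ V)) inf_le_left inf_le_right s
      simp only [eqToHom_refl, CategoryTheory.Functor.map_id, Category.comp_id] at h0
      exact h0
    · intro hf
      obtain ⟨f', rfl⟩ := eX.2 f
      have k1 : σ.appLE (φ ⁻¹ᵁ (U.ι ''ᵁ V)) _ inf_le_left ≫ J.appLE _ _ leJ =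
          j.appLE (φ ⁻¹ᵁ (U.ι ''ᵁ V)) (ψ ⁻¹ᵁ V) leX ≫
            σU.appLE (ψ ⁻¹ᵁ V) (σU ⁻¹ᵁ (ψ ⁻¹ᵁ V) ⊓ πU ⁻¹ᵁ (ψ ⁻¹ᵁ V)) inf_le_left := by
        rw [Scheme.Hom.appLE_comp_appLE, Scheme.Hom.appLE_comp_appLE]
        exact appLE_congr_hom _ _ hσ _ _ _ _
      have k2 : π.appLE (φ ⁻¹ᵁ (U.ι ''ᵁ V)) _ inf_le_right ≫ J.appLE _ _ leJ =
          j.appLE (φ ⁻¹ᵁ (U.ι ''ᵁ V)) (ψ ⁻¹ᵁ V) leX ≫
            πU.appLE (ψ ⁻¹ᵁ V) (σU ⁻¹ᵁ (ψ ⁻¹ᵁ V) ⊓ πU ⁻¹ᵁ (ψ ⁻¹ᵁ V)) inf_le_right := by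
        rw [Scheme.Hom.appLE_comp_appLE, Scheme.Hom.appLE_comp_appLE]
        exact appLE_congr_hom _ _ hπ _ _ _ _
      have hinvf' : σ.appLE (φ ⁻¹ᵁ (U.ι ''ᵁ V)) _ inf_le_left f' =
          π.appLE (φ ⁻¹ᵁ (U.ι ''ᵁ V)) _ inf_le_right f' := by
        apply eJ.1
        have e1 := ConcreteCategory.congr_hom k1 f'
        have e2 := ConcreteCategory.congr_hom k2 f'
        simp only [CommRingCat.comp_apply] at e1 e2
        rw [e1, e2]
        exact hf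
      obtain ⟨s₀, hs₀⟩ : f' ∈ Set.range (φ.app (U.ι ''ᵁ V)) := by
        rw [(hsec _).2]; exact hinvf'
      refine ⟨U.ι.appLE (U.ι ''ᵁ V) V leY s₀, ?_⟩
      have e3 := ConcreteCategory.congr_hom c1 s₀
      simp only [CommRingCat.comp_apply] at e3
      rw [← e3, hs₀]

include hj hψ hσ hπ sq in
theorem top_restrict (hinv : σ ≫ φ = π ≫ φ)
    (hclosed : ∀ W : Set X, IsClosed W → (∀ p : P, π p ∈ W → σ p ∈ W) → IsClosed (φ '' W))
    (hinter : ∀ (I : Type u) (W : I → Set X), (∀ i, IsClosed (W i)) →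
      (∀ i, ∀ p : P, π p ∈ W i → σ p ∈ W i) → φ '' (⋂ i, W i) = ⋂ i, φ '' (W i)) :
    (∀ W : Set XU, IsClosed W → (∀ p : PU, πU p ∈ W → σU p ∈ W) → IsClosed (ψ '' W)) ∧
    (∀ (I : Type u) (W : I → Set XU), (∀ i, IsClosed (W i)) →
      (∀ i, ∀ p : PU, πU p ∈ W i → σU p ∈ W i) → ψ '' (⋂ i, W i) = ⋂ i, ψ '' (W i)) := by
  classical
  have hmemU : ∀ v : U.toScheme, U.ι v ∈ U := fun v => by
    have : U.ι v ∈ Set.range U.ι := Set.mem_range_self v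
    rwa [Scheme.Opens.range_ι] at this
  have pt1 : ∀ x' : XU, U.ι (ψ x') = φ (j x') := fun x' => by
    rw [← Scheme.Hom.comp_apply, ← Scheme.Hom.comp_apply, hψ]
  have ptσ : ∀ p' : PU, σ (J p') = j (σU p') := fun p' => by
    rw [← Scheme.Hom.comp_apply, ← Scheme.Hom.comp_apply, hσ]
  have ptinv : ∀ p : P, φ (σ p) = φ (π p) := fun p => by
    rw [← Scheme.Hom.comp_apply, ← Scheme.Hom.comp_apply, hinv]
  have jinj : Function.Injective j := j.isOpenEmbedding.injective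
  have Uinj : Function.Injective U.ι := U.ι.isOpenEmbedding.injective
  have hjmem : ∀ x' : XU, φ (j x') ∈ U := fun x' => by
    have : j x' ∈ Set.range j := Set.mem_range_self x'
    rw [hj] at this; exact this
  -- the saturation of a subset
  let W2 : Set XU → Set X := fun W => j '' W ∪ φ ⁻¹' ((U : Set Y)ᶜ)
  have hW2c : ∀ W : Set XU, IsClosed W → IsClosed (W2 W) := by
    intro W hWc
    have hcompl : (W2 W)ᶜ = j '' Wᶜ := by
      ext x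
      constructor
      · intro hx
        have h1 : x ∉ j '' W := fun h => hx (Or.inl h)
        have h2 : φ x ∈ U := by
          by_contra h; exact hx (Or.inr h)
        have hxr : x ∈ Set.range j := by rw [hj]; exact h2
        obtain ⟨x', rfl⟩ := hxr
        exact ⟨x', fun hx' => h1 ⟨x', hx', rfl⟩, rfl⟩
      · rintro ⟨x', hx', rfl⟩ hmem
        rcases hmem with ⟨x'', hx'', he⟩ | hbad
        · exact hx' (jinj he ▸ hx'')
        · exact hbad (hjmem x')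
    rw [← isOpen_compl_iff, hcompl]
    exact j.isOpenEmbedding.isOpenMap _ hWc.isOpen_compl
  have hW2i : ∀ W : Set XU, (∀ p : PU, πU p ∈ W → σU p ∈ W) →
      ∀ p : P, π p ∈ W2 W → σ p ∈ W2 W := by
    intro W hWi p hp
    rcases hp with ⟨w, hw, hwe⟩ | hbad
    · obtain ⟨p', hp'1, hp'2⟩ := exists_preimage_of_isPullback sq w p hwe
      subst hp'2
      left
      exact ⟨σU p', hWi p' (by rw [hp'1]; exact hw), (ptσ p').symm⟩
    · right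
      show φ (σ p) ∈ ((U : Set Y)ᶜ)
      rw [ptinv]; exact hbad
  have hmem : ∀ (W : Set XU) (y : U.toScheme), U.ι y ∈ φ '' (W2 W) ↔ y ∈ ψ '' W := by
    intro W y
    constructor
    · rintro ⟨x, hx, hxy⟩
      rcases hx with ⟨w, hw, rfl⟩ | hbad
      · exact ⟨w, hw, Uinj ((pt1 w).trans hxy)⟩
      · exact absurd (hxy ▸ hmemU y) hbad
    · rintro ⟨w, hw, rfl⟩
      exact ⟨j w, Or.inl ⟨w, hw, rfl⟩, (pt1 w).symm⟩
  refine ⟨?_, ?_⟩
  · intro W hWc hWi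
    have hcl := hclosed (W2 W) (hW2c W hWc) (hW2i W hWi)
    have : ψ '' W = U.ι ⁻¹' (φ '' (W2 W)) := by
      ext y; exact (hmem W y).symm
    rw [this]
    exact hcl.preimage U.ι.continuous
  · intro I W hWc hWi
    apply Set.Subset.antisymm (Set.image_iInter_subset _ _)
    intro y hy
    rw [Set.mem_iInter] at hy
    have hint := hinter I (fun i => W2 (W i)) (fun i => hW2c _ (hWc i)) (fun i => hW2i _ (hWi i))
    have hy2 : U.ι y ∈ ⋂ i, φ '' (W2 (W i)) :=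
      Set.mem_iInter.mpr fun i => (hmem (W i) y).mpr (hy i)
    rw [← hint] at hy2
    obtain ⟨x, hx, hxy⟩ := hy2
    rw [Set.mem_iInter] at hx
    have hxU : x ∈ Set.range j := by
      rw [hj]; show φ x ∈ U; rw [hxy]; exact hmemU y
    obtain ⟨x', rfl⟩ := hxU
    refine ⟨x', Set.mem_iInter.mpr fun i => ?_, ?_⟩
    · rcases hx i with ⟨w, hw, hwe⟩ | hbad
      · rwa [← jinj hwe]
      · exact absurd (hjmem x') hbad
    · apply Uinj; rw [pt1, hxy]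

end General

/-- Let k be an algebraically closed field, G an affine group scheme of finite type over k acting on a
k-scheme X locally of finite type, φ : X → Y a good quotient (affine and invariant, functions on
every open of Y are exactly the invariant functions on its preimage, invariant closed subsets have
closed images, and images commute with intersections of families of invariant closed subsets), and U
an open subset of Y. Equip the open subscheme φ⁻¹(U) of X with the restricted action, given here as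
an action compatible with the inclusion into X, and let φ_U : φ⁻¹(U) → U be the restriction of φ.
Then φ_U is a good quotient for the restricted action. -/
theorem result
    (k : Type u) [Field k] [IsAlgClosed k]
    (G X Y : Over (Spec (CommRingCat.of k))) [GrpObj G] [IsAffine G.left] [LocallyOfFiniteType G.hom]
    [LocallyOfFiniteType X.hom]
    (a : AlgGrp.Action G X) (φ : X ⟶ Y) (h : NRQuot.IsGoodQuot a φ)
    (U : Y.left.Opens)
    (aU : AlgGrp.Action G (Over.mk ((φ.left ⁻¹ᵁ U).ι ≫ X.hom)))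
    (jU : Over.mk ((φ.left ⁻¹ᵁ U).ι ≫ X.hom) ⟶ X) (hjU : jU.left = (φ.left ⁻¹ᵁ U).ι)
    (haU : aU.act ≫ jU = (G ◁ jU) ≫ a.act)
    (φU : Over.mk ((φ.left ⁻¹ᵁ U).ι ≫ X.hom) ⟶ Over.mk (U.ι ≫ Y.hom))
    (hφU : φU.left ≫ U.ι = (φ.left ⁻¹ᵁ U).ι ≫ φ.left) :
    NRQuot.IsGoodQuot aU φU := by
  classical
  have hjrange : Set.range (φ.left ⁻¹ᵁ U).ι = ((φ.left ⁻¹ᵁ U : X.left.Opens) : Set X.left) :=
    Scheme.Opens.range_ι _
  have hσ : (G ◁ jU).left ≫ a.act.left = aU.act.left ≫ (φ.left ⁻¹ᵁ U).ι := by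
    have h0 := congrArg (fun m => m.left) haU
    simp only [Over.comp_left] at h0
    rw [hjU] at h0
    exact h0.symm
  have hπ : (G ◁ jU).left ≫ (snd G X).left =
      (snd G (Over.mk ((φ.left ⁻¹ᵁ U).ι ≫ X.hom))).left ≫ (φ.left ⁻¹ᵁ U).ι := by
    have h0 := congrArg (fun m => m.left) (whiskerLeft_snd G jU)
    simp only [Over.comp_left] at h0
    rw [hjU] at h0
    exact h0
  have sq : IsPullback (snd G (Over.mk ((φ.left ⁻¹ᵁ U).ι ≫ X.hom))).left (G ◁ jU).left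
      (φ.left ⁻¹ᵁ U).ι (snd G X).left := by
    have h0 := (Groth.Agent.H63.EquivFlat.sq_snd' G jU).map (Over.forget _)
    simp only [Over.forget_obj, Over.forget_map] at h0
    rwa [hjU] at h0
  haveI : IsOpenImmersion (G ◁ jU).left :=
    MorphismProperty.of_isPullback (P := @IsOpenImmersion) sq inferInstance
  have hinv' : a.act ≫ φ = snd G X ≫ φ := h.inv
  let jY : Over.mk (U.ι ≫ Y.hom) ⟶ Y := Over.homMk U.ι rfl
  haveI : Mono jY := by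
    haveI : Mono jY.left := by
      show Mono U.ι
      infer_instance
    exact Over.mono_of_mono_left jY
  have hsq : φU ≫ jY = jU ≫ φ := by
    apply Over.OverMorphism.ext
    show φU.left ≫ U.ι = jU.left ≫ φ.left
    rw [hjU, hφU]
  have hinvU : GIT.IsInvariant aU φU := by
    have e1 : aU.act ≫ jU ≫ φ = snd G _ ≫ jU ≫ φ := by
      rw [← Category.assoc, haU, Category.assoc, hinv', ← Category.assoc, whiskerLeft_snd,
        Category.assoc]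
    show aU.act ≫ φU = snd G _ ≫ φU
    rw [← cancel_mono jY, Category.assoc, Category.assoc, hsq]
    exact e1
  obtain ⟨hc, hi⟩ := top_restrict φ.left a.act.left (snd G X).left U (φ.left ⁻¹ᵁ U).ι hjrange
    φU.left hφU aU.act.left (snd G _).left (G ◁ jU).left hσ hπ sq h.inv.left h.closed h.inter
  refine ⟨?_, hinvU, ?_, hc, hi⟩
  · have hres : φU.left = φ.left ∣_ U := by
      rw [← cancel_mono U.ι, hφU, morphismRestrict_ι]
    rw [hres]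
    exact IsZariskiLocalAtTarget.restrict h.affine U
  · intro V
    exact sections_restrict φ.left a.act.left (snd G X).left U (φ.left ⁻¹ᵁ U).ι hjrange
      φU.left hφU aU.act.left (snd G _).left (G ◁ jU).left hσ hπ sq hinvU.left
      (fun W => h.sections W) V

end Groth.Agent.S19425
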