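import Groth.Statements.S9799
import Groth.Agent.S2279

set_option autoImplicit false
universe u
open CategoryTheory AlgebraicGeometry TopologicalSpace
open Props

namespace Groth.Agent.S9799

theorem isOpen_of_locally_finite_of_pairwiseDisjoint {X : Type*} [TopologicalSpace X]
    (hX : ∀ x : X, ∃ N ∈ nhds x, (irreducibleComponents ↥N).Finite)
    (hd : (irreducibleComponents X).PairwiseDisjoint id) :
    ∀ Z ∈ irreducibleComponents X, IsOpen Z := by
  intro Z hZ
  rw [isOpen_iff_mem_nhds]
  intro x hxZ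
  obtain ⟨N, hN, hfin⟩ := hX x
  have hc : ∀ W ∈ irreducibleComponents ↥N, ∃ u ∈ irreducibleComponents X,
      Subtype.val '' W ⊆ u := by
    intro W hW
    exact exists_mem_irreducibleComponents_subset_of_isIrreducible _
      (hW.1.image _ continuous_subtype_val.continuousOn)
  choose! c hc1 hc2 using hc
  set F : Set (Set X) := (c '' irreducibleComponents ↥N) \ {Z} with hF
  have hFfin : F.Finite := (hfin.image c).subset Set.sdiff_subset
  have hFcl : IsClosed (⋃ Z' ∈ F, Z') := hFfin.isClosed_biUnion (fun Z' hZ' => by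
    obtain ⟨⟨W, hW, rfl⟩, -⟩ := hZ'
    exact isClosed_of_mem_irreducibleComponents _ (hc1 W hW))
  have hxF : x ∉ ⋃ Z' ∈ F, Z' := by
    simp only [Set.mem_iUnion, not_exists]
    intro Z' hZ' hxZ'
    obtain ⟨⟨W, hW, rfl⟩, hne⟩ := hZ'
    have hne' : c W ≠ Z := hne
    have hdis : Disjoint (c W) Z := hd (hc1 W hW) hZ hne'
    exact Set.disjoint_left.mp hdis hxZ' hxZ
  have hO : interior N ∩ (⋃ Z' ∈ F, Z')ᶜ ∈ nhds x :=
    Filter.inter_mem (interior_mem_nhds.mpr hN) (hFcl.isOpen_compl.mem_nhds hxF)
  refine Filter.mem_of_superset hO ?_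
  rintro y ⟨hyN, hyF⟩
  have hyN' : y ∈ N := interior_subset hyN
  have hWmem : irreducibleComponent (⟨y, hyN'⟩ : ↥N) ∈ irreducibleComponents ↥N :=
    irreducibleComponent_mem_irreducibleComponents _
  have hyc : y ∈ c (irreducibleComponent (⟨y, hyN'⟩ : ↥N)) :=
    hc2 _ hWmem ⟨⟨y, hyN'⟩, mem_irreducibleComponent, rfl⟩
  by_contra hyZ
  apply hyF
  simp only [Set.mem_iUnion]
  refine ⟨c (irreducibleComponent (⟨y, hyN'⟩ : ↥N)), ⟨⟨_, hWmem, rfl⟩, ?_⟩, hyc⟩
  intro heq
  exact hyZ ((Set.mem_singleton_iff.mp heq) ▸ hyc)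


/-- Let X be a normal scheme (all local rings are integrally closed domains) such that every
quasi-compact open subset has finitely many irreducible components. Then the irreducible components
of X are open and pairwise disjoint; hence X is the disjoint union of its irreducible components,
each an open subscheme which is normal and integral. -/
theorem result (X : Scheme.{u})
    (hfin : ∀ U : X.Opens, IsCompact (U : Set X) → (irreducibleComponents ↥U).Finite)
    (hN : Pi1.IsNormalScheme X) :
    (∀ Z ∈ irreducibleComponents X, IsOpen Z) ∧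
      ∀ Z ∈ irreducibleComponents X, ∀ Z' ∈ irreducibleComponents X, Z ≠ Z' → Disjoint Z Z' := by
  have hprime : ∀ x : X, (nilradical (X.presheaf.stalk x)).IsPrime := fun x => by
    haveI := (hN x).1
    rw [nilradical_eq_zero, Ideal.zero_eq_bot]
    exact Ideal.isPrime_bot
  have hd := (Groth.Agent.S2279.result X).mpr hprime
  refine ⟨isOpen_of_locally_finite_of_pairwiseDisjoint (fun x => ?_) hd,
    fun Z hZ Z' hZ' hne => hd hZ hZ' hne⟩
  obtain ⟨_, ⟨U, hU, rfl⟩, hxU, -⟩ :=
    X.isBasis_affineOpens.exists_subset_of_mem_open (Set.mem_univ x) isOpen_univ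
  exact ⟨U, U.2.mem_nhds hxU, hfin U hU.isCompact⟩

end Groth.Agent.S9799
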