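import Groth.Statements.S6278
import Mathlib.RingTheory.LocalProperties.Basic

set_option autoImplicit false
universe u
open CAlg

namespace Groth.Agent.S6278

/-- A normal ring R (all localizations at primes are integrally closed domains) is integrally closed in
its total ring of fractions. -/
theorem result (R : Type u) [CommRing R] (hR : EGA4.IsNormalRing R) : IsIntegrallyClosedIn R (FractionRing R) := by
  rw [isIntegrallyClosedIn_iff]
  refine ⟨IsLocalization.injective (FractionRing R) le_rfl, ?_⟩
  intro x hx
  obtain ⟨a, s, rfl⟩ := IsLocalization.exists_mk'_eq (nonZeroDivisors R) x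
  suffices h : a ∈ Ideal.span {(s : R)} by
    obtain ⟨b, hb⟩ := Ideal.mem_span_singleton'.mp h
    refine ⟨b, ?_⟩
    rw [IsLocalization.eq_mk'_iff_mul_eq, ← map_mul, hb]
  refine Ideal.mem_of_localization_maximal ?_
  intro p hp
  haveI : p.IsPrime := hp.isPrime
  obtain ⟨hdom, hic⟩ := hR p
  haveI := hdom
  haveI := hic
  have hinj : Function.Injective (algebraMap (Localization.AtPrime p) (FractionRing (Localization.AtPrime p))) :=
    IsFractionRing.injective _ _
  have hg : ∀ y : nonZeroDivisors R, IsUnit (((algebraMap (Localization.AtPrime p)
      (FractionRing (Localization.AtPrime p))).comp (algebraMap R (Localization.AtPrime p))) y) := by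
    intro y
    apply IsUnit.mk0
    intro h0
    have h1 : algebraMap R (Localization.AtPrime p) y = 0 := by
      apply hinj
      rw [map_zero]
      exact h0
    obtain ⟨m, hm⟩ := (IsLocalization.map_eq_zero_iff p.primeCompl (Localization.AtPrime p) (y : R)).mp h1
    have hm0 : (m : R) = 0 := (mul_right_mem_nonZeroDivisors_eq_zero_iff y.2).mp hm
    exact m.2 (by rw [hm0]; exact p.zero_mem)
  have hint : IsIntegral (Localization.AtPrime p)
      (IsLocalization.lift hg (IsLocalization.mk' (FractionRing R) a s)) :=
    IsIntegral.map_of_comp_eq (algebraMap R (Localization.AtPrime p)) (IsLocalization.lift hg)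
      (IsLocalization.lift_comp hg).symm hx
  obtain ⟨b, hb⟩ := IsIntegrallyClosed.algebraMap_eq_of_integral hint
  have hspec : IsLocalization.lift hg (IsLocalization.mk' (FractionRing R) a s) *
      algebraMap (Localization.AtPrime p) (FractionRing (Localization.AtPrime p))
        (algebraMap R (Localization.AtPrime p) s) =
      algebraMap (Localization.AtPrime p) (FractionRing (Localization.AtPrime p))
        (algebraMap R (Localization.AtPrime p) a) := by
    have := congrArg (IsLocalization.lift hg) (IsLocalization.mk'_spec (FractionRing R) a s)
    rw [map_mul, IsLocalization.lift_eq, IsLocalization.lift_eq] at this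
    exact this
  rw [Ideal.map_span, Set.image_singleton, Ideal.mem_span_singleton']
  refine ⟨b, hinj ?_⟩
  rw [map_mul, hb]
  exact hspec

end Groth.Agent.S6278
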