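import Groth.Statements.S9873
import Groth.Agent.H51.EtQuotGen
import Groth.Agent.H51.QuotKer
import Groth.Agent.H52.EpiBC

set_option autoImplicit false
universe u
open CategoryTheory CategoryTheory.Limits AlgebraicGeometry
open AlgSp

namespace Groth.Agent.S9873

/-- Let `X` be an algebraic space over `S`, `F` an fppf sheaf of sets over `S`, and `f : X ⟶ F` a map of
sheaves which is representable by schemes, etale and surjective (in the representable sense). Then
`F` is an algebraic space over `S`; in particular an fppf sheaf receiving a representable etale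
surjective map from a scheme is an algebraic space. -/
theorem result (S : Scheme.{u}) (X : AlgSp.Space S) (F : AlgSp.Sp S)
    (f : X.obj ⟶ F) (he : AlgSp.RepWith @Etale f) (hs : AlgSp.RepWith @Surjective f) :
    AlgSp.IsAlgSpace F := by
  obtain ⟨U, p0, he0, hs0⟩ := X.property.atlas
  have he1 : RepWith @Etale (p0 ≫ f) := MorphismProperty.comp_mem _ _ _ he0 he
  have hs1 : RepWith @Surjective (p0 ≫ f) := MorphismProperty.comp_mem _ _ _ hs0 hs
  have hepi : Epi (p0 ≫ f) := Groth.Agent.H52.epi_of_etale_surjective _ he1 hs1
  obtain ⟨R, s, fst, sq⟩ := he1.1 (p0 ≫ f)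
  have hse : Etale s.left := he1.2 _ _ _ sq
  obtain ⟨t, rfl⟩ := (yon S).map_surjective fst
  exact (Groth.Agent.H51.EtQuotGen.isAlgSpace_of_epi_chart (p0 ≫ f) s t sq).1

end Groth.Agent.S9873
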