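import Groth.Statements.S18732
import Mathlib
import Groth.Agent.H94.EffCartierDense

set_option autoImplicit false
universe u
open CategoryTheory CategoryTheory.Limits AlgebraicGeometry TopologicalSpace
open ModPair

namespace Groth.Agent.S18732

open Groth.Agent.H94.EffCartierDense

theorem isAffineHom_compl_ι {X : Scheme.{u}} (I : X.IdealSheafData)
    (hI : BlowUp.IsEffCartierIdeal I) : IsAffineHom (Scheme.Opens.ι I.support.compl) := by
  apply isAffineHom_of_forall_exists_isAffineOpen
  intro x
  obtain ⟨V, hxV, -, t, -, ht⟩ := Groth.Agent.H9.exists_affine_isPrincipalNZD hI ⊤ x trivial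
  refine ⟨V.1, hxV, V.2, ?_⟩
  rw [← (Scheme.Opens.ι I.support.compl).isAffineOpen_iff_of_isOpenImmersion,
    Scheme.Hom.image_preimage_eq_opensRange_inf, Scheme.Opens.opensRange_ι,
    compl_inf_eq_basicOpen I V t ht]
  exact V.2.basicOpen t

theorem main {X X' : Scheme.{u}}
    (I : X.IdealSheafData) (hI : BlowUp.IsEffCartierIdeal I) (f : X' ⟶ X)
    [IsSchemeTheoreticallyDominant (f ⁻¹ᵁ ModPair.interior I).ι] :
    (∀ W : X'.Opens, IsSchemeTheoreticallyDominant
        (X'.homOfLE (inf_le_right : f ⁻¹ᵁ ModPair.interior I ⊓ W ≤ W))) ∧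
      BlowUp.IsEffCartierIdeal (I.comap f) := by
  haveI : IsAffineHom (Scheme.Opens.ι (ModPair.interior I)) := isAffineHom_compl_ι I hI
  haveI : IsAffineHom (f ⁻¹ᵁ ModPair.interior I).ι :=
    MorphismProperty.of_isPullback (isPullback_morphismRestrict f (ModPair.interior I))
      inferInstance
  refine ⟨fun W => IsSchemeTheoreticallyDominant.of_isPullback (isPullback_opens_inf _ W), ?_⟩
  intro x'
  obtain ⟨V, hxV, -, t, ht, hIt⟩ := Groth.Agent.H9.exists_affine_isPrincipalNZD hI ⊤ (f x') trivial
  obtain ⟨V', hV', hxV', hV'V⟩ := exists_isAffineOpen_mem_and_subset (x := x') (U := f ⁻¹ᵁ V.1) hxV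
  have hideal : (I.comap f).ideal ⟨V', hV'⟩ = Ideal.span {(f.appLE V.1 V' hV'V).hom t} := by
    rw [Groth.Agent.H9.comap_ideal f I V ⟨V', hV'⟩ hV'V, hIt, Ideal.map_span, Set.image_singleton]
  refine ⟨⟨V', hV'⟩, hxV', (f.appLE V.1 V' hV'V).hom t, ?_, hideal⟩
  set t' := (f.appLE V.1 V' hV'V).hom t with ht'
  have hbo : f ⁻¹ᵁ ModPair.interior I ⊓ V' = X'.basicOpen t' := by
    have e : f ⁻¹ᵁ ModPair.interior I = (I.comap f).support.compl := by
      rw [Scheme.IdealSheafData.support_comap]
      rfl
    rw [e]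
    exact compl_inf_eq_basicOpen (I.comap f) ⟨V', hV'⟩ t' hideal
  have hinj : Function.Injective ((f ⁻¹ᵁ ModPair.interior I).ι.app V') :=
    Scheme.Hom.app_injective _ V'
  rw [Scheme.Opens.ι_app] at hinj
  have hinj' : Function.Injective (X'.presheaf.map (homOfLE (X'.basicOpen_le t')).op) := by
    refine Groth.Agent.S5434.inj_transport ?_ _ _ hinj
    rw [Scheme.Hom.image_preimage_eq_opensRange_inf, Scheme.Opens.opensRange_ι, hbo]
  haveI := hV'.isLocalization_basicOpen t'
  have hreg := (IsLocalization.injective_iff_isRegular (M := Submonoid.powers t')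
    (S := Γ(X', X'.basicOpen t'))).1 hinj' ⟨t', Submonoid.mem_powers t'⟩
  exact hreg.mem_nonZeroDivisors

/-- Let X be a scheme, I the quasi-coherent ideal sheaf of an effective Cartier divisor on X with open
complement U, and f : X' ⟶ X a morphism of schemes for which the open immersion of f⁻¹(U) into X'
has all of X' as its scheme-theoretic image. Then f⁻¹(U) is scheme-theoretically dense in X' (for
every open W of X' the inclusion of f⁻¹(U) ∩ W into W is scheme-theoretically dominant), and the
closed subscheme of X' pulled back from the divisor of I is an effective Cartier divisor: I.comap f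
is the ideal sheaf of an effective Cartier divisor. -/
theorem result {X X' : Scheme.{u}}
    (I : X.IdealSheafData) (hI : BlowUp.IsEffCartierIdeal I) (f : X' ⟶ X)
    [IsSchemeTheoreticallyDominant (f ⁻¹ᵁ ModPair.interior I).ι] :
    (∀ W : X'.Opens, IsSchemeTheoreticallyDominant
        (X'.homOfLE (inf_le_right : f ⁻¹ᵁ ModPair.interior I ⊓ W ≤ W))) ∧
      BlowUp.IsEffCartierIdeal (I.comap f) := by
  exact main I hI f

end Groth.Agent.S18732
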