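import Groth.Statements.S13426
import Mathlib
import Groth.Agent.S5434
import Groth.Agent.S0346

set_option autoImplicit false
universe u
open CategoryTheory MonoidalCategory CartesianMonoidalCategory MonObj GrpObj AlgebraicGeometry
open GrpSch

namespace Groth.Agent.S13426


open AlgebraicGeometry CategoryTheory Limits TopologicalSpace
open Groth.Agent.S5434

theorem toImage_dominant {X Y : Scheme.{u}} (f : X ⟶ Y) [QuasiCompact f] :
    IsSchemeTheoreticallyDominant f.toImage := by
  rw [isSchemeTheoreticallyDominant_iff]
  refine Scheme.IdealSheafData.ext_of_iSup_eq_top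
    (fun U : Y.affineOpens => ⟨f.imageι ⁻¹ᵁ U.1, U.2.preimage f.imageι⟩) ?_ ?_
  · rw [eq_top_iff]
    intro x _
    obtain ⟨U, hU, hxU, -⟩ :=
      exists_isAffineOpen_mem_and_subset (x := f.imageι x) (U := ⊤) trivial
    exact Opens.mem_iSup.mpr ⟨⟨U, hU⟩, hxU⟩
  · intro U
    rw [Scheme.IdealSheafData.ideal_bot, Pi.bot_apply, eq_bot_iff]
    refine (Scheme.Hom.ideal_ker_le f.toImage _).trans ?_
    intro a ha
    rw [RingHom.mem_ker] at ha
    have : a = 0 := f.toImage_app_injective U (by rw [map_zero]; exact ha)
    simp [this]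

theorem main {k : Type u} [Field k] [CharZero k] {S : Scheme.{u}}
    (σ : S ⟶ Spec (CommRingCat.of k)) [IsLocallyNoetherian S] (S₀ : S.Opens)
    (hS₀ : CInt.IsSchematicallyDense S₀)
    (G : Over S) [Smooth G.hom]
    (hG : ∀ U : Over S, Etale U.hom →
      Function.Bijective (fun g : U ⟶ G => (Over.pullback S₀.ι).map g))
    (H : Over S) [GrpObj H] [Smooth H.hom] (j : H ⟶ G) [Mono j.left]
    (hal : Etale (η[H].left.ker.subschemeι ≫ H.hom))
    (h0 : IsSeparated (Limits.pullback.snd H.hom S₀.ι)) :
    IsSeparated H.hom := by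
  let e : S ⟶ H.left := η[H].left
  have he : e ≫ H.hom = 𝟙 S := Over.w η[H]
  haveI : LocallyOfFiniteType H.hom := inferInstance
  haveI : IsLocallyNoetherian H.left := LocallyOfFiniteType.isLocallyNoetherian H.hom
  haveI : QuasiSeparated H.hom := inferInstance
  haveI : QuasiCompact e := by
    haveI : QuasiCompact (e ≫ H.hom) := by rw [he]; infer_instance
    exact QuasiCompact.of_comp e H.hom
  let E : Over S := Over.mk (e.imageι ≫ H.hom)
  have hEet : Etale E.hom := hal
  let iE : E ⟶ H := Over.homMk e.imageι rfl
  let πe : E ⟶ H := Over.homMk (E.hom ≫ e) (by rw [Category.assoc, he, Category.comp_id])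
  let e' : S ⟶ E.left := e.toImage
  have he'1 : e' ≫ e.imageι = e := e.toImage_imageι
  have he'2 : e' ≫ E.hom = 𝟙 S := by
    show e' ≫ e.imageι ≫ H.hom = 𝟙 S
    rw [← Category.assoc, he'1, he]
  haveI : IsSchemeTheoreticallyDominant e' := toImage_dominant e
  haveI : QuasiCompact e' := inferInstance
  let F := Over.pullback S₀.ι
  have hfst : ∀ {A B : Over S} (φ : A ⟶ B),
      (F.map φ).left ≫ pullback.fst B.hom S₀.ι = pullback.fst A.hom S₀.ι ≫ φ.left := by
    intro A B φ
    simp only [F, Over.pullback_map_left]
    exact pullback.lift_fst _ _ _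
  have key : F.map iE = F.map πe := by
    haveI : IsSeparated (F.obj H).hom := h0
    let d := pullback.snd e' (pullback.fst E.hom S₀.ι)
    haveI : IsSchemeTheoreticallyDominant d :=
      IsSchemeTheoreticallyDominant.of_isPullback (f := e') (g := pullback.fst E.hom S₀.ι)
        (IsPullback.of_hasPullback _ _)
    apply Groth.Agent.S18498.ext_of_schDominant _ _ d
    apply pullback.hom_ext
    · rw [Category.assoc, Category.assoc, hfst iE, hfst πe]
      rw [← pullback.condition_assoc, ← pullback.condition_assoc]
      show _ ≫ e' ≫ e.imageι = _ ≫ e' ≫ E.hom ≫ e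
      rw [he'1, reassoc_of% he'2]
    · rw [Category.assoc, Category.assoc]
      erw [Over.w, Over.w]
  have hj : iE ≫ j = πe ≫ j := by
    apply (hG E hEet).1
    show F.map (iE ≫ j) = F.map (πe ≫ j)
    rw [F.map_comp, F.map_comp, key]
  have hleft : e.imageι ≫ j.left = (E.hom ≫ e) ≫ j.left := congrArg (fun φ => φ.left) hj
  have hi : e.imageι = E.hom ≫ e := (cancel_mono j.left).mp hleft
  haveI : Mono E.hom := by
    haveI : Mono (E.hom ≫ e) := by rw [← hi]; infer_instance
    exact mono_of_mono E.hom e
  have h2 : E.hom ≫ e' = 𝟙 _ := by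
    rw [← cancel_mono E.hom, Category.assoc, he'2, Category.comp_id, Category.id_comp]
  haveI : IsIso e' := ⟨E.hom, he'2, h2⟩
  haveI : IsClosedImmersion e := by rw [← he'1]; infer_instance
  exact ((Groth.Agent.S0346.result S H).1).mpr ‹_›


/-- Let S be a locally Noetherian scheme over a field of characteristic 0, S₀ ⊆ S a scheme-theoretically
dense open, and G a smooth S-scheme with the weak Néron mapping property for S₀ ⊆ S: for every étale
S-scheme U, restriction to S₀ is a bijection from S-morphisms U → G onto S₀-morphisms. Let H be a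
smooth group scheme over S together with a monomorphism H → G of S-schemes (the case in view: G a
group scheme and H a subgroup scheme), and assume that H is aligned, i.e. the scheme-theoretic image
of its unit section is étale over S, and that H ×_S S₀ → S₀ is separated. Then H → S is separated.
(Case of schemes of a statement about group algebraic spaces; only the injectivity of H → G on
morphisms is used of the subgroup condition.) -/
theorem result {k : Type u} [Field k] [CharZero k] {S : Scheme.{u}} (σ : S ⟶ Spec (CommRingCat.of k)) [IsLocallyNoetherian S] (S₀ : S.Opens) (hS₀ : CInt.IsSchematicallyDense S₀)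
    (G : Over S) [Smooth G.hom]
    (hG : ∀ U : Over S, Etale U.hom → Function.Bijective (fun g : U ⟶ G => (Over.pullback S₀.ι).map g))
    (H : Over S) [GrpObj H] [Smooth H.hom] (j : H ⟶ G) [Mono j.left]
    (hal : Etale (η[H].left.ker.subschemeι ≫ H.hom))
    (h0 : IsSeparated (Limits.pullback.snd H.hom S₀.ι)) :
    IsSeparated H.hom := by
  exact main σ S₀ hS₀ G hG H j hal h0

end Groth.Agent.S13426
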