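import Groth.Statements.S18737
import Mathlib
import Groth.Agent.H94.EffCartierDense
import Groth.Agent.S18732
import Groth.Agent.S13426

set_option autoImplicit false
universe u
open CategoryTheory CategoryTheory.Limits AlgebraicGeometry TopologicalSpace
open ModPair

namespace Groth.Agent.S18737

open Groth.Agent.H94.EffCartierDense

theorem qc_of_clopen {X : Scheme.{u}} (U U₀ U₁ : X.Opens) (hU : U₀ ⊔ U₁ = U) (hd : Disjoint U₀ U₁)
    [QuasiCompact U.ι] : QuasiCompact U₀.ι := by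
  constructor
  intro K hK hKc
  have h1 : IsCompact (U.ι ⁻¹' K) := QuasiCompact.isCompact_preimage (f := U.ι) K hK hKc
  have h2 : IsCompact (K ∩ (U : Set X)) := by
    have := h1.image U.ι.continuous
    rwa [Set.image_preimage_eq_inter_range, Scheme.Opens.range_ι] at this
  have h3 : IsCompact (K ∩ (U₀ : Set X)) := by
    have h4 : K ∩ (U₀ : Set X) = (K ∩ (U : Set X)) ∩ (U₁ : Set X)ᶜ := by
      ext x
      simp only [← hU, Opens.coe_sup, Set.mem_inter_iff, Set.mem_union, Set.mem_compl_iff,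
        SetLike.mem_coe]
      constructor
      · rintro ⟨a, b⟩
        exact ⟨⟨a, Or.inl b⟩, fun h => (disjoint_iff_inf_le.1 hd ⟨b, h⟩).elim⟩
      · rintro ⟨⟨a, b | b⟩, c⟩
        exacts [⟨a, b⟩, (c b).elim]
    rw [h4]
    exact h2.inter_right U₁.isOpen.isClosed_compl
  rw [← Set.preimage_inter_range, Scheme.Opens.range_ι]
  exact (U₀.ι.isOpenEmbedding.isInducing.isCompact_preimage_iff
    (by rw [Scheme.Opens.range_ι]; exact Set.inter_subset_right)).2 h3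

theorem imageι_not_mem {X : Scheme.{u}} (U₀ U₁ : X.Opens) (hd : Disjoint U₀ U₁)
    [QuasiCompact U₁.ι] (w : U₁.ι.image) : U₁.ι.imageι w ∉ U₀ := by
  intro hw
  have h1 : U₁.ι.imageι w ∈ closure (Set.range U₁.ι) := by
    rw [← Scheme.Hom.support_ker, ← Scheme.IdealSheafData.range_subschemeι]
    exact ⟨w, rfl⟩
  rw [Scheme.Opens.range_ι, mem_closure_iff] at h1
  obtain ⟨x, hx0, hx1⟩ := h1 U₀ U₀.isOpen hw
  exact (disjoint_iff_inf_le.1 hd ⟨hx0, hx1⟩).elim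

theorem dominant_preimage_imageι {X : Scheme.{u}} (U₀ U : X.Opens) (h : U₀ ≤ U)
    [QuasiCompact U₀.ι] : IsSchemeTheoreticallyDominant (U₀.ι.imageι ⁻¹ᵁ U).ι := by
  have hrange : Set.range U₀.ι.toImage ⊆ Set.range (U₀.ι.imageι ⁻¹ᵁ U).ι := by
    rintro _ ⟨v, rfl⟩
    rw [Scheme.Opens.range_ι]
    show U₀.ι.imageι (U₀.ι.toImage v) ∈ U
    rw [← Scheme.Hom.comp_apply, Scheme.Hom.toImage_imageι]
    exact h v.2
  let σ := IsOpenImmersion.lift (U₀.ι.imageι ⁻¹ᵁ U).ι U₀.ι.toImage hrange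
  have hσ : σ ≫ (U₀.ι.imageι ⁻¹ᵁ U).ι = U₀.ι.toImage := IsOpenImmersion.lift_fac _ _ _
  haveI := Groth.Agent.S13426.toImage_dominant U₀.ι
  constructor
  rw [eq_bot_iff]
  refine (Scheme.Hom.le_ker_comp σ (U₀.ι.imageι ⁻¹ᵁ U).ι).trans ?_
  rw [hσ, Scheme.Hom.ker_eq_bot]

theorem isIso_restrict_imageι {X : Scheme.{u}} (U₀ : X.Opens) :
    IsIso (U₀.ι.imageι ∣_ U₀) := by
  have hrange : Set.range U₀.ι.toImage ⊆ Set.range (U₀.ι.imageι ⁻¹ᵁ U₀).ι := by
    rintro _ ⟨v, rfl⟩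
    rw [Scheme.Opens.range_ι]
    show U₀.ι.imageι (U₀.ι.toImage v) ∈ U₀
    rw [← Scheme.Hom.comp_apply, Scheme.Hom.toImage_imageι]
    exact v.2
  let σ := IsOpenImmersion.lift (U₀.ι.imageι ⁻¹ᵁ U₀).ι U₀.ι.toImage hrange
  have hσ : σ ≫ (U₀.ι.imageι ⁻¹ᵁ U₀).ι = U₀.ι.toImage := IsOpenImmersion.lift_fac _ _ _
  have h1 : σ ≫ (U₀.ι.imageι ∣_ U₀) = 𝟙 _ := by
    rw [← cancel_mono U₀.ι, Category.assoc, morphismRestrict_ι, ← Category.assoc, hσ,
      Scheme.Hom.toImage_imageι, Category.id_comp]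
  haveI : IsSplitEpi (U₀.ι.imageι ∣_ U₀) := ⟨⟨σ, h1⟩⟩
  haveI : IsClosedImmersion (U₀.ι.imageι ∣_ U₀) :=
    IsZariskiLocalAtTarget.restrict (P := @IsClosedImmersion) inferInstance U₀
  exact isIso_of_mono_of_isSplitEpi _

theorem isIso_congr_restrict {A X : Scheme.{u}} (q a : A ⟶ X) (h : q = a) (W : X.Opens)
    [IsIso (a ∣_ W)] : IsIso (q ∣_ W) := by
  subst h; infer_instance

set_option backward.isDefEq.respectTransparency.types false in
theorem isIso_restrict_coprod_left {A B X : Scheme.{u}} (a : A ⟶ X) (b : B ⟶ X) (W : X.Opens)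
    [IsIso (a ∣_ W)] (hb : ∀ w, b w ∉ W) : IsIso (coprod.desc a b ∣_ W) := by
  set p := coprod.desc a b with hp
  have hI1 : IsIso ((coprod.inl ≫ p) ∣_ W) :=
    isIso_congr_restrict _ a (coprod.inl_desc a b) W
  have hsurj : Function.Surjective ((coprod.inl : A ⟶ A ⨿ B) ∣_ (p ⁻¹ᵁ W)) := by
    intro z
    have hz : z.1 ∈ Set.range (coprod.inl : A ⟶ A ⨿ B) ∨ z.1 ∈ Set.range (coprod.inr : B ⟶ A ⨿ B) := by
      by_cases hz : z.1 ∈ Set.range (coprod.inl : A ⟶ A ⨿ B)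
      · exact Or.inl hz
      · right
        rw [← (isCompl_range_inl_inr A B).compl_eq]
        exact hz
    rcases hz with ⟨x, hx⟩ | ⟨w, hw⟩
    · have hxm : x ∈ (coprod.inl : A ⟶ A ⨿ B) ⁻¹ᵁ (p ⁻¹ᵁ W) := by
        show (coprod.inl : A ⟶ A ⨿ B) x ∈ p ⁻¹ᵁ W
        rw [hx]; exact z.2
      refine ⟨⟨x, hxm⟩, Subtype.ext ?_⟩
      rw [morphismRestrict_base_coe]
      exact hx
    · exfalso
      have hz2 : p z.1 ∈ W := z.2
      rw [← hw, ← Scheme.Hom.comp_apply, hp, coprod.inr_desc] at hz2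
      exact hb w hz2
  haveI : IsIso ((coprod.inl : A ⟶ A ⨿ B) ∣_ (p ⁻¹ᵁ W)) := by
    rw [isIso_iff_isOpenImmersion_and_surjective]
    exact ⟨inferInstance, ⟨hsurj⟩⟩
  have hc : (coprod.inl ≫ p) ∣_ W = (coprod.inl : A ⟶ A ⨿ B) ∣_ (p ⁻¹ᵁ W) ≫ p ∣_ W :=
    morphismRestrict_comp _ _ _
  haveI : IsIso ((coprod.inl : A ⟶ A ⨿ B) ∣_ (p ⁻¹ᵁ W) ≫ p ∣_ W) := by
    rw [← hc]; exact hI1
  exact IsIso.of_isIso_comp_left ((coprod.inl : A ⟶ A ⨿ B) ∣_ (p ⁻¹ᵁ W)) (p ∣_ W)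

set_option backward.isDefEq.respectTransparency.types false in
theorem isIso_restrict_coprod_right {A B X : Scheme.{u}} (a : A ⟶ X) (b : B ⟶ X) (W : X.Opens)
    [IsIso (b ∣_ W)] (ha : ∀ w, a w ∉ W) : IsIso (coprod.desc a b ∣_ W) := by
  set p := coprod.desc a b with hp
  have hI1 : IsIso ((coprod.inr ≫ p) ∣_ W) :=
    isIso_congr_restrict _ b (coprod.inr_desc a b) W
  have hsurj : Function.Surjective ((coprod.inr : B ⟶ A ⨿ B) ∣_ (p ⁻¹ᵁ W)) := by
    intro z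
    have hz : z.1 ∈ Set.range (coprod.inl : A ⟶ A ⨿ B) ∨ z.1 ∈ Set.range (coprod.inr : B ⟶ A ⨿ B) := by
      by_cases hz : z.1 ∈ Set.range (coprod.inl : A ⟶ A ⨿ B)
      · exact Or.inl hz
      · right
        rw [← (isCompl_range_inl_inr A B).compl_eq]
        exact hz
    rcases hz with ⟨w, hw⟩ | ⟨x, hx⟩
    · exfalso
      have hz2 : p z.1 ∈ W := z.2
      rw [← hw, ← Scheme.Hom.comp_apply, hp, coprod.inl_desc] at hz2
      exact ha w hz2
    · have hxm : x ∈ (coprod.inr : B ⟶ A ⨿ B) ⁻¹ᵁ (p ⁻¹ᵁ W) := by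
        show (coprod.inr : B ⟶ A ⨿ B) x ∈ p ⁻¹ᵁ W
        rw [hx]; exact z.2
      refine ⟨⟨x, hxm⟩, Subtype.ext ?_⟩
      rw [morphismRestrict_base_coe]
      exact hx
  haveI : IsIso ((coprod.inr : B ⟶ A ⨿ B) ∣_ (p ⁻¹ᵁ W)) := by
    rw [isIso_iff_isOpenImmersion_and_surjective]
    exact ⟨inferInstance, ⟨hsurj⟩⟩
  have hc : (coprod.inr ≫ p) ∣_ W = (coprod.inr : B ⟶ A ⨿ B) ∣_ (p ⁻¹ᵁ W) ≫ p ∣_ W :=
    morphismRestrict_comp _ _ _
  haveI : IsIso ((coprod.inr : B ⟶ A ⨿ B) ∣_ (p ⁻¹ᵁ W) ≫ p ∣_ W) := by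
    rw [← hc]; exact hI1
  exact IsIso.of_isIso_comp_left ((coprod.inr : B ⟶ A ⨿ B) ∣_ (p ⁻¹ᵁ W)) (p ∣_ W)

/-- Being an effective Cartier ideal is local for open immersions. -/
theorem isEffCartier_of_openImm_cover {Y : Scheme.{u}} (J : Y.IdealSheafData)
    (h : ∀ y : Y, ∃ (Z : Scheme.{u}) (j : Z ⟶ Y) (_ : IsOpenImmersion j), y ∈ Set.range j ∧
      BlowUp.IsEffCartierIdeal (J.comap j)) : BlowUp.IsEffCartierIdeal J := by
  intro y
  obtain ⟨Z, j, hj, ⟨z, rfl⟩, hJ⟩ := h y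
  obtain ⟨V, hzV, t, ht, hJt⟩ := hJ z
  let W : Y.affineOpens := ⟨j ''ᵁ V.1, V.2.image_of_isOpenImmersion j⟩
  have e : V.1 ≤ j ⁻¹ᵁ W.1 := (Scheme.Hom.preimage_image_eq j V.1).ge
  have h1 := Groth.Agent.H9.comap_ideal j J W V e
  let φ : Γ(Y, j ''ᵁ V.1) ≃+* Γ(Z, V.1) := (j.appIso V.1).commRingCatIsoToRingEquiv
  have hφ : (j.appLE W.1 V.1 e).hom = φ.toRingHom := by
    have := Scheme.Hom.appIso_hom' j V.1
    rw [← this]; rfl
  refine ⟨W, ⟨z, hzV, rfl⟩, φ.symm t, ?_, ?_⟩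
  · rw [mem_nonZeroDivisors_iff_right]
    intro x hx
    have h2 : φ x * t = 0 := by
      have := congrArg φ hx
      rwa [map_mul, RingEquiv.apply_symm_apply, map_zero] at this
    have h3 := (mem_nonZeroDivisors_iff_right.1 ht) _ h2
    exact φ.injective (by rw [h3, map_zero])
  · rw [hJt, hφ] at h1
    have h2 := congrArg (Ideal.map φ.symm.toRingHom) h1
    rw [Ideal.map_span, Set.image_singleton, Ideal.map_map] at h2
    have h3 : φ.symm.toRingHom.comp φ.toRingHom = RingHom.id _ := by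
      ext x; simp
    rw [h3, Ideal.map_id] at h2
    exact h2.symm

theorem main {X : Scheme.{u}}
    (I : X.IdealSheafData) (hI : BlowUp.IsEffCartierIdeal I) (U₀ U₁ : X.Opens)
    (hU : U₀ ⊔ U₁ = ModPair.interior I) (hd : Disjoint U₀ U₁) :
    BlowUp.IsEffCartierIdeal (I.comap (coprod.desc U₀.ι.imageι U₁.ι.imageι)) ∧
      ModPair.IsAdmBlowup (I.comap (coprod.desc U₀.ι.imageι U₁.ι.imageι)) I
        (coprod.desc U₀.ι.imageι U₁.ι.imageι) := by
  set U := ModPair.interior I with hUdef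
  haveI : IsAffineHom U.ι := Groth.Agent.S18732.isAffineHom_compl_ι I hI
  haveI : QuasiCompact U₀.ι := qc_of_clopen U U₀ U₁ hU hd
  haveI : QuasiCompact U₁.ι := qc_of_clopen U U₁ U₀ (by rw [sup_comm]; exact hU) hd.symm
  have hU₀ : U₀ ≤ U := by rw [← hU]; exact le_sup_left
  have hU₁ : U₁ ≤ U := by rw [← hU]; exact le_sup_right
  set p := coprod.desc U₀.ι.imageι U₁.ι.imageι with hp
  have hcart : BlowUp.IsEffCartierIdeal (I.comap p) := by
    apply isEffCartier_of_openImm_cover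
    intro y
    have hy : y ∈ Set.range (coprod.inl : U₀.ι.image ⟶ U₀.ι.image ⨿ U₁.ι.image) ∨
        y ∈ Set.range (coprod.inr : U₁.ι.image ⟶ U₀.ι.image ⨿ U₁.ι.image) := by
      by_cases hy : y ∈ Set.range (coprod.inl : U₀.ι.image ⟶ U₀.ι.image ⨿ U₁.ι.image)
      · exact Or.inl hy
      · right
        rw [← (isCompl_range_inl_inr _ _).compl_eq]
        exact hy
    rcases hy with hy | hy
    · refine ⟨_, coprod.inl, inferInstance, hy, ?_⟩
      rw [← Scheme.IdealSheafData.comap_comp, hp, coprod.inl_desc]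
      haveI := dominant_preimage_imageι U₀ U hU₀
      exact (Groth.Agent.S18732.main I hI U₀.ι.imageι).2
    · refine ⟨_, coprod.inr, inferInstance, hy, ?_⟩
      rw [← Scheme.IdealSheafData.comap_comp, hp, coprod.inr_desc]
      haveI := dominant_preimage_imageι U₁ U hU₁
      exact (Groth.Agent.S18732.main I hI U₁.ι.imageι).2
  refine ⟨hcart, rfl, inferInstance, ?_⟩
  -- iso over the interior
  haveI := isIso_restrict_imageι U₀
  haveI := isIso_restrict_imageι U₁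
  haveI h0 : IsIso (p ∣_ U₀) :=
    isIso_restrict_coprod_left U₀.ι.imageι U₁.ι.imageι U₀ (imageι_not_mem U₀ U₁ hd)
  haveI h1 : IsIso (p ∣_ U₁) :=
    isIso_restrict_coprod_right U₀.ι.imageι U₁.ι.imageι U₁ (imageι_not_mem U₁ U₀ hd.symm)
  have key : ∀ (U' : X.Opens), U' ≤ U → IsIso (p ∣_ U') → IsIso (p ∣_ U ∣_ (U.ι ⁻¹ᵁ U')) := by
    intro U' hU' hiso
    have e1 := morphismRestrictRestrict p U (U.ι ⁻¹ᵁ U')
    have heq : U.ι ''ᵁ (U.ι ⁻¹ᵁ U') = U' := by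
      rw [Scheme.Hom.image_preimage_eq_opensRange_inf, Scheme.Opens.opensRange_ι]
      exact inf_eq_right.2 hU'
    have e3 := morphismRestrictEq p heq
    have h0 : (MorphismProperty.isomorphisms Scheme.{u}) (p ∣_ U') := hiso
    exact ((MorphismProperty.isomorphisms Scheme.{u}).arrow_mk_iso_iff (e1 ≪≫ e3)).mpr h0
  show (MorphismProperty.isomorphisms Scheme.{u}) (p ∣_ U)
  apply IsZariskiLocalAtTarget.of_forall_exists_morphismRestrict
  intro u
  have hu : u.1 ∈ U₀ ⊔ U₁ := by rw [hU]; exact u.2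
  rcases hu with hu | hu
  · exact ⟨U.ι ⁻¹ᵁ U₀, hu, key U₀ hU₀ h0⟩
  · exact ⟨U.ι ⁻¹ᵁ U₁, hu, key U₁ hU₁ h1⟩

/-- Let X be a scheme and I the quasi-coherent ideal sheaf of an effective Cartier divisor on X, with
open complement U, and suppose U is the disjoint union of two opens U₀, U₁ of X. Let X₀, X₁ ⊆ X be
the scheme-theoretic images of U₀ and U₁ in X and p : X₀ ⨿ X₁ ⟶ X the morphism induced by the two
closed immersions. Then the pulled-back ideal I.comap p is the ideal sheaf of an effective Cartier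
divisor, and p is an abstract admissible blow-up from (X₀ ⨿ X₁, I.comap p) to (X, I): proper, with
the pulled-back modulus, and an isomorphism over U. -/
theorem result {X : Scheme.{u}}
    (I : X.IdealSheafData) (hI : BlowUp.IsEffCartierIdeal I) (U₀ U₁ : X.Opens)
    (hU : U₀ ⊔ U₁ = ModPair.interior I) (hd : Disjoint U₀ U₁) :
    BlowUp.IsEffCartierIdeal (I.comap (coprod.desc U₀.ι.imageι U₁.ι.imageι)) ∧
      ModPair.IsAdmBlowup (I.comap (coprod.desc U₀.ι.imageι U₁.ι.imageι)) I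
        (coprod.desc U₀.ι.imageι U₁.ι.imageι) := by
  exact main I hI U₀ U₁ hU hd

end Groth.Agent.S18737
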