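import Groth.Statements.S10278
import Groth.Agent.H51.Proper
import Groth.Agent.S10277

set_option autoImplicit false
universe u
open CategoryTheory CategoryTheory.Limits AlgebraicGeometry
open AlgSp

namespace Groth.Agent.S10278

/-- Over a separated Y -> B, a morphism X -> Y from a space universally closed (resp. proper) over B is
universally closed with closed image (resp. proper). -/
theorem result {S : Scheme.{u}} {X Y B : AlgSp.Space S} (f : X ⟶ Y) (p : X ⟶ B)
    (q : Y ⟶ B) (comm : f ≫ q = p) (hq : AlgSp.IsSeparatedMor q.hom) :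
    (AlgSp.IsUnivClosedMor p.hom →
      AlgSp.IsUnivClosedMor f.hom ∧ IsClosed (Set.range (AlgSp.Points.map f.hom))) ∧
    (AlgSp.IsProperMor p.hom → AlgSp.IsProperMor f.hom) := by
  have inst1 := AlgSp.repWith_isStableUnderBaseChange (S := S) @IsClosedImmersion
  have hcomm : f.hom ≫ q.hom = p.hom := by rw [← comm]; rfl
  -- the fibre product X ×_B Y
  have sqW := IsPullback.of_hasPullback p.hom q.hom
  have hW : AlgSp.IsAlgSpace (pullback p.hom q.hom) :=
    Groth.Agent.H52.isAlgSpace_of_isPullback sqW B.property.diag X.property Y.property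
  let W : AlgSp.Space S := ⟨pullback p.hom q.hom, hW⟩
  let pr1 : W ⟶ X := ObjectProperty.homMk (pullback.fst p.hom q.hom)
  let pr2 : W ⟶ Y := ObjectProperty.homMk (pullback.snd p.hom q.hom)
  have hw : 𝟙 X.obj ≫ p.hom = f.hom ≫ q.hom := by rw [Category.id_comp, hcomm]
  let Γ : X ⟶ W := ObjectProperty.homMk (pullback.lift (𝟙 X.obj) f.hom hw)
  have hfac : f = Γ ≫ pr2 := by
    apply ObjectProperty.hom_ext
    exact (pullback.lift_snd _ _ _).symm
  -- the graph is a closed immersion
  have sqR : IsPullback (𝟙 X.obj) f.hom f.hom (𝟙 Y.obj) := IsPullback.of_horiz_isIso ⟨by simp⟩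
  have sqT : IsPullback (pullback.fst p.hom q.hom) (pullback.snd p.hom q.hom) (f.hom ≫ q.hom)
      (𝟙 Y.obj ≫ q.hom) := by
    rw [Category.id_comp, hcomm]; exact sqW
  have hτ : (pullback.fst p.hom q.hom ≫ f.hom) ≫ q.hom =
      (pullback.snd p.hom q.hom ≫ 𝟙 Y.obj) ≫ q.hom := by
    rw [Category.assoc, hcomm, Category.comp_id]; exact sqW.w
  have magic := Groth.Agent.H51.isPullback_magic (IsPullback.of_hasPullback q.hom q.hom)
    (pullback.diagonal q.hom) (pullback.diagonal_fst _) (pullback.diagonal_snd _) sqR sqT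
    (pullback.lift (𝟙 X.obj) f.hom hw) (pullback.lift_fst _ _ _) (pullback.lift_snd _ _ _)
    (pullback.lift _ _ hτ) (pullback.lift_fst _ _ _) (pullback.lift_snd _ _ _)
  have hΓ : AlgSp.RepWith @IsClosedImmersion Γ.hom :=
    MorphismProperty.of_isPullback magic hq
  have hΓp : AlgSp.IsProperMor Γ.hom := Groth.Agent.S10277.result Γ hΓ
  refine ⟨fun hp => ?_, fun hp => ?_⟩
  · have hpr2 : AlgSp.IsUnivClosedMor pr2.hom :=
      Groth.Agent.H51.univSp_of_isPullback _ sqW hp
    have hf : AlgSp.IsUnivClosedMor f.hom := by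
      rw [hfac]
      exact Groth.Agent.H51.isUnivClosedMor_comp W.property Y.property hΓp.2.2 hpr2
    refine ⟨hf, ?_⟩
    have hcl : IsClosedMap (AlgSp.Points.map f.hom) :=
      hf Y.property (𝟙 Y.obj) (𝟙 X.obj) f.hom sqR
    exact hcl.isClosed_range
  · have hpr2 : AlgSp.IsProperMor pr2.hom :=
      Groth.Agent.H51.isProperMor_of_isPullback p q pr1 pr2 sqW hp
    rw [hfac]
    exact Groth.Agent.H51.isProperMor_comp Γ pr2 hΓp hpr2

end Groth.Agent.S10278
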