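import Groth.Statements.S10281
import Groth.Agent.S10278
import Groth.Agent.S9985
import Groth.Agent.H51.ThickSep
import Groth.Agent.H51.EtaleMono
import Groth.Agent.H50.QcChart
import Groth.Agent.H50.Nice
import Groth.Agent.H52.FibProd

set_option autoImplicit false
universe u
open CategoryTheory CategoryTheory.Limits AlgebraicGeometry
open AlgSp

namespace Groth.Agent.S10281

/-- The scheme theoretic image of a space proper over B in a space separated and locally of finite type
over B is proper over B, and the source surjects onto it. -/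
theorem result {S : Scheme.{u}} {X Y Z B : AlgSp.Space S} (h : X ⟶ Y) (f : X ⟶ B)
    (g : Y ⟶ B) (comm : h ≫ g = f) (hf : AlgSp.IsProperMor f.hom) (hg : AlgSp.IsSeparatedMor g.hom)
    (hg' : AlgSp.LocP @LocallyOfFiniteType g.hom) (i : Z ⟶ Y) (hZ : AlgSp.IsSchImage h.hom i.hom)
    (h' : X ⟶ Z) (fac : h' ≫ i = h) :
    AlgSp.IsProperMor (i ≫ g).hom ∧ AlgSp.IsSurjectiveMor h'.hom := by
  have h278 := Groth.Agent.S10278.result h f g comm hg
  have hh : AlgSp.IsProperMor h.hom := h278.2 hf
  have hclosed : IsClosed (Set.range (AlgSp.Points.map h.hom)) := (h278.1 hf.2.2).2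
  have hi : AlgSp.RepWith @IsClosedImmersion i.hom := hZ.1
  have hip : AlgSp.IsProperMor i.hom := Groth.Agent.S10277.result i hi
  haveI : Mono i.hom := Groth.Agent.H50.mono_of_repWith
    (fun _ _ g hg => by haveI : IsClosedImmersion g := hg; infer_instance) hi
  have hfac : h'.hom ≫ i.hom = h.hom := by rw [← fac]; rfl
  have hfk : f.hom = h'.hom ≫ (i ≫ g).hom := by
    have : f = h' ≫ i ≫ g := by rw [← comm, ← fac, Category.assoc]
    rw [this]; rfl
  have hsurj : AlgSp.IsSurjectiveMor h'.hom := by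
    intro z
    have h1 := Groth.Agent.H50.range_map_subset_closure_of_isSchImage Y.property Z.property h.hom
      hh.2.1.2 i.hom hZ ⟨z, rfl⟩
    rw [hclosed.closure_eq] at h1
    obtain ⟨x, hx⟩ := h1
    refine ⟨x, ?_⟩
    apply Groth.Agent.H51.injective_map_of_mono i.hom
    rw [← AlgSp.Points.map_comp, hfac, hx]
  have key : ∀ ⦃W W' : AlgSp.Sp S⦄ (k : W ⟶ B.obj) (a : W' ⟶ Z.obj) (b : W' ⟶ W),
      IsPullback a b (i ≫ g).hom k →
      ∃ l : pullback f.hom k ⟶ W', l ≫ b = pullback.snd f.hom k ∧ AlgSp.IsSurjectiveMor l := by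
    intro W W' k a b sqW
    have hw : (pullback.fst f.hom k ≫ h'.hom) ≫ (i ≫ g).hom = pullback.snd f.hom k ≫ k := by
      rw [Category.assoc, ← hfk]; exact pullback.condition
    refine ⟨sqW.lift _ _ hw, sqW.lift_snd _ _ hw, ?_⟩
    have sqL : IsPullback (pullback.fst f.hom k) (sqW.lift _ _ hw) h'.hom a := by
      refine IsPullback.of_bot ?_ (sqW.lift_fst _ _ hw).symm sqW
      rw [sqW.lift_snd, ← hfk]
      exact IsPullback.of_hasPullback f.hom k
    exact Groth.Agent.H50.isSurjectiveMor_baseChange sqL hsurj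
  refine ⟨⟨?_, ⟨?_, ?_⟩, ?_⟩, hsurj⟩
  · exact Groth.Agent.H51.isSeparatedMor_comp i g hip.1 hg
  · exact Groth.Agent.S9985.result _ (Or.inl rfl) i g hip.2.1.1 hg'
  · intro W W' hW hWq k a b sqW
    obtain ⟨l, hl, hls⟩ := key k a b sqW
    have hPX : AlgSp.IsQuasiCompactSp (pullback f.hom k) :=
      hf.2.1.2 hW hWq k _ _ (IsPullback.of_hasPullback f.hom k)
    have hW' : AlgSp.IsAlgSpace W' :=
      Groth.Agent.H52.isAlgSpace_of_isPullback sqW B.property.diag Z.property hW
    exact Groth.Agent.H52.isQuasiCompactSp_of_surjective l hW' hls hPX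
  · intro W W' hW k a b sqW
    obtain ⟨l, hl, hls⟩ := key k a b sqW
    have hc : IsClosedMap (AlgSp.Points.map (pullback.snd f.hom k)) :=
      hf.2.2 hW k _ _ (IsPullback.of_hasPullback f.hom k)
    intro C hC
    have : AlgSp.Points.map b '' C =
        AlgSp.Points.map (pullback.snd f.hom k) '' (AlgSp.Points.map l ⁻¹' C) := by
      rw [← hl]
      ext w
      constructor
      · rintro ⟨c, hcC, rfl⟩
        obtain ⟨p, rfl⟩ := hls c
        exact ⟨p, hcC, AlgSp.Points.map_comp _ _ _⟩
      · rintro ⟨p, hp, rfl⟩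
        exact ⟨AlgSp.Points.map l p, hp, (AlgSp.Points.map_comp _ _ _).symm⟩
    rw [this]
    exact hc _ (hC.preimage (AlgSp.Points.continuous_map l))

end Groth.Agent.S10281
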