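import Groth.Statements.S1695
import Mathlib
import Groth.Agent.S14090
import Groth.Agent.H54.BlowUpAffine
import Groth.Agent.H54.CD_FLAT
import Groth.Agent.H98.BC_A1
import Groth.Agent.H73.BC_A2
import Groth.Agent.H26.BC_A3
import Groth.Agent.H10.BC_A6
import Groth.Agent.H54.BC_A4

set_option autoImplicit false
universe u
open CategoryTheory CategoryTheory.Limits AlgebraicGeometry TopologicalSpace
open SDiv

namespace Groth.Agent.S1695

open CategoryTheory CategoryTheory.Limits AlgebraicGeometry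
open Groth.Agent.H54.BlowUpAffine


theorem lift_aux {Q Z : Scheme.{u}} (V : Z.Opens) (k : Q ⟶ Z) (hk : ∀ q : Q, k q ∈ V) :
    ∃ k' : Q ⟶ V.toScheme, k' ≫ V.ι = k := by
  refine ⟨IsOpenImmersion.lift V.ι k ?_, IsOpenImmersion.lift_fac _ _ _⟩
  rintro _ ⟨q, rfl⟩
  rw [Scheme.Opens.range_ι]
  exact hk q

section Main

variable (A : Type u) [CommRing A] (I : Ideal A)

/-- The ideal sheaf of `I` on `Spec A`. -/
noncomputable abbrev II : (Spec (CommRingCat.of A)).IdealSheafData :=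
  Scheme.IdealSheafData.ofIdealTop (I.map (Scheme.ΓSpecIso (CommRingCat.of A)).inv.hom)

/-- sections of the inverse image ideal -/
theorem res_mem_comap {T : Scheme.{u}} (g : T ⟶ Spec (CommRingCat.of A)) (W : T.affineOpens)
    (x : A) (hx : x ∈ I) :
    (T.presheaf.map (homOfLE (le_top : W.1 ≤ ⊤)).op).hom (sharp g x) ∈
      ((II A I).comap g).ideal W := by
  have h1 := Groth.Agent.S14090.comap_idealSheaf_ideal A I g W
  have h2 : ((II A I).comap g).ideal W =
      Ideal.map ((T.presheaf.map (homOfLE (le_top : W.1 ≤ ⊤)).op).hom.comp (sharp g)) I := h1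
  rw [h2]
  exact Ideal.mem_map_of_mem _ hx

theorem sharp_SpecMap {B : Type u} [CommRing B] [Algebra A B] (x : A) :
    sharp (Spec.map (CommRingCat.ofHom (algebraMap A B))) x =
      (Scheme.ΓSpecIso (CommRingCat.of B)).inv.hom (algebraMap A B x) := by
  unfold sharp
  have h := Scheme.ΓSpecIso_inv_naturality (CommRingCat.ofHom (algebraMap A B))
  have h2 := congrArg (fun φ => φ.hom x) h
  simp only [CommRingCat.hom_comp, RingHom.comp_apply, CommRingCat.hom_ofHom] at h2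
  exact h2.symm

end Main

theorem nzd_ΓSpecIso_inv {C : Type u} [CommRing C] (c : C) (hc : c ∈ nonZeroDivisors C) :
    (Scheme.ΓSpecIso (CommRingCat.of C)).inv.hom c ∈
      nonZeroDivisors Γ(Spec (CommRingCat.of C), ⊤) := by
  rw [mem_nonZeroDivisors_iff_right]
  intro z hz
  have h2 : (Scheme.ΓSpecIso (CommRingCat.of C)).hom.hom
      ((Scheme.ΓSpecIso (CommRingCat.of C)).inv.hom c) = c := by
    rw [← CommRingCat.comp_apply, Iso.inv_hom_id]; rfl
  have h1 : (Scheme.ΓSpecIso (CommRingCat.of C)).hom.hom z * c = 0 := by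
    have h0 := congrArg (Scheme.ΓSpecIso (CommRingCat.of C)).hom.hom hz
    rw [map_mul, map_zero, h2] at h0
    exact h0
  have h3 := (mem_nonZeroDivisors_iff_right.mp hc) _ h1
  have h4 : (Scheme.ΓSpecIso (CommRingCat.of C)).inv.hom
      ((Scheme.ΓSpecIso (CommRingCat.of C)).hom.hom z) = z := by
    rw [← CommRingCat.comp_apply, Iso.hom_inv_id]; rfl
  rw [← h4, h3, map_zero]

section Main2

variable (A : Type u) [CommRing A] (I : Ideal A)

theorem main {X' : Scheme.{u}} (b : X' ⟶ Spec (CommRingCat.of A))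
    (hb : BlowUp.IsBlowUp b (II A I)) (x' : X') :
    ∃ (a : A) (_ : a ∈ I) (V : X'.Opens)
      (e : (V : Scheme.{u}) ≅ Spec (CommRingCat.of ↥(BlowUp.affineAlgebra A I a))),
      x' ∈ V ∧ e.hom ≫ Spec.map (CommRingCat.ofHom
        (algebraMap A ↥(BlowUp.affineAlgebra A I a))) = V.ι ≫ b := by
  classical
  obtain ⟨a, haI, W₀, hxW₀, hW₀gen, hW₀nzd⟩ := Groth.Agent.H98.BC_A1.A1 A I b hb.1 x'
  have hσeq : ∀ x : A,
      b.appTop.hom ((Scheme.ΓSpecIso (CommRingCat.of A)).inv.hom x) = sharp b x := fun x => rfl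
  rw [hσeq] at hW₀gen hW₀nzd
  let P : X'.affineOpens → Prop := fun W =>
    ((II A I).comap b).ideal W =
      Ideal.span {(X'.presheaf.map (homOfLE (le_top : W.1 ≤ ⊤)).op).hom (sharp b a)} ∧
    (X'.presheaf.map (homOfLE (le_top : W.1 ≤ ⊤)).op).hom (sharp b a) ∈
      nonZeroDivisors Γ(X', W.1)
  let V : X'.Opens := ⨆ W : {W : X'.affineOpens // P W}, W.1.1
  have hmemV : ∀ x : X', x ∈ V ↔ ∃ W : X'.affineOpens, P W ∧ x ∈ W.1 := by
    intro x
    simp only [V, TopologicalSpace.Opens.mem_iSup]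
    constructor
    · rintro ⟨⟨W, hW⟩, hx⟩
      exact ⟨W, hW, hx⟩
    · rintro ⟨W, hW, hx⟩
      exact ⟨⟨W, hW⟩, hx⟩
  have hleV : ∀ W : X'.affineOpens, P W → W.1 ≤ V := fun W hW =>
    le_iSup (fun W : {W : X'.affineOpens // P W} => W.1.1) ⟨W, hW⟩
  have hx'V : x' ∈ V := (hmemV x').mpr ⟨W₀, ⟨hW₀gen, hW₀nzd⟩, hxW₀⟩
  refine ⟨a, haI, V, ?_⟩
  set g : V.toScheme ⟶ Spec (CommRingCat.of A) := V.ι ≫ b with hg
  have hsg : ∀ x : A, sharp g x = V.ι.appTop.hom (sharp b x) := fun x => rfl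
  have h6 : ∀ x ∈ I, sharp g a ∈ nonZeroDivisors Γ(V.toScheme, ⊤) ∧
      ∃ y, sharp g a * y = sharp g x := by
    intro x hx
    rw [hsg, hsg]
    apply Groth.Agent.H10.BC_A6.A6 V (sharp b a) (sharp b x)
    intro z hz
    obtain ⟨W, hPW, hzW⟩ := (hmemV z).mp hz
    refine ⟨W, hzW, hleV W hPW, hPW.2, ?_⟩
    have h7 := res_mem_comap A I b W x hx
    rw [hPW.1, Ideal.mem_span_singleton'] at h7
    obtain ⟨y, hy⟩ := h7
    exact ⟨y, by rw [mul_comm]; exact hy⟩
  obtain ⟨ρ, hρ, -⟩ := Groth.Agent.H73.BC_A2.A2 A I a (sharp g) (h6 a haI).1 (fun x hx => (h6 x hx).2)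
  obtain ⟨h3nzd, h3div, h3gen⟩ := Groth.Agent.H26.BC_A3.A3 A I a haI
  set pa := Spec.map (CommRingCat.ofHom (algebraMap A ↥(BlowUp.affineAlgebra A I a))) with hpa
  let r : V.toScheme ⟶ Spec (CommRingCat.of ↥(BlowUp.affineAlgebra A I a)) :=
    V.toScheme.toSpecΓ ≫ Spec.map (CommRingCat.ofHom ρ)
  have hr : r ≫ pa = g := by
    apply sharp_injective
    rw [hpa, sharp_comp_SpecMap]
    have e0 : sharp r = ρ := sharp_mk (T := V.toScheme) ρ
    rw [e0, hρ]
  have hECpa : BlowUp.IsEffCartierIdeal ((II A I).comap pa) := by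
    intro y
    exact ⟨⟨⊤, isAffineOpen_top _⟩, trivial, _, nzd_ΓSpecIso_inv _ h3nzd, h3gen⟩
  obtain ⟨j, hj, -⟩ := hb.2 _ pa hECpa
  have hjσ : j.appTop.hom (sharp b a) = sharp (j ≫ b) a := rfl
  have hjV : ∀ y, j y ∈ V := by
    intro y
    have hnzd4 : j.appTop.hom (sharp b a) ∈
        nonZeroDivisors Γ(Spec (CommRingCat.of ↥(BlowUp.affineAlgebra A I a)), ⊤) := by
      rw [hjσ, hj, hpa, sharp_SpecMap]
      exact nzd_ΓSpecIso_inv _ h3nzd
    have hgen4 : (((II A I).comap b).comap j).ideal ⟨⊤, isAffineOpen_top _⟩ =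
        Ideal.span {j.appTop.hom (sharp b a)} := by
      rw [hjσ, ← Scheme.IdealSheafData.comap_comp, hj, hpa, sharp_SpecMap]
      exact h3gen
    obtain ⟨W, hjW, hW1, hW2⟩ := Groth.Agent.H54.BC_A4.A4 _ ((II A I).comap b) hb.1 j (sharp b a)
      (fun W => res_mem_comap A I b W a haI) hnzd4 hgen4 y
    exact (hmemV _).mpr ⟨W, ⟨hW1, hW2⟩, hjW⟩
  obtain ⟨j', hj'⟩ := lift_aux V j hjV
  have hrj : r ≫ j = V.ι := by
    have hECg : BlowUp.IsEffCartierIdeal ((II A I).comap g) := by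
      rw [hg, Scheme.IdealSheafData.comap_comp]
      exact Groth.Agent.H54.CD_FLAT.FLAT V.ι _ hb.1
    obtain ⟨k, -, hk⟩ := hb.2 _ g hECg
    have e1 : (r ≫ j) ≫ b = g := by rw [Category.assoc, hj, hr]
    have e2 : V.ι ≫ b = g := rfl
    rw [hk (r ≫ j) e1, hk V.ι e2]
  have h1 : r ≫ j' = 𝟙 _ := by
    rw [← cancel_mono V.ι, Category.assoc, hj', hrj, Category.id_comp]
  have h2 : j' ≫ r = 𝟙 _ := by
    have h3 : (j' ≫ r) ≫ pa = pa := by
      rw [Category.assoc, hr, hg, ← Category.assoc, hj', hj]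
    have hnz : sharp pa a ∈
        nonZeroDivisors Γ(Spec (CommRingCat.of ↥(BlowUp.affineAlgebra A I a)), ⊤) := by
      rw [hpa, sharp_SpecMap]
      exact nzd_ΓSpecIso_inv _ h3nzd
    have hdv : ∀ x ∈ I, ∃ y, sharp pa a * y = sharp pa x := by
      intro x hx
      obtain ⟨y₀, hy₀⟩ := h3div x hx
      refine ⟨(Scheme.ΓSpecIso (CommRingCat.of ↥(BlowUp.affineAlgebra A I a))).inv.hom y₀, ?_⟩
      rw [hpa, sharp_SpecMap, sharp_SpecMap, ← map_mul, hy₀]
    obtain ⟨ρ₀, -, hρ₀⟩ := Groth.Agent.H73.BC_A2.A2 A I a (sharp pa) hnz hdv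
    apply sharp_injective
    have e1 : (sharp (j' ≫ r)).comp (algebraMap A ↥(BlowUp.affineAlgebra A I a)) = sharp pa := by
      rw [← sharp_comp_SpecMap, ← hpa, h3]
    have e2 : (sharp (𝟙 (Spec (CommRingCat.of ↥(BlowUp.affineAlgebra A I a))))).comp
        (algebraMap A ↥(BlowUp.affineAlgebra A I a)) = sharp pa := by
      rw [← sharp_comp_SpecMap, Category.id_comp]
    rw [hρ₀ _ e1, hρ₀ _ e2]
  exact ⟨⟨r, j', h1, h2⟩, hx'V, hr⟩

end Main2

/-- Let A be a ring, I an ideal, and b : X' ⟶ Spec A a blowing-up of Spec A along the ideal sheaf of I.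
Then every point of X' has an open neighbourhood which is isomorphic, over Spec A, to the spectrum
of an affine blow-up algebra A[I/a] for some a ∈ I. -/
theorem result (A : Type u) [CommRing A] (I : Ideal A) {X' : Scheme.{u}}
    (b : X' ⟶ Spec (CommRingCat.of A)) (hb : BlowUp.IsBlowUp b (Scheme.IdealSheafData.ofIdealTop (I.map (Scheme.ΓSpecIso (CommRingCat.of A)).inv.hom))) (x' : ↥X') :
    ∃ (a : A) (_ : a ∈ I) (V : X'.Opens) (e : (V : Scheme.{u}) ≅ Spec (CommRingCat.of ↥(BlowUp.affineAlgebra A I a))),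
      x' ∈ V ∧ e.hom ≫ Spec.map (CommRingCat.ofHom (algebraMap A ↥(BlowUp.affineAlgebra A I a))) = V.ι ≫ b := by
  exact main A I b hb x'

end Groth.Agent.S1695
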