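import Groth.Statements.S16086
import Groth.Agent.H95.RefIso

set_option autoImplicit false
universe u
open CategoryTheory CategoryTheory.Limits AlgebraicGeometry TopologicalSpace
open SDiv

namespace Groth.Agent.S16086


open Groth.Agent.H18.TensorGen (IsGen)
open Groth.Agent.H95.SecOrd
open Groth.Agent.H95.RefGen
open Groth.Agent.H95.RefIso
open Groth.Agent.H17.HomExtend (sp_germ sp_smul sp_stalkMapₗ exists_hom_of_codim_one)

/-- The class map is well defined and injective: fix a scheme X that is integral, normal and locally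
Noetherian, and write η for its generic point; suppose F and G are rank one coherent reflexive
O_X-modules and let s ∈ F_η and t ∈ G_η be nonzero rational sections. At a point x of codimension 1
the stalks F_x, G_x are free of rank one over the discrete valuation ring O_{X,x}, so s and t have
orders ord_{x,F}(s), ord_{x,G}(t). Then F ≅ G if and only if the Weil divisors of s and t are
linearly equivalent: for some nonzero rational function f one has ord_{x,F}(s) = ord_{x,G}(t) +
ord_x(f) at every point x of codimension 1. -/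
theorem result (X : Scheme.{u}) [IsIntegral X] [IsLocallyNoetherian X]
    (hX : Pi1.IsNormalScheme X) (F G : X.Modules) (hF : RefHull.IsRef1 F) (hG : RefHull.IsRef1 G)
    (s : Cyc.secFibre F (genericPoint ↥X)) (hs : s ≠ 0) (t : Cyc.secFibre G (genericPoint ↥X)) (ht : t ≠ 0) :
    Nonempty (F ≅ G) ↔
      ∃ f : ↑X.functionField, f ≠ 0 ∧
        ∀ (x : ↥X), Order.coheight x = 1 →
          Cyc.secOrdAt F (genericPoint ↥X) x ((genericPoint_spec ↥X).specializes (Set.mem_univ x)) s =
            Cyc.secOrdAt G (genericPoint ↥X) x ((genericPoint_spec ↥X).specializes (Set.mem_univ x)) t +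
              Scheme.ord f x := by
  have hη : ∀ x : X, genericPoint ↥X ⤳ x :=
    fun x => (genericPoint_spec ↥X).specializes (Set.mem_univ x)
  have hdimη : ringKrullDim (X.presheaf.stalk (genericPoint ↥X)) < 2 := by
    have h0 : ringKrullDim (X.presheaf.stalk (genericPoint ↥X)) = 0 :=
      ringKrullDim_eq_zero_of_field X.functionField
    rw [h0]
    exact zero_lt_two
  obtain ⟨V₀, τ₀, ν₀, hηV₀, hτ₀, hν₀⟩ :=
    exists_isGen_pair_of_dim_lt_two hX F G hF hG (genericPoint ↥X) hdimη
  obtain ⟨a, ha⟩ := exists_eq_smul_mk hτ₀ (genericPoint ↥X) hηV₀ s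
  obtain ⟨b, hb⟩ := exists_eq_smul_mk hν₀ (genericPoint ↥X) hηV₀ t
  have hau : IsUnit a := isUnit_of_mk_ne_zero (genericPoint ↥X) hηV₀ s hs a ha
  have hbu : IsUnit b := isUnit_of_mk_ne_zero (genericPoint ↥X) hηV₀ t ht b hb
  obtain ⟨ainv, hainv⟩ := hau.exists_right_inv
  obtain ⟨binv, hbinv⟩ := hbu.exists_right_inv
  have hfτ := freeAt_of_isGen hτ₀ (genericPoint ↥X) hηV₀
  have hfν := freeAt_of_isGen hν₀ (genericPoint ↥X) hηV₀
  have ha0 : (a : X.functionField) ≠ 0 := left_ne_zero_of_mul_eq_one hainv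
  have hb0 : (b : X.functionField) ≠ 0 := left_ne_zero_of_mul_eq_one hbinv
  have hainv0 : (ainv : X.functionField) ≠ 0 := right_ne_zero_of_mul_eq_one hainv
  have hbinv0 : (binv : X.functionField) ≠ 0 := right_ne_zero_of_mul_eq_one hbinv
  constructor
  · rintro ⟨φ⟩
    obtain ⟨κ₀, hκ₀u, hκ₀⟩ := exists_unit_stalkMap φ hfτ hfν
    have hκ₀0 : (κ₀ : X.functionField) ≠ 0 := hκ₀u.ne_zero
    have hfne : (a * κ₀ * binv : X.functionField) ≠ 0 :=
      mul_ne_zero (mul_ne_zero ha0 hκ₀0) hbinv0
    refine ⟨a * κ₀ * binv, hfne, fun x hx1 => ?_⟩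
    have hdimx : ringKrullDim (X.presheaf.stalk x) < 2 := by
      rw [AlgebraicGeometry.ringKrullDim_stalk_eq_coheight, hx1]
      first
        | exact one_lt_two
        | norm_num
    obtain ⟨V, α, hxV, hηV, cη, c', hα, hcc', hαη, hsF⟩ :=
      exists_local_gen hX hF hτ₀ hηV₀ x hdimx
    obtain ⟨W, β, hxW, hηW, dη, d', hβ, hdd', hβη, hsG⟩ :=
      exists_local_gen hX hG hν₀ hηV₀ x hdimx
    obtain ⟨k, hku, hk⟩ := exists_unit_stalkMap φ (freeAt_of_isGen hα x hxV)
      (freeAt_of_isGen hβ x hxW)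
    have hrel : cη * κ₀ = X.presheaf.stalkSpecializes (hη x) k * dη := by
      apply hfν.1
      show (cη * κ₀) • G.presheaf.germ V₀ (genericPoint ↥X) hηV₀ ν₀ =
        (X.presheaf.stalkSpecializes (hη x) k * dη) •
          G.presheaf.germ V₀ (genericPoint ↥X) hηV₀ ν₀
      rw [mul_smul, ← hκ₀, ← map_smul, ← hαη, ← sp_germ F (hη x) hxV α, sp_stalkMapₗ, hk, sp_smul,
        sp_germ, hβη, mul_smul]
    have hc'0 : (c' : X.functionField) ≠ 0 := right_ne_zero_of_mul_eq_one hcc'
    have hd'0 : (d' : X.functionField) ≠ 0 := right_ne_zero_of_mul_eq_one hdd'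
    have hspk : IsUnit (X.presheaf.stalkSpecializes (hη x) k) :=
      hku.map (X.presheaf.stalkSpecializes (hη x)).hom
    have hspk0 : (X.presheaf.stalkSpecializes (hη x) k : X.functionField) ≠ 0 := hspk.ne_zero
    have key : (b * d') * (a * κ₀ * binv) =
        (a * c') * X.presheaf.stalkSpecializes (hη x) k := by
      linear_combination (a * d' * κ₀) * hbinv - (a * d' * κ₀) * hcc' + (a * d' * c') * hrel +
        (a * c' * X.presheaf.stalkSpecializes (hη x) k) * hdd'
    have e1 := o_mul x (hη x) (mul_ne_zero hb0 hd'0) hfne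
    have e2 := o_mul x (hη x) (mul_ne_zero ha0 hc'0) hspk0
    rw [key] at e1
    have e3 : Cyc.ordAt x (genericPoint ↥X) (hη x)
        (X.residue (genericPoint ↥X) (X.presheaf.stalkSpecializes (hη x) k)) = 0 :=
      ordAt_specMap_unit (hη x) hku
    rw [hsF (hη x) s a ha, hsG (hη x) t b hb,
      ← ordAt_residue_eq_ord x hx1 (hη x) (a * κ₀ * binv) hfne]
    omega
  · rintro ⟨f, hf0, hf⟩
    obtain ⟨finv, hfinv⟩ := (Ne.isUnit hf0).exists_right_inv
    have hfinv0 : finv ≠ 0 := right_ne_zero_of_mul_eq_one hfinv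
    have hf' : ∀ (x : X) (h : genericPoint ↥X ⤳ x), Order.coheight x = 1 →
        Cyc.secOrdAt F (genericPoint ↥X) x h s =
          Cyc.secOrdAt G (genericPoint ↥X) x h t + Scheme.ord f x := fun x h hx1 => hf x hx1
    have hf'' : ∀ (x : X) (h : genericPoint ↥X ⤳ x), Order.coheight x = 1 →
        Cyc.secOrdAt G (genericPoint ↥X) x h t =
          Cyc.secOrdAt F (genericPoint ↥X) x h s + Scheme.ord finv x := by
      intro x h hx1
      have h1 := hf x hx1
      have h2 : Scheme.ord f x + Scheme.ord finv x = 0 := by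
        rw [← Scheme.ord_mul hf0 hfinv0, hfinv,
          ← ordAt_residue_eq_ord x hx1 h 1 one_ne_zero, map_one]
        exact Groth.Agent.H95.C1Cap.ordAt_one h
      have h3 : Cyc.secOrdAt F (genericPoint ↥X) x h s =
          Cyc.secOrdAt G (genericPoint ↥X) x h t + Scheme.ord f x := h1
      omega
    obtain ⟨φ, hφ⟩ := exists_hom_of_codim_one hX F G hF.1 hG.1 hG.2.1
      (genHom hfτ ((f * b * ainv) • G.presheaf.germ V₀ (genericPoint ↥X) hηV₀ ν₀))
      (fun x hdim h v => maps_stalk_of_ord_eq hX hF hG hτ₀ hν₀ hηV₀ s t a b ainv ha hb hainv hb0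
        f hf0 hf' x hdim h v)
    obtain ⟨ψ, hψ⟩ := exists_hom_of_codim_one hX G F hG.1 hF.1 hF.2.1
      (genHom hfν ((finv * a * binv) • F.presheaf.germ V₀ (genericPoint ↥X) hηV₀ τ₀))
      (fun x hdim h v => maps_stalk_of_ord_eq hX hG hF hν₀ hτ₀ hηV₀ t s b a binv hb ha hbinv ha0
        finv hfinv0 hf'' x hdim h v)
    have htfF : TorSh.IsTorsionFree F := fun y => by
      haveI : Module.IsReflexive (X.presheaf.stalk y) (F.presheaf.stalk y) :=
        Groth.Agent.H17.ReflSheaf.isReflexiveAt_of_isReflexive F hF.1 hF.2.1 y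
      exact Groth.Agent.H17.NormalRefl.isTorsionFree_of_isReflexive
    have htfG : TorSh.IsTorsionFree G := fun y => by
      haveI : Module.IsReflexive (X.presheaf.stalk y) (G.presheaf.stalk y) :=
        Groth.Agent.H17.ReflSheaf.isReflexiveAt_of_isReflexive G hG.1 hG.2.1 y
      exact Groth.Agent.H17.NormalRefl.isTorsionFree_of_isReflexive
    have hprod1 : (f * b * ainv) * (finv * a * binv) = 1 := by
      linear_combination (b * binv * a * ainv) * hfinv + (a * ainv) * hbinv + hainv
    have hprod2 : (finv * a * binv) * (f * b * ainv) = 1 := by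
      rw [mul_comm]
      exact hprod1
    haveI : F.IsQuasicoherent := hF.1.1
    haveI : G.IsQuasicoherent := hG.1.1
    have h1 : φ ≫ ψ = 𝟙 F := by
      apply hom_ext_of_generic htfF
      refine stalkHom_ext_of_freeAt hfτ _ _ ?_
      rw [DefoSh.stalkMapₗ_comp_apply, DefoSh.stalkMapₗ_id_apply, hφ, hψ, genHom_self, map_smul,
        genHom_self, ← mul_smul, hprod1, one_smul]
    have h2 : ψ ≫ φ = 𝟙 G := by
      apply hom_ext_of_generic htfG
      refine stalkHom_ext_of_freeAt hfν _ _ ?_
      rw [DefoSh.stalkMapₗ_comp_apply, DefoSh.stalkMapₗ_id_apply, hφ, hψ, genHom_self, map_smul,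
        genHom_self, ← mul_smul, hprod2, one_smul]
    exact ⟨⟨φ, ψ, h1, h2⟩⟩

end Groth.Agent.S16086
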