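import Groth.Statements.S16090
import Groth.Agent.H95.RefGen
import Groth.Agent.S16092

set_option autoImplicit false
universe u
open CategoryTheory CategoryTheory.Limits AlgebraicGeometry TopologicalSpace
open SDiv

namespace Groth.Agent.S16090


open Groth.Agent.H18.TensorGen (IsGen isGen_tm)
open Groth.Agent.H18.SecTw (tm tm_res tm_smul_left tm_smul_right)
open Groth.Agent.H95.AssGen (GenAt genAt_of_isGen germ_eq_smul_germ isUnit_germ_of_genAt)
open Groth.Agent.H95.SecOrd
open Groth.Agent.H95.RefGen (exists_isGen_pair_of_dim_lt_two isGen_bidual bidual_res_smul)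
open Groth.Agent.S16092 (secOrdAt_rebase)

/-- The class map is additive for the reflexive tensor product: suppose X is a scheme that is integral,
normal and locally Noetherian, write η for its generic point, and take F and G to be rank one
coherent reflexive O_X-modules with s ∈ F_η, t ∈ G_η nonzero rational sections, with orders
ord_{x,F}(s), ord_{x,G}(t) at the points x of codimension 1 taken with respect to generators of the
free rank one stalks. Then the reflexive hull (F ⊗_{O_X} G)^** admits a nonzero rational section w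
whose order at every codimension-1 point x is ord_{x,F}(s) + ord_{x,G}(t); so the Weil divisor class
of (F ⊗ G)^** is the sum of the classes of F and G. -/
theorem result (X : Scheme.{u}) [IsIntegral X] [IsLocallyNoetherian X]
    (hX : Pi1.IsNormalScheme X) (F G : X.Modules) (hF : RefHull.IsRef1 F) (hG : RefHull.IsRef1 G)
    (s : Cyc.secFibre F (genericPoint ↥X)) (hs : s ≠ 0) (t : Cyc.secFibre G (genericPoint ↥X)) (ht : t ≠ 0) :
    ∃ w : Cyc.secFibre (RefHull.ddual (CohB1.tensorMod F G)) (genericPoint ↥X), w ≠ 0 ∧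
      ∀ (x : ↥X), Order.coheight x = 1 →
        Cyc.secOrdAt (RefHull.ddual (CohB1.tensorMod F G)) (genericPoint ↥X) x
            ((genericPoint_spec ↥X).specializes (Set.mem_univ x)) w =
          Cyc.secOrdAt F (genericPoint ↥X) x ((genericPoint_spec ↥X).specializes (Set.mem_univ x)) s +
            Cyc.secOrdAt G (genericPoint ↥X) x ((genericPoint_spec ↥X).specializes (Set.mem_univ x)) t := by
  have hη : ∀ x : X, genericPoint ↥X ⤳ x :=
    fun x => (genericPoint_spec ↥X).specializes (Set.mem_univ x)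
  have hdimη : ringKrullDim (X.presheaf.stalk (genericPoint ↥X)) < 2 := by
    have h0 : ringKrullDim (X.presheaf.stalk (genericPoint ↥X)) = 0 :=
      ringKrullDim_eq_zero_of_field X.functionField
    rw [h0]
    exact zero_lt_two
  obtain ⟨V₀, τ₀, ν₀, hηV₀, hτ₀, hν₀⟩ :=
    exists_isGen_pair_of_dim_lt_two hX F G hF hG (genericPoint ↥X) hdimη
  obtain ⟨ψs, hψs⟩ := exists_eq_smul_mk hτ₀ (genericPoint ↥X) hηV₀ s
  obtain ⟨ψt, hψt⟩ := exists_eq_smul_mk hν₀ (genericPoint ↥X) hηV₀ t
  have hus : IsUnit ψs := isUnit_of_mk_ne_zero (genericPoint ↥X) hηV₀ s hs ψs hψs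
  have hut : IsUnit ψt := isUnit_of_mk_ne_zero (genericPoint ↥X) hηV₀ t ht ψt hψt
  have hτν : IsGen (RefHull.ddual (CohB1.tensorMod F G)) V₀
      ((RefHull.bidualMap (CohB1.tensorMod F G)).app V₀ (tm F G τ₀ ν₀)) :=
    isGen_bidual (isGen_tm hτ₀ hν₀)
  obtain ⟨w, hw⟩ : ∃ w : Cyc.secFibre (RefHull.ddual (CohB1.tensorMod F G)) (genericPoint ↥X),
      w = (ψs * ψt) • (Submodule.Quotient.mk
        ((RefHull.ddual (CohB1.tensorMod F G)).presheaf.germ V₀ (genericPoint ↥X) hηV₀
          ((RefHull.bidualMap (CohB1.tensorMod F G)).app V₀ (tm F G τ₀ ν₀))) :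
          Cyc.secFibre (RefHull.ddual (CohB1.tensorMod F G)) (genericPoint ↥X)) := ⟨_, rfl⟩
  refine ⟨w, ?_, ?_⟩
  · intro hw0
    rw [hw] at hw0
    have hm := mem_maximalIdeal_of_smul_mk_eq_zero hτν (genericPoint ↥X) hηV₀ _ hw0
    exact (IsLocalRing.mem_maximalIdeal _).mp hm (hus.mul hut)
  · intro x hx1
    have hdimx : ringKrullDim (X.presheaf.stalk x) < 2 := by
      rw [AlgebraicGeometry.ringKrullDim_stalk_eq_coheight, hx1]
      first
        | exact one_lt_two
        | norm_num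
    obtain ⟨V, α, β, hxV, hα, hβ⟩ := exists_isGen_pair_of_dim_lt_two hX F G hF hG x hdimx
    have hηV : genericPoint ↥X ∈ V := (hη x).mem_open V.2 hxV
    have hηP : genericPoint ↥X ∈ V₀ ⊓ V := Opens.mem_inf.mpr ⟨hηV₀, hηV⟩
    obtain ⟨c, hc⟩ := (hτ₀ (V₀ ⊓ V) inf_le_left).2
      (F.presheaf.map (homOfLE (inf_le_right : V₀ ⊓ V ≤ V)).op α)
    obtain ⟨d, hd⟩ := (hν₀ (V₀ ⊓ V) inf_le_left).2
      (G.presheaf.map (homOfLE (inf_le_right : V₀ ⊓ V ≤ V)).op β)
    have hc' : F.presheaf.map (homOfLE (inf_le_right : V₀ ⊓ V ≤ V)).op α =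
        c • F.presheaf.map (homOfLE (inf_le_left : V₀ ⊓ V ≤ V₀)).op τ₀ := hc.symm
    have hd' : G.presheaf.map (homOfLE (inf_le_right : V₀ ⊓ V ≤ V)).op β =
        d • G.presheaf.map (homOfLE (inf_le_left : V₀ ⊓ V ≤ V₀)).op ν₀ := hd.symm
    have hcd0 : (CohB1.tensorMod F G).presheaf.map (homOfLE (inf_le_right : V₀ ⊓ V ≤ V)).op
        (tm F G α β) =
        (c * d) • (CohB1.tensorMod F G).presheaf.map
          (homOfLE (inf_le_left : V₀ ⊓ V ≤ V₀)).op (tm F G τ₀ ν₀) := by
      rw [tm_res, tm_res, hc', hd', tm_smul_left, tm_smul_right, mul_smul]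
    have hcd := bidual_res_smul (CohB1.tensorMod F G) (tm F G τ₀ ν₀) (tm F G α β) (c * d) hcd0
    have hcu : IsUnit (X.presheaf.germ (V₀ ⊓ V) (genericPoint ↥X) hηP c) :=
      isUnit_germ_of_genAt hτ₀ α c hc' (genericPoint ↥X) hηV₀ hηV hηP
        (genAt_of_isGen hα (genericPoint ↥X) hηV)
    have hdu : IsUnit (X.presheaf.germ (V₀ ⊓ V) (genericPoint ↥X) hηP d) :=
      isUnit_germ_of_genAt hν₀ β d hd' (genericPoint ↥X) hηV₀ hηV hηP
        (genAt_of_isGen hβ (genericPoint ↥X) hηV)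
    obtain ⟨c', hcc'⟩ := hcu.exists_right_inv
    obtain ⟨d', hdd'⟩ := hdu.exists_right_inv
    have hcd' : X.presheaf.germ (V₀ ⊓ V) (genericPoint ↥X) hηP (c * d) * (c' * d') = 1 := by
      rw [map_mul, mul_mul_mul_comm, hcc', hdd', one_mul]
    have hc'u : IsUnit c' := IsUnit.of_mul_eq_one_right _ hcc'
    have hd'u : IsUnit d' := IsUnit.of_mul_eq_one_right _ hdd'
    rw [secOrdAt_rebase hα c hc' (hη x) hxV hηV hηV₀ hηP c' hcc' s ψs hψs,
      secOrdAt_rebase hβ d hd' (hη x) hxV hηV hηV₀ hηP d' hdd' t ψt hψt,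
      secOrdAt_rebase (isGen_bidual (isGen_tm hα hβ)) (c * d) hcd (hη x) hxV hηV hηV₀ hηP
        (c' * d') hcd' w (ψs * ψt) hw,
      mul_mul_mul_comm, map_mul]
    exact ordAt_mul (hη x) (residue_ne_zero_of_isUnit (hus.mul hc'u))
      (residue_ne_zero_of_isUnit (hut.mul hd'u))

end Groth.Agent.S16090
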