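import Groth.Statements.S10901
import Groth.Agent.H95.AffSpaceOrd2
import Groth.Agent.H97.OrdOpen

set_option autoImplicit false
universe u
open CategoryTheory CategoryTheory.Limits AlgebraicGeometry TopologicalSpace
open WDiv

namespace Groth.Agent.S10901


open Groth.Agent.H95.FFMap Groth.Agent.H95.AffSpaceOrd Groth.Agent.H97.OrdOpen
open Order

section Helpers

variable {X : Scheme.{u}} [IsIntegral X] (ι : Type u) [Finite ι]

lemma over_generic : (𝔸(ι; X) ↘ X) (genericPoint 𝔸(ι; X)) = genericPoint X := by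
  apply ((genericPoint_spec X).eq _).symm
  have h1 := (genericPoint_spec 𝔸(ι; X)).image (𝔸(ι; X) ↘ X).continuous
  have h2 : closure ((𝔸(ι; X) ↘ X) '' (Set.univ : Set 𝔸(ι; X))) = Set.univ := by
    rw [Set.image_univ, (𝔸(ι; X) ↘ X).surjective.range_eq, closure_univ]
  rw [h2] at h1
  exact h1

lemma over_specializes : (𝔸(ι; X) ↘ X) (genericPoint 𝔸(ι; X)) ⤳ genericPoint X :=
  specializes_of_eq (over_generic ι)

/-- The chart `Spec Γ(X, U)[t] ⟶ 𝔸ⁿ_X` attached to an affine open `U`. -/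
noncomputable def chart {U : X.Opens} (hU : IsAffineOpen U) :
    Spec (SS Γ(X, U) ι) ⟶ 𝔸(ι; X) :=
  (AffineSpace.SpecIso ι Γ(X, U)).inv ≫ AffineSpace.map ι hU.fromSpec

instance isOpenImmersion_map {S T : Scheme.{u}} (f : S ⟶ T) [IsOpenImmersion f] :
    IsOpenImmersion (AffineSpace.map ι f) :=
  MorphismProperty.of_isPullback (P := @IsOpenImmersion) (AffineSpace.isPullback_map f).flip
    inferInstance

instance {U : X.Opens} (hU : IsAffineOpen U) : IsOpenImmersion (chart ι hU) := by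
  unfold chart
  infer_instance

lemma chart_over {U : X.Opens} (hU : IsAffineOpen U) :
    chart ι hU ≫ (𝔸(ι; X) ↘ X) = qq Γ(X, U) ι ≫ hU.fromSpec := by
  unfold chart
  rw [Category.assoc, AffineSpace.map_over, ← Category.assoc, AffineSpace.SpecIso_inv_over]

lemma chart_apply {U : X.Opens} (hU : IsAffineOpen U) (v : Spec (SS Γ(X, U) ι)) :
    (𝔸(ι; X) ↘ X) ((chart ι hU) v) = hU.fromSpec ((qq Γ(X, U) ι) v) := by
  rw [← Scheme.Hom.comp_apply, ← Scheme.Hom.comp_apply, chart_over]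

variable {U : X.Opens} (hU : IsAffineOpen U) [IsDomain Γ(X, U)] [IsNoetherianRing Γ(X, U)]

/-- Compatibility of the function field maps along a chart. -/
lemma chart_ffMap (f : X.functionField) :
    ffMap (chart ι hU) (spec_generic (chart ι hU)) (ffMap (𝔸(ι; X) ↘ X) (over_specializes ι) f) =
      φφ Γ(X, U) ι (ffMap hU.fromSpec (spec_generic hU.fromSpec) f) := by
  rw [← ffMap_comp, ← ffMap_comp]
  exact congrArg (fun φ : X.functionField ⟶ (Spec (SS Γ(X, U) ι)).functionField => φ.hom f)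
    (ffMap_congr (chart_over ι hU) _ _)

end Helpers

section Helpers2

variable {X : Scheme.{u}} [IsIntegral X] (ι : Type u) [Finite ι]

/-- Points of `𝔸ⁿ_X` over an affine open lie in the corresponding chart. -/
lemma exists_chart_preimage {U : X.Opens} (hU : IsAffineOpen U) (y : 𝔸(ι; X))
    (hy : (𝔸(ι; X) ↘ X) y ∈ U) : ∃ v : Spec (SS Γ(X, U) ι), (chart ι hU) v = y := by
  obtain ⟨u, hu⟩ : ∃ u : Spec Γ(X, U), hU.fromSpec u = (𝔸(ι; X) ↘ X) y := by
    have : (𝔸(ι; X) ↘ X) y ∈ Set.range hU.fromSpec := by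
      rw [hU.range_fromSpec]
      exact hy
    exact this
  have hP := AffineSpace.isPullback_map (n := ι) hU.fromSpec
  obtain ⟨z', hz'1, -⟩ := Scheme.Pullback.exists_preimage_pullback
    (f := 𝔸(ι; X) ↘ X) (g := hU.fromSpec) y u hu.symm
  have hz : (AffineSpace.map ι hU.fromSpec) (hP.isoPullback.inv z') = y := by
    rw [← Scheme.Hom.comp_apply, hP.isoPullback_inv_fst]
    exact hz'1
  refine ⟨(AffineSpace.SpecIso ι Γ(X, U)).hom (hP.isoPullback.inv z'), ?_⟩
  unfold chart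
  rw [← Scheme.Hom.comp_apply, ← Category.assoc, Iso.hom_inv_id, Category.id_comp]
  exact hz

/-- A nonzero rational function has finitely many zeros and poles in codimension one. -/
theorem finite_ord_ne_zero (Y : Scheme.{u}) [IsIntegral Y] [IsLocallyNoetherian Y]
    [CompactSpace Y] (g : Y.functionField) (hg : g ≠ 0) :
    {y : Y | coheight y = 1 ∧ Scheme.ord g y ≠ 0}.Finite := by
  have hloc : ∀ y : Y, ∃ U : Y.Opens, IsAffineOpen U ∧ y ∈ U := fun y => by
    obtain ⟨U, hU, hy, -⟩ := Opens.isBasis_iff_nbhd.mp Y.isBasis_affineOpens (Opens.mem_top y)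
    exact ⟨U, hU, hy⟩
  choose V hV hyV using hloc
  obtain ⟨t, ht⟩ := isCompact_univ.elim_finite_subcover (fun y => ((V y : Y.Opens) : Set Y))
    (fun y => (V y).2) (fun y _ => Set.mem_iUnion.mpr ⟨y, hyV y⟩)
  have hpiece : ∀ y₀ : Y,
      {y : Y | y ∈ V y₀ ∧ coheight y = 1 ∧ Scheme.ord g y ≠ 0}.Finite := by
    intro y₀
    haveI : Nonempty (V y₀) := ⟨⟨y₀, hyV y₀⟩⟩
    haveI : IsDomain Γ(Y, V y₀) := IsIntegral.component_integral (V y₀)
    haveI : IsNoetherianRing Γ(Y, V y₀) :=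
      IsLocallyNoetherian.component_noetherian ⟨V y₀, hV y₀⟩
    have hgB : ffMap (hV y₀).fromSpec (spec_generic (hV y₀).fromSpec) g ≠ 0 := by
      intro h0
      exact hg ((ffMap (hV y₀).fromSpec (spec_generic (hV y₀).fromSpec)).hom.injective
        (h0.trans (map_zero _).symm))
    have hfinB := finite_ord_ne_zero_spec Γ(Y, V y₀) _ hgB
    refine (hfinB.image (hV y₀).fromSpec).subset ?_
    rintro y ⟨hyV', hy1, hy⟩
    obtain ⟨w, rfl⟩ : ∃ w : Spec Γ(Y, V y₀), (hV y₀).fromSpec w = y := by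
      have : y ∈ Set.range (hV y₀).fromSpec := by
        rw [(hV y₀).range_fromSpec]
        exact hyV'
      exact this
    refine ⟨w, ⟨?_, ?_⟩, rfl⟩
    · rw [← coheight_eq_of_isOpenImmersion (hV y₀).fromSpec]
      exact hy1
    · have e := ord_ffEquiv (hV y₀).fromSpec g w
      intro h0
      exact hy (e.symm.trans h0)
  refine ((Set.Finite.biUnion t.finite_toSet (fun y₀ _ => hpiece y₀))).subset ?_
  rintro y ⟨hy1, hy⟩
  obtain ⟨y₀, hy₀t, hy₀⟩ := Set.mem_iUnion₂.mp (ht (Set.mem_univ y))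
  exact Set.mem_iUnion₂.mpr ⟨y₀, hy₀t, hy₀, hy1, hy⟩

end Helpers2

section Main

variable (ι : Type u) [Finite ι]

theorem main (X : Scheme.{u}) [IsIntegral X] [IsNoetherian X]
    [IsLocallyNoetherian 𝔸(ι; X)]
    (D' : ↥(𝔸(ι; X)) → ℤ) (hfin : {y | D' y ≠ 0}.Finite) :
    ∃ (D : ↥X → ℤ) (g : ↑(𝔸(ι; X)).functionField), (∀ x, Order.coheight x ≠ 1 → D x = 0) ∧
      {x | D x ≠ 0}.Finite ∧ g ≠ 0 ∧
        ∀ y : ↥(𝔸(ι; X)), Order.coheight y = 1 →
          D' y = D ((𝔸(ι; X) ↘ X) y) + Scheme.ord g y := by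
  classical
  haveI : CompactSpace 𝔸(ι; X) := QuasiCompact.compactSpace_of_compactSpace (𝔸(ι; X) ↘ X)
  have hcoη : coheight (genericPoint X) ≠ 1 := by
    have h0 : coheight (genericPoint X) = 0 := Order.coheight_top X
    rw [h0]
    exact zero_ne_one
  -- the base chart
  obtain ⟨x₀⟩ : Nonempty X := inferInstance
  obtain ⟨U₀, hU₀, hx₀, -⟩ :=
    Opens.isBasis_iff_nbhd.mp X.isBasis_affineOpens (Opens.mem_top x₀)
  haveI : Nonempty U₀ := ⟨⟨x₀, hx₀⟩⟩
  haveI : IsDomain Γ(X, U₀) := IsIntegral.component_integral U₀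
  haveI : IsNoetherianRing Γ(X, U₀) := IsLocallyNoetherian.component_noetherian ⟨U₀, hU₀⟩
  have hηU₀ : genericPoint X ∈ U₀ := (genericPoint_specializes x₀).mem_open U₀.2 hx₀
  have hcinj : Function.Injective (chart ι hU₀) := (chart ι hU₀).isOpenEmbedding.injective
  obtain ⟨g', hg'0, hg'⟩ := exists_horizontal Γ(X, U₀) ι (fun v => D' ((chart ι hU₀) v))
    (hfin.preimage (hcinj.injOn))
  obtain ⟨g, hgdef⟩ : ∃ g : (𝔸(ι; X)).functionField,
      ffMap (chart ι hU₀) (spec_generic (chart ι hU₀)) g = g' :=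
    ⟨(ffEquiv (chart ι hU₀)).symm g', (ffEquiv (chart ι hU₀)).apply_symm_apply g'⟩
  have hg0 : g ≠ 0 := by
    rintro rfl
    rw [map_zero] at hgdef
    exact hg'0 hgdef.symm
  -- horizontal points
  have hhor : ∀ y : 𝔸(ι; X), coheight y = 1 → (𝔸(ι; X) ↘ X) y = genericPoint X →
      Scheme.ord g y = D' y := by
    intro y hy1 hpy
    obtain ⟨v, rfl⟩ := exists_chart_preimage ι hU₀ y (by rw [hpy]; exact hηU₀)
    have hv1 : coheight v = 1 :=
      (coheight_eq_of_isOpenImmersion (chart ι hU₀)).symm.trans hy1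
    have hqv : (qq Γ(X, U₀) ι) v = genericPoint (Spec Γ(X, U₀)) := by
      apply hU₀.fromSpec.isOpenEmbedding.injective
      rw [← chart_apply, hpy, genericPoint_eq_of_isOpenImmersion]
    have e3 : Scheme.ord (ffMap (chart ι hU₀) (spec_generic (chart ι hU₀)) g) v =
        Scheme.ord g ((chart ι hU₀) v) := ord_ffEquiv (chart ι hU₀) g v
    rw [← e3, hgdef, hg' v hv1 hqv]
  -- vertical points: existence
  have hVX : ∀ x : X, coheight x = 1 →
      ∃ y : 𝔸(ι; X), coheight y = 1 ∧ (𝔸(ι; X) ↘ X) y = x := by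
    intro x hx
    obtain ⟨U, hU, hxU, -⟩ :=
      Opens.isBasis_iff_nbhd.mp X.isBasis_affineOpens (Opens.mem_top x)
    haveI : Nonempty U := ⟨⟨x, hxU⟩⟩
    haveI : IsDomain Γ(X, U) := IsIntegral.component_integral U
    haveI : IsNoetherianRing Γ(X, U) := IsLocallyNoetherian.component_noetherian ⟨U, hU⟩
    obtain ⟨u, hu⟩ : ∃ u : Spec Γ(X, U), hU.fromSpec u = x := by
      have : x ∈ Set.range hU.fromSpec := by
        rw [hU.range_fromSpec]
        exact hxU
      exact this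
    have hcou : coheight u = 1 := by
      rw [← coheight_eq_of_isOpenImmersion hU.fromSpec, hu]
      exact hx
    haveI hPprime : (PrimeSpectrum.asIdeal u).IsPrime := PrimeSpectrum.isPrime u
    haveI hQprime := map_C_isPrime Γ(X, U) ι (PrimeSpectrum.asIdeal u)
    obtain ⟨v, hvdef⟩ : ∃ v : Spec (SS Γ(X, U) ι), PrimeSpectrum.asIdeal v =
        (PrimeSpectrum.asIdeal u).map (MvPolynomial.C : Γ(X, U) →+* MvPolynomial ι Γ(X, U)) :=
      ⟨(⟨_, hQprime⟩ : PrimeSpectrum (MvPolynomial ι Γ(X, U))), rfl⟩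
    have hqv : (qq Γ(X, U) ι) v = u := by
      apply PrimeSpectrum.ext
      rw [qq_asIdeal, hvdef, comap_map_C]
    have hP1 : (PrimeSpectrum.asIdeal u).height = 1 := by
      rw [idealHeight_eq_coheight Γ(X, U) u, hcou]
    have hv1 : coheight v = 1 := by
      rw [← idealHeight_eq_coheight (SS Γ(X, U) ι) v, hvdef]
      exact height_map_C Γ(X, U) ι _ hP1
    exact ⟨(chart ι hU) v, (coheight_eq_of_isOpenImmersion (chart ι hU)).trans hv1, by
      rw [chart_apply, hqv, hu]⟩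
  -- vertical points: uniqueness
  have hVU : ∀ y : 𝔸(ι; X), coheight y = 1 → (𝔸(ι; X) ↘ X) y ≠ genericPoint X →
      coheight ((𝔸(ι; X) ↘ X) y) = 1 ∧ ∀ y' : 𝔸(ι; X), coheight y' = 1 →
        (𝔸(ι; X) ↘ X) y' = (𝔸(ι; X) ↘ X) y → y' = y := by
    intro y hy1 hpy
    obtain ⟨U, hU, hxU, -⟩ := Opens.isBasis_iff_nbhd.mp X.isBasis_affineOpens
      (Opens.mem_top ((𝔸(ι; X) ↘ X) y))
    haveI : Nonempty U := ⟨⟨_, hxU⟩⟩
    haveI : IsDomain Γ(X, U) := IsIntegral.component_integral U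
    haveI : IsNoetherianRing Γ(X, U) := IsLocallyNoetherian.component_noetherian ⟨U, hU⟩
    obtain ⟨v, hv⟩ := exists_chart_preimage ι hU y hxU
    have hv1 : coheight v = 1 := by
      rw [← coheight_eq_of_isOpenImmersion (chart ι hU), hv]
      exact hy1
    have hiinj := hU.fromSpec.isOpenEmbedding.injective
    have hpv : hU.fromSpec ((qq Γ(X, U) ι) v) = (𝔸(ι; X) ↘ X) y := by
      rw [← chart_apply, hv]
    have hqv : (qq Γ(X, U) ι) v ≠ genericPoint (Spec Γ(X, U)) := by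
      intro h0
      apply hpy
      rw [← hpv, h0, genericPoint_eq_of_isOpenImmersion]
    obtain ⟨hq1, hvC⟩ := vertical_classification Γ(X, U) ι v hv1 hqv
    refine ⟨by rw [← hpv, coheight_eq_of_isOpenImmersion]; exact hq1, ?_⟩
    intro y' hy'1 hpy'
    obtain ⟨v', hv'⟩ := exists_chart_preimage ι hU y' (by rw [hpy']; exact hxU)
    have hv'1 : coheight v' = 1 := by
      rw [← coheight_eq_of_isOpenImmersion (chart ι hU), hv']
      exact hy'1
    have hqq : (qq Γ(X, U) ι) v' = (qq Γ(X, U) ι) v := by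
      apply hiinj
      rw [hpv, ← chart_apply, hv', hpy']
    have hqv' : (qq Γ(X, U) ι) v' ≠ genericPoint (Spec Γ(X, U)) := by
      rw [hqq]
      exact hqv
    obtain ⟨-, hv'C⟩ := vertical_classification Γ(X, U) ι v' hv'1 hqv'
    have hvv : v' = v := PrimeSpectrum.ext (by rw [hv'C, hvC, hqq])
    rw [← hv', ← hv, hvv]
  choose Y hY1 hYp using hVX
  obtain ⟨D, hDdef⟩ : ∃ D : X → ℤ, ∀ x, D x =
      if hx : coheight x = 1 then D' (Y x hx) - Scheme.ord g (Y x hx) else 0 :=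
    ⟨_, fun _ => rfl⟩
  refine ⟨D, g, ?_, ?_, hg0, ?_⟩
  · intro x hx
    rw [hDdef, dif_neg hx]
  · have hfin2 := finite_ord_ne_zero 𝔸(ι; X) g hg0
    refine ((hfin.union hfin2).image (𝔸(ι; X) ↘ X)).subset ?_
    intro x hx
    have hx' : D x ≠ 0 := hx
    by_cases hx1 : coheight x = 1
    · rw [hDdef, dif_pos hx1] at hx'
      refine ⟨Y x hx1, ?_, hYp x hx1⟩
      by_cases h0 : D' (Y x hx1) = 0
      · right
        refine ⟨hY1 x hx1, ?_⟩
        intro h1
        apply hx'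
        rw [h0, h1, sub_zero]
      · left
        exact h0
    · rw [hDdef, dif_neg hx1] at hx'
      exact absurd rfl hx'
  · intro y hy1
    by_cases hpy : (𝔸(ι; X) ↘ X) y = genericPoint X
    · have hD0 : D ((𝔸(ι; X) ↘ X) y) = 0 := by
        rw [hpy, hDdef, dif_neg hcoη]
      rw [hD0, zero_add, hhor y hy1 hpy]
    · obtain ⟨hx1, huniq⟩ := hVU y hy1 hpy
      have hYy : Y _ hx1 = y := huniq _ (hY1 _ hx1) (hYp _ hx1)
      have hDx : D ((𝔸(ι; X) ↘ X) y) = D' (Y _ hx1) - Scheme.ord g (Y _ hx1) := by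
        rw [hDdef, dif_pos hx1]
      rw [hDx, hYy]
      ring

end Main

/-- Let X be an integral Noetherian separated scheme which is regular in codimension 1 (the local ring
at every point of coheight 1 is a discrete valuation ring), and p : A^m_X → X the affine m-space
over X. Then pulling back along p is surjective on divisor classes: for every Weil divisor D' on
A^m_X (an integer-valued function on its points with finite support inside the points of coheight 1)
there are a Weil divisor D on X and a nonzero rational function g on A^m_X such that D'(y) = D(p(y))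
+ ord_y(g) at every point y of A^m_X of coheight 1. -/
theorem result (m : ℕ) (X : Scheme.{u}) [IsIntegral X]
    [IsNoetherian X] [X.IsSeparated] [IsLocallyNoetherian 𝔸(ULift.{u} (Fin m); X)]
    (hR1 : ∀ x : ↥X, Order.coheight x = 1 → IsDiscreteValuationRing ↑(X.presheaf.stalk x))
    (D' : ↥(𝔸(ULift.{u} (Fin m); X)) → ℤ) (hD' : ∀ y, Order.coheight y ≠ 1 → D' y = 0) (hfin : {y | D' y ≠ 0}.Finite) :
    ∃ (D : ↥X → ℤ) (g : ↑(𝔸(ULift.{u} (Fin m); X)).functionField), (∀ x, Order.coheight x ≠ 1 → D x = 0) ∧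
      {x | D x ≠ 0}.Finite ∧ g ≠ 0 ∧
        ∀ y : ↥(𝔸(ULift.{u} (Fin m); X)), Order.coheight y = 1 → D' y = D ((𝔸(ULift.{u} (Fin m); X) ↘ X) y) + Scheme.ord g y := by
  exact main (ULift.{u} (Fin m)) X D' hfin

end Groth.Agent.S10901
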