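import Groth.Statements.S5103
import Groth.Agent.H95.RefGroup
import Groth.Agent.H18.AmpleTwistGG

set_option autoImplicit false
universe u
open CategoryTheory CategoryTheory.Limits AlgebraicGeometry TopologicalSpace
open Div21

namespace Groth.Agent.S5103

open Groth.Agent.H18.TensorGen (IsGen isGen_one exists_isGen)
open Groth.Agent.H95.SecOrd
open Groth.Agent.H95.RefGen
open Groth.Agent.H95.RefGroup
open Groth.Agent.H95.C1Cap (ordAt_one)
open Groth.Agent.H17.ReflSheaf (isReflexive_of_closed_points)

/-- For an integral scheme (the canonical homomorphism Pic(X) → Cl(X) to the group of codimension-1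
cycle classes is injective): let X be a normal locally Noetherian integral scheme, L an invertible
O_X-module and s a nonzero rational section of L (a nonzero element of the fibre of L at the generic
point). If the Weil divisor of s is principal — there is a nonzero rational function f whose order
of vanishing at every point of codimension 1 (coheight 1 in the specialization order) equals the
order of s there — then L is isomorphic to O_X. -/
theorem result (X : Scheme.{u}) [IsIntegral X] [IsLocallyNoetherian X]
    (hX : Pi1.IsNormalScheme X) (L : X.Modules) (hL : PicF.IsInvertible L)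
    (s : Cyc.secFibre L (genericPoint ↥X)) (hs : s ≠ 0) (f : ↑X.functionField) (hf : f ≠ 0)
    (h : ∀ x : ↥X, Order.coheight x = 1 →
      Cyc.secOrdAt L (genericPoint ↥X) x (genericPoint_specializes x) s = Scheme.ord f x) :
    Nonempty (L ≅ Coh.structureModule X) := by
  have hcoh : Coh.IsCoh L := Groth.Agent.H18.AmpleTwistGG.isCoh_of_isInvertible hL
  have hRefL : RefHull.IsRef1 L := by
    obtain ⟨V₀, τ₀, hηV₀, hτ₀⟩ := exists_isGen hL (genericPoint X)
    refine ⟨hcoh, ?_, genInvertible_of_isGen hτ₀ hηV₀⟩
    refine isReflexive_of_closed_points _ hcoh (fun x _ => ?_)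
    obtain ⟨V, τ, hxV, hτ⟩ := exists_isGen hL x
    have hfree := freeAt_of_isGen hτ x hxV
    haveI : Module.Free (X.presheaf.stalk x) (L.presheaf.stalk x) :=
      Module.Free.of_equiv (genEquiv hfree)
    haveI : Module.Finite (X.presheaf.stalk x) (L.presheaf.stalk x) :=
      Module.Finite.equiv (genEquiv hfree)
    show Module.IsReflexive _ _
    infer_instance
  have hgen := isGen_one (X := X) ⊤
  have ht0 : (Submodule.Quotient.mk ((Coh.structureModule X).presheaf.germ ⊤ (genericPoint X)
      trivial (show Γ(Coh.structureModule X, ⊤) from (1 : Γ(X, ⊤)))) :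
      Cyc.secFibre (Coh.structureModule X) (genericPoint X)) ≠ 0 := by
    intro h0
    have h1 : (1 : X.presheaf.stalk (genericPoint X)) •
        (Submodule.Quotient.mk ((Coh.structureModule X).presheaf.germ ⊤ (genericPoint X)
          trivial (show Γ(Coh.structureModule X, ⊤) from (1 : Γ(X, ⊤)))) :
          Cyc.secFibre (Coh.structureModule X) (genericPoint X)) = 0 := by
      rw [one_smul]
      exact h0
    have hm := mem_maximalIdeal_of_smul_mk_eq_zero hgen (genericPoint X) trivial _ h1
    exact (IsLocalRing.mem_maximalIdeal _).mp hm isUnit_one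
  refine (Groth.Agent.S16086.result X hX L (Coh.structureModule X) hRefL (ref1_structure X) s hs
    _ ht0).mpr ⟨f, hf, fun x hx => ?_⟩
  rw [secOrdAt_eq_of_isGen hgen _ trivial trivial _ 1 (one_smul _ _).symm, map_one, ordAt_one,
    zero_add]
  exact h x hx

end Groth.Agent.S5103
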