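import Groth.Statements.S14967
import Groth.Agent.H97.Azumaya
import Mathlib

set_option autoImplicit false
set_option linter.style.haveILetI false
universe u v w
open TensorProduct
open Brauer

namespace Groth.Agent.S14967

open Groth.Agent.H97

/-- faithfully flat descent of "finite projective" for modules -/
lemma finite_projective_of_faithfullyFlat_baseChange (R : Type*) [CommRing R] (S : Type*)
    [CommRing S] [Algebra R S] [Module.FaithfullyFlat R S] (M : Type*) [AddCommGroup M]
    [Module R M] [Module.Finite S (S ⊗[R] M)] [Module.Projective S (S ⊗[R] M)] :
    Module.Finite R M ∧ Module.Projective R M := by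
  haveI : Module.Finite R M := Module.Finite.of_finite_tensorProduct_of_faithfullyFlat S
  haveI : Module.Flat R M := Module.Flat.of_flat_tensorProduct R M S
  obtain ⟨n, f, hf⟩ := Module.Finite.exists_fin' R M
  have hfS : Function.Surjective (f.baseChange S) := LinearMap.lTensor_surjective S hf
  haveI : Module.FinitePresentation S (S ⊗[R] M) := Module.finitePresentation_of_projective S _
  have hkerS : (LinearMap.ker (f.baseChange S)).FG :=
    Module.FinitePresentation.fg_ker (f.baseChange S) hfS
  have hinj : Function.Injective ((LinearMap.ker f).subtype.baseChange S) :=
    Module.Flat.lTensor_preserves_injective_linearMap (LinearMap.ker f).subtype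
      (LinearMap.ker f).injective_subtype
  have hrange : LinearMap.range ((LinearMap.ker f).subtype.baseChange S) =
      LinearMap.ker (f.baseChange S) := by
    have hex' := Module.Flat.lTensor_exact S (LinearMap.exact_subtype_ker_map f)
    exact (LinearMap.exact_iff.1
      (show Function.Exact ((LinearMap.ker f).subtype.baseChange S) (f.baseChange S) from
        hex')).symm
  haveI : Module.Finite S (S ⊗[R] (LinearMap.ker f)) := by
    let e : (S ⊗[R] (LinearMap.ker f)) ≃ₗ[S]
        LinearMap.range ((LinearMap.ker f).subtype.baseChange S) := LinearEquiv.ofInjective _ hinj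
    have h1 : Module.Finite S (LinearMap.range ((LinearMap.ker f).subtype.baseChange S)) := by
      rw [hrange]
      exact Module.Finite.iff_fg.2 hkerS
    exact Module.Finite.equiv e.symm
  haveI : Module.Finite R (LinearMap.ker f) :=
    Module.Finite.of_finite_tensorProduct_of_faithfullyFlat S
  haveI : Module.FinitePresentation R M :=
    Module.finitePresentation_of_free_of_surjective f hf (Module.Finite.iff_fg.1 inferInstance)
  exact ⟨inferInstance, Module.Flat.projective_of_finitePresentation⟩

/-- Let R → S be a faithfully flat homomorphism of commutative rings and B an R-algebra, with no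
finiteness assumption. If S ⊗_R B is an Azumaya S-algebra then B is an Azumaya R-algebra. (The
published statement is for a flat surjective morphism of schemes X → Y and a quasi-coherent
O_Y-algebra; this row is the case of affine X and Y, where flat and surjective means faithfully
flat. The converse, base change, is omitted.) -/
theorem result (R : Type u) [CommRing R]
    (S : Type v) [CommRing S] [Algebra R S] [Module.FaithfullyFlat R S]
    (B : Type w) [Ring B] [Algebra R B] [IsAzumaya S (S ⊗[R] B)] : IsAzumaya R B := by
  obtain ⟨hfin, hproj⟩ := finite_projective_of_faithfullyFlat_baseChange R S B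
  haveI := hfin
  haveI := hproj
  have hg : Function.Bijective ((AlgHom.mulLeftRight R B).toLinearMap.baseChange S) :=
    (mulLeftRight_baseChange_bijective_iff R S B).1 IsAzumaya.bij
  have hbij : Function.Bijective (AlgHom.mulLeftRight R B) :=
    (Module.FaithfullyFlat.lTensor_bijective_iff_bijective R S
      (AlgHom.mulLeftRight R B).toLinearMap).1 hg
  haveI : FaithfulSMul R B := by
    rw [faithfulSMul_iff_algebraMap_injective]
    intro a b hab
    have h1 : algebraMap S (S ⊗[R] B) (algebraMap R S a) =
        algebraMap S (S ⊗[R] B) (algebraMap R S b) := by
      rw [Algebra.TensorProduct.algebraMap_apply, Algebra.TensorProduct.algebraMap_apply,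
        Algebra.algebraMap_self, RingHom.id_apply, RingHom.id_apply,
        Algebra.algebraMap_eq_smul_one a, Algebra.algebraMap_eq_smul_one b,
        TensorProduct.smul_tmul, TensorProduct.smul_tmul, ← Algebra.algebraMap_eq_smul_one,
        ← Algebra.algebraMap_eq_smul_one, hab]
    exact FaithfulSMul.algebraMap_injective R S
      (FaithfulSMul.algebraMap_injective S (S ⊗[R] B) h1)
  exact ⟨hbij⟩

end Groth.Agent.S14967
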