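import Groth.Statements.S5713
import Groth.Agent.H96.AzumayaReg

set_option autoImplicit false
universe u v
open TensorProduct
open Dix

namespace Groth.Agent.S5713

open Groth.Agent.H96.AzumayaReg

/-- Over a local base. Let R be a local ring with residue field k, A an Azumaya algebra over R of rank
r², and ξ ∈ A an element whose image ξ̄ = 1 ⊗ ξ in k ⊗_R A is regular, i.e. generates a commutative
subalgebra k[ξ̄] which is étale over k (all elements separable) of dimension r. Then the powers 1,
ξ, …, ξ^{r-1} are linearly independent over R and ξ^r lies in their R-linear span; thus R[ξ] is a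
free R-module of rank r closed under multiplication, and ξ is a regular section over all of Spec R. -/
theorem result (R : Type u) [CommRing R] [IsLocalRing R] (A : Type u) [Ring A] [Algebra R A] [IsAzumaya R A] (r : ℕ) (hA : Module.finrank R A = r ^ 2) (ξ : A) (hsep : Algebra.IsSeparable (IsLocalRing.ResidueField R) (Algebra.adjoin (IsLocalRing.ResidueField R) ({(1 : IsLocalRing.ResidueField R) ⊗ₜ[R] ξ} : Set (IsLocalRing.ResidueField R ⊗[R] A)))) (hrk : Module.finrank (IsLocalRing.ResidueField R) (Algebra.adjoin (IsLocalRing.ResidueField R) ({(1 : IsLocalRing.ResidueField R) ⊗ₜ[R] ξ} : Set (IsLocalRing.ResidueField R ⊗[R] A))) = r) : LinearIndependent R (fun i : Fin r => ξ ^ (i : ℕ)) ∧ ξ ^ r ∈ Submodule.span R (Set.range (fun i : Fin r => ξ ^ (i : ℕ))) := by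
  classical
  have : Module.Free R A := Module.free_of_flat_of_isLocalRing
  rcases Nat.eq_zero_or_pos r with hr0 | hrpos
  · subst hr0
    have hsub : Subsingleton A := (Module.finrank_eq_zero_iff_of_free R A).mp (by rw [hA]; rfl)
    refine ⟨linearIndependent_empty_type, ?_⟩
    rw [Subsingleton.elim (ξ ^ 0) 0]
    exact zero_mem _
  set k := IsLocalRing.ResidueField R with hk
  set ξb : k ⊗[R] A := (1 : k) ⊗ₜ[R] ξ with hξb
  set L := Algebra.adjoin k ({ξb} : Set (k ⊗[R] A)) with hL
  let x : L := ⟨ξb, Algebra.subset_adjoin rfl⟩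
  have : Module.Finite k L := Module.finite_of_finrank_pos (by rw [hrk]; exact hrpos)
  have hint : IsIntegral k x := IsIntegral.of_finite k x
  have hfsep : (minpoly k x).Separable := Algebra.IsSeparable.isSeparable k x
  have hd : (minpoly k x).natDegree = r := by
    have hspan : ⊤ ≤ Submodule.span k
        (Set.range fun i : Fin (minpoly k x).natDegree => x ^ (i : ℕ)) := by
      intro y _
      apply hint.mem_span_pow
      have hy : (y : k ⊗[R] A) ∈ (Polynomial.aeval ξb : Polynomial k →ₐ[k] k ⊗[R] A).range := by
        rw [← Algebra.adjoin_singleton_eq_range_aeval]; exact y.2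
      obtain ⟨f, hf⟩ := hy
      refine ⟨f, Subtype.ext ?_⟩
      exact hf.symm.trans (Polynomial.aeval_algHom_apply L.val x f)
    have b := Module.Basis.mk (linearIndependent_pow x) hspan
    rw [← hrk, Module.finrank_eq_card_basis b, Fintype.card_fin]
  have hli_k : LinearIndependent k (fun i : Fin r => ξb ^ (i : ℕ)) := by
    have h1 : LinearIndependent k (fun i : Fin r => x ^ (i : ℕ)) := hd ▸ linearIndependent_pow x
    have h2 := h1.map' L.val.toLinearMap (LinearMap.ker_eq_bot.mpr Subtype.val_injective)
    have hfun : (fun i : Fin r => ξb ^ (i : ℕ)) = L.val.toLinearMap ∘ (fun i : Fin r => x ^ (i : ℕ)) := by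
      funext i
      simp [x]
    rw [hfun]; exact h2
  have hinjk : Function.Injective ((powMap R ξ r).lTensor k) := by
    have h1 : Function.Injective ((powMap R ξ r).baseChange k) := by
      apply injective_of_basis_linearIndependent
        (Algebra.TensorProduct.basis k (Pi.basisFun R (Fin r)))
      have hfun : ((powMap R ξ r).baseChange k) ∘
          (Algebra.TensorProduct.basis k (Pi.basisFun R (Fin r)))
          = fun i : Fin r => ξb ^ (i : ℕ) := by
        funext i; rw [Function.comp_apply, baseChange_powMap_basis]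
      rw [hfun]; exact hli_k
    rw [← LinearMap.baseChange_eq_ltensor]; exact h1
  obtain ⟨ρ, hρ⟩ :=
    (IsLocalRing.split_injective_iff_lTensor_residueField_injective (powMap R ξ r)).mpr hinjk
  have hli : LinearIndependent R (fun i : Fin r => ξ ^ (i : ℕ)) := by
    rw [linearIndependent_iff_injective_fintypeLinearCombination]
    exact LinearMap.injective_of_comp_eq_id _ _ hρ
  refine ⟨hli, ?_⟩
  -- pass to the algebraic closure of the residue field
  let K := AlgebraicClosure k
  set g : Polynomial K := (minpoly k x).map (algebraMap k K) with hg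
  have hgm : g.Monic := (minpoly.monic hint).map _
  have hgs : g.Separable := hfsep.map
  have hsplit : g.Splits := IsAlgClosed.splits g
  set s : Finset K := g.roots.toFinset with hs
  have hnd : g.roots.Nodup := Polynomial.nodup_roots hgs
  have hscard : s.card = r := by
    rw [hs, Multiset.toFinset_card_of_nodup hnd, ← hsplit.natDegree_eq_card_roots, hg,
      Polynomial.natDegree_map, hd]
  have hnod : Lagrange.nodal s id = g := by
    rw [Lagrange.nodal_eq, Finset.prod_eq_multiset_prod, hs, Multiset.toFinset_val,
      Multiset.dedup_eq_self.mpr hnd]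
    conv_rhs => rw [hsplit.eq_prod_roots_of_monic hgm]
    rfl
  let θ : k ⊗[R] A →ₐ[k] K ⊗[R] A :=
    Algebra.TensorProduct.map (Algebra.ofId k K) (AlgHom.id R A)
  have hθ : θ ξb = (1 : K) ⊗ₜ[R] ξ := by
    simp [θ, hξb]
  have hroot : Polynomial.aeval ((1 : K) ⊗ₜ[R] ξ) g = 0 := by
    have h0 : Polynomial.aeval ξb (minpoly k x) = 0 := by
      have h1 := congrArg L.val (minpoly.aeval k x)
      rw [← Polynomial.aeval_algHom_apply, map_zero] at h1
      exact h1
    rw [hg, Polynomial.aeval_map_algebraMap, ← hθ, Polynomial.aeval_algHom_apply, h0, map_zero]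
  have hcore := core (R := R) (A := A) (K := K) r (by rw [hA, sq]) ξ ρ hρ s hscard
    (by rw [hnod]; exact hroot)
  set l₂ : A →ₗ[R] (Fin r → R) × A := ρ.prod (ad R ξ) with hl₂
  have hinjK : Function.Injective (l₂.lTensor K) := by
    rw [injective_iff_map_eq_zero]
    intro z hz
    have h1 : (ρ.lTensor K) z = 0 := by
      have := congrArg ((LinearMap.fst R (Fin r → R) A).lTensor K) hz
      rwa [← LinearMap.comp_apply, ← LinearMap.lTensor_comp, hl₂, LinearMap.fst_prod,
        map_zero] at this
    have h2 : ((ad R ξ).lTensor K) z = 0 := by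
      have := congrArg ((LinearMap.snd R (Fin r → R) A).lTensor K) hz
      rwa [← LinearMap.comp_apply, ← LinearMap.lTensor_comp, hl₂, LinearMap.snd_prod,
        map_zero] at this
    refine hcore z ?_ ?_
    · rw [LinearMap.baseChange_eq_ltensor]; exact h1
    · rw [LinearMap.baseChange_eq_ltensor]; exact h2
  have hinjk2 : Function.Injective (l₂.lTensor k) :=
    lTensor_injective_of_lTensor_injective ((Algebra.linearMap k K).restrictScalars R)
      (algebraMap k K).injective l₂ hinjK
  obtain ⟨l', hl'⟩ :=
    (IsLocalRing.split_injective_iff_lTensor_residueField_injective l₂).mpr hinjk2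
  have hl₂inj : Function.Injective l₂ := LinearMap.injective_of_comp_eq_id _ _ hl'
  have hmain : ξ ^ r = powMap R ξ r (ρ (ξ ^ r)) := by
    apply hl₂inj
    rw [hl₂, LinearMap.prod_apply, LinearMap.prod_apply]
    refine Prod.ext ?_ ?_
    · show ρ (ξ ^ r) = ρ (powMap R ξ r (ρ (ξ ^ r)))
      rw [← LinearMap.comp_apply, hρ]; rfl
    · show ad R ξ (ξ ^ r) = ad R ξ (powMap R ξ r (ρ (ξ ^ r)))
      rw [ad_pow, ← LinearMap.comp_apply, ad_comp_powMap]; rfl
  rw [hmain, ← Fintype.range_linearCombination]
  exact LinearMap.mem_range_self _ _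

end Groth.Agent.S5713
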