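import Groth.Statements.S17972
import Groth.Agent.H14.JacEtale
import Groth.Agent.H3.HenselEtale

set_option autoImplicit false
universe u
open Hensel

namespace Groth.Agent.S17972

/-- Let A be a henselian local ring with maximal ideal m, let P_1, …, P_n be polynomials over A in n
variables and a₀ ∈ A^n a point with P_i(a₀) ∈ m for all i whose Jacobian determinant
det(∂P_i/∂T_j)(a₀) is a unit of A, i.e. nonzero in the residue field. Then there is a ∈ A^n
congruent to a₀ modulo m in each coordinate with P_i(a) = 0 for all i. -/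
theorem result
    (A : Type u) [CommRing A] [HenselianLocalRing A] (n : ℕ)
    (P : Fin n → MvPolynomial (Fin n) A) (a₀ : Fin n → A)
    (h₀ : ∀ i, MvPolynomial.eval a₀ (P i) ∈ IsLocalRing.maximalIdeal A)
    (hJ : IsUnit (Matrix.of (fun i j => MvPolynomial.eval a₀ (MvPolynomial.pderiv j (P i)))).det) :
    ∃ a : Fin n → A, (∀ i, MvPolynomial.eval a (P i) = 0) ∧
      ∀ j, a j - a₀ j ∈ IsLocalRing.maximalIdeal A := by
  have hev : ∀ p : MvPolynomial (Fin n) A,
      MvPolynomial.aeval (fun j => IsLocalRing.residue A (a₀ j)) p =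
        IsLocalRing.residue A (MvPolynomial.eval a₀ p) := by
    intro p
    induction p using MvPolynomial.induction_on with
    | C r => simp [IsLocalRing.ResidueField.algebraMap_eq]
    | add p q hp hq => simp [hp, hq]
    | mul_X p j hp => simp [hp]
  have hb : ∀ i, MvPolynomial.aeval (fun j => IsLocalRing.residue A (a₀ j)) (P i) = 0 := fun i => by
    rw [hev]; exact (IsLocalRing.residue_eq_zero_iff _).mpr (h₀ i)
  have hu : IsUnit (MvPolynomial.aeval (fun j => IsLocalRing.residue A (a₀ j))
      (Groth.Agent.H14.jacDet P)) := by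
    rw [hev]
    have : MvPolynomial.eval a₀ (Groth.Agent.H14.jacDet P) =
        (Matrix.of fun i j => MvPolynomial.eval a₀ (MvPolynomial.pderiv j (P i))).det := by
      rw [Groth.Agent.H14.jacDet, RingHom.map_det]; rfl
    rw [this]; exact hJ.map _
  obtain ⟨σ, hσ⟩ := Groth.Agent.H3.exists_section_of_etale
    (Groth.Agent.H14.jacLift P _ hb hu)
  refine ⟨fun j => σ (Groth.Agent.H14.jacX P j), fun i => ?_, fun j => ?_⟩
  · exact Groth.Agent.H14.aeval_jacRing_hom_eq_zero P σ i
  · have h1 : IsLocalRing.residue A (σ (Groth.Agent.H14.jacX P j)) =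
        Groth.Agent.H14.jacLift P _ hb hu (Groth.Agent.H14.jacX P j) :=
      AlgHom.congr_fun hσ (Groth.Agent.H14.jacX P j)
    rw [Groth.Agent.H14.jacLift_jacX] at h1
    exact Ideal.Quotient.eq.mp h1

end Groth.Agent.S17972
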