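import Groth.Statements.S17356
import Groth.Agent.H96.Spl
import Groth.Agent.H96.RamSplit
import Groth.Agent.H96.UnramSplit

set_option autoImplicit false
set_option linter.style.haveILetI false
universe u v w
open scoped TensorProduct
open AzInv

namespace Groth.Agent.S17356

open Groth.Agent.H96 Groth.Agent.H96.Spl

section Helpers

attribute [local instance] Algebra.TensorProduct.rightAlgebra

variable (S : Type u) (R : Type v) [CommRing S] [CommRing R] [Algebra S R]
  (lam : R ≃ₐ[S] R) (hlam : ∀ r, lam (lam r) = r) (hfix : RInv.IsFixedRing S R lam.toRingEquiv)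
  (A : Type w) [Ring A] [Algebra R A] [IsAzumaya R A]
  (n : ℕ) (hn : 0 < n) (hrk : ∀ p : PrimeSpectrum R, Module.rankAtStalk (R := R) A p = n ^ 2)

/-- The local splitting data on a basic open of `Spec S`. -/
def Good (g : S) : Prop :=
  ∃ (S' : Type u) (_ : CommRing S') (_ : Algebra S S'), Algebra.Etale S S' ∧ Module.Flat S S' ∧
    (∀ P : PrimeSpectrum S, g ∉ P.asIdeal →
      ∃ Q : PrimeSpectrum S', Q.comap (algebraMap S S') = P) ∧
    SplBC S R A n S'

include hlam hfix in
theorem isIntegral : Algebra.IsIntegral S R := by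
  refine ⟨fun r => ?_⟩
  obtain ⟨t, ht⟩ := (hfix.2 (r + lam r)).mp (by
    show lam (r + lam r) = r + lam r
    rw [map_add, hlam, add_comm])
  obtain ⟨N, hN⟩ := (hfix.2 (r * lam r)).mp (by
    show lam (r * lam r) = r * lam r
    rw [map_mul, hlam, mul_comm])
  refine ⟨(Polynomial.X ^ (1 + 1) - (Polynomial.C t * Polynomial.X - Polynomial.C N) :
    Polynomial S), Polynomial.monic_X_pow_sub ?_, ?_⟩
  · have h1 : (Polynomial.C t * Polynomial.X - Polynomial.C N : Polynomial S).degree ≤ 1 :=
      (Polynomial.degree_sub_le _ _).trans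
        (max_le (Polynomial.degree_C_mul_X_le t) (Polynomial.degree_C_le.trans (by norm_num)))
    exact lt_of_le_of_lt h1 (by exact_mod_cast (by norm_num : (1 : ℕ) < 1 + 1))
  · simp only [Polynomial.eval₂_sub, Polynomial.eval₂_pow, Polynomial.eval₂_X,
      Polynomial.eval₂_mul, Polynomial.eval₂_C, ht, hN]
    ring

include hlam hfix hn hrk in
theorem exists_good (p : Ideal S) [hp : p.IsPrime] : ∃ g : S, g ∉ p ∧ Good S R A n g := by
  haveI := isIntegral S R lam hlam hfix
  obtain ⟨q, -, hq, hqp⟩ := Ideal.exists_ideal_over_prime_of_isIntegral p (⊥ : Ideal R) (by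
    intro x hx
    have h0 : algebraMap S R x = 0 := hx
    have : x = 0 := hfix.1 (by rw [h0, map_zero])
    rw [this]
    exact p.zero_mem)
  haveI := hq
  by_cases hram : ∀ r, lam r - r ∈ q
  · obtain ⟨S₃, _, _, het, ⟨P₃, hP₃, hP₃p⟩, hspl⟩ :=
      RamSplit.ram_split S R lam hlam hfix A n hn hrk q hram
    haveI := het
    haveI : Module.Flat S S₃ := inferInstance
    have hopen : IsOpen (Set.range (PrimeSpectrum.comap (algebraMap S S₃))) :=
      (PrimeSpectrum.isOpenMap_comap_of_hasGoingDown_of_finitePresentation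
        (R := S) (S := S₃)).isOpen_range
    have hmem : (⟨p, hp⟩ : PrimeSpectrum S) ∈ Set.range (PrimeSpectrum.comap (algebraMap S S₃)) := by
      refine ⟨⟨P₃, hP₃⟩, ?_⟩
      apply PrimeSpectrum.ext
      show P₃.comap (algebraMap S S₃) = p
      rw [hP₃p, hqp]
    obtain ⟨U, ⟨g, rfl⟩, hgU, hsub⟩ :=
      PrimeSpectrum.isTopologicalBasis_basic_opens.exists_subset_of_mem_open hmem hopen
    refine ⟨g, hgU, S₃, inferInstance, inferInstance, het, inferInstance, ?_, hspl⟩
    intro P hP
    exact hsub hP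
  · push Not at hram
    obtain ⟨r₀, hr₀⟩ := hram
    obtain ⟨m, hm⟩ := (hfix.2 ((r₀ - lam r₀) * (r₀ - lam r₀))).mp (by
      show lam ((r₀ - lam r₀) * (r₀ - lam r₀)) = (r₀ - lam r₀) * (r₀ - lam r₀)
      rw [map_mul, map_sub, hlam]
      ring)
    have hmp : m ∉ p := by
      intro hmp
      have h1 : algebraMap S R m ∈ q := by
        have : m ∈ q.comap (algebraMap S R) := by rw [hqp]; exact hmp
        exact this
      rw [hm] at h1
      have h2 : r₀ - lam r₀ ∈ q := by
        rcases hq.mem_or_mem h1 with h | h <;> exact h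
      apply hr₀
      have : lam r₀ - r₀ = -(r₀ - lam r₀) := by ring
      rw [this]
      exact q.neg_mem h2
    obtain ⟨S', _, _, het, hfl, hcov, hspl⟩ :=
      UnramSplit.unram_split S R lam hlam hfix A n hrk r₀ m hm.symm
    exact ⟨m, hmp, S', inferInstance, inferInstance, het, hfl, hcov, hspl⟩

include hlam hfix hn hrk in
theorem exists_cover : ∃ (S' : Type u) (_ : CommRing S') (_ : Algebra S S')
    (_ : Algebra.Etale S S') (_ : Module.FaithfullyFlat S S'), SplBC S R A n S' := by
  classical
  have hspan : Ideal.span {g : S | Good S R A n g} = ⊤ := by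
    by_contra h
    obtain ⟨M, hM, hle⟩ := Ideal.exists_le_maximal _ h
    have := hM.isPrime
    obtain ⟨g, hg, hgood⟩ := exists_good S R lam hlam hfix A n hn hrk M
    exact hg (hle (Ideal.subset_span hgood))
  obtain ⟨G, hGsub, hGspan⟩ := (Ideal.span_eq_top_iff_finite _).mp hspan
  have hgood : ∀ i : {x // x ∈ G}, Good S R A n (i : S) := fun i => hGsub i.2
  choose T' hT1 hT2 het hflat hsurj hφ using hgood
  let T := Π i : {x // x ∈ G}, T' i
  haveI : Module.Flat S T := AzSplitEt.flat_pi S T' hflat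
  haveI : ∀ i, Algebra.Etale S (T' i) := het
  haveI : Algebra.Etale S T := inferInstance
  have hff : Module.FaithfullyFlat S T := by
    apply Module.FaithfullyFlat.of_comap_surjective
    intro P
    obtain ⟨i, hi, hiP⟩ : ∃ i ∈ G, i ∉ P.asIdeal := by
      by_contra h
      push Not at h
      have : Ideal.span (G : Set S) ≤ P.asIdeal := Ideal.span_le.mpr (fun x hx => h x hx)
      rw [hGspan] at this
      exact P.isPrime.ne_top (top_le_iff.mp this)
    obtain ⟨Q, hQ⟩ := hsurj ⟨i, hi⟩ P hiP
    let ev : T →+* T' ⟨i, hi⟩ := Pi.evalRingHom (fun j : {x // x ∈ G} => T' j) ⟨i, hi⟩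
    refine ⟨⟨Q.asIdeal.comap ev, Ideal.comap_isPrime ev Q.asIdeal⟩, ?_⟩
    apply PrimeSpectrum.ext
    show (Q.asIdeal.comap ev).comap (algebraMap S T) = P.asIdeal
    rw [Ideal.comap_comap]
    have : ev.comp (algebraMap S T) = algebraMap S (T' ⟨i, hi⟩) := by
      ext x
      rfl
    rw [this]
    exact congrArg PrimeSpectrum.asIdeal hQ
  refine ⟨T, inferInstance, inferInstance, inferInstance, hff, ?_⟩
  have hpi : Spl R A n (Π i : {x // x ∈ G}, T' i ⊗[S] R) := Spl.pi _ (fun i => hφ i)
  let e1 : (Π i : {x // x ∈ G}, T' i ⊗[S] R) ≃ₐ[R] Π i : {x // x ∈ G}, R ⊗[S] T' i :=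
    AlgEquiv.piCongrRight (fun i => (Algebra.TensorProduct.commRight S R (T' i)).symm)
  let e2 : R ⊗[S] T ≃ₐ[R] Π i : {x // x ∈ G}, R ⊗[S] T' i :=
    Algebra.TensorProduct.piRight S R R T'
  let e3 : R ⊗[S] T ≃ₐ[R] T ⊗[S] R := Algebra.TensorProduct.commRight S R T
  exact of_algHom ((e1.trans e2.symm).trans e3).toAlgHom hpi

end Helpers


/-- Let `R` be a commutative ring with an involution `lam` whose fixed ring is exactly `S`, and let `A`
be an Azumaya `R`-algebra of degree `n ≥ 1`. Then `A` becomes a matrix algebra after base change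
along an etale covering of `S` (and not merely of `R`): there are an etale faithfully flat
`S`-algebra `S'` and an `S'`-algebra isomorphism from `S' ⊗_S A` to the `n × n` matrices over `S'
⊗_S R` that carries multiplication by `1 ⊗ r`, for `r` in `R`, to multiplication by the scalar
matrix `1 ⊗ r`. (The source states this for a good quotient of schemes by an involution; the row is
the affine case `Spec R → Spec S`.) -/
theorem result (S : Type u) (R : Type v) [CommRing S] [CommRing R] [Algebra S R]
    (lam : R ≃ₐ[S] R) (hlam : ∀ r, lam (lam r) = r) (hfix : RInv.IsFixedRing S R lam.toRingEquiv)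
    (A : Type w) [Ring A] [Algebra S A] [Algebra R A] [IsScalarTower S R A]
    (n : ℕ) (hn : 0 < n) (hA : AzInv.IsAzumayaDeg R A n) :
    ∃ (S' : Type u) (_ : CommRing S') (_ : Algebra S S') (_ : Algebra.Etale S S')
      (_ : Module.FaithfullyFlat S S') (f : S' ⊗[S] A ≃ₐ[S'] Matrix (Fin n) (Fin n) (S' ⊗[S] R)),
      ∀ (r : R) (x : S' ⊗[S] A),
        f (((1 : S') ⊗ₜ[S] algebraMap R A r) * x) = Matrix.scalar (Fin n) ((1 : S') ⊗ₜ[S] r) * f x := by
  obtain ⟨hAz, hrk⟩ := hA
  haveI := hAz
  obtain ⟨S', _, _, het, hff, hspl⟩ := exists_cover S R lam hlam hfix A n hn hrk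
  exact ⟨S', inferInstance, inferInstance, het, hff, Spl.convert S S' hspl⟩

end Groth.Agent.S17356
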