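import Groth.Statements.S13137
import Groth.Agent.H96.W2Flat

set_option autoImplicit false
universe u v
open FrobAlg

namespace Groth.Agent.S13137

/-- For a perfect field k of characteristic p, a flat W₂(k)-algebra B and an ideal J of B, the quotient
B/J is flat over W₂(k) if and only if (p) ∩ J = pJ in B. (With B a flat lifting of A = B/pB this
says: B/J is a flat lifting of A modulo the image of J exactly when (p) ∩ J = pJ.) -/
theorem result
    (p : ℕ) [Fact p.Prime] (k : Type u) [Field k] [CharP k p] [PerfectRing k p]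
    (B : Type v) [CommRing B] [Algebra (FrobAlg.W2 p k) B] [Module.Flat (FrobAlg.W2 p k) B]
    (J : Ideal B) :
    Module.Flat (FrobAlg.W2 p k) (B ⧸ J) ↔
      Ideal.span {(p : B)} ⊓ J = Ideal.span {(p : B)} * J := by
  have hpp : (p : B) * (p : B) = 0 := by
    have h := congrArg (algebraMap (FrobAlg.W2 p k) B) (Groth.Agent.H96.W2Flat.p_mul_p p k)
    rwa [map_mul, map_natCast, map_zero] at h
  have hB := (Groth.Agent.H96.W2Flat.w2_flat_iff p k B).1 inferInstance
  rw [Groth.Agent.H96.W2Flat.w2_flat_iff p k (B ⧸ J)]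
  constructor
  · intro hc
    refine le_antisymm ?_ Ideal.mul_le_inf
    rintro x ⟨hx1, hx2⟩
    obtain ⟨b, rfl⟩ := Ideal.mem_span_singleton'.1 hx1
    have h0 : (p : FrobAlg.W2 p k) • (Ideal.Quotient.mk J b) = 0 := by
      rw [Nat.cast_smul_eq_nsmul, nsmul_eq_mul, ← map_natCast (Ideal.Quotient.mk J), ← map_mul,
        Ideal.Quotient.eq_zero_iff_mem, mul_comm]
      exact hx2
    obtain ⟨m', hm'⟩ := hc _ h0
    obtain ⟨b', rfl⟩ := Ideal.Quotient.mk_surjective m'
    rw [Nat.cast_smul_eq_nsmul, nsmul_eq_mul, ← map_natCast (Ideal.Quotient.mk J), ← map_mul,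
      Ideal.Quotient.eq] at hm'
    have hx : b * (p : B) = (p : B) * (b - p * b') := by
      calc b * (p : B) = p * (b - p * b') + (p * p) * b' := by ring
        _ = _ := by rw [hpp, zero_mul, add_zero]
    rw [hx]
    exact Ideal.mul_mem_mul (Ideal.mem_span_singleton_self _) hm'
  · intro heq m hm
    obtain ⟨b, rfl⟩ := Ideal.Quotient.mk_surjective m
    rw [Nat.cast_smul_eq_nsmul, nsmul_eq_mul, ← map_natCast (Ideal.Quotient.mk J), ← map_mul,
      Ideal.Quotient.eq_zero_iff_mem] at hm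
    have h1 : (p : B) * b ∈ Ideal.span {(p : B)} ⊓ J :=
      ⟨Ideal.mul_mem_right _ _ (Ideal.mem_span_singleton_self _), hm⟩
    rw [heq, Ideal.mem_span_singleton_mul] at h1
    obtain ⟨j, hj, hpj⟩ := h1
    have h2 : (p : FrobAlg.W2 p k) • (b - j) = 0 := by
      rw [Nat.cast_smul_eq_nsmul, nsmul_eq_mul, mul_sub, hpj, sub_self]
    obtain ⟨b'', hb''⟩ := hB _ h2
    rw [Nat.cast_smul_eq_nsmul, nsmul_eq_mul] at hb''
    refine ⟨Ideal.Quotient.mk J b'', ?_⟩
    rw [Nat.cast_smul_eq_nsmul, nsmul_eq_mul, ← map_natCast (Ideal.Quotient.mk J), ← map_mul,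
      Ideal.Quotient.eq, ← hb'']
    simpa using hj

end Groth.Agent.S13137
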