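import Groth.Statements.S6916
import Groth.Agent.H35.EtMilAux

set_option autoImplicit false
universe u
open TensorProduct
open EtAlg

namespace Groth.Agent.S6916

/-- Let `B' = B ×_A A'` be a fibre square of rings with `A' → A` surjective and `L'` any `B'`-module.
Then the canonical map from `L'` to the glueing of `(L' ⊗_{B'} B, L' ⊗_{B'} A')` is surjective:
every pair `(x, y) ∈ (B ⊗_{B'} L') × (A' ⊗_{B'} L')` with equal images in `A ⊗_{B'} L'` is of the
form `(1 ⊗ l, 1 ⊗ l)`. (It is in general not injective.) -/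
theorem result (B' B A' A : Type u) [CommRing B'] [CommRing B] [CommRing A'] [CommRing A]
    [Algebra B' B] [Algebra B' A'] [Algebra B A] [Algebra A' A] [Algebra B' A] [IsScalarTower B' B A] [IsScalarTower B' A' A]
    (hsq : EtMil.IsFibreSquare B' B A' A)
    (L' : Type u) [AddCommGroup L'] [Module B' L'] (x : B ⊗[B'] L') (y : A' ⊗[B'] L')
    (hxy : (IsScalarTower.toAlgHom B' B A).toLinearMap.rTensor L' x = (IsScalarTower.toAlgHom B' A' A).toLinearMap.rTensor L' y) :
    ∃ l : L', (1 : B) ⊗ₜ[B'] l = x ∧ (1 : A') ⊗ₜ[B'] l = y := by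
  have hsurjB : Function.Surjective (algebraMap B' B) :=
    Groth.Agent.H35.fibreSquare_surjective_left hsq
  obtain ⟨l₀, rfl⟩ := Groth.Agent.H35.exists_one_tmul_of_surjective hsurjB x
  let g : A' →ₗ[B'] A := (IsScalarTower.toAlgHom B' A' A).toLinearMap
  have hgs : Function.Surjective g := hsq.1
  have hex : Function.Exact (LinearMap.ker g).subtype g := LinearMap.exact_subtype_ker_map g
  have hexT := rTensor_exact L' hex hgs
  have hz : g.rTensor L' (y - (1 : A') ⊗ₜ[B'] l₀) = 0 := by
    rw [map_sub, ← hxy]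
    simp [g]
  obtain ⟨t, ht⟩ := (hexT _).mp hz
  have hall : ∀ t : (LinearMap.ker g) ⊗[B'] L', ∃ l' : L',
      (LinearMap.ker g).subtype.rTensor L' t = (1 : A') ⊗ₜ[B'] l' ∧ (1 : B) ⊗ₜ[B'] l' = 0 := by
    intro t
    induction t using TensorProduct.induction_on with
    | zero => exact ⟨0, by simp, by simp⟩
    | tmul k l =>
      have hk : algebraMap A' A (k : A') = 0 := k.2
      obtain ⟨b', hb1, hb2⟩ := Groth.Agent.H35.fibreSquare_lift_ker hsq (k : A') hk
      refine ⟨b' • l, ?_, ?_⟩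
      · rw [LinearMap.rTensor_tmul, Submodule.subtype_apply, ← hb2, ← TensorProduct.smul_tmul,
          Algebra.smul_def, mul_one]
      · rw [← TensorProduct.smul_tmul, Algebra.smul_def, mul_one, hb1, TensorProduct.zero_tmul]
    | add t₁ t₂ h₁ h₂ =>
      obtain ⟨l₁, h11, h12⟩ := h₁
      obtain ⟨l₂, h21, h22⟩ := h₂
      refine ⟨l₁ + l₂, ?_, ?_⟩
      · rw [map_add, h11, h21, TensorProduct.tmul_add]
      · rw [TensorProduct.tmul_add, h12, h22, add_zero]
  obtain ⟨l', hl1, hl2⟩ := hall t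
  refine ⟨l₀ + l', ?_, ?_⟩
  · rw [TensorProduct.tmul_add, hl2, add_zero]
  · rw [TensorProduct.tmul_add, ← hl1, ht]
    abel

end Groth.Agent.S6916
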