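import Groth.Statements.S18662
import Groth.Agent.H98.GrComp

set_option autoImplicit false
universe u
open GrLC

namespace Groth.Agent.S18662


open DirectSum Groth.Agent.H98.GrCat

/-- the inverse of a bijective homogeneous multiplication is homogeneous of the opposite degree -/
theorem inv_isGrHomDeg {ι : Type} [AddCommGroup ι] [DecidableEq ι] {R : Type u} [CommRing R]
    (𝒜 : ι → AddSubgroup R) [GradedRing 𝒜] {M : Type u} [AddCommGroup M] [Module R M]
    (ℳ : ι → AddSubgroup M) [DirectSum.Decomposition ℳ] [SetLike.GradedSMul 𝒜 ℳ]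
    {d : ι} {f : R} (hf : f ∈ 𝒜 d) (ef : M ≃ₗ[R] M) (hef : ∀ x, ef x = f • x) :
    GrLC.IsGrHomDeg ℳ ℳ ef.symm.toLinearMap (-d) := by
  intro g x hx
  show ef.symm x ∈ ℳ (g + -d)
  have hfy : f • ef.symm x = x := by rw [← hef, ef.apply_symm_apply]
  have h1 : ∀ k, k ≠ g + -d → ((decompose ℳ (ef.symm x) k : ℳ k) : M) = 0 := by
    intro k hk
    have h2 : ((decompose ℳ (f • ef.symm x) (k + d) : ℳ (k + d)) : M)
        = f • ((decompose ℳ (ef.symm x) k : ℳ k) : M) := by
      have h := comp_smul 𝒜 ℳ hf (k + d) (ef.symm x)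
      rwa [add_sub_cancel_right] at h
    have hne : g ≠ k + d := fun h => hk (by rw [h]; abel)
    rw [hfy, decompose_of_mem_ne ℳ hx hne] at h2
    apply ef.injective
    rw [hef, ← h2, map_zero]
  classical
  have h3 := sum_support_decompose ℳ (ef.symm x)
  rw [Finset.sum_eq_single (g + -d) (fun j _ hj => h1 j hj) (fun hg => by
    rw [DFinsupp.notMem_support_iff.1 hg]; rfl)] at h3
  rw [← h3]
  exact SetLike.coe_mem _

theorem gam_map {R : Type u} [CommRing R] (a : Ideal R) {A B : Type u} [AddCommGroup A] [Module R A]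
    [AddCommGroup B] [Module R B] (φ : A →ₗ[R] B) {x : A} (hx : x ∈ GrLC.gam a A) :
    φ x ∈ GrLC.gam a B := by
  obtain ⟨n, hn⟩ := hx
  exact ⟨n, fun r hr => by rw [← map_smul, hn r hr, map_zero]⟩

/-- the vanishing argument: a chain endomorphism `v` with `v ∘ f - 1` null-homotopic and `f ∈ a`
kills the cohomology of `Γ_a`. -/
theorem H_subsingleton_of_homotopy {ι : Type} [AddCommGroup ι] [DecidableEq ι] {R : Type u}
    [CommRing R] {𝒜 : ι → AddSubgroup R} [GradedRing 𝒜] {M : Type u} [AddCommGroup M] [Module R M]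
    {ℳ : ι → AddSubgroup M} [DirectSum.Decomposition ℳ] [SetLike.GradedSMul 𝒜 ℳ]
    (E : GrLC.StarInjRes 𝒜 ℳ) (a : HomogeneousIdeal 𝒜) {f : R} (hfa : f ∈ a.toIdeal)
    (v : ∀ n, (E.X n).carrier →ₗ[R] (E.X n).carrier)
    (hv : ∀ n x, v (n + 1) (E.d n x) = E.d n (v n x))
    (s : ∀ n, (E.X (n + 1)).carrier →ₗ[R] (E.X n).carrier)
    (hs0 : ∀ x, v 0 (f • x) - x = s 0 (E.d 0 x))
    (hsn : ∀ n x, v (n + 1) (f • x) - x = E.d n (s n x) + s (n + 1) (E.d (n + 1) x))
    (q : ℕ) : Subsingleton (E.H a q) := by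
  -- `v` preserves coboundaries
  have hvcob : ∀ x, x ∈ E.cobdy a q → v q x ∈ E.cobdy a q := by
    cases q with
    | zero =>
      intro x hx
      have hx0 : x = 0 := hx
      rw [hx0, map_zero]
      exact zero_mem _
    | succ n =>
      rintro x ⟨y, hy, rfl⟩
      exact ⟨v n y, gam_map a.toIdeal (v n) hy, (hv n y).symm⟩
  -- `v (f • z) - z` is a coboundary for a cocycle `z`
  have hTz : ∀ z, z ∈ E.cocyc a q → v q (f • z) - z ∈ E.cobdy a q := by
    cases q with
    | zero =>
      intro z hz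
      have hdz : E.d 0 z = 0 := LinearMap.mem_ker.1 hz.2
      rw [hs0, hdz, map_zero]
      exact zero_mem _
    | succ n =>
      intro z hz
      have hdz : E.d (n + 1) z = 0 := LinearMap.mem_ker.1 hz.2
      rw [hsn, hdz, map_zero, add_zero]
      exact ⟨s n z, gam_map a.toIdeal (s n) hz.1, rfl⟩
  have hmain : ∀ k : ℕ, ∀ z, z ∈ E.cocyc a q → f ^ k • z = 0 → z ∈ E.cobdy a q := by
    intro k
    induction k with
    | zero =>
      intro z _ hz0
      rw [pow_zero, one_smul] at hz0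
      rw [hz0]
      exact zero_mem _
    | succ k ih =>
      intro z hz hz0
      have hfz : f • z ∈ E.cocyc a q := (E.cocyc a q).smul_mem f hz
      have h1 : f • z ∈ E.cobdy a q := ih (f • z) hfz (by
        rw [smul_smul, ← pow_succ]
        exact hz0)
      have h2 := hvcob _ h1
      have h3 := hTz z hz
      have h4 : z = v q (f • z) - (v q (f • z) - z) := by abel
      rw [h4]
      exact sub_mem h2 h3
  rw [Submodule.Quotient.subsingleton_iff, eq_top_iff]
  intro z _
  show (z : (E.X q).carrier) ∈ E.cobdy a q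
  obtain ⟨k, hk⟩ := z.2.1
  exact hmain k z z.2 (hk _ (Ideal.pow_mem_pow hfa k))

/-- Let R be a graded ring defined over a field, m = R_+, and M a graded R-module satisfying condition
(**): there is a homogeneous f ∈ R_d with d > 0 such that multiplication by f on M is bijective.
Then H^q_m(M) = 0 for every integer q (graded local cohomology, computed from any *injective
resolution of M in the graded category). Here 'graded ring defined over a field' means R = ⊕_{n ≥ 0}
R_n is Noetherian with R_0 a field, and m = R_+ is its unique graded maximal ideal. -/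
theorem result (R : Type u) [CommRing R] [IsNoetherianRing R] (𝒜 : ℤ → AddSubgroup R) [GradedRing 𝒜] (hpos : ∀ n : ℤ, n < 0 → 𝒜 n = ⊥) (h0 : IsField (GrLC.deg0 𝒜)) (m : HomogeneousIdeal 𝒜) (hm : GrLC.IsStarLocal 𝒜 m) (hmsp : m.toIdeal = Ideal.span (⋃ n ∈ Set.Ioi (0 : ℤ), (𝒜 n : Set R))) (M : Type u) [AddCommGroup M] [Module R M] (ℳ : ℤ → AddSubgroup M) [DirectSum.Decomposition ℳ] [SetLike.GradedSMul 𝒜 ℳ] (d : ℤ) (hd : 0 < d) (f : R) (hf : f ∈ 𝒜 d) (hbij : Function.Bijective (fun x : M => f • x)) (E : GrLC.StarInjRes 𝒜 ℳ) (q : ℕ) : Subsingleton (E.H m q) := by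
  classical
  have hfm : f ∈ m.toIdeal := by
    rw [hmsp]
    exact Ideal.subset_span (Set.mem_iUnion₂.2 ⟨d, Set.mem_Ioi.2 hd, hf⟩)
  obtain ⟨ef, hef⟩ : ∃ ef : M ≃ₗ[R] M, ∀ x, ef x = f • x :=
    ⟨LinearEquiv.ofBijective (LinearMap.lsmul R M f) hbij, fun _ => rfl⟩
  have hu := inv_isGrHomDeg 𝒜 ℳ hf ef hef
  obtain ⟨v, hvdeg, hv0, hvcomm⟩ := exists_lift E E (-d) ef.symm.toLinearMap hu
  obtain ⟨w, hw⟩ : ∃ w : ∀ n, (E.X n).carrier →ₗ[R] (E.X n).carrier,
      ∀ n x, w n x = v n (f • x) - x :=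
    ⟨fun n => (v n).comp (LinearMap.lsmul R _ f) - LinearMap.id, fun n x => rfl⟩
  have hwgr : ∀ n, GrLC.IsGrHom (E.X n).gr (E.X n).gr (w n) := by
    intro n k x hx
    rw [hw]
    refine sub_mem ?_ hx
    have h1 : f • x ∈ (E.X n).gr (d + k) := gsmul_mem 𝒜 (E.X n).gr hf hx
    have h2 := hvdeg n (d + k) (f • x) h1
    have h3 : d + k + -d = k := by abel
    rw [h3] at h2
    exact h2
  have hwcomm : ∀ n x, w (n + 1) (E.d n x) = E.d n (w n x) := by
    intro n x
    rw [hw, hw, map_sub, ← map_smul, hvcomm]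
  have hw0 : ∀ x, w 0 (E.ε x) = 0 := by
    intro x
    rw [hw, ← map_smul, hv0]
    have h1 : ef.symm.toLinearMap (f • x) = x := by
      rw [← hef]
      exact ef.symm_apply_apply x
    rw [h1, sub_self]
  obtain ⟨s, hs0, hsn⟩ := exists_homotopy E E w hwgr hwcomm hw0
  exact H_subsingleton_of_homotopy E m hfm v hvcomm s
    (fun x => by rw [← hw]; exact hs0 x) (fun n x => by rw [← hw]; exact hsn n x) q

end Groth.Agent.S18662
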