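import Groth.Statements.S6340
import Groth.Agent.H32.ML

set_option autoImplicit false
universe u
open CAlg

namespace Groth.Agent.S6340

/-- Let M₁ → M₂ → M₃ → 0 be exact with M₁ finitely generated; if M₂ is Mittag-Leffler then so is M₃.
Equivalently, as stated here: the quotient of a Mittag-Leffler module by a finitely generated
submodule is Mittag-Leffler. -/
theorem result (R : Type u) [CommRing R] {M : Type u} [AddCommGroup M] [Module R M]
    (N : Submodule R M) (hN : N.FG) (hM : CAlg.IsMittagLeffler R M) :
    CAlg.IsMittagLeffler R (M ⧸ N) := by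
  intro ι Q _ _
  have : Module.Finite R N := Module.Finite.iff_fg.mpr hN
  rw [injective_iff_map_eq_zero]
  intro x hx
  obtain ⟨y, rfl⟩ := LinearMap.rTensor_surjective (∀ i, Q i) N.mkQ_surjective x
  rw [Groth.Agent.H32.piRightHom_rTensor] at hx
  have hex : Function.Exact N.subtype N.mkQ := LinearMap.exact_subtype_mkQ N
  have hw : ∀ i, ∃ w : TensorProduct R (↥N) (Q i),
      N.subtype.rTensor (Q i) w = TensorProduct.piRightHom R R M Q y i := fun i =>
    (rTensor_exact (Q i) hex N.mkQ_surjective _).mp (congr_fun hx i)
  choose w hw using hw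
  obtain ⟨w', hw'⟩ := Groth.Agent.H32.piRightHom_surjective_of_finite Q w
  have hy : y = N.subtype.rTensor (∀ i, Q i) w' := by
    apply hM ι Q
    rw [Groth.Agent.H32.piRightHom_rTensor, hw']
    funext i
    exact (hw i).symm
  rw [hy]
  exact (rTensor_exact (∀ i, Q i) hex N.mkQ_surjective).apply_apply_eq_zero w'

end Groth.Agent.S6340
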