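import Groth.Statements.S17545
import Groth.Agent.H87.DecayingTensor
import Mathlib.RingTheory.Flat.Tensor

set_option autoImplicit false
universe u v w
open W4c5adicflatcompl
open CAlg

namespace Groth.Agent.S17545

/-- For a Noetherian ring A which is I-adically complete and any set Z, the A-module of I-adically
decaying functions Z → A is flat. -/
theorem result {A : Type u} [CommRing A] [IsNoetherianRing A]
    (I : Ideal A) [IsAdicComplete I A] (Z : Type v) :
    Module.Flat A (decaying I Z A) := by
  rw [Module.Flat.iff_rTensor_injective']
  intro J
  obtain ⟨q, gen, hgen⟩ := Module.Finite.exists_fin (R := A) (M := J)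
  have hinj := Groth.Agent.H87.tensorToFun_injective (I := I) (Z := Z) gen hgen
  have hcomm : (Groth.Agent.H87.tensorToFun I Z A) ∘ₗ (LinearMap.rTensor (decaying I Z A) J.subtype)
      = (LinearMap.pi fun z => J.subtype ∘ₗ LinearMap.proj z) ∘ₗ
        (Groth.Agent.H87.tensorToFun I Z J) := by
    apply TensorProduct.ext'
    intro x g
    funext z
    simp
  have hpost : Function.Injective
      (LinearMap.pi fun z => J.subtype ∘ₗ LinearMap.proj z : (Z → J) →ₗ[A] (Z → A)) := by
    intro f g hfg
    funext z
    apply Subtype.ext
    exact congrFun hfg z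
  have h2 : Function.Injective ((Groth.Agent.H87.tensorToFun I Z A) ∘ₗ
      (LinearMap.rTensor (decaying I Z A) J.subtype)) := by
    rw [hcomm]
    exact hpost.comp hinj
  rw [LinearMap.coe_comp] at h2
  exact Function.Injective.of_comp h2

end Groth.Agent.S17545
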