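import Groth.Statements.S0550
import Groth.Agent.S17545
import Groth.Agent.H87.FinsuppCompletion
import Groth.Agent.Lead.CompleteNoetherian
import Mathlib.RingTheory.AdicCompletion.AsTensorProduct
import Mathlib.RingTheory.Flat.Stability
import Mathlib.RingTheory.Ideal.Quotient.Noetherian

set_option autoImplicit false
universe u
open CAlg

namespace Groth.Agent.S0550

open W4c5adicflatcompl

/-- decaying functions with values in an `S`-module for an ideal `I` of `R` and for its extension
to `S` have the same underlying functions. -/
theorem mem_decaying_map_iff {R S : Type u} [CommRing R] [CommRing S] [Algebra R S] (I : Ideal R)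
    (Z : Type u) (f : Z → S) :
    f ∈ decaying (I.map (algebraMap R S)) Z S ↔ f ∈ decaying I Z S := by
  have key : ∀ (n : ℕ) (s : S), s ∈ ((I.map (algebraMap R S)) ^ n • ⊤ : Submodule S S) ↔
      s ∈ (I ^ n • ⊤ : Submodule R S) := by
    intro n s
    have h1 : ((I.map (algebraMap R S)) ^ n • ⊤ : Submodule S S) = (I.map (algebraMap R S)) ^ n := by
      rw [smul_eq_mul, Ideal.mul_top]
    have h2 : (I ^ n • ⊤ : Submodule R S) =
        ((I.map (algebraMap R S)) ^ n).restrictScalars R := by
      rw [Ideal.smul_top_eq_map, Ideal.map_pow]
    rw [h1, h2, Submodule.restrictScalars_mem]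
  simp only [mem_decaying_iff, key]

/-- Over a Noetherian ring `R` with an ideal `I`, the `I`-adic completion of a free module (on any index
set) is a flat `R`-module. -/
theorem result (R : Type u) [CommRing R] [IsNoetherianRing R]
    (I : Ideal R) (α : Type u) : Module.Flat R (AdicCompletion I (α →₀ R)) := by
  classical
  have hfg : I.FG := IsNoetherian.noetherian I
  set S := AdicCompletion I R with hS
  haveI : IsNoetherianRing S := Groth.Agent.Lead.isNoetherianRing_adicCompletion I hfg
  haveI hcI : IsAdicComplete I S := AdicCompletion.isAdicComplete hfg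
  haveI hc : IsAdicComplete (I.map (algebraMap R S)) S :=
    (IsAdicComplete.map_algebraMap_iff (I := I) (S := S) (M := S)).2 hcI
  -- step 1
  let e₁ : AdicCompletion I (α →₀ R) ≃ₗ[R] decaying I α S :=
    (LinearEquiv.ofInjective _ (Groth.Agent.H87.finsuppCompMap_injective I α R)).trans
      (LinearEquiv.ofEq _ _ (Groth.Agent.H87.range_finsuppCompMap I α R))
  -- step 2
  let e₂ : decaying I α S ≃ₗ[R] decaying (I.map (algebraMap R S)) α S :=
    { toFun := fun f => ⟨f.1, (mem_decaying_map_iff I α f.1).2 f.2⟩
      invFun := fun f => ⟨f.1, (mem_decaying_map_iff I α f.1).1 f.2⟩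
      map_add' := fun _ _ => rfl
      map_smul' := fun _ _ => rfl
      left_inv := fun _ => rfl
      right_inv := fun _ => rfl }
  -- step 3
  haveI : Module.Flat S (decaying (I.map (algebraMap R S)) α S) :=
    Groth.Agent.S17545.result (I.map (algebraMap R S)) α
  haveI : Module.Flat R (decaying (I.map (algebraMap R S)) α S) :=
    Module.Flat.trans R S _
  exact Module.Flat.of_linearEquiv (e₁.trans e₂)

end Groth.Agent.S0550
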