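import Groth.Statements.S1212
import Groth.Agent.H6.NakayamaTensor

set_option autoImplicit false
universe u
open FlatMor

namespace Groth.Agent.S1212

open TensorProduct IsLocalRing in
/-- Let R be a local ring, S an R-algebra and N an S-module which is projective as an R-module, such
that the closed fibre ring of S is Noetherian and the closed fibre module of N is finite over it.
Then every prime q of S, over p in R, which is an associated prime (the annihilator of an element)
of the S-module N ⊗_R κ(p) satisfies q + 𝔪_R S ≠ S. -/
theorem result {R S : Type u} [CommRing R] [IsLocalRing R] [CommRing S] [Algebra R S]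
    (N : Type u) [AddCommGroup N] [Module S N] [Module R N] [IsScalarTower R S N] [Module.Projective R N]
    [IsNoetherianRing ((maximalIdeal R).Fiber S)]
    [Module.Finite ((maximalIdeal R).Fiber S) (FlatCA.fiberMod (maximalIdeal R) S N)]
    (p : Ideal R) [p.IsPrime] (q : Ideal S) [q.IsPrime] [q.LiesOver p]
    (hq : q ∈ FlatCA.ass S (N ⊗[R] p.ResidueField)) :
    q ⊔ (maximalIdeal R).map (algebraMap R S) ≠ ⊤ := by
  classical
  intro htop
  obtain ⟨hqp, z, hz⟩ := hq
  have h1 : (1 : S) ∈ q ⊔ (IsLocalRing.maximalIdeal R).map (algebraMap R S) := by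
    rw [htop]; trivial
  obtain ⟨a, ha, b, hb, hab⟩ := Submodule.mem_sup.1 h1
  have haz : a • z = 0 := by
    have h2 : a ∈ (Submodule.span S {z}).annihilator := hz ▸ ha
    rw [Submodule.mem_annihilator_span_singleton] at h2
    exact h2
  obtain ⟨s, hs⟩ := Module.projective_def'.1 (inferInstance : Module.Projective R N)
  have hs' : ∀ n : N, Finsupp.linearCombination R (id : N → N) (s n) = n := fun n =>
    LinearMap.congr_fun hs n
  have hmulA : ∀ t : N ⊗[R] p.ResidueField,
      LinearMap.rTensor p.ResidueField (DistribSMul.toLinearMap R N a) t = a • t := by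
    intro t
    induction t using TensorProduct.induction_on with
    | zero => simp
    | tmul n m =>
      rw [LinearMap.rTensor_tmul, TensorProduct.smul_tmul']
      rfl
    | add x y hx hy => rw [map_add, hx, hy, smul_add]
  have hb' : ∀ b ∈ (IsLocalRing.maximalIdeal R).map (algebraMap R S), ∀ n : N,
      b • n ∈ (IsLocalRing.maximalIdeal R) • (⊤ : Submodule R N) := by
    intro b hb
    refine Submodule.span_induction ?_ ?_ ?_ ?_ hb
    · rintro _ ⟨r, hr, rfl⟩ n
      rw [algebraMap_smul]
      exact Submodule.smul_mem_smul hr trivial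
    · intro n
      rw [zero_smul]
      exact zero_mem _
    · intro x y _ _ hx hy n
      rw [add_smul]
      exact add_mem (hx n) (hy n)
    · intro t x _ hx n
      have e : (t • x) • n = x • (t • n) := by
        rw [smul_eq_mul, mul_comm, mul_smul]
      rw [e]
      exact hx (t • n)
  -- the endomorphism of the free module
  obtain ⟨ũ, hũdef⟩ : ∃ ũ : (N →₀ R) →ₗ[R] (N →₀ R), ∀ y, ũ y =
      s (a • Finsupp.linearCombination R (id : N → N) y) +
        (y - s (Finsupp.linearCombination R (id : N → N) y)) :=
    ⟨s ∘ₗ (DistribSMul.toLinearMap R N a) ∘ₗ Finsupp.linearCombination R (id : N → N) +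
      (LinearMap.id - s ∘ₗ Finsupp.linearCombination R (id : N → N)), fun y => rfl⟩
  have hũ : ∀ y : N →₀ R, ũ y - y ∈
        IsLocalRing.maximalIdeal R • (⊤ : Submodule R (N →₀ R)) := by
    intro y
    have e : ũ y - y = - s (b • Finsupp.linearCombination R (id : N → N) y) := by
      have ea : a = 1 - b := by rw [← hab]; ring
      rw [hũdef, ea, sub_smul, one_smul, map_sub]
      abel
    rw [e]
    apply neg_mem
    have h1 : s (b • Finsupp.linearCombination R (id : N → N) y) ∈
        (IsLocalRing.maximalIdeal R • (⊤ : Submodule R N)).map s :=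
      Submodule.mem_map_of_mem (hb' b hb _)
    rw [Submodule.map_smul''] at h1
    exact Submodule.smul_mono le_rfl le_top h1
  have hinj := Groth.Agent.H6.rTensor_injective_of_sub_id_mem
    (fun n : N => LinearMap.range (Finsupp.lsingle n : R →ₗ[R] N →₀ R))
    Finsupp.iSup_lsingle_range
    (fun J => Finsupp.disjoint_lsingle_lsingle (J : Set N) ((J : Set N)ᶜ) disjoint_compl_right)
    (fun n => Module.Finite.range _)
    ũ hũ p.ResidueField
  have hw : LinearMap.rTensor p.ResidueField s z = 0 := by
    apply hinj
    rw [map_zero, ← LinearMap.comp_apply, ← LinearMap.rTensor_comp]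
    have e : ũ ∘ₗ s = s ∘ₗ (DistribSMul.toLinearMap R N a) := by
      ext n : 1
      rw [LinearMap.comp_apply, hũdef, hs', sub_self, add_zero]
      rfl
    rw [e, LinearMap.rTensor_comp, LinearMap.comp_apply, hmulA, haz, map_zero]
  have hz0 : z = 0 := by
    have e : LinearMap.rTensor p.ResidueField (Finsupp.linearCombination R (id : N → N))
        (LinearMap.rTensor p.ResidueField s z) = z := by
      rw [← LinearMap.comp_apply, ← LinearMap.rTensor_comp, hs, LinearMap.rTensor_id,
        LinearMap.id_apply]
    rw [← e, hw, map_zero]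
  have hqtop : q = ⊤ := by
    rw [hz, hz0, eq_top_iff]
    intro t _
    rw [Submodule.mem_annihilator_span_singleton, smul_zero]
  exact hqp.ne_top hqtop

end Groth.Agent.S1212
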