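-- Statement S6388: g dominates f iff M' → pushout is universally injective.
import Groth.Statements.S6388
import Mathlib.LinearAlgebra.TensorProduct.RightExactness

set_option autoImplicit false
universe u
open CAlg

namespace Groth.Agent.S6388

open TensorProduct

section
variable {R : Type u} [CommRing R] {M N M' : Type u}
    [AddCommGroup M] [Module R M] [AddCommGroup N] [Module R N] [AddCommGroup M'] [Module R M']
    (f : M →ₗ[R] N) (g : M →ₗ[R] M')

/-- the two maps into the pushout agree on `M`. -/
theorem po_comm :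
    ((LinearMap.range (g.prod (-f))).mkQ ∘ₗ LinearMap.inl R M' N) ∘ₗ g =
      ((LinearMap.range (g.prod (-f))).mkQ ∘ₗ LinearMap.inr R M' N) ∘ₗ f := by
  ext x
  simp only [LinearMap.comp_apply, LinearMap.inl_apply, LinearMap.inr_apply, Submodule.mkQ_apply]
  rw [Submodule.Quotient.eq]
  refine ⟨x, ?_⟩
  simp

theorem univInj_of_dom
    (H : ∀ (Q : Type u) [AddCommGroup Q] [Module R Q],
      LinearMap.ker (f.rTensor Q) ≤ LinearMap.ker (g.rTensor Q)) :
    CAlgX.UniversallyInjective R
        ((LinearMap.range (g.prod (-f))).mkQ ∘ₗ LinearMap.inl R M' N) := by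
  intro Q _ _
  rw [injective_iff_map_eq_zero]
  intro z hz
  have hex : Function.Exact (g.prod (-f)) (LinearMap.range (g.prod (-f))).mkQ := by
    rw [LinearMap.exact_iff, Submodule.ker_mkQ]
  have hexQ := rTensor_exact Q hex (LinearMap.range (g.prod (-f))).mkQ_surjective
  rw [LinearMap.rTensor_comp, LinearMap.comp_apply] at hz
  obtain ⟨w, hw⟩ := (hexQ _).mp hz
  have e1 : (LinearMap.snd R M' N) ∘ₗ (g.prod (-f)) = -f := by ext x; simp
  have e2 : (LinearMap.snd R M' N) ∘ₗ (LinearMap.inl R M' N) = 0 := by ext x; simp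
  have e3 : (LinearMap.fst R M' N) ∘ₗ (g.prod (-f)) = g := by ext x; simp
  have e4 : (LinearMap.fst R M' N) ∘ₗ (LinearMap.inl R M' N) = LinearMap.id := by ext x; simp
  have h2 : (-f).rTensor Q w = 0 := by
    have := congrArg ((LinearMap.snd R M' N).rTensor Q) hw
    rw [← LinearMap.comp_apply, ← LinearMap.comp_apply, ← LinearMap.rTensor_comp,
      ← LinearMap.rTensor_comp, e1, e2, LinearMap.rTensor_zero, LinearMap.zero_apply] at this
    exact this
  have hfw : f.rTensor Q w = 0 := by
    rw [LinearMap.rTensor_neg, LinearMap.neg_apply, neg_eq_zero] at h2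
    exact h2
  have hgw : g.rTensor Q w = 0 := LinearMap.mem_ker.mp (H Q (LinearMap.mem_ker.mpr hfw))
  have h1 := congrArg ((LinearMap.fst R M' N).rTensor Q) hw
  rw [← LinearMap.comp_apply, ← LinearMap.comp_apply, ← LinearMap.rTensor_comp,
    ← LinearMap.rTensor_comp, e3, e4, LinearMap.rTensor_id, LinearMap.id_apply, hgw] at h1
  exact h1.symm

theorem dom_of_univInj
    (hι : CAlgX.UniversallyInjective R
        ((LinearMap.range (g.prod (-f))).mkQ ∘ₗ LinearMap.inl R M' N))
    (Q : Type u) [AddCommGroup Q] [Module R Q] :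
    LinearMap.ker (f.rTensor Q) ≤ LinearMap.ker (g.rTensor Q) := by
  intro w hw
  rw [LinearMap.mem_ker] at hw ⊢
  apply hι Q
  rw [map_zero, ← LinearMap.comp_apply, ← LinearMap.rTensor_comp, po_comm f g,
    LinearMap.rTensor_comp, LinearMap.comp_apply, hw, map_zero]

end

/-- Let f : M → N and g : M → M' be maps of R-modules and let N' be their pushout, realised as the
quotient of M' × N by the submodule of elements (g x, -f x). Then g dominates f — for every module Q
the kernel of f ⊗ id_Q is contained in the kernel of g ⊗ id_Q — if and only if the canonical map M'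
→ N' is universally injective. -/
theorem result (R : Type u) [CommRing R] {M N M' : Type u}
    [AddCommGroup M] [Module R M] [AddCommGroup N] [Module R N] [AddCommGroup M'] [Module R M']
    (f : M →ₗ[R] N) (g : M →ₗ[R] M') :
    (∀ (Q : Type u) [AddCommGroup Q] [Module R Q], LinearMap.ker (f.rTensor Q) ≤ LinearMap.ker (g.rTensor Q)) ↔
      CAlgX.UniversallyInjective R
        ((LinearMap.range (g.prod (-f))).mkQ ∘ₗ LinearMap.inl R M' N) :=
  ⟨fun H => univInj_of_dom f g H, fun hι Q _ _ => dom_of_univInj f g hι Q⟩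

end Groth.Agent.S6388
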