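-- Statement S6359: domination iff factorization when the cokernel is finitely presented.
import Groth.Statements.S6359
import Groth.Agent.S6388
import Groth.Agent.S6302

set_option autoImplicit false
universe u
open CAlg

namespace Groth.Agent.S6359

open TensorProduct

/-- a universally injective map is injective. -/
theorem injective_of_univInj {R : Type u} [CommRing R] {A B : Type u} [AddCommGroup A] [Module R A]
    [AddCommGroup B] [Module R B] (j : A →ₗ[R] B) (hj : CAlgX.UniversallyInjective R j) :
    Function.Injective j := by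
  intro a b hab
  have h1 : j.rTensor R (a ⊗ₜ[R] (1 : R)) = j.rTensor R (b ⊗ₜ[R] (1 : R)) := by
    simp [hab]
  have h2 := hj R h1
  have h3 := congrArg (TensorProduct.rid R A) h2
  simpa using h3

/-- the factorization part, usable by other files. -/
theorem exists_factor {R : Type u} [CommRing R] {M N M' : Type u}
    [AddCommGroup M] [Module R M] [AddCommGroup N] [Module R N] [AddCommGroup M'] [Module R M']
    (f : M →ₗ[R] N) (g : M →ₗ[R] M') [Module.FinitePresentation R (N ⧸ LinearMap.range f)]
    (H : ∀ (Q : Type u) [AddCommGroup Q] [Module R Q],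
      LinearMap.ker (f.rTensor Q) ≤ LinearMap.ker (g.rTensor Q)) :
    ∃ h : N →ₗ[R] M', g = h ∘ₗ f := by
  have hι := Groth.Agent.S6388.univInj_of_dom f g H
  have hcomm := Groth.Agent.S6388.po_comm f g
  set K := LinearMap.range (g.prod (-f)) with hK
  set ι' : M' →ₗ[R] (M' × N) ⧸ K := K.mkQ ∘ₗ LinearMap.inl R M' N with hι'
  set ν : N →ₗ[R] (M' × N) ⧸ K := K.mkQ ∘ₗ LinearMap.inr R M' N with hν
  have hle : K ≤ LinearMap.ker ((LinearMap.range f).mkQ ∘ₗ LinearMap.snd R M' N) := by
    rintro _ ⟨x, rfl⟩
    rw [LinearMap.mem_ker]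
    simp only [LinearMap.comp_apply, LinearMap.prod_apply, LinearMap.snd_apply,
      Submodule.mkQ_apply]
    rw [Submodule.Quotient.mk_eq_zero]
    exact neg_mem (LinearMap.mem_range_self f x)
  let p : (M' × N) ⧸ K →ₗ[R] N ⧸ LinearMap.range f :=
    K.liftQ ((LinearMap.range f).mkQ ∘ₗ LinearMap.snd R M' N) hle
  have hp_mk : ∀ (a : M') (n : N), p (K.mkQ (a, n)) = (LinearMap.range f).mkQ n := by
    intro a n
    rfl
  have hp_surj : Function.Surjective p := by
    intro y
    obtain ⟨n, rfl⟩ := (LinearMap.range f).mkQ_surjective y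
    exact ⟨K.mkQ (0, n), hp_mk 0 n⟩
  have hexact : Function.Exact ι' p := by
    intro y
    constructor
    · intro hy
      obtain ⟨⟨a, n⟩, rfl⟩ := K.mkQ_surjective y
      rw [hp_mk, Submodule.mkQ_apply, Submodule.Quotient.mk_eq_zero] at hy
      obtain ⟨x, rfl⟩ := hy
      refine ⟨a + g x, ?_⟩
      simp only [hι', LinearMap.comp_apply, LinearMap.inl_apply, Submodule.mkQ_apply]
      rw [Submodule.Quotient.eq]
      refine ⟨x, ?_⟩
      simp
    · rintro ⟨a, rfl⟩
      simp only [hι', LinearMap.comp_apply, LinearMap.inl_apply]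
      rw [hp_mk, map_zero]
  obtain ⟨s, hs⟩ := Groth.Agent.S6302.result ι' p hexact hp_surj hι
  have hinj : Function.Injective ι' := injective_of_univInj ι' hι
  obtain ⟨e, he1, -⟩ := hexact.splitSurjectiveEquiv hinj ⟨s, hs⟩
  refine ⟨(LinearMap.fst R M' _) ∘ₗ e.toLinearMap ∘ₗ ν, ?_⟩
  ext x
  have h1 : ι' (g x) = ν (f x) := LinearMap.congr_fun hcomm x
  have h2 : e (ι' (g x)) = (g x, 0) := by
    have := LinearMap.congr_fun he1 (g x)
    rw [this]
    simp
  simp only [LinearMap.comp_apply, LinearEquiv.coe_coe, LinearMap.fst_apply]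
  rw [← h1, h2]

/-- Let f : M → N and g : M → M' be maps of R-modules such that the cokernel of f is finitely presented.
Then g dominates f (for every module Q the kernel of f ⊗ id_Q is contained in the kernel of g ⊗
id_Q) if and only if g factors through f. -/
theorem result (R : Type u) [CommRing R] {M N M' : Type u}
    [AddCommGroup M] [Module R M] [AddCommGroup N] [Module R N] [AddCommGroup M'] [Module R M']
    (f : M →ₗ[R] N) (g : M →ₗ[R] M') [Module.FinitePresentation R (N ⧸ LinearMap.range f)] :
    (∀ (Q : Type u) [AddCommGroup Q] [Module R Q], LinearMap.ker (f.rTensor Q) ≤ LinearMap.ker (g.rTensor Q)) ↔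
      ∃ h : N →ₗ[R] M', g = h ∘ₗ f := by
  constructor
  · intro H
    exact exists_factor f g H
  · rintro ⟨h, rfl⟩ Q _ _ w hw
    rw [LinearMap.mem_ker] at hw ⊢
    rw [LinearMap.rTensor_comp, LinearMap.comp_apply, hw, map_zero]

end Groth.Agent.S6359
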