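import Groth.Statements.S1248
import Groth.Agent.H99.PureDesc
import Groth.Agent.H99.HensNhd

set_option autoImplicit false
set_option linter.style.haveILetI false
universe u
open FlatMor

namespace Groth.Agent.S1248

open IsLocalRing in
/-- Ring form, X = Spec B affine: let B be a finite type A-algebra, N a finite B-module and p a prime of
A. If there is an impurity of N above p whose base change ring A' is a henselization of the local
ring A_p (compatibly with A → A_p) and whose point t is the maximal ideal, then there is an impurity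
of N above p for which (A', t) is an elementary étale ring map at p. -/
theorem result {A B : Type u} [CommRing A] [CommRing B] [Algebra A B] [Algebra.FiniteType A B]
    (N : Type u) [AddCommGroup N] [Module B N] [Module.Finite B N] (p : Ideal A) [p.IsPrime]
    (h : FlatCA.HasImpurity A B N p (fun A' _ _ t => ∃ (_ : IsLocalRing A') (_ : Algebra (Localization.AtPrime p) A')
        (_ : IsScalarTower A (Localization.AtPrime p) A') (_ : IsLocalHom (algebraMap (Localization.AtPrime p) A')),
        Hensel.IsHenselization (Localization.AtPrime p) A' ∧ t = maximalIdeal A')) :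
    FlatCA.HasImpurity A B N p (fun A' _ _ t => ∃ _ : t.IsPrime, FlatCA.IsEtaleNhd A A' p t) := by
  classical
  obtain ⟨A', B', N', _, _, _, _, _, _, _, _, _, _, _, _, _, _, f, t', t, _, _, P, _, himp,
    hloc, halg, htow, hlh, hhens, ht⟩ := h
  haveI := hhens
  obtain ⟨e, he⟩ := Groth.Agent.H47.Hens.exists_ringEquiv_of_isHenselization A p A'
  letI algG : ∀ X : Groth.Agent.H47.Hens.EtPt A p, Algebra X.A A' := fun X =>
    (e.toRingHom.comp (Groth.Agent.H47.Hens.ι A p X)).toAlgebra
  have halgG : ∀ (X : Groth.Agent.H47.Hens.EtPt A p) (x : X.A),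
      algebraMap X.A A' x = e (Groth.Agent.H47.Hens.ι A p X x) := fun _ _ => rfl
  haveI : ∀ X : Groth.Agent.H47.Hens.EtPt A p,
      @IsScalarTower A X.A A' Algebra.toSMul Algebra.toSMul Algebra.toSMul := fun X =>
    IsScalarTower.of_algebraMap_eq (fun r => by
      show algebraMap A A' r = e (Groth.Agent.H47.Hens.ι A p X (algebraMap A X.A r))
      rw [Groth.Agent.H47.Hens.ι_algebraMap, he])
  refine Groth.Agent.H99.PureDesc.exists_impurity_of_family N p A' B' N' f t' t P himp
    (fun X : Groth.Agent.H47.Hens.EtPt A p => X.A) ?_ ?_ _ ?_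
  · intro x
    obtain ⟨X, a, ha⟩ := Groth.Agent.H47.Hens.exists_rep A p (e.symm x)
    exact ⟨X, a, by rw [halgG X, ha, e.apply_symm_apply]⟩
  · intro X Y
    obtain ⟨Z, u, v, -⟩ := Groth.Agent.H47.Hens.EtPt.cocone_objs X Y
    exact ⟨Z, u.f.toRingHom, v.f.toRingHom,
      fun y => by
        show algebraMap Z.A A' (u.f y) = _
        rw [halgG Z, halgG X, Groth.Agent.H47.Hens.ι_map],
      fun y => by
        show algebraMap Z.A A' (v.f y) = _
        rw [halgG Z, halgG Y, Groth.Agent.H47.Hens.ι_map]⟩
  · intro X
    refine ⟨inferInstance, ?_⟩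
    apply Groth.Agent.H99.HensNhd.isEtaleNhd_of_etPt X
    intro x
    rw [Ideal.mem_comap, halgG X, ht, ← Groth.Agent.H47.Hens.ε_ι,
      ← Groth.Agent.H47.Hens.mem_maximalIdeal_iff]
    constructor
    · intro hx
      by_contra hnot
      have hu : IsUnit (Groth.Agent.H47.Hens.ι A p X x) := by
        by_contra hnu
        exact hnot ((IsLocalRing.mem_maximalIdeal _).mpr hnu)
      exact (IsLocalRing.mem_maximalIdeal _).mp hx (hu.map e)
    · intro hx
      rw [IsLocalRing.mem_maximalIdeal, mem_nonunits_iff]
      intro hu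
      have hu' : IsUnit (e.symm (e (Groth.Agent.H47.Hens.ι A p X x))) := hu.map e.symm
      rw [e.symm_apply_apply] at hu'
      exact (IsLocalRing.mem_maximalIdeal _).mp hx hu'

end Groth.Agent.S1248
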