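import Groth.Statements.S1193
import Mathlib

set_option autoImplicit false
universe u
open FlatMor

namespace Groth.Agent.S1193

attribute [local instance] Algebra.TensorProduct.rightAlgebra

section General

variable {S F : Type u} [CommRing S] [CommRing F] [Algebra S F] (M : Type u) [AddCommGroup M]
  [Module S M] [Module F M] [IsScalarTower S F M]

lemma colon_bot_eq_comap (x : M) :
    ((⊥ : Submodule S M).colon {x}) =
      Ideal.comap (algebraMap S F) ((⊥ : Submodule F M).colon {x}) := by
  ext s
  simp only [Submodule.mem_colon_singleton, Submodule.mem_bot, Ideal.mem_comap, algebraMap_smul]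

lemma comap_mem_associatedPrimes {r : Ideal F} (hr : r ∈ associatedPrimes F M) :
    Ideal.comap (algebraMap S F) r ∈ associatedPrimes S M := by
  obtain ⟨hp, x, hx⟩ := hr
  refine ⟨Ideal.comap_isPrime _ _, x, ?_⟩
  rw [colon_bot_eq_comap (F := F), ← Ideal.comap_radical, ← hx]

lemma exists_comap_eq_of_mem_associatedPrimes (hsurj : Function.Surjective (algebraMap S F))
    {q : Ideal S} (hq : q ∈ associatedPrimes S M) :
    ∃ r ∈ associatedPrimes F M, Ideal.comap (algebraMap S F) r = q := by
  obtain ⟨hp, x, hx⟩ := hq
  rw [colon_bot_eq_comap (F := F), ← Ideal.comap_radical] at hx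
  refine ⟨((⊥ : Submodule F M).colon {x}).radical, ⟨?_, x, rfl⟩, hx.symm⟩
  have h1 : RingHom.ker (algebraMap S F) ≤ q := by
    rw [hx]; exact Ideal.comap_mono bot_le
  have := Ideal.map_isPrime_of_surjective hsurj h1
  rwa [hx, Ideal.map_comap_of_surjective _ hsurj] at this

/-- elements of associated primes are zero divisors -/
lemma notMem_nonZeroSMulDivisors_of_mem {q : Ideal S} (hq : q ∈ associatedPrimes S M) {s : S}
    (hs : s ∈ q) : s ∉ nonZeroSMulDivisors S M := by
  obtain ⟨hp, x, hx⟩ := hq
  intro hsS
  rw [hx] at hs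
  obtain ⟨n, hn⟩ := hs
  rw [Submodule.mem_colon_singleton, Submodule.mem_bot] at hn
  have hx0 : x = 0 := (pow_mem hsS n) x hn
  apply hp.ne_top
  rw [hx, hx0]
  rw [Ideal.radical_eq_top, Ideal.eq_top_iff_one, Submodule.mem_colon_singleton]
  simp

lemma exists_mem_associatedPrimes_of_notMem [IsNoetherianRing F] {s : S}
    (hs : s ∉ nonZeroSMulDivisors S M) : ∃ q ∈ associatedPrimes S M, s ∈ q := by
  rw [mem_nonZeroSMulDivisors_iff] at hs
  push Not at hs
  obtain ⟨x, hsx, hx⟩ := hs
  have hmem : algebraMap S F s ∈ { r : F | ∃ x : M, x ≠ 0 ∧ r • x = 0 } :=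
    ⟨x, hx, by rw [algebraMap_smul]; exact hsx⟩
  rw [← biUnion_associatedPrimes_eq_zero_divisors F M] at hmem
  simp only [Set.mem_iUnion, SetLike.mem_coe, exists_prop] at hmem
  obtain ⟨r, hr, hsr⟩ := hmem
  exact ⟨_, comap_mem_associatedPrimes M hr, hsr⟩

/-- the key statement (1) -/
lemma disjoint_iff_exists_le [IsNoetherianRing F] [Module.Finite F M]
    (hsurj : Function.Surjective (algebraMap S F)) (q : Ideal S) [q.IsPrime] :
    Disjoint (q : Set S) (nonZeroSMulDivisors S M) ↔ ∃ q' ∈ associatedPrimes S M, q ≤ q' := by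
  classical
  have hfin : (associatedPrimes S M).Finite := by
    refine ((associatedPrimes.finite F M).image (Ideal.comap (algebraMap S F))).subset ?_
    intro q hq
    obtain ⟨r, hr, e⟩ := exists_comap_eq_of_mem_associatedPrimes M hsurj hq
    exact ⟨r, hr, e⟩
  constructor
  · intro hd
    have hsub : (q : Set S) ⊆ ⋃ i ∈ (hfin.toFinset : Set (Ideal S)), (i : Set S) := by
      intro s hs
      have hsS : s ∉ nonZeroSMulDivisors S M := fun h => Set.disjoint_left.1 hd hs h
      obtain ⟨q', hq', hsq'⟩ := exists_mem_associatedPrimes_of_notMem (F := F) M hsS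
      simp only [Set.mem_iUnion, SetLike.mem_coe, exists_prop, Finset.mem_coe,
        Set.Finite.mem_toFinset]
      exact ⟨q', hq', hsq'⟩
    obtain ⟨i, hi, hqi⟩ := (Ideal.subset_union_prime (f := fun i : Ideal S => i) ⊥ ⊥
      (fun i hi _ _ => ((hfin.mem_toFinset).1 hi).1)).1 hsub
    exact ⟨i, (hfin.mem_toFinset).1 hi, hqi⟩
  · rintro ⟨q', hq', hle⟩
    rw [Set.disjoint_left]
    intro s hs
    exact notMem_nonZeroSMulDivisors_of_mem M hq' (hle hs)

lemma associatedPrimes_finite [IsNoetherianRing F] [Module.Finite F M]
    (hsurj : Function.Surjective (algebraMap S F)) : (associatedPrimes S M).Finite := by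
  refine ((associatedPrimes.finite F M).image (Ideal.comap (algebraMap S F))).subset ?_
  intro q hq
  obtain ⟨r, hr, e⟩ := exists_comap_eq_of_mem_associatedPrimes M hsurj hq
  exact ⟨r, hr, e⟩

end General

section Loc

variable {S : Type u} [CommRing S] (M : Type u) [AddCommGroup M] [Module S M]
  (hK : ∀ (q : Ideal S) [q.IsPrime],
    Disjoint (q : Set S) (nonZeroSMulDivisors S M) ↔ ∃ q' ∈ associatedPrimes S M, q ≤ q')

include hK in
lemma comap_maximal_of_isMaximal (Q : Ideal (Localization (nonZeroSMulDivisors S M)))
    (hQ : Q.IsMaximal) :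
    Maximal (fun r => r ∈ associatedPrimes S M)
      (Q.comap (algebraMap S (Localization (nonZeroSMulDivisors S M)))) := by
  have hQp : Q.IsPrime := hQ.isPrime
  obtain ⟨hqp, hqd⟩ := (IsLocalization.isPrime_iff_isPrime_disjoint
    (nonZeroSMulDivisors S M) (Localization (nonZeroSMulDivisors S M)) Q).1 hQp
  rw [Ideal.under_def] at hqp hqd
  -- any associated prime above comap Q equals comap Q
  have key : ∀ y ∈ associatedPrimes S M,
      Q.comap (algebraMap S (Localization (nonZeroSMulDivisors S M))) ≤ y →
      y = Q.comap (algebraMap S (Localization (nonZeroSMulDivisors S M))) := by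
    intro y hy hle
    have hyp : y.IsPrime := hy.1
    have hyd : Disjoint ((nonZeroSMulDivisors S M : Submonoid S) : Set S) (y : Set S) :=
      ((hK y).2 ⟨y, hy, le_rfl⟩).symm
    have hYp := IsLocalization.isPrime_of_isPrime_disjoint (nonZeroSMulDivisors S M)
      (Localization (nonZeroSMulDivisors S M)) y hyp hyd
    have hle' : Q ≤ Ideal.map (algebraMap S (Localization (nonZeroSMulDivisors S M))) y := by
      have := Ideal.map_mono (f := algebraMap S (Localization (nonZeroSMulDivisors S M))) hle
      rwa [← Ideal.under_def, IsLocalization.map_under (nonZeroSMulDivisors S M)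
        (Localization (nonZeroSMulDivisors S M))] at this
    have heq := hQ.eq_of_le hYp.ne_top hle'
    have := IsLocalization.under_map_of_isPrime_disjoint (nonZeroSMulDivisors S M)
      (Localization (nonZeroSMulDivisors S M)) hyp hyd
    rw [Ideal.under_def, ← heq] at this
    exact this.symm
  obtain ⟨q', hq', hle⟩ := (@hK _ hqp).1 hqd.symm
  have e := key q' hq' hle
  refine ⟨e ▸ hq', fun y hy hle' => (key y hy hle').le⟩

include hK in
lemma isMaximal_iff (Q : Ideal (Localization (nonZeroSMulDivisors S M))) :
    Q.IsMaximal ↔ (Q.IsPrime ∧ Maximal (fun r => r ∈ associatedPrimes S M)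
      (Q.comap (algebraMap S (Localization (nonZeroSMulDivisors S M))))) := by
  constructor
  · intro hQ
    exact ⟨hQ.isPrime, comap_maximal_of_isMaximal M hK Q hQ⟩
  · rintro ⟨hQp, hmax⟩
    obtain ⟨𝔐, h𝔐, hle⟩ := Ideal.exists_le_maximal Q hQp.ne_top
    have h1 := comap_maximal_of_isMaximal M hK 𝔐 h𝔐
    have h2 : Q.comap (algebraMap S (Localization (nonZeroSMulDivisors S M))) ≤
        𝔐.comap (algebraMap S (Localization (nonZeroSMulDivisors S M))) := Ideal.comap_mono hle
    have h3 := hmax.2 h1.1 h2
    have h4 : 𝔐 ≤ Q := by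
      have := Ideal.map_mono (f := algebraMap S (Localization (nonZeroSMulDivisors S M))) h3
      rwa [← Ideal.under_def, ← Ideal.under_def,
        IsLocalization.map_under (nonZeroSMulDivisors S M)
          (Localization (nonZeroSMulDivisors S M)),
        IsLocalization.map_under (nonZeroSMulDivisors S M)
          (Localization (nonZeroSMulDivisors S M))] at this
    rw [le_antisymm hle h4]
    exact h𝔐

include hK in
lemma finite_isMaximal (hfin : (associatedPrimes S M).Finite) :
    {Q : Ideal (Localization (nonZeroSMulDivisors S M)) | Q.IsMaximal}.Finite := by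
  refine Set.Finite.of_finite_image (f := Ideal.comap
    (algebraMap S (Localization (nonZeroSMulDivisors S M)))) (hfin.subset ?_) ?_
  · rintro _ ⟨Q, hQ, rfl⟩
    exact (comap_maximal_of_isMaximal M hK Q hQ).1
  · intro Q _ Q' _ h
    have h1 := IsLocalization.map_under (nonZeroSMulDivisors S M)
      (Localization (nonZeroSMulDivisors S M)) Q
    have h2 := IsLocalization.map_under (nonZeroSMulDivisors S M)
      (Localization (nonZeroSMulDivisors S M)) Q'
    rw [Ideal.under_def] at h1 h2
    rw [← h1, ← h2]
    exact congrArg _ h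

end Loc

open IsLocalRing in
/-- Let R be a local ring, S an R-algebra whose closed fibre ring is Noetherian and N an S-module whose
closed fibre module N/𝔪N is finite. Let Σ be the set of elements of S acting injectively on N/𝔪N.
Then a prime of S is disjoint from Σ exactly when it lies inside an associated prime of N/𝔪N (the
primes of the localization at Σ), the localization of S at Σ has finitely many maximal ideals, and
an ideal of that localization is maximal exactly when it is prime and contracts to a maximal member
of the set of associated primes of N/𝔪N. -/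
theorem result {R S : Type u} [CommRing R] [IsLocalRing R] [CommRing S] [Algebra R S]
    (N : Type u) [AddCommGroup N] [Module S N] [Module R N] [IsScalarTower R S N]
    [IsNoetherianRing ((maximalIdeal R).Fiber S)]
    [Module.Finite ((maximalIdeal R).Fiber S) (FlatCA.fiberMod (maximalIdeal R) S N)] :
    (∀ (q : Ideal S) [q.IsPrime], Disjoint (q : Set S) (FlatCA.nzdFiber R S N) ↔
        ∃ q' ∈ associatedPrimes S (FlatCA.fiberMod (maximalIdeal R) S N), q ≤ q') ∧
    {Q : Ideal (Localization (FlatCA.nzdFiber R S N)) | Q.IsMaximal}.Finite ∧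
    (∀ Q : Ideal (Localization (FlatCA.nzdFiber R S N)), Q.IsMaximal ↔ (Q.IsPrime ∧
        Maximal (fun r => r ∈ associatedPrimes S (FlatCA.fiberMod (maximalIdeal R) S N))
          (Q.comap (algebraMap S (Localization (FlatCA.nzdFiber R S N)))))) := by
  have hsurj : Function.Surjective (algebraMap S ((maximalIdeal R).Fiber S)) :=
    Algebra.TensorProduct.includeRight_surjective S
      (Ideal.algebraMap_residueField_surjective (maximalIdeal R))
  have : IsScalarTower S ((maximalIdeal R).Fiber S) (FlatCA.fiberMod (maximalIdeal R) S N) := by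
    unfold FlatCA.fiberMod
    exact TensorProduct.isScalarTower_left
  have hK : ∀ (q : Ideal S) [q.IsPrime],
      Disjoint (q : Set S) (nonZeroSMulDivisors S (FlatCA.fiberMod (maximalIdeal R) S N)) ↔
        ∃ q' ∈ associatedPrimes S (FlatCA.fiberMod (maximalIdeal R) S N), q ≤ q' :=
    fun q _ => disjoint_iff_exists_le (F := (maximalIdeal R).Fiber S) _ hsurj q
  refine ⟨hK, ?_, ?_⟩
  · exact finite_isMaximal _ hK
      (associatedPrimes_finite (F := (maximalIdeal R).Fiber S) _ hsurj)
  · exact fun Q => isMaximal_iff _ hK Q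

end Groth.Agent.S1193
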