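import Groth.Statements.S0274
-- import your own Groth.Agent.* helpers here

set_option autoImplicit false
universe u
open scoped TensorProduct
open Pi1

namespace Groth.Agent.S0274

open TensorProduct LinearMap

/-- Naturality of `cancelBaseChange` in the first variable. -/
theorem cancel_nat (R S : Type u) [CommRing R] [CommRing S] [Algebra R S]
    (M : Type u) [AddCommGroup M] [Module R M]
    {K F : Type u} [AddCommGroup K] [Module R K] [Module S K] [IsScalarTower R S K]
    [AddCommGroup F] [Module R F] [Module S F] [IsScalarTower R S F]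
    (f : K →ₗ[S] F) (x : K ⊗[S] (S ⊗[R] M)) :
    AlgebraTensorModule.cancelBaseChange R S S F M (rTensor (S ⊗[R] M) f x) =
      rTensor M (f.restrictScalars R) (AlgebraTensorModule.cancelBaseChange R S S K M x) := by
  induction x using TensorProduct.induction_on with
  | zero => simp
  | add x y hx hy => simp only [map_add, hx, hy]
  | tmul k y =>
    induction y using TensorProduct.induction_on with
    | zero => simp
    | add y z hy hz => simp only [TensorProduct.tmul_add, map_add, hy, hz]
    | tmul b m => simp

/-- If `S ⊗[R] M` is `S`-flat, the kernel of `f ⊗[R] M` for an `S`-linear `f` is the image of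
`ker f ⊗[R] M`. -/
theorem ker_le_range (R S : Type u) [CommRing R] [CommRing S] [Algebra R S]
    (M : Type u) [AddCommGroup M] [Module R M] [Module.Flat S (S ⊗[R] M)]
    {K F : Type u} [AddCommGroup K] [Module R K] [Module S K] [IsScalarTower R S K]
    [AddCommGroup F] [Module R F] [Module S F] [IsScalarTower R S F]
    (f : K →ₗ[S] F) (z : K ⊗[R] M) (hz : rTensor M (f.restrictScalars R) z = 0) :
    ∃ w : (LinearMap.ker f) ⊗[R] M,
      rTensor M ((LinearMap.ker f).subtype.restrictScalars R) w = z := by
  have hex : Function.Exact (rTensor (S ⊗[R] M) (LinearMap.ker f).subtype)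
      (rTensor (S ⊗[R] M) f) :=
    Module.Flat.rTensor_exact (S ⊗[R] M) (LinearMap.exact_subtype_ker_map f)
  have h1 : rTensor (S ⊗[R] M) f
      ((AlgebraTensorModule.cancelBaseChange R S S K M).symm z) = 0 := by
    apply (AlgebraTensorModule.cancelBaseChange R S S F M).injective
    rw [cancel_nat, map_zero, LinearEquiv.apply_symm_apply, hz]
  obtain ⟨w, hw⟩ := (hex _).1 h1
  refine ⟨AlgebraTensorModule.cancelBaseChange R S S (LinearMap.ker f) M w, ?_⟩
  rw [← cancel_nat, hw, LinearEquiv.apply_symm_apply]

/-- Evaluation at `1` as a character of the character module. -/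
noncomputable def ev1 (R : Type u) [CommRing R] : CharacterModule (CharacterModule R) :=
  (AddMonoidHom.mk' (fun c : CharacterModule R => c 1) (fun _ _ => rfl) :
    CharacterModule R →+ AddCircle (1 : ℚ))

theorem exists_E (R S : Type u) [CommRing R] [CommRing S] [Algebra R S]
    (h : Pi1.UnivInjective R S) :
    ∃ E : CharacterModule (S ⊗[R] CharacterModule R),
      ∀ p : CharacterModule R, E ((1 : S) ⊗ₜ[R] p) = p 1 := by
  have hinj : Function.Injective
      (LinearMap.rTensor (CharacterModule R) (Algebra.linearMap R S)) :=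
    (LinearMap.lTensor_inj_iff_rTensor_inj _ _).1 (h (CharacterModule R))
  obtain ⟨E, hE⟩ := CharacterModule.dual_surjective_of_injective _ hinj
    (CharacterModule.dual (TensorProduct.lid R (CharacterModule R)).toLinearMap (ev1 R))
  refine ⟨E, fun p => ?_⟩
  have key := DFunLike.congr_fun hE ((1 : R) ⊗ₜ[R] p)
  simp only [CharacterModule.dual_apply] at key
  change E (LinearMap.rTensor (CharacterModule R) (Algebra.linearMap R S)
      ((1 : R) ⊗ₜ[R] p)) = ev1 R (TensorProduct.lid R (CharacterModule R) ((1 : R) ⊗ₜ[R] p)) at key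
  rw [LinearMap.rTensor_tmul, Algebra.linearMap_apply, map_one, TensorProduct.lid_tmul,
    one_smul] at key
  exact key

/-- The map `y ↦ (r ↦ ξ (r • y))`. -/
noncomputable def kap (R : Type u) [CommRing R] {N : Type u} [AddCommGroup N] [Module R N]
    (ξ : CharacterModule N) : N →ₗ[R] CharacterModule R :=
  CharacterModule.curry (CharacterModule.dual (TensorProduct.rid R N).toLinearMap ξ)

theorem kap_apply (R : Type u) [CommRing R] {N : Type u} [AddCommGroup N] [Module R N]
    (ξ : CharacterModule N) (y : N) (r : R) : kap R ξ y r = ξ (r • y) := by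
  show ξ (TensorProduct.rid R N (y ⊗ₜ[R] r)) = _
  rw [TensorProduct.rid_tmul]

section Xi

variable {R S : Type u} [CommRing R] [CommRing S] [Algebra R S]
  {A M : Type u} [AddCommGroup A] [Module R A] [AddCommGroup M] [Module R M]

/-- The character on `(S ⊗ A) ⊗ M` built from `E` and `ξ`. -/
noncomputable def Xi (E : CharacterModule (S ⊗[R] CharacterModule R))
    (ξ : CharacterModule (A ⊗[R] M)) : CharacterModule ((S ⊗[R] A) ⊗[R] M) :=
  CharacterModule.dual
    ((LinearMap.lTensor S (kap R ξ)) ∘ₗ (TensorProduct.assoc R S A M).toLinearMap) E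

theorem Xi_tmul (E : CharacterModule (S ⊗[R] CharacterModule R))
    (ξ : CharacterModule (A ⊗[R] M)) (s : S) (a : A) (m : M) :
    Xi E ξ ((s ⊗ₜ[R] a) ⊗ₜ[R] m) = E (s ⊗ₜ[R] kap R ξ (a ⊗ₜ[R] m)) := by
  show E (LinearMap.lTensor S (kap R ξ) (TensorProduct.assoc R S A M ((s ⊗ₜ[R] a) ⊗ₜ[R] m))) = _
  rw [TensorProduct.assoc_tmul, LinearMap.lTensor_tmul]

end Xi

theorem Xi_vanish {R S : Type u} [CommRing R] [CommRing S] [Algebra R S]
    {M : Type u} [AddCommGroup M] [Module R M] (I : Ideal R)
    (E : CharacterModule (S ⊗[R] CharacterModule R))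
    (ξ : CharacterModule (I ⊗[R] M)) (l : S ⊗[R] I)
    (hl : LinearMap.baseChange S I.subtype l = 0) (m : M) :
    Xi E ξ (l ⊗ₜ[R] m) = 0 := by
  have hl' : LinearMap.lTensor S I.subtype l = 0 := hl
  have hB : Module.Baer R (CharacterModule R) :=
    Module.Flat.iff_characterModule_baer.1 inferInstance
  obtain ⟨ψ, hψ⟩ := hB I ((kap R ξ) ∘ₗ (TensorProduct.mk R I M).flip m)
  have key : ∀ l : S ⊗[R] I, Xi E ξ (l ⊗ₜ[R] m) =
      E (LinearMap.lTensor S ψ (LinearMap.lTensor S I.subtype l)) := by
    intro l
    induction l using TensorProduct.induction_on with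
    | zero => simp
    | tmul s i =>
      rw [Xi_tmul, LinearMap.lTensor_tmul, LinearMap.lTensor_tmul, Submodule.subtype_apply,
        hψ i.1 i.2]
      rfl
    | add a b ha hb => simp only [TensorProduct.add_tmul, map_add, ha, hb]
  rw [key, hl', map_zero, map_zero]

/-- Let R -> S be universally injective and M an R-module such that S ⊗_R M is flat over S. Then M is
flat over R. -/
theorem result (R S : Type u) [CommRing R] [CommRing S] [Algebra R S]
    (h : Pi1.UnivInjective R S) (M : Type u) [AddCommGroup M] [Module R M]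
    [Module.Flat S (S ⊗[R] M)] : Module.Flat R M := by
  rw [Module.Flat.iff_rTensor_injective']
  intro I
  rw [injective_iff_map_eq_zero]
  intro x hx
  apply CharacterModule.eq_zero_of_character_apply
  intro ξ
  obtain ⟨E, hE⟩ := exists_E R S h
  have hXi : ∀ y : I ⊗[R] M,
      Xi E ξ (LinearMap.rTensor M (TensorProduct.mk R S I 1) y) = ξ y := by
    intro y
    induction y using TensorProduct.induction_on with
    | zero => simp
    | tmul i m =>
      rw [LinearMap.rTensor_tmul, TensorProduct.mk_apply, Xi_tmul, hE, kap_apply, one_smul]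
    | add a b ha hb => simp only [map_add, ha, hb]
  rw [← hXi x]
  have h2 : ∀ y : I ⊗[R] M,
      LinearMap.rTensor M ((LinearMap.baseChange S I.subtype).restrictScalars R)
        (LinearMap.rTensor M (TensorProduct.mk R S I 1) y) =
      LinearMap.rTensor M (TensorProduct.mk R S R 1) (LinearMap.rTensor M I.subtype y) := by
    intro y
    induction y using TensorProduct.induction_on with
    | zero => simp
    | tmul i m => simp
    | add a b ha hb => simp only [map_add, ha, hb]
  have hker : LinearMap.rTensor M ((LinearMap.baseChange S I.subtype).restrictScalars R)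
      (LinearMap.rTensor M (TensorProduct.mk R S I 1) x) = 0 := by
    rw [h2, hx, map_zero]
  obtain ⟨w, hw⟩ := ker_le_range R S M (LinearMap.baseChange S I.subtype) _ hker
  have hvan : ∀ w : (LinearMap.ker (LinearMap.baseChange S I.subtype)) ⊗[R] M,
      Xi E ξ (LinearMap.rTensor M
        ((LinearMap.ker (LinearMap.baseChange S I.subtype)).subtype.restrictScalars R) w) = 0 := by
    intro w
    induction w using TensorProduct.induction_on with
    | zero => simp
    | tmul l m =>
      rw [LinearMap.rTensor_tmul]
      exact Xi_vanish I E ξ l.1 (LinearMap.mem_ker.1 l.2) m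
    | add a b ha hb => simp only [map_add, ha, hb, add_zero]
  rw [← hw]
  exact hvan w

end Groth.Agent.S0274
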