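import Groth.Statements.S6893
import Groth.Agent.S0274
import Groth.Agent.H57.NilDescent

set_option autoImplicit false
universe u
open TensorProduct
open CAlg

namespace Groth.Agent.S6893

open LinearMap in
/-- Flatness of a base change from injectivity on ideals, tested over the base. -/
theorem flat_baseChange_of_forall {A : Type u} [CommRing A] (B : Type u) [CommRing B] [Algebra A B]
    (M : Type u) [AddCommGroup M] [Module A M]
    (h : ∀ J : Ideal B, Function.Injective (rTensor M (J.subtype.restrictScalars A))) :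
    Module.Flat B (B ⊗[A] M) := by
  rw [Module.Flat.iff_rTensor_injective']
  intro J x y hxy
  have h1 := congrArg (AlgebraTensorModule.cancelBaseChange A B B B M) hxy
  rw [Groth.Agent.S0274.cancel_nat, Groth.Agent.S0274.cancel_nat] at h1
  exact (AlgebraTensorModule.cancelBaseChange A B B J M).injective (h J h1)

open LinearMap in
/-- The diagram chase. -/
theorem chase {R : Type u} [CommRing R] (M : Type u) [AddCommGroup M] [Module R M]
    (I₁ I₂ : Ideal R) [Module.Flat (R ⧸ I₁) ((R ⧸ I₁) ⊗[R] M)]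
    [Module.Flat (R ⧸ I₂) ((R ⧸ I₂) ⊗[R] M)]
    {V W W₁ W₂ : Type u} [AddCommGroup V] [Module R V] [AddCommGroup W] [Module R W]
    [AddCommGroup W₁] [Module R W₁] [AddCommGroup W₂] [Module R W₂]
    (ι : V →ₗ[R] W) (π₁ : W →ₗ[R] W₁) (π₂ : W →ₗ[R] W₂)
    (h1 : Module.IsTorsionBySet R W₁ (I₁ : Set R)) (h2 : Module.IsTorsionBySet R W₂ (I₂ : Set R))
    (ha : ∀ v : V, π₁ (ι v) = 0 → ∀ b ∈ I₂, b • v = 0)
    (hb : ∀ v : V, π₁ (ι v) = 0 → π₂ (ι v) = 0 → v = 0) :
    Function.Injective (rTensor M ι) := by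
  rw [injective_iff_map_eq_zero]
  intro x hx
  have hr_tors : Module.IsTorsionBySet R (LinearMap.range (π₁ ∘ₗ ι)) (I₁ : Set R) := by
    intro w a
    apply Subtype.ext
    exact h1 (x := w.1) (a := a)
  have hinj1 : Function.Injective (rTensor M (LinearMap.range (π₁ ∘ₗ ι)).subtype) :=
    Groth.Agent.H57.rTensor_injective_of_torsion (M := M) I₁ hr_tors h1 _
      (Submodule.injective_subtype _)
  have hgx : rTensor M (π₁ ∘ₗ ι) x = 0 := by
    rw [LinearMap.rTensor_comp_apply, hx, map_zero]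
  have hq : rTensor M (π₁ ∘ₗ ι).rangeRestrict x = 0 := by
    apply hinj1
    rw [map_zero, ← LinearMap.rTensor_comp_apply]
    exact hgx
  have hex : Function.Exact (rTensor M (LinearMap.ker (π₁ ∘ₗ ι).rangeRestrict).subtype)
      (rTensor M (π₁ ∘ₗ ι).rangeRestrict) :=
    rTensor_exact M (LinearMap.exact_subtype_ker_map _)
      (LinearMap.surjective_rangeRestrict (π₁ ∘ₗ ι))
  obtain ⟨y, rfl⟩ := (hex x).1 hq
  have hgv : ∀ v : LinearMap.ker (π₁ ∘ₗ ι).rangeRestrict, π₁ (ι v.1) = 0 := by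
    intro v
    have := congrArg Subtype.val (LinearMap.mem_ker.1 v.2)
    exact this
  have hK_tors : Module.IsTorsionBySet R (LinearMap.ker (π₁ ∘ₗ ι).rangeRestrict)
      (I₂ : Set R) := by
    intro v b
    apply Subtype.ext
    exact ha v.1 (hgv v) b.1 b.2
  have hinjh : Function.Injective
      (π₂ ∘ₗ ι ∘ₗ (LinearMap.ker (π₁ ∘ₗ ι).rangeRestrict).subtype) := by
    rw [injective_iff_map_eq_zero]
    intro v hv
    apply Subtype.ext
    exact hb v.1 (hgv v) hv
  have hinj2 := Groth.Agent.H57.rTensor_injective_of_torsion (M := M) I₂ hK_tors h2 _ hinjh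
  have hy : y = 0 := by
    apply hinj2
    rw [map_zero, LinearMap.rTensor_comp_apply, LinearMap.rTensor_comp_apply, hx, map_zero]
  rw [hy, map_zero]

theorem tors_quot {R : Type u} [CommRing R] (I : Ideal R) :
    Module.IsTorsionBySet R (R ⧸ I) (I : Set R) := by
  intro x a
  obtain ⟨r, rfl⟩ := Ideal.Quotient.mk_surjective x
  rw [Algebra.smul_def, Ideal.Quotient.algebraMap_eq, ← map_mul, Ideal.Quotient.eq_zero_iff_mem]
  exact I.mul_mem_right r a.2

/-- Let `M` be a module over a ring `R` and `I₁, I₂ ⊆ R` ideals. Suppose flatness of `M/I₁M` as an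
`R/I₁`-module holds, and likewise `M/I₂M` is a flat `R/I₂`-module; then the quotient `M/(I₁ ∩ I₂)M`
is also flat as a module over `R/(I₁ ∩ I₂)`. -/
theorem result {R : Type u} [CommRing R] (M : Type u) [AddCommGroup M] [Module R M]
    (I₁ I₂ : Ideal R) [Module.Flat (R ⧸ I₁) ((R ⧸ I₁) ⊗[R] M)] [Module.Flat (R ⧸ I₂) ((R ⧸ I₂) ⊗[R] M)] :
    Module.Flat (R ⧸ (I₁ ⊓ I₂)) ((R ⧸ (I₁ ⊓ I₂)) ⊗[R] M) := by
  have hle1 : I₁ ⊓ I₂ ≤ I₁ := inf_le_left
  have hle2 : I₁ ⊓ I₂ ≤ I₂ := inf_le_right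
  apply flat_baseChange_of_forall
  intro J
  have key1 : ∀ v : J, (Ideal.Quotient.factorₐ R hle1).toLinearMap
      ((J.subtype.restrictScalars R) v) = 0 → ∃ r ∈ I₁, Ideal.Quotient.mk (I₁ ⊓ I₂) r = v.1 := by
    intro v hv
    obtain ⟨r, hr⟩ := Ideal.Quotient.mk_surjective v.1
    refine ⟨r, ?_, hr⟩
    have h0 : Ideal.Quotient.factor hle1 (Ideal.Quotient.mk (I₁ ⊓ I₂) r) = 0 := by
      rw [hr]; exact hv
    rwa [Ideal.Quotient.factor_mk, Ideal.Quotient.eq_zero_iff_mem] at h0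
  refine chase M I₁ I₂ (J.subtype.restrictScalars R)
    (Ideal.Quotient.factorₐ R hle1).toLinearMap (Ideal.Quotient.factorₐ R hle2).toLinearMap
    (tors_quot I₁) (tors_quot I₂) ?_ ?_
  · intro v hv b hb
    obtain ⟨r, hr1, hr⟩ := key1 v hv
    apply Subtype.ext
    show b • v.1 = 0
    rw [← hr, Algebra.smul_def, Ideal.Quotient.algebraMap_eq, ← map_mul,
      Ideal.Quotient.eq_zero_iff_mem]
    exact ⟨I₁.mul_mem_left b hr1, I₂.mul_mem_right r hb⟩
  · intro v hv1 hv2
    obtain ⟨r, hr1, hr⟩ := key1 v hv1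
    have hr2 : r ∈ I₂ := by
      have h0 : Ideal.Quotient.factor hle2 (Ideal.Quotient.mk (I₁ ⊓ I₂) r) = 0 := by
        rw [hr]; exact hv2
      rwa [Ideal.Quotient.factor_mk, Ideal.Quotient.eq_zero_iff_mem] at h0
    apply Subtype.ext
    show v.1 = 0
    rw [← hr, Ideal.Quotient.eq_zero_iff_mem]
    exact ⟨hr1, hr2⟩

end Groth.Agent.S6893
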