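import Groth.Statements.S18934
import Mathlib
import Groth.Agent.H66.ExpandSyntomic

set_option autoImplicit false
set_option linter.style.haveILetI false
set_option linter.unusedSectionVars false
set_option linter.unusedVariables false
universe u
open Synt

namespace Groth.Agent.S18934

section Helpers

section General

open MvPolynomial TensorProduct

variable {R S : Type u} [CommRing R] [CommRing S] [Algebra R S]

/-- Variant of `Groth.Agent.H66.ExpandSyntomic.syntomic_of_root_basis` without the Noetherian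
hypothesis (finite presentation comes from finite freeness). -/
theorem syntomic_of_root_basis' (p m : ℕ) (hp : 0 < p) (y : Fin m → S)
    (t : Fin m → R) (hy : ∀ i, y i ^ p = algebraMap R S (t i))
    (b : Module.Basis (Fin m → Fin p) R S) (hb : ∀ e, b e = ∏ i, y i ^ (e i : ℕ)) :
    Synt.IsSyntomic R S ∧ Module.FaithfullyFlat R S := by
  classical
  have : Module.Free R S := Module.Free.of_basis b
  have : Module.Finite R S := Module.Finite.of_basis b
  have : Nonempty (Fin m → Fin p) := ⟨fun _ => ⟨0, hp⟩⟩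
  have : Module.FinitePresentation R S := Module.finitePresentation_of_projective R S
  refine ⟨⟨inferInstance, ?_, ?_⟩, ?_⟩
  · infer_instance
  · intro 𝔭
    refine ⟨inferInstance, fun q => ⟨1, ?_, ?_⟩⟩
    · exact (Ideal.ne_top_iff_one _).mp q.2.ne_top
    · right
      obtain ⟨hsurj, hker⟩ := Groth.Agent.H66.ExpandSyntomic.fibre_presentation
        (κ := 𝔭.asIdeal.ResidueField) p m hp y t hy b hb
      obtain ⟨θ₀⟩ : Nonempty (𝔭.asIdeal.Fiber S ≃ₐ[𝔭.asIdeal.Fiber S]
          Localization.Away (1 : 𝔭.asIdeal.Fiber S)) :=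
        ⟨IsLocalization.atUnits (𝔭.asIdeal.Fiber S) (Submonoid.powers (1 : 𝔭.asIdeal.Fiber S))
          (by rintro _ ⟨n, rfl⟩; simp)⟩
      obtain ⟨θ, hθ⟩ : ∃ θ : 𝔭.asIdeal.Fiber S ≃ₐ[𝔭.asIdeal.ResidueField]
          Localization.Away (1 : 𝔭.asIdeal.Fiber S), ∀ x, θ x = θ₀ x :=
        ⟨θ₀.restrictScalars 𝔭.asIdeal.ResidueField, fun _ => rfl⟩
      refine ⟨m, m, le_rfl,
        θ.toAlgHom.comp (aeval (fun i => (1 : 𝔭.asIdeal.ResidueField) ⊗ₜ[R] y i)),
        fun i => (X i : MvPolynomial (Fin m) 𝔭.asIdeal.ResidueField) ^ p -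
          C (algebraMap R 𝔭.asIdeal.ResidueField (t i)), ?_, ?_, ?_⟩
      · exact θ.surjective.comp hsurj
      · rw [← hker]
        ext x
        simp only [RingHom.mem_ker, AlgHom.toRingHom_eq_coe, RingHom.coe_coe, AlgHom.comp_apply]
        exact ⟨fun h => θ.injective (h.trans (map_zero θ).symm),
          fun h => by rw [h]; exact map_zero _⟩
      · have : Nontrivial (𝔭.asIdeal.Fiber S) :=
          ⟨⟨(b.baseChange 𝔭.asIdeal.ResidueField) (fun _ => ⟨0, hp⟩), 0,
            (b.baseChange 𝔭.asIdeal.ResidueField).ne_zero _⟩⟩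
        have : IsArtinianRing (𝔭.asIdeal.Fiber S) :=
          IsArtinianRing.of_finite 𝔭.asIdeal.ResidueField _
        rw [Nat.sub_self, Nat.cast_zero, ← ringKrullDim_eq_of_ringEquiv θ.toRingEquiv,
          ← ringKrullDimZero_iff_ringKrullDim_eq_zero]
        infer_instance
  · rcases subsingleton_or_nontrivial R with hR | hR
    · refine ⟨fun 𝔪 h𝔪 => ?_⟩
      exact absurd (Subsingleton.elim _ _) h𝔪.ne_top
    · have : Nontrivial S := ⟨⟨b (fun _ => ⟨0, hp⟩), 0, b.ne_zero _⟩⟩
      infer_instance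

end General

section Adjoin

open Polynomial

theorem adjoin_main (p : ℕ) (hp : 0 < p) (A : Type u) [CommRing A] (a : A) :
    Synt.IsSyntomic A (AdjoinRoot (X ^ p - C a)) ∧
      Module.FaithfullyFlat A (AdjoinRoot (X ^ p - C a)) := by
  classical
  rcases subsingleton_or_nontrivial A with hA | hA
  · haveI : Subsingleton (AdjoinRoot (X ^ p - C a : A[X])) := Module.subsingleton A _
    haveI : Algebra.FinitePresentation A (AdjoinRoot (X ^ p - C a : A[X])) :=
      Algebra.FinitePresentation.quotient (Submodule.fg_span_singleton _)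
    exact ⟨⟨inferInstance, inferInstance, fun 𝔭 => isEmptyElim 𝔭⟩,
      ⟨fun 𝔪 h𝔪 => absurd (Subsingleton.elim _ _) h𝔪.ne_top⟩⟩
  have hmon : (X ^ p - C a : A[X]).Monic := monic_X_pow_sub_C a hp.ne'
  have hdim : (AdjoinRoot.powerBasis' hmon).dim = p := by
    rw [AdjoinRoot.powerBasis'_dim, natDegree_X_pow_sub_C]
  obtain ⟨e, he⟩ : ∃ e : Fin (AdjoinRoot.powerBasis' hmon).dim ≃ (Fin 1 → Fin p),
      ∀ x, ((e.symm x : Fin (AdjoinRoot.powerBasis' hmon).dim) : ℕ) = (x 0 : ℕ) :=
    ⟨(finCongr hdim).trans (Equiv.funUnique (Fin 1) (Fin p)).symm, fun x => by simp⟩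
  have hroot : (AdjoinRoot.root (X ^ p - C a : A[X])) ^ p
      = algebraMap A (AdjoinRoot (X ^ p - C a)) a := by
    have h0 : AdjoinRoot.mk (X ^ p - C a : A[X]) (X ^ p - C a) = 0 := AdjoinRoot.mk_self
    rw [map_sub, map_pow, AdjoinRoot.mk_X, sub_eq_zero] at h0
    rw [h0, AdjoinRoot.algebraMap_eq]
    rfl
  refine syntomic_of_root_basis' p 1 hp (fun _ => AdjoinRoot.root (X ^ p - C a : A[X]))
    (fun _ => a) (fun _ => hroot) ((AdjoinRoot.powerBasis' hmon).basis.reindex e) ?_
  intro x
  rw [Module.Basis.reindex_apply, (AdjoinRoot.powerBasis' hmon).basis_eq_pow, he,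
    AdjoinRoot.powerBasis'_gen, Fin.prod_univ_one]

end Adjoin

end Helpers


open Polynomial in
/-- Let p be a prime, A a commutative ring and a an element of A. Then the A-algebra A[T]/(T^p − a) is
syntomic and faithfully flat over A. This is the step of the source's proof showing that adjoining a
p-th root of any element is a covering for the syntomic topology. -/
theorem result (p : ℕ) [Fact p.Prime]
    (A : Type u) [CommRing A] (a : A) :
    Synt.IsSyntomic A (AdjoinRoot (X ^ p - C a)) ∧ Module.FaithfullyFlat A (AdjoinRoot (X ^ p - C a)) := by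
  exact adjoin_main p (Fact.out : p.Prime).pos A a

end Groth.Agent.S18934
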