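import Groth.Statements.S0008
-- import your own Groth.Agent.* helpers here
import Groth.Agent.H45.AffineCech

set_option autoImplicit false
universe u
open Coherent

namespace Groth.Agent.S0008

open AlgebraicGeometry in
/-- For a ring A, an A-module M and elements f_1, …, f_n generating the unit ideal, the Čech cohomology
of the associated module on Spec A with respect to the covering by the basic opens D(f_i) vanishes
in every positive degree. -/
theorem result (A : Type u) [CommRing A] (M : ModuleCat.{u} A)
    (n : ℕ) (f : ULift.{u} (Fin n) → A) (hf : Ideal.span (Set.range f) = ⊤) (p : ℕ) (hp : 0 < p) :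
    CategoryTheory.Limits.IsZero (CohB1.cechH (fun i => PrimeSpectrum.basicOpen (f i)) (tilde (R := CommRingCat.of A) M) p) := by
  obtain ⟨q, rfl⟩ := Nat.exists_eq_succ_of_ne_zero hp.ne'
  let X : Scheme.{u} := Spec (CommRingCat.of A)
  let g : ULift.{u} (Fin n) → Γ(X, ⊤) := fun i => (Scheme.ΓSpecIso (CommRingCat.of A)).inv (f i)
  have hg : ∀ i, X.basicOpen (g i) = PrimeSpectrum.basicOpen (f i) := fun i =>
    basicOpen_eq_of_affine (R := CommRingCat.of A) (f i)
  have hcov : ⨆ i, X.basicOpen (g i) = X.basicOpen (1 : Γ(X, ⊤)) := by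
    rw [Scheme.basicOpen_one]
    simp only [hg]
    exact (PrimeSpectrum.iSup_basicOpen_eq_top_iff (f := f)).2 hf
  have h := Groth.Agent.H45.AffineCech.isZero_cech_homology
    (X := X) (tilde (R := CommRingCat.of A) M) g 1 hcov q
  have e : (fun i => X.basicOpen (g i)) = (fun i => (PrimeSpectrum.basicOpen (f i) : X.Opens)) :=
    funext hg
  rw [e] at h
  exact h

end Groth.Agent.S0008
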