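import Groth.Statements.S0011
-- import your own Groth.Agent.* helpers here
import Groth.Agent.H45.MonoAcyclic

set_option autoImplicit false
universe u
open Coherent

namespace Groth.Agent.S0011

open AlgebraicGeometry CategoryTheory in
/-- On a quasi-compact scheme in which affine opens have affine intersections, every quasi-coherent
module admits a monomorphism into a quasi-coherent module whose cohomology vanishes in all positive
degrees. (Part (2), universality of the delta-functor, is not stated.) -/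
theorem result (X : Scheme.{u}) [CompactSpace X]
    (hd : ∀ V W : X.Opens, IsAffineOpen V → IsAffineOpen W → IsAffineOpen (V ⊓ W))
    (M : X.Modules) [Coh.IsQCoh M] :
    ∃ (M' : X.Modules) (i : M ⟶ M'), Mono i ∧ Coh.IsQCoh M' ∧
      ∀ p : ℕ, 0 < p → Subsingleton (Coh.HH X M' p) := by
  classical
  -- a finite affine cover
  obtain ⟨t, ht⟩ := isCompact_univ.elim_finite_subcover
    (fun U : X.affineOpens => ((U.1 : X.Opens) : Set X)) (fun U => U.1.isOpen) (by
      intro x _
      obtain ⟨_, ⟨W, hW, rfl⟩, hxW, -⟩ :=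
        X.isBasis_affineOpens.exists_subset_of_mem_open (Set.mem_univ x) isOpen_univ
      exact Set.mem_iUnion.2 ⟨⟨W, hW⟩, hxW⟩)
  let s : Finset X.Opens := t.image Subtype.val
  have hs : ∀ U ∈ s, IsAffineOpen U := by
    intro U hU
    obtain ⟨W, -, rfl⟩ := Finset.mem_image.1 hU
    exact W.2
  have hcov : ∀ x : X, ∃ U ∈ s, x ∈ U := by
    intro x
    obtain ⟨W, hW⟩ := Set.mem_iUnion.1 (ht (Set.mem_univ x))
    obtain ⟨hWt, hxW⟩ := Set.mem_iUnion.1 hW
    exact ⟨W.1, Finset.mem_image_of_mem _ hWt, hxW⟩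
  haveI : M.IsQuasicoherent := ‹Coh.IsQCoh M›
  obtain ⟨M', φ, hg⟩ := Groth.Agent.H45.MonoAcyclic.exists_good M hd s hs
  refine ⟨M', φ, ?_, hg.qcoh, ?_⟩
  · apply (Scheme.Modules.toPresheaf X).mono_of_mono_map
    apply (config := { allowSynthFailures := true }) NatTrans.mono_of_mono_app
    rintro ⟨V⟩
    rw [AddCommGrpCat.mono_iff_injective]
    refine (injective_iff_map_eq_zero (φ.app V).hom).2 (fun x hx => ?_)
    have hk := hg.ker V x hx
    refine TopCat.Sheaf.eq_of_locally_eq' (C := AddCommGrpCat.{u}) (Coh.toAb M)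
      (fun U : s => U.1.ι ''ᵁ (U.1.ι ⁻¹ᵁ V)) V
      (fun U => homOfLE (Groth.Agent.H45.MonoAcyclic.image_preimage_le U.1 V)) ?_ _ _ ?_
    · intro y hy
      obtain ⟨U, hU, hyU⟩ := hcov y
      exact TopologicalSpace.Opens.mem_iSup.2 ⟨⟨U, hU⟩, ⟨⟨y, hyU⟩, hy, rfl⟩⟩
    · intro U
      exact (hk U.1 U.2).trans (map_zero ((Coh.toAb M).obj.map (homOfLE
        (Groth.Agent.H45.MonoAcyclic.image_preimage_le U.1 V)).op).hom).symm
  · intro p hp
    obtain ⟨q, rfl⟩ := Nat.exists_eq_succ_of_ne_zero hp.ne'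
    exact hg.acyc q

end Groth.Agent.S0011
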