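import Groth.Statements.S0013
-- import your own Groth.Agent.* helpers here
import Groth.Agent.H45.AffineOpenVanishing
import Groth.Agent.S0941

set_option autoImplicit false
universe u
open Coherent

namespace Groth.Agent.S0013

open AlgebraicGeometry in
/-- Let X be a scheme with an open covering all of whose nonempty finite intersections are affine. For a
quasi-coherent module M and every degree p, Čech cohomology with respect to this covering is
isomorphic to sheaf cohomology; only the existence of an isomorphism of additive groups is asserted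
(the published statement gives an isomorphism of modules over the global sections). -/
theorem result (X : Scheme.{u}) {ι : Type u}
    (U : ι → X.Opens) (hcov : ⨆ i, U i = ⊤)
    (hU : ∀ s : Finset ι, s.Nonempty → IsAffineOpen (⨅ i ∈ s, U i))
    (M : X.Modules) [Coh.IsQCoh M] (p : ℕ) :
    Nonempty (↑(CohB1.cechH U M p) ≃+ Coh.HH X M p) := by
  classical
  let F : CohTop.Ab X.carrier := Coh.toAb M
  let Y : ι → CategoryTheory.Over (⊤ : TopologicalSpace.Opens X.carrier) :=
    Groth.Agent.H67.CechTop.famOver ⊤ U (fun _ => le_top)
  have hY := Groth.Agent.H67.CechTop.covering_of_iSup_eq Y hcov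
  have h : ∀ (n : ℕ) (a : Fin (n + 1) → ι) (q : ℕ),
      Subsingleton (CohSite.HU F (q + 1) (∏ᶜ fun k => Y (a k)).left) := by
    intro n a q
    rw [Groth.Agent.H67.CechTop.prod_left_eq_iInf]
    have e : (iInf fun k => (Y (a k)).left) = ⨅ i ∈ Finset.image a Finset.univ, U i := by
      apply le_antisymm
      · refine le_iInf (fun i => le_iInf (fun hi => ?_))
        obtain ⟨k, -, rfl⟩ := Finset.mem_image.1 hi
        exact iInf_le (fun k => (Y (a k)).left) k
      · refine le_iInf (fun k => ?_)
        exact (iInf_le _ (a k)).trans (iInf_le _ (Finset.mem_image_of_mem a (Finset.mem_univ k)))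
    rw [e]
    exact Groth.Agent.H45.AffineVanishing.subsingleton_HU_of_isAffineOpen M
      (hU _ ⟨a 0, Finset.mem_image_of_mem a (Finset.mem_univ 0)⟩) q
  obtain ⟨e₁⟩ := Groth.Agent.S0941.result (_root_.Opens.grothendieckTopology X.carrier)
    F Y hY h p
  let e₀ := (Groth.Agent.H67.CechTop.cechHIso F.obj Y p).addCommGroupIsoToAddEquiv
  let e₂ := Groth.Agent.H45.AffineVanishing.HTerminalAddEquiv
    (_root_.Opens.grothendieckTopology X.carrier)
    (CategoryTheory.Limits.isTerminalTop : CategoryTheory.Limits.IsTerminal
      (⊤ : TopologicalSpace.Opens X.carrier)) F p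
  exact ⟨(e₀.trans e₁).trans e₂⟩

end Groth.Agent.S0013
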