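import Groth.Statements.S0016
-- import your own Groth.Agent.* helpers here
import Groth.Agent.H45.AffineCoverVanishing
import Groth.Agent.S0015

set_option autoImplicit false
universe u
open Coherent

namespace Groth.Agent.S0016

open AlgebraicGeometry in
/-- For a quasi-compact quasi-separated scheme X there is a natural number d such that H^p(X, F) = 0 for
every quasi-coherent F and every p ≥ d; vanishing is stated as Subsingleton of the cohomology group.
(The published statement gives an explicit d in terms of a covering by quasi-compact separated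
opens; here only existence of some d is asserted.) -/
theorem result (X : Scheme.{u}) [CompactSpace X]
    [QuasiSeparatedSpace X] :
    ∃ d : ℕ, ∀ (M : X.Modules), Coh.IsQCoh M → ∀ p : ℕ, d ≤ p → Subsingleton (Coh.HH X M p) := by
  let P : X.Opens → Prop := fun W => ∃ d : ℕ, ∀ (M : X.Modules), Coh.IsQCoh M → ∀ p : ℕ, d ≤ p →
    Subsingleton (CohTop.HU (X := X.carrier) (Coh.toAb M) p W)
  have hP : P ⊤ := by
    refine Groth.Agent.S0015.result X P ?_ ?_ ⊤ isCompact_univ
    · intro U hU
      refine ⟨1, fun M hM p hp => ?_⟩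
      obtain ⟨q, rfl⟩ := Nat.exists_eq_succ_of_ne_zero (by omega : p ≠ 0)
      haveI : M.IsQuasicoherent := hM
      exact Groth.Agent.H45.AffineVanishing.subsingleton_HU_of_isAffineOpen M hU q
    · rintro U V - - ⟨dU, hdU⟩ ⟨dV, hdV⟩ ⟨dI, hdI⟩
      refine ⟨max (max dU dV) (dI + 1), fun M hM p hp => ?_⟩
      obtain ⟨q, rfl⟩ := Nat.exists_eq_succ_of_ne_zero (by omega : p ≠ 0)
      exact Groth.Agent.H45.MVVanish.subsingleton_HU_sup (X := X.carrier) (Coh.toAb M) U V q
        (hdI M hM q (by omega)) (hdU M hM (q + 1) (by omega)) (hdV M hM (q + 1) (by omega))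
  obtain ⟨d, hd⟩ := hP
  refine ⟨d, fun M hM p hp => ?_⟩
  have h := hd M hM p hp
  exact (Groth.Agent.H45.AffineVanishing.HTerminalAddEquiv
    (_root_.Opens.grothendieckTopology X.carrier)
    (CategoryTheory.Limits.isTerminalTop : CategoryTheory.Limits.IsTerminal
      (⊤ : TopologicalSpace.Opens X.carrier)) (Coh.toAb M) p).symm.subsingleton

end Groth.Agent.S0016
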