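import Groth.Statements.S0026
-- import your own Groth.Agent.* helpers here
import Groth.Agent.H8.DevMain3
import Groth.Agent.H86.Dev_FX

set_option autoImplicit false
universe u
open Coherent

namespace Groth.Agent.S0026

set_option linter.style.haveILetI false
open AlgebraicGeometry CategoryTheory CategoryTheory.Limits Groth.Agent.H8.Dev TopologicalSpace
open Groth.Agent.H86.Dev_FX
open scoped ZeroObject


open AlgebraicGeometry CategoryTheory CategoryTheory.Limits in
/-- On a Noetherian scheme X, every coherent module M admits a finite chain 0 = F_0 → F_1 → … → F_m ≅ M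
of monomorphisms between coherent modules such that each quotient F_{j+1}/F_j is isomorphic to the
direct image of a nonzero quasi-coherent ideal sheaf of some integral closed subscheme Z_j → X.
(Filtration written as a chain of monomorphisms up to isomorphism.) -/
theorem result (X : Scheme.{u}) [IsNoetherian X]
    (M : X.Modules) (hM : Coh.IsCoh M) :
    ∃ (m : ℕ) (F : ℕ → X.Modules) (φ : (j : ℕ) → (F j ⟶ F (j + 1))),
      IsZero (F 0) ∧ Nonempty (F m ≅ M) ∧ (∀ j ≤ m, Coh.IsCoh (F j)) ∧ ∀ j < m, Mono (φ j) ∧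
        ∃ (Z : Scheme.{u}) (i : Z ⟶ X), IsClosedImmersion i ∧ IsIntegral Z ∧
          ∃ (I : Z.Modules) (ι : I ⟶ Coh.structureModule Z), Mono ι ∧ Coh.IsQCoh I ∧ ¬ IsZero I ∧
            Nonempty (cokernel (φ j) ≅ (Coh.push i).obj I) := by
  let CohP : ObjectProperty X.Modules := fun N => Coh.IsCoh N
  let Good : ObjectProperty X.Modules := fun Q =>
    ∃ (Z : Scheme.{u}) (i : Z ⟶ X), IsClosedImmersion i ∧ IsIntegral Z ∧
      ∃ (I : Z.Modules) (ι : I ⟶ Coh.structureModule Z), Mono ι ∧ Coh.IsQCoh I ∧ ¬ IsZero I ∧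
        Nonempty (Q ≅ (Coh.push i).obj I)
  haveI : CohP.IsClosedUnderIsomorphisms :=
    ⟨fun e h => Groth.Agent.H90.QH.isCoh_of_iso e h⟩
  haveI : Good.IsClosedUnderIsomorphisms :=
    ⟨fun e ⟨Z, i, h1, h2, I, ι, h3, h4, h5, ⟨e'⟩⟩ => ⟨Z, i, h1, h2, I, ι, h3, h4, h5, ⟨e.symm ≪≫ e'⟩⟩⟩
  let K' : ObjectProperty X.Modules := FiltN CohP Good
  haveI : K'.IsClosedUnderIsomorphisms :=
    ⟨fun e ⟨m, F, φ, h1, ⟨e'⟩, h3, h4⟩ => ⟨m, F, φ, h1, ⟨e' ≪≫ e⟩, h3, h4⟩⟩
  have h0 : ∀ N : X.Modules, IsZero N → K' N := fun N hN =>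
    ⟨0, fun _ => N, fun _ => 𝟙 N, hN, ⟨Iso.refl _⟩,
      fun _ _ => Groth.Agent.H90.QH.isCoh_of_isZero hN, fun j hj => absurd hj (Nat.not_lt_zero j)⟩
  have hext : ∀ S : ShortComplex X.Modules, S.ShortExact → Coh.IsCoh S.X₁ → Coh.IsCoh S.X₂ →
      Coh.IsCoh S.X₃ → K' S.X₁ → K' S.X₃ → K' S.X₂ := fun S hS c1 c2 c3 k1 k3 =>
    FX CohP Good (fun f hA hB => Groth.Agent.H8.isCoh_kernel hA hB f)
      (fun f _ hA hB _ => Groth.Agent.H8.isCoh_cokernel hA hB f) S hS c1 c2 c3 k1 k3
  have key : K' M := by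
    refine skeleton K' h0 hext Set.univ ?_ M hM (Set.subset_univ _)
    intro T hT hirr _ y hy small N hN hNk hNT
    refine step_E K' h0 hext T hT hirr y hy ?_ small N hN hNk hNT
    intro Z i hi hZ _ I ι hι hq hcoh _
    by_cases hz : IsZero I
    · exact h0 _ ((Scheme.Modules.pushforward i).map_isZero hz)
    · set A := (Scheme.Modules.pushforward i).obj I with hA
      refine ⟨1, fun j => Nat.casesOn j (0 : X.Modules) (fun _ => A),
        fun j => match j with
          | 0 => (0 : (0 : X.Modules) ⟶ A)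
          | (_ + 1) => 𝟙 A,
        isZero_zero _, ⟨Iso.refl _⟩, ?_, ?_⟩
      · intro j hj
        match j, hj with
        | 0, _ => exact Groth.Agent.H90.QH.isCoh_of_isZero (isZero_zero _)
        | 1, _ => exact hcoh
      · intro j hj
        obtain rfl : j = 0 := Nat.lt_one_iff.mp hj
        refine ⟨⟨fun _ _ _ => (isZero_zero _).eq_of_tgt _ _⟩, Z, i, hi, hZ, I, ι, hι, hq, hz, ?_⟩
        exact ⟨cokernelZeroIsoTarget⟩
  exact key

end Groth.Agent.S0026
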