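import Groth.Statements.S0037
import Groth.Agent.H30.RpushLocal
import Groth.Agent.S0028
import Groth.Agent.S11319

set_option autoImplicit false
universe u
open Coherent

namespace Groth.Agent.S0037

set_option backward.isDefEq.respectTransparency false in
open AlgebraicGeometry CategoryTheory in
theorem aux2 {X Y : Scheme.{u}} (f : X ⟶ Y) (V₀ : Y.Opens) (V' : (V₀ : Scheme.{u}).Opens)
    [IsFinite (f ∣_ V₀)] : IsFinite (f ∣_ (V₀.ι ''ᵁ V')) :=
  (MorphismProperty.arrow_mk_iso_iff @IsFinite (morphismRestrictRestrict f V₀ V')).mp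
    inferInstance

open AlgebraicGeometry CategoryTheory CategoryTheory.Limits TopologicalSpace Opposite in
open Scheme.Modules Groth.Agent.H30.RpushQcoh Groth.Agent.H30.RpushLocal in
theorem aux {X Y : Scheme.{u}} (f : X ⟶ Y) (y : Y) (M : X.Modules)
    (hM : Coh.IsQCoh M) (p : ℕ) (hp : 0 < p)
    (V : Y.Opens) (hV : IsAffineOpen V) (hyV : y ∈ V) [IsFinite (f ∣_ V)] :
    Limits.IsZero (TopCat.Presheaf.stalk ((Coh.RpushAb f p).obj (Coh.toAb M)).obj y) := by
  haveI := hM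
  haveI : IsAffineHom (fV f hV) := by unfold fV; infer_instance
  have h0 := Groth.Agent.S0028.result (fV f hV) ((restrictFunctor (f ⁻¹ᵁ V).ι).obj M) p hp
  obtain ⟨e'⟩ := Groth.Agent.S11319.result (fV f hV) ((restrictFunctor (f ⁻¹ᵁ V).ι).obj M) p
  have hz' : IsZero ((Coh.Rpush (fV f hV) p).obj ((restrictFunctor (f ⁻¹ᵁ V).ι).obj M)) :=
    isZero_of_isZero_toAb _ (h0.of_iso e')
  obtain ⟨i⟩ := nonempty_restrict_Rpush_iso f hV M p
  have hzN : IsZero ((restrictFunctor hV.fromSpec).obj ((Coh.Rpush f p).obj M)) := hz'.of_iso i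
  obtain ⟨e⟩ := Groth.Agent.S11319.result f M p
  refine IsZero.of_iso ?_ ((TopCat.Presheaf.stalkFunctor AddCommGrpCat.{u} y).mapIso
    ((sheafToPresheaf _ _).mapIso e.symm))
  -- sections over small opens vanish
  have hsub : ∀ W : Y.Opens, W ≤ V →
      Subsingleton ((Coh.toAb ((Coh.Rpush f p).obj M)).obj.obj (op W)) := by
    intro W hW
    have e1 : hV.fromSpec ''ᵁ (hV.fromSpec ⁻¹ᵁ W) = W := by
      rw [Scheme.Hom.image_preimage_eq_opensRange_inf, hV.opensRange_fromSpec]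
      exact inf_eq_right.mpr hW
    have h1 := (SheafOfModules.toSheaf _).map_isZero hzN
    have h2 := ((sheafSections _ _).obj (op (hV.fromSpec ⁻¹ᵁ W))).map_isZero h1
    have h3 : Subsingleton ((Coh.toAb ((Coh.Rpush f p).obj M)).obj.obj
        (op (hV.fromSpec ''ᵁ (hV.fromSpec ⁻¹ᵁ W)))) :=
      AddCommGrpCat.subsingleton_of_isZero h2
    rw [e1] at h3
    exact h3
  show IsZero (TopCat.Presheaf.stalk (C := AddCommGrpCat.{u})
    (Coh.toAb ((Coh.Rpush f p).obj M)).obj y)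
  have key : ∀ g : ToType (TopCat.Presheaf.stalk (C := AddCommGrpCat.{u})
      (Coh.toAb ((Coh.Rpush f p).obj M)).obj y), g = 0 := by
    intro g
    obtain ⟨U, hyU, s, rfl⟩ :=
      TopCat.Presheaf.exists_germ_eq (C := AddCommGrpCat.{u})
        (Coh.toAb ((Coh.Rpush f p).obj M)).obj g
    have h4 := TopCat.Presheaf.germ_res_apply (C := AddCommGrpCat.{u})
      (Coh.toAb ((Coh.Rpush f p).obj M)).obj (homOfLE (inf_le_left : U ⊓ V ≤ U)) y ⟨hyU, hyV⟩ s
    rw [← h4]
    haveI := hsub (U ⊓ V) inf_le_right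
    rw [Subsingleton.elim (((Coh.toAb ((Coh.Rpush f p).obj M)).obj.map
      (homOfLE (inf_le_left : U ⊓ V ≤ U)).op) s) 0, map_zero]
  exact @AddCommGrpCat.isZero_of_subsingleton _ ⟨fun a b => by rw [key a, key b]⟩

open AlgebraicGeometry CategoryTheory in
/-- Let Y be locally Noetherian, f : X → Y proper and y a point whose fibre f⁻¹{y} is finite. Then for
every coherent F on X and every p > 0 the stalk of R^p f_* F at y vanishes. -/
theorem result {X Y : Scheme.{u}} (f : X ⟶ Y) [IsProper f]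
    [IsLocallyNoetherian Y] (y : Y) (hy : (f.base ⁻¹' {y}).Finite) (M : X.Modules) (hM : Coh.IsCoh M)
    (p : ℕ) (hp : 0 < p) :
    Limits.IsZero (TopCat.Presheaf.stalk ((Coh.RpushAb f p).obj (Coh.toAb M)).obj y) := by
  classical
  obtain ⟨V₀, hyV₀, hfin⟩ := exists_isFinite_morphismRestrict_of_finite_preimage_singleton f y hy
  haveI : IsFinite (f ∣_ V₀) := hfin
  obtain ⟨_, ⟨V', hV', rfl⟩, hyV', -⟩ :=
    (V₀ : Scheme.{u}).isBasis_affineOpens.exists_subset_of_mem_open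
      (Set.mem_univ (⟨y, hyV₀⟩ : V₀)) isOpen_univ
  have hV : IsAffineOpen (V₀.ι ''ᵁ V') := hV'.image_of_isOpenImmersion V₀.ι
  have hyV : y ∈ V₀.ι ''ᵁ V' := ⟨⟨y, hyV₀⟩, hyV', rfl⟩
  haveI hfinV : IsFinite (f ∣_ (V₀.ι ''ᵁ V')) := Groth.Agent.S0037.aux2 f V₀ V'
  exact Groth.Agent.S0037.aux f y M hM.1 p hp _ hV hyV

end Groth.Agent.S0037
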