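import Groth.Statements.S0043
import Groth.Agent.H16.CechAcyc
import Groth.Agent.H82.FullCechGeo2
import Groth.Agent.H82.CechGeo
import Groth.Agent.H8.StructureCoh
import Groth.Agent.S9264
import Groth.Agent.H45.AffineVanishing

set_option autoImplicit false
universe u
open Coherent

namespace Groth.Agent.S0043

set_option linter.style.haveILetI false
set_option linter.unusedSectionVars false
set_option linter.unusedVariables false

open CategoryTheory CategoryTheory.Limits AlgebraicGeometry TopologicalSpace Opposite DerCA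

section helpers
set_option backward.isDefEq.respectTransparency false
set_option backward.isDefEq.respectTransparency.types false

open Groth.Agent.H82 in
/-- A finite list of global functions whose basic opens are affine and cover `X`. -/
theorem exists_list (X : Scheme.{u}) [X.IsQuasiAffine] :
    ∃ fs : List Γ(X, ⊤), (∀ i : Fin fs.length, IsAffineOpen (X.basicOpen (fs.get i))) ∧
      (⨆ i : Fin fs.length, X.basicOpen (fs.get i)) = ⊤ := by
  classical
  have hB := Scheme.IsQuasiAffine.isBasis_basicOpen X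
  let S : Set Γ(X, ⊤) := {r | IsAffineOpen (X.basicOpen r)}
  have hcov : (Set.univ : Set X) ⊆ ⋃ r : S, (X.basicOpen r.1 : Set X) := by
    intro x _
    obtain ⟨v, ⟨_, ⟨r, hr, rfl⟩, rfl⟩, hxv, -⟩ := hB.exists_subset_of_mem_open (Set.mem_univ x) isOpen_univ
    exact Set.mem_iUnion.2 ⟨⟨r, hr⟩, hxv⟩
  obtain ⟨t, ht⟩ := isCompact_univ.elim_finite_subcover (fun r : S => (X.basicOpen r.1 : Set X))
    (fun r => (X.basicOpen r.1).isOpen) hcov
  refine ⟨t.toList.map (fun r => r.1), ?_, ?_⟩
  · intro i
    have hmem : (t.toList.map (fun r : S => r.1)).get i ∈ t.toList.map (fun r : S => r.1) :=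
      List.get_mem _ _
    obtain ⟨r, -, hr⟩ := List.mem_map.1 hmem
    rw [← hr]
    exact r.2
  · refine le_antisymm le_top ?_
    intro x _
    obtain ⟨r, hr⟩ := Set.mem_iUnion.1 (ht (Set.mem_univ x))
    obtain ⟨hrt, hxr⟩ := Set.mem_iUnion.1 hr
    have hmem : r.1 ∈ t.toList.map (fun r : S => r.1) :=
      List.mem_map.2 ⟨r, Finset.mem_toList.2 hrt, rfl⟩
    obtain ⟨i, hi⟩ := List.mem_iff_get.1 hmem
    refine Opens.mem_iSup.2 ⟨i, ?_⟩
    rw [hi]
    exact hxr

open Groth.Agent.H82 in
theorem resN_bijective {X : Scheme.{u}} (F : X.Modules) (U : X.Opens) (hU : U = ⊤) :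
    Function.Bijective (CechGeo.resN F (le_top : U ≤ ⊤)) := by
  subst hU
  have h : ∀ s : CechGeo.NU F ⊤, CechGeo.resN F (le_top : (⊤ : X.Opens) ≤ ⊤) s = s := by
    intro s
    rw [CechGeo.resN_apply]
    have h1 : (homOfLE (le_top : (⊤ : X.Opens) ≤ ⊤)).op = 𝟙 (op (⊤ : X.Opens)) := rfl
    rw [h1, F.presheaf.map_id]
    rfl
  constructor
  · intro a b hab
    rw [h a, h b] at hab
    exact hab
  · intro b
    exact ⟨b, h b⟩

open Groth.Agent.H82 in
/-- The global sections of the structure module, as a module over the global functions. -/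
noncomputable def unitIso (X : Scheme.{u}) :
    ModuleCat.of Γ(X, ⊤) (CechGeo.NU (Coh.structureModule X) ⊤) ≅ ModuleCat.of Γ(X, ⊤) Γ(X, ⊤) :=
  LinearEquiv.toModuleIso
    { toFun := fun x => (show Γ(X, ⊤) from x)
      invFun := fun x => x
      map_add' := fun _ _ => rfl
      map_smul' := fun r x => by
        show (show Γ(X, ⊤) from (CechGeo.ρR (⊤ : X.Opens) r • (show Γ(Coh.structureModule X, ⊤) from x))) = _
        rw [CechGeo.ρR_top]
        rfl
      left_inv := fun _ => rfl
      right_inv := fun _ => rfl }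

end helpers

open AlgebraicGeometry in
/-- If X is quasi-affine and H^p(X, O_X) = 0 for all p > 0, then X is affine. -/
theorem result (X : Scheme.{u}) [X.IsQuasiAffine]
    (h : ∀ p : ℕ, 0 < p → Subsingleton (Coh.HH X (Coh.structureModule X) p)) : IsAffine X := by
  classical
  haveI : CompactSpace X := inferInstance
  haveI : X.IsSeparated := inferInstance
  haveI hqc : (Coh.structureModule X).IsQuasicoherent :=
    Groth.Agent.H8.isQuasicoherent_structureModule' X
  obtain ⟨fs, haff, hcov⟩ := exists_list X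
  set F := Coh.structureModule X with hF
  have hU : Groth.Agent.H82.CechGeo.Ufs fs = ⊤ := by
    rw [Groth.Agent.H82.CechGeo.Ufs_eq]; exact hcov
  have hbij := resN_bijective F _ hU
  have hvan : ∀ q : ℤ, IsZero (extCechH fs
      (ModuleCat.of Γ(X, ⊤) (Groth.Agent.H82.CechGeo.NU F ⊤)) q) := by
    intro q
    obtain ⟨⟨e0⟩, ⟨e1⟩⟩ := Groth.Agent.H82.CechGeo.nonempty_extCechH_equiv F fs
    by_cases hq0 : q < 0
    · exact Groth.Agent.S9264.result _ fs _ q (Or.inl hq0)
    obtain ⟨n, rfl⟩ := Int.eq_ofNat_of_zero_le (not_lt.1 hq0)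
    rcases n with _ | _ | p
    · -- q = 0
      haveI : Subsingleton (LinearMap.ker (Groth.Agent.H82.CechGeo.resN F
          (le_top : Groth.Agent.H82.CechGeo.Ufs fs ≤ ⊤))) := by
        rw [LinearMap.ker_eq_bot.2 hbij.1]
        infer_instance
      haveI : Subsingleton (extCechH fs
          (ModuleCat.of Γ(X, ⊤) (Groth.Agent.H82.CechGeo.NU F ⊤)) 0) := e0.toEquiv.subsingleton
      exact ModuleCat.isZero_of_subsingleton _
    · -- q = 1
      haveI : Subsingleton (Groth.Agent.H82.CechGeo.NU F (Groth.Agent.H82.CechGeo.Ufs fs) ⧸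
          LinearMap.range (Groth.Agent.H82.CechGeo.resN F
            (le_top : Groth.Agent.H82.CechGeo.Ufs fs ≤ ⊤))) := by
        rw [LinearMap.range_eq_top.2 hbij.2]
        infer_instance
      haveI : Subsingleton (extCechH fs
          (ModuleCat.of Γ(X, ⊤) (Groth.Agent.H82.CechGeo.NU F ⊤)) 1) := e1.toEquiv.subsingleton
      exact ModuleCat.isZero_of_subsingleton _
    · -- q = p + 2
      obtain ⟨a⟩ := Groth.Agent.H82.FullCech.nonempty_HU_equiv_cechH F fs haff (p + 1)
      obtain ⟨b⟩ := Groth.Agent.H82.FullCech.nonempty_cechH_iso F fs p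
      have c := Groth.Agent.H45.AffineVanishing.HTerminalAddEquiv
        (Opens.grothendieckTopology X.carrier)
        (isTerminalTop : IsTerminal (⊤ : Opens X.carrier)) (Coh.toAb F) (p + 1)
      haveI h1 : Subsingleton (Coh.HH X F (p + 1)) := h (p + 1) (Nat.succ_pos p)
      haveI h2 : Subsingleton (CohTop.HU (X := X.carrier) (Coh.toAb F) (p + 1)
          (⊤ : Opens X.carrier)) := c.toEquiv.subsingleton
      rw [hcov] at a
      haveI h3 : Subsingleton (CohB1.cechH
          (fun i : ULift.{u} (Fin fs.length) => X.basicOpen (fs.get i.down)) F (p + 1)) :=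
        a.toEquiv.subsingleton
      haveI h4 : Subsingleton ((forget₂ (ModuleCat.{u} Γ(X, ⊤)) AddCommGrpCat.{u}).obj
          (extCechH fs (ModuleCat.of Γ(X, ⊤) (Groth.Agent.H82.CechGeo.NU F ⊤))
            (((p + 2 : ℕ) : ℤ)))) :=
        (b.symm.addCommGroupIsoToAddEquiv).toEquiv.subsingleton
      haveI h5 : Subsingleton (extCechH fs
          (ModuleCat.of Γ(X, ⊤) (Groth.Agent.H82.CechGeo.NU F ⊤)) (((p + 2 : ℕ) : ℤ))) := h4
      exact ModuleCat.isZero_of_subsingleton _
  have hvan' : ∀ q : ℤ, IsZero (extCechH fs (ModuleCat.of Γ(X, ⊤) Γ(X, ⊤)) q) := fun q =>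
    Groth.Agent.H16.CechAcyc.van_of_iso fs (unitIso X) (hvan q)
  have hspan := Groth.Agent.H16.CechAcyc.span_eq_top fs hvan'
  refine isAffine_of_isAffineOpen_basicOpen {x | x ∈ fs} hspan ?_
  intro r hr
  obtain ⟨i, hi⟩ := List.mem_iff_get.1 hr
  rw [← hi]
  exact haff i

end Groth.Agent.S0043
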