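import Groth.Statements.S0045
import Groth.Agent.H8.IsoCover
import Groth.Agent.H8.Coh
import Mathlib.AlgebraicGeometry.Noetherian

set_option autoImplicit false
universe u
open Coherent

namespace Groth.Agent.S0045


section Helpers
open AlgebraicGeometry CategoryTheory Groth.Agent.H8

/-- The chain of submodules of `Γ(M, U)` given by the sections of a chain of subobjects. -/
noncomputable def chain {X : Scheme.{u}} {M : X.Modules} (F : ℕ →o Subobject M) (U : X.Opens) :
    ℕ →o Submodule Γ(X, U) Γ(M, U) where
  toFun n := LinearMap.range (appₗ (F n).arrow U)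
  monotone' := by
    intro n m hnm
    have hle : F n ≤ F m := F.monotone hnm
    rintro _ ⟨x, rfl⟩
    refine ⟨appₗ (Subobject.ofLE _ _ hle) U x, ?_⟩
    have h1 : Subobject.ofLE _ _ hle ≫ (F m).arrow = (F n).arrow := Subobject.ofLE_arrow hle
    change (F m).arrow.app U ((Subobject.ofLE _ _ hle).app U x) = (F n).arrow.app U x
    rw [← h1]
    rfl

end Helpers

open AlgebraicGeometry CategoryTheory in
/-- On a Noetherian scheme, any increasing sequence of quasi-coherent submodules of a coherent module is
eventually constant. -/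
theorem result (X : Scheme.{u}) [IsNoetherian X] (M : X.Modules)
    (hM : Coh.IsCoh M) (F : ℕ →o Subobject M) (hF : ∀ n, Coh.IsQCoh ((F n : Subobject M) : X.Modules)) :
    ∃ n : ℕ, ∀ m : ℕ, n ≤ m → F m = F n := by
  classical
  -- a finite affine cover
  obtain ⟨t, ht⟩ := isCompact_univ.elim_finite_subcover
    (fun U : X.affineOpens => ((U : X.Opens) : Set X)) (fun U => (U : X.Opens).2) (by
      intro x _
      have hx : x ∈ (⨆ U : X.affineOpens, (U : X.Opens)) := by
        rw [iSup_affineOpens_eq_top]; trivial
      obtain ⟨U, hxU⟩ := TopologicalSpace.Opens.mem_iSup.mp hx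
      exact Set.mem_iUnion.mpr ⟨U, hxU⟩)
  -- stabilisation on each affine open
  have hstab : ∀ U : X.affineOpens, ∃ n, ∀ m, n ≤ m →
      chain F (U : X.Opens) n = chain F (U : X.Opens) m := by
    intro U
    haveI : IsNoetherianRing Γ(X, (U : X.Opens)) := IsLocallyNoetherian.component_noetherian U
    haveI : Module.Finite Γ(X, (U : X.Opens)) Γ(M, (U : X.Opens)) :=
      Groth.Agent.H8.finite_sections_of_isCoh M hM U.2
    haveI : IsNoetherian Γ(X, (U : X.Opens)) Γ(M, (U : X.Opens)) :=
      isNoetherian_of_isNoetherianRing_of_finite _ _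
    exact monotone_stabilizes_iff_noetherian.mpr inferInstance (chain F (U : X.Opens))
  choose N hN using hstab
  refine ⟨t.sup N, fun m hm => ?_⟩
  have hle : F (t.sup N) ≤ F m := F.monotone hm
  haveI : ((F (t.sup N) : Subobject M) : X.Modules).IsQuasicoherent := hF _
  haveI : ((F m : Subobject M) : X.Modules).IsQuasicoherent := hF _
  have harr : Subobject.ofLE _ _ hle ≫ (F m).arrow = (F (t.sup N)).arrow :=
    Subobject.ofLE_arrow hle
  have hcover : TopologicalSpace.IsOpenCover (fun U : t => ((U : X.affineOpens) : X.Opens)) := by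
    refine eq_top_iff.mpr (fun x _ => ?_)
    have hx := ht (Set.mem_univ x)
    simp only [Set.mem_iUnion] at hx
    obtain ⟨U, hUt, hxU⟩ := hx
    exact TopologicalSpace.Opens.mem_iSup.mpr ⟨⟨U, hUt⟩, hxU⟩
  haveI : IsIso (Subobject.ofLE _ _ hle) := by
    refine Groth.Agent.H8.isIso_of_bijective_affine_cover (Subobject.ofLE _ _ hle)
      (fun U : t => ((U : X.affineOpens) : X.Opens)) hcover (fun U => U.1.2) (fun U => ⟨?_, ?_⟩)
    · exact Groth.Agent.H8.app_injective_of_mono _ _
    · intro y
      have hNU : N U.1 ≤ t.sup N := Finset.le_sup (f := N) U.2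
      have h1 : chain F ((U : X.affineOpens) : X.Opens) (t.sup N) =
          chain F ((U : X.affineOpens) : X.Opens) m :=
        (hN U.1 _ hNU).symm.trans (hN U.1 _ (hNU.trans hm))
      have h2 : (F m).arrow.app ((U : X.affineOpens) : X.Opens) y ∈
          chain F ((U : X.affineOpens) : X.Opens) m := ⟨y, rfl⟩
      rw [← h1] at h2
      obtain ⟨x, hx⟩ := h2
      refine ⟨x, ?_⟩
      apply Groth.Agent.H8.app_injective_of_mono (F m).arrow
      have h3 : (F (t.sup N)).arrow.app ((U : X.affineOpens) : X.Opens) x =
          (F m).arrow.app ((U : X.affineOpens) : X.Opens) y := hx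
      rw [← h3, ← harr]
      rfl
  exact (Subobject.eq_of_comm (asIso (Subobject.ofLE _ _ hle)) harr).symm

end Groth.Agent.S0045
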