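import Groth.Statements.S0048
import Groth.Agent.H8.QCohPushLocal
import Groth.Agent.H8.FinType
import Groth.Agent.H8.Coh

set_option autoImplicit false
universe u
open Coherent

namespace Groth.Agent.S0048


section Helpers
open AlgebraicGeometry CategoryTheory TopologicalSpace Opposite

lemma presheaf_map_bijective_of_eq {X : Scheme.{u}} {A B : X.Opens} (h : A ≤ B) (e : A = B) :
    Function.Bijective (X.presheaf.map (homOfLE h).op) := by
  subst e
  have h1 : (homOfLE h).op = 𝟙 (op A) := rfl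
  rw [h1, X.presheaf.map_id]
  exact Function.bijective_id

end Helpers

open AlgebraicGeometry in
/-- Let U ⊆ X be open and T ⊆ U a subset closed in X. If F is a coherent (quasi-coherent of finite type,
i.e. `Coh.IsCoh`) module on U with support contained in T, then its direct image along U ↪ X is
again coherent in the same sense. (The published statement is for coherent modules in the usual
sense; here both hypothesis and conclusion use the notion `Coh.IsCoh`.) -/
theorem result (X : Scheme.{u}) (U : X.Opens) (T : Set X)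
    (hT : IsClosed T) (hTU : T ⊆ (U : Set X)) (F : (↑U : Scheme.{u}).Modules) (hF : Coh.IsCoh F)
    (hs : ∀ x : ↥U, x ∈ CohB1.support F → (x : X) ∈ T) : Coh.IsCoh ((Coh.push U.ι).obj F) := by
  haveI : F.IsQuasicoherent := hF.1
  let C : X.Opens := ⟨Tᶜ, hT.isOpen_compl⟩
  -- sections of the direct image vanish over opens not meeting `T`
  have hvan : ∀ V' : X.Opens, V' ≤ C →
      ∀ t : Γ((Scheme.Modules.pushforward U.ι).obj F, V'), t = 0 := by
    intro V' hV' t
    refine TopCat.Presheaf.section_ext ⟨F.presheaf, F.isSheaf⟩ (U.ι ⁻¹ᵁ V')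
      (show Γ(F, U.ι ⁻¹ᵁ V') from t) 0 (fun x hx => ?_)
    have hxs : x ∉ CohB1.support F := fun h => (hV' hx) (hs x h)
    have : Subsingleton ↑(F.presheaf.stalk x) := not_not.mp hxs
    exact Subsingleton.elim _ _
  -- the affine open cover
  let ι := {V : X.affineOpens // (V : X.Opens) ≤ U ∨ (V : X.Opens) ≤ C}
  let 𝒱 : ι → X.Opens := fun V => (V.1 : X.Opens)
  have hcov : TopologicalSpace.IsOpenCover 𝒱 := by
    refine eq_top_iff.mpr (fun x _ => ?_)
    by_cases hxU : x ∈ U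
    · obtain ⟨_, ⟨V, hV, rfl⟩, hxV, hVU⟩ :=
        X.isBasis_affineOpens.exists_subset_of_mem_open hxU U.2
      exact TopologicalSpace.Opens.mem_iSup.mpr ⟨⟨⟨V, hV⟩, Or.inl hVU⟩, hxV⟩
    · have hxC : x ∈ C := fun hxT => hxU (hTU hxT)
      obtain ⟨_, ⟨V, hV, rfl⟩, hxV, hVC⟩ :=
        X.isBasis_affineOpens.exists_subset_of_mem_open hxC C.2
      exact TopologicalSpace.Opens.mem_iSup.mpr ⟨⟨⟨V, hV⟩, Or.inr hVC⟩, hxV⟩
  have haff : ∀ V : ι, IsAffineOpen (𝒱 V) := fun V => V.1.2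
  have hpre : ∀ V : X.affineOpens, (V : X.Opens) ≤ U → IsAffineOpen (U.ι ⁻¹ᵁ (V : X.Opens)) :=
    fun V hV => V.2.preimage_of_isOpenImmersion U.ι (by rw [U.opensRange_ι]; exact hV)
  have hq : ((Scheme.Modules.pushforward U.ι).obj F).IsQuasicoherent := by
    refine Groth.Agent.H8.isQuasicoherent_of_sections_cover _ 𝒱 hcov haff ?_ ?_
    · rintro ⟨V, hV | hV⟩ a y
      · exact Groth.Agent.H8.pushforward_hex U.ι F (V : X.Opens) (hpre V hV).isCompact
          (hpre V hV).isQuasiSeparated a y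
      · exact ⟨0, 0, (hvan _ ((X.basicOpen_le a).trans hV) _).trans
          (hvan _ ((X.basicOpen_le a).trans hV) _).symm⟩
    · rintro ⟨V, hV | hV⟩ a x hx
      · exact Groth.Agent.H8.pushforward_hzero U.ι F (V : X.Opens) (hpre V hV).isCompact a x hx
      · exact ⟨0, hvan _ hV _⟩
  refine ⟨hq, ?_⟩
  haveI := hq
  refine Groth.Agent.H8.isFiniteType_of_finite_sections _ 𝒱 hcov haff ?_
  rintro ⟨V, hV | hV⟩
  · have hW : IsAffineOpen (U.ι ⁻¹ᵁ (V : X.Opens)) := hpre V hV
    have h1 : Module.Finite Γ(↑U, U.ι ⁻¹ᵁ (V : X.Opens)) Γ(F, U.ι ⁻¹ᵁ (V : X.Opens)) :=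
      Groth.Agent.H8.finite_sections_of_isCoh F hF hW
    have e : U.ι ''ᵁ U.ι ⁻¹ᵁ (V : X.Opens) = (V : X.Opens) := by
      rw [Scheme.Hom.image_preimage_eq_opensRange_inf, Scheme.Opens.opensRange_ι]
      exact inf_eq_right.mpr hV
    have hφ : Function.Surjective (U.ι.app (V : X.Opens)).hom :=
      (presheaf_map_bijective_of_eq (X := X) e.le e).surjective
    letI : Algebra Γ(X, (V : X.Opens)) Γ(↑U, U.ι ⁻¹ᵁ (V : X.Opens)) :=
      (U.ι.app (V : X.Opens)).hom.toAlgebra
    haveI : Module.Finite Γ(X, (V : X.Opens)) Γ(↑U, U.ι ⁻¹ᵁ (V : X.Opens)) :=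
      Module.Finite.of_surjective (Algebra.linearMap _ _) hφ
    letI : Module Γ(X, (V : X.Opens)) Γ(F, U.ι ⁻¹ᵁ (V : X.Opens)) :=
      (show Module Γ(X, (V : X.Opens))
        Γ((Scheme.Modules.pushforward U.ι).obj F, (V : X.Opens)) from inferInstance)
    haveI : IsScalarTower Γ(X, (V : X.Opens)) Γ(↑U, U.ι ⁻¹ᵁ (V : X.Opens))
        Γ(F, U.ι ⁻¹ᵁ (V : X.Opens)) :=
      IsScalarTower.of_algebraMap_smul (fun r m => rfl)
    exact Module.Finite.trans Γ(↑U, U.ι ⁻¹ᵁ (V : X.Opens)) Γ(F, U.ι ⁻¹ᵁ (V : X.Opens))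
  · haveI : Subsingleton Γ((Scheme.Modules.pushforward U.ι).obj F, 𝒱 ⟨V, Or.inr hV⟩) :=
      ⟨fun a b => (hvan _ hV a).trans (hvan _ hV b).symm⟩
    infer_instance

end Groth.Agent.S0048
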