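import Groth.Statements.S0050
import Groth.Agent.H22.TwistSeq
import Groth.Agent.H22.CompAmple
import Groth.Agent.H22.FTIdeal
import Groth.Agent.H22.SerreH1
import Groth.Agent.H18.GlobGenConv
-- import your own Groth.Agent.* helpers here

set_option autoImplicit false
universe u
open Coherent

namespace Groth.Agent.S0050

open AlgebraicGeometry CategoryTheory
open TopologicalSpace Opposite
open Groth.Agent.H8 (res_res res_smul ringRes_res section_eq_of_cover exists_app_eq_of_exact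
  app_comp_eq_zero)
open Groth.Agent.H18.TensorGen Groth.Agent.H22.GenSection Groth.Agent.H22.AmpleLocal
open Groth.Agent.H22.QCohLimits (app_res isQuasicoherent_kernel)
open Groth.Agent.H18.SecTw Groth.Agent.H18.TensorSec Groth.Agent.H41.BilinGlue
open Groth.Agent.H18.TensorPowIso
open Groth.Agent.H22.IdealTwist Groth.Agent.H22.TwistSeq Groth.Agent.H22.SerreAffine
open Groth.Agent.H22.SerreH1 Groth.Agent.H22.FTIdeal Groth.Agent.H22.CompAmple
open CategoryTheory.Limits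

set_option linter.style.haveILetI false

variable {X : Scheme.{u}}

/-- A function not vanishing... if `r` vanishes at `P` then `r + 1` does not. -/
lemma mem_basicOpen_add_one {W : X.Opens} (r : Γ(X, W)) {P : X} (hPW : P ∈ W)
    (hr : P ∉ X.basicOpen r) : P ∈ X.basicOpen (r + 1) := by
  rw [Scheme.mem_basicOpen _ _ _ hPW] at hr ⊢
  rw [map_add, map_one]
  have h1 : -(X.presheaf.germ W P hPW).hom r + ((X.presheaf.germ W P hPW).hom r + 1) = 1 := by
    ring
  rcases IsLocalRing.isUnit_or_isUnit_of_add_one h1 with h2 | h2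
  · exact (hr (IsUnit.neg_iff _ |>.mp h2)).elim
  · exact h2

/-- The ideal of a closed set together with the sub-ideal of functions vanishing at a closed point
outside it. -/
lemma exists_ideals (U : X.Opens) (P : X) (hP : IsClosed ({P} : Set X)) :
    ∃ (J J' : X.Modules) (i : J ⟶ Coh.structureModule X) (κ : J' ⟶ J),
      Mono κ ∧ Mono (κ ≫ i) ∧ J'.IsQuasicoherent ∧
      (∀ y ∉ U, VanishAt i y) ∧
      (∀ V : X.Opens, V ≤ U → ∃ g : Γ(J, V), coef i g = 1) ∧
      VanishAt (κ ≫ i) P ∧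
      (∀ V : X.Opens, P ∉ V → ∀ a : Γ(J, V), ∃ b : Γ(J', V), κ.app V b = a) := by
  let Y : Closeds X := ⟨(U : Set X)ᶜ, U.2.isClosed_compl⟩
  obtain ⟨IY, hsY⟩ : ∃ IY : X.IdealSheafData, (IY.support : Set X) = (Y : Set X) :=
    ⟨Scheme.IdealSheafData.vanishingIdeal Y, Scheme.IdealSheafData.coe_support_vanishingIdeal Y⟩
  obtain ⟨IP, hsP⟩ : ∃ IP : X.IdealSheafData, (IP.support : Set X) = ({P} : Set X) :=
    ⟨Scheme.IdealSheafData.vanishingIdeal ⟨{P}, hP⟩,
      Scheme.IdealSheafData.coe_support_vanishingIdeal _⟩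
  obtain ⟨φ, hφdef⟩ : ∃ φ : ClSub.idealMod IY ⟶ ClSub.quotMod IP,
    φ = ClSub.idealModι IY ≫ ClSub.toSubscheme IP := ⟨_, rfl⟩
  have hφapp : ∀ (V : X.Opens) (s : Γ(ClSub.idealMod IY, V)),
      φ.app V s = (IP.subschemeι.app V).hom (coef (ClSub.idealModι IY) s) := by
    intro V s
    rw [hφdef]
    rfl
  haveI : (ClSub.idealMod IY).IsQuasicoherent :=
    inferInstanceAs (kernel (ClSub.toSubscheme IY)).IsQuasicoherent
  haveI : Mono (ClSub.idealModι IY) := inferInstanceAs (Mono (kernel.ι (ClSub.toSubscheme IY)))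
  let S : ShortComplex X.Modules := ShortComplex.mk (kernel.ι φ) φ (kernel.condition φ)
  have hS : S.Exact := ShortComplex.exact_of_f_is_kernel S (kernelIsKernel φ)
  haveI : Mono S.f := inferInstanceAs (Mono (kernel.ι φ))
  refine ⟨ClSub.idealMod IY, kernel φ, ClSub.idealModι IY, kernel.ι φ, inferInstance,
    mono_comp _ _, isQuasicoherent_kernel φ, ?_, ?_, ?_, ?_⟩
  · intro y hy
    apply vanishAt_idealModι IY y
    show y ∈ (IY.support : Set X)
    rw [hsY]
    exact hy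
  · intro V hV
    apply exists_lift_one IY V
    rw [hsY]
    exact Set.disjoint_left.mpr (fun y hy hyY => hyY (hV hy))
  · intro W a hyb
    obtain ⟨z, hz⟩ : ∃ z : IP.subscheme, IP.subschemeι z = P := by
      have h5 : P ∈ Set.range IP.subschemeι := by
        rw [IP.range_subschemeι, hsP]
        rfl
      exact h5
    have h0 : (IP.subschemeι.app W).hom (coef (ClSub.idealModι IY) ((kernel.ι φ).app W a)) = 0 := by
      rw [← hφapp]
      exact app_comp_eq_zero S W a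
    have hc : coef (kernel.ι φ ≫ ClSub.idealModι IY) a =
        coef (ClSub.idealModι IY) ((kernel.ι φ).app W a) := rfl
    rw [hc, ← hz] at hyb
    have h1 : z ∈ IP.subschemeι ⁻¹ᵁ
        X.basicOpen (coef (ClSub.idealModι IY) ((kernel.ι φ).app W a)) := hyb
    rw [Scheme.preimage_basicOpen] at h1
    have h3 : (IP.subschemeι.app W) (coef (ClSub.idealModι IY) ((kernel.ι φ).app W a)) = 0 := h0
    rw [h3, Scheme.basicOpen_zero] at h1
    exact h1
  · intro V hPV a
    haveI : Subsingleton Γ(ClSub.quotMod IP, V) :=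
      subsingleton_push IP.subschemeι V (fun z hz => hPV (by
        have h3 := subschemeι_mem_support IP z
        rw [hsP] at h3
        have h4 : IP.subschemeι z = P := h3
        rw [← h4]
        exact hz))
    exact exists_app_eq_of_exact S hS V a (Subsingleton.elim _ _)

theorem key (L : X.Modules) (hL : PicF.IsInvertible L)
    (h : ∀ (I : X.Modules) (i : I ⟶ Coh.structureModule X), Mono i → Coh.IsQCoh I →
      ∃ n : ℕ, Subsingleton (Coh.HH X (CohB1.tensorMod I (CohB1.tensorPow L (n + 1))) 1))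
    (P : X) (hP : IsClosed ({P} : Set X)) :
    ∃ (n : ℕ) (s : Coh.structureModule X ⟶ CohB1.tensorPow L (n + 1)),
      P ∈ CohB1.genLocus _ s ∧ IsAffineOpen (CohB1.genLocus _ s) := by
  obtain ⟨_, ⟨U, hU, rfl⟩, hPU, -⟩ := X.isBasis_affineOpens.exists_subset_of_mem_open
    (Set.mem_univ P) isOpen_univ
  obtain ⟨J, J', i, κ, hκ, hκi, hJ', hiY, hlift, hvP, hJJ'⟩ := exists_ideals U P hP
  obtain ⟨n, hn⟩ := h J' (κ ≫ i) hκi hJ'
  refine ⟨n, ?_⟩
  obtain ⟨N, hNdef⟩ : ∃ N : X.Modules, N = CohB1.tensorPow L (n + 1) := ⟨_, rfl⟩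
  rw [← hNdef] at hn ⊢
  have hN : PicF.IsInvertible N := hNdef ▸ isInvertible_tensorPow hL (n + 1)
  clear hNdef h
  haveI : Mono (tmMap κ N) := mono_tmMap κ N hN
  let S : ShortComplex X.Modules :=
    ShortComplex.mk (tmMap κ N) (cokernel.π (tmMap κ N)) (cokernel.condition _)
  have hSex : S.Exact := ShortComplex.exact_cokernel (tmMap κ N)
  haveI : Mono S.f := inferInstanceAs (Mono (tmMap κ N))
  haveI : Epi S.g := inferInstanceAs (Epi (cokernel.π (tmMap κ N)))
  have hS : S.ShortExact := { exact := hSex }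
  have hsurj := app_top_surjective_of_H1 S hS hn
  -- a generator near `P`
  obtain ⟨A, γ₀, hPA, hγ₀⟩ := exists_isGen hN P
  obtain ⟨W, hWdef⟩ : ∃ W : X.Opens, W = A ⊓ U := ⟨_, rfl⟩
  have hWA : W ≤ A := hWdef ▸ inf_le_left
  have hWU : W ≤ U := hWdef ▸ inf_le_right
  have hPW : P ∈ W := hWdef ▸ ⟨hPA, hPU⟩
  obtain ⟨γ, hγdef⟩ : ∃ γ : Γ(N, W), γ = N.presheaf.map (homOfLE hWA).op γ₀ := ⟨_, rfl⟩
  have hγ : IsGen N W γ := hγdef ▸ hγ₀.res hWA
  obtain ⟨g1, hg1⟩ := hlift W hWU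
  obtain ⟨cW, hcW⟩ : ∃ cW : Γ(S.X₃, W), cW = S.g.app W (tm J N g1 γ) := ⟨_, rfl⟩
  have hc0 : ∀ (V : X.Opens) (hV : V ≤ W), P ∉ V →
      S.X₃.presheaf.map (homOfLE hV).op cW = 0 := by
    intro V hV hPV
    obtain ⟨b, hb⟩ := hJJ' V hPV (J.presheaf.map (homOfLE hV).op g1)
    rw [hcW, ← app_res, tm_res, ← hb, ← tmMap_tm]
    exact app_comp_eq_zero S V _
  -- glue
  let V₂ : X.Opens := ⟨({P} : Set X)ᶜ, hP.isOpen_compl⟩
  let Uf : Bool → X.Opens := fun b => cond b W V₂
  let sf : ∀ b : Bool, Γ(S.X₃, Uf b) := fun b =>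
    Bool.rec (motive := fun b => Γ(S.X₃, Uf b)) (0 : Γ(S.X₃, V₂)) cW b
  have hcompat : TopCat.Presheaf.IsCompatible S.X₃.presheaf Uf sf := by
    intro b b'
    cases b <;> cases b'
    · rfl
    · show S.X₃.presheaf.map (homOfLE (inf_le_left : V₂ ⊓ W ≤ V₂)).op (0 : Γ(S.X₃, V₂)) =
        S.X₃.presheaf.map (homOfLE (inf_le_right : V₂ ⊓ W ≤ W)).op cW
      rw [map_zero, hc0 (V₂ ⊓ W) inf_le_right (fun hx => hx.1 rfl)]
    · show S.X₃.presheaf.map (homOfLE (inf_le_left : W ⊓ V₂ ≤ W)).op cW =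
        S.X₃.presheaf.map (homOfLE (inf_le_right : W ⊓ V₂ ≤ V₂)).op (0 : Γ(S.X₃, V₂))
      rw [map_zero, hc0 (W ⊓ V₂) inf_le_left (fun hx => hx.2 rfl)]
    · rfl
  have hcover : (⊤ : X.Opens) ≤ iSup Uf := by
    intro x _
    by_cases hx : x = P
    · exact Opens.mem_iSup.mpr ⟨true, hx ▸ hPW⟩
    · exact Opens.mem_iSup.mpr ⟨false, hx⟩
  obtain ⟨c, hc, -⟩ := TopCat.Sheaf.existsUnique_gluing' (F := ⟨S.X₃.presheaf, S.X₃.isSheaf⟩)
    Uf ⊤ (fun b => homOfLE le_top) hcover sf hcompat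
  have hcW' : S.X₃.presheaf.map (homOfLE (le_top : W ≤ ⊤)).op c = cW := hc true
  obtain ⟨t, ht⟩ := hsurj c
  obtain ⟨σ, hσ⟩ : ∃ σ : Γ(N, ⊤), σ = (mulHom i N).app ⊤ t := ⟨_, rfl⟩
  have hA : ∀ y ∉ U, ¬ GenAt N σ y := fun y hy => hσ ▸ not_genAt_mulHom i hN (hiY y hy) t
  have hB : GenAt N σ P := by
    obtain ⟨tW, htW⟩ : ∃ tW : Γ(S.X₂, W), tW = S.X₂.presheaf.map (homOfLE (le_top : W ≤ ⊤)).op t :=
      ⟨_, rfl⟩
    have hd : S.g.app W (tW - tm J N g1 γ) = 0 := by
      rw [map_sub, htW, app_res, ht, hcW', hcW, sub_self]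
    obtain ⟨z', hz'⟩ := exists_app_eq_of_exact S hSex W _ hd
    obtain ⟨b, hb⟩ := surjective_tm (F := J') hγ z'
    simp only at hb
    have h1 : N.presheaf.map (homOfLE (le_top : W ≤ ⊤)).op σ = (coef (κ ≫ i) b + 1) • γ := by
      have h2 : tW = (tmMap κ N).app W (tm J' N b γ) + tm J N g1 γ := by
        rw [hb]
        have h3 : (tmMap κ N).app W z' = tW - tm J N g1 γ := hz'
        rw [h3, sub_add_cancel]
      rw [hσ, ← app_res, ← htW, h2, map_add, mulHom_tmMap_tm, mulHom_tm, hg1, add_smul]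
    rw [← genAt_res (le_top : W ≤ ⊤) σ hPW, h1, genAt_smul_iff hN hγ _ hPW]
    exact mem_basicOpen_add_one _ hPW (hvP W b)
  have hle : CohB1.genLocus N (secHom N σ) ≤ U := by
    intro y hy
    by_contra hyU
    exact hA y hyU ((mem_genLocus_secHom N σ y).mp hy)
  refine ⟨secHom N σ, (mem_genLocus_secHom N σ P).mpr hB, ?_⟩
  have h2 := Groth.Agent.H18.GlobGenConv.isAffineOpen_genLocus_inf hN (secHom N σ) hU
  rwa [inf_eq_left.mpr hle] at h2

open AlgebraicGeometry CategoryTheory in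
/-- Let X be a quasi-compact scheme and L an invertible O_X-module. If for every quasi-coherent sheaf of
ideals I ⊆ O_X there is some n ≥ 1 with H¹(X, I ⊗ L^{⊗n}) = 0, then L is ample, in the sense that X
is covered by affine opens of the form X_s for sections s of positive tensor powers of L. (In the
Lean statement the exponent is written n + 1 with n a natural number.) -/
theorem result (X : Scheme.{u}) [CompactSpace X] (L : X.Modules)
    (hL : PicF.IsInvertible L)
    (h : ∀ (I : X.Modules) (i : I ⟶ Coh.structureModule X), Mono i → Coh.IsQCoh I →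
      ∃ n : ℕ, Subsingleton (Coh.HH X (CohB1.tensorMod I (CohB1.tensorPow L (n + 1))) 1)) :
    CohB1.IsAmple L := by
  refine ⟨hL, inferInstance, fun x => ?_⟩
  by_contra hcon
  push Not at hcon
  let Wset : Set X := ⋃ (n : ℕ) (s : Coh.structureModule X ⟶ CohB1.tensorPow L (n + 1))
    (_ : IsAffineOpen (CohB1.genLocus _ s)), (CohB1.genLocus _ s : Set X)
  have hWo : IsOpen Wset := isOpen_iUnion fun n => isOpen_iUnion fun s => isOpen_iUnion fun _ =>
    (CohB1.genLocus _ s).2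
  have hx : x ∈ Wsetᶜ := by
    intro hxW
    obtain ⟨n, hxn⟩ := Set.mem_iUnion.mp hxW
    obtain ⟨s, hxs⟩ := Set.mem_iUnion.mp hxn
    obtain ⟨hs, hxs⟩ := Set.mem_iUnion.mp hxs
    exact hcon n s hxs hs
  obtain ⟨P, hPW, hP⟩ := IsClosed.exists_closed_singleton hWo.isClosed_compl ⟨x, hx⟩
  obtain ⟨n, s, hPs, hs⟩ := key L hL h P hP
  exact hPW (Set.mem_iUnion.mpr ⟨n, Set.mem_iUnion.mpr ⟨s, Set.mem_iUnion.mpr ⟨hs, hPs⟩⟩⟩)

end Groth.Agent.S0050
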