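import Groth.Statements.S0064


set_option autoImplicit false
open CategoryTheory CategoryTheory.Limits AlgebraicGeometry Opposite
universe u
open EtBase

namespace Groth.Agent.S0064

open TopologicalSpace

lemma finite_clopens (α : Type*) [TopologicalSpace α] [NoetherianSpace α] :
    {C : Set α | IsClopen C}.Finite := by
  have hfin := NoetherianSpace.finite_irreducibleComponents (α := α)
  have hsub : {C : Set α | IsClopen C} ⊆
      (fun T : Set (Set α) => ⋃₀ T) '' {T | T ⊆ irreducibleComponents α} := by
    intro C hC
    refine ⟨{Z ∈ irreducibleComponents α | Z ⊆ C}, fun Z hZ => hZ.1, ?_⟩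
    apply Set.Subset.antisymm
    · exact Set.sUnion_subset (fun Z hZ => hZ.2)
    · intro x hx
      refine Set.mem_sUnion.mpr ⟨irreducibleComponent x,
        ⟨irreducibleComponent_mem_irreducibleComponents x, ?_⟩, mem_irreducibleComponent⟩
      exact isIrreducible_irreducibleComponent.isPreirreducible.isPreconnected.subset_isClopen hC
        ⟨x, mem_irreducibleComponent, hx⟩
  exact (hfin.finite_subsets.image _).subset hsub

/-- sections of an unramified, locally finite type, separated morphism are open and closed
immersions -/
lemma section_props {P Y : Scheme.{u}} (p : P ⟶ Y) [LocallyOfFiniteType p] [FormallyUnramified p]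
    [IsSeparated p] (σ : Y ⟶ P) (hσ : σ ≫ p = 𝟙 Y) :
    IsOpenImmersion σ ∧ IsClosedImmersion σ := by
  constructor
  · have : MorphismProperty.HasOfPostcompProperty @IsOpenImmersion
        (@LocallyOfFiniteType ⊓ @FormallyUnramified) := by
      rw [MorphismProperty.hasOfPostcompProperty_iff_le_diagonal]
      intro X Y f ⟨hft, hfu⟩
      exact inferInstanceAs <| IsOpenImmersion (pullback.diagonal f)
    exact MorphismProperty.of_postcomp (W := @IsOpenImmersion)
      (W' := @LocallyOfFiniteType ⊓ @FormallyUnramified) σ p ⟨‹_›, ‹_›⟩
      (by rw [hσ]; infer_instance)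
  · have : IsClosedImmersion (σ ≫ p) := by rw [hσ]; infer_instance
    exact IsClosedImmersion.of_comp σ p


/-- Let S be a Noetherian scheme, X → S a quasi-compact, separated, unramified morphism (formally
unramified and locally of finite type), and Y a Noetherian scheme with a morphism Y → S. Then there
are only finitely many S-morphisms Y → X. The published statement does not assume X → S separated;
it is stated here in the separated case. -/
theorem result {X S Y : Scheme.{u}} [IsNoetherian S] [IsNoetherian Y]
    (π : X ⟶ S) [FormallyUnramified π] [LocallyOfFiniteType π] [QuasiCompact π] [IsSeparated π]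
    (h : Y ⟶ S) : Set.Finite {f : Y ⟶ X | f ≫ π = h} := by
  let p : pullback π h ⟶ Y := pullback.snd π h
  have : FormallyUnramified p :=
    MorphismProperty.pullback_snd (P := @FormallyUnramified) _ _ inferInstance
  have : IsLocallyNoetherian (pullback π h) := inferInstance
  have : CompactSpace ↥(pullback π h) := QuasiCompact.compactSpace_of_compactSpace p
  have : IsNoetherian (pullback π h) := {}
  have : NoetherianSpace ↥(pullback π h) := inferInstance
  have hfin := finite_clopens ↥(pullback π h)
  rw [← Set.finite_coe_iff]
  have : Finite {C : Set ↥(pullback π h) | IsClopen C} := hfin.to_subtype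
  let gr : ∀ f : {f : Y ⟶ X | f ≫ π = h}, Y ⟶ pullback π h := fun f =>
    pullback.lift f.1 (𝟙 Y) (by rw [f.2, Category.id_comp])
  have hgr : ∀ f, gr f ≫ p = 𝟙 Y := fun f => pullback.lift_snd _ _ _
  have hgr1 : ∀ f, gr f ≫ pullback.fst π h = f.1 := fun f => pullback.lift_fst _ _ _
  have hprops : ∀ f, IsOpenImmersion (gr f) ∧ IsClosedImmersion (gr f) :=
    fun f => section_props p (gr f) (hgr f)
  let Γ : {f : Y ⟶ X | f ≫ π = h} → {C : Set ↥(pullback π h) | IsClopen C} := fun f =>
    ⟨Set.range (gr f), ⟨((hprops f).2.isClosedEmbedding).isClosed_range,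
      (@Scheme.Hom.isOpenEmbedding _ _ (gr f) (hprops f).1).isOpen_range⟩⟩
  apply Finite.of_injective Γ
  intro f f' hff'
  have hr : Set.range (gr f) = Set.range (gr f') := congrArg Subtype.val hff'
  have i1 := (hprops f).1
  have i2 := (hprops f').1
  have e := IsOpenImmersion.isoOfRangeEq_hom_fac (gr f) (gr f') hr
  have h1 : (IsOpenImmersion.isoOfRangeEq (gr f) (gr f') hr).hom = 𝟙 Y := by
    have := congrArg (· ≫ p) e
    simp only [Category.assoc, hgr, Category.comp_id] at this
    exact this
  rw [h1, Category.id_comp] at e
  apply Subtype.ext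
  rw [← hgr1 f, ← hgr1 f', e]

end Groth.Agent.S0064
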