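import Groth.Statements.S0066
import Groth.Agent.H47.SmoothNormal
import Groth.Agent.H13.FlatNormal

set_option autoImplicit false
open CategoryTheory CategoryTheory.Limits AlgebraicGeometry Opposite
universe u
open EtBase

namespace Groth.Agent.S0066


/-- For an étale morphism f : X → Y with Y locally Noetherian and a point x of X, the local ring O_{X,x}
is a normal domain (a domain which is integrally closed in its fraction field) if and only if
O_{Y,f(x)} is. -/
theorem result {X Y : Scheme.{u}} (f : X ⟶ Y) [AlgebraicGeometry.Etale f]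
    [IsLocallyNoetherian Y] (x : X) :
    (IsDomain (X.presheaf.stalk x) ∧ IsIntegrallyClosed (X.presheaf.stalk x)) ↔
      (IsDomain (Y.presheaf.stalk (f.base x)) ∧ IsIntegrallyClosed (Y.presheaf.stalk (f.base x))) := by
  constructor
  · rintro ⟨h1, h2⟩
    haveI := h1
    haveI := h2
    have hflat : (f.stalkMap x).hom.Flat := Flat.stalkMap f x
    exact Groth.Agent.H13.isDomain_isIntegrallyClosed_of_flat_of_isLocalHom
      (f.stalkMap x).hom hflat
  · rintro ⟨h1, h2⟩
    haveI := h1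
    haveI := h2
    obtain ⟨_, ⟨V, hV : IsAffineOpen V, rfl⟩, hfxV, -⟩ :=
      Y.isBasis_affineOpens.exists_subset_of_mem_open (Set.mem_univ (f x)) isOpen_univ
    obtain ⟨_, ⟨U, hU : IsAffineOpen U, rfl⟩, hxU, hUV⟩ :=
      X.isBasis_affineOpens.exists_subset_of_mem_open
        (show x ∈ ((f ⁻¹ᵁ V : X.Opens) : Set X) from hfxV) (f ⁻¹ᵁ V).isOpen
    have e : U ≤ f ⁻¹ᵁ V := hUV
    have het : (f.appLE V U e).hom.Etale := HasRingHomProperty.appLE _ f ‹_› ⟨V, hV⟩ ⟨U, hU⟩ e
    letI algAB : Algebra Γ(Y, V) Γ(X, U) := (f.appLE V U e).hom.toAlgebra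
    haveI : Algebra.Etale Γ(Y, V) Γ(X, U) := het
    haveI : Algebra.Smooth Γ(Y, V) Γ(X, U) := inferInstance
    have hcomap := IsAffineOpen.comap_primeIdealOf_appLE (f := f) (x := x) V hV U hU e hxU
    have hp : (hV.primeIdealOf ⟨f x, e hxU⟩).asIdeal =
        (hU.primeIdealOf ⟨x, hxU⟩).asIdeal.comap (algebraMap Γ(Y, V) Γ(X, U)) :=
      (congrArg PrimeSpectrum.asIdeal hcomap).symm
    letI algX : Algebra Γ(X, U) (X.presheaf.stalk x) := (X.presheaf.germ U x hxU).hom.toAlgebra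
    haveI locX : IsLocalization.AtPrime (X.presheaf.stalk x) (hU.primeIdealOf ⟨x, hxU⟩).asIdeal :=
      hU.isLocalization_stalk ⟨x, hxU⟩
    letI algY : Algebra Γ(Y, V) (Y.presheaf.stalk (f x)) :=
      (Y.presheaf.germ V (f x) (e hxU)).hom.toAlgebra
    haveI locY : IsLocalization.AtPrime (Y.presheaf.stalk (f x))
        (hV.primeIdealOf ⟨f x, e hxU⟩).asIdeal :=
      hV.isLocalization_stalk ⟨f x, e hxU⟩
    let eX : Localization.AtPrime (hU.primeIdealOf ⟨x, hxU⟩).asIdeal ≃ₐ[Γ(X, U)]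
        X.presheaf.stalk x :=
      IsLocalization.algEquiv (hU.primeIdealOf ⟨x, hxU⟩).asIdeal.primeCompl _ _
    let eY : Localization.AtPrime (hV.primeIdealOf ⟨f x, e hxU⟩).asIdeal ≃ₐ[Γ(Y, V)]
        Y.presheaf.stalk (f x) :=
      IsLocalization.algEquiv (hV.primeIdealOf ⟨f x, e hxU⟩).asIdeal.primeCompl _ _
    haveI : IsDomain (Localization.AtPrime (hV.primeIdealOf ⟨f x, e hxU⟩).asIdeal) :=
      MulEquiv.isDomain (Y.presheaf.stalk (f x)) eY.toRingEquiv.toMulEquiv
    haveI : IsIntegrallyClosed (Localization.AtPrime (hV.primeIdealOf ⟨f x, e hxU⟩).asIdeal) :=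
      IsIntegrallyClosed.of_equiv eY.symm.toRingEquiv
    obtain ⟨k1, k2⟩ :=
      Groth.Agent.H47.EtaleNormal.isDomain_isIntegrallyClosed_atPrime_of_smooth_of_under
        Γ(Y, V) Γ(X, U) (hU.primeIdealOf ⟨x, hxU⟩).asIdeal
        (hV.primeIdealOf ⟨f x, e hxU⟩).asIdeal hp
    haveI := k1
    haveI := k2
    exact ⟨MulEquiv.isDomain (Localization.AtPrime (hU.primeIdealOf ⟨x, hxU⟩).asIdeal)
      eX.symm.toRingEquiv.toMulEquiv, IsIntegrallyClosed.of_equiv eX.toRingEquiv⟩

end Groth.Agent.S0066
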