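import Groth.Statements.S0067
import Mathlib
import Groth.Agent.H4.ClosedDense

set_option autoImplicit false
open CategoryTheory CategoryTheory.Limits AlgebraicGeometry Opposite
universe u
open EtBase

namespace Groth.Agent.S0067


open Groth.Agent.H4

/-- Part (2), first half — pushforward of abelian étale sheaves along a closed immersion is fully
faithful. -/
theorem result {Z X : Scheme.{u}} (i : Z ⟶ X) [IsClosedImmersion i] [EtCoh.BCCont i] :
    (EtCoh.push i).Full ∧ (EtCoh.push i).Faithful := by
  constructor
  · constructor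
    intro G G' φ
    let α : (EtCoh.bc i).op ⋙ G.obj ⟶ (EtCoh.bc i).op ⋙ G'.obj := φ.hom
    refine ⟨⟨Functor.IsCoverDense.sheafHom α⟩, ?_⟩
    apply Sheaf.hom_ext
    exact Functor.IsCoverDense.sheafHom_restrict_eq α
  · constructor
    intro G G' a b hab
    have h1 : Functor.whiskerLeft (EtCoh.bc i).op a.hom =
        Functor.whiskerLeft (EtCoh.bc i).op b.hom := congrArg (fun q => q.hom) hab
    apply Sheaf.hom_ext
    rw [← Functor.IsCoverDense.sheafHom_eq (EtCoh.bc i) a.hom,
      ← Functor.IsCoverDense.sheafHom_eq (EtCoh.bc i) b.hom, h1]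

end Groth.Agent.S0067
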