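import Groth.Statements.S0068
import Mathlib
import Groth.Agent.H4.ClosedDense2

set_option autoImplicit false
open CategoryTheory CategoryTheory.Limits AlgebraicGeometry Opposite
universe u
open EtBase

namespace Groth.Agent.S0068


open Groth.Agent.H4

/-- Part (2), second half — an abelian étale sheaf is a pushforward from a closed subscheme exactly when
its sections vanish over every étale scheme mapping into the open complement. -/
theorem result {Z X : Scheme.{u}} (i : Z ⟶ X) [IsClosedImmersion i] [EtCoh.BCCont i]
    (F : EtCoh.Ab X) :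
    (EtCoh.push i).essImage F ↔
      ∀ U : X.Etale, Disjoint (Set.range U.hom.base) (Set.range i.base) → IsZero (F.obj.obj (op U)) := by
  constructor
  · rintro ⟨G, ⟨e⟩⟩ U hU
    haveI : IsEmpty ((EtCoh.bc i).obj U).left := Scheme.isEmpty_pullback U.hom i hU
    have hss : Subsingleton ↑(((EtCoh.push i).obj G).obj.obj (op U)) :=
      subsingleton_sections_of_isEmpty G ((EtCoh.bc i).obj U)
    have hz : IsZero (((EtCoh.push i).obj G).obj.obj (op U)) :=
      AddCommGrpCat.isZero_of_subsingleton _
    exact hz.of_iso (((sheafToPresheaf _ _).mapIso e).app (op U)).symm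
  · intro hF
    let J := (EtCoh.bc i).restrictedTopology Z.smallEtaleTopology
    let F' : Sheaf J AddCommGrpCat.{u + 1} := ⟨F.obj, isSheaf_restricted i F hF⟩
    let Φ := (EtCoh.bc i).sheafPushforwardContinuous AddCommGrpCat.{u + 1} J Z.smallEtaleTopology
    haveI : Φ.IsEquivalence := inferInstance
    let G := Φ.objPreimage F'
    let e : Φ.obj G ≅ F' := Φ.objObjPreimageIso F'
    let e' : (EtCoh.bc i).op ⋙ G.obj ≅ F.obj := (sheafToPresheaf J _).mapIso e
    exact ⟨G, ⟨(fullyFaithfulSheafToPresheaf X.smallEtaleTopology _).preimageIso e'⟩⟩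

end Groth.Agent.S0068
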