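import Groth.Statements.S0070
import Mathlib
import Groth.Agent.H4.EtaleRes
import Groth.Agent.S0100
import Groth.Agent.S0633

set_option autoImplicit false
open CategoryTheory CategoryTheory.Limits AlgebraicGeometry Opposite
universe u
open EtBase

namespace Groth.Agent.S0070

open Groth.Agent.H4 Groth.Agent.S19885 Groth.Agent.S0100

set_option backward.isDefEq.respectTransparency.types false in
/-- Let i : Z → X be a closed immersion of schemes, G an abelian sheaf on the small étale site of Z, and
ζ : Spec Ω → Z a geometric point of Z (Ω separably closed). Then the stalk of the direct image i_*G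
at the geometric point i ∘ ζ of X is isomorphic to the stalk of G at ζ. Only the existence of an
isomorphism is asserted; the published statement identifies the two stalks via the canonical map.
(Continuity of the relevant functor of étale sites along i is carried as an instance binder.) -/
theorem result {Z X : Scheme.{u}} (i : Z ⟶ X) [IsClosedImmersion i] [EtCoh.BCCont i]
    (G : EtCoh.Ab Z) {Ω : Type u} [Field Ω] [IsSepClosed Ω] (ζ : Spec (CommRingCat.of Ω) ⟶ Z) :
    Nonempty ((EtCoh.stalk (ζ ≫ i)).obj ((EtCoh.push i).obj G) ≅ (EtCoh.stalk ζ).obj G) := by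
  let Φ := Scheme.pointSmallEtale (ζ ≫ i)
  let Ψ := Scheme.pointSmallEtale ζ
  let P' : X.Etaleᵒᵖ ⥤ AddCommGrpCat.{u + 1} := ((EtCoh.push i).obj G).obj
  obtain ⟨α, hα⟩ : ∃ α : Φ.presheafFiber.obj P' ⟶ Ψ.presheafFiber.obj G.obj,
      ∀ (U : X.Etale) (τ : Φ.fiber.obj U), Φ.toPresheafFiber U τ P' ≫ α =
        Ψ.toPresheafFiber ((EtCoh.bc i).obj U) (liftPt i ζ U τ) G.obj := by
    refine ⟨Φ.presheafFiberDesc
      (fun U τ => Ψ.toPresheafFiber ((EtCoh.bc i).obj U) (liftPt i ζ U τ) G.obj) ?_,
      fun U τ => Φ.toPresheafFiber_presheafFiberDesc _ _ U τ⟩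
    intro U' U g τ'
    have h1 := Ψ.toPresheafFiber_w ((EtCoh.bc i).map g) (liftPt i ζ U' τ') G.obj
    rw [liftPt_map] at h1
    exact h1
  have hα' : ∀ (U : X.Etale) (τ : Φ.fiber.obj U) (z : P'.obj (op U)),
      α (Φ.toPresheafFiber U τ P' z) =
        Ψ.toPresheafFiber ((EtCoh.bc i).obj U) (liftPt i ζ U τ) G.obj z := by
    intro U τ z
    rw [← hα U τ]
    rfl
  have hbij : Function.Bijective α := by
    constructor
    · rw [injective_iff_map_eq_zero]
      intro q hq
      obtain ⟨U, τ, z, rfl⟩ := Φ.toPresheafFiber_jointly_surjective q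
      rw [hα'] at hq
      have hq' : Ψ.toPresheafFiber ((EtCoh.bc i).obj U) (liftPt i ζ U τ) G.obj z =
          Ψ.toPresheafFiber ((EtCoh.bc i).obj U) (liftPt i ζ U τ) G.obj 0 := by
        rw [hq, map_zero]
      obtain ⟨W, g, σ, hσ, hg⟩ := (Ψ.toPresheafFiber_eq_iff' _ _ z 0).1 hq'
      rw [map_zero] at hg
      have hΓ : IsOpen (Set.range g.left.base) := g.left.isOpenMap.isOpen_range
      have hind : Topology.IsInducing (pullback.fst U.hom i).base :=
        (pullback.fst U.hom i).isClosedEmbedding.isInducing
      obtain ⟨O', hO', hpre⟩ := hind.isOpen_iff.1 hΓ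
      let O : U.left.Opens := ⟨O', hO'⟩
      have hτO : τ.left.base (default : Spec (CommRingCat.of Ω)) ∈ O := by
        have e1 : (liftPt i ζ U τ).left ≫ pullback.fst U.hom i = τ.left := liftPt_fst i ζ U τ
        have e2 : σ.left ≫ g.left = (liftPt i ζ U τ).left := congrArg (fun q => q.left) hσ
        have hmem : (liftPt i ζ U τ).left.base (default : Spec (CommRingCat.of Ω)) ∈
            Set.range g.left.base :=
          ⟨σ.left.base (default : Spec (CommRingCat.of Ω)),
            congrArg (fun q : Spec (CommRingCat.of Ω) ⟶ _ =>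
              q.base (default : Spec (CommRingCat.of Ω))) e2⟩
        have hmem' := (Set.ext_iff.1 hpre _).2 hmem
        have e3 : (pullback.fst U.hom i).base
            ((liftPt i ζ U τ).left.base (default : Spec (CommRingCat.of Ω))) =
            τ.left.base (default : Spec (CommRingCat.of Ω)) :=
          congrArg (fun q : Spec (CommRingCat.of Ω) ⟶ _ =>
            q.base (default : Spec (CommRingCat.of Ω))) e1
        show τ.left.base (default : Spec (CommRingCat.of Ω)) ∈ O'
        rw [← e3]
        exact hmem'
      obtain ⟨τ₃, hτ₃⟩ := exists_res_lift (ζ ≫ i) U O τ hτO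
      have h6 := GrothendieckTopology.Point.toPresheafFiber_w_apply Φ (resMap U O) τ₃ P' z
      rw [hτ₃] at h6
      rw [← h6]
      suffices h7 : P'.map (resMap U O).op z = 0 by rw [h7, map_zero]
      let B : Z.Etale := (EtCoh.bc i).obj (res U O)
      let β : B ⟶ (EtCoh.bc i).obj U := (EtCoh.bc i).map (resMap U O)
      show G.obj.map β.op z = 0
      apply eq_of_locally_eq G B
      intro b
      have hb : β.left.base b ∈ Set.range g.left.base := by
        refine (Set.ext_iff.1 hpre _).1 ?_
        show (pullback.fst U.hom i).base (β.left.base b) ∈ O'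
        have e4 := bc_map_fst i (resMap U O)
        have e5 : (pullback.fst U.hom i).base (β.left.base b) =
            O.ι.base ((pullback.fst (res U O).hom i).base b) :=
          congrArg (fun q => q.base b) e4
        rw [e5]
        exact ((pullback.fst (res U O).hom i).base b).2
      obtain ⟨w, hw⟩ := hb
      obtain ⟨y, hy1, hy2⟩ := Scheme.Pullback.exists_preimage_pullback
        (f := g.left) (g := β.left) w b hw
      let Y' : Z.Etale := Scheme.Etale.mk (pullback.fst g.left β.left ≫ W.hom)
      have hβ : β.left ≫ ((EtCoh.bc i).obj U).hom = B.hom := Over.w β.hom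
      have hg' : g.left ≫ ((EtCoh.bc i).obj U).hom = W.hom := Over.w g.hom
      have hwh : pullback.snd g.left β.left ≫ B.hom = pullback.fst g.left β.left ≫ W.hom := by
        calc pullback.snd g.left β.left ≫ B.hom
            = pullback.snd g.left β.left ≫ (β.left ≫ ((EtCoh.bc i).obj U).hom) :=
              congrArg (fun q => pullback.snd g.left β.left ≫ q) hβ.symm
          _ = (pullback.snd g.left β.left ≫ β.left) ≫ ((EtCoh.bc i).obj U).hom :=
              (Category.assoc _ _ _).symm
          _ = (pullback.fst g.left β.left ≫ g.left) ≫ ((EtCoh.bc i).obj U).hom :=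
              congrArg (fun q => q ≫ ((EtCoh.bc i).obj U).hom) pullback.condition.symm
          _ = pullback.fst g.left β.left ≫ (g.left ≫ ((EtCoh.bc i).obj U).hom) :=
              Category.assoc _ _ _
          _ = pullback.fst g.left β.left ≫ W.hom :=
              congrArg (fun q => pullback.fst g.left β.left ≫ q) hg'
      let h : Y' ⟶ B := MorphismProperty.Over.homMk (pullback.snd g.left β.left) hwh trivial
      let h' : Y' ⟶ W := MorphismProperty.Over.homMk (pullback.fst g.left β.left) rfl trivial
      have hcomm : h ≫ β = h' ≫ g := by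
        apply MorphismProperty.Over.Hom.ext
        exact pullback.condition.symm
      refine ⟨Y', h, y, hy2, ?_⟩
      rw [map_zero, ← ConcreteCategory.comp_apply, ← Functor.map_comp, ← op_comp, hcomm,
        op_comp, Functor.map_comp, ConcreteCategory.comp_apply]
      exact (congrArg (fun y => G.obj.map h'.op y) hg).trans (map_zero _)
    · intro p
      obtain ⟨W, σ, z, rfl⟩ := Ψ.toPresheafFiber_jointly_surjective p
      obtain ⟨U, h, hw, hopen, y, hy⟩ :=
        Groth.Agent.S0633.pointwise i W (σ.left.base (default : Spec (CommRingCat.of Ω)))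
      let d : (EtCoh.bc i).obj U ⟶ W := MorphismProperty.Over.homMk h hw trivial
      obtain ⟨σ', hσ', -⟩ := exists_fiber_lift ζ d σ y hy
      refine ⟨Φ.toPresheafFiber U (downPt i ζ U σ') P' (G.obj.map d.op z), ?_⟩
      rw [hα', liftPt_downPt]
      have h2 := GrothendieckTopology.Point.toPresheafFiber_w_apply Ψ d σ' G.obj z
      rw [hσ'] at h2
      exact h2
  haveI : IsIso α := (ConcreteCategory.isIso_iff_bijective α).2 hbij
  have e : Φ.presheafFiber.obj P' ≅ Ψ.presheafFiber.obj G.obj := asIso α
  exact ⟨e⟩

end Groth.Agent.S0070
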