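import Groth.Statements.S3054
import Mathlib
import Groth.Agent.S6634

set_option autoImplicit false
open CategoryTheory CategoryTheory.Limits AlgebraicGeometry Opposite
universe u
open EtDesc

namespace Groth.Agent.S3054

theorem exact_push {X Y : Scheme.{u}} (f : X ⟶ Y) [IsIntegralHom f] :
    PreservesFiniteLimits (EtCoh.push f) ∧ PreservesFiniteColimits (EtCoh.push f) := by
  haveI := Groth.Agent.S6634.result f
  haveI : PreservesLimitsOfSize.{0, 0} (EtCoh.push f) :=
    (EtCoh.pullPushAdj f).rightAdjoint_preservesLimits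
  haveI : PreservesFiniteLimits (EtCoh.push f) := inferInstance
  refine ⟨inferInstance, ?_⟩
  refine ((Functor.preservesFiniteColimits_tfae (EtCoh.push f)).out 3 0).mpr ?_
  intro S hS
  have h0 := (Functor.preservesFiniteLimits_iff_forall_exact_map_and_mono (EtCoh.push f)).mp
    ‹PreservesFiniteLimits (EtCoh.push f)›
  have h1 := h0 S hS
  haveI := hS.epi_g
  exact ⟨h1.1, inferInstance⟩


/-- For an integral morphism of schemes f : X -> Y and an abelian sheaf F on X_et, R^q f_* F = 0 for
every q > 0. -/
theorem result {X Y : Scheme.{u}} (f : X ⟶ Y) [IsIntegralHom f] (F : EtCoh.Ab X)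
    (q : ℕ) (hq : 0 < q) : IsZero ((EtCoh.Rpush f q).obj F) := by
  obtain ⟨n, rfl⟩ := Nat.exists_eq_succ_of_ne_zero (Nat.pos_iff_ne_zero.mp hq)
  obtain ⟨h1, h2⟩ := exact_push f
  let I := injectiveResolution F
  refine IsZero.of_iso ?_ (I.isoRightDerivedObj (EtCoh.push f) (n + 1))
  erw [← HomologicalComplex.exactAt_iff_isZero_homology]
  have h := I.cocomplex_exactAt_succ n
  rw [HomologicalComplex.exactAt_iff] at h ⊢
  exact h.map (EtCoh.push f)

end Groth.Agent.S3054
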