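import Groth.Statements.S0073
import Groth.Agent.H4.StrictHensSection

set_option autoImplicit false
open CategoryTheory CategoryTheory.Limits AlgebraicGeometry Opposite
universe u
open EtBase

namespace Groth.Agent.S0073

theorem projective_ulift_int : Projective (AddCommGrpCat.of (ULift.{u + 1} ℤ)) := by
  constructor
  intro E X f e he
  have hs : Function.Surjective e := (AddCommGrpCat.epi_iff_surjective e).1 he
  obtain ⟨x, hx⟩ := hs (f.hom (ULift.up 1))
  refine ⟨AddCommGrpCat.ofHom (uliftZMultiplesHom E x), ?_⟩
  apply AddCommGrpCat.hom_ext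
  apply (uliftZMultiplesHom X).symm.injective
  simp [hx]
  rfl

/-- Étale cohomology of any abelian sheaf on the spectrum of a strictly henselian local ring vanishes in
positive degrees. -/
theorem result (R : Type u) [CommRing R] [HenselianLocalRing R]
    [IsSepClosed (IsLocalRing.ResidueField R)] (F : EtCoh.Ab (Spec (CommRingCat.of R)))
    (p : ℕ) (hp : 1 ≤ p) : Subsingleton (EtCoh.H (Spec (CommRingCat.of R)) F p) := by
  obtain ⟨n, rfl⟩ : ∃ n, p = n + 1 := ⟨p - 1, by omega⟩
  haveI : (EtCore.gsec (Spec (CommRingCat.of R))).PreservesEpimorphisms := by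
    constructor
    intro F G φ hφ
    have hs := Groth.Agent.H4.gsec_map_surjective R φ
    exact (AddCommGrpCat.epi_iff_surjective
      ((EtCore.gsec (Spec (CommRingCat.of R))).map φ)).2 hs
  haveI : Projective ((constantSheaf (Spec (CommRingCat.of R)).smallEtaleTopology
      AddCommGrpCat.{u + 1}).obj (AddCommGrpCat.of (ULift.{u + 1} ℤ))) :=
    (EtCore.constAdj (Spec (CommRingCat.of R))).map_projective _ projective_ulift_int
  exact Abelian.Ext.subsingleton_of_projective _ F n

end Groth.Agent.S0073
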