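import Groth.Statements.S0078
import Mathlib.FieldTheory.Finite.Basic
import Mathlib.LinearAlgebra.Basis.VectorSpace
import Mathlib.LinearAlgebra.Dimension.Finite
import Mathlib.Data.Set.Card

set_option autoImplicit false
universe u
open EtBase

namespace Groth.Agent.S0078

/-- Second half — for such an F the fixed vectors F v = v form a finite set of size at most p ^ dim V
(an F_p-space of dimension at most dim V). -/
theorem result {k V : Type u} [Field k] [IsAlgClosed k] (p : ℕ) [Fact p.Prime] [CharP k p]
    [AddCommGroup V] [Module k V] [FiniteDimensional k V] (F : V →+ V)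
    (hF : ∀ (c : k) (v : V), F (c • v) = c ^ p • F v) :
    Set.Finite {v : V | F v = v} ∧ Nat.card {v : V | F v = v} ≤ p ^ Module.finrank k V := by
  classical
  have key : ∀ W : Set V, W = {v : V | F v = v} →
      W.Finite ∧ Nat.card W ≤ p ^ Module.finrank k V := by
    intro W hW
    have hWmem : ∀ v, v ∈ W ↔ F v = v := fun v => by rw [hW]; rfl
    obtain ⟨b, hbW, hspan, hli⟩ := exists_linearIndependent k W
    have : Finite b := hli.finite
    have : Fintype b := Fintype.ofFinite b
    have hcardb : Fintype.card b ≤ Module.finrank k V := hli.fintype_card_le_finrank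
    have hp : 1 < p := (Fact.out : p.Prime).one_lt
    obtain ⟨Rp, hRpdef⟩ : ∃ Rp : Finset k,
        Rp = (Polynomial.X ^ p - Polynomial.X : Polynomial k).roots.toFinset := ⟨_, rfl⟩
    have hRp : ∀ c : k, c ^ p = c → c ∈ Rp := by
      intro c hc
      rw [hRpdef, Multiset.mem_toFinset,
        Polynomial.mem_roots (FiniteField.X_pow_card_sub_X_ne_zero k hp)]
      simp [Polynomial.IsRoot, hc]
    have hRpcard : Rp.card ≤ p := by
      rw [hRpdef]
      calc (Polynomial.X ^ p - Polynomial.X : Polynomial k).roots.toFinset.card
          ≤ Multiset.card (Polynomial.X ^ p - Polynomial.X : Polynomial k).roots :=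
            Multiset.toFinset_card_le _
        _ ≤ (Polynomial.X ^ p - Polynomial.X : Polynomial k).natDegree :=
            Polynomial.card_roots' _
        _ = p := FiniteField.X_pow_card_sub_X_natDegree_eq k hp
    have hsub : W ⊆ (fun c : b → k => ∑ x : b, c x • (x : V)) ''
        ((Fintype.piFinset (fun _ : b => Rp) : Finset (b → k)) : Set (b → k)) := by
      intro w hw
      have hwspan : w ∈ Submodule.span k (Set.range (fun x : b => (x : V))) := by
        rw [Subtype.range_coe, hspan]
        exact Submodule.subset_span hw
      obtain ⟨c, hc⟩ := (Submodule.mem_span_range_iff_exists_fun k).mp hwspan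
      refine ⟨c, ?_, hc⟩
      rw [Finset.mem_coe, Fintype.mem_piFinset]
      intro x
      apply hRp
      have h1 : F w = ∑ y : b, c y ^ p • (y : V) := by
        rw [← hc, map_sum]
        refine Finset.sum_congr rfl (fun y _ => ?_)
        rw [hF, (hWmem _).mp (hbW y.2)]
      have h2 : ∑ y : b, (c y ^ p - c y) • (y : V) = 0 := by
        simp only [sub_smul, Finset.sum_sub_distrib]
        rw [← h1, hc, (hWmem w).mp hw, sub_self]
      exact sub_eq_zero.mp (Fintype.linearIndependent_iff.mp hli _ h2 x)
    have hfin : ((fun c : b → k => ∑ x : b, c x • (x : V)) ''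
        ((Fintype.piFinset (fun _ : b => Rp) : Finset (b → k)) : Set (b → k))).Finite :=
      (Finset.finite_toSet _).image _
    refine ⟨hfin.subset hsub, ?_⟩
    calc Nat.card W = W.ncard := Nat.card_coe_set_eq W
      _ ≤ ((fun c : b → k => ∑ x : b, c x • (x : V)) ''
          ((Fintype.piFinset (fun _ : b => Rp) : Finset (b → k)) : Set (b → k))).ncard :=
          Set.ncard_le_ncard hsub hfin
      _ ≤ ((Fintype.piFinset (fun _ : b => Rp) : Finset (b → k)) : Set (b → k)).ncard :=
          Set.ncard_image_le (Finset.finite_toSet _)
      _ = (Fintype.piFinset (fun _ : b => Rp)).card := Set.ncard_coe_finset _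
      _ = Rp.card ^ Fintype.card b := by
          rw [Fintype.card_piFinset, Finset.prod_const, Finset.card_univ]
      _ ≤ p ^ Fintype.card b := Nat.pow_le_pow_left hRpcard _
      _ ≤ p ^ Module.finrank k V := Nat.pow_le_pow_right (by omega) hcardb
  exact key _ rfl

end Groth.Agent.S0078
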