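import Groth.Statements.S0090
import Mathlib

set_option autoImplicit false
open CategoryTheory CategoryTheory.Limits AlgebraicGeometry Opposite
universe u
open EtBase

namespace Groth.Agent.S0090
open Polynomial IsLocalRing

section alg
variable {R : Type*} [CommRing R] [IsDomain R] [IsIntegrallyClosed R]
  (K : Type*) [Field K] [Algebra R K] [IsFractionRing R K] [IsSepClosed K]

include K in
theorem natDegree_eq_one {p : R[X]} (hm : p.Monic) (hi : Irreducible p) (hd : derivative p ≠ 0) :
    p.natDegree = 1 := by
  have hiK : Irreducible (p.map (algebraMap R K)) :=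
    (Monic.irreducible_iff_irreducible_map_fraction_map (K := K) hm).mp hi
  have hinj : Function.Injective (algebraMap R K) := IsFractionRing.injective R K
  have hdK : derivative (p.map (algebraMap R K)) ≠ 0 := by
    rw [derivative_map]
    intro h
    apply hd
    apply Polynomial.map_injective _ hinj
    rw [h, Polynomial.map_zero]
  have hsep : (p.map (algebraMap R K)).Separable := (separable_iff_derivative_ne_zero hiK).mpr hdK
  have h1 := IsSepClosed.degree_eq_one_of_irreducible K hiK hsep
  have h2 : (p.map (algebraMap R K)).natDegree = 1 := natDegree_eq_of_degree_eq_some h1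
  rwa [natDegree_map_eq_of_injective hinj] at h2

include K in
theorem henselian_aux [IsLocalRing R] (a₀ : R) : ∀ (n : ℕ) (f : R[X]), f.natDegree = n → f.Monic →
    f.eval a₀ ∈ maximalIdeal R → IsUnit (f.derivative.eval a₀) →
    ∃ a : R, f.IsRoot a ∧ a - a₀ ∈ maximalIdeal R := by
  intro n
  induction n using Nat.strong_induction_on with
  | _ n ih =>
    intro f hn hm h0 hu
    by_cases hi : Irreducible f
    · have hd : derivative f ≠ 0 := by
        rintro h
        rw [h, eval_zero] at hu
        exact not_isUnit_zero hu
      have h1 := natDegree_eq_one K hm hi hd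
      obtain ⟨c, hc⟩ : ∃ c, f = X + C c := ⟨_, hm.eq_X_add_C h1⟩
      subst hc
      refine ⟨-c, by simp [IsRoot.def], ?_⟩
      have h0' : a₀ + c ∈ maximalIdeal R := by simpa using h0
      have : -c - a₀ = -(a₀ + c) := by ring
      rw [this]
      exact neg_mem h0'
    · rw [hm.irreducible_iff_natDegree] at hi
      push_neg at hi
      have hf1 : f ≠ 1 := by
        rintro rfl
        exact (Ideal.ne_top_iff_one _).mp (maximalIdeal.isMaximal R).ne_top (by simpa using h0)
      obtain ⟨p, q, hp, hq, hpq, hpd, hqd⟩ := hi hf1
      have hdeg : p.natDegree + q.natDegree = n := by rw [← hn, ← hpq, hp.natDegree_mul hq]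
      have key : ∀ p q : R[X], p.Monic → q.Monic → p * q = f → q.natDegree ≠ 0 →
          p.natDegree + q.natDegree = n → p.eval a₀ ∈ maximalIdeal R →
          ∃ a, f.IsRoot a ∧ a - a₀ ∈ maximalIdeal R := by
        intro p q hp hq hpq hqd hdeg hp0
        have hpu : IsUnit (p.derivative.eval a₀) := by
          have e : f.derivative.eval a₀ =
              p.derivative.eval a₀ * q.eval a₀ + p.eval a₀ * q.derivative.eval a₀ := by
            rw [← hpq, derivative_mul, eval_add, eval_mul, eval_mul]
          rw [e] at hu
          have hx : IsUnit (p.derivative.eval a₀ * q.eval a₀) := by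
            by_contra hx
            have hx' : p.derivative.eval a₀ * q.eval a₀ ∈ maximalIdeal R :=
              (mem_maximalIdeal _).mpr hx
            have h3 : p.derivative.eval a₀ * q.eval a₀ + p.eval a₀ * q.derivative.eval a₀
                ∈ maximalIdeal R := add_mem hx' (Ideal.mul_mem_right _ _ hp0)
            exact (mem_maximalIdeal _).mp h3 hu
          exact isUnit_of_mul_isUnit_left hx
        obtain ⟨a, ha, ha'⟩ := ih p.natDegree (by omega) p rfl hp hp0 hpu
        refine ⟨a, ?_, ha'⟩
        rw [IsRoot.def] at ha ⊢
        rw [← hpq, eval_mul, ha, zero_mul]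
      have h0' : p.eval a₀ * q.eval a₀ ∈ maximalIdeal R := by
        rw [← eval_mul, hpq]; exact h0
      rcases (maximalIdeal.isMaximal R).isPrime.mem_or_mem h0' with h | h
      · exact key p q hp hq hpq hqd hdeg h
      · exact key q p hq hp (by rw [mul_comm]; exact hpq) hpd (by omega) h

include K in
theorem sepClosed_residue [IsLocalRing R] : IsSepClosed (ResidueField R) := by
  apply IsSepClosed.of_exists_root
  intro pb hm hirr hsep
  have hsurj : Function.Surjective (residue R) := residue_surjective
  obtain ⟨p, hp, hdeg, hpm⟩ := lifts_and_natDegree_eq_and_monic (f := residue R) (p := pb)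
    ((lifts_iff_coeff_lifts _).mpr fun n => hsurj _) hm
  have hpirr : Irreducible p :=
    Monic.irreducible_of_irreducible_map (residue R) p hpm (by rwa [hp])
  have hd : derivative p ≠ 0 := by
    intro h
    have : derivative pb = 0 := by rw [← hp, derivative_map, h, Polynomial.map_zero]
    exact (separable_iff_derivative_ne_zero hirr).mp hsep this
  have h1 := natDegree_eq_one K hpm hpirr hd
  obtain ⟨c, hc⟩ : ∃ c, p = X + C c := ⟨_, hpm.eq_X_add_C h1⟩
  refine ⟨- residue R c, ?_⟩
  rw [← hp, hc]
  simp

end alg


/-- Part (2) — every local ring of an integral normal scheme with separably closed function field is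
strictly henselian. -/
theorem result (X : Scheme.{u}) [IsIntegral X] (hN : ∀ x : X, IsIntegrallyClosed (X.presheaf.stalk x))
    [IsSepClosed X.functionField] (x : X) : EtCoh.IsStrictlyHenselianLocalRing (X.presheaf.stalk x) := by
  haveI := hN x
  exact ⟨{ is_henselian := fun f hm a₀ h0 hu =>
      henselian_aux X.functionField a₀ _ f rfl hm h0 hu },
    sepClosed_residue X.functionField⟩

end Groth.Agent.S0090
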