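import Groth.Statements.S0089
import Mathlib
import Groth.Agent.S0090
import Groth.Agent.H68.StrictHens
import Groth.Agent.H68.SplitEtale

set_option autoImplicit false
open CategoryTheory CategoryTheory.Limits AlgebraicGeometry Opposite
universe u
open EtBase

namespace Groth.Agent.S0089


/-- Part (1) — over an integral normal scheme whose function field is separably closed, any separated
étale scheme is a disjoint union of open subschemes of the base. -/
theorem result {U X : Scheme.{u}} [IsIntegral X] (hN : ∀ x : X, IsIntegrallyClosed (X.presheaf.stalk x))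
    [IsSepClosed X.functionField] (g : U ⟶ X) [AlgebraicGeometry.Etale g] [IsSeparated g] :
    ∃ (ι : Type u) (V : ι → X.Opens) (e : (∐ fun i => (V i : Scheme.{u})) ≅ U),
      ∀ i, Sigma.ι (fun i => (V i : Scheme.{u})) i ≫ e.hom ≫ g = (V i).ι := by
  have hsh := fun x : X => Groth.Agent.S0090.result X hN x
  have hH : ∀ x : X, HenselianLocalRing (X.presheaf.stalk x) := fun x => (hsh x).choose
  have hS : ∀ x : X, IsSepClosed (IsLocalRing.ResidueField (X.presheaf.stalk x)) :=
    fun x => (hsh x).choose_spec
  exact Groth.Agent.H68.SplitEtale.split g
    (Groth.Agent.H68.StrictHens.exists_local_section g hH hS)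

end Groth.Agent.S0089
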