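import Groth.Statements.S0094
import Mathlib
import Groth.Agent.H4.ConnFibre

set_option autoImplicit false
open CategoryTheory CategoryTheory.Limits AlgebraicGeometry Opposite
universe u
open EtBase

namespace Groth.Agent.S0094

/-- For a flat quasi-compact morphism with connected geometric fibres, global sections of an abelian
étale sheaf on the base agree with global sections of its pullback: the unit of the
pullback–pushforward adjunction is bijective on global sections (the source proves this for sheaves
of sets; the abelian case is stated). -/
theorem result {T S : Scheme.{u}} (f : T ⟶ S) [Flat f] [QuasiCompact f] [EtCoh.BCCont f]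
    (hc : ∀ (Ω : Type u) [Field Ω] [IsAlgClosed Ω] (s : Spec (CommRingCat.of Ω) ⟶ S),
      ConnectedSpace ↥(pullback f s))
    (F : EtCoh.Ab S) :
    Function.Bijective (((EtCoh.pullPushAdj f).unit.app F).hom.app (op (EtCoh.top S))) := by
  have hsurj : Surjective f := by
    refine ⟨fun s => ?_⟩
    let Ω := AlgebraicClosure (S.residueField s)
    let sbar : Spec (CommRingCat.of Ω) ⟶ S :=
      Spec.map (CommRingCat.ofHom (algebraMap (S.residueField s) Ω)) ≫ S.fromSpecResidueField s
    haveI := hc Ω sbar
    obtain ⟨z⟩ : Nonempty ↥(pullback f sbar) := inferInstance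
    refine ⟨(pullback.fst f sbar).base z, ?_⟩
    have h1 : f.base ((pullback.fst f sbar).base z) = sbar.base ((pullback.snd f sbar).base z) := by
      rw [← Scheme.Hom.comp_apply, ← Scheme.Hom.comp_apply, pullback.condition]
    refine h1.trans ?_
    show (Spec.map (CommRingCat.ofHom (algebraMap (S.residueField s) Ω)) ≫
      S.fromSpecResidueField s).base _ = s
    rw [Scheme.Hom.comp_apply]
    exact Scheme.fromSpecResidueField_apply _ _
  have hsub : ∀ (S' : Scheme.{u}) (g : S' ⟶ S),
      Topology.IsQuotientMap (pullback.snd f g).base := by
    intro S' g
    exact Flat.isQuotientMap_of_surjective (pullback.snd f g)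
  exact Groth.Agent.H4.ConnFibre.bijective_unit f F hsub hc

end Groth.Agent.S0094
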