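import Groth.Statements.S0095
import Mathlib
import Groth.Agent.H4.SepClosedTensor
import Groth.Agent.S0094

set_option autoImplicit false
open CategoryTheory CategoryTheory.Limits AlgebraicGeometry Opposite
universe u
open EtBase

namespace Groth.Agent.S0095

open TensorProduct in
/-- The geometric fibres of the base change `S_K ⟶ S` are spectra of `Ω ⊗[k] K`, hence connected when `k` is
separably closed. -/
theorem connectedSpace_fibre {k K : Type u} [Field k] [IsSepClosed k] [Field K] [Algebra k K]
    {S : Scheme.{u}} (a : S ⟶ Spec (CommRingCat.of k)) (Ω : Type u) [Field Ω] [IsAlgClosed Ω]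
    (s : Spec (CommRingCat.of Ω) ⟶ S) :
    ConnectedSpace
      ↥(pullback (pullback.fst a (Spec.map (CommRingCat.ofHom (algebraMap k K)))) s) := by
  obtain ⟨κ, hκ⟩ : ∃ κ : Spec (CommRingCat.of K) ⟶ Spec (CommRingCat.of k),
    κ = Spec.map (CommRingCat.ofHom (algebraMap k K)) := ⟨_, rfl⟩
  rw [← hκ]
  obtain ⟨φ, hφ⟩ : ∃ φ : CommRingCat.of k ⟶ CommRingCat.of Ω, Spec.map φ = s ≫ a :=
    ⟨Spec.preimage (s ≫ a), Spec.map_preimage _⟩
  letI : Algebra k Ω := φ.hom.toAlgebra
  have hφ' : s ≫ a = Spec.map (CommRingCat.ofHom (algebraMap k Ω)) := hφ.symm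
  let i1 : pullback (pullback.fst a κ) s ≅ pullback s (pullback.fst a κ) := pullbackSymmetry _ _
  let i2 : pullback s (pullback.fst a κ) ≅ pullback (s ≫ a) κ := pullbackRightPullbackFstIso a κ s
  let i3 : pullback (s ≫ a) κ ≅ pullback (Spec.map (CommRingCat.ofHom (algebraMap k Ω)))
      (Spec.map (CommRingCat.ofHom (algebraMap k K))) := pullback.congrHom hφ' hκ
  let i4 : pullback (Spec.map (CommRingCat.ofHom (algebraMap k Ω)))
      (Spec.map (CommRingCat.ofHom (algebraMap k K))) ≅ Spec (.of (Ω ⊗[k] K)) :=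
    pullbackSpecIso k Ω K
  obtain ⟨i, -⟩ : ∃ i : pullback (pullback.fst a κ) s ≅ Spec (.of (Ω ⊗[k] K)),
    i = i1 ≪≫ i2 ≪≫ i3 ≪≫ i4 := ⟨_, rfl⟩
  haveI : ConnectedSpace ↥(Spec (CommRingCat.of (Ω ⊗[k] K))) :=
    Groth.Agent.H4.SepClosedTensor.connectedSpace_tensor k Ω K
  exact (Scheme.homeoOfIso i.symm).surjective.connectedSpace (Scheme.homeoOfIso i.symm).continuous


/-- For a scheme over a separably closed field k and a field extension K of k, global sections of an
abelian étale sheaf do not change under base change to K (the source proves this for sheaves of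
sets; the abelian case is stated). -/
theorem result {k K : Type u} [Field k] [IsSepClosed k] [Field K] [Algebra k K]
    {S : Scheme.{u}} (a : S ⟶ Spec (CommRingCat.of k))
    [EtCoh.BCCont (pullback.fst a (Spec.map (CommRingCat.ofHom (algebraMap k K))))]
    (F : EtCoh.Ab S) :
    Function.Bijective (((EtCoh.pullPushAdj
      (pullback.fst a (Spec.map (CommRingCat.ofHom (algebraMap k K))))).unit.app F).hom.app
        (op (EtCoh.top S))) := by
  haveI hff : Flat (Spec.map (CommRingCat.ofHom (algebraMap k K))) := by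
    rw [Flat.SpecMap_iff]
    show (algebraMap k K).Flat
    exact RingHom.flat_algebraMap_iff.2 inferInstance
  haveI : QuasiCompact (Spec.map (CommRingCat.ofHom (algebraMap k K))) := inferInstance
  refine Groth.Agent.S0094.result _ ?_ F
  intro Ω _ _ s
  exact connectedSpace_fibre a Ω s

end Groth.Agent.S0095
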