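import Groth.Statements.S0096
import Mathlib
import Groth.Agent.H68.EtLoc
import Groth.Agent.S0097
import Groth.Agent.S0098

set_option autoImplicit false
open CategoryTheory CategoryTheory.Limits AlgebraicGeometry Opposite
universe u
open EtBase

namespace Groth.Agent.S0096


/-- A finite unramified morphism becomes, after base change to a suitable étale neighbourhood of any
point of the base, a finite disjoint union of closed immersions. -/
theorem result {X S : Scheme.{u}} (f : X ⟶ S) [IsFinite f] [FormallyUnramified f] (s : S) :
    ∃ (U : Scheme.{u}) (g : U ⟶ S) (_ : AlgebraicGeometry.Etale g) (u : U) (_ : g.base u = s)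
      (n : ℕ) (V : Fin n → Scheme.{u}) (c : ∀ j, V j ⟶ U) (_ : ∀ j, IsClosedImmersion (c j))
      (e : (∐ V) ≅ pullback f g), ∀ j, Sigma.ι V j ≫ e.hom ≫ pullback.snd f g = c j := by
  classical
  haveI : FormallyUnramified ((⊤ : X.Opens).ι ≫ f) :=
    IsZariskiLocalAtSource.comp (P := @FormallyUnramified) inferInstance _
  exact Groth.Agent.H68.EtLoc.finite_case @IsClosedImmersion le_rfl f s
      (fun {U} g V u v hfin hfib hres => by
        haveI := hfin
        haveI : FormallyUnramified (pullback.snd ((⊤ : X.Opens).ι ≫ f) g) :=
          MorphismProperty.pullback_snd _ _ inferInstance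
        haveI : FormallyUnramified (V.ι ≫ pullback.snd ((⊤ : X.Opens).ι ≫ f) g) :=
          IsZariskiLocalAtSource.comp (P := @FormallyUnramified) inferInstance _
        exact Groth.Agent.S0097.result _ u v hfib hres)

end Groth.Agent.S0096
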