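import Groth.Statements.S0102
import Mathlib
import Groth.Agent.H4.EtaleRes

set_option autoImplicit false
open CategoryTheory CategoryTheory.Limits AlgebraicGeometry Opposite
universe u
open EtBase

namespace Groth.Agent.S0102


open Groth.Agent.H4

/-- A section of an abelian étale sheaf over an étale scheme U vanishes on pullback to an étale V → U
exactly when V maps into a certain largest open subset of U. -/
theorem result {S : Scheme.{u}} (F : EtCoh.Ab S) (U : S.Etale) (σ : EtCoh.sect F U) :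
    ∃ W : U.left.Opens, ∀ (V : S.Etale) (φ : V ⟶ U),
      F.obj.map φ.op σ = 0 ↔ Set.range φ.left.base ⊆ (W : Set U.left) := by
  let Wset : Set U.left := {x | ∃ (V : S.Etale) (φ : V ⟶ U) (v : V.left),
    F.obj.map φ.op σ = 0 ∧ φ.left.base v = x}
  have hopen : IsOpen Wset := by
    rw [isOpen_iff_forall_mem_open]
    rintro x ⟨V, φ, v, hφ, rfl⟩
    haveI : Etale φ.left := inferInstance
    refine ⟨Set.range φ.left.base, ?_, φ.left.isOpenMap.isOpen_range, ⟨v, rfl⟩⟩
    rintro _ ⟨v', rfl⟩
    exact ⟨V, φ, v', hφ, rfl⟩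
  refine ⟨⟨Wset, hopen⟩, fun V φ => ⟨?_, ?_⟩⟩
  · rintro hφ _ ⟨v, rfl⟩
    exact ⟨V, φ, v, hφ, rfl⟩
  · intro hsub
    apply eq_of_locally_eq F V
    intro v
    obtain ⟨V', φ', v', hφ', hv'⟩ := hsub ⟨v, rfl⟩
    obtain ⟨p, hp1, hp2⟩ := Scheme.Pullback.exists_preimage_pullback
      (f := φ.left) (g := φ'.left) v v' hv'.symm
    haveI : Etale V.hom := V.prop
    haveI : Etale φ'.left := inferInstance
    let P : S.Etale := Scheme.Etale.mk (pullback.fst φ.left φ'.left ≫ V.hom)
    let q1 : P ⟶ V := MorphismProperty.Over.homMk (pullback.fst φ.left φ'.left) rfl trivial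
    let q2 : P ⟶ V' := MorphismProperty.Over.homMk (pullback.snd φ.left φ'.left) (by
      show pullback.snd φ.left φ'.left ≫ V'.hom = pullback.fst φ.left φ'.left ≫ V.hom
      have h1 : φ.left ≫ U.hom = V.hom := Over.w φ.hom
      have h2 : φ'.left ≫ U.hom = V'.hom := Over.w φ'.hom
      rw [← h1, ← h2, ← Category.assoc, ← Category.assoc, pullback.condition]) trivial
    have hq : q1 ≫ φ = q2 ≫ φ' := by
      apply MorphismProperty.Over.Hom.ext
      exact pullback.condition
    refine ⟨P, q1, p, hp1, ?_⟩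
    rw [map_zero]
    calc F.obj.map q1.op (F.obj.map φ.op σ) = F.obj.map (q1 ≫ φ).op σ := by
          rw [op_comp, Functor.map_comp_apply]
      _ = F.obj.map (q2 ≫ φ').op σ := by rw [hq]
      _ = F.obj.map q2.op (F.obj.map φ'.op σ) := by rw [op_comp, Functor.map_comp_apply]
      _ = 0 := by rw [hφ', map_zero]

end Groth.Agent.S0102
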