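import Groth.Statements.S0105
import Mathlib
import Groth.Agent.H4.StalkConst

set_option autoImplicit false
open CategoryTheory CategoryTheory.Limits AlgebraicGeometry Opposite
universe u
open EtBase

namespace Groth.Agent.S0105

open Groth.Agent.H4

set_option backward.isDefEq.respectTransparency.types false in
/-- If `F` is constant with value `G₁` over `U₁` and with value `G₂` over `U₂`, and the images of
`U₁` and `U₂` in `X` meet, then `G₁ ≅ G₂`. -/
theorem value_iso_of_overlap {X : Scheme.{u}} (F : EtCoh.Ab X) (U₁ U₂ : X.Etale)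
    (G₁ G₂ : AddCommGrpCat.{u + 1})
    (e₁ : EtCoh.restr F U₁ ≅
      (constantSheaf (X.smallEtaleTopology.over U₁) AddCommGrpCat.{u + 1}).obj G₁)
    (e₂ : EtCoh.restr F U₂ ≅
      (constantSheaf (X.smallEtaleTopology.over U₂) AddCommGrpCat.{u + 1}).obj G₂)
    (y₁ : U₁.left) (y₂ : U₂.left) (hy : U₁.hom.base y₁ = U₂.hom.base y₂) :
    Nonempty (G₁ ≅ G₂) := by
  obtain ⟨Ω, hΩ, hΩ', ξ, t₁, ht₁⟩ := exists_geometric_point U₁ y₁
  have hξ : U₂.hom.base y₂ = ξ.base (default : Spec (CommRingCat.of Ω)) := by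
    have h2 : t₁.left ≫ U₁.hom = ξ := Over.w t₁
    rw [← hy, ← ht₁]
    exact congrArg (fun q : Spec (CommRingCat.of Ω) ⟶ X =>
      q.base (default : Spec (CommRingCat.of Ω))) h2
  obtain ⟨l, hl1, -⟩ := Scheme.exists_fac_of_etale_of_isSepClosed U₂.hom ξ y₂ hξ
  let t₂ : (Scheme.pointSmallEtale ξ).fiber.obj U₂ :=
    (Over.homMk l hl1 : (Over.mk ξ : Over X) ⟶ (Scheme.Etale.forget X).obj U₂)
  let Φ := Scheme.pointSmallEtale ξ
  let a₁ : G₁ ≅ Φ.sheafFiber.obj F :=
    (stalkConstIso (Φ.over t₁) G₁).symm ≪≫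
      ((Φ.over t₁).sheafFiber.mapIso e₁.symm) ≪≫ overStalkIso Φ t₁ F
  let a₂ : G₂ ≅ Φ.sheafFiber.obj F :=
    (stalkConstIso (Φ.over t₂) G₂).symm ≪≫
      ((Φ.over t₂).sheafFiber.mapIso e₂.symm) ≪≫ overStalkIso Φ t₂ F
  exact ⟨a₁ ≪≫ a₂.symm⟩

/-- On a connected scheme X, a finite locally constant abelian sheaf F on the small étale site is, étale
locally, constant with one and the same finite group everywhere: there are a finite abelian group M
and an étale covering (U_i) of X such that the restriction of F to every U_i is isomorphic to the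
constant sheaf with value M. (The published statement covers arbitrary locally constant sheaves of
modules; stated here for finite locally constant abelian sheaves.) -/
theorem result {X : Scheme.{u}} [ConnectedSpace X] (F : EtCoh.Ab X) (h : EtCoh.IsFiniteLocallyConstant F) :
    ∃ (M : Type) (_ : AddCommGroup M) (_ : Finite M) (ι : Type u) (U : ι → X.Etale), EtCoh.Covers U ∧
      ∀ i, Nonempty (EtCoh.restr F (U i) ≅
        (constantSheaf (X.smallEtaleTopology.over (U i)) AddCommGrpCat.{u + 1}).obj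
          (AddCommGrpCat.of (ULift.{u + 1} M))) := by
  obtain ⟨ι, U, hcov, hloc⟩ := h
  choose M hM1 hM2 hiso using hloc
  let G : ι → AddCommGrpCat.{u + 1} := fun i =>
    @AddCommGrpCat.of (ULift.{u + 1} (M i)) (@ULift.addCommGroup _ (hM1 i))
  have hisoG : ∀ i, Nonempty (EtCoh.restr F (U i) ≅
      (constantSheaf (X.smallEtaleTopology.over (U i)) AddCommGrpCat.{u + 1}).obj (G i)) :=
    fun i => hiso i
  have key : ∀ (i k : ι) (yi : (U i).left) (yk : (U k).left),
      (U i).hom.base yi = (U k).hom.base yk → Nonempty (G i ≅ G k) := by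
    intro i k yi yk hy
    obtain ⟨ei⟩ := hisoG i
    obtain ⟨ek⟩ := hisoG k
    exact value_iso_of_overlap F (U i) (U k) (G i) (G k) ei ek yi yk hy
  obtain ⟨i0, y0, hy0⟩ := hcov (Classical.arbitrary X)
  let A : Set X := {x | ∃ (i : ι) (y : (U i).left), (U i).hom.base y = x ∧ Nonempty (G i ≅ G i0)}
  let B : Set X := {x | ∃ (i : ι) (y : (U i).left), (U i).hom.base y = x ∧ ¬ Nonempty (G i ≅ G i0)}
  have hA : IsOpen A := by
    have : A = ⋃ (i : ι) (_ : Nonempty (G i ≅ G i0)), Set.range (U i).hom.base := by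
      ext x
      simp only [A, Set.mem_setOf_eq, Set.mem_iUnion, Set.mem_range, exists_prop]
      constructor
      · rintro ⟨i, y, hy, hi⟩
        exact ⟨i, hi, y, hy⟩
      · rintro ⟨i, hi, y, hy⟩
        exact ⟨i, y, hy, hi⟩
    rw [this]
    exact isOpen_iUnion fun i => isOpen_iUnion fun _ => (U i).hom.isOpenMap.isOpen_range
  have hB : IsOpen B := by
    have : B = ⋃ (i : ι) (_ : ¬ Nonempty (G i ≅ G i0)), Set.range (U i).hom.base := by
      ext x
      simp only [B, Set.mem_setOf_eq, Set.mem_iUnion, Set.mem_range, exists_prop]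
      constructor
      · rintro ⟨i, y, hy, hi⟩
        exact ⟨i, hi, y, hy⟩
      · rintro ⟨i, hi, y, hy⟩
        exact ⟨i, y, hy, hi⟩
    rw [this]
    exact isOpen_iUnion fun i => isOpen_iUnion fun _ => (U i).hom.isOpenMap.isOpen_range
  have hAB : Aᶜ = B := by
    ext x
    constructor
    · intro hx
      obtain ⟨i, y, hy⟩ := hcov x
      refine ⟨i, y, hy, fun hi => hx ⟨i, y, hy, hi⟩⟩
    · rintro ⟨i, y, hy, hi⟩ ⟨k, yk, hyk, hk⟩
      obtain ⟨eik⟩ := key i k y yk (hy.trans hyk.symm)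
      obtain ⟨ek⟩ := hk
      exact hi ⟨eik ≪≫ ek⟩
  have hAclopen : IsClopen A := ⟨by rw [← isOpen_compl_iff, hAB]; exact hB, hA⟩
  have hAne : A.Nonempty := ⟨_, i0, y0, hy0, ⟨Iso.refl _⟩⟩
  have hAuniv : A = Set.univ := (isClopen_iff.1 hAclopen).resolve_left hAne.ne_empty
  have hall : ∀ (i : ι) (y : (U i).left), Nonempty (G i ≅ G i0) := by
    intro i y
    have hx : (U i).hom.base y ∈ A := by rw [hAuniv]; trivial
    obtain ⟨k, yk, hyk, ⟨ek⟩⟩ := hx
    obtain ⟨eik⟩ := key i k y yk hyk.symm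
    exact ⟨eik ≪≫ ek⟩
  refine ⟨M i0, hM1 i0, hM2 i0, {i : ι // Nonempty (U i).left}, fun i => U i.1, ?_, ?_⟩
  · intro x
    obtain ⟨i, y, hy⟩ := hcov x
    exact ⟨⟨i, ⟨y⟩⟩, y, hy⟩
  · rintro ⟨i, ⟨y⟩⟩
    obtain ⟨ei⟩ := hisoG i
    obtain ⟨e0⟩ := hall i y
    exact ⟨ei ≪≫ (constantSheaf (X.smallEtaleTopology.over (U i)) AddCommGrpCat.{u + 1}).mapIso e0⟩

end Groth.Agent.S0105
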