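import Groth.Statements.S0111
import Mathlib
import Groth.Agent.H68.EtLocRing
import Groth.Agent.H4.GeomPoints

set_option autoImplicit false
open CategoryTheory CategoryTheory.Limits AlgebraicGeometry Opposite
universe u
open EtBase

namespace Groth.Agent.S0111

open CategoryTheory CategoryTheory.Limits AlgebraicGeometry Opposite Polynomial

variable {X : Scheme.{u}} {Ω : Type u} [Field Ω] [IsSepClosed Ω]
  (ξ : Spec (CommRingCat.of Ω) ⟶ X)

theorem isUnit_of_basicOpen_eq_top {Y : Scheme.{u}} (t : Γ(Y, ⊤)) (h : Y.basicOpen t = ⊤) :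
    IsUnit t := by
  refine Y.toRingedSpace.isUnit_of_isUnit_germ ⊤ t (fun x hx => ?_)
  have hx' : x ∈ Y.basicOpen t := by rw [h]; trivial
  exact (Y.mem_basicOpen_top t x).mp hx'

/-- evaluation of the étale local ring at the geometric point -/
noncomputable def ev : EtBase.etaleLocalRing ξ ⟶ CommRingCat.of Ω :=
  (Scheme.pointSmallEtale ξ).presheafFiberDesc (P := EtBase.OO X)
    (fun U τ => τ.left.appTop ≫ (Scheme.ΓSpecIso (CommRingCat.of Ω)).hom)
    (fun U V g τ => (Category.assoc _ _ _).symm.trans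
      (congrArg (fun q => q ≫ (Scheme.ΓSpecIso (CommRingCat.of Ω)).hom)
        (Scheme.Hom.comp_appTop τ.left g.left).symm))

theorem ev_to (U : X.Etale) (τ : (Scheme.pointSmallEtale ξ).fiber.obj U)
    (s : Γ(U.left, ⊤)) :
    (ev ξ).hom ((Scheme.pointSmallEtale ξ).toPresheafFiber U τ (EtBase.OO X) s) =
      (Scheme.ΓSpecIso (CommRingCat.of Ω)).hom (τ.left.appTop s) := by
  have := (Scheme.pointSmallEtale ξ).toPresheafFiber_presheafFiberDesc (P := EtBase.OO X)
    (fun U τ => τ.left.appTop ≫ (Scheme.ΓSpecIso (CommRingCat.of Ω)).hom)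
    (fun U V g τ => (Category.assoc _ _ _).symm.trans
      (congrArg (fun q => q ≫ (Scheme.ΓSpecIso (CommRingCat.of Ω)).hom)
        (Scheme.Hom.comp_appTop τ.left g.left).symm)) U τ
  exact congr($(this).hom s)

theorem H1 (r : EtBase.etaleLocalRing ξ) (hr : (ev ξ).hom r ≠ 0) : IsUnit r := by
  obtain ⟨U, τ, s, rfl⟩ := (Scheme.pointSmallEtale ξ).toPresheafFiber_jointly_surjective r
  obtain ⟨t, ht⟩ : ∃ t : Spec (CommRingCat.of Ω) ⟶ U.left, t = τ.left := ⟨_, rfl⟩
  obtain ⟨s', hs'⟩ : ∃ s' : Γ(U.left, ⊤), s' = s := ⟨_, rfl⟩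
  have hr' : (Scheme.ΓSpecIso (CommRingCat.of Ω)).hom (t.appTop s') ≠ 0 := by
    rw [ht, hs']
    exact fun h => hr ((ev_to ξ U τ s).trans h)
  -- the basic open
  let D : U.left.Opens := U.left.basicOpen s'
  haveI : Etale U.hom := U.prop
  let V : X.Etale := Scheme.Etale.mk (D.ι ≫ U.hom)
  let g : V ⟶ U := MorphismProperty.Over.homMk D.ι rfl trivial
  have hunit : IsUnit (t.appTop s') := by
    have h1 : IsUnit ((Scheme.ΓSpecIso (CommRingCat.of Ω)).hom (t.appTop s')) :=
      isUnit_iff_ne_zero.mpr hr'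
    have h2 := h1.map (Scheme.ΓSpecIso (CommRingCat.of Ω)).inv.hom
    simpa using h2
  have hmem : t (default : Spec (CommRingCat.of Ω)) ∈ D := by
    have h1 : t ⁻¹ᵁ D = ⊤ := by
      rw [Scheme.preimage_basicOpen_top, Scheme.basicOpen_of_isUnit _ hunit]
    have : (default : Spec (CommRingCat.of Ω)) ∈ t ⁻¹ᵁ D := by rw [h1]; trivial
    exact this
  have hpt : g.left (⟨t (default : Spec (CommRingCat.of Ω)), hmem⟩ : ↥D) =
      τ.left (default : Spec (CommRingCat.of Ω)) := by
    have h0 : D.ι ⟨t (default : Spec (CommRingCat.of Ω)), hmem⟩ = t default := rfl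
    exact h0.trans (congrArg (fun q : Spec (CommRingCat.of Ω) ⟶ U.left => q default) ht)
  obtain ⟨τ', hτ', -⟩ := Groth.Agent.H4.exists_fiber_lift ξ g τ
    ⟨t (default : Spec (CommRingCat.of Ω)), hmem⟩ hpt
  rw [← hτ', ← (Scheme.pointSmallEtale ξ).toPresheafFiber_w_apply g τ' (EtBase.OO X) s]
  apply IsUnit.map
  rw [← hs']
  show IsUnit (D.ι.appTop s')
  apply isUnit_of_basicOpen_eq_top
  rw [← Scheme.preimage_basicOpen_top]
  exact Scheme.Opens.ι_preimage_self D

/-- ranges of the structure maps into the étale local ring grow along refinements -/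
theorem range_mono {U V : X.Etale} (g : V ⟶ U) (σ : (Scheme.pointSmallEtale ξ).fiber.obj V)
    (r : EtBase.etaleLocalRing ξ)
    (hr : r ∈ Set.range ((Scheme.pointSmallEtale ξ).toPresheafFiber U
      ((Scheme.pointSmallEtale ξ).fiber.map g σ) (EtBase.OO X)).hom) :
    r ∈ Set.range ((Scheme.pointSmallEtale ξ).toPresheafFiber V σ (EtBase.OO X)).hom := by
  obtain ⟨s, rfl⟩ := hr
  exact ⟨(EtBase.OO X).map g.op s,
    (Scheme.pointSmallEtale ξ).toPresheafFiber_w_apply g σ (EtBase.OO X) s⟩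

theorem exists_common (S : Finset (EtBase.etaleLocalRing ξ)) :
    ∃ (U : X.Etale) (τ : (Scheme.pointSmallEtale ξ).fiber.obj U), ∀ r ∈ S,
      r ∈ Set.range ((Scheme.pointSmallEtale ξ).toPresheafFiber U τ (EtBase.OO X)).hom := by
  classical
  induction S using Finset.induction_on with
  | empty =>
    obtain ⟨⟨U, τ⟩⟩ : Nonempty (Scheme.pointSmallEtale ξ).fiber.Elements := IsCofiltered.nonempty
    exact ⟨U, τ, fun r hr => absurd hr (Finset.notMem_empty r)⟩
  | insert r S _ ih =>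
    obtain ⟨U₂, τ₂, h₂⟩ := ih
    obtain ⟨U₁, τ₁, s₁, hs₁⟩ :=
      (Scheme.pointSmallEtale ξ).toPresheafFiber_jointly_surjective r
    let x₁ : (Scheme.pointSmallEtale ξ).fiber.Elements := ⟨U₁, τ₁⟩
    let x₂ : (Scheme.pointSmallEtale ξ).fiber.Elements := ⟨U₂, τ₂⟩
    let m : (Scheme.pointSmallEtale ξ).fiber.Elements := IsCofiltered.min x₁ x₂
    let e₁ : m ⟶ x₁ := IsCofiltered.minToLeft x₁ x₂
    let e₂ : m ⟶ x₂ := IsCofiltered.minToRight x₁ x₂
    refine ⟨m.1, m.2, fun r' hr' => ?_⟩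
    rcases Finset.mem_insert.mp hr' with rfl | hr'
    · apply range_mono ξ e₁.1 m.2
      have h : (Scheme.pointSmallEtale ξ).fiber.map e₁.1 m.2 = τ₁ := e₁.2
      rw [h]
      exact ⟨s₁, hs₁⟩
    · apply range_mono ξ e₂.1 m.2
      have h : (Scheme.pointSmallEtale ξ).fiber.map e₂.1 m.2 = τ₂ := e₂.2
      rw [h]
      exact h₂ r' hr'

theorem exists_monic_lift (f : (EtBase.etaleLocalRing ξ)[X]) (hf : f.Monic) :
    ∃ (U : X.Etale) (τ : (Scheme.pointSmallEtale ξ).fiber.obj U)
      (toU : Γ(U.left, ⊤) →+* EtBase.etaleLocalRing ξ) (F : Γ(U.left, ⊤)[X]),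
      (∀ s, toU s = (Scheme.pointSmallEtale ξ).toPresheafFiber U τ (EtBase.OO X) s) ∧
      F.Monic ∧ F.map toU = f := by
  classical
  obtain ⟨U, τ, h⟩ := exists_common ξ (Finset.image f.coeff (Finset.range (f.natDegree + 1)))
  have hl : f ∈ Polynomial.lifts
      ((Scheme.pointSmallEtale ξ).toPresheafFiber U τ (EtBase.OO X)).hom := by
    rw [lifts_iff_coeff_lifts]
    intro n
    by_cases hn : n < f.natDegree + 1
    · exact h _ (Finset.mem_image_of_mem _ (Finset.mem_range.mpr hn))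
    · rw [coeff_eq_zero_of_natDegree_lt (by omega)]
      exact ⟨0, map_zero _⟩
  obtain ⟨F, hF1, -, hF2⟩ := lifts_and_natDegree_eq_and_monic hl hf
  exact ⟨U, τ, ((Scheme.pointSmallEtale ξ).toPresheafFiber U τ (EtBase.OO X)).hom, F,
    fun _ => rfl, hF2, hF1⟩

/-- affine refinement of an étale neighbourhood -/
theorem exists_affine_refinement (U : X.Etale) (τ : (Scheme.pointSmallEtale ξ).fiber.obj U) :
    ∃ (B : CommRingCat.{u}) (j : Spec B ⟶ U.left) (_ : IsOpenImmersion j)
      (y : Spec (CommRingCat.of Ω) ⟶ Spec B), y ≫ j = τ.left := by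
  obtain ⟨t, ht⟩ : ∃ t : Spec (CommRingCat.of Ω) ⟶ U.left, t = τ.left := ⟨_, rfl⟩
  obtain ⟨B, j, hj, hmem, -⟩ := Scheme.exists_affine_mem_range_and_range_subset
    (x := t (default : Spec (CommRingCat.of Ω))) (U := ⊤) (by trivial)
  refine ⟨B, j, hj, IsOpenImmersion.lift j t ?_, ?_⟩
  · rintro _ ⟨a, rfl⟩
    rwa [Subsingleton.elim a default]
  · exact (IsOpenImmersion.lift_fac j t _).trans ht

theorem H2 (f : (EtBase.etaleLocalRing ξ)[X]) (hf : f.Monic) (x₀ : Ω)
    (h0 : (f.map (ev ξ).hom).eval x₀ = 0) (h1 : (f.map (ev ξ).hom).derivative.eval x₀ ≠ 0) :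
    ∃ a : EtBase.etaleLocalRing ξ, f.IsRoot a ∧ (ev ξ).hom a = x₀ := by
  obtain ⟨U, τ, toU, F, htoU, hFm, hFf⟩ := exists_monic_lift ξ f hf
  obtain ⟨B, j, hj, y, hy⟩ := exists_affine_refinement ξ U τ
  haveI := hj
  haveI : Etale U.hom := U.prop
  -- the affine refinement `U₁`
  let U₁ : X.Etale := Scheme.Etale.mk (j ≫ U.hom)
  let g₁ : U₁ ⟶ U := MorphismProperty.Over.homMk j rfl trivial
  have hτw : τ.left ≫ U.hom = ξ := Over.w τ
  have hyξ : y ≫ (j ≫ U.hom) = ξ := by rw [← Category.assoc, hy]; exact hτw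
  let τ₁ : (Scheme.pointSmallEtale ξ).fiber.obj U₁ := Over.homMk y hyξ
  have hτ₁ : (Scheme.pointSmallEtale ξ).fiber.map g₁ τ₁ = τ := by
    apply Over.OverMorphism.ext
    exact hy
  -- the ring map `β : B → Ω`
  obtain ⟨β, hβ⟩ : ∃ β : B ⟶ CommRingCat.of Ω, Spec.map β = y := ⟨Spec.preimage y, Spec.map_preimage y⟩
  have hy' : Spec.map β ≫ j = τ.left := by rw [hβ]; exact hy
  let ρ : Γ(U.left, ⊤) →+* B := ((Scheme.ΓSpecIso B).hom.hom).comp (j.appTop.hom)
  have hFBm : (F.map ρ).Monic := hFm.map ρ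
  have hev : ∀ s : Γ(U.left, ⊤), (ev ξ).hom (toU s) = β.hom (ρ s) := by
    intro s
    rw [htoU]
    refine (ev_to ξ U τ s).trans ?_
    have e1 : τ.left.appTop = j.appTop ≫ (Spec.map β).appTop :=
      (congrArg Scheme.Hom.appTop hy').symm.trans (Scheme.Hom.comp_appTop (Spec.map β) j)
    have e2 := Scheme.ΓSpecIso_naturality β
    have e3 : τ.left.appTop ≫ (Scheme.ΓSpecIso (CommRingCat.of Ω)).hom =
        j.appTop ≫ (Scheme.ΓSpecIso B).hom ≫ β := by
      rw [e1]
      exact (Category.assoc _ _ _).trans (congrArg (fun q => j.appTop ≫ q) e2)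
    exact congr($(e3).hom s)
  have hfmap : f.map (ev ξ).hom = (F.map ρ).map β.hom := by
    rw [← hFf, Polynomial.map_map, Polynomial.map_map]
    congr 1
    ext s
    exact hev s
  -- the standard étale pair
  letI : Algebra B Ω := β.hom.toAlgebra
  let P : StandardEtalePair B := ⟨F.map ρ, hFBm, derivative (F.map ρ), ⟨1, 0, 1, by simp⟩⟩
  have hmap : P.HasMap x₀ := by
    constructor
    · show aeval x₀ (F.map ρ) = 0
      rw [aeval_def, eval₂_eq_eval_map]
      show ((F.map ρ).map β.hom).eval x₀ = 0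
      rw [← hfmap]; exact h0
    · show IsUnit (aeval x₀ (derivative (F.map ρ)))
      rw [aeval_def, eval₂_eq_eval_map]
      show IsUnit (((derivative (F.map ρ)).map β.hom).eval x₀)
      rw [← derivative_map, ← hfmap]
      exact isUnit_iff_ne_zero.mpr h1
  let lam : P.Ring →ₐ[B] Ω := P.lift x₀ hmap
  have hlam : lam P.X = x₀ := P.lift_X x₀ hmap
  -- the étale neighbourhood `V = Spec P.Ring`
  let α : B ⟶ CommRingCat.of P.Ring := CommRingCat.ofHom (algebraMap B P.Ring)
  haveI : Etale (Spec.map α) :=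
    (HasRingHomProperty.Spec_iff (P := @Etale)).mpr (RingHom.etale_algebraMap.mpr inferInstance)
  let V : X.Etale := Scheme.Etale.mk (Spec.map α ≫ j ≫ U.hom)
  let g₂ : V ⟶ U₁ := MorphismProperty.Over.homMk (Spec.map α) rfl trivial
  let lc : CommRingCat.of P.Ring ⟶ CommRingCat.of Ω := CommRingCat.ofHom lam.toRingHom
  have hαl : α ≫ lc = β := by
    ext b
    exact lam.commutes b
  have hτ₂w : Spec.map lc ≫ (Spec.map α ≫ j ≫ U.hom) = ξ := by
    rw [← Category.assoc, ← Spec.map_comp, hαl, hβ]; exact hyξ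
  let τ₂ : (Scheme.pointSmallEtale ξ).fiber.obj V := Over.homMk (Spec.map lc) hτ₂w
  have hτ₂ : (Scheme.pointSmallEtale ξ).fiber.map g₂ τ₂ = τ₁ := by
    apply Over.OverMorphism.ext
    show Spec.map lc ≫ Spec.map α = y
    rw [← Spec.map_comp, hαl, hβ]
  -- the root
  let a' : Γ(Spec (CommRingCat.of P.Ring), ⊤) :=
    (Scheme.ΓSpecIso (CommRingCat.of P.Ring)).inv P.X
  have ha' : (Scheme.ΓSpecIso (CommRingCat.of P.Ring)).hom a' = P.X := by
    simp [a']
  let γ : Γ(U.left, ⊤) →+* Γ(Spec (CommRingCat.of P.Ring), ⊤) :=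
    (Spec.map α).appTop.hom.comp j.appTop.hom
  obtain ⟨toV, htoV⟩ : ∃ toV : Γ(Spec (CommRingCat.of P.Ring), ⊤) →+* EtBase.etaleLocalRing ξ,
      ∀ s, toV s = (Scheme.pointSmallEtale ξ).toPresheafFiber V τ₂ (EtBase.OO X) s :=
    ⟨((Scheme.pointSmallEtale ξ).toPresheafFiber V τ₂ (EtBase.OO X)).hom, fun _ => rfl⟩
  have hfac : ∀ s : Γ(U.left, ⊤), toU s = toV (γ s) := by
    intro s
    rw [htoU, htoV]
    have e1 := (Scheme.pointSmallEtale ξ).toPresheafFiber_w_apply g₁ τ₁ (EtBase.OO X) s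
    have e2 := (Scheme.pointSmallEtale ξ).toPresheafFiber_w_apply g₂ τ₂ (EtBase.OO X)
      ((EtBase.OO X).map g₁.op s)
    rw [hτ₁] at e1
    rw [hτ₂] at e2
    rw [← e1, ← e2]
    rfl
  refine ⟨toV a', ?_, ?_⟩
  · have hf' : f = (F.map γ).map toV := by
      rw [← hFf, Polynomial.map_map]
      congr 1
      ext s
      exact hfac s
    have hzero : (F.map γ).eval a' = 0 := by
      apply (Scheme.ΓSpecIso (CommRingCat.of P.Ring)).commRingCatIsoToRingEquiv.injective
      show (Scheme.ΓSpecIso (CommRingCat.of P.Ring)).hom.hom ((F.map γ).eval a') =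
        (Scheme.ΓSpecIso (CommRingCat.of P.Ring)).hom.hom 0
      rw [map_zero, ← Polynomial.eval₂_hom, ← Polynomial.eval_map, Polynomial.map_map]
      have hnat : ((Scheme.ΓSpecIso (CommRingCat.of P.Ring)).hom.hom).comp γ =
          (algebraMap B P.Ring).comp ρ := by
        have e2 := Scheme.ΓSpecIso_naturality α
        ext s
        exact congr($(e2).hom (j.appTop s))
      show (F.map (((Scheme.ΓSpecIso (CommRingCat.of P.Ring)).hom.hom).comp γ)).eval
        ((Scheme.ΓSpecIso (CommRingCat.of P.Ring)).hom a') = 0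
      rw [hnat, ha', ← Polynomial.map_map, Polynomial.eval_map, ← aeval_def]
      exact P.hasMap_X.1
    show f.eval _ = 0
    rw [hf', Polynomial.eval_map, Polynomial.eval₂_hom, hzero, map_zero]
  · rw [htoV]
    refine (ev_to ξ V τ₂ a').trans ?_
    have e2 := Scheme.ΓSpecIso_naturality lc
    have e3 := congr($(e2).hom a')
    refine e3.trans ?_
    show lam ((Scheme.ΓSpecIso (CommRingCat.of P.Ring)).hom a') = x₀
    rw [ha', hlam]


/-- Let X be a scheme and ξ : Spec Ω → X a geometric point, Ω a separably closed field. Then the étale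
local ring of X at ξ (the stalk of the structure sheaf on the small étale site of X at ξ) is a
strictly henselian local ring. The published statement is stronger: it identifies this ring with the
strict henselization of the Zariski local ring at the underlying point of ξ; only the consequence
that it is strictly henselian is asserted here. -/
theorem result {X : Scheme.{u}} {Ω : Type u} [Field Ω] [IsSepClosed Ω]
    (ξ : Spec (CommRingCat.of Ω) ⟶ X) : EtCoh.IsStrictlyHenselianLocalRing (EtBase.etaleLocalRing ξ) := by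
  exact Groth.Agent.H68.EtLocRing.strictlyHenselian_of_key (ev ξ).hom (H1 ξ) (H2 ξ)

end Groth.Agent.S0111
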