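import Groth.Statements.S0116
import Groth.Agent.H1.NoetherianDescent

set_option autoImplicit false
open CategoryTheory CategoryTheory.Limits AlgebraicGeometry Opposite
universe u
open EtBase

namespace Groth.Agent.S0116

/-- If f : X → Y is surjective, flat and locally of finite presentation and X is locally Noetherian,
then Y is locally Noetherian. (This is the descent half of the statement that, for such f, X is
locally Noetherian if and only if Y is; the ascent half is the fact that a scheme locally of finite
type over a locally Noetherian scheme is locally Noetherian, and is not stated here.) -/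
theorem result {X Y : Scheme.{u}} (f : X ⟶ Y) [Surjective f] [Flat f] [LocallyOfFinitePresentation f]
    [IsLocallyNoetherian X] : IsLocallyNoetherian Y := by
  refine ⟨fun V => ?_⟩
  have hV : IsAffine (V.1 : Scheme.{u}) := V.2
  let f' := f ∣_ V.1
  have : CompactSpace (V.1 : Scheme.{u}) := inferInstance
  have hsurj' : Surjective f' := IsZariskiLocalAtTarget.restrict ‹Surjective f› V.1
  have hsurj : Function.Surjective f'.base := hsurj'.surj
  obtain ⟨U : (f ⁻¹ᵁ V.1).toScheme.Opens, hU, e⟩ := f'.isOpenMap.exists_opens_image_eq_of_prespectralSpace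
    f'.continuous (U := Set.univ) (by simp [hsurj.range_eq]) isOpen_univ isCompact_univ
  have : CompactSpace (U : Scheme.{u}) := isCompact_iff_compactSpace.mp hU
  let 𝒰 := (U : Scheme.{u}).affineCover.finiteSubcover
  let p : ∐ (fun i : 𝒰.I₀ ↦ 𝒰.X i) ⟶ (U : Scheme.{u}) := Sigma.desc (fun i ↦ 𝒰.f i)
  have hp : Surjective p := by
    refine ⟨fun x ↦ ?_⟩
    obtain ⟨i, x, rfl⟩ := 𝒰.exists_eq x
    use Sigma.ι 𝒰.X i x
    rw [← Scheme.Hom.comp_apply, Sigma.ι_desc]
  have hpf : Flat p := inferInstance
  let g := p ≫ U.ι ≫ f'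
  have hg : Surjective g := by
    refine ⟨fun v ↦ ?_⟩
    have hv : v ∈ f' '' (U : Set _) := by rw [e]; trivial
    obtain ⟨x, hx, rfl⟩ := hv
    obtain ⟨w, hw⟩ := hp.surj ⟨x, hx⟩
    refine ⟨w, ?_⟩
    simp only [g, Scheme.Hom.comp_apply, hw]
    rfl
  have hgf : Flat g := inferInstance
  have hW : IsLocallyNoetherian (∐ (fun i : 𝒰.I₀ ↦ 𝒰.X i)) := by
    rw [isLocallyNoetherian_iff_openCover (sigmaOpenCover _)]
    intro i
    exact inferInstanceAs (IsLocallyNoetherian (𝒰.X i))
  have := Groth.Agent.H1.isNoetherianRing_Γ_of_flat_of_surjective g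
  exact isNoetherianRing_of_ringEquiv _ V.1.topIso.commRingCatIsoToRingEquiv

end Groth.Agent.S0116
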