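import Groth.Statements.S0117
import Groth.Agent.H68.TopInv

set_option autoImplicit false
open CategoryTheory CategoryTheory.Limits AlgebraicGeometry Opposite
universe u
open EtBase

namespace Groth.Agent.S0117


/-- Topological invariance of étale morphisms, first-order form — for X étale over S and any S-scheme Y,
base change to a closed subscheme S₀ with the same underlying space gives a bijection between
S-morphisms Y → X and S₀-morphisms of the base changes. -/
theorem result {S S₀ : Scheme.{u}} (i : S₀ ⟶ S) [IsClosedImmersion i] [Surjective i]
    (X Y : Over S) [AlgebraicGeometry.Etale X.hom] :
    Function.Bijective (fun φ : Y ⟶ X => (Over.pullback i).map φ) := by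
  have h1 : IsIntegralHom i := inferInstance
  have h2 : UniversallyInjective i := inferInstance
  exact Groth.Agent.H68.TopInv.bijective_pullback_map i X Y

end Groth.Agent.S0117
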