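import Groth.Statements.S0118
import Groth.Agent.H65.ThickGlue

set_option autoImplicit false
open CategoryTheory CategoryTheory.Limits AlgebraicGeometry Opposite
universe u
open EtBase

namespace Groth.Agent.S0118


/-- Base change to a closed subscheme with the same underlying space is an equivalence between the
categories of étale schemes over the two. -/
theorem result {S S₀ : Scheme.{u}} (i : S₀ ⟶ S) [IsClosedImmersion i] [Surjective i] :
    (EtCoh.bc i).IsEquivalence := by
  have key1 : ∀ {A B : S.Etale} (φ : A ⟶ B),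
      ((EtCoh.bc i).map φ).left ≫ pullback.fst B.hom i = pullback.fst A.hom i ≫ φ.left :=
    fun φ => pullback.lift_fst _ _ _
  have key2 : ∀ {A B : S.Etale} (φ : A ⟶ B),
      ((EtCoh.bc i).map φ).left ≫ pullback.snd B.hom i = pullback.snd A.hom i :=
    fun φ => pullback.lift_snd _ _ _
  haveI hfaith : (EtCoh.bc i).Faithful := by
    refine ⟨fun {A B} φ ψ h => ?_⟩
    have h1 : ((EtCoh.bc i).map φ).left = ((EtCoh.bc i).map ψ).left := congrArg (fun t => t.left) h
    have h2 : pullback.fst A.hom i ≫ φ.left = pullback.fst A.hom i ≫ ψ.left :=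
      (key1 φ).symm.trans ((congrArg (fun t => t ≫ pullback.fst B.hom i) h1).trans (key1 ψ))
    haveI : Surjective (pullback.fst A.hom i) := inferInstance
    have h3 : φ.left = ψ.left :=
      Groth.Agent.H68.TopInv.inj B.hom (pullback.fst A.hom i) φ.left ψ.left
        ((MorphismProperty.Over.w φ).trans (MorphismProperty.Over.w ψ).symm) h2
    exact MorphismProperty.Over.Hom.ext h3
  haveI hfull : (EtCoh.bc i).Full := by
    refine ⟨fun {A B} g => ?_⟩
    have hg : g.left ≫ pullback.snd B.hom i = pullback.snd A.hom i := MorphismProperty.Over.w g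
    have c1 : pullback.fst B.hom i ≫ B.hom = pullback.snd B.hom i ≫ i := pullback.condition
    have c2 : pullback.fst A.hom i ≫ A.hom = pullback.snd A.hom i ≫ i := pullback.condition
    have hψ : (g.left ≫ pullback.fst B.hom i) ≫ B.hom = pullback.fst A.hom i ≫ A.hom :=
      (Category.assoc _ _ _).trans ((congrArg (g.left ≫ ·) c1).trans
        ((Category.assoc _ _ _).symm.trans ((congrArg (· ≫ i) hg).trans c2.symm)))
    obtain ⟨φ, hφ1, hφ2⟩ := Groth.Agent.H68.TopInv.surj B.hom A.hom (pullback.fst A.hom i)
      (g.left ≫ pullback.fst B.hom i) hψ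
    refine ⟨MorphismProperty.Over.homMk φ hφ1 trivial, ?_⟩
    apply MorphismProperty.Over.Hom.ext
    apply pullback.hom_ext
    · exact (key1 (MorphismProperty.Over.homMk φ hφ1 trivial)).trans hφ2
    · exact (key2 (MorphismProperty.Over.homMk φ hφ1 trivial)).trans hg.symm
  haveI hess : (EtCoh.bc i).EssSurj := by
    refine ⟨fun Y₀ => ?_⟩
    obtain ⟨V, p, hp, a, hpb⟩ := Groth.Agent.H65.ThickLift.exists_lift i Y₀.left Y₀.hom
    refine ⟨MorphismProperty.Over.mk ⊤ p hp, ⟨MorphismProperty.Over.isoMk hpb.isoPullback.symm ?_⟩⟩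
    exact hpb.isoPullback_inv_snd
  exact {}

end Groth.Agent.S0118
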