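import Groth.Statements.S0119
-- import your own Groth.Agent.* helpers here
import Groth.Agent.S7128
import Groth.Agent.H54.NoethNhd
import Mathlib.AlgebraicGeometry.Noetherian

set_option autoImplicit false
open CategoryTheory CategoryTheory.Limits AlgebraicGeometry Opposite
universe u
open EtBase

namespace Groth.Agent.S0119

/-- Let f : X → Y be an étale morphism of schemes with Y locally Noetherian, and let x ∈ X. Then the
local ring O_{X,x} is reduced if and only if the local ring O_{Y,f(x)} is reduced. -/
theorem result {X Y : Scheme.{u}} (f : X ⟶ Y) [AlgebraicGeometry.Etale f]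
    [IsLocallyNoetherian Y] (x : X) :
    _root_.IsReduced (X.presheaf.stalk x) ↔ _root_.IsReduced (Y.presheaf.stalk (f.base x)) := by
  constructor
  · intro h
    algebraize [(f.stalkMap x).hom]
    haveI : Module.Flat (Y.presheaf.stalk (f.base x)) (X.presheaf.stalk x) :=
      AlgebraicGeometry.Flat.stalkMap f x
    haveI : IsLocalHom (algebraMap (Y.presheaf.stalk (f.base x)) (X.presheaf.stalk x)) :=
      inferInstanceAs (IsLocalHom (f.stalkMap x).hom)
    haveI := Module.FaithfullyFlat.of_flat_of_isLocalHom
      (A := Y.presheaf.stalk (f.base x)) (B := X.presheaf.stalk x)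
    exact isReduced_of_injective
      (algebraMap (Y.presheaf.stalk (f.base x)) (X.presheaf.stalk x))
      (FaithfulSMul.algebraMap_injective _ _)
  · intro h
    obtain ⟨V, hV, hyV, -⟩ :=
      exists_isAffineOpen_mem_and_subset (x := f.base x) (U := (⊤ : Y.Opens)) trivial
    haveI : IsNoetherianRing Γ(Y, V) := IsLocallyNoetherian.component_noetherian ⟨V, hV⟩
    letI := Y.presheaf.algebra_section_stalk ⟨f.base x, hyV⟩
    haveI := hV.isLocalization_stalk ⟨f.base x, hyV⟩
    obtain ⟨r, hrp, hred⟩ := Groth.Agent.H54.exists_away_isReduced_of_atPrime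
      (hV.primeIdealOf ⟨f.base x, hyV⟩).asIdeal (Y.presheaf.stalk (f.base x))
    have hyr : f.base x ∈ Y.basicOpen r := by
      rw [Y.mem_basicOpen r (f.base x) hyV]
      exact (IsLocalization.AtPrime.isUnit_to_map_iff (Y.presheaf.stalk (f.base x))
        (hV.primeIdealOf ⟨f.base x, hyV⟩).asIdeal r).mpr hrp
    have hV' : IsAffineOpen (Y.basicOpen r) := hV.basicOpen r
    haveI := hV.isLocalization_basicOpen r
    haveI : _root_.IsReduced Γ(Y, Y.basicOpen r) := hred _
    obtain ⟨U, hU, hxU, hUV⟩ :=
      exists_isAffineOpen_mem_and_subset (x := x) (U := f ⁻¹ᵁ (Y.basicOpen r)) hyr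
    have het : (f.appLE (Y.basicOpen r) U hUV).hom.Etale :=
      HasRingHomProperty.appLE (P := @AlgebraicGeometry.Etale) f inferInstance
        ⟨_, hV'⟩ ⟨U, hU⟩ hUV
    algebraize [(f.appLE (Y.basicOpen r) U hUV).hom]
    haveI : _root_.IsReduced Γ(X, U) :=
      Groth.Agent.S7128.result Γ(Y, Y.basicOpen r) Γ(X, U)
    letI := X.presheaf.algebra_section_stalk ⟨x, hxU⟩
    haveI := hU.isLocalization_stalk ⟨x, hxU⟩
    exact isReduced_localizationPreserves (hU.primeIdealOf ⟨x, hxU⟩).asIdeal.primeCompl _
      inferInstance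

end Groth.Agent.S0119
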