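import Groth.Statements.S0152
import Mathlib.Topology.Spectral.ConstructibleTopology
import Mathlib.Topology.Connected.Basic

set_option autoImplicit false
universe u
open EtPBC

namespace Groth.Agent.S0152

lemma fip {X : Type u} (t' : TopologicalSpace X) (hc : @CompactSpace X t') {ι : Type u}
    (s : ι → Set X) (hs : ∀ i, @IsClosed X t' (s i)) (he : ⋂ i, s i = ∅) :
    ∃ v : Finset ι, ⋂ i ∈ v, s i = ∅ := by
  let _ := t'
  have := isCompact_univ.elim_finite_subfamily_closed s hs (by rw [he, Set.inter_empty])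
  simpa using this

/-- Let X be a spectral space and Z a closed subset such that Z meets the closure of every point of X in
a connected (nonempty) set. If Z is the disjoint union of two closed subsets Z_1, Z_2 then X is the
disjoint union of closed subsets X_1, X_2 with Z_i = Z ∩ X_i. -/
theorem result (X : Type u) [TopologicalSpace X] [SpectralSpace X]
    (Z : Set X) (hZ : IsClosed Z)
    (hconn : ∀ x : X, IsConnected (Z ∩ closure {x}))
    (Z₁ Z₂ : Set X) (h₁ : IsClosed Z₁) (h₂ : IsClosed Z₂) (hdisj : Disjoint Z₁ Z₂) (hunion : Z₁ ∪ Z₂ = Z) :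
    ∃ X₁ X₂ : Set X, IsClosed X₁ ∧ IsClosed X₂ ∧ Disjoint X₁ X₂ ∧ X₁ ∪ X₂ = Set.univ ∧
      Z₁ = Z ∩ X₁ ∧ Z₂ = Z ∩ X₂ := by
  classical
  have hZ₁c : IsCompact Z₁ := h₁.isCompact
  have hZ₂c : IsCompact Z₂ := h₂.isCompact
  have hdich : ∀ x : X, ((closure {x} ∩ Z₁).Nonempty ∧ closure {x} ∩ Z₂ = ∅) ∨
      ((closure {x} ∩ Z₂).Nonempty ∧ closure {x} ∩ Z₁ = ∅) := by
    intro x
    obtain ⟨hne, hpre⟩ := hconn x
    have hsub : Z ∩ closure {x} ⊆ Z₁ ∪ Z₂ := by rw [hunion]; exact Set.inter_subset_left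
    have hnot : ¬ ((Z ∩ closure {x} ∩ Z₁).Nonempty ∧ (Z ∩ closure {x} ∩ Z₂).Nonempty) := by
      rintro ⟨ha, hb⟩
      obtain ⟨y, -, hy1, hy2⟩ := (isPreconnected_closed_iff.mp hpre) Z₁ Z₂ h₁ h₂ hsub ha hb
      exact (Set.disjoint_left.mp hdisj) hy1 hy2
    obtain ⟨y, hyZ, hyx⟩ := hne
    have hy12 : y ∈ Z₁ ∪ Z₂ := by rw [hunion]; exact hyZ
    rcases hy12 with hy1 | hy2
    · left
      refine ⟨⟨y, hyx, hy1⟩, ?_⟩
      by_contra hcon
      obtain ⟨w, hwx, hw2⟩ := Set.nonempty_iff_ne_empty.mpr hcon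
      have hwZ : w ∈ Z := by rw [← hunion]; exact Or.inr hw2
      exact hnot ⟨⟨y, ⟨hyZ, hyx⟩, hy1⟩, ⟨w, ⟨hwZ, hwx⟩, hw2⟩⟩
    · right
      refine ⟨⟨y, hyx, hy2⟩, ?_⟩
      by_contra hcon
      obtain ⟨w, hwx, hw1⟩ := Set.nonempty_iff_ne_empty.mpr hcon
      have hwZ : w ∈ Z := by rw [← hunion]; exact Or.inl hw1
      exact hnot ⟨⟨w, ⟨hwZ, hwx⟩, hw1⟩, ⟨y, ⟨hyZ, hyx⟩, hy2⟩⟩
  obtain ⟨U, V, hU, hV, hZU, hZV, hUV⟩ : ∃ U V : Set X, IsOpen U ∧ IsOpen V ∧ Z₁ ⊆ U ∧ Z₂ ⊆ V ∧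
      U ∩ V = ∅ := by
    obtain ⟨𝒰₁, h𝒰₁⟩ : ∃ 𝒰₁ : Set (Set X), 𝒰₁ = {U | IsOpen U ∧ IsCompact U ∧ Z₁ ⊆ U} := ⟨_, rfl⟩
    obtain ⟨𝒰₂, h𝒰₂⟩ : ∃ 𝒰₂ : Set (Set X), 𝒰₂ = {U | IsOpen U ∧ IsCompact U ∧ Z₂ ⊆ U} := ⟨_, rfl⟩
    have hm₁ : ∀ s, s ∈ 𝒰₁ ↔ IsOpen s ∧ IsCompact s ∧ Z₁ ⊆ s := fun s => by rw [h𝒰₁]; rfl
    have hm₂ : ∀ s, s ∈ 𝒰₂ ↔ IsOpen s ∧ IsCompact s ∧ Z₂ ⊆ s := fun s => by rw [h𝒰₂]; rfl
    have hcs : @CompactSpace X (constructibleTopology X) :=
      @Function.Surjective.compactSpace (WithConstructibleTopology X) X _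
        (constructibleTopology X) _ (WithTopology.continuous_ofTopology _) _
        (WithTopology.ofTopology_surjective _)
    have hclosed : ∀ s : Set X, IsOpen s → IsCompact s →
        @IsClosed X (constructibleTopology X) s := by
      intro s hso hsc
      have h1 : @IsOpen X (constructibleTopology X) sᶜ :=
        IsCompact.isOpen_constructibleTopology_of_isClosed (by rwa [compl_compl])
          hso.isClosed_compl
      exact (@isOpen_compl_iff X s (constructibleTopology X)).mp h1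
    have hempty : ⋂ i : {s : Set X // s ∈ 𝒰₁ ∪ 𝒰₂}, (i : Set X) = ∅ := by
      rw [Set.eq_empty_iff_forall_notMem]
      intro x hx
      rw [Set.mem_iInter] at hx
      rcases hdich x with ⟨-, h2⟩ | ⟨-, h1'⟩
      · obtain ⟨W, hWc, hWo, hZW, hWsub⟩ :=
          PrespectralSpace.exists_isCompact_and_isOpen_between hZ₂c
            (isClosed_closure (s := ({x} : Set X))).isOpen_compl
            (fun z hz hzx => (Set.eq_empty_iff_forall_notMem.mp h2 z) ⟨hzx, hz⟩)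
        have := hx ⟨W, Or.inr ((hm₂ W).mpr ⟨hWo, hWc, hZW⟩)⟩
        exact hWsub this (subset_closure (Set.mem_singleton x))
      · obtain ⟨W, hWc, hWo, hZW, hWsub⟩ :=
          PrespectralSpace.exists_isCompact_and_isOpen_between hZ₁c
            (isClosed_closure (s := ({x} : Set X))).isOpen_compl
            (fun z hz hzx => (Set.eq_empty_iff_forall_notMem.mp h1' z) ⟨hzx, hz⟩)
        have := hx ⟨W, Or.inl ((hm₁ W).mpr ⟨hWo, hWc, hZW⟩)⟩
        exact hWsub this (subset_closure (Set.mem_singleton x))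
    obtain ⟨v, hv⟩ := fip (constructibleTopology X) hcs
      (fun i : {s : Set X // s ∈ 𝒰₁ ∪ 𝒰₂} => (i : Set X))
      (fun i => i.2.elim (fun h => hclosed _ ((hm₁ _).mp h).1 ((hm₁ _).mp h).2.1)
        (fun h => hclosed _ ((hm₂ _).mp h).1 ((hm₂ _).mp h).2.1)) hempty
    refine ⟨⋂ (i : {s : Set X // s ∈ 𝒰₁ ∪ 𝒰₂}) (_ : i ∈ v.filter (fun i => i.1 ∈ 𝒰₁)), i.1,
      ⋂ (i : {s : Set X // s ∈ 𝒰₁ ∪ 𝒰₂}) (_ : i ∈ v.filter (fun i => i.1 ∈ 𝒰₂)), i.1,
      ?_, ?_, ?_, ?_, ?_⟩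
    · exact isOpen_biInter_finset (fun i hi => ((hm₁ _).mp (Finset.mem_filter.mp hi).2).1)
    · exact isOpen_biInter_finset (fun i hi => ((hm₂ _).mp (Finset.mem_filter.mp hi).2).1)
    · exact Set.subset_iInter₂ (fun i hi => ((hm₁ _).mp (Finset.mem_filter.mp hi).2).2.2)
    · exact Set.subset_iInter₂ (fun i hi => ((hm₂ _).mp (Finset.mem_filter.mp hi).2).2.2)
    · rw [Set.eq_empty_iff_forall_notMem]
      rintro x ⟨hx1, hx2⟩
      rw [Set.mem_iInter₂] at hx1 hx2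
      have hxv : x ∈ ⋂ i ∈ v, (i : Set X) := by
        rw [Set.mem_iInter₂]
        intro i hi
        rcases i.2 with h | h
        · exact hx1 i (Finset.mem_filter.mpr ⟨hi, h⟩)
        · exact hx2 i (Finset.mem_filter.mpr ⟨hi, h⟩)
      rw [hv] at hxv
      exact hxv
  have hcover : U ∪ V = Set.univ := by
    rw [Set.eq_univ_iff_forall]
    intro x
    rcases hdich x with ⟨⟨z, hzx, hz1⟩, -⟩ | ⟨⟨z, hzx, hz2⟩, -⟩
    · left
      by_contra hxU
      have : closure {x} ⊆ Uᶜ :=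
        closure_minimal (Set.singleton_subset_iff.mpr hxU) hU.isClosed_compl
      exact this hzx (hZU hz1)
    · right
      by_contra hxV
      have : closure {x} ⊆ Vᶜ :=
        closure_minimal (Set.singleton_subset_iff.mpr hxV) hV.isClosed_compl
      exact this hzx (hZV hz2)
  have hUc : Uᶜ = V := by
    ext x
    constructor
    · intro hx
      have : x ∈ U ∪ V := by rw [hcover]; trivial
      exact this.resolve_left hx
    · intro hx hxU
      exact (Set.eq_empty_iff_forall_notMem.mp hUV x) ⟨hxU, hx⟩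
  have hVc : Vᶜ = U := by rw [← hUc, compl_compl]
  refine ⟨U, V, ?_, ?_, ?_, hcover, ?_, ?_⟩
  · rw [← hVc]; exact hV.isClosed_compl
  · rw [← hUc]; exact hU.isClosed_compl
  · rw [Set.disjoint_iff_inter_eq_empty]; exact hUV
  · ext z
    constructor
    · intro hz
      exact ⟨by rw [← hunion]; exact Or.inl hz, hZU hz⟩
    · rintro ⟨hzZ, hzU⟩
      have : z ∈ Z₁ ∪ Z₂ := by rw [hunion]; exact hzZ
      rcases this with h | h
      · exact h
      · exact absurd ⟨hzU, hZV h⟩ (Set.eq_empty_iff_forall_notMem.mp hUV z)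
  · ext z
    constructor
    · intro hz
      exact ⟨by rw [← hunion]; exact Or.inr hz, hZV hz⟩
    · rintro ⟨hzZ, hzV⟩
      have : z ∈ Z₁ ∪ Z₂ := by rw [hunion]; exact hzZ
      rcases this with h | h
      · exact absurd ⟨hZU h, hzV⟩ (Set.eq_empty_iff_forall_notMem.mp hUV z)
      · exact h

end Groth.Agent.S0152
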