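import Groth.Statements.S0175
import Mathlib
import Groth.Agent.H4.SuppClosed
import Groth.Agent.S0067
import Groth.Agent.S0068

set_option autoImplicit false
universe u
open CategoryTheory CategoryTheory.Limits AlgebraicGeometry Opposite
open EtPBC

namespace Groth.Agent.S0175


open Groth.Agent.H4

/-- Let i : Z → X be a closed immersion of schemes with open complement j : U → X, and I an injective
abelian sheaf on X_ét. Then the subsheaf H_Z(I) of sections supported on Z (the kernel of I → j_*
j^* I), viewed on Z_ét via i^*, is an injective abelian sheaf on Z_ét. -/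
theorem result {Z X U : Scheme.{u}} (i : Z ⟶ X) [IsClosedImmersion i]
    (j : U ⟶ X) [IsOpenImmersion j] (hZU : Set.range j = (Set.range i)ᶜ)
    [EtCoh.BCCont i] [EtCoh.BCCont j] (I : EtCoh.Ab X) [Injective I] :
    Injective ((EtCoh.pull i).obj (kernel ((EtCoh.pullPushAdj j).unit.app I))) := by
  have hZU' : Set.range j.base = (Set.range i.base)ᶜ := hZU
  have hK : (EtCoh.push i).essImage (kernel ((EtCoh.pullPushAdj j).unit.app I)) :=
    (Groth.Agent.S0068.result i (kernel ((EtCoh.pullPushAdj j).unit.app I))).2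
      (fun V hV => isZero_kernel_unit_sections i j hZU' I V hV)
  obtain ⟨G₀, ⟨e⟩⟩ := hK
  obtain ⟨hfull, hfaith⟩ := Groth.Agent.S0067.result i
  haveI := hfull
  haveI := hfaith
  have iso : (EtCoh.pull i).obj (kernel ((EtCoh.pullPushAdj j).unit.app I)) ≅ G₀ :=
    (EtCoh.pull i).mapIso e.symm ≪≫ asIso ((EtCoh.pullPushAdj i).counit.app G₀)
  suffices hG : Injective G₀ from Injective.of_iso iso.symm hG
  constructor
  intro A B g m hm
  haveI := (EtCoh.pullPushAdj i).isRightAdjoint
  haveI : Mono ((EtCoh.push i).map m) := inferInstance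
  let φ : (EtCoh.push i).obj A ⟶ I :=
    (EtCoh.push i).map g ≫ e.hom ≫ kernel.ι ((EtCoh.pullPushAdj j).unit.app I)
  let ψ : (EtCoh.push i).obj B ⟶ I := Injective.factorThru φ ((EtCoh.push i).map m)
  have hψ : (EtCoh.push i).map m ≫ ψ = φ := Injective.comp_factorThru φ _
  have hzero : ψ ≫ (EtCoh.pullPushAdj j).unit.app I = 0 := by
    have hz := isZero_pull_push_of_compl i j hZU' B
    apply ((EtCoh.pullPushAdj j).homEquiv _ _).symm.injective
    exact hz.eq_of_src _ _
  let ψ' : (EtCoh.push i).obj B ⟶ kernel ((EtCoh.pullPushAdj j).unit.app I) :=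
    kernel.lift _ ψ hzero
  have hψ' : ψ' ≫ kernel.ι ((EtCoh.pullPushAdj j).unit.app I) = ψ := kernel.lift_ι _ _ _
  refine ⟨(EtCoh.push i).preimage (ψ' ≫ e.inv), ?_⟩
  apply (EtCoh.push i).map_injective
  rw [Functor.map_comp, Functor.map_preimage]
  have h1 : (EtCoh.push i).map m ≫ ψ' = (EtCoh.push i).map g ≫ e.hom := by
    rw [← cancel_mono (kernel.ι ((EtCoh.pullPushAdj j).unit.app I)), Category.assoc, hψ', hψ,
      Category.assoc]
  rw [← Category.assoc, h1, Category.assoc, e.hom_inv_id, Category.comp_id]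

end Groth.Agent.S0175
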