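import Groth.Statements.S0179
import Groth.Agent.H38.ClopenComp

set_option autoImplicit false
universe u
open EtPBC

namespace Groth.Agent.S0179

lemma clopen_nhd {X : Type u} [TopologicalSpace X] [SpectralSpace X]
    (hinj : Function.Injective
      (fun x : {x : X // IsClosed ({x} : Set X)} => _root_.ConnectedComponents.mk x.1))
    {ι : Type u} (U : ι → Set X) (hU : ∀ i, IsOpen (U i)) (hcov : (⋃ i, U i) = Set.univ) (x : X) :
    ∃ W : Set X, IsClopen W ∧ x ∈ W ∧ ∃ i, W ⊆ U i := by
  classical
  obtain ⟨z, hzC, hzcl⟩ :=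
    (isClosed_connectedComponent (x := x)).exists_closed_singleton ⟨x, mem_connectedComponent⟩
  have hzU : z ∈ ⋃ i, U i := by rw [hcov]; trivial
  obtain ⟨i, hzi⟩ := Set.mem_iUnion.mp hzU
  have hCU : connectedComponent x ⊆ U i := by
    intro y hy
    obtain ⟨w, hwy, hwcl⟩ :=
      (isClosed_closure (s := ({y} : Set X))).exists_closed_singleton
        ⟨y, subset_closure (Set.mem_singleton y)⟩
    have hsub : closure ({y} : Set X) ⊆ connectedComponent x := by
      rw [connectedComponent_eq hy]
      exact (isPreconnected_singleton.closure).subset_connectedComponent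
        (subset_closure (Set.mem_singleton y))
    have hwC : w ∈ connectedComponent x := hsub hwy
    have hwz : (⟨w, hwcl⟩ : {x : X // IsClosed ({x} : Set X)}) = ⟨z, hzcl⟩ := by
      apply hinj
      show _root_.ConnectedComponents.mk w = _root_.ConnectedComponents.mk z
      rw [ConnectedComponents.coe_eq_coe]
      rw [← connectedComponent_eq hwC, ← connectedComponent_eq hzC]
    have hwz' : w = z := congrArg Subtype.val hwz
    by_contra hyU
    have hcl : closure ({y} : Set X) ⊆ (U i)ᶜ :=
      closure_minimal (Set.singleton_subset_iff.mpr hyU) (hU i).isClosed_compl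
    exact hcl hwy (hwz' ▸ hzi)
  have hK : IsCompact (U i)ᶜ := (hU i).isClosed_compl.isCompact
  have hKS : (U i)ᶜ ∩ ⋂₀ {Z : Set X | IsClopen Z ∧ x ∈ Z} = ∅ := by
    rw [← Groth.Agent.H38.connectedComponent_eq_sInter_isClopen x,
      Set.eq_empty_iff_forall_notMem]
    rintro y ⟨hy1, hy2⟩
    exact hy1 (hCU hy2)
  obtain ⟨Z, hZ, hxZ, hKZ⟩ :=
    Groth.Agent.H38.exists_isClopen_disjoint_of_inter_sInter_eq_empty x _ hK hKS
  refine ⟨Z, hZ, hxZ, i, ?_⟩
  intro y hy
  by_contra hyU
  exact (Set.eq_empty_iff_forall_notMem.mp hKZ y) ⟨hyU, hy⟩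

/-- For a spectral space X with set of closed points X_0, the following are equivalent: (1) any open
cover of X admits a refinement by finitely many pairwise disjoint open-and-closed pieces; (2) the
map from X_0 to the space of connected components pi_0(X) is a bijection. -/
theorem result (X : Type u) [TopologicalSpace X] [SpectralSpace X] :
    (∀ (ι : Type u) (U : ι → Set X), (∀ i, IsOpen (U i)) → (⋃ i, U i) = Set.univ →
      ∃ (n : ℕ) (V : Fin n → Set X), (∀ k, IsClopen (V k)) ∧
        Pairwise (fun k l => Disjoint (V k) (V l)) ∧ (⋃ k, V k) = Set.univ ∧ ∀ k, ∃ i, V k ⊆ U i) ↔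
    Function.Bijective (fun x : {x : X // IsClosed ({x} : Set X)} => _root_.ConnectedComponents.mk x.1) := by
  classical
  constructor
  · intro h
    constructor
    · rintro ⟨x, hx⟩ ⟨y, hy⟩ hxy
      have hxy' : _root_.ConnectedComponents.mk x = _root_.ConnectedComponents.mk y := hxy
      rw [ConnectedComponents.coe_eq_coe'] at hxy'
      by_contra hne
      have hne' : x ≠ y := fun e => hne (Subtype.ext e)
      obtain ⟨n, V, hV, -, hcov, href⟩ := h (ULift.{u} Bool)
        (fun b => if b.down then ({x} : Set X)ᶜ else ({y} : Set X)ᶜ)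
        (fun b => by
          by_cases hb : b.down
          · simp only [hb, if_true]; exact hx.isOpen_compl
          · simp only [hb]; exact hy.isOpen_compl)
        (by
          rw [Set.eq_univ_iff_forall]
          intro z
          by_cases hz : z = x
          · refine Set.mem_iUnion.mpr ⟨⟨false⟩, ?_⟩
            simp only [Bool.false_eq_true, if_false]
            rw [hz]
            exact hne'
          · refine Set.mem_iUnion.mpr ⟨⟨true⟩, ?_⟩
            simp only [if_true]
            exact hz)
      have hyV : y ∈ ⋃ k, V k := by rw [hcov]; trivial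
      obtain ⟨k, hyk⟩ := Set.mem_iUnion.mp hyV
      have hxk : x ∈ V k := (hV k).connectedComponent_subset hyk hxy'
      obtain ⟨b, hb⟩ := href k
      by_cases hbd : b.down
      · have := hb hxk
        simp only [hbd, if_true] at this
        exact this rfl
      · have := hb hyk
        simp only [hbd] at this
        exact this rfl
    · intro c
      obtain ⟨x, rfl⟩ := ConnectedComponents.surjective_coe c
      obtain ⟨z, hzC, hzcl⟩ :=
        (isClosed_connectedComponent (x := x)).exists_closed_singleton ⟨x, mem_connectedComponent⟩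
      refine ⟨⟨z, hzcl⟩, ?_⟩
      show _root_.ConnectedComponents.mk z = _root_.ConnectedComponents.mk x
      exact ConnectedComponents.coe_eq_coe'.mpr hzC
  · rintro ⟨hinj, -⟩ ι U hU hcov
    choose W hWc hxW hWU using clopen_nhd hinj U hU hcov
    obtain ⟨t, ht⟩ := CompactSpace.elim_nhds_subcover W
      (fun x => (hWc x).isOpen.mem_nhds (hxW x))
    obtain ⟨n, e⟩ : ∃ n : ℕ, Nonempty (Fin n ≃ {x // x ∈ t}) := ⟨_, ⟨t.equivFin.symm⟩⟩
    obtain ⟨e⟩ := e
    obtain ⟨f, hf⟩ : ∃ f : Fin n → Set X, f = fun k => W (e k).1 := ⟨_, rfl⟩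
    have hfc : ∀ k, IsClopen (f k) := fun k => by rw [hf]; exact hWc _
    refine ⟨n, disjointed f, ?_, ?_, ?_, ?_⟩
    · intro k
      exact disjointedRec (p := IsClopen) (fun s i hs => hs.diff (hfc i)) (hfc k)
    · intro k l hkl
      exact disjoint_disjointed f hkl
    · rw [iUnion_disjointed, Set.eq_univ_iff_forall]
      intro x
      have hx : x ∈ ⋃ y ∈ t, W y := by rw [ht]; trivial
      obtain ⟨y, hyt, hxy⟩ := Set.mem_iUnion₂.mp hx
      refine Set.mem_iUnion.mpr ⟨e.symm ⟨y, hyt⟩, ?_⟩
      rw [hf]
      simpa using hxy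
    · intro k
      obtain ⟨i, hi⟩ := hWU (e k).1
      refine ⟨i, (disjointed_subset f k).trans ?_⟩
      rw [hf]
      exact hi

end Groth.Agent.S0179
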