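import Groth.Statements.S0195
import Groth.Agent.H1.CSA.SplitBrauer

set_option autoImplicit false
universe u v w
open scoped TensorProduct
open Curves

namespace Groth.Agent.S0195

/-- A finite extension k' of k splits a finite central simple algebra A exactly when some algebra
similar to A contains k' with dim equal to [k':k]^2. Uses Mathlib's bundled CSA and Brauer
equivalence. -/
theorem result (k : Type u) [Field k] (A : CSA.{u, u} k)
    (k' : Type u) [Field k'] [Algebra k k'] [FiniteDimensional k k'] :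
    Curves.Splits k A k' ↔ ∃ (B : CSA.{u, u} k) (_ : k' →ₐ[k] B), IsBrauerEquivalent A B ∧
      Module.finrank k B = Module.finrank k k' ^ 2 := by
  constructor
  · intro hs
    haveI : IsArtinianRing A := IsArtinianRing.of_finite k A
    obtain ⟨r, hr, D, _, _, _, ⟨f⟩⟩ :=
      IsSimpleRing.exists_algEquiv_matrix_divisionRing_finite k A
    haveI : Algebra.IsCentral k (Matrix (Fin r) (Fin r) D) :=
      Groth.Agent.H1.CSA.isCentral_of_algEquiv f
    haveI : Algebra.IsCentral k D := Groth.Agent.H1.CSA.isCentral_of_matrix k D r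
    have hsD : Curves.Splits k D k' :=
      Groth.Agent.H1.CSA.splits_of_splits_matrix r hr.out
        (Groth.Agent.H1.CSA.splits_of_algEquiv f hs)
    obtain ⟨d, hd0, ⟨g⟩⟩ := hsD
    haveI : NeZero d := ⟨hd0⟩
    have hd : Module.finrank k D = d ^ 2 := by
      have h1 : Module.finrank k' (k' ⊗[k] D) = Module.finrank k D := Module.finrank_baseChange
      rw [← h1, g.toLinearEquiv.finrank_eq, Module.finrank_matrix]
      simp [pow_two]
    let ψ : D →ₐ[k] Matrix (Fin d) (Fin d) k' :=
      ((g.restrictScalars k).toAlgHom).comp Algebra.TensorProduct.includeRight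
    let φ : Dᵐᵒᵖ →ₐ[k] Matrix (Fin d) (Fin d) k' :=
      (Matrix.transposeAlgEquiv (Fin d) k k').symm.toAlgHom.comp (AlgHom.op ψ)
    obtain ⟨t, ht, ⟨h⟩, hdim⟩ := Groth.Agent.H1.CSA.exists_end_colMod_algEquiv φ hd
    haveI : NeZero t := ⟨ht⟩
    haveI hBc : Algebra.IsCentral k (Module.End Dᵐᵒᵖ (Groth.Agent.H1.CSA.ColMod φ)) :=
      Groth.Agent.H1.CSA.isCentral_of_algEquiv h.symm
    haveI hBs : IsSimpleRing (Module.End Dᵐᵒᵖ (Groth.Agent.H1.CSA.ColMod φ)) :=
      IsSimpleRing.of_ringEquiv h.symm.toRingEquiv inferInstance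
    haveI hBf : FiniteDimensional k (Module.End Dᵐᵒᵖ (Groth.Agent.H1.CSA.ColMod φ)) :=
      Module.Finite.equiv h.symm.toLinearEquiv
    refine ⟨{ toAlgCat := AlgCat.of k (Module.End Dᵐᵒᵖ (Groth.Agent.H1.CSA.ColMod φ))
              isCentral := hBc, isSimple := hBs, fin_dim := hBf },
      Groth.Agent.H1.CSA.ColMod.scalar φ, ⟨t, r, ht, hr.out, ⟨?_⟩⟩, hdim⟩
    exact f.mapMatrix.trans ((Matrix.compAlgEquiv (Fin t) (Fin r) D k).trans
      ((Matrix.reindexAlgEquiv k D (Equiv.prodComm (Fin t) (Fin r))).trans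
        ((Matrix.compAlgEquiv (Fin r) (Fin t) D k).symm.trans h.symm.mapMatrix)))
  · rintro ⟨B, ι, ⟨n, m, hn, hm, ⟨iso⟩⟩, hdim⟩
    have h1 : Curves.Splits k B k' := Groth.Agent.H1.CSA.splits_of_algHom_of_finrank_eq ι hdim
    have h2 := Groth.Agent.H1.CSA.splits_matrix m hm h1
    have h3 := Groth.Agent.H1.CSA.splits_of_algEquiv iso.symm h2
    exact Groth.Agent.H1.CSA.splits_of_splits_matrix n hn h3

end Groth.Agent.S0195
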