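import Groth.Statements.S0196
import Groth.Agent.H1.CSA.Centralizer

set_option autoImplicit false
universe u v w
open scoped TensorProduct
open Curves

namespace Groth.Agent.S0196

/-- In a finite central skew field D over k, a maximal commutative k-subalgebra L satisfies dim D = (dim
L)^2. -/
theorem result (k : Type u) [Field k]
    (D : Type v) [DivisionRing D] [Algebra k D] [Algebra.IsCentral k D] [FiniteDimensional k D]
    (L : Subalgebra k D) (hcomm : ∀ x ∈ L, ∀ y ∈ L, x * y = y * x)
    (hmax : ∀ L' : Subalgebra k D, (∀ x ∈ L', ∀ y ∈ L', x * y = y * x) → L ≤ L' → L' = L) :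
    Module.finrank k D = Module.finrank k L ^ 2 := by
  have hs : IsSimpleRing L := by
    letI : DivisionRing L := divisionRingOfFiniteDimensional k L
    exact DivisionRing.isSimpleRing L
  have hC : Subalgebra.centralizer k (L : Set D) = L := by
    apply le_antisymm
    · intro x hx
      rw [Subalgebra.mem_centralizer_iff] at hx
      have hcomm' : ∀ a ∈ ((L : Set D) ∪ {x}), ∀ b ∈ ((L : Set D) ∪ {x}), a * b = b * a := by
        rintro a (ha | ha) b (hb | hb)
        · exact hcomm a ha b hb
        · rw [Set.mem_singleton_iff] at hb
          subst hb
          exact hx a ha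
        · rw [Set.mem_singleton_iff] at ha
          subst ha
          exact (hx b hb).symm
        · rw [Set.mem_singleton_iff] at ha hb
          subst ha
          subst hb
          rfl
      have hL' := Algebra.isMulCommutative_adjoin k hcomm'
      have hle : L ≤ Algebra.adjoin k ((L : Set D) ∪ {x}) :=
        fun y hy => Algebra.subset_adjoin (Or.inl hy)
      have h := hmax (Algebra.adjoin k ((L : Set D) ∪ {x}))
        (fun a ha b hb => setLike_mul_comm ha hb) hle
      rw [← h]
      exact Algebra.subset_adjoin (Or.inr rfl)
    · intro x hx
      rw [Subalgebra.mem_centralizer_iff]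
      intro g hg
      exact hcomm g hg x hx
  have h := Groth.Agent.H1.CSA.finrank_centralizer k D L
  rw [hC] at h
  rw [h, pow_two]

end Groth.Agent.S0196
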