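import Groth.Statements.S0197
import Groth.Agent.H1.CSA.SplitDegree

set_option autoImplicit false
universe u v w
open scoped TensorProduct
open Curves

namespace Groth.Agent.S0197

/-- If a finite central skew field D has dimension d^2, the degree of any finite splitting field of D is
divisible by d. -/
theorem result (k : Type u) [Field k]
    (D : Type u) [DivisionRing D] [Algebra k D] [Algebra.IsCentral k D] [FiniteDimensional k D]
    (d : ℕ) (hd : Module.finrank k D = d ^ 2)
    (k' : Type u) [Field k'] [Algebra k k'] [FiniteDimensional k k'] (hs : Curves.Splits k D k') :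
    d ∣ Module.finrank k k' := by
  obtain ⟨n, hn, ⟨g⟩⟩ := hs
  have hdim : Module.finrank k' (k' ⊗[k] D) = Module.finrank k D := Module.finrank_baseChange
  have hn2 : n * n = d * d := by
    rw [← pow_two d, ← hd, ← hdim, g.toLinearEquiv.finrank_eq, Module.finrank_matrix]
    simp
  have hnd : n = d := Nat.mul_self_inj.mp hn2
  have hdpos : 0 < d := by
    rcases Nat.eq_zero_or_pos d with h0 | h0
    · have : 0 < Module.finrank k D := Module.finrank_pos
      rw [hd, h0] at this
      simp at this
    · exact h0
  let φ : D →ₐ[k] Matrix (Fin n) (Fin n) k' :=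
    ((g.restrictScalars k).toAlgHom).comp Algebra.TensorProduct.includeRight
  have h := Groth.Agent.H1.CSA.finrank_dvd_of_algHom_matrix n φ
  rw [hd, hnd, pow_two] at h
  exact Nat.dvd_of_mul_dvd_mul_left hdpos h

end Groth.Agent.S0197
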