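import Groth.Statements.S0216
import Groth.Agent.H47.FieldIndep

set_option autoImplicit false
universe u
open CategoryTheory CategoryTheory.Limits AlgebraicGeometry TopologicalSpace
open Curves

namespace Groth.Agent.S0216

open Polynomial in
/-- one direction -/
theorem one_dir (X : Scheme.{u}) [IsReduced X] [ConnectedSpace X]
    (k₁ k₂ : Type u) [Field k₁] [Field k₂]
    (a : X ⟶ Spec (CommRingCat.of k₁)) (b : X ⟶ Spec (CommRingCat.of k₂))
    [LocallyOfFiniteType b] (x : Γ(X, ⊤))
    (hx : (a.appTop.hom.comp (Scheme.ΓSpecIso (CommRingCat.of k₁)).inv.hom).IsIntegralElem x) :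
    (b.appTop.hom.comp (Scheme.ΓSpecIso (CommRingCat.of k₂)).inv.hom).IsIntegralElem x := by
  classical
  set φ₁ : k₁ →+* Γ(X, ⊤) := a.appTop.hom.comp (Scheme.ΓSpecIso (CommRingCat.of k₁)).inv.hom
  set φ₂ : k₂ →+* Γ(X, ⊤) := b.appTop.hom.comp (Scheme.ΓSpecIso (CommRingCat.of k₂)).inv.hom
  -- restriction maps
  let res : ∀ V : X.Opens, Γ(X, ⊤) →+* Γ(X, V) := fun V => (X.presheaf.map (homOfLE le_top).op).hom
  -- finite type on affine opens
  have hft : ∀ V : X.Opens, IsAffineOpen V → ((res V).comp φ₂).FiniteType := by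
    intro V hV
    have h := b.finiteType_appLE (isAffineOpen_top _) hV (le_top)
    have hsurj : Function.Surjective (Scheme.ΓSpecIso (CommRingCat.of k₂)).inv.hom :=
      (ConcreteCategory.bijective_of_isIso (Scheme.ΓSpecIso (CommRingCat.of k₂)).inv).2
    have := h.comp (RingHom.FiniteType.of_surjective _ hsurj)
    exact this
  -- integrality on affine opens
  have hint : ∀ V : X.Opens, IsAffineOpen V → ((res V).comp φ₂).IsIntegralElem (res V x) := by
    intro V hV
    exact H47.FieldIndep.isIntegralElem_reduced ((res V).comp φ₁) ((res V).comp φ₂) (hft V hV)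
      (res V x) (H47.FieldIndep.isIntegralElem_map φ₁ (res V) hx)
  -- a nonempty affine open
  obtain ⟨x₀⟩ : Nonempty X := inferInstance
  obtain ⟨U₀, hU₀, hx₀, -⟩ := TopologicalSpace.Opens.isBasis_iff_nbhd.mp X.isBasis_affineOpens
    (show x₀ ∈ (⊤ : X.Opens) from trivial)
  obtain ⟨Q₀, hQ₀m, hQ₀⟩ := hint U₀ hU₀
  refine ⟨Q₀, hQ₀m, ?_⟩
  set y : Γ(X, ⊤) := eval₂ φ₂ x Q₀ with hy
  have hres : ∀ V : X.Opens, res V y = eval₂ ((res V).comp φ₂) (res V x) Q₀ := fun V =>
    hom_eval₂ Q₀ φ₂ (res V) x
  have hyU₀ : res U₀ y = 0 := by rw [hres, hQ₀]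
  -- basicOpen y is clopen
  have hbo : ∀ V : X.Opens, X.basicOpen (res V y) = V ⊓ X.basicOpen y := fun V =>
    X.basicOpen_res y _
  have hclosed : IsClosed (X.basicOpen y : Set X) := by
    rw [← isOpen_compl_iff, isOpen_iff_forall_mem_open]
    intro z hz
    obtain ⟨V, hV, hzV, -⟩ := TopologicalSpace.Opens.isBasis_iff_nbhd.mp X.isBasis_affineOpens
      (show z ∈ (⊤ : X.Opens) from trivial)
    have hyV : ((res V).comp φ₂).IsIntegralElem (res V y) := by
      rw [hres]
      exact H47.FieldIndep.isIntegralElem_eval₂ _ _ (hint V hV) Q₀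
    obtain ⟨e, a', b', hee, hya, heb⟩ :=
      H47.FieldIndep.exists_idempotent_of_isIntegralElem _ _ hyV
    have hbe : X.basicOpen (res V y) = X.basicOpen e := by
      apply le_antisymm
      · rw [hya, X.basicOpen_mul]; exact inf_le_right
      · rw [heb, X.basicOpen_mul]; exact inf_le_right
    have hcov : V ≤ X.basicOpen e ⊔ X.basicOpen (1 - e) := by
      have := X.basicOpen_add_le e (1 - e)
      rwa [add_sub_cancel, X.basicOpen_one] at this
    have hdisj : X.basicOpen e ⊓ X.basicOpen (1 - e) = ⊥ := by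
      rw [← X.basicOpen_mul, mul_sub, mul_one, hee, sub_self, X.basicOpen_zero]
    refine ⟨(X.basicOpen (1 - e) : Set X), ?_, (X.basicOpen (1 - e)).isOpen, ?_⟩
    · intro z' hz' hz'y
      have hz'V : z' ∈ V := X.basicOpen_le _ hz'
      have : z' ∈ X.basicOpen e := by
        rw [← hbe, hbo]; exact ⟨hz'V, hz'y⟩
      have hmem : z' ∈ X.basicOpen e ⊓ X.basicOpen (1 - e) := ⟨this, hz'⟩
      rw [hdisj] at hmem
      exact hmem
    · have hzne : z ∉ X.basicOpen e := by
        rw [← hbe, hbo]
        exact fun h => hz h.2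
      rcases hcov hzV with h | h
      · exact absurd h hzne
      · exact h
  have hclopen : IsClopen (X.basicOpen y : Set X) := ⟨hclosed, (X.basicOpen y).isOpen⟩
  have hne : (X.basicOpen y : Set X) ≠ Set.univ := by
    intro h
    have h1 : x₀ ∈ X.basicOpen (res U₀ y) := by
      rw [hbo]
      exact ⟨hx₀, (by rw [h]; exact Set.mem_univ _ : x₀ ∈ (X.basicOpen y : Set X))⟩
    rw [hyU₀, X.basicOpen_zero] at h1
    exact h1
  have hempty : (X.basicOpen y : Set X) = ∅ := (isClopen_iff.mp hclopen).resolve_right hne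
  have : X.basicOpen y = ⊥ := by
    ext z
    simp [hempty]
  exact (basicOpen_eq_bot_iff y).mp this


/-- If a connected reduced scheme is locally of finite type over two fields k₁ and k₂, then a global
function is integral over k₁ exactly when it is integral over k₂ (the integral closures of the two
base fields in the global functions coincide). -/
theorem result (X : Scheme.{u}) [IsReduced X] [ConnectedSpace X]
    (k₁ k₂ : Type u) [Field k₁] [Field k₂]
    (a : X ⟶ Spec (CommRingCat.of k₁)) (b : X ⟶ Spec (CommRingCat.of k₂))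
    [LocallyOfFiniteType a] [LocallyOfFiniteType b] (x : Coh.Γtop X) :
    (Coh.toGlobal a).IsIntegralElem x ↔ (Coh.toGlobal b).IsIntegralElem x := by
  exact ⟨one_dir X k₁ k₂ a b x, one_dir X k₂ k₁ b a x⟩

end Groth.Agent.S0216
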