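import Groth.Statements.S0218
import Mathlib.Algebra.DualNumber
import Mathlib.FieldTheory.IsAlgClosed.Basic
import Mathlib.FieldTheory.Minpoly.Field
import Mathlib.RingTheory.Adjoin.Polynomial.Basic
import Mathlib.Algebra.Polynomial.Expand
import Mathlib.SetTheory.Cardinal.Finite

set_option autoImplicit false
universe u
open Curves

namespace Groth.Agent.S0218

open Polynomial in
lemma isAlgebraic_of {k : Type*} [Field k] {A : Type*} [CommRing A] [Algebra k A]
    (hall : ∀ B : Subalgebra k A, B = ⊥ ∨ B = ⊤) (a : A) : IsAlgebraic k a := by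
  rcases hall (Algebra.adjoin k {a ^ 2}) with h | h
  · have : a ^ 2 ∈ (⊥ : Subalgebra k A) := h ▸ Algebra.subset_adjoin (Set.mem_singleton _)
    obtain ⟨c, hc⟩ := Algebra.mem_bot.mp this
    refine ⟨X ^ 2 - C c, X_pow_sub_C_ne_zero (by norm_num) c, ?_⟩
    simp [hc]
  · have : a ∈ Algebra.adjoin k {a ^ 2} := h ▸ Algebra.mem_top
    rw [Algebra.adjoin_singleton_eq_range_aeval] at this
    obtain ⟨p, hp⟩ := this
    refine ⟨expand k 2 p - X, ?_, ?_⟩
    · intro h0
      have h1 : (expand k 2 p - X).coeff 1 = -1 := by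
        rw [coeff_sub, coeff_expand (by norm_num : 0 < 2), if_neg (by decide), coeff_X_one,
          zero_sub]
      rw [h0, coeff_zero] at h1
      exact one_ne_zero (neg_eq_zero.mp h1.symm)
    · rw [map_sub, expand_aeval, aeval_X]
      exact sub_eq_zero.mpr hp


/-- Over an algebraically closed field k, a commutative k-algebra with exactly two k-subalgebras is
isomorphic to k × k or to the dual numbers over k. -/
theorem result (k : Type u) [Field k] [IsAlgClosed k] (A : Type u) [CommRing A] [Algebra k A]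
    (h : Nat.card (Subalgebra k A) = 2) :
    Nonempty (A ≃ₐ[k] (k × k)) ∨ Nonempty (A ≃ₐ[k] DualNumber k) := by
  classical
  obtain ⟨B₀, hB₀ne, hB₀uniq⟩ := (Nat.card_eq_two_iff' (⊥ : Subalgebra k A)).mp h
  have hbt : (⊤ : Subalgebra k A) ≠ ⊥ := by
    intro hbt
    apply hB₀ne
    exact le_bot_iff.mp (hbt ▸ le_top)
  have hall : ∀ B : Subalgebra k A, B = ⊥ ∨ B = ⊤ := by
    intro B
    by_cases hB : B = ⊥
    · exact Or.inl hB
    · right; rw [hB₀uniq B hB, hB₀uniq ⊤ hbt]
  haveI : Nontrivial A := by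
    by_contra hnt
    rw [not_nontrivial_iff_subsingleton] at hnt
    exact hbt (SetLike.ext fun x =>
      ⟨fun _ => (Subsingleton.elim 0 x) ▸ zero_mem _, fun _ => Algebra.mem_top⟩)
  obtain ⟨a, ha⟩ : ∃ a : A, a ∉ (⊥ : Subalgebra k A) := by
    by_contra hcon
    push Not at hcon
    exact hbt (le_bot_iff.mp fun x _ => hcon x)
  have hint : IsIntegral k a := (isAlgebraic_of hall a).isIntegral
  obtain ⟨r, hr⟩ := IsAlgClosed.exists_root (minpoly k a) (ne_of_gt (minpoly.degree_pos hint))
  obtain ⟨q, hq⟩ := Polynomial.dvd_iff_isRoot.mpr hr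
  have hμ0 : minpoly k a ≠ 0 := minpoly.ne_zero hint
  have hq0 : q ≠ 0 := by
    rintro rfl
    rw [mul_zero] at hq
    exact hμ0 hq
  have hdeg : q.degree < (minpoly k a).degree := by
    apply Polynomial.degree_lt_degree
    rw [hq, Polynomial.natDegree_mul (Polynomial.X_sub_C_ne_zero r) hq0,
      Polynomial.natDegree_X_sub_C]
    omega
  let x : A := Polynomial.aeval a q
  have hx0 : x ≠ 0 := by
    intro hx
    have hdvd : minpoly k a ∣ q := minpoly.dvd k a hx
    exact hq0 (Polynomial.eq_zero_of_dvd_of_degree_lt hdvd hdeg)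
  have hax : (a - algebraMap k A r) * x = 0 := by
    have h1 := minpoly.aeval k a
    rw [hq, map_mul, map_sub, Polynomial.aeval_X, Polynomial.aeval_C] at h1
    exact h1
  have hxbot : x ∉ (⊥ : Subalgebra k A) := by
    intro hx
    obtain ⟨c, hc⟩ := Algebra.mem_bot.mp hx
    have hc0 : c ≠ 0 := by
      rintro rfl
      rw [map_zero] at hc
      exact hx0 hc.symm
    apply ha
    rw [← hc] at hax
    have h2 : a - algebraMap k A r = 0 := by
      have h3 := congrArg (· * algebraMap k A c⁻¹) hax
      simp only [zero_mul, mul_assoc, ← map_mul, mul_inv_cancel₀ hc0, map_one, mul_one] at h3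
      exact h3
    rw [sub_eq_zero] at h2
    rw [h2]; exact Subalgebra.algebraMap_mem _ _
  have hxx : x * x = algebraMap k A (q.eval r) * x := by
    have hmod := Polynomial.modByMonic_add_div q (Polynomial.X - Polynomial.C r)
    rw [Polynomial.modByMonic_X_sub_C_eq_C_eval] at hmod
    have h1 : x = algebraMap k A (q.eval r) +
        (a - algebraMap k A r) * Polynomial.aeval a (q /ₘ (Polynomial.X - Polynomial.C r)) := by
      show Polynomial.aeval a q = _
      conv_lhs => rw [← hmod]
      simp
    calc x * x = (algebraMap k A (q.eval r) + (a - algebraMap k A r) *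
          Polynomial.aeval a (q /ₘ (Polynomial.X - Polynomial.C r))) * x := by rw [← h1]
      _ = algebraMap k A (q.eval r) * x +
          Polynomial.aeval a (q /ₘ (Polynomial.X - Polynomial.C r)) *
            ((a - algebraMap k A r) * x) := by ring
      _ = algebraMap k A (q.eval r) * x := by rw [hax, mul_zero, add_zero]
  have hadj : Algebra.adjoin k {x} = ⊤ := by
    rcases hall (Algebra.adjoin k {x}) with h' | h'
    · exact absurd (h' ▸ Algebra.subset_adjoin (Set.mem_singleton x)) hxbot
    · exact h'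
  have hspan : ∀ y : A, ∃ c₀ c₁ : k, y = algebraMap k A c₀ + c₁ • x := by
    intro y
    have hy : y ∈ Algebra.adjoin k {x} := hadj ▸ Algebra.mem_top
    induction hy using Algebra.adjoin_induction with
    | mem z hz => rw [Set.mem_singleton_iff.mp hz]; exact ⟨0, 1, by simp⟩
    | algebraMap c => exact ⟨c, 0, by simp⟩
    | add y z _ _ hy hz =>
      obtain ⟨c₀, c₁, rfl⟩ := hy
      obtain ⟨d₀, d₁, rfl⟩ := hz
      exact ⟨c₀ + d₀, c₁ + d₁, by rw [map_add, add_smul]; ring⟩
    | mul y z _ _ hy hz =>
      obtain ⟨c₀, c₁, rfl⟩ := hy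
      obtain ⟨d₀, d₁, rfl⟩ := hz
      refine ⟨c₀ * d₀, c₀ * d₁ + c₁ * d₀ + c₁ * d₁ * q.eval r, ?_⟩
      simp only [Algebra.smul_def, map_add, map_mul]
      have h1 : (algebraMap k A c₀ + algebraMap k A c₁ * x) *
          (algebraMap k A d₀ + algebraMap k A d₁ * x) =
          algebraMap k A c₀ * algebraMap k A d₀ +
            (algebraMap k A c₀ * algebraMap k A d₁ + algebraMap k A c₁ * algebraMap k A d₀) * x +
            algebraMap k A c₁ * algebraMap k A d₁ * (x * x) := by ring
      rw [h1, hxx]; ring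
  have hindep : ∀ c₀ c₁ : k, algebraMap k A c₀ + c₁ • x = 0 → c₀ = 0 ∧ c₁ = 0 := by
    intro c₀ c₁ hc
    have hc1 : c₁ = 0 := by
      by_contra hne
      apply hxbot
      have h3 : c₁ • x = algebraMap k A (-c₀) := by
        rw [map_neg]; exact eq_neg_of_add_eq_zero_right hc
      have h4 : x = algebraMap k A (c₁⁻¹ * -c₀) := by
        calc x = c₁⁻¹ • (c₁ • x) := by rw [smul_smul, inv_mul_cancel₀ hne, one_smul]
          _ = algebraMap k A (c₁⁻¹ * -c₀) := by rw [h3, Algebra.smul_def, ← map_mul]
      rw [h4]; exact Subalgebra.algebraMap_mem _ _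
    subst hc1
    rw [zero_smul, add_zero] at hc
    exact ⟨(map_eq_zero_iff _ (algebraMap k A).injective).mp hc, rfl⟩
  by_cases hα0 : q.eval r = 0
  · right
    have hxx0 : x * x = 0 := by rw [hxx, hα0, map_zero, zero_mul]
    let φ : DualNumber k →ₐ[k] A :=
      DualNumber.lift ⟨(Algebra.ofId k A, x), hxx0, fun _ => Commute.all _ _⟩
    have hφ : ∀ y : DualNumber k, φ y = algebraMap k A y.fst + y.snd • x := by
      intro y
      show DualNumber.lift _ y = _
      rw [DualNumber.lift_apply_apply]
      simp [Algebra.ofId_apply, Algebra.smul_def]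
    refine ⟨(AlgEquiv.ofBijective φ ⟨?_, ?_⟩).symm⟩
    · rw [injective_iff_map_eq_zero]
      intro y hy
      rw [hφ] at hy
      obtain ⟨h0, h1⟩ := hindep _ _ hy
      exact TrivSqZeroExt.ext h0 h1
    · intro y
      obtain ⟨c₀, c₁, rfl⟩ := hspan y
      exact ⟨TrivSqZeroExt.inl c₀ + TrivSqZeroExt.inr c₁, by rw [hφ]; simp⟩
  · left
    have hEA : algebraMap k A (q.eval r)⁻¹ * algebraMap k A (q.eval r) = 1 := by
      rw [← map_mul, inv_mul_cancel₀ hα0, map_one]
    let e : A := algebraMap k A (q.eval r)⁻¹ * x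
    have hee : e * e = e := by
      calc algebraMap k A (q.eval r)⁻¹ * x * (algebraMap k A (q.eval r)⁻¹ * x)
          = algebraMap k A (q.eval r)⁻¹ * algebraMap k A (q.eval r)⁻¹ * (x * x) := by ring
        _ = algebraMap k A (q.eval r)⁻¹ *
            (algebraMap k A (q.eval r)⁻¹ * algebraMap k A (q.eval r)) * x := by rw [hxx]; ring
        _ = algebraMap k A (q.eval r)⁻¹ * x := by rw [hEA, mul_one]
    have hαe : algebraMap k A (q.eval r) * e = x := by
      show algebraMap k A (q.eval r) * (algebraMap k A (q.eval r)⁻¹ * x) = x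
      rw [← mul_assoc, mul_comm (algebraMap k A (q.eval r)), hEA, one_mul]
    let ψ : (k × k) →ₗ[k] A :=
      (LinearMap.fst k k k).smulRight e + (LinearMap.snd k k k).smulRight (1 - e)
    have hψ : ∀ p : k × k, ψ p = algebraMap k A p.1 * e + algebraMap k A p.2 * (1 - e) := by
      intro p
      simp [ψ, Algebra.smul_def]
    let φ : (k × k) →ₐ[k] A := AlgHom.ofLinearMap ψ (by rw [hψ]; simp) (by
      intro p p'
      rw [hψ, hψ, hψ]
      simp only [Prod.fst_mul, Prod.snd_mul, map_mul]
      have h1 : (algebraMap k A p.1 * e + algebraMap k A p.2 * (1 - e)) *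
          (algebraMap k A p'.1 * e + algebraMap k A p'.2 * (1 - e)) =
          algebraMap k A p.1 * algebraMap k A p'.1 * (e * e) +
          (algebraMap k A p.1 * algebraMap k A p'.2 + algebraMap k A p.2 * algebraMap k A p'.1) *
            (e - e * e) +
          algebraMap k A p.2 * algebraMap k A p'.2 * (1 - 2 * e + e * e) := by ring
      rw [h1, hee]; ring)
    have hφ : ∀ p : k × k, φ p = algebraMap k A p.1 * e + algebraMap k A p.2 * (1 - e) := hψ
    refine ⟨(AlgEquiv.ofBijective φ ⟨?_, ?_⟩).symm⟩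
    · rw [injective_iff_map_eq_zero]
      intro p hp
      rw [hφ] at hp
      have h1 : algebraMap k A p.2 + ((p.1 - p.2) * (q.eval r)⁻¹) • x = 0 := by
        rw [← hp, Algebra.smul_def, map_mul, map_sub]
        show _ = algebraMap k A p.1 * (algebraMap k A (q.eval r)⁻¹ * x) +
          algebraMap k A p.2 * (1 - algebraMap k A (q.eval r)⁻¹ * x)
        ring
      obtain ⟨h2, h3⟩ := hindep _ _ h1
      have h4 : p.1 - p.2 = 0 := by
        rcases mul_eq_zero.mp h3 with h | h
        · exact h
        · exact absurd h (inv_ne_zero hα0)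
      ext
      · show p.1 = 0
        rw [sub_eq_zero.mp h4, h2]
      · exact h2
    · intro y
      obtain ⟨c₀, c₁, rfl⟩ := hspan y
      refine ⟨(c₀ + c₁ * q.eval r, c₀), ?_⟩
      rw [hφ, Algebra.smul_def]
      simp only [map_add, map_mul]
      calc (algebraMap k A c₀ + algebraMap k A c₁ * algebraMap k A (q.eval r)) * e +
            algebraMap k A c₀ * (1 - e)
          = algebraMap k A c₀ + algebraMap k A c₁ * (algebraMap k A (q.eval r) * e) := by ring
        _ = algebraMap k A c₀ + algebraMap k A c₁ * x := by rw [hαe]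

end Groth.Agent.S0218
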