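import Groth.Statements.S0220
import Groth.Agent.H54.Curve2

set_option autoImplicit false
universe u
open CategoryTheory CategoryTheory.Limits AlgebraicGeometry TopologicalSpace
open Curves

namespace Groth.Agent.S0220

/-- A nonconstant morphism between curves over a field (integral, separated, finite type, dimension one)
whose target has integrally closed local domains is flat. -/
theorem result (k : Type u) [Field k] (X Y : Scheme.{u}) (p : X ⟶ Spec (CommRingCat.of k)) (q : Y ⟶ Spec (CommRingCat.of k))
    [IsIntegral X] [IsIntegral Y] [IsSeparated p] [IsSeparated q] [LocallyOfFiniteType p] [LocallyOfFiniteType q]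
    [QuasiCompact p] [QuasiCompact q] (hX : topologicalKrullDim X = 1) (hY : topologicalKrullDim Y = 1)
    (hN : ∀ y : Y, IsDomain (Y.presheaf.stalk y) ∧ IsIntegrallyClosed (Y.presheaf.stalk y))
    (f : X ⟶ Y) (hf : f ≫ q = p) (hnc : (Set.range f.base).Nontrivial) :
    Flat f := by
  classical
  haveI : IsLocallyNoetherian Y := LocallyOfFiniteType.isLocallyNoetherian q
  have hdimY : ∀ y : Y, ringKrullDim (Y.presheaf.stalk y) ≤ 1 := fun y => by
    have h := H54.ringKrullDim_stalk_le_topologicalKrullDim Y y
    rw [hY] at h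
    exact h
  have hgen : f (genericPoint X) = genericPoint Y := by
    by_contra hne
    obtain ⟨y₁, ⟨x₁, rfl⟩, y₂, ⟨x₂, rfl⟩, h12⟩ := hnc
    have hall : ∀ x : X, f x = f (genericPoint X) := by
      intro x
      have hs : f (genericPoint X) ⤳ f x :=
        f.base.hom.map_specializes ((genericPoint_spec X).specializes trivial)
      exact (H54.eq_of_specializes_of_ringKrullDim_le_one hs (hdimY _) hne).symm
    exact h12 ((hall x₁).trans (hall x₂).symm)
  rw [Flat.iff_flat_stalkMap]
  intro x
  haveI : ValuationRing (Y.presheaf.stalk (f x)) :=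
    H54.valuationRing_of_ringKrullDim_le_one _ (hN (f x)).2 (hdimY (f x))
  have hinj := H54.stalkMap_injective_of_genericPoint f hgen x
  letI : Algebra (Y.presheaf.stalk (f x)) (X.presheaf.stalk x) := (f.stalkMap x).hom.toAlgebra
  show Module.Flat (Y.presheaf.stalk (f x)) (X.presheaf.stalk x)
  rw [Module.Flat.flat_iff_torsion_eq_bot_of_isBezout, Submodule.eq_bot_iff]
  intro m hm
  rw [Submodule.mem_torsion_iff] at hm
  obtain ⟨a, ha⟩ := hm
  have ha' : (f.stalkMap x).hom (a : Y.presheaf.stalk (f x)) * m = 0 := ha
  rcases mul_eq_zero.mp ha' with h0 | h0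
  · exfalso
    have h1 : (a : Y.presheaf.stalk (f x)) = 0 :=
      hinj (h0.trans (map_zero (f.stalkMap x).hom).symm)
    exact nonZeroDivisors.coe_ne_zero a h1
  · exact h0

end Groth.Agent.S0220
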