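import Groth.Statements.S0226
import Mathlib
import Groth.Agent.H23.RegularLocal

set_option autoImplicit false
set_option linter.style.haveILetI false
universe u
open Curves

namespace Groth.Agent.S0226

/-- In a regular local ring of dimension two, an ideal inside the maximal ideal with reduced quotient is
zero, the maximal ideal, or principal. -/
theorem result (A : Type u) [CommRing A] [IsRegularLocalRing A] (hdim : ringKrullDim A = 2)
    (I : Ideal A) (hI : I ≤ IsLocalRing.maximalIdeal A) [IsReduced (A ⧸ I)] :
    I = ⊥ ∨ I = IsLocalRing.maximalIdeal A ∨ ∃ f ∈ IsLocalRing.maximalIdeal A, f ≠ 0 ∧ I = Ideal.span {f} := by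
  classical
  haveI : IsDomain A := Groth.Agent.H23.isDomain_of_isRegularLocalRing A
  -- generators of the maximal ideal
  have hsf : (IsLocalRing.maximalIdeal A).spanFinrank = 2 := by
    have h := IsRegularLocalRing.spanFinrank_maximalIdeal (R := A)
    rw [hdim] at h
    exact_mod_cast h
  have hfg : (IsLocalRing.maximalIdeal A).FG := IsNoetherian.noetherian _
  have hcard := Submodule.FG.generators_ncard (p := IsLocalRing.maximalIdeal A) hfg
  rw [hsf, Set.ncard_eq_two] at hcard
  obtain ⟨x, y, hxy, hgen⟩ := hcard
  have hm : IsLocalRing.maximalIdeal A = Ideal.span {x, y} := by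
    have := Submodule.span_generators (IsLocalRing.maximalIdeal A)
    rw [hgen] at this
    exact this.symm
  have hxm : x ∈ IsLocalRing.maximalIdeal A := by
    rw [hm]
    exact Ideal.subset_span (Set.mem_insert _ _)
  -- the quotient by x
  have hrange : ∀ z : A, Set.range (![z] : Fin 1 → A) = {z} := by
    intro z
    ext w
    simp [eq_comm]
  have hq := Groth.Agent.H23.quotient_regular (R := A) (![x] : Fin 1 → A) (![y] : Fin 1 → A)
    (by rw [hrange, hrange, hm]; rfl) (by rw [hdim]; norm_num)
  rw [hrange] at hq
  obtain ⟨hreg, hdim1⟩ := hq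
  haveI := hreg
  haveI hdomq : IsDomain (A ⧸ Ideal.span {x}) :=
    Groth.Agent.H23.isDomain_of_isRegularLocalRing (A ⧸ Ideal.span {x})
  have hxprime : (Ideal.span {x}).IsPrime := (Ideal.Quotient.isDomain_iff_prime _).mp hdomq
  have hx0 : x ≠ 0 := by
    intro h0
    have e : (A ⧸ Ideal.span {x}) ≃+* A := by
      rw [h0, Ideal.span_singleton_eq_bot.mpr rfl]
      exact RingEquiv.quotientBot A
    have := ringKrullDim_eq_of_ringEquiv e
    rw [hdim1, hdim] at this
    norm_num at this
  have hpid : IsPrincipalIdealRing (A ⧸ Ideal.span {x}) := by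
    have hfr : Module.finrank (IsLocalRing.ResidueField (A ⧸ Ideal.span {x}))
        (IsLocalRing.CotangentSpace (A ⧸ Ideal.span {x})) ≤ 1 := by
      have h := (IsRegularLocalRing.iff_finrank_cotangentSpace (A ⧸ Ideal.span {x})).mp hreg
      rw [hdim1] at h
      have h' : Module.finrank (IsLocalRing.ResidueField (A ⧸ Ideal.span {x}))
        (IsLocalRing.CotangentSpace (A ⧸ Ideal.span {x})) = 1 := by exact_mod_cast h
      exact h'.le
    exact ((tfae_of_isNoetherianRing_of_isLocalRing_of_isDomain
      (A ⧸ Ideal.span {x})).out 0 5).mpr hfr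
  have hmh : (IsLocalRing.maximalIdeal A).height = 2 := by
    have h := IsLocalRing.maximalIdeal_height_eq_ringKrullDim (R := A)
    rw [hdim] at h
    exact WithBot.coe_injective (h.trans rfl)
  -- every prime other than ⊥ and the maximal ideal is principal
  have hprinc : ∀ p : Ideal A, p.IsPrime → p ≠ ⊥ → p ≠ IsLocalRing.maximalIdeal A →
      ∃ f : A, p = Ideal.span {f} := by
    intro p hp hp0 hpm
    haveI := hp
    have hplt : p < IsLocalRing.maximalIdeal A :=
      lt_of_le_of_ne (IsLocalRing.le_maximalIdeal hp.ne_top) hpm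
    by_cases hxp : x ∈ p
    · refine ⟨x, ?_⟩
      by_contra hne
      have hle : Ideal.span {x} ≤ p := (Ideal.span_singleton_le_iff_mem _).mpr hxp
      have hlt : Ideal.span {x} < p := lt_of_le_of_ne hle (fun h => hne h.symm)
      haveI := hxprime
      have hbot : (⊥ : Ideal A) < Ideal.span {x} := by
        rw [bot_lt_iff_ne_bot, Ne, Ideal.span_singleton_eq_bot]
        exact hx0
      haveI : (⊥ : Ideal A).IsPrime := Ideal.isPrime_bot
      have h1 := Ideal.height_strict_mono_of_isPrime hbot
      have h2 := Ideal.height_strict_mono_of_isPrime hlt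
      have h3 := Ideal.height_strict_mono_of_isPrime hplt
      rw [hmh] at h3
      have h4 : (1 : ℕ∞) ≤ (Ideal.span {x}).height := by
        have := Order.add_one_le_of_lt h1
        exact le_trans (by simp) this
      have h5 : (2 : ℕ∞) ≤ p.height := by
        have := Order.add_one_le_of_lt h2
        refine le_trans ?_ this
        calc (2 : ℕ∞) = 1 + 1 := by norm_num
          _ ≤ (Ideal.span {x}).height + 1 := by gcongr
      exact absurd (lt_of_le_of_lt h5 h3) (lt_irrefl _)
    · have hpbar := IsPrincipalIdealRing.principal (p.map (Ideal.Quotient.mk (Ideal.span {x})))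
      obtain ⟨gbar, hgbar⟩ := hpbar.principal
      have hgmem : gbar ∈ p.map (Ideal.Quotient.mk (Ideal.span {x})) := by
        rw [hgbar]
        exact Submodule.mem_span_singleton_self gbar
      obtain ⟨f, hfp, hfg'⟩ := (Ideal.mem_map_iff_of_surjective _
        Ideal.Quotient.mk_surjective).mp hgmem
      refine ⟨f, le_antisymm ?_ ((Ideal.span_singleton_le_iff_mem _).mpr hfp)⟩
      refine Submodule.le_of_le_smul_of_le_jacobson_bot (I := IsLocalRing.maximalIdeal A)
        (IsNoetherian.noetherian p)
        (by rw [IsLocalRing.jacobson_eq_maximalIdeal ⊥ bot_ne_top]) ?_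
      intro a ha
      have hamem : Ideal.Quotient.mk (Ideal.span {x}) a ∈
          p.map (Ideal.Quotient.mk (Ideal.span {x})) := Ideal.mem_map_of_mem _ ha
      rw [hgbar] at hamem
      obtain ⟨cbar, hcbar⟩ := Submodule.mem_span_singleton.mp hamem
      obtain ⟨c, rfl⟩ := Ideal.Quotient.mk_surjective cbar
      rw [← hfg', smul_eq_mul, ← map_mul, Ideal.Quotient.eq, Ideal.mem_span_singleton'] at hcbar
      obtain ⟨b, hb⟩ := hcbar
      -- hb : b * x = c * f - a
      have hbx : b * x ∈ p := by
        rw [hb]
        exact p.sub_mem (p.mul_mem_left c hfp) ha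
      have hbp : b ∈ p := (hp.mem_or_mem hbx).resolve_right hxp
      have hadec : a = c * f + x • (-b) := by
        rw [smul_eq_mul]
        linear_combination hb
      rw [hadec]
      refine Submodule.add_mem_sup (Ideal.mul_mem_left _ c (Ideal.mem_span_singleton_self f)) ?_
      exact Submodule.smul_mem_smul hxm (p.neg_mem hbp)
  -- main argument
  have hrad : I.IsRadical := (Ideal.isRadical_iff_quotient_reduced I).mpr inferInstance
  by_cases hI0 : I = ⊥
  · exact Or.inl hI0
  by_cases hIm : I = IsLocalRing.maximalIdeal A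
  · exact Or.inr (Or.inl hIm)
  refine Or.inr (Or.inr ?_)
  have hfin : I.minimalPrimes.Finite := Ideal.finite_minimalPrimes_of_isNoetherianRing A I
  have hIinf : sInf I.minimalPrimes = I := by rw [Ideal.sInf_minimalPrimes, hrad.radical]
  -- properties of minimal primes
  have hq0 : ∀ q ∈ I.minimalPrimes, q ≠ ⊥ := by
    intro q hq h0
    exact hI0 (le_bot_iff.mp (h0 ▸ hq.1.2))
  have hqm : ∀ q ∈ I.minimalPrimes, q ≠ IsLocalRing.maximalIdeal A := by
    intro q hq hqeq
    apply hIm
    rw [← hIinf]
    apply le_antisymm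
    · exact sInf_le (hqeq ▸ hq)
    · refine le_sInf (fun q' hq' => ?_)
      have hq'le : q' ≤ IsLocalRing.maximalIdeal A := IsLocalRing.le_maximalIdeal hq'.1.1.ne_top
      have := hq.2 hq'.1 (hqeq ▸ hq'le)
      rw [hqeq] at this
      exact this
  have hanti : ∀ t ∈ I.minimalPrimes, ∀ q ∈ I.minimalPrimes, t ≤ q → t = q := by
    intro t ht q hq htq
    exact le_antisymm htq (hq.2 ht.1 htq)
  -- induction over finite subsets of the minimal primes
  have key : ∀ T : Finset (Ideal A), (↑T : Set (Ideal A)) ⊆ I.minimalPrimes →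
      ∃ g : A, g ≠ 0 ∧ sInf (↑T : Set (Ideal A)) = Ideal.span {g} ∧
        ∀ P : Ideal A, P.IsPrime → g ∈ P → ∃ t ∈ T, t ≤ P := by
    intro T
    induction T using Finset.induction_on with
    | empty =>
      intro _
      refine ⟨1, one_ne_zero, ?_, ?_⟩
      · rw [Finset.coe_empty, sInf_empty, Ideal.span_singleton_one]
      · intro P hP h1
        exact absurd ((Ideal.eq_top_iff_one P).mpr h1) hP.ne_top
    | insert q T hqT ih =>
      intro hsub
      rw [Finset.coe_insert] at hsub
      have hqmin : q ∈ I.minimalPrimes := hsub (Set.mem_insert _ _)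
      have hTsub : (↑T : Set (Ideal A)) ⊆ I.minimalPrimes :=
        fun t ht => hsub (Set.mem_insert_of_mem _ ht)
      obtain ⟨g, hg0, hginf, hgP⟩ := ih hTsub
      have hqprime : q.IsPrime := hqmin.1.1
      obtain ⟨f, hf⟩ := hprinc q hqprime (hq0 q hqmin) (hqm q hqmin)
      have hf0 : f ≠ 0 := by
        intro h0
        apply hq0 q hqmin
        rw [hf, h0, Ideal.span_singleton_eq_bot.mpr rfl]
      have hgq : g ∉ q := by
        intro hgq
        obtain ⟨t, htT, htq⟩ := hgP q hqprime hgq
        have := hanti t (hTsub htT) q hqmin htq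
        exact hqT (this ▸ htT)
      refine ⟨f * g, mul_ne_zero hf0 hg0, ?_, ?_⟩
      · rw [Finset.coe_insert, sInf_insert, hginf]
        apply le_antisymm
        · intro a ha
          obtain ⟨haq, hag⟩ := ha
          obtain ⟨b, hb⟩ := Ideal.mem_span_singleton'.mp hag
          have hbq : b ∈ q := by
            have : b * g ∈ q := hb ▸ haq
            exact (hqprime.mem_or_mem this).resolve_right hgq
          rw [hf] at hbq
          obtain ⟨c, hc⟩ := Ideal.mem_span_singleton'.mp hbq
          rw [Ideal.mem_span_singleton']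
          exact ⟨c, by rw [← hb, ← hc]; ring⟩
        · rw [Ideal.span_singleton_le_iff_mem]
          refine ⟨?_, ?_⟩
          · rw [hf]
            exact Ideal.mul_mem_right _ _ (Ideal.mem_span_singleton_self f)
          · exact Ideal.mul_mem_left _ _ (Ideal.mem_span_singleton_self g)
      · intro P hP hfgP
        rcases hP.mem_or_mem hfgP with hfP | hgP'
        · refine ⟨q, Finset.mem_insert_self q T, ?_⟩
          rw [hf, Ideal.span_singleton_le_iff_mem]
          exact hfP
        · obtain ⟨t, htT, htP⟩ := hgP P hP hgP'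
          exact ⟨t, Finset.mem_insert_of_mem htT, htP⟩
  obtain ⟨g, hg0, hginf, -⟩ := key hfin.toFinset (by rw [Set.Finite.coe_toFinset])
  rw [Set.Finite.coe_toFinset, hIinf] at hginf
  refine ⟨g, ?_, hg0, hginf⟩
  apply hI
  rw [hginf]
  exact Ideal.mem_span_singleton_self g

end Groth.Agent.S0226
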