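import Groth.Statements.S7671
import Groth.Agent.S11973
import Groth.Agent.H8.FlatBCStruct
import Groth.Agent.H8.SemilocalFree
import Groth.Agent.H8.LocFreeNearFinite
import Groth.Agent.H8.IsoCover
import Groth.Agent.H8.PushIsoTriv
import Groth.Agent.H18.ProjUPUniq

set_option autoImplicit false
universe u
open CategoryTheory CategoryTheory.Limits AlgebraicGeometry
open Variety

namespace Groth.Agent.S7671

set_option linter.style.haveILetI false
set_option maxHeartbeats 800000

open TopologicalSpace Opposite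

/-- For a qcqs scheme, `O_{Spec Γ} → (toSpecΓ)_* O_X` is bijective on all opens. -/
theorem toSpecΓ_app_bijective (X : Scheme.{u}) [CompactSpace X] [QuasiSeparatedSpace X]
    (V : (Spec Γ(X, ⊤)).Opens) : Function.Bijective (X.toSpecΓ.app V) := by
  haveI : IsIso (Groth.Agent.H8.canPush X.toSpecΓ) := by
    apply Groth.Agent.H8.isIso_of_bijective_basis (Groth.Agent.H8.canPush X.toSpecΓ)
      (fun r : Γ(X, ⊤) => (PrimeSpectrum.basicOpen r : (Spec Γ(X, ⊤)).Opens))
    · exact PrimeSpectrum.isBasis_basic_opens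
    · intro r
      have h1 : IsIso (X.toSpecΓ.app (PrimeSpectrum.basicOpen r)) := inferInstance
      have hb := (ConcreteCategory.isIso_iff_bijective _).mp h1
      constructor
      · intro a b hab
        rw [Groth.Agent.H8.canPush_app, Groth.Agent.H8.canPush_app] at hab
        exact hb.1 hab
      · intro y
        obtain ⟨a, ha⟩ := hb.2 y
        exact ⟨a, (Groth.Agent.H8.canPush_app _ _ a).trans ha⟩
  have h2 : IsIso ((Groth.Agent.H8.canPush X.toSpecΓ).app V) :=
    ⟨(inv (Groth.Agent.H8.canPush X.toSpecΓ)).app V,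
      by rw [← Scheme.Modules.Hom.comp_app, IsIso.hom_inv_id, Scheme.Modules.Hom.id_app],
      by rw [← Scheme.Modules.Hom.comp_app, IsIso.inv_hom_id, Scheme.Modules.Hom.id_app]⟩
  have hb := (ConcreteCategory.isIso_iff_bijective _).mp h2
  constructor
  · intro a b hab
    apply hb.1
    rw [Groth.Agent.H8.canPush_app, Groth.Agent.H8.canPush_app]
    exact hab
  · intro y
    obtain ⟨a, ha⟩ := hb.2 y
    exact ⟨a, (Groth.Agent.H8.canPush_app _ _ a).symm.trans ha⟩

/-- Invertible modules on the spectrum of a semi-local ring are trivial. -/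
theorem trivial_of_semilocal (R : CommRingCat.{u}) (hsl : Finite (MaximalSpectrum R))
    (N : (Spec R).Modules) (hN : PicF.IsInvertible N) :
    Nonempty (N ≅ Coh.structureModule (Spec R)) := by
  classical
  have hV : IsAffineOpen (⊤ : (Spec R).Opens) := isAffineOpen_top (Spec R)
  have hflf := Groth.Agent.H8.isFinLocFree_of_isInvertible hN
  haveI : N.IsQuasicoherent := Groth.Agent.H8.isQuasicoherent_of_isFinLocFree N hflf
  haveI : (Coh.structureModule (Spec R)).IsQuasicoherent :=
    Groth.Agent.H8.isQuasicoherent_structureModule' (Spec R)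
  obtain ⟨hfp, hproj⟩ :=
    Groth.Agent.H8.finitePresentation_projective_sections_of_isFinLocFree N hflf hV
  haveI := hfp
  haveI := hproj
  have hrank := Groth.Agent.H8.rankAtStalk_sections_of_isFinLocFreeOfRank N 1
    (Groth.Agent.H8.isFinLocFreeOfRank_one_of_isInvertible hN) hV
  -- semilocality of Γ(Spec R, ⊤)
  let e : Γ(Spec R, ⊤) ≃+* R := (Scheme.ΓSpecIso R).commRingCatIsoToRingEquiv
  haveI : Finite (MaximalSpectrum Γ(Spec R, ⊤)) := by
    haveI := hsl
    refine Finite.of_injective (fun m : MaximalSpectrum Γ(Spec R, ⊤) =>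
      (⟨m.asIdeal.comap (e.symm : R →+* Γ(Spec R, ⊤)),
        Ideal.comap_isMaximal_of_surjective _ e.symm.surjective⟩ : MaximalSpectrum R)) ?_
    intro m₁ m₂ h
    apply MaximalSpectrum.ext
    have h' : m₁.asIdeal.comap (e.symm : R →+* Γ(Spec R, ⊤)) =
        m₂.asIdeal.comap (e.symm : R →+* Γ(Spec R, ⊤)) := congrArg MaximalSpectrum.asIdeal h
    exact Ideal.comap_injective_of_surjective _ e.symm.surjective h'
  obtain ⟨hfree, hfinrank⟩ :=
    Groth.Agent.H8.free_of_rankAtStalk_eq_of_semilocal Γ(N, ⊤) 1 hrank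
  haveI := hfree
  -- a linear equivalence `Γ(Spec R, ⊤) ≃ Γ(N, ⊤)`
  obtain ⟨ε⟩ : Nonempty (Γ(Spec R, ⊤) ≃ₗ[Γ(Spec R, ⊤)] Γ(N, ⊤)) := by
    rcases subsingleton_or_nontrivial Γ(Spec R, ⊤) with hs | hnt
    · haveI : Subsingleton Γ(N, ⊤) := Module.subsingleton Γ(Spec R, ⊤) Γ(N, ⊤)
      exact ⟨LinearEquiv.ofSubsingleton _ _⟩
    · exact FiniteDimensional.nonempty_linearEquiv_of_finrank_eq (by rw [Module.finrank_self, hfinrank hnt])
  let τ : Coh.structureModule (Spec R) ⟶ N := Groth.Agent.H18.TensorPowIso.secHom N (ε 1)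
  have hτ : ∀ r : Γ(Spec R, ⊤), τ.app ⊤ r = ε r := by
    intro r
    have h1 : τ.app ⊤ r = r • τ.app ⊤ (1 : Γ(Spec R, ⊤)) := by
      rw [← Scheme.Modules.Hom.app_smul]
      congr 1
      exact (mul_one r).symm
    have h2 : τ.app ⊤ (1 : Γ(Spec R, ⊤)) = ε 1 := Groth.Agent.H8.sv_secHom_top' N (ε 1)
    rw [h1, h2, ← map_smul, smul_eq_mul, mul_one]
  haveI : IsIso τ := by
    apply Groth.Agent.H8.isIso_of_bijective_affine_cover τ (fun _ : Unit => (⊤ : (Spec R).Opens))
    · exact ciSup_const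
    · exact fun _ => hV
    · intro _
      have : (τ.app ⊤ : Γ(Spec R, ⊤) → Γ(N, ⊤)) = ε := funext hτ
      rw [this]
      exact ε.bijective
  exact ⟨(asIso τ).symm⟩

/-- Let A → B be faithfully flat and X a quasi-compact and quasi-separated scheme over A such that
H^0(X, O_X) is a semi-local ring. Then Pic(X) → Pic(X_B) is injective: an invertible module on X
which becomes trivial on X_B is trivial. -/
theorem result (A B : Type u) [CommRing A]
    [CommRing B] [Algebra A B] [Module.FaithfullyFlat A B]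
    (X : Scheme.{u}) (f : X ⟶ Spec (CommRingCat.of A)) [CompactSpace X] [QuasiSeparatedSpace X]
    (hsl : Finite (MaximalSpectrum Γ(X, ⊤))) (L : X.Modules) (hL : PicF.IsInvertible L)
    (htriv : Nonempty ((Scheme.Modules.pullback
        (pullback.fst f (Spec.map (CommRingCat.ofHom (algebraMap A B))))).obj L ≅
      Coh.structureModule (pullback f (Spec.map (CommRingCat.ofHom (algebraMap A B)))))) :
    Nonempty (L ≅ Coh.structureModule X) := by
  classical
  have hp := toSpecΓ_app_bijective X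
  have hf : f = X.toSpecΓ ≫ Spec.map ((Scheme.ΓSpecIso (CommRingCat.of A)).inv ≫ f.appTop) :=
    Groth.Agent.H18.ProjUPUniq.eq_toSpecΓ_map f
  obtain ⟨φ, hφ⟩ : ∃ φ : CommRingCat.of A ⟶ Γ(X, ⊤), f = X.toSpecΓ ≫ Spec.map φ := ⟨_, hf⟩
  obtain ⟨gB, hgB⟩ : ∃ gB : Spec (CommRingCat.of B) ⟶ Spec (CommRingCat.of A),
      gB = Spec.map (CommRingCat.ofHom (algebraMap A B)) := ⟨_, rfl⟩
  rw [← hgB] at htriv
  haveI : Flat gB := by
    rw [hgB, HasRingHomProperty.Spec_iff (P := @Flat)]
    show (algebraMap A B).Flat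
    rw [RingHom.flat_algebraMap_iff]
    infer_instance
  haveI : Surjective gB := by
    rw [hgB]
    constructor
    exact PrimeSpectrum.comap_surjective_of_faithfullyFlat (A := A) (B := B)
  obtain ⟨et⟩ := htriv
  -- the base change `g : Spec Γ ×_A B ⟶ Spec Γ`
  let e : pullback X.toSpecΓ (pullback.fst (Spec.map φ) gB) ≅ pullback f gB :=
    pullbackRightPullbackFstIso (Spec.map φ) gB X.toSpecΓ ≪≫ pullback.congrHom hφ.symm rfl
  have he : e.hom ≫ pullback.fst f gB =
      pullback.fst X.toSpecΓ (pullback.fst (Spec.map φ) gB) := by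
    simp only [e, Iso.trans_hom, pullback.congrHom_hom, pullback.map, Category.assoc,
      pullback.lift_fst, Category.comp_id, pullbackRightPullbackFstIso_hom_fst]
  have htriv' : Nonempty ((Scheme.Modules.pullback
      (pullback.fst X.toSpecΓ (pullback.fst (Spec.map φ) gB))).obj L ≅
      Coh.structureModule (pullback X.toSpecΓ (pullback.fst (Spec.map φ) gB))) :=
    ⟨(Scheme.Modules.pullbackCongr he.symm).app L ≪≫
      ((Scheme.Modules.pullbackComp e.hom (pullback.fst f gB)).app L).symm ≪≫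
      (Scheme.Modules.pullback e.hom).mapIso et ≪≫
      Groth.Agent.H22.PullGen.pullbackUnitIso e.hom⟩
  obtain ⟨hinv, hcounit⟩ := Groth.Agent.S11973.result X.toSpecΓ hp
    (pullback.fst (Spec.map φ) gB) L hL htriv'
  obtain ⟨eR⟩ := trivial_of_semilocal Γ(X, ⊤) hsl _ hinv
  haveI := hcounit
  exact ⟨(asIso ((Scheme.Modules.pullbackPushforwardAdjunction X.toSpecΓ).counit.app L)).symm ≪≫
    (Scheme.Modules.pullback X.toSpecΓ).mapIso eR ≪≫
    Groth.Agent.H22.PullGen.pullbackUnitIso X.toSpecΓ⟩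

end Groth.Agent.S7671
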