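import Groth.Statements.S0232
import Groth.Agent.S7671
import Groth.Agent.H74.H0Top

set_option autoImplicit false
universe u
open CategoryTheory CategoryTheory.Limits AlgebraicGeometry
open Curves

namespace Groth.Agent.S0232

set_option linter.style.haveILetI false

open Opposite TopologicalSpace

theorem cl_eq_iff' {Y : Scheme.{u}} {F G : Y.Modules} :
    PicF.cl F = PicF.cl G ↔ Nonempty (F ≅ G) := by
  constructor
  · intro h
    have h' := Quot.eq.mp h
    have heq : Equivalence (fun L L' : Y.Modules => Nonempty (L ≅ L')) :=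
      ⟨fun L => ⟨Iso.refl L⟩, fun ⟨e⟩ => ⟨e.symm⟩, fun ⟨e⟩ ⟨e'⟩ => ⟨e ≪≫ e'⟩⟩
    exact heq.eqvGen_iff.mp h'
  · exact fun h => Quot.sound h

/-- Finite-dimensional `H⁰(X, O_X)` makes the ring of global functions semi-local. -/
theorem finite_maximalSpectrum_of_finite_H0 (k : Type u) [Field k] (X : Scheme.{u})
    [X.Over (Spec (CommRingCat.of k))]
    (hfin : Module.Finite k (Coh.HH X (Coh.structureModule X) 0)) :
    Finite (MaximalSpectrum Γ(X, ⊤)) := by
  let φ : k →+* Γ(X, ⊤) :=
    ((X ↘ Spec (CommRingCat.of k)).appTop).hom.comp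
      (Scheme.ΓSpecIso (CommRingCat.of k)).inv.hom
  letI : Algebra k Γ(X, ⊤) := φ.toAlgebra
  let ε : Coh.HH X (Coh.structureModule X) 0 ≃ₗ[k] Γ(X, ⊤) :=
    { toFun := fun x => (Groth.Agent.H74.H0Top.e' X x : Coh.Γtop X)
      map_add' := fun x y => Groth.Agent.H74.H0Top.e'_add X x y
      map_smul' := fun c x => by
        have h1 := Groth.Agent.H74.H0Top.e'_smul X
          (Coh.toGlobal (X ↘ Spec (CommRingCat.of k)) c) x
        exact h1
      invFun := fun y => (Groth.Agent.H74.H0Top.e' X).symm (y : Coh.Γtop X)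
      left_inv := fun x => (Groth.Agent.H74.H0Top.e' X).symm_apply_apply x
      right_inv := fun y => (Groth.Agent.H74.H0Top.e' X).apply_symm_apply y }
  haveI := hfin
  haveI : Module.Finite k Γ(X, ⊤) := Module.Finite.equiv ε
  haveI : IsArtinianRing Γ(X, ⊤) := IsArtinianRing.of_finite k _
  infer_instance

/-- For a quasi-compact quasi-separated scheme X over a field k with finite-dimensional H^0(X, O_X), an
invertible module on X that becomes trivial after base change to a field extension k' is already
trivial (injectivity of Pic(X) → Pic(X_{k'}), stated on classes without a group structure). The base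
change is given as any pullback square. -/
theorem result (k : Type u) [Field k] (X : Scheme.{u}) [X.Over (Spec (CommRingCat.of k))]
    [CompactSpace X] [QuasiSeparatedSpace X]
    (hfin : Module.Finite k (Coh.HH X (Coh.structureModule X) 0))
    (k' : Type u) [Field k'] [Algebra k k'] (X' : Scheme.{u}) (g : X' ⟶ X) (q : X' ⟶ Spec (CommRingCat.of k'))
    (hpb : IsPullback g q (X ↘ Spec (CommRingCat.of k)) (Spec.map (CommRingCat.ofHom (algebraMap k k'))))
    (L : X.Modules) (hL : PicF.IsInvertible L) (htriv : PicF.IsTrivialCl (PicF.pullCl g (PicF.cl L))) :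
    PicF.IsTrivialCl (PicF.cl L) := by
  classical
  have hsl := finite_maximalSpectrum_of_finite_H0 k X hfin
  have h1 : Nonempty ((Scheme.Modules.pullback g).obj L ≅ Coh.structureModule X') :=
    cl_eq_iff'.mp htriv
  obtain ⟨et⟩ := h1
  have hi : hpb.isoPullback.inv ≫ g =
      pullback.fst (X ↘ Spec (CommRingCat.of k))
        (Spec.map (CommRingCat.ofHom (algebraMap k k'))) := hpb.isoPullback_inv_fst
  have h2 : Nonempty ((Scheme.Modules.pullback
      (pullback.fst (X ↘ Spec (CommRingCat.of k))
        (Spec.map (CommRingCat.ofHom (algebraMap k k'))))).obj L ≅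
      Coh.structureModule (pullback (X ↘ Spec (CommRingCat.of k))
        (Spec.map (CommRingCat.ofHom (algebraMap k k'))))) :=
    ⟨(Scheme.Modules.pullbackCongr hi.symm).app L ≪≫
      ((Scheme.Modules.pullbackComp hpb.isoPullback.inv g).app L).symm ≪≫
      (Scheme.Modules.pullback hpb.isoPullback.inv).mapIso et ≪≫
      Groth.Agent.H22.PullGen.pullbackUnitIso hpb.isoPullback.inv⟩
  have h3 := Groth.Agent.S7671.result k k' X (X ↘ Spec (CommRingCat.of k)) hsl L hL h2
  exact cl_eq_iff'.mpr h3

end Groth.Agent.S0232
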