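import Groth.Statements.S0234
import Groth.Agent.H17.ExtInv.Main
import Groth.Agent.S2252

set_option autoImplicit false
universe u
open CategoryTheory CategoryTheory.Limits AlgebraicGeometry
open Curves
open Groth.Agent.H17.ExtInv Groth.Agent.H31.MVS

namespace Groth.Agent.S0234

/-- On a locally Noetherian scheme, an invertible module on an open U extends to an invertible module on
X provided the local rings at the points outside U are unique factorisation domains. -/
theorem result (X : Scheme.{u}) [IsLocallyNoetherian X] (U : X.Opens)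
    (L : (U : Scheme.{u}).Modules) (hL : PicF.IsInvertible L)
    (hufd : ∀ x : X, x ∉ U → UniqueFactorizationMonoid (X.presheaf.stalk x)) :
    ∃ L' : X.Modules, PicF.IsInvertible L' ∧ Nonempty (L'.restrict U.ι ≅ L) := by
  classical
  -- a coherent extension of `L`
  have hX : ∀ x : X, ∃ W : X.Opens, x ∈ W ∧ TopologicalSpace.NoetherianSpace (W : Set X) := by
    intro x
    obtain ⟨_, ⟨W, hW, rfl⟩, hx, -⟩ :=
      X.isBasis_affineOpens.exists_subset_of_mem_open (Set.mem_univ x) isOpen_univ
    replace hW : IsAffineOpen W := hW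
    haveI : IsNoetherianRing Γ(X, W) := IsLocallyNoetherian.component_noetherian ⟨W, hW⟩
    exact ⟨W, hx, noetherianSpace_of_isAffineOpen W hW⟩
  have hLc : Coh.IsCoh L := Groth.Agent.H18.AmpleTwistGG.isCoh_of_isInvertible hL
  haveI : Coh.IsQCoh L := hLc.1
  obtain ⟨G', hGq, hGf, ⟨e₀⟩⟩ := Groth.Agent.S2252.result hX U L hLc.2
  have hG : Coh.IsCoh G' := ⟨hGq, hGf⟩
  haveI : G'.IsQuasicoherent := hGq
  -- the biduality map of `G'` is an isomorphism on the stalks at the points of `U`
  have hC1 : ∀ x ∈ U, IsIso ((sk x).map (RefHull.bidualMap G')) := by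
    intro x hx
    have hfr : Groth.Agent.H90.QH.FreeAt G' x :=
      Groth.Agent.H90.QH.freeAt_of_isFinLocFree_restrict U
        (Groth.Agent.H8.isFinLocFree_of_isInvertible
          (Groth.Agent.H8.isInvertible_of_iso e₀.symm hL)) x hx
    obtain ⟨h1, h2⟩ := Groth.Agent.H90.QH.free_finite_stalk_of_freeAt hfr
    haveI := h1
    haveI := h2
    have hr : RefHull.IsReflexiveAt G' x :=
      (inferInstance : Module.IsReflexive (X.presheaf.stalk x) (G'.presheaf.stalk x))
    have hb := (Groth.Agent.H17.ReflSheaf.isReflexiveAt_iff G' hG x).mp hr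
    exact (ConcreteCategory.isIso_iff_bijective _).mpr hb
  let M : X.Modules := RefHull.ddual G'
  have hM : Coh.IsCoh M := Groth.Agent.H17.ReflSheaf.isCoh_ddual G' hG
  haveI : IsIso ((Scheme.Modules.restrictFunctor U.ι).map (RefHull.bidualMap G')) :=
    isIso_restrict_of_stalks U _ hC1
  let eMU : M.restrict U.ι ≅ L :=
    (asIso ((Scheme.Modules.restrictFunctor U.ι).map (RefHull.bidualMap G'))).symm ≪≫ e₀
  have hMU : PicF.IsInvertible (M.restrict U.ι) := Groth.Agent.H8.isInvertible_of_iso eMU.symm hL
  -- the closure of `U` is open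
  have hdom : ∀ x : X, x ∉ U → IsDomain (X.presheaf.stalk x) := by
    intro x hx
    haveI := hufd x hx
    exact IsDomain.mk
  have hopen : IsOpen (closure (U : Set X)) := isOpen_closure_of_isDomain_stalk U hdom
  let C : X.Opens := ⟨closure (U : Set X), hopen⟩
  let V : X.Opens := ⟨(closure (U : Set X))ᶜ, isClosed_closure.isOpen_compl⟩
  have hCV : ∀ y : X, y ∈ C → y ∉ V := fun y hy hV => hV hy
  have hVC : ∀ y : X, y ∉ C → y ∈ V := fun y hy => hy
  -- `M` is free of rank one near the points of the closure of `U`
  have hfreeM : ∀ x : X, x ∈ C → FreeAt1 M x := by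
    intro x hx
    by_cases hxU : x ∈ U
    · exact FreeAt1.of_restrict U.ι (z := (⟨x, hxU⟩ : U)) (freeAt1_of_isInvertible hMU ⟨x, hxU⟩)
    · haveI := hufd x hxU
      haveI := hdom x hxU
      exact freeAt1_of_ufd M hM U hMU x hx
        (isReflexiveAt_dual (RefHull.dual G') (Groth.Agent.H17.ReflSheaf.isCoh_dual G' hG) x)
  -- glue `M` on the closure of `U` with the structure sheaf on the complement
  let L' : X.Modules := glue C V M (Coh.structureModule X)
  have hL' : ∀ x : X, FreeAt1 L' x := by
    intro x
    by_cases hxC : x ∈ C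
    · exact freeAt1_of_stalkIso (glueFst C V M (Coh.structureModule X)) C
        (fun y hy => isIso_sk_glueFst C V M _ y hy (hCV y hy)) hxC (hfreeM x hxC)
    · exact freeAt1_of_stalkIso (glueSnd C V M (Coh.structureModule X)) V
        (fun y hy => isIso_sk_glueSnd C V M _ y (fun hC => hCV y hC hy) hy) (hVC x hxC)
        (freeAt1_of_isInvertible (Groth.Agent.H8.isInvertible_structureModule X) x)
  haveI : IsIso ((Scheme.Modules.restrictFunctor U.ι).map (glueFst C V M (Coh.structureModule X))) :=
    isIso_restrict_of_stalks U _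
      (fun y hy => isIso_sk_glueFst C V M _ y (subset_closure hy) (hCV y (subset_closure hy)))
  exact ⟨L', isInvertible_of_freeAt1 hL',
    ⟨asIso ((Scheme.Modules.restrictFunctor U.ι).map (glueFst C V M (Coh.structureModule X))) ≪≫
      eMU⟩⟩

end Groth.Agent.S0234
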