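import Groth.Statements.S4436
import Groth.Agent.H8.LocFreeNearFinite
import Mathlib.AlgebraicGeometry.Morphisms.QuasiFinite
import Mathlib.AlgebraicGeometry.Morphisms.Proper

set_option autoImplicit false
universe u
open CategoryTheory CategoryTheory.Limits AlgebraicGeometry
open EGA2

namespace Groth.Agent.S4436

/-- Let f : X' ⟶ X be a finite morphism and F' a locally free O_{X'}-module of rank r. Then every point
of X has an open neighbourhood U over whose inverse image F' is free of rank r; this is the content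
of the statement that the direct image of F' is a locally free module of rank r over the direct
image of O_{X'} (the converse implication being immediate). -/
theorem result {X' X : Scheme.{u}} (f : X' ⟶ X) [IsFinite f] (r : ℕ)
    (F : X'.Modules) (hF : FlatMod.IsFinLocFreeOfRank r F) (x : X) :
    ∃ U : X.Opens, x ∈ U ∧ Nonempty (F.restrict (f ⁻¹ᵁ U).ι ≅ FlatMod.freeMod (↑(f ⁻¹ᵁ U)) r) := by
  obtain ⟨V, hV, hxV, -⟩ := exists_isAffineOpen_mem_and_subset (x := x)
    (U := (⊤ : X.Opens)) trivial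
  have hV' : IsAffineOpen (f ⁻¹ᵁ V) := hV.preimage f
  have hZ : (f ⁻¹' {x}).Finite := f.finite_preimage_singleton x
  have hZV : f ⁻¹' {x} ⊆ ((f ⁻¹ᵁ V : X'.Opens) : Set X') := by
    intro z hz
    have hz' : f z = x := hz
    show f z ∈ V
    rw [hz']
    exact hxV
  obtain ⟨U', hZU', -, ⟨e⟩⟩ :=
    Groth.Agent.H8.exists_restrict_iso_freeMod_near_finite F r hF _ hZ hV' hZV
  have hclosed : IsClosed (f '' ((U' : Set X')ᶜ)) :=
    f.isClosedMap _ U'.isOpen.isClosed_compl
  refine ⟨⟨(f '' ((U' : Set X')ᶜ))ᶜ, hclosed.isOpen_compl⟩, ?_, ?_⟩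
  · rintro ⟨z, hz, hzx⟩
    exact hz (hZU' hzx)
  · have hle : f ⁻¹ᵁ (⟨(f '' ((U' : Set X')ᶜ))ᶜ, hclosed.isOpen_compl⟩ : X.Opens) ≤ U' := by
      intro z hz
      by_contra hzU'
      exact hz ⟨z, hzU', rfl⟩
    exact Groth.Agent.H8.nonempty_restrict_iso_freeMod_of_le F hle r e

end Groth.Agent.S4436
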