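import Groth.Statements.S0237
import Mathlib

set_option autoImplicit false
universe u
open Pi1

namespace Groth.Agent.S0237

open AlgebraicGeometry CategoryTheory CategoryTheory.Limits

set_option backward.isDefEq.respectTransparency false in
lemma isOpenImmersion_equalizer_ι_left {S : Scheme.{u}} {X Y : Over S}
    [IsOpenImmersion (pullback.diagonal Y.hom)]
    (f g : X ⟶ Y) : IsOpenImmersion (equalizer.ι f g).left := by
  refine MorphismProperty.of_isPullback (P := @IsOpenImmersion)
    ((Limits.isPullback_equalizer_prod f g).map (Over.forget _)).flip ?_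
  rw [← MorphismProperty.cancel_right_of_respectsIso @IsOpenImmersion _
    (Over.prodLeftIsoPullback Y Y).hom]
  convert! (inferInstance : IsOpenImmersion (pullback.diagonal Y.hom))
  ext1 <;> simp [← Over.comp_left]

open AlgebraicGeometry CategoryTheory in
/-- If a morphism of schemes has dense image, pulling back finite etale covers along it is faithful. -/
theorem result {X Y : Scheme.{u}} (f : X ⟶ Y)
    (h : DenseRange f.base) : (FEt.restrict f).Faithful := by
  constructor
  intro Z₁ Z₂ a b hab
  have h1 : pullback.fst Z₁.hom f ≫ a.left = pullback.fst Z₁.hom f ≫ b.left := by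
    have h2 := congrArg (fun k => k.left ≫ pullback.fst Z₂.hom f) hab
    have ha : ((FEt.restrict f).map a).left ≫ pullback.fst Z₂.hom f =
        pullback.fst Z₁.hom f ≫ a.left := pullback.lift_fst _ _ _
    have hb : ((FEt.restrict f).map b).left ≫ pullback.fst Z₂.hom f =
        pullback.fst Z₁.hom f ≫ b.left := pullback.lift_fst _ _ _
    exact ha.symm.trans (h2.trans hb)
  have hwa : a.left ≫ Z₂.hom = Z₁.hom := MorphismProperty.Over.w a
  have hwb : b.left ≫ Z₂.hom = Z₁.hom := MorphismProperty.Over.w b
  let A₁ : Over Y := Over.mk Z₁.hom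
  let A₂ : Over Y := Over.mk Z₂.hom
  let ab : A₁ ⟶ A₂ := Over.homMk a.left hwa
  let bb : A₁ ⟶ A₂ := Over.homMk b.left hwb
  have hfin₂ : IsFinite Z₂.hom := Z₂.prop.1
  have het₂ : Etale Z₂.hom := Z₂.prop.2
  have het₁ : Etale Z₁.hom := Z₁.prop.2
  haveI : IsSeparated A₂.hom := (inferInstance : IsSeparated Z₂.hom)
  haveI : IsOpenImmersion (pullback.diagonal A₂.hom) :=
    (inferInstance : IsOpenImmersion (pullback.diagonal Z₂.hom))
  have hcl : IsClosedImmersion (equalizer.ι ab bb).left := inferInstance
  have hop : IsOpenImmersion (equalizer.ι ab bb).left := isOpenImmersion_equalizer_ι_left ab bb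
  -- the projection factors through the equalizer
  let Pb : Over Y := Over.mk (pullback.fst Z₁.hom f ≫ Z₁.hom)
  let pb : Pb ⟶ A₁ := Over.homMk (pullback.fst Z₁.hom f) rfl
  have hpb : pb ≫ ab = pb ≫ bb := by
    apply Over.OverMorphism.ext
    exact h1
  have hfac : (equalizer.lift pb hpb).left ≫ (equalizer.ι ab bb).left = pullback.fst Z₁.hom f :=
    congrArg (fun k => k.left) (equalizer.lift_ι pb hpb)
  -- density
  have hdense : Dense (Set.range (pullback.fst Z₁.hom f)) := by
    rw [Scheme.Pullback.range_fst]
    exact h.preimage Z₁.hom.isOpenMap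
  have hsub : Set.range (pullback.fst Z₁.hom f) ⊆ Set.range (equalizer.ι ab bb).left := by
    rintro _ ⟨x, rfl⟩
    refine ⟨(equalizer.lift pb hpb).left x, ?_⟩
    rw [← Scheme.Hom.comp_apply, hfac]
  have hsurj : Surjective (equalizer.ι ab bb).left := by
    constructor
    rw [← Set.range_eq_univ]
    have hclosed : IsClosed (Set.range (equalizer.ι ab bb).left) :=
      (equalizer.ι ab bb).left.isClosedEmbedding.isClosed_range
    exact Set.eq_univ_of_univ_subset
      (hdense.closure_eq ▸ hclosed.closure_subset_iff.mpr hsub)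
  haveI : IsIso (equalizer.ι ab bb).left := (isIso_iff_isOpenImmersion_and_surjective _).mpr ⟨hop, hsurj⟩
  apply MorphismProperty.Over.Hom.ext
  rw [← cancel_epi (equalizer.ι ab bb).left]
  exact congrArg (fun k => k.left) (equalizer.condition ab bb)

end Groth.Agent.S0237
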