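import Groth.Statements.S0283
import Mathlib
import Groth.Agent.H68.FEtFF

set_option autoImplicit false
universe u
open Pi1

namespace Groth.Agent.S0283

open AlgebraicGeometry CategoryTheory CategoryTheory.Limits

theorem clopenBij {X Y : Scheme.{u}} (f : X ⟶ Y) [IsIntegralHom f] [UniversallyInjective f]
    [Surjective f] : H68.FEtFF.ClopenBij f := by
  have main : ∀ W : FEt.Cat Y, ∃ p : pullback W.hom f ⟶ W.left, p = pullback.fst W.hom f ∧
      Function.Bijective p ∧ IsClosedMap p := by
    intro W
    obtain ⟨p, hp⟩ : ∃ p : pullback W.hom f ⟶ W.left, p = pullback.fst W.hom f := ⟨_, rfl⟩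
    haveI : IsIntegralHom p := by rw [hp]; infer_instance
    haveI : UniversallyInjective p := by
      rw [hp]; exact MorphismProperty.of_isPullback (P := @UniversallyInjective)
        (IsPullback.of_hasPullback W.hom f).flip ‹UniversallyInjective f›
    haveI : Surjective p := by
      rw [hp]; exact MorphismProperty.of_isPullback (P := @Surjective)
        (IsPullback.of_hasPullback W.hom f).flip ‹Surjective f›
    exact ⟨p, hp, ⟨p.injective, p.surjective⟩, p.isClosedMap⟩
  refine ⟨?_, ?_⟩
  · intro W T hT hpre
    obtain ⟨p, hp, hbij, hcl⟩ := main W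
    rw [← hp] at hpre
    rw [Set.eq_univ_iff_forall]
    intro y
    obtain ⟨y', rfl⟩ := hbij.2 y
    have : y' ∈ p ⁻¹' T := by rw [hpre]; trivial
    exact this
  · intro W T' hT'
    obtain ⟨p, hp, hbij, hcl⟩ := main W
    rw [← hp]
    refine ⟨p '' T', ⟨hcl _ hT'.isClosed, ?_⟩, Set.preimage_image_eq _ hbij.1⟩
    have : p '' T' = (p '' T'ᶜ)ᶜ := by
      rw [Set.image_compl_eq hbij, compl_compl]
    rw [this]
    exact (hcl _ hT'.isOpen.isClosed_compl).isOpen_compl


open AlgebraicGeometry CategoryTheory CategoryTheory.Limits in
/-- Let f : X → Y be a morphism of schemes which is integral, universally injective and surjective (that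
is, a universal homeomorphism). Then base change along f, from finite étale covers of Y to finite
étale covers of X, is a full and faithful functor. -/
theorem result {X Y : Scheme.{u}} (f : X ⟶ Y) [IsIntegralHom f] [UniversallyInjective f] [Surjective f] :
    (FEt.restrict f).Full ∧ (FEt.restrict f).Faithful := by
  exact H68.FEtFF.full_faithful f (clopenBij f)

end Groth.Agent.S0283
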