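import Groth.Statements.S0239
import Groth.Agent.H3.FEtH4
import Groth.Agent.H68.FEtFF

set_option autoImplicit false
universe u
open Pi1

namespace Groth.Agent.S0239

open AlgebraicGeometry CategoryTheory CategoryTheory.Limits in
/-- For a henselian pair (A, I) in Mathlib's sense, restricting finite etale covers from Spec A to the
closed subscheme Spec (A/I) is an equivalence of categories. -/
theorem result (A : Type u) [CommRing A] (I : Ideal A) [HenselianRing A I] :
    (FEt.restrict (Spec.map (CommRingCat.ofHom (Ideal.Quotient.mk I)))).IsEquivalence := by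
  obtain ⟨j, hj⟩ : ∃ j : Spec (CommRingCat.of (A ⧸ I)) ⟶ Spec (CommRingCat.of A),
      j = Spec.map (CommRingCat.ofHom (Ideal.Quotient.mk I)) := ⟨_, rfl⟩
  rw [← hj]
  have hCB : Groth.Agent.H68.FEtFF.ClopenBij j := by
    refine ⟨fun W T hT hTu => ?_, fun W T' hT' => ?_⟩
    · haveI : IsFinite W.hom := W.prop.1
      obtain ⟨U, -, huniq⟩ := Groth.Agent.H3.FEtH.existsUnique_clopen_aux I W.hom j hj Set.univ
        isClopen_univ
      have h1 : T = U := huniq T ⟨hT, hTu⟩
      have h2 : Set.univ = U := huniq Set.univ ⟨isClopen_univ, rfl⟩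
      rw [h1, ← h2]
    · haveI : IsFinite W.hom := W.prop.1
      obtain ⟨U, ⟨hU, hUT⟩, -⟩ := Groth.Agent.H3.FEtH.existsUnique_clopen_aux I W.hom j hj T' hT'
      exact ⟨U, hU, hUT⟩
  obtain ⟨hfull, hfaith⟩ := Groth.Agent.H68.FEtFF.full_faithful j hCB
  haveI := hfull
  haveI := hfaith
  haveI : (FEt.restrict j).EssSurj := by
    rw [hj]; exact Groth.Agent.H3.FEtH.essSurj I
  exact { }

end Groth.Agent.S0239
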