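import Groth.Statements.S0243
import Mathlib
import Groth.Agent.S0237

set_option autoImplicit false
universe u
open Pi1

namespace Groth.Agent.S0243

open AlgebraicGeometry CategoryTheory CategoryTheory.Limits

open AlgebraicGeometry CategoryTheory CategoryTheory.Limits in
/-- If a closed subscheme meets every connected component of the ambient scheme, restricting finite
etale covers to it is a faithful functor. -/
theorem result {X Y : Scheme.{u}} (i : Y ⟶ X) [IsClosedImmersion i]
    (h : ∀ x : X, (connectedComponent x ∩ Set.range i.base).Nonempty) :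
    (FEt.restrict i).Faithful := by
  constructor
  intro Z₁ Z₂ a b hab
  have h1 : pullback.fst Z₁.hom i ≫ a.left = pullback.fst Z₁.hom i ≫ b.left := by
    have h2 := congrArg (fun k => k.left ≫ pullback.fst Z₂.hom i) hab
    have ha : ((FEt.restrict i).map a).left ≫ pullback.fst Z₂.hom i =
        pullback.fst Z₁.hom i ≫ a.left := pullback.lift_fst _ _ _
    have hb : ((FEt.restrict i).map b).left ≫ pullback.fst Z₂.hom i =
        pullback.fst Z₁.hom i ≫ b.left := pullback.lift_fst _ _ _
    exact ha.symm.trans (h2.trans hb)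
  have hwa : a.left ≫ Z₂.hom = Z₁.hom := MorphismProperty.Over.w a
  have hwb : b.left ≫ Z₂.hom = Z₁.hom := MorphismProperty.Over.w b
  let A₁ : Over X := Over.mk Z₁.hom
  let A₂ : Over X := Over.mk Z₂.hom
  let ab : A₁ ⟶ A₂ := Over.homMk a.left hwa
  let bb : A₁ ⟶ A₂ := Over.homMk b.left hwb
  have hfin₂ : IsFinite Z₂.hom := Z₂.prop.1
  have het₂ : Etale Z₂.hom := Z₂.prop.2
  have hfin₁ : IsFinite Z₁.hom := Z₁.prop.1
  have het₁ : Etale Z₁.hom := Z₁.prop.2
  haveI : IsSeparated A₂.hom := (inferInstance : IsSeparated Z₂.hom)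
  haveI : IsOpenImmersion (pullback.diagonal A₂.hom) :=
    (inferInstance : IsOpenImmersion (pullback.diagonal Z₂.hom))
  have hcl : IsClosedImmersion (equalizer.ι ab bb).left := inferInstance
  have hop : IsOpenImmersion (equalizer.ι ab bb).left :=
    Groth.Agent.S0237.isOpenImmersion_equalizer_ι_left ab bb
  let Pb : Over X := Over.mk (pullback.fst Z₁.hom i ≫ Z₁.hom)
  let pb : Pb ⟶ A₁ := Over.homMk (pullback.fst Z₁.hom i) rfl
  have hpb : pb ≫ ab = pb ≫ bb := by
    apply Over.OverMorphism.ext
    exact h1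
  have hfac : (equalizer.lift pb hpb).left ≫ (equalizer.ι ab bb).left = pullback.fst Z₁.hom i :=
    congrArg (fun k => k.left) (equalizer.lift_ι pb hpb)
  have hsub : Z₁.hom ⁻¹' Set.range i ⊆ Set.range (equalizer.ι ab bb).left := by
    rw [← Scheme.Pullback.range_fst]
    rintro _ ⟨x, rfl⟩
    refine ⟨(equalizer.lift pb hpb).left x, ?_⟩
    rw [← Scheme.Hom.comp_apply, hfac]
  have hclosed : IsClosed (Set.range (equalizer.ι ab bb).left) :=
    (equalizer.ι ab bb).left.isClosedEmbedding.isClosed_range
  have hopen : IsOpen (Set.range (equalizer.ι ab bb).left) :=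
    (equalizer.ι ab bb).left.isOpenEmbedding.isOpen_range
  have hsurj : Surjective (equalizer.ι ab bb).left := by
    constructor
    intro z
    by_contra hz
    -- W = complement of the range, clopen
    have hWclopen : IsClopen (Set.range (equalizer.ι ab bb).left)ᶜ :=
      ⟨hopen.isClosed_compl, hclosed.isOpen_compl⟩
    have himg : IsClopen (Z₁.hom '' (Set.range (equalizer.ι ab bb).left)ᶜ) :=
      ⟨Z₁.hom.isClosedMap _ hWclopen.1, Z₁.hom.isOpenMap _ hWclopen.2⟩
    have hxmem : Z₁.hom z ∈ Z₁.hom '' (Set.range (equalizer.ι ab bb).left)ᶜ := ⟨z, hz, rfl⟩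
    obtain ⟨y, hy1, hy2⟩ := h (Z₁.hom z)
    have hy3 := himg.connectedComponent_subset hxmem hy1
    obtain ⟨w, hw1, hw2⟩ := hy3
    exact hw1 (hsub (show Z₁.hom w ∈ Set.range i by rw [hw2]; exact hy2))
  haveI : IsIso (equalizer.ι ab bb).left :=
    (isIso_iff_isOpenImmersion_and_surjective _).mpr ⟨hop, hsurj⟩
  apply MorphismProperty.Over.Hom.ext
  rw [← cancel_epi (equalizer.ι ab bb).left]
  exact congrArg (fun k => k.left) (equalizer.condition ab bb)

end Groth.Agent.S0243
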