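import Groth.Statements.S0246
import Mathlib
import Groth.Agent.H47.SmoothNormal

set_option autoImplicit false
universe u
open Pi1

namespace Groth.Agent.S0246

open AlgebraicGeometry CategoryTheory CategoryTheory.Limits

/-- normality ascends along étale morphisms at a point (no Noetherian hypothesis);
the argument is helper49's proof of S0066, direction `⇐`. -/
theorem normal_stalk_of_etale {X Y : Scheme.{u}} (f : X ⟶ Y) [Etale f] (x : X)
    (h1 : IsDomain (Y.presheaf.stalk (f.base x)))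
    (h2 : IsIntegrallyClosed (Y.presheaf.stalk (f.base x))) :
    IsDomain (X.presheaf.stalk x) ∧ IsIntegrallyClosed (X.presheaf.stalk x) := by
  haveI := h1
  haveI := h2
  obtain ⟨_, ⟨V, hV : IsAffineOpen V, rfl⟩, hfxV, -⟩ :=
    Y.isBasis_affineOpens.exists_subset_of_mem_open (Set.mem_univ (f x)) isOpen_univ
  obtain ⟨_, ⟨U, hU : IsAffineOpen U, rfl⟩, hxU, hUV⟩ :=
    X.isBasis_affineOpens.exists_subset_of_mem_open
      (show x ∈ ((f ⁻¹ᵁ V : X.Opens) : Set X) from hfxV) (f ⁻¹ᵁ V).isOpen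
  have e : U ≤ f ⁻¹ᵁ V := hUV
  have het : (f.appLE V U e).hom.Etale := HasRingHomProperty.appLE _ f ‹_› ⟨V, hV⟩ ⟨U, hU⟩ e
  letI algAB : Algebra Γ(Y, V) Γ(X, U) := (f.appLE V U e).hom.toAlgebra
  haveI : Algebra.Etale Γ(Y, V) Γ(X, U) := het
  haveI : Algebra.Smooth Γ(Y, V) Γ(X, U) := inferInstance
  have hcomap := IsAffineOpen.comap_primeIdealOf_appLE (f := f) (x := x) V hV U hU e hxU
  have hp : (hV.primeIdealOf ⟨f x, e hxU⟩).asIdeal =
      (hU.primeIdealOf ⟨x, hxU⟩).asIdeal.comap (algebraMap Γ(Y, V) Γ(X, U)) :=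
    (congrArg PrimeSpectrum.asIdeal hcomap).symm
  letI algX : Algebra Γ(X, U) (X.presheaf.stalk x) := (X.presheaf.germ U x hxU).hom.toAlgebra
  haveI locX : IsLocalization.AtPrime (X.presheaf.stalk x) (hU.primeIdealOf ⟨x, hxU⟩).asIdeal :=
    hU.isLocalization_stalk ⟨x, hxU⟩
  letI algY : Algebra Γ(Y, V) (Y.presheaf.stalk (f x)) :=
    (Y.presheaf.germ V (f x) (e hxU)).hom.toAlgebra
  haveI locY : IsLocalization.AtPrime (Y.presheaf.stalk (f x))
      (hV.primeIdealOf ⟨f x, e hxU⟩).asIdeal :=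
    hV.isLocalization_stalk ⟨f x, e hxU⟩
  let eX : Localization.AtPrime (hU.primeIdealOf ⟨x, hxU⟩).asIdeal ≃ₐ[Γ(X, U)]
      X.presheaf.stalk x :=
    IsLocalization.algEquiv (hU.primeIdealOf ⟨x, hxU⟩).asIdeal.primeCompl _ _
  let eY : Localization.AtPrime (hV.primeIdealOf ⟨f x, e hxU⟩).asIdeal ≃ₐ[Γ(Y, V)]
      Y.presheaf.stalk (f x) :=
    IsLocalization.algEquiv (hV.primeIdealOf ⟨f x, e hxU⟩).asIdeal.primeCompl _ _
  haveI : IsDomain (Localization.AtPrime (hV.primeIdealOf ⟨f x, e hxU⟩).asIdeal) :=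
    MulEquiv.isDomain (Y.presheaf.stalk (f x)) eY.toRingEquiv.toMulEquiv
  haveI : IsIntegrallyClosed (Localization.AtPrime (hV.primeIdealOf ⟨f x, e hxU⟩).asIdeal) :=
    IsIntegrallyClosed.of_equiv eY.symm.toRingEquiv
  obtain ⟨k1, k2⟩ :=
    Groth.Agent.H47.EtaleNormal.isDomain_isIntegrallyClosed_atPrime_of_smooth_of_under
      Γ(Y, V) Γ(X, U) (hU.primeIdealOf ⟨x, hxU⟩).asIdeal
      (hV.primeIdealOf ⟨f x, e hxU⟩).asIdeal hp
  haveI := k1
  haveI := k2
  exact ⟨MulEquiv.isDomain (Localization.AtPrime (hU.primeIdealOf ⟨x, hxU⟩).asIdeal)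
    eX.symm.toRingEquiv.toMulEquiv, IsIntegrallyClosed.of_equiv eX.toRingEquiv⟩

/-- a connected scheme with domain stalks, finite étale over an integral scheme, is irreducible -/
theorem irreducible_of_connected {X Y : Scheme.{u}} [IsIntegral X] (f : Y ⟶ X) [IsFinite f]
    [Etale f] [ConnectedSpace Y] (hdom : ∀ y : Y, IsDomain (Y.presheaf.stalk y)) :
    IrreducibleSpace Y := by
  classical
  have hFfin : (f ⁻¹' {genericPoint X}).Finite := f.finite_preimage_singleton (genericPoint X)
  have hFdisc : _root_.IsDiscrete (f ⁻¹' {genericPoint X}) :=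
    f.isDiscrete_preimage_singleton (genericPoint X)
  -- points of the generic fibre are maximal
  have hmax : ∀ z ∈ f ⁻¹' {genericPoint X}, ∀ w : Y, w ⤳ z → w = z := by
    intro z hz w hwz
    have h1 : f w ⤳ f z := hwz.map f.continuous
    have hz' : f z = genericPoint X := hz
    rw [hz'] at h1
    have h2 : genericPoint X ⤳ f w := genericPoint_specializes (f w)
    have hw : w ∈ f ⁻¹' {genericPoint X} := (h1.antisymm h2).eq
    haveI : DiscreteTopology (f ⁻¹' {genericPoint X}) := hFdisc.to_subtype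
    have h3 : (⟨w, hw⟩ : f ⁻¹' {genericPoint X}) ⤳ ⟨z, hz⟩ :=
      (subtype_specializes_iff _ _).mpr hwz
    exact congrArg Subtype.val h3.eq
  -- every point is in the closure of a point of the generic fibre
  have hcover : ∀ y : Y, ∃ z ∈ f ⁻¹' {genericPoint X}, y ∈ closure ({z} : Set Y) := by
    intro y
    have hy : y ∈ closure (f ⁻¹' {genericPoint X}) := by
      rw [mem_closure_iff]
      intro V hV hyV
      have hopen : IsOpen (f '' V) := f.isOpenMap V hV
      have hne : (f '' V).Nonempty := ⟨f y, y, hyV, rfl⟩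
      have hη : genericPoint X ∈ f '' V := by
        rw [(genericPoint_spec X).mem_open_set_iff hopen]
        simpa using hne
      obtain ⟨v, hvV, hv⟩ := hη
      exact ⟨v, hvV, hv⟩
    have hrw : f ⁻¹' {genericPoint X} = ⋃ z ∈ f ⁻¹' {genericPoint X}, ({z} : Set Y) :=
      (Set.biUnion_of_singleton _).symm
    rw [hrw, hFfin.closure_biUnion] at hy
    simpa using hy
  -- two points of the generic fibre specializing to a common point are equal
  have huniq : ∀ y : Y, ∀ z ∈ f ⁻¹' {genericPoint X}, ∀ z' ∈ f ⁻¹' {genericPoint X},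
      y ∈ closure ({z} : Set Y) → y ∈ closure ({z'} : Set Y) → z = z' := by
    intro y z hz z' hz' hyz hyz'
    haveI := hdom y
    have key : ∀ t ∈ f ⁻¹' {genericPoint X}, y ∈ closure ({t} : Set Y) →
        t = Y.fromSpecStalk y ⟨⊥, Ideal.isPrime_bot⟩ := by
      intro t ht hyt
      have hsp : t ⤳ y := specializes_iff_mem_closure.mpr hyt
      have hmem : t ∈ Set.range (Y.fromSpecStalk y) := by
        rw [Scheme.range_fromSpecStalk]; exact hsp
      obtain ⟨𝔭, h𝔭⟩ := hmem
      have h0 : (⟨⊥, Ideal.isPrime_bot⟩ : PrimeSpectrum (Y.presheaf.stalk y)) ⤳ 𝔭 :=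
        (PrimeSpectrum.le_iff_specializes _ _).mp bot_le
      have h1 := h0.map (Y.fromSpecStalk y).continuous
      rw [h𝔭] at h1
      exact (hmax t ht _ h1).symm
    rw [key z hz hyz, key z' hz' hyz']
  -- conclusion
  obtain ⟨y₀⟩ : Nonempty Y := inferInstance
  obtain ⟨z₀, hz₀, hy₀⟩ := hcover y₀
  have hBclosed : IsClosed (⋃ z ∈ (f ⁻¹' {genericPoint X}) \ {z₀}, closure ({z} : Set Y)) :=
    (hFfin.subset Set.sdiff_subset).isClosed_biUnion (fun _ _ => isClosed_closure)
  have hAc : (closure ({z₀} : Set Y))ᶜ =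
      ⋃ z ∈ (f ⁻¹' {genericPoint X}) \ {z₀}, closure ({z} : Set Y) := by
    ext y
    simp only [Set.mem_compl_iff, Set.mem_iUnion, Set.mem_sdiff, Set.mem_singleton_iff]
    constructor
    · intro hy
      obtain ⟨z, hz, hyz⟩ := hcover y
      refine ⟨z, ⟨hz, ?_⟩, hyz⟩
      rintro rfl
      exact hy hyz
    · rintro ⟨z, ⟨hz, hne⟩, hyz⟩ hyz₀
      exact hne (huniq y z hz z₀ hz₀ hyz hyz₀)
  have hclopen : IsClopen (closure ({z₀} : Set Y)) :=
    ⟨isClosed_closure, by rw [← isClosed_compl_iff, hAc]; exact hBclosed⟩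
  have huniv : closure ({z₀} : Set Y) = Set.univ := hclopen.eq_univ ⟨y₀, hy₀⟩
  rw [irreducibleSpace_def]
  have h2 : IsIrreducible (closure ({z₀} : Set Y)) := isIrreducible_singleton.closure
  rw [huniv] at h2
  exact h2


open AlgebraicGeometry CategoryTheory CategoryTheory.Limits in
/-- If Y is finite etale over a normal integral scheme X and Y is connected, then Y is an integral
scheme all of whose local rings are integrally closed domains. -/
theorem result {X : Scheme.{u}} [IsIntegral X] (hX : Pi1.IsNormalScheme X) (Y : FEt.Cat X)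
    [ConnectedSpace Y.left] : IsIntegral Y.left ∧ Pi1.IsNormalScheme Y.left := by
  let f : Y.left ⟶ X := Y.hom
  haveI hfin : IsFinite f := Y.prop.1
  haveI het : Etale f := Y.prop.2
  have hnormal : Pi1.IsNormalScheme Y.left := fun y =>
    normal_stalk_of_etale (X := Y.left) (Y := X) f y (hX _).1 (hX _).2
  refine ⟨?_, hnormal⟩
  haveI : ∀ y : Y.left, _root_.IsReduced (Y.left.presheaf.stalk y) := fun y => by
    haveI := (hnormal y).1
    infer_instance
  haveI : IsReduced Y.left := isReduced_of_isReduced_stalk Y.left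
  haveI : IrreducibleSpace Y.left := irreducible_of_connected (X := X) (Y := Y.left) f (fun y => (hnormal y).1)
  exact isIntegral_of_irreducibleSpace_of_isReduced Y.left

end Groth.Agent.S0246
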