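import Groth.Statements.S0249
import Mathlib.RingTheory.Ideal.KrullsHeightTheorem

set_option autoImplicit false
universe u
open Pi1

namespace Groth.Agent.S0249

lemma map_lt_map {A : Type*} [CommRing A] (I : Ideal A) {J K : Ideal A} (hJ : I ≤ J)
    (hJK : J < K) : J.map (Ideal.Quotient.mk I) < K.map (Ideal.Quotient.mk I) := by
  refine lt_of_le_of_ne (Ideal.map_mono hJK.le) fun e => hJK.ne ?_
  have := congrArg (Ideal.comap (Ideal.Quotient.mk I)) e
  simpa only [Ideal.comap_map_of_surjective _ Ideal.Quotient.mk_surjective,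
    ← RingHom.ker_eq_comap_bot, Ideal.mk_ker, sup_eq_left.mpr hJ,
    sup_eq_left.mpr (hJ.trans hJK.le)] using this

lemma map_isPrime {A : Type*} [CommRing A] (I : Ideal A) {J : Ideal A} [J.IsPrime] (hJ : I ≤ J) :
    (J.map (Ideal.Quotient.mk I)).IsPrime :=
  Ideal.map_isPrime_of_surjective Ideal.Quotient.mk_surjective (by rwa [Ideal.mk_ker])


open AlgebraicGeometry CategoryTheory CategoryTheory.Limits in
/-- Let A be a Noetherian local ring of dimension at least 1 and f an element of its maximal ideal. Then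
some prime ideal of height exactly 1 contains f. -/
theorem result (A : Type u) [CommRing A] [IsNoetherianRing A] [IsLocalRing A]
    (h : (1 : WithBot ℕ∞) ≤ ringKrullDim A) (f : A) (hf : f ∈ IsLocalRing.maximalIdeal A) :
    ∃ p : Ideal A, p.IsPrime ∧ f ∈ p ∧ p.height = 1 := by
  classical
  let S : Set (Ideal A) := {q | q.IsPrime ∧ f ∈ q ∧ 1 ≤ q.height}
  have hm1 : 1 ≤ (IsLocalRing.maximalIdeal A).height := by
    have h' := h
    rw [← IsLocalRing.maximalIdeal_height_eq_ringKrullDim] at h'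
    exact_mod_cast h'
  have hm : IsLocalRing.maximalIdeal A ∈ S := ⟨inferInstance, hf, hm1⟩
  obtain ⟨q, hqS, hmin⟩ := WellFounded.has_min
    (InvImage.wf (fun q : Ideal A => q.height) wellFounded_lt) S ⟨_, hm⟩
  obtain ⟨hqp, hfq, hq1⟩ := hqS
  refine ⟨q, hqp, hfq, le_antisymm ?_ hq1⟩
  by_contra hlt
  rw [show (1 : ℕ∞) = ((1 : ℕ) : ℕ∞) from rfl, Ideal.height_le_iff] at hlt
  push Not at hlt
  obtain ⟨p1, hp1, hp1q, hp1h⟩ := hlt
  have hp1h' : (1 : ℕ∞) ≤ p1.height := by exact_mod_cast hp1h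
  have h0 : ¬ p1.height ≤ ((0 : ℕ) : ℕ∞) := fun h0 =>
    absurd (hp1h'.trans h0) (by norm_num)
  rw [Ideal.height_le_iff] at h0
  push Not at h0
  obtain ⟨p0, hp0, hp0p1, -⟩ := h0
  have hp0q : p0 < q := hp0p1.trans hp1q
  have hIq : p0 ⊔ Ideal.span {f} ≤ q :=
    sup_le hp0q.le ((Ideal.span_singleton_le_iff_mem _).mpr hfq)
  obtain ⟨Q, hQ, hQq⟩ := Ideal.exists_minimalPrimes_le hIq
  have hQp : Q.IsPrime := hQ.1.1
  have hfQ : f ∈ Q := hQ.1.2 (Ideal.mem_sup_right (Ideal.mem_span_singleton_self f))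
  have hp0Q : p0 ≤ Q := le_sup_left.trans hQ.1.2
  have hQ1 : (Q.map (Ideal.Quotient.mk p0)).height ≤ 1 :=
    Ideal.map_height_le_one_of_mem_minimalPrimes hQ
  rcases eq_or_lt_of_le hQq with hQq' | hQq'
  · -- Q = q : contradiction with the chain p0 < p1 < q
    subst hQq'
    have i0 : (p0.map (Ideal.Quotient.mk p0)).IsPrime := map_isPrime p0 le_rfl
    have i1 : (p1.map (Ideal.Quotient.mk p0)).IsPrime := map_isPrime p0 hp0p1.le
    have i2 : (Q.map (Ideal.Quotient.mk p0)).IsPrime := map_isPrime p0 hp0Q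
    have e1 := Ideal.height_add_one_le_of_lt_of_isPrime (map_lt_map p0 le_rfl hp0p1)
    have e2 := Ideal.height_add_one_le_of_lt_of_isPrime (map_lt_map p0 hp0p1.le hp1q)
    have e3 : (1 : ℕ∞) + 1 ≤ 1 := by
      calc (1 : ℕ∞) + 1 ≤ (p1.map (Ideal.Quotient.mk p0)).height + 1 := by
            gcongr
            exact le_trans (by simp) e1
        _ ≤ (Q.map (Ideal.Quotient.mk p0)).height := e2
        _ ≤ 1 := hQ1
    exact absurd e3 (by norm_num)
  · have hlt' : Q.height < q.height := Ideal.height_strict_mono_of_isPrime_of_isPrime hQq'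
    rcases eq_or_lt_of_le hp0Q with e | e
    · -- Q = p0
      have hfp1 : f ∈ p1 := hp0p1.le (e ▸ hfQ)
      exact hmin p1 ⟨hp1, hfp1, hp1h'⟩ (Ideal.height_strict_mono_of_isPrime_of_isPrime hp1q)
    · have hQh : 1 ≤ Q.height :=
        le_trans (by simp) (Ideal.height_add_one_le_of_lt_of_isPrime e)
      exact hmin Q ⟨hQp, hfQ, hQh⟩ hlt'

end Groth.Agent.S0249
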