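import Groth.Statements.S0252
import Mathlib
import Groth.Agent.H68.SpecPi0

set_option autoImplicit false
universe u
open Pi1

namespace Groth.Agent.S0252

open AlgebraicGeometry CategoryTheory CategoryTheory.Limits

/-- a clopen subset as a finite étale cover -/
noncomputable def clopenObj {Y : Scheme.{u}} (U : Y.Opens) (hU : IsClosed (U : Set Y)) :
    FEt.Cat Y :=
  haveI : IsClosedImmersion U.ι :=
    IsClosedImmersion.of_isPreimmersion _ (by rw [Scheme.Opens.range_ι]; exact hU)
  MorphismProperty.Over.mk ⊤ U.ι ⟨inferInstance, inferInstance⟩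

theorem hom_eq_of_mono {X : Scheme.{u}} {A B : FEt.Cat X} [Mono B.hom] (a b : A ⟶ B) : a = b := by
  apply MorphismProperty.Over.Hom.ext
  rw [← cancel_mono B.hom, MorphismProperty.Over.w a, MorphismProperty.Over.w b]

theorem range_eq_of_iso {X : Scheme.{u}} {A B : FEt.Cat X} (e : A ≅ B) :
    Set.range A.hom = Set.range B.hom := by
  apply Set.Subset.antisymm
  · rintro _ ⟨z, rfl⟩
    exact ⟨e.hom.left z, by rw [← Scheme.Hom.comp_apply, MorphismProperty.Over.w]⟩
  · rintro _ ⟨z, rfl⟩
    exact ⟨e.inv.left z, by rw [← Scheme.Hom.comp_apply, MorphismProperty.Over.w]⟩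

theorem mono_hom_of_restrict {X Y : Scheme.{u}} (f : X ⟶ Y) [(FEt.restrict f).Faithful]
    (W : FEt.Cat Y) (V : FEt.Cat X) [Mono V.hom] (e : (FEt.restrict f).obj W ≅ V) :
    Mono W.hom := by
  haveI : IsFinite W.hom := W.prop.1
  haveI : Etale W.hom := W.prop.2
  let K : FEt.Cat Y := MorphismProperty.Over.mk ⊤ (pullback.fst W.hom W.hom ≫ W.hom)
    ⟨inferInstance, inferInstance⟩
  let p₁ : K ⟶ W := MorphismProperty.Over.homMk (pullback.fst W.hom W.hom) rfl trivial
  let p₂ : K ⟶ W := MorphismProperty.Over.homMk (pullback.snd W.hom W.hom)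
    pullback.condition.symm trivial
  have h12 : p₁ = p₂ := by
    apply (FEt.restrict f).map_injective
    have : (FEt.restrict f).map p₁ ≫ e.hom = (FEt.restrict f).map p₂ ≫ e.hom :=
      hom_eq_of_mono _ _
    exact (cancel_mono e.hom).1 this
  have h12' : pullback.fst W.hom W.hom = pullback.snd W.hom W.hom :=
    congrArg (fun t => t.left) h12
  refine ⟨fun {T} a b hab => ?_⟩
  calc a = pullback.lift a b hab ≫ pullback.fst _ _ := (pullback.lift_fst _ _ _).symm
    _ = pullback.lift a b hab ≫ pullback.snd _ _ := by rw [h12']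
    _ = b := pullback.lift_snd _ _ _

theorem surj_clopen {X Y : Scheme.{u}} (f : X ⟶ Y) [(FEt.restrict f).Faithful]
    [(FEt.restrict f).EssSurj] (V : Set X) (hV : IsClopen V) :
    ∃ U : Set Y, IsClopen U ∧ f ⁻¹' U = V := by
  let Vo : X.Opens := ⟨V, hV.2⟩
  let 𝒱 : FEt.Cat X := clopenObj Vo hV.1
  let W : FEt.Cat Y := (FEt.restrict f).objPreimage 𝒱
  let e : (FEt.restrict f).obj W ≅ 𝒱 := (FEt.restrict f).objObjPreimageIso 𝒱
  haveI : Mono 𝒱.hom := (inferInstance : Mono Vo.ι)
  haveI : Mono W.hom := mono_hom_of_restrict f W 𝒱 e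
  haveI : IsFinite W.hom := W.prop.1
  haveI : Etale W.hom := W.prop.2
  haveI : IsOpenImmersion W.hom := IsOpenImmersion.of_flat_of_mono W.hom
  refine ⟨Set.range W.hom, ⟨W.hom.isClosedMap.isClosed_range,
    W.hom.isOpenEmbedding.isOpen_range⟩, ?_⟩
  exact (Scheme.Pullback.range_snd W.hom f).symm.trans
    ((range_eq_of_iso e).trans (Scheme.Opens.range_ι Vo))

theorem inj_clopen {X Y : Scheme.{u}} (f : X ⟶ Y) [(FEt.restrict f).Full]
    (U : Set Y) (hU : IsClopen U) (hfU : f ⁻¹' U = ∅) : U = ∅ := by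
  let Uo : Y.Opens := ⟨U, hU.2⟩
  let 𝒰 : FEt.Cat Y := clopenObj Uo hU.1
  let 𝒪 : FEt.Cat Y := clopenObj (⊥ : Y.Opens) isClosed_empty
  haveI hemp : IsEmpty ↥(pullback Uo.ι f) :=
    Set.range_eq_empty_iff.1 ((Scheme.Pullback.range_snd Uo.ι f).trans
      ((congrArg (fun s => f ⁻¹' s) (Scheme.Opens.range_ι Uo)).trans hfU))
  let a : pullback Uo.ι f ⟶ pullback (⊥ : Y.Opens).ι f :=
    (isInitialOfIsEmpty (X := pullback Uo.ι f)).to _
  let a' : (FEt.restrict f).obj 𝒰 ⟶ (FEt.restrict f).obj 𝒪 :=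
    MorphismProperty.Over.homMk a ((isInitialOfIsEmpty (X := pullback Uo.ι f)).hom_ext _ _) trivial
  obtain ⟨b, -⟩ := (FEt.restrict f).map_surjective a'
  have key : ∀ t : ↥(⊥ : Y.Opens), False := fun t => t.2
  rw [Set.eq_empty_iff_forall_notMem]
  intro y hy
  exact key (b.left ⟨y, hy⟩)


open AlgebraicGeometry CategoryTheory CategoryTheory.Limits in
/-- Let f be a morphism between quasi-compact quasi-separated schemes such that base change of finite
etale covers along f is an equivalence. Then the induced map on connected components is a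
homeomorphism. -/
theorem result {X Y : Scheme.{u}} [CompactSpace X] [QuasiSeparatedSpace X] [CompactSpace Y] [QuasiSeparatedSpace Y]
    (f : X ⟶ Y) (h : (FEt.restrict f).IsEquivalence) :
    IsHomeomorph f.continuous.connectedComponentsMap := by
  haveI := h
  exact Groth.Agent.H68.SpecPi0.isHomeomorph_connectedComponentsMap f.continuous
    (fun V hV => surj_clopen f V hV) (fun U hU h0 => inj_clopen f U hU h0)

end Groth.Agent.S0252
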