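import Groth.Statements.S0253
import Mathlib.FieldTheory.IsSepClosed
import Mathlib.RingTheory.Polynomial.GaussLemma
import Mathlib.RingTheory.LocalRing.ResidueField.Ideal
import Mathlib.RingTheory.IntegralClosure.IntegrallyClosed
import Mathlib.Algebra.Polynomial.Eval.Irreducible
import Mathlib.Algebra.Polynomial.Lifts

set_option autoImplicit false
universe u
open Pi1

namespace Groth.Agent.S0253

open Polynomial in
lemma local_case (B : Type*) [CommRing B] [IsDomain B] [IsLocalRing B] [IsIntegrallyClosed B]
    (K : Type*) [Field K] [Algebra B K] [IsFractionRing B K] [IsSepClosed K]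
    (hm : IsLocalRing.maximalIdeal B ≠ ⊥) : IsAlgClosed (IsLocalRing.ResidueField B) := by
  classical
  apply IsAlgClosed.of_exists_root
  intro P hPm hPi
  by_cases hd : P.natDegree = 1
  · have h1 : P.coeff 1 = 1 := by
      have := hPm.coeff_natDegree
      rwa [hd] at this
    have hP := Polynomial.eq_X_add_C_of_natDegree_le_one (p := P) hd.le
    rw [h1] at hP
    refine ⟨-P.coeff 0, ?_⟩
    rw [hP]
    simp
  exfalso
  have hd0 : 0 < P.natDegree := hPi.natDegree_pos
  have hd2 : 2 ≤ P.natDegree := by omega
  obtain ⟨Q, hQmap, hQdeg, hQm⟩ := lifts_and_natDegree_eq_and_monic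
    (p := P) (f := IsLocalRing.residue B) (by
      rw [Polynomial.lifts_iff_coeff_lifts]
      intro n; exact IsLocalRing.residue_surjective _) hPm
  obtain ⟨a, ha, ha0⟩ := Submodule.exists_mem_ne_zero_of_ne_bot hm
  let Q₁ : B[X] := if Q.coeff 1 = 0 then Q + C a * X else Q
  have hQ₁m : Q₁.Monic := by
    dsimp only [Q₁]; split_ifs with h
    · refine hQm.add_of_left ?_
      calc degree (C a * X) ≤ 1 := degree_C_mul_X_le a
        _ < degree Q := by
          rw [degree_eq_natDegree hQm.ne_zero, hQdeg]
          exact_mod_cast hd2
    · exact hQm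
  have hQ₁map : Q₁.map (IsLocalRing.residue B) = P := by
    dsimp only [Q₁]; split_ifs with h
    · rw [Polynomial.map_add, hQmap, Polynomial.map_mul, map_C,
        (IsLocalRing.residue_eq_zero_iff a).mpr ha, C_0, zero_mul, add_zero]
    · exact hQmap
  have hQ₁c : Q₁.coeff 1 ≠ 0 := by
    dsimp only [Q₁]; split_ifs with h
    · rw [coeff_add, h, zero_add, coeff_C_mul, coeff_X_one, mul_one]; exact ha0
    · exact h
  have hirr : Irreducible Q₁ :=
    hQ₁m.irreducible_of_irreducible_map (IsLocalRing.residue B) Q₁ (hQ₁map ▸ hPi)
  have hirrK : Irreducible (Q₁.map (algebraMap B K)) :=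
    (hQ₁m.irreducible_iff_irreducible_map_fraction_map).mp hirr
  have hder : derivative (Q₁.map (algebraMap B K)) ≠ 0 := by
    intro h0
    have h1 := congrArg (fun q => coeff q 0) h0
    simp only [coeff_derivative, coeff_map, coeff_zero, Nat.cast_zero, zero_add, mul_one] at h1
    exact hQ₁c ((map_eq_zero_iff _ (IsFractionRing.injective B K)).mp h1)
  have hsep : (Q₁.map (algebraMap B K)).Separable :=
    (separable_iff_derivative_ne_zero hirrK).mpr hder
  have hdeg := IsSepClosed.degree_eq_one_of_irreducible K hirrK hsep
  have hnat : (Q₁.map (algebraMap B K)).natDegree = P.natDegree := by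
    rw [hQ₁m.natDegree_map, ← hQ₁map, hQ₁m.natDegree_map]
  rw [degree_eq_natDegree hirrK.ne_zero, hnat] at hdeg
  exact hd (by exact_mod_cast hdeg)


open AlgebraicGeometry CategoryTheory CategoryTheory.Limits in
/-- Let A be an integrally closed domain whose fraction field is separably closed. Then the residue
field at any nonzero prime ideal of A is algebraically closed. -/
theorem result (A : Type u) [CommRing A] [IsDomain A] [IsIntegrallyClosed A] [IsSepClosed (FractionRing A)]
    (p : Ideal A) [p.IsPrime] (hp : p ≠ ⊥) : IsAlgClosed p.ResidueField := by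
  have hM : p.primeCompl ≤ nonZeroDivisors A := Ideal.primeCompl_le_nonZeroDivisors p
  let g : Localization.AtPrime p →+* FractionRing A :=
    IsLocalization.map _ (T := nonZeroDivisors A) (RingHom.id A) hM
  letI : Algebra (Localization.AtPrime p) (FractionRing A) := g.toAlgebra
  haveI : IsScalarTower A (Localization.AtPrime p) (FractionRing A) :=
    IsScalarTower.of_algebraMap_eq'
      (by rw [RingHom.algebraMap_toAlgebra, IsLocalization.map_comp, RingHomCompTriple.comp_eq])
  haveI : IsFractionRing (Localization.AtPrime p) (FractionRing A) :=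
    IsFractionRing.isFractionRing_of_isDomain_of_isLocalization p.primeCompl
      (Localization.AtPrime p) (FractionRing A)
  haveI : IsIntegrallyClosed (Localization.AtPrime p) :=
    isIntegrallyClosed_of_isLocalization (Localization.AtPrime p) p.primeCompl hM
  refine local_case (Localization.AtPrime p) (FractionRing A) ?_
  intro h
  obtain ⟨a, ha, ha0⟩ := Submodule.exists_mem_ne_zero_of_ne_bot hp
  have h1 : algebraMap A (Localization.AtPrime p) a ∈
      IsLocalRing.maximalIdeal (Localization.AtPrime p) :=
    (IsLocalization.AtPrime.to_map_mem_maximal_iff (Localization.AtPrime p) p a).mpr ha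
  rw [h, Ideal.mem_bot] at h1
  exact ha0 ((IsLocalization.injective (Localization.AtPrime p) hM) (h1.trans (map_zero _).symm))

end Groth.Agent.S0253
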