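import Groth.Statements.S0254
import Groth.Agent.S0253
import Mathlib.RingTheory.Henselian

set_option autoImplicit false
universe u
open Pi1

namespace Groth.Agent.S0254

open Polynomial

lemma isSepClosed_of_ringEquiv {k k' : Type*} [Field k] [Field k'] (e : k ≃+* k')
    [IsSepClosed k] : IsSepClosed k' := by
  refine ⟨fun p hp => ?_⟩
  have h1 : (p.map (e.symm : k' →+* k)).Splits := IsSepClosed.splits_of_separable _ hp.map
  have h2 := h1.map (e : k →+* k')
  rwa [Polynomial.map_map,
    show (e : k →+* k').comp (e.symm : k' →+* k) = RingHom.id k' from by ext; simp,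
    Polynomial.map_id] at h2

lemma hensel_aux (A : Type*) [CommRing A] [IsDomain A] [IsLocalRing A] [IsIntegrallyClosed A]
    (K : Type*) [Field K] [Algebra A K] [IsFractionRing A K] [IsSepClosed K] :
    ∀ n : ℕ, ∀ f : A[X], f.Monic → f.natDegree = n → ∀ a₀ : A,
      f.eval a₀ ∈ IsLocalRing.maximalIdeal A → IsUnit (f.derivative.eval a₀) →
      ∃ a : A, f.IsRoot a ∧ a - a₀ ∈ IsLocalRing.maximalIdeal A := by
  intro n
  induction n using Nat.strong_induction_on with
  | _ n ih =>
  intro f hf hn a₀ h0 hu
  by_cases hirr : Irreducible f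
  · have hirrK : Irreducible (f.map (algebraMap A K)) :=
      (hf.irreducible_iff_irreducible_map_fraction_map).mp hirr
    have hder : derivative (f.map (algebraMap A K)) ≠ 0 := by
      intro hd
      rw [derivative_map] at hd
      have : derivative f = 0 := Polynomial.map_injective _ (IsFractionRing.injective A K)
        (hd.trans (Polynomial.map_zero _).symm)
      rw [this, eval_zero] at hu
      exact not_isUnit_zero hu
    have hsep := (separable_iff_derivative_ne_zero hirrK).mpr hder
    have hdeg := IsSepClosed.degree_eq_one_of_irreducible K hirrK hsep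
    have hnat : f.natDegree = 1 := by
      have h1 : (f.map (algebraMap A K)).natDegree = 1 := natDegree_eq_of_degree_eq_some hdeg
      rwa [hf.natDegree_map] at h1
    have h1 : f.coeff 1 = 1 := by
      have := hf.coeff_natDegree
      rwa [hnat] at this
    have hP := Polynomial.eq_X_add_C_of_natDegree_le_one (p := f) hnat.le
    rw [h1] at hP
    have hev : ∀ x : A, f.eval x = x + f.coeff 0 := by
      intro x
      conv_lhs => rw [hP]
      simp
    refine ⟨-f.coeff 0, ?_, ?_⟩
    · rw [IsRoot.def, hev]; ring
    · have : -f.coeff 0 - a₀ = -(f.eval a₀) := by rw [hev]; ring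
      rw [this]; exact neg_mem h0
  · have hf1 : f ≠ 1 := by
      rintro rfl
      rw [eval_one] at h0
      exact (Ideal.ne_top_iff_one _).mp (IsLocalRing.maximalIdeal.isMaximal A).ne_top h0
    rw [hf.irreducible_iff_natDegree] at hirr
    push Not at hirr
    obtain ⟨g, h, hg, hh, hgh, hg0, hh0⟩ := hirr hf1
    have hdeg : g.natDegree + h.natDegree = n := by rw [← hg.natDegree_mul hh, hgh, hn]
    subst hgh
    have key : ∀ (g h : A[X]), g.Monic → g.natDegree < n →
        g.eval a₀ ∈ IsLocalRing.maximalIdeal A → IsUnit ((g * h).derivative.eval a₀) →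
        ∃ a : A, (g * h).IsRoot a ∧ a - a₀ ∈ IsLocalRing.maximalIdeal A := by
      intro g h hg hgn hg0' hu'
      rw [derivative_mul, eval_add, eval_mul, eval_mul] at hu'
      have hnu : ¬ IsUnit (g.eval a₀ * (derivative h).eval a₀) := fun hU =>
        (IsLocalRing.mem_maximalIdeal _).mp hg0' (isUnit_of_mul_isUnit_left hU)
      have hgu : IsUnit ((derivative g).eval a₀) := isUnit_of_mul_isUnit_left
        ((IsLocalRing.isUnit_or_isUnit_of_isUnit_add hu').resolve_right hnu)
      obtain ⟨a, ha, haa⟩ := ih g.natDegree hgn g hg rfl a₀ hg0' hgu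
      exact ⟨a, by rw [IsRoot.def, eval_mul, IsRoot.def.mp ha, zero_mul], haa⟩
    rw [eval_mul] at h0
    rcases (IsLocalRing.maximalIdeal.isMaximal A).isPrime.mem_or_mem h0 with hg0' | hh0'
    · exact key g h hg (by omega) hg0' hu
    · have := key h g hh (by omega) hh0' (by rwa [mul_comm])
      rwa [mul_comm] at this


open AlgebraicGeometry CategoryTheory CategoryTheory.Limits in
/-- An integrally closed local domain whose fraction field is separably closed is henselian with
separably closed residue field (i.e. strictly henselian). -/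
theorem result (A : Type u) [CommRing A] [IsDomain A] [IsLocalRing A] [IsIntegrallyClosed A]
    [IsSepClosed (FractionRing A)] :
    HenselianLocalRing A ∧ IsSepClosed (IsLocalRing.ResidueField A) := by
  have hH : HenselianLocalRing A :=
    { is_henselian := fun f hf a₀ h0 hu =>
        hensel_aux A (FractionRing A) f.natDegree f hf rfl a₀ h0 hu }
  refine ⟨hH, ?_⟩
  by_cases hm : IsLocalRing.maximalIdeal A = ⊥
  · have hF : IsField A := IsLocalRing.isField_iff_maximalIdeal_eq.mpr hm
    let e₁ : A ≃+* FractionRing A := RingEquiv.ofBijective (algebraMap A (FractionRing A))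
      (IsField.localization_map_bijective (M := nonZeroDivisors A) (by simp) hF)
    let e₂ : A ≃+* IsLocalRing.ResidueField A := RingEquiv.ofBijective (IsLocalRing.residue A)
      ⟨(RingHom.injective_iff_ker_eq_bot _).mpr (by rw [IsLocalRing.ker_residue, hm]),
        IsLocalRing.residue_surjective⟩
    exact isSepClosed_of_ringEquiv (e₁.symm.trans e₂)
  · haveI := Groth.Agent.S0253.local_case A (FractionRing A) hm
    infer_instance

end Groth.Agent.S0254
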