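import Groth.Statements.S7283
import Mathlib
import Groth.Agent.H68.ConnInf

set_option autoImplicit false
universe u
open Pi1

namespace Groth.Agent.S7283

open AlgebraicGeometry CategoryTheory CategoryTheory.Limits
open Groth.Agent.H68.ConnInf Groth.Agent.H47.HensK

theorem exists_specializes_of_locally_finite {Y : Type*} [TopologicalSpace Y] (P : Set Y)
    (hP : IsOpen P) (w : Y) (hw : w ∈ closure P) (N : Set Y) (hN : IsOpen N) (hwN : w ∈ N)
    (F : Set Y) (hF : F.Finite) (hFN : ∀ z ∈ N, ∃ η ∈ F, η ⤳ z) : ∃ s ∈ P, s ⤳ w := by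
  have hcl : IsClosed (⋃ η ∈ F ∩ P, closure ({η} : Set Y)) :=
    (hF.inter_of_left P).isClosed_biUnion (fun _ _ => isClosed_closure)
  have hsub : P ∩ N ⊆ ⋃ η ∈ F ∩ P, closure ({η} : Set Y) := by
    rintro z ⟨hzP, hzN⟩
    obtain ⟨η, hηF, hηz⟩ := hFN z hzN
    exact Set.mem_biUnion ⟨hηF, hηz.mem_open hP hzP⟩ (specializes_iff_mem_closure.mp hηz)
  have hw' : w ∈ closure (P ∩ N) := by
    rw [mem_closure_iff]
    intro O hO hwO
    obtain ⟨z, ⟨hzO, hzN⟩, hzP⟩ := mem_closure_iff.mp hw (O ∩ N) (hO.inter hN) ⟨hwO, hwN⟩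
    exact ⟨z, hzO, hzP, hzN⟩
  have := closure_minimal hsub hcl hw'
  obtain ⟨η, ⟨hηF, hηP⟩, hη⟩ := Set.mem_iUnion₂.mp this
  exact ⟨η, hηP, specializes_iff_mem_closure.mpr hη⟩

theorem exists_maximal_gen {Y : Type*} [TopologicalSpace Y] [QuasiSober Y] [T0Space Y] (B : Set Y)
    (hB : IsClosed B) (w₀ : Y) (hw₀ : w₀ ∈ B) : ∃ w ∈ B, ∀ y ∈ B, y ⤳ w → y = w := by
  haveI : QuasiSober B := hB.isClosedEmbedding_subtypeVal.quasiSober
  have hZirr : IsIrreducible (irreducibleComponent (⟨w₀, hw₀⟩ : B)) :=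
    isIrreducible_irreducibleComponent
  have hZcl : IsClosed (irreducibleComponent (⟨w₀, hw₀⟩ : B)) := isClosed_irreducibleComponent
  have hg : IsGenericPoint hZirr.genericPoint (irreducibleComponent (⟨w₀, hw₀⟩ : B)) :=
    hZirr.isGenericPoint_genericPoint hZcl
  refine ⟨hZirr.genericPoint.1, hZirr.genericPoint.2, ?_⟩
  intro y hy hyg
  have hyg' : (⟨y, hy⟩ : B) ⤳ hZirr.genericPoint := (subtype_specializes_iff _ _).mpr hyg
  have h1 : irreducibleComponent (⟨w₀, hw₀⟩ : B) ⊆ closure {(⟨y, hy⟩ : B)} := by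
    rw [← hg.def]
    exact closure_minimal (Set.singleton_subset_iff.2 (specializes_iff_mem_closure.mp hyg'))
      isClosed_closure
  have h2 : IsIrreducible (closure {(⟨y, hy⟩ : B)}) := isIrreducible_singleton.closure
  have h3 : closure {(⟨y, hy⟩ : B)} = irreducibleComponent (⟨w₀, hw₀⟩ : B) :=
    eq_irreducibleComponent h2.2 h1
  have h4 : hZirr.genericPoint ⤳ (⟨y, hy⟩ : B) := by
    apply hg.specializes
    rw [← h3]
    exact subset_closure (Set.mem_singleton _)
  exact congrArg Subtype.val (h4.antisymm hyg').eq.symm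

theorem locally_finite_generic {X : Scheme.{u}}
    (hirr : ∀ V : X.Opens, IsCompact (V : Set X) → (irreducibleComponents ↥V).Finite) (x : X) :
    ∃ N : Set X, IsOpen N ∧ x ∈ N ∧ ∃ G : Set X, G.Finite ∧ ∀ z ∈ N, ∃ ξ ∈ G, ξ ⤳ z := by
  obtain ⟨_, ⟨V, hV : IsAffineOpen V, rfl⟩, hxV, -⟩ :=
    X.isBasis_affineOpens.exists_subset_of_mem_open (Set.mem_univ x) isOpen_univ
  have hfin := hirr V hV.isCompact
  haveI : QuasiSober ↥V := V.isOpenEmbedding'.quasiSober
  refine ⟨V, V.isOpen, hxV, Subtype.val '' genericPoints ↥V,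
    (genericPoints.finite hfin).image _, ?_⟩
  intro z hz
  obtain ⟨c, hc⟩ : ∃ c : irreducibleComponents ↥V, c.1 = irreducibleComponent (⟨z, hz⟩ : ↥V) :=
    ⟨⟨irreducibleComponent (⟨z, hz⟩ : ↥V), irreducibleComponent_mem_irreducibleComponents _⟩, rfl⟩
  have hg : IsGenericPoint (genericPoints.ofComponent c).1 c.1 :=
    genericPoints.isGenericPoint_ofComponent c
  rw [hc] at hg
  refine ⟨(genericPoints.ofComponent c).1.1,
    ⟨(genericPoints.ofComponent c).1, (genericPoints.ofComponent c).2, rfl⟩, ?_⟩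
  have h1 := hg.specializes (mem_irreducibleComponent (x := (⟨z, hz⟩ : ↥V)))
  exact h1.map continuous_subtype_val

theorem surj_core {W X V : Scheme.{u}} (π : W ⟶ X) [IsFinite π] [Etale π] (U : X.Opens)
    (pr : V ⟶ W) [IsOpenImmersion pr]
    (hrange : Set.range pr = π ⁻¹' (U : Set X))
    (hU : Dense (U : Set X))
    (hfin : ∀ x : X, ∃ N : Set X, IsOpen N ∧ x ∈ N ∧
      ∃ G : Set X, G.Finite ∧ ∀ z ∈ N, ∃ ξ ∈ G, ξ ⤳ z)
    (hsh : ∀ x : X, x ∉ U →
      ConnectedSpace ↥(FEt.puncturedSpec (Hsh (X.presheaf.stalk x)) : Scheme.{u}))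
    (T' : Set V) (hT' : IsClopen T') : ∃ T : Set W, IsClopen T ∧ pr ⁻¹' T = T' := by
  have hemb : Topology.IsOpenEmbedding pr := pr.isOpenEmbedding
  have hP'o : IsOpen (pr '' T') := hemb.isOpenMap _ hT'.2
  have hP''o : IsOpen (pr '' T'ᶜ) := hemb.isOpenMap _ hT'.1.isOpen_compl
  have hdisjP : Disjoint (pr '' T') (pr '' T'ᶜ) := by
    rw [Set.disjoint_image_iff hemb.injective]
    exact disjoint_compl_right
  have hunion : pr '' T' ∪ pr '' T'ᶜ = π ⁻¹' (U : Set X) := by
    rw [← Set.image_union, Set.union_compl_self, Set.image_univ, hrange]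
  have hdense : Dense (π ⁻¹' (U : Set X)) := hU.preimage π.isOpenMap
  have hcov : closure (pr '' T') ∪ closure (pr '' T'ᶜ) = Set.univ := by
    rw [← closure_union, hunion]
    exact hdense.closure_eq
  have hclP' : ∀ y, y ∈ closure (pr '' T') → π y ∈ U → y ∈ pr '' T' := by
    intro y hy hyU
    have : y ∈ pr '' T' ∪ pr '' T'ᶜ := by rw [hunion]; exact hyU
    rcases this with h | h
    · exact h
    · exfalso
      obtain ⟨z, hz1, hz2⟩ := mem_closure_iff.mp hy _ hP''o h
      exact Set.disjoint_left.mp hdisjP hz2 hz1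
  have hclP'' : ∀ y, y ∈ closure (pr '' T'ᶜ) → π y ∈ U → y ∈ pr '' T'ᶜ := by
    intro y hy hyU
    have : y ∈ pr '' T' ∪ pr '' T'ᶜ := by rw [hunion]; exact hyU
    rcases this with h | h
    · exfalso
      obtain ⟨z, hz1, hz2⟩ := mem_closure_iff.mp hy _ hP'o h
      exact Set.disjoint_left.mp hdisjP hz1 hz2
    · exact h
  have hfinW : ∀ w : W, ∃ N : Set W, IsOpen N ∧ w ∈ N ∧
      ∃ F : Set W, F.Finite ∧ ∀ z ∈ N, ∃ η ∈ F, η ⤳ z := by
    intro w
    obtain ⟨N, hN, hwN, G, hG, hGN⟩ := hfin (π w)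
    refine ⟨π ⁻¹' N, hN.preimage π.continuous, hwN, π ⁻¹' G,
      hG.preimage' (fun b _ => π.finite_preimage_singleton b), ?_⟩
    intro z hz
    obtain ⟨ξ, hξG, hξ⟩ := hGN (π z) hz
    have hgen : GeneralizingMap π := Flat.generalizingMap _
    obtain ⟨z', hz'z, hz'ξ⟩ := hgen (a := z) (b := ξ) hξ
    exact ⟨z', by rw [Set.mem_preimage, hz'ξ]; exact hξG, hz'z⟩
  have hdisjcl : closure (pr '' T') ∩ closure (pr '' T'ᶜ) = ∅ := by
    rw [Set.eq_empty_iff_forall_notMem]
    intro w₀ hw₀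
    obtain ⟨w, ⟨hw', hw''⟩, hwmax⟩ := exists_maximal_gen
      (closure (pr '' T') ∩ closure (pr '' T'ᶜ)) (isClosed_closure.inter isClosed_closure) w₀ hw₀
    by_cases hwU : π w ∈ U
    · exact Set.disjoint_left.mp hdisjP (hclP' w hw' hwU) (hclP'' w hw'' hwU)
    · obtain ⟨N, hN, hwN, F, hF, hFN⟩ := hfinW w
      refine false_of_two_sided π w (hsh _ hwU) (closure (pr '' T')) (closure (pr '' T'ᶜ))
        isClosed_closure isClosed_closure ?_ ?_ ?_ ?_
      · intro y hy hyw
        have : y ∈ closure (pr '' T') ∪ closure (pr '' T'ᶜ) := by rw [hcov]; trivial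
        exact this
      · intro y hy hyw h1 h2
        exact hyw (hwmax y ⟨h1, h2⟩ hy)
      · obtain ⟨s, hsP, hsw⟩ :=
          exists_specializes_of_locally_finite _ hP'o w hw' N hN hwN F hF hFN
        refine ⟨s, hsw, ?_, subset_closure hsP⟩
        rintro rfl
        apply hwU
        have : s ∈ π ⁻¹' (U : Set X) := by rw [← hunion]; exact Or.inl hsP
        exact this
      · obtain ⟨s, hsP, hsw⟩ :=
          exists_specializes_of_locally_finite _ hP''o w hw'' N hN hwN F hF hFN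
        refine ⟨s, hsw, ?_, subset_closure hsP⟩
        rintro rfl
        apply hwU
        have : s ∈ π ⁻¹' (U : Set X) := by rw [← hunion]; exact Or.inr hsP
        exact this
  have hcompl : closure (pr '' T') = (closure (pr '' T'ᶜ))ᶜ := by
    ext y
    constructor
    · intro h1 h2
      have : y ∈ closure (pr '' T') ∩ closure (pr '' T'ᶜ) := ⟨h1, h2⟩
      rw [hdisjcl] at this
      exact this
    · intro h2
      have : y ∈ closure (pr '' T') ∪ closure (pr '' T'ᶜ) := by rw [hcov]; trivial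
      exact this.resolve_right h2
  refine ⟨closure (pr '' T'), ⟨isClosed_closure, ?_⟩, ?_⟩
  · rw [hcompl]
    exact isClosed_closure.isOpen_compl
  · rw [← hemb.isEmbedding.closure_eq_preimage_closure_image, hT'.1.closure_eq]

theorem clopenBij {X : Scheme.{u}} (U : X.Opens)
    (hU : Dense (U : Set X))
    (hfin : ∀ x : X, ∃ N : Set X, IsOpen N ∧ x ∈ N ∧
      ∃ G : Set X, G.Finite ∧ ∀ z ∈ N, ∃ ξ ∈ G, ξ ⤳ z)
    (hsh : ∀ x : X, x ∉ U →
      ConnectedSpace ↥(FEt.puncturedSpec (Hsh (X.presheaf.stalk x)) : Scheme.{u})) :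
    Groth.Agent.H68.FEtFF.ClopenBij U.ι := by
  refine ⟨?_, ?_⟩
  · intro W T hT hpre
    haveI : IsFinite W.hom := W.prop.1
    haveI : Etale W.hom := W.prop.2
    have hdense : Dense (W.hom ⁻¹' (U : Set X)) := hU.preimage W.hom.isOpenMap
    have hsub : W.hom ⁻¹' (U : Set X) ⊆ T := by
      intro w hw
      have hw' : w ∈ Set.range (pullback.fst W.hom U.ι) := by
        rw [Scheme.Pullback.range_fst, Scheme.Opens.range_ι]
        exact hw
      obtain ⟨z, rfl⟩ := hw'
      have : z ∈ (pullback.fst W.hom U.ι) ⁻¹' T := by rw [hpre]; trivial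
      exact this
    have hTd : Dense T := hdense.mono hsub
    rw [← hT.1.closure_eq]
    exact hTd.closure_eq
  · intro W T' hT'
    haveI : IsFinite W.hom := W.prop.1
    haveI : Etale W.hom := W.prop.2
    refine surj_core W.hom U (pullback.fst W.hom U.ι) ?_ hU hfin hsh T' hT'
    rw [Scheme.Pullback.range_fst, Scheme.Opens.range_ι]


open AlgebraicGeometry CategoryTheory CategoryTheory.Limits in
/-- Let X be a scheme and U a dense open subscheme such that every quasi-compact open subset of X has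
finitely many irreducible components and, for every point x of the complement of U and every strict
henselization R of the local ring at x, the punctured spectrum of R is connected. Then restriction
of finite etale covers from X to U is fully faithful. -/
theorem result {X : Scheme.{u}} (U : X.Opens)
    (hU : Dense (U : Set X))
    (hirr : ∀ V : X.Opens, IsCompact (V : Set X) → (irreducibleComponents ↥V).Finite)
    (hsh : ∀ x : X, x ∉ U → ∀ (R : Type u) [CommRing R] [IsLocalRing R] [Algebra (X.presheaf.stalk x) R]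
      [IsLocalHom (algebraMap (X.presheaf.stalk x) R)] [Hensel.IsStrictHenselization (X.presheaf.stalk x) R],
      ConnectedSpace (FEt.puncturedSpec R : Scheme.{u})) :
    (FEt.restrict U.ι).Full ∧ (FEt.restrict U.ι).Faithful := by
  exact Groth.Agent.H68.FEtFF.full_faithful U.ι
    (clopenBij U hU (locally_finite_generic hirr)
      (fun x hx => hsh x hx (Hsh (X.presheaf.stalk x))))

end Groth.Agent.S7283
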