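import Groth.Statements.S0259
import Mathlib
import Groth.Agent.H68.DepthConn
import Groth.Agent.S7283

set_option autoImplicit false
universe u
open Pi1

namespace Groth.Agent.S0259

open AlgebraicGeometry CategoryTheory CategoryTheory.Limits
open Groth.Agent.H47.HensK

theorem hirr_of_noetherian (X : Scheme.{u}) [IsNoetherian X] :
    ∀ V : X.Opens, IsCompact (V : Set X) → (irreducibleComponents ↥V).Finite := by
  intro V _
  haveI : TopologicalSpace.NoetherianSpace ↥V := TopologicalSpace.NoetherianSpace.set (V : Set X)
  exact TopologicalSpace.NoetherianSpace.finite_irreducibleComponents


open AlgebraicGeometry CategoryTheory CategoryTheory.Limits in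
/-- Let X be a Noetherian scheme and U ⊆ X a dense open subscheme such that at every point x outside U
the local ring 𝒪_{X,x} has depth at least 2. Then the functor restricting finite étale covers of X
to U is full and faithful. (The published statement assumes instead that the punctured spectra of
the strict henselizations of X at the points outside U are connected; depth at least 2 is a
sufficient condition for this and is what is assumed here.) -/
theorem result {X : Scheme.{u}} [IsNoetherian X] (U : X.Opens) (hU : Dense (U : Set X))
    (h : ∀ x : X, x ∉ U → (2 : ℕ∞) ≤ LocCoh.depth (X.presheaf.stalk x) (X.presheaf.stalk x)) :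
    (FEt.restrict U.ι).Full ∧ (FEt.restrict U.ι).Faithful := by
  exact Groth.Agent.H68.FEtFF.full_faithful U.ι
    (Groth.Agent.S7283.clopenBij U hU
      (Groth.Agent.S7283.locally_finite_generic (hirr_of_noetherian X))
      (fun x hx => Groth.Agent.H68.DepthConn.connectedSpace_of_depth_of_flat
        (X.presheaf.stalk x) (Hsh (X.presheaf.stalk x)) (h x hx)))

end Groth.Agent.S0259
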