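import Groth.Statements.S0258
import Mathlib
import Groth.Agent.H68.DepthConn
import Groth.Agent.S7283
import Groth.Agent.S0259

set_option autoImplicit false
universe u
open Pi1

namespace Groth.Agent.S0258

open AlgebraicGeometry CategoryTheory CategoryTheory.Limits IsLocalRing
open Groth.Agent.H47.HensK Groth.Agent.H68.DepthConn RingTheory.Sequence

set_option backward.isDefEq.respectTransparency.types false in
theorem stalk_weaklyRegular (A : Type u) [CommRing A] [IsLocalRing A] {rs : List A}
    (h1 : IsWeaklyRegular A rs) (h2 : ∀ r ∈ rs, r ∈ maximalIdeal A) (h3 : 2 ≤ rs.length)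
    (x : Spec (CommRingCat.of A)) (hx : x = closedPoint A) :
    ∃ rs' : List ((Spec (CommRingCat.of A)).presheaf.stalk x),
      IsWeaklyRegular ((Spec (CommRingCat.of A)).presheaf.stalk x) rs' ∧
      (∀ r ∈ rs', r ∈ maximalIdeal ((Spec (CommRingCat.of A)).presheaf.stalk x)) ∧
      2 ≤ rs'.length := by
  letI : Algebra A ((Spec (CommRingCat.of A)).presheaf.stalk x) := StructureSheaf.stalkAlgebra A x
  haveI : IsLocalization.AtPrime ((Spec (CommRingCat.of A)).presheaf.stalk x) x.asIdeal :=
    StructureSheaf.IsLocalization.to_stalk A x
  haveI : Module.Flat A ((Spec (CommRingCat.of A)).presheaf.stalk x) :=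
    IsLocalization.flat _ x.asIdeal.primeCompl
  haveI : IsLocalHom (algebraMap A ((Spec (CommRingCat.of A)).presheaf.stalk x)) := by
    refine ⟨fun a ha => ?_⟩
    have hmem := (IsLocalization.AtPrime.isUnit_to_map_iff
      ((Spec (CommRingCat.of A)).presheaf.stalk x) x.asIdeal a).mp ha
    rw [hx] at hmem
    by_contra hna
    have hmem' : a ∈ (closedPoint A).asIdeal :=
      (mem_maximalIdeal a).mpr (mem_nonunits_iff.mpr hna)
    exact hmem hmem'
  exact ⟨_, map_weaklyRegular h1 h2 h3⟩


open AlgebraicGeometry CategoryTheory CategoryTheory.Limits in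
/-- For a Noetherian local ring A of depth at least 2, the functor restricting finite étale covers of
Spec A to the punctured spectrum is fully faithful (full and faithful). The published statement
assumes instead that the punctured spectrum of the strict henselization of A is connected; depth at
least 2 is a sufficient condition for this, and the result is stated here under that hypothesis. -/
theorem result (A : Type u) [CommRing A] [IsNoetherianRing A] [IsLocalRing A] (hA : (2 : ℕ∞) ≤ LocCoh.depth A A) :
    (FEt.restrict (FEt.puncturedSpec A).ι).Full ∧ (FEt.restrict (FEt.puncturedSpec A).ι).Faithful := by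
  obtain ⟨rs, h1, h2, h3⟩ := exists_weaklyRegular_of_depth A hA
  haveI hc := connectedSpace_of_weaklyRegular A h1 h2 h3
  obtain ⟨q⟩ := hc.toNonempty
  have hp₀ : (FEt.puncturedSpec A).ι q ∈
      ((FEt.puncturedSpec A : (Spec (CommRingCat.of A)).Opens) : Set (Spec (CommRingCat.of A))) := by
    have : (FEt.puncturedSpec A).ι q ∈ Set.range (FEt.puncturedSpec A).ι := ⟨q, rfl⟩
    rwa [Scheme.Opens.range_ι] at this
  have hU : Dense
      ((FEt.puncturedSpec A : (Spec (CommRingCat.of A)).Opens) : Set (Spec (CommRingCat.of A))) := by
    intro x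
    by_cases hx : x ∈
        ((FEt.puncturedSpec A : (Spec (CommRingCat.of A)).Opens) : Set (Spec (CommRingCat.of A)))
    · exact subset_closure hx
    · have hx' : x = closedPoint A := by
        by_contra hne
        exact hx hne
      rw [hx']
      exact (specializes_closedPoint ((FEt.puncturedSpec A).ι q)).mem_closed isClosed_closure
        (subset_closure hp₀)
  refine Groth.Agent.H68.FEtFF.full_faithful (FEt.puncturedSpec A).ι
    (Groth.Agent.S7283.clopenBij (FEt.puncturedSpec A) hU
      (Groth.Agent.S7283.locally_finite_generic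
        (Groth.Agent.S0259.hirr_of_noetherian (Spec (CommRingCat.of A))))
      (fun x hx => ?_))
  have hx' : x = closedPoint A := by
    by_contra hne
    exact hx hne
  obtain ⟨rs', h1', h2', h3'⟩ := stalk_weaklyRegular A h1 h2 h3 x hx'
  obtain ⟨h1'', h2'', h3''⟩ := map_weaklyRegular
    (R := Hsh ((Spec (CommRingCat.of A)).presheaf.stalk x)) h1' h2' h3'
  exact connectedSpace_of_weaklyRegular _ h1'' h2'' h3''

end Groth.Agent.S0258
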