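import Groth.Statements.S0263
import Mathlib
import Groth.Agent.H68.Hartogs

set_option autoImplicit false
universe u
open Pi1

namespace Groth.Agent.S0263

open AlgebraicGeometry CategoryTheory CategoryTheory.Limits IsLocalRing
open Groth.Agent.H68.DepthConn Groth.Agent.H68.Hartogs RingTheory.Sequence

theorem core (A : Type u) [CommRing A] [IsLocalRing A] (hA : (2 : ℕ∞) ≤ LocCoh.depth A A)
    {Z P V' : Scheme.{u}} (π : Z ⟶ Spec (CommRingCat.of A)) (hfin : IsFinite π) (het : Etale π)
    (j : P ⟶ Z) [IsOpenImmersion j] (hj : j.opensRange = π ⁻¹ᵁ (FEt.puncturedSpec A))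
    (ε : V' ⟶ P) (hεiso : IsIso ε) (g : V' ⟶ Spec (CommRingCat.of A)) (hg : g = ε ≫ j ≫ π) :
    ((Scheme.ΓSpecIso (CommRingCat.of A)).inv ≫ g.appTop).hom.Finite ∧
    ((Scheme.ΓSpecIso (CommRingCat.of A)).inv ≫ g.appTop).hom.Etale := by
  obtain ⟨rs, h1, h2, h3⟩ := exists_weaklyRegular_of_depth A hA
  obtain ⟨a, b, rest, rfl⟩ : ∃ a b rest, rs = a :: b :: rest := by
    match rs, h3 with
    | a :: b :: rest, _ => exact ⟨a, b, rest, rfl⟩
    | [_], h => simp at h
    | [], h => simp at h
  have ham : a ∈ maximalIdeal A := h2 a (by simp)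
  have hbm : b ∈ maximalIdeal A := h2 b (by simp)
  haveI := hfin
  haveI := het
  haveI := hεiso
  haveI : IsAffine Z := isAffine_of_isAffineHom π
  have hΓbij := ConcreteCategory.bijective_of_isIso (Scheme.ΓSpecIso (CommRingCat.of A)).inv
  obtain ⟨ψ, hψ⟩ : ∃ ψ : A →+* Γ(Z, ⊤),
      ψ = (π.appTop.hom).comp (Scheme.ΓSpecIso (CommRingCat.of A)).inv.hom := ⟨_, rfl⟩
  have hψfin : ψ.Finite := by
    rw [hψ]
    exact RingHom.Finite.comp (Scheme.Hom.finite_appTop π)
      (RingHom.Finite.of_surjective _ hΓbij.2)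
  have hψet : ψ.Etale := by
    rw [hψ]
    exact RingHom.Etale.stableUnderComposition _ _ (RingHom.Etale.of_bijective hΓbij)
      (HasRingHomProperty.appTop @Etale π inferInstance)
  have hflat : ψ.Flat := (RingHom.Etale.iff_flat_and_formallyUnramified.mp hψet).1
  have hreg : (∀ z, ψ a * z = 0 → z = 0) ∧ (∀ z, ψ a ∣ ψ b * z → ψ a ∣ z) := by
    letI : Algebra A Γ(Z, ⊤) := ψ.toAlgebra
    haveI : Module.Flat A Γ(Z, ⊤) := hflat
    have := h1.of_flat (S := Γ(Z, ⊤))
    rw [List.map_cons, List.map_cons] at this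
    exact regular_pair_of_weaklyRegular this
  have hD : ∀ c : A, c ∈ maximalIdeal A → Z.basicOpen (ψ c) ≤ j.opensRange := by
    intro c hc
    rw [hj, hψ]
    change Z.basicOpen (π.appTop ((Scheme.ΓSpecIso (CommRingCat.of A)).inv c)) ≤ _
    rw [← Scheme.preimage_basicOpen_top, basicOpen_eq_of_affine]
    refine (TopologicalSpace.Opens.map π.base).monotone ?_
    intro p hp hpc
    have hpc' : p = closedPoint A := hpc
    rw [hpc'] at hp
    exact hp hc
  have hjbij := bijective_appTop j (ψ a) (ψ b) hreg.1 hreg.2 (hD a ham) (hD b hbm)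
  have hεbij : Function.Bijective ε.appTop.hom := by
    have e1 : ε.appTop ≫ (inv ε).appTop = 𝟙 _ := by
      rw [← Scheme.Hom.comp_appTop, IsIso.inv_hom_id, Scheme.Hom.id_appTop]
    have e2 : (inv ε).appTop ≫ ε.appTop = 𝟙 _ := by
      rw [← Scheme.Hom.comp_appTop, IsIso.hom_inv_id, Scheme.Hom.id_appTop]
    haveI : IsIso ε.appTop := ⟨⟨(inv ε).appTop, e1, e2⟩⟩
    exact ConcreteCategory.bijective_of_isIso ε.appTop
  have hcomp : ((Scheme.ΓSpecIso (CommRingCat.of A)).inv ≫ g.appTop).hom =
      (ε.appTop.hom).comp ((j.appTop.hom).comp ψ) := by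
    rw [hψ, hg, Scheme.Hom.comp_appTop, Scheme.Hom.comp_appTop]
    rfl
  rw [hcomp]
  constructor
  · exact RingHom.Finite.comp (RingHom.Finite.of_surjective _ hεbij.2)
      (RingHom.Finite.comp (RingHom.Finite.of_surjective _ hjbij.2) hψfin)
  · exact RingHom.Etale.stableUnderComposition _ _
      (RingHom.Etale.stableUnderComposition _ _ hψet (RingHom.Etale.of_bijective hjbij))
      (RingHom.Etale.of_bijective hεbij)


open AlgebraicGeometry CategoryTheory CategoryTheory.Limits in
/-- Let A be a Noetherian local ring of depth at least 2 and V a finite étale cover of the punctured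
spectrum of A which is isomorphic to the restriction of some finite étale cover of Spec A. Then the
ring of global sections Γ(V, O_V) is finite and étale over A, via the ring map A → Γ(V, O_V) induced
by the composite V → Spec A. (Only this implication of the published statement is asserted here; its
converse is not.) -/
theorem result (A : Type u) [CommRing A] [IsNoetherianRing A] [IsLocalRing A] (hA : (2 : ℕ∞) ≤ LocCoh.depth A A)
    (V : FEt.Cat (FEt.puncturedSpec A : Scheme.{u}))
    (hV : ∃ Y : FEt.Cat (Spec (CommRingCat.of A)),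
      Nonempty ((FEt.restrict (FEt.puncturedSpec A).ι).obj Y ≅ V)) :
    ((Scheme.ΓSpecIso (CommRingCat.of A)).inv ≫ (V.hom ≫ (FEt.puncturedSpec A).ι).appTop).hom.Finite ∧
    ((Scheme.ΓSpecIso (CommRingCat.of A)).inv ≫ (V.hom ≫ (FEt.puncturedSpec A).ι).appTop).hom.Etale := by
  obtain ⟨Y, ⟨e⟩⟩ := hV
  have hiso : IsIso e.inv.left := by
    have : IsIso ((MorphismProperty.Over.forget FEt.prop ⊤ _ ⋙
      CategoryTheory.Over.forget _).map e.inv) := inferInstance
    exact this
  have hε : e.inv.left ≫ pullback.snd Y.hom (FEt.puncturedSpec A).ι = V.hom :=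
    MorphismProperty.Over.w e.inv
  have hrange : (pullback.fst Y.hom (FEt.puncturedSpec A).ι).opensRange =
      Y.hom ⁻¹ᵁ (FEt.puncturedSpec A) := by
    rw [Scheme.Hom.opensRange_pullbackFst, Scheme.Opens.opensRange_ι]
  exact core A hA (Z := Y.left) (P := pullback Y.hom (FEt.puncturedSpec A).ι) Y.hom Y.prop.1 Y.prop.2
    (pullback.fst Y.hom (FEt.puncturedSpec A).ι) hrange e.inv.left hiso
    (V.hom ≫ (FEt.puncturedSpec A).ι)
    ((congrArg (fun t => t ≫ (FEt.puncturedSpec A).ι) hε).symm.trans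
      ((Category.assoc _ _ _).trans
        (congrArg (fun t => e.inv.left ≫ t) pullback.condition.symm)))

end Groth.Agent.S0263
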