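import Groth.Statements.S0266
import Groth.Agent.H92.GalCatUnique

set_option autoImplicit false
universe u v w
open Pi1

namespace Groth.Agent.S0266

open CategoryTheory CategoryTheory.Limits in
/-- Transported along the equivalence of a Galois category with finite continuous G-sets : on a Galois
category in Mathlib's sense, every functor to finite sets that preserves finite limits and finite
colimits is isomorphic to the fibre functor. In particular two fibre functors are isomorphic. -/
theorem result {C : Type u} [Category.{v} C] [GaloisCategory C]
    (F : C ⥤ FintypeCat.{w}) [PreGaloisCategory.FiberFunctor F] (F' : C ⥤ FintypeCat.{w})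
    [PreservesFiniteLimits F'] [PreservesFiniteColimits F'] : Nonempty (F' ≅ F) := by
  have h : ∀ X : C, IsEmpty (F'.obj X) → Nonempty (IsInitial X) := by
    intro X hX
    rw [PreGaloisCategory.initial_iff_fiber_empty F X]
    by_contra hne
    rw [not_isEmpty_iff] at hne
    obtain ⟨x⟩ := hne
    have hsurj : Function.Surjective (F.map (terminal.from X)) :=
      fun t => ⟨x, Groth.Agent.H92.GalCat.fiber_terminal_eq F _ _⟩
    have hepi1 : Epi (F.map (terminal.from X)) := ConcreteCategory.epi_of_surjective _ hsurj
    have hepi : Epi (terminal.from X) := F.epi_of_epi_map hepi1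
    have hepi2 : Epi (F'.map (terminal.from X)) := inferInstance
    have hs : Function.Surjective (F'.map (terminal.from X)) :=
      surjective_of_epi (FintypeCat.incl.map (F'.map (terminal.from X)))
    have hu : Unique (F'.obj (⊤_ C)) := (Types.isTerminalEquivUnique _)
      ((terminalIsTerminal (C := C)).isTerminalObj (F' ⋙ FintypeCat.incl) _)
    obtain ⟨y, _⟩ := hs hu.default
    exact hX.false y
  exact Groth.Agent.H92.GalCat.nonempty_iso_of_preserves F F' h

end Groth.Agent.S0266
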