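import Groth.Statements.S5146
import Mathlib.CategoryTheory.Galois.Prorepresentability
import Mathlib.CategoryTheory.Galois.Decomposition

set_option autoImplicit false
universe u v w
open CategoryTheory PreGaloisCategory
open Pi1

namespace Groth.Agent.S5146

open CategoryTheory.Limits in
/-- For an exact functor H : C ⥤ C' of Galois categories with compatible fibre functors F' and F' ∘ H,
the induced homomorphism u of fundamental groups and a pointed connected object (X, a) of C with
stabilizer U of a: the image of u lies in U if and only if H(X) has a section from the final object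
of C' sending the point to a. -/
theorem result {C C' : Type u} [Category.{v} C] [Category.{v} C']
    [GaloisCategory C] [GaloisCategory C'] (H : C ⥤ C') [PreservesFiniteLimits H] [PreservesFiniteColimits H]
    (F' : C' ⥤ FintypeCat.{w}) [FiberFunctor F'] [FiberFunctor (H ⋙ F')] (X : C) [IsConnected X]
    (a : (H ⋙ F').obj X) :
    (Pi1X.autWhisker H F').range ≤ MulAction.stabilizer (Aut (H ⋙ F')) a ↔
      ∃ s : ⊤_ C' ⟶ H.obj X, ∀ t : F'.obj (⊤_ C'), F'.map s t = a := by
  constructor
  · intro hle
    have hfix : ∀ σ : Aut F', σ.hom.app (H.obj X) a = a := by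
      intro σ
      have h1 : Pi1X.autWhisker H F' σ ∈ MulAction.stabilizer (Aut (H ⋙ F')) a := hle ⟨σ, rfl⟩
      exact MulAction.mem_stabilizer_iff.1 h1
    obtain ⟨Y, i, y, hy, hconn, hmono⟩ := fiber_in_connected_component F' (H.obj X) a
    haveI := hconn
    haveI := hmono
    have hinj : Function.Injective (F'.map i) := ConcreteCategory.injective_of_mono_of_preservesPullback (F'.map i)
    have hone : ∀ y' : F'.obj Y, y' = y := by
      intro y'
      obtain ⟨σ, hσ⟩ := MulAction.exists_smul_eq (Aut F') y y'
      apply hinj
      rw [← hσ, ← mulAction_naturality, hy]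
      exact hfix σ
    haveI huniq : Unique (F'.obj (⊤_ C')) := (Types.isTerminalEquivUnique _)
      ((terminalIsTerminal (C := C')).isTerminalObj (F' ⋙ FintypeCat.incl) _)
    have hiso : IsIso (terminal.from Y) := by
      have h1 : IsIso (F'.map (terminal.from Y)) := by
        apply (ConcreteCategory.isIso_iff_bijective (F'.map (terminal.from Y))).mpr
        constructor
        · intro y1 y2 _
          rw [hone y1, hone y2]
        · intro t
          exact ⟨y, Subsingleton.elim _ _⟩
      exact isIso_of_reflects_iso _ F'
    refine ⟨inv (terminal.from Y) ≫ i, fun t => ?_⟩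
    rw [Functor.map_comp, FintypeCat.comp_apply, hone (F'.map (inv (terminal.from Y)) t), hy]
  · rintro ⟨s, hs⟩ g ⟨σ, rfl⟩
    rw [MulAction.mem_stabilizer_iff]
    show σ.hom.app (H.obj X) a = a
    have h1 : F'.map s (F'.map (terminal.from (H.obj X)) a) = a := hs _
    have h2 : F'.map s (σ.hom.app _ (F'.map (terminal.from (H.obj X)) a)) = a := hs _
    calc σ.hom.app (H.obj X) a
        = σ.hom.app (H.obj X) (F'.map s (F'.map (terminal.from (H.obj X)) a)) := by rw [h1]
      _ = F'.map s (σ.hom.app _ (F'.map (terminal.from (H.obj X)) a)) :=
          NatTrans.naturality_apply σ.hom s _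
      _ = a := h2

end Groth.Agent.S5146
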