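import Groth.Statements.S1187
import Groth.Agent.S5146
import Groth.Agent.H92.GalCat

set_option autoImplicit false
universe u v w
open CategoryTheory PreGaloisCategory
open Pi1

namespace Groth.Agent.S1187

/-- Let H : C ⥤ C' be an exact functor between Galois categories and F' a fibre functor on C' such that
F' ∘ H is a fibre functor on C; write h : π_1(C', F') → π_1(C, F' ∘ H) for the induced homomorphism
of fundamental groups. Then h is surjective if and only if H is fully faithful. -/
theorem result {C C' : Type u} [Category.{v} C] [Category.{v} C'] [GaloisCategory C] [GaloisCategory C']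
    (H : C ⥤ C') [Limits.PreservesFiniteLimits H] [Limits.PreservesFiniteColimits H]
    (F' : C' ⥤ FintypeCat.{w}) [FiberFunctor F'] [FiberFunctor (H ⋙ F')] :
    Function.Surjective (Pi1X.autWhisker H F') ↔ (H.Full ∧ H.Faithful) := by
  have hfaith : H.Faithful := by
    have : (H ⋙ F').Faithful := inferInstance
    exact Functor.Faithful.of_comp H F'
  constructor
  · intro hsurj
    have hconn : ∀ (X Y : C) [IsConnected X] (g : H.obj X ⟶ H.obj Y),
        ∃ f : X ⟶ Y, H.map f = g := by
      intro X Y _ g
      obtain ⟨x⟩ := nonempty_fiber_of_isConnected (H ⋙ F') X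
      have hstab : ∀ τ : Aut (H ⋙ F'), τ • x = x →
          τ • (show (H ⋙ F').obj Y from F'.map g x) = F'.map g x := by
        intro τ hτ
        obtain ⟨σ, rfl⟩ := hsurj τ
        have h1 : σ • (show F'.obj (H.obj X) from x) = x := hτ
        show σ • (F'.map g x) = F'.map g x
        rw [mulAction_naturality, h1]
      obtain ⟨f, hf⟩ := Groth.Agent.H92.GalCat.exists_hom_of_stabilizer_le (H ⋙ F') X Y x
        (F'.map g x) hstab
      refine ⟨f, ?_⟩
      apply F'.map_injective
      apply FintypeCat.hom_ext
      intro z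
      obtain ⟨τ, hτ⟩ := MulAction.exists_smul_eq (Aut (H ⋙ F')) x z
      obtain ⟨σ, rfl⟩ := hsurj τ
      have hz : z = σ • (show F'.obj (H.obj X) from x) := hτ.symm
      rw [hz, ← mulAction_naturality, ← mulAction_naturality]
      congr 1
    refine ⟨⟨fun {X Y} g => ?_⟩, hfaith⟩
    obtain ⟨ι, f, gi, hl, hc, hfin⟩ := has_decomp_connected_components X
    have hex : ∀ i, ∃ φ : f i ⟶ Y, H.map φ = H.map (gi i) ≫ g := fun i => by
      have := hc i
      exact hconn (f i) Y _
    choose φ hφ using hex
    refine ⟨Limits.Cofan.IsColimit.desc hl φ, ?_⟩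
    have : Fintype ι := Fintype.ofFinite ι
    have hl' : Limits.IsColimit (H.mapCocone (Limits.Cofan.mk X gi)) :=
      Limits.isColimitOfPreserves H hl
    apply hl'.hom_ext
    rintro ⟨i⟩
    show H.map (gi i) ≫ H.map (Limits.Cofan.IsColimit.desc hl φ) = H.map (gi i) ≫ g
    rw [← H.map_comp, ← hφ]
    congr 1
    exact Limits.Cofan.IsColimit.fac hl φ i
  · rintro ⟨hfull, _⟩
    intro τ
    by_contra hτ
    have hτ' : τ ∉ (Pi1X.autWhisker H F').range := hτ
    obtain ⟨U, hUo, hKU, hτU⟩ := Groth.Agent.H92.GalCat.exists_open_of_closed (H ⋙ F') _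
      (Groth.Agent.H92.GalCat.isClosed_range_autWhisker' H F') τ hτ'
    obtain ⟨X, x, hXc, hstab⟩ :=
      Groth.Agent.H92.GalCat.exists_connected_stabilizer_eq (H ⋙ F') U hUo
    have hle : (Pi1X.autWhisker H F').range ≤ MulAction.stabilizer (Aut (H ⋙ F')) x := by
      rw [hstab]
      exact hKU
    obtain ⟨s, hs⟩ := (Groth.Agent.S5146.result H F' X x).1 hle
    obtain ⟨s₀, hs₀⟩ := H.map_surjective ((Limits.PreservesTerminal.iso H).hom ≫ s)
    apply hτU
    rw [← hstab, MulAction.mem_stabilizer_iff]
    obtain ⟨hu⟩ := Groth.Agent.H92.GalCat.fiber_terminal_unique (H ⋙ F')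
    have hx : (H ⋙ F').map s₀ hu.default = x := by
      show F'.map (H.map s₀) hu.default = x
      rw [hs₀, F'.map_comp, FintypeCat.comp_apply]
      exact hs _
    rw [← hx, mulAction_naturality]
    congr 1
    exact Groth.Agent.H92.GalCat.fiber_terminal_eq (H ⋙ F') _ _

end Groth.Agent.S1187
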