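import Groth.Statements.S0267
import Groth.Agent.S5146
import Groth.Agent.S1187
import Groth.Agent.H92.GalCatExact

set_option autoImplicit false
universe u v
open Pi1

namespace Groth.Agent.S0267

open CategoryTheory CategoryTheory.Limits in
/-- For an exact functor H between Galois categories, H is fully faithful exactly when it carries
connected objects to connected objects (both are equivalent to surjectivity of the induced map on
fundamental groups). -/
theorem result {C : Type u} [Category.{v} C]
    [GaloisCategory C] {D : Type u} [Category.{v} D] [GaloisCategory D]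
    (H : C ⥤ D) [PreservesFiniteLimits H] [PreservesFiniteColimits H] :
    (H.Full ∧ H.Faithful) ↔
      ∀ X : C, PreGaloisCategory.IsConnected X → PreGaloisCategory.IsConnected (H.obj X) := by
  let F' := PreGaloisCategory.GaloisCategory.getFiberFunctor D
  obtain ⟨inst⟩ := Groth.Agent.H92.GalCat.nonempty_fiberFunctor_comp H F'
  have hiff := Groth.Agent.S1187.result H F'
  constructor
  · intro hff X hX
    have hsurj := hiff.2 hff
    obtain ⟨x₀⟩ := PreGaloisCategory.nonempty_fiber_of_isConnected (H ⋙ F') X
    apply Groth.Agent.H92.GalCat.isConnected_of_transitive F' (H.obj X) x₀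
    intro x
    obtain ⟨τ, hτ⟩ := MulAction.exists_smul_eq (Aut (H ⋙ F')) x₀ (show (H ⋙ F').obj X from x)
    obtain ⟨σ, rfl⟩ := hsurj τ
    exact ⟨σ, hτ⟩
  · intro hpres
    apply hiff.1
    intro τ
    by_contra hτ
    have hτ' : τ ∉ (Pi1X.autWhisker H F').range := hτ
    obtain ⟨U, hUo, hKU, hτU⟩ := Groth.Agent.H92.GalCat.exists_open_of_closed (H ⋙ F') _
      (Groth.Agent.H92.GalCat.isClosed_range_autWhisker' H F') τ hτ'
    obtain ⟨X, x, hXc, hstab⟩ :=
      Groth.Agent.H92.GalCat.exists_connected_stabilizer_eq (H ⋙ F') U hUo
    have hle : (Pi1X.autWhisker H F').range ≤ MulAction.stabilizer (Aut (H ⋙ F')) x := by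
      rw [hstab]
      exact hKU
    obtain ⟨s, hs⟩ := (Groth.Agent.S5146.result H F' X x).1 hle
    have hHX : PreGaloisCategory.IsConnected (H.obj X) := hpres X hXc
    obtain ⟨hu⟩ := Groth.Agent.H92.GalCat.fiber_terminal_unique F'
    have hs_iso : IsIso s := PreGaloisCategory.IsConnected.noTrivialComponent _ s
      (PreGaloisCategory.not_initial_of_inhabited F' hu.default)
    have hall : ∀ x1 : F'.obj (H.obj X), x1 = x := by
      intro x1
      have h1 : F'.map s (F'.map (inv s) x1) = x1 := by
        rw [← FintypeCat.comp_apply, ← F'.map_comp, IsIso.inv_hom_id, F'.map_id]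
        rfl
      rw [← h1]
      exact hs _
    apply hτU
    rw [← hstab, MulAction.mem_stabilizer_iff]
    exact hall _

end Groth.Agent.S0267
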