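import Groth.Statements.S0268
import Mathlib
import Groth.Agent.H68.FEtFF

set_option autoImplicit false
universe u
open Pi1

namespace Groth.Agent.S0268

open AlgebraicGeometry CategoryTheory CategoryTheory.Limits


open AlgebraicGeometry CategoryTheory CategoryTheory.Limits in
/-- Functor form of the surjectivity of pi_1(X) -> pi_1(Spec k): Let X be quasi-compact and
quasi-separated over a field k with X_{kbar} connected. Then the functor pulling back finite etale
k-schemes to X is full and faithful. -/
theorem result (k : Type u) [Field k] {X : Scheme.{u}} (f : X ⟶ Spec (CommRingCat.of k)) [CompactSpace X]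
    [QuasiSeparatedSpace X]
    [ConnectedSpace ↥(pullback f (Spec.map (CommRingCat.ofHom (algebraMap k (AlgebraicClosure k)))))] :
    (FEt.restrict f).Full ∧ (FEt.restrict f).Faithful := by
  obtain ⟨s, hs⟩ : ∃ s : Spec (CommRingCat.of (AlgebraicClosure k)) ⟶ Spec (CommRingCat.of k),
      s = Spec.map (CommRingCat.ofHom (algebraMap k (AlgebraicClosure k))) := ⟨_, rfl⟩
  haveI hconn : ConnectedSpace ↥(pullback f s) := by rw [hs]; infer_instance
  haveI hsub : Subsingleton ↥(Spec (CommRingCat.of k)) :=
    inferInstanceAs (Subsingleton (PrimeSpectrum k))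
  have hsubW : ∀ (W : FEt.Cat (Spec (CommRingCat.of k))) (w : W.left)
      (y : ↥(Spec (CommRingCat.of k))), W.hom w = y := fun W w y =>
    Subsingleton.elim (α := ↥(Spec (CommRingCat.of k))) _ _
  refine H68.FEtFF.full_faithful f ⟨?_, ?_⟩
  · intro W T hT hpre
    rw [Set.eq_univ_iff_forall]
    intro w
    have hw : w ∈ Set.range (pullback.fst W.hom f) := by
      rw [Scheme.Pullback.range_fst]
      obtain ⟨x'⟩ : Nonempty ↥(pullback f s) := inferInstance
      exact ⟨(pullback.fst f s) x', (hsubW W w _).symm⟩
    obtain ⟨w', rfl⟩ := hw
    have : w' ∈ (pullback.fst W.hom f) ⁻¹' T := by rw [hpre]; trivial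
    exact this
  · intro W T' hT'
    haveI : IsFinite W.hom := W.prop.1
    haveI : Etale W.hom := W.prop.2
    have hfib : ∀ w : W.left, _root_.IsPreconnected ((pullback.fst W.hom f) ⁻¹' {w}) := by
      intro w
      obtain ⟨l, hl1, hl2⟩ :=
        Scheme.exists_fac_of_etale_of_isSepClosed W.hom s w (hsubW W w _)
      obtain ⟨m, hm1, hm2⟩ : ∃ m : pullback f s ⟶ pullback W.hom f,
          m ≫ pullback.fst W.hom f = pullback.snd f s ≫ l ∧
          m ≫ pullback.snd W.hom f = pullback.fst f s := by
        refine ⟨pullback.lift (pullback.snd f s ≫ l) (pullback.fst f s) ?_,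
          pullback.lift_fst _ _ _, pullback.lift_snd _ _ _⟩
        rw [Category.assoc, hl1, pullback.condition]
      have hrange : (pullback.fst W.hom f) ⁻¹' {w} = Set.range m := by
        apply Set.Subset.antisymm
        · intro w' hw'
          have hw'' : pullback.fst W.hom f w' = l default := by rw [hl2]; exact hw'
          obtain ⟨z, hz1, hz2⟩ := Scheme.Pullback.exists_preimage_pullback
            (f := pullback.fst W.hom f) (g := l) w' default hw''
          obtain ⟨n, hn1, hn2⟩ : ∃ n : pullback (pullback.fst W.hom f) l ⟶ pullback f s,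
              n ≫ pullback.fst f s = pullback.fst _ _ ≫ pullback.snd W.hom f ∧
              n ≫ pullback.snd f s = pullback.snd _ _ := by
            refine ⟨pullback.lift (pullback.fst _ _ ≫ pullback.snd W.hom f) (pullback.snd _ _) ?_,
              pullback.lift_fst _ _ _, pullback.lift_snd _ _ _⟩
            rw [Category.assoc, ← pullback.condition, ← Category.assoc, pullback.condition,
              Category.assoc, hl1]
          have hnm : n ≫ m = pullback.fst (pullback.fst W.hom f) l := by
            apply pullback.hom_ext
            · rw [Category.assoc, hm1, ← Category.assoc, hn2, pullback.condition]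
            · rw [Category.assoc, hm2, hn1]
          refine ⟨n z, ?_⟩
          rw [← Scheme.Hom.comp_apply, hnm, hz1]
        · rintro _ ⟨x', rfl⟩
          show pullback.fst W.hom f (m x') = w
          rw [← Scheme.Hom.comp_apply, hm1, Scheme.Hom.comp_apply, ← hl2]
          congr 1
          exact Subsingleton.elim _ _
      rw [hrange]
      exact isPreconnected_range m.continuous
    haveI : DiscreteTopology W.left := by
      rw [← isDiscrete_univ_iff]
      have h1 := W.hom.isDiscrete_preimage_singleton (default : ↥(Spec (CommRingCat.of k)))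
      have h2 : W.hom ⁻¹' {(default : ↥(Spec (CommRingCat.of k)))} = Set.univ :=
        Set.eq_univ_of_forall fun w => hsubW W w _
      rwa [h2] at h1
    refine ⟨{w | (pullback.fst W.hom f) ⁻¹' {w} ⊆ T'}, isClopen_discrete _, ?_⟩
    ext w'
    constructor
    · intro hw; exact hw rfl
    · intro hw
      exact (hfib _).subset_isClopen hT' ⟨w', rfl, hw⟩

end Groth.Agent.S0268
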