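import Groth.Statements.S0275
import Groth.Agent.H2.UnivInj

set_option autoImplicit false
universe u
open scoped TensorProduct
open Pi1

namespace Groth.Agent.S0275

/-- Let R -> S be universally injective and M an R-module such that S ⊗_R M is finitely generated over
S. Then M is finitely generated over R. -/
theorem result (R S : Type u) [CommRing R] [CommRing S] [Algebra R S]
    (h : Pi1.UnivInjective R S) (M : Type u) [AddCommGroup M] [Module R M]
    [Module.Finite S (S ⊗[R] M)] : Module.Finite R M := by
  obtain ⟨s, hs⟩ := (Module.Finite.fg_top : (⊤ : Submodule S (S ⊗[R] M)).FG)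
  obtain ⟨M', hM'fin, hsub⟩ := TensorProduct.exists_finite_submodule_right_of_setFinite
    (s : Set (S ⊗[R] M)) s.finite_toSet
  have hsurj : Function.Surjective (LinearMap.lTensor S M'.subtype) := by
    have hr : LinearMap.range (LinearMap.baseChange S M'.subtype) = ⊤ := by
      rw [eq_top_iff, ← hs, Submodule.span_le]
      intro x hx
      obtain ⟨y, hy⟩ := hsub hx
      exact ⟨y, hy⟩
    intro x
    obtain ⟨y, hy⟩ := LinearMap.range_eq_top.mp hr x
    exact ⟨y, hy⟩
  have htop := Groth.Agent.H2.eq_top_of_lTensor_surjective h M' hsurj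
  rw [Module.Finite.iff_fg] at hM'fin
  rw [htop] at hM'fin
  exact ⟨hM'fin⟩

end Groth.Agent.S0275
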