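import Groth.Statements.S0276
import Groth.Agent.S0275
import Groth.Agent.H2.UnivInj
import Mathlib.Algebra.Module.FinitePresentation
import Mathlib.RingTheory.Finiteness.Cardinality

set_option autoImplicit false
universe u
open scoped TensorProduct
open Pi1

namespace Groth.Agent.S0276

/-- Let R -> S be universally injective and M an R-module such that S ⊗_R M is finitely presented over
S. Then M is finitely presented over R. -/
theorem result (R S : Type u) [CommRing R] [CommRing S] [Algebra R S]
    (h : Pi1.UnivInjective R S) (M : Type u) [AddCommGroup M] [Module R M]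
    [Module.FinitePresentation S (S ⊗[R] M)] : Module.FinitePresentation R M := by
  have hfin : Module.Finite R M := Groth.Agent.S0275.result R S h M
  obtain ⟨n, π, hπ⟩ := Module.Finite.exists_fin' R M
  let F := Fin n → R
  let K : Submodule R F := LinearMap.ker π
  -- the kernel of the base change is finitely generated
  have hπS : Function.Surjective (LinearMap.baseChange S π) :=
    LinearMap.lTensor_surjective S hπ
  have hkerfg : (LinearMap.ker (LinearMap.baseChange S π)).FG :=
    Module.FinitePresentation.fg_ker _ hπS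
  obtain ⟨gs, hgs⟩ := hkerfg
  have hexact : Function.Exact (LinearMap.lTensor S K.subtype) (LinearMap.lTensor S π) :=
    lTensor_exact S (LinearMap.exact_subtype_ker_map π) hπ
  -- preimages of the generators
  have hpre : ∀ g ∈ gs, ∃ y : S ⊗[R] K, LinearMap.lTensor S K.subtype y = g := by
    intro g hg
    have hgker : g ∈ LinearMap.ker (LinearMap.baseChange S π) := by
      rw [← hgs]; exact Submodule.subset_span hg
    have : LinearMap.lTensor S π g = 0 := hgker
    exact (hexact g).mp this
  choose! pre hpre' using hpre
  classical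
  obtain ⟨K', hK'fin, hsub⟩ := TensorProduct.exists_finite_submodule_right_of_setFinite
    ((gs.image pre : Finset (S ⊗[R] K)) : Set (S ⊗[R] K)) (Finset.finite_toSet _)
  let ι' : K' →ₗ[R] F := K.subtype ∘ₗ K'.subtype
  let K'' : Submodule R F := LinearMap.range ι'
  have hK''fg : K''.FG := by
    rw [Module.Finite.iff_fg] at hK'fin
    have : K'' = K'.map K.subtype := by
      show LinearMap.range (K.subtype ∘ₗ K'.subtype) = _
      rw [LinearMap.range_comp, Submodule.range_subtype]
    rw [this]
    exact hK'fin.map _
  have hK''le : K'' ≤ K := by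
    rintro x ⟨y, rfl⟩
    exact (K'.subtype y).2
  -- the key inclusion of ranges
  have hrange : ∀ w : S ⊗[R] F, LinearMap.lTensor S π w = 0 →
      ∃ v : S ⊗[R] K'', LinearMap.lTensor S K''.subtype v = w := by
    intro w hw
    have hwker : w ∈ LinearMap.ker (LinearMap.baseChange S π) := hw
    rw [← hgs] at hwker
    have hle : Submodule.span S (gs : Set (S ⊗[R] F)) ≤
        LinearMap.range (LinearMap.baseChange S K''.subtype) := by
      rw [Submodule.span_le]
      intro g hg
      have hmem : pre g ∈ ((gs.image pre : Finset (S ⊗[R] K)) : Set (S ⊗[R] K)) := by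
        simp only [Finset.coe_image, Set.mem_image, Finset.mem_coe]
        exact ⟨g, hg, rfl⟩
      obtain ⟨v, hv⟩ := hsub hmem
      refine ⟨LinearMap.lTensor S ι'.rangeRestrict v, ?_⟩
      show LinearMap.lTensor S K''.subtype _ = g
      rw [← LinearMap.comp_apply, ← LinearMap.lTensor_comp]
      have : K''.subtype ∘ₗ ι'.rangeRestrict = K.subtype ∘ₗ K'.subtype := by
        ext; rfl
      rw [this, LinearMap.lTensor_comp, LinearMap.comp_apply, hv, hpre' g hg]
    obtain ⟨v, hv⟩ := hle hwker
    exact ⟨v, hv⟩
  -- K = K''
  have hKle : K ≤ K'' := by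
    intro x hx
    have h1 : LinearMap.lTensor S π ((1 : S) ⊗ₜ[R] x) = 0 := by
      rw [LinearMap.lTensor_tmul]
      have : π x = 0 := hx
      rw [this, TensorProduct.tmul_zero]
    obtain ⟨v, hv⟩ := hrange _ h1
    have h2 : (1 : S) ⊗ₜ[R] (K''.mkQ x) = 0 := by
      have : (1 : S) ⊗ₜ[R] (K''.mkQ x) = LinearMap.lTensor S K''.mkQ ((1 : S) ⊗ₜ[R] x) := by
        rw [LinearMap.lTensor_tmul]
      rw [this, ← hv, ← LinearMap.comp_apply, ← LinearMap.lTensor_comp]
      have : K''.mkQ ∘ₗ K''.subtype = 0 := by ext; simp
      rw [this, LinearMap.lTensor_zero, LinearMap.zero_apply]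
    have h3 : K''.mkQ x = 0 := by
      apply Groth.Agent.H2.injective_one_tmul h (F ⧸ K'')
      show (1 : S) ⊗ₜ[R] (K''.mkQ x) = (1 : S) ⊗ₜ[R] (0 : F ⧸ K'')
      rw [h2, TensorProduct.tmul_zero]
    exact (Submodule.Quotient.mk_eq_zero K'').mp h3
  have hKeq : K = K'' := le_antisymm hKle hK''le
  have hKfg : (LinearMap.ker π).FG := by
    show K.FG
    rw [hKeq]
    exact hK''fg
  exact Module.finitePresentation_of_surjective π hπ hKfg

end Groth.Agent.S0276
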