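import Groth.Statements.S0277
import Groth.Agent.H2.UnivInj
import Mathlib.RingTheory.FiniteType
import Mathlib.RingTheory.Adjoin.FG

set_option autoImplicit false
universe u
open scoped TensorProduct
open Pi1

namespace Groth.Agent.S0277

/-- Let R -> S be universally injective and A an R-algebra such that S ⊗_R A is of finite type over S.
Then A is of finite type over R. -/
theorem result (R S : Type u) [CommRing R] [CommRing S] [Algebra R S]
    (h : Pi1.UnivInjective R S) (A : Type u) [CommRing A] [Algebra R A]
    [Algebra.FiniteType S (S ⊗[R] A)] : Algebra.FiniteType R A := by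
  obtain ⟨s, hs⟩ := (Algebra.FiniteType.out : (⊤ : Subalgebra S (S ⊗[R] A)).FG)
  obtain ⟨N', hN'fin, hsub⟩ := TensorProduct.exists_finite_submodule_right_of_setFinite
    (s : Set (S ⊗[R] A)) s.finite_toSet
  rw [Module.Finite.iff_fg] at hN'fin
  obtain ⟨t, ht⟩ := hN'fin
  let A' : Subalgebra R A := Algebra.adjoin R (t : Set A)
  have hN'le : N' ≤ Subalgebra.toSubmodule A' := by
    rw [← ht, Submodule.span_le]
    exact Algebra.subset_adjoin
  let φ : S ⊗[R] A' →ₐ[S] S ⊗[R] A := Algebra.TensorProduct.map (AlgHom.id S S) A'.val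
  have hφ : ∀ z, φ z = LinearMap.lTensor S A'.val.toLinearMap z := by
    intro z
    induction z using TensorProduct.induction_on with
    | zero => simp
    | tmul x y => simp [φ]
    | add x y hx hy => rw [map_add, map_add, hx, hy]
  have hrange : φ.range = ⊤ := by
    rw [eq_top_iff, ← hs, Algebra.adjoin_le_iff]
    intro x hx
    obtain ⟨y, hy⟩ := hsub hx
    refine ⟨LinearMap.lTensor S (Submodule.inclusion hN'le) y, ?_⟩
    rw [← hy]
    show φ _ = _
    rw [hφ, ← LinearMap.comp_apply, ← LinearMap.lTensor_comp]
    rfl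
  have hsurj : Function.Surjective (LinearMap.lTensor S A'.val.toLinearMap) := by
    intro x
    have hx : x ∈ φ.range := by rw [hrange]; trivial
    obtain ⟨y, hy⟩ := hx
    exact ⟨y, by rw [← hφ]; exact hy⟩
  have hsurj' := Groth.Agent.H2.surjective_of_lTensor_surjective h _ hsurj
  have htop : A' = ⊤ := by
    rw [eq_top_iff]
    intro a _
    obtain ⟨b, rfl⟩ := hsurj' a
    exact b.2
  exact ⟨⟨t, htop⟩⟩

end Groth.Agent.S0277
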