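import Groth.Statements.S0278
import Groth.Agent.S0277
import Groth.Agent.H2.UnivInj
import Mathlib.RingTheory.FinitePresentation
import Mathlib.LinearAlgebra.TensorProduct.RightExactness

set_option autoImplicit false
universe u
open scoped TensorProduct
open Pi1

namespace Groth.Agent.S0278

/-- Let R -> S be universally injective and A an R-algebra such that S ⊗_R A is of finite presentation
over S. Then A is of finite presentation over R. -/
theorem result (R S : Type u) [CommRing R] [CommRing S] [Algebra R S]
    (h : Pi1.UnivInjective R S) (A : Type u) [CommRing A] [Algebra R A]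
    [Algebra.FinitePresentation S (S ⊗[R] A)] : Algebra.FinitePresentation R A := by
  classical
  have hft : Algebra.FiniteType R A := Groth.Agent.S0277.result R S h A
  obtain ⟨n, π, hπ⟩ := Algebra.FiniteType.iff_quotient_mvPolynomial''.mp hft
  let P := MvPolynomial (Fin n) R
  let I : Ideal P := RingHom.ker π
  let incl : P →ₐ[R] S ⊗[R] P := Algebra.TensorProduct.includeRight
  let Φ : S ⊗[R] P →ₐ[S] S ⊗[R] A := Algebra.TensorProduct.map (AlgHom.id S S) π
  let Φ' : S ⊗[R] P →ₐ[R] S ⊗[R] A := Algebra.TensorProduct.map (AlgHom.id R S) π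
  have hΦΦ' : ∀ z, Φ z = Φ' z := by
    intro z
    induction z using TensorProduct.induction_on with
    | zero => simp
    | tmul x y => simp [Φ, Φ']
    | add x y hx hy => rw [map_add, map_add, hx, hy]
  have hΦlin : ∀ w, Φ w = LinearMap.lTensor S π.toLinearMap w := by
    intro w
    induction w using TensorProduct.induction_on with
    | zero => simp
    | tmul x y => simp [Φ]
    | add x y hx hy => rw [map_add, map_add, hx, hy]
  have hΦ : Function.Surjective Φ := by
    intro z
    obtain ⟨w, hw⟩ := LinearMap.lTensor_surjective S (g := π.toLinearMap) hπ z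
    exact ⟨w, by rw [hΦlin, hw]⟩
  have hker : (RingHom.ker Φ.toRingHom).FG :=
    Algebra.FinitePresentation.ker_fG_of_surjective Φ hΦ
  have hkereq : RingHom.ker Φ.toRingHom = I.map incl := by
    have h1 : RingHom.ker Φ.toRingHom = RingHom.ker Φ' := by
      ext z
      simp only [RingHom.mem_ker]
      exact ⟨fun hz => by rw [← hΦΦ']; exact hz, fun hz => by
        show Φ z = 0
        rw [hΦΦ']; exact hz⟩
    rw [h1]
    exact Algebra.TensorProduct.lTensor_ker (A := S) π hπ
  rw [hkereq] at hker
  -- find a finitely generated subideal with the same extension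
  have hspan : I.map incl = Ideal.span (incl '' (I : Set P)) := rfl
  rw [hspan] at hker
  obtain ⟨s', hs's, hs'eq⟩ := (Submodule.fg_span_iff_fg_span_finset_subset _).mp hker
  have hpre : ∀ g ∈ s', ∃ x ∈ I, incl x = g := by
    intro g hg
    obtain ⟨x, hx, rfl⟩ := hs's hg
    exact ⟨x, hx, rfl⟩
  choose! pre hpreI hpre' using hpre
  let T : Finset P := s'.image pre
  let I' : Ideal P := Ideal.span (T : Set P)
  have hI'le : I' ≤ I := by
    rw [Ideal.span_le]
    intro x hx
    simp only [T, Finset.coe_image, Set.mem_image, Finset.mem_coe] at hx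
    obtain ⟨g, hg, rfl⟩ := hx
    exact hpreI g hg
  have hI'fg : I'.FG := ⟨T, rfl⟩
  have hmapeq : I'.map incl = I.map incl := by
    apply le_antisymm (Ideal.map_mono hI'le)
    rw [hspan]
    show Submodule.span _ _ ≤ _
    rw [hs'eq, Submodule.span_le]
    intro g hg
    have : g = incl (pre g) := (hpre' g hg).symm
    rw [this]
    apply Ideal.mem_map_of_mem
    apply Ideal.subset_span
    simp only [T, Finset.coe_image, Set.mem_image, Finset.mem_coe]
    exact ⟨g, hg, rfl⟩
  have hr := Ideal.map_includeRight_eq (R := R) (A := S) I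
  have hr' := Ideal.map_includeRight_eq (R := R) (A := S) I'
  have hIle : I ≤ I' := by
    intro x hx
    let I'r : Submodule R P := I'.restrictScalars R
    have h1 : (1 : S) ⊗ₜ[R] x ∈
        LinearMap.range (LinearMap.lTensor S (Submodule.subtype (I.restrictScalars R))) :=
      ⟨(1 : S) ⊗ₜ[R] ⟨x, hx⟩, by simp⟩
    rw [← hr, ← hmapeq, hr'] at h1
    obtain ⟨v, hv⟩ := h1
    have h2 : (1 : S) ⊗ₜ[R] (I'r.mkQ x) = 0 := by
      have : (1 : S) ⊗ₜ[R] (I'r.mkQ x) = LinearMap.lTensor S I'r.mkQ ((1 : S) ⊗ₜ[R] x) := by
        rw [LinearMap.lTensor_tmul]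
      rw [this, ← hv, ← LinearMap.comp_apply, ← LinearMap.lTensor_comp]
      have : I'r.mkQ ∘ₗ I'r.subtype = 0 := by ext; simp
      rw [this, LinearMap.lTensor_zero, LinearMap.zero_apply]
    have h3 : I'r.mkQ x = 0 := by
      apply Groth.Agent.H2.injective_one_tmul h (P ⧸ I'r)
      show (1 : S) ⊗ₜ[R] (I'r.mkQ x) = (1 : S) ⊗ₜ[R] (0 : P ⧸ I'r)
      rw [h2, TensorProduct.tmul_zero]
    exact (Submodule.Quotient.mk_eq_zero I'r).mp h3
  have hIeq : I = I' := le_antisymm hIle hI'le
  have hIfg : (RingHom.ker π.toRingHom).FG := by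
    show I.FG
    rw [hIeq]
    exact hI'fg
  exact Algebra.FinitePresentation.of_surjective hπ hIfg

end Groth.Agent.S0278
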