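import Groth.Statements.S0282
import Groth.Agent.H10.FrobSpan
import Groth.Agent.H10.LangCover

set_option autoImplicit false
universe u
open scoped TensorProduct
open Pi1

namespace Groth.Agent.S0282

/-- Let R be a ring of prime characteristic p, A a quotient ring of R and B a finite étale A-algebra.
Then there are a finite étale R-algebra C and a surjective A-algebra homomorphism from A ⊗_R C onto
B. (This covering-level statement yields the injectivity of π₁(Spec A) → π₁(Spec R).) -/
theorem result (p : ℕ) [Fact p.Prime] (R A B : Type u)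
    [CommRing R] [CommRing A] [CommRing B] [CharP R p] [Algebra R A]
    (hRA : Function.Surjective (algebraMap R A)) [Algebra A B] [Module.Finite A B]
    [Algebra.Etale A B] :
    ∃ (C : Type u) (_ : CommRing C) (_ : Algebra R C), Module.Finite R C ∧ Algebra.Etale R C ∧
      ∃ ψ : A ⊗[R] C →ₐ[A] B, Function.Surjective ψ := by
  classical
  let _ : Algebra R B := ((algebraMap A B).comp (algebraMap R A)).toAlgebra
  have : IsScalarTower R A B := .of_algebraMap_eq fun _ => rfl
  have hp2 : 2 ≤ p := (Fact.out : p.Prime).two_le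
  have hpR : (p : R) = 0 := CharP.cast_eq_zero R p
  have hpA : (p : A) = 0 := by rw [← map_natCast (algebraMap R A), hpR, map_zero]
  obtain ⟨m, b, hb⟩ := Module.Finite.exists_fin (R := A) (M := B)
  have hbp := Groth.Agent.H10.FrobSpan.span_pow_eq_top p A B hpA b hb
  -- coefficients
  have h1 : ∀ i, ∃ a : Fin m → R, ∑ j, algebraMap R B (a j) * b j ^ p = b i := by
    intro i
    have hi : b i ∈ Submodule.span A (Set.range fun i => b i ^ p) := hbp ▸ Submodule.mem_top
    obtain ⟨a, ha⟩ := (Submodule.mem_span_range_iff_exists_fun A).mp hi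
    choose a' ha' using fun j => hRA (a j)
    refine ⟨a', ?_⟩
    rw [← ha]
    refine Finset.sum_congr rfl (fun j _ => ?_)
    rw [IsScalarTower.algebraMap_apply R A B, ha', Algebra.smul_def]
  have h2 : ∀ i, ∃ c : Fin m → R, ∑ j, algebraMap R B (c j) * b j = b i ^ p := by
    intro i
    have hi : b i ^ p ∈ Submodule.span A (Set.range b) := hb ▸ Submodule.mem_top
    obtain ⟨c, hc⟩ := (Submodule.mem_span_range_iff_exists_fun A).mp hi
    choose c' hc' using fun j => hRA (c j)
    refine ⟨c', ?_⟩
    rw [← hc]
    refine Finset.sum_congr rfl (fun j _ => ?_)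
    rw [IsScalarTower.algebraMap_apply R A B, hc', Algebra.smul_def]
  choose a ha using h1
  choose c hc using h2
  let aM : Matrix (Fin m) (Fin m) R := Matrix.of a
  let cM : Matrix (Fin m) (Fin m) R := Matrix.of c
  let M := Groth.Agent.H10.LangCover.trickMatrix aM cM
  have hMdet : IsUnit M.det := Groth.Agent.H10.LangCover.isUnit_det_trickMatrix aM cM
  let g : Fin m ⊕ Fin m → B := Sum.elim b 0
  have hvec : (M.map (algebraMap R B)).mulVec g = Sum.elim (fun i => b i ^ p) 0 := by
    apply Groth.Agent.H10.LangCover.trickMatrix_mulVec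
    · funext i
      rw [← ha i]
      rfl
    · funext i
      rw [← hc i]
      rfl
  have hg : ∀ i, g i ^ p = ∑ j, algebraMap R B (M i j) * g j := by
    intro i
    have := congrFun hvec i
    rw [Matrix.mulVec, dotProduct] at this
    simp only [Matrix.map_apply] at this
    rw [this]
    cases i with
    | inl i => rfl
    | inr i => simp [g, (Fact.out : p.Prime).ne_zero]
  obtain ⟨φ, hφ⟩ := Groth.Agent.H10.LangCover.exists_algHom p M g hg
  refine ⟨Groth.Agent.H10.LangCover.LangAlg p M, inferInstance, inferInstance,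
    Groth.Agent.H10.LangCover.finite p M hp2, Groth.Agent.H10.LangCover.etale p M hpR hMdet, ?_⟩
  let ψ : A ⊗[R] Groth.Agent.H10.LangCover.LangAlg p M →ₐ[A] B :=
    Algebra.TensorProduct.lift (Algebra.ofId A B) φ (fun _ _ => Commute.all _ _)
  refine ⟨ψ, ?_⟩
  have hrange : Submodule.span A (Set.range b) ≤ LinearMap.range ψ.toLinearMap := by
    rw [Submodule.span_le]
    rintro _ ⟨i, rfl⟩
    refine ⟨(1 : A) ⊗ₜ[R] Ideal.Quotient.mk _ (MvPolynomial.X (Sum.inl i)), ?_⟩
    simp [ψ, hφ, g]
  rw [hb, top_le_iff, LinearMap.range_eq_top] at hrange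
  exact hrange

end Groth.Agent.S0282
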