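import Groth.Statements.S0286
import Groth.Agent.S0283
import Groth.Agent.H69.FEtGlue
import Groth.Agent.H69.PerfDescLocal
import Groth.Agent.H77.PerfDescR2
import Groth.Agent.H69.PerfAWN
import Groth.Agent.H69.UHomeo2
import Groth.Agent.H69.UHSch

set_option autoImplicit false
set_option linter.style.haveILetI false
universe u
open Pi1

namespace Groth.Agent.S0286

open AlgebraicGeometry CategoryTheory CategoryTheory.Limits in
/-- For a scheme X over a field k of characteristic p (p a prime), pulling back finite étale covers
along the projection X ×_{Spec k} Spec(k^perf) → X, where k^perf is the perfect closure of k, is an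
equivalence of categories. -/
theorem result (k : Type u) [Field k] (p : ℕ) [Fact p.Prime] [CharP k p] {X : Scheme.{u}}
    (f : X ⟶ Spec (CommRingCat.of k)) :
    (FEt.restrict (pullback.fst f
      (Spec.map (CommRingCat.ofHom (PerfectClosure.of k p))))).IsEquivalence := by
  have hp : p.Prime := Fact.out
  have hR2 : Groth.Agent.H77.PerfDescR3.R2Statement.{u} :=
    fun p _ _ _ χ hχ hA N FA FC hFA hFC =>
      Groth.Agent.H77.PerfDescR2.isPushout_ppow_of_etale p χ hχ hA N FA FC hFA hFC
  -- the field extension `k → k^perf` induces a flat universal homeomorphism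
  let ι : k →+* PerfectClosure k p := PerfectClosure.of k p
  have hK0 : (p : PerfectClosure k p) = 0 := by
    have := congrArg ι (CharP.cast_eq_zero k p)
    rw [map_natCast, map_zero] at this
    exact this
  have hUH : FlatMor.IsUnivHomeo (Spec.map (CommRingCat.ofHom ι)) :=
    H69.isUnivHomeo_of_ringUH ι (H69.ringUH_of_isPRadical p hp hK0 ι)
  have hflatι : Flat (Spec.map (CommRingCat.ofHom ι)) := by
    rw [HasRingHomProperty.Spec_iff (P := @Flat)]
    algebraize [ι]
    show Module.Flat k (PerfectClosure k p)
    infer_instance
  haveI : IsIntegralHom (Spec.map (CommRingCat.ofHom ι)) := H69.isIntegralHom_of_isUnivHomeo _ hUH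
  haveI : UniversallyInjective (Spec.map (CommRingCat.ofHom ι)) :=
    H69.universallyInjective_of_isUnivHomeo _ hUH
  haveI : Surjective (Spec.map (CommRingCat.ofHom ι)) := H69.surjective_of_isUnivHomeo _ hUH
  obtain ⟨π, hπ⟩ : ∃ π : pullback f (Spec.map (CommRingCat.ofHom ι)) ⟶ X,
      π = pullback.fst f (Spec.map (CommRingCat.ofHom ι)) := ⟨_, rfl⟩
  show (FEt.restrict (pullback.fst f (Spec.map (CommRingCat.ofHom ι)))).IsEquivalence
  rw [← hπ]
  haveI : IsIntegralHom π := by
    rw [hπ]; exact MorphismProperty.pullback_fst (P := @IsIntegralHom) _ _ inferInstance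
  haveI : UniversallyInjective π := by
    rw [hπ]; exact MorphismProperty.pullback_fst (P := @UniversallyInjective) _ _ inferInstance
  haveI : Surjective π := by
    rw [hπ]; exact MorphismProperty.pullback_fst (P := @Surjective) _ _ inferInstance
  haveI : Flat π := by
    rw [hπ]; exact MorphismProperty.pullback_fst (P := @Flat) _ _ hflatι
  obtain ⟨hfull, hfaith⟩ := Groth.Agent.S0283.result π
  have hess : (FEt.restrict π).EssSurj := by
    refine H69.FEtGlue.essSurj_restrict_of_exists π fun Z ζ _ _ => ?_
    refine H69.FEtGlue.exists_descent_of_cover π X.directedAffineCover ζ ?_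
    intro i Z' z _ _
    haveI : FrobSch.IsCharP (X.directedAffineCover.X i) p :=
      FrobSch.IsCharP.of_hom (X.directedAffineCover.f i ≫ f) p
    haveI : IsAffine (X.directedAffineCover.X i) := i.2
    haveI : IsIntegralHom (pullback.snd π (X.directedAffineCover.f i)) :=
      MorphismProperty.pullback_snd (P := @IsIntegralHom) _ _ inferInstance
    haveI : UniversallyInjective (pullback.snd π (X.directedAffineCover.f i)) :=
      MorphismProperty.pullback_snd (P := @UniversallyInjective) _ _ inferInstance
    haveI : Surjective (pullback.snd π (X.directedAffineCover.f i)) :=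
      MorphismProperty.pullback_snd (P := @Surjective) _ _ inferInstance
    haveI : Flat (pullback.snd π (X.directedAffineCover.f i)) :=
      MorphismProperty.pullback_snd (P := @Flat) _ _ inferInstance
    exact H69.PerfDescLocal.exists_local_descent hR2 p (pullback.snd π (X.directedAffineCover.f i)) z
      (FrobSch.IsCharP.natCast_eq_zero)
  exact { faithful := hfaith, full := hfull, essSurj := hess }

end Groth.Agent.S0286
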