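import Groth.Statements.S9812

set_option autoImplicit false
universe u
open CAlg2

namespace Groth.Agent.S9812

/-- At the level of the local ring: an integrally closed local domain is geometrically unibranch.
Consequently a normal scheme is geometrically unibranch. -/
theorem result (A : Type u) [CommRing A] [IsLocalRing A]
    [IsDomain A] [IsIntegrallyClosed A] : CAlg2.IsGeomUnibranch A := by
  have hnil : nilradical A = ⊥ := nilradical_eq_zero A
  have hbij : Function.Bijective (Ideal.Quotient.mk (nilradical A)) := by
    refine ⟨?_, Ideal.Quotient.mk_surjective⟩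
    rw [injective_iff_map_eq_zero]
    intro a ha
    rw [Ideal.Quotient.eq_zero_iff_mem, hnil] at ha
    simpa using ha
  let e : A ≃+* red A := RingEquiv.ofBijective _ hbij
  have hdom : IsDomain (red A) := e.toMulEquiv.isDomain_iff.mp ‹_›
  have hic : IsIntegrallyClosed (red A) := IsIntegrallyClosed.of_equiv e
  have hbot : integralClosure (red A) (FractionRing (red A)) = ⊥ :=
    IsIntegrallyClosed.integralClosure_eq_bot (red A) (FractionRing (red A))
  have hsurj : Function.Surjective (algebraMap (red A) (normRed A)) := by
    rintro ⟨x, hx⟩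
    have hx' : x ∈ (⊥ : Subalgebra (red A) (FractionRing (red A))) := hbot ▸ hx
    obtain ⟨y, hy⟩ := Algebra.mem_bot.mp hx'
    exact ⟨y, Subtype.ext hy⟩
  have hsurj2 : Function.Surjective
      ((algebraMap (red A) (normRed A)).comp (Ideal.Quotient.mk (nilradical A))) :=
    hsurj.comp Ideal.Quotient.mk_surjective
  refine ⟨⟨hdom, ?_⟩, ?_⟩
  · exact IsLocalRing.of_surjective' _ hsurj2
  · intro m' _ x
    refine ⟨0, ?_⟩
    obtain ⟨y, rfl⟩ := Ideal.Quotient.mk_surjective x
    obtain ⟨a, rfl⟩ := hsurj2 y
    exact ⟨a, by simp⟩

end Groth.Agent.S9812
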