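import Groth.Statements.S0288
import Groth.Agent.H70.UnramUnibranchGlobal
import Groth.Agent.S9812

set_option autoImplicit false
universe u
open Pi1

namespace Groth.Agent.S0288

open AlgebraicGeometry CategoryTheory CategoryTheory.Limits in
/-- Let X be a normal integral scheme with function field K, L a finite field extension of K and Y -> X
the normalization of X in Spec L. If Y -> X is unramified (formally unramified and locally of finite
type), then it is etale, and finite. -/
theorem result {X : Scheme.{u}} [IsIntegral X] (hX : Pi1.IsNormalScheme X) (L : Type u) [Field L]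
    [Algebra X.functionField L] [FiniteDimensional X.functionField L]
    [QuasiCompact (Spec.map (CommRingCat.ofHom (algebraMap X.functionField L)) ≫ X.fromSpecStalk (genericPoint X))]
    [QuasiSeparated (Spec.map (CommRingCat.ofHom (algebraMap X.functionField L)) ≫ X.fromSpecStalk (genericPoint X))]
    [FormallyUnramified (Spec.map (CommRingCat.ofHom (algebraMap X.functionField L)) ≫ X.fromSpecStalk (genericPoint X)).fromNormalization]
    [LocallyOfFiniteType (Spec.map (CommRingCat.ofHom (algebraMap X.functionField L)) ≫ X.fromSpecStalk (genericPoint X)).fromNormalization] :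
    Etale (Spec.map (CommRingCat.ofHom (algebraMap X.functionField L)) ≫ X.fromSpecStalk (genericPoint X)).fromNormalization ∧
    IsFinite (Spec.map (CommRingCat.ofHom (algebraMap X.functionField L)) ≫ X.fromSpecStalk (genericPoint X)).fromNormalization := by
  set g := Spec.map (CommRingCat.ofHom (algebraMap X.functionField L)) ≫
    X.fromSpecStalk (genericPoint X) with hg
  have hY : ∀ x : X, CAlg2.IsGeomUnibranch (X.presheaf.stalk x) := fun x => by
    obtain ⟨h1, h2⟩ := hX x
    exact Groth.Agent.S9812.result _
  have hdom : genericPoint X ∈ Set.range g.fromNormalization := by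
    obtain ⟨pt⟩ : Nonempty (Spec (CommRingCat.of L)) := inferInstance
    refine ⟨g.toNormalization pt, ?_⟩
    rw [← Scheme.Hom.comp_apply, g.toNormalization_fromNormalization, hg, Scheme.Hom.comp_apply]
    have hsub : Subsingleton (Spec (X.presheaf.stalk (genericPoint X))) :=
      inferInstanceAs (Subsingleton (PrimeSpectrum X.functionField))
    rw [Subsingleton.elim (Spec.map (CommRingCat.ofHom (algebraMap X.functionField L)) pt)
      (IsLocalRing.closedPoint _)]
    exact Scheme.fromSpecStalk_closedPoint
  obtain ⟨hEt, -, -⟩ :=
    Groth.Agent.H70.UnramUnibranchScheme.etale_integral_geomUnibranch g.fromNormalization hY hdom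
  refine ⟨hEt, ?_⟩
  rw [IsFinite.iff_isIntegralHom_and_locallyOfFiniteType]
  exact ⟨inferInstance, inferInstance⟩

end Groth.Agent.S0288
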