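import Groth.Statements.S0291
import Groth.Agent.H71.HConn

set_option autoImplicit false
universe u
open Pi1

namespace Groth.Agent.S0291

open AlgebraicGeometry CategoryTheory CategoryTheory.Limits in
/-- Let A be a Noetherian local ring and B a finite A-algebra such that the local rings of Spec B at all
closed points have depth at least 2. Then restriction from global sections of Spec B to sections
over the preimage of the punctured spectrum of A is an isomorphism. -/
theorem result (A B : Type u) [CommRing A] [IsNoetherianRing A] [IsLocalRing A] [CommRing B] [Algebra A B]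
    [Module.Finite A B]
    (h : ∀ (m : Ideal B) (_ : m.IsMaximal), (2 : ℕ∞) ≤ LocCoh.depth (Localization.AtPrime m) (Localization.AtPrime m)) :
    IsIso ((Spec (CommRingCat.of B)).presheaf.map (homOfLE (le_top :
      Spec.map (CommRingCat.ofHom (algebraMap A B)) ⁻¹ᵁ FEt.puncturedSpec A ≤ ⊤)).op) := by
  have : IsNoetherianRing B := IsNoetherianRing.of_finite A B
  set J : Ideal B := (IsLocalRing.maximalIdeal A).map (algebraMap A B) with hJ
  -- primes over `J` are maximal
  have hcomap : ∀ q : PrimeSpectrum B, J ≤ q.asIdeal ↔
      q.asIdeal.comap (algebraMap A B) = IsLocalRing.maximalIdeal A := by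
    intro q
    constructor
    · intro hq
      have h1 : IsLocalRing.maximalIdeal A ≤ q.asIdeal.comap (algebraMap A B) :=
        Ideal.map_le_iff_le_comap.mp hq
      have h2 : q.asIdeal.comap (algebraMap A B) ≤ IsLocalRing.maximalIdeal A :=
        IsLocalRing.le_maximalIdeal (Ideal.IsPrime.ne_top inferInstance)
      exact le_antisymm h2 h1
    · intro hq
      exact Ideal.map_le_iff_le_comap.mpr hq.ge
  have hopen : Spec.map (CommRingCat.ofHom (algebraMap A B)) ⁻¹ᵁ FEt.puncturedSpec A =
      EGA4.openCompl B J := by
    have hq : ∀ q' : PrimeSpectrum B,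
        (¬ (PrimeSpectrum.comap (algebraMap A B) q' = IsLocalRing.closedPoint A)) ↔
          ¬ (q' ∈ PrimeSpectrum.zeroLocus (J : Set B)) := by
      intro q'
      rw [PrimeSpectrum.mem_zeroLocus, SetLike.coe_subset_coe, hcomap q']
      constructor
      · intro h1 h2
        exact h1 (PrimeSpectrum.ext h2)
      · intro h1 h2
        exact h1 (congrArg PrimeSpectrum.asIdeal h2)
    ext q
    exact hq q
  have hbij : Function.Bijective (EGA4.restrCompl B J B) := by
    have hcl : EGA4.IsClosedAlong (PrimeSpectrum.zeroLocus (J : Set B)) B := by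
      rw [Groth.Agent.H71.ZC.isClosedAlong_iff_depth B _
        (PrimeSpectrum.isClosed_zeroLocus _).stableUnderSpecialization]
      intro p hp
      have hJp : J ≤ p.asIdeal := by
        rw [PrimeSpectrum.mem_zeroLocus, SetLike.coe_subset_coe] at hp
        exact hp
      have hmax : p.asIdeal.IsMaximal := by
        apply Ideal.isMaximal_of_isIntegral_of_isMaximal_comap (R := A)
        rw [(hcomap p).mp hJp]
        exact IsLocalRing.maximalIdeal.isMaximal A
      have h3 := Groth.Agent.H71.HC.le_depth_localizedModule_self p.asIdeal 2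
        (by rw [Nat.cast_ofNat]; exact h _ hmax)
      rwa [Nat.cast_ofNat] at h3
    exact hcl J subset_rfl
  have hbij' : Function.Bijective ((Spec (CommRingCat.of B)).presheaf.map
      (homOfLE (le_top : EGA4.openCompl B J ≤ ⊤)).op).hom := hbij
  have hiso : IsIso ((Spec (CommRingCat.of B)).presheaf.map
      (homOfLE (le_top : EGA4.openCompl B J ≤ ⊤)).op) :=
    (ConcreteCategory.isIso_iff_bijective _).mpr hbij'
  have key : ∀ (U V : (Spec (CommRingCat.of B)).Opens) (hUV : U = V),
      IsIso ((Spec (CommRingCat.of B)).presheaf.map (homOfLE (le_top : V ≤ ⊤)).op) →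
      IsIso ((Spec (CommRingCat.of B)).presheaf.map (homOfLE (le_top : U ≤ ⊤)).op) := by
    intro U V hUV hV
    subst hUV
    exact hV
  exact key _ _ hopen hiso

end Groth.Agent.S0291
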