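import Groth.Statements.S0293
import Mathlib
import Groth.Agent.H68.CodimOne
import Groth.Agent.H29.CM

set_option autoImplicit false
universe u
open Pi1

namespace Groth.Agent.S0293


open AlgebraicGeometry CategoryTheory CategoryTheory.Limits in
/-- Let X be a locally Noetherian scheme, U ⊆ X an open subset such that the local rings of X at points
outside U have depth at least 2, and π : Y → X a finite morphism which is étale over U and such that
the local rings of Y at points outside the preimage of U have depth at least 2. Then π is étale if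
and only if it is flat. -/
theorem result {X : Scheme.{u}} [IsLocallyNoetherian X] (U : X.Opens)
    (hU : ∀ x : X, x ∉ U → (2 : ℕ∞) ≤ LocCoh.depth (X.presheaf.stalk x) (X.presheaf.stalk x)) {Y : Scheme.{u}} (π : Y ⟶ X)
    [IsFinite π] [Etale (pullback.snd π U.ι)]
    (hY : ∀ y : Y, π.base y ∉ U → (2 : ℕ∞) ≤ LocCoh.depth (Y.presheaf.stalk y) (Y.presheaf.stalk y)) :
    Etale π ↔ Flat π := by
  constructor
  · intro h; infer_instance
  · intro hflat
    haveI := hflat
    refine Groth.Agent.H68.CodimOne.etale_of_etale_over_open π U (fun x hx => ?_)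
    have h2 := hU x hx
    have h3 := Groth.Agent.H29.CM.depth_le_supportDim (A := X.presheaf.stalk x)
      (M := X.presheaf.stalk x)
    rw [Module.supportDim_self_eq_ringKrullDim] at h3
    have h4 : ((2 : ℕ∞) : WithBot ℕ∞) ≤ ((LocCoh.depth (X.presheaf.stalk x) (X.presheaf.stalk x) : ℕ∞) : WithBot ℕ∞) :=
      WithBot.coe_le_coe.mpr h2
    exact le_trans h4 h3

end Groth.Agent.S0293
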