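import Groth.Statements.S0294
import Mathlib.LinearAlgebra.FreeModule.Finite.Matrix
import Mathlib.AlgebraicGeometry.Morphisms.Finite

set_option autoImplicit false
universe u
open Pi1

namespace Groth.Agent.S0294

open AlgebraicGeometry CategoryTheory CategoryTheory.Limits in
/-- For a finite étale cover Y of a scheme X and a point ξ : Spec Ω → X with values in a field Ω, the
fibre of Y over ξ (the set of Ω-valued points of Y lying over ξ) is finite. -/
theorem result {X : Scheme.{u}} {Ω : Type u} [Field Ω] (ξ : Spec (CommRingCat.of Ω) ⟶ X) (Y : FEt.Cat X) :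
    Finite (FEt.fiberObj ξ Y) := by
  haveI : IsFinite Y.hom := Y.prop.1
  haveI : IsFinite (pullback.snd Y.hom ξ) := inferInstance
  haveI : IsAffine (pullback Y.hom ξ) := isAffine_of_isAffineHom (pullback.snd Y.hom ξ)
  have hfin : RingHom.Finite (pullback.snd Y.hom ξ).appTop.hom :=
    ((HasAffineProperty.iff_of_isAffine (P := @IsFinite)).mp
      ‹IsFinite (pullback.snd Y.hom ξ)›).2
  let e := Scheme.ΓSpecIso (CommRingCat.of Ω)
  have hesurj : Function.Surjective e.inv.hom := fun x =>
    ⟨e.hom.hom x, by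
      have := congrArg (fun k => k.hom x) e.hom_inv_id
      simpa using this⟩
  let φ₀ : Ω →+* Γ(pullback Y.hom ξ, ⊤) := (pullback.snd Y.hom ξ).appTop.hom.comp e.inv.hom
  have hφ₀ : φ₀.Finite := hfin.comp (RingHom.Finite.of_surjective _ hesurj)
  letI : Algebra Ω Γ(pullback Y.hom ξ, ⊤) := φ₀.toAlgebra
  haveI : Module.Finite Ω Γ(pullback Y.hom ξ, ⊤) := hφ₀
  let L : FEt.fiberObj ξ Y → (Spec (CommRingCat.of Ω) ⟶ pullback Y.hom ξ) := fun s =>
    pullback.lift s.1 (𝟙 _) (by rw [s.2, Category.id_comp])
  let G : FEt.fiberObj ξ Y → (Γ(pullback Y.hom ξ, ⊤) →ₐ[Ω] Ω) := fun s =>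
    { toRingHom := e.hom.hom.comp (L s).appTop.hom
      commutes' := fun r => by
        have ht : L s ≫ pullback.snd Y.hom ξ = 𝟙 _ := pullback.lift_snd _ _ _
        have h1 : (pullback.snd Y.hom ξ).appTop ≫ (L s).appTop = 𝟙 _ := by
          rw [← Scheme.Hom.comp_appTop, ht, Scheme.Hom.id_appTop]
        have h2 : (L s).appTop.hom ((pullback.snd Y.hom ξ).appTop.hom (e.inv.hom r)) =
            e.inv.hom r := by
          have := congrArg (fun k => k.hom (e.inv.hom r)) h1
          simpa using this
        show e.hom.hom ((L s).appTop.hom ((pullback.snd Y.hom ξ).appTop.hom (e.inv.hom r))) = r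
        rw [h2]
        have := congrArg (fun k => k.hom r) e.inv_hom_id
        simpa using this }
  refine Finite.of_injective G ?_
  intro s s' h
  have h' : e.hom.hom.comp (L s).appTop.hom = e.hom.hom.comp (L s').appTop.hom :=
    congrArg AlgHom.toRingHom h
  have h'' : (L s).appTop ≫ e.hom = (L s').appTop ≫ e.hom := CommRingCat.hom_ext h'
  have h1 : (L s).appTop = (L s').appTop := (cancel_mono e.hom).mp h''
  have h2 : L s = L s' := ext_of_isAffine h1
  apply Subtype.ext
  have h3 := congrArg (· ≫ pullback.fst Y.hom ξ) h2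
  simpa [L, pullback.lift_fst] using h3

end Groth.Agent.S0294
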