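import Groth.Statements.S0321
import Groth.Agent.H15.ExtDepth

set_option autoImplicit false
universe u v
open LocCoh

namespace Groth.Agent.S0321

/-- Depth inequalities along a short exact sequence 0 → N' → N → N'' → 0 of finite modules over a
Noetherian ring: depth N ≥ min(depth N', depth N''), depth N'' ≥ min(depth N, depth N' − 1), depth
N' ≥ min(depth N, depth N'' + 1). -/
theorem result (R : Type u) [CommRing R] [IsNoetherianRing R] (I : Ideal R) (N' : Type u) [AddCommGroup N'] [Module R N'] [Module.Finite R N'] (N : Type u) [AddCommGroup N] [Module R N] [Module.Finite R N] (N'' : Type u) [AddCommGroup N''] [Module R N''] [Module.Finite R N''] (f : N' →ₗ[R] N) (g : N →ₗ[R] N'') (hf : Function.Injective f) (hg : Function.Surjective g) (hfg : Function.Exact f g) : min (LocCoh.idealDepth I N') (LocCoh.idealDepth I N'') ≤ LocCoh.idealDepth I N ∧ min (LocCoh.idealDepth I N) (LocCoh.idealDepth I N' - 1) ≤ LocCoh.idealDepth I N'' ∧ min (LocCoh.idealDepth I N) (LocCoh.idealDepth I N'' +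 1) ≤ LocCoh.idealDepth I N' := by
  have hcomp : g.comp f = 0 := hfg.linearMap_comp_eq_zero
  have hS : (ModuleCat.shortComplexOfCompEqZero f g hcomp).ShortExact :=
    ModuleCat.shortComplex_shortExact _ hfg hf hg
  have K' := Groth.Agent.H15.ExtDepth.le_idealDepth_iff_ext' I N'
  have K := Groth.Agent.H15.ExtDepth.le_idealDepth_iff_ext' I N
  have K'' := Groth.Agent.H15.ExtDepth.le_idealDepth_iff_ext' I N''
  refine ⟨?_, ?_, ?_⟩
  · rw [← ENat.forall_natCast_le_iff_le]
    intro n hn
    rw [le_min_iff] at hn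
    rw [K n]
    intro i hi
    exact Groth.Agent.H15.ExtDepth.subsingleton_ext_X₂ (ModuleCat.of R (R ⧸ I)) hS i
      ((K' n).mp hn.1 i hi) ((K'' n).mp hn.2 i hi)
  · rw [← ENat.forall_natCast_le_iff_le]
    intro n hn
    rw [le_min_iff] at hn
    rw [K'' n]
    intro i hi
    have hn1 : 1 ≤ n := by omega
    have h1 := Groth.Agent.H15.ExtDepth.enat_sub_one_aux hn1 hn.2
    exact Groth.Agent.H15.ExtDepth.subsingleton_ext_X₃ (ModuleCat.of R (R ⧸ I)) hS i
      ((K n).mp hn.1 i hi) ((K' (n + 1)).mp h1 (i + 1) (by omega))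
  · rw [← ENat.forall_natCast_le_iff_le]
    intro n hn
    rw [le_min_iff] at hn
    rw [K' n]
    intro i hi
    match i, hi with
    | 0, hi =>
      exact Groth.Agent.H15.ExtDepth.subsingleton_ext_X₁_zero (ModuleCat.of R (R ⧸ I)) hS
        ((K n).mp hn.1 0 hi)
    | j + 1, hi =>
      have h1 : ((j + 1 + 1 : ℕ) : ℕ∞) ≤ LocCoh.idealDepth I N'' + 1 :=
        le_trans (by exact_mod_cast (by omega : j + 1 + 1 ≤ n)) hn.2
      have h2 := Groth.Agent.H15.ExtDepth.enat_add_one_aux h1
      exact Groth.Agent.H15.ExtDepth.subsingleton_ext_X₁_succ (ModuleCat.of R (R ⧸ I)) hS j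
        ((K n).mp hn.1 (j + 1) hi) ((K'' (j + 1)).mp h2 j (Nat.lt_succ_self j))

end Groth.Agent.S0321
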