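import Groth.Statements.S1743
import Mathlib
import Groth.Agent.H58.LCAnn3

set_option autoImplicit false
universe u
open LocCoh

namespace Groth.Agent.S1743

/-- Let A be a Noetherian ring, J ⊆ I ideals and i ≥ 0. If H^i_I(A) is annihilated by J^n for some n,
then for every finite A-module M such that M_f is a projective A_f-module for every f in I, the
module H^i_I(M) is annihilated by J^m for some m. (The source allows any ring with finitely
generated ideals and finitely presented M.) -/
theorem result (A : Type u) [CommRing A] [IsNoetherianRing A] (J I : Ideal A) (hJI : J ≤ I) (i n : ℕ) (hA : ∀ a ∈ J ^ n, ∀ x : LocCoh.H I i A, a • x = 0) (M : Type u) [AddCommGroup M] [Module A M] [Module.Finite A M] (hM : ∀ f ∈ I, Module.Projective (Localization.Away f) (LocalizedModule (Submonoid.powers f) M)) : ∃ m : ℕ, ∀ a ∈ J ^ m, ∀ x : LocCoh.H I i M, a • x = 0 := by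
  let 𝔟 : Ideal A :=
    { carrier := {c | ∀ a ∈ J ^ n, ∀ x : LocCoh.H I i M, (c * a) • x = 0}
      zero_mem' := by
        intro a _ x
        rw [zero_mul, zero_smul]
      add_mem' := by
        intro c c' hc hc' a ha x
        rw [add_mul, add_smul, hc a ha x, hc' a ha x, add_zero]
      smul_mem' := by
        intro r c hc a ha x
        rw [smul_eq_mul, mul_assoc, mul_smul, hc a ha x, smul_zero] }
  have hI𝔟 : I ≤ 𝔟.radical := by
    intro f hf
    haveI : Module.Projective (Localization (Submonoid.powers f))
        (LocalizedModule (Submonoid.powers f) M) := hM f hf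
    obtain ⟨ι, _, _, u, v, s, hs, huv⟩ :=
      Groth.Agent.H58.LC.exists_factor_of_projective_localization M (Submonoid.powers f)
    obtain ⟨e, rfl⟩ := (Submonoid.mem_powers_iff s f).1 hs
    refine ⟨e, fun a ha x => ?_⟩
    rw [mul_comm]
    exact Groth.Agent.H58.LC.mul_smul_H_eq_zero_of_factor I i u v (f ^ e) huv a
      (fun z => Groth.Agent.H58.LC.smul_H_pi_eq_zero I i a (hA a ha) z) x
  obtain ⟨N, hN⟩ := Ideal.exists_pow_le_of_le_radical_of_fg hI𝔟 (IsNoetherian.noetherian I)
  refine ⟨N + n, fun a ha x => ?_⟩
  rw [pow_add] at ha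
  refine Submodule.mul_induction_on ha (fun r hr s hs => ?_) (fun y z hy hz => ?_)
  · exact hN (Ideal.pow_right_mono hJI N hr) s hs x
  · rw [add_smul, hy, hz, add_zero]

end Groth.Agent.S1743
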