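import Groth.Statements.S0334
import Mathlib
import Groth.Agent.H58.LCTop

set_option autoImplicit false
universe u v
open LocCoh

namespace Groth.Agent.S0334

/-- Over a Noetherian local ring of dimension d, multiplication by an element lying in no minimal prime
p with dim R/p = d is surjective on H^d_I(M) for every finite module M and every ideal I. -/
theorem result (R : Type u) [CommRing R] [IsLocalRing R] [IsNoetherianRing R] (I : Ideal R) (d : ℕ) (hd : ringKrullDim R = d) (f : R) (hf : ∀ p ∈ minimalPrimes R, ringKrullDim (R ⧸ p) = d → f ∉ p) (M : Type u) [AddCommGroup M] [Module R M] [Module.Finite R M] : Function.Surjective (fun x : LocCoh.H I d M => f • x) := by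
  have hq : Subsingleton (LocCoh.H I d (QuotSMulTop f M)) :=
    Groth.Agent.H58.LC.subsingleton_H_of_supportDim_lt I _ d
      (Groth.Agent.H58.LC.supportDim_quotSMulTop_lt d hd f hf M)
  have hK : Subsingleton (LocCoh.H I (d + 1) (LinearMap.ker (LinearMap.lsmul R M f))) := by
    apply Groth.Agent.H58.LC.subsingleton_H_of_supportDim_lt
    calc Module.supportDim R (LinearMap.ker (LinearMap.lsmul R M f)) ≤ ringKrullDim R :=
          Module.supportDim_le_ringKrullDim R _
      _ = (d : WithBot ℕ∞) := hd
      _ < ((d + 1 : ℕ) : WithBot ℕ∞) := by exact_mod_cast Nat.lt_succ_self d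
  exact Groth.Agent.H58.LC.smul_surjective_H I d f M hq hK

end Groth.Agent.S0334
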