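import Groth.Statements.S0335
import Groth.Agent.H26.DepthExt
import Mathlib.RingTheory.Ideal.MinimalPrime.Localization
import Mathlib.RingTheory.Noetherian.Nilpotent

set_option autoImplicit false
universe u v
open LocCoh

namespace Groth.Agent.S0335

open RingTheory.Sequence Groth.Agent.H26.DepthLib Groth.Agent.H26.DepthExt CategoryTheory in
open scoped Pointwise in
lemma exists_regular_pair (R : Type u) [CommRing R] [IsLocalRing R] [IsNoetherianRing R]
    (h : 2 ≤ LocCoh.depth R R) (K : Ideal R) (hK : K ≠ ⊤) (k : ℕ)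
    (hk : IsLocalRing.maximalIdeal R ^ k ≤ K) :
    ∃ a b : R, a ∈ K ∧ b ∈ K ∧ IsSMulRegular R a ∧
      ∀ x x' : R, b * x = a * x' → ∃ t, x = a * t := by
  have hsmul_le : ∀ K : Ideal R, K • (⊤ : Submodule R R) ≤ K := fun K =>
    Submodule.smul_le.2 (fun r hr n _ => K.mul_mem_right n hr)
  have hne : ∀ K : Ideal R, K ≠ ⊤ → K • (⊤ : Submodule R R) ≠ ⊤ := fun K hK h' =>
    hK (top_le_iff.1 (h' ▸ hsmul_le K))
  have h2 : ((2 : ℕ) : ℕ∞) ≤ LocCoh.idealDepth (IsLocalRing.maximalIdeal R) R := by
    have h' : (2 : ℕ∞) ≤ LocCoh.idealDepth (IsLocalRing.maximalIdeal R) R := h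
    exact_mod_cast h'
  obtain ⟨rs, hlen, hreg, hmem⟩ := exists_of_le_idealDepth (IsLocalRing.maximalIdeal R) 2 h2
    (hne _ (IsLocalRing.maximalIdeal.isMaximal R).ne_top)
  have hann : Module.annihilator R (ModuleCat.of R (R ⧸ K)) = K := Ideal.annihilator_quotient
  have hext : ∀ i < 2,
      Subsingleton (Abelian.Ext (ModuleCat.of R (R ⧸ K)) (ModuleCat.of R R) i) := by
    intro i hi
    refine Groth.Agent.S5150.main (IsLocalRing.maximalIdeal R) k (ModuleCat.of R (R ⧸ K)) ?_
      (ModuleCat.of R R) rs hmem hreg i (by rw [hlen]; exact hi)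
    intro a ha
    rw [hann]
    exact hk (Ideal.pow_mem_pow ha k)
  have h2K := (le_idealDepth_iff_ext K R 2).2 hext
  obtain ⟨rs', hlen', hreg', hmem'⟩ := exists_of_le_idealDepth K 2 h2K (hne K hK)
  obtain ⟨a, b, rfl⟩ := List.length_eq_two.1 hlen'
  rw [isWeaklyRegular_cons_iff, isWeaklyRegular_singleton_iff] at hreg'
  obtain ⟨ha, hb⟩ := hreg'
  refine ⟨a, b, hmem' a (by simp), hmem' b (by simp), ha, ?_⟩
  intro x x' hxx'
  have hmem0 : b • x ∈ a • (⊤ : Submodule R R) := by
    have h3 : b • x = a • x' := hxx'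
    rw [h3]
    exact Submodule.smul_mem_pointwise_smul x' a ⊤ Submodule.mem_top
  have h1 : b • ((a • (⊤ : Submodule R R)).mkQ x) = b • (0 : QuotSMulTop a R) := by
    rw [smul_zero, ← map_smul]
    exact (Submodule.Quotient.mk_eq_zero _).2 hmem0
  have h2' : (a • (⊤ : Submodule R R)).mkQ x = 0 := hb h1
  have h3 : x ∈ a • (⊤ : Submodule R R) := (Submodule.Quotient.mk_eq_zero _).1 h2'
  rw [Submodule.mem_smul_pointwise_iff_exists] at h3
  obtain ⟨t, -, ht⟩ := h3
  exact ⟨t, ht.symm⟩

/-- For the ring itself; Hartshorne's connectedness: if a Noetherian local ring has depth at least 2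
then its punctured spectrum is connected. -/
theorem result (R : Type u) [CommRing R] [IsLocalRing R] [IsNoetherianRing R] (h : 2 ≤ LocCoh.depth R R) : IsConnected {x : PrimeSpectrum R | x.asIdeal ≠ IsLocalRing.maximalIdeal R} := by
  classical
  have hreg0 : ∀ {a : R}, IsSMulRegular R a → ∀ x : R, a * x = 0 → x = 0 := by
    intro a ha x hx
    apply ha
    show a • x = a • 0
    rw [smul_zero]
    exact hx
  constructor
  · -- nonempty
    obtain ⟨a, b, ha, -, hareg, -⟩ := exists_regular_pair R h (IsLocalRing.maximalIdeal R)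
      (IsLocalRing.maximalIdeal.isMaximal R).ne_top 1 (by rw [pow_one])
    obtain ⟨p, hp⟩ := Ideal.nonempty_minimalPrimes (I := (⊥ : Ideal R)) bot_ne_top
    refine ⟨⟨p, hp.1.1⟩, ?_⟩
    show (⟨p, hp.1.1⟩ : PrimeSpectrum R).asIdeal ≠ IsLocalRing.maximalIdeal R
    intro hpm
    have hpm' : p = IsLocalRing.maximalIdeal R := hpm
    have hdisj := Ideal.disjoint_nonZeroDivisors_of_mem_minimalPrimes
      (show p ∈ minimalPrimes R from hp)
    have hamem : a ∈ nonZeroDivisors R := by
      rw [mem_nonZeroDivisors_iff]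
      exact ⟨fun x hx => hreg0 hareg x hx,
        fun x hx => hreg0 hareg x (by rw [mul_comm]; exact hx)⟩
    have hap : a ∈ (p : Set R) := by
      rw [hpm']
      exact ha
    exact Set.disjoint_left.1 hdisj hap hamem
  · rw [isPreconnected_closed_iff]
    intro t t' ht ht' hcov hnt hnt'
    obtain ⟨I, rfl⟩ := (PrimeSpectrum.isClosed_iff_zeroLocus_ideal t).1 ht
    obtain ⟨J, rfl⟩ := (PrimeSpectrum.isClosed_iff_zeroLocus_ideal t').1 ht'
    by_contra hempty
    rw [Set.not_nonempty_iff_eq_empty] at hempty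
    have memZ : ∀ (L : Ideal R) (x : PrimeSpectrum R),
        x ∈ PrimeSpectrum.zeroLocus (L : Set R) ↔ L ≤ x.asIdeal :=
      fun L x => (PrimeSpectrum.mem_zeroLocus x L).trans SetLike.coe_subset_coe
    have hIm : I ≤ IsLocalRing.maximalIdeal R := by
      obtain ⟨x, -, hxI⟩ := hnt
      exact ((memZ I x).1 hxI).trans (IsLocalRing.le_maximalIdeal x.isPrime.ne_top)
    have hJm : J ≤ IsLocalRing.maximalIdeal R := by
      obtain ⟨x, -, hxJ⟩ := hnt'
      exact ((memZ J x).1 hxJ).trans (IsLocalRing.le_maximalIdeal x.isPrime.ne_top)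
    have hIJ : ∀ x : PrimeSpectrum R, I ≤ x.asIdeal ∨ J ≤ x.asIdeal := by
      intro x
      by_cases hx : x.asIdeal = IsLocalRing.maximalIdeal R
      · left
        rw [hx]
        exact hIm
      · rcases hcov (show x ∈ {x : PrimeSpectrum R | x.asIdeal ≠ IsLocalRing.maximalIdeal R}
          from hx) with h1 | h1
        · exact Or.inl ((memZ I x).1 h1)
        · exact Or.inr ((memZ J x).1 h1)
    have hboth : ∀ x : PrimeSpectrum R, I ≤ x.asIdeal → J ≤ x.asIdeal →
        x.asIdeal = IsLocalRing.maximalIdeal R := by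
      intro x h1 h2
      by_contra hx
      have h3 : x ∈ {x : PrimeSpectrum R | x.asIdeal ≠ IsLocalRing.maximalIdeal R} ∩
          (PrimeSpectrum.zeroLocus (I : Set R) ∩ PrimeSpectrum.zeroLocus (J : Set R)) :=
        ⟨hx, (memZ I x).2 h1, (memZ J x).2 h2⟩
      rw [hempty] at h3
      exact h3
    have hnil : I * J ≤ nilradical R := by
      rw [nilradical, Ideal.radical_eq_sInf]
      refine le_sInf ?_
      rintro p ⟨-, hp⟩
      rcases hIJ ⟨p, hp⟩ with h1 | h1
      · exact (Ideal.mul_le_inf.trans inf_le_left).trans h1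
      · exact (Ideal.mul_le_inf.trans inf_le_right).trans h1
    obtain ⟨N, hN⟩ := IsNoetherianRing.isNilpotent_nilradical R
    have hN0 : N ≠ 0 := by
      rintro rfl
      rw [pow_zero, Ideal.one_eq_top] at hN
      exact top_ne_bot hN
    have hIJN : I ^ N * J ^ N = ⊥ := by
      rw [← mul_pow]
      exact le_bot_iff.1 ((Ideal.pow_right_mono hnil N).trans (le_of_eq hN))
    have hzero : ∀ u ∈ I ^ N, ∀ v ∈ J ^ N, u * v = 0 := by
      intro u hu v hv
      have h1 : u * v ∈ I ^ N * J ^ N := Ideal.mul_mem_mul hu hv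
      rw [hIJN] at h1
      exact (Submodule.mem_bot R).1 h1
    have hK_le : I ^ N ⊔ J ^ N ≤ IsLocalRing.maximalIdeal R :=
      sup_le ((Ideal.pow_le_self hN0).trans hIm) ((Ideal.pow_le_self hN0).trans hJm)
    have hKtop : I ^ N ⊔ J ^ N ≠ ⊤ := by
      intro h1
      rw [h1] at hK_le
      exact (IsLocalRing.maximalIdeal.isMaximal R).ne_top (top_le_iff.1 hK_le)
    have hrad : IsLocalRing.maximalIdeal R ≤ (I ^ N ⊔ J ^ N).radical := by
      rw [Ideal.radical_eq_sInf]
      refine le_sInf ?_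
      rintro p ⟨hKp, hp⟩
      haveI := hp
      have h1 : I ≤ p := Ideal.IsPrime.le_of_pow_le (le_sup_left.trans hKp)
      have h2 : J ≤ p := Ideal.IsPrime.le_of_pow_le (le_sup_right.trans hKp)
      exact le_of_eq (hboth ⟨p, hp⟩ h1 h2).symm
    obtain ⟨k, hk⟩ := Ideal.exists_pow_le_of_le_radical_of_fg hrad
      (IsNoetherian.noetherian (IsLocalRing.maximalIdeal R))
    obtain ⟨a, b, haK, hbK, hareg, hab⟩ := exists_regular_pair R h (I ^ N ⊔ J ^ N) hKtop k hk
    obtain ⟨x, hx, y, hy, rfl⟩ := Submodule.mem_sup.1 haK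
    obtain ⟨x', hx', y', hy', rfl⟩ := Submodule.mem_sup.1 hbK
    have e1 : x * y' = 0 := hzero x hx y' hy'
    have e2 : x' * y = 0 := hzero x' hx' y hy
    have key : (x' + y') * x = (x + y) * x' := by linear_combination e1 - e2
    obtain ⟨t, ht⟩ := hab x x' key
    by_cases htm : t ∈ IsLocalRing.maximalIdeal R
    · have hu : IsUnit (1 - t) :=
        IsLocalRing.isUnit_one_sub_self_of_mem_nonunits t ((IsLocalRing.mem_maximalIdeal t).1 htm)
      obtain ⟨w, hw⟩ := hu
      have e3 : x * (1 - t) = y * t := by linear_combination ht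
      have h1 : (1 - t) * (↑w⁻¹ : R) = 1 := by
        rw [← hw]
        exact Units.mul_inv w
      have hxeq : x = (y * t) * (↑w⁻¹ : R) := by
        linear_combination (-x) * h1 + (↑w⁻¹ : R) * e3
      have hxJ : x ∈ J ^ N := by
        rw [hxeq]
        exact (J ^ N).mul_mem_right _ ((J ^ N).mul_mem_right _ hy)
      have hI'bot : ∀ i ∈ I ^ N, i = 0 := by
        intro i hi
        apply hreg0 hareg
        have e4 : i * x = 0 := hzero i hi x hxJ
        have e5 : i * y = 0 := hzero i hi y hy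
        linear_combination e4 + e5
      have hIall : ∀ z : PrimeSpectrum R, I ≤ z.asIdeal := by
        intro z
        haveI := z.isPrime
        have h5 : I ^ N ≤ z.asIdeal := fun i hi => by
          rw [hI'bot i hi]
          exact zero_mem _
        exact Ideal.IsPrime.le_of_pow_le h5
      obtain ⟨z, hzs, hzJ⟩ := hnt'
      have h6 : z ∈ {x : PrimeSpectrum R | x.asIdeal ≠ IsLocalRing.maximalIdeal R} ∩
          (PrimeSpectrum.zeroLocus (I : Set R) ∩ PrimeSpectrum.zeroLocus (J : Set R)) :=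
        ⟨hzs, (memZ I z).2 (hIall z), hzJ⟩
      rw [hempty] at h6
      exact h6
    · have hu : IsUnit t := by
        by_contra hnu
        exact htm ((IsLocalRing.mem_maximalIdeal t).2 hnu)
      obtain ⟨w, hw⟩ := hu
      have h1 : t * (↑w⁻¹ : R) = 1 := by
        rw [← hw]
        exact Units.mul_inv w
      have haeq : x + y = x * (↑w⁻¹ : R) := by
        linear_combination (-(x + y)) * h1 - (↑w⁻¹ : R) * ht
      have haI : x + y ∈ I ^ N := by
        rw [haeq]
        exact (I ^ N).mul_mem_right _ hx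
      have hJ'bot : ∀ j ∈ J ^ N, j = 0 := by
        intro j hj
        apply hreg0 hareg
        exact hzero (x + y) haI j hj
      have hJall : ∀ z : PrimeSpectrum R, J ≤ z.asIdeal := by
        intro z
        haveI := z.isPrime
        have h5 : J ^ N ≤ z.asIdeal := fun j hj => by
          rw [hJ'bot j hj]
          exact zero_mem _
        exact Ideal.IsPrime.le_of_pow_le h5
      obtain ⟨z, hzs, hzI⟩ := hnt
      have h6 : z ∈ {x : PrimeSpectrum R | x.asIdeal ≠ IsLocalRing.maximalIdeal R} ∩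
          (PrimeSpectrum.zeroLocus (I : Set R) ∩ PrimeSpectrum.zeroLocus (J : Set R)) :=
        ⟨hzs, hzI, (memZ J z).2 (hJall z)⟩
      rw [hempty] at h6
      exact h6

end Groth.Agent.S0335
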