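import Groth.Statements.S0337
import Mathlib

set_option autoImplicit false
universe u v
open CategoryTheory
open LocCoh

namespace Groth.Agent.S0337

open TensorProduct ChangeOfRings

section
variable {p : ℕ} [Fact p.Prime] {R : Type u} [CommRing R] [CharP R p]
variable {M : Type u} [AddCommGroup M] [Module R M]

/-- dual-basis condition modulo `J` -/
def D {r : ℕ} (m : Fin r → M) (J : Ideal R) : Prop :=
  ∃ l : M →ₗ[R] (Fin r → R ⧸ J), ∀ j, l (m j) = Pi.single j 1

/-- the map induced by Frobenius on quotients -/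
noncomputable def φq (p : ℕ) [Fact p.Prime] [CharP R p] (J J' : Ideal R)
    (hJ : ∀ a ∈ J, a ^ p ∈ J') : R ⧸ J →+* R ⧸ J' :=
  Ideal.Quotient.lift J ((Ideal.Quotient.mk J').comp (frobenius R p)) (fun a ha => by
    rw [RingHom.comp_apply, frobenius_def]
    exact Ideal.Quotient.eq_zero_iff_mem.mpr (hJ a ha))

lemma φq_mk (J J' : Ideal R) (hJ : ∀ a ∈ J, a ^ p ∈ J') (a : R) :
    φq p J J' hJ (Ideal.Quotient.mk J a) = Ideal.Quotient.mk J' (a ^ p) := by
  simp [φq, frobenius_def]

noncomputable def lsemi {r : ℕ} (J J' : Ideal R) (hJ : ∀ a ∈ J, a ^ p ∈ J')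
    (l : M →ₗ[R] (Fin r → R ⧸ J)) :
    M →ₛₗ[frobenius R p] (Fin r → R ⧸ J') where
  toFun x := fun j => φq p J J' hJ (l x j)
  map_add' x y := by ext j; simp
  map_smul' a x := by
    ext j
    simp only [map_smul, Pi.smul_apply]
    rw [Algebra.smul_def, map_mul, Ideal.Quotient.algebraMap_eq, φq_mk, Algebra.smul_def,
      Ideal.Quotient.algebraMap_eq, frobenius_def]

set_option backward.isDefEq.respectTransparency false in
lemma D_step {r : ℕ} (m : Fin r → M) (hspan : Submodule.span R (Set.range m) = ⊤)
    (g : ((ModuleCat.extendScalars (frobenius R p)).obj (ModuleCat.of R M)) ≅ ModuleCat.of R M)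
    (J J' : Ideal R) (hJ : ∀ a ∈ J, a ^ p ∈ J') (h : D m J) : D m J' := by
  classical
  obtain ⟨l, hl⟩ := h
  let l' : ModuleCat.of R M ⟶ (ModuleCat.restrictScalars (frobenius R p)).obj
      (ModuleCat.of R (Fin r → R ⧸ J')) :=
    ModuleCat.semilinearMapAddEquiv (frobenius R p) (ModuleCat.of R M)
      (ModuleCat.of R (Fin r → R ⧸ J')) (lsemi J J' hJ l)
  let Λ : (ModuleCat.extendScalars (frobenius R p)).obj (ModuleCat.of R M) ⟶
      ModuleCat.of R (Fin r → R ⧸ J') :=
    ((ModuleCat.extendRestrictScalarsAdj (frobenius R p)).homEquiv _ _).symm l'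
  let e : M → ↑((ModuleCat.extendScalars (frobenius R p)).obj (ModuleCat.of R M)) := fun x =>
    (((ModuleCat.extendRestrictScalarsAdj (frobenius R p)).homEquiv (ModuleCat.of R M)
      ((ModuleCat.extendScalars (frobenius R p)).obj (ModuleCat.of R M))) (𝟙 _)).hom x
  have hΛ : ∀ x : M, Λ.hom (e x) = fun j => φq p J J' hJ (l x j) := by
    intro x
    have h1 := ((ModuleCat.extendRestrictScalarsAdj (frobenius R p)).homEquiv
      (ModuleCat.of R M) (ModuleCat.of R (Fin r → R ⧸ J'))).apply_symm_apply l'
    have h2 : (ModuleCat.extendRestrictScalarsAdj (frobenius R p)).homEquiv _ _ Λ =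
        (ModuleCat.extendRestrictScalarsAdj (frobenius R p)).homEquiv _ _ (𝟙 _) ≫
          (ModuleCat.restrictScalars (frobenius R p)).map Λ := by
      rw [← Adjunction.homEquiv_naturality_right, Category.id_comp]
    rw [h2] at h1
    have h3 := congrArg (fun φ => φ.hom x) h1
    exact h3
  let μ : M →ₗ[R] (Fin r → R ⧸ J') := Λ.hom ∘ₗ g.inv.hom
  let n : Fin r → M := fun j => g.hom.hom (e (m j))
  have hμn : ∀ j, μ (n j) = Pi.single j 1 := by
    intro j
    have h1 : g.inv.hom (n j) = e (m j) := by
      have := congrArg (fun φ => φ.hom (e (m j))) g.hom_inv_id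
      exact this
    show Λ.hom (g.inv.hom (n j)) = _
    rw [h1, hΛ, hl]
    ext i
    by_cases hij : i = j
    · subst hij; simp
    · simp [Pi.single_eq_of_ne hij]
  -- change of generators
  have hθ : ∀ j, ∃ c : Fin r → R, ∑ i, c i • m i = n j := by
    intro j
    have : n j ∈ Submodule.span R (Set.range m) := by rw [hspan]; trivial
    exact (Submodule.mem_span_range_iff_exists_fun R).mp this
  choose θ hθ using hθ
  let Θ : Matrix (Fin r) (Fin r) (R ⧸ J') := fun i j => Ideal.Quotient.mk J' (θ j i)
  let L : Matrix (Fin r) (Fin r) (R ⧸ J') := fun k i => μ (m i) k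
  have hLΘ : L * Θ = 1 := by
    ext k j
    have h1 := congrFun (hμn j) k
    rw [← hθ j, map_sum] at h1
    simp only [map_smul, Finset.sum_apply, Pi.smul_apply] at h1
    rw [Matrix.mul_apply, Matrix.one_apply]
    rw [Pi.single_apply] at h1
    rw [← h1]
    apply Finset.sum_congr rfl
    intro i _
    show μ (m i) k * Ideal.Quotient.mk J' (θ j i) = θ j i • μ (m i) k
    rw [Algebra.smul_def, Ideal.Quotient.algebraMap_eq, mul_comm]
  have hΘL : Θ * L = 1 := mul_eq_one_comm.mp hLΘ
  refine ⟨(Θ.mulVecLin.restrictScalars R) ∘ₗ μ, fun i => ?_⟩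
  ext k
  show (Θ.mulVec (μ (m i))) k = _
  have h2 := congrFun (congrFun hΘL k) i
  rw [Matrix.mul_apply, Matrix.one_apply] at h2
  rw [Matrix.mulVec, Pi.single_apply]
  exact h2

end

/-- Over a Noetherian local ring of prime characteristic p, a finite module isomorphic to its own base
change along Frobenius is free. -/
theorem result (p : ℕ) [Fact p.Prime] (R : Type u) [CommRing R] [IsLocalRing R] [IsNoetherianRing R] [CharP R p] (M : Type u) [AddCommGroup M] [Module R M] [Module.Finite R M] (h : Nonempty ((ModuleCat.extendScalars (frobenius R p)).obj (ModuleCat.of R M) ≅ ModuleCat.of R M)) : Module.Free R M := by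
  classical
  obtain ⟨g⟩ := h
  have hp : p.Prime := Fact.out
  -- minimal generators from a basis of the fibre
  let b := Module.finBasis (IsLocalRing.ResidueField R) ((IsLocalRing.ResidueField R) ⊗[R] M)
  have hsurj := TensorProduct.mk_surjective R M (IsLocalRing.ResidueField R)
    Ideal.Quotient.mk_surjective
  choose m hm using fun i => hsurj (b i)
  have hm' : ∀ i, (1 : IsLocalRing.ResidueField R) ⊗ₜ[R] m i = b i := hm
  have hspan : Submodule.span R (Set.range m) = ⊤ :=
    IsLocalRing.span_eq_top_of_tmul_eq_basis m b hm'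
  have hD1 : D m (IsLocalRing.maximalIdeal R) := by
    refine ⟨(b.equivFun.toLinearMap.restrictScalars R) ∘ₗ
      (TensorProduct.mk R (IsLocalRing.ResidueField R) M 1), fun j => ?_⟩
    show b.equivFun ((1 : IsLocalRing.ResidueField R) ⊗ₜ[R] m j) = _
    rw [hm' j]
    funext i
    have h1 := Module.Basis.equivFun_self b j i
    rw [Pi.single_apply]
    by_cases hij : i = j
    · subst hij
      rw [if_pos rfl] at h1 ⊢
      exact h1
    · rw [if_neg hij]
      rw [if_neg (Ne.symm hij)] at h1
      exact h1
  have hDt : ∀ t : ℕ, D m (IsLocalRing.maximalIdeal R ^ (t + 1)) := by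
    intro t
    induction t with
    | zero => rw [zero_add, pow_one]; exact hD1
    | succ t ih =>
      refine D_step m hspan g _ _ (fun a ha => ?_) ih
      have h1 := Ideal.pow_mem_pow ha p
      rw [← pow_mul] at h1
      refine Ideal.pow_le_pow_right ?_ h1
      have := hp.two_le
      nlinarith
  have hli : LinearIndependent R m := by
    rw [Fintype.linearIndependent_iff]
    intro c hc j
    have hmem : ∀ t : ℕ, c j ∈ IsLocalRing.maximalIdeal R ^ (t + 1) := by
      intro t
      obtain ⟨l, hl⟩ := hDt t
      have h1 := congrArg l hc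
      rw [map_sum, map_zero] at h1
      simp only [map_smul, hl] at h1
      have h2 := congrFun h1 j
      simp only [Finset.sum_apply, Pi.smul_apply, Pi.single_apply, Pi.zero_apply] at h2
      rw [Finset.sum_eq_single j] at h2
      · rw [if_pos rfl, Algebra.smul_def, mul_one, Ideal.Quotient.algebraMap_eq] at h2
        exact Ideal.Quotient.eq_zero_iff_mem.mp h2
      · intro i _ hij
        rw [if_neg (Ne.symm hij), smul_zero]
      · intro h; exact absurd (Finset.mem_univ j) h
    have hbot := Ideal.iInf_pow_eq_bot_of_isLocalRing (IsLocalRing.maximalIdeal R)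
      (Ideal.IsPrime.ne_top')
    have : c j ∈ ⨅ i : ℕ, IsLocalRing.maximalIdeal R ^ i := by
      rw [Ideal.mem_iInf]
      intro i
      rcases i with _ | i
      · simp
      · exact hmem i
    rw [hbot] at this
    exact this
  exact Module.Free.of_basis (Module.Basis.mk hli (by rw [hspan]))

end Groth.Agent.S0337
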