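import Groth.Statements.S0338
import Groth.Agent.H71.FrobInj3
import Groth.Agent.H71.FrobInj4
import Groth.Agent.H71.FrobInj5

set_option autoImplicit false
universe u v
open CategoryTheory
open LocCoh

namespace Groth.Agent.S0338

/-- Over a regular local ring of prime characteristic p, let M be a module killed elementwise by powers
of the maximal ideal and isomorphic to its own base change along Frobenius; then M is isomorphic to
a (possibly infinite) sum of copies of E, where E is an injective hull of the residue field. -/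
theorem result (p : ℕ) [Fact p.Prime] (R : Type u) [CommRing R] [IsRegularLocalRing R] [CharP R p] (E : Type u) [AddCommGroup E] [Module R E] (f : IsLocalRing.ResidueField R →ₗ[R] E) (hf : InjHull.IsInjectiveHull f) (M : Type u) [AddCommGroup M] [Module R M] (hM : LocCoh.IsPowerTorsion (IsLocalRing.maximalIdeal R) M) (h : Nonempty ((ModuleCat.extendScalars (frobenius R p)).obj (ModuleCat.of R M) ≅ ModuleCat.of R M)) : ∃ ι : Type u, Nonempty (M ≃ₗ[R] (ι →₀ E)) := by
  classical
  open Groth.Agent.H71.FrobInj IsLocalRing in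
  obtain ⟨θ⟩ := h
  obtain ⟨x, hx⟩ := Groth.Agent.H34.KunzReg.exists_gens R
  have hd : ringKrullDim R = ((IsLocalRing.maximalIdeal R).spanFinrank : ℕ) :=
    (IsRegularLocalRing.spanFinrank_maximalIdeal (R := R)).symm
  -- a basis of the socle
  let V : Submodule R M := Submodule.torsionBySet R M (IsLocalRing.maximalIdeal R : Set R)
  letI : Field (R ⧸ IsLocalRing.maximalIdeal R) := Ideal.Quotient.field (IsLocalRing.maximalIdeal R)
  let J := Module.Free.ChooseBasisIndex (R ⧸ IsLocalRing.maximalIdeal R) V
  let b : Module.Basis J (R ⧸ IsLocalRing.maximalIdeal R) V :=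
    Module.Free.chooseBasis (R ⧸ IsLocalRing.maximalIdeal R) V
  let ρ : V ≃ₗ[R] (J →₀ (R ⧸ IsLocalRing.maximalIdeal R)) := b.repr.restrictScalars R
  -- the torsion submodules are free over the Frobenius power quotients
  have hfree : ∀ e : ℕ, Nonempty
      (Submodule.torsionBySet R M (Groth.Agent.H71.FrobInj.powIdeal x (p ^ e) : Set R) ≃ₗ[R]
        (J →₀ R ⧸ Groth.Agent.H71.FrobInj.powIdeal x (p ^ e))) := by
    intro e
    induction e with
    | zero =>
      have h1 : Groth.Agent.H71.FrobInj.powIdeal x (p ^ 0) = IsLocalRing.maximalIdeal R := by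
        rw [pow_zero, Groth.Agent.H71.FrobInj.powIdeal_one, hx]
      rw [h1]
      exact ⟨ρ⟩
    | succ e ih =>
      obtain ⟨e0⟩ := ih
      rw [pow_succ]
      exact Groth.Agent.H71.FrobInj.step_frob p R M θ x (p ^ e) J e0
  -- hence `M` is injective
  have hinj : Module.Injective R M := by
    refine Groth.Agent.H71.FrobInj.injective_of_relInj M hM
      (fun e => Groth.Agent.H71.FrobInj.powIdeal x (p ^ e)) ?_ ?_
    · intro n
      refine ⟨n, le_trans (Groth.Agent.H71.FrobInj.powIdeal_le_pow x hx _)
        (Ideal.pow_le_pow_right ?_)⟩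
      exact (Nat.lt_pow_self (Fact.out : p.Prime).one_lt).le
    · intro e
      obtain ⟨e0⟩ := hfree e
      obtain ⟨hN, hI⟩ := Groth.Agent.H71.FrobInj.injective_quot _ hd x hx (p ^ e)
        (Nat.one_le_pow _ _ (Fact.out : p.Prime).pos)
      haveI := hN
      exact Groth.Agent.H71.FrobInj.relInj_of_equiv e0
        (Groth.Agent.H71.FrobInj.relInj_finsupp _ hI J)
  exact Groth.Agent.H71.FrobInj.iso_of_injective_torsion E f hf M hM hinj

end Groth.Agent.S0338
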