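import Groth.Statements.S0349
import Groth.Agent.H37.GrpObjGrpd
import Groth.Agent.H37.GrpdDense
import Groth.Agent.H37.FieldBase
open CategoryTheory.Limits

set_option autoImplicit false
universe u v
open CategoryTheory MonoidalCategory CartesianMonoidalCategory MonObj GrpObj AlgebraicGeometry
open GrpSch

namespace Groth.Agent.S0349

/-- An irreducible group scheme over a field is quasi-compact. -/
theorem result (K : Type u) [Field K] (G : Over (Spec (CommRingCat.of K))) [GrpObj G] [IrreducibleSpace G.left] : CompactSpace G.left := by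
  obtain ⟨x⟩ : Nonempty G.left := inferInstance
  obtain ⟨U, hU, hxU, -⟩ := exists_isAffineOpen_mem_and_subset (X := G.left) (x := x)
    (U := ⊤) trivial
  have hUd : Dense (U : Set G.left) := U.2.dense ⟨x, hxU⟩
  have hUO : ∀ {X : Scheme.{u}} (f : X ⟶ (Groth.Agent.H37.GrpObjGrpd.ofGrpObj G).U),
      UniversallyOpen f := fun f =>
    Groth.Agent.H37.univOpen_of_iso_spec_field K (Iso.refl _) f
  haveI : IsAffine (U : Scheme) := hU
  haveI : CompactSpace ↑(pullback (U.ι ≫ G.hom) (U.ι ≫ G.hom)) := inferInstance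
  have e1 : (U.ι ≫ G.hom) ≫ 𝟙 _ = U.ι ≫ G.hom := Category.comp_id _
  have hsurj : Function.Surjective
      ⇑(pullback.map (U.ι ≫ G.hom) (U.ι ≫ G.hom) G.hom G.hom U.ι U.ι (𝟙 _) e1 e1 ≫
        (Groth.Agent.H37.GrpObjGrpd.ofGrpObj G).c) := by
    intro g
    obtain ⟨ζ, hζA, hζB, hζ⟩ := Groth.Agent.H37.GrpdCalc.exists_mul_of_dense
      (Groth.Agent.H37.GrpObjGrpd.ofGrpObj G) hUO U U hUd hUd g
    have hr : ζ ∈ Set.range
        ⇑(pullback.map (U.ι ≫ G.hom) (U.ι ≫ G.hom) G.hom G.hom U.ι U.ι (𝟙 _) e1 e1) := by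
      rw [Scheme.Pullback.range_map]
      refine ⟨?_, ?_⟩
      · show _ ∈ Set.range ⇑U.ι
        rw [Scheme.Opens.range_ι]; exact hζA
      · show _ ∈ Set.range ⇑U.ι
        rw [Scheme.Opens.range_ι]; exact hζB
    obtain ⟨p, rfl⟩ := hr
    exact ⟨p, by rw [Scheme.Hom.comp_apply]; exact hζ⟩
  exact hsurj.compactSpace (Scheme.Hom.continuous _)

end Groth.Agent.S0349
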