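import Groth.Statements.S0350
import Groth.Agent.H93.GrpIrr

set_option autoImplicit false
universe u v
open CategoryTheory MonoidalCategory CartesianMonoidalCategory MonObj GrpObj AlgebraicGeometry
open GrpSch

namespace Groth.Agent.S0350

/-- Let G be a group scheme over a field K. Then for every point x of G the local ring O_{G,x} has at
most one (hence exactly one) minimal prime, and there is exactly one irreducible component of G
passing through the identity point. The published statement also asserts that this component is
geometrically irreducible, which is not asserted here. -/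
theorem result (K : Type u) [Field K] (G : Over (Spec (CommRingCat.of K))) [GrpObj G] : (∀ x : G.left, (minimalPrimes (G.left.presheaf.stalk x)).Subsingleton) ∧ ∃! Z : Set G.left, Z ∈ irreducibleComponents (G.left : Type u) ∧ η[G].left (IsLocalRing.closedPoint K) ∈ Z := by
  have hU : ∀ x : G.left, Groth.Agent.H93.GrpIrr.UniqueComp G.left x :=
    fun x => Groth.Agent.H93.GrpIrr.uniqueComp_point G x
  refine ⟨fun x => Groth.Agent.H93.GrpIrr.minimalPrimes_subsingleton_of_uniqueComp (hU x), ?_⟩
  obtain ⟨Z, hZ, he⟩ :=
    Groth.Agent.H93.GrpIrr.exists_comp_mem (η[G].left (IsLocalRing.closedPoint K))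
  exact ⟨Z, ⟨hZ, he⟩, fun Z' h' => hU _ Z' h'.1 Z hZ h'.2 he⟩

end Groth.Agent.S0350
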