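import Groth.Statements.S7462
import Groth.Agent.S7457
import Groth.Agent.H37.FieldBase

set_option autoImplicit false
universe u
open CategoryTheory CategoryTheory.Limits AlgebraicGeometry
open Grpd

namespace Groth.Agent.S7462

/-- Consider two groupoid schemes (U, R_1, s_1, t_1, c_1) and (U, R_2, s_2, t_2, c_2) over S, where U is
the spectrum of a field, together with a map a : R_1 -> R_2 respecting source, target and
composition (in the Lean: a morphism of groupoid schemes whose object-scheme component is an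
isomorphism). Write Z for the closure in R_2 of the image of a. Then, as a map of sets, c_2 sends Z
x_(s_2,U,t_2) Z into Z: any point of R_2 x_(s_2,U,t_2) R_2 with both projections in Z has its
c_2-image in Z. (Here a groupoid scheme over S consists of U, R, s, t, c, e, i satisfying the
groupoid axioms on T-points; c lives on the fibre product of s and t and takes a pair (a, b) with
s(a) = t(b) to the composite of a with b.) -/
theorem result (S : Scheme.{u}) (G₁ G₂ : Grpd.GroupoidScheme S) (f : Grpd.GroupoidScheme.Hom G₁ G₂) [IsIso f.fU] (k : Type u) [Field k] (eU : G₂.U ≅ Spec (CommRingCat.of k)) (p : ↑(pullback G₂.s G₂.t)) (h₁ : pullback.fst G₂.s G₂.t p ∈ closure (Set.range ⇑f.fR)) (h₂ : pullback.snd G₂.s G₂.t p ∈ closure (Set.range ⇑f.fR)) : G₂.c p ∈ closure (Set.range ⇑f.fR) := by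
  have hp := Groth.Agent.H37.mem_closure_inter_of_field_base
    (IsPullback.of_hasPullback G₂.s G₂.t) k eU (Set.range ⇑f.fR) (Set.range ⇑f.fR) p h₁ h₂
  have hsub : ⇑G₂.c '' (⇑(pullback.fst G₂.s G₂.t) ⁻¹' Set.range ⇑f.fR ∩
      ⇑(pullback.snd G₂.s G₂.t) ⁻¹' Set.range ⇑f.fR) ⊆ Set.range ⇑f.fR := by
    rintro _ ⟨q, ⟨⟨x1, hx1⟩, ⟨x2, hx2⟩⟩, rfl⟩
    obtain ⟨T1, a1, w1, e1, hs1⟩ := Groth.Agent.H37.exists_bc f.fR (pullback.fst G₂.s G₂.t)
    obtain ⟨τ1, hτ1a, hτ1b⟩ := hs1 x1 q hx1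
    obtain ⟨T2, a2, w2, e2, hs2⟩ :=
      Groth.Agent.H37.exists_bc f.fR (w1 ≫ pullback.snd G₂.s G₂.t)
    obtain ⟨τ2, hτ2a, hτ2b⟩ := hs2 x2 τ1 (by rw [Scheme.Hom.comp_apply, hτ1b]; exact hx2)
    have hαf : (w2 ≫ a1) ≫ f.fR = (w2 ≫ w1) ≫ pullback.fst G₂.s G₂.t := by
      simp only [Category.assoc, e1]
    have hβf : a2 ≫ f.fR = (w2 ≫ w1) ≫ pullback.snd G₂.s G₂.t := by
      rw [e2]
      simp only [Category.assoc]
    have hst : (w2 ≫ a1) ≫ G₁.s = a2 ≫ G₁.t := by
      rw [← cancel_mono f.fU]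
      calc ((w2 ≫ a1) ≫ G₁.s) ≫ f.fU = ((w2 ≫ a1) ≫ f.fR) ≫ G₂.s := by
            simp only [Category.assoc, f.comm_s]
        _ = ((w2 ≫ w1) ≫ pullback.fst G₂.s G₂.t) ≫ G₂.s := by rw [hαf]
        _ = ((w2 ≫ w1) ≫ pullback.snd G₂.s G₂.t) ≫ G₂.t := by
            simp only [Category.assoc, pullback.condition]
        _ = (a2 ≫ f.fR) ≫ G₂.t := by rw [hβf]
        _ = (a2 ≫ G₁.t) ≫ f.fU := by simp only [Category.assoc, f.comm_t]
    have hcc := f.comm_c (w2 ≫ a1) a2 hst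
    have hlift : ∀ h, pullback.lift ((w2 ≫ a1) ≫ f.fR) (a2 ≫ f.fR) h = w2 ≫ w1 := by
      intro h
      apply pullback.hom_ext
      · rw [pullback.lift_fst, hαf]
      · rw [pullback.lift_snd, hβf]
    rw [hlift] at hcc
    refine ⟨(pullback.lift (w2 ≫ a1) a2 hst ≫ G₁.c) τ2, ?_⟩
    rw [← Scheme.Hom.comp_apply, hcc, Scheme.Hom.comp_apply, Scheme.Hom.comp_apply, hτ2b, hτ1b]
  exact closure_mono hsub (image_closure_subset_closure_image G₂.c.continuous ⟨p, hp, rfl⟩)

end Groth.Agent.S7462
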