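import Groth.Statements.S1892
import Mathlib
import Groth.Agent.H37.GrpdHom2
import Groth.Agent.S7462
open Groth.Agent.H37.GrpdCalc

set_option autoImplicit false
universe u
open CategoryTheory CategoryTheory.Limits AlgebraicGeometry
open Grpd

namespace Groth.Agent.S1892

/-- Let (U₁, R₁, s, t, c) and (U₂, R₂, s, t, c) be groupoid schemes over S with U₂ isomorphic to Spec k
for a field k, and a : R₁ → R₂ a morphism of groupoid schemes which is an isomorphism on objects. If
a(R₁) is locally closed in R₂ then it is closed. (A groupoid scheme carries U, R, s, t, c, e, i over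
S satisfying the groupoid axioms on T-points.) -/
theorem result (S : Scheme.{u}) (G₁ G₂ : Grpd.GroupoidScheme S) (k : Type u) [Field k] (eU : G₂.U ≅ Spec (CommRingCat.of k)) (a : Grpd.GroupoidScheme.Hom G₁ G₂) [IsIso a.fU] (hlc : IsLocallyClosed (Set.range ⇑a.fR)) : IsClosed (Set.range ⇑a.fR) := by
  obtain ⟨O, C, hOo, hCc, hWOC⟩ := hlc
  rw [← closure_subset_iff_isClosed]
  intro r' hr'
  -- `W = O ∩ closure W`
  have hWZ : ∀ x, x ∈ O → x ∈ closure (Set.range ⇑a.fR) → x ∈ Set.range ⇑a.fR := by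
    intro x hxO hxZ
    rw [hWOC]
    refine ⟨hxO, ?_⟩
    have : closure (Set.range ⇑a.fR) ⊆ C := by
      rw [hWOC]; exact closure_minimal Set.inter_subset_right hCc
    exact this hxZ
  have hWO : Set.range ⇑a.fR ⊆ O := by rw [hWOC]; exact Set.inter_subset_left
  obtain ⟨q, hq1, hq2, hq3⟩ := exists_point_translate G₂ k eU ⟨O, hOo⟩
    (fun u => hWO (e_mem_range a u)) r' _ hr'
  -- the point `(r'⁻¹, r' o)`
  have hψw : (pullback.fst G₂.s G₂.t ≫ G₂.i) ≫ G₂.s = G₂.c ≫ G₂.t := by
    rw [Category.assoc, G₂.i_s, c_t]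
  have hψc : pullback.lift (pullback.fst G₂.s G₂.t ≫ G₂.i) G₂.c hψw ≫ G₂.c =
      pullback.snd G₂.s G₂.t := by
    rw [lift_c, c_eq_mul]
    exact i_mul_mul pullback.condition rfl
  have h1 : pullback.fst G₂.s G₂.t (pullback.lift (pullback.fst G₂.s G₂.t ≫ G₂.i) G₂.c hψw q) ∈
      closure (Set.range ⇑a.fR) := by
    rw [← Scheme.Hom.comp_apply, pullback.lift_fst, Scheme.Hom.comp_apply, hq1]
    exact i_mem_closure_range a r' hr'
  have h2 : pullback.snd G₂.s G₂.t (pullback.lift (pullback.fst G₂.s G₂.t ≫ G₂.i) G₂.c hψw q) ∈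
      closure (Set.range ⇑a.fR) := by
    rw [← Scheme.Hom.comp_apply, pullback.lift_snd]
    exact subset_closure hq3
  have h3 := Groth.Agent.S7462.result S G₁ G₂ a k eU _ h1 h2
  rw [← Scheme.Hom.comp_apply, hψc] at h3
  have ho : pullback.snd G₂.s G₂.t q ∈ Set.range ⇑a.fR := hWZ _ hq2 h3
  rw [← hq1]
  exact fst_mem_range a q ho hq3

end Groth.Agent.S1892
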