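import Groth.Statements.S0351
import Mathlib
import Groth.Agent.H37.GrpObjGrpd
import Groth.Agent.S1892
open Groth.Agent.H37.GrpObjGrpd

set_option autoImplicit false
universe u v
open CategoryTheory MonoidalCategory CartesianMonoidalCategory MonObj GrpObj AlgebraicGeometry
open GrpSch

namespace Groth.Agent.S0351

/-- A homomorphism of group schemes over a field which is an immersion is a closed immersion. -/
theorem result (K : Type u) [Field K] (H G : Over (Spec (CommRingCat.of K))) [GrpObj H] [GrpObj G] (i : H ⟶ G) [IsMonHom i] [IsImmersion i.left] : IsClosedImmersion i.left := by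
  haveI : IsIso (homOfMonHom i).fU := by
    show IsIso (𝟙 _); infer_instance
  have hlc : IsLocallyClosed (Set.range ⇑i.left) := IsImmersion.isLocallyClosed_range
  have hcl : IsClosed (Set.range ⇑i.left) :=
    Groth.Agent.S1892.result _ (ofGrpObj H) (ofGrpObj G) K (Iso.refl _) (homOfMonHom i) hlc
  exact IsClosedImmersion.of_isPreimmersion i.left hcl

end Groth.Agent.S0351
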