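import Groth.Statements.S1891
import Mathlib
import Groth.Agent.H37.GrpdHom
import Groth.Agent.S1889
open Groth.Agent.H37.GrpdCalc

set_option autoImplicit false
universe u
open CategoryTheory CategoryTheory.Limits AlgebraicGeometry
open Grpd

namespace Groth.Agent.S1891

/-- Let (U, R₁, s₁, t₁, c₁) and (U, R₂, s₂, t₂, c₂) be groupoid schemes over S on the same U = Spec k, k
a field, and a : R₁ → R₂ a morphism of groupoid schemes over the identity of U (here: over an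
isomorphism on objects). If a(R₁) is open in R₂ then it is closed. (A groupoid scheme carries U, R,
s, t, c, e, i over S with the groupoid axioms on T-points; 'finite locally free' is finite, flat and
locally of finite presentation; C ⊂ Γ(U) is the ring of functions a with s♯(a) = t♯(a) and M = Spec
C.) -/
theorem result (S : Scheme.{u}) (G₁ G₂ : Grpd.GroupoidScheme S) (k : Type u) [Field k] (eU : G₂.U ≅ Spec (CommRingCat.of k)) (a : Grpd.GroupoidScheme.Hom G₁ G₂) [IsIso a.fU] (hopen : IsOpen (Set.range ⇑a.fR)) : IsClosed (Set.range ⇑a.fR) := by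
  rw [← closure_subset_iff_isClosed]
  intro r' hr'
  obtain ⟨Wo, hWo⟩ : ∃ Wo : G₂.R.Opens, (Wo : Set G₂.R) = Set.range ⇑a.fR := ⟨⟨_, hopen⟩, rfl⟩
  obtain ⟨ρ, hρ⟩ : ∃ ρ, ρ = G₂.R.fromSpecResidueField r' := ⟨_, rfl⟩
  have hρpt : ∀ z, ρ z = r' := by
    intro z; rw [hρ]; exact Scheme.fromSpecResidueField_apply r' z
  have hmopen := Groth.Agent.S1889.result S G₂ k eU Wo _ ρ
  obtain ⟨m', hm'1, hm'2⟩ : ∃ m' : pullback (ρ ≫ G₂.s) (Wo.ι ≫ G₂.t) ⟶ pullback G₂.s G₂.t,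
      m' ≫ pullback.fst G₂.s G₂.t = pullback.fst (ρ ≫ G₂.s) (Wo.ι ≫ G₂.t) ≫ ρ ∧
      m' ≫ pullback.snd G₂.s G₂.t = pullback.snd (ρ ≫ G₂.s) (Wo.ι ≫ G₂.t) ≫ Wo.ι :=
    ⟨pullback.lift _ _ ((Category.assoc _ _ _).trans
      (pullback.condition.trans (Category.assoc _ _ _).symm)),
      pullback.lift_fst _ _ _, pullback.lift_snd _ _ _⟩
  have hm'eq : ∀ w, pullback.lift (pullback.fst (ρ ≫ G₂.s) (Wo.ι ≫ G₂.t) ≫ ρ)
      (pullback.snd (ρ ≫ G₂.s) (Wo.ι ≫ G₂.t) ≫ Wo.ι) w = m' := by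
    intro w
    apply pullback.hom_ext
    · rw [pullback.lift_fst, hm'1]
    · rw [pullback.lift_snd, hm'2]
  rw [hm'eq] at hmopen
  -- the identity lies in the image
  have hε₀ : Set.range ⇑(ρ ≫ G₂.s ≫ G₂.e) ⊆ Set.range ⇑Wo.ι := by
    rw [Scheme.Opens.range_ι, hWo]
    rintro _ ⟨z, rfl⟩
    rw [Scheme.Hom.comp_apply, Scheme.Hom.comp_apply]
    exact e_mem_range a _
  obtain ⟨ε₁, hε₁⟩ : ∃ ε₁, ε₁ ≫ Wo.ι = ρ ≫ G₂.s ≫ G₂.e :=
    ⟨IsOpenImmersion.lift Wo.ι _ hε₀, IsOpenImmersion.lift_fac _ _ _⟩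
  have hw : 𝟙 _ ≫ ρ ≫ G₂.s = ε₁ ≫ Wo.ι ≫ G₂.t := by
    rw [← Category.assoc ε₁, hε₁, Category.id_comp, Category.assoc, Category.assoc, G₂.e_t,
      Category.comp_id]
  have hr'mem : r' ∈ Set.range ⇑(m' ≫ G₂.c) := by
    have hcomp : pullback.lift (𝟙 _) ε₁ hw ≫ m' ≫ G₂.c = ρ := by
      rw [← Category.assoc, comp_c, Category.assoc, Category.assoc, hm'1, hm'2,
        pullback.lift_fst_assoc, pullback.lift_snd_assoc, Category.id_comp, hε₁]
      exact mul_e rfl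
    refine ⟨(pullback.lift (𝟙 _) ε₁ hw) default, ?_⟩
    rw [← Scheme.Hom.comp_apply, hcomp]
    exact hρpt _
  obtain ⟨y, ⟨ζ, hζ⟩, hyW⟩ := mem_closure_iff.mp hr' _ hmopen hr'mem
  have hfst : pullback.fst G₂.s G₂.t (m' ζ) = r' := by
    rw [← Scheme.Hom.comp_apply, hm'1, Scheme.Hom.comp_apply]
    exact hρpt _
  have hsnd : pullback.snd G₂.s G₂.t (m' ζ) ∈ Set.range ⇑a.fR := by
    rw [← Scheme.Hom.comp_apply, hm'2, Scheme.Hom.comp_apply, ← hWo, ← Scheme.Opens.range_ι]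
    exact Set.mem_range_self _
  have hc : G₂.c (m' ζ) ∈ Set.range ⇑a.fR := by
    rw [← Scheme.Hom.comp_apply, hζ]
    exact hyW
  rw [← hfst]
  exact fst_mem_range a _ hsnd hc

end Groth.Agent.S1891
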