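import Groth.Statements.S0358
import Groth.Agent.H29.FlatDepthMod2
import Groth.Agent.H29.CM3
set_option maxHeartbeats 400000
set_option linter.style.haveILetI false
open RingTheory.Sequence IsLocalRing Groth.Agent.H15.Depth

set_option autoImplicit false
universe u v
open LocCoh

namespace Groth.Agent.S0358

/-- For a flat local homomorphism R → S of Noetherian local rings whose closed fibre S/m_R S is
Cohen–Macaulay, and a proper ideal I of S, the I-depth of S is at least dim(S/m_R S) − dim(S/(m_R S
+ I)); stated additively. -/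
theorem result (R : Type u) [CommRing R] [IsLocalRing R] [IsNoetherianRing R] (S : Type u) [CommRing S] [IsLocalRing S] [IsNoetherianRing S] [Algebra R S] [IsLocalHom (algebraMap R S)] [Module.Flat R S] (hCM : LocCoh.IsCohenMacaulayLocalRing (S ⧸ (IsLocalRing.maximalIdeal R).map (algebraMap R S))) (I : Ideal S) (hI : I ≠ ⊤) : ringKrullDim (S ⧸ (IsLocalRing.maximalIdeal R).map (algebraMap R S)) ≤ ringKrullDim (S ⧸ ((IsLocalRing.maximalIdeal R).map (algebraMap R S) ⊔ I)) + ((LocCoh.idealDepth I S : ℕ∞) : WithBot ℕ∞) := by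
  haveI := hCM
  have hmSle : (maximalIdeal R).map (algebraMap R S) ≤ maximalIdeal S :=
    IsLocalRing.map_maximalIdeal_le (algebraMap R S)
  have hIle : I ≤ maximalIdeal S := IsLocalRing.le_maximalIdeal hI
  have hIbar : I.map (Ideal.Quotient.mk ((maximalIdeal R).map (algebraMap R S))) ≠ ⊤ := by
    intro h
    have h1 : (I.map (Ideal.Quotient.mk ((maximalIdeal R).map (algebraMap R S)))).comap
        (Ideal.Quotient.mk ((maximalIdeal R).map (algebraMap R S))) = ⊤ := by
      rw [h]; exact Ideal.comap_top
    rw [Ideal.comap_map_of_surjective _ Ideal.Quotient.mk_surjective, ← RingHom.ker_eq_comap_bot,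
      Ideal.mk_ker] at h1
    exact (maximalIdeal.isMaximal S).ne_top (top_le_iff.mp (h1 ▸ sup_le hIle hmSle))
  have hCMmod : LocCoh.IsCohenMacaulayModule (S ⧸ (maximalIdeal R).map (algebraMap R S))
      (S ⧸ (maximalIdeal R).map (algebraMap R S)) := hCM.supportDim_eq_depth
  have hformula := Groth.Agent.H29.CM.supportDim_eq_add_idealDepth_of_isCM hCMmod hIbar
  have hsmul : (I.map (Ideal.Quotient.mk ((maximalIdeal R).map (algebraMap R S))) •
      (⊤ : Submodule (S ⧸ (maximalIdeal R).map (algebraMap R S))
        (S ⧸ (maximalIdeal R).map (algebraMap R S)))) =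
      I.map (Ideal.Quotient.mk ((maximalIdeal R).map (algebraMap R S))) := by simp
  rw [Module.supportDim_self_eq_ringKrullDim,
    Module.supportDim_eq_of_equiv (Submodule.quotEquivOfEq _ _ hsmul),
    Module.supportDim_quotient_eq_ringKrullDim,
    ringKrullDim_eq_of_ringEquiv
      (DoubleQuot.quotQuotEquivQuotSup ((maximalIdeal R).map (algebraMap R S)) I)] at hformula
  have hdepth : LocCoh.idealDepth (I.map (Ideal.Quotient.mk ((maximalIdeal R).map (algebraMap R S))))
      (S ⧸ (maximalIdeal R).map (algebraMap R S)) ≤ LocCoh.idealDepth I S := by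
    rw [← ENat.forall_natCast_le_iff_le]
    intro n hn
    have hIbarF : I.map (Ideal.Quotient.mk ((maximalIdeal R).map (algebraMap R S))) •
        (⊤ : Submodule (S ⧸ (maximalIdeal R).map (algebraMap R S))
          (S ⧸ (maximalIdeal R).map (algebraMap R S))) ≠ ⊤ := by
      rw [hsmul]; exact hIbar
    obtain ⟨rsb, hw, hmem, hlen⟩ := (le_idealDepth_iff hIbarF n).mp hn
    have hlift : ∀ x ∈ I.map (Ideal.Quotient.mk ((maximalIdeal R).map (algebraMap R S))),
        ∃ y ∈ I, Ideal.Quotient.mk ((maximalIdeal R).map (algebraMap R S)) y = x := fun x hx =>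
      (Ideal.mem_map_iff_of_surjective _ Ideal.Quotient.mk_surjective).mp hx
    classical
    let lift : (S ⧸ (maximalIdeal R).map (algebraMap R S)) → S := fun x =>
      if h : x ∈ I.map (Ideal.Quotient.mk ((maximalIdeal R).map (algebraMap R S))) then
        (hlift x h).choose else 0
    have hlift1 : ∀ x ∈ I.map (Ideal.Quotient.mk ((maximalIdeal R).map (algebraMap R S))),
        lift x ∈ I ∧ Ideal.Quotient.mk ((maximalIdeal R).map (algebraMap R S)) (lift x) = x := by
      intro x hx
      simp only [lift, dif_pos hx]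
      exact (hlift x hx).choose_spec
    have hrs : (rsb.map lift).map (algebraMap S (S ⧸ (maximalIdeal R).map (algebraMap R S))) =
        rsb := by
      rw [List.map_map]
      exact (List.map_congr_left fun x hx => (hlift1 x (hmem x hx)).2).trans (List.map_id _)
    have hw1 : IsWeaklyRegular (S ⧸ (maximalIdeal R).map (algebraMap R S)) (rsb.map lift) := by
      rw [← isWeaklyRegular_map_algebraMap_iff (S ⧸ (maximalIdeal R).map (algebraMap R S))
        (S ⧸ (maximalIdeal R).map (algebraMap R S)) (rsb.map lift), hrs]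
      exact hw
    have hsmulS : ((maximalIdeal R).map (algebraMap R S) • (⊤ : Submodule S S)) =
        (maximalIdeal R).map (algebraMap R S) := by simp
    have hw2 : IsWeaklyRegular
        (S ⧸ ((maximalIdeal R).map (algebraMap R S) • (⊤ : Submodule S S))) (rsb.map lift) :=
      ((Submodule.quotEquivOfEq _ _ hsmulS).isWeaklyRegular_congr (rsb.map lift)).mpr hw1
    have hw3 := (Groth.Agent.H57.isWeaklyRegular_and_flat_of_fibre (A := R) (B := S)
      (rsb.map lift) S hw2).1
    refine le_idealDepth_of_hasSeq ⟨rsb.map lift, hw3, fun r hr => ?_, by simp [hlen]⟩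
    obtain ⟨x, hx, rfl⟩ := List.mem_map.mp hr
    exact (hlift1 x (hmem x hx)).1
  rw [hformula]
  exact add_le_add le_rfl (WithBot.coe_le_coe.mpr hdepth)

end Groth.Agent.S0358
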