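import Groth.Statements.S0359
import Groth.Agent.H15.DepthSpread2

set_option autoImplicit false
universe u v
open LocCoh

namespace Groth.Agent.S0359

/-- For a finite module M over a Noetherian ring and a prime p with depth(M_p) = e finite, there is a
basic open neighbourhood of p in V(p) on which the depth of the localizations of M is at least e,
and it exceeds e at all but finitely many of those primes. -/
theorem result (R : Type u) [CommRing R] [IsNoetherianRing R] (M : Type u) [AddCommGroup M] [Module R M] [Module.Finite R M] (p : Ideal R) [p.IsPrime] (e : ℕ) (he : LocCoh.depth (Localization.AtPrime p) (LocalizedModule p.primeCompl M) = e) : ∃ f : R, f ∉ p ∧ (∀ (q : Ideal R) [q.IsPrime], p ≤ q → f ∉ q → (e : ℕ∞) ≤ LocCoh.depth (Localization.AtPrime q) (LocalizedModule q.primeCompl M)) ∧ {q : PrimeSpectrum R | p ≤ q.asIdeal ∧ f ∉ q.asIdeal ∧ LocCoh.depth (Localization.AtPrime q.asIdeal) (LocalizedModule q.asIdeal.primeCompl M) = e}.Finite := by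
  have hmap : p.map (algebraMap R (Localization.AtPrime p)) =
      IsLocalRing.maximalIdeal (Localization.AtPrime p) :=
    IsLocalization.AtPrime.map_eq_maximalIdeal p (Localization.AtPrime p)
  have hIM : (IsLocalRing.maximalIdeal (Localization.AtPrime p)) •
      (⊤ : Submodule (Localization.AtPrime p) (LocalizedModule p.primeCompl M)) ≠ ⊤ := by
    intro h
    have h3 : LocCoh.depth (Localization.AtPrime p) (LocalizedModule p.primeCompl M) = ⊤ :=
      Groth.Agent.H15.Depth.idealDepth_eq_top_of_smul_top_eq_top h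
    rw [h3] at he
    exact ENat.top_ne_natCast e he
  have hseq : Groth.Agent.H15.Depth.HasSeq (p.map (algebraMap R (Localization.AtPrime p)))
      (LocalizedModule p.primeCompl M) e := by
    rw [hmap]
    exact (Groth.Agent.H15.Depth.le_idealDepth_iff hIM e).mp he.ge
  obtain ⟨f₁, hf₁, h₁⟩ :=
    Groth.Agent.H15.DepthSpread.exists_notMem_forall_le_idealDepth p p e M hseq
  obtain ⟨f₂, hf₂, T, hT, h₂⟩ := Groth.Agent.H15.DepthSpread.exists_finite_of_depth_eq p e M hseq
  refine ⟨f₁ * f₂, fun h => (‹p.IsPrime›.mem_or_mem h).elim hf₁ hf₂, ?_, ?_⟩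
  · intro q _ hpq hq
    have hq₁ : f₁ ∉ q := fun h => hq (q.mul_mem_right _ h)
    refine le_trans (h₁ q hq₁) ?_
    apply Groth.Agent.H15.DepthSpread.le_idealDepth_of_le
    rw [Ideal.map_le_iff_le_comap]
    intro a ha
    rw [Ideal.mem_comap]
    exact (IsLocalization.AtPrime.to_map_mem_maximal_iff (Localization.AtPrime q) q a).mpr (hpq ha)
  · have hsub : {q : PrimeSpectrum R | p ≤ q.asIdeal ∧ f₁ * f₂ ∉ q.asIdeal ∧
        LocCoh.depth (Localization.AtPrime q.asIdeal)
          (LocalizedModule q.asIdeal.primeCompl M) = e} ⊆ PrimeSpectrum.asIdeal ⁻¹' T := by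
      rintro q ⟨hpq, hq, hd⟩
      have hq₂ : f₂ ∉ q.asIdeal := fun h => hq (q.asIdeal.mul_mem_left _ h)
      exact h₂ q.asIdeal hpq hq₂ hd
    refine Set.Finite.subset (Set.Finite.preimage ?_ hT) hsub
    intro a _ b _ hab
    exact PrimeSpectrum.ext hab

end Groth.Agent.S0359
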