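import Groth.Statements.S0363
import Groth.Agent.H2.TorExtDual
import Groth.Agent.H72.GorType
import Groth.Agent.H2.Matlis1

set_option autoImplicit false
universe u v
open CategoryTheory
open Goren

open CategoryTheory CategoryTheory.Abelian IsLocalRing

namespace Groth.Agent.S0363



/-- Over a Gorenstein local ring of dimension d with E an injective hull of the residue field κ,
Tor_i(E, κ) vanishes for i ≠ d and Tor_d(E, κ) is isomorphic to κ. -/
theorem result (A : Type u) [CommRing A] [LocCoh.IsGorensteinLocalRing A] (d : ℕ) (hd : ringKrullDim A = d) (E : Type u) [AddCommGroup E] [Module A E] (f : IsLocalRing.ResidueField A →ₗ[A] E) (hf : InjHull.IsInjectiveHull f) : (∀ i : ℕ, i ≠ d → Limits.IsZero (((Tor (ModuleCat.{u} A) i).obj (ModuleCat.of A E)).obj (ModuleCat.of A (IsLocalRing.ResidueField A)))) ∧ Nonempty ((((Tor (ModuleCat.{u} A) d).obj (ModuleCat.of A E)).obj (ModuleCat.of A (IsLocalRing.ResidueField A))) ≅ ModuleCat.of A (IsLocalRing.ResidueField A)) := by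
  haveI : Module.Injective A E := hf.isInjective
  obtain ⟨hv, hlen⟩ := Groth.Agent.H72.GorType.ext_kk_gorenstein A d hd
  haveI : Module.Finite A (A ⧸ maximalIdeal A) :=
    Module.Finite.of_surjective (Submodule.mkQ (maximalIdeal A)) (Submodule.mkQ_surjective _)
  have key : ∀ j : ℕ, Nonempty ((((Tor (ModuleCat.{u} A) j).obj (ModuleCat.of A E)).obj
      (ModuleCat.of A (IsLocalRing.ResidueField A))) ≃ₗ[A]
      (Ext.{u} (ModuleCat.of A (A ⧸ maximalIdeal A)) (ModuleCat.of A A) j →ₗ[A] E)) := fun j => by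
    have h := Groth.Agent.H2.TorExtDual.torExtDual (A := A) E j (A ⧸ maximalIdeal A)
    exact h
  constructor
  · intro i hi
    obtain ⟨e⟩ := key i
    haveI := hv i hi
    haveI : Subsingleton (Ext.{u} (ModuleCat.of A (A ⧸ maximalIdeal A)) (ModuleCat.of A A) i →ₗ[A] E) :=
      ⟨fun a b => LinearMap.ext fun x => by rw [Subsingleton.elim x 0, map_zero, map_zero]⟩
    haveI := e.toEquiv.subsingleton
    exact ModuleCat.isZero_of_subsingleton _
  · obtain ⟨e⟩ := key d
    have hfl : IsFiniteLength A (Ext.{u} (ModuleCat.of A (A ⧸ maximalIdeal A)) (ModuleCat.of A A) d) := by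
      rw [← Module.length_ne_top_iff]
      change Module.length A (Ext.{u} (ModuleCat.of A (A ⧸ maximalIdeal A)) (ModuleCat.of A A) d) = 1 at hlen
      rw [hlen]; simp
    have h1 := Groth.Agent.H2.Matlis.length_dual hf _ hfl
    change Module.length A (Ext.{u} (ModuleCat.of A (A ⧸ maximalIdeal A)) (ModuleCat.of A A) d) = 1 at hlen
    rw [hlen, ← e.length_eq] at h1
    have hs : IsSimpleModule A (((Tor (ModuleCat.{u} A) d).obj (ModuleCat.of A E)).obj
        (ModuleCat.of A (IsLocalRing.ResidueField A))) := Module.length_eq_one_iff.1 h1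
    obtain ⟨I, hI, ⟨e2⟩⟩ := isSimpleModule_iff_quot_maximal.1 hs
    obtain rfl : I = maximalIdeal A := IsLocalRing.eq_maximalIdeal hI
    exact ⟨e2.toModuleIso⟩

end Groth.Agent.S0363
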