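import Groth.Statements.S0366
import Groth.Agent.H12.DualDim

set_option autoImplicit false
universe u v
open CategoryTheory
attribute [local instance] HasDerivedCategory.standard
open Dual

namespace Groth.Agent.S0366

/-- Let A be a Noetherian local ring with a normalized dualizing complex ω and M a finite A-module whose
support has dimension d. Then for every integer i the A-module Ext^i(M, ω) = Hom_{D(A)}(M, ω[i]) is
nonzero only if −d ≤ i ≤ 0, and its support has dimension at most −i (read as 0 when i > 0). -/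
theorem result (A : Type u) [CommRing A] [IsLocalRing A] [IsNoetherianRing A] (ω : Dual.D A) (hω : Dual.IsDualizing A ω) (hn : Dual.IsNormalized A ω) (M : Type u) [AddCommGroup M] [Module A M] [Module.Finite A M] (d : ℕ) (hd : Module.supportDim A M = d) (i : ℤ) : (Nontrivial (Dual.inD A M ⟶ ω⟦i⟧) → (-(d : ℤ) ≤ i ∧ i ≤ 0)) ∧ Module.supportDim A (Dual.inD A M ⟶ ω⟦i⟧) ≤ ((-i).toNat : WithBot ℕ∞) := by
  have hpos := Groth.Agent.H12.DualDepth.dualizing_hpos ω hω hn
  constructor
  · intro hnt
    by_contra hcon
    have hv : Groth.Agent.H12.DualDepth.Van ω i (ModuleCat.of A M) := by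
      by_cases hi : 0 < i
      · exact hpos M i hi
      · have hlt : i < -(d : ℤ) := by
          by_contra h
          exact hcon ⟨by omega, by omega⟩
        obtain ⟨δ, rfl⟩ : ∃ δ : ℕ, i = -(δ : ℤ) := ⟨(-i).toNat, by omega⟩
        refine Groth.Agent.H12.DualDepth.van_of_supportDim_lt ω hω hn M δ ?_
        rw [hd]
        have hdδ : d < δ := by omega
        show ((d : ℕ∞) : WithBot ℕ∞) < ((δ : ℕ∞) : WithBot ℕ∞)
        exact WithBot.coe_lt_coe.2 (by exact_mod_cast hdδ)
    haveI : Subsingleton (Dual.inD A M ⟶ ω⟦i⟧) :=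
      (Groth.Agent.H12.DualDepth.van_iff_subsingleton ω i (ModuleCat.of A M)).1 hv
    exact false_of_nontrivial_of_subsingleton (Dual.inD A M ⟶ ω⟦i⟧)
  · by_cases hi : 0 < i
    · haveI : Subsingleton (Dual.inD A M ⟶ ω⟦i⟧) :=
        (Groth.Agent.H12.DualDepth.van_iff_subsingleton ω i (ModuleCat.of A M)).1 (hpos M i hi)
      rw [Module.supportDim_eq_bot_of_subsingleton]
      exact bot_le
    · exact Groth.Agent.H12.DualDepth.supportDim_hom_le ω hω hn (-i).toNat i (by omega) M

end Groth.Agent.S0366
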