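import Groth.Statements.S0370
import Groth.Agent.H71.DualMod

set_option autoImplicit false
universe u v
open CategoryTheory
attribute [local instance] HasDerivedCategory.standard
open Dual

namespace Groth.Agent.S0370

/-- A Noetherian ring admitting a finite module which, placed in degree 0, is a dualizing complex, is
Cohen–Macaulay. -/
theorem result (A : Type u) [CommRing A] [IsNoetherianRing A] (W : Type u) [AddCommGroup W] [Module A W] [Module.Finite A W] (h : Dual.IsDualizing A (Dual.inD A W)) : LocCoh.IsCohenMacaulayRing A := by
  exact Groth.Agent.H71.DualMod.cm_of_dualizing_module W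
    (Groth.Agent.H71.DualMod.hasInjectiveDimensionLT_of_isDualizing W h)
    (Groth.Agent.H71.DualMod.ext_self_eq_zero_of_isDualizing W h)
    (Groth.Agent.H71.DualMod.faithful_of_isDualizing W h)

end Groth.Agent.S0370
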