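import Groth.Statements.S0378
import Mathlib
import Groth.Agent.H58.LCFG
import Groth.Agent.H58.LCAnn
import Groth.Agent.S0326

set_option autoImplicit false
universe u v
open LocCoh

namespace Groth.Agent.S0378

/-- (1)⇔(2): local cohomology with support in I vanishes above degree d on every module as soon as it
does so on the ring itself. (Part (3) about the punctured spectrum is not stated.) -/
theorem result (R : Type u) [CommRing R] [IsNoetherianRing R] (I : Ideal R) (d : ℕ) : (∀ i : ℕ, d < i → Subsingleton (LocCoh.H I i R)) ↔ LocCoh.CdLE R I d := by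
  constructor
  · intro hR
    obtain ⟨s, hs⟩ := (isNoetherianRing_iff_ideal_fg R).1 inferInstance I
    have hS := Groth.Agent.S0326.result R s
    rw [hs] at hS
    have step : ∀ i, d < i →
        (∀ (M : Type u) [AddCommGroup M] [Module R M], Subsingleton (LocCoh.H I (i + 1) M)) →
        ∀ (M : Type u) [AddCommGroup M] [Module R M], Subsingleton (LocCoh.H I i M) := by
      intro i hi hnext M _ _
      apply Groth.Agent.H58.LC.subsingleton_H_of_fg I i M
      intro M' hM'
      haveI : Module.Finite R M' := Module.Finite.iff_fg.2 hM'
      obtain ⟨n, f, hf⟩ := Module.Finite.exists_fin' R M'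
      let e : (ULift.{u} (Fin n) → R) ≃ₗ[R] (Fin n → R) :=
        LinearEquiv.funCongrLeft R R Equiv.ulift.symm
      have hg : Function.Surjective (f ∘ₗ e.toLinearMap) := hf.comp e.surjective
      haveI := hR i hi
      haveI : Subsingleton (LocCoh.H I i (ULift.{u} (Fin n) → R)) :=
        Groth.Agent.H58.LC.subsingleton_H_pi I i
      haveI := hnext (LinearMap.ker (f ∘ₗ e.toLinearMap))
      obtain ⟨δ, -, e2, -, -⟩ := Groth.Agent.H58.LC.les_mod I
        (LinearMap.ker (f ∘ₗ e.toLinearMap)).subtype (f ∘ₗ e.toLinearMap)
        (Submodule.injective_subtype _) hg (LinearMap.exact_subtype_ker_map _) i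
      exact Groth.Agent.H58.LC.subsingleton_of_exact _ _ e2
    have main : ∀ k i, d < i → s.card < i + k →
        ∀ (M : Type u) [AddCommGroup M] [Module R M], Subsingleton (LocCoh.H I i M) := by
      intro k
      induction k with
      | zero =>
        intro i _ hi M _ _
        exact hS M i (by simpa using hi)
      | succ k ih =>
        intro i hdi hi
        exact step i hdi (ih (i + 1) (by omega) (by omega))
    intro M _ _ i hi
    exact main (s.card + 1) i hi (by omega) M
  · intro h i hi
    exact h R i hi

end Groth.Agent.S0378
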