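import Groth.Statements.S0385
import Groth.Agent.H73.FiniteApprox5

set_option autoImplicit false
universe u
open FlatMor

namespace Groth.Agent.S0385

open AlgebraicGeometry CategoryTheory Limits in
/-- Zariski's Main Theorem in its finite-factorization form (Mathlib already has the open immersion into
the integral relative normalization; the content here is replacing integral by finite): a
quasi-finite separated morphism (locally of finite type, quasi-compact, with finite fibres) to a
quasi-compact quasi-separated scheme is a quasi-compact open immersion followed by a finite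
morphism. -/
theorem result {X S : Scheme.{u}} (f : X ⟶ S) [CompactSpace S] [QuasiSeparatedSpace S] [LocallyQuasiFinite f] [LocallyOfFiniteType f] [QuasiCompact f] [IsSeparated f] :
    ∃ (T : Scheme.{u}) (j : X ⟶ T) (π : T ⟶ S), IsOpenImmersion j ∧ QuasiCompact j ∧ IsFinite π ∧ j ≫ π = f := by
  let tn := f.toNormalization
  let fn := f.fromNormalization
  have hfac : tn ≫ fn = f := f.toNormalization_fromNormalization
  let W : f.normalization.Opens := tn.opensRange
  have hWc : ∀ U : S.affineOpens,
      IsCompact ((W ⊓ fn ⁻¹ᵁ U.1 : f.normalization.Opens) : Set f.normalization) := by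
    intro U
    have h1 : W ⊓ fn ⁻¹ᵁ U.1 = tn ''ᵁ (f ⁻¹ᵁ U.1) := by
      have h0 : f ⁻¹ᵁ U.1 = tn ⁻¹ᵁ (fn ⁻¹ᵁ U.1) :=
        (congrArg (fun g : X ⟶ S => g ⁻¹ᵁ U.1) hfac.symm).trans
          (Scheme.Hom.comp_preimage tn fn U.1)
      rw [h0, Scheme.Hom.image_preimage_eq_opensRange_inf]
    rw [h1]
    have hc : IsCompact ((f ⁻¹ᵁ U.1 : X.Opens) : Set X) :=
      f.isCompact_preimage U.2.isCompact
    exact hc.image tn.continuous
  have e : tn.isoOpensRange.hom ≫ W.ι ≫ fn = f := by
    rw [← Category.assoc, Scheme.Hom.isoOpensRange_hom_ι, hfac]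
  have hlft : LocallyOfFiniteType (W.ι ≫ fn) := by
    have h2 : LocallyOfFiniteType (tn.isoOpensRange.hom ≫ W.ι ≫ fn) := by
      rw [e]; infer_instance
    exact (MorphismProperty.cancel_left_of_respectsIso @LocallyOfFiniteType _ _).mp h2
  obtain ⟨T, π, m, hπ, hm, hopen⟩ :=
    Groth.Agent.H73.FiniteApprox.exists_finite_openImmersion fn W hWc
  have hj : tn ≫ m = tn.isoOpensRange.hom ≫ W.ι ≫ m := by
    rw [← Category.assoc, Scheme.Hom.isoOpensRange_hom_ι]
  have hcomp : (tn ≫ m) ≫ π = f := by rw [Category.assoc, hm, hfac]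
  refine ⟨T, tn ≫ m, π, ?_, ?_, hπ, hcomp⟩
  · rw [hj]; infer_instance
  · have : QuasiCompact ((tn ≫ m) ≫ π) := by rw [hcomp]; infer_instance
    exact QuasiCompact.of_comp (tn ≫ m) π

end Groth.Agent.S0385
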