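import Groth.Statements.S0393
import Groth.Agent.H2.FlatLocal

set_option autoImplicit false
universe u
open FlatMor

namespace Groth.Agent.S0393

open TensorProduct in
/-- For a local homomorphism of local rings R → S with S Noetherian, an R-linear map u from a finite
S-module N to a flat R-module M whose reduction modulo the maximal ideal of R is injective is itself
injective, and its cokernel is flat over R. -/
theorem result {R S M N : Type u} [CommRing R] [CommRing S] [IsLocalRing R] [IsLocalRing S] [IsNoetherianRing S] [Algebra R S] [IsLocalHom (algebraMap R S)]
    [AddCommGroup M] [Module R M] [Module.Flat R M]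
    [AddCommGroup N] [Module R N] [Module S N] [IsScalarTower R S N] [Module.Finite S N]
    (u : N →ₗ[R] M) (h : Function.Injective (LinearMap.lTensor (IsLocalRing.ResidueField R) u)) :
    Function.Injective u ∧ Module.Flat R (M ⧸ LinearMap.range u) := by
  refine Groth.Agent.H2.injective_and_flat_coker S u ?_
  intro y hy
  rw [← LinearMap.ker_tensorProductMk, LinearMap.mem_ker] at hy
  have h0 : (TensorProduct.mk R (IsLocalRing.ResidueField R) N 1) y = 0 := by
    apply h
    rw [map_zero]
    show (LinearMap.lTensor (IsLocalRing.ResidueField R) u)
      ((1 : IsLocalRing.ResidueField R) ⊗ₜ[R] y) = 0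
    rw [LinearMap.lTensor_tmul]
    exact hy
  rw [← LinearMap.ker_tensorProductMk, LinearMap.mem_ker]
  exact h0

end Groth.Agent.S0393
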