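import Groth.Statements.S0394
import Mathlib.RingTheory.LocalRing.Module
import Mathlib.RingTheory.Nakayama
import Mathlib.RingTheory.Ideal.Maps
import Mathlib.RingTheory.LocalRing.RingHom.Basic

set_option autoImplicit false
universe u
open FlatMor

namespace Groth.Agent.S0394

open TensorProduct

lemma inf_smul_top_le_smul_ker {R F M : Type*} [CommRing R] [AddCommGroup F] [Module R F]
    [AddCommGroup M] [Module R M] [Module.Flat R M] (I : Ideal R) (φ : F →ₗ[R] M)
    (hφ : Function.Surjective φ) :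
    LinearMap.ker φ ⊓ I • (⊤ : Submodule R F) ≤ I • LinearMap.ker φ := by
  intro x hx
  obtain ⟨hxK, hxI⟩ := hx
  have hinj : Function.Injective ((LinearMap.ker φ).subtype.lTensor (R ⧸ I)) :=
    lTensor_injective_of_exact_of_exact_of_rTensor_injective
      (f₁ := Submodule.subtype I) (f₂ := Submodule.mkQ I)
      (g₁ := (LinearMap.ker φ).subtype) (g₂ := φ)
      (LinearMap.exact_subtype_mkQ I) (Submodule.mkQ_surjective I)
      (LinearMap.exact_subtype_ker_map φ) hφ
      (Module.Flat.rTensor_preserves_injective_linearMap _ Subtype.val_injective)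
      (Module.Flat.lTensor_preserves_injective_linearMap _ Subtype.val_injective)
  have h1 : (TensorProduct.mk R (R ⧸ I) F 1) x = 0 := by
    rw [← LinearMap.mem_ker, LinearMap.ker_tensorProductMk]; exact hxI
  have h2 : (TensorProduct.mk R (R ⧸ I) (LinearMap.ker φ) 1) ⟨x, hxK⟩ = 0 := by
    apply hinj
    rw [map_zero]
    show (LinearMap.lTensor (R ⧸ I) (LinearMap.ker φ).subtype)
      ((1 : R ⧸ I) ⊗ₜ[R] (⟨x, hxK⟩ : LinearMap.ker φ)) = 0
    rw [LinearMap.lTensor_tmul]; exact h1
  have h3 : (⟨x, hxK⟩ : LinearMap.ker φ) ∈ I • (⊤ : Submodule R (LinearMap.ker φ)) := by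
    rw [← LinearMap.ker_tensorProductMk, LinearMap.mem_ker]; exact h2
  have h4 := Submodule.mem_map_of_mem (f := (LinearMap.ker φ).subtype) h3
  rw [Submodule.map_smul'', Submodule.map_top, Submodule.range_subtype] at h4
  exact h4

lemma main {R S M : Type u} [CommRing R] [CommRing S] [IsLocalRing S] [IsNoetherianRing S]
    [Algebra R S] [AddCommGroup M] [Module R M] [Module S M] [IsScalarTower R S M]
    [Module.Finite S M] [Nontrivial M] [Module.Flat R M]
    (I : Ideal R) (J : Ideal S) (hJ : J = I.map (algebraMap R S))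
    (hJle : J ≤ IsLocalRing.maximalIdeal S)
    [Module.Free (S ⧸ J) ((S ⧸ J) ⊗[S] M)] : Module.Free S M ∧ Module.Flat R S := by
  classical
  have hJtop : J ≠ ⊤ := fun h =>
    (IsLocalRing.maximalIdeal.isMaximal S).ne_top (top_le_iff.mp (h ▸ hJle))
  have hJjac : J ≤ Ideal.jacobson (⊥ : Ideal S) := by
    rw [IsLocalRing.jacobson_eq_maximalIdeal ⊥ bot_ne_top]; exact hJle
  haveI : Nontrivial (S ⧸ J) := Ideal.Quotient.nontrivial_iff.mpr hJtop
  let b := Module.Free.chooseBasis (S ⧸ J) ((S ⧸ J) ⊗[S] M)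
  haveI : Finite (Module.Free.ChooseBasisIndex (S ⧸ J) ((S ⧸ J) ⊗[S] M)) :=
    Module.Finite.finite_basis b
  cases nonempty_fintype (Module.Free.ChooseBasisIndex (S ⧸ J) ((S ⧸ J) ⊗[S] M))
  obtain ⟨v, hv⟩ := (TensorProduct.mk_surjective S M (S ⧸ J)
    Ideal.Quotient.mk_surjective).comp_left b
  have hv' : ⇑(TensorProduct.mk S (S ⧸ J) M 1) ∘ v = ⇑b := hv
  have hb : ∀ i, (1 : S ⧸ J) ⊗ₜ[S] v i = b i := fun i => congrFun hv i
  let φ : (Module.Free.ChooseBasisIndex (S ⧸ J) ((S ⧸ J) ⊗[S] M) →₀ S) →ₗ[S] M :=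
    Finsupp.linearCombination S v
  have hφapply : ∀ x, φ x = ∑ i, x i • v i := fun x => by
    rw [Finsupp.linearCombination_apply, Finsupp.sum_fintype]
    intro i; exact zero_smul _ _
  have hsurj : Function.Surjective φ := by
    rw [← LinearMap.range_eq_top, Finsupp.range_linearCombination]
    have hmap : (Submodule.span S (Set.range v)).map (TensorProduct.mk S (S ⧸ J) M 1) = ⊤ := by
      rw [Submodule.map_span, ← Set.range_comp, hv',
        ← Submodule.restrictScalars_span S (S ⧸ J) Ideal.Quotient.mk_surjective, b.span_eq,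
        Submodule.restrictScalars_top]
    have hsup : (⊤ : Submodule S M) ≤ Submodule.span S (Set.range v) ⊔ J • ⊤ := by
      intro x _
      have hx : TensorProduct.mk S (S ⧸ J) M 1 x ∈
          (Submodule.span S (Set.range v)).map (TensorProduct.mk S (S ⧸ J) M 1) := by
        rw [hmap]; trivial
      obtain ⟨y, hy, hyx⟩ := hx
      have hker : x - y ∈ LinearMap.ker (TensorProduct.mk S (S ⧸ J) M 1) := by
        rw [LinearMap.mem_ker, map_sub, sub_eq_zero]; exact hyx.symm
      rw [LinearMap.ker_tensorProductMk] at hker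
      have : x = y + (x - y) := by abel
      rw [this]; exact Submodule.add_mem_sup hy hker
    exact top_le_iff.mp
      (Submodule.le_of_le_smul_of_le_jacobson_bot Module.Finite.fg_top hJjac hsup)
  have hinj : Function.Injective φ := by
    rw [← LinearMap.ker_eq_bot]
    haveI : IsNoetherian S (Module.Free.ChooseBasisIndex (S ⧸ J) ((S ⧸ J) ⊗[S] M) →₀ S) :=
      isNoetherian_of_isNoetherianRing_of_finite S _
    refine Submodule.eq_bot_of_le_smul_of_le_jacobson_bot J _ (IsNoetherian.noetherian _) ?_ hJjac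
    intro x hx
    have hxJ : ∀ i, x i ∈ J := by
      have hsum : ∑ i, (Ideal.Quotient.mk J (x i)) • b i = 0 := by
        have h0 : TensorProduct.mk S (S ⧸ J) M 1 (φ x) = 0 := by
          rw [LinearMap.mem_ker.mp hx, map_zero]
        rw [hφapply, map_sum] at h0
        rw [← h0]
        refine Finset.sum_congr rfl fun i _ => ?_
        rw [map_smul, ← hb i]
        exact algebraMap_smul (S ⧸ J) (x i) _
      have hli := Fintype.linearIndependent_iff.mp b.linearIndependent
        (fun i => Ideal.Quotient.mk J (x i)) hsum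
      intro i; exact Ideal.Quotient.eq_zero_iff_mem.mp (hli i)
    have hxtop : x ∈ J • (⊤ : Submodule S
        (Module.Free.ChooseBasisIndex (S ⧸ J) ((S ⧸ J) ⊗[S] M) →₀ S)) := by
      have hx' : x = ∑ i, x i • Finsupp.single i (1 : S) := by
        simp only [Finsupp.smul_single_one]
        exact (Finsupp.univ_sum_single x).symm
      rw [hx']
      exact Submodule.sum_mem _ fun i _ => Submodule.smul_mem_smul (hxJ i) Submodule.mem_top
    have hR : x ∈ LinearMap.ker (φ.restrictScalars R) ⊓ I • (⊤ : Submodule R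
        (Module.Free.ChooseBasisIndex (S ⧸ J) ((S ⧸ J) ⊗[S] M) →₀ S)) := by
      refine ⟨hx, ?_⟩
      have := Ideal.smul_restrictScalars I (⊤ : Submodule S
        (Module.Free.ChooseBasisIndex (S ⧸ J) ((S ⧸ J) ⊗[S] M) →₀ S))
      rw [Submodule.restrictScalars_top] at this
      rw [← this, ← hJ]
      exact hxtop
    have hR' := inf_smul_top_le_smul_ker I (φ.restrictScalars R) hsurj hR
    rw [LinearMap.ker_restrictScalars, ← Ideal.smul_restrictScalars, ← hJ] at hR'
    exact hR'
  let e : (Module.Free.ChooseBasisIndex (S ⧸ J) ((S ⧸ J) ⊗[S] M) →₀ S) ≃ₗ[S] M :=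
    LinearEquiv.ofBijective φ ⟨hinj, hsurj⟩
  refine ⟨Module.Free.of_equiv e, ?_⟩
  haveI : Nonempty (Module.Free.ChooseBasisIndex (S ⧸ J) ((S ⧸ J) ⊗[S] M)) := by
    by_contra hne
    rw [not_nonempty_iff] at hne
    exact not_subsingleton M (e.symm.injective.subsingleton)
  obtain ⟨i₀⟩ := ‹Nonempty (Module.Free.ChooseBasisIndex (S ⧸ J) ((S ⧸ J) ⊗[S] M))›
  let incl : S →ₗ[R] M := (φ.restrictScalars R).comp
    ((Finsupp.lsingle i₀ : S →ₗ[S] _ →₀ S).restrictScalars R)
  let retr : M →ₗ[R] S := ((Finsupp.lapply i₀ : (_ →₀ S) →ₗ[S] S).restrictScalars R).comp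
    (e.symm.toLinearMap.restrictScalars R)
  refine Module.Flat.of_retract incl retr (LinearMap.ext fun s => ?_)
  show (e.symm (e (Finsupp.single i₀ s))) i₀ = s
  rw [e.symm_apply_apply, Finsupp.single_eq_same]


open TensorProduct in
/-- For a local homomorphism R → S of Noetherian local rings and a nonzero finite S-module M flat over R
whose fibre M/mM is free over S/mS (m the maximal ideal of R), M is free over S and S is flat over
R. -/
theorem result {R S M : Type u} [CommRing R] [CommRing S] [IsLocalRing R] [IsLocalRing S] [IsNoetherianRing R] [IsNoetherianRing S] [Algebra R S] [IsLocalHom (algebraMap R S)]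
    [AddCommGroup M] [Module R M] [Module S M] [IsScalarTower R S M] [Module.Finite S M] [Nontrivial M] [Module.Flat R M]
    (h : Module.Free (S ⧸ ((IsLocalRing.maximalIdeal R).map (algebraMap R S))) ((S ⧸ ((IsLocalRing.maximalIdeal R).map (algebraMap R S))) ⊗[S] M)) :
    Module.Free S M ∧ Module.Flat R S := by
  haveI := h
  exact main (IsLocalRing.maximalIdeal R) _ rfl
    (((IsLocalRing.local_hom_TFAE (algebraMap R S)).out 0 2).mp ‹IsLocalHom (algebraMap R S)›)

end Groth.Agent.S0394
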