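import Groth.Statements.S0396
import Groth.Agent.H57.LocalCrit
import Mathlib.RingTheory.Localization.BaseChange
import Mathlib.RingTheory.Localization.AtPrime.Basic
import Mathlib.RingTheory.Localization.Finiteness
import Mathlib.RingTheory.Flat.Localization
import Mathlib.RingTheory.Localization.Submodule

set_option autoImplicit false
universe u
open FlatMor

namespace Groth.Agent.S0396

open TensorProduct Groth.Agent.H57

theorem injective_of_subsingleton_left {R P Q M : Type*} [CommRing R] [AddCommGroup P] [Module R P]
    [AddCommGroup Q] [Module R Q] [AddCommGroup M] [Module R M] [Subsingleton P] (f : P →ₗ[R] Q) :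
    Function.Injective (LinearMap.rTensor M f) := by
  have h0 : ∀ z : P ⊗[R] M, z = 0 := by
    intro z
    induction z using TensorProduct.induction_on with
    | zero => rfl
    | tmul p m => rw [Subsingleton.elim p 0, TensorProduct.zero_tmul]
    | add a b ha hb => rw [ha, hb, add_zero]
  intro a b _
  rw [h0 a, h0 b]

open TensorProduct in
/-- For a map of Noetherian rings R → S, an ideal I of R and a finite S-module M such that M/IⁿM is flat
over R/Iⁿ for every n ≥ 1, the localization of M at any prime of S containing IS is flat over R. -/
theorem result {R S M : Type u} [CommRing R] [CommRing S] [IsNoetherianRing R] [IsNoetherianRing S] [Algebra R S]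
    [AddCommGroup M] [Module R M] [Module S M] [IsScalarTower R S M] [Module.Finite S M] (I : Ideal R)
    (h : ∀ n : ℕ, 0 < n → Module.Flat (R ⧸ I ^ n) ((R ⧸ I ^ n) ⊗[R] M))
    (q : Ideal S) [q.IsPrime] (hq : I.map (algebraMap R S) ≤ q) :
    Module.Flat R (LocalizedModule q.primeCompl M) := by
  haveI : IsNoetherianRing (Localization.AtPrime q) :=
    IsLocalization.isNoetherianRing q.primeCompl _ inferInstance
  refine flat_of_forall_rTensor_injective (S := Localization.AtPrime q) I ?_ ?_
  · rw [IsLocalRing.jacobson_eq_maximalIdeal ⊥ bot_ne_top,
      ← IsLocalization.AtPrime.map_eq_maximalIdeal q (Localization.AtPrime q),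
      IsScalarTower.algebraMap_eq R S (Localization.AtPrime q), ← Ideal.map_map]
    exact Ideal.map_mono hq
  · intro k P
    rw [← LinearMap.lTensor_inj_iff_rTensor_inj]
    have hM : Function.Injective (LinearMap.lTensor M P.subtype) := by
      rw [LinearMap.lTensor_inj_iff_rTensor_inj]
      rcases Nat.eq_zero_or_pos k with rfl | hk
      · haveI : Subsingleton (R ⧸ I ^ 0) :=
          Ideal.Quotient.subsingleton_iff.mpr (by rw [pow_zero, Ideal.one_eq_top])
        exact injective_of_subsingleton_left _
      · haveI := h k hk
        exact rTensor_subtype_injective_of_flat (I ^ k) P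
    have hloc := IsLocalizedModule.map_injective q.primeCompl
      (AlgebraTensorModule.rTensor R P (LocalizedModule.mkLinearMap q.primeCompl M))
      (AlgebraTensorModule.rTensor R (R ⧸ I ^ k) (LocalizedModule.mkLinearMap q.primeCompl M))
      (AlgebraTensorModule.lTensor S M P.subtype) hM
    rw [IsLocalizedModule.map_lTensor] at hloc
    exact hloc

end Groth.Agent.S0396
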