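import Groth.Statements.S0397
import Mathlib.RingTheory.LocalRing.Module
-- import your own Groth.Agent.* helpers here

set_option autoImplicit false
universe u
open FlatMor

namespace Groth.Agent.S0397

open TensorProduct IsLocalRing in
/-- Nilpotent Nakayama: if `N ⊔ I • ⊤ = ⊤` with `I` nilpotent then `N = ⊤`. -/
lemma eq_top_of_sup_smul_top {R M : Type*} [CommRing R] [AddCommGroup M] [Module R M]
    {I : Ideal R} (hI : IsNilpotent I) (N : Submodule R M)
    (h : N ⊔ I • (⊤ : Submodule R M) = ⊤) : N = ⊤ := by
  obtain ⟨n, hn⟩ := hI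
  have key : ∀ j : ℕ, N ⊔ I ^ j • (⊤ : Submodule R M) = ⊤ := by
    intro j
    induction j with
    | zero => simp
    | succ j ih =>
      have h1 : I ^ j • (⊤ : Submodule R M) ≤ N ⊔ I ^ (j+1) • (⊤ : Submodule R M) := by
        calc I ^ j • (⊤ : Submodule R M) = I ^ j • (N ⊔ I • (⊤ : Submodule R M)) := by rw [h]
          _ = I ^ j • N ⊔ I ^ j • (I • (⊤ : Submodule R M)) := Submodule.smul_sup _ _ _
          _ ≤ N ⊔ I ^ (j+1) • (⊤ : Submodule R M) := by
              rw [← Submodule.mul_smul, ← pow_succ]
              exact sup_le_sup_right Submodule.smul_le_right _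
      refine le_antisymm le_top ?_
      calc (⊤ : Submodule R M) = N ⊔ I ^ j • (⊤ : Submodule R M) := ih.symm
        _ ≤ N ⊔ I ^ (j+1) • (⊤ : Submodule R M) := sup_le le_sup_left h1
  have := key n
  rwa [hn, Ideal.zero_eq_bot, Submodule.bot_smul, sup_bot_eq] at this


/-- Over a local ring whose maximal ideal is nilpotent, every flat module (not necessarily finitely
generated) is free. -/
theorem result {R M : Type u} [CommRing R] [IsLocalRing R] (hR : IsNilpotent (IsLocalRing.maximalIdeal R))
    [AddCommGroup M] [Module R M] [Module.Flat R M] : Module.Free R M := by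
  classical
  let w := Module.Free.chooseBasis (IsLocalRing.ResidueField R)
    (TensorProduct R (IsLocalRing.ResidueField R) M)
  obtain ⟨v, eq⟩ := (TensorProduct.mk_surjective R M (IsLocalRing.ResidueField R)
    Ideal.Quotient.mk_surjective).comp_left w
  have eq' : ⇑(TensorProduct.mk R (IsLocalRing.ResidueField R) M 1) ∘ v = ⇑w := eq
  have hli : LinearIndependent R v :=
    Module.IsLocalRing.linearIndependent_of_flat _ (eq' ▸ w.linearIndependent)
  have hmap : (Submodule.span R (Set.range v)).map
      (TensorProduct.mk R (IsLocalRing.ResidueField R) M 1) = ⊤ := by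
    rw [Submodule.map_span, ← Set.range_comp, eq',
      ← Submodule.restrictScalars_span R (IsLocalRing.ResidueField R)
        Ideal.Quotient.mk_surjective, w.span_eq, Submodule.restrictScalars_top]
  refine Module.Free.of_basis (Module.Basis.mk hli (eq_top_of_sup_smul_top hR _ ?_).ge)
  rw [eq_top_iff]
  intro x _
  have hx : TensorProduct.mk R (IsLocalRing.ResidueField R) M 1 x ∈
      (Submodule.span R (Set.range v)).map
        (TensorProduct.mk R (IsLocalRing.ResidueField R) M 1) := by
    rw [hmap]; trivial
  obtain ⟨y, hy, hyx⟩ := hx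
  have hker : x - y ∈ LinearMap.ker (TensorProduct.mk R (R ⧸ IsLocalRing.maximalIdeal R) M 1) := by
    rw [LinearMap.mem_ker, map_sub, sub_eq_zero]
    exact hyx.symm
  rw [LinearMap.ker_tensorProductMk] at hker
  have : x = y + (x - y) := by abel
  rw [this]
  exact Submodule.add_mem_sup hy hker

end Groth.Agent.S0397
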