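import Groth.Statements.S0398
import Groth.Agent.H57.NilDescent
import Mathlib.RingTheory.Artinian.Ring
import Mathlib.RingTheory.Artinian.Module
import Mathlib.RingTheory.SimpleModule.InjectiveProjective
import Mathlib.RingTheory.Ideal.Quotient.Nilpotent

set_option autoImplicit false
universe u
open FlatMor

namespace Groth.Agent.S0398

open TensorProduct in
/-- For an injective ring map R → S with R Artinian and an R-module M, if S ⊗ M is flat over S then M is
flat over R. -/
theorem result {R S M : Type u} [CommRing R] [CommRing S] [IsArtinianRing R] [Algebra R S] (hinj : Function.Injective (algebraMap R S))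
    [AddCommGroup M] [Module R M] [Module.Flat S (S ⊗[R] M)] : Module.Flat R M := by
  haveI : Module.Flat (R ⧸ nilradical R) ((R ⧸ nilradical R) ⊗[R] M) := by
    haveI : IsReduced (R ⧸ nilradical R) :=
      (Ideal.isRadical_iff_quotient_reduced _).mp (Ideal.radical_isRadical ⊥)
    haveI : IsSemisimpleRing (R ⧸ nilradical R) :=
      IsArtinianRing.isSemisimpleRing_of_isReduced _
    haveI : Module.Projective (R ⧸ nilradical R) ((R ⧸ nilradical R) ⊗[R] M) :=
      Module.projective_of_isSemisimpleRing _ _
    infer_instance
  haveI : ∀ _ : PUnit.{u + 1}, Module.Flat S (S ⊗[R] M) := fun _ => inferInstance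
  exact Groth.Agent.H57.flat_of_nilpotent_of_baseChange (ι := PUnit.{u + 1}) (fun _ => S)
    (nilradical R) (fun a ha => hinj (by rw [ha PUnit.unit, map_zero]))
    IsArtinianRing.isNilpotent_nilradical

end Groth.Agent.S0398
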