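import Groth.Statements.S11538
import Mathlib.RingTheory.Flat.Tensor
import Mathlib.RingTheory.Flat.Stability
import Mathlib.RingTheory.Flat.Localization
import Mathlib.RingTheory.Flat.TorsionFree
import Mathlib.LinearAlgebra.TensorProduct.Quotient
import Mathlib.LinearAlgebra.TensorProduct.RightExactness
import Mathlib.RingTheory.Localization.BaseChange
import Mathlib.RingTheory.Localization.Away.Basic

set_option autoImplicit false
universe u v
open scoped TensorProduct
open AdicRing

namespace Groth.Agent.S11538

section aux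

variable {A : Type u} [CommRing A] (π : A)

lemma one_tmul_eq_zero_imp {X : Type*} [AddCommGroup X] [Module A X] (x : X)
    (h : (1 : A ⧸ Ideal.span {π}) ⊗ₜ[A] x = 0) : ∃ x' : X, x = π • x' := by
  have h1 := congrArg (TensorProduct.quotTensorEquivQuotSMul X (Ideal.span {π})) h
  rw [TensorProduct.quotTensorEquivQuotSMul_mk_one_tmul, map_zero,
    Submodule.Quotient.mk_eq_zero, Submodule.ideal_span_singleton_smul] at h1
  obtain ⟨x', -, hx'⟩ := h1
  exact ⟨x', hx'.symm⟩

lemma one_tmul_smul_eq_zero {X : Type*} [AddCommGroup X] [Module A X] (x : X) :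
    (1 : A ⧸ Ideal.span {π}) ⊗ₜ[A] (π • x) = 0 := by
  rw [TensorProduct.tmul_smul, TensorProduct.smul_tmul']
  have : π • (1 : A ⧸ Ideal.span {π}) = 0 := by
    rw [Algebra.smul_def, mul_one]
    exact Ideal.Quotient.eq_zero_iff_mem.mpr (Ideal.mem_span_singleton_self π)
  rw [this, TensorProduct.zero_tmul]

lemma assoc_symm_nat (B : Type*) [AddCommMonoid B] [Module A B]
    {M X Y : Type*} [AddCommMonoid M] [Module A M] [AddCommMonoid X] [Module A X]
    [AddCommMonoid Y] [Module A Y] (f : X →ₗ[A] Y) (w : B ⊗[A] (M ⊗[A] X)) :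
    (LinearMap.lTensor (B ⊗[A] M) f) ((TensorProduct.assoc A B M X).symm w) =
      (TensorProduct.assoc A B M Y).symm (LinearMap.lTensor B (LinearMap.lTensor M f) w) := by
  rw [LinearMap.lTensor_tensor]
  simp

/-- If `π` is regular on `M` and on `N` and `M/π` is flat over `A/π`, then `π` is regular on
`M ⊗ N`. -/
lemma smul_regular_tensor {M : Type*} [AddCommGroup M] [Module A M]
    (hM : ∀ x : M, π • x = 0 → x = 0)
    (hflat : Module.Flat (A ⧸ Ideal.span {π}) ((A ⧸ Ideal.span {π}) ⊗[A] M))
    {N : Type*} [AddCommGroup N] [Module A N]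
    (hN : ∀ x : N, π • x = 0 → x = 0) (y : M ⊗[A] N) (hy : π • y = 0) : y = 0 := by
  classical
  let F := N →₀ A
  let p : F →ₗ[A] N := Finsupp.linearCombination A id
  have hp : Function.Surjective p := Finsupp.linearCombination_id_surjective A N
  let R_ : Submodule A F := LinearMap.ker p
  let ι : R_ →ₗ[A] F := R_.subtype
  have hex : Function.Exact ι p := LinearMap.exact_subtype_ker_map p
  have hex' := @lTensor_exact A R_ F N _ _ _ _ _ _ _ ι p M _ _ hex hp
  have hsurj : Function.Surjective (LinearMap.lTensor M p) := LinearMap.lTensor_surjective M hp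
  -- `π` is regular on `M ⊗ F`
  have hMF : ∀ w : M ⊗[A] F, π • w = 0 → w = 0 := by
    intro w hw
    have hinj : Function.Injective (LinearMap.rTensor F (π • (LinearMap.id : M →ₗ[A] M))) := by
      apply Module.Flat.rTensor_preserves_injective_linearMap
      intro a b hab
      have : π • (a - b) = 0 := by
        simpa [smul_sub, sub_eq_zero] using hab
      exact sub_eq_zero.mp (hM _ this)
    apply hinj
    rw [map_zero, LinearMap.rTensor_smul, LinearMap.rTensor_id, LinearMap.smul_apply,
      LinearMap.id_apply]
    exact hw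
  -- injectivity of the base change of `ι`
  have hιbar : Function.Injective (ι.baseChange (A ⧸ Ideal.span {π})) := by
    rw [injective_iff_map_eq_zero]
    intro w hw
    obtain ⟨r, rfl⟩ := TensorProduct.mk_surjective A R_ (A ⧸ Ideal.span {π})
      Ideal.Quotient.mk_surjective w
    simp only [TensorProduct.mk_apply, LinearMap.baseChange_tmul] at hw ⊢
    obtain ⟨f, hf⟩ := one_tmul_eq_zero_imp π _ hw
    have hpf : p f = 0 := by
      apply hN
      rw [← map_smul, ← hf]
      exact r.2
    let r' : R_ := ⟨f, hpf⟩
    have : r = π • r' := by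
      apply Subtype.ext
      exact hf
    rw [this]
    exact one_tmul_smul_eq_zero π r'
  have hb' : Function.Injective (LinearMap.lTensor ((A ⧸ Ideal.span {π}) ⊗[A] M) ι) := by
    rw [← TensorProduct.AlgebraTensorModule.coe_lTensor (A := A ⧸ Ideal.span {π}),
      ← EquivLike.injective_comp (TensorProduct.AlgebraTensorModule.cancelBaseChange A
        (A ⧸ Ideal.span {π}) (A ⧸ Ideal.span {π}) _ _),
      ← LinearEquiv.coe_coe, ← LinearMap.coe_comp,
      TensorProduct.AlgebraTensorModule.lTensor_comp_cancelBaseChange,
      LinearMap.coe_comp, LinearEquiv.coe_coe, EquivLike.comp_injective]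
    apply Module.Flat.lTensor_preserves_injective_linearMap
    exact hιbar
  -- main chase
  obtain ⟨y', rfl⟩ := hsurj y
  have h1 : LinearMap.lTensor M p (π • y') = 0 := by rw [map_smul]; exact hy
  obtain ⟨z, hz⟩ := (hex' _).mp h1
  have hz0 : (1 : A ⧸ Ideal.span {π}) ⊗ₜ[A] z = 0 := by
    have key := assoc_symm_nat (A := A) (A ⧸ Ideal.span {π}) (M := M) ι
      ((1 : A ⧸ Ideal.span {π}) ⊗ₜ[A] z)
    rw [LinearMap.lTensor_tmul, hz, one_tmul_smul_eq_zero, map_zero] at key
    have h3 := hb' (key.trans (map_zero _).symm)
    exact (TensorProduct.assoc A (A ⧸ Ideal.span {π}) M R_).symm.injective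
      (h3.trans (map_zero _).symm)
  obtain ⟨z', rfl⟩ := one_tmul_eq_zero_imp π z hz0
  have h2 : y' = LinearMap.lTensor M ι z' := by
    have : π • (y' - LinearMap.lTensor M ι z') = 0 := by
      rw [smul_sub, ← hz, map_smul, sub_self]
    exact sub_eq_zero.mp (hMF _ this)
  rw [h2]
  exact hex'.apply_apply_eq_zero z'

end aux

/-- Let A be a commutative ring, π an element of A which is not a zero divisor and M an A-module. Then M
is flat over A if and only if the π-power torsion of M vanishes, (A/πA) ⊗_A M is flat over A/πA, and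
A[π⁻¹] ⊗_A M is flat over A[π⁻¹]. -/
theorem result
    (A : Type u) [CommRing A] (π : A) (hπ : π ∈ nonZeroDivisors A)
    (M : Type v) [AddCommGroup M] [Module A M] :
    Module.Flat A M ↔
      (∀ (x : M) (n : ℕ), π ^ n • x = 0 → x = 0) ∧
        Module.Flat (A ⧸ Ideal.span {π}) ((A ⧸ Ideal.span {π}) ⊗[A] M) ∧
        Module.Flat (Localization.Away π) ((Localization.Away π) ⊗[A] M) := by
  constructor
  · intro hflat
    refine ⟨?_, inferInstance, inferInstance⟩
    intro x n hx
    have h2 : IsSMulRegular M (π ^ n) :=
      Module.Flat.isSMulRegular_of_nonZeroDivisors (pow_mem hπ n)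
    apply h2
    simpa using hx
  · rintro ⟨htf, hbar, hloc⟩
    rw [Module.Flat.iff_lTensor_injective']
    intro I
    rw [injective_iff_map_eq_zero]
    intro x hx
    have hMπflat : Module.Flat A (Localization.Away π ⊗[A] M) :=
      Module.Flat.trans A (Localization.Away π) _
    have hinj := Module.Flat.lTensor_preserves_injective_linearMap
      (M := Localization.Away π ⊗[A] M) I.subtype Subtype.val_injective
    have key := assoc_symm_nat (A := A) (Localization.Away π) (M := M) I.subtype
      ((1 : Localization.Away π) ⊗ₜ[A] x)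
    rw [LinearMap.lTensor_tmul, hx, TensorProduct.tmul_zero, map_zero] at key
    have h3 := hinj (key.trans (map_zero _).symm)
    have h4 : (1 : Localization.Away π) ⊗ₜ[A] x = 0 :=
      (TensorProduct.assoc A (Localization.Away π) M I).symm.injective
        (h3.trans (map_zero _).symm)
    have h5 : TensorProduct.mk A (Localization.Away π) (M ⊗[A] I) 1 x = 0 := h4
    rw [IsLocalizedModule.eq_zero_iff (Submonoid.powers π)] at h5
    obtain ⟨⟨_, n, rfl⟩, hn⟩ := h5
    have hn' : π ^ n • x = 0 := hn
    have hI : ∀ a : I, π • a = 0 → a = 0 := by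
      intro a ha
      have h6 : π * (a : A) = 0 := by
        have := congrArg Subtype.val ha
        simpa using this
      apply Subtype.ext
      have h7 := (mem_nonZeroDivisors_iff.mp hπ).1 (a : A)
      simpa using h7 h6
    have hreg : ∀ y : M ⊗[A] I, π • y = 0 → y = 0 :=
      smul_regular_tensor π (fun x hx => htf x 1 (by simpa using hx)) hbar hI
    clear hn h4 h3 key hinj hx
    induction n with
    | zero => simpa using hn'
    | succ n ih =>
      apply ih
      apply hreg
      rw [← hn', pow_succ', mul_smul]

end Groth.Agent.S11538
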