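import Groth.Statements.S0401
import Mathlib.RingTheory.Ideal.Height
import Mathlib.RingTheory.QuasiFinite.Basic

set_option autoImplicit false
universe u
open FlatMor

namespace Groth.Agent.S0401

/-- For a finite type ring map R → S quasi-finite at a prime q lying over p, the dimension of S_q is at
most the dimension of R_p. -/
theorem result {R S : Type u} [CommRing R] [CommRing S] [Algebra R S] [Algebra.FiniteType R S] (q : Ideal S) [q.IsPrime] [Algebra.QuasiFiniteAt R q] :
    ringKrullDim (Localization.AtPrime q) ≤ ringKrullDim (Localization.AtPrime (q.under R)) := by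
  rw [IsLocalization.AtPrime.ringKrullDim_eq_height (q.under R) (Localization.AtPrime (q.under R))]
  have hqf : Algebra.QuasiFinite R (Localization.AtPrime q) := inferInstance
  let f : PrimeSpectrum (Localization.AtPrime q) → PrimeSpectrum R :=
    PrimeSpectrum.comap (algebraMap R (Localization.AtPrime q))
  have hf : StrictMono f := by
    intro P Q hPQ
    have hle : P.asIdeal ≤ Q.asIdeal := hPQ.le
    refine lt_of_le_of_ne (fun x hx => hle hx) ?_
    intro heq
    have h2 : P.asIdeal.under R = Q.asIdeal.under R := congrArg PrimeSpectrum.asIdeal heq
    have := Algebra.QuasiFinite.eq_of_le_of_under_eq (R := R) P.asIdeal Q.asIdeal hle h2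
    exact hPQ.ne (PrimeSpectrum.ext this)
  -- the closed point
  let m : PrimeSpectrum (Localization.AtPrime q) := IsLocalRing.closedPoint _
  have h1 : ringKrullDim (Localization.AtPrime q) = (IsLocalRing.maximalIdeal (Localization.AtPrime q)).height :=
    (IsLocalRing.maximalIdeal_height_eq_ringKrullDim).symm
  rw [h1, WithBot.coe_le_coe]
  have h2 := Order.height_le_height_apply_of_strictMono f hf m
  have h3 : (f m).asIdeal = q.under R := by
    have h4 : (IsLocalRing.maximalIdeal (Localization.AtPrime q)).under S = q :=
      Localization.AtPrime.under_maximalIdeal (I := q)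
    have h5 : ((IsLocalRing.maximalIdeal (Localization.AtPrime q)).under S).under R = q.under R :=
      congrArg (Ideal.under R) h4
    rw [Ideal.under_under] at h5
    exact h5
  rw [← PrimeSpectrum.height_eq_orderHeight, ← PrimeSpectrum.height_eq_orderHeight, h3] at h2
  exact h2

end Groth.Agent.S0401
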