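import Groth.Statements.S0417
import Groth.Agent.H54.FibreImm

set_option autoImplicit false
universe u
open FlatMor

namespace Groth.Agent.S0417


open AlgebraicGeometry CategoryTheory Limits MorphismProperty in
/-- Universal closedness descends along surjective universally closed base changes. -/
theorem universallyClosed_of_pullback_fst {X S S' : Scheme.{u}} (f : X ⟶ S) (i : S' ⟶ S)
    [UniversallyClosed i] [Surjective i] [UniversallyClosed (pullback.fst i f)] :
    UniversallyClosed f := by
  refine ⟨universally_mk' _ _ fun {T} t _ s hs => ?_⟩
  let p := pullback.fst (pullback.fst i t) (pullback.fst i f)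
  let r : pullback (pullback.fst i t) (pullback.fst i f) ⟶ pullback t f :=
    pullback.map _ _ _ _ (pullback.snd _ _) (pullback.snd _ _) i (pullback.condition ..)
      (pullback.condition ..)
  have : IsClosed ((pullback.snd i t).base ⁻¹' ((pullback.fst t f).base '' s)) := by
    rw [← Scheme.image_preimage_eq_of_isPullback (isPullback_map_snd_snd ..)]
    exact p.isClosedMap _ (hs.preimage r.continuous)
  have hq : Topology.IsQuotientMap (pullback.snd i t).base :=
    (pullback.snd i t).isClosedMap.isQuotientMap (pullback.snd i t).continuous
      (pullback.snd i t).surjective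
  rwa [hq.isClosed_preimage] at this

open AlgebraicGeometry CategoryTheory Limits in
theorem isIso_residueFieldMap_of_surjectiveOnStalks {X Y : Scheme.{u}} (f : X ⟶ Y)
    [SurjectiveOnStalks f] (x : X) : IsIso (f.residueFieldMap x) := by
  rw [ConcreteCategory.isIso_iff_bijective]
  refine ⟨(f.residueFieldMap x).hom.injective, fun z => ?_⟩
  obtain ⟨a, rfl⟩ := X.residue_surjective x z
  obtain ⟨b, rfl⟩ := f.stalkMap_surjective x a
  refine ⟨Y.residue (f x) b, ?_⟩
  have := congrArg (fun φ => φ.hom b) (Scheme.residue_residueFieldMap f x)
  exact this


open AlgebraicGeometry CategoryTheory Limits in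
/-- Let i : S' → S be a closed immersion that is bijective on points and f : X → S a morphism of finite
type (locally of finite type and quasi-compact) whose base change X ×_S S' → S' is a closed
immersion. Then f is a closed immersion. The published statement alternatively allows S' → S of
finite presentation in place of the finite-type hypothesis on f; only the first alternative is
stated. -/
theorem result {X S S' : Scheme.{u}} (f : X ⟶ S) (i : S' ⟶ S) [IsClosedImmersion i] (hi : Function.Bijective i)
    [LocallyOfFiniteType f] [QuasiCompact f] [IsClosedImmersion (pullback.snd f i)] : IsClosedImmersion f := by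

  haveI : IsClosedImmersion (pullback.fst i f) := by
    rw [← pullbackSymmetry_hom_comp_snd]
    infer_instance
  haveI : Surjective i := ⟨hi.2⟩
  haveI : UniversallyClosed f := universallyClosed_of_pullback_fst f i
  haveI : UniversallyClosed (f ∣_ (⊤ : S.Opens)) :=
    IsZariskiLocalAtTarget.restrict (P := @UniversallyClosed) inferInstance _
  have hfib : ∀ s, Groth.Agent.H54.FibCond f s := fun s => by
    obtain ⟨s', rfl⟩ := hi.2 s
    haveI : IsIso (i.residueFieldMap s') := isIso_residueFieldMap_of_surjectiveOnStalks i s'
    exact (Groth.Agent.H54.fibCond_iff_of_isPullback (IsPullback.of_hasPullback f i) s').mp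
      (Groth.Agent.H54.fibCond_of_isClosedImmersion' _ s')
  choose U hsU hU using fun s =>
    Groth.Agent.H54.exists_isClosedImmersion_of_fibCond f s (hfib s) ⊤ trivial
  rw [IsZariskiLocalAtTarget.iff_of_iSup_eq_top (P := @IsClosedImmersion) U
    (top_le_iff.mp fun y _ => TopologicalSpace.Opens.mem_iSup.mpr ⟨y, hsU y⟩)]
  exact hU

end Groth.Agent.S0417
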