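import Groth.Statements.S0421
import Mathlib
import Groth.Agent.H68.DvrConn

set_option autoImplicit false
universe u
open FlatMor

namespace Groth.Agent.S0421

open AlgebraicGeometry CategoryTheory Limits


open AlgebraicGeometry CategoryTheory Limits in
/-- For a flat morphism from a connected scheme to the spectrum of a discrete valuation ring with
reduced closed fibre, the generic fibre is connected. -/
theorem result {R : Type u} [CommRing R] [IsDomain R] [IsDiscreteValuationRing R] {X : Scheme.{u}}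
    (f : X ⟶ Spec (CommRingCat.of R)) [Flat f] [ConnectedSpace ↑X]
    (hred : IsReduced (f.fiber (IsLocalRing.closedPoint R))) :
    ConnectedSpace ↑(f.fiber (⟨⊥, Ideal.isPrime_bot⟩ : PrimeSpectrum R)) := by
  obtain ⟨ϖ, hϖ⟩ := IsDiscreteValuationRing.exists_irreducible R
  have hmax : IsLocalRing.maximalIdeal R = Ideal.span {ϖ} := hϖ.maximalIdeal_eq
  have hs : (IsLocalRing.closedPoint R).asIdeal = Ideal.span {ϖ} := hmax
  haveI : (IsLocalRing.closedPoint R).asIdeal.IsMaximal := IsLocalRing.maximalIdeal.isMaximal R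
  have hϖ0 : ∀ r : R, ϖ * r = 0 → r = 0 :=
    fun r hr => (mul_eq_zero.mp hr).resolve_left hϖ.ne_zero
  have hset : ({(⟨⊥, Ideal.isPrime_bot⟩ : PrimeSpectrum R)} : Set (PrimeSpectrum R)) =
      (PrimeSpectrum.basicOpen ϖ : Set (PrimeSpectrum R)) := by
    ext q
    simp only [Set.mem_singleton_iff, SetLike.mem_coe, PrimeSpectrum.mem_basicOpen]
    constructor
    · rintro rfl
      show ϖ ∉ (⊥ : Ideal R)
      rw [Ideal.mem_bot]
      exact hϖ.ne_zero
    · intro hq
      by_contra hne
      have hq0 : q.asIdeal ≠ ⊥ := fun h0 => hne (PrimeSpectrum.ext h0)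
      have hqmax : q.asIdeal.IsMaximal := q.isPrime.isMaximal hq0
      have h1 : q.asIdeal = IsLocalRing.maximalIdeal R := IsLocalRing.eq_maximalIdeal hqmax
      apply hq
      rw [h1, hmax]
      exact Ideal.subset_span (Set.mem_singleton ϖ)
  have H : ∀ (B : CommRingCat.{u}) (φ : CommRingCat.of R ⟶ B) (j : Spec B ⟶ X)
      [IsOpenImmersion j], Spec.map φ = j ≫ f →
        (∀ b : B, φ.hom ϖ * b = 0 → b = 0) ∧ (Ideal.span {φ.hom ϖ}).IsRadical := by
    intro B φ j _ h
    exact ⟨Groth.Agent.H68.DvrConn.regular_of_flat ϖ hϖ0 f B φ j h,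
      Groth.Agent.H68.DvrConn.radical_of_isReduced_fiber ϖ (IsLocalRing.closedPoint R) hs f
        hred B φ j h⟩
  have hpre := Groth.Agent.H68.DvrConn.isPreconnected_preimage_basicOpen ϖ f H
  have hdense := Groth.Agent.H68.DvrConn.dense_preimage_basicOpen ϖ f
    (fun B φ j _ h => (H B φ j h).1)
  rw [← hset] at hpre hdense
  haveI hp : PreconnectedSpace ↑(f.fiber (⟨⊥, Ideal.isPrime_bot⟩ : PrimeSpectrum R)) :=
    Groth.Agent.H68.DvrConn.preconnectedSpace_fiber f _ hpre
  obtain ⟨x, hx⟩ := hdense.nonempty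
  haveI hn : Nonempty ↑(f.fiber (⟨⊥, Ideal.isPrime_bot⟩ : PrimeSpectrum R)) :=
    ⟨(f.fiberHomeo _).symm ⟨x, hx⟩⟩
  exact { toPreconnectedSpace := hp, toNonempty := hn }

end Groth.Agent.S0421
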