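import Groth.Statements.S0422
import Groth.Agent.S0400
import Groth.Agent.S4848

set_option autoImplicit false
universe u
open FlatMor

namespace Groth.Agent.S0422

open TensorProduct in
/-- Fibrewise criterion of flatness modulo a locally nilpotent ideal: let R → S be of finite type, S' an
S-algebra which is of finite presentation over R, I an ideal of R all of whose elements are
nilpotent, and M a finitely presented S'-module which is flat over R and such that M/IM is flat over
S/IS. Then M is flat over S. (The published statement also asserts flatness over R of suitable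
localizations of S; that part is not stated here.) -/
theorem result {R S S' M : Type u} [CommRing R] [CommRing S] [CommRing S'] [Algebra R S] [Algebra S S'] [Algebra R S'] [IsScalarTower R S S']
    [Algebra.FiniteType R S] [Algebra.FinitePresentation R S'] (I : Ideal R) (hI : ∀ a ∈ I, IsNilpotent a)
    [AddCommGroup M] [Module S' M] [Module S M] [Module R M] [IsScalarTower S S' M] [IsScalarTower R S M]
    [Module.FinitePresentation S' M] [Module.Flat R M]
    (h : Module.Flat (S ⧸ I.map (algebraMap R S)) ((S ⧸ I.map (algebraMap R S)) ⊗[S] M)) : Module.Flat S M := by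
  classical
  haveI : Algebra.FinitePresentation S S' :=
    Algebra.FinitePresentation.of_restrict_scalars_finitePresentation R S S'
  -- the directed system of quotients by finitely generated subideals
  let ι := {J : Ideal R // J ≤ I ∧ J.FG}
  let G : ι → Type u := fun J => S ⧸ J.1.map (algebraMap R S)
  let g : ∀ i j : ι, i ≤ j → G i →ₐ[S] G j := fun i j hij =>
    Ideal.Quotient.factorₐ S (Ideal.map_mono (show i.1 ≤ j.1 from hij))
  letI alg : ∀ i : ι, Algebra (G i) (S ⧸ I.map (algebraMap R S)) := fun i =>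
    (Ideal.Quotient.factor (Ideal.map_mono i.2.1)).toAlgebra
  haveI : ∀ i : ι, IsScalarTower S (G i) (S ⧸ I.map (algebraMap R S)) := fun i =>
    IsScalarTower.of_algebraMap_eq (fun s => rfl)
  have hcolim : FlatCA.IsDirectedColimitRing G (fun i j hij => (g i j hij).toRingHom)
      (S ⧸ I.map (algebraMap R S)) := by
    refine ⟨⟨fun i j => ⟨⟨i.1 ⊔ j.1, sup_le i.2.1 j.2.1, Submodule.FG.sup i.2.2 j.2.2⟩,
      (le_sup_left : i.1 ≤ i.1 ⊔ j.1), (le_sup_right : j.1 ≤ i.1 ⊔ j.1)⟩⟩,
      ⟨⟨⊥, bot_le, Submodule.fg_bot⟩⟩, ?_, ?_, ?_, ?_, ?_⟩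
    · intro i
      refine Ideal.Quotient.ringHom_ext ?_
      ext s
      rfl
    · intro i j k hij hjk
      refine Ideal.Quotient.ringHom_ext ?_
      ext s
      rfl
    · intro i j hij
      refine Ideal.Quotient.ringHom_ext ?_
      ext s
      rfl
    · intro a
      obtain ⟨s, rfl⟩ := Ideal.Quotient.mk_surjective a
      exact ⟨⟨⊥, bot_le, Submodule.fg_bot⟩, Ideal.Quotient.mk _ s, rfl⟩
    · intro i x hx
      obtain ⟨s, rfl⟩ := Ideal.Quotient.mk_surjective x
      have hs : s ∈ I.map (algebraMap R S) := by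
        rw [← Ideal.Quotient.eq_zero_iff_mem]
        exact hx
      -- `s` lies in the extension of a finitely generated subideal
      have key : ∀ s ∈ I.map (algebraMap R S), ∃ J : Ideal R, J ≤ I ∧ J.FG ∧
          s ∈ J.map (algebraMap R S) := by
        intro s hs
        refine Submodule.span_induction (p := fun s _ => ∃ J : Ideal R, J ≤ I ∧ J.FG ∧
          s ∈ J.map (algebraMap R S)) ?_ ?_ ?_ ?_ hs
        · rintro _ ⟨a, ha, rfl⟩
          refine ⟨Ideal.span {a}, ?_, ⟨{a}, by simp⟩, ?_⟩
          · rw [Ideal.span_le]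
            intro b hb
            rw [Set.mem_singleton_iff.mp hb]
            exact ha
          · exact Ideal.mem_map_of_mem _ (Ideal.subset_span (Set.mem_singleton a))
        · exact ⟨⊥, bot_le, Submodule.fg_bot, Ideal.zero_mem _⟩
        · rintro x y _ _ ⟨J₁, h₁, f₁, m₁⟩ ⟨J₂, h₂, f₂, m₂⟩
          exact ⟨J₁ ⊔ J₂, sup_le h₁ h₂, Submodule.FG.sup f₁ f₂,
            Ideal.add_mem _ (Ideal.map_mono le_sup_left m₁) (Ideal.map_mono le_sup_right m₂)⟩
        · rintro c x _ ⟨J, hJ, fJ, mJ⟩
          exact ⟨J, hJ, fJ, Ideal.mul_mem_left _ c mJ⟩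
      obtain ⟨J, hJI, hJfg, hsJ⟩ := key s hs
      refine ⟨⟨i.1 ⊔ J, sup_le i.2.1 hJI, Submodule.FG.sup i.2.2 hJfg⟩, (le_sup_left : i.1 ≤ i.1 ⊔ J), ?_⟩
      show Ideal.Quotient.mk _ s = 0
      rw [Ideal.Quotient.eq_zero_iff_mem]
      exact Ideal.map_mono le_sup_right hsJ
  obtain ⟨J, hJ⟩ := (Groth.Agent.S4848.result (A₀ := S) G g (S ⧸ I.map (algebraMap R S)) hcolim
    (B₀ := S') M).mp h
  have hnil : IsNilpotent J.1 := by
    rw [Ideal.FG.isNilpotent_iff_le_nilradical J.2.2]
    intro a ha
    exact mem_nilradical.mpr (hI a (J.2.1 ha))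
  exact Groth.Agent.S0400.result J.1 hnil hJ

end Groth.Agent.S0422
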