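import Groth.Statements.S0436
import Groth.Agent.H68.DvrConn
import Groth.Agent.H9.FiberStalk
import Groth.Agent.H57.RedFib

set_option autoImplicit false
universe u
open FlatMor

namespace Groth.Agent.S0436

open AlgebraicGeometry CategoryTheory Limits

theorem pow_regular {B : Type*} [CommRing B] (p : B) (hreg : ∀ b : B, p * b = 0 → b = 0) :
    ∀ (k : ℕ) (x : B), p ^ k * x = 0 → x = 0 := by
  intro k
  induction k with
  | zero => intro x hx; simpa using hx
  | succ k ih =>
    intro x hx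
    apply hreg
    apply ih
    rw [← mul_assoc, ← pow_succ]
    exact hx

/-- `π` regular, `(π)` radical, `B` Noetherian: some `r ≡ 1 mod π` kills the nilradical. -/
theorem exists_killer {B : Type*} [CommRing B] [IsNoetherianRing B] (p : B)
    (hreg : ∀ b : B, p * b = 0 → b = 0) (hrad : (Ideal.span {p}).IsRadical) :
    ∃ r : B, r - 1 ∈ Ideal.span {p} ∧ ∀ n : B, IsNilpotent n → r * n = 0 := by
  have hfg : (nilradical B : Submodule B B).FG := IsNoetherian.noetherian _
  have hle : (nilradical B : Submodule B B) ≤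
      (Ideal.span {p}) • (nilradical B : Submodule B B) := by
    intro n hn
    have hn' : IsNilpotent n := mem_nilradical.mp hn
    have h1 : n ∈ Ideal.span {p} := by
      obtain ⟨k, hk⟩ := hn'
      exact hrad (Ideal.mem_radical_iff.mpr ⟨k, by rw [hk]; exact Ideal.zero_mem _⟩)
    obtain ⟨b, rfl⟩ := Ideal.mem_span_singleton'.mp h1
    have hb : IsNilpotent b := by
      obtain ⟨k, hk⟩ := hn'
      refine ⟨k, ?_⟩
      rw [mul_pow, mul_comm] at hk
      exact pow_regular p hreg k _ hk
    have : b * p = p • b := by rw [smul_eq_mul, mul_comm]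
    rw [this]
    exact Submodule.smul_mem_smul (Ideal.subset_span rfl) (mem_nilradical.mpr hb)
  obtain ⟨r, hr1, hr2⟩ :=
    Submodule.exists_sub_one_mem_and_smul_eq_zero_of_fg_of_le_smul (Ideal.span {p}) _ hfg hle
  exact ⟨r, hr1, fun n hn => hr2 n (mem_nilradical.mpr hn)⟩

theorem isReduced_quot_of_eq_bot {A : Type*} [CommRing A] (I : Ideal A) (hI : I = ⊥)
    [_root_.IsReduced A] : _root_.IsReduced (A ⧸ I) := by
  subst hI
  exact isReduced_of_injective (RingEquiv.quotientBot A).toRingHom (RingEquiv.injective _)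

theorem maximalIdeal_stalk_eq_bot {R : Type u} [CommRing R] [IsDomain R]
    (z : ↥(Spec (CommRingCat.of R)))
    (hz : z = (⟨⊥, Ideal.isPrime_bot⟩ : PrimeSpectrum R)) :
    IsLocalRing.maximalIdeal ((Spec (CommRingCat.of R)).presheaf.stalk z) = ⊥ := by
  subst hz
  letI k : Algebra R ↑((Spec (CommRingCat.of R)).presheaf.stalk
      (⟨⊥, Ideal.isPrime_bot⟩ : PrimeSpectrum R)) :=
    StructureSheaf.stalkAlgebra R (⟨⊥, Ideal.isPrime_bot⟩ : PrimeSpectrum R)
  haveI : IsLocalization.AtPrime (↑((Spec (CommRingCat.of R)).presheaf.stalk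
      (⟨⊥, Ideal.isPrime_bot⟩ : PrimeSpectrum R))) (⊥ : Ideal R) :=
    StructureSheaf.IsLocalization.to_stalk R (⟨⊥, Ideal.isPrime_bot⟩ : PrimeSpectrum R)
  rw [← IsLocalization.AtPrime.map_eq_maximalIdeal (⊥ : Ideal R), Ideal.map_bot]

/-- stalks of the spectrum of `B` at `y` are reduced as soon as nilpotents die near `y`. -/
theorem isReduced_stalk_Spec (B : CommRingCat.{u}) (y : ↥(Spec B))
    (h : ∀ n : B, IsNilpotent n → ∃ u : B, u ∉ (y : PrimeSpectrum B).asIdeal ∧ u * n = 0) :
    _root_.IsReduced ((Spec B).presheaf.stalk y) := by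
  letI k : Algebra B ↑((Spec B).presheaf.stalk y) := StructureSheaf.stalkAlgebra B y
  haveI : IsLocalization.AtPrime (↑((Spec B).presheaf.stalk y)) (y : PrimeSpectrum B).asIdeal :=
    StructureSheaf.IsLocalization.to_stalk B y
  exact Groth.Agent.H57.isReduced_of_forall_nilpotent_killed (y : PrimeSpectrum B).asIdeal _ h

open AlgebraicGeometry CategoryTheory Limits in
/-- For a proper flat morphism to the spectrum of a discrete valuation ring whose special fibre is
reduced, both the total space and the generic fibre are reduced. (The published statement is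
stronger: instead of flatness it only needs every irreducible component of the total space to
dominate the base.) -/
theorem result {R : Type u} [CommRing R] [IsDomain R] [IsDiscreteValuationRing R] {X : Scheme.{u}}
    (f : X ⟶ Spec (CommRingCat.of R)) [IsProper f] [Flat f]
    (hred : IsReduced (f.fiber (IsLocalRing.closedPoint R))) :
    IsReduced X ∧ IsReduced (f.fiber (⟨⊥, Ideal.isPrime_bot⟩ : PrimeSpectrum R)) := by
  obtain ⟨ϖ, hϖ⟩ := IsDiscreteValuationRing.exists_irreducible R
  have hmax : IsLocalRing.maximalIdeal R = Ideal.span {ϖ} := hϖ.maximalIdeal_eq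
  have hs : (IsLocalRing.closedPoint R).asIdeal = Ideal.span {ϖ} := hmax
  haveI : (IsLocalRing.closedPoint R).asIdeal.IsMaximal := IsLocalRing.maximalIdeal.isMaximal R
  have hϖ0 : ∀ r : R, ϖ * r = 0 → r = 0 :=
    fun r hr => (mul_eq_zero.mp hr).resolve_left hϖ.ne_zero
  haveI : IsLocallyNoetherian X := LocallyOfFiniteType.isLocallyNoetherian f
  haveI : CompactSpace X := QuasiCompact.compactSpace_of_compactSpace f
  -- all stalks of `X` are reduced
  have hstalk : ∀ x : X, _root_.IsReduced (X.presheaf.stalk x) := by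
    intro x
    obtain ⟨x₀, hx₀cl, hx₀⟩ := (isClosed_closure (s := ({x} : Set X))).exists_closed_singleton
      ⟨x, subset_closure rfl⟩
    have hspec : x ⤳ x₀ := specializes_iff_mem_closure.mpr hx₀cl
    have hfx₀ : f x₀ = IsLocalRing.closedPoint R := by
      have hcl : IsClosed (f '' {x₀}) := f.isClosedMap _ hx₀
      rw [Set.image_singleton] at hcl
      have hm : (f x₀ : PrimeSpectrum R).asIdeal.IsMaximal :=
        (PrimeSpectrum.isClosed_singleton_iff_isMaximal _).mp hcl
      exact PrimeSpectrum.ext (IsLocalRing.eq_maximalIdeal hm)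
    obtain ⟨_, ⟨U, hU, rfl⟩, hx₀U, -⟩ :=
      (X.isBasis_affineOpens).exists_subset_of_mem_open (Set.mem_univ x₀) isOpen_univ
    have hU' : IsAffineOpen U := hU
    have hxU : x ∈ U := hspec.mem_open U.isOpen hx₀U
    haveI : IsNoetherianRing Γ(X, U) := IsLocallyNoetherian.component_noetherian ⟨U, hU'⟩
    let φ : CommRingCat.of R ⟶ Γ(X, U) := Spec.preimage (hU'.fromSpec ≫ f)
    have h : Spec.map φ = hU'.fromSpec ≫ f := Spec.map_preimage _
    have hreg := Groth.Agent.H68.DvrConn.regular_of_flat ϖ hϖ0 f Γ(X, U) φ hU'.fromSpec h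
    have hrad := Groth.Agent.H68.DvrConn.radical_of_isReduced_fiber ϖ (IsLocalRing.closedPoint R)
      hs f hred Γ(X, U) φ hU'.fromSpec h
    obtain ⟨r, hr1, hr2⟩ := exists_killer (φ.hom ϖ) hreg hrad
    obtain ⟨y₀, hy₀⟩ : x₀ ∈ Set.range hU'.fromSpec := by rw [hU'.range_fromSpec]; exact hx₀U
    obtain ⟨y, rfl⟩ : x ∈ Set.range hU'.fromSpec := by rw [hU'.range_fromSpec]; exact hxU
    have hϖy₀ : φ.hom ϖ ∈ (y₀ : PrimeSpectrum Γ(X, U)).asIdeal := by
      have h1 : (Spec.map φ) y₀ = IsLocalRing.closedPoint R := by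
        rw [h]
        show f (hU'.fromSpec y₀) = _
        rw [hy₀, hfx₀]
      have h2 : ϖ ∈ ((Spec.map φ) y₀ : PrimeSpectrum R).asIdeal := by
        rw [h1, hs]
        exact Ideal.subset_span rfl
      exact h2
    have hry₀ : r ∉ (y₀ : PrimeSpectrum Γ(X, U)).asIdeal := by
      intro hr
      have h1 : r - 1 ∈ (y₀ : PrimeSpectrum Γ(X, U)).asIdeal :=
        (Ideal.span_singleton_le_iff_mem _).mpr hϖy₀ hr1
      have h2 : (1 : Γ(X, U)) ∈ (y₀ : PrimeSpectrum Γ(X, U)).asIdeal := by
        have := Ideal.sub_mem _ hr h1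
        simpa using this
      exact (y₀ : PrimeSpectrum Γ(X, U)).isPrime.ne_top ((Ideal.eq_top_iff_one _).mpr h2)
    have hsp : (y : PrimeSpectrum Γ(X, U)) ⤳ (y₀ : PrimeSpectrum Γ(X, U)) := by
      refine (hU'.fromSpec.isOpenEmbedding.isInducing.specializes_iff).mp ?_
      rw [hy₀]
      exact hspec
    have hyy₀ : (y : PrimeSpectrum Γ(X, U)).asIdeal ≤ (y₀ : PrimeSpectrum Γ(X, U)).asIdeal :=
      (PrimeSpectrum.le_iff_specializes (y : PrimeSpectrum Γ(X, U)) y₀).mpr hsp
    have hry : r ∉ (y : PrimeSpectrum Γ(X, U)).asIdeal := fun hr => hry₀ (hyy₀ hr)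
    haveI : _root_.IsReduced ((Spec Γ(X, U)).presheaf.stalk y) :=
      isReduced_stalk_Spec Γ(X, U) y (fun n hn => ⟨r, hry, hr2 n hn⟩)
    exact isReduced_of_injective (hU'.fromSpec.stalkMap y).hom
      (ConcreteCategory.bijective_of_isIso (hU'.fromSpec.stalkMap y)).injective
  haveI := hstalk
  refine ⟨isReduced_of_isReduced_stalk X, ?_⟩
  -- the generic fibre
  haveI : ∀ y : ↥(f.fiber (⟨⊥, Ideal.isPrime_bot⟩ : PrimeSpectrum R)),
      _root_.IsReduced ((f.fiber (⟨⊥, Ideal.isPrime_bot⟩ : PrimeSpectrum R)).presheaf.stalk y) := by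
    intro y
    have hfx : f ((f.fiberι (⟨⊥, Ideal.isPrime_bot⟩ : PrimeSpectrum R)) y) =
        (⟨⊥, Ideal.isPrime_bot⟩ : PrimeSpectrum R) := by
      have : (f.fiberι (⟨⊥, Ideal.isPrime_bot⟩ : PrimeSpectrum R)) y ∈
          Set.range (f.fiberι (⟨⊥, Ideal.isPrime_bot⟩ : PrimeSpectrum R)) := ⟨y, rfl⟩
      rw [Scheme.Hom.range_fiberι] at this
      exact this
    have hm := maximalIdeal_stalk_eq_bot _ hfx
    let e := Groth.Agent.H9.fiberStalkEquiv f (⟨⊥, Ideal.isPrime_bot⟩ : PrimeSpectrum R) y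
    haveI := isReduced_quot_of_eq_bot
      (Ideal.map (f.stalkMap ((f.fiberι (⟨⊥, Ideal.isPrime_bot⟩ : PrimeSpectrum R)).base y)).hom
        (IsLocalRing.maximalIdeal ((Spec (CommRingCat.of R)).presheaf.stalk
          (f.base ((f.fiberι (⟨⊥, Ideal.isPrime_bot⟩ : PrimeSpectrum R)).base y)))))
      (by rw [hm, Ideal.map_bot])
    exact isReduced_of_injective e.symm.toRingHom e.symm.injective
  exact isReduced_of_isReduced_stalk _

end Groth.Agent.S0436
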