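import Groth.Statements.S0443
import Mathlib.AlgebraicGeometry.Morphisms.Finite
import Mathlib.RingTheory.Localization.Finiteness
import Mathlib.RingTheory.Ideal.GoingUp
import Mathlib.RingTheory.RingHom.Finite

set_option autoImplicit false
universe u
open FlatMor

namespace Groth.Agent.S0443

open AlgebraicGeometry CategoryTheory Limits
lemma ring_lemma {A B : Type u} [CommRing A] [CommRing B] (φ : A →+* B) (hφ : φ.Finite)
    (p : Ideal A) [p.IsPrime] (q : Ideal B) [q.IsPrime] (hpq : p = q.comap φ)
    (huniq : ∀ q' : Ideal B, q'.IsPrime → q'.comap φ = p → q' = q) :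
    (Localization.localRingHom p q φ hpq).Finite := by
  classical
  let _ : Algebra A B := φ.toAlgebra
  have hfin : Module.Finite A B := hφ
  obtain ⟨Bp, hBp⟩ : ∃ Bp : Type u, Bp = Localization (Algebra.algebraMapSubmonoid B p.primeCompl) :=
    ⟨_, rfl⟩
  subst hBp
  have hint : Algebra.IsIntegral (Localization.AtPrime p)
      (Localization (Algebra.algebraMapSubmonoid B p.primeCompl)) :=
    Algebra.IsIntegral.of_finite _ _
  have hunit : ∀ b ∈ q.primeCompl, IsUnit
      (algebraMap B (Localization (Algebra.algebraMapSubmonoid B p.primeCompl)) b) := by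
    intro b hb
    by_contra hnu
    obtain ⟨m, hm, hbm⟩ := exists_max_ideal_of_mem_nonunits (mem_nonunits_iff.mpr hnu)
    have := hm
    have hmax : (m.comap (algebraMap (Localization.AtPrime p)
        (Localization (Algebra.algebraMapSubmonoid B p.primeCompl)))).IsMaximal :=
      Ideal.isMaximal_comap_of_isIntegral_of_isMaximal m
    have hm1 := IsLocalRing.eq_maximalIdeal hmax
    have hq' : (m.comap (algebraMap B
        (Localization (Algebra.algebraMapSubmonoid B p.primeCompl)))).comap φ = p := by
      have h1 : (m.comap (algebraMap B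
          (Localization (Algebra.algebraMapSubmonoid B p.primeCompl)))).comap (algebraMap A B) =
          (m.comap (algebraMap (Localization.AtPrime p)
            (Localization (Algebra.algebraMapSubmonoid B p.primeCompl)))).comap
            (algebraMap A (Localization.AtPrime p)) := by
        rw [Ideal.comap_comap, Ideal.comap_comap, ← IsScalarTower.algebraMap_eq,
          ← IsScalarTower.algebraMap_eq]
      show (m.comap (algebraMap B
          (Localization (Algebra.algebraMapSubmonoid B p.primeCompl)))).comap (algebraMap A B) = p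
      rw [h1, hm1]
      exact Localization.AtPrime.under_maximalIdeal
    have hqq := huniq _ (Ideal.comap_isPrime _ m) hq'
    apply hb
    rw [← hqq]
    exact hbm
  have hle : Algebra.algebraMapSubmonoid B p.primeCompl ≤ q.primeCompl := by
    rintro _ ⟨a, ha, rfl⟩
    intro haq
    apply ha
    rw [hpq]
    exact haq
  have : IsLocalization.AtPrime (Localization (Algebra.algebraMapSubmonoid B p.primeCompl)) q :=
    IsLocalization.of_le _ q.primeCompl hle hunit
  obtain ⟨e⟩ : Nonempty (Localization (Algebra.algebraMapSubmonoid B p.primeCompl) ≃ₐ[B]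
      Localization.AtPrime q) :=
    ⟨IsLocalization.algEquiv q.primeCompl _ _⟩
  have hcomp : Localization.localRingHom p q φ hpq =
      (e.toRingEquiv.toRingHom).comp (algebraMap (Localization.AtPrime p)
        (Localization (Algebra.algebraMapSubmonoid B p.primeCompl))) := by
    apply IsLocalization.ringHom_ext p.primeCompl (S := Localization.AtPrime p)
    refine RingHom.ext fun a => ?_
    show Localization.localRingHom p q φ hpq (algebraMap A (Localization.AtPrime p) a) =
      e (algebraMap (Localization.AtPrime p)
        (Localization (Algebra.algebraMapSubmonoid B p.primeCompl))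
        (algebraMap A (Localization.AtPrime p) a))
    rw [Localization.localRingHom_to_map,
      ← IsScalarTower.algebraMap_apply A (Localization.AtPrime p)
        (Localization (Algebra.algebraMapSubmonoid B p.primeCompl)),
      IsScalarTower.algebraMap_apply A B
        (Localization (Algebra.algebraMapSubmonoid B p.primeCompl)), e.commutes]
    rfl
  rw [hcomp]
  exact RingHom.Finite.comp (RingHom.Finite.of_surjective _ e.surjective)
    (RingHom.finite_algebraMap.mpr inferInstance)

open AlgebraicGeometry CategoryTheory Limits in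
/-- For a finite morphism π : X → Y and a point x of X that is the only point of its fibre, the induced
homomorphism of local rings O_{Y,π(x)} → O_{X,x} is finite. (The published lemma has further parts,
not stated here.) -/
theorem result {X Y : Scheme.{u}} (π : X ⟶ Y) [IsFinite π] (x : X) (hx : ∀ x' : ↑X, π x' = π x → x' = x) :
    (π.stalkMap x).hom.Finite := by
  obtain ⟨U, hU, hxU, -⟩ := exists_isAffineOpen_mem_and_subset (x := π x) (U := ⊤) trivial
  have hV : IsAffineOpen (π ⁻¹ᵁ U) := hU.preimage π
  have hxV : x ∈ π ⁻¹ᵁ U := hxU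
  have e := IsAffineOpen.arrowStalkMapIso π U hU (π ⁻¹ᵁ U) hV le_rfl hxV
  rw [RingHom.finite_respectsIso.arrow_mk_iso_iff e]
  have hpq : (hU.primeIdealOf ⟨π x, hxU⟩).asIdeal =
      Ideal.comap (π.appLE U (π ⁻¹ᵁ U) le_rfl).hom (hV.primeIdealOf ⟨x, hxV⟩).asIdeal :=
    congr($(IsAffineOpen.comap_primeIdealOf_appLE U hU _ hV le_rfl hxV).1).symm
  refine ring_lemma _ ?_ _ _ hpq ?_
  · rw [← Scheme.Hom.app_eq_appLE]
    exact IsFinite.finite_app π U hU
  · intro q' hq' hcomap
    obtain ⟨Q, hQ⟩ : ∃ Q : Spec Γ(X, π ⁻¹ᵁ U), Q = (⟨q', hq'⟩ : PrimeSpectrum Γ(X, π ⁻¹ᵁ U)) :=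
      ⟨_, rfl⟩
    have h1 : π (hV.fromSpec Q) = π x := by
      have h0 := congrArg (fun g => g Q) (IsAffineOpen.SpecMap_appLE_fromSpec π hU hV le_rfl)
      simp only [Scheme.Hom.comp_apply] at h0
      rw [← h0]
      have h2 : Spec.map (π.appLE U (π ⁻¹ᵁ U) le_rfl) Q = hU.primeIdealOf ⟨π x, hxU⟩ := by
        apply PrimeSpectrum.ext
        rw [hQ]
        exact hcomap
      rw [h2, hU.fromSpec_primeIdealOf]
    have h3 : hV.fromSpec Q = x := hx _ h1
    have h4 : hV.fromSpec Q = hV.fromSpec (hV.primeIdealOf ⟨x, hxV⟩) := by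
      rw [h3, hV.fromSpec_primeIdealOf]
    have h5 : Q = hV.primeIdealOf ⟨x, hxV⟩ := hV.fromSpec.isOpenEmbedding.injective h4
    rw [← h5, hQ]

end Groth.Agent.S0443
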