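import Groth.Statements.S0450
import Mathlib
import Groth.Agent.S1333
import Groth.Agent.H38.ValFinite
import Groth.Agent.H52.ValCrit

set_option autoImplicit false
universe u
open FlatMor

namespace Groth.Agent.S0450


open AlgebraicGeometry CategoryTheory Limits Topology

/-- A base change of `f` along a map landing in an open `V` over which `f` is finite is finite. -/
theorem isFinite_of_isPullback_of_range_subset {X S Z P : Scheme.{u}} (f : X ⟶ S) (V : S.Opens)
    [IsFinite (f ∣_ V)] (c : Z ⟶ S) (hc : Set.range c ⊆ (V : Set S))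
    (p : P ⟶ X) (q : P ⟶ Z) (hP : IsPullback p q f c) : IsFinite q := by
  have hrange : Set.range c ⊆ Set.range V.ι := by
    rw [Scheme.Opens.range_ι]
    exact hc
  let r : Z ⟶ V.toScheme := IsOpenImmersion.lift V.ι c hrange
  have hr : r ≫ V.ι = c := IsOpenImmersion.lift_fac _ _ _
  have hsq : IsPullback (f ⁻¹ᵁ V).ι (f ∣_ V) f V.ι := (isPullback_morphismRestrict f V).flip
  let l : P ⟶ (f ⁻¹ᵁ V).toScheme := hsq.lift p (q ≫ r)
    (by rw [Category.assoc, hr]; exact hP.w)
  have hl1 : l ≫ (f ⁻¹ᵁ V).ι = p := hsq.lift_fst _ _ _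
  have hl2 : l ≫ (f ∣_ V) = q ≫ r := hsq.lift_snd _ _ _
  have hP' : IsPullback l q (f ∣_ V) r := by
    refine IsPullback.of_right ?_ hl2 hsq
    rw [hl1, hr]
    exact hP
  exact MorphismProperty.of_isPullback (P := @IsFinite) hP' inferInstance

/-- Finite fibres specialize along a flat proper morphism (valuative argument). -/
theorem finite_fibre_of_specializes {X S : Scheme.{u}} (f : X ⟶ S) [Flat f] [IsProper f]
    {s₁ s : S} (hs : s₁ ⤳ s) (hfin : (f ⁻¹' {s₁}).Finite) : (f ⁻¹' {s}).Finite := by
  obtain ⟨V, hs₁V, hV⟩ := exists_isFinite_morphismRestrict_of_finite_preimage_singleton f s₁ hfin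
  haveI := hV
  obtain ⟨A, b, hb, hbm⟩ :=
    Groth.Agent.H52.exists_valuationSubring_of_specializes (𝟙 S) s₁ s hs
  have hc : Spec.map (CommRingCat.ofHom (algebraMap A (S.residueField s₁))) ≫ b =
      S.fromSpecResidueField s₁ := by
    rw [hb]
    exact Category.comp_id _
  have hgen : IsFinite (pullback.snd (pullback.snd f b)
      (Spec.map (CommRingCat.ofHom (algebraMap A (S.residueField s₁))))) := by
    refine isFinite_of_isPullback_of_range_subset f V
      (Spec.map (CommRingCat.ofHom (algebraMap A (S.residueField s₁))) ≫ b) ?_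
      (pullback.fst (pullback.snd f b) _ ≫ pullback.fst f b) (pullback.snd (pullback.snd f b) _) ?_
    · rw [hc, Scheme.range_fromSpecResidueField]
      rintro _ rfl
      exact hs₁V
    · exact (IsPullback.of_hasPullback (pullback.snd f b) _).paste_horiz
        (IsPullback.of_hasPullback f b)
  obtain ⟨pt⟩ : Nonempty ↥(Spec (S.residueField s₁)) := inferInstance
  have hept : Spec.map (CommRingCat.ofHom (algebraMap A (S.residueField s₁))) pt =
      genericPoint (Spec (CommRingCat.of A)) := by
    refine Eq.trans ?_ (genericPoint_eq_bot_of_affine (CommRingCat.of A)).symm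
    apply PrimeSpectrum.ext
    haveI := pt.isPrime
    have h1 : pt.asIdeal = ⊥ := Ideal.eq_bot_of_prime pt.asIdeal
    show Ideal.comap (algebraMap A (S.residueField s₁)) pt.asIdeal = ⊥
    rw [h1]
    exact Ideal.comap_bot_of_injective _ (FaithfulSMul.algebraMap_injective _ _)
  have hfinη : ((pullback.snd f b).base ⁻¹' {genericPoint (Spec (CommRingCat.of A))}).Finite := by
    have h1 := (pullback.snd (pullback.snd f b)
      (Spec.map (CommRingCat.ofHom (algebraMap A (S.residueField s₁))))).finite_preimage_singleton pt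
    refine (h1.image (pullback.fst (pullback.snd f b) _)).subset ?_
    intro z hz
    have hz' : (pullback.snd f b) z = genericPoint (Spec (CommRingCat.of A)) :=
      Set.mem_singleton_iff.mp hz
    obtain ⟨w, hw1, hw2⟩ := Scheme.Pullback.exists_preimage_pullback (f := pullback.snd f b)
      (g := Spec.map (CommRingCat.ofHom (algebraMap A (S.residueField s₁)))) z pt
      (by rw [hept]; exact hz')
    exact ⟨w, Set.mem_singleton_iff.mpr hw2, hw1⟩
  haveI : IsFinite (pullback.snd f b) :=
    Groth.Agent.H38.ValFinite.isFinite_of_flat_proper (pullback.snd f b) hfinη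
  have h2 := (pullback.snd f b).finite_preimage_singleton (IsLocalRing.closedPoint A)
  refine (h2.image (pullback.fst f b)).subset ?_
  intro x hx
  have hx' : f x = s := Set.mem_singleton_iff.mp hx
  obtain ⟨w, hw1, hw2⟩ := Scheme.Pullback.exists_preimage_pullback (f := f) (g := b) x
    (IsLocalRing.closedPoint A) (by rw [hbm]; exact hx')
  exact ⟨w, Set.mem_singleton_iff.mpr hw2, hw1⟩

theorem finite_fibre_iff_dim {X S : Scheme.{u}} (f : X ⟶ S) [LocallyOfFiniteType f]
    [QuasiCompact f] (s : S) :
    (f ⁻¹' {s}).Finite ↔ topologicalKrullDim ↥(f.fiber s) ≤ 0 := by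
  constructor
  · intro h
    exact (Groth.Agent.H9.FibDim.dim_fiber_le_iff f s 0).mpr
      (fun x hx => Groth.Agent.H38.ValFinite.fibreDimAt_le_zero_of_finite f s h x hx)
  · intro h
    exact Groth.Agent.H38.ValFinite.finite_fibre_of_fibreDimAt_le_zero f s
      ((Groth.Agent.H9.FibDim.dim_fiber_le_iff f s 0).mp h)

theorem withBot_enat_le_zero_iff (a : WithBot ℕ∞) : a ≤ 0 ↔ a = ⊥ ∨ a = 0 := by
  induction a using WithBot.recBotCoe with
  | bot => simp
  | coe n =>
    constructor
    · intro h
      right
      exact le_antisymm h (by exact_mod_cast (zero_le : (0 : ℕ∞) ≤ n))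
    · rintro (h | h)
      · exact absurd h WithBot.coe_ne_bot
      · exact h.le



open AlgebraicGeometry CategoryTheory Limits in
/-- A flat proper morphism locally of finite presentation that is finite over a dense open subset of the
target is finite (the source alternatively allows the open to be retrocompact instead of assuming
finite presentation; only this alternative is stated). -/
theorem result {X S : Scheme.{u}} (f : X ⟶ S) [Flat f] [IsProper f] [LocallyOfFinitePresentation f] (U : S.Opens)
    (hU : Dense (U : Set ↑S)) [IsFinite (f ∣_ U)] : IsFinite f := by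
  have hfibU : ∀ s : S, s ∈ U → (f ⁻¹' {s}).Finite := by
    intro s hs
    obtain ⟨u, hu⟩ : s ∈ Set.range U.ι := by
      rw [Scheme.Opens.range_ι]
      exact hs
    have h1 := (f ∣_ U).finite_preimage_singleton u
    refine (h1.image (f ⁻¹ᵁ U).ι).subset ?_
    intro x hx
    have hx' : f x = s := Set.mem_singleton_iff.mp hx
    have hxU : x ∈ f ⁻¹ᵁ U := by
      show f x ∈ U
      rw [hx']
      exact hs
    obtain ⟨x', hx'x⟩ : x ∈ Set.range (f ⁻¹ᵁ U).ι := by
      rw [Scheme.Opens.range_ι]
      exact hxU
    refine ⟨x', Set.mem_singleton_iff.mpr ?_, hx'x⟩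
    apply U.ι.isOpenEmbedding.injective
    rw [← Scheme.Hom.comp_apply, morphismRestrict_ι, Scheme.Hom.comp_apply, hx'x, hx', hu]
  have hLC : IsLocallyConstructible {s : S | (f ⁻¹' {s}).Finite} := by
    have h0 := Groth.Agent.S1333.result f 0
    have hb := Groth.Agent.S1333.result f ⊥
    have heq : {s : S | (f ⁻¹' {s}).Finite} =
        {y : S | topologicalKrullDim ↥(f.fiber y) = ⊥} ∪
          {y : S | topologicalKrullDim ↥(f.fiber y) = 0} := by
      ext s
      simp only [Set.mem_ofPred_eq, Set.mem_union]
      rw [finite_fibre_iff_dim, withBot_enat_le_zero_iff]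
    rw [heq]
    exact hb.union h0
  have hspec : StableUnderSpecialization {s : S | (f ⁻¹' {s}).Finite} := by
    intro s₁ s hs hs₁
    exact finite_fibre_of_specializes f hs hs₁
  have hall : ∀ s : S, (f ⁻¹' {s}).Finite := by
    intro s
    obtain ⟨_, ⟨W, hW, rfl⟩, hsW, -⟩ := S.isBasis_affineOpens.exists_subset_of_mem_open
      (Set.mem_univ s) isOpen_univ
    haveI := hW.isOpenImmersion_fromSpec
    have hj : IsOpenEmbedding hW.fromSpec := hW.fromSpec.isOpenEmbedding
    have hcons : IsConstructible (hW.fromSpec ⁻¹' {s : S | (f ⁻¹' {s}).Finite}) :=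
      (hLC.preimage_of_isOpenEmbedding hj).isConstructible
    have hst : StableUnderSpecialization (hW.fromSpec ⁻¹' {s : S | (f ⁻¹' {s}).Finite}) :=
      hspec.preimage hW.fromSpec.continuous
    have hcl : IsClosed (hW.fromSpec ⁻¹' {s : S | (f ⁻¹' {s}).Finite}) :=
      PrimeSpectrum.isClosed_of_stableUnderSpecialization_of_isConstructible hst hcons
    have hdense : Dense (hW.fromSpec ⁻¹' {s : S | (f ⁻¹' {s}).Finite}) :=
      (hU.preimage hj.isOpenMap).mono (fun x hx => hfibU _ hx)
    have huniv : hW.fromSpec ⁻¹' {s : S | (f ⁻¹' {s}).Finite} = Set.univ := by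
      rw [← hcl.closure_eq]
      exact hdense.closure_eq
    obtain ⟨x, hx⟩ : s ∈ Set.range hW.fromSpec := by
      rw [hW.range_fromSpec]
      exact hsW
    have hxG : x ∈ hW.fromSpec ⁻¹' {s : S | (f ⁻¹' {s}).Finite} := by
      rw [huniv]
      trivial
    rw [← hx]
    exact hxG
  haveI : LocallyQuasiFinite f := locallyQuasiFinite_iff_finite_preimage_singleton.mpr hall
  exact IsFinite.of_isProper_of_locallyQuasiFinite f

end Groth.Agent.S0450
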