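import Groth.Statements.S0457
import Groth.Agent.H67.ConstIrred
import Groth.Agent.S0453

set_option autoImplicit false
universe u
open CategoryTheory
open CohTop

namespace Groth.Agent.S0457

/-- If X is an irreducible topological space and A an abelian group, then H^(p+1)(X, A) = 0 for the
constant sheaf with value A. -/
theorem result {X : TopCat.{u}} [IrreducibleSpace X]
    (A : Type u) [AddCommGroup A] (p : ℕ) : Subsingleton (CohTop.H (CohTop.const X A) (p + 1)) := by
  haveI := Groth.Agent.H67.ConstIrred.isFlasque_const X A
  exact Groth.Agent.S0453.result (CohTop.const X A) p

end Groth.Agent.S0457
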