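import Groth.Statements.S0473
import Groth.Agent.H5.BrownFunctor

set_option autoImplicit false
universe v u
open CategoryTheory
open CohDer

namespace Groth.Agent.S0473


section helpers

open CategoryTheory.Limits Groth.Agent.H5.Brown

variable {D : Type u} [Category.{v} D] [Preadditive D] [Limits.HasZeroObject D] [HasShift D ℤ]
    [∀ n : ℤ, (shiftFunctor D n).Additive] [Pretriangulated D] [HasCoproducts.{v} D]
    [HasColimitsOfShape (Discrete ℕ) D]

omit [Category.{v} D] [Preadditive D] [Limits.HasZeroObject D] [HasShift D ℤ]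
    [∀ n : ℤ, (shiftFunctor D n).Additive] [Pretriangulated D] [HasCoproducts.{v} D]
    [HasColimitsOfShape (Discrete ℕ) D] in
lemma toAddMonoid_eq_sum {κ : Type*} [DecidableEq κ] {β : κ → Type*} [∀ k, AddCommMonoid (β k)]
    {γ : Type*} [AddCommMonoid γ] (φ : ∀ k, β k →+ γ) (a : DirectSum κ β) :
    ∃ S : Finset κ, DirectSum.toAddMonoid φ a = ∑ k ∈ S, φ k (a k) := by
  classical
  rw [DirectSum.toAddMonoid, DFinsupp.liftAddHom_apply, DFinsupp.sumAddHom_apply, DFinsupp.sum]
  exact ⟨_, rfl⟩

/-- a family of compact objects is perfect -/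
lemma perfect_of_compact {ι : Type v} (E : ι → D) (hc : ∀ i, CohDer.IsCompactObject (E i)) :
    Perfect E := by
  intro X i α
  classical
  let ε : ULift.{v} ℕ ≃ ℕ := Equiv.ulift
  let X' : ULift.{v} ℕ → D := X ∘ ε
  let r := Sigma.reindex ε X
  obtain ⟨a, ha⟩ := (hc i _ X').2 (α ≫ r.inv)
  obtain ⟨S, hsum⟩ : ∃ S : Finset (ULift.{v} ℕ),
      CohDer.homSumToHomCoprod (E i) X' a = ∑ k ∈ S, a k ≫ Sigma.ι X' k := by
    unfold CohDer.homSumToHomCoprod
    exact @toAddMonoid_eq_sum (ULift.{v} ℕ) (fun a b => Classical.propDecidable (a = b))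
      (fun k => E i ⟶ X' k) _ _ _
      (fun k => Preadditive.rightComp (E i) (Sigma.ι X' k)) a
  refine ⟨fun _ => i, fun n => a ⟨n⟩,
    ∑ k ∈ S, Sigma.ι (fun _ : ℕ => E i) k.down, ?_⟩
  have h0 : α = (α ≫ r.inv) ≫ r.hom := by simp
  rw [h0, ← ha, hsum, Preadditive.sum_comp, Preadditive.sum_comp]
  apply Finset.sum_congr rfl
  intro k _
  rw [Category.assoc, Sigma.ι_reindex_hom, Sigma.ι_map]
  rfl

end helpers

open CategoryTheory.Limits CategoryTheory.Pretriangulated.Opposite in
/-- Assume D is triangulated, has all small coproducts, and admits a set of compact objects that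
generates it. Any cohomological functor from D^op to abelian groups that turns coproducts of D into
products is of the form Hom(-, X) for some object X. -/
theorem result {D : Type u} [Category.{v} D] [Preadditive D] [Limits.HasZeroObject D] [HasShift D ℤ]
    [∀ n : ℤ, (shiftFunctor D n).Additive] [Pretriangulated D] [IsTriangulated D] [HasCoproducts.{v} D]
    (hD : CohDer.IsCompactlyGenerated D) (H : Dᵒᵖ ⥤ AddCommGrpCat.{v}) [H.IsHomological]
    [∀ (ι : Type v), PreservesLimitsOfShape (Discrete ι) H] :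
    (H ⋙ forget AddCommGrpCat.{v}).IsRepresentable := by
  obtain ⟨ι, E, hc, hgen⟩ := hD
  have : HasColimitsOfShape (Discrete ℕ) D :=
    hasColimitsOfShape_of_equivalence (Discrete.equivalence Equiv.ulift.{v})
  exact Groth.Agent.H5.Brown.isRepresentable_of_generates_perfect E hgen
    (perfect_of_compact E hc) H

end Groth.Agent.S0473
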