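import Groth.Statements.S0975
import Groth.Agent.H5.Brown
import Mathlib.CategoryTheory.Triangulated.Functor
import Mathlib.CategoryTheory.Adjunction.Comma

set_option autoImplicit false
universe v u u'
open CategoryTheory
open CohDer

namespace Groth.Agent.S0975


section helpers

open CategoryTheory.Limits CategoryTheory.Pretriangulated Groth.Agent.H5.Brown

variable {D : Type u} [Category.{v} D] [Preadditive D] [Limits.HasZeroObject D] [HasShift D ℤ]
    [∀ n : ℤ, (shiftFunctor D n).Additive] [Pretriangulated D] [HasCoproducts.{v} D]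
    [HasColimitsOfShape (Discrete ℕ) D]
    {D' : Type u'} [Category.{v} D'] [Preadditive D'] [Limits.HasZeroObject D'] [HasShift D' ℤ]
    [∀ n : ℤ, (shiftFunctor D' n).Additive] [Pretriangulated D']

lemma coprod_inj_aux (F : D ⥤ D') {κ : Type*} (Y : κ → D) [HasCoproduct Y]
    [PreservesColimitsOfShape (Discrete κ) F] {Z : D'} (x y : F.obj (∐ Y) ⟶ Z)
    (h : ∀ k, F.map (Sigma.ι Y k) ≫ x = F.map (Sigma.ι Y k) ≫ y) : x = y := by
  have hcol := isColimitOfHasCoproductOfPreservesColimit F Y
  exact Cofan.IsColimit.hom_ext hcol _ _ h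

lemma coprod_surj_aux (F : D ⥤ D') {κ : Type*} (Y : κ → D) [HasCoproduct Y]
    [PreservesColimitsOfShape (Discrete κ) F] {Z : D'} (z : ∀ k, F.obj (Y k) ⟶ Z) :
    ∃ x : F.obj (∐ Y) ⟶ Z, ∀ k, F.map (Sigma.ι Y k) ≫ x = z k := by
  have hcol := isColimitOfHasCoproductOfPreservesColimit F Y
  refine ⟨hcol.desc (Cofan.mk Z z), fun k => ?_⟩
  exact hcol.fac (Cofan.mk Z z) ⟨k⟩

/-- `Hom(F -, Y)` as an elementwise cohomological functor -/
noncomputable def cfOfTriang (F : D ⥤ D') [F.CommShift ℤ] [F.IsTriangulated]
    [∀ (κ : Type v), PreservesColimitsOfShape (Discrete κ) F] (Y : D') : CF D where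
  obj A := (F.obj A ⟶ Y)
  map f :=
    { toFun := fun g => F.map f ≫ g
      map_zero' := comp_zero
      map_add' := fun _ _ => Preadditive.comp_add _ _ _ _ _ _ }
  map_id A x := by simp
  map_comp f g x := by simp
  map_add f g x := by
    show F.map (f + g) ≫ x = F.map f ≫ x + F.map g ≫ x
    rw [F.map_add, Preadditive.add_comp]
  exact T hT x hx := by
    obtain ⟨y, hy⟩ := Triangle.yoneda_exact₂ _ (F.map_distinguished T hT) x hx
    exact ⟨y, hy.symm⟩
  prod_inj Y x y h := coprod_inj_aux F Y x y h
  prod_surj Y z := coprod_surj_aux F Y z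
  prod_inj_nat Y x y h := by
    have : PreservesColimitsOfShape (Discrete ℕ) F :=
      preservesColimitsOfShape_of_equiv (Discrete.equivalence Equiv.ulift.{v}) F
    exact coprod_inj_aux F Y x y h
  prod_surj_nat Y z := by
    have : PreservesColimitsOfShape (Discrete ℕ) F :=
      preservesColimitsOfShape_of_equiv (Discrete.equivalence Equiv.ulift.{v}) F
    exact coprod_surj_aux F Y z

end helpers

open CategoryTheory.Limits in
/-- Let D be a triangulated category with all small direct sums and E a small family of objects such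
that (1) E detects nonzero objects: every nonzero object receives a nonzero map from some member of
E; and (2) every map from a member of E into a countable direct sum ⨁ X_n factors as a map into a
direct sum ⨁ E_(j_n) of members of E followed by a direct sum of maps E_(j_n) → X_n. Then every
exact functor from D to a triangulated category which commutes with direct sums is a left adjoint.
(The published statement also proves that the right adjoint is exact; that is not asserted here.) -/
theorem result {D : Type u} [Category.{v} D] [Preadditive D] [Limits.HasZeroObject D] [HasShift D ℤ]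
    [∀ n : ℤ, (shiftFunctor D n).Additive] [Pretriangulated D] [IsTriangulated D] [HasCoproducts.{v} D]
    [HasColimitsOfShape (Discrete ℕ) D]
    {D' : Type u'} [Category.{v} D'] [Preadditive D'] [Limits.HasZeroObject D'] [HasShift D' ℤ]
    [∀ n : ℤ, (shiftFunctor D' n).Additive] [Pretriangulated D']
    [IsTriangulated D'] {ι : Type v} (E : ι → D)
    (h1 : ∀ X : D, ¬ IsZero X → ∃ (i : ι) (f : E i ⟶ X), f ≠ 0)
    (h2 : ∀ (X : ℕ → D) (i : ι) (α : E i ⟶ ∐ X), ∃ (j : ℕ → ι) (β : ∀ n, E (j n) ⟶ X n)
      (γ : E i ⟶ ∐ (fun n => E (j n))), α = γ ≫ Limits.Sigma.map β)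
    (F : D ⥤ D') [F.CommShift ℤ] [F.IsTriangulated]
    [∀ (κ : Type v), PreservesColimitsOfShape (Discrete κ) F] : F.IsLeftAdjoint := by
  rw [isLeftAdjoint_iff_hasTerminal_costructuredArrow]
  intro Y'
  obtain ⟨X, ξ, hb⟩ := Groth.Agent.H5.Brown.representable (E := E) h1 h2 (cfOfTriang F Y')
  let ξ' : F.obj X ⟶ Y' := ξ
  have hb' : ∀ (A : D) (f : F.obj A ⟶ Y'), ∃! a : A ⟶ X, F.map a ≫ ξ' = f := fun A f => by
    obtain ⟨a, ha⟩ := (hb A).2 f
    exact ⟨a, ha, fun a' ha' => (hb A).1 (ha'.trans ha.symm)⟩
  have hT : IsTerminal (CostructuredArrow.mk ξ' : CostructuredArrow F Y') :=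
    IsTerminal.ofUniqueHom
      (fun B => CostructuredArrow.homMk (hb' B.left B.hom).choose
        (hb' B.left B.hom).choose_spec.1)
      (fun B m => by
        apply CostructuredArrow.hom_ext
        exact (hb' B.left B.hom).choose_spec.2 m.left (CostructuredArrow.w m))
  exact hT.hasTerminal

end Groth.Agent.S0975
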