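import Groth.Statements.S0474
import Groth.Agent.S0473
import Groth.Agent.S0975

set_option autoImplicit false
universe v u u'
open CategoryTheory
open CohDer

namespace Groth.Agent.S0474

open CategoryTheory.Limits in
/-- Let D be a compactly generated triangulated category with direct sums and F : D ⥤ D' an exact
functor of (pre)triangulated categories commuting with direct sums. Then F is a left adjoint. (The
source also shows the adjoint is exact; we only assert existence.) -/
theorem result {D : Type u} [Category.{v} D] [Preadditive D] [Limits.HasZeroObject D] [HasShift D ℤ]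
    [∀ n : ℤ, (shiftFunctor D n).Additive] [Pretriangulated D] [IsTriangulated D] [HasCoproducts.{v} D]
    {D' : Type u'} [Category.{v} D'] [Preadditive D'] [Limits.HasZeroObject D'] [HasShift D' ℤ]
    [∀ n : ℤ, (shiftFunctor D' n).Additive] [Pretriangulated D']
    (hD : CohDer.IsCompactlyGenerated D) (F : D ⥤ D') [F.CommShift ℤ] [F.IsTriangulated]
    [∀ (ι : Type v), PreservesColimitsOfShape (Discrete ι) F] : F.IsLeftAdjoint := by
  obtain ⟨ι, E, hc, hgen⟩ := hD
  have : HasColimitsOfShape (Discrete ℕ) D :=
    hasColimitsOfShape_of_equivalence (Discrete.equivalence Equiv.ulift.{v})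
  rw [isLeftAdjoint_iff_hasTerminal_costructuredArrow]
  intro Y'
  obtain ⟨X, ξ, hb⟩ := Groth.Agent.H5.Brown.representable' (E := E)
    (Groth.Agent.H5.Brown.mem_detect_of_generates hgen)
    (Groth.Agent.S0473.perfect_of_compact E hc) (Groth.Agent.S0975.cfOfTriang F Y')
  let ξ' : F.obj X ⟶ Y' := ξ
  have hb' : ∀ (A : D) (f : F.obj A ⟶ Y'), ∃! a : A ⟶ X, F.map a ≫ ξ' = f := fun A f => by
    obtain ⟨a, ha⟩ := (hb A).2 f
    exact ⟨a, ha, fun a' ha' => (hb A).1 (ha'.trans ha.symm)⟩
  have hT : IsTerminal (CostructuredArrow.mk ξ' : CostructuredArrow F Y') :=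
    IsTerminal.ofUniqueHom
      (fun B => CostructuredArrow.homMk (hb' B.left B.hom).choose
        (hb' B.left B.hom).choose_spec.1)
      (fun B m => by
        apply CostructuredArrow.hom_ext
        exact (hb' B.left B.hom).choose_spec.2 m.left (CostructuredArrow.w m))
  exact hT.hasTerminal

end Groth.Agent.S0474
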