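import Groth.Statements.S0478
import Groth.Agent.S0476
import Groth.Agent.H5.KInj.Products
import Mathlib.Algebra.Homology.HomologicalComplexLimits

set_option autoImplicit false
universe v u
open CategoryTheory
open CohDer

namespace Groth.Agent.S0478

open CategoryTheory.Limits DerivedCategory in
/-- Products of arbitrary families in the derived category of a Grothendieck abelian category. -/
theorem hasProduct_family {A : Type u} [Category.{v} A] [Abelian A] [IsGrothendieckAbelian.{v} A]
    [HasDerivedCategory.{v} A] {J : Type v} (X : J → DerivedCategory A) : HasProduct X := by
  have hres : ∀ j, ∃ (I : CochainComplex A ℤ) (f : Q.objPreimage (X j) ⟶ I),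
      I.IsKInjective ∧ QuasiIso f ∧ (∀ n, Mono (f.f n)) ∧ ∀ n, Injective (I.X n) :=
    fun j => Groth.Agent.S0476.result _
  choose I f hI hf _ _ using hres
  have := Groth.Agent.H5.KInj.hasProduct_Q_obj I hI
  have e : ∀ j, Q.obj (I j) ≅ X j := fun j =>
    haveI := hf j
    (asIso (Q.map (f j))).symm ≪≫ Q.objObjPreimageIso (X j)
  exact hasLimit_of_iso (F := Discrete.functor (fun j => Q.obj (I j)))
    (Discrete.natIso (fun ⟨j⟩ => e j))

open CategoryTheory.Limits in
/-- For a Grothendieck abelian category A the derived category D(A) has all products indexed by small
types. The published statement also computes them as termwise products of K-injective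
representatives, which is not asserted here. -/
theorem result {A : Type u} [Category.{v} A] [Abelian A] [IsGrothendieckAbelian.{v} A]
    [HasDerivedCategory.{v} A] : HasProducts.{v} (DerivedCategory A) := by
  intro J
  constructor
  intro F
  have : HasProduct (F.obj ∘ Discrete.mk) := hasProduct_family _
  exact hasLimit_of_iso (Discrete.natIsoFunctor (F := F)).symm

end Groth.Agent.S0478
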