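import Groth.Statements.S0479
import Groth.Agent.H33.BrownD
import Groth.Agent.S0473
import Groth.Agent.S12232
import Groth.Agent.S1032

set_option autoImplicit false
universe v u
open CategoryTheory
open CohDer

namespace Groth.Agent.S0479

open CategoryTheory.Limits CategoryTheory.Pretriangulated.Opposite in
/-- For A Grothendieck abelian, every cohomological functor from D(A)^op to abelian groups that turns
coproducts into products is of the form Hom(-, X) for some object X of D(A). -/
theorem result {A : Type u} [Category.{v} A] [Abelian A]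
    [IsGrothendieckAbelian.{v} A] [HasDerivedCategory.{v} A]
    (H : (DerivedCategory A)ᵒᵖ ⥤ AddCommGrpCat.{v}) [H.IsHomological]
    [∀ (ι : Type v), PreservesLimitsOfShape (Discrete ι) H] :
    (H ⋙ forget AddCommGrpCat.{v}).IsRepresentable := by
  let U : A := separator A
  have hU : IsSeparator U := isSeparator_separator A
  letI : HasDerivedCategory.{v} (ModuleCat.{v} (End U)ᵐᵒᵖ) :=
    Groth.Agent.H33.BrownD.hasDerivedCategorySmall _
  haveI : Limits.HasCoproducts.{v} (DerivedCategory (ModuleCat.{v} (End U)ᵐᵒᵖ)) :=
    Groth.Agent.S0477.result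
  have hcg := Groth.Agent.H33.BrownD.isCompactlyGenerated (End U)ᵐᵒᵖ
  haveI : Limits.PreservesFiniteLimits (IsGrothendieckAbelian.tensorObj U) :=
    IsGrothendieckAbelian.GabrielPopescu.preservesFiniteLimits U hU
  haveI : Limits.PreservesBinaryBiproducts (IsGrothendieckAbelian.tensorObj U) :=
    Limits.preservesBinaryBiproducts_of_preservesBinaryCoproducts _
  haveI : (IsGrothendieckAbelian.tensorObj U).Additive :=
    Functor.additive_of_preservesBinaryBiproducts _
  haveI : Limits.PreservesFiniteColimits (IsGrothendieckAbelian.tensorObj U) := inferInstance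
  have hK : ∀ K : CochainComplex A ℤ, ∃ (I : CochainComplex A ℤ) (f : K ⟶ I),
      I.IsKInjective ∧ QuasiIso f := fun K => by
    obtain ⟨I, f, h1, h2, -, -⟩ := Groth.Agent.S0476.result K
    exact ⟨I, f, h1, h2⟩
  haveI := (Groth.Agent.S1032.result hK
    ((preadditiveCoyonedaObj U).mapHomotopyCategory (ComplexShape.up ℤ) ⋙ DerivedCategory.Qh)).1
  obtain ⟨⟨adj⟩, hfull, hfaith, -⟩ := Groth.Agent.S12232.result U hU
  exact Groth.Agent.H33.BrownD.isRepresentable_of_bousfield _ _ adj H
    (fun H' _ _ => Groth.Agent.S0473.result hcg H')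

end Groth.Agent.S0479
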