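import Groth.Statements.S0484
import Mathlib

set_option autoImplicit false
universe u
open CategoryTheory
open CohSite

namespace Groth.Agent.S0484

/-- For a sheaf of rings O on a small site, the category of O-modules has exact filtered colimits and a
generator, so it is a Grothendieck abelian category. -/
theorem result {C : Type u} [SmallCategory C] (J : GrothendieckTopology C)
    (R : Sheaf J RingCat.{u}) : IsGrothendieckAbelian.{u} (SheafOfModules.{u} R) := by
  have hpre : ∀ (K : Type u) [SmallCategory K] [IsFiltered K],
      HasExactColimitsOfShape K (PresheafOfModules.{u} R.obj) := by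
    intro K _ _
    exact HasExactColimitsOfShape.domain_of_functor K (PresheafOfModules.toPresheaf R.obj)
  have hsh : ∀ (K : Type u) [SmallCategory K] [IsFiltered K],
      HasExactColimitsOfShape K (SheafOfModules.{u} R) := by
    intro K _ _
    have := hpre K
    exact (PresheafOfModules.sheafificationAdjunction (𝟙 R.obj)).hasExactColimitsOfShape K
  have hsep : ObjectProperty.IsSeparating (ObjectProperty.ofObj
      (fun X : C => (PresheafOfModules.sheafification (𝟙 R.obj)).obj
        ((yoneda ⋙ PresheafOfModules.free R.obj).obj X))) := by
    intro F G φ ψ h
    apply (SheafOfModules.forget R).map_injective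
    apply PresheafOfModules.freeYoneda.isSeparating R.obj
    rintro _ ⟨X⟩ a
    apply ((PresheafOfModules.sheafificationAdjunction (𝟙 R.obj)).homEquiv _ _).symm.injective
    have h1 := h _ (ObjectProperty.ofObj_apply _ X)
        (((PresheafOfModules.sheafificationAdjunction (𝟙 R.obj)).homEquiv _ _).symm a)
    rw [← Adjunction.homEquiv_naturality_right_symm,
      ← Adjunction.homEquiv_naturality_right_symm] at h1
    exact h1
  exact
    { locallySmall := inferInstance
      hasFilteredColimitsOfSize := ⟨fun K _ _ => inferInstance⟩
      ab5OfSize := ⟨fun K _ _ => hsh K⟩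
      hasSeparator := ⟨⟨_, hsep.isSeparator_coproduct⟩⟩ }

end Groth.Agent.S0484
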