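import Groth.Statements.S0489
import Mathlib.Algebra.Homology.HomotopyCategory.KInjective
import Mathlib.CategoryTheory.Functor.OfSequence
import Mathlib.Algebra.Homology.HomologicalComplexLimits

set_option autoImplicit false
universe v u
open CategoryTheory
open CohDer

namespace Groth.Agent.S0489

open CategoryTheory.Limits Opposite CochainComplex HomComplex

section

variable {A : Type u} [Category.{v} A] [Abelian A] [HasLimitsOfShape ℕᵒᵖ A]
  (I : ℕᵒᵖ ⥤ CochainComplex A ℤ)

/-- The transition maps. -/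
noncomputable abbrev p (n : ℕ) : I.obj (op (n + 1)) ⟶ I.obj (op n) :=
  I.map (homOfLE (Nat.le_succ n)).op

/-- The projections from the limit. -/
noncomputable abbrev π (n : ℕ) : limit I ⟶ I.obj (op n) := limit.π I (op n)

theorem π_p (n : ℕ) : π I (n + 1) ≫ p I n = π I n := limit.w I _

/-- The limit cone evaluated in degree `b` is a limit cone. -/
noncomputable def evalLim (b : ℤ) :
    IsLimit ((HomologicalComplex.eval A (ComplexShape.up ℤ) b).mapCone (limit.cone I)) :=
  isLimitOfPreserves _ (limit.isLimit I)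

theorem cochain_ext {K : CochainComplex A ℤ} {m : ℤ} (z z' : Cochain K (limit I) m)
    (h : ∀ n, z.comp (Cochain.ofHom (π I n)) (add_zero m) =
      z'.comp (Cochain.ofHom (π I n)) (add_zero m)) : z = z' := by
  ext a b hab
  apply (evalLim I b).hom_ext
  intro j
  have := Cochain.congr_v (h j.unop) a b hab
  simp only [Cochain.comp_zero_cochain_v, Cochain.ofHom_v] at this
  exact this

/-- A compatible family of cochains defines a cochain into the limit. -/
noncomputable def liftCochain {K : CochainComplex A ℤ} {m : ℤ}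
    (c : ∀ n, Cochain K (I.obj (op n)) m)
    (hc : ∀ n, (c (n + 1)).comp (Cochain.ofHom (p I n)) (add_zero m) = c n) :
    Cochain K (limit I) m :=
  Cochain.mk (fun a b hab => (evalLim I b).lift
    (Cone.mk (K.X a) (NatTrans.ofOpSequence (F := (Functor.const _).obj (K.X a))
      (G := I ⋙ HomologicalComplex.eval A (ComplexShape.up ℤ) b)
      (fun n => (c n).v a b hab)
      (fun n => by
        have := Cochain.congr_v (hc n) a b hab
        simp only [Cochain.comp_zero_cochain_v, Cochain.ofHom_v] at this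
        simp only [Functor.const_obj_obj, Functor.const_obj_map, Category.id_comp,
          Functor.comp_map, HomologicalComplex.eval_map]
        exact this.symm))))

theorem liftCochain_comp {K : CochainComplex A ℤ} {m : ℤ}
    (c : ∀ n, Cochain K (I.obj (op n)) m)
    (hc : ∀ n, (c (n + 1)).comp (Cochain.ofHom (p I n)) (add_zero m) = c n) (n : ℕ) :
    (liftCochain I c hc).comp (Cochain.ofHom (π I n)) (add_zero m) = c n := by
  ext a b hab
  simp only [Cochain.comp_zero_cochain_v, Cochain.ofHom_v, liftCochain, Cochain.mk_v]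
  exact (evalLim I b).fac _ (op n)

end

open CategoryTheory.Limits Opposite in
theorem result {A : Type u} [Category.{v} A] [Abelian A] [HasLimitsOfShape ℕᵒᵖ A]
    (I : ℕᵒᵖ ⥤ CochainComplex A ℤ) (h1 : ∀ n : ℕ, (I.obj (op n)).IsKInjective)
    (h2 : ∀ (n : ℕ) (m : ℤ), IsSplitEpi ((I.map (homOfLE (Nat.le_succ n)).op).f m)) :
    (limit I).IsKInjective := by
  refine ⟨fun {K} f hK => ?_⟩
  have base : ∃ h : Cochain K (I.obj (op 0)) (-1),
      δ (-1) 0 h = Cochain.ofHom (f ≫ π I 0) := by
    have := h1 0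
    obtain ⟨α, hα⟩ := IsKInjective.eq_δ_of_cocycle (Cocycle.ofHom (f ≫ π I 0)) hK (-1) (by simp)
    exact ⟨α, by simpa using hα⟩
  have step : ∀ (n : ℕ)
      (x : {h : Cochain K (I.obj (op n)) (-1) // δ (-1) 0 h = Cochain.ofHom (f ≫ π I n)}),
      ∃ y : {h : Cochain K (I.obj (op (n + 1))) (-1) //
          δ (-1) 0 h = Cochain.ofHom (f ≫ π I (n + 1))},
        y.1.comp (Cochain.ofHom (p I n)) (add_zero (-1)) = x.1 := by
    rintro n ⟨hn, hhn⟩
    have := h1 n
    have := h1 (n + 1)
    obtain ⟨h', hh'⟩ :=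
      IsKInjective.eq_δ_of_cocycle (Cocycle.ofHom (f ≫ π I (n + 1))) hK (-1) (by simp)
    have hh'' : δ (-1) 0 h' = Cochain.ofHom (f ≫ π I (n + 1)) := by simpa using hh'
    let z : Cochain K (I.obj (op n)) (-1) :=
      h'.comp (Cochain.ofHom (p I n)) (add_zero (-1)) - hn
    have hz : δ (-1) 0 z = 0 := by
      rw [δ_sub, δ_comp_ofHom, hh'', hhn, ← Cochain.ofHom_comp, Category.assoc, π_p, sub_self]
    obtain ⟨k, hk⟩ :=
      IsKInjective.eq_δ_of_cocycle (Cocycle.mk z 0 (by simp) hz) hK (-2) (by simp)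
    have hk' : δ (-2) (-1) k = z := hk
    let kt : Cochain K (I.obj (op (n + 1))) (-2) :=
      Cochain.mk (fun a b hab => haveI := h2 n b; k.v a b hab ≫ section_ ((p I n).f b))
    have hkt : kt.comp (Cochain.ofHom (p I n)) (add_zero (-2)) = k := by
      ext a b hab
      have := h2 n b
      simp only [Cochain.comp_zero_cochain_v, Cochain.ofHom_v, kt, Cochain.mk_v, Category.assoc,
        IsSplitEpi.id, Category.comp_id]
    refine ⟨⟨h' - δ (-2) (-1) kt, ?_⟩, ?_⟩
    · rw [δ_sub, δ_δ, sub_zero, hh'']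
    · change (h' - δ (-2) (-1) kt).comp (Cochain.ofHom (p I n)) (add_zero (-1)) = hn
      rw [Cochain.sub_comp, ← δ_comp_ofHom, hkt, hk']
      simp [z]
  let P : ℕ → Type _ := fun n =>
    {h : Cochain K (I.obj (op n)) (-1) // δ (-1) 0 h = Cochain.ofHom (f ≫ π I n)}
  let s : ∀ n, P n := fun n =>
    Nat.rec (motive := fun n => P n) ⟨base.choose, base.choose_spec⟩
      (fun n x => (step n x).choose) n
  have hs : ∀ n, (s (n + 1)).1.comp (Cochain.ofHom (p I n)) (add_zero (-1)) = (s n).1 :=
    fun n => (step n (s n)).choose_spec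
  let h := liftCochain I (fun n => (s n).1) hs
  have hh : δ (-1) 0 h = Cochain.ofHom f := by
    apply cochain_ext I
    intro n
    rw [← δ_comp_ofHom, liftCochain_comp, (s n).2, Cochain.ofHom_comp]
  exact ⟨(Cochain.equivHomotopy f 0).symm ⟨h, by simp [hh]⟩⟩

end Groth.Agent.S0489
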