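import Groth.Statements.S0490
import Mathlib.CategoryTheory.Adjunction.PartialAdjoint
import Mathlib.CategoryTheory.Triangulated.Orthogonal
-- import your own Groth.Agent.* helpers here

set_option autoImplicit false
universe v u
open CategoryTheory
open CohDer

namespace Groth.Agent.S0490

open CategoryTheory.Pretriangulated in
/-- Let A be a full triangulated subcategory of a pretriangulated category D (an object property
containing zero, stable under shifts and closed under extensions). The inclusion A → D is a left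
adjoint (i.e. has a right adjoint) if and only if every object X of D fits in a distinguished
triangle A → X → B → A[1] with A in the subcategory and B right orthogonal to it. (The source's
further conclusions about saturation are not asserted.) -/
theorem result {D : Type u} [Category.{v} D] [Preadditive D] [Limits.HasZeroObject D] [HasShift D ℤ]
    [∀ n : ℤ, (shiftFunctor D n).Additive] [Pretriangulated D]
    (P : ObjectProperty D) [P.IsTriangulated] :
    P.ι.IsLeftAdjoint ↔ ∀ X : D, ∃ (A B : D) (f : A ⟶ X) (g : X ⟶ B) (h : B ⟶ (shiftFunctor D (1 : ℤ)).obj A),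
      Triangle.mk f g h ∈ distinguishedTriangles ∧ P A ∧ P.rightOrthogonal B := by
  constructor
  · intro hL X
    obtain ⟨R, ⟨adj⟩⟩ := hL.exists_rightAdjoint
    obtain ⟨f, hf⟩ : ∃ f : (R.obj X).obj ⟶ X, f = adj.counit.app X := ⟨_, rfl⟩
    obtain ⟨Z, g, h, hT⟩ := distinguished_cocone_triangle f
    refine ⟨(R.obj X).obj, Z, f, g, h, hT, (R.obj X).property, ?_⟩
    have surj : ∀ (W : D) (hW : P W) (ψ : W ⟶ X), ∃ φ : W ⟶ (R.obj X).obj, φ ≫ f = ψ := by
      intro W hW ψ
      refine ⟨(adj.homEquiv ⟨W, hW⟩ X ψ).hom, ?_⟩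
      have h1 := adj.homEquiv_counit (X := (⟨W, hW⟩ : P.FullSubcategory)) (Y := X)
        (g := adj.homEquiv ⟨W, hW⟩ X ψ)
      rw [Equiv.symm_apply_apply] at h1
      rw [hf]
      exact h1.symm
    have inj : ∀ (W : D) (hW : P W) (φ : W ⟶ (R.obj X).obj), φ ≫ f = 0 → φ = 0 := by
      intro W hW φ hφ
      have h1 : (adj.homEquiv (⟨W, hW⟩ : P.FullSubcategory) X).symm (ObjectProperty.homMk φ) =
          (adj.homEquiv (⟨W, hW⟩ : P.FullSubcategory) X).symm (ObjectProperty.homMk 0) := by
        rw [adj.homEquiv_counit, adj.homEquiv_counit]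
        show φ ≫ adj.counit.app X = 0 ≫ adj.counit.app X
        rw [← hf, hφ, Limits.zero_comp]
      have h2 := (adj.homEquiv (⟨W, hW⟩ : P.FullSubcategory) X).symm.injective h1
      exact congrArg InducedCategory.Hom.hom h2
    intro W k hW
    obtain ⟨e⟩ : Nonempty (shiftFunctor D (1 : ℤ) ⋙ shiftFunctor D (-1 : ℤ) ≅ 𝟭 D) :=
      ⟨shiftFunctorCompIsoId D (1 : ℤ) (-1) (by norm_num)⟩
    have h1 : k ≫ h = 0 := by
      have hu : (k ≫ h) ≫ (shiftFunctor D (1 : ℤ)).map f = 0 := by
        have h31 : h ≫ (shiftFunctor D (1 : ℤ)).map f = 0 := comp_distTriang_mor_zero₃₁ _ hT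
        rw [Category.assoc, h31, Limits.comp_zero]
      have hW' : P ((shiftFunctor D (-1 : ℤ)).obj W) := P.le_shift (-1) W hW
      have nat' : e.hom.app (R.obj X).obj ≫ f =
          (shiftFunctor D (-1 : ℤ)).map ((shiftFunctor D (1 : ℤ)).map f) ≫ e.hom.app X :=
        (e.hom.naturality f).symm
      have h2 : ((shiftFunctor D (-1 : ℤ)).map (k ≫ h) ≫ e.hom.app (R.obj X).obj) ≫ f = 0 :=
        calc ((shiftFunctor D (-1 : ℤ)).map (k ≫ h) ≫ e.hom.app (R.obj X).obj) ≫ f
            = (shiftFunctor D (-1 : ℤ)).map (k ≫ h) ≫ (e.hom.app (R.obj X).obj ≫ f) :=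
              Category.assoc _ _ _
          _ = (shiftFunctor D (-1 : ℤ)).map (k ≫ h) ≫
              ((shiftFunctor D (-1 : ℤ)).map ((shiftFunctor D (1 : ℤ)).map f) ≫ e.hom.app X) :=
              congrArg (fun t => (shiftFunctor D (-1 : ℤ)).map (k ≫ h) ≫ t) nat'
          _ = ((shiftFunctor D (-1 : ℤ)).map (k ≫ h) ≫
              (shiftFunctor D (-1 : ℤ)).map ((shiftFunctor D (1 : ℤ)).map f)) ≫ e.hom.app X :=
              (Category.assoc _ _ _).symm
          _ = (shiftFunctor D (-1 : ℤ)).map ((k ≫ h) ≫ (shiftFunctor D (1 : ℤ)).map f) ≫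
              e.hom.app X :=
              congrArg (fun t => t ≫ e.hom.app X)
                ((shiftFunctor D (-1 : ℤ)).map_comp (k ≫ h) ((shiftFunctor D (1 : ℤ)).map f)).symm
          _ = 0 := by rw [hu, Functor.map_zero, Limits.zero_comp]
      have h3 := inj _ hW' _ h2
      have h4 : (shiftFunctor D (-1 : ℤ)).map (k ≫ h) = 0 := by
        rw [← cancel_mono (e.hom.app (R.obj X).obj), h3, Limits.zero_comp]
      exact (shiftFunctor D (-1 : ℤ)).map_injective (by rw [h4, Functor.map_zero])
    obtain ⟨k', hk'⟩ : ∃ k' : W ⟶ X, k = k' ≫ g := Triangle.coyoneda_exact₃ _ hT k h1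
    obtain ⟨φ, hφ⟩ := surj W hW k'
    have hfg : f ≫ g = 0 := comp_distTriang_mor_zero₁₂ _ hT
    calc k = k' ≫ g := hk'
      _ = (φ ≫ f) ≫ g := by rw [hφ]
      _ = φ ≫ (f ≫ g) := Category.assoc _ _ _
      _ = 0 := by rw [hfg, Limits.comp_zero]
  · intro H
    apply Functor.isLeftAdjoint_of_rightAdjointObjIsDefined_eq_top
    ext X
    simp only [Pi.top_apply, Prop.top_eq_true, iff_true]
    obtain ⟨A, B, f, g, h, hT, hA, hB⟩ := H X
    have hB' : P.rightOrthogonal ((shiftFunctor D (-1 : ℤ)).obj B) :=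
      P.rightOrthogonal.le_shift (-1) B hB
    have bij : ∀ (W : D), P W → Function.Bijective (fun φ : W ⟶ A => φ ≫ f) := by
      intro W hW
      constructor
      · intro φ φ' hφ
        have hφ' : (φ - φ') ≫ f = 0 := by
          rw [Preadditive.sub_comp]
          exact sub_eq_zero.mpr hφ
        obtain ⟨u, hu⟩ := Triangle.coyoneda_exact₂ _ (inv_rot_of_distTriang _ hT) (φ - φ') hφ'
        have hu0 : u = 0 := hB' u hW
        rw [hu0, Limits.zero_comp] at hu
        exact sub_eq_zero.mp hu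
      · intro ψ
        have h0 : ψ ≫ g = 0 := hB (ψ ≫ g) hW
        obtain ⟨φ, hφ⟩ := Triangle.coyoneda_exact₂ _ hT ψ h0
        exact ⟨φ, hφ.symm⟩
    have hbij : ∀ Y : P.FullSubcategory, Function.Bijective
        (fun φ : Y ⟶ (⟨A, hA⟩ : P.FullSubcategory) => (φ.hom ≫ f : Y.obj ⟶ X)) := by
      intro Y
      constructor
      · intro φ φ' hφ
        exact ObjectProperty.hom_ext P ((bij Y.obj Y.property).1 hφ)
      · intro ψ
        obtain ⟨φ, hφ⟩ := (bij Y.obj Y.property).2 ψ
        exact ⟨ObjectProperty.homMk φ, hφ⟩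
    exact Functor.RepresentableBy.isRepresentable (Y := (⟨A, hA⟩ : P.FullSubcategory))
      { homEquiv := fun {Y} => Equiv.ofBijective _ (hbij Y)
        homEquiv_comp := fun {Y Y'} k φ => by
          show (k ≫ φ).hom ≫ f = P.ι.map k ≫ (φ.hom ≫ f)
          simp }

end Groth.Agent.S0490
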