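import Groth.Statements.S0492
import Groth.Agent.H67.SieveCoh2

set_option autoImplicit false
universe u
open CategoryTheory
open CohSite

namespace Groth.Agent.S0492

open CategoryTheory.Limits in
/-- Part (4), for sheaves of abelian groups: let B be a set of weakly contractible objects of a small
site such that every object admits a covering family by members of B. Then products in the category
of abelian sheaves are exact (Grothendieck's AB4*). -/
theorem result {C : Type u} [SmallCategory C] (J : GrothendieckTopology C)
    (B : Set C) (hB : ∀ U ∈ B, CohSite.IsWeaklyContractible J U)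
    (hcov : ∀ V : C, ∃ (ι : Type u) (U : ι → C) (f : ∀ i, U i ⟶ V), (∀ i, U i ∈ B) ∧ Sieve.ofArrows U f ∈ J V) :
    AB4Star (Sheaf J AddCommGrpCat.{u}) := by
  refine ⟨fun α => ?_⟩
  haveI : (Limits.lim : (Discrete α ⥤ Sheaf J AddCommGrpCat.{u}) ⥤
      Sheaf J AddCommGrpCat.{u}).PreservesEpimorphisms := by
    refine ⟨fun {F G} φ hφ => ?_⟩
    haveI hφa : ∀ a, Epi (φ.app a) := (NatTrans.epi_iff_epi_app φ).1 hφ
    have key : ∀ U ∈ B, Function.Surjective ((Limits.limMap φ).hom.app (Opposite.op U)) := by
      intro U hU
      let Γ : Sheaf J AddCommGrpCat.{u} ⥤ AddCommGrpCat.{u} :=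
        sheafToPresheaf J AddCommGrpCat.{u} ⋙ (evaluation Cᵒᵖ AddCommGrpCat.{u}).obj (Opposite.op U)
      haveI : ∀ a, Epi ((Functor.whiskerRight φ Γ).app a) := fun a => by
        show Epi ((φ.app a).hom.app (Opposite.op U))
        rw [AddCommGrpCat.epi_iff_surjective]
        exact Groth.Agent.H67.SieveCoh.surjective_app_of_epi_of_weaklyContractible (hB U hU)
          (φ.app a)
      haveI : Epi (Functor.whiskerRight φ Γ) := NatTrans.epi_of_epi_app _
      haveI : Limits.PreservesFiniteColimits (Limits.lim : (Discrete α ⥤ AddCommGrpCat.{u}) ⥤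
          AddCommGrpCat.{u}) := HasExactLimitsOfShape.preservesFiniteColimits
      haveI : Epi (Limits.limMap (Functor.whiskerRight φ Γ)) :=
        inferInstanceAs (Epi (Limits.lim.map (Functor.whiskerRight φ Γ)))
      have h : Γ.map (Limits.limMap φ) ≫ (CategoryTheory.preservesLimitIso Γ G).hom =
          (CategoryTheory.preservesLimitIso Γ F).hom ≫ Limits.limMap (Functor.whiskerRight φ Γ) := by
        apply Limits.limit.hom_ext
        intro j
        simp only [Category.assoc, CategoryTheory.preservesLimitIso_hom_π, Limits.limMap_π,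
          CategoryTheory.preservesLimitIso_hom_π_assoc, Functor.whiskerRight_app, ← Functor.map_comp]
      have h' : Γ.map (Limits.limMap φ) = ((CategoryTheory.preservesLimitIso Γ F).hom ≫
          Limits.limMap (Functor.whiskerRight φ Γ)) ≫ (CategoryTheory.preservesLimitIso Γ G).inv := by
        rw [← h, Category.assoc, Iso.hom_inv_id, Category.comp_id]
      haveI : Epi (Γ.map (Limits.limMap φ)) := by
        rw [h']
        infer_instance
      exact (AddCommGrpCat.epi_iff_surjective (Γ.map (Limits.limMap φ))).1 inferInstance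
    haveI : Sheaf.IsLocallySurjective (Limits.limMap φ) := by
      refine ⟨fun {V} s => ?_⟩
      obtain ⟨ι, U, f, hUB, hcovV⟩ := hcov V
      refine J.superset_covering ?_ hcovV
      rw [Sieve.ofArrows, Sieve.generate_le_iff]
      rintro W g ⟨i⟩
      obtain ⟨t, ht⟩ := key (U i) (hUB i) ((Limits.limit G).obj.map (f i).op s)
      exact ⟨t, ht⟩
    exact inferInstanceAs (Epi (Limits.limMap φ))
  exact hasExactLimitsOfShape_of_preservesEpi _ _

end Groth.Agent.S0492
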