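import Groth.Statements.S0495
import Groth.Agent.H3.Hensel
import Mathlib.RingTheory.KrullDimension.Zero

set_option autoImplicit false
universe u
open Hensel

namespace Groth.Agent.S0495

/-- A local ring whose Krull dimension is zero is henselian. -/
theorem result (R : Type u) [CommRing R] [IsLocalRing R]
    (h : ringKrullDim R = 0) : HenselianLocalRing R := by
  have h0 : Ring.KrullDimLE 0 R := (Ring.krullDimLE_iff).mpr (by rw [h]; rfl)
  have hnil : ∀ x ∈ IsLocalRing.maximalIdeal R, IsNilpotent x := fun x hx =>
    Ring.KrullDimLE.isNilpotent_iff_mem_maximalIdeal.mpr hx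
  have hH := Groth.Agent.H3.henselianRing_of_forall_isNilpotent (IsLocalRing.maximalIdeal R) hnil
  refine ⟨fun f hf a₀ h₁ h₂ => ?_⟩
  exact hH.is_henselian f hf a₀ h₁ (h₂.map _)

end Groth.Agent.S0495
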