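import Groth.Statements.S0532
import Groth.Agent.H3.HPairZMT
import Groth.Agent.S9436

set_option autoImplicit false
universe u
open Hensel

namespace Groth.Agent.S0532

/-- If `A` is Henselian at `I`, every finite étale `A/I`-algebra is the base change of a finite étale
`A`-algebra. -/
theorem result (A : Type u) [CommRing A] (I : Ideal A) [HenselianRing A I]
    (C : Type u) [CommRing C] [Algebra (A ⧸ I) C] [Module.Finite (A ⧸ I) C] [Algebra.Etale (A ⧸ I) C] :
    ∃ (B : Type u) (_ : CommRing B) (_ : Algebra A B), Module.Finite A B ∧ Algebra.Etale A B ∧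
      Nonempty (TensorProduct A (A ⧸ I) B ≃ₐ[A ⧸ I] C) := by
  classical
  obtain ⟨A', _, _, hA'et, ⟨ε⟩⟩ := Groth.Agent.S9436.result A I C
  haveI := hA'et
  -- `1 ⊗ x = 0` for `x ∈ IA'`
  have hkill : ∀ x : A', x ∈ I.map (algebraMap A A') →
      ((1 : A ⧸ I) ⊗ₜ[A] x : TensorProduct A (A ⧸ I) A') = 0 := by
    intro x hx
    have hx' : x ∈ (I • ⊤ : Submodule A A') := by
      rw [Ideal.smul_top_eq_map]; exact hx
    refine Submodule.smul_induction_on hx' ?_ ?_
    · intro i hi n _
      rw [← TensorProduct.smul_tmul]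
      have : i • (1 : A ⧸ I) = 0 := by
        rw [Algebra.smul_def, mul_one]
        exact Ideal.Quotient.eq_zero_iff_mem.mpr hi
      rw [this, TensorProduct.zero_tmul]
    · intro a b ha hb
      rw [TensorProduct.tmul_add, ha, hb, add_zero]
  -- finiteness of `A'/IA'`
  haveI hfinT : Module.Finite (A ⧸ I) (TensorProduct A (A ⧸ I) A') :=
    Module.Finite.equiv ε.symm.toLinearEquiv
  haveI : Module.Finite A (A ⧸ I) := Module.Finite.of_surjective
    (Algebra.linearMap A (A ⧸ I)) Ideal.Quotient.mk_surjective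
  haveI hfinTA : Module.Finite A (TensorProduct A (A ⧸ I) A') :=
    Module.Finite.trans (A ⧸ I) _
  haveI hfinQ : Module.Finite A (A' ⧸ I.map (algebraMap A A')) := by
    let ψ : TensorProduct A (A ⧸ I) A' →ₐ[A] A' ⧸ I.map (algebraMap A A') :=
      Algebra.TensorProduct.lift
        (Ideal.Quotient.liftₐ I (Algebra.ofId A (A' ⧸ I.map (algebraMap A A'))) (by
          intro a ha
          rw [Algebra.ofId_apply, IsScalarTower.algebraMap_apply A A' (A' ⧸ I.map (algebraMap A A')),
            Ideal.Quotient.algebraMap_eq, Ideal.Quotient.eq_zero_iff_mem]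
          exact Ideal.mem_map_of_mem _ ha))
        (Ideal.Quotient.mkₐ A (I.map (algebraMap A A')))
        (fun _ _ => Commute.all _ _)
    refine Module.Finite.of_surjective ψ.toLinearMap ?_
    intro z
    obtain ⟨x, rfl⟩ := Ideal.Quotient.mk_surjective z
    refine ⟨1 ⊗ₜ x, ?_⟩
    change ψ (1 ⊗ₜ x) = _
    simp [ψ]
  obtain ⟨e, he, hefin, heI⟩ := Groth.Agent.H3.quasiFinite_split_of_henselianRing I A'
  haveI : IsLocalization.Away e (A' ⧸ Ideal.span ({1 - e} : Set A')) :=
    IsLocalization.Away.quotient_of_isIdempotentElem he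
  haveI : Algebra.Etale A' (A' ⧸ Ideal.span ({1 - e} : Set A')) :=
    Algebra.Etale.of_isLocalizationAway e
  refine ⟨A' ⧸ Ideal.span ({1 - e} : Set A'), inferInstance, inferInstance, hefin,
    Algebra.Etale.comp A A' _, ?_⟩
  let π : A' →ₐ[A] A' ⧸ Ideal.span ({1 - e} : Set A') := Ideal.Quotient.mkₐ A _
  let f : TensorProduct A (A ⧸ I) A' →ₐ[A ⧸ I]
      TensorProduct A (A ⧸ I) (A' ⧸ Ideal.span ({1 - e} : Set A')) :=
    Algebra.TensorProduct.map (AlgHom.id (A ⧸ I) (A ⧸ I)) π
  let g₂ : A' ⧸ Ideal.span ({1 - e} : Set A') →ₐ[A] TensorProduct A (A ⧸ I) A' :=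
    Ideal.Quotient.liftₐ (Ideal.span ({1 - e} : Set A'))
      (Algebra.TensorProduct.includeRight : A' →ₐ[A] TensorProduct A (A ⧸ I) A') (by
        intro a ha
        obtain ⟨c, rfl⟩ := Ideal.mem_span_singleton'.mp ha
        rw [map_mul]
        have : (Algebra.TensorProduct.includeRight : A' →ₐ[A] TensorProduct A (A ⧸ I) A') (1 - e)
            = 0 := hkill _ heI
        rw [this, mul_zero])
  let g : TensorProduct A (A ⧸ I) (A' ⧸ Ideal.span ({1 - e} : Set A')) →ₐ[A]
      TensorProduct A (A ⧸ I) A' :=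
    Algebra.TensorProduct.lift
      (Algebra.TensorProduct.includeLeft : (A ⧸ I) →ₐ[A] TensorProduct A (A ⧸ I) A') g₂
      (fun _ _ => Commute.all _ _)
  have hgf : ∀ t, g (f t) = t := by
    intro t
    induction t using TensorProduct.induction_on with
    | zero => simp
    | tmul a x =>
      have h1 : f (a ⊗ₜ x) = a ⊗ₜ π x := by simp [f]
      rw [h1]
      have h2 : g (a ⊗ₜ[A] π x) = (a ⊗ₜ[A] (1 : A')) * g₂ (π x) := by
        simp [g]
      rw [h2]
      have h3 : g₂ (π x) = (1 : A ⧸ I) ⊗ₜ[A] x := by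
        change Ideal.Quotient.liftₐ _ _ _ (Ideal.Quotient.mk _ x) = _
        rw [Ideal.Quotient.liftₐ_apply, Ideal.Quotient.lift_mk]
        rfl
      rw [h3, Algebra.TensorProduct.tmul_mul_tmul, mul_one, one_mul]
    | add a b ha hb => rw [map_add, map_add, ha, hb]
  have hfinj : Function.Injective f := by
    intro s t hst
    rw [← hgf s, ← hgf t, hst]
  have hfsurj : Function.Surjective f := by
    intro t
    induction t using TensorProduct.induction_on with
    | zero => exact ⟨0, map_zero _⟩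
    | tmul a y =>
      obtain ⟨x, rfl⟩ := Ideal.Quotient.mk_surjective y
      exact ⟨a ⊗ₜ x, by simp [f, π]⟩
    | add a b ha hb =>
      obtain ⟨s, rfl⟩ := ha
      obtain ⟨t, rfl⟩ := hb
      exact ⟨s + t, map_add _ _ _⟩
  exact ⟨(AlgEquiv.ofBijective f ⟨hfinj, hfsurj⟩).symm.trans ε⟩

end Groth.Agent.S0532
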