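import Groth.Statements.S0546
import Mathlib.RingTheory.Finiteness.Ideal
import Mathlib.RingTheory.Finiteness.Basic

set_option autoImplicit false
universe u
open CAlg

namespace Groth.Agent.S0546

theorem exists_sum_of_mem_span_smul {A M : Type u} [CommRing A] [AddCommGroup M] [Module A M]
    {t : ℕ} (g : Fin t → A) (N : Submodule A M) {y : M}
    (hy : y ∈ (Submodule.span A (Set.range g) : Ideal A) • N) :
    ∃ z : Fin t → M, (∀ j, z j ∈ N) ∧ y = ∑ j, g j • z j := by
  refine Submodule.smul_induction_on hy ?_ ?_
  · intro r hr n hn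
    obtain ⟨c, rfl⟩ := (Submodule.mem_span_range_iff_exists_fun A).mp hr
    refine ⟨fun j => c j • n, fun j => N.smul_mem _ hn, ?_⟩
    rw [Finset.sum_smul]
    refine Finset.sum_congr rfl fun j _ => ?_
    rw [smul_eq_mul, mul_comm, mul_smul]
  · rintro y y' ⟨z, hz, rfl⟩ ⟨z', hz', rfl⟩
    exact ⟨z + z', fun j => add_mem (hz j) (hz' j), by
      simp [smul_add, Finset.sum_add_distrib]⟩

/-- If `I ≤ J` are ideals with `I` finitely generated and `M` is `J`-adically complete, then `M` is
`I`-adically complete. -/
theorem result (A : Type u) [CommRing A] (I J : Ideal A) (hIJ : I ≤ J)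
    (hI : I.FG) (M : Type u) [AddCommGroup M] [Module A M] [IsAdicComplete J M] :
    IsAdicComplete I M := by
  have hle : ∀ k, (I ^ k • ⊤ : Submodule A M) ≤ J ^ k • ⊤ := fun k =>
    Submodule.smul_mono (Ideal.pow_right_mono hIJ k) le_rfl
  have hH : IsHausdorff I M := ⟨fun x hx => IsHausdorff.haus' (I := J) x (fun n => by
      have h1 := hx n
      rw [SModEq.sub_mem] at h1 ⊢
      exact hle n h1)⟩
  have hP : IsPrecomplete I M := by
    refine ⟨fun x hx => ?_⟩
    obtain ⟨L, hL⟩ := IsPrecomplete.prec' (I := J) x (fun {m n} hmn => by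
      have h1 := hx hmn
      rw [SModEq.sub_mem] at h1 ⊢
      exact hle m h1)
    refine ⟨L, fun n => ?_⟩
    obtain ⟨t, g, hg⟩ := Submodule.fg_iff_exists_fin_generating_family.mp (hI.pow (n := n))
    have hstep : ∀ k, ∃ z : Fin t → M, (∀ j, z j ∈ (I ^ k • ⊤ : Submodule A M)) ∧
        x (n + k + 1) - x (n + k) = ∑ j, g j • z j := by
      intro k
      have h1 : x (n + k + 1) - x (n + k) ∈ (I ^ (n + k) • ⊤ : Submodule A M) := by
        have h2 := hx (Nat.le_succ (n + k))
        rw [SModEq.sub_mem] at h2
        rw [← neg_sub]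
        exact neg_mem h2
      rw [pow_add, Submodule.mul_smul, ← hg] at h1
      exact exists_sum_of_mem_span_smul g _ h1
    choose z hz hzsum using hstep
    let S : ℕ → Fin t → M := fun K j => ∑ k ∈ Finset.range K, z k j
    have hScauchy : ∀ j, ∀ {K K' : ℕ}, K ≤ K' →
        S K j ≡ S K' j [SMOD (J ^ K • ⊤ : Submodule A M)] := by
      intro j K K' hKK'
      rw [SModEq.sub_mem]
      have h1 : S K' j - S K j = ∑ k ∈ Finset.Ico K K', z k j := by
        simp only [S]
        rw [Finset.sum_Ico_eq_sub _ hKK']
      rw [← neg_sub, h1]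
      refine neg_mem (Submodule.sum_mem _ fun k hk => ?_)
      have hk' : K ≤ k := (Finset.mem_Ico.mp hk).1
      exact hle K (Submodule.smul_mono (Ideal.pow_le_pow_right hk') le_rfl (hz k j))
    have hlim : ∀ j, ∃ Z : M, ∀ K, S K j ≡ Z [SMOD (J ^ K • ⊤ : Submodule A M)] := fun j =>
      IsPrecomplete.prec' (I := J) (fun K => S K j) (hScauchy j)
    choose Z hZ using hlim
    have htel : ∀ K, x (n + K) - x n = ∑ j, g j • S K j := by
      intro K
      induction K with
      | zero => simp [S]
      | succ K ih =>
        have h1 : x (n + (K + 1)) - x n = (x (n + K + 1) - x (n + K)) + (x (n + K) - x n) := by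
          change x (n + K + 1) - x n = _
          abel
        rw [h1, ih, hzsum K, ← Finset.sum_add_distrib]
        refine Finset.sum_congr rfl fun j _ => ?_
        simp only [S]
        rw [Finset.sum_range_succ, smul_add, add_comm]
    have hfinal : L - x n - ∑ j, g j • Z j = 0 := by
      apply IsHausdorff.haus' (I := J)
      intro K
      rw [SModEq.sub_mem, sub_zero]
      have e : L - x n - ∑ j, g j • Z j = (L - x (n + K)) + ∑ j, g j • (S K j - Z j) := by
        have h1 := htel K
        simp only [smul_sub, Finset.sum_sub_distrib]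
        rw [← h1]
        abel
      rw [e]
      refine add_mem ?_ (Submodule.sum_mem _ fun j _ => Submodule.smul_mem _ _ ?_)
      · have h1 := hL (n + K)
        rw [SModEq.sub_mem] at h1
        rw [← neg_sub]
        exact neg_mem (Submodule.smul_mono (Ideal.pow_le_pow_right (Nat.le_add_left K n))
          le_rfl h1)
      · have h1 := hZ j K
        rwa [SModEq.sub_mem] at h1
    rw [SModEq.sub_mem]
    have h2 : x n - L = - ∑ j, g j • Z j := by
      rw [sub_eq_zero] at hfinal
      rw [← hfinal]
      abel
    rw [h2]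
    refine neg_mem (Submodule.sum_mem _ fun j _ => ?_)
    refine Submodule.smul_mem_smul ?_ Submodule.mem_top
    rw [← hg]
    exact Submodule.subset_span ⟨j, rfl⟩
  exact (isAdicComplete_iff I M).mpr ⟨hH, hP⟩

end Groth.Agent.S0546
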