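import Groth.Statements.S0561
import Groth.Agent.H23.RegularSeq

set_option autoImplicit false
universe u
open CAlg

namespace Groth.Agent.S0561


/-- Let `R` be a regular local ring of dimension `d` and `I` an ideal with `R/I` a regular local ring.
Then there are elements `x₁, …, x_d` generating the maximal ideal such that `I` is generated by `x₁,
…, x_c` for some `c ≤ d`. -/
theorem result (R : Type u) [CommRing R]
    [IsRegularLocalRing R] (d : ℕ) (hd : ringKrullDim R = d) (I : Ideal R)
    [IsRegularLocalRing (R ⧸ I)] :
    ∃ (x : Fin d → R) (c : ℕ) (hc : c ≤ d), Ideal.span (Set.range x) = IsLocalRing.maximalIdeal R ∧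
      I = Ideal.span (Set.range (fun i : Fin c => x (Fin.castLE hc i))) := by
  obtain ⟨c, k, x, y, hck, hm, hI, -⟩ := H23.exists_generators_of_regular_quotient R I
  have hdk : d = c + k := by
    rw [hd] at hck; exact_mod_cast hck.symm
  subst hdk
  refine ⟨Fin.append x y, c, Nat.le_add_right c k, ?_, ?_⟩
  · rw [hm, H23.range_append]
  · rw [hI]
    congr 1
    ext v
    constructor
    · rintro ⟨i, rfl⟩; exact ⟨i, Fin.append_left x y i⟩
    · rintro ⟨i, rfl⟩; exact ⟨i, (Fin.append_left x y i).symm⟩

end Groth.Agent.S0561
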