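import Groth.Statements.S0577
import Groth.Agent.H23.NagataAU

set_option autoImplicit false
universe u
open CAlg

namespace Groth.Agent.S0577

open IsLocalRing TensorProduct Polynomial

theorem case_frac (A : Type u) [CommRing A] [IsDomain A] [IsLocalRing A] (hA : CAlg.IsNagata A)
    (p : ℕ) [hp : Fact p.Prime] [CharP A p] (a : A)
    (α : AdicCompletion (maximalIdeal A) A)
    (hα : α ^ p = algebraMap A (AdicCompletion (maximalIdeal A) A) a)
    (z : FractionRing A) (hz : z ^ p = algebraMap A (FractionRing A) a) :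
    ∃ b : A, b ^ p = a := by
  haveI : IsNoetherianRing A := hA.1
  haveI : Module.FaithfullyFlat A (AdicCompletion (maximalIdeal A) A) :=
    Module.FaithfullyFlat.of_flat_of_isLocalHom
  have hinjh : Function.Injective (algebraMap A (AdicCompletion (maximalIdeal A) A)) :=
    FaithfulSMul.algebraMap_injective A _
  haveI : CharP (AdicCompletion (maximalIdeal A) A) p := charP_of_injective_algebraMap hinjh p
  haveI hred : IsReduced (AdicCompletion (maximalIdeal A) A) :=
    Groth.Agent.H23.NagataAU.reduced_completion A hA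
  obtain ⟨c, d, hd, rfl⟩ := IsFractionRing.div_surjective (A := A) z
  have hd0 : d ≠ 0 := nonZeroDivisors.ne_zero hd
  have hd0' : algebraMap A (FractionRing A) d ≠ 0 := by
    intro h; exact hd0 ((IsFractionRing.injective A _) (h.trans (map_zero _).symm))
  have hcd : c ^ p = a * d ^ p := by
    apply IsFractionRing.injective A (FractionRing A)
    rw [div_pow, div_eq_iff (pow_ne_zero _ hd0')] at hz
    rw [map_pow, map_mul, map_pow, hz]
  have hnil : (algebraMap A (AdicCompletion (maximalIdeal A) A) c -
      α * algebraMap A (AdicCompletion (maximalIdeal A) A) d) ^ p = 0 := by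
    rw [sub_pow_char, mul_pow, hα, ← map_pow, ← map_pow, ← map_mul, ← hcd, sub_self]
  have hcα : algebraMap A (AdicCompletion (maximalIdeal A) A) c =
      α * algebraMap A (AdicCompletion (maximalIdeal A) A) d :=
    sub_eq_zero.mp (IsNilpotent.eq_zero ⟨p, hnil⟩)
  have hc : c ∈ Ideal.span {d} := by
    rw [← Ideal.comap_map_eq_self_of_faithfullyFlat (B := AdicCompletion (maximalIdeal A) A)
      (Ideal.span {d}), Ideal.mem_comap, hcα]
    exact Ideal.mul_mem_left _ _ (Ideal.mem_map_of_mem _ (Ideal.mem_span_singleton_self d))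
  obtain ⟨b, hb⟩ := Ideal.mem_span_singleton'.mp hc
  have hreg0 : IsSMulRegular A d := by
    intro u v huv; exact mul_left_cancel₀ hd0 huv
  have hreg : IsSMulRegular (AdicCompletion (maximalIdeal A) A)
      (algebraMap A (AdicCompletion (maximalIdeal A) A) d) := hreg0.of_flat
  have hbα : algebraMap A (AdicCompletion (maximalIdeal A) A) b = α := by
    apply hreg
    show algebraMap A (AdicCompletion (maximalIdeal A) A) d •
      algebraMap A (AdicCompletion (maximalIdeal A) A) b =
      algebraMap A (AdicCompletion (maximalIdeal A) A) d • α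
    rw [smul_eq_mul, smul_eq_mul, mul_comm, ← map_mul, hb, hcα, mul_comm]
  refine ⟨b, hinjh ?_⟩
  rw [map_pow, hbα, hα]

theorem case_nofrac (A : Type u) [CommRing A] [IsDomain A] [IsLocalRing A] (hA : CAlg.IsNagata A)
    (p : ℕ) [hp : Fact p.Prime] [CharP A p] (a : A)
    (α : AdicCompletion (maximalIdeal A) A)
    (hα : α ^ p = algebraMap A (AdicCompletion (maximalIdeal A) A) a)
    (hz : ∀ z : FractionRing A, z ^ p ≠ algebraMap A (FractionRing A) a) : False := by
  classical
  haveI : IsNoetherianRing A := hA.1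
  set f : A[X] := X ^ p - C a with hf
  have hmonic : f.Monic := monic_X_pow_sub_C a hp.out.ne_zero
  have hinjK : Function.Injective (algebraMap A (FractionRing A)) := IsFractionRing.injective A _
  have hmap : f.map (algebraMap A (FractionRing A)) =
      X ^ p - C (algebraMap A (FractionRing A) a) := by
    simp [f]
  have hirr : Irreducible (f.map (algebraMap A (FractionRing A))) := by
    rw [hmap]; exact X_pow_sub_C_irreducible_of_prime hp.out hz
  have hdeg : f.natDegree = p := natDegree_X_pow_sub_C
  have hprime : Prime f := by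
    refine ⟨hmonic.ne_zero, fun hu => ?_, fun g h hd => ?_⟩
    · have := natDegree_eq_zero_of_isUnit hu
      rw [hdeg] at this; exact hp.out.ne_zero this
    · have hd' : f.map (algebraMap A (FractionRing A)) ∣
          g.map (algebraMap A (FractionRing A)) * h.map (algebraMap A (FractionRing A)) := by
        rw [← Polynomial.map_mul]; exact Polynomial.map_dvd _ hd
      rcases hirr.prime.dvd_or_dvd hd' with h1 | h1
      · left; exact (Polynomial.map_dvd_map _ hinjK hmonic).mp h1
      · right; exact (Polynomial.map_dvd_map _ hinjK hmonic).mp h1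
  haveI : IsDomain (AdjoinRoot f) := AdjoinRoot.isDomain_of_prime hprime
  haveI : Module.Finite A (AdjoinRoot f) := hmonic.finite_adjoinRoot
  haveI hred : IsReduced (AdjoinRoot f ⊗[A] AdicCompletion (maximalIdeal A) A) :=
    Groth.Agent.H23.NagataAU.reduced_tensor A hA (AdjoinRoot f)
  -- coefficient functional
  let c₁ : AdjoinRoot f →ₗ[A] A := (lcoeff A 1).comp (AdjoinRoot.modByMonicHom hmonic)
  have hdegf : f.degree = (p : WithBot ℕ) := degree_X_pow_sub_C hp.out.pos a
  have hc_root : c₁ (AdjoinRoot.root f) = 1 := by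
    have hX : (X : A[X]) %ₘ f = X := by
      rw [modByMonic_eq_self_iff hmonic, degree_X, hdegf]
      exact_mod_cast hp.out.one_lt
    show ((AdjoinRoot.modByMonicHom hmonic) (AdjoinRoot.root f)).coeff 1 = 1
    rw [← AdjoinRoot.mk_X, AdjoinRoot.modByMonicHom_mk, hX, coeff_X_one]
  have hc_one : c₁ 1 = 0 := by
    have h1 : (1 : A[X]) %ₘ f = 1 := by
      rw [modByMonic_eq_self_iff hmonic, degree_one, hdegf]
      exact_mod_cast hp.out.pos
    show ((AdjoinRoot.modByMonicHom hmonic) 1).coeff 1 = 0
    rw [← map_one (AdjoinRoot.mk f), AdjoinRoot.modByMonicHom_mk, h1, coeff_one]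
    simp
  let ℓ : AdjoinRoot f ⊗[A] AdicCompletion (maximalIdeal A) A →ₗ[A]
      AdicCompletion (maximalIdeal A) A :=
    (TensorProduct.lid A (AdicCompletion (maximalIdeal A) A)).toLinearMap ∘ₗ
      (c₁.rTensor (AdicCompletion (maximalIdeal A) A))
  set t : AdjoinRoot f ⊗[A] AdicCompletion (maximalIdeal A) A :=
    (AdjoinRoot.root f) ⊗ₜ[A] 1 - 1 ⊗ₜ[A] α with ht
  have hℓt : ℓ t = 1 := by
    simp only [ℓ, ht, map_sub, LinearMap.comp_apply, LinearMap.rTensor_tmul,
      LinearEquiv.coe_coe, TensorProduct.lid_tmul, hc_root, hc_one, one_smul, zero_smul, sub_zero]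
  have ht0 : t ≠ 0 := by
    intro h
    rw [h, map_zero] at hℓt
    exact zero_ne_one hℓt
  haveI : Nontrivial (AdjoinRoot f ⊗[A] AdicCompletion (maximalIdeal A) A) := ⟨⟨t, 0, ht0⟩⟩
  haveI : CharP (AdjoinRoot f ⊗[A] AdicCompletion (maximalIdeal A) A) p := by
    rw [CharP.charP_iff_prime_eq_zero hp.out]
    have h1 : ((p : A) : A) = 0 := CharP.cast_eq_zero A p
    have h2 := congrArg (algebraMap A (AdjoinRoot f ⊗[A] AdicCompletion (maximalIdeal A) A)) h1
    rwa [map_natCast, map_zero] at h2
  have hroot : (AdjoinRoot.root f) ^ p = algebraMap A (AdjoinRoot f) a := by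
    have h := AdjoinRoot.eval₂_root f
    simp only [f, eval₂_sub, eval₂_pow, eval₂_X, eval₂_C] at h
    rw [AdjoinRoot.algebraMap_eq]
    exact sub_eq_zero.mp h
  have htp : t ^ p = 0 := by
    rw [ht, sub_pow_char, Algebra.TensorProduct.tmul_pow, Algebra.TensorProduct.tmul_pow,
      one_pow, one_pow, hroot, hα, Algebra.algebraMap_eq_smul_one, Algebra.algebraMap_eq_smul_one,
      TensorProduct.tmul_smul, TensorProduct.smul_tmul', sub_self]
  exact ht0 (IsNilpotent.eq_zero ⟨p, htp⟩)

/-- Let `A` be a Noetherian local domain of prime characteristic `p` which is a Nagata ring. If `a ∈ A`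
has a `p`-th root in the completion of `A`, then it has a `p`-th root in `A`. -/
theorem result (A : Type u) [CommRing A] [IsDomain A]
    [IsLocalRing A] (hA : CAlg.IsNagata A) (p : ℕ) [Fact p.Prime] [CharP A p] (a : A)
    (h : ∃ α : AdicCompletion (IsLocalRing.maximalIdeal A) A,
      α ^ p = algebraMap A (AdicCompletion (IsLocalRing.maximalIdeal A) A) a) :
    ∃ b : A, b ^ p = a := by
  obtain ⟨α, hα⟩ := h
  by_cases hz : ∃ z : FractionRing A, z ^ p = algebraMap A (FractionRing A) a
  · obtain ⟨z, hz⟩ := hz
    exact case_frac A hA p a α hα z hz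
  · push Not at hz
    exact (case_nofrac A hA p a α hα hz).elim

end Groth.Agent.S0577
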