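import Groth.Statements.S0586
import Groth.Agent.S2057

set_option autoImplicit false
universe u
open CAlg

namespace Groth.Agent.S0586

open TensorProduct

/-- `q ↦ 1 ⊗ q` is universally injective when `S` is faithfully flat. -/
theorem univInj_mk (R S : Type u) [CommRing R] [CommRing S] [Algebra R S]
    [Module.FaithfullyFlat R S] (Q : Type u) [AddCommGroup Q] [Module R Q] :
    CAlgX.UniversallyInjective R (TensorProduct.mk R S Q 1) := by
  intro N _ _
  have h1 : Function.Injective (TensorProduct.mk R S (Q ⊗[R] N) 1) :=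
    Module.FaithfullyFlat.tensorProduct_mk_injective _
  have h2 : (TensorProduct.mk R S (Q ⊗[R] N) 1) =
      (TensorProduct.assoc R S Q N).toLinearMap ∘ₗ ((TensorProduct.mk R S Q 1).rTensor N) := by
    apply TensorProduct.ext'
    intro q n
    simp
  intro a b hab
  apply h1
  rw [h2, LinearMap.comp_apply, LinearMap.comp_apply, hab]

/-- The product of the maps `q ↦ 1 ⊗ q` is universally injective. -/
theorem univInj_pi (R S : Type u) [CommRing R] [CommRing S] [Algebra R S]
    [Module.FaithfullyFlat R S] {ι : Type u} (Q : ι → Type u) [∀ i, AddCommGroup (Q i)]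
    [∀ i, Module R (Q i)] :
    CAlgX.UniversallyInjective R
      (LinearMap.pi (fun i => (TensorProduct.mk R S (Q i) 1) ∘ₗ LinearMap.proj i) :
        (∀ i, Q i) →ₗ[R] (∀ i, S ⊗[R] (Q i))) := by
  have hinj : ∀ i, Function.Injective (TensorProduct.mk R S (Q i) 1) := fun i =>
    Module.FaithfullyFlat.tensorProduct_mk_injective _
  have hP : Function.Injective
      (LinearMap.pi (fun i => (TensorProduct.mk R S (Q i) 1) ∘ₗ LinearMap.proj i) :
        (∀ i, Q i) →ₗ[R] (∀ i, S ⊗[R] (Q i))) := by
    intro a b hab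
    funext i
    apply hinj i
    have := congrFun hab i
    simpa using this
  rw [Groth.Agent.S2057.result _ hP]
  intro n m x y a hxy
  have key : ∀ i, ∃ z : Fin m → Q i, ∀ k, x k i = ∑ j, a k j • z j := by
    intro i
    have hi := (Groth.Agent.S2057.result (TensorProduct.mk R S (Q i) 1) (hinj i)).1
      (univInj_mk R S (Q i))
    apply hi n m (fun k => x k i) (fun j => y j i) a
    intro k
    have := congrFun (hxy k) i
    simpa [Finset.sum_apply] using this
  choose z hz using key
  refine ⟨fun j i => z i j, fun k => ?_⟩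
  funext i
  simp [Finset.sum_apply, hz i k]

/-- `M ⊗[R] Y ≃ (S ⊗[R] M) ⊗[S] Y` for an `S`-module `Y`. -/
noncomputable def eY (R S M : Type u) [CommRing R] [CommRing S] [Algebra R S]
    [AddCommGroup M] [Module R M]
    (Y : Type u) [AddCommGroup Y] [Module S Y] [Module R Y] [IsScalarTower R S Y] :
    M ⊗[R] Y ≃ₗ[R] (S ⊗[R] M) ⊗[S] Y :=
  (TensorProduct.comm R M Y) ≪≫ₗ
   ((TensorProduct.AlgebraTensorModule.cancelBaseChange R S S Y M).symm.restrictScalars R) ≪≫ₗ
   ((TensorProduct.comm S Y (S ⊗[R] M)).restrictScalars R)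

theorem eY_tmul (R S M : Type u) [CommRing R] [CommRing S] [Algebra R S]
    [AddCommGroup M] [Module R M]
    (Y : Type u) [AddCommGroup Y] [Module S Y] [Module R Y] [IsScalarTower R S Y] (m : M) (y : Y) :
    eY R S M Y (m ⊗ₜ y) = ((1 : S) ⊗ₜ[R] m) ⊗ₜ[S] y := by
  simp [eY]

/-- Let `R → S` be faithfully flat and `M` an `R`-module. If `S ⊗ M` is a Mittag-Leffler `S`-module then
`M` is a Mittag-Leffler `R`-module. -/
theorem result (R : Type u) [CommRing R] (S : Type u)
    [CommRing S] [Algebra R S] [Module.FaithfullyFlat R S] (M : Type u) [AddCommGroup M] [Module R M]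
    (h : CAlg.IsMittagLeffler S (TensorProduct R S M)) : CAlg.IsMittagLeffler R M := by
  intro ι Q _ _
  have hS := h ι (fun i => S ⊗[R] (Q i))
  set P : (∀ i, Q i) →ₗ[R] (∀ i, S ⊗[R] (Q i)) :=
    LinearMap.pi (fun i => (TensorProduct.mk R S (Q i) 1) ∘ₗ LinearMap.proj i) with hPdef
  have hP : CAlgX.UniversallyInjective R P := univInj_pi R S Q
  have hα : Function.Injective (P.lTensor M) :=
    (LinearMap.lTensor_inj_iff_rTensor_inj M P).2 (hP M)
  have key : ∀ (x : M ⊗[R] (∀ i, Q i)) (i : ι),
      TensorProduct.piRightHom S S (S ⊗[R] M) (fun i => S ⊗[R] (Q i))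
        (eY R S M (∀ i, S ⊗[R] (Q i)) (P.lTensor M x)) i =
      eY R S M (S ⊗[R] (Q i)) ((TensorProduct.mk R S (Q i) 1).lTensor M
        (TensorProduct.piRightHom R R M Q x i)) := by
    intro x i
    induction x using TensorProduct.induction_on with
    | zero => simp
    | tmul m q =>
      simp only [LinearMap.lTensor_tmul, eY_tmul, TensorProduct.piRightHom_tmul]
      rfl
    | add a b ha hb =>
      simp only [map_add, Pi.add_apply, ha, hb]
  rw [injective_iff_map_eq_zero]
  intro x hx
  apply hα
  rw [map_zero]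
  apply (eY R S M (∀ i, S ⊗[R] (Q i))).injective
  rw [map_zero]
  apply hS
  rw [map_zero]
  funext i
  rw [key x i, hx]
  simp

end Groth.Agent.S0586
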