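import Groth.Statements.S0588
import Mathlib
import Groth.Agent.H3.PiTensor

set_option autoImplicit false
set_option maxHeartbeats 400000
universe u
open CAlg

namespace Groth.Agent.S0588

open TensorProduct

section aux

variable {R : Type*} [CommRing R]

theorem naturality {M₁ M₂ : Type*} [AddCommGroup M₁] [Module R M₁] [AddCommGroup M₂] [Module R M₂]
    (g : M₁ →ₗ[R] M₂) {ι : Type*} (Q : ι → Type*) [∀ i, AddCommGroup (Q i)] [∀ i, Module R (Q i)]
    (t : M₁ ⊗[R] (∀ i, Q i)) (i : ι) :
    TensorProduct.piRightHom R R M₂ Q (g.rTensor _ t) i =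
      g.rTensor (Q i) (TensorProduct.piRightHom R R M₁ Q t i) := by
  induction t using TensorProduct.induction_on with
  | zero => simp
  | tmul x q => simp
  | add a b ha hb => simp only [map_add, Pi.add_apply, ha, hb]

theorem injective_free (n : ℕ) {ι : Type*} (Q : ι → Type*) [∀ i, AddCommGroup (Q i)]
    [∀ i, Module R (Q i)] :
    Function.Injective (TensorProduct.piRightHom R R (Fin n → R) Q) := by
  classical
  rw [injective_iff_map_eq_zero]
  intro t ht
  have hspan : Submodule.span R (Set.range (fun j : Fin n => (Pi.single j 1 : Fin n → R))) = ⊤ := by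
    have := (Pi.basisFun R (Fin n)).span_eq
    convert this using 3
    funext j
    simp
  obtain ⟨q, rfl⟩ := Groth.Agent.H3.exists_sum_tmul_of_span_eq_top (R := R)
    (fun j : Fin n => (Pi.single j 1 : Fin n → R)) hspan t
  have hq : ∀ j, q j = 0 := by
    intro j'
    funext i
    have h1 := congrFun ht i
    rw [map_sum, Finset.sum_apply] at h1
    simp only [TensorProduct.piRightHom_tmul] at h1
    have h2 := congrArg (fun z => TensorProduct.lid R (Q i)
      ((LinearMap.proj (R := R) (φ := fun _ : Fin n => R) j').rTensor (Q i) z)) h1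
    simp only [map_sum, LinearMap.rTensor_tmul, LinearMap.proj_apply, TensorProduct.lid_tmul,
      Pi.zero_apply, map_zero] at h2
    rw [Finset.sum_eq_single j'] at h2
    · simpa using h2
    · intro j _ hj
      simp [Pi.single_apply, hj.symm]
    · intro h; exact absurd (Finset.mem_univ _) h
  simp [hq]

end aux

theorem forward (R : Type u) [CommRing R] (M : Type u) [AddCommGroup M] [Module R M]
    [Module.FinitePresentation R M] (ι : Type u) (Q : ι → Type u) [∀ i, AddCommGroup (Q i)]
    [∀ i, Module R (Q i)] : Function.Bijective (TensorProduct.piRightHom R R M Q) := by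
  refine ⟨?_, Groth.Agent.H3.piRightHom_surjective_of_finite Q⟩
  obtain ⟨n, π, hπ⟩ := Module.Finite.exists_fin' R M
  have hK : (LinearMap.ker π).FG := Module.FinitePresentation.fg_ker π hπ
  haveI : Module.Finite R (LinearMap.ker π) := Module.Finite.iff_fg.mpr hK
  rw [injective_iff_map_eq_zero]
  intro x hx
  obtain ⟨x', rfl⟩ := LinearMap.rTensor_surjective (∀ i, Q i) hπ x
  have hex : ∀ i, Function.Exact ((LinearMap.ker π).subtype.rTensor (Q i)) (π.rTensor (Q i)) :=
    fun i => rTensor_exact (Q i) (LinearMap.exact_subtype_ker_map π) hπ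
  have h1 : ∀ i, ∃ y : (LinearMap.ker π) ⊗[R] Q i,
      (LinearMap.ker π).subtype.rTensor (Q i) y =
        TensorProduct.piRightHom R R (Fin n → R) Q x' i := by
    intro i
    have h2 : π.rTensor (Q i) (TensorProduct.piRightHom R R (Fin n → R) Q x' i) = 0 := by
      rw [← naturality, hx]; rfl
    exact ((hex i) _).mp h2
  choose y hy using h1
  obtain ⟨z, hz⟩ := Groth.Agent.H3.piRightHom_surjective_of_finite (R := R)
    (M := LinearMap.ker π) Q y
  have h3 : (LinearMap.ker π).subtype.rTensor (∀ i, Q i) z = x' := by
    apply injective_free n Q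
    funext i
    rw [naturality, hz, hy]
  rw [← h3, ← LinearMap.comp_apply, ← LinearMap.rTensor_comp]
  have : π ∘ₗ (LinearMap.ker π).subtype = 0 := by
    ext k; exact k.2
  rw [this, LinearMap.rTensor_zero, LinearMap.zero_apply]

theorem backward (R : Type u) [CommRing R] (M : Type u) [AddCommGroup M] [Module R M]
    (h : ∀ (ι : Type u) (Q : ι → Type u) [∀ i, AddCommGroup (Q i)]
      [∀ i, Module R (Q i)], Function.Bijective (TensorProduct.piRightHom R R M Q)) :
    Module.FinitePresentation R M := by
  haveI : Module.Finite R M :=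
    Groth.Agent.H3.finite_of_piRightHom_surjective (h M (fun _ => R)).2
  obtain ⟨n, π, hπ⟩ := Module.Finite.exists_fin' R M
  refine Module.finitePresentation_of_surjective π hπ ?_
  rw [← Module.Finite.iff_fg]
  apply Groth.Agent.H3.finite_of_piRightHom_surjective
  intro w
  -- notation
  have hinj : ∀ k : LinearMap.ker π, Function.Injective ((LinearMap.ker π).subtype.rTensor R) :=
    fun _ => Module.Flat.rTensor_preserves_injective_linearMap _ (Submodule.injective_subtype _)
  obtain ⟨x', hx'⟩ := Groth.Agent.H3.piRightHom_surjective_of_finite (R := R)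
    (M := Fin n → R) (fun _ : LinearMap.ker π => R)
    (fun k => (LinearMap.ker π).subtype.rTensor R (w k))
  have hex : Function.Exact ((LinearMap.ker π).subtype.rTensor (LinearMap.ker π → R))
      (π.rTensor (LinearMap.ker π → R)) :=
    rTensor_exact _ (LinearMap.exact_subtype_ker_map π) hπ
  have h0 : π.rTensor (LinearMap.ker π → R) x' = 0 := by
    apply (h (LinearMap.ker π) (fun _ => R)).1
    rw [map_zero]
    funext k
    rw [naturality, hx', ← LinearMap.comp_apply, ← LinearMap.rTensor_comp]
    have : π ∘ₗ (LinearMap.ker π).subtype = 0 := by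
      ext k; exact k.2
    rw [this, LinearMap.rTensor_zero, LinearMap.zero_apply]; rfl
  obtain ⟨z, hz⟩ := (hex _).mp h0
  refine ⟨z, ?_⟩
  funext k
  apply hinj k
  have h5 := naturality (LinearMap.ker π).subtype (fun _ : LinearMap.ker π => R) z k
  rw [hz, hx'] at h5
  exact h5.symm

/-- A module `M` is finitely presented exactly when for every family of modules `(Qᵢ)` the natural map
from `M ⊗ ∏ Qᵢ` to `∏ (M ⊗ Qᵢ)` is bijective. -/
theorem result (R : Type u) [CommRing R] (M : Type u)
    [AddCommGroup M] [Module R M] :
    Module.FinitePresentation R M ↔ ∀ (ι : Type u) (Q : ι → Type u) [∀ i, AddCommGroup (Q i)]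
      [∀ i, Module R (Q i)], Function.Bijective (TensorProduct.piRightHom R R M Q) := by
  constructor
  · intro hM ι Q _ _
    exact forward R M ι Q
  · intro h
    exact backward R M h

end Groth.Agent.S0588
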