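import Groth.Statements.S6824
import Groth.Agent.H10.InsepAsm
import Groth.Agent.H10.InsepST
import Groth.Agent.H3.Sep4
import Groth.Agent.H44.GeomRegLoc
import Groth.Agent.Lead.GeomReg
import Groth.Agent.H3.InsepZero

set_option autoImplicit false
universe u
open Smoothing

namespace Groth.Agent.S6824

/-- Let k be a field of characteristic p > 0, A a finitely presented k-algebra, φ : A → Λ a k-algebra
map with Λ Noetherian and geometrically regular over k, and 𝔮 ⊆ Λ a prime minimal over the radical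
of H_{A/k}Λ. Then k → A → Λ ⊇ 𝔮 can be resolved. -/
theorem result {k A Λ : Type u} [Field k] (p : ℕ) [Fact p.Prime]
    [CharP k p] [CommRing A] [Algebra k A] [Algebra.FinitePresentation k A] [CommRing Λ] [Algebra k Λ]
    [IsNoetherianRing Λ] (hreg : CAlg.IsGeometricallyRegular k Λ) (φ : A →ₐ[k] Λ) (𝔮 : Ideal Λ)
    [𝔮.IsPrime] (hmin : 𝔮 ∈ (Smoothing.singRad k φ).minimalPrimes) : Smoothing.Resolvable k φ 𝔮 := by
  classical
  have : IsNoetherianRing (Localization.AtPrime 𝔮) :=
    IsLocalization.isNoetherianRing 𝔮.primeCompl _ inferInstance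
  have hregS : CAlg.IsGeometricallyRegular k (Localization.AtPrime 𝔮) :=
    Groth.Agent.H44.GeomRegLoc.isGeometricallyRegular_of_isLocalization k Λ 𝔮.primeCompl _ hreg
  have hS : CAlgX.IsAdicFormallySmooth k (Localization.AtPrime 𝔮)
      (IsLocalRing.maximalIdeal (Localization.AtPrime 𝔮)) :=
    Groth.Agent.H44.GeomRegLoc.geomRegular_iff_fs_local.mp hregS
  have : IsRegularLocalRing (Localization.AtPrime 𝔮) := Groth.Agent.Lead.GeomReg.regular_of_fs hS
  have hd : ringKrullDim (Localization.AtPrime 𝔮) =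
      ((IsLocalRing.maximalIdeal (Localization.AtPrime 𝔮)).spanFinrank : ℕ) :=
    (IsRegularLocalRing.spanFinrank_maximalIdeal (R := Localization.AtPrime 𝔮)).symm
  generalize (IsLocalRing.maximalIdeal (Localization.AtPrime 𝔮)).spanFinrank = d at hd
  rcases Nat.eq_zero_or_pos d with h0 | hpos
  · rw [h0] at hd
    exact Groth.Agent.H3.InsepZero.resolvable_dim_zero φ 𝔮 hS hd
  · have : IsNoetherianRing A := Algebra.FiniteType.isNoetherianRing k A
    obtain ⟨r, a, ha⟩ := Submodule.fg_iff_exists_fin_generating_family.mp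
      (IsNoetherian.noetherian (Smoothing.singularIdeal k A))
    have ha' : Ideal.span (Set.range a) = Smoothing.singularIdeal k A := ha
    have haH : ∀ j, a j ∈ Smoothing.singularIdeal k A := fun j => by
      rw [← ha']; exact Ideal.subset_span ⟨j, rfl⟩
    obtain ⟨N, hN, hpow⟩ := Groth.Agent.H3.Sep.exists_pow_map_le
      ((Smoothing.singularIdeal k A).map φ) 𝔮 hmin
    have h2 : Ideal.map φ (Smoothing.singularIdeal k A) =
        Ideal.span (Set.range fun j => φ (a j)) := by
      rw [← ha', Ideal.map_span, ← Set.range_comp]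
      rfl
    rw [h2] at hpow
    obtain ⟨C, _, _, _, _, hCfp, ⟨ρ⟩, hmemC, c, hc, hstd⟩ :=
      Groth.Agent.H3.Sep.exists_elkik (R := MvPolynomial (Fin d) k)
        (B := Groth.Agent.H3.Sep.BB k A d r N a) (fun i => MvPolynomial.X i)
        (Groth.Agent.H3.Sep.X_mem k A d r N a hN haH)
    obtain ⟨P, _, _, _, _, _, _, π, hπ𝔮, hgenP, hgenS, hPS, Ab, _, _, _, _, hind, ι, hι, φA, hιφ,
        dd, hdd⟩ := Groth.Agent.H10.InsepST.structure_data p φ 𝔮 hS d hd a N hN hpow (c * 8)
      (by positivity) (N + (d * (c * 8) + 1)) (by omega)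
    exact Groth.Agent.H10.InsepAsm.assembly φ 𝔮 d hd hpos a ha' N hN hpow ρ hmemC c hc hstd _
      le_rfl π hπ𝔮 hgenP hgenS hPS hind ι hι φA hιφ dd hdd

end Groth.Agent.S6824
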