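import Groth.Statements.S0605
import Mathlib
import Groth.Agent.S0563
import Groth.Agent.S0604
import Groth.Agent.H29.CM

set_option autoImplicit false
universe u
open CAlg

namespace Groth.Agent.S0605

/-- Over a regular local ring, a finitely generated module whose depth equals the dimension of the ring
(a maximal Cohen–Macaulay module) is free. -/
theorem result (R : Type u) [CommRing R]
    [IsRegularLocalRing R] (M : Type u) [AddCommGroup M] [Module R M] [Module.Finite R M]
    (h : ((LocCoh.depth R M : ℕ∞) : WithBot ℕ∞) = ringKrullDim R) : Module.Free R M := by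
  classical
  by_cases hM : Nontrivial M
  swap
  · rw [not_nontrivial_iff_subsingleton] at hM
    exact Module.Free.of_subsingleton R M
  have hreg := (isRegularLocalRing_iff R).mp inferInstance
  have hd : ringKrullDim R = ((IsLocalRing.maximalIdeal R).spanFinrank : ℕ) := hreg.symm
  have hLT : CategoryTheory.HasProjectiveDimensionLT (ModuleCat.of R M)
      ((IsLocalRing.maximalIdeal R).spanFinrank + 1) :=
    Groth.Agent.S0563.result R _ hd M
  have hle : CategoryTheory.projectiveDimension (ModuleCat.of R M) ≤
      ((IsLocalRing.maximalIdeal R).spanFinrank : ℕ) :=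
    (CategoryTheory.projectiveDimension_le_iff _ _).mpr hLT
  have hnb : CategoryTheory.projectiveDimension (ModuleCat.of R M) ≠ ⊥ := by
    rw [Ne, CategoryTheory.projectiveDimension_eq_bot_iff, ModuleCat.isZero_iff_subsingleton]
    exact not_subsingleton M
  obtain ⟨e, he⟩ : ∃ e : ℕ, CategoryTheory.projectiveDimension (ModuleCat.of R M) = e := by
    generalize CategoryTheory.projectiveDimension (ModuleCat.of R M) = x at hle hnb
    induction x with
    | bot => exact absurd rfl hnb
    | coe y =>
      induction y with
      | top =>
        exfalso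
        have h' : (⊤ : ℕ∞) ≤ (((IsLocalRing.maximalIdeal R).spanFinrank : ℕ) : ℕ∞) := by
          exact_mod_cast hle
        simp at h'
      | coe n => exact ⟨n, rfl⟩
  have hAB := Groth.Agent.S0604.result R M e he
  have hMd : LocCoh.depth R M = ((IsLocalRing.maximalIdeal R).spanFinrank : ℕ) := by
    have h1 : ((LocCoh.depth R M : ℕ∞) : WithBot ℕ∞) =
        (((IsLocalRing.maximalIdeal R).spanFinrank : ℕ) : WithBot ℕ∞) := h.trans hd
    exact_mod_cast h1
  have hRle : LocCoh.depth R R ≤ ((IsLocalRing.maximalIdeal R).spanFinrank : ℕ) := by
    have h1 := Groth.Agent.H29.CM.depth_le_supportDim (A := R) (M := R)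
    rw [Module.supportDim_self_eq_ringKrullDim, hd] at h1
    exact_mod_cast h1
  have he0 : e = 0 := by
    rw [hAB, hMd] at hRle
    have h2 : e + (IsLocalRing.maximalIdeal R).spanFinrank ≤
        (IsLocalRing.maximalIdeal R).spanFinrank := by exact_mod_cast hRle
    omega
  subst he0
  have hproj : CategoryTheory.Projective (ModuleCat.of R M) := by
    rw [CategoryTheory.projective_iff_hasProjectiveDimensionLT_one]
    exact (CategoryTheory.projectiveDimension_le_iff _ 0).mp (le_of_eq he)
  haveI : Module.Projective R M := (IsProjective.iff_projective (R := R) M).mpr hproj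
  exact Module.free_of_flat_of_isLocalRing

end Groth.Agent.S0605
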