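import Groth.Statements.S0611
import Mathlib

set_option autoImplicit false
universe u
open RRAlg

namespace Groth.Agent.S0611

open RingTheory.Sequence IsLocalRing in
/-- Module-level version: over a local ring, a list `lb` of the same length as a weakly regular
sequence `la ⊆ 𝔪` on a nontrivial Noetherian module `M`, generating the same ideal modulo the
annihilator of `M`, is weakly regular on `M`. -/
theorem key {R : Type u} [CommRing R] [IsLocalRing R] : ∀ (n : ℕ) (M : Type u) [AddCommGroup M]
    [Module R M] [IsNoetherian R M] [Nontrivial M] (la lb : List R), la.length = n → lb.length = n →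
    (∀ r ∈ la, r ∈ maximalIdeal R) → IsWeaklyRegular M la →
    Ideal.ofList la ⊔ Module.annihilator R M = Ideal.ofList lb ⊔ Module.annihilator R M →
    IsWeaklyRegular M lb := by
  classical
  intro n
  induction n with
  | zero =>
    intro M _ _ _ _ la lb hla hlb _ _ _
    rw [List.length_eq_zero_iff] at hlb
    subst hlb
    exact IsWeaklyRegular.nil R M
  | succ n ih =>
    intro M _ _ _ _ la lb hla hlb hm hreg hI
    obtain ⟨a0, as, rfl⟩ : ∃ a0 as, la = a0 :: as := by
      cases la with
      | nil => simp at hla
      | cons a0 as => exact ⟨a0, as, rfl⟩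
    have hlas : as.length = n := by simpa using hla
    have hJm : Module.annihilator R M ≤ maximalIdeal R := by
      apply IsLocalRing.le_maximalIdeal
      intro h
      have h1 : (1 : R) ∈ Module.annihilator R M := by rw [h]; trivial
      obtain ⟨x, hx⟩ := exists_ne (0 : M)
      exact hx (by simpa using Module.mem_annihilator.mp h1 x)
    have ha0m : a0 ∈ maximalIdeal R := hm a0 List.mem_cons_self
    have hasm : ∀ r ∈ as, r ∈ maximalIdeal R := fun r hr => hm r (List.mem_cons_of_mem _ hr)
    have hasle : Ideal.ofList as ≤ maximalIdeal R := Ideal.span_le.mpr fun r hr => hasm r hr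
    have hKm : Ideal.ofList as ⊔ Module.annihilator R M ≤ maximalIdeal R := sup_le hasle hJm
    -- permuted sequence
    have hreg1 : IsWeaklyRegular M (as ++ [a0]) :=
      IsLocalRing.isWeaklyRegular_of_perm_of_subset_maximalIdeal hreg
        (List.perm_append_singleton a0 as).symm hm
    rw [isWeaklyRegular_append_iff, isWeaklyRegular_singleton_iff] at hreg1
    obtain ⟨hwas, hN⟩ := hreg1
    have kills : ∀ w ∈ Ideal.ofList as ⊔ Module.annihilator R M,
        ∀ y : M ⧸ (Ideal.ofList as • ⊤ : Submodule R M), w • y = 0 := by
      intro w hw y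
      obtain ⟨x, rfl⟩ := Submodule.mkQ_surjective _ y
      obtain ⟨w1, hw1, w2, hw2, rfl⟩ := Submodule.mem_sup.mp hw
      rw [← map_smul, add_smul, Module.mem_annihilator.mp hw2 x, add_zero, Submodule.mkQ_apply,
        Submodule.Quotient.mk_eq_zero]
      exact Submodule.smul_mem_smul hw1 Submodule.mem_top
    have hNnt : Nontrivial (M ⧸ (Ideal.ofList as • ⊤ : Submodule R M)) := by
      apply Submodule.Quotient.nontrivial_iff.mpr
      exact (Submodule.top_ne_ideal_smul_of_le_jacobson_annihilator
        (hasle.trans (maximalIdeal_le_jacobson _))).symm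
    have hA : a0 ∉ Ideal.ofList as ⊔ Module.annihilator R M := by
      intro h
      obtain ⟨y, hy⟩ := exists_ne (0 : M ⧸ (Ideal.ofList as • ⊤ : Submodule R M))
      apply hy
      apply hN
      show a0 • y = a0 • 0
      rw [kills a0 h y, smul_zero]
    have hJK' : Module.annihilator R M ≤
        maximalIdeal R • Ideal.span {a0} ⊔ (Ideal.ofList as ⊔ Module.annihilator R M) :=
      le_sup_right.trans le_sup_right
    have hB : ∃ bj ∈ lb, bj ∉
        maximalIdeal R • Ideal.span {a0} ⊔ (Ideal.ofList as ⊔ Module.annihilator R M) := by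
      by_contra hcon
      push Not at hcon
      have h1 : Ideal.ofList lb ≤
          maximalIdeal R • Ideal.span {a0} ⊔ (Ideal.ofList as ⊔ Module.annihilator R M) :=
        Ideal.span_le.mpr fun r hr => hcon r hr
      have h2 : a0 ∈
          maximalIdeal R • Ideal.span {a0} ⊔ (Ideal.ofList as ⊔ Module.annihilator R M) := by
        have h3 : a0 ∈ Ideal.ofList (a0 :: as) ⊔ Module.annihilator R M :=
          Ideal.mem_sup_left (Ideal.subset_span List.mem_cons_self)
        rw [hI] at h3
        exact (sup_le h1 hJK') h3
      obtain ⟨x, hx, w, hw, hxw⟩ := Submodule.mem_sup.mp h2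
      obtain ⟨μ, hμ, rfl⟩ := Submodule.mem_smul_span_singleton.mp hx
      obtain ⟨u, hu⟩ := IsLocalRing.isUnit_one_sub_self_of_mem_nonunits μ
        ((IsLocalRing.mem_maximalIdeal μ).mp hμ)
      apply hA
      have h4 : (1 - μ) * a0 = w := by
        rw [smul_eq_mul] at hxw
        linear_combination -hxw
      have h5 : a0 = ↑u⁻¹ * w := by
        rw [← h4, ← hu, ← mul_assoc, Units.inv_mul, one_mul]
      rw [h5]
      exact Ideal.mul_mem_left _ _ hw
    obtain ⟨bj, hbj, hbjK'⟩ := hB
    have h3 : bj ∈ Ideal.span {a0} ⊔ (Ideal.ofList as ⊔ Module.annihilator R M) := by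
      have h4 : bj ∈ Ideal.ofList lb ⊔ Module.annihilator R M :=
        Ideal.mem_sup_left (Ideal.subset_span hbj)
      rw [← hI, Ideal.ofList_cons, sup_assoc] at h4
      exact h4
    obtain ⟨x, hx, w, hw, hxw⟩ := Submodule.mem_sup.mp h3
    obtain ⟨t, rfl⟩ := Ideal.mem_span_singleton'.mp hx
    have ht : IsUnit t := by
      by_contra hnu
      apply hbjK'
      rw [← hxw]
      exact Ideal.add_mem _ (Ideal.mem_sup_left (Submodule.smul_mem_smul
        ((IsLocalRing.mem_maximalIdeal t).mpr hnu) (Ideal.mem_span_singleton_self a0)))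
        (Ideal.mem_sup_right hw)
    have hNbj : IsSMulRegular (M ⧸ (Ideal.ofList as • ⊤ : Submodule R M)) bj := by
      have h4 : IsSMulRegular (M ⧸ (Ideal.ofList as • ⊤ : Submodule R M)) (t * a0) :=
        (ht.isSMulRegular _).mul hN
      have h5 : (fun y : M ⧸ (Ideal.ofList as • ⊤ : Submodule R M) => bj • y) =
          fun y => (t * a0) • y := by
        funext y
        rw [← hxw, add_smul, kills w hw y, add_zero]
      unfold IsSMulRegular
      rw [h5]
      exact h4
    have hbjm : bj ∈ maximalIdeal R := by
      rw [← hxw]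
      exact Ideal.add_mem _ (Ideal.mul_mem_left _ _ ha0m) (hKm hw)
    have hreg2 : IsWeaklyRegular M (as ++ [bj]) := by
      rw [isWeaklyRegular_append_iff, isWeaklyRegular_singleton_iff]
      exact ⟨hwas, hNbj⟩
    have hreg3 : IsWeaklyRegular M (bj :: as) :=
      IsLocalRing.isWeaklyRegular_of_perm_of_subset_maximalIdeal hreg2
        (List.perm_append_singleton bj as) (by
          intro r hr
          rcases List.mem_append.mp hr with h | h
          · exact hasm r h
          · rw [List.mem_singleton.mp h]; exact hbjm)
    rw [isWeaklyRegular_cons_iff] at hreg3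
    obtain ⟨hbjreg, hregQ⟩ := hreg3
    have : Nontrivial (QuotSMulTop bj M) := nontrivial_quotSMulTop_of_mem_maximalIdeal M hbjm
    have hJJ' : Module.annihilator R M ≤ Module.annihilator R (QuotSMulTop bj M) :=
      LinearMap.annihilator_le_of_surjective _ (Submodule.mkQ_surjective _)
    have hbjJ' : bj ∈ Module.annihilator R (QuotSMulTop bj M) := QuotSMulTop.mem_annihilator M bj
    have hbjle : Ideal.span {bj} ≤ Module.annihilator R (QuotSMulTop bj M) :=
      (Ideal.span_singleton_le_iff_mem _).mpr hbjJ'
    have hlbperm : lb.Perm (bj :: lb.erase bj) := List.perm_cons_erase hbj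
    have hlb_of : Ideal.ofList lb = Ideal.span {bj} ⊔ Ideal.ofList (lb.erase bj) := by
      rw [← Ideal.ofList_cons]
      exact congrArg Ideal.span (Set.ext fun _ => hlbperm.mem_iff)
    have ha0mem : a0 ∈ Ideal.span {bj} ⊔ (Ideal.ofList as ⊔ Module.annihilator R M) := by
      obtain ⟨u, rfl⟩ := ht
      have h4 : a0 = ↑u⁻¹ * (bj - w) := by
        rw [← hxw, add_sub_cancel_right, ← mul_assoc, Units.inv_mul, one_mul]
      rw [h4]
      exact Ideal.mul_mem_left _ _ (Ideal.sub_mem _
        (Ideal.mem_sup_left (Ideal.mem_span_singleton_self bj)) (Ideal.mem_sup_right hw))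
    have hI' : Ideal.ofList as ⊔ Module.annihilator R (QuotSMulTop bj M) =
        Ideal.ofList (lb.erase bj) ⊔ Module.annihilator R (QuotSMulTop bj M) := by
      apply le_antisymm
      · refine sup_le ?_ le_sup_right
        calc Ideal.ofList as ≤ Ideal.ofList (a0 :: as) ⊔ Module.annihilator R M :=
              le_sup_of_le_left (by rw [Ideal.ofList_cons]; exact le_sup_right)
          _ = Ideal.ofList lb ⊔ Module.annihilator R M := hI
          _ ≤ Ideal.ofList (lb.erase bj) ⊔ Module.annihilator R (QuotSMulTop bj M) := by
              rw [hlb_of]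
              exact sup_le (sup_le (hbjle.trans le_sup_right) le_sup_left)
                (hJJ'.trans le_sup_right)
      · refine sup_le ?_ le_sup_right
        calc Ideal.ofList (lb.erase bj) ≤ Ideal.ofList lb ⊔ Module.annihilator R M :=
              le_sup_of_le_left (by rw [hlb_of]; exact le_sup_right)
          _ = Ideal.ofList (a0 :: as) ⊔ Module.annihilator R M := hI.symm
          _ ≤ Ideal.ofList as ⊔ Module.annihilator R (QuotSMulTop bj M) := by
              rw [Ideal.ofList_cons]
              refine sup_le (sup_le ?_ le_sup_left) (hJJ'.trans le_sup_right)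
              rw [Ideal.span_singleton_le_iff_mem]
              exact (sup_le (hbjle.trans le_sup_right)
                (sup_le le_sup_left (hJJ'.trans le_sup_right))) ha0mem
    have hlen : (lb.erase bj).length = n := by
      rw [List.length_erase_of_mem hbj, hlb]; rfl
    have hIH := ih (QuotSMulTop bj M) as (lb.erase bj) hlas hlen hasm hregQ hI'
    have hreg4 : IsWeaklyRegular M (bj :: lb.erase bj) := by
      rw [isWeaklyRegular_cons_iff]; exact ⟨hbjreg, hIH⟩
    have hlbm : ∀ r ∈ lb, r ∈ maximalIdeal R := by
      intro r hr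
      have h4 : r ∈ Ideal.ofList lb ⊔ Module.annihilator R M :=
        Ideal.mem_sup_left (Ideal.subset_span hr)
      rw [← hI] at h4
      exact (sup_le (Ideal.span_le.mpr fun x hx => hm x hx) hJm) h4
    exact IsLocalRing.isWeaklyRegular_of_perm_of_subset_maximalIdeal hreg4 hlbperm.symm
      (fun r hr => hlbm r (hlbperm.symm.subset hr))

/-- In a Noetherian local ring, any minimal generating set of an ideal generated by a regular sequence
is again a regular sequence: if a₁, …, aₙ is a regular sequence and b₁, …, bₙ are n elements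
generating the same ideal, then b₁, …, bₙ is a regular sequence. (A regular sequence of length n
generating an ideal I is a minimal generating set of I, so "minimal" amounts to "of length n".) -/
theorem result {A : Type u} [CommRing A] [IsLocalRing A] [IsNoetherianRing A]
    {n : ℕ} (a b : Fin n → A) (ha : RingTheory.Sequence.IsRegular A (List.ofFn a))
    (hab : Ideal.span (Set.range a) = Ideal.span (Set.range b)) :
    RingTheory.Sequence.IsRegular A (List.ofFn b) := by
  have hset : ∀ c : Fin n → A, Ideal.ofList (List.ofFn c) = Ideal.span (Set.range c) := by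
    intro c
    exact congrArg Ideal.span (Set.ext fun x => by simp [List.mem_ofFn])
  have hne : Ideal.ofList (List.ofFn a) ≠ ⊤ := by
    intro h
    apply ha.top_ne_smul
    rw [h, Submodule.top_smul]
  have ham : ∀ r ∈ List.ofFn a, r ∈ IsLocalRing.maximalIdeal A := fun r hr =>
    IsLocalRing.le_maximalIdeal hne (Ideal.subset_span hr)
  have hI : Ideal.ofList (List.ofFn a) ⊔ Module.annihilator A A =
      Ideal.ofList (List.ofFn b) ⊔ Module.annihilator A A := by
    rw [hset, hset, hab]
  have hw := key n A (List.ofFn a) (List.ofFn b) (List.length_ofFn ..) (List.length_ofFn ..) ham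
    ha.toIsWeaklyRegular hI
  refine RingTheory.Sequence.IsRegular.of_isWeaklyRegular_of_mem_maximalIdeal A ?_ hw
  intro r hr
  have h1 : r ∈ Ideal.ofList (List.ofFn a) := by
    rw [hset, hab, ← hset]; exact Ideal.subset_span hr
  exact IsLocalRing.le_maximalIdeal hne h1

end Groth.Agent.S0611
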