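import Groth.Statements.S0615
import Mathlib.Tactic.LinearCombination
-- import your own Groth.Agent.* helpers here

set_option autoImplicit false
universe u
open RRAlg

namespace Groth.Agent.S0615

open MvPolynomial

theorem mem_map_C_of_C_mul_mem {A : Type u} [CommRing A] {n : ℕ} (𝔟 : Ideal A) (c : A)
    (hc : ∀ x, c * x ∈ 𝔟 → x ∈ 𝔟) (m : MvPolynomial (Fin n) A)
    (h : C c * m ∈ Ideal.map (C : A →+* MvPolynomial (Fin n) A) 𝔟) :
    m ∈ Ideal.map (C : A →+* MvPolynomial (Fin n) A) 𝔟 := by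
  rw [MvPolynomial.mem_map_C_iff] at h ⊢
  intro μ
  have h1 := h μ
  rw [MvPolynomial.coeff_C_mul] at h1
  exact hc _ h1

theorem reg_of_isWeaklyRegular {A : Type u} [CommRing A] {n : ℕ} (a : Fin (n + 1) → A)
    (ha : RingTheory.Sequence.IsWeaklyRegular A (List.ofFn a)) (k : Fin (n + 1)) (x : A)
    (hx : a k * x ∈ Ideal.span (a '' {j : Fin (n + 1) | j.val < k.val})) :
    x ∈ Ideal.span (a '' {j : Fin (n + 1) | j.val < k.val}) := by
  have hlen : k.val < (List.ofFn a).length := by rw [List.length_ofFn]; exact k.isLt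
  have h := ha.regular_mod_prev k.val hlen
  have hget : (List.ofFn a)[k.val] = a k := by rw [List.getElem_ofFn]
  have hset : {r | r ∈ (List.ofFn a).take k.val} = a '' {j : Fin (n + 1) | j.val < k.val} := by
    ext r
    simp only [Set.mem_ofPred_eq, Set.mem_image, List.mem_take_iff_getElem]
    constructor
    · rintro ⟨i, hi, rfl⟩
      have hi1 : i < k.val := lt_of_lt_of_le hi (min_le_left _ _)
      have hi2 : i < n + 1 := lt_trans hi1 k.isLt
      exact ⟨⟨i, hi2⟩, hi1, by rw [List.getElem_ofFn]⟩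
    · rintro ⟨j, hj, rfl⟩
      refine ⟨j.val, ?_, by rw [List.getElem_ofFn]⟩
      simp only [List.length_ofFn, lt_min_iff]
      exact ⟨hj, j.isLt⟩
  have hideal : (Ideal.ofList ((List.ofFn a).take k.val) • ⊤ : Submodule A A)
      = Ideal.span (a '' {j : Fin (n + 1) | j.val < k.val}) := by
    rw [← hset]
    show Ideal.ofList ((List.ofFn a).take k.val) * ⊤ = _
    rw [Ideal.mul_top]
  rw [hget] at h
  have h0 : a k • (Submodule.Quotient.mk x :
      A ⧸ (Ideal.ofList ((List.ofFn a).take k.val) • ⊤ : Submodule A A)) = a k • 0 := by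
    rw [smul_zero, ← Submodule.Quotient.mk_smul, Submodule.Quotient.mk_eq_zero, hideal]
    exact hx
  have h1 := h h0
  rwa [Submodule.Quotient.mk_eq_zero, hideal] at h1

/-- Let A be a commutative ring and a_0, a_1, …, a_n a weakly regular sequence in A (for each i, a_i is
a non-zero-divisor on A/(a_0, …, a_{i−1}); the sequence is indexed here by Fin (n+1)). Then the
kernel of the A-algebra homomorphism A[T_1, …, T_n] → A[1/a_0] sending T_i to a_i/a_0 is the ideal
generated by the elements a_0 T_i − a_i for 1 ≤ i ≤ n (a presentation of the affine blow-up algebra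
A[a_1/a_0, …, a_n/a_0]). -/
theorem result {A : Type u} [CommRing A] {n : ℕ}
    (a : Fin (n + 1) → A) (ha : RingTheory.Sequence.IsWeaklyRegular A (List.ofFn a)) :
    RingHom.ker (MvPolynomial.aeval (R := A) (S₁ := Localization.Away (a 0))
      (fun i : Fin n => IsLocalization.mk' (Localization.Away (a 0)) (a i.succ)
        (⟨a 0, Submonoid.mem_powers (a 0)⟩ : Submonoid.powers (a 0)))) =
      Ideal.span (Set.range fun i : Fin n =>
        MvPolynomial.C (a 0) * MvPolynomial.X i - MvPolynomial.C (a i.succ)) := by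
  classical
  set φ := MvPolynomial.aeval (R := A) (S₁ := Localization.Away (a 0))
      (fun i : Fin n => IsLocalization.mk' (Localization.Away (a 0)) (a i.succ)
        (⟨a 0, Submonoid.mem_powers (a 0)⟩ : Submonoid.powers (a 0))) with hφ
  set y : Fin n → MvPolynomial (Fin n) A := fun i => C (a 0) * X i - C (a i.succ) with hy
  have hyi : ∀ i, y i = C (a 0) * X i - C (a i.succ) := fun i => rfl
  let 𝔞 : ℕ → Ideal A := fun k => Ideal.span (a '' {j : Fin (n + 1) | j.val < k})
  let J : ℕ → Ideal (MvPolynomial (Fin n) A) :=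
    fun k => Ideal.span (y '' {i : Fin n | i.val < k})
  have Hreg : ∀ (k : Fin (n + 1)) (x : A), a k * x ∈ 𝔞 k.val → x ∈ 𝔞 k.val :=
    fun k x hx => reg_of_isWeaklyRegular a ha k x hx
  have h𝔞0 : 𝔞 0 = ⊥ := by simp [𝔞]
  have hJ0 : J 0 = ⊥ := by simp [J]
  have hJn : J n = Ideal.span (Set.range y) := by
    show Ideal.span (y '' {i : Fin n | i.val < n}) = _
    have : {i : Fin n | i.val < n} = Set.univ := by
      ext i; simp
    rw [this, Set.image_univ]
  have hJsucc : ∀ k (hk : k < n), J (k + 1) = J k ⊔ Ideal.span {y ⟨k, hk⟩} := by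
    intro k hk
    show Ideal.span (y '' {i : Fin n | i.val < k + 1}) =
      Ideal.span (y '' {i : Fin n | i.val < k}) ⊔ Ideal.span {y ⟨k, hk⟩}
    have : {i : Fin n | i.val < k + 1} = {i : Fin n | i.val < k} ∪ {⟨k, hk⟩} := by
      ext i
      simp only [Set.mem_ofPred_eq, Set.mem_union, Set.mem_singleton_iff, Fin.ext_iff]
      omega
    rw [this, Set.image_union, Set.image_singleton, Ideal.span_union]
  have hCa0 : ∀ k, C (a 0) ∈ Ideal.map (C : A →+* MvPolynomial (Fin n) A) (𝔞 (k + 1)) := by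
    intro k
    refine Ideal.mem_map_of_mem C (Ideal.subset_span ⟨0, ?_, rfl⟩)
    simp
  have hI_le : ∀ k, Ideal.span {C (a 0)} ⊔ J k ≤
      Ideal.map (C : A →+* MvPolynomial (Fin n) A) (𝔞 (k + 1)) := by
    intro k
    refine sup_le ?_ ?_
    · rw [Ideal.span_le]
      rintro _ rfl
      exact hCa0 k
    · rw [Ideal.span_le]
      rintro _ ⟨i, hi, rfl⟩
      rw [SetLike.mem_coe, hyi]
      refine Ideal.sub_mem _ (Ideal.mul_mem_right _ _ (hCa0 k))
        (Ideal.mem_map_of_mem C (Ideal.subset_span ⟨i.succ, ?_, rfl⟩))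
      simp only [Set.mem_ofPred_eq, Fin.val_succ] at hi ⊢
      omega
  have hI_ge : ∀ k, Ideal.map (C : A →+* MvPolynomial (Fin n) A) (𝔞 (k + 1)) ≤
      Ideal.span {C (a 0)} ⊔ J k := by
    intro k
    rw [Ideal.map_span, Ideal.span_le]
    rintro _ ⟨_, ⟨j, hj, rfl⟩, rfl⟩
    rw [SetLike.mem_coe]
    induction j using Fin.cases with
    | zero => exact Ideal.mem_sup_left (Ideal.subset_span rfl)
    | succ i =>
      have e : C (a i.succ) = C (a 0) * X i - y i := by rw [hyi]; ring
      rw [e]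
      refine Ideal.sub_mem _
        (Ideal.mem_sup_left (Ideal.mul_mem_right _ _ (Ideal.subset_span rfl)))
        (Ideal.mem_sup_right (Ideal.subset_span ⟨i, ?_, rfl⟩))
      simp only [Set.mem_ofPred_eq, Fin.val_succ] at hj ⊢
      omega
  -- `C (a 0)` is a nonzerodivisor modulo `J k`
  have Q : ∀ k, k ≤ n → ∀ p, C (a 0) * p ∈ J k → p ∈ J k := by
    intro k
    induction k with
    | zero =>
      intro _ p hp
      rw [hJ0, Ideal.mem_bot] at hp ⊢
      ext μ
      have h1 := congrArg (coeff μ) hp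
      rw [coeff_C_mul, coeff_zero] at h1
      have h2 := Hreg 0 (coeff μ p) (by
        show a 0 * coeff μ p ∈ 𝔞 0
        rw [h1]; exact Ideal.zero_mem _)
      have h3 : coeff μ p ∈ 𝔞 0 := h2
      rw [h𝔞0, Ideal.mem_bot] at h3
      rw [h3, coeff_zero]
    | succ k ih =>
      intro hk1 p hp
      have hk : k < n := by omega
      rw [hJsucc k hk] at hp ⊢
      obtain ⟨j, hj, z, hz, hjz⟩ := Submodule.mem_sup.1 hp
      obtain ⟨m, rfl⟩ := Ideal.mem_span_singleton'.1 hz
      have h1 : m * y ⟨k, hk⟩ ∈ Ideal.map (C : A →+* MvPolynomial (Fin n) A) (𝔞 (k + 1)) := by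
        have e : m * y ⟨k, hk⟩ = C (a 0) * p - j := by rw [← hjz]; ring
        rw [e]
        exact hI_le k (Ideal.sub_mem _
          (Ideal.mem_sup_left (Ideal.mul_mem_right _ _ (Ideal.subset_span rfl)))
          (Ideal.mem_sup_right hj))
      have h2 : C (a (⟨k, hk⟩ : Fin n).succ) * m ∈
          Ideal.map (C : A →+* MvPolynomial (Fin n) A) (𝔞 (k + 1)) := by
        have e : C (a (⟨k, hk⟩ : Fin n).succ) * m =
            C (a 0) * (m * X ⟨k, hk⟩) - m * y ⟨k, hk⟩ := by rw [hyi]; ring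
        rw [e]
        exact Ideal.sub_mem _ (Ideal.mul_mem_right _ _ (hCa0 k)) h1
      have h3 : m ∈ Ideal.map (C : A →+* MvPolynomial (Fin n) A) (𝔞 (k + 1)) :=
        mem_map_C_of_C_mul_mem (𝔞 (k + 1)) (a (⟨k, hk⟩ : Fin n).succ)
          (Hreg (⟨k, hk⟩ : Fin n).succ) m h2
      have h4 := hI_ge k h3
      obtain ⟨z', hz', j', hj', hm⟩ := Submodule.mem_sup.1 h4
      obtain ⟨m', rfl⟩ := Ideal.mem_span_singleton'.1 hz'
      subst hm
      have h5 : C (a 0) * (p - m' * y ⟨k, hk⟩) ∈ J k := by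
        have e : C (a 0) * (p - m' * y ⟨k, hk⟩) = j + j' * y ⟨k, hk⟩ := by
          linear_combination -hjz
        rw [e]
        exact Ideal.add_mem _ hj (Ideal.mul_mem_right _ _ hj')
      have h6 := ih (by omega) _ h5
      have e : p = (p - m' * y ⟨k, hk⟩) + m' * y ⟨k, hk⟩ := by ring
      rw [e]
      exact Ideal.add_mem _ (Ideal.mem_sup_left h6)
        (Ideal.mem_sup_right (Ideal.mem_span_singleton'.2 ⟨m', rfl⟩))
  have hQn : ∀ p, C (a 0) * p ∈ Ideal.span (Set.range y) → p ∈ Ideal.span (Set.range y) := by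
    have h := Q n le_rfl
    rw [hJn] at h
    exact h
  have hcancel : ∀ N (p : MvPolynomial (Fin n) A),
      C (a 0) ^ N * p ∈ Ideal.span (Set.range y) → p ∈ Ideal.span (Set.range y) := by
    intro N
    induction N with
    | zero => intro p h; simpa using h
    | succ N ih =>
      intro p h
      rw [pow_succ, mul_assoc] at h
      exact hQn p (ih _ h)
  -- reduction to constants
  have hred : ∀ p : MvPolynomial (Fin n) A, ∃ (d : ℕ) (q : A),
      C (a 0) ^ d * p - C q ∈ Ideal.span (Set.range y) := by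
    intro p
    induction p using MvPolynomial.induction_on with
    | C c => exact ⟨0, c, by simp⟩
    | add p q hp hq =>
      obtain ⟨d1, q1, h1⟩ := hp
      obtain ⟨d2, q2, h2⟩ := hq
      refine ⟨d1 + d2, a 0 ^ d2 * q1 + a 0 ^ d1 * q2, ?_⟩
      have e : C (a 0) ^ (d1 + d2) * (p + q) - C (a 0 ^ d2 * q1 + a 0 ^ d1 * q2) =
          C (a 0) ^ d2 * (C (a 0) ^ d1 * p - C q1) + C (a 0) ^ d1 * (C (a 0) ^ d2 * q - C q2) := by
        simp only [map_add, map_mul, map_pow]; ring
      rw [e]
      exact Ideal.add_mem _ (Ideal.mul_mem_left _ _ h1) (Ideal.mul_mem_left _ _ h2)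
    | mul_X p i hp =>
      obtain ⟨d, q, h⟩ := hp
      refine ⟨d + 1, q * a i.succ, ?_⟩
      have e : C (a 0) ^ (d + 1) * (p * X i) - C (q * a i.succ) =
          (C (a 0) ^ d * p - C q) * (C (a 0) * X i) + C q * y i := by
        rw [hyi]; simp only [map_mul]; ring
      rw [e]
      exact Ideal.add_mem _ (Ideal.mul_mem_right _ _ h)
        (Ideal.mul_mem_left _ _ (Ideal.subset_span ⟨i, rfl⟩))
  have hφX : ∀ i, φ (X i) = IsLocalization.mk' (Localization.Away (a 0)) (a i.succ)
      (⟨a 0, Submonoid.mem_powers (a 0)⟩ : Submonoid.powers (a 0)) := fun i => by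
    rw [hφ, aeval_X]
  have hφC : ∀ c, φ (C c) = algebraMap A (Localization.Away (a 0)) c := fun c => by
    rw [hφ, aeval_C]
  have hφy : ∀ i, φ (y i) = 0 := by
    intro i
    rw [hyi, map_sub, map_mul, hφX, hφC, hφC, IsLocalization.mk'_spec'_mk, sub_self]
  have hJker : Ideal.span (Set.range y) ≤ RingHom.ker φ := by
    rw [Ideal.span_le]
    rintro _ ⟨i, rfl⟩
    rw [SetLike.mem_coe, RingHom.mem_ker]
    exact hφy i
  apply le_antisymm
  · intro p hp
    rw [RingHom.mem_ker] at hp
    obtain ⟨d, q, hdq⟩ := hred p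
    have h1 : φ (C q) = 0 := by
      have h := (RingHom.mem_ker).1 (hJker hdq)
      rw [map_sub, map_mul, hp, mul_zero, zero_sub, neg_eq_zero] at h
      exact h
    rw [hφC] at h1
    obtain ⟨⟨s, hs⟩, hsq⟩ := (IsLocalization.map_eq_zero_iff (Submonoid.powers (a 0))
      (Localization.Away (a 0)) q).1 h1
    obtain ⟨k, rfl⟩ := (Submonoid.mem_powers_iff _ _).1 hs
    have hsq' : a 0 ^ k * q = 0 := hsq
    have h2 : C (a 0) ^ (k + d) * p ∈ Ideal.span (Set.range y) := by
      have e : C (a 0) ^ (k + d) * p =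
          C (a 0) ^ k * (C (a 0) ^ d * p - C q) + C (a 0 ^ k * q) := by
        simp only [map_mul, map_pow]; ring
      rw [e, hsq', map_zero, add_zero]
      exact Ideal.mul_mem_left _ _ hdq
    exact hcancel _ p h2
  · exact hJker

end Groth.Agent.S0615
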