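import Groth.Statements.S0624
import Mathlib
import Groth.Agent.S0090
import Groth.Agent.S9436
import Groth.Agent.H68.StrictHens
import Groth.Agent.H68.SplitEtale

set_option autoImplicit false
open CategoryTheory CategoryTheory.Limits AlgebraicGeometry Opposite
universe u
open EtCore

namespace Groth.Agent.S0624
open TensorProduct


/-- Let X be an affine, integral and normal scheme with separably closed function field, Z -> X a closed
immersion and V -> Z etale with V affine. Then V splits, over Z, as the disjoint union of finitely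
many open subschemes of Z. -/
theorem result {V Z X : Scheme.{u}} [IsAffine X] [IsIntegral X]
    (hN : ∀ x : X, IsIntegrallyClosed (X.presheaf.stalk x)) [IsSepClosed X.functionField]
    (i : Z ⟶ X) [IsClosedImmersion i] (φ : V ⟶ Z) [AlgebraicGeometry.Etale φ] [IsAffine V] :
    ∃ (ι : Type u) (_ : Finite ι) (W : ι → Z.Opens) (e : (∐ fun k => (W k : Scheme.{u})) ≅ V),
      ∀ k, Sigma.ι (fun k => (W k : Scheme.{u})) k ≫ e.hom ≫ φ = (W k).ι := by
  have hsh := fun x : X => Groth.Agent.S0090.result X hN x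
  have hH : ∀ x : X, HenselianLocalRing (X.presheaf.stalk x) := fun x => (hsh x).choose
  have hS : ∀ x : X, IsSepClosed (IsLocalRing.ResidueField (X.presheaf.stalk x)) :=
    fun x => (hsh x).choose_spec
  obtain ⟨hZaff, hρsurj⟩ := IsClosedImmersion.isAffine_surjective_of_isAffine i
  haveI := hZaff
  let ρ : Γ(X, ⊤) ⟶ Γ(Z, ⊤) := i.appTop
  let ψ : Γ(Z, ⊤) ⟶ Γ(V, ⊤) := φ.appTop
  have hψ : ψ.hom.Etale := (HasRingHomProperty.iff_of_isAffine (P := @Etale)).mp ‹Etale φ›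
  let I : Ideal Γ(X, ⊤) := RingHom.ker ρ.hom
  let q : Γ(X, ⊤) ⧸ I ≃+* Γ(Z, ⊤) := RingHom.quotientKerEquivOfSurjective hρsurj
  letI : Algebra (Γ(X, ⊤) ⧸ I) Γ(V, ⊤) := (ψ.hom.comp q.toRingHom).toAlgebra
  haveI : Algebra.Etale (Γ(X, ⊤) ⧸ I) Γ(V, ⊤) := RingHom.Etale.respectsIso.2 ψ.hom q hψ
  obtain ⟨S, instS, instAS, hSet, ⟨θ⟩⟩ := Groth.Agent.S9436.result Γ(X, ⊤) I Γ(V, ⊤)
  let α : Γ(X, ⊤) ⟶ CommRingCat.of S := CommRingCat.ofHom (algebraMap Γ(X, ⊤) S)
  let β : CommRingCat.of S ⟶ Γ(V, ⊤) := CommRingCat.ofHom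
    (θ.toRingEquiv.toRingHom.comp Algebra.TensorProduct.includeRight.toRingHom)
  have hpo : IsPushout ρ α ψ β := by
    refine (CommRingCat.isPushout_tensorProduct Γ(X, ⊤) (Γ(X, ⊤) ⧸ I) S).of_iso (Iso.refl _)
      q.toCommRingCatIso (Iso.refl _) θ.toRingEquiv.toCommRingCatIso ?_ ?_ ?_ ?_
    · ext a
      rfl
    · rfl
    · ext x
      change θ ((Ideal.Quotient.mk I x) ⊗ₜ[Γ(X, ⊤)] (1 : S)) = ψ.hom (q (Ideal.Quotient.mk I x))
      have : (Ideal.Quotient.mk I x) ⊗ₜ[Γ(X, ⊤)] (1 : S) =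
          algebraMap (Γ(X, ⊤) ⧸ I) ((Γ(X, ⊤) ⧸ I) ⊗[Γ(X, ⊤)] S) (Ideal.Quotient.mk I x) := by
        rw [Algebra.TensorProduct.algebraMap_apply]
        rfl
      rw [this, θ.commutes]
      rfl
    · rfl
  have hpbSpec : IsPullback (Spec.map ψ) (Spec.map β) (Spec.map ρ) (Spec.map α) :=
    isPullback_SpecMap_of_isPushout ρ α ψ β hpo
  let g : Spec (.of S) ⟶ X := Spec.map α ≫ X.isoSpec.inv
  let j : V ⟶ Spec (.of S) := V.isoSpec.hom ≫ Spec.map β
  have hpb : IsPullback φ j i g := by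
    refine hpbSpec.of_iso V.isoSpec.symm Z.isoSpec.symm (Iso.refl _) X.isoSpec.symm ?_ ?_ ?_ ?_
    · exact Scheme.isoSpec_inv_naturality φ
    · simp [j]
    · exact Scheme.isoSpec_inv_naturality i
    · simp [g]
  haveI : Etale (Spec.map α) :=
    (HasRingHomProperty.Spec_iff (P := @Etale)).mpr (RingHom.etale_algebraMap.mpr hSet)
  haveI : Etale g := inferInstance
  haveI : IsSeparated g := inferInstance
  obtain ⟨I₀, T, hcov, hdisj, hOI⟩ := Groth.Agent.H68.SplitEtale.split_cover g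
    (Groth.Agent.H68.StrictHens.exists_local_section g hH hS)
  exact Groth.Agent.H68.SplitEtale.pullback_cover hpb T hcov hdisj hOI

end Groth.Agent.S0624
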