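import Groth.Statements.S0625
import Mathlib
import Groth.Agent.S0624

set_option autoImplicit false
open CategoryTheory CategoryTheory.Limits AlgebraicGeometry Opposite
universe u
open EtCore

namespace Groth.Agent.S0625
open TopologicalSpace


/-- Let X be an affine integral normal scheme whose function field is separably closed and Z -> X a
closed immersion. Every surjective finite etale morphism V -> Z has a section. -/
theorem result {V Z X : Scheme.{u}} [IsAffine X] [IsIntegral X]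
    (hN : ∀ x : X, IsIntegrallyClosed (X.presheaf.stalk x)) [IsSepClosed X.functionField]
    (i : Z ⟶ X) [IsClosedImmersion i] (φ : V ⟶ Z) [AlgebraicGeometry.Etale φ] [IsFinite φ] [Surjective φ] :
    ∃ s : Z ⟶ V, s ≫ φ = 𝟙 Z := by
  haveI : IsAffine Z := (IsClosedImmersion.isAffine_surjective_of_isAffine i).1
  haveI : IsAffine V := isAffine_of_isAffineHom φ
  obtain ⟨ι, hfin, W, e, he⟩ := Groth.Agent.S0624.result hN i φ
  let f : ι → Scheme.{u} := fun k => (W k : Scheme.{u})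
  let r : ∀ k, (W k).toScheme ⟶ V := fun k => Sigma.ι f k ≫ e.hom
  have hr : ∀ k, r k ≫ φ = (W k).ι := fun k => by
    simp only [r, Category.assoc]
    exact he k
  -- ranges of r k are closed and cover
  have hrange : ∀ k, Set.range (Sigma.ι f k) = sigmaMk f '' Set.range (Sigma.mk k) := by
    intro k
    ext x
    constructor
    · rintro ⟨y, rfl⟩
      exact ⟨⟨k, y⟩, ⟨y, rfl⟩, sigmaMk_mk f k y⟩
    · rintro ⟨_, ⟨y, rfl⟩, rfl⟩
      exact ⟨y, (sigmaMk_mk f k y).symm⟩
  have hclosed1 : ∀ k, IsClosed (Set.range (Sigma.ι f k)) := by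
    intro k
    rw [hrange]
    exact (sigmaMk f).isClosedMap _ isClosed_range_sigmaMk
  have hWclosed : ∀ k, IsClosed (W k : Set Z) := by
    intro k
    have h1 : (W k : Set Z) = φ '' (e.hom '' Set.range (Sigma.ι f k)) := by
      rw [← (W k).range_ι, ← hr k]
      ext z
      constructor
      · rintro ⟨y, rfl⟩
        exact ⟨_, ⟨_, ⟨y, rfl⟩, rfl⟩, rfl⟩
      · rintro ⟨_, ⟨_, ⟨y, rfl⟩, rfl⟩, rfl⟩
        exact ⟨y, rfl⟩
    rw [h1]
    exact φ.isClosedMap _ (e.hom.isClosedMap _ (hclosed1 k))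
  have hWcover : ∀ z : Z, ∃ k, z ∈ W k := by
    intro z
    obtain ⟨v, rfl⟩ := φ.surjective z
    obtain ⟨w, rfl⟩ := (e.hom.homeomorph).surjective v
    obtain ⟨⟨k, y⟩, rfl⟩ := (sigmaMk f).surjective w
    refine ⟨k, ?_⟩
    have : φ (e.hom.homeomorph (sigmaMk f ⟨k, y⟩)) = (W k).ι y := by
      rw [← hr k, sigmaMk_mk]
      rfl
    rw [this]
    exact y.2
  -- the partition
  let rel : ι → ι → Prop := WellOrderingRel
  have hZ'open : ∀ k, IsOpen ((W k : Set Z) \ ⋃ k' : {k' // rel k' k}, (W k'.1 : Set Z)) := by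
    intro k
    exact (W k).2.sdiff (isClosed_iUnion_of_finite fun k' => hWclosed k'.1)
  let Z' : ι → Z.Opens := fun k =>
    ⟨(W k : Set Z) \ ⋃ k' : {k' // rel k' k}, (W k'.1 : Set Z), hZ'open k⟩
  have hle : ∀ k, Z' k ≤ W k := fun k z hz => hz.1
  have hcov : ⨆ k, (Z' k).ι.opensRange = ⊤ := by
    simp only [Scheme.Opens.opensRange_ι]
    refine eq_top_iff.mpr fun z _ => ?_
    obtain ⟨m, hm, hmin⟩ := (IsWellFounded.wf : WellFounded rel).has_min {k | z ∈ W k} (hWcover z)
    refine Opens.mem_iSup.mpr ⟨m, hm, ?_⟩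
    rintro ⟨_, ⟨⟨k', hk'⟩, rfl⟩, hz⟩
    exact hmin k' hz hk'
  have hdisj : Pairwise (Function.onFun Disjoint fun k => (Z' k).ι.opensRange) := by
    intro k k' hne
    simp only [Function.onFun, Scheme.Opens.opensRange_ι]
    rw [disjoint_iff_inf_le]
    rintro z ⟨h1, h2⟩
    rcases trichotomous_of rel k k' with h | h | h
    · exact h2.2 (Set.mem_iUnion.mpr ⟨⟨k, h⟩, h1.1⟩)
    · exact hne h
    · exact h1.2 (Set.mem_iUnion.mpr ⟨⟨k', h⟩, h2.1⟩)
  obtain ⟨hc⟩ := nonempty_isColimit_cofanMk_of (fun k => (Z' k).ι) hcov hdisj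
  refine ⟨Cofan.IsColimit.desc hc (fun k => Z.homOfLE (hle k) ≫ r k), ?_⟩
  refine Cofan.IsColimit.hom_ext hc _ _ (fun k => ?_)
  rw [Cofan.IsColimit.fac_assoc, Category.assoc, hr k, Scheme.homOfLE_ι]
  exact (Category.comp_id _).symm

end Groth.Agent.S0625
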