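import Groth.Statements.S0628
import Mathlib
import Groth.Agent.H4.SepClosedPush
import Groth.Agent.S0626
import Groth.Agent.H92.CompAcyNat
import Groth.Agent.H45.ExtAdjAcy
import Groth.Agent.H45.EtPullExact

set_option autoImplicit false
open CategoryTheory CategoryTheory.Limits AlgebraicGeometry Opposite
universe u
open EtCore

namespace Groth.Agent.S0628

/-- Let f : X -> Y be a morphism of schemes with X integral and normal and with separably closed
function field. Then the higher direct images R^q f_* of a constant sheaf vanish for q > 0. -/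
theorem result {X Y : Scheme.{u}} (f : X ⟶ Y) [IsIntegral X]
    (hN : ∀ x : X, IsIntegrallyClosed (X.presheaf.stalk x)) [IsSepClosed X.functionField]
    (M : Type) [AddCommGroup M] (q : ℕ) (hq : 1 ≤ q) :
    IsZero ((EtCoh.Rpush f q).obj (EtCoh.const X M)) := by
  have hKf : IsField X.functionField := Field.toIsField _
  haveI : Subsingleton (Spec X.functionField) :=
    inferInstanceAs (Subsingleton (PrimeSpectrum X.functionField))
  have h2 : ∀ s : Spec X.functionField, IsSepClosed ((Spec X.functionField).residueField s) :=
    fun s => Groth.Agent.H4.SepClosedPush.isSepClosed_residueField_spec X.functionField hKf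
      inferInstance s
  haveI hu := Groth.Agent.S0626.result X hN M
  refine IsZero.of_iso ?_ ((EtCoh.Rpush f q).mapIso
    (asIso ((EtCoh.pullPushAdj (X.fromSpecStalk (genericPoint X))).unit.app (EtCoh.const X M))))
  haveI : PreservesFiniteColimits (EtCoh.push (X.fromSpecStalk (genericPoint X))) :=
    Groth.Agent.H4.SepClosedPush.preservesFiniteColimits_push h2 _
  haveI : PreservesFiniteColimits (EtCoh.push (X.fromSpecStalk (genericPoint X) ≫ f)) :=
    Groth.Agent.H4.SepClosedPush.preservesFiniteColimits_push h2 _
  haveI : PreservesFiniteLimits (EtCoh.push (X.fromSpecStalk (genericPoint X))) := by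
    haveI : PreservesLimitsOfSize.{0, 0} (EtCoh.push (X.fromSpecStalk (genericPoint X))) :=
      (EtCoh.pullPushAdj _).rightAdjoint_preservesLimits
    exact PreservesLimitsOfSize.preservesFiniteLimits _
  haveI : PreservesFiniteLimits (EtCoh.push f) := by
    haveI : PreservesLimitsOfSize.{0, 0} (EtCoh.push f) :=
      (EtCoh.pullPushAdj _).rightAdjoint_preservesLimits
    exact PreservesLimitsOfSize.preservesFiniteLimits _
  have hacy : ∀ I : EtCoh.Ab (Spec X.functionField), Injective I → ∀ n : ℕ,
      IsZero (((EtCoh.push f).rightDerived (n + 1)).obj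
        ((EtCoh.push (X.fromSpecStalk (genericPoint X))).obj I)) := by
    intro I hI n
    haveI : PreservesFiniteLimits (EtCoh.pull (X.fromSpecStalk (genericPoint X))) :=
      Groth.Agent.H45.preservesFiniteLimits_pullAb _
    haveI : Injective ((EtCoh.push (X.fromSpecStalk (genericPoint X))).obj I) :=
      Injective.injective_of_adjoint (EtCoh.pullPushAdj (X.fromSpecStalk (genericPoint X))) I
    exact Functor.isZero_rightDerived_obj_injective_succ _ n _
  obtain ⟨i⟩ := Groth.Agent.H92.CompAcyNat.nonempty_comp_rightDerived_iso
    (EtCoh.push (X.fromSpecStalk (genericPoint X))) (EtCoh.push f) hacy q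
  refine IsZero.of_iso ?_ (i.app ((EtCoh.pull (X.fromSpecStalk (genericPoint X))).obj
    (EtCoh.const X M))).symm
  haveI : PreservesFiniteColimits (EtCoh.push (X.fromSpecStalk (genericPoint X)) ⋙ EtCoh.push f) :=
    preservesFiniteColimits_of_natIso (EtCoh.pushComp f (X.fromSpecStalk (genericPoint X))).symm
  haveI : PreservesFiniteLimits (EtCoh.push (X.fromSpecStalk (genericPoint X)) ⋙ EtCoh.push f) :=
    comp_preservesFiniteLimits _ _
  exact Groth.Agent.H45.ExtAdj.isZero_rightDerived_of_exact
    (EtCoh.push (X.fromSpecStalk (genericPoint X)) ⋙ EtCoh.push f) _ q hq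

end Groth.Agent.S0628
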