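import Groth.Statements.S0632
import Mathlib
import Groth.Agent.S0633

set_option autoImplicit false
open CategoryTheory CategoryTheory.Limits AlgebraicGeometry Opposite
universe u
open EtCore

namespace Groth.Agent.S0632

/-- Let X -> Y be a closed immersion and U_i -> X (i in ι) a jointly surjective family of etale
morphisms. Then one can find a jointly surjective family of etale Y-schemes V_j each of which either
has empty preimage over X or, after base change to X, maps into one of the U_i over X. -/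
theorem result {X Y : Scheme.{u}} (f : X ⟶ Y) [IsClosedImmersion f]
    {ι : Type u} (U : ι → X.Etale) (hU : EtCoh.Covers U) :
    ∃ (κ : Type u) (V : κ → Y.Etale), EtCoh.Covers V ∧
      ∀ j, IsEmpty ↥(pullback (V j).hom f) ∨
        ∃ (i : ι) (h : pullback (V j).hom f ⟶ (U i).left), h ≫ (U i).hom = pullback.snd (V j).hom f := by
  classical
  choose V h h1 h2 h3 using fun (p : Σ i, (U i).left) =>
    Groth.Agent.S0633.pointwise f (U p.1) p.2
  have hclosed : IsClosed (Set.range f) := f.isClosedEmbedding.isClosed_range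
  let W₀ : Y.Opens := ⟨(Set.range f)ᶜ, hclosed.isOpen_compl⟩
  let V₀ : Y.Etale := Scheme.Etale.mk W₀.ι
  refine ⟨Option (Σ i, (U i).left), fun j => j.elim V₀ V, ?_, ?_⟩
  · intro y
    by_cases hy : y ∈ Set.range f
    · obtain ⟨x₀, rfl⟩ := hy
      obtain ⟨i, u, hu⟩ := hU x₀
      obtain ⟨y', hy'⟩ := h3 ⟨i, u⟩
      refine ⟨some ⟨i, u⟩, (pullback.fst (V ⟨i, u⟩).hom f) y', ?_⟩
      show (V ⟨i, u⟩).hom ((pullback.fst (V ⟨i, u⟩).hom f) y') = f x₀
      rw [← Scheme.Hom.comp_apply, pullback.condition, Scheme.Hom.comp_apply, ← h1 ⟨i, u⟩,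
        Scheme.Hom.comp_apply, hy', hu]
    · exact ⟨none, ⟨y, hy⟩, rfl⟩
  · rintro (_ | p)
    · left
      refine ⟨fun q => ?_⟩
      have hq : (W₀.ι) ((pullback.fst W₀.ι f) q) = f ((pullback.snd W₀.ι f) q) := by
        rw [← Scheme.Hom.comp_apply, ← Scheme.Hom.comp_apply, pullback.condition]
      have hmem : (W₀.ι) ((pullback.fst W₀.ι f) q) ∈ (W₀ : Set Y) :=
        ((pullback.fst W₀.ι f) q).2
      exact hmem ⟨_, hq.symm⟩
    · right
      exact ⟨p.1, h p, h1 p⟩

end Groth.Agent.S0632
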