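import Groth.Statements.S0634
import Mathlib
import Groth.Agent.H4.StalkPull
import Groth.Agent.H4.EtaleRes

set_option autoImplicit false
open CategoryTheory CategoryTheory.Limits AlgebraicGeometry Opposite
universe u
open EtCore

namespace Groth.Agent.S0634

open Groth.Agent.H4 Groth.Agent.S0100 Groth.Agent.S19885

/-- For an abelian sheaf F on the small etale site of S and two global sections s, t there is an open W
of S such that a morphism f : T -> S has image inside W if and only if the pullbacks of s and t
along f (images under the adjunction unit, as sections of the pullback sheaf over T) coincide. -/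
theorem result {S : Scheme.{u}} (F : EtCoh.Ab S) (s t : EtCoh.sect F (EtCoh.top S)) :
    ∃ W : S.Opens, ∀ (T : Scheme.{u}) (f : T ⟶ S),
      Set.range f.base ⊆ (W : Set S) ↔
        ((EtCoh.pullPushAdj f).unit.app F).hom.app (op (EtCoh.top S)) s =
          ((EtCoh.pullPushAdj f).unit.app F).hom.app (op (EtCoh.top S)) t := by
  let TS : S.Etale := EtCoh.top S
  let Wset : Set S := {x | ∃ (V : S.Etale) (φ : V ⟶ TS) (v : V.left),
    F.obj.map φ.op s = F.obj.map φ.op t ∧ V.hom.base v = x}
  have hopen : IsOpen Wset := by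
    rw [isOpen_iff_forall_mem_open]
    rintro x ⟨V, φ, v, hφ, rfl⟩
    haveI : Etale V.hom := V.prop
    refine ⟨Set.range V.hom.base, ?_, V.hom.isOpenMap.isOpen_range, ⟨v, rfl⟩⟩
    rintro _ ⟨v', rfl⟩
    exact ⟨V, φ, v', hφ, rfl⟩
  refine ⟨⟨Wset, hopen⟩, fun T f => ⟨?_, ?_⟩⟩
  · intro hsub
    let η := (EtCoh.pullPushAdj f).unit.app F
    apply eq_of_locally_eq ((EtCoh.pull f).obj F) ((EtCoh.bc f).obj TS)
    intro b
    let y : T := (pullback.snd TS.hom f).base b
    obtain ⟨V, φ, v, hφ, hv⟩ := hsub ⟨y, rfl⟩
    have hb : (pullback.fst TS.hom f).base b = φ.left.base v := by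
      have c1 : TS.hom.base ((pullback.fst TS.hom f).base b) = f.base y :=
        congrArg (fun q => q.base b) (pullback.condition (f := TS.hom) (g := f))
      have c2 : TS.hom.base (φ.left.base v) = V.hom.base v :=
        congrArg (fun q => q.base v) (Over.w φ.hom)
      show TS.hom.base ((pullback.fst TS.hom f).base b) = TS.hom.base (φ.left.base v)
      exact c1.trans (hv.symm.trans c2.symm)
    have sq := EtCoh.isPullback_bc_map f φ
    obtain ⟨z, hz1, hz2⟩ := Scheme.Pullback.exists_preimage_pullback
      (f := (pullback.fst TS.hom f : ((EtCoh.bc f).obj TS).left ⟶ TS.left)) (g := φ.left) b v hb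
    refine ⟨(EtCoh.bc f).obj V, (EtCoh.bc f).map φ, sq.isoPullback.inv.base z, ?_, ?_⟩
    · have e := IsPullback.isoPullback_inv_fst sq
      have e' := congrArg (fun q => q.base z) e
      exact e'.trans hz1
    · have n1 := NatTrans.naturality_apply η.hom φ.op s
      have n2 := NatTrans.naturality_apply η.hom φ.op t
      exact n1.symm.trans ((congrArg (η.hom.app (op V)) hφ).trans n2)
  · intro heq
    rintro _ ⟨y, rfl⟩
    obtain ⟨Ω, _, _, ξ, τ0, hτ0⟩ := exists_geometric_point (EtCoh.top T) y
    let Φ := Scheme.pointSmallEtale (ξ ≫ f)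
    let τ : Φ.fiber.obj TS := (Over.homMk (ξ ≫ f) (Category.comp_id _) :
      (Over.mk (ξ ≫ f) : Over S) ⟶ (Scheme.Etale.forget S).obj TS)
    have SG := toPresheafFiber_stalkPullIso f ξ AddCommGrpCat.{u + 1} F TS τ
    have hinj : Function.Injective ((stalkPullIso f ξ AddCommGrpCat.{u + 1}).hom.app F) :=
      ((ConcreteCategory.isIso_iff_bijective _).1 inferInstance).1
    have e1 : (stalkPullIso f ξ AddCommGrpCat.{u + 1}).hom.app F
          (Φ.toPresheafFiber TS τ F.obj s) =
        (stalkPullIso f ξ AddCommGrpCat.{u + 1}).hom.app F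
          (Φ.toPresheafFiber TS τ F.obj t) := by
      have hs : (stalkPullIso f ξ AddCommGrpCat.{u + 1}).hom.app F
            (Φ.toPresheafFiber TS τ F.obj s) =
          (Scheme.pointSmallEtale ξ).toPresheafFiber ((EtCoh.bc f).obj TS)
            (liftPt f ξ TS τ) ((EtCoh.pull f).obj F).obj
            (((EtCoh.pullPushAdj f).unit.app F).hom.app (op TS) s) :=
        ConcreteCategory.congr_hom SG s
      have ht : (stalkPullIso f ξ AddCommGrpCat.{u + 1}).hom.app F
            (Φ.toPresheafFiber TS τ F.obj t) =
          (Scheme.pointSmallEtale ξ).toPresheafFiber ((EtCoh.bc f).obj TS)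
            (liftPt f ξ TS τ) ((EtCoh.pull f).obj F).obj
            (((EtCoh.pullPushAdj f).unit.app F).hom.app (op TS) t) :=
        ConcreteCategory.congr_hom SG t
      rw [hs, ht, heq]
    have e2 := hinj e1
    obtain ⟨W', k, w, hw, hk⟩ := (Φ.toPresheafFiber_eq_iff' TS τ s t).1 e2
    refine ⟨W', k, w.left.base (default : Spec (CommRingCat.of Ω)), hk, ?_⟩
    have h1 : w.left ≫ W'.hom = ξ ≫ f := Over.w w
    have h2 : W'.hom.base (w.left.base (default : Spec (CommRingCat.of Ω))) =
        f.base (ξ.base (default : Spec (CommRingCat.of Ω))) :=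
      congrArg (fun q => q.base (default : Spec (CommRingCat.of Ω))) h1
    have h3 : ξ.base (default : Spec (CommRingCat.of Ω)) = y := by
      have h4 : τ0.left ≫ (EtCoh.top T).hom = ξ := Over.w τ0
      have h5 : (EtCoh.top T).hom.base (τ0.left.base (default : Spec (CommRingCat.of Ω))) =
          ξ.base (default : Spec (CommRingCat.of Ω)) :=
        congrArg (fun q => q.base (default : Spec (CommRingCat.of Ω))) h4
      exact h5.symm.trans hτ0
    exact h2.trans (congrArg f.base h3)

end Groth.Agent.S0634
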