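import Groth.Statements.S0643
-- import your own Groth.Agent.* helpers here

set_option autoImplicit false
universe u
open EtCore

namespace Groth.Agent.S0643

open Polynomial in
/-- Let A be a ring, assumed nonzero here (the published statement does not say so; over the zero ring
no polynomial has positive degree in Lean's sense), and a, b elements generating the unit ideal such
that some positive power of a is congruent to 1 modulo b. Then there is a monic polynomial P of
positive degree over A such that in B = A[y]/(P) the element a - b y is a unit. -/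
theorem result (A : Type u) [CommRing A] [Nontrivial A] (a b : A) (hab : IsCoprime a b)
    (hroot : ∃ n : ℕ, 0 < n ∧ a ^ n - 1 ∈ Ideal.span ({b} : Set A)) :
    ∃ P : A[X], P.Monic ∧ 0 < P.natDegree ∧
      IsUnit (algebraMap A (AdjoinRoot P) a - algebraMap A (AdjoinRoot P) b * AdjoinRoot.root P) := by
  obtain ⟨n, hn, hmem⟩ := hroot
  obtain ⟨c, hc⟩ := Ideal.mem_span_singleton'.mp hmem
  obtain ⟨m, rfl⟩ : ∃ m, n = m + 1 := ⟨n - 1, by omega⟩
  have hcop : IsCoprime (a ^ m) (b ^ m) := hab.pow
  obtain ⟨u, v, huv⟩ := hcop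
  have hdeg : (C (-c * u) * X ^ m + C (-c * v) : A[X]).degree < ((m + 1 : ℕ) : WithBot ℕ) := by
    refine lt_of_le_of_lt (degree_add_le _ _) (max_lt ?_ ?_)
    · refine lt_of_le_of_lt (degree_C_mul_X_pow_le _ _) ?_
      exact_mod_cast Nat.lt_succ_self m
    · refine lt_of_le_of_lt degree_C_le ?_
      exact_mod_cast Nat.succ_pos m
  have hP : (X ^ (m + 1) + (C (-c * u) * X ^ m + C (-c * v)) : A[X]).Monic := monic_X_pow_add hdeg
  have hnat : (X ^ (m + 1) + (C (-c * u) * X ^ m + C (-c * v)) : A[X]).natDegree = m + 1 :=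
    by
      rw [natDegree_add_eq_left_of_degree_lt (by rwa [degree_X_pow]), natDegree_X_pow]
  refine ⟨X ^ (m + 1) + (C (-c * u) * X ^ m + C (-c * v)), hP, by rw [hnat]; exact hn, ?_⟩
  set P : A[X] := X ^ (m + 1) + (C (-c * u) * X ^ m + C (-c * v)) with hPdef
  have hroot0 : (AdjoinRoot.root P) ^ (m + 1) + (algebraMap A (AdjoinRoot P) (-c * u) *
      (AdjoinRoot.root P) ^ m + algebraMap A (AdjoinRoot P) (-c * v)) = 0 := by
    have := AdjoinRoot.eval₂_root P
    rw [hPdef] at this
    simpa [eval₂_add, eval₂_mul, eval₂_pow, AdjoinRoot.algebraMap_eq] using this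
  have hdvd := Polynomial.sub_dvd_eval_sub (algebraMap A (AdjoinRoot P) a)
    (algebraMap A (AdjoinRoot P) b * AdjoinRoot.root P)
    (X ^ (m + 1) + (C (algebraMap A (AdjoinRoot P) (-c * u * b)) * X ^ m +
      C (algebraMap A (AdjoinRoot P) (-c * v * b ^ (m + 1)))))
  have h1 : eval (algebraMap A (AdjoinRoot P) a) (X ^ (m + 1) +
      (C (algebraMap A (AdjoinRoot P) (-c * u * b)) * X ^ m +
      C (algebraMap A (AdjoinRoot P) (-c * v * b ^ (m + 1))))) = 1 := by
    simp only [eval_add, eval_mul, eval_pow, eval_X, eval_C]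
    rw [← map_pow, ← map_pow, ← map_mul, ← map_add, ← map_add, ← map_one (algebraMap A (AdjoinRoot P))]
    congr 1
    linear_combination (-1) * hc - c * b * huv
  have h2 : eval (algebraMap A (AdjoinRoot P) b * AdjoinRoot.root P) (X ^ (m + 1) +
      (C (algebraMap A (AdjoinRoot P) (-c * u * b)) * X ^ m +
      C (algebraMap A (AdjoinRoot P) (-c * v * b ^ (m + 1))))) = 0 := by
    simp only [eval_add, eval_mul, eval_pow, eval_X, eval_C, eval_neg, map_mul, map_pow, map_neg]
    simp only [map_mul, map_neg] at hroot0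
    linear_combination (algebraMap A (AdjoinRoot P) b) ^ (m + 1) * hroot0
  rw [h1, h2, sub_zero] at hdvd
  exact isUnit_of_dvd_one hdvd

end Groth.Agent.S0643
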