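import Groth.Statements.S0644
import Mathlib.AlgebraicGeometry.Morphisms.UniversallyOpen

set_option autoImplicit false
open CategoryTheory CategoryTheory.Limits AlgebraicGeometry Opposite
universe u
open EtCore

namespace Groth.Agent.S0644

/-- Let F be a sheaf of sets on the small etale site of S which is a subsheaf of the final sheaf, i.e.
every set of sections has at most one element. Then there is exactly one open W of S such that F is
isomorphic to the sheaf represented by W (viewed as a scheme etale over S). -/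
theorem result (S : Scheme.{u}) (F : Sheaf S.smallEtaleTopology (Type u))
    (hF : ∀ U : S.Etale, Subsingleton (F.obj.obj (op U))) :
    ∃! W : S.Opens, Nonempty (F.obj ≅ yoneda.obj (Scheme.Etale.mk W.ι)) := by
  classical
  let Wset : Set S := ⋃ (U : S.Etale) (_ : Nonempty (F.obj.obj (op U))), Set.range U.hom.base
  have hWopen : IsOpen Wset :=
    isOpen_iUnion fun U => isOpen_iUnion fun _ =>
      (Scheme.Hom.isOpenMap (X := U.left) (Y := S) U.hom).isOpen_range
  let W : S.Opens := ⟨Wset, hWopen⟩
  have key1 : ∀ U : S.Etale, Nonempty (F.obj.obj (op U)) → Set.range U.hom.base ⊆ Wset := by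
    intro U hU x hx
    exact Set.mem_iUnion₂.2 ⟨U, hU, hx⟩
  have key2 : ∀ U : S.Etale, Set.range U.hom.base ⊆ Wset → Nonempty (F.obj.obj (op U)) := by
    intro U hU
    let R : Sieve U :=
      { arrows := fun V _ => Nonempty (F.obj.obj (op V))
        downward_closed := fun {Y Z f} hf g => by
          obtain ⟨x⟩ := hf
          exact ⟨F.obj.map g.op x⟩ }
    have hR : R ∈ S.smallEtaleTopology U := by
      have hpt : ∀ u : U.left, ∃ (V : S.Etale) (_ : Nonempty (F.obj.obj (op V))) (v : V.left),
          V.hom.base v = U.hom.base u := by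
        intro u
        obtain ⟨V, hV, v, hv⟩ := Set.mem_iUnion₂.1 (hU ⟨u, rfl⟩)
        exact ⟨V, hV, v, hv⟩
      choose V hV v hv using hpt
      let Z : U.left → S.Etale := fun u => Scheme.Etale.mk (pullback.fst U.hom (V u).hom ≫ U.hom)
      let f : ∀ u, Z u ⟶ U := fun u =>
        MorphismProperty.Over.homMk (pullback.fst U.hom (V u).hom) rfl
      let g : ∀ u, Z u ⟶ V u := fun u =>
        MorphismProperty.Over.homMk (pullback.snd U.hom (V u).hom) pullback.condition.symm
      have hcov : Sieve.ofArrows Z f ∈ S.smallEtaleTopology U := by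
        rw [Scheme.ofArrows_mem_smallEtaleTopology_iff]
        ext u
        simp only [Set.mem_iUnion, Set.mem_range, Set.mem_univ, iff_true]
        obtain ⟨z, hz1, -⟩ := Scheme.Pullback.exists_preimage_pullback
          (f := U.hom) (g := (V u).hom) u (v u) (hv u).symm
        exact ⟨u, z, hz1⟩
      refine S.smallEtaleTopology.superset_covering ?_ hcov
      rintro T h ⟨T', a, b, hb, rfl⟩
      obtain ⟨u⟩ := hb
      obtain ⟨x⟩ := hV u
      exact ⟨F.obj.map (a ≫ g u).op x⟩
    have hsheaf : Presieve.IsSheaf S.smallEtaleTopology F.obj :=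
      (isSheaf_iff_isSheaf_of_type _ _).1 F.property
    let x : Presieve.FamilyOfElements F.obj R.arrows := fun V g hg => Classical.choice hg
    have hx : x.Compatible := fun _ _ Z _ _ _ _ _ _ _ => (hF Z).elim _ _
    exact ⟨(hsheaf R hR).amalgamate x hx⟩
  have homSub : ∀ (W' : S.Opens) (U : S.Etale), Subsingleton (U ⟶ Scheme.Etale.mk W'.ι) := by
    intro W' U
    constructor
    intro a b
    apply MorphismProperty.Over.Hom.ext
    have hab : a.left ≫ W'.ι = b.left ≫ W'.ι :=
      (MorphismProperty.Over.w a).trans (MorphismProperty.Over.w b).symm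
    exact (cancel_mono W'.ι).1 hab
  have homNonempty : ∀ (W' : S.Opens) (U : S.Etale),
      Nonempty (U ⟶ Scheme.Etale.mk W'.ι) ↔ Set.range U.hom.base ⊆ (W' : Set S) := by
    intro W' U
    constructor
    · rintro ⟨a⟩ _ ⟨x, rfl⟩
      have h := MorphismProperty.Over.w a
      have e : U.hom.base x = W'.ι.base (a.left.base x) := by rw [← h]; rfl
      rw [e]
      have h2 : W'.ι.base (a.left.base x) ∈ Set.range W'.ι.base := ⟨_, rfl⟩
      rwa [Scheme.Opens.range_ι] at h2
    · intro h
      have h' : Set.range U.hom.base ⊆ Set.range W'.ι.base := by rwa [Scheme.Opens.range_ι]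
      let l : U.left ⟶ (W' : Scheme.{u}) :=
        IsOpenImmersion.lift (W'.ι) (show U.left ⟶ S from U.hom) h'
      have hl : l ≫ W'.ι = U.hom :=
        IsOpenImmersion.lift_fac (W'.ι) (show U.left ⟶ S from U.hom) h'
      exact ⟨MorphismProperty.Over.homMk l hl⟩
  have hiff : ∀ U : S.Etale,
      Nonempty (F.obj.obj (op U)) ↔ Nonempty (U ⟶ Scheme.Etale.mk W.ι) := by
    intro U
    rw [homNonempty W U]
    exact ⟨key1 U, key2 U⟩
  let iso : F.obj ≅ yoneda.obj (Scheme.Etale.mk W.ι) :=
    NatIso.ofComponents (fun U => Equiv.toIso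
      { toFun := fun x => Classical.choice ((hiff U.unop).1 ⟨x⟩)
        invFun := fun a => Classical.choice ((hiff U.unop).2 ⟨a⟩)
        left_inv := fun x => (hF U.unop).elim _ _
        right_inv := fun a => (homSub W U.unop).elim _ _ })
      (by
        intro X Y f
        ext x
        exact (homSub W Y.unop).elim _ _)
  refine ⟨W, ⟨iso⟩, ?_⟩
  rintro W' ⟨e⟩
  apply le_antisymm
  · have h1 : Nonempty (F.obj.obj (op (Scheme.Etale.mk W'.ι))) :=
      ⟨e.inv.app (op (Scheme.Etale.mk W'.ι)) (𝟙 _)⟩
    have h2 := key1 _ h1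
    have hr : Set.range W'.ι.base = (W' : Set S) := Scheme.Opens.range_ι W'
    refine SetLike.le_def.2 fun x hx => ?_
    have hx' : x ∈ Set.range W'.ι.base := by rw [hr]; exact hx
    exact h2 hx'
  · refine SetLike.le_def.2 fun x hx => ?_
    obtain ⟨U, hU, hxU⟩ := Set.mem_iUnion₂.1 hx
    obtain ⟨y⟩ := hU
    exact (homNonempty W' U).1 ⟨e.hom.app (op U) y⟩ hxU

end Groth.Agent.S0644
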