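import Groth.Statements.S0647
import Mathlib
import Groth.Agent.H4.StalkShriek

set_option autoImplicit false
open CategoryTheory CategoryTheory.Limits AlgebraicGeometry Opposite
universe u
open EtCore

namespace Groth.Agent.S0647

open Groth.Agent.H4.StalkShriek

section helpers

variable {U X : Scheme.{u}} (j : U ⟶ X) [AlgebraicGeometry.Etale j]
  {Ω : Type u} [Field Ω] [IsSepClosed Ω] (ξ : Spec (CommRingCat.of Ω) ⟶ X)

/-- The geometric points of `U` over `ξ`. -/
abbrev Lifts := {u : Spec (CommRingCat.of Ω) ⟶ U // u ≫ j = ξ}

set_option backward.isDefEq.respectTransparency.types false in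
/-- A lift of `u` to `V` is a lift of `ξ` to `V` viewed over `X`. -/
noncomputable def incl (u : Lifts j ξ) (V : U.Etale)
    (s : (Scheme.pointSmallEtale u.1).fiber.obj V) :
    (Scheme.pointSmallEtale ξ).fiber.obj ((EtShriek.compEtale j).obj V) :=
  (Over.homMk s.left (by
    have hs : s.left ≫ V.hom = u.1 := Over.w s
    show s.left ≫ (V.hom ≫ j) = ξ
    exact (Category.assoc _ _ _).symm.trans ((congrArg (fun q => q ≫ j) hs).trans u.2)) :
    (Over.mk ξ : Over X) ⟶ (Scheme.Etale.forget X).obj ((EtShriek.compEtale j).obj V))

set_option backward.isDefEq.respectTransparency.types false in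
/-- The geometric point of `U` under a lift of `ξ` to `V` viewed over `X`. -/
noncomputable def base (V : U.Etale)
    (t : (Scheme.pointSmallEtale ξ).fiber.obj ((EtShriek.compEtale j).obj V)) : Lifts j ξ :=
  ⟨t.left ≫ V.hom, by
    have ht : t.left ≫ (V.hom ≫ j) = ξ := Over.w t
    exact (Category.assoc _ _ _).trans ht⟩

set_option backward.isDefEq.respectTransparency.types false in
/-- A lift of `ξ` to `V` viewed over `X` is a lift of its base point. -/
noncomputable def lift (V : U.Etale)
    (t : (Scheme.pointSmallEtale ξ).fiber.obj ((EtShriek.compEtale j).obj V)) :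
    (Scheme.pointSmallEtale (base j ξ V t).1).fiber.obj V :=
  (Over.homMk t.left rfl :
    (Over.mk (base j ξ V t).1 : Over U) ⟶ (Scheme.Etale.forget U).obj V)

set_option backward.isDefEq.respectTransparency.types false in
theorem fiber_heq (V : U.Etale) {u u' : Lifts j ξ} (hu : u' = u)
    (s : (Scheme.pointSmallEtale u.1).fiber.obj V)
    (s' : (Scheme.pointSmallEtale u'.1).fiber.obj V) (hs : s'.left = s.left) : HEq s' s := by
  subst hu
  exact heq_of_eq (Over.OverMorphism.ext hs)

set_option backward.isDefEq.respectTransparency.types false in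
/-- The fibre of `ξ` at `V` viewed over `X` is the disjoint union of the fibres of its lifts. -/
noncomputable def fibEquiv (V : U.Etale) :
    (Σ u : Lifts j ξ, (Scheme.pointSmallEtale u.1).fiber.obj V) ≃
      (Scheme.pointSmallEtale ξ).fiber.obj ((EtShriek.compEtale j).obj V) where
  toFun p := incl j ξ p.1 V p.2
  invFun t := ⟨base j ξ V t, lift j ξ V t⟩
  left_inv p := by
    obtain ⟨u, s⟩ := p
    have hu : base j ξ V (incl j ξ u V s) = u := Subtype.ext (Over.w s)
    exact Sigma.ext hu (fiber_heq j ξ V hu s _ rfl)
  right_inv t := Over.OverMorphism.ext rfl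

set_option backward.isDefEq.respectTransparency.types false in
theorem fibEquiv_nat ⦃V' V : U.Etale⦄ (g : V' ⟶ V) (u : Lifts j ξ)
    (x' : (Scheme.pointSmallEtale u.1).fiber.obj V') :
    (Scheme.pointSmallEtale ξ).fiber.map ((EtShriek.compEtale j).map g)
      (fibEquiv j ξ V' ⟨u, x'⟩) =
      fibEquiv j ξ V ⟨u, (Scheme.pointSmallEtale u.1).fiber.map g x'⟩ :=
  Over.OverMorphism.ext rfl

end helpers

/-- Stalks of the extension by zero: let j : U → X be an étale morphism of schemes, F an abelian sheaf
on the small étale site of U and ξ : Spec Ω → X a geometric point (Ω separably closed). Then the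
stalk of the extension by zero j_!F at ξ is isomorphic to the direct sum, over the geometric points
u : Spec Ω → U with j ∘ u = ξ, of the stalks F_u. Only the existence of an isomorphism is asserted
(the identification is in fact canonical). (Continuity of the composition functor of étale sites
along j is carried as an instance binder.) -/
theorem result {U X : Scheme.{u}} (j : U ⟶ X) [AlgebraicGeometry.Etale j] [EtShriek.JCont j]
    (F : EtCoh.Ab U) {Ω : Type u} [Field Ω] [IsSepClosed Ω] (ξ : Spec (CommRingCat.of Ω) ⟶ X) :
    Nonempty ((EtCoh.stalk ξ).obj ((EtShriek.extZero j).obj F) ≅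
      ∐ fun u : {u : Spec (CommRingCat.of Ω) ⟶ U // u ≫ j = ξ} => (EtCoh.stalk u.1).obj F) := by
  exact ⟨stalkShriekIso (Scheme.pointSmallEtale ξ) (EtShriek.compEtale j)
    (fun u : Lifts j ξ => Scheme.pointSmallEtale u.1) (fibEquiv j ξ) (fibEquiv_nat j ξ) F⟩

end Groth.Agent.S0647
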