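import Groth.Statements.S0649
import Mathlib
import Groth.Agent.S19885

set_option autoImplicit false
open CategoryTheory CategoryTheory.Limits AlgebraicGeometry Opposite
universe u
open EtCore

namespace Groth.Agent.S0649

open Groth.Agent.S19885

section helpers

variable {V' V Y X : Scheme.{u}} (j : V ⟶ X) [AlgebraicGeometry.Etale j]
    (f : Y ⟶ X) (j' : V' ⟶ Y) [AlgebraicGeometry.Etale j'] (f' : V' ⟶ V)
    (h : IsPullback j' f' f j)

/-- Pasting of pullbacks: `W ×_V V' ≅ W ×_X Y`. -/
noncomputable def leftIso (W : V.Etale) : pullback W.hom f' ≅ pullback (W.hom ≫ j) f :=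
  (((IsPullback.of_hasPullback W.hom f').flip.paste_horiz h).flip).isoPullback

theorem leftIso_hom_fst (W : V.Etale) :
    (leftIso j f j' f' h W).hom ≫ pullback.fst (W.hom ≫ j) f = pullback.fst W.hom f' :=
  IsPullback.isoPullback_hom_fst _

theorem leftIso_hom_snd (W : V.Etale) :
    (leftIso j f j' f' h W).hom ≫ pullback.snd (W.hom ≫ j) f = pullback.snd W.hom f' ≫ j' :=
  IsPullback.isoPullback_hom_snd _

set_option backward.isDefEq.respectTransparency.types false in
theorem leftIso_natural {W W' : V.Etale} (g : W ⟶ W')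
    (a : pullback W.hom f' ⟶ pullback W'.hom f')
    (b : pullback (W.hom ≫ j) f ⟶ pullback (W'.hom ≫ j) f)
    (ha1 : a ≫ pullback.fst W'.hom f' = pullback.fst W.hom f' ≫ g.left)
    (ha2 : a ≫ pullback.snd W'.hom f' = pullback.snd W.hom f')
    (hb1 : b ≫ pullback.fst (W'.hom ≫ j) f = pullback.fst (W.hom ≫ j) f ≫ g.left)
    (hb2 : b ≫ pullback.snd (W'.hom ≫ j) f = pullback.snd (W.hom ≫ j) f) :
    a ≫ (leftIso j f j' f' h W').hom = (leftIso j f j' f' h W).hom ≫ b := by
  refine pullback.hom_ext ?_ ?_
  · rw [Category.assoc, Category.assoc, leftIso_hom_fst, hb1, ← Category.assoc, leftIso_hom_fst, ha1]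
  · rw [Category.assoc, Category.assoc, leftIso_hom_snd, hb2, leftIso_hom_snd, ← Category.assoc, ha2]

set_option backward.isDefEq.respectTransparency.types false in
/-- The object-wise isomorphism of étale `Y`-schemes. -/
noncomputable def objIso (W : V.Etale) :
    (EtCoh.bc f' ⋙ EtShriek.compEtale j').obj W ≅ (EtShriek.compEtale j ⋙ EtCoh.bc f).obj W :=
  MorphismProperty.Over.isoMk (leftIso j f j' f' h W) (leftIso_hom_snd j f j' f' h W)

set_option backward.isDefEq.respectTransparency.types false in
/-- The two composite functors of small étale sites `V_ét ⥤ Y_ét` agree. -/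
noncomputable def siteIso :
    EtCoh.bc f' ⋙ EtShriek.compEtale j' ≅ EtShriek.compEtale j ⋙ EtCoh.bc f :=
  NatIso.ofComponents (fun W => objIso j f j' f' h W) (by
    intro W W' g
    apply MorphismProperty.Over.Hom.ext
    exact leftIso_natural j f j' f' h g ((EtCoh.bc f').map g).left
      ((EtCoh.bc f).map ((EtShriek.compEtale j).map g)).left
      (bc_map_fst f' g) (bc_map_snd f' g)
      (bc_map_fst f ((EtShriek.compEtale j).map g)) (bc_map_snd f ((EtShriek.compEtale j).map g)))

end helpers

/-- Extension by zero commutes with pullback, for abelian sheaves. Let f : Y → X be a morphism of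
schemes and j : V → X étale, and let V' = Y ×_X V with projections j' : V' → Y and f' : V' → V. Then
the functors j'_! ∘ f'^(-1) and f^(-1) ∘ j_! from abelian sheaves on V_ét to abelian sheaves on Y_ét
are isomorphic. Only the existence of an isomorphism of functors is asserted; the published
statement gives the canonical one. (Continuity of the composition functor of étale sites, which
always holds, is carried as an instance hypothesis.) -/
theorem result {V' V Y X : Scheme.{u}} (j : V ⟶ X) [AlgebraicGeometry.Etale j] [EtShriek.JCont j]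
    (f : Y ⟶ X) (j' : V' ⟶ Y) [AlgebraicGeometry.Etale j'] [EtShriek.JCont j'] (f' : V' ⟶ V)
    (h : IsPullback j' f' f j) :
    Nonempty (EtCoh.pull f' ⋙ EtShriek.extZero j' ≅ EtShriek.extZero j ⋙ EtCoh.pull f) := by
  haveI : (EtShriek.compEtale j ⋙ EtCoh.bc f).IsContinuous V.smallEtaleTopology
      Y.smallEtaleTopology :=
    Functor.isContinuous_comp (EtShriek.compEtale j) (EtCoh.bc f) V.smallEtaleTopology
      X.smallEtaleTopology Y.smallEtaleTopology
  let iso1 : EtShriek.restrAlong j' ⋙ EtCoh.push f' ≅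
      (EtShriek.compEtale j ⋙ EtCoh.bc f).sheafPushforwardContinuous AddCommGrpCat.{u+1}
        V.smallEtaleTopology Y.smallEtaleTopology :=
    Functor.sheafPushforwardContinuousComp' (F := EtCoh.bc f') (G := EtShriek.compEtale j')
      (FG := EtShriek.compEtale j ⋙ EtCoh.bc f) (siteIso j f j' f' h) AddCommGrpCat.{u+1}
      V.smallEtaleTopology V'.smallEtaleTopology Y.smallEtaleTopology
  let iso2 : EtCoh.push f ⋙ EtShriek.restrAlong j ≅
      (EtShriek.compEtale j ⋙ EtCoh.bc f).sheafPushforwardContinuous AddCommGrpCat.{u+1}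
        V.smallEtaleTopology Y.smallEtaleTopology :=
    Functor.sheafPushforwardContinuousComp' (F := EtShriek.compEtale j) (G := EtCoh.bc f)
      (FG := EtShriek.compEtale j ⋙ EtCoh.bc f) (Iso.refl _) AddCommGrpCat.{u+1}
      V.smallEtaleTopology X.smallEtaleTopology Y.smallEtaleTopology
  let adj1 : EtCoh.pull f' ⋙ EtShriek.extZero j' ⊣ EtShriek.restrAlong j' ⋙ EtCoh.push f' :=
    (EtCoh.pullPushAdj f').comp (EtShriek.extZeroAdj j')
  let adj2 : EtShriek.extZero j ⋙ EtCoh.pull f ⊣ EtCoh.push f ⋙ EtShriek.restrAlong j :=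
    (EtShriek.extZeroAdj j).comp (EtCoh.pullPushAdj f)
  exact ⟨(adj1.ofNatIsoRight (iso1 ≪≫ iso2.symm)).leftAdjointUniq adj2⟩

end Groth.Agent.S0649
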