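import Groth.Statements.S0652
import Mathlib
import Groth.Agent.H4.SuppClosed2
import Groth.Agent.S0067
import Groth.Agent.S0651

set_option autoImplicit false
open CategoryTheory CategoryTheory.Limits AlgebraicGeometry Opposite
universe u
open EtCore

namespace Groth.Agent.S0652


open Groth.Agent.H4

/-- For an open immersion j : U -> X and an abelian sheaf F on the small etale site of U, an abelian
sheaf G on X is isomorphic to j_! F as soon as G restricts to a sheaf isomorphic to F on U and has
vanishing stalks at every geometric point of X not in U. (Continuity of the composition functor of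
etale sites, which always holds, is carried as an instance hypothesis.) -/
theorem result {U X : Scheme.{u}} (j : U ⟶ X) [IsOpenImmersion j]
    [AlgebraicGeometry.Etale j] [EtShriek.JCont j] (F : EtCoh.Ab U) (G : EtCoh.Ab X)
    (hres : Nonempty ((EtShriek.restrAlong j).obj G ≅ F))
    (hzero : ∀ (Ω : Type u) [Field Ω] [IsSepClosed Ω] (ξ : Spec (CommRingCat.of Ω) ⟶ X),
      Set.range ξ.base ⊆ (Set.range j.base)ᶜ → IsZero ((EtCoh.stalk ξ).obj G)) :
    Nonempty (G ≅ (EtShriek.extZero j).obj F) := by
  obtain ⟨e⟩ := hres
  obtain ⟨Z, i, hi, hZ⟩ := exists_closedImmersion_compl (Set.range j.base)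
    j.isOpenEmbedding.isOpen_range
  haveI := hi
  have hZU : Set.range j.base = (Set.range i.base)ᶜ := by rw [hZ, compl_compl]
  have hG : IsZero ((EtCoh.pull i).obj G) := by
    apply isZero_of_stalks
    intro Ω _ _ ζ
    obtain ⟨e'⟩ := Groth.Agent.S0100.result i G ζ
    refine IsZero.of_iso ?_ e'
    apply hzero Ω (ζ ≫ i)
    rintro _ ⟨a, rfl⟩
    have h1 : (ζ ≫ i).base a ∈ Set.range i.base := ⟨ζ.base a, rfl⟩
    rw [hZ] at h1
    exact h1
  haveI := isIso_extZero_counit i j hZU G hG
  exact ⟨(asIso ((EtShriek.extZeroAdj j).counit.app G)).symm ≪≫ (EtShriek.extZero j).mapIso e⟩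

end Groth.Agent.S0652
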