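import Groth.Statements.S0653
import Mathlib
import Groth.Agent.S0649
import Groth.Agent.S0671
import Groth.Agent.S0100
import Groth.Agent.H4.SuppClosed2
import Groth.Agent.H4.EtaleRes

set_option autoImplicit false
open CategoryTheory CategoryTheory.Limits AlgebraicGeometry Opposite
universe u
open EtCore

namespace Groth.Agent.S0653

open Groth.Agent.H4 Groth.Agent.S19885

set_option backward.isDefEq.respectTransparency.types false in
/-- Stalks of a direct image along a universally closed morphism vanish as soon as the stalks of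
the sheaf vanish at all geometric points over the given one. -/
theorem isZero_stalk_push {X Y : Scheme.{u}} (f : X ⟶ Y) [UniversallyClosed f] (H : EtCoh.Ab X)
    {Ω : Type u} [Field Ω] [IsSepClosed Ω] (ξ : Spec (CommRingCat.of Ω) ⟶ Y)
    (hH : ∀ (Ω' : Type u) [Field Ω'] [IsSepClosed Ω'] (ξ' : Spec (CommRingCat.of Ω') ⟶ X),
      f.base (ξ'.base (default : Spec (CommRingCat.of Ω'))) =
        ξ.base (default : Spec (CommRingCat.of Ω)) →
      IsZero ((EtCoh.stalk ξ').obj H)) :
    IsZero ((EtCoh.stalk ξ).obj ((EtCoh.push f).obj H)) := by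
  let P := (EtCoh.push f).obj H
  suffices hsub : ∀ t : (EtCoh.stalk ξ).obj P, t = 0 by
    haveI : Subsingleton ((EtCoh.stalk ξ).obj P) :=
      ⟨fun a b => (hsub a).trans (hsub b).symm⟩
    exact AddCommGrpCat.isZero_of_subsingleton _
  intro t
  obtain ⟨W, τ, s, rfl⟩ :=
    (Scheme.pointSmallEtale ξ).toPresheafFiber_jointly_surjective (P := P.obj) t
  let XW : X.Etale := (EtCoh.bc f).obj W
  let s' : H.obj.obj (op XW) := s
  let T : Set XW.left := EtShriek.sectSupp H XW s'
  have hT : IsClosed T := (Groth.Agent.S0671.result H).1 XW s'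
  let fW : XW.left ⟶ W.left := pullback.fst W.hom f
  have hfWc : IsClosedMap fW.base := by
    haveI : UniversallyClosed fW := (inferInstance : UniversallyClosed (pullback.fst W.hom f))
    exact fW.isClosedMap
  have hB : IsClosed (fW.base '' T) := hfWc _ hT
  have hw : τ.left.base (default : Spec (CommRingCat.of Ω)) ∉ fW.base '' T := by
    rintro ⟨x, hxT, hxw⟩
    obtain ⟨Ω', hΩ', hΩ'', ξ', t', ht'⟩ := exists_geometric_point XW x
    have hcentre : f.base (ξ'.base (default : Spec (CommRingCat.of Ω'))) =
        ξ.base (default : Spec (CommRingCat.of Ω)) := by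
      have h2 : t'.left ≫ XW.hom = ξ' := Over.w t'
      have h3 : τ.left ≫ W.hom = ξ := Over.w τ
      have hc : XW.hom ≫ f = fW ≫ W.hom := (pullback.condition (f := W.hom) (g := f)).symm
      have e1 : (t'.left ≫ XW.hom) ≫ f = (t'.left ≫ fW) ≫ W.hom :=
        (Category.assoc _ _ _).trans
          ((congrArg (fun q => t'.left ≫ q) hc).trans (Category.assoc _ _ _).symm)
      have e0 : f.base (ξ'.base (default : Spec (CommRingCat.of Ω'))) =
          f.base ((t'.left ≫ XW.hom).base (default : Spec (CommRingCat.of Ω'))) :=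
        congrArg (fun q : Spec (CommRingCat.of Ω') ⟶ X =>
          f.base (q.base (default : Spec (CommRingCat.of Ω')))) h2.symm
      have e2 : f.base ((t'.left ≫ XW.hom).base (default : Spec (CommRingCat.of Ω'))) =
          W.hom.base (fW.base (t'.left.base (default : Spec (CommRingCat.of Ω')))) :=
        congrArg (fun q : Spec (CommRingCat.of Ω') ⟶ Y =>
          q.base (default : Spec (CommRingCat.of Ω'))) e1
      have e3 : W.hom.base (τ.left.base (default : Spec (CommRingCat.of Ω))) =
          ξ.base (default : Spec (CommRingCat.of Ω)) :=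
        congrArg (fun q : Spec (CommRingCat.of Ω) ⟶ Y =>
          q.base (default : Spec (CommRingCat.of Ω))) h3
      rw [e0, e2, ht', hxw, e3]
    have hz := hH Ω' ξ' hcentre
    have hss := AddCommGrpCat.subsingleton_of_isZero hz
    have h1 : (Scheme.pointSmallEtale ξ').toPresheafFiber XW t' H.obj s' =
        (Scheme.pointSmallEtale ξ').toPresheafFiber XW t' H.obj 0 :=
      @Subsingleton.elim _ hss _ _
    obtain ⟨V, g, v, hv, hg⟩ :=
      ((Scheme.pointSmallEtale ξ').toPresheafFiber_eq_iff' XW t' s' 0).1 h1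
    refine hxT V g ⟨v.left.base (default : Spec (CommRingCat.of Ω')), ?_⟩ ?_
    · rw [← ht', ← hv]
      rfl
    · rw [hg, map_zero]
  let O : W.left.Opens := ⟨(fW.base '' T)ᶜ, hB.isOpen_compl⟩
  have hwO : τ.left.base (default : Spec (CommRingCat.of Ω)) ∈ O := hw
  obtain ⟨τ', hτ'⟩ := exists_res_lift ξ W O τ hwO
  have hzero : P.obj.map (resMap W O).op s = 0 := by
    show H.obj.map ((EtCoh.bc f).map (resMap W O)).op s' = 0
    apply eq_of_locally_eq H ((EtCoh.bc f).obj (res W O))
    intro b
    obtain ⟨Ω'', hΩ1, hΩ2, ξ'', tb, htb⟩ :=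
      exists_geometric_point ((EtCoh.bc f).obj (res W O)) b
    let m : (EtCoh.bc f).obj (res W O) ⟶ XW := (EtCoh.bc f).map (resMap W O)
    let τx : (Scheme.pointSmallEtale ξ'').fiber.obj XW :=
      (Scheme.pointSmallEtale ξ'').fiber.map m tb
    have hτxb : τx.left.base (default : Spec (CommRingCat.of Ω'')) = m.left.base b := by
      rw [← htb]
      rfl
    have hx : τx.left.base (default : Spec (CommRingCat.of Ω'')) ∉ T := by
      intro hxT
      have hin : fW.base (τx.left.base (default : Spec (CommRingCat.of Ω''))) ∈ fW.base '' T :=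
        ⟨_, hxT, rfl⟩
      have hmem : fW.base (τx.left.base (default : Spec (CommRingCat.of Ω''))) ∈ O := by
        have e : m.left ≫ fW = pullback.fst (res W O).hom f ≫ (resMap W O).left :=
          bc_map_fst f (resMap W O)
        have e' : fW.base (m.left.base b) =
            (resMap W O).left.base ((pullback.fst (res W O).hom f).base b) :=
          congrArg (fun q : ((EtCoh.bc f).obj (res W O)).left ⟶ W.left => q.base b) e
        rw [hτxb, e', resMap_left]
        have hr : O.ι.base ((pullback.fst (res W O).hom f).base b) ∈ Set.range O.ι.base :=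
          ⟨_, rfl⟩
        rwa [Scheme.Opens.range_ι] at hr
      exact hmem hin
    have hx' : ¬ ∀ (N : X.Etale) (g : N ⟶ XW),
        (∃ n : N.left, g.left.base n = τx.left.base (default : Spec (CommRingCat.of Ω''))) →
        H.obj.map g.op s' ≠ 0 := hx
    push Not at hx'
    obtain ⟨N, g, ⟨n, hn⟩, h0⟩ := hx'
    obtain ⟨τN, hτN, -⟩ := exists_fiber_lift ξ'' g τx n hn
    have a1 : (Scheme.pointSmallEtale ξ'').toPresheafFiber _ tb H.obj (H.obj.map m.op s') =
        (Scheme.pointSmallEtale ξ'').toPresheafFiber XW τx H.obj s' :=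
      GrothendieckTopology.Point.toPresheafFiber_w_apply _ m tb H.obj s'
    have a2 : (Scheme.pointSmallEtale ξ'').toPresheafFiber N τN H.obj (H.obj.map g.op s') =
        (Scheme.pointSmallEtale ξ'').toPresheafFiber XW τx H.obj s' := by
      rw [← hτN]
      exact GrothendieckTopology.Point.toPresheafFiber_w_apply _ g τN H.obj s'
    have h1 : (Scheme.pointSmallEtale ξ'').toPresheafFiber _ tb H.obj (H.obj.map m.op s') =
        (Scheme.pointSmallEtale ξ'').toPresheafFiber _ tb H.obj 0 := by
      rw [a1, ← a2, h0, map_zero, map_zero]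
    obtain ⟨V', g', v', hv', hg'⟩ :=
      ((Scheme.pointSmallEtale ξ'').toPresheafFiber_eq_iff' _ tb _ 0).1 h1
    refine ⟨V', g', v'.left.base (default : Spec (CommRingCat.of Ω'')), ?_, hg'⟩
    rw [← htb, ← hv']
    rfl
  have hfin : (Scheme.pointSmallEtale ξ).toPresheafFiber W τ P.obj s =
      (Scheme.pointSmallEtale ξ).toPresheafFiber (res W O) τ' P.obj
        (P.obj.map (resMap W O).op s) := by
    rw [← hτ']
    exact (GrothendieckTopology.Point.toPresheafFiber_w_apply _ (resMap W O) τ' P.obj s).symm
  rw [hfin, hzero]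
  exact map_zero _

/-- Consider a cartesian square U = X x_Y V with f : X -> Y finite, j : V -> Y an open immersion, j' : U
-> X and g : U -> V the projections. Then for every abelian sheaf F on the small etale site of U,
f_* j'_! F is isomorphic to j_! g_* F. (The source also asserts functoriality in F; only the
objectwise isomorphism is stated.) (Continuity of the composition functor of etale sites, which
always holds, is carried as an instance hypothesis.) -/
theorem result {U X V Y : Scheme.{u}} (f : X ⟶ Y) [IsFinite f] (j : V ⟶ Y)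
    [IsOpenImmersion j] [AlgebraicGeometry.Etale j] [EtShriek.JCont j] (j' : U ⟶ X) [IsOpenImmersion j']
    [AlgebraicGeometry.Etale j'] [EtShriek.JCont j'] (g : U ⟶ V) (h : IsPullback j' g f j) (F : EtCoh.Ab U) :
    Nonempty ((EtCoh.push f).obj ((EtShriek.extZero j').obj F) ≅ (EtShriek.extZero j).obj ((EtCoh.push g).obj F)) := by
  haveI : UniversallyClosed f := inferInstance
  obtain ⟨Z, i, hi, hZ⟩ := exists_closedImmersion_compl (Set.range j.base)
    j.isOpenEmbedding.isOpen_range
  haveI := hi
  have hZU : Set.range j.base = (Set.range i.base)ᶜ := by rw [hZ, compl_compl]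
  obtain ⟨Z', i', hi', hZ'⟩ := exists_closedImmersion_compl (Set.range j'.base)
    j'.isOpenEmbedding.isOpen_range
  haveI := hi'
  have hZU' : Set.range j'.base = (Set.range i'.base)ᶜ := by rw [hZ', compl_compl]
  let G := (EtCoh.push f).obj ((EtShriek.extZero j').obj F)
  have hG : IsZero ((EtCoh.pull i).obj G) := by
    apply isZero_of_stalks
    intro Ω _ _ ζ
    obtain ⟨e⟩ := Groth.Agent.S0100.result i G ζ
    refine IsZero.of_iso ?_ e
    apply isZero_stalk_push f _ (ζ ≫ i)
    intro Ω' _ _ ξ' hξ'
    have hnot : ξ'.base (default : Spec (CommRingCat.of Ω')) ∈ Set.range i'.base := by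
      rw [hZ']
      rintro ⟨u, hu⟩
      have h1 : f.base (ξ'.base (default : Spec (CommRingCat.of Ω'))) ∈ Set.range i.base := by
        rw [hξ']
        exact ⟨ζ.base (default : Spec (CommRingCat.of Ω)), rfl⟩
      rw [hZ] at h1
      apply h1
      refine ⟨g.base u, ?_⟩
      rw [← hu]
      exact congrArg (fun q : U ⟶ Y => q.base u) h.w.symm
    obtain ⟨ζ', hζ'⟩ := exists_lift_closedImmersion i' ξ' hnot
    subst hζ'
    obtain ⟨e'⟩ := Groth.Agent.S0100.result i' ((EtShriek.extZero j').obj F) ζ'
    exact IsZero.of_iso (isZero_stalk_of_isZero (isZero_pull_extZero i' j' hZU' F) ζ') e'.symm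
  haveI := isIso_extZero_counit i j hZU G hG
  haveI : (EtShriek.compEtale j ⋙ EtCoh.bc f).IsContinuous V.smallEtaleTopology
      X.smallEtaleTopology :=
    Functor.isContinuous_comp (EtShriek.compEtale j) (EtCoh.bc f) V.smallEtaleTopology
      Y.smallEtaleTopology X.smallEtaleTopology
  let iso1 : EtShriek.restrAlong j' ⋙ EtCoh.push g ≅
      (EtShriek.compEtale j ⋙ EtCoh.bc f).sheafPushforwardContinuous AddCommGrpCat.{u+1}
        V.smallEtaleTopology X.smallEtaleTopology :=
    Functor.sheafPushforwardContinuousComp' (F := EtCoh.bc g) (G := EtShriek.compEtale j')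
      (FG := EtShriek.compEtale j ⋙ EtCoh.bc f) (Groth.Agent.S0649.siteIso j f j' g h)
      AddCommGrpCat.{u+1} V.smallEtaleTopology U.smallEtaleTopology X.smallEtaleTopology
  let iso2 : EtCoh.push f ⋙ EtShriek.restrAlong j ≅
      (EtShriek.compEtale j ⋙ EtCoh.bc f).sheafPushforwardContinuous AddCommGrpCat.{u+1}
        V.smallEtaleTopology X.smallEtaleTopology :=
    Functor.sheafPushforwardContinuousComp' (F := EtShriek.compEtale j) (G := EtCoh.bc f)
      (FG := EtShriek.compEtale j ⋙ EtCoh.bc f) (Iso.refl _) AddCommGrpCat.{u+1}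
      V.smallEtaleTopology Y.smallEtaleTopology X.smallEtaleTopology
  let E : EtCoh.push f ⋙ EtShriek.restrAlong j ≅ EtShriek.restrAlong j' ⋙ EtCoh.push g :=
    iso2 ≪≫ iso1.symm
  haveI : IsIso ((EtShriek.extZeroAdj j').unit.app F) := (Groth.Agent.S0651.result j' F).2
  let k : (EtShriek.restrAlong j).obj G ≅ (EtCoh.push g).obj F :=
    E.app ((EtShriek.extZero j').obj F) ≪≫
      (EtCoh.push g).mapIso (asIso ((EtShriek.extZeroAdj j').unit.app F)).symm
  exact ⟨(asIso ((EtShriek.extZeroAdj j).counit.app G)).symm ≪≫ (EtShriek.extZero j).mapIso k⟩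

end Groth.Agent.S0653
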