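import Groth.Statements.S0654
import Mathlib
import Groth.Agent.H4.SuppClosed2
import Groth.Agent.S0067
import Groth.Agent.S0651

set_option autoImplicit false
open CategoryTheory CategoryTheory.Limits AlgebraicGeometry Opposite
universe u
open EtCore

namespace Groth.Agent.S0654


open Groth.Agent.H4

/-- Let i : Z -> X be a closed immersion and j : U -> X the open immersion of the complement of its
image. For every abelian sheaf F on the small etale site of X, the counit j_! (F|_U) -> F followed
by the unit F -> i_* i^{-1} F composes to zero and the resulting three-term sequence is short exact.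
(Continuity of the composition functor of etale sites, which always holds, is carried as an instance
hypothesis.) -/
theorem result {Z X : Scheme.{u}} (i : Z ⟶ X) [IsClosedImmersion i]
    (U : X.Opens) (hU : (U : Set X) = (Set.range i.base)ᶜ) [AlgebraicGeometry.Etale U.ι] [EtShriek.JCont U.ι]
    (F : EtCoh.Ab X) :
    ∃ w : (EtShriek.extZeroAdj U.ι).counit.app F ≫ (EtCoh.pullPushAdj i).unit.app F = 0,
      (ShortComplex.mk _ _ w).ShortExact := by
  have hZU : Set.range U.ι.base = (Set.range i.base)ᶜ := by
    rw [← hU]
    exact Scheme.Opens.range_ι U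
  have w : (EtShriek.extZeroAdj U.ι).counit.app F ≫ (EtCoh.pullPushAdj i).unit.app F = 0 := by
    apply ((EtShriek.extZeroAdj U.ι).homEquiv _ _).injective
    exact (isZero_restr_push i U.ι hZU _).eq_of_tgt _ _
  refine ⟨w, ?_⟩
  -- exactness properties of `i^{-1}` and of restriction to `U`
  haveI hLi := Groth.Agent.H45.preservesFiniteLimits_pullAb i
  haveI : PreservesLimitsOfShape WalkingCospan (EtCoh.pull i) :=
    hLi.preservesFiniteLimits WalkingCospan
  haveI : (EtCoh.pull i).PreservesMonomorphisms :=
    preservesMonomorphisms_of_preservesLimitsOfShape (EtCoh.pull i)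
  haveI : PreservesFiniteColimits (EtCoh.pull i) := inferInstance
  haveI := (EtShriek.extZeroAdj U.ι).isRightAdjoint
  haveI := (restrPushAdj U.ι).isLeftAdjoint
  haveI : PreservesFiniteLimits (EtShriek.restrAlong U.ι) := inferInstance
  haveI : PreservesFiniteColimits (EtShriek.restrAlong U.ι) := inferInstance
  haveI : (EtShriek.restrAlong U.ι).PreservesEpimorphisms := inferInstance
  obtain ⟨hfull, hfaith⟩ := Groth.Agent.S0067.result i
  haveI := hfull
  haveI := hfaith
  -- restriction of the counit is an isomorphism
  haveI hF1 : IsIso ((EtShriek.restrAlong U.ι).map ((EtShriek.extZeroAdj U.ι).counit.app F)) := by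
    haveI : IsIso ((EtShriek.extZeroAdj U.ι).unit.app ((EtShriek.restrAlong U.ι).obj F)) :=
      (Groth.Agent.S0651.result U.ι ((EtShriek.restrAlong U.ι).obj F)).2
    have ht := (EtShriek.extZeroAdj U.ι).right_triangle_components F
    haveI : IsIso ((EtShriek.extZeroAdj U.ι).unit.app ((EtShriek.restrAlong U.ι).obj F) ≫
        (EtShriek.restrAlong U.ι).map ((EtShriek.extZeroAdj U.ι).counit.app F)) := by
      rw [ht]
      exact IsIso.id _
    exact IsIso.of_isIso_comp_left
      ((EtShriek.extZeroAdj U.ι).unit.app ((EtShriek.restrAlong U.ι).obj F)) _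
  -- inverse image of the unit is an isomorphism
  haveI hF2 : IsIso ((EtCoh.pull i).map ((EtCoh.pullPushAdj i).unit.app F)) := by
    have ht := (EtCoh.pullPushAdj i).left_triangle_components F
    haveI : IsIso ((EtCoh.pull i).map ((EtCoh.pullPushAdj i).unit.app F) ≫
        (EtCoh.pullPushAdj i).counit.app ((EtCoh.pull i).obj F)) := by
      rw [ht]
      exact IsIso.id _
    exact IsIso.of_isIso_comp_right _
      ((EtCoh.pullPushAdj i).counit.app ((EtCoh.pull i).obj F))
  have hz1 : IsZero ((EtCoh.pull i).obj ((EtShriek.extZero U.ι).obj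
      ((EtShriek.restrAlong U.ι).obj F))) := isZero_pull_extZero i U.ι hZU _
  have hz3 : IsZero ((EtShriek.restrAlong U.ι).obj ((EtCoh.push i).obj ((EtCoh.pull i).obj F))) :=
    isZero_restr_push i U.ι hZU _
  have hmono : Mono ((EtShriek.extZeroAdj U.ι).counit.app F) := by
    rw [Preadditive.mono_iff_isZero_kernel]
    apply isZero_of_pull_restr i U.ι hZU
    · exact IsZero.of_mono ((EtCoh.pull i).map (kernel.ι _)) hz1
    · refine IsZero.of_iso ?_ (PreservesKernel.iso (EtShriek.restrAlong U.ι) _)
      exact isZero_kernel_of_mono _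
  have hepi : Epi ((EtCoh.pullPushAdj i).unit.app F) := by
    rw [Preadditive.epi_iff_isZero_cokernel]
    apply isZero_of_pull_restr i U.ι hZU
    · refine IsZero.of_iso ?_ (PreservesCokernel.iso (EtCoh.pull i) _)
      exact isZero_cokernel_of_epi _
    · exact IsZero.of_epi ((EtShriek.restrAlong U.ι).map (cokernel.π _)) hz3
  have hexact : (ShortComplex.mk _ _ w).Exact := by
    rw [ShortComplex.exact_iff_isZero_homology]
    apply isZero_of_pull_restr i U.ι hZU
    · refine IsZero.of_iso ?_ ((ShortComplex.mk _ _ w).mapHomologyIso (EtCoh.pull i)).symm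
      rw [← ShortComplex.exact_iff_isZero_homology]
      rw [ShortComplex.exact_iff_mono _ (hz1.eq_of_src _ _)]
      exact inferInstanceAs (Mono ((EtCoh.pull i).map ((EtCoh.pullPushAdj i).unit.app F)))
    · refine IsZero.of_iso ?_
        ((ShortComplex.mk _ _ w).mapHomologyIso (EtShriek.restrAlong U.ι)).symm
      rw [← ShortComplex.exact_iff_isZero_homology]
      rw [ShortComplex.exact_iff_epi _ (hz3.eq_of_tgt _ _)]
      exact inferInstanceAs (Epi ((EtShriek.restrAlong U.ι).map
        ((EtShriek.extZeroAdj U.ι).counit.app F)))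
  exact ShortComplex.ShortExact.mk' hexact hmono hepi

end Groth.Agent.S0654
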