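import Groth.Statements.S0658
import Mathlib.RingTheory.Etale.Field
import Mathlib.RingTheory.RingHom.Etale
import Mathlib.RingTheory.KrullDimension.Zero
import Mathlib.AlgebraicGeometry.Artinian
import Mathlib.AlgebraicGeometry.Limits
import Mathlib.AlgebraicGeometry.Morphisms.Etale

set_option autoImplicit false
open CategoryTheory CategoryTheory.Limits AlgebraicGeometry Opposite
universe u
open EtCore

namespace Groth.Agent.S0658


/-- An étale algebra over a field with exactly one prime is a finite separable field extension. -/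
theorem exists_field_of_etale (k : Type u) [Field k] (B : Type u) [CommRing B] [Algebra k B]
    [Algebra.Etale k B] [Subsingleton (PrimeSpectrum B)] [Nontrivial B] :
    ∃ (L : Type u) (_ : Field L) (_ : Algebra k L) (_ : FiniteDimensional k L)
      (_ : Algebra.IsSeparable k L), Nonempty (B ≃ₐ[k] L) := by
  obtain ⟨m, hm⟩ := Ideal.exists_maximal B
  have := hm
  have hred : IsReduced B := Algebra.FormallyUnramified.isReduced_of_field k B
  have hfin : Module.Finite k B := Algebra.FormallyUnramified.finite_of_free k B
  have hbot : m = ⊥ := by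
    have h1 : nilradical B = 0 := nilradical_eq_zero B
    rw [nilradical_eq_sInf] at h1
    have h2 : sInf {J : Ideal B | J.IsPrime} = m := by
      apply le_antisymm
      · exact sInf_le hm.isPrime
      · apply le_sInf
        intro J hJ
        have hJm : (⟨J, hJ⟩ : PrimeSpectrum B) = ⟨m, hm.isPrime⟩ := Subsingleton.elim _ _
        exact (congrArg PrimeSpectrum.asIdeal hJm).ge
    rw [← h2, h1, Ideal.zero_eq_bot]
  refine ⟨B ⧸ m, Ideal.Quotient.field m, inferInstance, inferInstance, inferInstance, ⟨?_⟩⟩
  refine AlgEquiv.ofBijective (Ideal.Quotient.mkₐ k m) ⟨?_, Ideal.Quotient.mkₐ_surjective k m⟩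
  rw [injective_iff_map_eq_zero]
  intro x hx
  have hxm : x ∈ m := Ideal.Quotient.eq_zero_iff_mem.1 hx
  rwa [hbot, Ideal.mem_bot] at hxm

/-- Let k be a field and φ : U → Spec k a morphism of schemes. Then φ is étale if and only if U is
isomorphic over k to a disjoint union ∐ Spec K_i with each K_i a finite separable field extension of
k. -/
theorem result (k : Type u) [Field k] (U : Scheme.{u}) (φ : U ⟶ Spec (CommRingCat.of k)) :
    AlgebraicGeometry.Etale φ ↔
      ∃ (ι : Type u) (K : ι → Type u) (_ : ∀ i, Field (K i)) (_ : ∀ i, Algebra k (K i))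
        (_ : ∀ i, FiniteDimensional k (K i)) (_ : ∀ i, Algebra.IsSeparable k (K i))
        (e : (∐ fun i => Spec (CommRingCat.of (K i))) ≅ U),
        ∀ i, Sigma.ι (fun i => Spec (CommRingCat.of (K i))) i ≫ e.hom ≫ φ =
          Spec.map (CommRingCat.ofHom (algebraMap k (K i))) := by
  constructor
  · intro hφ
    have hk : IsAffineOpen (⊤ : (Spec (CommRingCat.of k)).Opens) := isAffineOpen_top _
    let ψ : ∀ V : U.Opens, CommRingCat.of k ⟶ Γ(U, V) := fun V =>
      (Scheme.ΓSpecIso (CommRingCat.of k)).inv ≫ φ.appLE ⊤ V (by simp)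
    have hψ : ∀ V : U.Opens, IsAffineOpen V → (ψ V).hom.Etale := by
      intro V hV
      have h1 := φ.etale_appLE hk hV (by simp)
      exact (RingHom.Etale.respectsIso.cancel_left_isIso _ _).2 h1
    have hψSpec : ∀ (V : U.Opens) (hV : IsAffineOpen V),
        hV.fromSpec ≫ φ = Spec.map (ψ V) := by
      intro V hV
      rw [← IsAffineOpen.SpecMap_appLE_fromSpec φ hk hV (by simp), IsAffineOpen.fromSpec_top,
        Scheme.isoSpec_Spec_inv, ← Spec.map_comp]
    have hArt : ∀ V : U.Opens, IsAffineOpen V → IsArtinianRing Γ(U, V) := by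
      intro V hV
      let := (ψ V).hom.toAlgebra
      have : Algebra.Etale k Γ(U, V) := hψ V hV
      have := Algebra.FormallyUnramified.finite_of_free k Γ(U, V)
      exact IsArtinianRing.of_finite k _
    have : IsLocallyArtinian U := ⟨fun V => hArt V.1 V.2⟩
    have hdisc : DiscreteTopology U := inferInstance
    let V : U → U.Opens := fun u => ⟨{u}, isOpen_discrete _⟩
    have hVaff : ∀ u, IsAffineOpen (V u) :=
      fun u => IsAffineOpen.of_subsingleton Set.subsingleton_singleton
    have hL : ∀ u : U, ∃ (L : Type u) (_ : Field L) (_ : Algebra k L) (_ : FiniteDimensional k L)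
        (_ : Algebra.IsSeparable k L) (e : Γ(U, V u) ≃+* L),
        e.toRingHom.comp (ψ (V u)).hom = algebraMap k L := by
      intro u
      let := (ψ (V u)).hom.toAlgebra
      have : Algebra.Etale k Γ(U, V u) := hψ (V u) (hVaff u)
      have hhomeo := (hVaff u).isoSpec.hom.homeomorph
      have : Subsingleton (PrimeSpectrum Γ(U, V u)) := by
        refine ⟨fun a b => hhomeo.symm.injective (Subtype.ext ?_)⟩
        have ha : (hhomeo.symm a).1 = u := (hhomeo.symm a).2
        have hb : (hhomeo.symm b).1 = u := (hhomeo.symm b).2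
        rw [ha, hb]
      have : Nonempty (PrimeSpectrum Γ(U, V u)) := ⟨hhomeo ⟨u, Set.mem_singleton u⟩⟩
      have : Nontrivial Γ(U, V u) := PrimeSpectrum.nonempty_iff_nontrivial.1 inferInstance
      obtain ⟨L, i1, i2, i3, i4, ⟨e⟩⟩ := exists_field_of_etale k Γ(U, V u)
      refine ⟨L, i1, i2, i3, i4, e.toRingEquiv, ?_⟩
      ext x
      exact e.commutes x
    choose L instF instA instFin instSep eL heL using hL
    let X : U → Scheme.{u} := fun u => Spec (CommRingCat.of (L u))
    let f : ∀ u, X u ⟶ U := fun u =>
      Spec.map (eL u).toCommRingCatIso.hom ≫ (hVaff u).fromSpec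
    have hfopen : ∀ u, IsOpenImmersion (f u) := fun u => by
      dsimp only [f]
      infer_instance
    have hrange : ∀ u, (f u).opensRange = V u := fun u => by
      dsimp only [f]
      rw [Scheme.Hom.opensRange_comp_of_isIso, IsAffineOpen.opensRange_fromSpec]
    have hcov : ⨆ u, (f u).opensRange = ⊤ := by
      simp only [hrange]
      ext x
      simp only [TopologicalSpace.Opens.coe_iSup, Set.mem_iUnion, SetLike.mem_coe,
        TopologicalSpace.Opens.coe_top, Set.mem_univ, iff_true]
      exact ⟨x, rfl⟩
    have hdisj : Pairwise (Function.onFun Disjoint fun u => (f u).opensRange) := by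
      intro i j hij
      simp only [Function.onFun, hrange]
      rw [← TopologicalSpace.Opens.coe_disjoint]
      show Disjoint ({i} : Set U) {j}
      simpa using hij
    have hiso : IsIso (Sigma.desc f) := by
      have h := nonempty_isColimit_cofanMk_of f hcov hdisj
      simpa only [Cofan.nonempty_isColimit_iff_isIso_sigmaDesc (Cofan.mk U f), cofan_mk_inj,
        Cofan.mk_pt] using h
    refine ⟨U, L, instF, instA, instFin, instSep, asIso (Sigma.desc f), ?_⟩
    intro u
    rw [asIso_hom, ← Category.assoc, Sigma.ι_desc]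
    dsimp only [f]
    rw [Category.assoc, hψSpec (V u) (hVaff u), ← Spec.map_comp]
    congr 1
    ext x
    exact congrArg (fun g => g x) (heL u)
  · rintro ⟨ι, K, instF, instA, instFin, instSep, e, he⟩
    have h1 : ∀ i, Etale (Spec.map (CommRingCat.ofHom (algebraMap k (K i)))) := by
      intro i
      rw [HasRingHomProperty.Spec_iff (P := @Etale)]
      show (algebraMap k (K i)).Etale
      rw [RingHom.etale_algebraMap]
      exact ⟨Algebra.FormallyEtale.of_isSeparable k (K i),
        Algebra.FinitePresentation.of_finiteType.mp inferInstance⟩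
    have h2 : Etale (e.hom ≫ φ) := by
      rw [IsZariskiLocalAtSource.iff_of_openCover (P := @Etale) (sigmaOpenCover _)]
      intro (i : ι)
      show Etale (Sigma.ι _ i ≫ e.hom ≫ φ)
      rw [he i]
      exact h1 i
    exact (MorphismProperty.cancel_left_of_respectsIso @Etale e.hom φ).1 h2

end Groth.Agent.S0658
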