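import Groth.Statements.S0660
import Mathlib.AlgebraicGeometry.Morphisms.Etale
import Mathlib.AlgebraicGeometry.Morphisms.IsIso
import Mathlib.AlgebraicGeometry.Morphisms.FormallyUnramified

set_option autoImplicit false
open CategoryTheory CategoryTheory.Limits AlgebraicGeometry Opposite
universe u
open EtCore

namespace Groth.Agent.S0660

set_option backward.isDefEq.respectTransparency.types false in
/-- A section of an étale morphism is an open immersion. -/
theorem isOpenImmersion_of_section {A B : Scheme.{u}} (s : A ⟶ B) (g : B ⟶ A) [Etale g]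
    (hs : s ≫ g = 𝟙 A) : IsOpenImmersion s := by
  have hP : MorphismProperty.HasOfPostcompProperty @IsOpenImmersion
      (@LocallyOfFiniteType ⊓ @FormallyUnramified) := by
    rw [MorphismProperty.hasOfPostcompProperty_iff_le_diagonal]
    intro X Y f ⟨hft, hfu⟩
    exact inferInstanceAs <| IsOpenImmersion (pullback.diagonal f)
  have h1 : IsOpenImmersion (s ≫ g) := by rw [hs]; infer_instance
  exact MorphismProperty.of_postcomp (W := @IsOpenImmersion)
    (W' := @LocallyOfFiniteType ⊓ @FormallyUnramified) s g ⟨inferInstance, inferInstance⟩ h1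


/-- Scheme-level core of the statement. -/
theorem core {Z X : Scheme.{u}} (i : Z ⟶ X) [IsClosedImmersion i] {A A' : Scheme.{u}}
    (f : A ⟶ X) (f' : A' ⟶ X) [Etale f] [Etale f']
    (hl : pullback f i ⟶ pullback f' i)
    (hw : hl ≫ pullback.snd f' i = pullback.snd f i) :
    ∃ (W : Scheme.{u}) (w : W ⟶ X) (_ : Etale w) (a : W ⟶ A) (b : W ⟶ A')
      (ha : a ≫ f = w) (hb : b ≫ f' = w),
      IsIso (pullback.lift (pullback.fst w i ≫ a) (pullback.snd w i)
        (by rw [Category.assoc, ha, pullback.condition]) : pullback w i ⟶ pullback f i) ∧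
      (pullback.lift (pullback.fst w i ≫ a) (pullback.snd w i)
        (by rw [Category.assoc, ha, pullback.condition]) : pullback w i ⟶ pullback f i) ≫ hl =
      (pullback.lift (pullback.fst w i ≫ b) (pullback.snd w i)
        (by rw [Category.assoc, hb, pullback.condition]) : pullback w i ⟶ pullback f' i) := by
  -- notation
  let P : Scheme.{u} := pullback f f'
  let p1 : P ⟶ A := pullback.fst f f'
  let p2 : P ⟶ A' := pullback.snd f f'
  let pX : P ⟶ X := p1 ≫ f
  have hp2 : p2 ≫ f' = pX := (pullback.condition (f := f) (g := f')).symm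
  let UZ : Scheme.{u} := pullback f i
  let U'Z : Scheme.{u} := pullback f' i
  let γ : UZ ⟶ P := pullback.lift (pullback.fst f i) (hl ≫ pullback.fst f' i) (by
    rw [Category.assoc, pullback.condition (f := f'), ← Category.assoc, hw, pullback.condition])
  have hγ1 : γ ≫ p1 = pullback.fst f i := pullback.lift_fst _ _ _
  have hγ2 : γ ≫ p2 = hl ≫ pullback.fst f' i := pullback.lift_snd _ _ _
  have hγX : γ ≫ pX = pullback.snd f i ≫ i := by
    rw [← Category.assoc, hγ1, pullback.condition]
  let PZ : Scheme.{u} := pullback pX i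
  let j : PZ ⟶ P := pullback.fst pX i
  let Γ : UZ ⟶ PZ := pullback.lift γ (pullback.snd f i) hγX
  have hΓj : Γ ≫ j = γ := pullback.lift_fst _ _ _
  have hΓs : Γ ≫ pullback.snd pX i = pullback.snd f i := pullback.lift_snd _ _ _
  let pr : PZ ⟶ UZ := pullback.lift (j ≫ p1) (pullback.snd pX i) (by
    rw [Category.assoc]; exact pullback.condition)
  have hpr1 : pr ≫ pullback.fst f i = j ≫ p1 := pullback.lift_fst _ _ _
  have hpr2 : pr ≫ pullback.snd f i = pullback.snd pX i := pullback.lift_snd _ _ _
  have hΓpr : Γ ≫ pr = 𝟙 UZ := by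
    apply pullback.hom_ext
    · rw [Category.assoc, hpr1, ← Category.assoc, hΓj, hγ1, Category.id_comp]
    · rw [Category.assoc, hpr2, hΓs, Category.id_comp]
  have : Etale pr := by
    have : Etale (pr ≫ pullback.snd f i) := by rw [hpr2]; infer_instance
    exact Etale.of_comp pr (pullback.snd f i)
  have hΓopen : IsOpenImmersion Γ := isOpenImmersion_of_section Γ pr hΓpr
  -- the open subset of P
  have hjcl : Topology.IsClosedEmbedding j := j.isClosedEmbedding
  let Oset : Set P := (j '' (Set.range Γ)ᶜ)ᶜ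
  have hOopen : IsOpen Oset := by
    rw [isOpen_compl_iff]
    apply hjcl.isClosedMap
    rw [isClosed_compl_iff]
    exact Γ.isOpenEmbedding.isOpen_range
  let O : P.Opens := ⟨Oset, hOopen⟩
  have hOmem : ∀ y : PZ, j y ∈ O ↔ y ∈ Set.range Γ := by
    intro y
    change j y ∈ Oset ↔ _
    simp only [Oset, Set.mem_compl_iff, Set.mem_image, not_exists, not_and]
    constructor
    · intro hy
      by_contra hn
      exact hy y hn rfl
    · intro hy z hz hzy
      rw [hjcl.injective hzy] at hz
      exact hz hy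
  -- the étale X-scheme W
  let w : (O : Scheme.{u}) ⟶ X := O.ι ≫ pX
  let a : (O : Scheme.{u}) ⟶ A := O.ι ≫ p1
  let b : (O : Scheme.{u}) ⟶ A' := O.ι ≫ p2
  have ha : a ≫ f = w := by simp only [a, w, pX, Category.assoc]
  have hb : b ≫ f' = w := by simp only [b, w, Category.assoc, hp2]
  have hwet : Etale w := by infer_instance
  refine ⟨O, w, hwet, a, b, ha, hb, ?_⟩
  let WZ : Scheme.{u} := pullback w i
  let fstW : WZ ⟶ O := pullback.fst w i
  set aZ : WZ ⟶ UZ := pullback.lift (pullback.fst w i ≫ a) (pullback.snd w i)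
        (by rw [Category.assoc, ha, pullback.condition]) with haZ
  set bZ : WZ ⟶ U'Z := pullback.lift (pullback.fst w i ≫ b) (pullback.snd w i)
        (by rw [Category.assoc, hb, pullback.condition]) with hbZ
  have haZ1 : aZ ≫ pullback.fst f i = fstW ≫ a := pullback.lift_fst _ _ _
  have haZ2 : aZ ≫ pullback.snd f i = pullback.snd w i := pullback.lift_snd _ _ _
  have hbZ1 : bZ ≫ pullback.fst f' i = fstW ≫ b := pullback.lift_fst _ _ _
  have hbZ2 : bZ ≫ pullback.snd f' i = pullback.snd w i := pullback.lift_snd _ _ _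
  -- γ factors through O
  have hrange : Set.range γ ⊆ Set.range O.ι := by
    rintro _ ⟨x, rfl⟩
    rw [Scheme.Opens.range_ι]
    have h1 : γ x = j (Γ x) := by
      rw [← Scheme.Hom.comp_apply, hΓj]
    rw [h1]
    exact (hOmem (Γ x)).2 ⟨x, rfl⟩
  let γO : UZ ⟶ O := IsOpenImmersion.lift O.ι γ hrange
  have hγO : γO ≫ O.ι = γ := IsOpenImmersion.lift_fac _ _ _
  let σ : UZ ⟶ WZ := pullback.lift γO (pullback.snd f i) (by
    simp only [w]
    rw [← Category.assoc, hγO, hγX])
  have hσ1 : σ ≫ fstW = γO := pullback.lift_fst _ _ _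
  have hσ2 : σ ≫ pullback.snd w i = pullback.snd f i := pullback.lift_snd _ _ _
  have hσa : σ ≫ aZ = 𝟙 UZ := by
    apply pullback.hom_ext
    · rw [Category.assoc, haZ1, ← Category.assoc, hσ1, Category.id_comp]
      simp only [a]
      rw [← Category.assoc, hγO, hγ1]
    · rw [Category.assoc, haZ2, hσ2, Category.id_comp]
  have : Etale aZ := by
    have : Etale (aZ ≫ pullback.snd f i) := by rw [haZ2]; infer_instance
    exact Etale.of_comp aZ (pullback.snd f i)
  have hσopen : IsOpenImmersion σ := isOpenImmersion_of_section σ aZ hσa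
  -- the map WZ → PZ
  let k : WZ ⟶ PZ := pullback.lift (fstW ≫ O.ι) (pullback.snd w i) (by
    rw [Category.assoc]; exact pullback.condition)
  have hk1 : k ≫ j = fstW ≫ O.ι := pullback.lift_fst _ _ _
  have hk2 : k ≫ pullback.snd pX i = pullback.snd w i := pullback.lift_snd _ _ _
  have hσk : σ ≫ k = Γ := by
    apply pullback.hom_ext
    · rw [Category.assoc, hk1, ← Category.assoc, hσ1, hγO]; exact hΓj.symm
    · rw [Category.assoc, hk2, hσ2]; exact hΓs.symm
  have hkinj : Function.Injective k := by
    intro x x' hxx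
    have h1 : (k ≫ j) x = (k ≫ j) x' := by
      rw [Scheme.Hom.comp_apply, Scheme.Hom.comp_apply, hxx]
    rw [hk1, Scheme.Hom.comp_apply, Scheme.Hom.comp_apply] at h1
    have h2 : fstW x = fstW x' := O.ι.isOpenEmbedding.injective h1
    exact fstW.isClosedEmbedding.injective h2
  have hσsurj : Function.Surjective σ := by
    intro x
    have h1 : j (k x) ∈ O := by
      rw [← Scheme.Hom.comp_apply, hk1, Scheme.Hom.comp_apply]
      exact (fstW x).2
    obtain ⟨y, hy⟩ := (hOmem (k x)).1 h1
    refine ⟨y, hkinj ?_⟩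
    rw [← Scheme.Hom.comp_apply, hσk, hy]
  have hσiso : IsIso σ := by
    rw [isIso_iff_isOpenImmersion_and_surjective]
    exact ⟨hσopen, ⟨hσsurj⟩⟩
  have haZinv : aZ = inv σ := IsIso.eq_inv_of_hom_inv_id hσa
  refine ⟨?_, ?_⟩
  · rw [haZinv]; infer_instance
  · rw [← cancel_epi σ, ← Category.assoc, hσa, Category.id_comp]
    apply pullback.hom_ext
    · rw [Category.assoc, hbZ1, ← Category.assoc, hσ1]
      simp only [b]
      rw [← Category.assoc, hγO, hγ2]
    · rw [Category.assoc, hbZ2, hσ2, hw]

/-- Let i : Z -> X be a closed immersion, U and U' schemes etale over X, and h a Z-morphism from U x_X Z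
to U' x_X Z. Then there are an etale X-scheme W and X-morphisms a : W -> U, b : W -> U' such that
the base change of a to Z is an isomorphism and h is the base change of b composed with the inverse
of the base change of a. -/
theorem result {Z X : Scheme.{u}} (i : Z ⟶ X) [IsClosedImmersion i] (U U' : X.Etale)
    (h : (EtCoh.bc i).obj U ⟶ (EtCoh.bc i).obj U') :
    ∃ (W : X.Etale) (a : W ⟶ U) (b : W ⟶ U'), IsIso ((EtCoh.bc i).map a) ∧ (EtCoh.bc i).map a ≫ h = (EtCoh.bc i).map b := by
  obtain ⟨W, w, hwet, a, b, ha, hb, hiso, heq⟩ :=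
    core i U.hom U'.hom h.left (MorphismProperty.Over.w h)
  let W' : X.Etale := Scheme.Etale.mk w
  let a' : W' ⟶ U := MorphismProperty.Over.homMk a ha
  let b' : W' ⟶ U' := MorphismProperty.Over.homMk b hb
  refine ⟨W', a', b', ?_, ?_⟩
  · have h1 : IsIso ((Scheme.Etale.forget Z ⋙ Over.forget Z).map ((EtCoh.bc i).map a')) := hiso
    exact isIso_of_reflects_iso _ (Scheme.Etale.forget Z ⋙ Over.forget Z)
  · apply MorphismProperty.Over.Hom.ext
    exact heq

end Groth.Agent.S0660
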