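import Groth.Statements.S0666
import Groth.Agent.H45.ComplexDelta
import Groth.Agent.S0665
import Groth.Agent.H67.UCechC

set_option autoImplicit false
open CategoryTheory CategoryTheory.Limits Opposite
universe w v
open EtCore

namespace Groth.Agent.S0666

open Groth.Agent.H45.DeltaIso Groth.Agent.H45.ComplexDelta

section Lib

variable {C : Type w} [Category.{v} C] {U : C} [HasFiniteProducts (Over U)] {ι : Type w}
  (Uf : ι → Over U)

lemma piMap_add {α : Type w} {F G : α → AddCommGrpCat.{w}} (f g : ∀ a, F a ⟶ G a) :
    Limits.Pi.map (fun a => f a + g a) = Limits.Pi.map f + Limits.Pi.map g := by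
  apply Limits.Pi.hom_ext
  intro a
  rw [Preadditive.add_comp, Limits.Pi.map_π, Limits.Pi.map_π, Limits.Pi.map_π,
    Preadditive.comp_add]

instance additive_cechComplexFunctor :
    (cechComplexFunctor (A := AddCommGrpCat.{w}) Uf).Additive where
  map_add {P Q α β} := by
    apply HomologicalComplex.hom_ext
    intro n
    exact piMap_add (fun a => α.app _) (fun a => β.app _)

/-- The Čech complex functor on presheaves on `C`. -/
noncomputable abbrev K : (Cᵒᵖ ⥤ AddCommGrpCat.{w}) ⥤ CochainComplex AddCommGrpCat.{w} ℕ :=
  (Functor.whiskeringLeft (Over U)ᵒᵖ Cᵒᵖ AddCommGrpCat.{w}).obj (Over.forget U).op ⋙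
    cechComplexFunctor Uf

instance : (K Uf).Additive := by
  dsimp only [K]
  infer_instance

theorem K_shortExact (S : ShortComplex (Cᵒᵖ ⥤ AddCommGrpCat.{w})) (hS : S.ShortExact) :
    (S.map (K Uf)).ShortExact := by
  have h := Groth.Agent.H67.UCech.cx_shortExact Uf
    (S.map ((Functor.whiskeringLeft (Over U)ᵒᵖ Cᵒᵖ AddCommGrpCat.{w}).obj (Over.forget U).op))
    (fun n a => hS.map_of_exact
      ((evaluation Cᵒᵖ AddCommGrpCat.{w}).obj (op (∏ᶜ (Uf ∘ a)).left)))
  exact h

end Lib


/-- With C, U and the family (U_i -> U) as in the definition of the Cech complex, on the abelian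
category of abelian presheaves on C the p-th Cech cohomology functor is isomorphic to the p-th right
derived functor of the zeroth Cech cohomology functor (assuming, as binders, that the latter is
additive and that abelian presheaves have injective resolutions, which hold because C is taken
essentially small relative to the coefficient universe). -/
theorem result {C : Type w} [Category.{v} C] [EssentiallySmall.{w} C] {U : C} [HasFiniteProducts (Over U)]
    {ι : Type w} (Uf : ι → Over U) [(EtCech.cechHFunctor (C := C) Uf 0).Additive]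
    [HasInjectiveResolutions (Cᵒᵖ ⥤ AddCommGrpCat.{w})] (p : ℕ) :
    Nonempty (EtCech.cechHFunctor (C := C) Uf p ≅ (EtCech.cechHFunctor (C := C) Uf 0).rightDerived p) := by
  have : EnoughInjectives (Cᵒᵖ ⥤ AddCommGrpCat.{w}) := enoughInjectives _
  have hT : (complexDelta (K Uf) (K_shortExact Uf)).IsEffaceable :=
    complexDelta_isEffaceable (K Uf) (K_shortExact Uf)
      (fun I hI n => Groth.Agent.S0665.result Uf I n)
  have hlim : PreservesFiniteLimits (EtCech.cechHFunctor (C := C) Uf 0) := by
    rw [Functor.preservesFiniteLimits_iff_forall_exact_map_and_mono]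
    intro T hT
    have hC := K_shortExact Uf T hT
    constructor
    · exact hC.homology_exact₂ 0
    · have := hC.mono_f
      have h2 : Mono (((K Uf).map T.f).f 0) :=
        inferInstanceAs (Mono ((T.map (K Uf)).f.f 0))
      exact HomologicalComplex.mono_homologyMap_of_mono_of_not_rel
        ((K Uf).map T.f) 0 (fun i hi => by simp at hi)
  obtain ⟨e⟩ := nonempty_rightDerived_iso' (EtCech.cechHFunctor (C := C) Uf 0)
    (complexDelta (K Uf) (K_shortExact Uf)) hT (Iso.refl _) p
  exact ⟨e.symm⟩

end Groth.Agent.S0666
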