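import Groth.Statements.S0676
import Mathlib
import Groth.Agent.S9436

set_option autoImplicit false
open CategoryTheory CategoryTheory.Limits AlgebraicGeometry Opposite Topology
universe u
open ProEtW

namespace Groth.Agent.S0676


open TensorProduct

/-- A two-member family of types, used to form binary products as `Pi` types. -/
def Fam (S T : Type u) : Bool → Type u := fun b => cond b S T

section FamInst

variable (A : Type u) [CommRing A] (S T : Type u) [CommRing S] [CommRing T]
  [Algebra A S] [Algebra A T]

instance famCommRing (b : Bool) : CommRing (Fam S T b) :=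
  match b with
  | true => inferInstanceAs (CommRing S)
  | false => inferInstanceAs (CommRing T)

instance famAlgebra (b : Bool) : Algebra A (Fam S T b) :=
  match b with
  | true => inferInstanceAs (Algebra A S)
  | false => inferInstanceAs (Algebra A T)

instance famEtale [Algebra.Etale A S] [Algebra.Etale A T] (b : Bool) :
    Algebra.Etale A (Fam S T b) :=
  match b with
  | true => inferInstanceAs (Algebra.Etale A S)
  | false => inferInstanceAs (Algebra.Etale A T)

end FamInst

/-- If every faithfully flat etale A-algebra has an A-algebra retraction, then the same holds for the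
quotient ring A/I for every ideal I. -/
theorem result (A : Type u) [CommRing A]
    (h : ProEtW.HasEtaleRetractions A) (I : Ideal A) :
    ProEtW.HasEtaleRetractions (A ⧸ I) := by
  intro B _ _ hff het
  obtain ⟨S, _, _, hSet, ⟨e⟩⟩ := Groth.Agent.S9436.result A I B
  let ψ : S →+* B := (e : ((A ⧸ I) ⊗[A] S) →+* B).comp
    ((Algebra.TensorProduct.includeRight (R := A) (A := A ⧸ I) (B := S) :
      S →ₐ[A] (A ⧸ I) ⊗[A] S) : S →+* (A ⧸ I) ⊗[A] S)
  have hψ : ∀ a : A, ψ (algebraMap A S a) = algebraMap (A ⧸ I) B (Ideal.Quotient.mk I a) := by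
    intro a
    show e ((Algebra.TensorProduct.includeRight (R := A) (A := A ⧸ I) (B := S))
      (algebraMap A S a)) = _
    rw [AlgHom.commutes, IsScalarTower.algebraMap_apply A (A ⧸ I) ((A ⧸ I) ⊗[A] S),
      AlgEquiv.commutes]
    rfl
  have hopen : IsOpen (Set.range (PrimeSpectrum.comap (algebraMap A S))) :=
    (PrimeSpectrum.isOpenMap_comap_of_hasGoingDown_of_finitePresentation
      (R := A) (S := S)).isOpen_range
  have hVI : PrimeSpectrum.zeroLocus (I : Set A) ⊆
      Set.range (PrimeSpectrum.comap (algebraMap A S)) := by
    intro p hp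
    have h1 : p ∈ Set.range (PrimeSpectrum.comap (Ideal.Quotient.mk I)) := by
      rw [range_comap_of_surjective _ _ Ideal.Quotient.mk_surjective, Ideal.mk_ker]
      exact hp
    obtain ⟨pbar, rfl⟩ := h1
    obtain ⟨qB, rfl⟩ :=
      PrimeSpectrum.comap_surjective_of_faithfullyFlat (A := A ⧸ I) (B := B) pbar
    refine ⟨PrimeSpectrum.comap ψ qB, ?_⟩
    rw [← PrimeSpectrum.comap_comp_apply, ← PrimeSpectrum.comap_comp_apply]
    congr 1
    ext a
    exact hψ a
  obtain ⟨J, hJ⟩ := (PrimeSpectrum.isClosed_iff_zeroLocus_ideal _).1 hopen.isClosed_compl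
  have hIJ : I ⊔ J = ⊤ := by
    rw [← PrimeSpectrum.zeroLocus_empty_iff_eq_top, PrimeSpectrum.zeroLocus_sup, ← hJ,
      Set.eq_empty_iff_forall_notMem]
    rintro p ⟨hp1, hp2⟩
    exact hp2 (hVI hp1)
  obtain ⟨f, hfI, g, hgJ, hfg⟩ :=
    Submodule.mem_sup.1 (hIJ ▸ Submodule.mem_top : (1 : A) ∈ I ⊔ J)
  have hsurj : Function.Surjective
      (PrimeSpectrum.comap (algebraMap A (∀ b : Bool, Fam S (Localization.Away f) b))) := by
    intro p
    by_cases hfp : f ∈ p.asIdeal
    · have hp : p ∈ Set.range (PrimeSpectrum.comap (algebraMap A S)) := by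
        by_contra hnot
        have hpJ : p ∈ PrimeSpectrum.zeroLocus (J : Set A) := by rw [← hJ]; exact hnot
        have hgp : g ∈ p.asIdeal := hpJ hgJ
        have h1 : (1 : A) ∈ p.asIdeal := hfg ▸ p.asIdeal.add_mem hfp hgp
        exact p.isPrime.ne_top ((Ideal.eq_top_iff_one _).2 h1)
      obtain ⟨q, rfl⟩ := hp
      exact ⟨PrimeSpectrum.comap (Pi.evalRingHom (Fam S (Localization.Away f)) true) q,
        PrimeSpectrum.ext (Ideal.ext fun a => Iff.rfl)⟩
    · have hp : p ∈ Set.range (PrimeSpectrum.comap (algebraMap A (Localization.Away f))) := by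
        rw [PrimeSpectrum.localization_away_comap_range (Localization.Away f) f]
        exact hfp
      obtain ⟨q, rfl⟩ := hp
      exact ⟨PrimeSpectrum.comap (Pi.evalRingHom (Fam S (Localization.Away f)) false) q,
        PrimeSpectrum.ext (Ideal.ext fun a => Iff.rfl)⟩
  haveI : Module.FaithfullyFlat A (∀ b : Bool, Fam S (Localization.Away f) b) :=
    Module.FaithfullyFlat.of_comap_surjective hsurj
  obtain ⟨σ⟩ := h (∀ b : Bool, Fam S (Localization.Away f) b) inferInstance inferInstance
  -- the idempotent of the second factor dies in `A ⧸ I`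
  let x₀ : Fam S (Localization.Away f) false :=
    (IsLocalization.Away.invSelf (S := Localization.Away f) f : Localization.Away f)
  have hx₀ : algebraMap A (Fam S (Localization.Away f) false) f * x₀ = 1 :=
    IsLocalization.Away.mul_invSelf (S := Localization.Away f) f
  have h1 : Ideal.Quotient.mk I
      (σ (Pi.single false (1 : Fam S (Localization.Away f) false))) = 0 := by
    have hsm : (Pi.single false (1 : Fam S (Localization.Away f) false) :
        ∀ b : Bool, Fam S (Localization.Away f) b) = f • Pi.single false x₀ := by
      rw [← Pi.single_smul, Algebra.smul_def, hx₀]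
    rw [hsm, map_smul, smul_eq_mul]
    exact Ideal.Quotient.eq_zero_iff_mem.2 (I.mul_mem_right _ hfI)
  have h0 : Ideal.Quotient.mk I
      (σ (Pi.single true (1 : Fam S (Localization.Away f) true))) = 1 := by
    have hsum : (Pi.single true (1 : Fam S (Localization.Away f) true) :
        ∀ b : Bool, Fam S (Localization.Away f) b) +
        Pi.single false (1 : Fam S (Localization.Away f) false) = 1 := by
      funext b
      cases b <;> simp
    have := congrArg (fun x => Ideal.Quotient.mk I (σ x)) hsum
    simp only [map_add, map_one, h1, add_zero] at this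
    exact this
  let τ' : Fam S (Localization.Away f) true →ₐ[A] A ⧸ I :=
    { toFun := fun s => Ideal.Quotient.mk I (σ (Pi.single true s))
      map_one' := h0
      map_mul' := fun s s' => by rw [Pi.single_mul, map_mul, map_mul]
      map_zero' := by rw [Pi.single_zero, map_zero, map_zero]
      map_add' := fun s s' => by rw [Pi.single_add, map_add, map_add]
      commutes' := fun a => by
        have hsm : (Pi.single true (algebraMap A (Fam S (Localization.Away f) true) a) :
            ∀ b : Bool, Fam S (Localization.Away f) b) =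
            a • Pi.single true (1 : Fam S (Localization.Away f) true) := by
          rw [← Pi.single_smul, Algebra.smul_def, mul_one]
        show Ideal.Quotient.mk I (σ (Pi.single true
          (algebraMap A (Fam S (Localization.Away f) true) a))) = _
        rw [hsm, map_smul, smul_eq_mul, map_mul, h0, mul_one]
        rfl }
  let τ : S →ₐ[A] A ⧸ I := τ'
  exact ⟨(Algebra.TensorProduct.lift (AlgHom.id (A ⧸ I) (A ⧸ I)) τ
    (fun _ _ => Commute.all _ _)).comp e.symm.toAlgHom⟩

end Groth.Agent.S0676
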