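import Groth.Statements.S0702
import Groth.Agent.H4.ZeroDimOld

set_option autoImplicit false
open CategoryTheory CategoryTheory.Limits AlgebraicGeometry Opposite Topology
universe u
open ProEtW

namespace Groth.Agent.S0702

/-- Let Spec A be profinite and A -> B induce algebraic extensions of residue fields at all primes. Then
Spec B is profinite. -/
theorem result (A B : Type u) [CommRing A] [CommRing B]
    [Algebra A B] [T2Space (PrimeSpectrum A)] [TotallyDisconnectedSpace (PrimeSpectrum A)]
    (h : ProEtW.AlgebraicResidueExtensions A B) :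
    ProEtW.IsProfinite (PrimeSpectrum B) := by
  have hinc : ∀ q q' : PrimeSpectrum B, q.asIdeal ≤ q'.asIdeal → q = q' := by
    intro q q' hle
    -- the contraction of q is maximal
    have hmax : (q.asIdeal.comap (algebraMap A B)).IsMaximal := by
      have hcl : IsClosed ({PrimeSpectrum.comap (algebraMap A B) q} : Set (PrimeSpectrum A)) :=
        isClosed_singleton
      exact (PrimeSpectrum.isClosed_singleton_iff_isMaximal _).1 hcl
    haveI hqp : q.asIdeal.IsPrime := q.2
    have halg : Algebra.IsAlgebraic (A ⧸ q.asIdeal.comap (algebraMap A B)) (B ⧸ q.asIdeal) :=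
      h q.asIdeal
    have hF : IsField (A ⧸ q.asIdeal.comap (algebraMap A B)) :=
      (Ideal.Quotient.maximal_ideal_iff_isField_quotient _).1 hmax
    have hint : Algebra.IsIntegral (A ⧸ q.asIdeal.comap (algebraMap A B)) (B ⧸ q.asIdeal) :=
      @Algebra.IsAlgebraic.isIntegral _ _ hF.toField _ _ halg
    have hFB : IsField (B ⧸ q.asIdeal) := isField_of_isIntegral_of_isField' hF
    have hqmax : q.asIdeal.IsMaximal :=
      (Ideal.Quotient.maximal_ideal_iff_isField_quotient _).2 hFB
    exact PrimeSpectrum.ext (hqmax.eq_of_le q'.2.ne_top hle)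
  exact ⟨inferInstance, Groth.Agent.H4.t2Space_of_incomparable hinc,
    Groth.Agent.H4.totallyDisconnectedSpace_of_incomparable hinc⟩

end Groth.Agent.S0702
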