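import Groth.Statements.S0706
-- import your own Groth.Agent.* helpers here

set_option autoImplicit false
open CategoryTheory CategoryTheory.Limits AlgebraicGeometry Opposite Topology
universe u
open ProEtW

namespace Groth.Agent.S0706

/-- Let f be an element and I an ideal of A, and Z the intersection of D(f) and V(I) in Spec A. There is
a multiplicative subset S of A for which the image of Spec(S^{-1}A) in Spec A consists precisely of
the points having a specialization in Z. -/
theorem result (A : Type u) [CommRing A] (f : A) (I : Ideal A) :
    ∃ S : Submonoid A,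
      Set.range (PrimeSpectrum.comap (algebraMap A (Localization S))) =
        {x | ∃ z : PrimeSpectrum A,
          z ∈ (PrimeSpectrum.basicOpen f : Set (PrimeSpectrum A)) ∩ PrimeSpectrum.zeroLocus I ∧ x ⤳ z} := by
  classical
  -- S = elements lying outside every prime of Z
  let Z : Set (PrimeSpectrum A) :=
    (PrimeSpectrum.basicOpen f : Set (PrimeSpectrum A)) ∩ PrimeSpectrum.zeroLocus I
  let S : Submonoid A :=
    { carrier := {a | ∀ z ∈ Z, a ∉ z.asIdeal}
      one_mem' := fun z _ h => z.2.ne_top ((Ideal.eq_top_iff_one _).2 h)
      mul_mem' := fun {a b} ha hb z hz h => by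
        rcases z.2.mem_or_mem h with h | h
        · exact ha z hz h
        · exact hb z hz h }
  refine ⟨S, ?_⟩
  rw [PrimeSpectrum.localization_comap_range (Localization S) S]
  ext x
  simp only [Set.mem_ofPred_eq]
  constructor
  · intro hx
    -- the ideal x + I does not contain a power of f
    by_contra hcon
    push Not at hcon
    -- consider the ideal J = x ⊔ I; if no power of f is in J there is a prime containing J avoiding f
    have hdisj : Disjoint ((x.asIdeal ⊔ I : Ideal A) : Set A) (Submonoid.powers f : Set A) := by
      rw [Set.disjoint_left]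
      rintro a ha ⟨n, rfl⟩
      obtain ⟨b, hb, c, hc, hbc⟩ := Submodule.mem_sup.1 ha
      -- b = f^n - c ∈ x, and b ∈ S
      have hbS : b ∈ S := by
        intro z hz hbz
        have hfz : f ^ n ∈ z.asIdeal := by
          have hbc' : b + c = f ^ n := hbc
          rw [← hbc']
          exact z.asIdeal.add_mem hbz (hz.2 hc)
        exact hz.1 (z.2.mem_of_pow_mem n hfz)
      exact (Set.disjoint_left.1 hx) hbS hb
    obtain ⟨P, hP, hJP, hPf⟩ := Ideal.exists_le_prime_disjoint _ _ hdisj
    refine hcon ⟨P, hP⟩ ⟨?_, ?_⟩ ?_
    · show f ∉ P
      intro hf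
      exact (Set.disjoint_left.1 hPf) hf ⟨1, by simp⟩
    · intro a ha
      exact hJP (Ideal.mem_sup_right ha)
    · rw [← PrimeSpectrum.le_iff_specializes]
      intro a ha
      exact hJP (Ideal.mem_sup_left ha)
  · rintro ⟨z, hz, hxz⟩
    rw [Set.disjoint_left]
    intro a haS hax
    rw [← PrimeSpectrum.le_iff_specializes] at hxz
    exact haS z hz (hxz hax)

end Groth.Agent.S0706
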