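import Groth.Statements.S0708
import Mathlib
import Groth.Agent.H4.LocRetract

set_option autoImplicit false
open CategoryTheory CategoryTheory.Limits AlgebraicGeometry Opposite Topology
universe u
open ProEtW

namespace Groth.Agent.S0708

/-- Let A be a ring all of whose faithfully flat etale algebras have retractions, I an ideal with zero
set Z, and B a localization of A at a multiplicative subset such that the image of Spec B → Spec A
is precisely the set of points of Spec A specializing to some point of Z. Then every faithfully flat
etale B-algebra has a retraction. -/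
theorem result (A B : Type u) [CommRing A] [CommRing B]
    [Algebra A B] (S : Submonoid A) [IsLocalization S B] (I : Ideal A)
    (hB : Set.range (PrimeSpectrum.comap (algebraMap A B)) =
      {x | ∃ z : PrimeSpectrum A, z ∈ PrimeSpectrum.zeroLocus (R := A) I ∧ x ⤳ z})
    (hA : ProEtW.HasEtaleRetractions A) : ProEtW.HasEtaleRetractions B := by
  intro C _ _ hff het
  letI : Algebra A C := ((algebraMap B C).comp (algebraMap A B)).toAlgebra
  haveI : IsScalarTower A B C := IsScalarTower.of_algebraMap_eq (fun _ => rfl)
  haveI := het
  haveI := hff
  obtain ⟨D, _, _, hfp, ⟨e⟩⟩ := Groth.Agent.H4.LocRetract.descent A B S C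
  haveI := hfp
  haveI : Algebra.Etale B (TensorProduct A B D) := Algebra.Etale.of_equiv e.symm
  haveI : Module.FaithfullyFlat B (TensorProduct A B D) :=
    Module.FaithfullyFlat.of_linearEquiv B C e.toLinearEquiv
  obtain ⟨r⟩ := Groth.Agent.H4.LocRetract.main A B S I hB hA D
  exact ⟨r.comp e.symm.toAlgHom⟩

end Groth.Agent.S0708
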