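import Groth.Statements.S0729

set_option autoImplicit false
open CategoryTheory CategoryTheory.Limits AlgebraicGeometry Opposite
universe u
open ProEtS

namespace Groth.Agent.S0729

set_option backward.isDefEq.respectTransparency.types false in
noncomputable instance preservesFiniteLimits_eps (X : Scheme.{u}) :
    PreservesFiniteLimits (ProEtS.eps X) := by
  have h : PreservesFiniteLimits (ProEtS.eps X ⋙ Scheme.ProEt.forget X) := by
    let e : ProEtS.eps X ⋙ Scheme.ProEt.forget X ≅ Scheme.Etale.forget X :=
      NatIso.ofComponents (fun _ => Iso.refl _) (fun _ => by simp; rfl)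
    exact preservesFiniteLimits_of_natIso e.symm
  exact preservesFiniteLimits_of_reflects_of_preserves (ProEtS.eps X) (Scheme.ProEt.forget X)

noncomputable instance representablyFlat_eps (X : Scheme.{u}) : RepresentablyFlat (ProEtS.eps X) :=
  flat_of_preservesFiniteLimits _

set_option backward.isDefEq.respectTransparency.types false in
theorem coverPreserving_eps (X : Scheme.{u}) :
    CoverPreserving X.smallEtaleTopology (Scheme.ProEt.topology X) (ProEtS.eps X) := by
  constructor
  intro U S hS
  have eX : X.smallEtaleTopology =
      (X.smallPretopology (P := EtCoh.etaleMP) (Q := EtCoh.etaleMP)).toGrothendieck :=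
    Scheme.smallGrothendieckTopology_eq_toGrothendieck_smallPretopology X le_rfl
  rw [eX] at hS
  replace hS := (Scheme.mem_toGrothendieck_smallPretopology U S).1 hS
  choose V g v hg het hv using hS
  let R : Presieve ((ProEtS.eps X).obj U) :=
    Presieve.ofArrows (fun x : U.left => (ProEtS.eps X).obj (V x)) (fun x => (ProEtS.eps X).map (g x))
  have hR : R ∈ Scheme.ProEt.precoverage X ((ProEtS.eps X).obj U) := by
    simp only [R, Scheme.ProEt.precoverage, Precoverage.mem_comap_iff, Presieve.map_ofArrows]
    apply Scheme.etalePrecoverage_le_proetalePrecoverage
    show Presieve.ofArrows (fun x : U.left => (V x).left) (fun x => (g x).left) ∈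
      Scheme.precoverage @Etale U.left
    rw [Scheme.ofArrows_mem_precoverage_iff]
    exact ⟨fun x => ⟨x, v x, hv x⟩, fun x => het x⟩
  refine (Scheme.ProEt.topology X).superset_covering ?_
    (Precoverage.generate_mem_toGrothendieck hR)
  rw [Sieve.generate_le_iff]
  rintro _ _ ⟨x⟩
  exact Sieve.image_mem_functorPushforward _ _ (hg x)

/-- Every étale covering of a scheme X is a pro-étale covering, in the form used to define the
comparison morphism of sites ε : X_proét → X_ét: the inclusion functor from the small étale site of
X to the small pro-étale site of X is continuous. -/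
theorem result (X : Scheme.{u}) : ProEtS.EpsCont X := by
  exact Functor.isContinuous_of_coverPreserving (compatiblePreservingOfFlat _ _)
    (coverPreserving_eps X)

end Groth.Agent.S0729
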