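import Groth.Statements.S0738
import Groth.Agent.H4.SpectralClosed

set_option autoImplicit false
open Topology
universe u
open ProEtW

namespace Groth.Agent.S0738

/-- A closed subset of a w-local spectral space is w-local (with the subspace topology). -/
theorem result (X : Type u) [TopologicalSpace X] (hX : ProEtW.IsWLocal X)
    (Y : Set X) (hY : IsClosed Y) : ProEtW.IsWLocal ↥Y := by
  obtain ⟨hspec, hclosed, huniq⟩ := hX
  have hemb : Topology.IsClosedEmbedding (Subtype.val : Y → X) := hY.isClosedEmbedding_subtypeVal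
  have hpt : ∀ y : Y, IsClosed ({y} : Set Y) ↔ IsClosed ({(y : X)} : Set X) := by
    intro y
    rw [hemb.isClosed_iff_image_isClosed, Set.image_singleton]
  refine ⟨Groth.Agent.H4.spectralSpace_of_isClosedEmbedding hemb, ?_, ?_⟩
  · have : {y : Y | IsClosed ({y} : Set Y)} = Subtype.val ⁻¹' {x : X | IsClosed ({x} : Set X)} := by
      ext y
      simp only [Set.mem_ofPred_eq, Set.mem_preimage]
      exact hpt y
    rw [this]
    exact hclosed.preimage continuous_subtype_val
  · intro y
    obtain ⟨x, ⟨hx1, hx2⟩, hx3⟩ := huniq (y : X)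
    have hxY : x ∈ Y := hY.stableUnderSpecialization hx2 y.2
    refine ⟨⟨x, hxY⟩, ⟨(hpt _).2 hx1, (subtype_specializes_iff _ _).2 hx2⟩, ?_⟩
    rintro z ⟨hz1, hz2⟩
    apply Subtype.ext
    exact hx3 z.1 ⟨(hpt z).1 hz1, (subtype_specializes_iff _ _).1 hz2⟩

end Groth.Agent.S0738
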