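import Groth.Statements.S0742
import Mathlib

set_option autoImplicit false
open CategoryTheory CategoryTheory.Limits AlgebraicGeometry Opposite
universe u
open ProEtS

namespace Groth.Agent.S0742

set_option backward.isDefEq.respectTransparency.types false in
instance full_compP {U X : Scheme.{u}} (j : U ⟶ X) [hj : WeaklyEtale j] [Mono j] :
    (ProEtS.compP j).Full where
  map_surjective {V W} g := by
    have e : ((g.left : V.left ⟶ W.left) ≫ W.hom) ≫ j = V.hom ≫ j := by
      rw [Category.assoc]; exact MorphismProperty.Over.w g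
    exact ⟨MorphismProperty.Over.homMk g.left ((cancel_mono j).1 e),
      MorphismProperty.Over.Hom.ext rfl⟩

set_option backward.isDefEq.respectTransparency.types false in
instance faithful_compP {U X : Scheme.{u}} (j : U ⟶ X) [hj : WeaklyEtale j] :
    (ProEtS.compP j).Faithful where
  map_injective {_ _} _ _ h :=
    MorphismProperty.Over.Hom.ext (congrArg (fun k => k.left) h :)

/-- For an open immersion j : U -> X, the unit F -> j^{-1} j_! F and the counit j^{-1} j_* G -> G are
isomorphisms on abelian pro-etale sheaves (so j_! and j_* are fully faithful; continuity binders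
assumed). -/
theorem result {U X : Scheme.{u}} (j : U ⟶ X) [IsOpenImmersion j]
    [ProEtS.JPCont j] [ProEtS.PCont j] (F G : ProEtS.AbP U) :
    IsIso ((ProEtS.extZeroPAdj j).unit.app F) ∧ IsIso ((ProEtS.pullPushAdjP j).counit.app G) := by
  have hj : (@WeaklyEtale) j := inferInstance
  let adj : ProEtS.compP j ⊣ ProEtS.bcP j :=
    MorphismProperty.Over.mapPullbackAdj (@WeaklyEtale) ⊤ j hj trivial
  haveI : IsIso adj.unit := inferInstance
  let e : ProEtS.compP j ⋙ ProEtS.bcP j ≅ 𝟭 U.ProEt := (asIso adj.unit).symm
  let adj₂ : ProEtS.restrP j ⊣ ProEtS.pushP j :=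
    adj.sheafPushforwardContinuous (E := AddCommGrpCat.{u+1}) (Scheme.ProEt.topology U)
      (Scheme.ProEt.topology X)
  let i : ProEtS.pushP j ⋙ ProEtS.restrP j ≅ 𝟭 (ProEtS.AbP U) :=
    Functor.sheafPushforwardContinuousComp' (F := ProEtS.compP j) (G := ProEtS.bcP j)
      (FG := 𝟭 U.ProEt) e
      AddCommGrpCat.{u+1} (Scheme.ProEt.topology U) (Scheme.ProEt.topology X)
      (Scheme.ProEt.topology U) ≪≫
      Functor.sheafPushforwardContinuousId _ _
  haveI h2 : IsIso adj₂.counit := adj₂.isIso_counit_of_iso i
  let t : Adjunction.Triple (ProEtS.extZeroP j) (ProEtS.restrP j) (ProEtS.pushP j) :=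
    ⟨ProEtS.extZeroPAdj j, adj₂⟩
  haveI h1 : IsIso (ProEtS.extZeroPAdj j).unit := t.isIso_unit_iff_isIso_counit.2 h2
  constructor
  · infer_instance
  · let ff := adj₂.fullyFaithfulROfIsIsoCounit
    haveI := ff.full
    haveI := ff.faithful
    infer_instance

end Groth.Agent.S0742
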