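import Groth.Statements.S0743
import Mathlib

set_option autoImplicit false
open CategoryTheory CategoryTheory.Limits AlgebraicGeometry Opposite
universe u
open ProEtS

namespace Groth.Agent.S0743

set_option backward.isDefEq.respectTransparency.types false in
/-- For an etale morphism j : U -> X and an abelian sheaf G on U_et, eps^{-1} (j_! G) and j_! (eps^{-1}
G) are isomorphic as abelian sheaves on X_proet (existence of an isomorphism; continuity binders
assumed). -/
theorem result {U X : Scheme.{u}} (j : U ⟶ X) [Etale j] [EtShriek.JCont j]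
    [ProEtS.JPCont j] [ProEtS.EpsCont U] [ProEtS.EpsCont X] (G : EtCoh.Ab U) :
    Nonempty ((ProEtS.epsPull X).obj ((EtShriek.extZero j).obj G) ≅
      (ProEtS.extZeroP j).obj ((ProEtS.epsPull U).obj G)) := by
  let e : ProEtS.eps U ⋙ ProEtS.compP j ≅ EtShriek.compEtale j ⋙ ProEtS.eps X :=
    NatIso.ofComponents
      (fun W => MorphismProperty.Over.isoMk (Iso.refl _) (Category.id_comp _))
      (by
        intro W W' g
        apply MorphismProperty.Over.Hom.ext
        show g.left ≫ 𝟙 _ = 𝟙 _ ≫ g.left
        exact (Category.comp_id _).trans (Category.id_comp _).symm)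
  haveI : (EtShriek.compEtale j ⋙ ProEtS.eps X).IsContinuous U.smallEtaleTopology
      (Scheme.ProEt.topology X) :=
    Functor.isContinuous_comp (EtShriek.compEtale j) (ProEtS.eps X) U.smallEtaleTopology
      X.smallEtaleTopology (Scheme.ProEt.topology X)
  let iso1 : ProEtS.restrP j ⋙ ProEtS.epsPush U ≅
      (EtShriek.compEtale j ⋙ ProEtS.eps X).sheafPushforwardContinuous AddCommGrpCat.{u+1}
        U.smallEtaleTopology (Scheme.ProEt.topology X) :=
    Functor.sheafPushforwardContinuousComp' (F := ProEtS.eps U) (G := ProEtS.compP j)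
      (FG := EtShriek.compEtale j ⋙ ProEtS.eps X) e AddCommGrpCat.{u+1}
      U.smallEtaleTopology (Scheme.ProEt.topology U) (Scheme.ProEt.topology X)
  let iso2 : ProEtS.epsPush X ⋙ EtShriek.restrAlong j ≅
      (EtShriek.compEtale j ⋙ ProEtS.eps X).sheafPushforwardContinuous AddCommGrpCat.{u+1}
        U.smallEtaleTopology (Scheme.ProEt.topology X) :=
    Functor.sheafPushforwardContinuousComp' (F := EtShriek.compEtale j) (G := ProEtS.eps X)
      (FG := EtShriek.compEtale j ⋙ ProEtS.eps X) (Iso.refl _) AddCommGrpCat.{u+1}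
      U.smallEtaleTopology X.smallEtaleTopology (Scheme.ProEt.topology X)
  let adj1 : ProEtS.epsPull U ⋙ ProEtS.extZeroP j ⊣ ProEtS.restrP j ⋙ ProEtS.epsPush U :=
    (ProEtS.epsAdj U).comp (ProEtS.extZeroPAdj j)
  let adj2 : EtShriek.extZero j ⋙ ProEtS.epsPull X ⊣ ProEtS.epsPush X ⋙ EtShriek.restrAlong j :=
    (EtShriek.extZeroAdj j).comp (ProEtS.epsAdj X)
  let E := (adj1.ofNatIsoRight (iso1 ≪≫ iso2.symm)).leftAdjointUniq adj2
  exact ⟨(E.app G).symm⟩

end Groth.Agent.S0743
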