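import Groth.Statements.S0754
import Groth.Agent.S0736
import Groth.Agent.S12237

set_option autoImplicit false
open CategoryTheory CategoryTheory.Limits AlgebraicGeometry Opposite
universe u
open ProEtS

namespace Groth.Agent.S0754

theorem flat_fromSpecStalk (X : Scheme.{u}) (x : X) : Flat (X.fromSpecStalk x) := by
  obtain ⟨U, hU, hxU, -⟩ := exists_isAffineOpen_mem_and_subset (X := X) (x := x) (U := ⊤) trivial
  rw [← hU.fromSpecStalk_eq_fromSpecStalk hxU]
  unfold IsAffineOpen.fromSpecStalk
  have : Flat (Spec.map (X.presheaf.germ U x hxU)) := by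
    rw [Flat.SpecMap_iff]
    letI : Algebra Γ(X, U) (X.presheaf.stalk x) :=
      TopCat.Presheaf.algebra_section_stalk X.presheaf ⟨x, hxU⟩
    have hloc : IsLocalization.AtPrime (X.presheaf.stalk x)
        (hU.primeIdealOf ⟨x, hxU⟩).asIdeal := hU.isLocalization_stalk ⟨x, hxU⟩
    have h1 : Module.Flat Γ(X, U) (X.presheaf.stalk x) :=
      IsLocalization.flat (X.presheaf.stalk x) (hU.primeIdealOf ⟨x, hxU⟩).asIdeal.primeCompl
    exact RingHom.flat_algebraMap_iff.mpr h1
  infer_instance


/-- For a point x of a scheme X and a strict henselization R of the local ring of X at x, the canonical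
morphism Spec R -> X is weakly etale, so that Spec R is an object of the small pro-etale site of X. -/
theorem result (X : Scheme.{u}) (x : ↥X) (R : Type u) [CommRing R]
    [IsLocalRing R] [Algebra (X.presheaf.stalk x) R] [IsLocalHom (algebraMap (X.presheaf.stalk x) R)]
    [Hensel.IsStrictHenselization (X.presheaf.stalk x) R] :
    WeaklyEtale (Hens2.specOf X x R) := by
  have hw : Algebra.WeaklyEtale (X.presheaf.stalk x) R :=
    Groth.Agent.S0736.result _ _ (Groth.Agent.S12237.result _ _)
  have h1 : WeaklyEtale (X.fromSpecStalk x) :=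
    { flat := flat_fromSpecStalk X x
      flat_diagonal := inferInstance }
  have h2 : WeaklyEtale (Spec.map (CommRingCat.ofHom (algebraMap (X.presheaf.stalk x) R))) :=
    { flat := Flat.SpecMap_iff.mpr (RingHom.flat_algebraMap_iff.mpr inferInstance)
      flat_diagonal := by
        rw [diagonal_SpecMap]
        have : Flat (Spec.map (CommRingCat.ofHom (Algebra.TensorProduct.lmul'
            (X.presheaf.stalk x) : TensorProduct (X.presheaf.stalk x) R R →ₐ[X.presheaf.stalk x]
              R).toRingHom)) :=
          Flat.SpecMap_iff.mpr (Algebra.WeaklyEtale.flat_lmul' _ R)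
        infer_instance }
  show WeaklyEtale (_ ≫ _)
  infer_instance

end Groth.Agent.S0754
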