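import Groth.Statements.S0781
import Mathlib.AlgebraicGeometry.Morphisms.Etale
import Mathlib.AlgebraicGeometry.Morphisms.Separated
import Mathlib.AlgebraicGeometry.Morphisms.IsIso
import Mathlib.AlgebraicGeometry.PullbackCarrier

set_option autoImplicit false
open CategoryTheory CategoryTheory.Limits AlgebraicGeometry Opposite
universe u
open Desc

namespace Groth.Agent.S0781


set_option backward.isDefEq.respectTransparency false in
theorem isOpenImmersion_equalizer_ι_left {S : Scheme.{u}} {X Y : Over S} [Etale Y.hom]
    (f g : X ⟶ Y) : IsOpenImmersion (equalizer.ι f g).left := by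
  refine MorphismProperty.of_isPullback (P := @IsOpenImmersion)
    ((Limits.isPullback_equalizer_prod f g).map (Over.forget _)).flip ?_
  rw [← MorphismProperty.cancel_right_of_respectsIso @IsOpenImmersion _
    (Over.prodLeftIsoPullback Y Y).hom]
  convert! (inferInstance : IsOpenImmersion (pullback.diagonal Y.hom))
  ext1 <;> simp [← Over.comp_left]

/-- If p : X → S is a surjective morphism of schemes, then for schemes U₁, U₂ étale over S, two
S-morphisms U₁ → U₂ whose base changes to X agree, as morphisms of canonical descent data relative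
to p, are equal; that is, the canonical-descent-datum functor is faithful on schemes étale over S.
(Descent data are taken in functor-of-points form, equivalent by the Yoneda lemma to an isomorphism
over X ×_S X satisfying the cocycle condition.) -/
theorem result {X S : Scheme.{u}} (p : X ⟶ S) [Surjective p] (U₁ U₂ : Over S)
    [Etale U₁.hom] [Etale U₂.hom] : Function.Injective ((Desc.toDD p).map : (U₁ ⟶ U₂) → _) := by
  intro g g' hgg'
  have h1 : pullback.map p U₁.hom p U₂.hom (𝟙 X) g.left (𝟙 S) (by simp) (by simp) =
      pullback.map p U₁.hom p U₂.hom (𝟙 X) g'.left (𝟙 S) (by simp) (by simp) :=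
    congrArg (fun m => m.hom.left) hgg'
  have h2 : pullback.snd p U₁.hom ≫ g.left = pullback.snd p U₁.hom ≫ g'.left := by
    have e1 : pullback.map p U₁.hom p U₂.hom (𝟙 X) g.left (𝟙 S) (by simp) (by simp) ≫
        pullback.snd p U₂.hom = pullback.snd p U₁.hom ≫ g.left := pullback.lift_snd _ _ _
    have e2 : pullback.map p U₁.hom p U₂.hom (𝟙 X) g'.left (𝟙 S) (by simp) (by simp) ≫
        pullback.snd p U₂.hom = pullback.snd p U₁.hom ≫ g'.left := pullback.lift_snd _ _ _
    rw [← e1, ← e2, h1]
  let q : Over.mk (pullback.snd p U₁.hom ≫ U₁.hom) ⟶ U₁ := Over.homMk (pullback.snd p U₁.hom) rfl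
  have hq : q ≫ g = q ≫ g' := Over.OverMorphism.ext (by simpa [q] using h2)
  have hι : IsOpenImmersion (equalizer.ι g g').left := isOpenImmersion_equalizer_ι_left g g'
  have hfac : (equalizer.lift q hq).left ≫ (equalizer.ι g g').left = pullback.snd p U₁.hom := by
    rw [← Over.comp_left, equalizer.lift_ι]
    rfl
  have hsurj : Surjective (equalizer.ι g g').left := by
    have : Surjective ((equalizer.lift q hq).left ≫ (equalizer.ι g g').left) := by
      rw [hfac]; infer_instance
    exact Surjective.of_comp (equalizer.lift q hq).left _
  have hiso : IsIso (equalizer.ι g g').left :=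
    (isIso_iff_isOpenImmersion_and_surjective _).2 ⟨hι, hsurj⟩
  apply Over.OverMorphism.ext
  rw [← cancel_epi (equalizer.ι g g').left, ← Over.comp_left, ← Over.comp_left,
    equalizer.condition]

end Groth.Agent.S0781
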