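import Groth.Statements.S0782
import Mathlib

set_option autoImplicit false
open CategoryTheory CategoryTheory.Limits AlgebraicGeometry Opposite
universe u
open Desc

namespace Groth.Agent.S0782

open AlgebraicGeometry CategoryTheory CategoryTheory.Limits MorphismProperty

theorem core' {X' X Z : Scheme.{u}} (pX : X' ⟶ X) (hqX : Topology.IsQuotientMap pX.base)
    (r : Z ⟶ X) [Etale r] (hqZ : Topology.IsQuotientMap (pullback.fst r pX).base)
    (γ : X' ⟶ Z) (hγ : γ ≫ r = pX)
    (hco : ∀ (V : Scheme.{u}) (v₁ v₂ : V ⟶ X'), v₁ ≫ pX = v₂ ≫ pX → v₁ ≫ γ = v₂ ≫ γ) :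
    ∃ σ : X ⟶ Z, σ ≫ r = 𝟙 X ∧ pX ≫ σ = γ ∧
      ∀ σ' : X ⟶ Z, σ' ≫ r = 𝟙 X → pX ≫ σ' = γ → σ' = σ := by
  let πZ := pullback.fst r pX
  let π' := pullback.snd r pX
  have hW : πZ ≫ r = π' ≫ pX := pullback.condition
  let s' : X' ⟶ pullback r pX := pullback.lift γ (𝟙 X') (by rw [hγ, Category.id_comp])
  have hs1 : s' ≫ πZ = γ := pullback.lift_fst _ _ _
  have hs2 : s' ≫ π' = 𝟙 X' := pullback.lift_snd _ _ _
  haveI : Etale π' := inferInstance
  haveI : IsOpenImmersion s' := by
    haveI : Etale (s' ≫ π') := by rw [hs2]; infer_instance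
    haveI : Etale s' := Etale.of_comp (f := s') π'
    haveI : Mono s' := mono_of_mono_fac hs2
    exact IsOpenImmersion.of_flat_of_mono s'
  have key : pullback.snd γ πZ = pullback.snd γ πZ ≫ π' ≫ s' := by
    have h1 : pullback.fst γ πZ ≫ pX = (pullback.snd γ πZ ≫ π') ≫ pX :=
      calc pullback.fst γ πZ ≫ pX = pullback.fst γ πZ ≫ γ ≫ r := by rw [hγ]
        _ = (pullback.fst γ πZ ≫ γ) ≫ r := (Category.assoc _ _ _).symm
        _ = (pullback.snd γ πZ ≫ πZ) ≫ r := by rw [pullback.condition]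
        _ = pullback.snd γ πZ ≫ (πZ ≫ r) := Category.assoc _ _ _
        _ = pullback.snd γ πZ ≫ π' ≫ pX := by rw [hW]
        _ = (pullback.snd γ πZ ≫ π') ≫ pX := (Category.assoc _ _ _).symm
    have h2 := hco _ _ _ h1
    apply pullback.hom_ext
    · calc pullback.snd γ πZ ≫ πZ = pullback.fst γ πZ ≫ γ := pullback.condition.symm
        _ = (pullback.snd γ πZ ≫ π') ≫ γ := h2
        _ = (pullback.snd γ πZ ≫ π') ≫ s' ≫ πZ := by rw [hs1]
        _ = (pullback.snd γ πZ ≫ π' ≫ s') ≫ πZ := by simp only [Category.assoc]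
    · calc pullback.snd γ πZ ≫ π' = (pullback.snd γ πZ ≫ π') ≫ 𝟙 X' := (Category.comp_id _).symm
        _ = (pullback.snd γ πZ ≫ π') ≫ s' ≫ π' := by rw [hs2]
        _ = (pullback.snd γ πZ ≫ π' ≫ s') ≫ π' := by simp only [Category.assoc]
  have hpre : πZ.base ⁻¹' (Set.range γ.base) = Set.range s'.base := by
    ext z
    constructor
    · rintro ⟨x₁, hx₁⟩
      obtain ⟨v, hv1, hv2⟩ := Scheme.Pullback.exists_preimage_pullback x₁ z hx₁
      refine ⟨(pullback.snd γ πZ ≫ π').base v, ?_⟩
      have h3 := congr(($key).base v)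
      calc s'.base ((pullback.snd γ πZ ≫ π').base v)
          = (pullback.snd γ πZ ≫ π' ≫ s').base v := by simp
        _ = (pullback.snd γ πZ).base v := h3.symm
        _ = z := hv2
    · rintro ⟨x, rfl⟩
      refine ⟨x, ?_⟩
      rw [← hs1]
      simp
  have hΓ : IsOpen (Set.range γ.base) := by
    rw [← hqZ.isOpen_preimage, hpre]
    exact s'.isOpenEmbedding.isOpen_range
  let U : Z.Opens := ⟨Set.range γ.base, hΓ⟩
  let rU : (U : Scheme) ⟶ X := U.ι ≫ r
  have hγU : Set.range γ.base ⊆ Set.range U.ι.base := by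
    rw [Scheme.Opens.range_ι]; exact le_rfl
  let γU : X' ⟶ U := IsOpenImmersion.lift U.ι γ hγU
  have hγU1 : γU ≫ U.ι = γ := IsOpenImmersion.lift_fac _ _ _
  have hγUr : γU ≫ rU = pX := by
    change γU ≫ U.ι ≫ r = pX
    rw [← Category.assoc, hγU1, hγ]
  haveI hpXs : Surjective pX := ⟨hqX.surjective⟩
  haveI : Surjective rU := by
    haveI : Surjective (γU ≫ rU) := by rw [hγUr]; exact hpXs
    exact Surjective.of_comp γU rU
  let A : (pullback r pX).Opens := πZ ⁻¹ᵁ U
  have hArange : Set.range A.ι = Set.range s' := by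
    change Set.range A.ι.base = Set.range s'.base
    rw [Scheme.Opens.range_ι]; exact hpre
  let e := IsOpenImmersion.isoOfRangeEq A.ι s' hArange
  have he : e.hom ≫ s' = A.ι := IsOpenImmersion.isoOfRangeEq_hom_fac _ _ _
  have hAiso : A.ι ≫ π' = e.hom := by rw [← he, Category.assoc, hs2, Category.comp_id]
  have sqU : IsPullback (A.ι ≫ π') (πZ ∣_ U) pX rU :=
    ((isPullback_morphismRestrict πZ U).paste_vert (IsPullback.of_hasPullback r pX)).flip
  haveI : UniversallyInjective (A.ι ≫ π') := by rw [hAiso]; infer_instance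
  haveI hdesc : MorphismProperty.DescendsAlong @UniversallyInjective @Surjective := by
    rw [universallyInjective_eq_diagonal]; infer_instance
  haveI : UniversallyInjective rU :=
    MorphismProperty.DescendsAlong.of_isPullback (P := @UniversallyInjective) (Q := @Surjective)
      sqU hpXs inferInstance
  haveI : IsOpenImmersion (pullback.diagonal rU) := inferInstance
  haveI : Surjective (pullback.diagonal rU) := (UniversallyInjective.iff_diagonal rU).mp inferInstance
  haveI : IsIso (pullback.diagonal rU) :=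
    (isIso_iff_isOpenImmersion_and_surjective _).mpr ⟨inferInstance, inferInstance⟩
  haveI : Mono rU := (pullback.isIso_diagonal_iff rU).mp inferInstance
  haveI : IsOpenImmersion rU := IsOpenImmersion.of_flat_of_mono rU
  haveI : IsIso rU := (isIso_iff_isOpenImmersion_and_surjective _).mpr ⟨inferInstance, inferInstance⟩
  refine ⟨inv rU ≫ U.ι, ?_, ?_, ?_⟩
  · change (inv rU ≫ U.ι) ≫ r = 𝟙 X
    rw [Category.assoc]
    exact IsIso.inv_hom_id rU
  · have : pX ≫ inv rU = γU := by rw [← hγUr, Category.assoc, IsIso.hom_inv_id, Category.comp_id]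
    rw [← Category.assoc, this, hγU1]
  · intro σ' h1 h2
    have hσ' : Set.range σ'.base ⊆ Set.range U.ι.base := by
      rw [Scheme.Opens.range_ι]
      rintro _ ⟨x, rfl⟩
      obtain ⟨x', rfl⟩ := hqX.surjective x
      refine ⟨x', ?_⟩
      rw [← h2]
      simp
    let σU : X ⟶ U := IsOpenImmersion.lift U.ι σ' hσ'
    have hσU : σU ≫ U.ι = σ' := IsOpenImmersion.lift_fac _ _ _
    have hσUr : σU ≫ rU = 𝟙 X := by
      change σU ≫ U.ι ≫ r = 𝟙 X
      rw [← Category.assoc, hσU, h1]
    have : σU = inv rU := IsIso.eq_inv_of_inv_hom_id hσUr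
    rw [← hσU, this]



/-- Let p : X ⟶ S be a morphism such that for every scheme U étale over S the projection X ×_S U ⟶ U is
a quotient map of topological spaces (submersive; U = S is allowed). Then for U₁, U₂ étale over S,
every morphism between their canonical descent data relative to p comes from an S-morphism U₁ ⟶ U₂:
the canonical-descent-datum functor is full on schemes étale over S (injectivity of this assignment
is a companion statement). (Descent data are taken in functor-of-points form, equivalent by the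
Yoneda lemma to the usual form of an isomorphism over X ×_S X satisfying the cocycle condition.) -/
theorem result {X S : Scheme.{u}} (p : X ⟶ S)
    (hp : ∀ U : Over S, Etale U.hom → Topology.IsQuotientMap (pullback.snd p U.hom).base) (U₁ U₂ : Over S)
    [Etale U₁.hom] [Etale U₂.hom] : Function.Surjective ((Desc.toDD p).map : (U₁ ⟶ U₂) → _) := by
  intro F
  let f' : pullback p U₁.hom ⟶ pullback p U₂.hom := F.hom.left
  have hf' : f' ≫ pullback.fst p U₂.hom = pullback.fst p U₁.hom := Over.w F.hom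
  let pX := pullback.snd p U₁.hom
  let r := pullback.snd U₂.hom U₁.hom
  have hφc : (f' ≫ pullback.snd p U₂.hom) ≫ U₂.hom = pX ≫ U₁.hom :=
    calc (f' ≫ pullback.snd p U₂.hom) ≫ U₂.hom = f' ≫ (pullback.snd p U₂.hom ≫ U₂.hom) :=
          Category.assoc _ _ _
      _ = f' ≫ (pullback.fst p U₂.hom ≫ p) := by rw [pullback.condition]
      _ = (f' ≫ pullback.fst p U₂.hom) ≫ p := (Category.assoc _ _ _).symm
      _ = pullback.fst p U₁.hom ≫ p := by rw [hf']
      _ = pX ≫ U₁.hom := pullback.condition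
  let γ : pullback p U₁.hom ⟶ pullback U₂.hom U₁.hom :=
    pullback.lift (f' ≫ pullback.snd p U₂.hom) pX hφc
  have hγ : γ ≫ r = pX := pullback.lift_snd _ _ _
  have hγ1 : γ ≫ pullback.fst U₂.hom U₁.hom = f' ≫ pullback.snd p U₂.hom := pullback.lift_fst _ _ _
  have hqX : Topology.IsQuotientMap pX.base := hp U₁ inferInstance
  have hqZ : Topology.IsQuotientMap (pullback.fst r pX).base := by
    have big : IsPullback (pullback.snd r pX ≫ pullback.fst p U₁.hom) (pullback.fst r pX) p
        (r ≫ U₁.hom) :=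
      (IsPullback.of_hasPullback r pX).flip.paste_horiz (IsPullback.of_hasPullback p U₁.hom)
    have hsnd : big.isoPullback.hom ≫ pullback.snd p (r ≫ U₁.hom) = pullback.fst r pX :=
      big.isoPullback_hom_snd
    haveI : Etale (Over.mk (r ≫ U₁.hom)).hom := by
      change Etale (r ≫ U₁.hom)
      infer_instance
    have hq := hp (Over.mk (r ≫ U₁.hom)) inferInstance
    rw [← hsnd]
    exact hq.comp big.isoPullback.hom.homeomorph.isQuotientMap
  have hco : ∀ (V : Scheme.{u}) (v₁ v₂ : V ⟶ pullback p U₁.hom), v₁ ≫ pX = v₂ ≫ pX →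
      v₁ ≫ γ = v₂ ≫ γ := by
    intro V v₁ v₂ h
    have hx : (v₁ ≫ pullback.fst p U₁.hom) ≫ p = (v₂ ≫ pullback.fst p U₁.hom) ≫ p := by
      rw [Category.assoc, Category.assoc, pullback.condition, ← Category.assoc, ← Category.assoc]
      exact congrArg (· ≫ U₁.hom) h
    let v : Desc.Lifts (Desc.canonicalDD p U₁).obj (v₁ ≫ pullback.fst p U₁.hom) := ⟨v₁, rfl⟩
    let w : Desc.Lifts (Desc.canonicalDD p U₂).obj (v₁ ≫ pullback.fst p U₁.hom) :=
      ⟨v₁ ≫ f', by
        change (v₁ ≫ f') ≫ pullback.fst p U₂.hom = _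
        rw [Category.assoc, hf']⟩
    have hcomm : ((Desc.canonicalDD p U₂).φ (v₁ ≫ pullback.fst p U₁.hom)
        (v₂ ≫ pullback.fst p U₁.hom) hx w).1 =
        ((Desc.canonicalDD p U₁).φ (v₁ ≫ pullback.fst p U₁.hom)
        (v₂ ≫ pullback.fst p U₁.hom) hx v).1 ≫ f' :=
      F.comm (v₁ ≫ pullback.fst p U₁.hom) (v₂ ≫ pullback.fst p U₁.hom) hx v w rfl
    have hL : ((Desc.canonicalDD p U₂).φ (v₁ ≫ pullback.fst p U₁.hom)
        (v₂ ≫ pullback.fst p U₁.hom) hx w).1 ≫ pullback.snd p U₂.hom =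
        (v₁ ≫ f') ≫ pullback.snd p U₂.hom := pullback.lift_snd _ _ _
    have hR : ((Desc.canonicalDD p U₁).φ (v₁ ≫ pullback.fst p U₁.hom)
        (v₂ ≫ pullback.fst p U₁.hom) hx v).1 = v₂ := by
      apply pullback.hom_ext
      · exact pullback.lift_fst _ _ _
      · exact (pullback.lift_snd _ _ _).trans h
    have hφ : v₁ ≫ (f' ≫ pullback.snd p U₂.hom) = v₂ ≫ (f' ≫ pullback.snd p U₂.hom) := by
      rw [← Category.assoc, ← hL, hcomm, hR]
      exact Category.assoc _ _ _
    apply pullback.hom_ext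
    · rw [Category.assoc, Category.assoc, hγ1, hφ]
    · rw [Category.assoc, Category.assoc]
      change v₁ ≫ γ ≫ r = v₂ ≫ γ ≫ r
      rw [hγ, h]
  obtain ⟨σ, hσ1, hσ2, -⟩ := core' pX hqX r hqZ γ hγ hco
  let k : U₁.left ⟶ U₂.left := σ ≫ pullback.fst U₂.hom U₁.hom
  have hk : k ≫ U₂.hom = U₁.hom := by
    change (σ ≫ pullback.fst U₂.hom U₁.hom) ≫ U₂.hom = U₁.hom
    rw [Category.assoc, pullback.condition, ← Category.assoc]
    change (σ ≫ r) ≫ U₁.hom = U₁.hom
    rw [hσ1, Category.id_comp]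
  have hk2 : pX ≫ k = f' ≫ pullback.snd p U₂.hom := by
    change pX ≫ σ ≫ pullback.fst U₂.hom U₁.hom = _
    rw [← Category.assoc, hσ2, hγ1]
  have hmap : pullback.map p U₁.hom p U₂.hom (𝟙 X) k (𝟙 S) (by simp)
      (by rw [Category.comp_id, hk]) = f' := by
    apply pullback.hom_ext
    · rw [pullback.lift_fst, Category.comp_id]
      exact hf'.symm
    · rw [pullback.lift_snd]
      exact hk2
  refine ⟨Over.homMk k hk, ?_⟩
  apply Desc.SchDD.hom_ext
  apply Over.OverMorphism.ext
  exact hmap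

end Groth.Agent.S0782
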