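import Groth.Statements.S0784
import Mathlib
import Groth.Agent.S0522

set_option autoImplicit false
open CategoryTheory CategoryTheory.Limits AlgebraicGeometry Opposite
universe u
open Desc

namespace Groth.Agent.S0784

open AlgebraicGeometry CategoryTheory Limits

/-- Étale morphisms are locally quasi-finite. -/
theorem locallyQuasiFinite_of_etale {X Y : Scheme.{u}} (g : X ⟶ Y) [Etale g] :
    LocallyQuasiFinite g := by
  rw [HasRingHomProperty.iff_appLE (P := @LocallyQuasiFinite)]
  intro U V e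
  have h := HasRingHomProperty.appLE (P := @Etale) g inferInstance U V e
  letI := (g.appLE U V e).hom.toAlgebra
  have h' : Algebra.Etale Γ(Y, U.1) Γ(X, V.1) := h
  show Algebra.QuasiFinite Γ(Y, U.1) Γ(X, V.1)
  infer_instance

open PrimeSpectrum in
theorem exists_idem (A : Type u) [CommRing A] (I : Ideal A) [HenselianRing A I]
    (B : Type u) [CommRing B] [Algebra A B] [Algebra.IsIntegral A B]
    (U' : Set (PrimeSpectrum B)) (hU' : IsOpen U')
    (hC : IsClosed (U' ∩ (comap (algebraMap A B)) ⁻¹' (zeroLocus (I : Set A)))) :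
    ∃ e : B, IsIdempotentElem e ∧ (basicOpen e : Set (PrimeSpectrum B)) ⊆ U' ∧
      (U' ∩ (comap (algebraMap A B)) ⁻¹' (zeroLocus (I : Set A))) ⊆
        (basicOpen e : Set (PrimeSpectrum B)) := by
  let J : Ideal B := Ideal.map (algebraMap A B) I
  let κ : PrimeSpectrum (B ⧸ J) → PrimeSpectrum B := comap (Ideal.Quotient.mk J)
  have hκc : Continuous κ := continuous_comap _
  have hκr : Set.range κ = zeroLocus (J : Set B) := by
    have h1 := range_comap_of_surjective (B ⧸ J) (Ideal.Quotient.mk J) Ideal.Quotient.mk_surjective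
    rw [Ideal.mk_ker] at h1
    exact h1
  have hJ : zeroLocus (J : Set B) = (comap (algebraMap A B)) ⁻¹' (zeroLocus (I : Set A)) := by
    rw [preimage_comap_zeroLocus, ← zeroLocus_span ((algebraMap A B) '' (I : Set A))]
    rfl
  have hclopen : IsClopen (κ ⁻¹' (U' ∩ (comap (algebraMap A B)) ⁻¹' (zeroLocus (I : Set A)))) := by
    refine ⟨hC.preimage hκc, ?_⟩
    have h1 : κ ⁻¹' (U' ∩ (comap (algebraMap A B)) ⁻¹' (zeroLocus (I : Set A))) = κ ⁻¹' U' := by
      ext z
      simp only [Set.mem_preimage, Set.mem_inter_iff, and_iff_left_iff_imp]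
      intro _
      have h2 : κ z ∈ zeroLocus (J : Set B) := by rw [← hκr]; exact ⟨z, rfl⟩
      rw [hJ] at h2
      exact h2
    rw [h1]
    exact hU'.preimage hκc
  obtain ⟨ē, hē, hCe⟩ := PrimeSpectrum.isClopen_iff.mp hclopen
  have hbij := (Groth.Agent.S0522.result A I).mp inferInstance B inferInstance
  obtain ⟨e, he, hee⟩ := hbij.surjOn hē
  have hCsub : (U' ∩ (comap (algebraMap A B)) ⁻¹' (zeroLocus (I : Set A))) ⊆
      (basicOpen e : Set (PrimeSpectrum B)) := by
    intro z hz
    have h1 : z ∈ Set.range κ := by rw [hκr, hJ]; exact hz.2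
    obtain ⟨z', rfl⟩ := h1
    have h2 : z' ∈ κ ⁻¹' (U' ∩ (comap (algebraMap A B)) ⁻¹' (zeroLocus (I : Set A))) := hz
    rw [hCe] at h2
    apply (mem_basicOpen _ _).mpr
    intro hmem
    apply (mem_basicOpen _ _).mp h2
    rw [← hee]
    exact hmem
  refine ⟨e, he, ?_, hCsub⟩
  by_contra hsub
  rw [Set.not_subset] at hsub
  obtain ⟨z₀, hz₀e, hz₀U⟩ := hsub
  have hDc : IsClosed (basicOpen e : Set (PrimeSpectrum B)) :=
    (PrimeSpectrum.isClopen_iff.mpr ⟨e, he, rfl⟩).1
  have hZc : IsClosed ((basicOpen e : Set (PrimeSpectrum B)) \ U') := hDc.sdiff hU'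
  have hπZ : IsClosed (comap (algebraMap A B) '' ((basicOpen e : Set (PrimeSpectrum B)) \ U')) :=
    isClosedMap_comap_of_isIntegral _ (algebraMap_isIntegral_iff.mpr inferInstance) _ hZc
  obtain ⟨K, hK⟩ := (isClosed_iff_zeroLocus_ideal _).mp hπZ
  have hKne : K ≠ ⊤ := by
    intro h
    rw [h] at hK
    have h1 : comap (algebraMap A B) z₀ ∈
        comap (algebraMap A B) '' ((basicOpen e : Set (PrimeSpectrum B)) \ U') :=
      ⟨z₀, ⟨hz₀e, hz₀U⟩, rfl⟩
    rw [hK, zeroLocus_empty_iff_eq_top.mpr rfl] at h1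
    exact h1
  obtain ⟨m, hm, hKm⟩ := Ideal.exists_le_maximal K hKne
  have hIm : I ≤ m := (HenselianRing.jac (R := A) (I := I)).trans (sInf_le ⟨bot_le, hm⟩)
  have h2 : (⟨m, hm.isPrime⟩ : PrimeSpectrum A) ∈
      comap (algebraMap A B) '' ((basicOpen e : Set (PrimeSpectrum B)) \ U') := by
    rw [hK]
    exact hKm
  obtain ⟨z, ⟨hze, hzU⟩, hzm⟩ := h2
  have hzI : z ∈ (comap (algebraMap A B)) ⁻¹' (zeroLocus (I : Set A)) := by
    show comap (algebraMap A B) z ∈ zeroLocus (I : Set A)
    rw [hzm]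
    exact hIm
  have h3 : z ∈ Set.range κ := by rw [hκr, hJ]; exact hzI
  obtain ⟨z', rfl⟩ := h3
  have h4 : z' ∈ (basicOpen ē : Set (PrimeSpectrum (B ⧸ J))) := by
    apply (mem_basicOpen _ _).mpr
    intro hmem
    apply (mem_basicOpen _ _).mp hze
    show Ideal.Quotient.mk J e ∈ z'.asIdeal
    rw [hee]
    exact hmem
  rw [← hCe] at h4
  exact hzU h4.1


/-- Let (A, I) be a henselian pair and g : U ⟶ Spec A quasi-compact, separated and etale such that the
base change of U to Spec(A/I) is finite over Spec(A/I). Then U is the disjoint union of an open and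
closed subscheme finite over Spec A and an open and closed subscheme with no points lying over V(I). -/
theorem result (A : Type u) [CommRing A] (I : Ideal A) [HenselianRing A I]
    {U : Scheme.{u}} (g : U ⟶ Spec (CommRingCat.of A)) [QuasiCompact g] [IsSeparated g] [Etale g]
    (hfin : IsFinite (pullback.snd g (Spec.map (CommRingCat.ofHom (Ideal.Quotient.mk I))))) :
    ∃ W : U.Opens, IsClosed (W : Set U) ∧ IsFinite (W.ι ≫ g) ∧
      ∀ u : U, u ∉ W → ¬ I ≤ (g.base u : PrimeSpectrum A).asIdeal := by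
  haveI : LocallyQuasiFinite g := locallyQuasiFinite_of_etale g
  haveI : IsOpenImmersion g.toNormalization := inferInstance
  haveI : IsAffine g.normalization := isAffine_of_isAffineHom g.fromNormalization
  let B : CommRingCat.{u} := Γ(g.normalization, ⊤)
  let φ : CommRingCat.of A ⟶ B := Spec.preimage (g.normalization.isoSpec.inv ≫ g.fromNormalization)
  have hφ : Spec.map φ = g.normalization.isoSpec.inv ≫ g.fromNormalization := Spec.map_preimage _
  let ι' : U ⟶ Spec B := g.toNormalization ≫ g.normalization.isoSpec.hom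
  have hι'g : ι' ≫ Spec.map φ = g := by
    rw [hφ]
    simp only [ι', Category.assoc, Iso.hom_inv_id_assoc]
    exact g.toNormalization_fromNormalization
  have hint : φ.hom.IsIntegral := IsIntegralHom.SpecMap_iff.mp (by rw [hφ]; infer_instance)
  letI : Algebra A B := φ.hom.toAlgebra
  haveI : Algebra.IsIntegral A B := algebraMap_isIntegral_iff.mp hint
  have hgu : ∀ u : U, g u = PrimeSpectrum.comap (algebraMap A B) (ι' u) := by
    intro u
    have h1 : g u = (ι' ≫ Spec.map φ) u := by rw [hι'g]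
    rw [h1]
    rfl
  let q := Spec.map (CommRingCat.ofHom (Ideal.Quotient.mk I))
  haveI : IsFinite (pullback.snd g q) := hfin
  haveI : IsClosedImmersion q :=
    IsClosedImmersion.spec_of_surjective _ Ideal.Quotient.mk_surjective
  have hqr : Set.range q = PrimeSpectrum.zeroLocus (I : Set A) := by
    have h1 := range_comap_of_surjective (A ⧸ I) (Ideal.Quotient.mk I) Ideal.Quotient.mk_surjective
    rw [Ideal.mk_ker] at h1
    exact h1
  haveI : IsProper ((pullback.fst g q ≫ ι') ≫ Spec.map φ) := by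
    rw [Category.assoc, hι'g, pullback.condition]
    infer_instance
  haveI : IsProper (pullback.fst g q ≫ ι') := IsProper.of_comp (pullback.fst g q ≫ ι') (Spec.map φ)
  have hCclosed : IsClosed (Set.range (pullback.fst g q ≫ ι')) :=
    (pullback.fst g q ≫ ι').isClosedMap.isClosed_range
  have hrange : Set.range (pullback.fst g q ≫ ι') = Set.range ι' ∩
      (PrimeSpectrum.comap (algebraMap A B)) ⁻¹' (PrimeSpectrum.zeroLocus (I : Set A)) := by
    ext z
    constructor
    · rintro ⟨w, rfl⟩
      refine ⟨⟨pullback.fst g q w, rfl⟩, ?_⟩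
      show PrimeSpectrum.comap (algebraMap A B) (ι' (pullback.fst g q w)) ∈
        PrimeSpectrum.zeroLocus (I : Set A)
      rw [← hgu, ← hqr]
      refine ⟨pullback.snd g q w, ?_⟩
      rw [← Scheme.Hom.comp_apply, ← Scheme.Hom.comp_apply, pullback.condition]
    · rintro ⟨⟨u, rfl⟩, hu⟩
      have h1 : g u ∈ Set.range q := by
        rw [hqr, hgu]
        exact hu
      have h2 : u ∈ Set.range (pullback.fst g q) := by
        rw [Scheme.Pullback.range_fst]
        exact h1
      obtain ⟨w, rfl⟩ := h2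
      exact ⟨w, rfl⟩
  rw [hrange] at hCclosed
  obtain ⟨e, he, hsub, hCsub⟩ := exists_idem A I B (Set.range ι')
    ι'.isOpenEmbedding.isOpen_range hCclosed
  have hDc : IsClosed (PrimeSpectrum.basicOpen e : Set (PrimeSpectrum B)) :=
    (PrimeSpectrum.isClopen_iff.mpr ⟨e, he, rfl⟩).1
  let D : (Spec B).Opens := PrimeSpectrum.basicOpen e
  let W : U.Opens := ι' ⁻¹ᵁ D
  refine ⟨W, hDc.preimage ι'.continuous, ?_, ?_⟩
  · rw [IsFinite.iff_isIntegralHom_and_locallyOfFiniteType]
    refine ⟨?_, inferInstance⟩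
    have hr : Set.range (W.ι ≫ ι') = (PrimeSpectrum.basicOpen e : Set (PrimeSpectrum B)) := by
      rw [Scheme.Hom.comp_base, TopCat.coe_comp, Set.range_comp, Scheme.Opens.range_ι]
      show ι' '' (ι' ⁻¹' (PrimeSpectrum.basicOpen e : Set (PrimeSpectrum B))) = _
      rw [Set.image_preimage_eq_inter_range]
      exact Set.inter_eq_left.mpr hsub
    haveI : IsClosedImmersion (W.ι ≫ ι') :=
      IsClosedImmersion.of_isPreimmersion (W.ι ≫ ι') (by rw [hr]; exact hDc)
    haveI : IsIntegralHom (Spec.map φ) := by rw [hφ]; infer_instance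
    have h1 : W.ι ≫ g = (W.ι ≫ ι') ≫ Spec.map φ := by rw [Category.assoc, hι'g]
    rw [h1]
    infer_instance
  · intro u hu hI
    apply hu
    show ι' u ∈ (PrimeSpectrum.basicOpen e : Set (PrimeSpectrum B))
    apply hCsub
    refine ⟨⟨u, rfl⟩, ?_⟩
    show PrimeSpectrum.comap (algebraMap A B) (ι' u) ∈ PrimeSpectrum.zeroLocus (I : Set A)
    rw [← hgu]
    exact hI

end Groth.Agent.S0784
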