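import Groth.Statements.S0787
import Groth.Agent.H4.ProperOver

set_option autoImplicit false
universe u
open Coherent

namespace Groth.Agent.S0787

open CategoryTheory AlgebraicGeometry in
/-- Let f : X → S be locally of finite type and Z ⊆ X a closed subset. Then Z with its reduced induced
structure is proper over S if and only if some closed subscheme of X with underlying set Z is proper
over S, if and only if every closed subscheme of X with underlying set Z is proper over S. -/
theorem result {X S : Scheme.{u}} (f : X ⟶ S) [LocallyOfFiniteType f]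
    (Z : Set X) (hZ : IsClosed Z) :
    (ClSub.IsProperOver f Z ↔ ∃ (T : Scheme.{u}) (i : T ⟶ X), IsClosedImmersion i ∧
        Set.range ⇑i = Z ∧ IsProper (i ≫ f)) ∧
    (ClSub.IsProperOver f Z ↔ ∀ (T : Scheme.{u}) (i : T ⟶ X), IsClosedImmersion i →
        Set.range ⇑i = Z → IsProper (i ≫ f)) := by
  have h1 : ClSub.IsProperOver f Z → ∀ (T : Scheme.{u}) (i : T ⟶ X), IsClosedImmersion i →
      Set.range ⇑i = Z → IsProper (i ≫ f) := by
    intro h T i hi hr
    subst hr
    exact Groth.Agent.H4.isProper_of_isProperOver f i h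
  have h2 : (∃ (T : Scheme.{u}) (i : T ⟶ X), IsClosedImmersion i ∧
      Set.range ⇑i = Z ∧ IsProper (i ≫ f)) → ClSub.IsProperOver f Z := by
    rintro ⟨T, i, hi, hr, hp⟩
    subst hr
    exact Groth.Agent.H4.isProperOver_of_closedImmersion f i
  have h3 : (∀ (T : Scheme.{u}) (i : T ⟶ X), IsClosedImmersion i →
      Set.range ⇑i = Z → IsProper (i ≫ f)) → ∃ (T : Scheme.{u}) (i : T ⟶ X), IsClosedImmersion i ∧
      Set.range ⇑i = Z ∧ IsProper (i ≫ f) := by
    intro h
    refine ⟨_, (Scheme.IdealSheafData.vanishingIdeal ⟨Z, hZ⟩).subschemeι, inferInstance,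
      Groth.Agent.H4.range_vanishingIdeal_subschemeι Z hZ, ?_⟩
    exact h _ _ inferInstance (Groth.Agent.H4.range_vanishingIdeal_subschemeι Z hZ)
  exact ⟨⟨fun h => h3 (h1 h), h2⟩, ⟨h1, fun h => h2 (h3 h)⟩⟩

end Groth.Agent.S0787
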