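import Groth.Statements.S0788
import Groth.Agent.H4.ProperOver

set_option autoImplicit false
universe u
open Coherent

namespace Groth.Agent.S0788

open CategoryTheory AlgebraicGeometry in
/-- Let X and Y be schemes locally of finite type over S, with Y separated over S, and f : X → Y a
morphism over S. If Z ⊆ X is closed and proper over S (reduced induced structure), its image f(Z) is
again closed in Y and proper over S. -/
theorem result {X Y S : Scheme.{u}} (p : X ⟶ S) (q : Y ⟶ S)
    [LocallyOfFiniteType p] [LocallyOfFiniteType q] [IsSeparated q] (f : X ⟶ Y) (w : f ≫ q = p)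
    (Z : Set X) (hZ : ClSub.IsProperOver p Z) : ClSub.IsProperOver q (⇑f '' Z) := by
  obtain ⟨hcl, hp⟩ := hZ
  set ι := (Scheme.IdealSheafData.vanishingIdeal ⟨Z, hcl⟩).subschemeι with hι
  set φ := ι ≫ f with hφ
  haveI hφq : IsProper (φ ≫ q) := by
    rw [hφ, Category.assoc, w]
    exact hp
  haveI : IsProper φ := IsProper.of_comp φ q
  have hrφ : Set.range φ = ⇑f '' Z := by
    rw [hφ, Scheme.Hom.comp_base, TopCat.coe_comp, Set.range_comp,
      Groth.Agent.H4.range_vanishingIdeal_subschemeι Z hcl]
  haveI : Surjective φ.toImage := by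
    refine ⟨?_⟩
    have h1 : IsClosed (Set.range φ.toImage) := φ.toImage.isClosedMap.isClosed_range
    have h2 : DenseRange φ.toImage := φ.toImage.denseRange
    rw [← Set.range_eq_univ, ← h1.closure_eq]
    exact h2.closure_range
  haveI : IsProper (φ.imageι ≫ q) := by
    haveI : UniversallyClosed (φ.toImage ≫ (φ.imageι ≫ q)) := by
      rw [← Category.assoc, Scheme.Hom.toImage_imageι]
      infer_instance
    haveI : UniversallyClosed (φ.imageι ≫ q) := UniversallyClosed.of_comp_surjective φ.toImage _
    exact {}
  have hr : Set.range φ.imageι = ⇑f '' Z := by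
    rw [← hrφ]
    exact (AlgebraicGeometry.range_eq_range_of_surjective φ φ.imageι φ.toImage
      (Scheme.Hom.toImage_imageι φ)).symm
  rw [← hr]
  exact Groth.Agent.H4.isProperOver_of_closedImmersion q φ.imageι

end Groth.Agent.S0788
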