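import Groth.Statements.S0792
import Groth.Agent.H8.SchSupport
import Groth.Agent.H8.PullbackFinType
import Groth.Agent.H8.SuppClosed
import Groth.Agent.S0787

set_option autoImplicit false
universe u
open Coherent

namespace Groth.Agent.S0792

open CategoryTheory AlgebraicGeometry in
/-- Let f : X → S be locally of finite type and F a quasi-coherent O_X-module of finite type. The
support of F is proper over S if and only if there are a closed subscheme i : Z → X with Z proper
over S and a quasi-coherent O_Z-module G of finite type with i_* G isomorphic to F. (The published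
statement also gives a further equivalent condition, that the scheme-theoretic support of F is
proper over S; it is not used here.) -/
theorem result {X S : Scheme.{u}} (f : X ⟶ S) [LocallyOfFiniteType f]
    (F : X.Modules) (hq : Coh.IsQCoh F) (hft : CohB1.IsFT F) :
    ClSub.IsProperOver f (CohB1.support F) ↔
      ∃ (Z : Scheme.{u}) (i : Z ⟶ X), IsClosedImmersion i ∧ IsProper (i ≫ f) ∧
        ∃ G : Z.Modules, Coh.IsQCoh G ∧ CohB1.IsFT G ∧
          Nonempty ((Scheme.Modules.pushforward i).obj G ≅ F) := by
  haveI : F.IsQuasicoherent := hq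
  haveI : SheafOfModules.IsFiniteType (R := X.ringCatSheaf) F := hft
  have hcl : IsClosed (CohB1.support F) := Groth.Agent.H8.isClosed_support_of_isFiniteType F
  have hrange : Set.range ⇑(Groth.Agent.H8.annIdealSheaf F).subschemeι = CohB1.support F := by
    rw [Scheme.IdealSheafData.range_subschemeι]
    exact Groth.Agent.H8.support_annIdealSheaf F
  constructor
  · intro h
    have hp := ((Groth.Agent.S0787.result f (CohB1.support F) hcl).2.mp h)
      _ (Groth.Agent.H8.annIdealSheaf F).subschemeι inferInstance hrange
    refine ⟨_, (Groth.Agent.H8.annIdealSheaf F).subschemeι, inferInstance, hp,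
      (Scheme.Modules.pullback (Groth.Agent.H8.annIdealSheaf F).subschemeι).obj F,
      Groth.Agent.H8.isQuasicoherent_pullback _ F, Groth.Agent.H8.isFiniteType_pullback _ F, ?_⟩
    haveI := Groth.Agent.H8.isIso_unit_annIdealSheaf F
    exact ⟨(asIso ((Scheme.Modules.pullbackPushforwardAdjunction
      (Groth.Agent.H8.annIdealSheaf F).subschemeι).unit.app F)).symm⟩
  · rintro ⟨Z, i, hi, hp, G, hGq, hGft, ⟨e⟩⟩
    -- `F` is killed by the ideal of `i`
    have hkill : ∀ (U : X.affineOpens) (a : Γ(X, U.1)), a ∈ i.ker.ideal U →
        ∀ s : Γ(F, U.1), a • s = 0 := by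
      intro U a ha s
      have ha0 : (i.app U.1).hom a = 0 := by
        rw [Scheme.Hom.ker_apply] at ha
        exact ha
      have h1 : ∀ t : Γ((Scheme.Modules.pushforward i).obj G, U.1), a • t = 0 := by
        intro t
        rw [Groth.Agent.H8.pushforward_smul]
        show ((i.app U.1).hom a) • (show Γ(G, i ⁻¹ᵁ U.1) from t) = 0
        rw [ha0, zero_smul]
      have h2 : s = e.hom.app U.1 (e.inv.app U.1 s) := by
        rw [← ConcreteCategory.comp_apply, ← Scheme.Modules.Hom.comp_app, e.inv_hom_id]
        rfl
      rw [h2, ← Scheme.Modules.Hom.app_smul, h1, map_zero]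
    have hle : i.ker ≤ Groth.Agent.H8.annIdealSheaf F := by
      intro U a ha
      exact Module.mem_annihilator.mpr (fun s => hkill U a ha s)
    have hfac : (Groth.Agent.H8.annIdealSheaf F).subschemeι ≫ f =
        Scheme.IdealSheafData.inclusion hle ≫ inv i.toImage ≫ (i ≫ f) := by
      rw [← Category.assoc (inv i.toImage), ← Category.assoc (Scheme.IdealSheafData.inclusion hle)]
      congr 1
      have h3 : inv i.toImage ≫ i = i.imageι := by
        rw [IsIso.inv_comp_eq]
        exact i.toImage_imageι.symm
      rw [h3]
      exact (Scheme.IdealSheafData.inclusion_subschemeι hle).symm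
    refine (Groth.Agent.S0787.result f (CohB1.support F) hcl).1.mpr
      ⟨_, (Groth.Agent.H8.annIdealSheaf F).subschemeι, inferInstance, hrange, ?_⟩
    rw [hfac]
    infer_instance

end Groth.Agent.S0792
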