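import Groth.Statements.S0797
import Mathlib

set_option autoImplicit false
universe u
open Formal2

namespace Groth.Agent.S0797

theorem exists_compat {A : Type u} [CommRing A] {M : ℕ → Type u} [∀ n, AddCommGroup (M n)]
    [∀ n, Module A (M n)] (f : ∀ n, M (n + 1) →ₗ[A] M n)
    (hf : ∀ n, Function.Surjective (f n)) (n : ℕ) (z : M n) :
    ∃ x : ∀ k, M k, (∀ k, f k (x (k+1)) = x k) ∧ x n = z := by
  classical
  have hD : ∀ n (z : M n), ∃ c : ∀ k, M k, c n = z ∧ ∀ k, k < n → f k (c (k+1)) = c k := by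
    intro n
    induction n with
    | zero =>
      intro z
      exact ⟨Function.update (0 : ∀ k, M k) 0 z, Function.update_self _ _ _,
        fun k hk => absurd hk (Nat.not_lt_zero k)⟩
    | succ n ih =>
      intro z
      obtain ⟨c', hc'n, hc'⟩ := ih (f n z)
      refine ⟨Function.update c' (n+1) z, Function.update_self _ _ _, fun k hk => ?_⟩
      by_cases hkn : k = n
      · rw [hkn, Function.update_self,
          Function.update_of_ne (Nat.lt_succ_self n).ne, hc'n]
      · have hlt : k < n := by omega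
        rw [Function.update_of_ne (by omega : k + 1 ≠ n + 1),
          Function.update_of_ne (by omega : k ≠ n + 1)]
        exact hc' k hlt
  obtain ⟨c, hcn, hc⟩ := hD n z
  let x : ∀ k, M k := fun k => Nat.rec (motive := fun k => M k) (c 0)
    (fun k xk => if k + 1 ≤ n then c (k+1) else Classical.choose (hf k xk)) k
  have hxs : ∀ k, x (k+1) =
      if k + 1 ≤ n then c (k+1) else Classical.choose (hf k (x k)) := fun k => rfl
  have hxle : ∀ k, k ≤ n → x k = c k := by
    intro k hk
    cases k with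
    | zero => rfl
    | succ k => rw [hxs, if_pos hk]
  refine ⟨x, fun k => ?_, (hxle n le_rfl).trans hcn⟩
  by_cases h : k + 1 ≤ n
  · rw [hxle (k+1) h, hxle k (Nat.le_of_succ_le h)]
    exact hc k h
  · rw [hxs, if_neg h]
    exact Classical.choose_spec (hf k (x k))

theorem span_all {A : Type u} [CommRing A] (I : Ideal A) (M : ℕ → Type u)
    [∀ n, AddCommGroup (M n)] [∀ n, Module A (M n)]
    (f : ∀ n, M (n + 1) →ₗ[A] M n)
    (hk : ∀ n, I ^ (n + 1) • (⊤ : Submodule A (M n)) = ⊥)
    (hker : ∀ n, LinearMap.ker (f n) = I ^ (n + 1) • (⊤ : Submodule A (M (n + 1))))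
    {r : ℕ} (e : Fin r → ∀ n, M n) (he : ∀ i n, f n (e i (n+1)) = e i n)
    (h0 : Submodule.span A (Set.range fun i => e i 0) = ⊤) :
    ∀ k, Submodule.span A (Set.range fun i => e i k) = ⊤ := by
  intro k
  induction k with
  | zero => exact h0
  | succ k ih =>
    obtain ⟨P, hP⟩ : ∃ P, P = Submodule.span A (Set.range fun i => e i (k+1)) := ⟨_, rfl⟩
    rw [← hP]
    have hmap : Submodule.map (f k) P = ⊤ := by
      rw [hP, Submodule.map_span, ← Set.range_comp]
      have : (f k) ∘ (fun i => e i (k+1)) = fun i => e i k := funext fun i => he i k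
      rw [this]; exact ih
    have h1 : (⊤ : Submodule A (M (k+1))) ≤ P ⊔ I^(k+1) • ⊤ := by
      intro w _
      have hw : f k w ∈ Submodule.map (f k) P := by rw [hmap]; trivial
      obtain ⟨p, hp, hpw⟩ := hw
      have hker' : w - p ∈ LinearMap.ker (f k) := by
        rw [LinearMap.mem_ker, map_sub, hpw, sub_self]
      rw [hker k] at hker'
      have : w = p + (w - p) := by abel
      rw [this]
      exact Submodule.add_mem_sup hp hker'
    have h2 : I^(k+1) • (⊤ : Submodule A (M (k+1))) ≤ P := by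
      calc I^(k+1) • (⊤ : Submodule A (M (k+1)))
          ≤ I^(k+1) • (P ⊔ I^(k+1) • ⊤) := Submodule.smul_mono le_rfl h1
        _ = I^(k+1) • P ⊔ I^(k+1) • (I^(k+1) • ⊤) := Submodule.smul_sup _ _ _
        _ ≤ P ⊔ ⊥ := by
            refine sup_le_sup Submodule.smul_le_right ?_
            rw [← Submodule.mul_smul, ← pow_add, ← hk (k+1)]
            exact Submodule.smul_mono_left (Ideal.pow_le_pow_right (by omega))
        _ = P := sup_bot_eq _
    exact top_le_iff.mp (h1.trans (sup_le le_rfl h2))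

theorem approx {A : Type u} [CommRing A] (I : Ideal A) [IsAdicComplete I A]
    (M : ℕ → Type u) [∀ n, AddCommGroup (M n)] [∀ n, Module A (M n)]
    (f : ∀ n, M (n + 1) →ₗ[A] M n)
    (hk : ∀ n, I ^ (n + 1) • (⊤ : Submodule A (M n)) = ⊥)
    (hker : ∀ n, LinearMap.ker (f n) = I ^ (n + 1) • (⊤ : Submodule A (M (n + 1))))
    {r : ℕ} (e : Fin r → ∀ n, M n) (he : ∀ i n, f n (e i (n+1)) = e i n)
    (hspan : ∀ k, Submodule.span A (Set.range fun i => e i k) = ⊤)
    (y : ∀ n, M n) (hy : ∀ n, f n (y (n+1)) = y n) (n : ℕ) (u : Fin r → A)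
    (hu : ∑ i, u i • e i n = y n) :
    ∃ c : Fin r → A, (∀ i, c i - u i ∈ I ^ (n+1)) ∧ ∀ k, ∑ i, c i • e i k = y k := by
  classical
  have step : ∀ j (b : {b : Fin r → A // ∑ i, b i • e i (n+j) = y (n+j)}),
      ∃ b' : {b' : Fin r → A // ∑ i, b' i • e i (n+(j+1)) = y (n+(j+1))},
        ∀ i, b'.1 i - b.1 i ∈ I ^ (n+j+1) := by
    rintro j ⟨b, hb⟩
    have hw : y (n+j+1) - ∑ i, b i • e i (n+j+1) ∈ LinearMap.ker (f (n+j)) := by
      rw [LinearMap.mem_ker, map_sub, map_sum, hy]
      simp only [map_smul, he]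
      rw [hb, sub_self]
    rw [hker, ← hspan (n+j+1), Submodule.mem_ideal_smul_span_iff_exists_sum] at hw
    obtain ⟨a, ha, hsum⟩ := hw
    have hsum' : ∑ i, a i • e i (n+j+1) = y (n+j+1) - ∑ i, b i • e i (n+j+1) := by
      rw [← hsum, Finsupp.sum_fintype a (fun i c => c • e i (n+j+1)) (fun i => zero_smul _ _)]
    refine ⟨⟨fun i => b i + a i, ?_⟩, fun i => ?_⟩
    · show ∑ i, (b i + a i) • e i (n+j+1) = y (n+j+1)
      simp only [add_smul, Finset.sum_add_distrib]
      rw [hsum']; abel
    · show b i + a i - b i ∈ I ^ (n+j+1)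
      rw [add_sub_cancel_left]; exact ha i
  choose stepf hstepf using step
  let B : ∀ j, {b : Fin r → A // ∑ i, b i • e i (n+j) = y (n+j)} := fun j =>
    Nat.rec (motive := fun j => {b : Fin r → A // ∑ i, b i • e i (n+j) = y (n+j)})
      ⟨u, hu⟩ (fun j b => stepf j b) j
  have hBs : ∀ j i, (B (j+1)).1 i - (B j).1 i ∈ I ^ (n+j+1) := fun j i => hstepf j (B j) i
  have hBy : ∀ j, ∑ i, (B j).1 i • e i (n+j) = y (n+j) := fun j => (B j).2
  have tele : ∀ j d i, (B (j+d)).1 i - (B j).1 i ∈ I ^ (n+j+1) := by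
    intro j d i
    induction d with
    | zero =>
      show (B j).1 i - (B j).1 i ∈ _
      rw [sub_self]; exact Ideal.zero_mem _
    | succ d ih =>
      have h1 : (B (j+d+1)).1 i - (B (j+d)).1 i ∈ I ^ (n+j+1) :=
        Ideal.pow_le_pow_right (by omega) (hBs (j+d) i)
      have : (B (j+(d+1))).1 i - (B j).1 i =
          ((B (j+d+1)).1 i - (B (j+d)).1 i) + ((B (j+d)).1 i - (B j).1 i) := by
        show (B (j+d+1)).1 i - (B j).1 i = _
        ring
      rw [this]; exact Ideal.add_mem _ h1 ih
  have htop : ∀ m, (I ^ m • ⊤ : Submodule A A) = I ^ m := fun m => by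
    rw [Ideal.smul_eq_mul, Ideal.mul_top]
  have hlim : ∀ i, ∃ c : A, ∀ j, (B j).1 i ≡ c [SMOD (I ^ j • ⊤ : Submodule A A)] := by
    intro i
    apply IsPrecomplete.prec' (I := I) (fun j => (B j).1 i)
    intro m k hmk
    obtain ⟨d, rfl⟩ := Nat.exists_eq_add_of_le hmk
    rw [SModEq.sub_mem, htop]
    have h' : (B (m+d)).1 i - (B m).1 i ∈ I ^ m :=
      Ideal.pow_le_pow_right (by omega) (tele m d i)
    have : (B m).1 i - (B (m+d)).1 i = -((B (m+d)).1 i - (B m).1 i) := by ring
    show (B m).1 i - (B (m+d)).1 i ∈ I ^ m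
    rw [this]; exact neg_mem h'
  choose c hc using hlim
  have hcB : ∀ j i, c i - (B j).1 i ∈ I ^ (n+j+1) := by
    intro j i
    have h1 : (B (j + (n+1))).1 i - c i ∈ I ^ (j + (n+1)) := by
      have := SModEq.sub_mem.mp (hc i (j+(n+1)))
      rwa [htop] at this
    have h1' : (B (j + (n+1))).1 i - c i ∈ I ^ (n+j+1) :=
      Ideal.pow_le_pow_right (by omega) h1
    have h2 := tele j (n+1) i
    have : c i - (B j).1 i =
        -((B (j + (n+1))).1 i - c i) + ((B (j+(n+1))).1 i - (B j).1 i) := by ring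
    rw [this]; exact Ideal.add_mem _ (neg_mem h1') h2
  refine ⟨c, fun i => hcB 0 i, ?_⟩
  have hz : ∀ k, f k (∑ i, c i • e i (k+1)) = ∑ i, c i • e i k := by
    intro k; rw [map_sum]; simp only [map_smul, he]
  have hge : ∀ j, ∑ i, c i • e i (n+j) = y (n+j) := by
    intro j
    have hsplit : ∑ i, c i • e i (n+j) =
        ∑ i, (B j).1 i • e i (n+j) + ∑ i, (c i - (B j).1 i) • e i (n+j) := by
      rw [← Finset.sum_add_distrib]
      refine Finset.sum_congr rfl (fun i _ => ?_)
      rw [← add_smul]; congr 1; ring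
    rw [hsplit, hBy j]
    have hzero : ∀ i, (c i - (B j).1 i) • e i (n+j) = 0 := by
      intro i
      have hmem : (c i - (B j).1 i) • e i (n+j) ∈
          I ^ (n+j+1) • (⊤ : Submodule A (M (n+j))) :=
        Submodule.smul_mem_smul (hcB j i) Submodule.mem_top
      rw [hk] at hmem
      exact (Submodule.mem_bot A).mp hmem
    rw [Finset.sum_eq_zero (fun i _ => hzero i), add_zero]
  have agree : ∀ m, (∀ k, m ≤ k → ∑ i, c i • e i k = y k) → ∀ k, ∑ i, c i • e i k = y k := by
    intro m
    induction m with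
    | zero => intro h k; exact h k (Nat.zero_le k)
    | succ m ih =>
      intro h
      apply ih
      intro k hk
      by_cases hkm : k = m
      · rw [hkm, ← hz m, h (m+1) le_rfl, hy]
      · exact h k (by omega)
  apply agree n
  intro k hk
  obtain ⟨j, rfl⟩ := Nat.exists_eq_add_of_le hk
  exact hge j

/-- The module-theoretic heart, over a base that is already complete (so that the completion of A is A).
Let A be Noetherian and I-adically complete, and let (M_n, f_n : M_{n+1} → M_n) be an inverse system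
of finite A-modules with M_n annihilated by I^(n+1) and f_n surjective with kernel I^(n+1) M_{n+1}
(indices shifted by one). Then the A-module of compatible sequences is finitely generated, each
projection to M_n is surjective, and its kernel is I^(n+1) times the module of compatible sequences. -/
theorem result (A : Type u) [CommRing A] [IsNoetherianRing A] (I : Ideal A)
    [IsAdicComplete I A] (M : ℕ → Type u) [∀ n, AddCommGroup (M n)] [∀ n, Module A (M n)]
    [∀ n, Module.Finite A (M n)] (f : ∀ n, M (n + 1) →ₗ[A] M n) (hf : ∀ n, Function.Surjective (f n))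
    (hk : ∀ n, I ^ (n + 1) • (⊤ : Submodule A (M n)) = ⊥)
    (hker : ∀ n, LinearMap.ker (f n) = I ^ (n + 1) • (⊤ : Submodule A (M (n + 1))))
    (L : Submodule A (∀ n, M n)) (hL : ∀ x : ∀ n, M n, x ∈ L ↔ ∀ n, f n (x (n + 1)) = x n) :
    Module.Finite A L ∧ ∀ n, Function.Surjective ((LinearMap.proj n).comp L.subtype : L →ₗ[A] M n) ∧
      LinearMap.ker ((LinearMap.proj n).comp L.subtype : L →ₗ[A] M n) = I ^ (n + 1) • (⊤ : Submodule A L) := by
  classical
  have hS := exists_compat f hf
  obtain ⟨r, g, hg⟩ := Module.Finite.exists_fin (R := A) (M := M 0)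
  choose e he using fun i => hS 0 (g i)
  have hec : ∀ i n, f n (e i (n+1)) = e i n := fun i => (he i).1
  have hspan : ∀ k, Submodule.span A (Set.range fun i => e i k) = ⊤ := by
    apply span_all I M f hk hker e hec
    have : (fun i => e i 0) = g := funext fun i => (he i).2
    rw [this]; exact hg
  have heL : ∀ i, e i ∈ L := fun i => (hL (e i)).mpr (hec i)
  obtain ⟨e', he'⟩ : ∃ e' : Fin r → L, ∀ i, (e' i : ∀ n, M n) = e i :=
    ⟨fun i => ⟨e i, heL i⟩, fun i => rfl⟩
  have hrep : ∀ (y : L) (n : ℕ) (u : Fin r → A), ∑ i, u i • e i n = (y : ∀ n, M n) n →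
      ∃ c : Fin r → A, (∀ i, c i - u i ∈ I ^ (n+1)) ∧ y = ∑ i, c i • e' i := by
    intro y n u hu
    obtain ⟨c, hc1, hc2⟩ :=
      approx I M f hk hker e hec hspan y.1 ((hL y.1).mp y.2) n u hu
    refine ⟨c, hc1, Subtype.ext (funext fun k => ?_)⟩
    rw [← hc2 k]
    simp only [Submodule.coe_sum, Submodule.coe_smul, Finset.sum_apply, Pi.smul_apply, he']
  have hfin : Module.Finite A L := by
    apply Module.Finite.of_surjective (Fintype.linearCombination A e')
    intro y
    have hy0 : (y : ∀ n, M n) 0 ∈ Submodule.span A (Set.range fun i => e i 0) := by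
      rw [hspan 0]; trivial
    obtain ⟨u, hu⟩ := (Submodule.mem_span_range_iff_exists_fun A).mp hy0
    obtain ⟨c, -, hc⟩ := hrep y 0 u hu
    exact ⟨c, by rw [Fintype.linearCombination_apply]; exact hc.symm⟩
  refine ⟨hfin, fun n => ⟨?_, ?_⟩⟩
  · intro z
    obtain ⟨x, hx, hxn⟩ := hS n z
    exact ⟨⟨x, (hL x).mpr hx⟩, hxn⟩
  · apply le_antisymm
    · intro y hy
      rw [LinearMap.mem_ker] at hy
      have hy' : (y : ∀ n, M n) n = 0 := hy
      obtain ⟨c, hc1, hc2⟩ := hrep y n 0 (by simp [hy'])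
      rw [hc2]
      refine Submodule.sum_mem _ (fun i _ => Submodule.smul_mem_smul ?_ Submodule.mem_top)
      simpa using hc1 i
    · rw [Submodule.smul_le]
      intro a ha y _
      rw [LinearMap.mem_ker, map_smul]
      have hmem : a • ((LinearMap.proj n).comp L.subtype) y ∈
          I ^ (n+1) • (⊤ : Submodule A (M n)) :=
        Submodule.smul_mem_smul ha Submodule.mem_top
      rw [hk n] at hmem
      exact (Submodule.mem_bot A).mp hmem

end Groth.Agent.S0797
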