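import Groth.Statements.S0813
import Groth.Agent.H8.FlatBCStruct
import Groth.Agent.H17.ExtInv.PrimeInv
import Groth.Agent.S6039
import Groth.Agent.H2.ConnComp

set_option autoImplicit false
universe u
open Formal2

namespace Groth.Agent.S0813

section
open CategoryTheory CategoryTheory.Limits AlgebraicGeometry TopologicalSpace
open AlgebraicGeometry.Scheme.Modules

/-- Hartogs for the punctured spectrum, in the form `O ≅ j_* O_U` sectionwise. -/
theorem ι_app_bijective (A : Type u) [CommRing A] [IsNoetherianRing A] [IsLocalRing A]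
    (hdepth : (2 : ℕ∞) ≤ LocCoh.depth A A) (V : (Spec (CommRingCat.of A)).Opens) :
    Function.Bijective ((FEt.puncturedSpec A).ι.app V) := by
  have key := (Groth.Agent.S6039.result (Spec (CommRingCat.of A)) (FEt.puncturedSpec A)
    (Coh.structureModule _) (Groth.Agent.H8.isCoh_structureModule _)).1 (fun x hx => by
      rw [Groth.Agent.H2.ConnComp.depth_structureModule_stalk]
      exact Groth.Agent.H17.ExtInv.depth_stalk_of_not_mem_punctured A hdepth x hx)
  have H : ∀ V : (Spec (CommRingCat.of A)).Opens, Function.Bijective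
      ((Spec (CommRingCat.of A)).presheaf.map
        (homOfLE (inf_le_left : V ⊓ FEt.puncturedSpec A ≤ V)).op).hom := fun V => key V
  rw [Scheme.Opens.ι_app]
  have e : (FEt.puncturedSpec A).ι ''ᵁ (FEt.puncturedSpec A).ι ⁻¹ᵁ V =
      V ⊓ FEt.puncturedSpec A := by
    rw [Scheme.Hom.image_preimage_eq_opensRange_inf, Scheme.Opens.opensRange_ι, inf_comm]
  exact (Groth.Agent.H8.bijective_presheaf_map_congr rfl e inf_le_left _).mp (H V)

/-- fpqc descent of triviality of invertible modules on the punctured spectrum of a Noetherian local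
ring of depth at least two. -/
theorem picPullbackInjective_of_flat (A : Type u) [CommRing A] [IsNoetherianRing A] [IsLocalRing A]
    (hdepth : (2 : ℕ∞) ≤ LocCoh.depth A A) {X' : Scheme.{u}} (π : X' ⟶ Spec (CommRingCat.of A))
    [Flat π] [Surjective π] [QuasiCompact π] :
    Formal2.PicPullbackInjective (π ∣_ FEt.puncturedSpec A) := by
  rintro L hL ⟨e0⟩
  have hsq : IsPullback (π ∣_ FEt.puncturedSpec A) (π ⁻¹ᵁ FEt.puncturedSpec A).ι
      (FEt.puncturedSpec A).ι π := isPullback_morphismRestrict π _
  have hf := ι_app_bijective A hdepth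
  haveI : L.IsQuasicoherent := Groth.Agent.H8.isQuasicoherent_of_isFinLocFree L
    (Groth.Agent.H8.isFinLocFree_of_isInvertible hL)
  haveI : ((Scheme.Modules.pushforward (FEt.puncturedSpec A).ι).obj L).IsQuasicoherent :=
    Groth.Agent.H8.isQuasicoherent_pushforward _ L
  haveI := Groth.Agent.H8.FlatBC.isIso_uMap_of_flat hsq L
  haveI : IsIso (Groth.Agent.H8.canPush (π ⁻¹ᵁ FEt.puncturedSpec A).ι) :=
    Groth.Agent.H8.isIso_canPush _ (Groth.Agent.H8.app_bijective_of_flat_baseChange hsq hf)
  have e : (Scheme.Modules.pullback π).obj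
      ((Scheme.Modules.pushforward (FEt.puncturedSpec A).ι).obj L) ≅ Coh.structureModule X' :=
    asIso (Groth.Agent.H8.AffBC.uMap _ _ _ _ hsq.w L) ≪≫
      (Scheme.Modules.pushforward (π ⁻¹ᵁ FEt.puncturedSpec A).ι).mapIso e0 ≪≫
      (asIso (Groth.Agent.H8.canPush _)).symm
  have hM : PicF.IsInvertible ((Scheme.Modules.pushforward (FEt.puncturedSpec A).ι).obj L) :=
    Groth.Agent.H8.isInvertible_of_pullback_iso (g := π) _
      (Groth.Agent.H8.isInvertible_structureModule _) e
  obtain ⟨W, hmW, ⟨eW⟩⟩ := hM (IsLocalRing.closedPoint A)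
  have hW : W = ⊤ := Groth.Agent.S2824.eq_top_of_mem A W hmW
  subst hW
  haveI : IsIso (⊤ : (Spec (CommRingCat.of A)).Opens).ι :=
    inferInstanceAs (IsIso (Scheme.topIso _).hom)
  obtain ⟨i⟩ := Groth.Agent.H8.nonempty_iso_of_restrict_iso
    (⊤ : (Spec (CommRingCat.of A)).Opens).ι
    (Groth.Agent.H8.FF.of_isIso _) hM (Groth.Agent.H8.isInvertible_structureModule _)
    (eW ≪≫ (restrictUnitIso _).symm)
  have i1 : L ≅ (restrictFunctor (FEt.puncturedSpec A).ι).obj
      ((Scheme.Modules.pushforward (FEt.puncturedSpec A).ι).obj L) :=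
    ((restrictFunctorAdjCounitIso (FEt.puncturedSpec A).ι).app L).symm
  have i2 : (restrictFunctor (FEt.puncturedSpec A).ι).obj
      ((Scheme.Modules.pushforward (FEt.puncturedSpec A).ι).obj L) ≅
      (restrictFunctor (FEt.puncturedSpec A).ι).obj (Coh.structureModule _) :=
    (restrictFunctor (FEt.puncturedSpec A).ι).mapIso i
  have i3 : (restrictFunctor (FEt.puncturedSpec A).ι).obj (Coh.structureModule _) ≅
      Coh.structureModule _ := restrictUnitIso (FEt.puncturedSpec A).ι
  exact ⟨i1 ≪≫ i2 ≪≫ i3⟩

end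

open CategoryTheory AlgebraicGeometry in
/-- Let (A, 𝔪) be a Noetherian local ring of depth at least 2, A^ its 𝔪-adic completion, U the punctured
spectrum of A and U^ its preimage in Spec A^ (the punctured spectrum of A^). Then an invertible
O_U-module whose pullback to U^ is trivial is trivial. -/
theorem result (A : Type u) [CommRing A] [IsNoetherianRing A]
    [IsLocalRing A] (hdepth : (2 : ℕ∞) ≤ LocCoh.depth A A) :
    Formal2.PicPullbackInjective
      (Spec.map (CommRingCat.ofHom (algebraMap A (AdicCompletion (IsLocalRing.maximalIdeal A) A))) ∣_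
        FEt.puncturedSpec A) := by
  haveI : Module.FaithfullyFlat A (AdicCompletion (IsLocalRing.maximalIdeal A) A) :=
    Module.FaithfullyFlat.of_flat_of_isLocalHom
  haveI : AlgebraicGeometry.Flat (Spec.map (CommRingCat.ofHom
      (algebraMap A (AdicCompletion (IsLocalRing.maximalIdeal A) A)))) :=
    AlgebraicGeometry.Flat.SpecMap_iff.mpr (RingHom.flat_algebraMap_iff.mpr inferInstance)
  haveI : AlgebraicGeometry.Surjective (Spec.map (CommRingCat.ofHom
      (algebraMap A (AdicCompletion (IsLocalRing.maximalIdeal A) A)))) :=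
    ⟨PrimeSpectrum.comap_surjective_of_faithfullyFlat (A := A)
      (B := AdicCompletion (IsLocalRing.maximalIdeal A) A)⟩
  exact picPullbackInjective_of_flat A hdepth _

end Groth.Agent.S0813
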