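import Groth.Statements.S0818
-- import your own Groth.Agent.* helpers here
import Groth.Agent.H8.DevMain
import Groth.Agent.H8.DevIS

set_option autoImplicit false
universe u
open Coherent

namespace Groth.Agent.S0818

set_option linter.style.haveILetI false
open AlgebraicGeometry CategoryTheory CategoryTheory.Limits Groth.Agent.H8.Dev TopologicalSpace
open scoped ZeroObject

/-- `pw F 1 ≅ F`. -/
noncomputable def pwOne {X : Scheme.{u}} (F' : X.Modules) : pw F' 1 ≅ F' :=
  have hsnd : (biprod.snd : F' ⊞ pw F' 0 ⟶ pw F' 0) = 0 := (isZero_zero _).eq_of_tgt _ _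
  { hom := (biprod.fst : F' ⊞ pw F' 0 ⟶ F')
    inv := (biprod.inl : F' ⟶ F' ⊞ pw F' 0)
    hom_inv_id := by
      have h := biprod.total (X := F') (Y := pw F' 0)
      rw [hsnd, zero_comp, add_zero] at h
      exact h
    inv_hom_id := biprod.inl_fst }

theorem length_residueField (R : Type u) [CommRing R] [IsLocalRing R] :
    Module.length R (IsLocalRing.ResidueField R) = 1 := by
  rw [Module.length_eq_one_iff]
  exact isSimpleModule_iff_isCoatom.mpr (Ideal.isMaximal_def.mp (IsLocalRing.maximalIdeal.isMaximal R))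

theorem killed_residueField (R : Type u) [CommRing R] [IsLocalRing R]
    (a : R) (ha : a ∈ IsLocalRing.maximalIdeal R) (k : IsLocalRing.ResidueField R) : a • k = 0 := by
  rw [Algebra.smul_def]
  have : algebraMap R (IsLocalRing.ResidueField R) a = 0 :=
    (IsLocalRing.residue_eq_zero_iff a).mpr ha
  rw [this, zero_mul]


open CategoryTheory AlgebraicGeometry in
/-- Let X be a nonempty Noetherian scheme and P an isomorphism-invariant property of O_X-modules such
that (1) in every short exact sequence of coherent O_X-modules, if two of the three terms satisfy P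
then so does the third, and (2) for every integral scheme Z and closed immersion i : Z → X, with ξ
the generic point of Z, there is a coherent O_X-module G satisfying P whose support is exactly i(Z)
and whose stalk at i(ξ) is isomorphic, as a module over the local ring O_{X,i(ξ)}, to the residue
field of that local ring. Then every coherent O_X-module satisfies P. (The published statement
leaves the nonemptiness of X implicit; it is needed to handle the zero module and is assumed
explicitly here.) -/
theorem result (X : Scheme.{u}) [IsNoetherian X] [Nonempty X]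
    (P : X.Modules → Prop) (hP : ∀ M N : X.Modules, Nonempty (M ≅ N) → P M → P N)
    (h₁ : ∀ S : ShortComplex X.Modules, S.ShortExact → Coh.IsCoh S.X₁ → Coh.IsCoh S.X₂ → Coh.IsCoh S.X₃ →
      (P S.X₁ → P S.X₂ → P S.X₃) ∧ (P S.X₁ → P S.X₃ → P S.X₂) ∧ (P S.X₂ → P S.X₃ → P S.X₁))
    (h₂ : ∀ (Z : Scheme.{u}) (i : Z ⟶ X) [IsClosedImmersion i] [IsIntegral Z],
      ∃ G : X.Modules, Coh.IsCoh G ∧ CohB1.support G = Set.range ⇑i ∧
        Nonempty (↑(G.presheaf.stalk (i (genericPoint Z))) ≃ₗ[X.presheaf.stalk (i (genericPoint Z))]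
          IsLocalRing.ResidueField (X.presheaf.stalk (i (genericPoint Z)))) ∧ P G)
    (M : X.Modules) (hM : Coh.IsCoh M) : P M := by
  let K' : ObjectProperty X.Modules := P
  haveI : K'.IsClosedUnderIsomorphisms := ⟨fun e h => hP _ _ ⟨e⟩ h⟩
  -- the zero module
  have hzero : P (0 : X.Modules) := by
    obtain ⟨x⟩ := ‹Nonempty X›
    obtain ⟨Z, i, hi, hZ, -, -⟩ := IS X (closure {x}) isClosed_closure
      isIrreducible_singleton.closure x rfl
    obtain ⟨G, hG, -, -, hPG⟩ := h₂ Z i
    let S : ShortComplex X.Modules :=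
      ShortComplex.mk (biprod.inl : (0 : X.Modules) ⟶ 0 ⊞ G) biprod.snd (by simp)
    have hS : S.ShortExact := (ShortComplex.Splitting.ofHasBinaryBiproduct 0 G).shortExact
    have c0 : Coh.IsCoh (0 : X.Modules) := Groth.Agent.H90.QH.isCoh_of_isZero (isZero_zero _)
    have hfst : (biprod.fst : (0 : X.Modules) ⊞ G ⟶ 0) = 0 := (isZero_zero _).eq_of_tgt _ _
    let e : (0 : X.Modules) ⊞ G ≅ G :=
      { hom := biprod.snd
        inv := biprod.inr
        hom_inv_id := by
          have h := biprod.total (X := (0 : X.Modules)) (Y := G)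
          rw [hfst, zero_comp, zero_add] at h
          exact h
        inv_hom_id := biprod.inr_snd }
    exact (h₁ S hS c0 (isCoh_biprod c0 hG) hG).2.2 (hP _ _ ⟨e.symm⟩ hPG) hPG
  have h0 : ∀ N : X.Modules, IsZero N → K' N := fun N hN =>
    hP _ _ ⟨(hN.iso (isZero_zero _)).symm⟩ hzero
  refine main K' h0 h₁ Set.univ ?_ M hM (Set.subset_univ _)
  intro T hT hirr _ y hy _
  obtain ⟨Z, i, hi, hZ, hrange, hgp⟩ := IS X T hT hirr y hy
  obtain ⟨G, hG, hGs, ⟨e⟩, hPG⟩ := h₂ Z i
  subst hgp
  refine ⟨G, 1, hG, hPG, by rw [hGs, hrange], ?_, le_rfl, ?_, ?_⟩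
  · intro a ha t
    apply e.injective
    rw [map_smul, map_zero]
    exact killed_residueField _ a ha _
  · rw [e.length_eq, length_residueField]
    rfl
  · intro F' hF' hK
    exact K'.prop_of_iso (pwOne F') hK

end Groth.Agent.S0818
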