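import Groth.Statements.S0819
-- import your own Groth.Agent.* helpers here
import Groth.Agent.H8.DevMain3

set_option autoImplicit false
universe u
open Coherent

namespace Groth.Agent.S0819

set_option linter.style.haveILetI false
open AlgebraicGeometry CategoryTheory CategoryTheory.Limits Groth.Agent.H8.Dev TopologicalSpace
open scoped ZeroObject

/-- `pw F 1 ≅ F`. -/
noncomputable def pwOne {X : Scheme.{u}} (F' : X.Modules) : pw F' 1 ≅ F' :=
  have hsnd : (biprod.snd : F' ⊞ pw F' 0 ⟶ pw F' 0) = 0 := (isZero_zero _).eq_of_tgt _ _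
  { hom := (biprod.fst : F' ⊞ pw F' 0 ⟶ F')
    inv := (biprod.inl : F' ⟶ F' ⊞ pw F' 0)
    hom_inv_id := by
      have h := biprod.total (X := F') (Y := pw F' 0)
      rw [hsnd, zero_comp, add_zero] at h
      exact h
    inv_hom_id := biprod.inl_fst }

theorem length_residueField (R : Type u) [CommRing R] [IsLocalRing R] :
    Module.length R (IsLocalRing.ResidueField R) = 1 := by
  rw [Module.length_eq_one_iff]
  exact isSimpleModule_iff_isCoatom.mpr (Ideal.isMaximal_def.mp (IsLocalRing.maximalIdeal.isMaximal R))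

theorem killed_residueField (R : Type u) [CommRing R] [IsLocalRing R]
    (a : R) (ha : a ∈ IsLocalRing.maximalIdeal R) (k : IsLocalRing.ResidueField R) : a • k = 0 := by
  rw [Algebra.smul_def]
  have : algebraMap R (IsLocalRing.ResidueField R) a = 0 :=
    (IsLocalRing.residue_eq_zero_iff a).mpr ha
  rw [this, zero_mul]


open CategoryTheory AlgebraicGeometry in
/-- Let X be a Noetherian scheme, Z₀ ⊆ X an irreducible closed subset with generic point ξ, and P an
isomorphism-invariant property of O_X-modules such that: (1) in every short exact sequence of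
coherent modules supported in Z₀, P for two of the terms implies P for the third; (2) P holds for
i_* I whenever i : Z → X is an integral closed subscheme with i(Z) a proper subset of Z₀ and I ⊆ O_Z
is a quasi-coherent ideal sheaf; (3) there is a coherent G with support exactly Z₀, stalk at ξ
isomorphic to the residue field over the local ring, and P(G). Then P holds for every coherent
module whose support is contained in Z₀. -/
theorem result (X : Scheme.{u}) [IsNoetherian X]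
    (Z₀ : Set X) (hZ₀ : IsClosed Z₀) (hirr : IsIrreducible Z₀) (ξ : X) (hξ : ξ ∈ Z₀ ∧ closure {ξ} = Z₀)
    (P : X.Modules → Prop) (hP : ∀ M N : X.Modules, Nonempty (M ≅ N) → P M → P N)
    (h₁ : ∀ S : ShortComplex X.Modules, S.ShortExact → Coh.IsCoh S.X₁ → Coh.IsCoh S.X₂ → Coh.IsCoh S.X₃ →
      CohB1.support S.X₂ ⊆ Z₀ →
      (P S.X₁ → P S.X₂ → P S.X₃) ∧ (P S.X₁ → P S.X₃ → P S.X₂) ∧ (P S.X₂ → P S.X₃ → P S.X₁))
    (h₂ : ∀ (Z : Scheme.{u}) (i : Z ⟶ X), IsClosedImmersion i → IsIntegral Z →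
      Set.range ⇑i ⊆ Z₀ → Set.range ⇑i ≠ Z₀ →
      ∀ (I : Z.Modules) (ι : I ⟶ Coh.structureModule Z), Mono ι → Coh.IsQCoh I →
        P ((Coh.push i).obj I))
    (h₃ : ∃ G : X.Modules, Coh.IsCoh G ∧ CohB1.support G = Z₀ ∧
      Nonempty (↑(G.presheaf.stalk ξ) ≃ₗ[X.presheaf.stalk ξ] IsLocalRing.ResidueField (X.presheaf.stalk ξ)) ∧ P G)
    (M : X.Modules) (hM : Coh.IsCoh M) (hsupp : CohB1.support M ⊆ Z₀) : P M := by
  obtain ⟨G₀, hG₀, hG₀s, ⟨e₀⟩, hPG₀⟩ := h₃
  let K' : ObjectProperty X.Modules := fun N => CohB1.support N ⊆ Z₀ ∧ P N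
  have hsuppiso : ∀ {A B : X.Modules}, (A ≅ B) → CohB1.support B ⊆ CohB1.support A :=
    fun e => supp_mono e.inv
  haveI : K'.IsClosedUnderIsomorphisms :=
    ⟨fun e h => ⟨(hsuppiso e).trans h.1, hP _ _ ⟨e⟩ h.2⟩⟩
  have hzero : P (0 : X.Modules) := by
    let S : ShortComplex X.Modules :=
      ShortComplex.mk (biprod.inl : (0 : X.Modules) ⟶ 0 ⊞ G₀) biprod.snd (by simp)
    have hS : S.ShortExact := (ShortComplex.Splitting.ofHasBinaryBiproduct 0 G₀).shortExact
    have c0 : Coh.IsCoh (0 : X.Modules) := Groth.Agent.H90.QH.isCoh_of_isZero (isZero_zero _)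
    have hfst : (biprod.fst : (0 : X.Modules) ⊞ G₀ ⟶ 0) = 0 := (isZero_zero _).eq_of_tgt _ _
    let e : (0 : X.Modules) ⊞ G₀ ≅ G₀ :=
      { hom := biprod.snd
        inv := biprod.inr
        hom_inv_id := by
          have h := biprod.total (X := (0 : X.Modules)) (Y := G₀)
          rw [hfst, zero_comp, zero_add] at h
          exact h
        inv_hom_id := biprod.inr_snd }
    have hs2 : CohB1.support S.X₂ ⊆ Z₀ := (hsuppiso e.symm).trans hG₀s.le
    exact (h₁ S hS c0 (isCoh_biprod c0 hG₀) hG₀ hs2).2.2 (hP _ _ ⟨e.symm⟩ hPG₀) hPG₀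
  have h0 : ∀ N : X.Modules, IsZero N → K' N := fun N hN =>
    ⟨by rw [supp_isZero hN]; exact Set.empty_subset _,
      hP _ _ ⟨(hN.iso (isZero_zero _)).symm⟩ hzero⟩
  have hex : ∀ S : ShortComplex X.Modules, S.ShortExact → Coh.IsCoh S.X₁ → Coh.IsCoh S.X₂ →
      Coh.IsCoh S.X₃ →
      (K' S.X₁ → K' S.X₂ → K' S.X₃) ∧ (K' S.X₁ → K' S.X₃ → K' S.X₂) ∧
        (K' S.X₂ → K' S.X₃ → K' S.X₁) := by
    intro S hS c1 c2 c3
    haveI := hS.mono_f
    haveI := hS.epi_g
    refine ⟨fun k1 k2 => ⟨(supp_epi S.g).trans k2.1, (h₁ S hS c1 c2 c3 k2.1).1 k1.2 k2.2⟩,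
      fun k1 k3 => ?_, fun k2 k3 => ⟨(supp_mono S.f).trans k2.1, (h₁ S hS c1 c2 c3 k2.1).2.2 k2.2 k3.2⟩⟩
    have hs2 : CohB1.support S.X₂ ⊆ Z₀ :=
      (supp_exact S hS.exact).trans (Set.union_subset k1.1 k3.1)
    exact ⟨hs2, (h₁ S hS c1 c2 c3 hs2).2.1 k1.2 k3.2⟩
  refine (main K' h0 hex Z₀ ?_ M hM hsupp).2
  intro T hT hTirr hTZ₀ y hy _
  by_cases hTeq : T = Z₀
  · -- the generic case: use `G₀`
    have hyξ : y = ξ := by
      have h1 : IsGenericPoint y T := hy
      have h2 : IsGenericPoint ξ T := by rw [hTeq]; exact hξ.2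
      exact h1.eq h2
    subst hyξ
    refine ⟨G₀, 1, hG₀, ⟨hG₀s.le, hPG₀⟩, by rw [hG₀s, hTeq], ?_, le_rfl, ?_, ?_⟩
    · intro a ha t
      apply e₀.injective
      rw [map_smul, map_zero]
      exact killed_residueField _ a ha _
    · rw [e₀.length_eq, length_residueField]
      rfl
    · intro F' hF' hK
      exact K'.prop_of_iso (pwOne F') hK
  · obtain ⟨Z, i, hi, hZ, hrange, hgp⟩ := IS X T hT hTirr y hy
    subst hgp
    have cO := Groth.Agent.H8.isCoh_structureModule Z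
    obtain ⟨hG, hGs, hGk, -⟩ := PF i (Coh.structureModule Z) cO
    have hGlen := PF1 i
    have hPG : P ((Coh.push i).obj (Coh.structureModule Z)) :=
      h₂ Z i hi hZ (hrange ▸ hTZ₀) (hrange ▸ hTeq) (Coh.structureModule Z) (𝟙 _) inferInstance cO.1
    refine ⟨_, 1, hG, ⟨(hGs.trans hrange.le).trans hTZ₀, hPG⟩, hGs.trans hrange.le, hGk, le_rfl,
      by rw [hGlen]; rfl, ?_⟩
    intro F' hF' hK
    exact K'.prop_of_iso (pwOne F') hK

end Groth.Agent.S0819
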