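import Groth.Statements.S0825
import Mathlib
import Groth.Agent.H58.LCExtTrans
import Groth.Agent.H58.LCFG

set_option autoImplicit false
universe u
open scoped BigOperators
open LocCoh

namespace Groth.Agent.S0825

/-- Let A be a Noetherian ring and I the ideal generated by f_1, …, f_r, with cohomological dimension
exactly 1. Then there are c ≥ 1 and A-linear maps φ_j : I^c → A such that x = Σ_j f_j φ_j(x) for
every x ∈ I^c. -/
theorem result (A : Type u) [CommRing A] [IsNoetherianRing A] (r : ℕ) (f : Fin r → A)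
    (h₁ : LocCoh.CdLE A (Ideal.span (Set.range f)) 1) (h₀ : ¬ LocCoh.CdLE A (Ideal.span (Set.range f)) 0) :
    ∃ (c : ℕ) (φ : Fin r → (↥(Ideal.span (Set.range f) ^ (c + 1)) →ₗ[A] A)),
      ∀ x : ↥(Ideal.span (Set.range f) ^ (c + 1)), (x : A) = ∑ j, f j * φ j x := by
  classical
  have hfj : ∀ j, f j ∈ Ideal.span (Set.range f) ^ 1 := fun j => by
    rw [pow_one]; exact Ideal.subset_span ⟨j, rfl⟩
  obtain ⟨g, hg⟩ : ∃ g : (Fin r → A) →ₗ[A] ↥(Ideal.span (Set.range f) ^ 1),
      g = Fintype.linearCombination A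
        (fun j => (⟨f j, hfj j⟩ : ↥(Ideal.span (Set.range f) ^ 1))) := ⟨_, rfl⟩
  have hval : ∀ a : Fin r → A, ((g a : ↥(Ideal.span (Set.range f) ^ 1)) : A) =
      ∑ j, a j * f j := by
    intro a
    rw [hg, Fintype.linearCombination_apply, Submodule.coe_sum]
    exact Finset.sum_congr rfl (fun j _ => rfl)
  have hgsurj : Function.Surjective g := by
    rintro ⟨x, hx⟩
    have hx' : x ∈ Ideal.span (Set.range f) := by rwa [pow_one] at hx
    obtain ⟨c, hc⟩ := (Ideal.mem_span_range_iff_exists_fun).1 hx'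
    exact ⟨c, Subtype.ext ((hval c).trans hc)⟩
  have hS := Groth.Agent.H58.LC.scMod_shortExact (LinearMap.ker g).subtype g
    (Submodule.injective_subtype _) hgsurj (LinearMap.exact_subtype_ker_map g)
  obtain ⟨m, hm, hE⟩ := Groth.Agent.H58.LC.exists_transition_zero
    (Ideal.span (Set.range f)) 1 h₁ 1
  have h1m : 1 ≤ m := le_of_lt hm
  have hE' := hE (ModuleCat.of A (LinearMap.ker g)) 2 (by norm_num)
    ((Groth.Agent.H58.LC.e (Ideal.span (Set.range f)) 1).comp hS.extClass (show 1 + 1 = 2 by rfl))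
  rw [← CategoryTheory.Abelian.Ext.comp_assoc
      (CategoryTheory.Abelian.Ext.mk₀ (Groth.Agent.H58.LC.π (Ideal.span (Set.range f)) h1m))
      (Groth.Agent.H58.LC.e (Ideal.span (Set.range f)) 1) hS.extClass (zero_add 1)
      (show 1 + 1 = 2 by rfl) (show 0 + 1 + 1 = 2 by rfl),
    ← Groth.Agent.H58.LC.e_naturality (Ideal.span (Set.range f)) h1m,
    CategoryTheory.Abelian.Ext.comp_assoc (Groth.Agent.H58.LC.e (Ideal.span (Set.range f)) m)
      (CategoryTheory.Abelian.Ext.mk₀ (Groth.Agent.H58.LC.incl (Ideal.span (Set.range f)) h1m))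
      hS.extClass (add_zero 1) (zero_add 1) (show 1 + 0 + 1 = 2 by rfl)] at hE'
  obtain ⟨z, hz⟩ := CategoryTheory.Abelian.Ext.contravariant_sequence_exact₁
    (Groth.Agent.H58.LC.Sn_shortExact (Ideal.span (Set.range f)) m)
    (ModuleCat.of A (LinearMap.ker g)) _ (show 1 + 1 = 2 by rfl) hE'
  have hz0 : z = 0 := CategoryTheory.Abelian.Ext.eq_zero_of_projective (P := ModuleCat.of A A) z
  rw [hz0, CategoryTheory.Abelian.Ext.comp_zero] at hz
  obtain ⟨x₂, hx₂⟩ := CategoryTheory.Abelian.Ext.covariant_sequence_exact₃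
    (ModuleCat.of A ↥(Ideal.span (Set.range f) ^ m)) hS
    (CategoryTheory.Abelian.Ext.mk₀ (Groth.Agent.H58.LC.incl (Ideal.span (Set.range f)) h1m))
    (zero_add 1) hz.symm
  obtain ⟨ψ, rfl⟩ := Groth.Agent.H58.LC.exists_mk₀ x₂
  rw [CategoryTheory.Abelian.Ext.mk₀_comp_mk₀] at hx₂
  have hψ := Groth.Agent.H58.LC.mk₀_injective hx₂
  obtain ⟨c, rfl⟩ : ∃ c, m = c + 1 := ⟨m - 1, by omega⟩
  refine ⟨c, fun j => (LinearMap.proj j) ∘ₗ ψ.hom, fun x => ?_⟩
  have h2 := congrArg (fun t => ((t.hom x : ↥(Ideal.span (Set.range f) ^ 1)) : A)) hψ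
  have h3 : ((g (ψ.hom x) : ↥(Ideal.span (Set.range f) ^ 1)) : A) = (x : A) := h2
  rw [hval] at h3
  rw [← h3]
  exact Finset.sum_congr rfl (fun j _ => mul_comm _ _)

end Groth.Agent.S0825
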