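import Groth.Statements.S7260
-- import your own Groth.Agent.* helpers here
import Groth.Agent.H5.RlimMod.LimHeart
import Groth.Agent.H5.RlimMod.ModExt
import Groth.Agent.H31.GrothAb
import Groth.Agent.H31.StalkKFlat
import Groth.Agent.H33.HMapSite
import Groth.Agent.H45.AffineOpenVanishing
import Groth.Agent.H22.QCohLimits

set_option autoImplicit false
universe u
open CategoryTheory CategoryTheory.Limits AlgebraicGeometry
attribute [local instance] HasDerivedCategory.standard
open Perf

namespace Groth.Agent.S7260


open Groth.Agent.H31.Stalk Groth.Agent.H5.RlimMod in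
theorem aux (X : Scheme.{u}) (F : ℕ → ModSite.Mod (shX X))
    (hF : ∀ n, Coh.IsQCoh (X := X) (F n)) (t : ∀ n, F (n + 1) ⟶ F n)
    (ht : ∀ n, 1 ≤ n → Epi (t n))
    [HasProduct fun n => (DerivedCategory.singleFunctor (ModSite.Mod (shX X)) 0).obj (F n)] :
    DCoh.IsRlim (fun n => (DerivedCategory.singleFunctor (ModSite.Mod (shX X)) 0).obj (F n))
        (fun n => (DerivedCategory.singleFunctor (ModSite.Mod (shX X)) 0).map (t n))
        ((DerivedCategory.singleFunctor (ModSite.Mod (shX X)) 0).obj
          (Limits.limit (Functor.ofOpSequence t))) ∧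
      ∀ (U : X.Opens), IsAffineOpen U → ∀ p : ℕ, 0 < p →
        Subsingleton (ModSite.HU (shX X) (Limits.limit (Functor.ofOpSequence t)) p U) := by
  haveI : IsGrothendieckAbelian.{u} (ModSite.Mod (shX X)) :=
    Groth.Agent.H31.GrothAb.isGrothendieckAbelian _ (ModSite.ringSh (shX X))
  letI hE : HasExt.{u} (ModSite.Mod (shX X)) :=
    hasExt_of_enoughInjectives.{u} (ModSite.Mod (shX X))
  have hB : ∀ U : X.Opens, ∃ (ι : Type u) (Y : ι → X.Opens) (f : ∀ i, Y i ⟶ U),
      Sieve.ofArrows Y f ∈ Opens.grothendieckTopology X U ∧ ∀ i, Y i ∈ X.affineOpens :=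
    fun U => Groth.Agent.H33.HMapSite.basis_cover (X := X.carrier) X.affineOpens
      X.isBasis_affineOpens U
  have hvan : ∀ (W : X.Opens), IsAffineOpen W → ∀ M : ModSite.Mod (shX X),
      Coh.IsQCoh (X := X) M → ∀ k : ℕ, 0 < k →
      Subsingleton (Abelian.Ext.{u} (ModSite.freeOn (shX X) W) M k) := by
    intro W hW M hM k hk
    obtain ⟨k', rfl⟩ : ∃ k' : ℕ, k = k' + 1 := ⟨k - 1, by omega⟩
    haveI : SheafOfModules.IsQuasicoherent (R := X.ringCatSheaf) M := hM
    exact subsingleton_ext_freeOn (shX X) W M (k' + 1)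
      (Groth.Agent.H45.AffineVanishing.subsingleton_HU_of_isAffineOpen (X := X) M hW k')
  obtain ⟨h1, h2⟩ := isRlim_limit_and_ext_vanishing (modSec (shX X)) F t X.affineOpens hB
    (fun V hV n k hk => hvan V hV (F n) (hF n) k hk) (fun V hV n hn a => by
      haveI := ht n hn
      let T : ShortComplex (ModSite.Mod (shX X)) :=
        ShortComplex.mk (kernel.ι (t n)) (t n) (kernel.condition _)
      have hT : T.ShortExact :=
        { exact := ShortComplex.exact_kernel (t n)
          mono_f := inferInstanceAs (Mono (kernel.ι (t n)))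
          epi_g := inferInstanceAs (Epi (t n)) }
      have hk : Coh.IsQCoh (X := X) (kernel (t n)) := by
        haveI : SheafOfModules.IsQuasicoherent (R := X.ringCatSheaf) (F (n + 1)) := hF (n + 1)
        haveI : SheafOfModules.IsQuasicoherent (R := X.ringCatSheaf) (F n) := hF n
        exact Groth.Agent.H22.QCohLimits.isQuasicoherent_kernel (X := X) (t n)
      exact Groth.Agent.H33.Leray.hom_surjective_of_ext_one (ModSite.freeOn (shX X) V) hT
        (hvan V hV (kernel (t n)) hk 1 one_pos) a)
  refine ⟨h1, fun U hU p hp => ?_⟩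
  have h3 := h2 U hU p hp
  obtain ⟨i⟩ := nonempty_ext_freeOn_iso (shX X) U (limit (Functor.ofOpSequence t)) p
  exact (i.addCommGroupIsoToAddEquiv.toEquiv).subsingleton_congr.mp h3

/-- Let X be a scheme and (F_n)_{n ≥ 0} an inverse system of quasi-coherent O_X-modules whose transition
maps F_{n+1} ⟶ F_n are surjective for n ≥ 1. Then R lim F_n = lim F_n, that is, lim F_n placed in
degree 0 is a derived limit in D(O_X) of the system (F_n[0]) (granted the countable product exists
there), and H^p(U, lim F_n) = 0 for every affine open U ⊆ X and every p > 0. (The published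
statement is phrased for the system of q-th cohomology sheaves of an inverse system in D_QCoh(O_X);
the proof uses only that these form an inverse system of quasi-coherent modules with surjective
transition maps, which is the form stated here.) -/
theorem result {X : Scheme.{u}} (F : ℕ → X.Modules)
    (hF : ∀ n, Coh.IsQCoh (F n)) (t : ∀ n, F (n + 1) ⟶ F n) (ht : ∀ n, 1 ≤ n → Epi (t n))
    [HasProduct fun n => DCoh.inD X (F n)] :
    DCoh.IsRlim (fun n => DCoh.inD X (F n)) (fun n => (DerivedCategory.singleFunctor X.Modules 0).map (t n))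
        (DCoh.inD X (Limits.limit (Functor.ofOpSequence t))) ∧
      ∀ (U : X.Opens), IsAffineOpen U → ∀ p : ℕ, 0 < p →
        Subsingleton (Coh.HHon X (Limits.limit (Functor.ofOpSequence t)) U p) := by
  have hP : HasProduct fun n => DCoh.inD X (F n) := inferInstance
  obtain ⟨h1, h2⟩ := @aux X F hF t ht hP
  refine ⟨h1, fun U hU p hp => ?_⟩
  have h4 := h2 U hU p hp
  obtain ⟨e⟩ := Groth.Agent.H45.CohTopRestr.nonempty_HU_addEquiv_H_restr (X := X.carrier) U
    (Coh.toAb (limit (Functor.ofOpSequence t))) p
  exact @Equiv.subsingleton _ _ e.symm.toEquiv h4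

end Groth.Agent.S7260
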