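import Groth.Statements.S0826
-- import your own Groth.Agent.* helpers here
import Groth.Agent.S7260
import Groth.Agent.H5.Rlim.Transport

set_option autoImplicit false
universe u
open Formal2

namespace Groth.Agent.S0826


section Aux
attribute [local instance] HasDerivedCategory.standard
open CategoryTheory CategoryTheory.Limits AlgebraicGeometry Opposite

theorem epi_of_isIso_desc {C : Type*} [Category C] [Abelian C] {K M N : C} (s : K ⟶ M) (f : M ⟶ N)
    (h : s ≫ f = 0) (hi : IsIso (cokernel.desc s f h)) : Epi f := by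
  have : f = cokernel.π s ≫ cokernel.desc s f h := (cokernel.π_desc s f h).symm
  rw [this]
  infer_instance

theorem aux {X : Scheme.{u}} (G : ℕᵒᵖ ⥤ X.Modules) (hq : ∀ n, Coh.IsQCoh (G.obj (op n)))
    (ht : ∀ n, Epi (G.map (homOfLE (Nat.le_succ n)).op))
    (U : X.Opens) (hU : IsAffineOpen U) (p : ℕ) (hp : 0 < p) :
    Subsingleton (Coh.HHon X (limit G) U p) := by
  haveI : IsGrothendieckAbelian.{u} X.Modules :=
    Groth.Agent.H31.GrothAb.isGrothendieckAbelian _ (ModSite.ringSh (Groth.Agent.H31.Stalk.shX X))
  haveI : HasProduct fun n => DCoh.inD X (G.obj (op n)) :=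
    Groth.Agent.H5.SiteEq.hasProduct_derived_nat _
  have key := (Groth.Agent.S7260.result (fun n => G.obj (op n)) hq
    (fun n => G.map (homOfLE (Nat.le_succ n)).op) (fun n _ => ht n)).2 U hU p hp
  let ψ : limit G ≅ limit (CohCx.opSequence (fun n => G.obj (op n))
      (fun n => G.map (homOfLE (Nat.le_succ n)).op)) :=
    HasLimit.isoOfNatIso (Groth.Agent.H5.Rlim.isoOpSequence G)
  let e := (Sheaf.functorH (Opens.grothendieckTopology ↥U) p).mapIso
    ((SheafOfModules.toSheaf _).mapIso ((Scheme.Modules.restrictFunctor U.ι).mapIso ψ))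
  exact (e.addCommGroupIsoToAddEquiv.toEquiv).subsingleton_congr.mpr key

end Aux

open CategoryTheory CategoryTheory.Limits AlgebraicGeometry in
/-- Part (2), for the ideal sheaf generated by an ideal I of a base ring A. Let X be a scheme over Spec
A and (G_n) an inverse system of quasi-coherent O_X-modules with G_n killed by I^(n+1) and G_n =
G_{n+1}/I^(n+1)G_{n+1} (indices shifted by one). Then the limit O_X-module lim G_n has vanishing
cohomology in positive degrees over every affine open of X. -/
theorem result (A : Type u) [CommRing A] (I : Ideal A) (X : Scheme.{u})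
    [X.Over (Spec (CommRingCat.of A))] (G : ℕᵒᵖ ⥤ X.Modules) (hG : Formal2.IsQCohFormal I G)
    (U : X.Opens) (hU : IsAffineOpen U) (p : ℕ) (hp : 0 < p) :
    Subsingleton (Coh.HHon X (limit G) U p) := by
  obtain ⟨hq, -, hiso⟩ := hG
  refine aux G hq (fun n => ?_) U hU p hp
  obtain ⟨h, hi⟩ := hiso n
  exact epi_of_isIso_desc _ _ h hi

end Groth.Agent.S0826
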