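import Groth.Statements.S0828
import Groth.Agent.H17.CMFree
import Groth.Agent.H8.Coh
import Groth.Agent.H8.LocFreeStalk
import Groth.Agent.H8.RankLocFree
import Groth.Agent.H34.CMChain

set_option autoImplicit false
universe u
open Coherent

namespace Groth.Agent.S0828

set_option linter.style.haveILetI false in
open CategoryTheory AlgebraicGeometry Groth.Agent.H8 in
/-- Let X be a regular scheme (locally Noetherian with regular local rings) and F a coherent O_X-module.
Then F has support all of X and Cohen–Macaulay stalks if and only if F is finite locally free of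
positive rank near every point. -/
theorem result (X : Scheme.{u}) [IsLocallyNoetherian X]
    (hreg : ∀ x : X, IsRegularLocalRing (X.presheaf.stalk x)) (F : X.Modules) (hF : Coh.IsCoh F) :
    (CohB1.support F = Set.univ ∧
        ∀ x : X, LocCoh.IsCohenMacaulayModule (X.presheaf.stalk x) ↑(F.presheaf.stalk x)) ↔
      ∀ x : X, ∃ (U : X.Opens) (n : ℕ), x ∈ U ∧ 0 < n ∧
        Nonempty (F.restrict U.ι ≅ FlatMod.freeMod (↑U) n) := by
  haveI : F.IsQuasicoherent := hF.1
  constructor
  · rintro ⟨hsupp, hCM⟩ x
    obtain ⟨_, ⟨U, hU, rfl⟩, hxU, -⟩ :=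
      X.isBasis_affineOpens.exists_subset_of_mem_open (Set.mem_univ x) isOpen_univ
    replace hU : IsAffineOpen U := hU
    haveI : IsNoetherianRing Γ(X, U) := IsLocallyNoetherian.component_noetherian ⟨U, hU⟩
    haveI := finite_sections_of_isCoh F hF hU
    haveI : Module.FinitePresentation Γ(X, U) Γ(F, U) :=
      Module.finitePresentation_of_finite _ _
    have hnt : ∀ y : X, Nontrivial (F.presheaf.stalk y) := fun y =>
      not_subsingleton_iff_nontrivial.mp (by
        have h1 : y ∈ CohB1.support F := by rw [hsupp]; exact Set.mem_univ y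
        exact h1)
    have hmem : ∀ (y : X) (hyU : y ∈ U),
        hU.primeIdealOf ⟨y, hyU⟩ ∈ Module.support Γ(X, U) Γ(F, U) := by
      intro y hyU
      letI := X.presheaf.algebra_section_stalk ⟨y, hyU⟩
      haveI := hU.isLocalization_stalk ⟨y, hyU⟩
      letI := moduleSectionStalk F y hyU
      haveI := isScalarTower_sectionStalk F y hyU
      haveI := isLocalizedModule_germₗ F hU y hyU
      rw [Module.mem_support_iff]
      haveI := hnt y
      exact (IsLocalizedModule.iso (hU.primeIdealOf ⟨y, hyU⟩).asIdeal.primeCompl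
        (germₗ F y hyU)).toEquiv.nontrivial
    have hsuppN : Module.support Γ(X, U) Γ(F, U) = Set.univ := by
      rw [Set.eq_univ_iff_forall]
      intro q
      have hyU : hU.fromSpec q ∈ U := by
        rw [← SetLike.mem_coe, ← hU.range_fromSpec]; exact Set.mem_range_self q
      have hq' : hU.primeIdealOf ⟨hU.fromSpec q, hyU⟩ = q :=
        hU.fromSpec.isOpenEmbedding.injective (hU.fromSpec_primeIdealOf ⟨hU.fromSpec q, hyU⟩)
      exact hq' ▸ hmem _ hyU
    haveI := hreg x
    haveI := hnt x
    haveI : Module.Finite (X.presheaf.stalk x) (F.presheaf.stalk x) :=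
      finite_stalk_of_isCoh F hF x
    have hsuppx : Module.support (X.presheaf.stalk x) (F.presheaf.stalk x) = Set.univ := by
      letI := X.presheaf.algebra_section_stalk ⟨x, hxU⟩
      haveI := hU.isLocalization_stalk ⟨x, hxU⟩
      letI := moduleSectionStalk F x hxU
      haveI := isScalarTower_sectionStalk F x hxU
      haveI := isLocalizedModule_germₗ F hU x hxU
      exact Groth.Agent.H17.CMFree.support_eq_univ_of_isLocalizedModule
        (hU.primeIdealOf ⟨x, hxU⟩).asIdeal.primeCompl (germₗ F x hxU) hsuppN
    haveI : Module.Free (X.presheaf.stalk x) (F.presheaf.stalk x) :=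
      Groth.Agent.H17.CMFree.free_of_isCM_of_supportDim_eq _ _ (hCM x)
        (Groth.Agent.H34.CMChain.supportDim_eq_of_support_eq_univ hsuppx)
    obtain ⟨f, hxf, n, ⟨e⟩⟩ := exists_basicOpen_restrict_iso_freeMod_of_free_stalk F hU x hxU
    obtain ⟨b⟩ := exists_basis_stalk_of_restrict_iso F e x hxf
    refine ⟨X.basicOpen f, n, hxf, ?_, ⟨e⟩⟩
    rcases Nat.eq_zero_or_pos n with hn | hn
    · subst hn
      haveI : Subsingleton (F.presheaf.stalk x) := b.repr.toEquiv.subsingleton
      exact absurd (hnt x) (not_nontrivial _)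
    · exact hn
  · intro h
    have key : ∀ x : X, Nontrivial (F.presheaf.stalk x) ∧
        LocCoh.IsCohenMacaulayModule (X.presheaf.stalk x) ↑(F.presheaf.stalk x) := by
      intro x
      obtain ⟨U, n, hxU, hn, ⟨e⟩⟩ := h x
      obtain ⟨b⟩ := exists_basis_stalk_of_restrict_iso F e x hxU
      haveI := hreg x
      have hCM := Groth.Agent.H17.CMFree.isCM_of_equiv_pi (X.presheaf.stalk x)
        (F.presheaf.stalk x) n hn b.equivFun
      haveI : Nonempty (Fin n) := ⟨⟨0, hn⟩⟩
      exact ⟨b.equivFun.toEquiv.nontrivial, hCM⟩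
    refine ⟨Set.eq_univ_iff_forall.mpr fun x => ?_, fun x => (key x).2⟩
    exact not_subsingleton_iff_nontrivial.mpr (key x).1

end Groth.Agent.S0828
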