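import Groth.Statements.S9535
-- import your own Groth.Agent.* helpers here
import Groth.Agent.S9536
import Groth.Agent.S0852
import Groth.Agent.H87.LimSystem

set_option autoImplicit false
universe u
open CategoryTheory CategoryTheory.Limits AlgebraicGeometry Opposite
open Algz

namespace Groth.Agent.S9535

section Tilde
open CategoryTheory CategoryTheory.Limits AlgebraicGeometry Opposite

variable (A : Type u) [CommRing A]

@[reducible] noncomputable def ovr :
    (Spec (CommRingCat.of A)).Over (Spec (CommRingCat.of A)) := ⟨𝟙 _⟩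

attribute [local instance] ovr

/-- Global sections, as a functor to `A`-modules. -/
noncomputable abbrev ΓF : (Spec (CommRingCat.of A)).Modules ⥤ ModuleCat.{u} A :=
  moduleSpecΓFunctor (R := CommRingCat.of A)

/-- The tilde functor. -/
noncomputable abbrev TF : ModuleCat.{u} A ⥤ (Spec (CommRingCat.of A)).Modules :=
  tilde.functor (CommRingCat.of A)

/-- The tilde-Γ adjunction. -/
noncomputable abbrev adjA : TF A ⊣ ΓF A := tilde.adjunction (R := CommRingCat.of A)

theorem Γmap_smulMod (M : (Spec (CommRingCat.of A)).Modules) (a : A)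
    (x : ↑((ΓF A).obj M)) :
    ((ΓF A).map (Formal.smulMod A M a)).hom x = a • x := by
  exact (Scheme.Modules.smul_Spec_def (R := CommRingCat.of A) (M := M) (U := ⊤) a x).symm

theorem Γmap_apply {M N : (Spec (CommRingCat.of A)).Modules} (φ : M ⟶ N)
    (x : ↑((ΓF A).obj M)) :
    ((ΓF A).map φ).hom x = φ.app ⊤ x := rfl

variable {A}

theorem exists_factor {M N P : ModuleCat.{u} A} (q : M ⟶ N) (g : M ⟶ P)
    (hq : Function.Surjective q.hom) (hle : LinearMap.ker q.hom ≤ LinearMap.ker g.hom) :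
    ∃ l : N ⟶ P, q ≫ l = g := by
  refine ⟨ModuleCat.ofHom (((LinearMap.ker q.hom).liftQ g.hom hle) ∘ₗ
    (LinearMap.quotKerEquivOfSurjective q.hom hq).symm.toLinearMap), ?_⟩
  ext x
  change ((LinearMap.ker q.hom).liftQ g.hom hle)
    ((LinearMap.quotKerEquivOfSurjective q.hom hq).symm (q.hom x)) = g.hom x
  have : (LinearMap.quotKerEquivOfSurjective q.hom hq).symm (q.hom x) =
      Submodule.Quotient.mk x := by
    rw [LinearEquiv.symm_apply_eq]
    exact (LinearMap.quotKerEquivOfSurjective_apply_mk q.hom hq x).symm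
  rw [this]
  exact Submodule.liftQ_apply _ _ _

theorem completion_tilde_iso (I : Ideal A) (G : ℕᵒᵖ ⥤ (Spec (CommRingCat.of A)).Modules)
    (hqc : ∀ n, (G.obj (op n)).IsQuasicoherent)
    (hkill : ∀ n, Formal.KilledBy (I ^ (n + 1)) (G.obj (op n)))
    (N : ModuleCat.{u} A) (q : ∀ n, N ⟶ (ΓF A).obj (G.obj (op n)))
    (hq : ∀ n, q (n + 1) ≫ (ΓF A).map (G.map (homOfLE (Nat.le_succ n)).op) = q n)
    (hsurj : ∀ n, Function.Surjective (q n).hom)
    (hker : ∀ n, LinearMap.ker (q n).hom ≤ I ^ (n + 1) • ⊤) :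
    Nonempty (Formal.completion I ((TF A).obj N) ≅ G) := by
  let adj := adjA A
  let p : ∀ n, (TF A).obj N ⟶ G.obj (op n) :=
    fun n => (TF A).map (q n) ≫ adj.counit.app (G.obj (op n))
  refine @Groth.Agent.S8830.completion_iso_of_isColimit A _ (Spec (CommRingCat.of A)) (ovr A) I ((TF A).obj N) G p
    (fun n => ?_) (fun n => ?_)
  · have h1 := adj.counit.naturality (G.map (homOfLE (Nat.le_succ n)).op)
    change ((TF A).map (q (n + 1)) ≫ adj.counit.app (G.obj (op (n + 1)))) ≫
      G.map (homOfLE (Nat.le_succ n)).op =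
        (TF A).map (q n) ≫ adj.counit.app (G.obj (op n))
    rw [Category.assoc]
    change _ ≫ adj.counit.app (G.obj (op (n + 1))) ≫ (𝟭 _).map (G.map (homOfLE (Nat.le_succ n)).op) = _
    rw [← h1, ← hq n, Functor.map_comp, Category.assoc]
    rfl
  · haveI := hqc n
    haveI hε : IsIso (adj.counit.app (G.obj (op n))) :=
      Scheme.Modules.isIso_fromTildeΓ_of_isQuasicoherent (G.obj (op n))
    haveI : Epi (q n) := (ModuleCat.epi_iff_surjective _).2 (hsurj n)
    haveI : (TF A).PreservesEpimorphisms := Functor.preservesEpimorphisms_of_adjunction (adjA A)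
    haveI : Epi ((TF A).map (q n)) := inferInstance
    haveI : Epi (p n) := epi_comp _ _
    have h0 : Formal.smulFamily (A := A) (I ^ (n + 1)) ((TF A).obj N) ≫ p n = 0 := by
      refine (Groth.Agent.S0832.smulFamily_comp_eq_zero_iff (A := A) (X := Spec (CommRingCat.of A))
        (I ^ (n + 1)) (p n)).2 (fun a ha => ?_)
      have h1 := Groth.Agent.S0832.smulMod_naturality (A := A) (X := Spec (CommRingCat.of A)) (p n) a
      rw [h1, hkill n a ha, comp_zero]
    refine ⟨h0, ⟨CokernelCofork.IsColimit.ofπ' _ _ (fun {Z} g hg => ?_)⟩⟩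
    let g' : N ⟶ (ΓF A).obj Z := adj.homEquiv _ _ g
    have hg'1 : g' = adj.unit.app N ≫ (ΓF A).map g := adj.homEquiv_unit N Z g
    have hg'2 : ∀ a ∈ I ^ (n + 1), ∀ x : N, g'.hom (a • x) = 0 := by
      intro a ha x
      have h1 := (Groth.Agent.S0832.smulFamily_comp_eq_zero_iff _ g).1 hg a ha
      have h2 : ((ΓF A).map (Formal.smulMod A ((TF A).obj N) a ≫ g)).hom
          ((adj.unit.app N).hom x) = 0 := by
        rw [h1]; rfl
      rw [Functor.map_comp] at h2
      change ((ΓF A).map g).hom (((ΓF A).map (Formal.smulMod A ((TF A).obj N) a)).hom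
          ((adj.unit.app N).hom x)) = 0 at h2
      rw [Γmap_smulMod] at h2
      rw [map_smul, hg'1]
      change a • ((ΓF A).map g).hom ((adj.unit.app N).hom x) = 0
      rw [← map_smul]
      exact h2
    have hle : LinearMap.ker (q n).hom ≤ LinearMap.ker g'.hom := by
      intro x hx
      have hx' := hker n hx
      rw [LinearMap.mem_ker]
      refine Submodule.smul_induction_on hx' (fun a ha y _ => hg'2 a ha y) (fun y z hy hz => ?_)
      rw [map_add, hy, hz, add_zero]
    have hex := exists_factor (q n) g' (hsurj n) hle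
    let l' := hex.choose
    have hl' : q n ≫ l' = g' := hex.choose_spec
    refine ⟨inv (adj.counit.app (G.obj (op n))) ≫ (adj.homEquiv _ _).symm l', ?_⟩
    change ((TF A).map (q n) ≫ adj.counit.app (G.obj (op n))) ≫
      inv (adj.counit.app (G.obj (op n))) ≫ (adj.homEquiv _ _).symm l' = g
    rw [Category.assoc, IsIso.hom_inv_id_assoc, ← Adjunction.homEquiv_naturality_left_symm, hl']
    exact (adj.homEquiv _ _).symm_apply_apply g

end Tilde

section Main
open CategoryTheory CategoryTheory.Limits AlgebraicGeometry Opposite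

variable (A : Type u) [CommRing A] (I : Ideal A)

attribute [local instance] ovr

theorem finite_Γ_aux (R : CommRingCat.{u}) [IsNoetherianRing R] (M : (Spec R).Modules)
    (hM : Coh.IsCoh M) : Module.Finite R Γ(M, (⊤ : (Spec R).Opens)) := by
  haveI : M.IsQuasicoherent := hM.1
  haveI : SheafOfModules.IsFiniteType (R := (Spec R).ringCatSheaf) M := hM.2
  have hsurj : Function.Surjective (algebraMap R Γ(Spec R, (⊤ : (Spec R).Opens))) := by
    rw [IsAffineOpen.algebraMap_Spec_obj]
    have h1 : (homOfLE (le_top : (⊤ : (Spec R).Opens) ≤ ⊤)).op = 𝟙 _ := rfl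
    rw [h1, (Spec R).presheaf.map_id, Category.comp_id]
    exact (ConcreteCategory.bijective_of_isIso (Scheme.ΓSpecIso R).inv).2
  haveI hfinΓ : Module.Finite R Γ(Spec R, (⊤ : (Spec R).Opens)) :=
    Module.Finite.of_surjective (Algebra.linearMap _ _) hsurj
  have hfin1 : Module.Finite Γ(Spec R, (⊤ : (Spec R).Opens)) Γ(M, (⊤ : (Spec R).Opens)) :=
    Groth.Agent.H8.finite_sections_of_isAffineOpen M (isAffineOpen_top _)
  exact Module.Finite.trans Γ(Spec R, (⊤ : (Spec R).Opens)) _

theorem finite_Γ [IsNoetherianRing A] (M : (Spec (CommRingCat.of A)).Modules) (hM : Coh.IsCoh M) :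
    Module.Finite A ↑((ΓF A).obj M) :=
  finite_Γ_aux (CommRingCat.of A) M hM

variable (G : ℕᵒᵖ ⥤ (Spec (CommRingCat.of A)).Modules)

/-- Transition maps on global sections. -/
noncomputable def fn (n : ℕ) :
    ↑((ΓF A).obj (G.obj (op (n + 1)))) →ₗ[A] ↑((ΓF A).obj (G.obj (op n))) :=
  ((ΓF A).map (G.map (homOfLE (Nat.le_succ n)).op)).hom

/-- Compatible families of global sections. -/
noncomputable def L : Submodule A (∀ n : ℕ, ↑((ΓF A).obj (G.obj (op n)))) where
  carrier := {y | ∀ n, fn A G n (y (n + 1)) = y n}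
  add_mem' := by
    intro x y hx hy n
    change fn A G n (x (n + 1) + y (n + 1)) = x n + y n
    rw [map_add, hx n, hy n]
  zero_mem' := by
    intro n
    change fn A G n 0 = 0
    rw [map_zero]
  smul_mem' := by
    intro a x hx n
    change fn A G n (a • x (n + 1)) = a • x n
    rw [map_smul, hx n]

/-- The projections. -/
noncomputable def πn (n : ℕ) : ↥(L A G) →ₗ[A] ↑((ΓF A).obj (G.obj (op n))) :=
  LinearMap.proj n ∘ₗ (L A G).subtype

/-- The projections, as morphisms of `ModuleCat`. -/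
noncomputable def qn (n : ℕ) : ModuleCat.of A ↥(L A G) ⟶ (ΓF A).obj (G.obj (op n)) :=
  ConcreteCategory.ofHom (C := ModuleCat.{u} A) (X := ModuleCat.of A ↥(L A G))
    (Y := (ΓF A).obj (G.obj (op n))) (πn A G n)

theorem qn_hom (n : ℕ) : (qn A G n).hom = πn A G n := rfl

variable {A I G}

theorem fn_surjective (hG : Formal.IsCohFormal I G) (n : ℕ) : Function.Surjective (fn A G n) := by
  have hGq : Formal2.IsQCohFormal I G := ⟨fun n => (hG.1 n).1, hG.2.1, hG.2.2⟩
  intro x
  obtain ⟨y, hy⟩ := Groth.Agent.S0852.T_surjective hGq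
    (isAffineOpen_top (Spec (CommRingCat.of A))) n x
  exact ⟨y, hy⟩

theorem fn_ker (hI : I.FG) (hG : Formal.IsCohFormal I G) (n : ℕ) :
    LinearMap.ker (fn A G n) =
      I ^ (n + 1) • (⊤ : Submodule A ↑((ΓF A).obj (G.obj (op (n + 1))))) := by
  apply le_antisymm
  · intro x hx
    obtain ⟨S, hS⟩ := hI.pow (n := n + 1)
    have hb : Ideal.span (Set.range (Subtype.val : ↥S → A)) = I ^ (n + 1) := by
      rw [Subtype.range_coe]
      exact hS
    obtain ⟨h, hi⟩ := hG.2.2 n
    haveI := hi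
    obtain ⟨hcol⟩ := Groth.Agent.S0835.isColimit_of_isIso_desc _ _ h
    haveI : (G.obj (op (n + 1))).IsQuasicoherent := (hG.1 (n + 1)).1
    haveI : (G.obj (op n)).IsQuasicoherent := (hG.1 n).1
    have hx' : fn A G n x = 0 := LinearMap.mem_ker.1 hx
    obtain ⟨w, hw⟩ := Groth.Agent.S0852.ker_le (G.map (homOfLE (Nat.le_succ n)).op) (I ^ (n + 1))
      (Subtype.val : ↥S → A) hb h hcol (isAffineOpen_top (Spec (CommRingCat.of A))) x hx' 
    have hw' : x = ∑ j : ↥S, ((j : A) • (show ↑((ΓF A).obj (G.obj (op (n + 1)))) from w j)) := by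
      refine hw.trans (Finset.sum_congr rfl (fun j _ => ?_))
      exact Γmap_smulMod A (G.obj (op (n + 1))) (j : A) (w j)
    rw [hw']
    refine Submodule.sum_mem _ (fun j _ => ?_)
    have hj : (j : A) ∈ I ^ (n + 1) := hb ▸ Ideal.subset_span ⟨j, rfl⟩
    exact Submodule.smul_mem_smul hj Submodule.mem_top
  · rw [Submodule.smul_le]
    intro a ha x _
    rw [LinearMap.mem_ker, (fn A G n).map_smul a x]
    have h1 := Γmap_smulMod A (G.obj (op n)) a (fn A G n x)
    rw [← h1, hG.2.1 n a ha]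
    rfl

theorem exists_module [IsNoetherianRing A] [IsAdicComplete I A] (hG : Formal.IsCohFormal I G) :
    ∃ N : ModuleCat.{u} A, Module.Finite A N ∧
      Nonempty (Formal.completion I ((TF A).obj N) ≅ G) := by
  have hI : I.FG := IsNoetherian.noetherian I
  have hf := fn_surjective hG
  have hker := fn_ker hI hG
  have hπ : ∀ n, fn A G n ∘ₗ πn A G (n + 1) = πn A G n := by
    intro n
    ext y
    exact y.2 n
  have hinj : ∀ x : ↥(L A G), (∀ n, πn A G n x = 0) → x = 0 := by
    intro x hx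
    apply Subtype.ext
    funext n
    exact hx n
  have hlift : ∀ y : (∀ n : ℕ, ↑((ΓF A).obj (G.obj (op n)))), (∀ n, fn A G n (y (n + 1)) = y n) →
      ∃ x : ↥(L A G), ∀ n, πn A G n x = y n := fun y hy => ⟨⟨y, hy⟩, fun _ => rfl⟩
  haveI : Module.Finite A ↑((ΓF A).obj (G.obj (op 0))) := finite_Γ A _ (hG.1 0)
  have hfin : Module.Finite A ↥(L A G) :=
    Groth.Agent.H87.LimSystem.finite_of_complete (fn A G) (πn A G) hI hf hker hπ hinj hlift
  refine ⟨ModuleCat.of A ↥(L A G), hfin, ?_⟩
  refine completion_tilde_iso I G (fun n => (hG.1 n).1) hG.2.1 (ModuleCat.of A ↥(L A G))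
    (qn A G) (fun n => ?_) (fun n => ?_) (fun n => ?_)
  · apply ModuleCat.hom_ext
    change fn A G n ∘ₗ πn A G (n + 1) = πn A G n
    exact hπ n
  · rw [qn_hom]
    exact Groth.Agent.H87.LimSystem.π_surjective (fn A G) (πn A G) hf hlift n
  · rw [qn_hom]
    exact Groth.Agent.H87.LimSystem.ker_le_smul_top (fn A G) (πn A G) hI hf hker hπ hinj hlift n

theorem main (A : Type u) [CommRing A] [IsNoetherianRing A] (I : Ideal A) [IsAdicComplete I A]
    (U : (Spec (CommRingCat.of A)).Opens)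
    (G : ℕᵒᵖ ⥤ (U : Scheme.{u}).Modules)
    (h : @Algz.Extends A _ (Spec (CommRingCat.of A)) ⟨𝟙 (Spec (CommRingCat.of A))⟩ I U G) :
    ∃ F : (U : Scheme.{u}).Modules, Coh.IsCoh F ∧ Nonempty (Formal.completion I F ≅ G) := by
  obtain ⟨G', hG', ⟨eG⟩⟩ := h
  obtain ⟨N, hfin, ⟨eN⟩⟩ := exists_module hG'
  refine ⟨(tilde N).restrict U.ι, ?_, ?_⟩
  · exact (Groth.Agent.S2269.result A U _).2
      ⟨↑N, N.isAddCommGroup, N.isModule, hfin, ⟨Iso.refl _⟩⟩
  · have hf : U.ι ≫ ((Spec (CommRingCat.of A)) ↘ Spec (CommRingCat.of A)) =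
        (U : Scheme.{u}) ↘ Spec (CommRingCat.of A) := Category.comp_id _
    obtain ⟨e1⟩ := Groth.Agent.S9536.completion_pullback I U.ι hf (tilde N)
    obtain ⟨e2⟩ := Groth.Agent.S9536.completion_congr I
      ((Scheme.Modules.restrictFunctorIsoPullback U.ι).app (tilde N))
    exact ⟨e2 ≪≫ e1 ≪≫ Functor.isoWhiskerRight eN (Scheme.Modules.pullback U.ι) ≪≫
      Functor.isoWhiskerLeft G' (Scheme.Modules.restrictFunctorIsoPullback U.ι).symm ≪≫ eG⟩

end Main


/-- (6) ⇒ (2): Let A be a Noetherian ring complete for the I-adic topology, I ⊆ 𝔞 ideals, U = Spec A ∖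
V(𝔞) and (F_n) an object of Coh(U, I O_U). If (F_n) extends to Spec A, then (F_n) is isomorphic to
the completion of a coherent O_U-module. -/
theorem result (A : Type u) [CommRing A] [IsNoetherianRing A] (I 𝔞 : Ideal A) (hI𝔞 : I ≤ 𝔞)
    (G : ℕᵒᵖ ⥤ (↑(LocCoh.puncturedOpen A 𝔞) : Scheme.{u}).Modules) (hG : Formal.IsCohFormal I G) [IsAdicComplete I A]
    (h : @Algz.Extends A _ (Spec (CommRingCat.of A)) ⟨𝟙 (Spec (CommRingCat.of A))⟩ I (LocCoh.puncturedOpen A 𝔞) G) :
    ∃ F : (↑(LocCoh.puncturedOpen A 𝔞) : Scheme.{u}).Modules, Coh.IsCoh F ∧ Nonempty (Formal.completion I F ≅ G) := by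
  exact main A I (LocCoh.puncturedOpen A 𝔞) G h

end Groth.Agent.S9535
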