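import Groth.Statements.S9533
-- import your own Groth.Agent.* helpers here
import Groth.Agent.S0852
import Groth.Agent.S9531

set_option autoImplicit false
universe u
open CategoryTheory CategoryTheory.Limits AlgebraicGeometry Opposite
open Algz

namespace Groth.Agent.S9533

section Alg2
open CategoryTheory CategoryTheory.Limits Opposite

variable {A : Type u} [CommRing A] (H N : ℕᵒᵖ ⥤ ModuleCat.{u} A)

theorem map_thin (F : ℕᵒᵖ ⥤ ModuleCat.{u} A) {j j' : ℕᵒᵖ} (φ ψ : j ⟶ j') : F.map φ = F.map ψ :=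
  congrArg F.map (Subsingleton.elim _ _)

theorem map_map_apply (F : ℕᵒᵖ ⥤ ModuleCat.{u} A) {j j' j'' : ℕᵒᵖ} (φ : j ⟶ j') (ψ : j' ⟶ j'')
    (χ : j ⟶ j'') (x : F.obj j) : (F.map ψ).hom ((F.map φ).hom x) = (F.map χ).hom x := by
  rw [map_thin F χ (φ ≫ ψ), F.map_comp]
  rfl

theorem exists_limit_elt (z : ∀ k : ℕ, H.obj (op k))
    (hz : ∀ (l K : ℕ) (h : l ≤ K), (H.map (homOfLE h).op).hom (z K) = z l) :
    ∃ x : (limit H : ModuleCat A), ∀ k, (limit.π H (op k)).hom x = z k := by
  have hl := isLimitOfPreserves (forget (ModuleCat.{u} A)) (limit.isLimit H)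
  let s : (H ⋙ forget (ModuleCat.{u} A)).sections := ⟨fun k => z k.unop, by
    intro j j' f
    exact hz j'.unop j.unop (leOfHom f.unop)⟩
  refine ⟨(Types.isLimitEquivSections hl).symm s, fun k => ?_⟩
  exact Types.isLimitEquivSections_symm_apply hl s (op k)

theorem limit_elt_ext (x y : (limit H : ModuleCat A))
    (h : ∀ k : ℕ, (limit.π H (op k)).hom x = (limit.π H (op k)).hom y) : x = y := by
  have hl := isLimitOfPreserves (forget (ModuleCat.{u} A)) (limit.isLimit H)
  apply (Types.isLimitEquivSections hl).injective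
  apply Subtype.ext
  funext k
  exact h k.unop

theorem limit_π_map (x : (limit H : ModuleCat A)) {l K : ℕ} (h : l ≤ K) :
    (H.map (homOfLE h).op).hom ((limit.π H (op K)).hom x) = (limit.π H (op l)).hom x := by
  have := limit.w H (homOfLE h).op
  rw [← this]
  rfl

variable {H N} {m : ℕ → ℕ} {hm : Monotone m} (hle : ∀ n, n ≤ m n)
  (a : DerCA.reindex H hm ⟶ N)
  (kk : ℕ → ℕ) (hkk : ∀ l, l ≤ kk l) (bb : ∀ l, N.obj (op (kk l)) ⟶ (DerCA.reindex H hm).obj (op l))
  (hb1 : ∀ l, a.app (op (kk l)) ≫ bb l = ARSys.tr (DerCA.reindex H hm) (hkk l))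
  (hb2 : ∀ l, bb l ≫ a.app (op l) = ARSys.tr N (hkk l))

include hb1 in
theorem key (l K : ℕ) (hK : kk l ≤ K) (u : H.obj (op (m K))) :
    (H.map (homOfLE (hle l)).op).hom ((bb l).hom ((N.map (homOfLE hK).op).hom
      ((a.app (op K)).hom u))) =
      (H.map (homOfLE ((hle l).trans (hm ((hkk l).trans hK)))).op).hom u := by
  have e1 : (N.map (homOfLE hK).op).hom ((a.app (op K)).hom u) =
      (a.app (op (kk l))).hom (((DerCA.reindex H hm).map (homOfLE hK).op).hom u) :=
    (congrArg (fun φ : (DerCA.reindex H hm).obj (op K) ⟶ N.obj (op (kk l)) => φ.hom u)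
      (a.naturality (homOfLE hK).op)).symm
  have e2 : ∀ v, (bb l).hom ((a.app (op (kk l))).hom v) =
      ((DerCA.reindex H hm).map (homOfLE (hkk l)).op).hom v := fun v =>
    congrArg (fun φ : (DerCA.reindex H hm).obj (op (kk l)) ⟶ (DerCA.reindex H hm).obj (op l) =>
      φ.hom v) (hb1 l)
  rw [e1, e2]
  change (H.map _).hom ((H.map ((Monotone.functor hm).op.map (homOfLE (hkk l)).op)).hom
    ((H.map ((Monotone.functor hm).op.map (homOfLE hK).op)).hom u)) = _
  exact (congrArg (H.map (homOfLE (hle l)).op).hom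
    (map_map_apply H ((Monotone.functor hm).op.map (homOfLE hK).op)
      ((Monotone.functor hm).op.map (homOfLE (hkk l)).op)
      (homOfLE (hm ((hkk l).trans hK))).op u)).trans
    (map_map_apply H (homOfLE (hm ((hkk l).trans hK))).op (homOfLE (hle l)).op
      (homOfLE ((hle l).trans (hm ((hkk l).trans hK)))).op u)

/-- Transfer of a compatible family of `N` to a compatible family of `H`. -/
noncomputable def transfer (z : ∀ k, N.obj (op k)) (l : ℕ) : H.obj (op l) :=
  (H.map (homOfLE (hle l)).op).hom ((bb l).hom (z (kk l)))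

include hb1 hb2 in
theorem transfer_eq (z : ∀ k, N.obj (op k))
    (hz : ∀ (l K : ℕ) (h : l ≤ K), (N.map (homOfLE h).op).hom (z K) = z l)
    (l K : ℕ) (hK : kk l ≤ K) :
    transfer hle kk bb z l =
      (H.map (homOfLE ((hle l).trans (hm ((hkk l).trans hK)))).op).hom ((bb K).hom (z (kk K))) := by
  have h1 : z (kk l) = (N.map (homOfLE hK).op).hom ((a.app (op K)).hom ((bb K).hom (z (kk K)))) := by
    have e : (a.app (op K)).hom ((bb K).hom (z (kk K))) = z K := by
      have := congrArg (fun φ : N.obj (op (kk K)) ⟶ N.obj (op K) => φ.hom (z (kk K))) (hb2 K)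
      exact this.trans (hz K (kk K) (hkk K))
    rw [e, hz]
  unfold transfer
  rw [h1]
  exact key hle a kk hkk bb hb1 l K hK _

include hb1 hb2 in
theorem transfer_compat (z : ∀ k, N.obj (op k))
    (hz : ∀ (l K : ℕ) (h : l ≤ K), (N.map (homOfLE h).op).hom (z K) = z l)
    (l l' : ℕ) (h : l ≤ l') :
    (H.map (homOfLE h).op).hom (transfer hle kk bb z l') = transfer hle kk bb z l := by
  rw [transfer_eq hle a kk hkk bb hb1 hb2 z hz l (max (kk l) (kk l')) (le_max_left _ _),
    transfer_eq hle a kk hkk bb hb1 hb2 z hz l' (max (kk l) (kk l')) (le_max_right _ _)]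
  exact map_map_apply H _ _ _ _

variable (I : Ideal A)
  (hN1 : ∀ K, Function.Surjective (N.map (homOfLE (Nat.le_succ K)).op).hom)
  (hN2 : ∀ K (x : N.obj (op (K + 1))), (N.map (homOfLE (Nat.le_succ K)).op).hom x = 0 →
    x ∈ I ^ (K + 1) • (⊤ : Submodule A (N.obj (op (K + 1)))))
  (hN3 : ∀ (l : ℕ) (r : A), r ∈ I ^ (l + 1) → ∀ x : N.obj (op l), r • x = 0)

include hle hb1 hb2 hN1 hN2 hN3 in
theorem ker_le_of_proIso (hI : I.FG) (n : ℕ) :
    LinearMap.ker (limit.π H (op (m n))).hom ≤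
      I ^ (n + 1) • (⊤ : Submodule A ↑(limit H)) := by
  classical
  intro x hx
  rw [LinearMap.mem_ker] at hx
  obtain ⟨S, hS⟩ := hI.pow (n := n + 1)
  have hb : Ideal.span (Set.range (Subtype.val : ↥S → A)) = I ^ (n + 1) := by
    rw [Subtype.range_coe]
    exact hS
  have hbj : ∀ j : ↥S, (j : A) ∈ I ^ (n + 1) := fun j => hb ▸ Ideal.subset_span ⟨j, rfl⟩
  let y : ∀ k, N.obj (op k) := fun k => (a.app (op k)).hom ((limit.π H (op (m k))).hom x)
  have hy : ∀ (l K : ℕ) (h : l ≤ K), (N.map (homOfLE h).op).hom (y K) = y l := by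
    intro l K h
    have e1 : (N.map (homOfLE h).op).hom ((a.app (op K)).hom ((limit.π H (op (m K))).hom x)) =
        (a.app (op l)).hom (((DerCA.reindex H hm).map (homOfLE h).op).hom
          ((limit.π H (op (m K))).hom x)) :=
      (congrArg (fun φ : (DerCA.reindex H hm).obj (op K) ⟶ N.obj (op l) =>
        φ.hom ((limit.π H (op (m K))).hom x)) (a.naturality (homOfLE h).op)).symm
    change (N.map (homOfLE h).op).hom ((a.app (op K)).hom ((limit.π H (op (m K))).hom x)) =
      (a.app (op l)).hom ((limit.π H (op (m l))).hom x)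
    rw [e1]
    congr 1
    exact limit_π_map H x (hm h)
  have hyn : y n = 0 := by
    exact (congrArg (a.app (op n)).hom hx).trans (map_zero _)
  obtain ⟨z, hz, hyz⟩ := Groth.Agent.S0852.exists_decomposition (fun k => N.obj (op k))
    (fun l K h => (N.map (homOfLE h).op).hom)
    (fun l K K' h₁ h₂ x => map_map_apply N _ _ _ x)
    (fun l x => by
      have : (homOfLE (le_refl l)).op = 𝟙 (op l) := rfl
      change (N.map (homOfLE (le_refl l)).op).hom x = x
      rw [this, N.map_id]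
      rfl)
    hN1 I hN2 hN3 n (Subtype.val : ↥S → A) hb y hy hyn
  choose ξ hξ using fun j => exists_limit_elt H (transfer hle kk bb (z j))
    (fun l K h => transfer_compat hle a kk hkk bb hb1 hb2 (z j) (hz j) l K h)
  have hx' : x = ∑ j : ↥S, (j : A) • ξ j := by
    apply limit_elt_ext H
    intro l
    rw [map_sum]
    simp only [map_smul, hξ]
    let L : N.obj (op (kk l)) →ₗ[A] H.obj (op l) :=
      (H.map (homOfLE (hle l)).op).hom.comp
        (show N.obj (op (kk l)) →ₗ[A] H.obj (op (m l)) from (bb l).hom)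
    have e0 : ∑ j : ↥S, (j : A) • transfer hle kk bb (z j) l = L (y (kk l)) := by
      rw [hyz (kk l), map_sum]
      refine Finset.sum_congr rfl (fun j _ => ?_)
      rw [map_smul]
      rfl
    rw [e0]
    symm
    change (H.map (homOfLE (hle l)).op).hom ((bb l).hom ((a.app (op (kk l))).hom
      ((limit.π H (op (m (kk l)))).hom x))) = _
    have e2 : (bb l).hom ((a.app (op (kk l))).hom ((limit.π H (op (m (kk l)))).hom x)) =
        ((DerCA.reindex H hm).map (homOfLE (hkk l)).op).hom ((limit.π H (op (m (kk l)))).hom x) :=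
      congrArg (fun φ : (DerCA.reindex H hm).obj (op (kk l)) ⟶ (DerCA.reindex H hm).obj (op l) =>
        φ.hom ((limit.π H (op (m (kk l)))).hom x)) (hb1 l)
    rw [e2]
    have e3 : ((DerCA.reindex H hm).map (homOfLE (hkk l)).op).hom
        ((limit.π H (op (m (kk l)))).hom x) = (limit.π H (op (m l))).hom x :=
      limit_π_map H x (hm (hkk l))
    rw [e3]
    exact limit_π_map H x (hle l)
  rw [hx']
  refine Submodule.sum_mem _ (fun j _ => ?_)
  exact Submodule.smul_mem_smul (hbj j) (Submodule.mem_top (x := ξ j))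

end Alg2

section Geo
open CategoryTheory CategoryTheory.Limits AlgebraicGeometry Opposite

variable {A : Type u} [CommRing A]

/-- Sections identification. -/
def γ (M : (Spec (CommRingCat.of A)).Modules)
    (x : (moduleSpecΓFunctor (R := CommRingCat.of A)).obj M) : Γ(M, ⊤) := x

theorem γ_smul (M : (Spec (CommRingCat.of A)).Modules) (a : A)
    (x : (moduleSpecΓFunctor (R := CommRingCat.of A)).obj M) :
    γ M (a • x) = @Groth.Agent.S0852.ρ A _ (Spec (CommRingCat.of A)) ⟨𝟙 _⟩ ⊤ a • γ M x := by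
  change ((Scheme.ΓSpecIso (CommRingCat.of A)).inv.hom a) • γ M x = _
  congr 1

variable (I : Ideal A) (G' : ℕᵒᵖ ⥤ (Spec (CommRingCat.of A)).Modules)
  (hG' : @Formal.IsCohFormal A _ (Spec (CommRingCat.of A)) ⟨𝟙 (Spec (CommRingCat.of A))⟩ I G')

include hG' in
theorem isQCohFormal :
    @Formal2.IsQCohFormal A _ (Spec (CommRingCat.of A)) ⟨𝟙 (Spec (CommRingCat.of A))⟩ I G' :=
  ⟨fun n => (hG'.1 n).1, hG'.2.1, hG'.2.2⟩

include hG' in
theorem hN1 (K : ℕ) : Function.Surjective
    ((G' ⋙ moduleSpecΓFunctor (R := CommRingCat.of A)).map (homOfLE (Nat.le_succ K)).op).hom := by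
  letI : (Spec (CommRingCat.of A)).Over (Spec (CommRingCat.of A)) := ⟨𝟙 _⟩
  intro y
  obtain ⟨x, hx⟩ := Groth.Agent.S0852.T_surjective (isQCohFormal I G' hG')
    (isAffineOpen_top (Spec (CommRingCat.of A))) K (γ _ y)
  exact ⟨x, hx⟩

include hG' in
theorem hN3 (l : ℕ) (r : A) (hr : r ∈ I ^ (l + 1))
    (x : (G' ⋙ moduleSpecΓFunctor (R := CommRingCat.of A)).obj (op l)) : r • x = 0 := by
  letI : (Spec (CommRingCat.of A)).Over (Spec (CommRingCat.of A)) := ⟨𝟙 _⟩
  have h := hG'.2.1 l r hr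
  change γ (G'.obj (op l)) (r • x) = 0
  rw [γ_smul]
  change (Formal.smulMod A (G'.obj (op l)) r).app ⊤ (γ _ x) = 0
  rw [h]
  rfl

include hG' in
theorem hN2 (hI : I.FG) (K : ℕ)
    (x : (G' ⋙ moduleSpecΓFunctor (R := CommRingCat.of A)).obj (op (K + 1)))
    (hx : ((G' ⋙ moduleSpecΓFunctor (R := CommRingCat.of A)).map
      (homOfLE (Nat.le_succ K)).op).hom x = 0) :
    x ∈ I ^ (K + 1) • (⊤ : Submodule A
      ((G' ⋙ moduleSpecΓFunctor (R := CommRingCat.of A)).obj (op (K + 1)))) := by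
  classical
  letI : (Spec (CommRingCat.of A)).Over (Spec (CommRingCat.of A)) := ⟨𝟙 _⟩
  have hG := isQCohFormal I G' hG'
  obtain ⟨S, hS⟩ := hI.pow (n := K + 1)
  have hb : Ideal.span (Set.range (Subtype.val : ↥S → A)) = I ^ (K + 1) := by
    rw [Subtype.range_coe]
    exact hS
  obtain ⟨h, hi⟩ := hG.2.2 K
  haveI := hi
  obtain ⟨hcol⟩ := Groth.Agent.S0835.isColimit_of_isIso_desc _ _ h
  haveI : (G'.obj (op (K + 1))).IsQuasicoherent := hG.1 (K + 1)
  haveI : (G'.obj (op K)).IsQuasicoherent := hG.1 K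
  obtain ⟨w, hw⟩ := Groth.Agent.S0852.ker_le (G'.map (homOfLE (Nat.le_succ K)).op) (I ^ (K + 1))
    (Subtype.val : ↥S → A) hb h hcol (isAffineOpen_top (Spec (CommRingCat.of A))) (γ _ x) hx
  have hw' : x = ∑ j : ↥S, (j : A) • (show (G' ⋙ moduleSpecΓFunctor (R := CommRingCat.of A)).obj
      (op (K + 1)) from w j) := by
    change γ (G'.obj (op (K + 1))) x = γ (G'.obj (op (K + 1))) (∑ j : ↥S, (j : A) • _)
    rw [hw]
    have hsum : ∀ (s : Finset ↥S) (v : ↥S → (moduleSpecΓFunctor (R := CommRingCat.of A)).obj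
        (G'.obj (op (K + 1)))), γ (G'.obj (op (K + 1))) (∑ j ∈ s, v j) =
        ∑ j ∈ s, γ (G'.obj (op (K + 1))) (v j) := fun s v => rfl
    rw [hsum]
    refine Finset.sum_congr rfl (fun j _ => ?_)
    rw [γ_smul]
    rfl
  rw [hw']
  refine Submodule.sum_mem _ (fun j _ => ?_)
  have hj : (j : A) ∈ I ^ (K + 1) := hb ▸ Ideal.subset_span ⟨j, rfl⟩
  exact Submodule.smul_mem_smul hj Submodule.mem_top

end Geo

section Main
open CategoryTheory CategoryTheory.Limits AlgebraicGeometry Opposite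

theorem main (A : Type u) [CommRing A] [IsNoetherianRing A] (I : Ideal A)
    (U : (Spec (CommRingCat.of A)).Opens) (G : ℕᵒᵖ ⥤ (U : Scheme.{u}).Modules)
    (h : Algz.CanonicallyExtends A I U G) (k : ℕ) :
    ∃ n : ℕ, LinearMap.ker (limit.π (Algz.sectMod A U G) (op n)).hom ≤
      I ^ k • (⊤ : Submodule A ↑(limit (Algz.sectMod A U G))) := by
  obtain ⟨G', hG', hpro⟩ := h
  have h1 : Algz.IsProIsomorphic
      (Algz.sectSys A U G ⋙ moduleSpecΓFunctor (R := CommRingCat.of A))
      (G' ⋙ moduleSpecΓFunctor (R := CommRingCat.of A)) :=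
    Groth.Agent.S9531.isProIsomorphic_map _ hpro
  let e : Algz.sectSys A U G ⋙ moduleSpecΓFunctor (R := CommRingCat.of A) ≅ Algz.sectMod A U G :=
    Functor.associator _ _ _ ≪≫
      Functor.isoWhiskerLeft (Algz.sectMod A U G)
        (tilde.toTildeΓNatIso (R := CommRingCat.of A)).symm ≪≫
      Functor.rightUnitor _
  obtain ⟨m, hm, hle, a, ha⟩ := Groth.Agent.S9531.isProIsomorphic_of_iso_left e h1
  choose kk hkk bb hb1 hb2 using ha
  have hI : I.FG := IsNoetherian.noetherian I
  refine ⟨m k, (ker_le_of_proIso hle a kk hkk bb hb1 hb2 I (hN1 I G' hG') (hN2 I G' hG' hI)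
    (hN3 I G' hG') hI k).trans ?_⟩
  exact Submodule.smul_mono_left (Ideal.pow_le_pow_right (Nat.le_succ k))

end Main


/-- Let A be a Noetherian ring, I ⊆ 𝔞 ideals, U = Spec A ∖ V(𝔞), (F_n) an object of Coh(U, I O_U), and M
= lim_n H^0(U, F_n). If (F_n) canonically extends to Spec A, then the limit topology of M agrees
with the I-adic one: for every k some kernel of M → H^0(U, F_n) lies inside I^k M. (Each such kernel
contains I^(n+1) M automatically. The other part of (4), that M is finitely generated over the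
completion of A with respect to I, is not stated here.) -/
theorem result (A : Type u) [CommRing A] [IsNoetherianRing A] (I 𝔞 : Ideal A) (hI𝔞 : I ≤ 𝔞)
    (G : ℕᵒᵖ ⥤ (↑(LocCoh.puncturedOpen A 𝔞) : Scheme.{u}).Modules) (hG : Formal.IsCohFormal I G)
    (h : Algz.CanonicallyExtends A I (LocCoh.puncturedOpen A 𝔞) G) (k : ℕ) :
    ∃ n : ℕ, LinearMap.ker (limit.π (Algz.sectMod A (LocCoh.puncturedOpen A 𝔞) G) (op n)).hom ≤
      I ^ k • (⊤ : Submodule A ↑(limit (Algz.sectMod A (LocCoh.puncturedOpen A 𝔞) G))) := by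
  exact main A I (LocCoh.puncturedOpen A 𝔞) G h k

end Groth.Agent.S9533
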