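import Groth.Statements.S9551
-- import your own Groth.Agent.* helpers here
import Groth.Agent.S9531
import Groth.Agent.S9533
import Groth.Agent.S0852

set_option autoImplicit false
universe u
open CategoryTheory CategoryTheory.Limits AlgebraicGeometry Opposite
open Algz

namespace Groth.Agent.S9551

section Alg
open CategoryTheory CategoryTheory.Limits Opposite

variable {A : Type u} [CommRing A]

theorem range_le_of_imageSubobject_le {X Y Z : ModuleCat.{u} A} (f : X ⟶ Z) (g : Y ⟶ Z)
    (h : imageSubobject f ≤ imageSubobject g) : LinearMap.range f.hom ≤ LinearMap.range g.hom := by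
  rintro _ ⟨x, rfl⟩
  have h1 : f = (factorThruImageSubobject f ≫ Subobject.ofLE _ _ h) ≫ (imageSubobject g).arrow := by
    rw [Category.assoc, Subobject.ofLE_arrow, imageSubobject_arrow_comp]
  haveI : Epi (factorThruImageSubobject g) := inferInstance
  have hsurj : Function.Surjective (factorThruImageSubobject g).hom :=
    (ModuleCat.epi_iff_surjective _).1 inferInstance
  obtain ⟨y, hy⟩ := hsurj ((factorThruImageSubobject f ≫ Subobject.ofLE _ _ h).hom x)
  refine ⟨y, ?_⟩
  have h2 : g = factorThruImageSubobject g ≫ (imageSubobject g).arrow :=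
    (imageSubobject_arrow_comp g).symm
  calc g.hom y = ((imageSubobject g).arrow).hom ((factorThruImageSubobject g).hom y) := by
        conv_lhs => rw [h2]
        rfl
    _ = ((imageSubobject g).arrow).hom ((factorThruImageSubobject f ≫ Subobject.ofLE _ _ h).hom x) := by
        rw [hy]
    _ = f.hom x := by
        conv_rhs => rw [h1]
        rfl

theorem exists_factor_range {X Y Z : ModuleCat.{u} A} (π : X ⟶ Z) (t : Y ⟶ Z)
    (hle : LinearMap.range t.hom ≤ LinearMap.range π.hom) :
    ∃ (P : ModuleCat.{u} A) (π' : X ⟶ P) (ι : P ⟶ Z) (t' : Y ⟶ P),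
      Epi π' ∧ π = π' ≫ ι ∧ t = t' ≫ ι := by
  refine ⟨ModuleCat.of A ↥(LinearMap.range π.hom), ModuleCat.ofHom π.hom.rangeRestrict,
    ModuleCat.ofHom (LinearMap.range π.hom).subtype,
    ModuleCat.ofHom (t.hom.codRestrict (LinearMap.range π.hom) (fun y => hle ⟨y, rfl⟩)), ?_, ?_, ?_⟩
  · exact (ModuleCat.epi_iff_surjective _).2 (LinearMap.surjective_rangeRestrict _)
  · ext x
    rfl
  · ext x
    rfl

variable (H : ℕᵒᵖ ⥤ ModuleCat.{u} A)

/-- Transition maps as linear maps. -/
noncomputable def Tm (l K : ℕ) (h : l ≤ K) : ↑(H.obj (op K)) →ₗ[A] ↑(H.obj (op l)) :=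
  (H.map (homOfLE h).op).hom

theorem Tm_comp (l K K' : ℕ) (h₁ : l ≤ K) (h₂ : K ≤ K') (x : ↑(H.obj (op K'))) :
    Tm H l K h₁ (Tm H K K' h₂ x) = Tm H l K' (h₁.trans h₂) x :=
  Groth.Agent.S9533.map_map_apply H _ _ _ x

theorem Tm_id (l : ℕ) (x : ↑(H.obj (op l))) : Tm H l l le_rfl x = x := by
  have : (homOfLE (le_refl l)).op = 𝟙 (op l) := rfl
  change (H.map (homOfLE (le_refl l)).op).hom x = x
  rw [this, H.map_id]
  rfl

theorem exists_range_le (hML : ARSys.IsML H) (n : ℕ) :
    ∃ (m : ℕ) (h : n ≤ m), LinearMap.range (Tm H n m h) ≤ LinearMap.range (limit.π H (op n)).hom := by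
  choose r hr using hML
  -- stable ranges
  have fact0 : ∀ (k s : ℕ), r k ≤ s →
      LinearMap.range (Tm H k (k + s) (Nat.le_add_right k s)) =
        LinearMap.range (Tm H k (k + r k) (Nat.le_add_right k (r k))) := by
    intro k s hs
    have e := hr k s hs
    apply le_antisymm
    · exact range_le_of_imageSubobject_le (ARSys.shiftMap H s k) (ARSys.shiftMap H (r k) k) e.le
    · exact range_le_of_imageSubobject_le (ARSys.shiftMap H (r k) k) (ARSys.shiftMap H s k) e.ge
  have fact1 : ∀ (k m : ℕ) (h : k + r k ≤ m),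
      LinearMap.range (Tm H k m ((Nat.le_add_right k (r k)).trans h)) =
        LinearMap.range (Tm H k (k + r k) (Nat.le_add_right k (r k))) := by
    intro k m h
    obtain ⟨s, rfl⟩ := Nat.exists_eq_add_of_le ((Nat.le_add_right k (r k)).trans h)
    exact fact0 k s (by omega)
  -- the stable ranges
  let S : ∀ k, Submodule A ↑(H.obj (op k)) :=
    fun k => LinearMap.range (Tm H k (k + r k) (Nat.le_add_right k (r k)))
  have hS : ∀ (k m : ℕ) (h : k + r k ≤ m) (w : ↑(H.obj (op m))),
      Tm H k m ((Nat.le_add_right k (r k)).trans h) w ∈ S k := by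
    intro k m h w
    change _ ∈ LinearMap.range _
    rw [← fact1 k m h]
    exact ⟨w, rfl⟩
  have hS' : ∀ (k m : ℕ) (h : k + r k ≤ m) (x : ↑(H.obj (op k))), x ∈ S k →
      ∃ w : ↑(H.obj (op m)), Tm H k m ((Nat.le_add_right k (r k)).trans h) w = x := by
    intro k m h x hx
    change x ∈ LinearMap.range _ at hx
    rw [← fact1 k m h] at hx
    exact hx
  -- transition maps preserve the stable ranges
  have hmaps : ∀ (l K : ℕ) (h : l ≤ K) (y : ↑(H.obj (op K))), y ∈ S K → Tm H l K h y ∈ S l := by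
    intro l K h y hy
    obtain ⟨w, rfl⟩ := hS' K (max (K + r K) (l + r l)) (le_max_left _ _) y hy
    rw [Tm_comp]
    exact hS l (max (K + r K) (l + r l)) (le_max_right _ _) w
  let T' : ∀ l K : ℕ, l ≤ K → (↥(S K) →ₗ[A] ↥(S l)) := fun l K h =>
    ((Tm H l K h).comp (S K).subtype).codRestrict (S l) (fun y => hmaps l K h y.1 y.2)
  have T'_comp : ∀ (l K K' : ℕ) (h₁ : l ≤ K) (h₂ : K ≤ K') (x : ↥(S K')),
      T' l K h₁ (T' K K' h₂ x) = T' l K' (h₁.trans h₂) x := by
    intro l K K' h₁ h₂ x
    apply Subtype.ext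
    exact Tm_comp H l K K' h₁ h₂ x.1
  have T'_id : ∀ (l : ℕ) (x : ↥(S l)), T' l l le_rfl x = x := by
    intro l x
    apply Subtype.ext
    exact Tm_id H l x.1
  have hsurj : ∀ K, Function.Surjective (T' K (K + 1) (Nat.le_succ K)) := by
    intro K x
    obtain ⟨w, hw⟩ := hS' K (max (K + r K) (K + 1 + r (K + 1))) (le_max_left _ _) x.1 x.2
    refine ⟨⟨Tm H (K + 1) _ ((Nat.le_add_right _ _).trans (le_max_right _ _)) w,
      hS (K + 1) _ (le_max_right _ _) w⟩, ?_⟩
    apply Subtype.ext
    change Tm H K (K + 1) _ (Tm H (K + 1) _ _ w) = x.1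
    rw [Tm_comp]
    exact hw
  refine ⟨n + r n, Nat.le_add_right n (r n), ?_⟩
  rintro _ ⟨w, rfl⟩
  obtain ⟨z, hz, hzn⟩ := Groth.Agent.S0852.exists_compat_of_surjective (fun k => ↥(S k)) T' T'_comp
    T'_id hsurj n ⟨Tm H n (n + r n) (Nat.le_add_right n (r n)) w, ⟨w, rfl⟩⟩
  obtain ⟨x, hx⟩ := Groth.Agent.S9533.exists_limit_elt (H := H) (fun k => (z k).1)
    (fun l K h => congrArg Subtype.val (hz l K h))
  refine ⟨x, ?_⟩
  rw [hx n, hzn]

end Alg

section Main
open CategoryTheory CategoryTheory.Limits AlgebraicGeometry Opposite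

theorem main (A : Type u) [CommRing A] [IsNoetherianRing A] (I : Ideal A)
    (U : (Spec (CommRingCat.of A)).Opens)
    (G : ℕᵒᵖ ⥤ (U : Scheme.{u}).Modules) (hG : Formal.IsCohFormal I G)
    (ha : ARSys.IsML (Algz.sectMod A U G)) (n : ℕ) :
    Epi (((Scheme.Modules.restrictAdjunction U.ι).homEquiv _ (G.obj (op n))).symm
      (((tilde.adjunction (R := CommRingCat.of A)).homEquiv (limit (Algz.sectMod A U G))
        ((Scheme.Modules.pushforward U.ι).obj (G.obj (op n)))).symm
          (limit.π (Algz.sectMod A U G) (op n)))) := by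
  let H := Algz.sectMod A U G
  let R := Scheme.Modules.restrictFunctor U.ι
  let Tl := tilde.functor (CommRingCat.of A)
  let s := Groth.Agent.S9531.sectSysRestrictHom A U G
  haveI hs : IsIso s := Groth.Agent.S9531.isIso_sectSysRestrictHom A U G (fun k => (hG.1 k.unop).1)
  haveI hsn : ∀ k : ℕ, IsIso (s.app (op k)) := fun k => inferInstance
  haveI : Tl.PreservesEpimorphisms :=
    Functor.preservesEpimorphisms_of_adjunction (tilde.adjunction (R := CommRingCat.of A))
  haveI : R.PreservesEpimorphisms :=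
    Functor.preservesEpimorphisms_of_adjunction (Scheme.Modules.restrictAdjunction U.ι)
  -- identify the map
  let π := limit.π H (op n)
  let J := (Scheme.Modules.pushforward U.ι).obj (G.obj (op n))
  have h1 : ((tilde.adjunction (R := CommRingCat.of A)).homEquiv (limit H) J).symm π =
      Tl.map π ≫ (tilde.adjunction (R := CommRingCat.of A)).counit.app J :=
    Adjunction.homEquiv_counit _ _ _ _
  have hΦ : ((Scheme.Modules.restrictAdjunction U.ι).homEquiv _ (G.obj (op n))).symm
      (((tilde.adjunction (R := CommRingCat.of A)).homEquiv (limit H) J).symm π) =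
      R.map (Tl.map π) ≫ s.app (op n) := by
    refine (Adjunction.homEquiv_counit _ _ _ _).trans ?_
    refine (congrArg (fun φ => R.map φ ≫ (Scheme.Modules.restrictAdjunction U.ι).counit.app
      (G.obj (op n))) h1).trans ?_
    refine (congrArg (fun φ => φ ≫ (Scheme.Modules.restrictAdjunction U.ι).counit.app (G.obj (op n)))
      (R.map_comp (Tl.map π) ((tilde.adjunction (R := CommRingCat.of A)).counit.app J))).trans ?_
    refine (Category.assoc _ _ _).trans ?_
    rfl
  change Epi (((Scheme.Modules.restrictAdjunction U.ι).homEquiv _ (G.obj (op n))).symm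
      (((tilde.adjunction (R := CommRingCat.of A)).homEquiv (limit H) J).symm π))
  rw [hΦ]
  suffices h : Epi (R.map (Tl.map π)) from
    @epi_comp _ _ _ _ _ (R.map (Tl.map π)) h _ (IsIso.epi_of_iso (s.app (op n)))
  obtain ⟨m, hnm, hle⟩ := exists_range_le H ha n
  -- factor through the range
  let t : H.obj (op m) ⟶ H.obj (op n) := H.map (homOfLE hnm).op
  obtain ⟨P, π', ι, t', hπ', hπ, ht⟩ := exists_factor_range π t hle
  haveI := hπ'
  -- the transition map becomes an epimorphism on U
  have hnat : R.map (Tl.map t) ≫ s.app (op n) = s.app (op m) ≫ G.map (homOfLE hnm).op :=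
    s.naturality (homOfLE hnm).op
  haveI : Epi (G.map (homOfLE hnm).op) := by
    obtain ⟨h0, ⟨hc⟩⟩ := Groth.Agent.S0832.key' hG hnm
    exact epi_of_isColimit_cofork hc
  have hepi : Epi (R.map (Tl.map t)) := by
    have : R.map (Tl.map t) = (s.app (op m) ≫ G.map (homOfLE hnm).op) ≫ inv (s.app (op n)) :=
      (IsIso.eq_comp_inv (s.app (op n))).2 hnat
    rw [this]
    exact @epi_comp _ _ _ _ _ (s.app (op m) ≫ G.map (homOfLE hnm).op)
      (@epi_comp _ _ _ _ _ (s.app (op m)) (IsIso.epi_of_iso _) _ inferInstance)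
      (inv (s.app (op n))) (IsIso.epi_of_iso _)
  have hfac : R.map (Tl.map t') ≫ R.map (Tl.map ι) = R.map (Tl.map t) := by
    rw [← Functor.map_comp, ← Functor.map_comp, ← ht]
  haveI : Epi (R.map (Tl.map t') ≫ R.map (Tl.map ι)) := by rw [hfac]; exact hepi
  haveI : Epi (R.map (Tl.map ι)) := epi_of_epi (R.map (Tl.map t')) (R.map (Tl.map ι))
  rw [hπ, Functor.map_comp, Functor.map_comp]
  infer_instance

end Main


/-- Let A be a Noetherian ring, I ⊆ 𝔞 ideals, U = Spec A ∖ V(𝔞) with inclusion j, (F_n) an object of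
Coh(U, I O_U) and M = lim_n H^0(U, F_n). If the system H^0(U, F_n) is Mittag-Leffler, then for every
n the canonical map from M~|_U to F_n, adjoint (under the tilde and restriction adjunctions) to the
projection M → H^0(U, F_n) = Γ(Spec A, j_*F_n), is an epimorphism. (The source states surjectivity
of (M/I^nM)~|_U → F_n; the map from M~|_U factors through it after the epimorphism M~ → (M/I^nM)~,
so the two surjectivity statements are equivalent.) -/
theorem result (A : Type u) [CommRing A] [IsNoetherianRing A] (I 𝔞 : Ideal A) (hI𝔞 : I ≤ 𝔞)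
    (G : ℕᵒᵖ ⥤ (↑(LocCoh.puncturedOpen A 𝔞) : Scheme.{u}).Modules) (hG : Formal.IsCohFormal I G)
    (ha : ARSys.IsML (Algz.sectMod A (LocCoh.puncturedOpen A 𝔞) G)) (n : ℕ) :
    Epi (((Scheme.Modules.restrictAdjunction (LocCoh.puncturedOpen A 𝔞).ι).homEquiv _ (G.obj (op n))).symm
      (((tilde.adjunction (R := CommRingCat.of A)).homEquiv (limit (Algz.sectMod A (LocCoh.puncturedOpen A 𝔞) G))
        ((Scheme.Modules.pushforward (LocCoh.puncturedOpen A 𝔞).ι).obj (G.obj (op n)))).symm
          (limit.π (Algz.sectMod A (LocCoh.puncturedOpen A 𝔞) G) (op n)))) := by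
  exact main A I (LocCoh.puncturedOpen A 𝔞) G hG ha n

end Groth.Agent.S9551
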