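import Groth.Statements.S9534
-- import your own Groth.Agent.* helpers here
import Groth.Agent.S9551
import Groth.Agent.S9535

set_option autoImplicit false
universe u v
open CategoryTheory CategoryTheory.Limits AlgebraicGeometry Opposite
open Algz

namespace Groth.Agent.S9534

section Alg
open CategoryTheory CategoryTheory.Limits Opposite
open Groth.Agent.S9551 (Tm Tm_comp Tm_id exists_range_le)

variable {A : Type u} [CommRing A]

/-- Factorization lemma for linear maps. -/
theorem exists_factor_lin {M N X Q : Type u} [AddCommGroup M] [Module A M] [AddCommGroup N]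
    [Module A N] [AddCommGroup X] [Module A X] [AddCommGroup Q] [Module A Q]
    (π : M →ₗ[A] N) (t : X →ₗ[A] N) (q : M →ₗ[A] Q)
    (hr : LinearMap.range t ≤ LinearMap.range π) (hk : LinearMap.ker π ≤ LinearMap.ker q) :
    ∃ a : X →ₗ[A] Q, ∀ (x : X) (y : M), π y = t x → a x = q y := by
  let a : X →ₗ[A] Q := ((LinearMap.ker π).liftQ q hk) ∘ₗ
    (LinearMap.quotKerEquivRange π).symm.toLinearMap ∘ₗ
    (t.codRestrict (LinearMap.range π) (fun x => hr ⟨x, rfl⟩))
  refine ⟨a, fun x y hy => ?_⟩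
  change ((LinearMap.ker π).liftQ q hk) ((LinearMap.quotKerEquivRange π).symm
    (t.codRestrict (LinearMap.range π) (fun x => hr ⟨x, rfl⟩) x)) = q y
  have h1 : (LinearMap.quotKerEquivRange π).symm
      (t.codRestrict (LinearMap.range π) (fun x => hr ⟨x, rfl⟩) x) = Submodule.Quotient.mk y := by
    rw [LinearEquiv.symm_apply_eq]
    apply Subtype.ext
    rw [LinearMap.quotKerEquivRange_apply_mk]
    exact hy.symm
  rw [h1]
  exact Submodule.liftQ_apply _ _ _

variable (I : Ideal A) (M : ModuleCat.{u} A)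

/-- Transition maps of the system `n ↦ M / I^(n+1) M`. -/
noncomputable def qmap {n k : ℕ} (h : n ≤ k) :
    (↑M ⧸ (I ^ (k + 1) • (⊤ : Submodule A ↑M))) →ₗ[A] (↑M ⧸ (I ^ (n + 1) • (⊤ : Submodule A ↑M))) :=
  Submodule.mapQ _ _ LinearMap.id (by
    rw [Submodule.comap_id]
    exact Submodule.smul_mono_left (Ideal.pow_le_pow_right (Nat.succ_le_succ h)))

theorem qmap_mk {n k : ℕ} (h : n ≤ k) (y : ↑M) :
    qmap I M h (Submodule.Quotient.mk y) = Submodule.Quotient.mk y :=
  Submodule.mapQ_apply _ _ _ _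

/-- The system `n ↦ M / I^(n+1) M`. -/
noncomputable def Q : ℕᵒᵖ ⥤ ModuleCat.{u} A where
  obj n := ModuleCat.of A (↑M ⧸ (I ^ (n.unop + 1) • (⊤ : Submodule A ↑M)))
  map {n k} f := ModuleCat.ofHom (qmap I M (leOfHom f.unop))
  map_id n := by
    apply ModuleCat.hom_ext
    apply LinearMap.ext
    intro x
    obtain ⟨y, rfl⟩ := Submodule.Quotient.mk_surjective _ x
    exact qmap_mk I M (le_refl n.unop) y
  map_comp f g := by
    apply ModuleCat.hom_ext
    apply LinearMap.ext
    intro x
    obtain ⟨y, rfl⟩ := Submodule.Quotient.mk_surjective _ x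
    exact (qmap_mk I M (leOfHom (f ≫ g).unop) y).trans
      (((qmap_mk I M (leOfHom g.unop) y).symm).trans
        (congrArg (qmap I M (leOfHom g.unop)) (qmap_mk I M (leOfHom f.unop) y).symm))

/-- The projection `M → M / I^(n+1) M`. -/
noncomputable def mk (n : ℕ) : M ⟶ (Q I M).obj (op n) :=
  ModuleCat.ofHom (I ^ (n + 1) • (⊤ : Submodule A ↑M)).mkQ

theorem mk_apply (n : ℕ) (y : ↑M) : (mk I M n).hom y = Submodule.Quotient.mk y := rfl

theorem Q_map_mk {n k : ℕ} (h : n ≤ k) (y : ↑M) :
    ((Q I M).map (homOfLE h).op).hom ((mk I M k).hom y) = (mk I M n).hom y :=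
  qmap_mk I M h y

theorem mk_surjective (n : ℕ) : Function.Surjective (mk I M n).hom :=
  Submodule.mkQ_surjective _

theorem ker_mk (n : ℕ) : LinearMap.ker (mk I M n).hom = I ^ (n + 1) • (⊤ : Submodule A ↑M) :=
  Submodule.ker_mkQ _

variable (H : ℕᵒᵖ ⥤ ModuleCat.{u} A)

theorem ker_π_anti {n n' : ℕ} (h : n ≤ n') :
    LinearMap.ker (limit.π H (op n')).hom ≤ LinearMap.ker (limit.π H (op n)).hom := by
  intro x hx
  rw [LinearMap.mem_ker] at hx ⊢
  rw [← Groth.Agent.S9533.limit_π_map H x h, hx, map_zero]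

theorem π_eq_Tm (x : ↑(limit H)) {l K : ℕ} (h : l ≤ K) :
    (limit.π H (op l)).hom x = Tm H l K h ((limit.π H (op K)).hom x) :=
  (Groth.Agent.S9533.limit_π_map H x h).symm

theorem map_eq_Tm {j j' : ℕᵒᵖ} (f : j ⟶ j') (x : ↑(H.obj j)) :
    (H.map f).hom x = Tm H j'.unop j.unop (leOfHom f.unop) x := by
  change (H.map f).hom x = (H.map (homOfLE (leOfHom f.unop)).op).hom x
  rw [Groth.Agent.S9533.map_thin H f (homOfLE (leOfHom f.unop)).op]

theorem range_Tm_le {l K K' : ℕ} (h₁ : l ≤ K) (h₂ : K ≤ K') :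
    LinearMap.range (Tm H l K' (h₁.trans h₂)) ≤ LinearMap.range (Tm H l K h₁) := by
  rintro _ ⟨x, rfl⟩
  exact ⟨Tm H K K' h₂ x, Tm_comp H l K K' h₁ h₂ x⟩

theorem proIso_modules
    (hkill : ∀ (n : ℕ) (a : A), a ∈ I ^ (n + 1) → ∀ x : ↑(H.obj (op n)), a • x = 0)
    (ha : ARSys.IsML H)
    (hb : ∀ k : ℕ, ∃ n : ℕ, LinearMap.ker (limit.π H (op n)).hom ≤
      I ^ k • (⊤ : Submodule A ↑(limit H))) :
    Algz.IsProIsomorphic H (Q I (limit H)) := by
  classical
  choose ν hν using hb
  let p : ℕ → ℕ := fun n => max n ((Finset.range (n + 1)).sup fun j => ν (j + 1))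
  have hp_mono : Monotone p := by
    intro n n' h
    exact max_le_max h (Finset.sup_mono (Finset.range_mono (Nat.succ_le_succ h)))
  have hp_ge : ∀ n, n ≤ p n := fun n => le_max_left _ _
  have hνp : ∀ n, ν (n + 1) ≤ p n := fun n =>
    (Finset.le_sup (f := fun j => ν (j + 1)) (Finset.self_mem_range_succ n)).trans (le_max_right _ _)
  have hp_ker : ∀ n, LinearMap.ker (limit.π H (op (p n))).hom ≤
      I ^ (n + 1) • (⊤ : Submodule A ↑(limit H)) :=
    fun n => (ker_π_anti H (hνp n)).trans (hν (n + 1))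
  choose μ hμ_ge hμ using exists_range_le H ha
  let m : ℕ → ℕ := fun n => max n ((Finset.range (n + 1)).sup fun j => μ (p j))
  have hm_mono : Monotone m := by
    intro n n' h
    exact max_le_max h (Finset.sup_mono (Finset.range_mono (Nat.succ_le_succ h)))
  have hm_ge : ∀ n, n ≤ m n := fun n => le_max_left _ _
  have hμm : ∀ n, μ (p n) ≤ m n := fun n =>
    (Finset.le_sup (f := fun j => μ (p j)) (Finset.self_mem_range_succ n)).trans (le_max_right _ _)
  have hpm : ∀ n, p n ≤ m n := fun n => (hμ_ge (p n)).trans (hμm n)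
  have hrange : ∀ n, LinearMap.range (Tm H (p n) (m n) (hpm n)) ≤
      LinearMap.range (limit.π H (op (p n))).hom :=
    fun n => (range_Tm_le H (hμ_ge (p n)) (hμm n)).trans (hμ (p n))
  have hex : ∀ n, ∃ a : ↑(H.obj (op (m n))) →ₗ[A] ↑((Q I (limit H)).obj (op n)),
      ∀ (x : ↑(H.obj (op (m n)))) (y : ↑(limit H)),
        (limit.π H (op (p n))).hom y = Tm H (p n) (m n) (hpm n) x →
          a x = (mk I (limit H) n).hom y :=
    fun n => exists_factor_lin (limit.π H (op (p n))).hom (Tm H (p n) (m n) (hpm n))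
      (mk I (limit H) n).hom (hrange n) (by rw [ker_mk]; exact hp_ker n)
  choose a ha' using hex
  have hlift : ∀ n (x : ↑(H.obj (op (m n)))), ∃ y : ↑(limit H),
      (limit.π H (op (p n))).hom y = Tm H (p n) (m n) (hpm n) x :=
    fun n x => hrange n ⟨x, rfl⟩
  refine ⟨m, hm_mono, hm_ge,
    { app := fun j => ModuleCat.ofHom (a j.unop), naturality := ?_ }, ?_⟩
  · intro j j' f
    apply ModuleCat.hom_ext
    apply LinearMap.ext
    intro (x : ↑(H.obj (op (m j.unop))))
    have hnn : j'.unop ≤ j.unop := leOfHom f.unop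
    obtain ⟨y', hy'⟩ := hlift j.unop x
    change a j'.unop ((H.map ((Monotone.functor hm_mono).op.map f)).hom x) =
      ((Q I (limit H)).map f).hom (a j.unop x)
    rw [ha' j.unop x y' hy', map_eq_Tm H ((Monotone.functor hm_mono).op.map f) x]
    have e1 : ((Q I (limit H)).map f).hom ((mk I (limit H) j.unop).hom y') =
        (mk I (limit H) j'.unop).hom y' := by
      rw [Groth.Agent.S9533.map_thin (Q I (limit H)) f (homOfLE hnn).op]
      exact Q_map_mk I (limit H) hnn y'
    rw [e1]
    apply ha' j'.unop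
    rw [π_eq_Tm H y' (hp_mono hnn), hy', Tm_comp]
    exact (Tm_comp H (p j'.unop) (m j'.unop) (m j.unop) (hpm j'.unop) (hm_mono hnn) x).symm
  · intro n
    have hle : I ^ (m n + 1) • (⊤ : Submodule A ↑(limit H)) ≤
        LinearMap.ker (limit.π H (op (m n))).hom := by
      rw [Submodule.smul_le]
      intro r hr y _
      rw [LinearMap.mem_ker, map_smul]
      exact hkill (m n) r hr _
    let b : (Q I (limit H)).obj (op (m n)) ⟶ H.obj (op (m n)) :=
      ModuleCat.ofHom ((I ^ (m n + 1) • (⊤ : Submodule A ↑(limit H))).liftQ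
        (limit.π H (op (m n))).hom hle)
    have hb : ∀ y : ↑(limit H), b.hom ((mk I (limit H) (m n)).hom y) =
        (limit.π H (op (m n))).hom y := fun y => Submodule.liftQ_apply _ _ _
    refine ⟨m n, hm_ge n, b, ?_, ?_⟩
    · apply ModuleCat.hom_ext
      apply LinearMap.ext
      intro (x : ↑(H.obj (op (m (m n)))))
      obtain ⟨y, hy⟩ := hlift (m n) x
      change b.hom (a (m n) x) = ((DerCA.reindex H hm_mono).map (homOfLE (hm_ge n)).op).hom x
      rw [ha' (m n) x y hy, hb y, π_eq_Tm H y (hp_ge (m n)), hy, Tm_comp]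
      exact (map_eq_Tm H ((Monotone.functor hm_mono).op.map (homOfLE (hm_ge n)).op) x).symm
    · apply ModuleCat.hom_ext
      apply LinearMap.ext
      intro z
      obtain ⟨y, rfl⟩ := mk_surjective I (limit H) (m n) z
      change a n (b.hom ((mk I (limit H) (m n)).hom y)) =
        ((Q I (limit H)).map (homOfLE (hm_ge n)).op).hom ((mk I (limit H) (m n)).hom y)
      rw [hb y, Q_map_mk I (limit H) (hm_ge n) y]
      apply ha' n
      exact π_eq_Tm H y (hpm n)

end Alg

section Sheaf
open CategoryTheory CategoryTheory.Limits AlgebraicGeometry Opposite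
open Groth.Agent.S9535 (ΓF TF adjA Γmap_smulMod completion_tilde_iso)

variable {A : Type u} [CommRing A]

attribute [local instance] Groth.Agent.S9535.ovr

/-- Pushforward commutes with multiplication by an element of the base ring. -/
theorem pushforward_map_smulMod {X Y : Scheme.{u}} [X.Over (Spec (CommRingCat.of A))]
    [Y.Over (Spec (CommRingCat.of A))] (f : X ⟶ Y)
    (hf : f ≫ (Y ↘ Spec (CommRingCat.of A)) = X ↘ Spec (CommRingCat.of A)) (N : X.Modules) (a : A) :
    (Scheme.Modules.pushforward f).map (Formal.smulMod A N a) =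
      Formal.smulMod A ((Scheme.Modules.pushforward f).obj N) a := by
  unfold Formal.smulMod
  rw [← Groth.Agent.S0835.pushforward_smulModΓ]
  congr 2
  unfold Coh.toGlobal
  rw [← hf]
  simp
  rfl

theorem smulMod_tilde_eq_zero (N : ModuleCat.{u} A) (a : A) (h : ∀ x : N, a • x = 0) :
    Formal.smulMod A ((TF A).obj N) a = 0 := by
  apply ((adjA A).homEquiv N _).injective
  rw [Adjunction.homEquiv_unit, Adjunction.homEquiv_unit]
  apply ModuleCat.hom_ext
  apply LinearMap.ext
  intro x
  change ((ΓF A).map (Formal.smulMod A ((TF A).obj N) a)).hom (((adjA A).unit.app N).hom x) =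
    ((ΓF A).map (0 : (TF A).obj N ⟶ (TF A).obj N)).hom (((adjA A).unit.app N).hom x)
  rw [Γmap_smulMod, ← map_smul, h, map_zero]
  rfl

theorem mk_comp_map (I : Ideal A) (M : ModuleCat.{u} A) {n k : ℕ} (h : n ≤ k) :
    mk I M k ≫ (Q I M).map (homOfLE h).op = mk I M n := by
  apply ModuleCat.hom_ext
  apply LinearMap.ext
  intro y
  exact Q_map_mk I M h y

theorem completion_iso_Q (I : Ideal A) (M : ModuleCat.{u} A) :
    Nonempty (Formal.completion I ((TF A).obj M) ≅ Q I M ⋙ TF A) := by
  haveI : ∀ X : ModuleCat.{u} A, IsIso ((adjA A).unit.app X) := fun X =>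
    inferInstanceAs (IsIso ((tilde.toTildeΓNatIso (R := CommRingCat.of A)).hom.app X))
  refine completion_tilde_iso I (Q I M ⋙ TF A)
    (fun n => inferInstanceAs ((tilde (R := CommRingCat.of A) ((Q I M).obj (op n))).IsQuasicoherent))
    (fun n a ha => smulMod_tilde_eq_zero _ a ?_) M
    (fun n => mk I M n ≫ (adjA A).unit.app ((Q I M).obj (op n))) (fun n => ?_) (fun n => ?_)
    (fun n => ?_)
  · intro x
    obtain ⟨y, rfl⟩ := mk_surjective I M n x
    rw [← map_smul]
    exact (Submodule.Quotient.mk_eq_zero _).2 (Submodule.smul_mem_smul ha Submodule.mem_top)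
  · have h1 := (adjA A).unit.naturality ((Q I M).map (homOfLE (Nat.le_succ n)).op)
    change (mk I M (n + 1) ≫ (adjA A).unit.app ((Q I M).obj (op (n + 1)))) ≫
      (TF A ⋙ ΓF A).map ((Q I M).map (homOfLE (Nat.le_succ n)).op) = _
    rw [Category.assoc, ← h1]
    change mk I M (n + 1) ≫ (Q I M).map (homOfLE (Nat.le_succ n)).op ≫ _ = _
    rw [← Category.assoc, mk_comp_map]
  · have h2 : Function.Bijective ((adjA A).unit.app ((Q I M).obj (op n))).hom :=
      ConcreteCategory.bijective_of_isIso _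
    exact h2.2.comp (mk_surjective I M n)
  · have h2 : Function.Bijective ((adjA A).unit.app ((Q I M).obj (op n))).hom :=
      ConcreteCategory.bijective_of_isIso _
    intro x hx
    rw [← ker_mk I M n, LinearMap.mem_ker]
    rw [LinearMap.mem_ker] at hx
    apply h2.1
    rw [map_zero]
    exact hx

theorem isCohFormal_completion_of_coh {X : Scheme.{u}} [X.Over (Spec (CommRingCat.of A))]
    (I : Ideal A) (N : X.Modules)
    (hcoh : ∀ n, Coh.IsCoh (Formal.modPow I (n + 1) N)) :
    Formal.IsCohFormal I (Formal.completion I N) := by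
  refine ⟨fun n => hcoh n, fun n => Groth.Agent.S9536.killedBy_modPow I N (n + 1), fun n => ?_⟩
  have e : (Formal.completion I N).map (homOfLE (Nat.le_succ n)).op = Formal.modPowTrans I (n + 1) N :=
    Functor.ofOpSequence_map_homOfLE_succ _ n
  obtain ⟨h, ⟨hc⟩⟩ := Groth.Agent.S9536.modPowTrans_isColimit I N (n + 1)
  have h' : Formal.smulFamily (I ^ (n + 1)) ((Formal.completion I N).obj (op (n + 1))) ≫
      (Formal.completion I N).map (homOfLE (Nat.le_succ n)).op = 0 := by
    rw [e]; exact h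
  refine ⟨h', Groth.Agent.S0835.isIso_desc_of_isColimit _ _ h' ?_⟩
  exact IsColimit.ofIsoColimit hc (Cofork.ext (Iso.refl _) (by
    change Formal.modPowTrans I (n + 1) N ≫ 𝟙 _ = (Formal.completion I N).map (homOfLE (Nat.le_succ n)).op
    rw [Category.comp_id, e]))

theorem isProIsomorphic_of_iso_right {C : Type u} [Category.{v} C] {X Y Y' : ℕᵒᵖ ⥤ C} (e : Y ≅ Y')
    (h : Algz.IsProIsomorphic X Y) : Algz.IsProIsomorphic X Y' := by
  obtain ⟨m, hm, hle, a, ha⟩ := h
  refine ⟨m, hm, hle, a ≫ e.hom, ?_⟩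
  intro n
  obtain ⟨k, hk, b, hb1, hb2⟩ := ha n
  refine ⟨k, hk, e.inv.app (op k) ≫ b, ?_, ?_⟩
  · change (a.app (op k) ≫ e.hom.app (op k)) ≫ e.inv.app (op k) ≫ b = _
    rw [Category.assoc, Iso.hom_inv_id_app_assoc]
    exact hb1
  · change (e.inv.app (op k) ≫ b) ≫ a.app (op n) ≫ e.hom.app (op n) = Y'.map (homOfLE hk).op
    rw [Category.assoc, ← Category.assoc b, hb2]
    change e.inv.app (op k) ≫ Y.map (homOfLE hk).op ≫ e.hom.app (op n) = _
    rw [e.hom.naturality, Iso.inv_hom_id_app_assoc]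

theorem main (A : Type u) [CommRing A] [IsNoetherianRing A] (I : Ideal A)
    (U : (Spec (CommRingCat.of A)).Opens)
    (G : ℕᵒᵖ ⥤ (U : Scheme.{u}).Modules) (hG : Formal.IsCohFormal I G)
    (ha : ARSys.IsML (Algz.sectMod A U G))
    (hb : ∀ k : ℕ, ∃ n : ℕ, LinearMap.ker (limit.π (Algz.sectMod A U G) (op n)).hom ≤
      I ^ k • (⊤ : Submodule A ↑(limit (Algz.sectMod A U G))))
    (hc : ∀ n : ℕ, Module.Finite A ↥(LinearMap.range (limit.π (Algz.sectMod A U G) (op n)).hom)) :
    Algz.CanonicallyExtends A I U G := by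
  let H := Algz.sectMod A U G
  let M := limit H
  have hkillH : ∀ (n : ℕ) (a : A), a ∈ I ^ (n + 1) → ∀ x : ↑(H.obj (op n)), a • x = 0 := by
    intro n a ha x
    have h1 := Γmap_smulMod A ((Scheme.Modules.pushforward U.ι).obj (G.obj (op n))) a x
    have h2 : Formal.smulMod A ((Scheme.Modules.pushforward U.ι).obj (G.obj (op n))) a = 0 := by
      rw [← pushforward_map_smulMod U.ι (Category.comp_id _), hG.2.1 n a ha, Functor.map_zero]
    rw [h2] at h1
    exact h1.symm
  have hpro := proIso_modules I H hkillH ha hb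
  have hpro' : Algz.IsProIsomorphic (Algz.sectSys A U G) (Q I M ⋙ TF A) :=
    Groth.Agent.S9531.isProIsomorphic_map (TF A) hpro
  obtain ⟨e⟩ := completion_iso_Q I M
  have hfin : ∀ n, Module.Finite A ↑((Q I M).obj (op n)) := by
    intro n
    obtain ⟨k, hk⟩ := hb (n + 1)
    haveI := hc k
    haveI : Module.Finite A (↑M ⧸ LinearMap.ker (limit.π H (op k)).hom) :=
      Module.Finite.equiv (LinearMap.quotKerEquivRange _).symm
    exact Module.Finite.of_surjective (Submodule.factor hk) (Submodule.factor_surjective hk)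
  refine ⟨Formal.completion I ((TF A).obj M), ?_, isProIsomorphic_of_iso_right e.symm hpro'⟩
  refine isCohFormal_completion_of_coh I _ (fun n => ?_)
  haveI := hfin n
  exact Groth.Agent.H90.QH.isCoh_of_iso (e.app (op n)).symm
    (Groth.Agent.S9536.isCoh_tilde (CommRingCat.of A) ((Q I M).obj (op n)))

end Sheaf


/-- Let A be a Noetherian ring, I ⊆ 𝔞 ideals, U = Spec A ∖ V(𝔞), (F_n) an object of Coh(U, I O_U), and M
= lim_n H^0(U, F_n). Assume (a) the system H^0(U, F_n) is Mittag-Leffler, (b) the limit topology of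
M agrees with the I-adic one, i.e. for every k some kernel of M → H^0(U, F_n) lies in I^k M, and (c)
for each n, the A-submodule of H^0(U, F_n) given by the image of M is finitely generated. Then (F_n)
canonically extends to Spec A. (The addendum for I-adically complete A is not restated.) -/
theorem result (A : Type u) [CommRing A] [IsNoetherianRing A] (I 𝔞 : Ideal A) (hI𝔞 : I ≤ 𝔞)
    (G : ℕᵒᵖ ⥤ (↑(LocCoh.puncturedOpen A 𝔞) : Scheme.{u}).Modules) (hG : Formal.IsCohFormal I G)
    (ha : ARSys.IsML (Algz.sectMod A (LocCoh.puncturedOpen A 𝔞) G))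
    (hb : ∀ k : ℕ, ∃ n : ℕ, LinearMap.ker (limit.π (Algz.sectMod A (LocCoh.puncturedOpen A 𝔞) G) (op n)).hom ≤
      I ^ k • (⊤ : Submodule A ↑(limit (Algz.sectMod A (LocCoh.puncturedOpen A 𝔞) G))))
    (hc : ∀ n : ℕ, Module.Finite A ↥(LinearMap.range (limit.π (Algz.sectMod A (LocCoh.puncturedOpen A 𝔞) G) (op n)).hom)) :
    Algz.CanonicallyExtends A I (LocCoh.puncturedOpen A 𝔞) G := by
  exact main A I (LocCoh.puncturedOpen A 𝔞) G hG ha hb hc

end Groth.Agent.S9534
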