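import Groth.Statements.S9553
-- import your own Groth.Agent.* helpers here
import Groth.Agent.S9534
import Groth.Agent.S9498
import Groth.Agent.S9531
import Groth.Agent.H8.CohKerCoker
import Groth.Agent.H42.CmpLib

set_option autoImplicit false
universe u
open CategoryTheory CategoryTheory.Limits AlgebraicGeometry Opposite
open Algz

namespace Groth.Agent.S9553

section Gen
open CategoryTheory CategoryTheory.Limits AlgebraicGeometry Opposite

variable {R : CommRingCat.{u}}

/-- Sections of a module on `Spec R` over an open, as an `R`-module. -/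
noncomputable abbrev Sec (F : (Spec R).Modules) (U : (Spec R).Opens) : ModuleCat.{u} R :=
  (modulesSpecToSheaf.obj F).presheaf.obj (op U)

/-- Application of a morphism of modules on sections, as an `R`-linear map. -/
noncomputable abbrev appL {F F' : (Spec R).Modules} (ψ : F ⟶ F') (U : (Spec R).Opens) :
    Sec F U ⟶ Sec F' U :=
  (modulesSpecToSheaf.map ψ).1.app (op U)

theorem adjoint_toOpen (N : ModuleCat.{u} R) (J : (Spec R).Modules)
    (ℓ : N ⟶ moduleSpecΓFunctor.obj J) (U : (Spec R).Opens) (s : N) :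
    (appL ((tilde.adjunction.homEquiv N J).symm ℓ) U).hom ((tilde.toOpen N U).hom s) =
      ((modulesSpecToSheaf.obj J).1.map (homOfLE (le_top : U ≤ ⊤)).op).hom (ℓ.hom s) := by
  have h1 : (tilde.adjunction.homEquiv N J).symm ℓ = tilde.map ℓ ≫ J.fromTildeΓ :=
    Adjunction.homEquiv_counit _ _ _ _
  rw [h1]
  have h2 := tilde.toOpen_map_app ℓ U
  have h3 := Scheme.Modules.toOpen_fromTildeΓ_app J U
  have h5 : appL (tilde.map ℓ ≫ J.fromTildeΓ) U = appL (tilde.map ℓ) U ≫ appL J.fromTildeΓ U :=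
    congrArg (fun ψ : modulesSpecToSheaf.obj (tilde N) ⟶ modulesSpecToSheaf.obj J =>
      ψ.1.app (op U)) (modulesSpecToSheaf.map_comp (tilde.map ℓ) J.fromTildeΓ)
  have h4 : tilde.toOpen N U ≫ appL (tilde.map ℓ ≫ J.fromTildeΓ) U =
      ℓ ≫ (modulesSpecToSheaf.obj J).1.map (homOfLE (le_top : U ≤ ⊤)).op := by
    rw [h5]
    exact (Category.assoc _ _ _).symm.trans ((congrArg (· ≫ appL J.fromTildeΓ U) h2).trans
      ((Category.assoc _ _ _).trans (congrArg (ℓ ≫ ·) h3)))
  exact congrArg (fun ψ => ψ.hom s) h4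

theorem toOpen_map {N N' : ModuleCat.{u} R} (g : N ⟶ N') (U : (Spec R).Opens) (s : N) :
    (appL (tilde.map g) U).hom ((tilde.toOpen N U).hom s) = (tilde.toOpen N' U).hom (g.hom s) :=
  congrArg (fun ψ => ψ.hom s) (tilde.toOpen_map_app g U)

theorem exists_of_app_eq_zero (N : ModuleCat.{u} R) (J : (Spec R).Modules) [J.IsQuasicoherent]
    (ℓ : N ⟶ moduleSpecΓFunctor.obj J) (f : R)
    (x : Sec (tilde N) (PrimeSpectrum.basicOpen f))
    (hx : (appL ((tilde.adjunction.homEquiv N J).symm ℓ) (PrimeSpectrum.basicOpen f)).hom x = 0) :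
    ∃ (s : N) (k k' : ℕ), f ^ k • x = (tilde.toOpen N (PrimeSpectrum.basicOpen f)).hom s ∧
      f ^ k' • ℓ.hom s = 0 := by
  obtain ⟨⟨s, t⟩, hs⟩ := IsLocalizedModule.surj (.powers f)
    (tilde.toOpen N (PrimeSpectrum.basicOpen f)).hom x
  obtain ⟨k, hk⟩ := t.2
  have hs' : f ^ k • x = (tilde.toOpen N (PrimeSpectrum.basicOpen f)).hom s :=
    (congrArg (fun r : R => r • x) hk).trans hs
  have h1 : ((modulesSpecToSheaf.obj J).obj.map
      (PrimeSpectrum.basicOpen f).leTop.op).hom (ℓ.hom s) = 0 :=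
    (adjoint_toOpen N J ℓ _ s).symm.trans
      ((congrArg (appL ((tilde.adjunction.homEquiv N J).symm ℓ) (PrimeSpectrum.basicOpen f)).hom
        hs'.symm).trans
      (((appL ((tilde.adjunction.homEquiv N J).symm ℓ) (PrimeSpectrum.basicOpen f)).hom.map_smul
        (f ^ k) x).trans ((congrArg (f ^ k • ·) hx).trans (smul_zero _))))
  have hloc : IsLocalizing (modulesSpecToSheaf.obj J) :=
    (isIso_fromTildeΓ_iff_isLocalizing J).1 (Scheme.Modules.isIso_fromTildeΓ_of_isQuasicoherent J)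
  haveI := hloc f
  obtain ⟨t', hk'⟩ := (IsLocalizedModule.eq_zero_iff (.powers f)
    ((modulesSpecToSheaf.obj J).obj.map (PrimeSpectrum.basicOpen f).leTop.op).hom
      (m := ℓ.hom s)).1 h1
  obtain ⟨k', hk''⟩ := t'.2
  refine ⟨s, k, k', hs', ?_⟩
  exact (congrArg (fun r : R => r • ℓ.hom s) hk'').trans hk'

theorem eq_zero_of_pow_smul (N : ModuleCat.{u} R) (f : R)
    (x : Sec (tilde N) (PrimeSpectrum.basicOpen f)) (K : ℕ) (h : f ^ K • x = 0) : x = 0 := by
  apply IsLocalizedModule.smul_injective (tilde.toOpen N (PrimeSpectrum.basicOpen f)).hom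
    (⟨f ^ K, K, rfl⟩ : Submonoid.powers f)
  change f ^ K • x = f ^ K • (0 : Sec (tilde N) (PrimeSpectrum.basicOpen f))
  rw [h, smul_zero]

end Gen

section Two
open CategoryTheory CategoryTheory.Limits AlgebraicGeometry Opposite

variable (A : Type u) [CommRing A] (I : Ideal A) (M : Type u) [AddCommGroup M] [Module A M]

/-- Iterated transition maps `M/I^(n+d+1)M → M/I^(n+1)M`. -/
noncomputable def tr (n : ℕ) : (d : ℕ) →
    Formal2.quotPow A I M (n + d) →ₗ[A] Formal2.quotPow A I M n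
  | 0 => LinearMap.id
  | d + 1 => tr n d ∘ₗ Formal2.quotPowTrans A I M (n + d)

theorem tr_mk (n d : ℕ) (y : M) :
    tr A I M n d (Formal2.quotPowπ A I M (n + d) y) = Formal2.quotPowπ A I M n y := by
  induction d with
  | zero => rfl
  | succ d ih =>
    change tr A I M n d (Formal2.quotPowTrans A I M (n + d)
      (Formal2.quotPowπ A I M (n + d + 1) y)) = _
    have : Formal2.quotPowTrans A I M (n + d) (Formal2.quotPowπ A I M (n + d + 1) y) =
        Formal2.quotPowπ A I M (n + d) y := by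
      unfold Formal2.quotPowTrans
      exact Submodule.mapQ_apply _ _ _ _
    rw [this]; exact ih

theorem appL_comp {R : CommRingCat.{u}} {F F' F'' : (Spec R).Modules} (ψ : F ⟶ F') (ψ' : F' ⟶ F'')
    (U : (Spec R).Opens) (y : Sec F U) :
    (appL (ψ ≫ ψ') U).hom y = (appL ψ' U).hom ((appL ψ U).hom y) :=
  congrArg (fun χ : modulesSpecToSheaf.obj F ⟶ modulesSpecToSheaf.obj F'' =>
    (χ.1.app (op U)).hom y) (modulesSpecToSheaf.map_comp ψ ψ')

theorem appL_id {R : CommRingCat.{u}} (F : (Spec R).Modules)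
    (U : (Spec R).Opens) (y : Sec F U) :
    (appL (𝟙 F) U).hom y = y :=
  congrArg (fun χ : modulesSpecToSheaf.obj F ⟶ modulesSpecToSheaf.obj F =>
    (χ.1.app (op U)).hom y) (modulesSpecToSheaf.map_id F)

theorem compat (f : A)
    (x : ∀ n, Sec (Formal2.tmod A (Formal2.quotPow A I M n)) (PrimeSpectrum.basicOpen f))
    (hx : ∀ n, (appL (Formal2.tmodMap A (Formal2.quotPowTrans A I M n))
      (PrimeSpectrum.basicOpen f)).hom (x (n + 1)) = x n) (n d : ℕ) :
    (appL (Formal2.tmodMap A (tr A I M n d)) (PrimeSpectrum.basicOpen f)).hom (x (n + d)) = x n := by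
  induction d with
  | zero =>
    have h : Formal2.tmodMap A (tr A I M n 0) = 𝟙 _ := tilde.map_id
    rw [h]
    exact appL_id _ _ _
  | succ d ih =>
    have h : Formal2.tmodMap A (tr A I M n (d + 1)) =
        Formal2.tmodMap A (Formal2.quotPowTrans A I M (n + d)) ≫ Formal2.tmodMap A (tr A I M n d) :=
      (congrArg (tilde.map (R := CommRingCat.of A)) (ModuleCat.ofHom_comp
        (Formal2.quotPowTrans A I M (n + d)) (tr A I M n d))).trans
      (tilde.map_comp (R := CommRingCat.of A)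
        (ModuleCat.ofHom (Formal2.quotPowTrans A I M (n + d))) (ModuleCat.ofHom (tr A I M n d)))
    rw [h]
    refine (appL_comp _ _ _ _).trans ?_
    exact (congrArg _ (hx (n + d))).trans ih

theorem partTwo (J : ℕ → (Spec (CommRingCat.of A)).Modules) [∀ n, (J n).IsQuasicoherent]
    (ℓ : ∀ n, ModuleCat.of A (Formal2.quotPow A I M n) ⟶
      moduleSpecΓFunctor (R := CommRingCat.of A) |>.obj (J n))
    (hker : ∀ n, ∃ P, n ≤ P ∧ ∀ y : M, (ℓ P).hom (Formal2.quotPowπ A I M P y) = 0 →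
      y ∈ I ^ (n + 1) • (⊤ : Submodule A M))
    (f : A)
    (x : ∀ n, Sec (Formal2.tmod A (Formal2.quotPow A I M n)) (PrimeSpectrum.basicOpen f))
    (hx : ∀ n, (appL (Formal2.tmodMap A (Formal2.quotPowTrans A I M n))
      (PrimeSpectrum.basicOpen f)).hom (x (n + 1)) = x n)
    (h0 : ∀ n, (appL (((tilde.adjunction (R := CommRingCat.of A)).homEquiv
      (ModuleCat.of A (Formal2.quotPow A I M n)) (J n)).symm (ℓ n))
      (PrimeSpectrum.basicOpen f)).hom (x n) = 0) (n : ℕ) : x n = 0 := by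
  obtain ⟨P, hnP, hP⟩ := hker n
  obtain ⟨d, rfl⟩ : ∃ d, P = n + d := Nat.exists_eq_add_of_le hnP
  obtain ⟨s, k, k', hs, hs'⟩ := exists_of_app_eq_zero (R := CommRingCat.of A)
    (ModuleCat.of A (Formal2.quotPow A I M (n + d))) (J (n + d)) (ℓ (n + d)) f (x (n + d))
    (h0 (n + d))
  obtain ⟨y, rfl⟩ := Submodule.mkQ_surjective _ s
  have h1 : (ℓ (n + d)).hom (Formal2.quotPowπ A I M (n + d) (f ^ k' • y)) = 0 := by
    rw [map_smul, map_smul]; exact hs'
  have h2 : f ^ k' • y ∈ I ^ (n + 1) • (⊤ : Submodule A M) := hP _ h1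
  have h3 : Formal2.quotPowπ A I M n (f ^ k' • y) = 0 :=
    (Submodule.Quotient.mk_eq_zero _).2 h2
  have h4 := compat A I M f x hx n d
  have h5 : f ^ k • x n = (tilde.toOpen (R := CommRingCat.of A) (ModuleCat.of A (Formal2.quotPow A I M n))
      (PrimeSpectrum.basicOpen f)).hom (Formal2.quotPowπ A I M n y) := by
    refine (congrArg (f ^ k • ·) h4.symm).trans ?_
    refine ((appL (Formal2.tmodMap A (tr A I M n d)) (PrimeSpectrum.basicOpen f)).hom.map_smul
      (f ^ k) (x (n + d))).symm.trans ?_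
    refine (congrArg (appL (Formal2.tmodMap A (tr A I M n d))
      (PrimeSpectrum.basicOpen f)).hom hs).trans ?_
    refine (toOpen_map (R := CommRingCat.of A) (ModuleCat.ofHom (tr A I M n d)) _ _).trans ?_
    exact congrArg _ (tr_mk A I M n d y)
  apply eq_zero_of_pow_smul (R := CommRingCat.of A) _ f (x n) (k' + k)
  refine (congrArg (· • x n) (pow_add f k' k)).trans ((mul_smul (f ^ k') (f ^ k) (x n)).trans ?_)
  refine (congrArg (f ^ k' • ·) h5).trans ?_
  refine ((tilde.toOpen (R := CommRingCat.of A) (ModuleCat.of A (Formal2.quotPow A I M n))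
      (PrimeSpectrum.basicOpen f)).hom.map_smul (f ^ k') _).symm.trans ?_
  refine (congrArg (tilde.toOpen (R := CommRingCat.of A)
    (ModuleCat.of A (Formal2.quotPow A I M n)) (PrimeSpectrum.basicOpen f)).hom
      (((Formal2.quotPowπ A I M n).map_smul (f ^ k') y).symm.trans h3)).trans ?_
  exact map_zero _

end Two

section One
open CategoryTheory CategoryTheory.Limits AlgebraicGeometry Opposite
open AlgebraicGeometry.Scheme.Modules

/-- A quasi-coherent subobject of a coherent module on a locally Noetherian scheme is coherent. -/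
theorem isCoh_of_mono {X : Scheme.{u}} [IsLocallyNoetherian X] {F G : X.Modules}
    [hq : F.IsQuasicoherent] (hG : Coh.IsCoh G) (φ : F ⟶ G) [Mono φ] : Coh.IsCoh F := by
  refine ⟨hq, ?_⟩
  apply Groth.Agent.H8.isFiniteType_of_forall_affine_finite
  intro U
  haveI : IsNoetherianRing Γ(X, (U : X.Opens)) := IsLocallyNoetherian.component_noetherian U
  haveI : Module.Finite Γ(X, (U : X.Opens)) Γ(G, (U : X.Opens)) :=
    Groth.Agent.H8.finite_sections_of_isCoh G hG U.2
  haveI : IsNoetherian Γ(X, (U : X.Opens)) Γ(G, (U : X.Opens)) :=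
    isNoetherian_of_isNoetherianRing_of_finite _ _
  exact Module.Finite.of_injective (Groth.Agent.H8.appₗ φ (U : X.Opens))
    (Groth.Agent.H8.appₗ_injective_of_mono φ (U : X.Opens))

theorem partOne (A : Type u) [CommRing A] [IsNoetherianRing A] (I : Ideal A)
    (U : (Spec (CommRingCat.of A)).Opens)
    (G : ℕᵒᵖ ⥤ (U : Scheme.{u}).Modules) (hG : ∀ n : ℕ, Coh.IsCoh (G.obj (op n)))
    (n p : ℕ) (hp : LinearMap.ker (limit.π (Algz.sectMod A U G) (op p)).hom ≤
      I ^ (n + 1) • (⊤ : Submodule A ↑(limit (Algz.sectMod A U G)))) :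
    Coh.IsCoh ((Scheme.Modules.restrictFunctor U.ι).obj
      (Formal2.tmod A (Formal2.quotPow A I ↑(limit (Algz.sectMod A U G)) n))) := by
  obtain ⟨a, ha⟩ := Groth.Agent.S9534.exists_factor_lin
    (limit.π (Algz.sectMod A U G) (op p)).hom
    (LinearMap.range (limit.π (Algz.sectMod A U G) (op p)).hom).subtype
    (Formal2.quotPowπ A I ↑(limit (Algz.sectMod A U G)) n)
    (by rw [Submodule.range_subtype])
    (by rw [Submodule.ker_mkQ]; exact hp)
  have hsurj : Function.Surjective a := by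
    intro z
    obtain ⟨y, rfl⟩ := Submodule.mkQ_surjective _ z
    exact ⟨⟨(limit.π (Algz.sectMod A U G) (op p)).hom y, y, rfl⟩, ha _ y rfl⟩
  -- notation
  let Rg : Submodule A ↑((Algz.sectMod A U G).obj (op p)) :=
    LinearMap.range (limit.π (Algz.sectMod A U G) (op p)).hom
  let inc : ModuleCat.of A Rg ⟶ (Algz.sectMod A U G).obj (op p) :=
    ConcreteCategory.ofHom (C := ModuleCat A) (X := ModuleCat.of A Rg)
      (Y := (Algz.sectMod A U G).obj (op p)) Rg.subtype
  let aa : ModuleCat.of A Rg ⟶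
      ModuleCat.of A (Formal2.quotPow A I ↑(limit (Algz.sectMod A U G)) n) := ModuleCat.ofHom a
  haveI : Mono inc := (ModuleCat.mono_iff_injective inc).2 Rg.injective_subtype
  haveI : Epi aa := (ModuleCat.epi_iff_surjective aa).2 hsurj
  haveI := (Groth.Agent.S9498.key (CommRingCat.of A)).1
  haveI := (Groth.Agent.S9498.key (CommRingCat.of A)).2
  haveI := Groth.Agent.H42.CmpLib.preservesFiniteLimits_restrictFunctor U.ι
  haveI := Groth.Agent.H42.CmpLib.preservesFiniteColimits_restrictFunctor U.ι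
  haveI : Mono ((tilde.functor (CommRingCat.of A)).map inc) := inferInstance
  haveI : Epi ((tilde.functor (CommRingCat.of A)).map aa) := inferInstance
  haveI h1 : Mono ((Scheme.Modules.restrictFunctor U.ι).map
      ((tilde.functor (CommRingCat.of A)).map inc)) := inferInstance
  haveI h2 : Epi ((Scheme.Modules.restrictFunctor U.ι).map
      ((tilde.functor (CommRingCat.of A)).map aa)) := inferInstance
  haveI hiso := Groth.Agent.S9531.isIso_sectSysRestrictHom A U G
    (fun k => (hG k.unop).1)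
  haveI h3 : IsIso ((Groth.Agent.S9531.sectSysRestrictHom A U G).app (op p)) := inferInstance
  let φ : (Scheme.Modules.restrictFunctor U.ι).obj (tilde (R := CommRingCat.of A) (ModuleCat.of A Rg)) ⟶
      G.obj (op p) :=
    (Scheme.Modules.restrictFunctor U.ι).map ((tilde.functor (CommRingCat.of A)).map inc) ≫
      (Groth.Agent.S9531.sectSysRestrictHom A U G).app (op p)
  haveI : Mono φ := @mono_comp _ _ _ _ _ _ h1 _ (@IsIso.mono_of_iso _ _ _ _ _ h3)
  haveI : IsLocallyNoetherian (U : Scheme.{u}) := inferInstance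
  have hcoh : Coh.IsCoh ((Scheme.Modules.restrictFunctor U.ι).obj
      (tilde (R := CommRingCat.of A) (ModuleCat.of A Rg))) := isCoh_of_mono (hG p) φ
  haveI := hcoh.2
  refine ⟨inferInstance, ?_⟩
  exact @Groth.Agent.H8.isFiniteType_of_epi _ _ _ ((Scheme.Modules.restrictFunctor U.ι).map
      ((tilde.functor (CommRingCat.of A)).map aa)) h2 hcoh.2

end One

section Main
open CategoryTheory CategoryTheory.Limits AlgebraicGeometry Opposite

theorem main (A : Type u) [CommRing A] [IsNoetherianRing A] (I 𝔞 : Ideal A) (hI𝔞 : I ≤ 𝔞)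
    (G : ℕᵒᵖ ⥤ (↑(LocCoh.puncturedOpen A 𝔞) : Scheme.{u}).Modules) (hG : Formal.IsCohFormal I G)
    (hb : ∀ k : ℕ, ∃ n : ℕ, LinearMap.ker (limit.π (Algz.sectMod A (LocCoh.puncturedOpen A 𝔞) G) (op n)).hom ≤
      I ^ k • (⊤ : Submodule A ↑(limit (Algz.sectMod A (LocCoh.puncturedOpen A 𝔞) G))))
    (ℓ : ∀ n : ℕ, ModuleCat.of A (Formal2.quotPow A I ↑(limit (Algz.sectMod A (LocCoh.puncturedOpen A 𝔞) G)) n) ⟶ (Algz.sectMod A (LocCoh.puncturedOpen A 𝔞) G).obj (op n))
    (hℓ : ∀ n : ℕ, ModuleCat.ofHom (Formal2.quotPowπ A I ↑(limit (Algz.sectMod A (LocCoh.puncturedOpen A 𝔞) G)) n) ≫ ℓ n = limit.π (Algz.sectMod A (LocCoh.puncturedOpen A 𝔞) G) (op n)) :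
    (∀ n : ℕ, Coh.IsCoh ((Scheme.Modules.restrictFunctor (LocCoh.puncturedOpen A 𝔞).ι).obj (Formal2.tmod A (Formal2.quotPow A I ↑(limit (Algz.sectMod A (LocCoh.puncturedOpen A 𝔞) G)) n)))) ∧
    ∀ (f : A), f ∈ 𝔞 →
      ∀ x : (∀ n : ℕ, (Scheme.Modules.presheaf (Formal2.tmod A (Formal2.quotPow A I ↑(limit (Algz.sectMod A (LocCoh.puncturedOpen A 𝔞) G)) n))).obj (op (PrimeSpectrum.basicOpen f : (Spec (CommRingCat.of A)).Opens))),
        (∀ n : ℕ, Scheme.Modules.Hom.app (Formal2.tmodMap A (Formal2.quotPowTrans A I ↑(limit (Algz.sectMod A (LocCoh.puncturedOpen A 𝔞) G)) n)) (PrimeSpectrum.basicOpen f : (Spec (CommRingCat.of A)).Opens) (x (n + 1)) = x n) →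
        (∀ n : ℕ, Scheme.Modules.Hom.app
            (((tilde.adjunction (R := CommRingCat.of A)).homEquiv (ModuleCat.of A (Formal2.quotPow A I ↑(limit (Algz.sectMod A (LocCoh.puncturedOpen A 𝔞) G)) n))
              ((Scheme.Modules.pushforward (LocCoh.puncturedOpen A 𝔞).ι).obj (G.obj (op n)))).symm (ℓ n))
            (PrimeSpectrum.basicOpen f : (Spec (CommRingCat.of A)).Opens) (x n) = 0) →
        ∀ n : ℕ, x n = 0 := by
  refine ⟨?_, ?_⟩
  · intro n
    obtain ⟨p, hp⟩ := hb (n + 1)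
    exact partOne A I (LocCoh.puncturedOpen A 𝔞) G hG.1 n p hp
  · intro f _ x hx h0 n
    haveI : ∀ n : ℕ, ((Scheme.Modules.pushforward (LocCoh.puncturedOpen A 𝔞).ι).obj
        (G.obj (op n))).IsQuasicoherent := by
      intro n
      haveI := (hG.1 n).1
      exact Groth.Agent.H8.isQuasicoherent_pushforward (LocCoh.puncturedOpen A 𝔞).ι (G.obj (op n))
    have hker : ∀ n, ∃ P, n ≤ P ∧ ∀ y : ↑(limit (Algz.sectMod A (LocCoh.puncturedOpen A 𝔞) G)),
        (ℓ P).hom (Formal2.quotPowπ A I _ P y) = 0 →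
          y ∈ I ^ (n + 1) • (⊤ : Submodule A ↑(limit (Algz.sectMod A (LocCoh.puncturedOpen A 𝔞) G))) := by
      intro n
      obtain ⟨p, hp⟩ := hb (n + 1)
      refine ⟨max n p, le_max_left _ _, fun y hy => ?_⟩
      apply hp
      apply Groth.Agent.S9534.ker_π_anti _ (le_max_right n p)
      rw [LinearMap.mem_ker, ← hℓ]
      exact hy
    exact partTwo A I ↑(limit (Algz.sectMod A (LocCoh.puncturedOpen A 𝔞) G))
      (fun n => (Scheme.Modules.pushforward (LocCoh.puncturedOpen A 𝔞).ι).obj (G.obj (op n)))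
      ℓ hker f x hx h0 n

end Main


/-- Let A be a Noetherian ring, I ⊆ 𝔞 ideals, U = Spec A ∖ V(𝔞) with inclusion j, (F_n) an object of
Coh(U, I O_U), M = lim_n H^0(U, F_n) and G_n = (M/I^(n+1)M)~ (positions shifted by one). Assume the
limit topology of M agrees with the I-adic one: for every k some kernel of M → H^0(U, F_n) lies in
I^k M. Let ℓ_n : M/I^(n+1)M → H^0(U, F_n) = Γ(Spec A, j_*F_n) be the factorisations of the
projections (they exist since F_n is killed by I^(n+1); they are pinned here by that property) and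
G_n → j_*F_n the adjoint maps. Then (i) each G_n|_U is coherent, and (ii) the resulting morphism
(G_n|_U) → (F_n) of inverse systems is a monomorphism in Coh(U, I O_U) (an abelian category), in the
form the printed proof establishes: for every f ∈ 𝔞, a family of sections of the G_n over D(f),
compatible under the transition maps, whose images in the Γ(D(f), j_*F_n) = Γ(D(f) ∩ U, F_n) all
vanish, is zero. -/
theorem result (A : Type u) [CommRing A] [IsNoetherianRing A] (I 𝔞 : Ideal A) (hI𝔞 : I ≤ 𝔞)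
    (G : ℕᵒᵖ ⥤ (↑(LocCoh.puncturedOpen A 𝔞) : Scheme.{u}).Modules) (hG : Formal.IsCohFormal I G)
    (hb : ∀ k : ℕ, ∃ n : ℕ, LinearMap.ker (limit.π (Algz.sectMod A (LocCoh.puncturedOpen A 𝔞) G) (op n)).hom ≤
      I ^ k • (⊤ : Submodule A ↑(limit (Algz.sectMod A (LocCoh.puncturedOpen A 𝔞) G))))
    (ℓ : ∀ n : ℕ, ModuleCat.of A (Formal2.quotPow A I ↑(limit (Algz.sectMod A (LocCoh.puncturedOpen A 𝔞) G)) n) ⟶ (Algz.sectMod A (LocCoh.puncturedOpen A 𝔞) G).obj (op n))
    (hℓ : ∀ n : ℕ, ModuleCat.ofHom (Formal2.quotPowπ A I ↑(limit (Algz.sectMod A (LocCoh.puncturedOpen A 𝔞) G)) n) ≫ ℓ n = limit.π (Algz.sectMod A (LocCoh.puncturedOpen A 𝔞) G) (op n)) :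
    (∀ n : ℕ, Coh.IsCoh ((Scheme.Modules.restrictFunctor (LocCoh.puncturedOpen A 𝔞).ι).obj (Formal2.tmod A (Formal2.quotPow A I ↑(limit (Algz.sectMod A (LocCoh.puncturedOpen A 𝔞) G)) n)))) ∧
    ∀ (f : A), f ∈ 𝔞 →
      ∀ x : (∀ n : ℕ, (Scheme.Modules.presheaf (Formal2.tmod A (Formal2.quotPow A I ↑(limit (Algz.sectMod A (LocCoh.puncturedOpen A 𝔞) G)) n))).obj (op (PrimeSpectrum.basicOpen f : (Spec (CommRingCat.of A)).Opens))),
        (∀ n : ℕ, Scheme.Modules.Hom.app (Formal2.tmodMap A (Formal2.quotPowTrans A I ↑(limit (Algz.sectMod A (LocCoh.puncturedOpen A 𝔞) G)) n)) (PrimeSpectrum.basicOpen f : (Spec (CommRingCat.of A)).Opens) (x (n + 1)) = x n) →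
        (∀ n : ℕ, Scheme.Modules.Hom.app
            (((tilde.adjunction (R := CommRingCat.of A)).homEquiv (ModuleCat.of A (Formal2.quotPow A I ↑(limit (Algz.sectMod A (LocCoh.puncturedOpen A 𝔞) G)) n))
              ((Scheme.Modules.pushforward (LocCoh.puncturedOpen A 𝔞).ι).obj (G.obj (op n)))).symm (ℓ n))
            (PrimeSpectrum.basicOpen f : (Spec (CommRingCat.of A)).Opens) (x n) = 0) →
        ∀ n : ℕ, x n = 0 := by
  exact main A I 𝔞 hI𝔞 G hG hb ℓ hℓ

end Groth.Agent.S9553
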