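import Groth.Statements.S0829
-- import your own Groth.Agent.* helpers here
import Groth.Agent.H5.ExD
import Groth.Agent.H76.Ex_A
import Groth.Agent.H77.Ex_B
import Groth.Agent.H1.Ex_C
import Groth.Agent.H77.Ex_E
import Groth.Agent.S9553
import Groth.Agent.H8.DevPw

set_option autoImplicit false
set_option linter.style.haveILetI false
universe u
open Formal2

namespace Groth.Agent.S0829

section Aux
open CategoryTheory CategoryTheory.Limits AlgebraicGeometry Opposite
open Groth.Agent.S9528 Groth.Agent.H5.Ker Groth.Agent.H5.Ex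

variable {A : Type u} [CommRing A] {X : Scheme.{u}} [X.Over (Spec (CommRingCat.of A))]
  (I : Ideal A) {G : X.Modules} {F : ℕᵒᵖ ⥤ X.Modules} (α : F ⟶ Formal.completion I G)

theorem tP_comp {n m k : ℕ} (h : n ≤ m) (h' : m ≤ k) :
    tP I α h' ≫ tP I α h = tP I α (h.trans h') := by
  apply P_hom_ext
  · rw [Category.assoc, tP_fst, tP_fst_assoc, tP_fst, ← F.map_comp]
    rfl
  · rw [Category.assoc, tP_snd, tP_snd, tP_snd]

instance epi_πG (n : ℕ) : Epi (πG I G n) := by
  unfold πG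
  exact (isQuot_π (I ^ (n + 1)) G).epi

instance epi_fstP (n : ℕ) : Epi (fstP I α n) := by
  unfold fstP
  exact Abelian.epi_pullback_of_epi_g _ _

theorem epi_pΦ (hF : Formal.IsCohFormal I F) (s n : ℕ) : Epi (pΦ I α s n) := by
  haveI := (isQuot_of_cohFormal I hF (Nat.le_add_right n s)).epi
  have h : Φπ I α s n ≫ pΦ I α s n =
      fstP I α (n + s) ≫ F.map (homOfLE (Nat.le_add_right n s)).op := by
    unfold pΦ
    rw [Φπ_ι_assoc, tP_fst]
  haveI : Epi (Φπ I α s n ≫ pΦ I α s n) := by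
    rw [h]
    exact epi_comp _ _
  exact epi_of_epi (Φπ I α s n) (pΦ I α s n)

theorem isQuot_pΦ (hF : Formal.IsCohFormal I F) (s n : ℕ)
    (hker : kernel.ι (pΦ I α s n) ≫ Formal.modPowπ I (n + 1) (Φ I α s n) = 0) :
    IsQuot (I ^ (n + 1)) (pΦ I α s n) := by
  haveI := epi_pΦ I α hF s n
  refine IsQuot.mk' _ ?_ ?_
  · rw [Groth.Agent.S0832.smulFamily_comp_eq_zero_iff]
    intro a ha
    rw [Groth.Agent.S0832.smulMod_naturality, hF.2.1 n a ha, comp_zero]
  · intro Z g hg
    let d : Formal.modPow I (n + 1) (Φ I α s n) ⟶ Z := cokernel.desc _ g hg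
    have hd : Formal.modPowπ I (n + 1) (Φ I α s n) ≫ d = g := cokernel.π_desc _ _ _
    refine ⟨Abelian.epiDesc (pΦ I α s n) g ?_, Abelian.comp_epiDesc _ _ _⟩
    rw [← hd, ← Category.assoc, hker, zero_comp]

theorem exists_e (s n : ℕ)
    (hstab : tP I α (Nat.le_add_right n s) ≫
      cokernel.π (tP I α (Nat.le_add_right n (s + 1))) = 0)
    (hmono : Mono (Φι I α s (n + 1) ≫ tP I α (Nat.le_succ n))) :
    ∃ e : Φ I α s (n + 1) ≅ Φ I α s n,
      e.hom ≫ Φι I α s n = Φι I α s (n + 1) ≫ tP I α (Nat.le_succ n) := by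
  obtain ⟨u, hu⟩ : ∃ u : Φ I α s (n + 1) ⟶ P I α n,
      u = Φι I α s (n + 1) ≫ tP I α (Nat.le_succ n) := ⟨_, rfl⟩
  haveI : Mono u := hu ▸ hmono
  have hle : n ≤ n + 1 + s := by omega
  have hv' : Φπ I α s (n + 1) ≫ u = tP I α hle := by
    rw [hu, Φπ_ι_assoc, tP_comp]
  -- u lands in Φ_n
  have hu0 : u ≫ cokernel.π (tP I α (Nat.le_add_right n s)) = 0 := by
    rw [← cancel_epi (Φπ I α s (n + 1)), ← Category.assoc, hv', comp_zero,
      ← tP_comp I α (Nat.le_add_right n s) (by omega : n + s ≤ n + 1 + s), Category.assoc,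
      cokernel.condition, comp_zero]
  let eh : Φ I α s (n + 1) ⟶ Φ I α s n :=
    kernel.lift (cokernel.π (tP I α (Nat.le_add_right n s))) u hu0
  have he : eh ≫ Φι I α s n = u := kernel.lift_ι _ _ _
  -- Φ_n lands in u
  have hv : tP I α (Nat.le_add_right n (s + 1)) ≫ cokernel.π u = 0 := by
    rw [← tP_comp I α hle (by omega : n + 1 + s ≤ n + (s + 1)), Category.assoc, ← hv',
      Category.assoc, cokernel.condition, comp_zero, comp_zero]
  have hΦ : Φι I α s n ≫ cokernel.π u = 0 := by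
    have hd : cokernel.π u =
        cokernel.π (tP I α (Nat.le_add_right n (s + 1))) ≫ cokernel.desc _ _ hv :=
      (cokernel.π_desc _ _ _).symm
    rw [← cancel_epi (Φπ I α s n), ← Category.assoc, Φπ_ι, comp_zero, hd, ← Category.assoc,
      hstab, zero_comp]
  let r : Φ I α s n ⟶ Φ I α s (n + 1) := Abelian.monoLift u (Φι I α s n) hΦ
  have hr : r ≫ u = Φι I α s n := Abelian.monoLift_comp _ _ _
  refine ⟨⟨eh, r, ?_, ?_⟩, ?_⟩
  · rw [← cancel_mono u, Category.assoc, hr, he, Category.id_comp]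
  · rw [← cancel_mono (Φι I α s n), Category.assoc, he, hr, Category.id_comp]
  · exact he.trans hu

theorem isCoh_P [IsNoetherian X] (hG : Coh.IsCoh G) (hF : Formal.IsCohFormal I F) (n : ℕ) :
    Coh.IsCoh (P I α n) := by
  haveI : G.IsQuasicoherent := hG.1
  haveI : (F.obj (op n)).IsQuasicoherent := (hF.1 n).1
  haveI : ((Formal.completion I G).obj (op n)).IsQuasicoherent :=
    Groth.Agent.S0833.isQuasicoherent_modPow I G (n + 1)
  haveI : (P I α n).IsQuasicoherent := by
    unfold P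
    exact Groth.Agent.H22.QCohLimits.isQuasicoherent_pullback _ _
  let j : P I α n ⟶ F.obj (op n) ⊞ G := biprod.lift (fstP I α n) (sndP I α n)
  haveI : Mono j := by
    refine ⟨fun {Z} u v huv => ?_⟩
    apply P_hom_ext
    · have := congrArg (· ≫ biprod.fst) huv
      simpa [j] using this
    · have := congrArg (· ≫ biprod.snd) huv
      simpa [j] using this
  exact Groth.Agent.S9553.isCoh_of_mono (Groth.Agent.H8.Dev.isCoh_biprod (hF.1 n) hG) j

theorem isCoh_Φ [IsNoetherian X] (hG : Coh.IsCoh G) (hF : Formal.IsCohFormal I F) (s n : ℕ) :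
    Coh.IsCoh (Φ I α s n) := by
  unfold H5.Ex.Φ
  exact Groth.Agent.H8.isCoh_kernel (isCoh_P I α hG hF n)
    (Groth.Agent.H8.isCoh_cokernel (isCoh_P I α hG hF (n + s)) (isCoh_P I α hG hF n) _) _

theorem killedBy_of_mono {L : Ideal A} {K M : X.Modules} (i : K ⟶ M) [Mono i]
    (h : Formal.KilledBy L M) : Formal.KilledBy L K := by
  intro a ha
  rw [← cancel_mono i, Groth.Agent.S0832.smulMod_naturality, h a ha, comp_zero, zero_comp]

theorem ker_aΦ_killed {L : Ideal A} (s n : ℕ)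
    (h : Formal.KilledBy L (kernel (α.app (op n)))) :
    Formal.KilledBy L (kernel (aΦ I α s n)) := by
  have hk : kernel.ι (aΦ I α s n) ≫ Φι I α s n ≫ sndP I α n = 0 := kernel.condition (aΦ I α s n)
  have h0 : (kernel.ι (aΦ I α s n) ≫ pΦ I α s n) ≫ α.app (op n) = 0 := by
    unfold pΦ
    rw [Category.assoc, Category.assoc, condP, ← Category.assoc, ← Category.assoc,
      Category.assoc (kernel.ι _), hk, zero_comp]
  let l : kernel (aΦ I α s n) ⟶ kernel (α.app (op n)) := kernel.lift _ _ h0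
  have hl : l ≫ kernel.ι _ = kernel.ι (aΦ I α s n) ≫ pΦ I α s n := kernel.lift_ι _ _ _
  haveI : Mono (kernel.ι (aΦ I α s n) ≫ pΦ I α s n) := by
    apply Preadditive.mono_of_cancel_zero
    intro T u hu0
    have h1 : (u ≫ kernel.ι (aΦ I α s n) ≫ Φι I α s n) = 0 := by
      apply P_hom_ext
      · rw [zero_comp, Category.assoc, Category.assoc]
        simpa [pΦ] using hu0
      · rw [zero_comp, Category.assoc, Category.assoc, hk, comp_zero]
    rw [← Category.assoc] at h1
    have h2 : u ≫ kernel.ι (aΦ I α s n) = 0 := by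
      rw [← cancel_mono (Φι I α s n), h1, zero_comp]
    rw [← cancel_mono (kernel.ι (aΦ I α s n)), h2, zero_comp]
  haveI : Mono l := mono_of_mono_fac hl
  exact killedBy_of_mono l h

theorem isQuot_iso_comp {L : Ideal A} {M M' N : X.Modules} (v : M ≅ M') {q : M' ⟶ N}
    (hq : IsQuot L q) : IsQuot L (v.hom ≫ q) := by
  obtain ⟨h, ⟨hc⟩⟩ := hq
  exact Groth.Agent.S0832.isColimit_iso_comp v.hom q h hc

theorem main [IsNoetherian X] (hG : Coh.IsCoh G) (hF : Formal.IsCohFormal I F)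
    (hα : Formal2.KerCokerKilledByIPow I α) :
    ∃ (F' : X.Modules) (a : F' ⟶ G) (β : F ≅ Formal.completion I F'), Coh.IsCoh F' ∧
      Formal2.KerCokerKilledByIPowHom I a ∧
      ∀ n : ℕ, Formal.modPowπ I (n + 1) F' ≫ β.inv.app (op n) ≫ α.app (op n) =
        a ≫ Formal.modPowπ I (n + 1) G := by
  obtain ⟨t0, ht0⟩ := hα
  have hker : ∀ n, Formal.KilledBy (I ^ (t0 + 1)) (kernel (α.app (op n))) := fun n => (ht0 n).1
  have hcok : ∀ n, Formal.KilledBy (I ^ (t0 + 1)) (cokernel (α.app (op n))) := fun n => (ht0 n).2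
  have hGf := Groth.Agent.S9536.isCohFormal_completion I G hG
  obtain ⟨c, c', D⟩ := Groth.Agent.H5.KerLoc.exists_arData I hF hGf α
  obtain ⟨s, hs⟩ : ∃ s : ℕ, s = max (t0 + 1) c := ⟨_, rfl⟩
  have hts : t0 + 1 ≤ s := hs ▸ le_max_left _ _
  have hcs : c ≤ s := hs ▸ le_max_right _ _
  obtain ⟨N₀, hN₀⟩ : ∃ N₀ : ℕ, N₀ = t0 + 1 + c' := ⟨_, rfl⟩
  -- the isomorphisms Φ_{n+1} ≅ Φ_n for n ≥ N₀
  have he : ∀ k : ℕ, ∃ e : H5.Ex.Φ I α s (N₀ + k + 1) ≅ H5.Ex.Φ I α s (N₀ + k),
      e.hom ≫ Φι I α s (N₀ + k) = Φι I α s (N₀ + k + 1) ≫ tP I α (Nat.le_succ (N₀ + k)) :=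
    fun k => exists_e I α s (N₀ + k)
      (Groth.Agent.H76.Ex_A.stab I α hG hF hcok s (N₀ + k) hts)
      (Groth.Agent.H5.ExD.mono_of_arData I α D hker s (N₀ + k) hcs (by omega))
  choose e he using he
  have hea : ∀ k, (e k).hom ≫ aΦ I α s (N₀ + k) = aΦ I α s (N₀ + k + 1) := by
    intro k
    unfold aΦ
    rw [← Category.assoc, he k, Category.assoc, tP_snd]
  have hep : ∀ k, (e k).hom ≫ pΦ I α s (N₀ + k) =
      pΦ I α s (N₀ + k + 1) ≫ F.map (homOfLE (Nat.le_succ (N₀ + k))).op := by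
    intro k
    unfold pΦ
    rw [← Category.assoc, he k, Category.assoc, tP_fst, Category.assoc]
  -- the chain of isomorphisms
  let E : ∀ k : ℕ, H5.Ex.Φ I α s (N₀ + k) ≅ H5.Ex.Φ I α s N₀ :=
    fun k => Nat.rec (motive := fun k => H5.Ex.Φ I α s (N₀ + k) ≅ H5.Ex.Φ I α s N₀)
      (Iso.refl _) (fun k Ek => e k ≪≫ Ek) k
  have hE0 : E 0 = Iso.refl _ := rfl
  have hES : ∀ k, E (k + 1) = e k ≪≫ E k := fun k => rfl
  have hEa : ∀ k, (E k).inv ≫ aΦ I α s (N₀ + k) = aΦ I α s N₀ := by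
    intro k
    induction k with
    | zero => rw [hE0]; exact Category.id_comp _
    | succ k ih =>
      rw [hES, Iso.trans_inv, Category.assoc]
      have : (e k).inv ≫ aΦ I α s (N₀ + (k + 1)) = aΦ I α s (N₀ + k) := by
        rw [Iso.inv_comp_eq]
        exact (hea k).symm
      rw [this, ih]
  let q : ∀ k : ℕ, H5.Ex.Φ I α s N₀ ⟶ F.obj (op (N₀ + k)) :=
    fun k => (E k).inv ≫ pΦ I α s (N₀ + k)
  have hq : ∀ k, q (k + 1) ≫ F.map (homOfLE (Nat.le_succ (N₀ + k))).op = q k := by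
    intro k
    change ((E (k + 1)).inv ≫ pΦ I α s (N₀ + (k + 1))) ≫ _ = (E k).inv ≫ pΦ I α s (N₀ + k)
    rw [hES, Iso.trans_inv, Category.assoc, Category.assoc]
    congr 1
    rw [Iso.inv_comp_eq]
    exact (hep k).symm
  have hcol : ∀ k, IsQuot (I ^ (N₀ + k + 1)) (q k) := by
    intro k
    exact isQuot_iso_comp (E k).symm (isQuot_pΦ I α hF s (N₀ + k)
      (Groth.Agent.H77.Ex_B.ker_p I α hG hF hcok s (N₀ + k) hts))
  obtain ⟨β, hβ⟩ := Groth.Agent.H77.Ex_E.exists_β I hF (H5.Ex.Φ I α s N₀) N₀ q hq hcol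
  refine ⟨H5.Ex.Φ I α s N₀, aΦ I α s N₀, β, isCoh_Φ I α hG hF s N₀, ⟨t0, ?_, ?_⟩, ?_⟩
  · exact ker_aΦ_killed I α s N₀ (hker N₀)
  · exact Groth.Agent.H1.Ex_C.coker_a I α hG hF hcok s N₀ hts
  · intro n
    have h3 : (q n ≫ F.map (homOfLE (Nat.le_add_left n N₀)).op) ≫ α.app (op n) =
        aΦ I α s N₀ ≫ πG I G n := by
      have h1 := α.naturality (homOfLE (Nat.le_add_left n N₀)).op
      rw [Category.assoc, h1]
      change ((E n).inv ≫ pΦ I α s (N₀ + n)) ≫ α.app (op (N₀ + n)) ≫ _ = _ ≫ πG I G n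
      have h2 : pΦ I α s (N₀ + n) ≫ α.app (op (N₀ + n)) =
          aΦ I α s (N₀ + n) ≫ πG I G (N₀ + n) := by
        unfold pΦ aΦ
        rw [Category.assoc, Category.assoc, condP]
      rw [Category.assoc, ← Category.assoc (pΦ I α s (N₀ + n)), h2, Category.assoc, πG_map,
        ← Category.assoc, hEa]
    exact (Category.assoc _ _ _).symm.trans ((congrArg (· ≫ α.app (op n)) (hβ n)).trans h3)

end Aux


open CategoryTheory CategoryTheory.Limits AlgebraicGeometry Opposite in
/-- Let A be a ring, I ⊆ A an ideal and X a Noetherian scheme over Spec A; inverse systems are indexed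
so that position n holds the quotient by I^(n+1). Let G be a coherent O_X-module, (F_n) a coherent
formal module for I (every F_n coherent and killed by I^(n+1), with transition maps inducing
isomorphisms F_{n+1}/I^(n+1)F_{n+1} ≅ F_n), and α : (F_n) → (G/I^(n+1)G) a map of inverse systems
such that one fixed power of I kills the kernel and the cokernel of every component α_n. Then there
are a coherent O_X-module F, a map a : F → G whose kernel and cokernel are killed by a power of I,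
and an isomorphism of systems β : (F_n) ≅ (F/I^(n+1)F) under which α becomes the map of systems
induced by a: for every n, the projection F → F/I^(n+1)F followed by β_n⁻¹ and then α_n equals a
followed by the projection G → G/I^(n+1)G. (The published statement also asserts uniqueness of (F,
a, β) and has a further part; only existence is stated here.) -/
theorem result (A : Type u) [CommRing A] (I : Ideal A) (X : Scheme.{u})
    [X.Over (Spec (CommRingCat.of A))] [IsNoetherian X] (G : X.Modules) (hG : Coh.IsCoh G)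
    (F : ℕᵒᵖ ⥤ X.Modules) (hF : Formal.IsCohFormal I F) (α : F ⟶ Formal.completion I G)
    (hα : Formal2.KerCokerKilledByIPow I α) :
    ∃ (F' : X.Modules) (a : F' ⟶ G) (β : F ≅ Formal.completion I F'), Coh.IsCoh F' ∧
      Formal2.KerCokerKilledByIPowHom I a ∧
      ∀ n : ℕ, Formal.modPowπ I (n + 1) F' ≫ β.inv.app (op n) ≫ α.app (op n) = a ≫ Formal.modPowπ I (n + 1) G := by
  exact main I α hG hF hα

end Groth.Agent.S0829
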