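import Groth.Statements.S0834
-- import your own Groth.Agent.* helpers here
import Groth.Agent.H5.KerDefs
import Groth.Agent.H5.KerLoc
import Groth.Agent.H5.KerCE
import Groth.Agent.H22.Ker_K1
import Groth.Agent.H22.Ker_K3
import Groth.Agent.H22.Ker_K4
import Groth.Agent.H2.Ker_K5

set_option autoImplicit false
universe u
open Formal2

namespace Groth.Agent.S0834

section Asm
open CategoryTheory CategoryTheory.Limits AlgebraicGeometry Opposite
open Groth.Agent.S9528 Groth.Agent.H5.Ker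

variable {A : Type u} [CommRing A] {X : Scheme.{u}} [X.Over (Spec (CommRingCat.of A))]
  (I : Ideal A)

/-- (K2) the re-indexed quotient of the image system is a coherent formal module. -/
theorem isCohFormal_K {F G : ℕᵒᵖ ⥤ X.Modules} {α : F ⟶ G} {c c' : ℕ} (D : ESys I α c c') :
    Formal.IsCohFormal I (Θobj I (sh c') (sh_mono c') D.E) := by
  refine ⟨fun m => Groth.Agent.S9536.isCoh_modPow I _ (D.coh (sh c' m)) (m + 1),
    fun m => Groth.Agent.S9536.killedBy_modPow I _ (m + 1), fun m => ?_⟩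
  have hq : IsQuot (I ^ (m + 1)) (θtrans I (sh c') (sh_mono c') D.E m) := by
    apply IsQuot.of_comp (θπ I (sh c') D.E (m + 1))
    rw [θπ_trans]
    exact Groth.Agent.H22.KerK1.isQuot_E I D (sh_mono c' (Nat.le_succ m)) (by unfold sh; omega)
  obtain ⟨h, ⟨hc⟩⟩ := hq
  have e : (Θobj I (sh c') (sh_mono c') D.E).map (homOfLE (Nat.le_succ m)).op =
      θtrans I (sh c') (sh_mono c') D.E m :=
    Θobj_map_succ I (sh c') (sh_mono c') D.E m
  have h' : Formal.smulFamily (I ^ (m + 1)) ((Θobj I (sh c') (sh_mono c') D.E).obj (op (m + 1))) ≫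
      (Θobj I (sh c') (sh_mono c') D.E).map (homOfLE (Nat.le_succ m)).op = 0 := by
    rw [e]; exact h
  refine ⟨h', Groth.Agent.S0835.isIso_desc_of_isColimit _ _ h' ?_⟩
  exact IsColimit.ofIsoColimit hc (Cofork.ext (Iso.refl _) (by
    change θtrans I (sh c') (sh_mono c') D.E m ≫ 𝟙 _ =
      (Θobj I (sh c') (sh_mono c') D.E).map (homOfLE (Nat.le_succ m)).op
    rw [Category.comp_id, e]))

/-- Functor-level universal property of the candidate kernel. -/
theorem exists_kernel_sys {F G : ℕᵒᵖ ⥤ X.Modules} (hF : Formal.IsCohFormal I F)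
    (α : F ⟶ G) {c c' : ℕ} (D : ESys I α c c') :
    ∃ (K : ℕᵒᵖ ⥤ X.Modules) (_ : Formal.IsCohFormal I K) (ιK : K ⟶ F), ιK ≫ α = 0 ∧
      ∀ (T : ℕᵒᵖ ⥤ X.Modules), Formal.IsCohFormal I T → ∀ β : T ⟶ F, β ≫ α = 0 →
        ∃ γ : T ⟶ K, γ ≫ ιK = β ∧ ∀ γ' : T ⟶ K, γ' ≫ ιK = β → γ' = γ := by
  obtain ⟨τF, hτF⟩ := Groth.Agent.H22.KerK3.exists_τ I hF c'
  let tF : ∀ n : ℕ, θobj I (sh c') F n ⟶ F.obj (op n) := fun n => τF.hom.app (op n)
  have htF : ∀ n : ℕ, θπ I (sh c') F n ≫ tF n = F.map (homOfLE (le_sh c' n)).op := hτF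
  let kK : ∀ n : ℕ, θobj I (sh c') D.E n ⟶ F.obj (op n) :=
    fun n => θmap I (sh c') D.ι n ≫ tF n
  have hkK : ∀ n : ℕ, θπ I (sh c') D.E n ≫ kK n =
      D.ι.app (op (sh c' n)) ≫ F.map (homOfLE (le_sh c' n)).op := by
    intro n
    change θπ I (sh c') D.E n ≫ θmap I (sh c') D.ι n ≫ tF n = _
    rw [← Category.assoc, θπ_map, Category.assoc, htF]
  have hιK_app : ∀ n : ℕ, θπ I (sh c') D.E n ≫
      (Θmap I (sh c') (sh_mono c') D.ι ≫ τF.hom).app (op n) =
      D.ι.app (op (sh c' n)) ≫ F.map (homOfLE (le_sh c' n)).op := hkK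
  refine ⟨Θobj I (sh c') (sh_mono c') D.E, isCohFormal_K I D,
    Θmap I (sh c') (sh_mono c') D.ι ≫ τF.hom, ?_, ?_⟩
  · apply NatTrans.ext
    funext ⟨n⟩
    change kK n ≫ α.app (op n) = 0
    rw [← cancel_epi (θπ I (sh c') D.E n), ← Category.assoc, hkK n, Category.assoc,
      α.naturality, ← Category.assoc, ← NatTrans.comp_app, D.zero, comp_zero]
    exact (congrArg (· ≫ G.map (homOfLE (le_sh c' n)).op)
      (show (0 : D.E ⟶ G).app (op (sh c' n)) = 0 from rfl)).trans zero_comp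
  · intro T hT β hβ
    obtain ⟨τT, hτT⟩ := Groth.Agent.H22.KerK3.exists_τ I hT c'
    let tT : ∀ n : ℕ, θobj I (sh c') T n ⟶ T.obj (op n) := fun n => τT.hom.app (op n)
    have htT : ∀ n : ℕ, θπ I (sh c') T n ≫ tT n = T.map (homOfLE (le_sh c' n)).op := hτT
    obtain ⟨β', hβ'⟩ := Groth.Agent.H22.KerK4.exists_lift I D hT β hβ
    have hnat : Θmap I (sh c') (sh_mono c') β ≫ τF.hom = τT.hom ≫ β := by
      apply NatTrans.ext
      funext ⟨n⟩
      change θmap I (sh c') β n ≫ tF n = tT n ≫ β.app (op n)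
      rw [← cancel_epi (θπ I (sh c') T n), ← Category.assoc, θπ_map, Category.assoc, htF,
        ← Category.assoc (θπ I (sh c') T n), htT]
      exact (β.naturality (homOfLE (le_sh c' n)).op).symm
    have hTepi : ∀ {n m : ℕ} (h : n ≤ m), Epi (T.map (homOfLE h).op) := fun h =>
      (isQuot_of_cohFormal I hT h).epi
    have h1 : Θmap I (sh c') (sh_mono c') β' ≫ Θmap I (sh c') (sh_mono c') D.ι =
        Θmap I (sh c') (sh_mono c') β := by
      rw [← hβ']
      exact ((Θ I (sh c') (sh_mono c')).map_comp β' D.ι).symm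
    have hfac : (τT.inv ≫ Θmap I (sh c') (sh_mono c') β') ≫
        (Θmap I (sh c') (sh_mono c') D.ι ≫ τF.hom) = β := by
      rw [Category.assoc, ← Category.assoc (Θmap I (sh c') (sh_mono c') β'), h1, hnat,
        ← Category.assoc, Iso.inv_hom_id, Category.id_comp]
    refine ⟨τT.inv ≫ Θmap I (sh c') (sh_mono c') β', hfac, ?_⟩
    intro γ' hγ'
    have h0 : γ' - (τT.inv ≫ Θmap I (sh c') (sh_mono c') β') = 0 := by
      apply Groth.Agent.H2.KerK5.eq_zero_of_comp_κ I D hTepi _ kK hkK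
      intro n
      have := congrArg (fun φ => φ.app (op n)) (hγ'.trans hfac.symm)
      have h2 : (γ' - (τT.inv ≫ Θmap I (sh c') (sh_mono c') β')) ≫
          (Θmap I (sh c') (sh_mono c') D.ι ≫ τF.hom) = 0 := by
        rw [Preadditive.sub_comp, hγ', hfac, sub_self]
      exact congrArg (fun φ => φ.app (op n)) h2
    exact sub_eq_zero.mp h0

/-- Kernels exist in `CohFormalCat`. -/
theorem hasKernel_aux [IsNoetherian X] (P Q : Formal2.CohFormalCat I X) (f : P ⟶ Q) :
    HasKernel f := by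
  obtain ⟨c, c', hAR⟩ := Groth.Agent.H5.KerLoc.exists_arData I P.property Q.property f.hom
  obtain ⟨D⟩ := Groth.Agent.H5.KerCE.exists_eSys I P.property Q.property f.hom hAR
  obtain ⟨K, hK, ιK, hz, huniv⟩ := exists_kernel_sys I P.property f.hom D
  let KK : Formal2.CohFormalCat I X := ⟨K, hK⟩
  let fk : KK ⟶ P := ObjectProperty.homMk ιK
  have hfk : fk ≫ f = 0 := by
    apply ObjectProperty.hom_ext
    exact hz
  have hex : ∀ {W' : Formal2.CohFormalCat I X} (g' : W' ⟶ P) (_ : g' ≫ f = 0),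
      ∃ γ : W' ⟶ KK, γ ≫ fk = g' ∧ ∀ γ' : W' ⟶ KK, γ' ≫ fk = g' → γ' = γ := by
    intro W' g' hg'
    have h0 : g'.hom ≫ f.hom = 0 := congrArg (fun φ => φ.hom) hg'
    obtain ⟨γ, hγ, hu⟩ := huniv W'.obj W'.property g'.hom h0
    refine ⟨ObjectProperty.homMk γ, ObjectProperty.hom_ext _ hγ, fun γ' hγ' => ?_⟩
    apply ObjectProperty.hom_ext
    exact hu γ'.hom (congrArg (fun φ => φ.hom) hγ')
  exact ⟨⟨⟨KernelFork.ofι fk hfk, KernelFork.IsLimit.ofι fk hfk
    (fun g' h' => (hex g' h').choose) (fun g' h' => (hex g' h').choose_spec.1)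
    (fun g' h' m hm => (hex g' h').choose_spec.2 m hm)⟩⟩⟩

end Asm

open CategoryTheory CategoryTheory.Limits AlgebraicGeometry in
/-- Let A be a ring, I ⊆ A an ideal and X a Noetherian scheme over Spec A. Then the full subcategory of
inverse systems of 𝒪_X-modules formed by the coherent formal modules for the ideal sheaf I·𝒪_X has
kernels. (This is the kernel half of the statement that this category is abelian; cokernels are
componentwise, and abelianness itself is not asserted here.) -/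
theorem result (A : Type u) [CommRing A] (I : Ideal A) (X : Scheme.{u})
    [X.Over (Spec (CommRingCat.of A))] [IsNoetherian X] : HasKernels (Formal2.CohFormalCat I X) := by
  exact ⟨fun {P Q} f => hasKernel_aux I P Q f⟩

end Groth.Agent.S0834
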