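import Groth.Statements.S0841
-- import your own Groth.Agent.* helpers here
import Groth.Agent.S9553
import Groth.Agent.S9535
import Groth.Agent.S9533
import Groth.Agent.S2269

set_option autoImplicit false
universe u
open Formal2

namespace Groth.Agent.S0841

section Alg

variable {A : Type u} [CommRing A]

/-- A map between localisations at `f` induced by an injective map which is surjective up to powers
of `f` is bijective. -/
theorem bijective_of_cof (f : A) {N H N' H' : Type u} [AddCommGroup N] [Module A N]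
    [AddCommGroup H] [Module A H] [AddCommGroup N'] [Module A N'] [AddCommGroup H'] [Module A H']
    (a : N →ₗ[A] N') (b : H →ₗ[A] H') [IsLocalizedModule (.powers f) a]
    [IsLocalizedModule (.powers f) b] (ι : N →ₗ[A] H) (hι : Function.Injective ι)
    (hcof : ∀ y : H, ∃ k : ℕ, f ^ k • y ∈ LinearMap.range ι)
    (φ' : N' →ₗ[A] H') (hφ : ∀ s, φ' (a s) = b (ι s)) : Function.Bijective φ' := by
  have hinjN : ∀ (k : ℕ) (x y : N'), f ^ k • x = f ^ k • y → x = y := fun k x y h =>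
    IsLocalizedModule.smul_injective a (⟨f ^ k, k, rfl⟩ : Submonoid.powers f) h
  have hinjH : ∀ (k : ℕ) (x y : H'), f ^ k • x = f ^ k • y → x = y := fun k x y h =>
    IsLocalizedModule.smul_injective b (⟨f ^ k, k, rfl⟩ : Submonoid.powers f) h
  constructor
  · rw [injective_iff_map_eq_zero]
    intro x hx
    obtain ⟨⟨s, t⟩, hs⟩ := IsLocalizedModule.surj (.powers f) a x
    obtain ⟨k, hk⟩ := t.2
    have hs' : f ^ k • x = a s := (congrArg (fun r : A => r • x) hk).trans hs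
    have h1 : b (ι s) = 0 := by
      rw [← hφ, ← hs', map_smul, hx, smul_zero]
    obtain ⟨t', ht'⟩ := (IsLocalizedModule.eq_zero_iff (.powers f) b).1 h1
    obtain ⟨k', hk'⟩ := t'.2
    have h2 : f ^ k' • ι s = 0 := (congrArg (fun r : A => r • ι s) hk').trans ht'
    have h3 : f ^ k' • s = 0 := hι (by rw [map_smul, h2, map_zero])
    apply hinjN (k' + k) x 0
    rw [smul_zero, pow_add, mul_smul, hs', ← map_smul, h3, map_zero]
  · intro y
    obtain ⟨⟨h, t⟩, hs⟩ := IsLocalizedModule.surj (.powers f) b y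
    obtain ⟨k, hk⟩ := t.2
    have hs' : f ^ k • y = b h := (congrArg (fun r : A => r • y) hk).trans hs
    obtain ⟨k', s, hs2⟩ := hcof h
    have hu := IsLocalizedModule.map_units a (⟨f ^ (k' + k), k' + k, rfl⟩ : Submonoid.powers f)
    rw [Module.End.isUnit_iff] at hu
    obtain ⟨x, hx⟩ := hu.2 (a s)
    have hx' : f ^ (k' + k) • x = a s := hx
    refine ⟨x, hinjH (k' + k) _ _ ?_⟩
    rw [← map_smul, hx', hφ, hs2, map_smul, pow_add, mul_smul, hs']

/-- Cofinality of a submodule with respect to an ideal. -/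
def Cof (𝔞 : Ideal A) {H : Type u} [AddCommGroup H] [Module A H] (N : Submodule A H) : Prop :=
  ∀ y : H, ∀ f ∈ 𝔞, ∃ k : ℕ, f ^ k • y ∈ N

theorem exists_pow_of_forall {𝔞 : Ideal A} (h𝔞 : 𝔞.FG) {H : Type u} [AddCommGroup H] [Module A H]
    (N : Submodule A H) (y : H) (h : ∀ f ∈ 𝔞, ∃ k : ℕ, f ^ k • y ∈ N) :
    ∃ m : ℕ, ∀ a ∈ 𝔞 ^ m, a • y ∈ N := by
  let J : Ideal A := Submodule.comap (LinearMap.toSpanSingleton A H y) N
  have hJ : ∀ a : A, a ∈ J ↔ a • y ∈ N := fun a => Iff.rfl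
  have hle : 𝔞 ≤ J.radical := by
    intro f hf
    obtain ⟨k, hk⟩ := h f hf
    exact ⟨k, (hJ _).2 hk⟩
  obtain ⟨m, hm⟩ := Ideal.exists_pow_le_of_le_radical_of_fg hle h𝔞
  exact ⟨m, fun a ha => (hJ a).1 (hm ha)⟩

theorem Cof.comap {𝔞 : Ideal A} {H H' : Type u} [AddCommGroup H] [Module A H] [AddCommGroup H']
    [Module A H'] {N : Submodule A H} (hN : Cof 𝔞 N) (t : H' →ₗ[A] H) : Cof 𝔞 (N.comap t) := by
  intro x f hf
  obtain ⟨k, hk⟩ := hN (t x) f hf
  refine ⟨k, ?_⟩
  rw [Submodule.mem_comap, map_smul]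
  exact hk

theorem exists_fg_le {𝔞 : Ideal A} (h𝔞 : 𝔞.FG) {H : Type u} [AddCommGroup H] [Module A H]
    {N₀ N : Submodule A H} (h0 : N₀.FG) (hN₀ : Cof 𝔞 N₀) (hN : Cof 𝔞 N) :
    ∃ N₁ : Submodule A H, N₁ ≤ N ∧ N₁.FG ∧ Cof 𝔞 N₁ := by
  classical
  obtain ⟨S, hS⟩ := h0
  have hex : ∀ s : H, ∃ m : ℕ, ∀ a ∈ 𝔞 ^ m, a • s ∈ N := fun s =>
    exists_pow_of_forall h𝔞 N s (fun f hf => hN s f hf)
  choose ms hms using hex
  let m := S.sup ms
  have hm : ∀ a ∈ 𝔞 ^ m, ∀ n ∈ N₀, a • n ∈ N := by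
    intro a ha n hn
    rw [← hS] at hn
    induction hn using Submodule.span_induction with
    | mem x hx =>
      exact hms x a (Ideal.pow_le_pow_right (Finset.le_sup (f := ms) hx) ha)
    | zero => rw [smul_zero]; exact N.zero_mem
    | add x y _ _ hx hy => rw [smul_add]; exact N.add_mem hx hy
    | smul r x _ hx => rw [smul_comm]; exact N.smul_mem r hx
  refine ⟨𝔞 ^ m • N₀, Submodule.smul_le.2 hm, Submodule.FG.smul (h𝔞.pow) ⟨S, hS⟩, ?_⟩
  intro y f hf
  obtain ⟨k, hk⟩ := hN₀ y f hf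
  refine ⟨m + k, ?_⟩
  rw [pow_add, mul_smul]
  exact Submodule.smul_mem_smul (Ideal.pow_mem_pow hf m) hk

end Alg

section Loc

variable {A : Type u} [CommRing A] (f : A) {H1 H2 L1 L2 : Type u} [AddCommGroup H1] [Module A H1]
  [AddCommGroup H2] [Module A H2] [AddCommGroup L1] [Module A L1] [AddCommGroup L2] [Module A L2]
  (t : H1 →ₗ[A] H2) (T : L1 →ₗ[A] L2) (r1 : H1 →ₗ[A] L1) (r2 : H2 →ₗ[A] L2)

theorem loc_coker [IsLocalizedModule (.powers f) r1] [IsLocalizedModule (.powers f) r2]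
    (hnat : ∀ x, T (r1 x) = r2 (t x)) (hT : Function.Surjective T) (y : H2) :
    ∃ k : ℕ, f ^ k • y ∈ LinearMap.range t := by
  obtain ⟨x', hx'⟩ := hT (r2 y)
  obtain ⟨⟨x, s⟩, hs⟩ := IsLocalizedModule.surj (.powers f) r1 x'
  obtain ⟨k, hk⟩ := s.2
  have hs' : f ^ k • x' = r1 x := (congrArg (fun r : A => r • x') hk).trans hs
  have h1 : r2 (t x - f ^ k • y) = 0 := by
    rw [map_sub, ← hnat, ← hs', map_smul, hx', map_smul, sub_self]
  obtain ⟨s', hs2⟩ := (IsLocalizedModule.eq_zero_iff (.powers f) r2).1 h1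
  obtain ⟨k', hk'⟩ := s'.2
  have h2 : f ^ k' • (t x - f ^ k • y) = 0 :=
    (congrArg (fun r : A => r • (t x - f ^ k • y)) hk').trans hs2
  refine ⟨k' + k, f ^ k' • x, ?_⟩
  rw [smul_sub, sub_eq_zero] at h2
  rw [map_smul, h2, pow_add, mul_smul]

theorem loc_ker [IsLocalizedModule (.powers f) r1] (J : Ideal A)
    (hnat : ∀ x, T (r1 x) = r2 (t x))
    (hT : ∀ z, T z = 0 → z ∈ J • (⊤ : Submodule A L1)) (x : H1) (hx : t x = 0) :
    ∃ k : ℕ, f ^ k • x ∈ J • (⊤ : Submodule A H1) := by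
  have h0 : r1 x ∈ J • (⊤ : Submodule A L1) := hT _ (by rw [hnat, hx, map_zero])
  have key : ∀ z ∈ J • (⊤ : Submodule A L1), ∃ (k : ℕ) (v : H1),
      v ∈ J • (⊤ : Submodule A H1) ∧ f ^ k • z = r1 v := by
    intro z hz
    refine Submodule.smul_induction_on hz (fun c hc w _ => ?_) (fun z₁ z₂ h₁ h₂ => ?_)
    · obtain ⟨⟨v, s⟩, hs⟩ := IsLocalizedModule.surj (.powers f) r1 w
      obtain ⟨k, hk⟩ := s.2
      have hs' : f ^ k • w = r1 v := (congrArg (fun r : A => r • w) hk).trans hs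
      refine ⟨k, c • v, Submodule.smul_mem_smul hc Submodule.mem_top, ?_⟩
      rw [smul_comm, hs', map_smul]
    · obtain ⟨k₁, v₁, hv₁, e₁⟩ := h₁
      obtain ⟨k₂, v₂, hv₂, e₂⟩ := h₂
      refine ⟨k₁ + k₂, f ^ k₂ • v₁ + f ^ k₁ • v₂,
        Submodule.add_mem _ (Submodule.smul_mem _ _ hv₁) (Submodule.smul_mem _ _ hv₂), ?_⟩
      rw [smul_add, map_add, map_smul, map_smul, ← e₁, ← e₂, ← mul_smul, ← mul_smul, ← pow_add,
        ← pow_add, add_comm k₂ k₁]
  obtain ⟨k, v, hv, e⟩ := key _ h0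
  have h1 : r1 (f ^ k • x - v) = 0 := by rw [map_sub, map_smul, e, sub_self]
  obtain ⟨s', hs2⟩ := (IsLocalizedModule.eq_zero_iff (.powers f) r1).1 h1
  obtain ⟨k', hk'⟩ := s'.2
  have h2 : f ^ k' • (f ^ k • x - v) = 0 :=
    (congrArg (fun r : A => r • (f ^ k • x - v)) hk').trans hs2
  refine ⟨k' + k, ?_⟩
  rw [smul_sub, sub_eq_zero] at h2
  rw [pow_add, mul_smul, h2]
  exact Submodule.smul_mem _ _ hv

end Loc

section Seq

variable {A : Type u} [CommRing A] {H : ℕ → Type u} [∀ n, AddCommGroup (H n)]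
  [∀ n, Module A (H n)] (t : ∀ n, H (n + 1) →ₗ[A] H n) (𝔞 : Ideal A)

theorem exists_seq (h𝔞 : 𝔞.FG) (h0 : ∀ n, ∃ N₀ : Submodule A (H n), N₀.FG ∧ Cof 𝔞 N₀) :
    ∃ N : ∀ n, Submodule A (H n), (∀ n, (N n).FG) ∧ (∀ n, Cof 𝔞 (N n)) ∧
      ∀ n, N (n + 1) ≤ (N n).comap (t n) := by
  classical
  let P : ℕ → Type u := fun n => {N : Submodule A (H n) // N.FG ∧ Cof 𝔞 N}
  have step : ∀ n (N : P n), ∃ N' : P (n + 1), N'.1 ≤ N.1.comap (t n) := by
    intro n N
    obtain ⟨N₀, h1, h2⟩ := h0 (n + 1)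
    obtain ⟨N₁, h3, h4, h5⟩ := exists_fg_le h𝔞 h1 h2 (N.2.2.comap (t n))
    exact ⟨⟨N₁, h4, h5⟩, h3⟩
  let seq : ∀ n, P n := fun n => Nat.rec (motive := P)
    ⟨(h0 0).choose, (h0 0).choose_spec⟩ (fun n N => (step n N).choose) n
  refine ⟨fun n => (seq n).1, fun n => (seq n).2.1, fun n => (seq n).2.2, fun n => ?_⟩
  exact (step n (seq n)).choose_spec

variable (I : Ideal A)

theorem alg_main (h𝔞 : 𝔞.FG) (h0 : ∀ n, ∃ N₀ : Submodule A (H n), N₀.FG ∧ Cof 𝔞 N₀)
    (hkill : ∀ n, ∀ r ∈ I ^ (n + 1), ∀ x : H n, r • x = 0)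
    (hker : ∀ n (x : H (n + 1)), t n x = 0 → ∀ f ∈ 𝔞, ∃ k : ℕ,
      f ^ k • x ∈ I ^ (n + 1) • (⊤ : Submodule A (H (n + 1))))
    (hcoker : ∀ n (y : H n), ∀ f ∈ 𝔞, ∃ k : ℕ, f ^ k • y ∈ LinearMap.range (t n)) :
    ∃ (N : ∀ n, Submodule A (H n)) (hN : ∀ n, ∀ x ∈ N (n + 1), t n x ∈ N n),
      (∀ n, Cof 𝔞 (N n)) ∧
      (∀ n, Module.Finite A (N n)) ∧ (∀ n, I ^ (n + 1) • (⊤ : Submodule A (N n)) = ⊥) ∧
      (∀ n (x : N (n + 1)), (t n).restrict (hN n) x = 0 →
        ∃ m : ℕ, ∀ a ∈ 𝔞 ^ m, a • x ∈ I ^ (n + 1) • (⊤ : Submodule A (N (n + 1)))) ∧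
      (∀ n (y : N n), ∃ m : ℕ, ∀ a ∈ 𝔞 ^ m, a • y ∈ LinearMap.range ((t n).restrict (hN n))) := by
  obtain ⟨N, hfg, hcof, hle⟩ := exists_seq t 𝔞 h𝔞 h0
  refine ⟨N, fun n x hx => hle n hx, hcof, fun n => Module.Finite.iff_fg.2 (hfg n), fun n => ?_,
    fun n x hx => ?_, fun n y => ?_⟩
  · rw [eq_bot_iff]
    refine Submodule.smul_le.2 (fun r hr x _ => ?_)
    rw [Submodule.mem_bot]
    exact Subtype.ext (hkill n r hr x.1)
  · refine exists_pow_of_forall h𝔞 _ x (fun f hf => ?_)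
    have hx' : t n x.1 = 0 := congrArg Subtype.val hx
    obtain ⟨k, hk⟩ := hker n x.1 hx' f hf
    -- move from `I^(n+1) • ⊤ ⊆ H` to `I^(n+1) • ⊤ ⊆ N`
    have key : ∀ z ∈ I ^ (n + 1) • (⊤ : Submodule A (H (n + 1))), ∃ m : ℕ, ∃ hz : f ^ m • z ∈ N (n + 1),
        (⟨f ^ m • z, hz⟩ : N (n + 1)) ∈ I ^ (n + 1) • (⊤ : Submodule A (N (n + 1))) := by
      intro z hz
      refine Submodule.smul_induction_on hz (fun r hr h _ => ?_) (fun z₁ z₂ h₁ h₂ => ?_)
      · obtain ⟨m, hm⟩ := hcof (n + 1) h f hf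
        refine ⟨m, ?_, ?_⟩
        · rw [smul_comm]; exact (N (n + 1)).smul_mem r hm
        · have : (⟨f ^ m • r • h, by rw [smul_comm]; exact (N (n + 1)).smul_mem r hm⟩ : N (n + 1)) =
              r • (⟨f ^ m • h, hm⟩ : N (n + 1)) := Subtype.ext (smul_comm _ _ _)
          rw [this]
          exact Submodule.smul_mem_smul hr Submodule.mem_top
      · obtain ⟨m₁, hz₁, hm₁⟩ := h₁
        obtain ⟨m₂, hz₂, hm₂⟩ := h₂
        have e1 : f ^ (m₁ + m₂) • z₁ = f ^ m₂ • (f ^ m₁ • z₁) := by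
          rw [← mul_smul, ← pow_add, add_comm m₂ m₁]
        have e2 : f ^ (m₁ + m₂) • z₂ = f ^ m₁ • (f ^ m₂ • z₂) := by
          rw [← mul_smul, ← pow_add]
        have hmem : f ^ (m₁ + m₂) • (z₁ + z₂) ∈ N (n + 1) := by
          rw [smul_add, e1, e2]
          exact (N (n + 1)).add_mem ((N (n + 1)).smul_mem _ hz₁) ((N (n + 1)).smul_mem _ hz₂)
        refine ⟨m₁ + m₂, hmem, ?_⟩
        have : (⟨f ^ (m₁ + m₂) • (z₁ + z₂), hmem⟩ : N (n + 1)) =
            f ^ m₂ • (⟨f ^ m₁ • z₁, hz₁⟩ : N (n + 1)) + f ^ m₁ • (⟨f ^ m₂ • z₂, hz₂⟩ : N (n + 1)) := by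
          apply Subtype.ext
          change f ^ (m₁ + m₂) • (z₁ + z₂) = f ^ m₂ • (f ^ m₁ • z₁) + f ^ m₁ • (f ^ m₂ • z₂)
          rw [smul_add, e1, e2]
        rw [this]
        exact Submodule.add_mem _ (Submodule.smul_mem _ _ hm₁) (Submodule.smul_mem _ _ hm₂)
    obtain ⟨m, hz, hm⟩ := key _ hk
    refine ⟨m + k, ?_⟩
    have : (f ^ (m + k) • x : N (n + 1)) = ⟨f ^ m • (f ^ k • x.1), hz⟩ := by
      apply Subtype.ext
      change f ^ (m + k) • x.1 = f ^ m • (f ^ k • x.1)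
      rw [pow_add, mul_smul]
    rw [this]
    exact hm
  · refine exists_pow_of_forall h𝔞 _ y (fun f hf => ?_)
    obtain ⟨k, x, hx⟩ := hcoker n y.1 f hf
    obtain ⟨k', hk'⟩ := hcof (n + 1) x f hf
    refine ⟨k' + k, ⟨f ^ k' • x, hk'⟩, ?_⟩
    apply Subtype.ext
    change t n (f ^ k' • x) = f ^ (k' + k) • y.1
    rw [map_smul, hx, pow_add, mul_smul]

end Seq

section Geo
open CategoryTheory CategoryTheory.Limits AlgebraicGeometry Opposite
open Groth.Agent.S9553 (Sec appL)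

variable (A : Type u) [CommRing A]

attribute [local instance] Groth.Agent.S9535.ovr

/-- Restriction from global sections to an open, as an `A`-linear map. -/
noncomputable abbrev resL (J : (Spec (CommRingCat.of A)).Modules)
    (V : (Spec (CommRingCat.of A)).Opens) :
    ((moduleSpecΓFunctor (R := CommRingCat.of A)).obj J) →ₗ[A] (Sec J V) :=
  ((modulesSpecToSheaf.obj J).obj.map V.leTop.op).hom

/-- Restriction from global sections to `D(f)` is a localisation, for quasi-coherent modules. -/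
theorem isLocalizedModule_res (J : (Spec (CommRingCat.of A)).Modules) [J.IsQuasicoherent] (f : A) :
    IsLocalizedModule (.powers f) (resL A J (PrimeSpectrum.basicOpen f)) :=
  (isIso_fromTildeΓ_iff_isLocalizing J).1
    (Scheme.Modules.isIso_fromTildeΓ_of_isQuasicoherent J) f

variable (U : (Spec (CommRingCat.of A)).Opens)

/-- The `A`-module structure on sections of a pushforward from `U`. -/
theorem smul_push (N : (U : Scheme.{u}).Modules) (V : (Spec (CommRingCat.of A)).Opens) (a : A)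
    (x : Sec ((Scheme.Modules.pushforward U.ι).obj N) V) :
    a • x = (show Sec ((Scheme.Modules.pushforward U.ι).obj N) V from
      (Groth.Agent.S0852.ρ (A := A) (U.ι ⁻¹ᵁ V) a • (show Γ(N, U.ι ⁻¹ᵁ V) from x))) := by
  have h1 : a • x = (Formal.smulMod A ((Scheme.Modules.pushforward U.ι).obj N) a).app V x :=
    Scheme.Modules.smul_Spec_def (R := CommRingCat.of A)
      (M := (Scheme.Modules.pushforward U.ι).obj N) (U := V) a x
  rw [h1, ← Groth.Agent.S9534.pushforward_map_smulMod U.ι (Category.comp_id _) N a]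
  rfl

theorem image_preimage_of_le {V : (Spec (CommRingCat.of A)).Opens} (hVU : V ≤ U) :
    U.ι ''ᵁ (U.ι ⁻¹ᵁ V) = V := by
  rw [Scheme.Hom.image_preimage_eq_opensRange_inf, Scheme.Opens.opensRange_ι]
  exact inf_eq_right.2 hVU

theorem isAffineOpen_preimage {V : (Spec (CommRingCat.of A)).Opens} (hV : IsAffineOpen V)
    (hVU : V ≤ U) : IsAffineOpen (U.ι ⁻¹ᵁ V) := by
  refine (U.ι.isAffineOpen_iff_of_isOpenImmersion).mp ?_
  rw [image_preimage_of_le A U hVU]
  exact hV

theorem isAffineOpen_basicOpen' (f : A) :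
    IsAffineOpen (X := Spec (CommRingCat.of A)) (PrimeSpectrum.basicOpen f) := by
  rw [← basicOpen_eq_of_affine (R := CommRingCat.of A) f]
  exact (isAffineOpen_top _).basicOpen _

theorem basicOpen_le_punctured (𝔞 : Ideal A) (f : A) (hf : f ∈ 𝔞) :
    (PrimeSpectrum.basicOpen f : (Spec (CommRingCat.of A)).Opens) ≤ LocCoh.puncturedOpen A 𝔞 := by
  intro p hp
  change p ∈ (PrimeSpectrum.zeroLocus (R := A) (𝔞 : Set A))ᶜ
  intro hp'
  exact hp (hp' hf)

section Sys

variable {A} {U} [IsNoetherianRing A] (I : Ideal A) (F : ℕᵒᵖ ⥤ (U : Scheme.{u}).Modules)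

/-- The direct images of the terms of the system. -/
noncomputable abbrev Jn (n : ℕ) : (Spec (CommRingCat.of A)).Modules :=
  (Scheme.Modules.pushforward U.ι).obj (F.obj (op n))

/-- The transition maps of the direct images. -/
noncomputable abbrev τn (n : ℕ) : Jn F (n + 1) ⟶ Jn F n :=
  (Scheme.Modules.pushforward U.ι).map (F.map (homOfLE (Nat.le_succ n)).op)

/-- The modules of global sections. -/
noncomputable abbrev Hn (n : ℕ) : ModuleCat.{u} A :=
  (moduleSpecΓFunctor (R := CommRingCat.of A)).obj (Jn F n)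

/-- The transition maps on global sections. -/
noncomputable abbrev tn (n : ℕ) : Hn F (n + 1) →ₗ[A] Hn F n :=
  ((moduleSpecΓFunctor (R := CommRingCat.of A)).map (τn F n)).hom

/-- Restriction of global sections to an open. -/
noncomputable abbrev rn (n : ℕ) (V : (Spec (CommRingCat.of A)).Opens) :
    Hn F n →ₗ[A] Sec (Jn F n) V :=
  ((modulesSpecToSheaf.obj (Jn F n)).obj.map V.leTop.op).hom

/-- The transition maps on sections over an open. -/
noncomputable abbrev Tn (n : ℕ) (V : (Spec (CommRingCat.of A)).Opens) :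
    Sec (Jn F (n + 1)) V →ₗ[A] Sec (Jn F n) V :=
  (appL (τn F n) V).hom

theorem Tn_rn (n : ℕ) (V : (Spec (CommRingCat.of A)).Opens) (x : Hn F (n + 1)) :
    Tn F n V (rn F (n + 1) V x) = rn F n V (tn F n x) := by
  have h := congrArg (fun ψ => ψ.hom x)
    ((modulesSpecToSheaf.map (τn F n)).1.naturality V.leTop.op)
  exact h

variable {I F}

theorem isQC (hG : Formal2.IsQCohFormal I F) (n : ℕ) : (Jn F n).IsQuasicoherent := by
  haveI : (F.obj (op n)).IsQuasicoherent := hG.1 n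
  exact Groth.Agent.H8.isQuasicoherent_pushforward U.ι (F.obj (op n))

theorem hkill (hG : Formal2.IsQCohFormal I F) (n : ℕ) (r : A) (hr : r ∈ I ^ (n + 1))
    (x : Hn F n) : r • x = 0 := by
  have h1 := smul_push A U (F.obj (op n)) ⊤ r x
  have h2 := Groth.Agent.S0852.T_kill hG (U.ι ⁻¹ᵁ ⊤) n r hr (show Γ(F.obj (op n), U.ι ⁻¹ᵁ ⊤) from x)
  exact h1.trans h2

theorem Tn_surjective (hG : Formal2.IsQCohFormal I F) (n : ℕ)
    {V : (Spec (CommRingCat.of A)).Opens} (hV : IsAffineOpen V) (hVU : V ≤ U) :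
    Function.Surjective (Tn F n V) := by
  intro y
  obtain ⟨x, hx⟩ := Groth.Agent.S0852.T_surjective hG (isAffineOpen_preimage A U hV hVU) n
    (show Γ(F.obj (op n), U.ι ⁻¹ᵁ V) from y)
  exact ⟨x, hx⟩

theorem hcoker (hG : Formal2.IsQCohFormal I F) (n : ℕ) (f : A)
    (hfU : (PrimeSpectrum.basicOpen f : (Spec (CommRingCat.of A)).Opens) ≤ U) (y : Hn F n) :
    ∃ k : ℕ, f ^ k • y ∈ LinearMap.range (tn F n) := by
  haveI := isQC hG n
  haveI := isQC hG (n + 1)
  haveI : IsLocalizedModule (.powers f) (rn F n (PrimeSpectrum.basicOpen f)) :=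
    isLocalizedModule_res A (Jn F n) f
  haveI : IsLocalizedModule (.powers f) (rn F (n + 1) (PrimeSpectrum.basicOpen f)) :=
    isLocalizedModule_res A (Jn F (n + 1)) f
  exact loc_coker f (tn F n) (Tn F n (PrimeSpectrum.basicOpen f))
    (rn F (n + 1) (PrimeSpectrum.basicOpen f)) (rn F n (PrimeSpectrum.basicOpen f))
    (Tn_rn F n _) (Tn_surjective hG n (isAffineOpen_basicOpen' A f) hfU) y

theorem mem_smul_top_congr {M : Type u} [AddCommGroup M] (m1 m2 : Module A M) (h : m1 = m2)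
    (J : Ideal A) (z : M)
    (hz : z ∈ @HSMul.hSMul (Ideal A) (@Submodule A M _ _ m1) (@Submodule A M _ _ m1) _ J
      (⊤ : @Submodule A M _ _ m1)) :
    z ∈ @HSMul.hSMul (Ideal A) (@Submodule A M _ _ m2) (@Submodule A M _ _ m2) _ J
      (⊤ : @Submodule A M _ _ m2) := by
  subst h
  exact hz

theorem Tn_ker (hI : I.FG) (hG : Formal2.IsQCohFormal I F) (n : ℕ)
    {V : (Spec (CommRingCat.of A)).Opens} (hV : IsAffineOpen V) (hVU : V ≤ U)
    (z : Sec (Jn F (n + 1)) V) (hz : Tn F n V z = 0) :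
    z ∈ I ^ (n + 1) • (⊤ : Submodule A (Sec (Jn F (n + 1)) V)) := by
  have h1 := Groth.Agent.S0852.T_ker hI hG (isAffineOpen_preimage A U hV hVU) n
    (show Γ(F.obj (op (n + 1)), U.ι ⁻¹ᵁ V) from z) hz
  have h2 : (Groth.Agent.S0852.secMod (A := A) (F.obj (op (n + 1))) (U.ι ⁻¹ᵁ V)) =
      (show Module A (Sec (Jn F (n + 1)) V) from inferInstance) :=
    Module.ext' _ _ (fun r m => (smul_push A U (F.obj (op (n + 1))) V r m).symm)
  exact mem_smul_top_congr _ _ h2 _ z h1

theorem hker (hI : I.FG) (hG : Formal2.IsQCohFormal I F) (n : ℕ) (f : A)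
    (hfU : (PrimeSpectrum.basicOpen f : (Spec (CommRingCat.of A)).Opens) ≤ U) (x : Hn F (n + 1))
    (hx : tn F n x = 0) :
    ∃ k : ℕ, f ^ k • x ∈ I ^ (n + 1) • (⊤ : Submodule A (Hn F (n + 1))) := by
  haveI := isQC hG (n + 1)
  haveI : IsLocalizedModule (.powers f) (rn F (n + 1) (PrimeSpectrum.basicOpen f)) :=
    isLocalizedModule_res A (Jn F (n + 1)) f
  exact loc_ker f (tn F n) (Tn F n (PrimeSpectrum.basicOpen f))
    (rn F (n + 1) (PrimeSpectrum.basicOpen f)) (rn F n (PrimeSpectrum.basicOpen f)) (I ^ (n + 1))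
    (Tn_rn F n _) (Tn_ker hI hG n (isAffineOpen_basicOpen' A f) hfU) x hx

end Sys

section Iso

open Groth.Agent.S9553 (toOpen_map adjoint_toOpen)

variable {A}

theorem bijective_app_basicOpen {R : CommRingCat.{u}} {N H : ModuleCat.{u} R} (ℓ : N ⟶ H)
    (hinj : Function.Injective ℓ.hom) (f : R)
    (hcof : ∀ y : H, ∃ k : ℕ, f ^ k • y ∈ LinearMap.range ℓ.hom) :
    Function.Bijective ((tilde.map ℓ).app (PrimeSpectrum.basicOpen f)) := by
  have h := bijective_of_cof f
    (tilde.toOpen N (PrimeSpectrum.basicOpen f)).hom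
    (tilde.toOpen H (PrimeSpectrum.basicOpen f)).hom ℓ.hom hinj hcof
    (appL (tilde.map ℓ) (PrimeSpectrum.basicOpen f)).hom
    (fun s => toOpen_map ℓ (PrimeSpectrum.basicOpen f) s)
  exact h

theorem isIso_restrict_tilde_map (𝔞 : Ideal A) {N H : ModuleCat.{u} A} (ℓ : N ⟶ H)
    (hinj : Function.Injective ℓ.hom)
    (hcof : ∀ y : H, ∀ f ∈ 𝔞, ∃ k : ℕ, f ^ k • y ∈ LinearMap.range ℓ.hom) :
    IsIso ((Scheme.Modules.restrictFunctor (LocCoh.puncturedOpen A 𝔞).ι).map
      (tilde.map (R := CommRingCat.of A) ℓ)) := by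
  set U := LocCoh.puncturedOpen A 𝔞 with hU
  haveI : ((tilde (R := CommRingCat.of A) N).restrict U.ι).IsQuasicoherent :=
    Scheme.Modules.isQuasicoherent_restrictFunctor U.ι (tilde N)
  haveI : ((tilde (R := CommRingCat.of A) H).restrict U.ι).IsQuasicoherent :=
    Scheme.Modules.isQuasicoherent_restrictFunctor U.ι (tilde H)
  refine Groth.Agent.H8.isIso_of_bijective_affine_cover _
    (fun f : ↥𝔞 => U.ι ⁻¹ᵁ (PrimeSpectrum.basicOpen (f : A) : (Spec (CommRingCat.of A)).Opens))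
    ?_ (fun f => isAffineOpen_preimage A U (isAffineOpen_basicOpen' A f)
      (basicOpen_le_punctured A 𝔞 f f.2)) (fun f => ?_)
  · refine TopologicalSpace.IsOpenCover.mk (eq_top_iff.2 (fun x _ => ?_))
    have hx : x.1 ∈ U := x.2
    have hx' : ¬ ((𝔞 : Set A) ⊆ x.1.asIdeal) := fun h => hx h
    obtain ⟨f, hf, hfx⟩ := Set.not_subset.1 hx'
    exact TopologicalSpace.Opens.mem_iSup.2 ⟨⟨f, hf⟩, hfx⟩
  · have key : ∀ V' : (Spec (CommRingCat.of A)).Opens, V' = PrimeSpectrum.basicOpen (f : A) →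
        Function.Bijective ((tilde.map (R := CommRingCat.of A) ℓ).app V') := by
      rintro _ rfl
      exact bijective_app_basicOpen (R := CommRingCat.of A) ℓ hinj f (fun y => hcof y f f.2)
    exact key _ (image_preimage_of_le A U (basicOpen_le_punctured A 𝔞 f f.2))

end Iso

section Fin

open Groth.Agent.S9553 (toOpen_map adjoint_toOpen)

variable {A} [IsNoetherianRing A]

theorem isLocalizedModule_toOpen {R : CommRingCat.{u}} (M : ModuleCat.{u} R) (f : R) :
    IsLocalizedModule (.powers f) (tilde.toOpen M (PrimeSpectrum.basicOpen f)).hom :=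
  inferInstance

theorem isIso_map_of_eq {X : Scheme.{u}} (M : X.Modules) {V V' : X.Opens} (h : V' = V)
    (i : V' ⟶ V) : IsIso (M.presheaf.map i.op) := by
  subst h
  have : i = 𝟙 _ := Subsingleton.elim _ _
  rw [this, op_id, M.presheaf.map_id]
  infer_instance

theorem exists_fg_cof (U : (Spec (CommRingCat.of A)).Opens) (𝔞 : Ideal A)
    (h𝔞U : ∀ f ∈ 𝔞, (PrimeSpectrum.basicOpen f : (Spec (CommRingCat.of A)).Opens) ≤ U)
    (N : (U : Scheme.{u}).Modules) (hN : Coh.IsCoh N) :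
    ∃ N₀ : Submodule A ((moduleSpecΓFunctor (R := CommRingCat.of A)).obj
      ((Scheme.Modules.pushforward U.ι).obj N)), N₀.FG ∧ Cof 𝔞 N₀ := by
  obtain ⟨M₀, _, _, hfin, ⟨e⟩⟩ := (Groth.Agent.S2269.result A U N).1 hN
  haveI : N.IsQuasicoherent := hN.1
  haveI hq : ((Scheme.Modules.pushforward U.ι).obj N).IsQuasicoherent :=
    Groth.Agent.H8.isQuasicoherent_pushforward U.ι N
  let α : tilde (R := CommRingCat.of A) (ModuleCat.of A M₀) ⟶ (Scheme.Modules.pushforward U.ι).obj N :=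
    (Scheme.Modules.restrictAdjunction U.ι).homEquiv _ _ e.inv
  let ℓ : ModuleCat.of A M₀ ⟶ (moduleSpecΓFunctor (R := CommRingCat.of A)).obj
      ((Scheme.Modules.pushforward U.ι).obj N) :=
    (tilde.adjunction (R := CommRingCat.of A)).homEquiv _ _ α
  have hα : α = ((tilde.adjunction (R := CommRingCat.of A)).homEquiv _ _).symm ℓ :=
    (Equiv.symm_apply_apply _ _).symm
  refine ⟨LinearMap.range ℓ.hom, ?_, ?_⟩
  · rw [LinearMap.range_eq_map]
    exact Submodule.FG.map _ Module.Finite.fg_top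
  · intro y f hf
    have hfU := h𝔞U f hf
    have hbij : Function.Bijective (α.app (PrimeSpectrum.basicOpen f)) := by
      have h1 : α = (Scheme.Modules.restrictAdjunction U.ι).unit.app _ ≫
          (Scheme.Modules.pushforward U.ι).map e.inv := Adjunction.homEquiv_unit _ _ _ _
      have h2 : α.app (PrimeSpectrum.basicOpen f) =
          (tilde (R := CommRingCat.of A) (ModuleCat.of A M₀)).presheaf.map
            (homOfLE (U.ι.image_preimage_le (PrimeSpectrum.basicOpen f))).op ≫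
            e.inv.app (U.ι ⁻¹ᵁ (PrimeSpectrum.basicOpen f)) := by
        rw [h1]
        rfl
      haveI i1 : IsIso ((tilde (R := CommRingCat.of A) (ModuleCat.of A M₀)).presheaf.map
            (homOfLE (U.ι.image_preimage_le (PrimeSpectrum.basicOpen f))).op) :=
        isIso_map_of_eq _ (image_preimage_of_le A U hfU) _
      haveI i2 : IsIso (e.inv.app (U.ι ⁻¹ᵁ (PrimeSpectrum.basicOpen f))) :=
        (Scheme.Modules.Hom.isIso_iff_isIso_app.mp inferInstance) _
      have b1 := (ConcreteCategory.isIso_iff_bijective _).mp i1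
      have b2 := (ConcreteCategory.isIso_iff_bijective _).mp i2
      rw [h2]
      exact b2.comp b1
    haveI : IsLocalizedModule (.powers f)
        (resL A ((Scheme.Modules.pushforward U.ι).obj N) (PrimeSpectrum.basicOpen f)) :=
      isLocalizedModule_res A _ f
    have hnat : ∀ s, (appL (((tilde.adjunction (R := CommRingCat.of A)).homEquiv _ _).symm ℓ)
        (PrimeSpectrum.basicOpen f)).hom ((tilde.toOpen (R := CommRingCat.of A)
          (ModuleCat.of A M₀) (PrimeSpectrum.basicOpen f)).hom s) =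
        resL A ((Scheme.Modules.pushforward U.ι).obj N) (PrimeSpectrum.basicOpen f)
          (ℓ.hom s) := fun s =>
      adjoint_toOpen (R := CommRingCat.of A) _ _ ℓ (PrimeSpectrum.basicOpen f) s
    rw [← hα] at hnat
    have hsurj : Function.Surjective (appL α (PrimeSpectrum.basicOpen f)).hom := hbij.2
    haveI : IsLocalizedModule (.powers f) (tilde.toOpen (R := CommRingCat.of A)
        (ModuleCat.of A M₀) (PrimeSpectrum.basicOpen f)).hom :=
      isLocalizedModule_toOpen (R := CommRingCat.of A) (ModuleCat.of A M₀) f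
    exact loc_coker f ℓ.hom (appL α (PrimeSpectrum.basicOpen f)).hom
      (tilde.toOpen (R := CommRingCat.of A) (ModuleCat.of A M₀) (PrimeSpectrum.basicOpen f)).hom
      (resL A ((Scheme.Modules.pushforward U.ι).obj N) (PrimeSpectrum.basicOpen f)) hnat hsurj y

end Fin

end Geo

section Main
open CategoryTheory CategoryTheory.Limits AlgebraicGeometry Opposite

theorem main (A : Type u) [CommRing A] [IsNoetherianRing A]
    (I 𝔞 : Ideal A) (F : ℕᵒᵖ ⥤ (↑(LocCoh.puncturedOpen A 𝔞) : Scheme.{u}).Modules)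
    (hF : Formal.IsCohFormal I F) :
    ∃ (M : ℕ → Type u) (_ : ∀ n, AddCommGroup (M n)) (_ : ∀ n, Module A (M n)) (g : ∀ n, M (n + 1) →ₗ[A] M n),
      (∀ n, Module.Finite A (M n)) ∧ (∀ n, I ^ (n + 1) • (⊤ : Submodule A (M n)) = ⊥) ∧
      (∀ n (x : M (n + 1)), g n x = 0 → ∃ m : ℕ, ∀ a ∈ 𝔞 ^ m, a • x ∈ I ^ (n + 1) • (⊤ : Submodule A (M (n + 1)))) ∧
      (∀ n (y : M n), ∃ m : ℕ, ∀ a ∈ 𝔞 ^ m, a • y ∈ LinearMap.range (g n)) ∧
      Nonempty (F ≅ Functor.ofOpSequence
        (X := fun n => (Scheme.Modules.restrictFunctor (LocCoh.puncturedOpen A 𝔞).ι).obj (Formal2.tmod A (M n)))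
        (fun n => (Scheme.Modules.restrictFunctor (LocCoh.puncturedOpen A 𝔞).ι).map (Formal2.tmodMap A (g n)))) := by
  have hG : Formal2.IsQCohFormal I F := ⟨fun n => (hF.1 n).1, hF.2.1, hF.2.2⟩
  have h𝔞 : 𝔞.FG := IsNoetherian.noetherian 𝔞
  have hIfg : I.FG := IsNoetherian.noetherian I
  have hU := basicOpen_le_punctured A 𝔞
  obtain ⟨N, hN, hcof, hfin, hbot, hc, hd⟩ := alg_main (H := fun n => ↑(Hn F n)) (tn F) 𝔞 I h𝔞
    (fun n => exists_fg_cof (LocCoh.puncturedOpen A 𝔞) 𝔞 hU (F.obj (op n)) (hF.1 n))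
    (fun n r hr x => hkill hG n r hr x)
    (fun n x hx f hf => hker hIfg hG n f (hU f hf) x hx)
    (fun n y f hf => hcoker hG n f (hU f hf) y)
  refine ⟨fun n => ↥(N n), inferInstance, inferInstance, fun n => (tn F n).restrict (hN n),
    hfin, hbot, hc, hd, ?_⟩
  let U := LocCoh.puncturedOpen A 𝔞
  let R := Scheme.Modules.restrictFunctor U.ι
  let ι : ∀ n, ModuleCat.of A ↥(N n) ⟶ Hn F n := fun n =>
    ConcreteCategory.ofHom (C := ModuleCat A) (X := ModuleCat.of A ↥(N n)) (Y := Hn F n)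
      (N n).subtype
  have hιiso : ∀ n, IsIso (R.map (tilde.map (R := CommRingCat.of A) (ι n))) := fun n =>
    isIso_restrict_tilde_map 𝔞 (ι n) Subtype.val_injective (fun y f hf => by
      obtain ⟨k, hk⟩ := hcof n y f hf
      exact ⟨k, ⟨⟨_, hk⟩, rfl⟩⟩)
  haveI hs := Groth.Agent.S9531.isIso_sectSysRestrictHom A U F (fun n => (hF.1 n.unop).1)
  let s := Groth.Agent.S9531.sectSysRestrictHom A U F
  let β : ∀ n, R.obj (Formal2.tmod A ↥(N n)) ⟶ F.obj (op n) := fun n =>
    R.map (tilde.map (R := CommRingCat.of A) (ι n)) ≫ s.app (op n)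
  have hβ : ∀ n, IsIso (β n) := fun n => by
    have i1 := hιiso n
    have i2 : IsIso ((Groth.Agent.S9531.sectSysRestrictHom A U F).app (op n)) :=
      @NatIso.isIso_app_of_isIso _ _ _ _ _ _ (Groth.Agent.S9531.sectSysRestrictHom A U F) hs (op n)
    exact @IsIso.comp_isIso _ _ _ _ _ _ _ i1 i2
  let G := Functor.ofOpSequence
        (X := fun n => R.obj (Formal2.tmod A ↥(N n)))
        (fun n => R.map (Formal2.tmodMap A ((tn F n).restrict (hN n))))
  let α : G ⟶ F := NatTrans.ofOpSequence (F := G) (G := F) β (by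
    intro n
    have h1 : G.map (homOfLE (n.le_add_right 1)).op =
        R.map (Formal2.tmodMap A ((tn F n).restrict (hN n))) :=
      Functor.ofOpSequence_map_homOfLE_succ _ n
    rw [h1]
    have hsq : ModuleCat.ofHom ((tn F n).restrict (hN n)) ≫ ι n =
        ι (n + 1) ≫ (Algz.sectMod A U F).map (homOfLE (n.le_add_right 1)).op := rfl
    have e1 : tilde.map (R := CommRingCat.of A) (ModuleCat.ofHom ((tn F n).restrict (hN n))) ≫
        tilde.map (R := CommRingCat.of A) (ι n) =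
        tilde.map (R := CommRingCat.of A) (ι (n + 1)) ≫
          tilde.map (R := CommRingCat.of A)
            ((Algz.sectMod A U F).map (homOfLE (n.le_add_right 1)).op) :=
      (tilde.map_comp (R := CommRingCat.of A) _ _).symm.trans
        ((congrArg (tilde.map (R := CommRingCat.of A)) hsq).trans
          (tilde.map_comp (R := CommRingCat.of A) (ι (n + 1))
            ((Algz.sectMod A U F).map (homOfLE (n.le_add_right 1)).op)))
    have e2 := (R.map_comp _ _).symm.trans ((congrArg R.map e1).trans (R.map_comp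
      (tilde.map (R := CommRingCat.of A) (ι (n + 1)))
      (tilde.map (R := CommRingCat.of A)
            ((Algz.sectMod A U F).map (homOfLE (n.le_add_right 1)).op))))
    have e3 := s.naturality (homOfLE (n.le_add_right 1)).op
    change R.map (Formal2.tmodMap A ((tn F n).restrict (hN n))) ≫
      R.map (tilde.map (R := CommRingCat.of A) (ι n)) ≫ s.app (op n) =
      (R.map (tilde.map (R := CommRingCat.of A) (ι (n + 1))) ≫ s.app (op (n + 1))) ≫
        F.map (homOfLE (n.le_add_right 1)).op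
    exact (Category.assoc _ _ _).symm.trans ((congrArg (· ≫ s.app (op n)) e2).trans
      ((Category.assoc _ _ _).trans
        ((congrArg (R.map (tilde.map (R := CommRingCat.of A) (ι (n + 1))) ≫ ·) e3).trans
          (Category.assoc _ _ _).symm))))
  haveI : ∀ k : ℕᵒᵖ, IsIso (α.app k) := fun k => hβ k.unop
  haveI : IsIso α := NatIso.isIso_of_isIso_app α
  exact ⟨(asIso α).symm⟩

end Main


open CategoryTheory AlgebraicGeometry Opposite in
/-- Let A be a Noetherian ring, I ⊆ 𝔞 ideals of A and U = Spec A ∖ V(𝔞). For every coherent formal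
module (F_n) for I on U there are finite A-modules M_n with I^(n+1) M_n = 0 and A-linear maps
M_{n+1} → M_n for which each induced map M_{n+1}/I^(n+1)M_{n+1} → M_n has 𝔞-power-torsion kernel and
cokernel (every element is killed by some power of 𝔞), together with an isomorphism between (F_n)
and the inverse system of restrictions to U of the quasi-coherent modules M̃_n on Spec A. Indexing:
position n here corresponds to index n + 1 of the published statement, so that M_n is killed by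
I^(n+1). Only this direction (every coherent formal module arises in this manner) is stated; the
converse, that every such system of modules yields a coherent formal module, is not stated here. -/
theorem result (A : Type u) [CommRing A] [IsNoetherianRing A]
    (I 𝔞 : Ideal A) (hI : I ≤ 𝔞) (F : ℕᵒᵖ ⥤ (↑(LocCoh.puncturedOpen A 𝔞) : Scheme.{u}).Modules)
    (hF : Formal.IsCohFormal I F) :
    ∃ (M : ℕ → Type u) (_ : ∀ n, AddCommGroup (M n)) (_ : ∀ n, Module A (M n)) (g : ∀ n, M (n + 1) →ₗ[A] M n),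
      (∀ n, Module.Finite A (M n)) ∧ (∀ n, I ^ (n + 1) • (⊤ : Submodule A (M n)) = ⊥) ∧
      (∀ n (x : M (n + 1)), g n x = 0 → ∃ m : ℕ, ∀ a ∈ 𝔞 ^ m, a • x ∈ I ^ (n + 1) • (⊤ : Submodule A (M (n + 1)))) ∧
      (∀ n (y : M n), ∃ m : ℕ, ∀ a ∈ 𝔞 ^ m, a • y ∈ LinearMap.range (g n)) ∧
      Nonempty (F ≅ Functor.ofOpSequence
        (X := fun n => (Scheme.Modules.restrictFunctor (LocCoh.puncturedOpen A 𝔞).ι).obj (Formal2.tmod A (M n)))
        (fun n => (Scheme.Modules.restrictFunctor (LocCoh.puncturedOpen A 𝔞).ι).map (Formal2.tmodMap A (g n)))) := by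
  exact main A I 𝔞 F hF

end Groth.Agent.S0841
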