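import Groth.Statements.S0846
import Groth.Agent.H18.TwistResolution
import Groth.Agent.H18.TwistAmple
import Groth.Agent.H18.TwistRestrict

set_option autoImplicit false
universe u
open Coherent

namespace Groth.Agent.S0846

open CategoryTheory CategoryTheory.Limits AlgebraicGeometry in
/-- Let A be a Noetherian graded ring (graded by ℕ as an R-algebra) and X = Proj A. Then every coherent
O_X-module is a quotient of a finite coproduct of twisting modules O_X(d_1), …, O_X(d_r). -/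
theorem result {R A : Type u} [CommRing R] [CommRing A] [Algebra R A]
    (𝒜 : ℕ → Submodule R A) [GradedAlgebra 𝒜] [IsNoetherianRing A] (F : (Proj 𝒜).Modules) (hF : Coh.IsCoh F) :
    ∃ (r : ℕ) (d : Fin r → ℤ) (φ : (∐ fun j : Fin r => Twist.twist 𝒜 (d j)) ⟶ F), Epi φ := by
  classical
  -- finitely many homogeneous elements of positive degree without common zero on `Proj`
  obtain ⟨S, hS⟩ : (HomogeneousIdeal.irrelevant 𝒜).toIdeal.FG :=
    IsNoetherian.noetherian _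
  obtain ⟨J, hJdef⟩ : ∃ J : Type u, J = (Σ t : ↥S,
      ↥((DirectSum.decompose 𝒜 (t.1 : A)).support.erase 0)) := ⟨_, rfl⟩
  subst hJdef
  obtain ⟨g, hgdef⟩ : ∃ g : (Σ t : ↥S,
      ↥((DirectSum.decompose 𝒜 (t.1 : A)).support.erase 0)) → A,
      g = fun j => ((DirectSum.decompose 𝒜 (j.1.1 : A)) j.2.1 : A) := ⟨_, rfl⟩
  obtain ⟨deg, hdegdef⟩ : ∃ deg : (Σ t : ↥S,
      ↥((DirectSum.decompose 𝒜 (t.1 : A)).support.erase 0)) → ℕ,
      deg = fun j => j.2.1 := ⟨_, rfl⟩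
  have hdeg : ∀ j, 0 < deg j := by
    intro j
    rw [hdegdef]
    exact Nat.pos_of_ne_zero (Finset.mem_erase.mp j.2.2).1
  have hg : ∀ j, g j ∈ 𝒜 (deg j) := by
    intro j
    rw [hgdef, hdegdef]
    exact SetLike.coe_mem _
  have hcov : ∀ y : ProjectiveSpectrum 𝒜, ∃ j, g j ∉ y.asHomogeneousIdeal := by
    intro y
    by_contra hcon
    push_neg at hcon
    apply y.not_irrelevant_le
    intro a ha
    have ha' : a ∈ (HomogeneousIdeal.irrelevant 𝒜).toIdeal := ha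
    rw [← hS] at ha'
    have hle : Ideal.span (S : Set A) ≤ y.asHomogeneousIdeal.toIdeal := by
      rw [Ideal.span_le]
      intro t ht
      have htI : t ∈ (HomogeneousIdeal.irrelevant 𝒜).toIdeal := by
        rw [← hS]
        exact Ideal.subset_span ht
      have ht0 : GradedRing.proj 𝒜 0 t = 0 := (HomogeneousIdeal.mem_irrelevant_iff 𝒜 t).mp htI
      rw [SetLike.mem_coe, ← DirectSum.sum_support_decompose 𝒜 t]
      refine Ideal.sum_mem _ (fun i hi => ?_)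
      by_cases hi0 : i = 0
      · subst hi0
        have : ((DirectSum.decompose 𝒜 t) 0 : A) = 0 := ht0
        rw [this]
        exact Ideal.zero_mem _
      · have := hcon ⟨⟨t, ht⟩, ⟨i, Finset.mem_erase.mpr ⟨hi0, hi⟩⟩⟩
        rw [hgdef] at this
        exact this
    exact hle ha'
  haveI : Fintype (Σ t : ↥S, ↥((DirectSum.decompose 𝒜 (t.1 : A)).support.erase 0)) :=
    Fintype.ofFinite _
  obtain ⟨l, hldef⟩ : ∃ l : ℕ, l = Finset.univ.lcm deg := ⟨_, rfl⟩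
  have hl : 0 < l := by
    refine Nat.pos_of_ne_zero (fun h0 => ?_)
    rw [hldef, Finset.lcm_eq_zero_iff] at h0
    obtain ⟨i, _, hi⟩ := h0
    exact (hdeg i).ne' hi
  have hcovd : ∀ y : ProjectiveSpectrum 𝒜, ∃ b ∈ 𝒜 l, b ∉ y.asHomogeneousIdeal := by
    intro y
    obtain ⟨i, hi⟩ := hcov y
    obtain ⟨k, hk⟩ : deg i ∣ l := hldef ▸ Finset.dvd_lcm (Finset.mem_univ i) (f := deg)
    refine ⟨g i ^ k, ?_, fun h => hi (y.isPrime.mem_of_pow_mem _ h)⟩
    have := SetLike.pow_mem_graded k (hg i)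
    rwa [smul_eq_mul, mul_comm, ← hk] at this
  have hc : CompactSpace (Proj 𝒜) :=
    Groth.Agent.H18.TwistAmple.compactSpace_of_finite_cover 𝒜 g deg hdeg hg hcov
  have hUFk : ∀ k : ℤ, Groth.Agent.H18.TwistTensor.HasUnitFrac 𝒜 (k * (l : ℤ)) := fun k =>
    Groth.Agent.H18.TwistTensor.hasUnitFrac_of_cover 𝒜 l k hcovd
  have hinvk : ∀ k : ℤ, PicF.IsInvertible (Twist.twist 𝒜 (k * (l : ℤ))) := fun k =>
    Groth.Agent.H18.TwistRestrict.isInvertible_twist_of_cover 𝒜 l k hcovd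
  have hUF : Groth.Agent.H18.TwistTensor.HasUnitFrac 𝒜 ((l : ℕ) : ℤ) := by
    have := hUFk 1
    rwa [one_mul] at this
  have hinv : PicF.IsInvertible (Twist.twist 𝒜 ((l : ℕ) : ℤ)) := by
    have := hinvk 1
    rwa [one_mul] at this
  have hL : CohB1.IsAmple (Twist.twist 𝒜 ((l : ℕ) : ℤ)) :=
    Groth.Agent.H18.TwistAmple.isAmple_twist 𝒜 hl hinv hc hUF hcovd
  have hpow : ∀ k : ℕ, Nonempty (CohB1.tensorPow (Twist.twist 𝒜 ((l : ℕ) : ℤ)) k ≅
      Twist.twist 𝒜 ((k : ℤ) * (l : ℤ))) := by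
    intro k
    induction k with
    | zero =>
      obtain ⟨e0⟩ := Groth.Agent.H18.TwistTensor.nonempty_twist_zero_iso 𝒜
      have h0 : ((0 : ℕ) : ℤ) * (l : ℤ) = 0 := by simp
      rw [h0]
      exact ⟨e0.symm⟩
    | succ k ih =>
      obtain ⟨e⟩ := ih
      obtain ⟨e1⟩ := Groth.Agent.H18.TwistTensor.nonempty_tensorMod_twist_iso 𝒜
        ((k : ℤ) * (l : ℤ)) (l : ℤ) (hUFk k)
      obtain ⟨e2⟩ := Groth.Agent.H18.TensorModIso.nonempty_tensorMod_congr e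
        (Iso.refl (Twist.twist 𝒜 ((l : ℕ) : ℤ)))
      have hk : ((k + 1 : ℕ) : ℤ) * (l : ℤ) = (k : ℤ) * (l : ℤ) + (l : ℤ) := by
        push_cast; ring
      rw [hk]
      exact ⟨e2 ≪≫ e1⟩
  have hT : ∀ k : ℕ, ∃ d : ℤ, PicF.IsInvertible (Twist.twist 𝒜 d) ∧
      Nonempty (CohB1.tensorMod (Twist.twist 𝒜 d)
        (CohB1.tensorPow (Twist.twist 𝒜 ((l : ℕ) : ℤ)) k) ≅ Coh.structureModule (Proj 𝒜)) := by
    intro k
    refine ⟨(-(k : ℤ)) * (l : ℤ), hinvk _, ?_⟩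
    obtain ⟨e⟩ := hpow k
    obtain ⟨e1⟩ := Groth.Agent.H18.TensorModIso.nonempty_tensorMod_congr
      (Iso.refl (Twist.twist 𝒜 ((-(k : ℤ)) * (l : ℤ)))) e
    obtain ⟨e2⟩ := Groth.Agent.H18.TwistTensor.nonempty_tensorMod_twist_iso 𝒜
      ((-(k : ℤ)) * (l : ℤ)) ((k : ℤ) * (l : ℤ)) (hUFk _)
    obtain ⟨e0⟩ := Groth.Agent.H18.TwistTensor.nonempty_twist_zero_iso 𝒜
    have h0 : (-(k : ℤ)) * (l : ℤ) + (k : ℤ) * (l : ℤ) = 0 := by ring
    rw [h0] at e2
    exact ⟨e1 ≪≫ e2 ≪≫ e0⟩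
  exact Groth.Agent.H18.TwistResolution.exists_epi_sigma hL (Twist.twist 𝒜) hT F hF

end Groth.Agent.S0846
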