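import Groth.Statements.S0857
-- import your own Groth.Agent.* helpers here

set_option autoImplicit false
universe u
open CategoryTheory
open CohSite

namespace Groth.Agent.S0857

section General

open CategoryTheory.Limits CategoryTheory.Abelian

universe w t v' u'

variable {𝒜 : Type u'} [Category.{v'} 𝒜] [Abelian 𝒜] [HasExt.{w} 𝒜] [EnoughInjectives 𝒜]

/-- A class in `Ext^1(A, ∏ F_i)` all of whose components vanish is zero. -/
theorem ext_one_pi_eq_zero {I : Type t} [HasProductsOfShape I 𝒜] (F : I → 𝒜) (A : 𝒜)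
    (x : Ext A (∏ᶜ F) 1) (hx : ∀ i, x.comp (Ext.mk₀ (Pi.π F i)) (add_zero 1) = 0) : x = 0 := by
  classical
  let E : I → 𝒜 := fun i => Injective.under (F i)
  let ι : ∀ i, F i ⟶ E i := fun i => Injective.ι (F i)
  let Q : I → 𝒜 := fun i => cokernel (ι i)
  let p : ∀ i, E i ⟶ Q i := fun i => cokernel.π (ι i)
  have hιp : ∀ i, ι i ≫ p i = 0 := fun i => cokernel.condition _
  let S : I → ShortComplex 𝒜 := fun i => ShortComplex.mk (ι i) (p i) (hιp i)
  have hS : ∀ i, (S i).ShortExact := fun i =>
    { exact := ShortComplex.cokernelSequence_exact (ι i)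
      mono_f := inferInstanceAs (Mono (Injective.ι (F i)))
      epi_g := inferInstanceAs (Epi (cokernel.π (ι i))) }
  let j : ∏ᶜ F ⟶ ∏ᶜ E := Limits.Pi.map ι
  let q : ∏ᶜ E ⟶ ∏ᶜ Q := Limits.Pi.map p
  have hjq : j ≫ q = 0 := by
    apply Pi.hom_ext
    intro i
    simp only [j, q, Category.assoc, Limits.Pi.map_π, Limits.Pi.map_π_assoc, hιp, comp_zero, zero_comp]
  have hjm : Mono j := Limits.Pi.map_mono ι
  have hker : IsLimit (KernelFork.ofι j hjq) :=
    KernelFork.IsLimit.ofι' j hjq (fun {W} k hk => by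
      have hk' : ∀ i, (k ≫ Pi.π E i) ≫ (S i).g = 0 := by
        intro i
        have : k ≫ q ≫ Pi.π Q i = 0 := by rw [← Category.assoc, hk, zero_comp]
        simpa only [q, Limits.Pi.map_π, Category.assoc] using this
      have : ∀ i, Mono (S i).f := fun i => (hS i).mono_f
      refine ⟨Pi.lift (fun i => (hS i).exact.lift (k ≫ Pi.π E i) (hk' i)), ?_⟩
      apply Pi.hom_ext
      intro i
      have := (hS i).exact.lift_f (k ≫ Pi.π E i) (hk' i)
      simp only [j, Category.assoc, Limits.Pi.map_π, Pi.lift_π_assoc]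
      exact this)
  let e : ∏ᶜ E ⟶ Limits.image q := Limits.factorThruImage q
  have hje : j ≫ e = 0 := by
    rw [← cancel_mono (Limits.image.ι q)]
    simp only [e, Category.assoc, Limits.image.fac, hjq, zero_comp]
  let T : ShortComplex 𝒜 := ShortComplex.mk j e hje
  let T' : ShortComplex 𝒜 := ShortComplex.mk j q hjq
  have hT' : T'.Exact := ShortComplex.exact_of_f_is_kernel T' hker
  have hT : T.ShortExact := by
    let φ : T ⟶ T' :=
      { τ₁ := 𝟙 _
        τ₂ := 𝟙 _
        τ₃ := Limits.image.ι q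
        comm₁₂ := by simp [T, T']
        comm₂₃ := by simp [T, T', e] }
    have : Epi φ.τ₁ := by dsimp [φ]; infer_instance
    have : IsIso φ.τ₂ := by dsimp [φ]; infer_instance
    have : Mono φ.τ₃ := by dsimp [φ]; infer_instance
    exact
      { exact := (ShortComplex.exact_iff_of_epi_of_isIso_of_mono φ).mpr hT'
        mono_f := hjm
        epi_g := inferInstanceAs (Epi (Limits.factorThruImage q)) }
  have h0 : x.comp (Ext.mk₀ T.f) (add_zero 1) = 0 := Ext.eq_zero_of_injective _
  obtain ⟨g₀, hg₀⟩ := Ext.covariant_sequence_exact₁ A hT x h0 (zero_add 1)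
  obtain ⟨g, rfl⟩ := (Ext.mk₀_bijective A _).2 g₀
  have key : ∀ i, ∃ h : A ⟶ E i, h ≫ p i = g ≫ Limits.image.ι q ≫ Pi.π Q i := by
    intro i
    let φ : T ⟶ S i :=
      { τ₁ := Pi.π F i
        τ₂ := Pi.π E i
        τ₃ := Limits.image.ι q ≫ Pi.π Q i
        comm₁₂ := by simp [T, S, j]
        comm₂₃ := by simp [T, S, q, e] }
    have h1 := ShortComplex.ShortExact.extClass_naturality hT (hS i) φ
    have h2 : (Ext.mk₀ (g ≫ Limits.image.ι q ≫ Pi.π Q i)).comp (hS i).extClass (zero_add 1) = 0 := by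
      rw [← Ext.mk₀_comp_mk₀_assoc]
      change (Ext.mk₀ g).comp ((Ext.mk₀ φ.τ₃).comp (hS i).extClass (zero_add 1)) (zero_add 1) = 0
      rw [← h1, ← Ext.comp_assoc_of_third_deg_zero, hg₀]
      exact hx i
    obtain ⟨y, hy⟩ := Ext.covariant_sequence_exact₃ A (hS i) _ (zero_add 1) h2
    obtain ⟨h, rfl⟩ := (Ext.mk₀_bijective A _).2 y
    refine ⟨h, ?_⟩
    apply (Ext.mk₀_bijective A _).1
    rw [← Ext.mk₀_comp_mk₀]
    exact hy
  choose h hh using key
  have hfin : Pi.lift h ≫ e = g := by
    rw [← cancel_mono (Limits.image.ι q)]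
    apply Pi.hom_ext
    intro i
    simp only [e, q, Category.assoc, Limits.image.fac, Limits.Pi.map_π, Pi.lift_π_assoc, hh]
  rw [← hg₀, ← hfin, ← Ext.mk₀_comp_mk₀_assoc]
  have := hT.comp_extClass
  change (Ext.mk₀ e).comp hT.extClass (zero_add 1) = 0 at this
  rw [this, Ext.comp_zero]

end General


open Opposite CategoryTheory.Limits in
/-- For a family of abelian sheaves F_i on a site and an object U, the map H^1(U, ∏ F_i) -> ∏ H^1(U,
F_i) induced by the projections is injective. (The degree-zero part of the published statement, that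
sections of a product are the product of sections, is not restated.) -/
theorem result {C : Type u} [SmallCategory C] {J : GrothendieckTopology C}
    {I : Type u} (F : I → Sheaf J AddCommGrpCat.{u}) (U : C) :
    Function.Injective (fun (x : CohSite.HU (∏ᶜ F) 1 U) (i : I) =>
      (((Sheaf.cohomologyPresheafFunctor J 1).map (Pi.π F i)).app (op U)).hom x) := by
  intro x y hxy
  rw [← sub_eq_zero]
  apply ext_one_pi_eq_zero F _ (x - y)
  intro i
  have h1 := congrFun hxy i
  have h2 : (((Sheaf.cohomologyPresheafFunctor J 1).map (Pi.π F i)).app (op U)).hom (x - y) = 0 := by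
    rw [map_sub, sub_eq_zero]
    exact h1
  exact h2

end Groth.Agent.S0857
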