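import Groth.Statements.S0866
import Mathlib.Topology.Sheaves.Forget
import Mathlib.Topology.Sheaves.SheafOfFunctions
import Mathlib.Topology.Sheaves.SheafCondition.UniqueGluing

set_option autoImplicit false
universe u
open CategoryTheory
open CohTop

namespace Groth.Agent.S0866

open TopCat TopologicalSpace Opposite

/-- If some morphism `F ⟶ R.obj G` is mono then the unit at `F` is mono. -/
theorem mono_unit_of_mono {C D : Type*} [Category C] [Category D] {L : C ⥤ D} {R : D ⥤ C}
    (adj : L ⊣ R) (F : C) (G : D) (g : F ⟶ R.obj G) [Mono g] : Mono (adj.unit.app F) := by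
  have h : adj.unit.app F ≫ R.map ((adj.homEquiv F G).symm g) = g := by
    have h' := adj.homEquiv_unit (f := (adj.homEquiv F G).symm g)
    rw [Equiv.apply_symm_apply] at h'
    exact h'.symm
  have : Mono (adj.unit.app F ≫ R.map ((adj.homEquiv F G).symm g)) := by rw [h]; infer_instance
  exact mono_of_mono _ (R.map ((adj.homEquiv F G).symm g))

/-- The presheaf of dependent functions with values in a family of abelian groups. -/
def depPresheaf (Y : TopCat.{u}) (A : Y → AddCommGrpCat.{u}) : Y.Presheaf AddCommGrpCat.{u} where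
  obj V := AddCommGrpCat.of (∀ y : V.unop, A y)
  map i := AddCommGrpCat.ofHom
    { toFun := fun s y => s ⟨y.1, i.unop.le y.2⟩
      map_zero' := rfl
      map_add' := fun _ _ => rfl }
  map_id _ := rfl
  map_comp _ _ := rfl

theorem depPresheaf_isSheaf (Y : TopCat.{u}) (A : Y → AddCommGrpCat.{u}) :
    (depPresheaf Y A).IsSheaf := by
  rw [TopCat.Presheaf.isSheaf_iff_isSheaf_comp (forget AddCommGrpCat.{u})]
  exact TopCat.Presheaf.toTypes_isSheaf Y (fun y => A y)

/-- The sheaf of dependent functions into the stalks of `F` along `f`. -/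
noncomputable def depSheaf {X Y : TopCat.{u}} (f : Y ⟶ X) (F : TopCat.Sheaf AddCommGrpCat.{u} X) :
    TopCat.Sheaf AddCommGrpCat.{u} Y :=
  ⟨depPresheaf Y (fun y => F.presheaf.stalk (f y)), depPresheaf_isSheaf _ _⟩

/-- The map of `F` into the pushforward of the sheaf of dependent functions into its stalks. -/
noncomputable def toDep {X Y : TopCat.{u}} (f : Y ⟶ X) (F : TopCat.Sheaf AddCommGrpCat.{u} X) :
    F ⟶ (TopCat.Sheaf.pushforward AddCommGrpCat.{u} f).obj (depSheaf f F) :=
  ⟨{ app := fun U => AddCommGrpCat.ofHom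
        { toFun := fun s y => F.presheaf.germ U.unop (f y.1) y.2 s
          map_zero' := by ext; simp
          map_add' := by intros; ext; simp }
     naturality := by
      intro U V i
      ext s
      funext y
      exact TopCat.Presheaf.germ_res_apply F.presheaf i.unop (f y.1) y.2 s }⟩

theorem mono_toDep {X Y : TopCat.{u}} (f : Y ⟶ X) (hf : Function.Surjective f)
    (F : TopCat.Sheaf AddCommGrpCat.{u} X) : Mono (toDep f F) := by
  have : ∀ U, Mono ((toDep f F).hom.app U) := by
    intro U
    rw [AddCommGrpCat.mono_iff_injective]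
    intro s t hst
    refine TopCat.Presheaf.section_ext F U.unop s t (fun x hx => ?_)
    obtain ⟨y, rfl⟩ := hf x
    exact congr_fun hst ⟨y, hx⟩
  have : Mono (toDep f F).hom := NatTrans.mono_of_mono_app _
  exact Sheaf.Hom.mono_of_presheaf_mono _ _ _

theorem isFlasque_of_discrete {Y : TopCat.{u}} [DiscreteTopology Y]
    (H : TopCat.Sheaf AddCommGrpCat.{u} Y) : TopCat.Sheaf.IsFlasque H := by
  refine ⟨fun {U V} i => ?_⟩
  let V' : Opens Y := V.unop
  let W : Opens Y := ⟨(U.unop : Set Y) \ (V.unop : Set Y), isOpen_discrete _⟩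
  have hle : V' ≤ U.unop := i.unop.le
  have hsup : V' ⊔ W = U.unop := by
    ext y
    simp only [Opens.coe_sup, Set.mem_union, SetLike.mem_coe]
    constructor
    · rintro (h | h)
      · exact hle h
      · exact h.1
    · intro h
      by_cases hy : y ∈ V'
      · exact Or.inl hy
      · exact Or.inr ⟨h, hy⟩
  have hinf : V' ⊓ W = ⊥ := by
    ext y
    simp only [Opens.coe_inf, Set.mem_inter_iff, SetLike.mem_coe, Opens.coe_bot,
      Set.mem_empty_iff_false, iff_false, not_and]
    intro h1 h2
    exact h2.2 h1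
  have hlim := TopCat.Sheaf.isProductOfDisjoint H V' W hinf
  let l := hlim.lift (Limits.BinaryFan.mk (𝟙 (H.1.obj (op V'))) 0)
  have hl : l ≫ H.1.map (homOfLE le_sup_left : V' ⟶ V' ⊔ W).op = 𝟙 _ :=
    hlim.fac (Limits.BinaryFan.mk (𝟙 (H.1.obj (op V'))) 0) ⟨Limits.WalkingPair.left⟩
  have hepi : Epi (H.1.map (homOfLE le_sup_left : V' ⟶ V' ⊔ W).op) :=
    (SplitEpi.mk l hl).epi
  have hfac : H.1.map i = H.1.map (eqToHom hsup).op ≫
      H.1.map (homOfLE le_sup_left : V' ⟶ V' ⊔ W).op := by
    rw [← H.1.map_comp]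
    exact congrArg H.1.map (Subsingleton.elim _ _)
  change Epi (H.1.map i)
  rw [hfac]
  infer_instance

theorem result {X : TopCat.{u}} (F : CohTop.Ab X) :
    Mono ((TopCat.Sheaf.pullbackPushforwardAdjunction AddCommGrpCat.{u}
      (TopCat.adj₁.counit.app X)).unit.app F) ∧
    TopCat.Sheaf.IsFlasque ((CohTop.push (TopCat.adj₁.counit.app X)).obj
      ((CohTop.pull (TopCat.adj₁.counit.app X)).obj F)) := by
  constructor
  · have hsurj : Function.Surjective (TopCat.adj₁.counit.app X) := fun x => ⟨x, rfl⟩
    have := mono_toDep (TopCat.adj₁.counit.app X) hsurj F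
    exact mono_unit_of_mono (TopCat.Sheaf.pullbackPushforwardAdjunction AddCommGrpCat.{u}
      (TopCat.adj₁.counit.app X)) F (depSheaf (TopCat.adj₁.counit.app X) F)
      (toDep (TopCat.adj₁.counit.app X) F)
  · have : DiscreteTopology ((forget TopCat ⋙ TopCat.discrete).obj X) :=
      inferInstanceAs (DiscreteTopology (TopCat.discrete.obj ((forget TopCat).obj X)))
    have := isFlasque_of_discrete ((CohTop.pull (TopCat.adj₁.counit.app X)).obj F)
    exact TopCat.Sheaf.IsFlasque.pushforward_isFlasque _ _


end Groth.Agent.S0866
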