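import Groth.Statements.S0870
-- import your own Groth.Agent.* helpers here
import Groth.Agent.H5.Rlim.Main

set_option autoImplicit false
universe u
open CategoryTheory
open CohTop

namespace Groth.Agent.S0870

open TopologicalSpace Opposite CategoryTheory.Limits in
/-- Let (F_n) be an inverse system of abelian sheaves on X and B a basis of opens such that H^p(U, F_n)
= 0 for p > 0 and U in B, and the system of sections F_n(U) has vanishing R^1 lim for U in B. Then
lim F_n (placed in degree zero) is a derived limit of the system (F_n) in the derived category, and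
H^p(U, lim F_n) = 0 for p > 0 and U in B. -/
theorem result {X : TopCat.{u}} [HasDerivedCategory.{u} (CohTop.Ab X)]
    (F : ℕ → CohTop.Ab X) (t : ∀ n, F (n + 1) ⟶ F n)
    [HasProduct fun n => (DerivedCategory.singleFunctor (CohTop.Ab X) 0).obj (F n)]
    (B : Set (Opens X)) (hB : Opens.IsBasis B)
    (h1 : ∀ U ∈ B, ∀ (p n : ℕ), Subsingleton (CohTop.HU (F n) (p + 1) U))
    (h2 : ∀ U ∈ B, CohCx.LimOneIsZero (fun n => (F n).obj.obj (op U))
      (fun n => ((t n).hom.app (op U)).hom)) :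
    DCoh.IsRlim (fun n => (DerivedCategory.singleFunctor (CohTop.Ab X) 0).obj (F n))
      (fun n => (DerivedCategory.singleFunctor (CohTop.Ab X) 0).map (t n))
      ((DerivedCategory.singleFunctor (CohTop.Ab X) 0).obj (limit (CohCx.opSequence F t))) ∧
    ∀ U ∈ B, ∀ p : ℕ, Subsingleton (CohTop.HU (limit (CohCx.opSequence F t)) (p + 1) U) := by
  have hB' : ∀ U : Opens X, ∃ (ι : Type u) (Y : ι → Opens X) (f : ∀ i, Y i ⟶ U),
      Sieve.ofArrows Y f ∈ Opens.grothendieckTopology X U ∧ ∀ i, Y i ∈ B := by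
    intro U
    refine ⟨{V : Opens X // V ∈ B ∧ V ≤ U}, fun i => i.1, fun i => homOfLE i.2.2, ?_, fun i => i.2.1⟩
    intro x hx
    obtain ⟨W, hW, hxW, hWU⟩ := Opens.isBasis_iff_nbhd.1 hB hx
    exact ⟨W, homOfLE hWU, ⟨W, 𝟙 W, homOfLE hWU, ⟨(⟨W, hW, hWU⟩ : {V : Opens X // V ∈ B ∧ V ≤ U})⟩,
      Category.id_comp _⟩, hxW⟩
  obtain ⟨L, a, hL, e, -, hL0⟩ := Groth.Agent.H5.Rlim.main F t B hB' h1 h2
  refine ⟨Groth.Agent.H5.Rlim.isRlim_of_iso e (Groth.Agent.H5.Rlim.isRlim_of_isRlimVia hL),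
    fun U hU p => ?_⟩
  have h0 := hL0 U hU ((p + 1 : ℕ) : ℤ) (by omega)
  have h3 : Subsingleton (CohCx.HDU ((Groth.Agent.H5.Rlim.s0 (Opens.grothendieckTopology X)).obj
      (limit (CohCx.opSequence F t))) ((p + 1 : ℕ) : ℤ) U) :=
    (Iso.homCongr (Iso.refl _) ((shiftFunctor _ ((p + 1 : ℕ) : ℤ)).mapIso e)).symm.subsingleton
  exact (Groth.Agent.H5.Rlim.hduEquiv _ (p + 1) U).subsingleton

end Groth.Agent.S0870
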