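import Groth.Statements.S0874
import Groth.Agent.H33.RlimSite

set_option autoImplicit false
universe u
open CategoryTheory
open CohTop

namespace Groth.Agent.S0874

open TopologicalSpace CategoryTheory.Limits in
/-- Let (K_n) be an inverse system in D(Ab X), the derived category of sheaves of abelian groups on X,
with derived limit L (through maps a_n : L -> K_n), x a point and m an integer. Suppose there are an
index n(x) and a fundamental system of open neighbourhoods U of x such that (1) the inverse system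
H^{m-1}(U, K_n) has vanishing R^1 lim and (2) for every n >= n(x), the transition map from H^m(U,
K_n) to H^m(U, K_{n(x)}) is one-to-one. Then a_{n(x)} induces an injection of stalks at x, from
H^m(L) into H^m(K_{n(x)}). -/
theorem result {X : TopCat.{u}} [HasDerivedCategory.{u} (CohTop.Ab X)]
    (K : ℕ → DerivedCategory (CohTop.Ab X)) (t : ∀ n, K (n + 1) ⟶ K n) [HasProduct K]
    (L : DerivedCategory (CohTop.Ab X)) (a : ∀ n, L ⟶ K n) (hL : CohCx.IsRlimVia K t L a)
    (x : X) (m : ℤ) (nx : ℕ)
    (h : ∀ V : Opens X, x ∈ V → ∃ U : Opens X, x ∈ U ∧ U ≤ V ∧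
      CohCx.LimOneIsZero (fun n => CohCx.HDU (K n) (m - 1) U)
        (fun n => Preadditive.rightComp _ ((shiftFunctor _ (m - 1)).map (t n))) ∧
      ∀ k : ℕ, Function.Injective
        (Preadditive.rightComp _ ((shiftFunctor _ m).map (CohCx.transition K t nx k)) :
          CohCx.HDU (K (nx + k)) m U → CohCx.HDU (K nx) m U)) :
    Function.Injective ((TopCat.Presheaf.stalkFunctor AddCommGrpCat.{u} x).map
      ((DerivedCategory.homologyFunctor (CohTop.Ab X) m).map (a nx)).hom) := by
  refine (injective_iff_map_eq_zero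
    ((TopCat.Presheaf.stalkFunctor AddCommGrpCat.{u} x).map
      ((DerivedCategory.homologyFunctor (CohTop.Ab X) m).map (a nx)).hom).hom).2 ?_
  intro s hs
  obtain ⟨V0, hxV0, γ0, rfl⟩ := TopCat.Presheaf.exists_germ_eq _ s
  have hs' : TopCat.Presheaf.germ (CohCx.HD (K nx) m).obj V0 x hxV0
      ((((DerivedCategory.homologyFunctor (CohTop.Ab X) m).map (a nx)).hom.app (Opposite.op V0)) γ0) =
      TopCat.Presheaf.germ (CohCx.HD (K nx) m).obj V0 x hxV0 0 := by
    rw [← TopCat.Presheaf.stalkFunctor_map_germ_apply, map_zero]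
    exact hs
  obtain ⟨V, hxV, i1, i2, hV⟩ := TopCat.Presheaf.germ_eq _ x hxV0 hxV0 _ _ hs'
  have hγ : Groth.Agent.H5.HDULib.sec _
      ((DerivedCategory.homologyFunctor (CohTop.Ab X) m).map (a nx)) V
      (((CohCx.HD L m).obj.map i1.op).hom γ0) = 0 := by
    rw [Groth.Agent.H5.HDULib.sec_map]
    refine Eq.trans hV ?_
    rw [map_zero]
  obtain ⟨T, hT, hT'⟩ := Groth.Agent.H33.RlimSite.core K t L a hL V m nx _ hγ
  obtain ⟨W, iW, hTW, hxW⟩ := hT x hxV
  obtain ⟨U, hxU, hUW, h1, h2⟩ := h W hxW
  have hTU : T (homOfLE hUW ≫ iW) := T.downward_closed hTW _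
  have h0 := hT' U _ hTU h1 h2
  rw [← TopCat.Presheaf.germ_res_apply (CohCx.HD L m).obj i1 x hxV γ0,
    ← TopCat.Presheaf.germ_res_apply (CohCx.HD L m).obj (homOfLE hUW ≫ iW) x hxU]
  erw [h0]
  rw [map_zero]
  rfl

end Groth.Agent.S0874
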