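import Groth.Statements.S0875
import Groth.Agent.H33.RlimTrunc
import Groth.Agent.S0874

set_option autoImplicit false
universe u
open CategoryTheory
open CohTop

namespace Groth.Agent.S0875

open TopologicalSpace CategoryTheory.Limits in
/-- Let E be an object of the derived category of abelian sheaves on X. Assume every point x has a
function p(x, -) and a fundamental system of open neighbourhoods U with H^p(U, H^{m-p}(E)) = 0 for
all m and all p > p(x, m). Then E is a derived limit of the tower of its truncations τ_{≥ -n} E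
through the canonical maps E -> τ_{≥ -n} E (equivalently, E -> R lim τ_{≥ -n} E is an isomorphism).
The existence of the countable product of the truncations is assumed. -/
theorem result {X : TopCat.{u}}
    [HasDerivedCategory.{u} (CohTop.Ab X)] (E : DerivedCategory (CohTop.Ab X))
    [HasProduct (CohCx.truncTower E)]
    (h : ∀ x : X, ∃ p : ℤ → ℤ, ∀ V : Opens X, x ∈ V → ∃ U : Opens X, x ∈ U ∧ U ≤ V ∧
      ∀ (m : ℤ) (k : ℕ), p m < k → Subsingleton (CohTop.HU (CohCx.HD E (m - k)) k U)) :
    CohCx.IsRlimVia (CohCx.truncTower E) (CohCx.truncTowerMap E) E (CohCx.toTruncTower E) := by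
  obtain ⟨L, a, hL⟩ := Groth.Agent.H33.RlimTrunc.exists_isRlimVia (CohCx.truncTower E)
    (CohCx.truncTowerMap E)
  obtain ⟨φ, hφ⟩ := Groth.Agent.H33.RlimTrunc.exists_lift _ _ L a hL E (CohCx.toTruncTower E)
    (fun n => Groth.Agent.H33.RlimTrunc.toTruncTower_comp E n)
  suffices hiso : IsIso φ by
    have h3 := Groth.Agent.H33.RlimTrunc.isRlimVia_of_iso _ _ L a hL E φ
    have e : (fun n => φ ≫ a n) = CohCx.toTruncTower E := funext hφ
    rw [e] at h3
    exact h3
  rw [DerivedCategory.isIso_iff]
  intro m
  have hfac : ∀ n, (DerivedCategory.homologyFunctor _ m).map φ ≫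
      (DerivedCategory.homologyFunctor _ m).map (a n) =
      (DerivedCategory.homologyFunctor _ m).map (CohCx.toTruncTower E n) := fun n => by
    rw [← Functor.map_comp, hφ]
  have hisoP : ∀ n : ℕ, -m ≤ n →
      IsIso ((DerivedCategory.homologyFunctor _ m).map (CohCx.toTruncTower E n)) := fun n hn =>
    Groth.Agent.H33.RlimTrunc.isIso_homology_truncGEπ E (-(n : ℤ)) m (by omega)
  have hmono : Mono ((DerivedCategory.homologyFunctor _ m).map φ) := by
    haveI := hisoP (-m).toNat (Int.self_le_toNat _)
    exact mono_of_mono_fac (hfac (-m).toNat)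
  have hepi : Epi ((DerivedCategory.homologyFunctor _ m).map φ) := by
    rw [← Sheaf.isLocallySurjective_iff_epi']
    refine (TopCat.Presheaf.locally_surjective_iff_surjective_on_stalks _).2 ?_
    intro x
    obtain ⟨p, hp⟩ := h x
    have h1 : -m ≤ ((max (-m) (p m - m)).toNat : ℤ) :=
      le_trans (le_max_left _ _) (Int.self_le_toNat _)
    have h2 : p m - m ≤ ((max (-m) (p m - m)).toNat : ℤ) :=
      le_trans (le_max_right _ _) (Int.self_le_toNat _)
    have hinj := Groth.Agent.S0874.result (CohCx.truncTower E) (CohCx.truncTowerMap E) L a hL x m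
      (max (-m) (p m - m)).toNat (fun V hxV => by
        obtain ⟨U, hxU, hUV, hU⟩ := hp V hxV
        exact ⟨U, hxU, hUV, Groth.Agent.H33.RlimTrunc.milnor_conditions E m U p _ h1 h2
          (fun k hk => hU m k hk)⟩)
    haveI := hisoP _ h1
    have hG : (sheafToPresheaf (Opens.grothendieckTopology X) AddCommGrpCat.{u} ⋙
          TopCat.Presheaf.stalkFunctor AddCommGrpCat.{u} x).map
          ((DerivedCategory.homologyFunctor _ m).map φ) ≫
        (sheafToPresheaf (Opens.grothendieckTopology X) AddCommGrpCat.{u} ⋙
          TopCat.Presheaf.stalkFunctor AddCommGrpCat.{u} x).map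
          ((DerivedCategory.homologyFunctor _ m).map (a (max (-m) (p m - m)).toNat)) =
        (sheafToPresheaf (Opens.grothendieckTopology X) AddCommGrpCat.{u} ⋙
          TopCat.Presheaf.stalkFunctor AddCommGrpCat.{u} x).map
          ((DerivedCategory.homologyFunctor _ m).map
            (CohCx.toTruncTower E (max (-m) (p m - m)).toNat)) := by
      rw [← Functor.map_comp, hfac]
    exact Groth.Agent.H33.RlimTrunc.surj_of_inj_ab _ _ _ hG hinj
  exact isIso_of_mono_of_epi _

end Groth.Agent.S0875
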