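import Groth.Statements.S0876
import Groth.Agent.H42.TriangleLES
import Mathlib.Algebra.Homology.DerivedCategory.SingleTriangle

set_option autoImplicit false
universe u
open CategoryTheory
open CohSite

namespace Groth.Agent.S0876

open CategoryTheory.Limits in
/-- As a long exact sequence of cohomology groups rather than a triangle of complexes: let S be a
Mayer-Vietoris square of a site, with corners X₁ (playing the role of the intersection), X₂, X₃ and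
X₄ (the union). For every object K of the derived category of abelian sheaves there are connecting
homomorphisms H^n(X₁, K) -> H^{n+1}(X₄, K) which together with the restriction maps (sum into
H^n(X₂, K) ⊕ H^n(X₃, K), difference out of it) form a long exact sequence ... -> H^n(X₄, K) ->
H^n(X₂, K) ⊕ H^n(X₃, K) -> H^n(X₁, K) -> H^{n+1}(X₄, K) -> .... Here H^n(U, K) is the group of maps
from the free abelian sheaf on U to K[n]. -/
theorem result {C : Type u} [SmallCategory C] {J : GrothendieckTopology C}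
    [HasWeakSheafify J (Type u)] [HasDerivedCategory.{u} (Sheaf J AddCommGrpCat.{u})]
    (S : J.MayerVietorisSquare) (K : DerivedCategory (Sheaf J AddCommGrpCat.{u})) :
    ∃ δ : ∀ n : ℤ, CohCx.HDU K n S.X₁ →+ CohCx.HDU K (n + 1) S.X₄,
      ∀ n : ℤ,
        (ComposableArrows.mk₂
          (AddCommGrpCat.ofHom ((CohCx.HDUres K n S.f₂₄).prod (CohCx.HDUres K n S.f₃₄)))
          (AddCommGrpCat.ofHom ((CohCx.HDUres K n S.f₁₂).coprod (-(CohCx.HDUres K n S.f₁₃))))).Exact ∧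
        (ComposableArrows.mk₂
          (AddCommGrpCat.ofHom ((CohCx.HDUres K n S.f₁₂).coprod (-(CohCx.HDUres K n S.f₁₃))))
          (AddCommGrpCat.ofHom (δ n))).Exact ∧
        (ComposableArrows.mk₂ (AddCommGrpCat.ofHom (δ n))
          (AddCommGrpCat.ofHom ((CohCx.HDUres K (n + 1) S.f₂₄).prod (CohCx.HDUres K (n + 1) S.f₃₄)))).Exact := by
  let hS := S.shortComplex_shortExact
  have hT : hS.singleTriangle ∈ Pretriangulated.distinguishedTriangles :=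
    hS.singleTriangle_distinguished
  let sF := DerivedCategory.singleFunctor (Sheaf J AddCommGrpCat.{u}) 0
  let Z₂ := CohCx.freeSheaf J S.X₂
  let Z₃ := CohCx.freeSheaf J S.X₃
  have h22 : sF.map (biprod.inl : Z₂ ⟶ Z₂ ⊞ Z₃) ≫ sF.map biprod.fst = 𝟙 _ :=
    (sF.map_comp _ _).symm.trans ((congrArg sF.map (biprod.inl_fst : (biprod.inl : Z₂ ⟶ Z₂ ⊞ Z₃) ≫ biprod.fst = 𝟙 _)).trans (sF.map_id _))
  have h33 : sF.map (biprod.inr : Z₃ ⟶ Z₂ ⊞ Z₃) ≫ sF.map biprod.snd = 𝟙 _ :=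
    (sF.map_comp _ _).symm.trans ((congrArg sF.map (biprod.inr_snd : (biprod.inr : Z₃ ⟶ Z₂ ⊞ Z₃) ≫ biprod.snd = 𝟙 _)).trans (sF.map_id _))
  have h23 : sF.map (biprod.inl : Z₂ ⟶ Z₂ ⊞ Z₃) ≫ sF.map biprod.snd = 0 :=
    (sF.map_comp _ _).symm.trans ((congrArg sF.map (biprod.inl_snd : (biprod.inl : Z₂ ⟶ Z₂ ⊞ Z₃) ≫ biprod.snd = 0)).trans (sF.map_zero Z₂ Z₃))
  have h32 : sF.map (biprod.inr : Z₃ ⟶ Z₂ ⊞ Z₃) ≫ sF.map biprod.fst = 0 :=
    (sF.map_comp _ _).symm.trans ((congrArg sF.map (biprod.inr_fst : (biprod.inr : Z₃ ⟶ Z₂ ⊞ Z₃) ≫ biprod.fst = 0)).trans (sF.map_zero Z₃ Z₂))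
  have htot : sF.map (biprod.fst : Z₂ ⊞ Z₃ ⟶ Z₂) ≫ sF.map biprod.inl +
      sF.map (biprod.snd : Z₂ ⊞ Z₃ ⟶ Z₃) ≫ sF.map biprod.inr = 𝟙 _ := by
    have e1 := sF.map_comp (biprod.fst : Z₂ ⊞ Z₃ ⟶ Z₂) (biprod.inl : Z₂ ⟶ Z₂ ⊞ Z₃)
    have e2 := sF.map_comp (biprod.snd : Z₂ ⊞ Z₃ ⟶ Z₃) (biprod.inr : Z₃ ⟶ Z₂ ⊞ Z₃)
    have e3 := sF.map_add (f := (biprod.fst : Z₂ ⊞ Z₃ ⟶ Z₂) ≫ (biprod.inl : Z₂ ⟶ Z₂ ⊞ Z₃))
      (g := (biprod.snd : Z₂ ⊞ Z₃ ⟶ Z₃) ≫ (biprod.inr : Z₃ ⟶ Z₂ ⊞ Z₃))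
    rw [← e1, ← e2, ← e3]
    exact (congrArg sF.map biprod.total).trans (sF.map_id _)
  have h12 : hS.singleTriangle.mor₁ ≫ sF.map (biprod.fst : Z₂ ⊞ Z₃ ⟶ Z₂) =
      sF.map (CohCx.freeSheafMap J S.f₁₂) :=
    (sF.map_comp S.shortComplex.f (biprod.fst : Z₂ ⊞ Z₃ ⟶ Z₂)).symm.trans
      (congrArg sF.map (biprod.lift_fst _ _))
  have h13 : hS.singleTriangle.mor₁ ≫ sF.map (biprod.snd : Z₂ ⊞ Z₃ ⟶ Z₃) =
      -sF.map (CohCx.freeSheafMap J S.f₁₃) :=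
    (sF.map_comp S.shortComplex.f (biprod.snd : Z₂ ⊞ Z₃ ⟶ Z₃)).symm.trans
      ((congrArg sF.map (biprod.lift_snd _ _)).trans sF.map_neg)
  have h24 : sF.map (biprod.inl : Z₂ ⟶ Z₂ ⊞ Z₃) ≫ hS.singleTriangle.mor₂ =
      sF.map (CohCx.freeSheafMap J S.f₂₄) :=
    (sF.map_comp (biprod.inl : Z₂ ⟶ Z₂ ⊞ Z₃) S.shortComplex.g).symm.trans
      (congrArg sF.map (biprod.inl_desc _ _))
  have h34 : sF.map (biprod.inr : Z₃ ⟶ Z₂ ⊞ Z₃) ≫ hS.singleTriangle.mor₂ =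
      sF.map (CohCx.freeSheafMap J S.f₃₄) :=
    (sF.map_comp (biprod.inr : Z₃ ⟶ Z₂ ⊞ Z₃) S.shortComplex.g).symm.trans
      (congrArg sF.map (biprod.inr_desc _ _))
  refine ⟨fun n => Groth.Agent.H42.TriangleLES.δ hS.singleTriangle K n, fun n => ⟨?_, ?_, ?_⟩⟩
  · exact Groth.Agent.H42.TriangleLES.exact₁ hT K _ _ _ _ h22 h33 h23 h32 htot _ _ _ _
      h12 h13 h24 h34 n
  · exact Groth.Agent.H42.TriangleLES.exact₂ hT K _ _ _ _ h22 h33 h23 h32 htot _ _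
      h12 h13 n
  · exact Groth.Agent.H42.TriangleLES.exact₃ hT K _ _ _ _ htot _ _ h24 h34 n

end Groth.Agent.S0876
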