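import Groth.Statements.S0883
-- import your own Groth.Agent.* helpers here
import Groth.Agent.H5.HDU.Nat
import Groth.Agent.H5.KInj.Derives
import Groth.Agent.H45.CohTopPush
import Groth.Agent.H3.KInj
import Mathlib.Algebra.Homology.Factorizations.CM5a

set_option autoImplicit false
universe u
universe v' u'
open CategoryTheory
open CohTop

namespace Groth.Agent.S0883

open Groth.Agent.H5.HDULib Groth.Agent.H5.KInjDer TopologicalSpace Limits Opposite

section Abstract

variable {A : Type u'} [Category.{v'} A] [Abelian A] [EnoughInjectives A]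

/-- A K-injective complex which is exact in negative degrees is homotopy equivalent to a
complex concentrated in nonnegative degrees. -/
theorem exists_homotopyEquiv_strictlyGE (L : CochainComplex A ℤ) [L.IsKInjective]
    (hL : ∀ n : ℤ, n < 0 → L.ExactAt n) :
    ∃ (I' : CochainComplex A ℤ), I'.IsStrictlyGE 0 ∧ Nonempty (HomotopyEquiv L I') := by
  haveI : L.IsGE 0 := (L.isGE_iff 0).2 hL
  haveI : QuasiIso (L.πTruncGE 0) := (L.quasiIso_πTruncGE_iff 0).2 inferInstance
  obtain ⟨I', i, hi, hinj, hge⟩ :=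
    CochainComplex.Plus.modelCategoryQuillen.exists_quasiIso_injective (L.truncGE 0) 0
  haveI := hinj
  haveI := hge
  haveI := hi
  haveI : I'.IsKInjective := CochainComplex.isKInjective_of_injective I' 0
  haveI : QuasiIso (L.πTruncGE 0 ≫ i) := inferInstance
  obtain ⟨e, _⟩ := (CochainComplex.IsKInjective.quasiIso_iff (L.πTruncGE 0 ≫ i)).1 inferInstance
  exact ⟨I', hge, ⟨e⟩⟩

end Abstract

section Aux

variable {X Y : TopCat.{u}} (f : X ⟶ Y)

/-- The termwise direct image of a complex of abelian sheaves. -/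
noncomputable abbrev pushCx (I : CochainComplex (CohTop.Ab X) ℤ) : CochainComplex (CohTop.Ab Y) ℤ :=
  ((CohTop.push f).mapHomologicalComplex (ComplexShape.up ℤ)).obj I

theorem isKInjective_pushCx (I : CochainComplex (CohTop.Ab X) ℤ) [hI : I.IsKInjective] :
    (pushCx f I).IsKInjective := by
  haveI := Groth.Agent.H45.CohTopPush.preservesFiniteLimits_pull f
  haveI : PreservesFiniteColimits (CohTop.pull f) := by
    haveI := (Groth.Agent.H45.CohTopPush.pullPushAdj f).leftAdjoint_preservesColimits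
    infer_instance
  exact Groth.Agent.H3.isKInjective_of_rightAdjoint (CohTop.push f) (CohTop.pull f)
    (Groth.Agent.H45.CohTopPush.pullPushAdj f) I hI

theorem secExact_pushCx_iff (I : CochainComplex (CohTop.Ab X) ℤ) (n : ℤ) (V : Opens Y) :
    SecExact (Opens.grothendieckTopology Y) (pushCx f I) n V ↔
      SecExact (Opens.grothendieckTopology X) I n ((Opens.map f).obj V) := Iff.rfl

/-- Exactness of a complex of sheaves can be checked on sections over a basis. -/
theorem exactAt_of_basis (L : CochainComplex (CohTop.Ab Y) ℤ) (B : Set (Opens Y))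
    (hB : Opens.IsBasis B) (n : ℤ)
    (h : ∀ V ∈ B, SecExact (Opens.grothendieckTopology Y) L n V) : L.ExactAt n := by
  rw [HomologicalComplex.exactAt_iff' L (n - 1) n (n + 1) (by simp) (by simp)]
  apply exact_of_locally
  intro V (t : (L.X n).obj.obj (op V))
    (ht : sec (Opens.grothendieckTopology Y) (L.d n (n + 1)) V t = 0)
  let R : Sieve V :=
    { arrows := fun W _ => ∃ W' ∈ B, W ≤ W' ∧ W' ≤ V
      downward_closed := by
        rintro W₁ W₂ i ⟨W', hW', h1, h2⟩ j
        exact ⟨W', hW', j.le.trans h1, h2⟩ }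
  refine ⟨R, ?_, ?_⟩
  · intro x hx
    obtain ⟨W', hW', hxW', hW'V⟩ := Opens.isBasis_iff_nbhd.1 hB hx
    exact ⟨W', homOfLE hW'V, ⟨W', hW', le_rfl, hW'V⟩, hxW'⟩
  · rintro W i ⟨W', hW', h1, h2⟩
    have hi : i = homOfLE h1 ≫ homOfLE h2 := Subsingleton.elim _ _
    let t' : (L.X n).obj.obj (op W') := ((L.X n).obj.map (homOfLE h2).op).hom t
    have ht' : sec (Opens.grothendieckTopology Y) (L.d n (n + 1)) W' t' = 0 := by
      change sec _ (L.d n (n + 1)) W' (((L.X n).obj.map (homOfLE h2).op).hom t) = 0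
      rw [sec_map]
      change ((L.X (n + 1)).obj.map (homOfLE h2).op).hom
        (sec (Opens.grothendieckTopology Y) (L.d n (n + 1)) V t) = 0
      rw [ht, map_zero]
    obtain ⟨r', hr'⟩ := h W' hW' t' ht'
    refine ⟨((L.X (n - 1)).obj.map (homOfLE h1).op).hom r', ?_⟩
    change sec _ (L.d (n - 1) n) W (((L.X (n - 1)).obj.map (homOfLE h1).op).hom r') =
      ((L.X n).obj.map i.op).hom t
    rw [sec_map, hr', hi, op_comp, Functor.map_comp]
    rfl

end Aux

section Main

variable {X Y : TopCat.{u}} (f : X ⟶ Y)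

/-- If `f_* I` is homotopy equivalent to a complex in nonnegative degrees, its sections are exact in
negative degrees. -/
theorem secExact_of_homotopyEquiv (L I' : CochainComplex (CohTop.Ab Y) ℤ) [I'.IsStrictlyGE 0]
    (e : HomotopyEquiv L I') (n : ℤ) (hn : n < 0) (V : Opens Y) :
    SecExact (Opens.grothendieckTopology Y) L n V := by
  intro t ht
  have hφ0 : e.hom.f n = 0 := (I'.isZero_of_isStrictlyGE 0 n hn).eq_of_tgt _ _
  have hc := e.homotopyHomInvId.comm n
  rw [dNext_eq e.homotopyHomInvId.hom (show (ComplexShape.up ℤ).Rel n (n + 1) from rfl),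
    prevD_eq e.homotopyHomInvId.hom (show (ComplexShape.up ℤ).Rel (n - 1) n from by simp),
    HomologicalComplex.comp_f, hφ0, zero_comp, HomologicalComplex.id_f] at hc
  have hc' : sec (Opens.grothendieckTopology Y) (0 : L.X n ⟶ L.X n) V t =
      sec (Opens.grothendieckTopology Y) (L.d n (n + 1) ≫ e.homotopyHomInvId.hom (n + 1) n +
        e.homotopyHomInvId.hom n (n - 1) ≫ L.d (n - 1) n + 𝟙 (L.X n)) V t := by rw [← hc]
  rw [sec_add, sec_add, sec_comp, sec_comp, sec_id, sec_zero, ht, map_zero, zero_add] at hc'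
  refine ⟨-(sec (Opens.grothendieckTopology Y) (e.homotopyHomInvId.hom n (n - 1)) V t), ?_⟩
  rw [map_neg]
  exact neg_eq_of_add_eq_zero_right hc'.symm

variable [HasDerivedCategory.{u} (CohTop.Ab X)]

theorem isSheaf_of_homotopyEquiv (I : CochainComplex (CohTop.Ab X) ℤ) [I.IsKInjective]
    (I' : CochainComplex (CohTop.Ab Y) ℤ) [I'.IsStrictlyGE 0] (e : HomotopyEquiv (pushCx f I) I') :
    Presheaf.IsSheaf (Opens.grothendieckTopology Y)
      ((Opens.map f).op ⋙ CohCx.HDUPresheaf (DerivedCategory.Q.obj I) 0) := by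
  let JX := Opens.grothendieckTopology X
  let JY := Opens.grothendieckTopology Y
  let L := pushCx f I
  let ZI : CohTop.Ab X := kernel (I.d 0 1)
  let ιX : ZI ⟶ I.X 0 := kernel.ι (I.d 0 1)
  let Z' : CohTop.Ab Y := kernel (I'.d 0 1)
  let ι' : Z' ⟶ I'.X 0 := kernel.ι (I'.d 0 1)
  have hz : IsZero (I'.X (-1)) := I'.isZero_of_isStrictlyGE 0 (-1) (by simp)
  -- the three identities
  have E1 : ι' ≫ e.inv.f 0 ≫ e.hom.f 0 = ι' := by
    have hc := e.homotopyInvHomId.comm 0
    rw [dNext_eq e.homotopyInvHomId.hom (show (ComplexShape.up ℤ).Rel 0 1 from rfl),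
      prevD_eq e.homotopyInvHomId.hom (show (ComplexShape.up ℤ).Rel (-1) 0 from by simp),
      HomologicalComplex.comp_f, HomologicalComplex.id_f,
      hz.eq_of_tgt (e.homotopyInvHomId.hom 0 (-1)) 0, zero_comp, add_zero] at hc
    rw [hc, Preadditive.comp_add, Category.comp_id, kernel.condition_assoc, zero_comp, zero_add]
  have E2 : L.d (-1) 0 ≫ e.hom.f 0 = 0 := by
    rw [← e.hom.comm (-1) 0, hz.eq_of_tgt (e.hom.f (-1)) 0, zero_comp]
  have E3 : e.hom.f 0 ≫ e.inv.f 0 = L.d 0 1 ≫ e.homotopyHomInvId.hom 1 0 +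
      e.homotopyHomInvId.hom 0 (-1) ≫ L.d (-1) 0 + 𝟙 (L.X 0) := by
    have hc := e.homotopyHomInvId.comm 0
    rw [dNext_eq e.homotopyHomInvId.hom (show (ComplexShape.up ℤ).Rel 0 1 from rfl),
      prevD_eq e.homotopyHomInvId.hom (show (ComplexShape.up ℤ).Rel (-1) 0 from by simp),
      HomologicalComplex.comp_f, HomologicalComplex.id_f] at hc
    exact hc
  -- the comparison map
  have w : (ι' ≫ e.inv.f 0) ≫ (CohTop.push f).map (I.d 0 1) = 0 := by
    change (ι' ≫ e.inv.f 0) ≫ L.d 0 1 = 0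
    rw [Category.assoc, e.inv.comm 0 1, kernel.condition_assoc, zero_comp]
  haveI : PreservesFiniteLimits (CohTop.push f) := by
    haveI := (Groth.Agent.H45.CohTopPush.pullPushAdj f).rightAdjoint_preservesLimits
    infer_instance
  have hlim := KernelFork.mapIsLimit _ (kernelIsKernel (I.d 0 1)) (CohTop.push f)
  let κ : Z' ⟶ (CohTop.push f).obj ZI := hlim.lift (KernelFork.ofι (ι' ≫ e.inv.f 0) w)
  have hκ : κ ≫ (CohTop.push f).map ιX = ι' ≫ e.inv.f 0 :=
    hlim.fac (KernelFork.ofι (ι' ≫ e.inv.f 0) w) WalkingParallelPair.zero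
  have hκs : ∀ (V : Opens Y) (s : Z'.obj.obj (op V)),
      sec JX ιX ((Opens.map f).obj V) (sec JY κ V s) = sec JY (e.inv.f 0) V (sec JY ι' V s) := by
    intro V s
    change sec JY (κ ≫ (CohTop.push f).map ιX) V s = _
    rw [hκ]
    rfl
  let Φ : Z'.obj ⟶ (Opens.map f).op ⋙ CohCx.HDUPresheaf (DerivedCategory.Q.obj I) 0 :=
    (show Z'.obj ⟶ (Opens.map f).op ⋙ ZI.obj from κ.hom) ≫
      Functor.whiskerLeft (Opens.map f).op (clM JX I)
  have hΦ : ∀ (V : Opens Y) (s : Z'.obj.obj (op V)), (Φ.app (op V)).hom s =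
      ((clM JX I).app (op ((Opens.map f).obj V))).hom (sec JY κ V s) := fun V s => rfl
  have hbij : ∀ V : Opens Y, Function.Bijective (Φ.app (op V)).hom := by
    intro V
    constructor
    · rw [injective_iff_map_eq_zero]
      intro s hs
      rw [hΦ, clM_eq_zero_iff] at hs
      obtain ⟨r, hr⟩ := hs
      rw [hκs] at hr
      have h1 := congrArg (sec JY (e.hom.f 0) V) hr
      have h2 : sec JY (e.hom.f 0) V (sec JX (I.d (-1) 0) ((Opens.map f).obj V) r) = 0 := by
        change sec JY (L.d (-1) 0 ≫ e.hom.f 0) V r = 0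
        rw [E2, sec_zero]
      rw [h2, ← sec_comp, ← sec_comp, E1] at h1
      apply sec_injective_of_mono JY ι' V
      rw [← h1, map_zero]
    · intro y
      obtain ⟨s₁, hs₁⟩ := clM_surjective JX I ((Opens.map f).obj V) y
      let t : (L.X 0).obj.obj (op V) := sec JX ιX ((Opens.map f).obj V) s₁
      have ht : sec JY (L.d 0 1) V t = 0 :=
        sec_kernel_condition JX (I.d 0 1) ((Opens.map f).obj V) s₁
      have hs₀ : sec JY (I'.d 0 1) V (sec JY (e.hom.f 0) V t) = 0 := by
        rw [← sec_comp, e.hom.comm 0 1, sec_comp, ht, map_zero]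
      obtain ⟨s, hs⟩ := exists_sec_kernel JY (I'.d 0 1) V _ hs₀
      refine ⟨s, ?_⟩
      rw [← hs₁, ← sub_eq_zero, hΦ, ← map_sub, clM_eq_zero_iff]
      refine ⟨sec JY (e.homotopyHomInvId.hom 0 (-1)) V t, ?_⟩
      rw [map_sub, hκs, hs, ← sec_comp, E3, sec_add, sec_add, sec_comp, sec_comp, sec_id, ht,
        map_zero, zero_add]
      change _ = _ + t - t
      rw [add_sub_cancel_right]
      rfl
  haveI : ∀ V : (Opens Y)ᵒᵖ, IsIso (Φ.app V) := by
    intro V
    rw [ConcreteCategory.isIso_iff_bijective]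
    exact hbij V.unop
  haveI : IsIso Φ := NatIso.isIso_of_isIso_app Φ
  exact (Presheaf.isSheaf_of_iso_iff (asIso Φ)).1 Z'.property

end Main

open TopologicalSpace in
/-- Part (1) (abelian sheaves; the assertion about Rf_* K is not included): given a continuous map f : X
-> Y, a basis B of opens of Y and an object K of the derived category of abelian sheaves on X such
that H^i(f^{-1}V, K) = 0 for all i < 0 and V in B. Then H^i(f^{-1}V, K) = 0 for i < 0 and every open
V of Y, and the presheaf V ↦ H^0(f^{-1}V, K) is a sheaf on Y. -/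
theorem result {X Y : TopCat.{u}} (f : X ⟶ Y)
    [HasDerivedCategory.{u} (CohTop.Ab X)] (B : Set (Opens Y)) (hB : Opens.IsBasis B)
    (K : DerivedCategory (CohTop.Ab X))
    (h : ∀ V ∈ B, ∀ i : ℤ, i < 0 → Subsingleton (CohCx.HDU K i ((Opens.map f).obj V))) :
    (∀ (V : Opens Y) (i : ℤ), i < 0 → Subsingleton (CohCx.HDU K i ((Opens.map f).obj V))) ∧
    Presheaf.IsSheaf (Opens.grothendieckTopology Y) ((Opens.map f).op ⋙ CohCx.HDUPresheaf K 0) := by
  let K₀ := DerivedCategory.Q.objPreimage K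
  let eK : DerivedCategory.Q.obj K₀ ≅ K := DerivedCategory.Q.objObjPreimageIso K
  let I : CochainComplex (CohTop.Ab X) ℤ := (ρ₀ (CohTop.Ab X)).obj K₀
  haveI hI : I.IsKInjective := ρ₀_kinj (CohTop.Ab X) K₀
  have hι : QuasiIso ((ι (CohTop.Ab X)).app K₀) :=
    (HomologicalComplex.mem_quasiIso_iff _).1 (ι_mem (CohTop.Ab X) K₀)
  have hQι : IsIso (DerivedCategory.Q.map ((ι (CohTop.Ab X)).app K₀)) :=
    (DerivedCategory.isIso_Q_map_iff_quasiIso _ _).2 hι
  let eI : DerivedCategory.Q.obj I ≅ K := (@asIso _ _ _ _ _ hQι).symm ≪≫ eK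
  haveI hL : (pushCx f I).IsKInjective := isKInjective_pushCx f I
  have hex : ∀ n : ℤ, n < 0 → (pushCx f I).ExactAt n := by
    intro n hn
    apply exactAt_of_basis (pushCx f I) B hB n
    intro V hV
    rw [secExact_pushCx_iff]
    exact (subsingleton_HDU_iff (Opens.grothendieckTopology X) I K eI n _).1 (h V hV n hn)
  obtain ⟨I', hI', ⟨e⟩⟩ := exists_homotopyEquiv_strictlyGE (A := CohTop.Ab Y) (pushCx f I) hex
  haveI := hI'
  refine ⟨fun V n hn => ?_, ?_⟩
  · rw [subsingleton_HDU_iff (Opens.grothendieckTopology X) I K eI n _, ← secExact_pushCx_iff]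
    exact secExact_of_homotopyEquiv (pushCx f I) I' e n hn V
  · have h1 := isSheaf_of_homotopyEquiv f I I' e
    refine (Presheaf.isSheaf_of_iso_iff ?_).1 h1
    exact Functor.isoWhiskerLeft (Opens.map f).op (Functor.isoWhiskerLeft
      (G (Opens.grothendieckTopology X)).op (preadditiveYoneda.mapIso
        ((shiftFunctor (DerivedCategory (CohTop.Ab X)) (0 : ℤ)).mapIso eI)))

end Groth.Agent.S0883
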