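import Groth.Statements.S0886
import Groth.Agent.H45.SitePush

set_option autoImplicit false
universe u
open CategoryTheory
open CohSite

namespace Groth.Agent.S0886

open CategoryTheory.Limits in
/-- Let u : C → D be a functor between sites which is cocontinuous, continuous (it sends coverings to
coverings and commutes with fibre products, which exist in C), fully faithful, and sends a final
object of C to a final object of D. For an abelian sheaf F on D let g^{-1}F be the sheaf U ↦ F(u(U))
on C. Then H^p(C, g^{-1}F) ≅ H^p(D, F) for all p. This is the comparison of global cohomology; the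
comparison object by object holds under weaker hypotheses and is a separate statement. -/
theorem result {C D : Type u} [SmallCategory C] [SmallCategory D]
    (J : GrothendieckTopology C) (K : GrothendieckTopology D) (u : C ⥤ D)
    [u.IsCocontinuous J K] [u.IsContinuous J K] (hu : CoverPreserving J K u) [u.Full] [u.Faithful]
    [HasPullbacks C] [PreservesLimitsOfShape WalkingCospan u]
    [HasTerminal C] [PreservesLimit (Functor.empty.{0} C) u]
    (F : Sheaf K AddCommGrpCat.{u}) (p : ℕ) :
    Nonempty (Sheaf.H ((CohSite.push K J u).obj F) p ≃+ Sheaf.H F p) := by
  haveI : HasFiniteLimits C := hasFiniteLimits_of_hasTerminal_and_pullbacks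
  haveI : PreservesLimitsOfShape (Discrete.{0} PEmpty) u :=
    preservesLimitsOfShape_pempty_of_preservesTerminal u
  haveI : PreservesFiniteLimits u := preservesFiniteLimits_of_preservesTerminal_and_pullbacks u
  haveI : RepresentablyFlat u := flat_of_preservesFiniteLimits u
  haveI : PreservesFiniteLimits (CohSite.push K J u) := by
    haveI := (Groth.Agent.H45.SitePush.pullPushAdj J K u).rightAdjoint_preservesLimits
    infer_instance
  haveI : PreservesFiniteColimits (CohSite.push K J u) := by
    haveI := (u.sheafAdjunctionCocontinuous AddCommGrpCat.{u} J K).leftAdjoint_preservesColimits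
    infer_instance
  exact Groth.Agent.H45.SitePush.nonempty_H_addEquiv_push J K u terminalIsTerminal
    (IsTerminal.isTerminalObj u _ terminalIsTerminal) F
    (fun i hi => Groth.Agent.H45.ExtAdj.isZero_rightDerived_of_exact (CohSite.push K J u) F i hi) p

end Groth.Agent.S0886
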