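import Groth.Statements.S0891
import Groth.Agent.H53.FinLocFreeSlice
import Groth.Agent.H53.SheafDual3
import Groth.Agent.H31.FlatSite

set_option autoImplicit false
universe u
open CategoryTheory
open Coh

namespace Groth.Agent.S0891

open AlgebraicGeometry in
/-- On a scheme X, let I be an injective 𝒪_X-module and E a finite locally free 𝒪_X-module. Then E ⊗ I
is an injective 𝒪_X-module. (The published statement is for ringed spaces; it is stated here for
schemes.) -/
theorem result {X : Scheme.{u}} (I E : X.Modules) [Injective I]
    (hE : FlatMod.IsFinLocFree E) : Injective (CohB1.tensorMod E I) := by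
  have hEF := Groth.Agent.H53.FinLocFreeSlice.locFinFree_of_isFinLocFree E hE
  haveI : Injective (show ModSite.Mod X.sheaf from I) := ‹Injective I›
  have h := Groth.Agent.H53.SheafDual.injective_tensor_locFinFree (O := X.sheaf) E I hEF
  exact Injective.of_iso ((Groth.Agent.H31.braidIso (O := X.sheaf) E).app I).symm h

end Groth.Agent.S0891
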