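import Groth.Statements.S0898
-- import your own Groth.Agent.* helpers here

set_option autoImplicit false
universe u
open CategoryTheory
open Hyper

namespace Groth.Agent.S0898

section helpers

open CategoryTheory.Limits

variable {C : Type u} [SmallCategory C]

/-- Membership in the sieve used in the definition of `IsSRCovering`. -/
lemma mem_iff {K L : FormalCoproduct.{u} C} (f : K ⟶ L) (j : L.I) {Y : C} (h : Y ⟶ L.obj j) :
    (Sieve.ofArrows (fun i : {i : K.I // f.f i = j} => K.obj i.1)
      (fun i => f.φ i.1 ≫ eqToHom (congrArg L.obj i.2))).arrows h ↔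
    ∃ (i : K.I) (hi : f.f i = j) (a : Y ⟶ K.obj i),
      h = a ≫ f.φ i ≫ eqToHom (congrArg L.obj hi) := by
  rw [Sieve.mem_ofArrows_iff]
  constructor
  · rintro ⟨⟨i, hi⟩, a, ha⟩
    exact ⟨i, hi, a, ha⟩
  · rintro ⟨i, hi, a, ha⟩
    exact ⟨⟨i, hi⟩, a, ha⟩

/-- Composition of coverings is a covering. -/
lemma comp_cov (J : GrothendieckTopology C) {K L M : FormalCoproduct.{u} C} (f : K ⟶ L) (g : L ⟶ M)
    (hf : Hyper.IsSRCovering J f) (hg : Hyper.IsSRCovering J g) :
    Hyper.IsSRCovering J (f ≫ g) := by
  intro m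
  refine J.transitive (hg m) _ ?_
  intro Y h hh
  rw [mem_iff] at hh
  obtain ⟨j, hj, a, rfl⟩ := hh
  subst hj
  refine J.superset_covering ?_ (J.pullback_stable a (hf j))
  intro Z b hb
  rw [Sieve.pullback_apply, mem_iff] at hb
  obtain ⟨i, hi, c, hc⟩ := hb
  subst hi
  rw [Sieve.pullback_apply, mem_iff]
  refine ⟨i, rfl, c, ?_⟩
  simp only [eqToHom_refl, Category.comp_id] at hc ⊢
  rw [← Category.assoc, hc]
  simp

/-- An isomorphism is a covering. -/
lemma iso_cov (J : GrothendieckTopology C) {A B : FormalCoproduct.{u} C} (e : A ≅ B) :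
    Hyper.IsSRCovering J e.hom := by
  intro j
  have hcomp : e.inv ≫ e.hom = 𝟙 B := e.inv_hom_id
  obtain ⟨h₁, h₂⟩ := (FormalCoproduct.hom_ext_iff _ _).1 hcomp
  have hj : e.hom.f (e.inv.f j) = j := congrFun h₁ j
  have key : (Sieve.ofArrows (fun i : {i : A.I // e.hom.f i = j} => A.obj i.1)
      (fun i => e.hom.φ i.1 ≫ eqToHom (congrArg B.obj i.2))).arrows (𝟙 (B.obj j)) := by
    rw [mem_iff]
    refine ⟨e.inv.f j, hj, e.inv.φ j, ?_⟩
    have := h₂ j
    simp only [FormalCoproduct.category_comp_φ, FormalCoproduct.category_id_φ,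
      Category.assoc] at this
    exact this.symm
  rw [Sieve.id_mem_iff_eq_top] at key
  rw [key]
  exact J.top_mem _

/-- The first projection of the explicit pullback cone is a covering. -/
lemma explicit_cov [HasPullbacks C] (J : GrothendieckTopology C) {K L L' : FormalCoproduct.{u} C}
    (f : K ⟶ L) (g : L' ⟶ L) (hf : Hyper.IsSRCovering J f) :
    Hyper.IsSRCovering J
      (FormalCoproduct.pullbackCone g f (fun _ => pullback.cone _ _)).fst := by
  intro j'
  refine J.superset_covering ?_ (J.pullback_stable (g.φ j') (hf (g.f j')))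
  intro Y h hh
  rw [Sieve.pullback_apply, mem_iff] at hh
  obtain ⟨i, hi, a, ha⟩ := hh
  rw [mem_iff]
  have hcond : h ≫ (g.φ j' ≫ eqToHom (congrArg L.obj hi.symm)) = a ≫ f.φ i := by
    rw [← Category.assoc, ha]
    simp
  refine ⟨⟨(j', i), hi.symm⟩, rfl, pullback.lift h a hcond, ?_⟩
  have h1 : pullback.lift h a hcond ≫
      pullback.fst (g.φ j' ≫ eqToHom (congrArg L.obj hi.symm)) (f.φ i) = h :=
    pullback.lift_fst _ _ _
  have h2 : pullback.lift h a hcond ≫
      pullback.fst (g.φ j' ≫ eqToHom (congrArg L.obj hi.symm)) (f.φ i) ≫ 𝟙 _ = h := by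
    rw [Category.comp_id, h1]
  exact h2.symm

end helpers

open CategoryTheory.Limits in
/-- Parts (1) and (2), about covering morphisms between semi-representable objects (formal coproducts)
of a site: (1) the composite of two covering morphisms is a covering, and (2) for a site with fibre
products, the base change of a covering K -> L along any L' -> L (which exists) is a covering L' x_L
K -> L'. -/
theorem result {C : Type u} [SmallCategory C] (J : GrothendieckTopology C) :
    (∀ {K L M : FormalCoproduct.{u} C} (f : K ⟶ L) (g : L ⟶ M),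
      Hyper.IsSRCovering J f → Hyper.IsSRCovering J g → Hyper.IsSRCovering J (f ≫ g)) ∧
    (∀ [HasPullbacks C] {K L L' : FormalCoproduct.{u} C} (f : K ⟶ L) (g : L' ⟶ L),
      Hyper.IsSRCovering J f → HasPullback g f ∧ ∀ [HasPullback g f], Hyper.IsSRCovering J (pullback.fst g f)) := by
  refine ⟨fun f g hf hg => comp_cov J f g hf hg, ?_⟩
  intro _ K L L' f g hf
  refine ⟨inferInstance, ?_⟩
  intro _
  let P := FormalCoproduct.pullbackCone g f (fun _ => pullback.cone _ _)
  have hP : IsLimit P := FormalCoproduct.isLimitPullbackCone g f _ (fun _ => pullback.isLimit _ _)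
  let e : pullback g f ≅ P.pt := (pullbackIsPullback g f).conePointUniqueUpToIso hP
  have he : pullback.fst g f = e.hom ≫ P.fst := by
    have := IsLimit.conePointUniqueUpToIso_hom_comp (pullbackIsPullback g f) hP WalkingCospan.left
    exact this.symm
  rw [he]
  exact comp_cov J _ _ (iso_cov J e) (explicit_cov J f g hf)

end Groth.Agent.S0898
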