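import Groth.Statements.S0901
import Mathlib
import Groth.Agent.H67.CechTop2

set_option autoImplicit false
universe u
open CategoryTheory
open CohTop

namespace Groth.Agent.S0901

open TopologicalSpace Opposite CategoryTheory.Limits Groth.Agent.H67

section helpers

variable {X : TopCat.{u}} {ι : Type u} (U : ι → Opens X)

/-- Points of the union of the family, as a fresh type that will carry the coarse topology. -/
structure Pt : Type u where
  /-- the underlying point of the union -/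
  val : ↥(iSup U)

/-- The subset of the union attached to a family of tuples of indices. -/
def cell (κ : Type u) (a : κ → Σ p : ℕ, Fin (p + 1) → ι) : Set (Pt U) :=
  {x | ∃ k, ∀ j, x.val.1 ∈ U ((a k).2 j)}

lemma mem_cell {κ : Type u} {a : κ → Σ p : ℕ, Fin (p + 1) → ι} {x : Pt U} :
    x ∈ cell U κ a ↔ ∃ k, ∀ j, x.val.1 ∈ U ((a k).2 j) := Iff.rfl

lemma forall_append {m n : ℕ} (P : ι → Prop) (f : Fin m → ι) (g : Fin n → ι) :
    (∀ j : Fin (m + n), P (Fin.append f g j)) ↔ (∀ j, P (f j)) ∧ (∀ j, P (g j)) := by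
  constructor
  · intro h
    refine ⟨fun j => ?_, fun j => ?_⟩
    · have := h (Fin.castAdd n j)
      rwa [Fin.append_left] at this
    · have := h (Fin.natAdd m j)
      rwa [Fin.append_right] at this
  · rintro ⟨h1, h2⟩ j
    induction j using Fin.addCases with
    | left i => rw [Fin.append_left]; exact h1 i
    | right i => rw [Fin.append_right]; exact h2 i

/-- Concatenation of two tuples of indices. -/
def join (s t : Σ p : ℕ, Fin (p + 1) → ι) : Σ p : ℕ, Fin (p + 1) → ι :=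
  ⟨s.1 + 1 + t.1, fun j => Fin.append s.2 t.2
    (Fin.cast (by omega : s.1 + 1 + t.1 + 1 = s.1 + 1 + (t.1 + 1)) j)⟩

lemma forall_join (P : ι → Prop) (s t : Σ p : ℕ, Fin (p + 1) → ι) :
    (∀ j, P ((join s t).2 j)) ↔ (∀ j, P (s.2 j)) ∧ (∀ j, P (t.2 j)) := by
  rw [← forall_append P s.2 t.2]
  constructor
  · intro h j
    have h' := h (Fin.cast (by omega : s.1 + 1 + (t.1 + 1) = s.1 + 1 + t.1 + 1) j)
    have e : Fin.cast (by omega : s.1 + 1 + t.1 + 1 = s.1 + 1 + (t.1 + 1))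
        (Fin.cast (by omega : s.1 + 1 + (t.1 + 1) = s.1 + 1 + t.1 + 1) j) = j := Fin.ext rfl
    rw [← e]
    exact h'
  · intro h j
    exact h _

/-- The coarse topology on the union: opens are unions of finite intersections of members of the
family. -/
instance coarse : TopologicalSpace (Pt U) where
  IsOpen s := ∃ (κ : Type u) (a : κ → Σ p : ℕ, Fin (p + 1) → ι), s = cell U κ a
  isOpen_univ := by
    refine ⟨ι, fun i => ⟨0, fun _ => i⟩, ?_⟩
    ext x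
    simp only [Set.mem_univ, true_iff]
    obtain ⟨i, hi⟩ := Opens.mem_iSup.1 x.val.2
    exact ⟨i, fun _ => hi⟩
  isOpen_inter := by
    intro s t hs ht
    obtain ⟨κ, a, rfl⟩ := hs
    obtain ⟨κ', a', rfl⟩ := ht
    refine ⟨κ × κ', fun kl => join (a kl.1) (a' kl.2), ?_⟩
    ext x
    constructor
    · rintro ⟨⟨k, hk⟩, ⟨l, hl⟩⟩
      exact ⟨(k, l), (forall_join (fun i => x.val.1 ∈ U i) (a k) (a' l)).2 ⟨hk, hl⟩⟩
    · rintro ⟨kl, h⟩
      obtain ⟨h1, h2⟩ := (forall_join (fun i => x.val.1 ∈ U i) (a kl.1) (a' kl.2)).1 h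
      exact ⟨⟨kl.1, h1⟩, ⟨kl.2, h2⟩⟩
  isOpen_sUnion := by
    intro S hS
    have hS' : ∀ t ∈ S, ∃ (κ : Type u) (a : κ → Σ p : ℕ, Fin (p + 1) → ι), t = cell U κ a := hS
    choose κ a ha using hS'
    refine ⟨Σ t : S, κ t.1 t.2, fun z => a z.1.1 z.1.2 z.2, ?_⟩
    ext x
    constructor
    · rintro ⟨t, htS, hxt⟩
      have hxt' := (Set.ext_iff.1 (ha t htS) x).1 hxt
      obtain ⟨k, hk⟩ := hxt'
      exact ⟨⟨⟨t, htS⟩, k⟩, hk⟩
    · rintro ⟨⟨⟨t, htS⟩, k⟩, hk⟩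
      exact ⟨t, htS, (Set.ext_iff.1 (ha t htS) x).2 ⟨k, hk⟩⟩

lemma isOpen_iff (s : Set (Pt U)) :
    IsOpen s ↔ ∃ (κ : Type u) (a : κ → Σ p : ℕ, Fin (p + 1) → ι), s = cell U κ a := Iff.rfl

/-- The union with the coarse topology. -/
abbrev Xc : TopCat.{u} := TopCat.of (Pt U)

lemma cont_mk : Continuous (Pt.mk : ↥(iSup U) → Pt U) := by
  refine continuous_def.2 fun s hs => ?_
  obtain ⟨κ, a, rfl⟩ := (isOpen_iff U s).1 hs
  have e : (Pt.mk : ↥(iSup U) → Pt U) ⁻¹' (cell U κ a) =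
      ⋃ k, ⋂ j, (Subtype.val ⁻¹' ((U ((a k).2 j) : Opens X) : Set X)) := by
    ext x
    constructor
    · rintro ⟨k, hk⟩
      exact Set.mem_iUnion.2 ⟨k, Set.mem_iInter.2 fun j => hk j⟩
    · intro hx
      obtain ⟨k, hk⟩ := Set.mem_iUnion.1 hx
      exact ⟨k, fun j => Set.mem_iInter.1 hk j⟩
  rw [e]
  exact isOpen_iUnion fun k => isOpen_iInter_of_finite fun j =>
    (U ((a k).2 j)).isOpen.preimage continuous_subtype_val

/-- The identity of the union, from the subspace topology to the coarse topology. -/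
def jmap : TopCat.of ↥(iSup U) ⟶ Xc U := TopCat.ofHom ⟨Pt.mk, cont_mk U⟩

/-- The inclusion of the union. -/
abbrev incl : TopCat.of ↥(iSup U) ⟶ X := TopCat.ofHom ⟨Subtype.val, continuous_subtype_val⟩

lemma incl_isOpenMap : IsOpenMap (incl U) := (iSup U).isOpenEmbedding.isOpenMap

/-- The comparison functor on opens: an open of the coarse space, seen as an open of `X`. -/
noncomputable def Phi : Opens (Xc U) ⥤ Opens X :=
  Opens.map (jmap U) ⋙ (incl_isOpenMap U).functor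

lemma mem_Phi_obj' (W : Opens (Xc U)) (y : X) :
    y ∈ (Phi U).obj W ↔ ∃ z : ↥(iSup U), (⟨z⟩ : Pt U) ∈ W ∧ z.1 = y := Iff.rfl

lemma mem_Phi_obj (W : Opens (Xc U)) (y : X) :
    y ∈ (Phi U).obj W ↔ ∃ x : Pt U, x ∈ W ∧ x.val.1 = y := by
  rw [mem_Phi_obj']
  constructor
  · rintro ⟨z, hz, rfl⟩
    exact ⟨⟨z⟩, hz, rfl⟩
  · rintro ⟨x, hx, rfl⟩
    exact ⟨x.val, hx, rfl⟩

lemma exists_cell (W : Opens (Xc U)) :
    ∃ (κ : Type u) (a : κ → Σ p : ℕ, Fin (p + 1) → ι), (W : Set (Pt U)) = cell U κ a :=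
  (isOpen_iff U _).1 W.isOpen

lemma mem_sup_inf {κ : Type u} (a : κ → Σ p : ℕ, Fin (p + 1) → ι) (y : X) :
    y ∈ (⨆ k, ⨅ j, U ((a k).2 j) : Opens X) ↔ ∃ k, ∀ j, y ∈ U ((a k).2 j) := by
  rw [Opens.mem_iSup]
  refine exists_congr fun k => ?_
  rw [← SetLike.mem_coe, Opens.coe_iInf, Set.mem_iInter]
  exact Iff.rfl

lemma Phi_obj_eq (W : Opens (Xc U)) : ∃ (κ : Type u) (a : κ → Σ p : ℕ, Fin (p + 1) → ι),
    (Phi U).obj W = ⨆ k, ⨅ j, U ((a k).2 j) := by
  obtain ⟨κ, a, hκ⟩ := exists_cell U W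
  refine ⟨κ, a, Opens.ext (Set.ext fun y => ?_)⟩
  show y ∈ (Phi U).obj W ↔ y ∈ (⨆ k, ⨅ j, U ((a k).2 j) : Opens X)
  rw [mem_Phi_obj, mem_sup_inf]
  constructor
  · rintro ⟨x, hx, rfl⟩
    have hx' : x ∈ cell U κ a := (Set.ext_iff.1 hκ x).1 hx
    exact hx'
  · rintro ⟨k, hk⟩
    have hy : y ∈ iSup U := (le_iSup U ((a k).2 0)) (hk 0)
    refine ⟨⟨⟨y, hy⟩⟩, ?_, rfl⟩
    exact (Set.ext_iff.1 hκ _).2 ⟨k, hk⟩

lemma Phi_obj_le (W : Opens (Xc U)) : (Phi U).obj W ≤ iSup U := by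
  intro y hy
  obtain ⟨x, _, rfl⟩ := (mem_Phi_obj U W y).1 hy
  exact x.val.2

/-- The family, as opens of the coarse space. -/
def Uc (i : ι) : Opens (Xc U) :=
  ⟨{x : Pt U | x.val.1 ∈ U i}, (isOpen_iff U _).2 ⟨PUnit, fun _ => ⟨0, fun _ => i⟩, by
    ext x
    constructor
    · intro hx
      exact ⟨PUnit.unit, fun _ => hx⟩
    · rintro ⟨_, hx⟩
      exact hx 0⟩⟩

lemma mem_Uc (i : ι) (x : Pt U) : x ∈ Uc U i ↔ x.val.1 ∈ U i := Iff.rfl

lemma imgFam_eq : Cech.imgFam (Phi U) (Uc U) = U := by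
  funext i
  refine Opens.ext (Set.ext fun y => ?_)
  show y ∈ (Phi U).obj (Uc U i) ↔ y ∈ U i
  rw [mem_Phi_obj]
  constructor
  · rintro ⟨x, hx, rfl⟩
    exact hx
  · intro hy
    exact ⟨⟨⟨y, (le_iSup U i) hy⟩⟩, hy, rfl⟩

lemma isIso_cmp {n : ℕ} (a : Fin (n + 1) → ι) : IsIso (Cech.cmp (Phi U) (Uc U) a) := by
  have hle : (∏ᶜ (Cech.imgFam (Phi U) (Uc U) ∘ a) : Opens X) ≤ (Phi U).obj (∏ᶜ (Uc U ∘ a)) := by
    intro y hy
    have hyk : ∀ k, y ∈ U (a k) := fun k => by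
      have h1 : y ∈ (Phi U).obj (Uc U (a k)) :=
        (Limits.Pi.π (Cech.imgFam (Phi U) (Uc U) ∘ a) k).le hy
      obtain ⟨x, hx, rfl⟩ := (mem_Phi_obj U _ y).1 h1
      exact hx
    have hyU : y ∈ iSup U := (le_iSup U (a 0)) (hyk 0)
    refine (mem_Phi_obj U _ y).2 ⟨⟨⟨y, hyU⟩⟩, ?_, rfl⟩
    have hW : (⨅ k, Uc U (a k) : Opens (Xc U)) ≤ ∏ᶜ (Uc U ∘ a) :=
      (Limits.Pi.lift (fun k => homOfLE (iInf_le (fun k => Uc U (a k)) k)) :
        (⨅ k, Uc U (a k) : Opens (Xc U)) ⟶ ∏ᶜ (Uc U ∘ a)).le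
    apply hW
    rw [← SetLike.mem_coe, Opens.coe_iInf, Set.mem_iInter]
    intro k
    exact hyk k
  exact ⟨⟨homOfLE hle, Subsingleton.elim _ _, Subsingleton.elim _ _⟩⟩

lemma res_res (P : (Opens X)ᵒᵖ ⥤ AddCommGrpCat.{u}) {A B C : Opens X} (f : A ⟶ B) (g : B ⟶ C)
    (k : A ⟶ C) (s : P.obj (op C)) : P.map f.op (P.map g.op s) = P.map k.op s := by
  have e : k = f ≫ g := Subsingleton.elim _ _
  rw [e, op_comp, P.map_comp, ConcreteCategory.comp_apply]

lemma surj_of_le (F : CohTop.Ab X)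
    (h : ∀ (κ : Type u) (a : κ → Σ p : ℕ, Fin (p + 1) → ι)
      (hle : (⨆ k, ⨅ j, U ((a k).2 j)) ≤ iSup U),
      Function.Surjective (F.obj.map (homOfLE hle).op))
    {A B : Opens X} (f : A ⟶ B) (hB : B ≤ iSup U)
    (κ : Type u) (a : κ → Σ p : ℕ, Fin (p + 1) → ι) (hA : A = ⨆ k, ⨅ j, U ((a k).2 j)) :
    Function.Surjective (F.obj.map f.op) := by
  subst hA
  intro t
  obtain ⟨s, hs⟩ := h κ a (f.le.trans hB) t
  refine ⟨F.obj.map (homOfLE hB).op s, ?_⟩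
  rw [← hs]
  exact res_res F.obj f (homOfLE hB) _ s

/-- The sheaf on the coarse space. -/
noncomputable def Fc (F : CohTop.Ab X) : CohTop.Ab (Xc U) :=
  (CohTop.push (jmap U)).obj (CohTop.restr F (iSup U))

lemma Fc_obj (F : CohTop.Ab X) : (Fc U F).obj = (Phi U).op ⋙ F.obj := rfl

lemma flasque_aux (F : CohTop.Ab X)
    (h : ∀ (κ : Type u) (a : κ → Σ p : ℕ, Fin (p + 1) → ι)
      (hle : (⨆ k, ⨅ j, U ((a k).2 j)) ≤ iSup U),
      Function.Surjective (F.obj.map (homOfLE hle).op)) :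
    TopCat.Presheaf.IsFlasque ((Phi U).op ⋙ F.obj) := by
  refine ⟨fun {V W} i => ?_⟩
  rw [AddCommGrpCat.epi_iff_surjective]
  obtain ⟨κ, a, hκ⟩ := Phi_obj_eq U W.unop
  exact surj_of_le U F h ((Phi U).map i.unop) (Phi_obj_le U V.unop) κ a hκ

lemma flasque (F : CohTop.Ab X)
    (h : ∀ (κ : Type u) (a : κ → Σ p : ℕ, Fin (p + 1) → ι)
      (hle : (⨆ k, ⨅ j, U ((a k).2 j)) ≤ iSup U),
      Function.Surjective (F.obj.map (homOfLE hle).op)) :
    TopCat.Sheaf.IsFlasque (Fc U F) := by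
  have := flasque_aux U F h
  rw [← Fc_obj] at this
  exact this

end helpers


open TopologicalSpace Opposite CategoryTheory.Limits in
/-- Let F be an abelian sheaf on X and U_i a family of opens with union U. Assume that for every union
U' of opens of the form U_{i_0} ∩ ... ∩ U_{i_p} the restriction map F(U) -> F(U') is surjective.
Then the Cech cohomology of F with respect to the family vanishes in all positive degrees. -/
theorem result {X : TopCat.{u}} (F : CohTop.Ab X)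
    {ι : Type u} (U : ι → Opens X)
    (h : ∀ (κ : Type u) (a : κ → Σ p : ℕ, Fin (p + 1) → ι),
      Function.Surjective (F.obj.map (homOfLE
        (iSup_le fun k => (iInf_le _ ⟨0, Nat.succ_pos _⟩).trans (le_iSup U ((a k).2 ⟨0, Nat.succ_pos _⟩)) :
          (⨆ k, ⨅ j, U ((a k).2 j)) ≤ iSup U)).op)) (p : ℕ) :
    IsZero (CohTop.cechH F.obj U (p + 1)) := by
  have h' : ∀ (κ : Type u) (a : κ → Σ p : ℕ, Fin (p + 1) → ι)
      (hle : (⨆ k, ⨅ j, U ((a k).2 j)) ≤ iSup U),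
      Function.Surjective (F.obj.map (homOfLE hle).op) := fun κ a _ => h κ a
  haveI := flasque U F h'
  have hz : IsZero (CohTop.cechH (Fc U F).obj (Uc U) (p + 1)) :=
    Groth.Agent.H67.CechTop.cech_isZero_of_isFlasque (Fc U F) (Uc U) p
  rw [Fc_obj] at hz
  have hz' : IsZero ((Cech.cx (Uc U) ((Phi U).op ⋙ F.obj)).homology (p + 1)) := hz
  have hiso := Cech.homologyIso (Phi U) (Uc U) F.obj (fun _ a => isIso_cmp U a) (p + 1)
  have hz'' : IsZero ((Cech.cx (Cech.imgFam (Phi U) (Uc U)) F.obj).homology (p + 1)) :=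
    IsZero.of_iso hz' hiso
  rw [imgFam_eq U] at hz''
  exact hz''

end Groth.Agent.S0901
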