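import Groth.Statements.S0914
import Groth.Agent.H28.PerfTor4

set_option autoImplicit false
universe u
open CategoryTheory
attribute [local instance] HasDerivedCategory.standard
open DCoh

namespace Groth.Agent.S0914

open AlgebraicGeometry in
/-- An object E of D(O_X) is perfect if and only if it is m-pseudo-coherent for every m and locally has
finite tor dimension. -/
theorem result {X : Scheme.{u}} (E : DCoh.D X) :
    DCoh.IsPerfect E ↔ (∀ m : ℤ, DCoh.IsPseudoCoherentD m E) ∧ DCoh.LocHasFiniteTorDim E := by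
  constructor
  · intro h
    rw [Groth.Agent.H90.SPerf.isPerfect_iff] at h
    refine ⟨fun m => ?_, fun x => ?_⟩
    · rw [Groth.Agent.H90.SPerf.isPC_iff]
      intro x
      obtain ⟨V, hxV, P, hP, ⟨e⟩⟩ := h x
      exact ⟨V, hxV, P, e.inv, hP, Groth.Agent.H90.SPerf.MQI.of_isIso _ _⟩
    · obtain ⟨V, hxV, P, hP, ⟨e⟩⟩ := h x
      obtain ⟨⟨a, b, hv⟩, hf⟩ := hP
      refine ⟨V, a, b, hxV, fun F' ⟨e₀⟩ => ⟨P, hv, fun i =>
        Groth.Agent.H28.LpullLoc.isFlat_of_isFinLocFree (hf i),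
        ⟨e.symm ≪≫ Groth.Agent.H90.SPerf.restrictDObjIso V.ι e₀⟩⟩⟩
  · rintro ⟨hpc, htor⟩
    rw [Groth.Agent.H90.SPerf.isPerfect_iff]
    intro x
    obtain ⟨V, a, b, hxV, hV⟩ := htor x
    obtain ⟨G, hGv, hGfl, ⟨eG⟩⟩ := hV (DerivedCategory.Q.objPreimage E)
      ⟨DerivedCategory.Q.objObjPreimageIso E⟩
    have eG' : DerivedCategory.Q.obj G ≅ (DCoh.restrictD V.ι).obj E :=
      eG ≪≫ (Groth.Agent.H90.SPerf.restrictDObjIso V.ι
        (DerivedCategory.Q.objObjPreimageIso E)).symm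
    -- pseudo-coherence of the restriction near `x`
    have hpcV : Groth.Agent.H90.SPerf.LocPC (a - 1) ((DCoh.restrictD V.ι).obj E)
        (⟨x, hxV⟩ : (V : Scheme.{u})) := by
      obtain ⟨V', hxV', P, α, hP, hα⟩ := (Groth.Agent.H90.SPerf.isPC_iff _ _).1 (hpc (a - 1)) x
      obtain ⟨P', α', hP', hα'⟩ := Groth.Agent.H90.SPerf.locPC_shrink
        (inf_le_right : V ⊓ V' ≤ V') hP α hα
      obtain ⟨c⟩ := Groth.Agent.H90.SPerf.restrictD_comp_obj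
        (X.homOfLE (inf_le_left : V ⊓ V' ≤ V)) V.ι (V ⊓ V').ι (X.homOfLE_ι _).symm E
      have hpt : (X.homOfLE (inf_le_left : V ⊓ V' ≤ V))
          (⟨x, ⟨hxV, hxV'⟩⟩ : ((V ⊓ V' : X.Opens) : Scheme.{u})) = ⟨x, hxV⟩ := by
        apply Subtype.ext
        simp
      rw [← hpt]
      exact Groth.Agent.H90.SPerf.locPC_of_immersion (X.homOfLE (inf_le_left : V ⊓ V' ≤ V))
        (⟨x, ⟨hxV, hxV'⟩⟩ : ((V ⊓ V' : X.Opens) : Scheme.{u})) hP' (α' ≫ c.hom)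
        (hα'.comp (Groth.Agent.H90.SPerf.MQI.of_isIso _ _))
    obtain ⟨W, hxW, T, hT, -, ⟨e⟩⟩ := Groth.Agent.H28.PerfTor.exists_loc_perfect
      ((DCoh.restrictD V.ι).obj E) a b ⟨x, hxV⟩ G hGv hGfl eG' hpcV
    obtain ⟨c'⟩ := Groth.Agent.H90.SPerf.restrictD_comp_obj W.ι V.ι (W.ι ≫ V.ι) rfl E
    exact Groth.Agent.H90.SPerf.locPerfO_of_immersion (W.ι ≫ V.ι)
      (⟨⟨x, hxV⟩, hxW⟩ : (W : Scheme.{u})) hT (c' ≪≫ e)

end Groth.Agent.S0914
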