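import Groth.Statements.S0916
import Groth.Agent.H40.TorAmp2
import Groth.Agent.H31.KFlatSingleSite
import Groth.Agent.H31.KFlatResolutionSite

set_option autoImplicit false
universe u
open CategoryTheory
attribute [local instance] HasDerivedCategory.standard
open DCoh

namespace Groth.Agent.S0916

set_option backward.isDefEq.respectTransparency false

open AlgebraicGeometry CategoryTheory.Limits in
/-- Flatness of an O_X-module F (all stalks flat) is equivalent to the following Tor-vanishing: for
every O_X-module G the sheaf Tor_1(F, G), i.e. H^{-1} of F ⊗^L G, vanishes; the existence of the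
derived tensor product with every G is assumed (hypothesis hL). -/
theorem result {X : Scheme.{u}} (F : X.Modules) (hL : ∀ G : X.Modules, DCoh.HasLTensorMod G) :
    FlatMod.IsFlat F ↔ ∀ (G : X.Modules) [DCoh.HasLTensorMod G],
      IsZero (DCoh.HD ((DCoh.LTensorMod G).obj (DCoh.inD X F)) (-1)) := by
  classical
  let S : CochainComplex X.Modules ℤ := (CochainComplex.singleFunctor X.Modules 0).obj F
  have eS : DCoh.inD X F ≅ DCoh.toD X S := (DerivedCategory.singleFunctorIsoCompQ X.Modules 0).app F
  constructor
  · intro hF G _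
    have hSK : DCoh.IsKFlat S :=
      Groth.Agent.H31.KFlat.isKFlat_single (O := X.sheaf) F
        (Groth.Agent.H40.FlatBridge.isFlat_of_stalkFlat _ hF) 0
    have h1 : IsZero (DCoh.HD ((DCoh.LTensorMod G).obj (DCoh.toD X S)) (-1)) :=
      (Groth.Agent.H40.TorAmp.HDLTensorIso G S hSK (-1)).isZero_iff.2
        (Groth.Agent.H40.TorAmp.isZero_homology_map_of_isZero G S (-1)
          (HomologicalComplex.isZero_single_obj_X (ComplexShape.up ℤ) 0 F (-1) (by omega)))
    exact (((DerivedCategory.homologyFunctor X.Modules (-1)).mapIso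
      ((DCoh.LTensorMod G).mapIso eS)).isZero_iff).2 h1
  · intro h
    obtain ⟨P, q, hPK, hPfl, hq, hepi⟩ :=
      Groth.Agent.H31.KFlat.exists_isKFlat_resolution (O := X.sheaf) S
    have hPK' : DCoh.IsKFlat P := hPK
    have hQq : IsIso (DerivedCategory.Q.map q) := by
      rw [DerivedCategory.isIso_Q_map_iff_quasiIso]; exact hq
    have eP : DCoh.toD X P ≅ DCoh.inD X F := @asIso _ _ _ _ (DerivedCategory.Q.map q) hQq ≪≫ eS.symm
    have hop : FlatMod.IsFlat (P.opcycles 0) := by
      refine Groth.Agent.H40.TorAmp2.flat_cokernel_of_homology_zero P 0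
        (Groth.Agent.H40.FlatBridge2.stalkFlat_of_isFlat _ (hPfl 0)) ?_
        (P.pOpcycles 0) (P.d_pOpcycles _ _) (P.opcyclesIsCokernel (0 - 1) 0 (by simp))
      intro G
      have := hL G
      refine (Groth.Agent.H40.TorAmp.HDLTensorIso G P hPK' (0 - 1)).isZero_iff.1 ?_
      exact (((DerivedCategory.homologyFunctor X.Modules (0 - 1)).mapIso
        ((DCoh.LTensorMod G).mapIso eP)).isZero_iff).2 (h G)
    rw [Groth.Agent.H40.TorAmp2.stalkFlat_iff_preservesMonomorphisms] at hop ⊢
    have hι : IsIso (S.homologyι 0) :=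
      S.isIso_homologyι 0 1 (by simp) (by simp [S])
    have hm : IsIso (HomologicalComplex.homologyMap q 0) := by
      exact (quasiIsoAt_iff_isIso_homologyMap q 0).1 (hq.quasiIsoAt 0)
    have hret : P.homologyι 0 ≫ (HomologicalComplex.opcyclesMap q 0 ≫
        @inv _ _ _ _ (S.homologyι 0) hι ≫
        @inv _ _ _ _ (HomologicalComplex.homologyMap q 0) hm) = 𝟙 _ := by
      rw [← Category.assoc, ← HomologicalComplex.homologyι_naturality, Category.assoc,
        IsIso.hom_inv_id_assoc, IsIso.hom_inv_id]
    have hH := Groth.Agent.H40.FlatCoker.flat_of_retract (T := ModSite.tensorBi X.sheaf) _ _ hret hop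
    let e : P.homology 0 ≅ F := @asIso _ _ _ _ (HomologicalComplex.homologyMap q 0) hm ≪≫
        HomologicalComplex.singleObjHomologySelfIso (ComplexShape.up ℤ) 0 F
    exact Groth.Agent.H40.FlatCoker.flat_of_retract (T := ModSite.tensorBi X.sheaf) e.inv e.hom
      e.inv_hom_id hH
end Groth.Agent.S0916
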