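import Groth.Statements.S0917
import Mathlib.Algebra.Homology.HomotopyCategory.Acyclic
import Mathlib.Algebra.Homology.GrothendieckAbelian
import Mathlib.CategoryTheory.Abelian.GrothendieckAxioms.Colim
import Mathlib.CategoryTheory.Abelian.FunctorCategory

set_option autoImplicit false
universe v u
open CategoryTheory
open CohDer

namespace Groth.Agent.S0917

open Limits CochainComplex HomologicalComplex

section Acyclic

variable {A : Type u} [Category.{v} A] [Abelian A] [IsGrothendieckAbelian.{v} A]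

/-- The differential as a natural transformation between evaluation functors. -/
def dNat (i j : ℤ) : eval A (ComplexShape.up ℤ) i ⟶ eval A (ComplexShape.up ℤ) j where
  app K := K.d i j
  naturality _ _ f := f.comm i j

/-- A coproduct of acyclic complexes is acyclic (AB4). -/
theorem exactAt_sigma {J : Type v} (K : J → CochainComplex A ℤ)
    (hK : ∀ p n, (K p).ExactAt n) (n : ℤ) : (∐ K).ExactAt n := by
  let c := ComplexShape.up ℤ
  let F : Discrete J ⥤ CochainComplex A ℤ := Discrete.functor K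
  let S : ShortComplex (Discrete J ⥤ A) :=
    ShortComplex.mk (Functor.whiskerLeft F (dNat (c.prev n) n))
      (Functor.whiskerLeft F (dNat n (c.next n)))
      (by ext p; exact (F.obj p).d_comp_d _ _ _)
  have hS : S.Exact := by
    rw [ShortComplex.exact_iff_isZero_homology, Functor.isZero_iff]
    intro p
    have : PreservesFiniteLimits ((evaluation (Discrete J) A).obj p) :=
      ⟨fun _ _ _ => inferInstance⟩
    have : PreservesFiniteColimits ((evaluation (Discrete J) A).obj p) :=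
      ⟨fun _ _ _ => inferInstance⟩
    have e := S.mapHomologyIso ((evaluation (Discrete J) A).obj p)
    refine IsZero.of_iso ?_ e.symm
    have h1 : (S.map ((evaluation (Discrete J) A).obj p)).Exact := hK p.as n
    exact (ShortComplex.exact_iff_isZero_homology _).1 h1
  exact colim.exact_mapShortComplex hS
    (isColimitOfPreserves (eval A c (c.prev n)) (colimit.isColimit F))
    (isColimitOfPreserves (eval A c n) (colimit.isColimit F))
    (isColimitOfPreserves (eval A c (c.next n)) (colimit.isColimit F))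
    ((∐ K).d (c.prev n) n) ((∐ K).d n (c.next n))
    (fun p => (colimit.ι F p).comm _ _) (fun p => (colimit.ι F p).comm _ _)

/-- The inclusion into the cone of a map with acyclic source is a quasi-isomorphism. -/
theorem quasiIso_inr_of_acyclic {K M : CochainComplex A ℤ} (φ : K ⟶ M)
    (hK : ∀ n, K.ExactAt n) : QuasiIso (mappingCone.inr φ) := by
  rw [← HomologicalComplex.mem_quasiIso_iff, ← HomotopyCategory.quotient_map_mem_quasiIso_iff,
    HomotopyCategory.quasiIso_eq_trW_subcategoryAcyclic]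
  exact ObjectProperty.trW.mk' _ (HomotopyCategory.mappingCone_triangleh_distinguished φ)
    ((HomotopyCategory.quotient_obj_mem_subcategoryAcyclic_iff_exactAt K).2 hK)

end Acyclic

section Construction

variable {A : Type u} [Category.{v} A] [Abelian A] [IsGrothendieckAbelian.{v} A]
  {ι : Type v} (K : ι → CochainComplex A ℤ)

/-- The index type: pairs of an index and a map to `M`. -/
abbrev Idx (M : CochainComplex A ℤ) : Type v := Σ i : ι, (K i ⟶ M)

/-- The family of complexes indexed by `Idx K M`. -/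
abbrev fam (M : CochainComplex A ℤ) : Idx K M → CochainComplex A ℤ := fun p => K p.1

/-- The tautological map from the coproduct. -/
noncomputable def Φ (M : CochainComplex A ℤ) : (∐ fam K M) ⟶ M :=
  Sigma.desc (fun p => p.2)

/-- Reindexing along a map `M ⟶ M'`. -/
noncomputable def σ {M M' : CochainComplex A ℤ} (f : M ⟶ M') : (∐ fam K M) ⟶ (∐ fam K M') :=
  Sigma.desc (fun p => Sigma.ι (fam K M') ⟨p.1, p.2 ≫ f⟩)

theorem ι_Φ (M : CochainComplex A ℤ) (i : ι) (w : K i ⟶ M) :
    Sigma.ι (fam K M) ⟨i, w⟩ ≫ Φ K M = w := by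
  simp only [Φ, Sigma.ι_desc]

theorem ι_σ {M M' : CochainComplex A ℤ} (f : M ⟶ M') (i : ι) (w : K i ⟶ M) :
    Sigma.ι (fam K M) ⟨i, w⟩ ≫ σ K f = Sigma.ι (fam K M') ⟨i, w ≫ f⟩ := by
  simp only [σ, Sigma.ι_desc]

theorem σ_comm {M M' : CochainComplex A ℤ} (f : M ⟶ M') : Φ K M ≫ f = σ K f ≫ Φ K M' := by
  apply Sigma.hom_ext
  rintro ⟨i, w⟩
  rw [← Category.assoc, ι_Φ, ← Category.assoc, ι_σ, ι_Φ]

theorem σ_id (M : CochainComplex A ℤ) : σ K (𝟙 M) = 𝟙 _ := by
  apply Sigma.hom_ext
  rintro ⟨i, w⟩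
  rw [ι_σ, Category.comp_id, Category.comp_id]

theorem σ_comp {M M' M'' : CochainComplex A ℤ} (f : M ⟶ M') (g : M' ⟶ M'') :
    σ K (f ≫ g) = σ K f ≫ σ K g := by
  apply Sigma.hom_ext
  rintro ⟨i, w⟩
  rw [ι_σ, ← Category.assoc (Sigma.ι (fam K M) ⟨i, w⟩), ι_σ K f i w, ι_σ, Category.assoc]

omit [IsGrothendieckAbelian.{v} A] in
theorem map_congr {K₁ L₁ K₂ L₂ : CochainComplex A ℤ} (φ₁ : K₁ ⟶ L₁) (φ₂ : K₂ ⟶ L₂)
    (a a' : K₁ ⟶ K₂) (b b' : L₁ ⟶ L₂) (comm : φ₁ ≫ b = a ≫ φ₂) (comm' : φ₁ ≫ b' = a' ≫ φ₂)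
    (ha : a = a') (hb : b = b') :
    mappingCone.map φ₁ φ₂ a b comm = mappingCone.map φ₁ φ₂ a' b' comm' := by
  subst ha hb
  rfl

/-- The functor `M ↦ cone (⨁_{(i, w : K i ⟶ M)} K i ⟶ M)`. -/
noncomputable def N : CochainComplex A ℤ ⥤ CochainComplex A ℤ where
  obj M := mappingCone (Φ K M)
  map {M M'} f := mappingCone.map (Φ K M) (Φ K M') (σ K f) f (σ_comm K f)
  map_id M :=
    (map_congr _ _ _ _ _ _ _ (by rw [Category.id_comp, Category.comp_id]) (σ_id K M) rfl).trans
      (mappingCone.map_id _)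
  map_comp {M M' M''} f g :=
    (map_congr _ _ _ _ _ _ _
      (by rw [Category.assoc, ← σ_comm, ← Category.assoc, σ_comm, Category.assoc])
      (σ_comp K f g) rfl).trans
      (mappingCone.map_comp _ _ _ _ _ (σ_comm K f) _ _ (σ_comm K g))

/-- The natural inclusion `M ⟶ N M`. -/
noncomputable def jN : 𝟭 (CochainComplex A ℤ) ⟶ N K where
  app M := mappingCone.inr (Φ K M)
  naturality M M' f := by
    change f ≫ mappingCone.inr (Φ K M') =
      mappingCone.inr (Φ K M) ≫ mappingCone.map (Φ K M) (Φ K M') (σ K f) f (σ_comm K f)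
    simp [mappingCone.map]

end Construction

theorem result {A : Type u} [Category.{v} A] [Abelian A]
    [IsGrothendieckAbelian.{v} A] {ι : Type v} (K : ι → CochainComplex A ℤ)
    (hK : ∀ i (n : ℤ), Limits.IsZero ((K i).homology n)) :
    ∃ (N : CochainComplex A ℤ ⥤ CochainComplex A ℤ) (j : 𝟭 _ ⟶ N),
      ∀ M : CochainComplex A ℤ, (∀ n : ℤ, Mono ((j.app M).f n)) ∧ QuasiIso (j.app M) ∧
        ∀ (i : ι) (w : K i ⟶ M), Nonempty (Homotopy (w ≫ j.app M) 0) := by
  refine ⟨N K, jN K, fun M => ⟨fun n => ?_, ?_, fun i w => ?_⟩⟩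
  · change Mono ((mappingCone.inr (Φ K M)).f n)
    have : Mono ((mappingCone.inr (Φ K M)).f n ≫
        (mappingCone.snd (Φ K M)).v n n (add_zero n)) := by
      rw [mappingCone.inr_f_snd_v]
      infer_instance
    exact mono_of_mono _ ((mappingCone.snd (Φ K M)).v n n (add_zero n))
  · change QuasiIso (mappingCone.inr (Φ K M))
    exact quasiIso_inr_of_acyclic (Φ K M)
      (exactAt_sigma (fam K M)
        (fun p n => (HomologicalComplex.exactAt_iff_isZero_homology _ _).2 (hK p.1 n)))
  · change Nonempty (Homotopy (w ≫ mappingCone.inr (Φ K M)) 0)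
    have h1 : w ≫ mappingCone.inr (Φ K M) =
        Sigma.ι (fam K M) ⟨i, w⟩ ≫ (Φ K M ≫ homotopyCofiber.inr (Φ K M)) := by
      change w ≫ mappingCone.inr (Φ K M) =
        Sigma.ι (fam K M) ⟨i, w⟩ ≫ (Φ K M ≫ mappingCone.inr (Φ K M))
      rw [← Category.assoc, ι_Φ]
    exact ⟨(Homotopy.ofEq h1).trans
      (((homotopyCofiber.inrCompHomotopy (Φ K M) (fun n => ⟨n - 1, by simp⟩)).compLeft
        (Sigma.ι (fam K M) ⟨i, w⟩)).trans (Homotopy.ofEq Limits.comp_zero))⟩

end Groth.Agent.S0917
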