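import Groth.Statements.S0918
import Groth.Agent.H5.FunctorialInjective
import Mathlib.Algebra.Homology.HomotopyCategory.Pretriangulated
import Mathlib.Algebra.Homology.HomologySequenceLemmas
import Mathlib.Algebra.Homology.HomologicalComplexAbelian
import Mathlib.CategoryTheory.Abelian.Refinements

set_option autoImplicit false
universe v u
open CategoryTheory
open CohDer

namespace Groth.Agent.S0918

open Limits CochainComplex HomologicalComplex HomComplex

section General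

variable {A : Type u} [Category.{v} A] [Abelian A]

/-- A contractible complex is acyclic. -/
theorem exactAt_of_homotopy_id_zero (K : CochainComplex A ℤ) (h : Homotopy (𝟙 K) 0) (n : ℤ) :
    K.ExactAt n := by
  rw [exactAt_iff_isZero_homology, IsZero.iff_id_eq_zero, ← homologyMap_id,
    h.homologyMap_eq n, homologyMap_zero]

/-- In a short exact sequence of complexes with acyclic third term, the first map is a
quasi-isomorphism. -/
theorem quasiIso_f_of_acyclic (S : ShortComplex (CochainComplex A ℤ)) (hS : S.ShortExact)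
    (h3 : ∀ n, S.X₃.ExactAt n) : QuasiIso S.f := by
  rw [quasiIso_iff]
  intro j
  rw [quasiIsoAt_iff_isIso_homologyMap]
  have z : ∀ n, IsZero (S.X₃.homology n) := fun n => (exactAt_iff_isZero_homology _ _).1 (h3 n)
  have hm : Mono (homologyMap S.f j) :=
    (hS.homology_exact₁ (j - 1) j (by simp)).mono_g ((z (j - 1)).eq_of_src _ _)
  have he : Epi (homologyMap S.f j) :=
    (hS.homology_exact₂ j).epi_f ((z j).eq_of_tgt _ _)
  exact isIso_of_mono_of_epi _

variable (S : ShortComplex (CochainComplex A ℤ))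

theorem fg_f (n : ℤ) : S.f.f n ≫ S.g.f n = 0 := by
  rw [← HomologicalComplex.comp_f, S.zero, HomologicalComplex.zero_f]

/-- The components of the canonical map from the shifted kernel to the cone of `S.g`. -/
noncomputable def θf (n : ℤ) : S.X₁.X (n + 1) ⟶ (mappingCone S.g).X n :=
  S.f.f (n + 1) ≫ (mappingCone.inl S.g).v (n + 1) n (by omega)

theorem θf_comm (n : ℤ) :
    θf S n ≫ (mappingCone S.g).d n (n + 1) =
      ((1 : ℤ).negOnePow • S.X₁.d (n + 1) (n + 1 + 1)) ≫ θf S (n + 1) := by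
  have h1 := fg_f S (n + 1)
  have h2 := S.f.comm (n + 1) (n + 1 + 1)
  rw [θf, θf, Category.assoc, mappingCone.inl_v_d S.g (n + 1) n (n + 1 + 1) (by omega) (by omega),
    Preadditive.comp_sub, reassoc_of% h1, zero_comp, zero_sub, reassoc_of% h2,
    Int.negOnePow_one]
  simp

/-- The map of cones induced by `S.g`. -/
noncomputable def ρ : mappingCone S.g ⟶ mappingCone (𝟙 S.X₃) :=
  mappingCone.map S.g (𝟙 S.X₃) S.g (𝟙 S.X₃) rfl

theorem ρ_inl (p q : ℤ) (h : p + (-1) = q) :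
    (mappingCone.inl S.g).v p q h ≫ (ρ S).f q =
      S.g.f p ≫ (mappingCone.inl (𝟙 S.X₃)).v p q h := by
  simp [ρ, mappingCone.map]

theorem ρ_inr (p : ℤ) :
    (mappingCone.inr S.g).f p ≫ (ρ S).f p = (mappingCone.inr (𝟙 S.X₃)).f p := by
  simp [ρ, mappingCone.map]

theorem ρ_fst (p q : ℤ) (hpq : p + 1 = q) :
    (ρ S).f p ≫ (mappingCone.fst (𝟙 S.X₃)).1.v p q hpq =
      (mappingCone.fst S.g).1.v p q hpq ≫ S.g.f q := by
  apply mappingCone.ext_from S.g q p hpq
  · rw [← Category.assoc, ρ_inl, Category.assoc, mappingCone.inl_v_fst_v, Category.comp_id,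
      ← Category.assoc, mappingCone.inl_v_fst_v, Category.id_comp]
  · rw [← Category.assoc, ρ_inr, mappingCone.inr_f_fst_v, ← Category.assoc,
      mappingCone.inr_f_fst_v, zero_comp]

theorem ρ_snd (p : ℤ) :
    (ρ S).f p ≫ (mappingCone.snd (𝟙 S.X₃)).v p p (add_zero p) =
      (mappingCone.snd S.g).v p p (add_zero p) := by
  apply mappingCone.ext_from S.g (p + 1) p rfl
  · rw [← Category.assoc, ρ_inl, Category.assoc, mappingCone.inl_v_snd_v, comp_zero,
      mappingCone.inl_v_snd_v]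
  · rw [← Category.assoc, ρ_inr, mappingCone.inr_f_snd_v, mappingCone.inr_f_snd_v]

theorem θf_ρ (n : ℤ) : θf S n ≫ (ρ S).f n = 0 := by
  rw [θf, Category.assoc, ρ_inl, ← Category.assoc, fg_f, zero_comp]

instance mono_inl (n : ℤ) : Mono ((mappingCone.inl S.g).v (n + 1) n (by omega)) :=
  mono_of_mono_fac (mappingCone.inl_v_fst_v S.g (n + 1) n rfl)

variable {S}

theorem shortExact_aux (hS : S.ShortExact) (n : ℤ) :
    (ShortComplex.mk (θf S n) ((ρ S).f n) (θf_ρ S n)).ShortExact := by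
  have hSn : (S.map (eval A (ComplexShape.up ℤ) (n + 1))).ShortExact := hS.map_of_exact _
  have hm' : Mono (S.map (eval A (ComplexShape.up ℤ) (n + 1))).f := hSn.mono_f
  have hm : Mono (S.f.f (n + 1)) := hSn.mono_f
  have he : Epi (S.g.f (n + 1)) := hSn.epi_g
  refine ShortComplex.ShortExact.mk' ?_ ?_ ?_
  · rw [ShortComplex.exact_iff_exact_up_to_refinements]
    intro W x hx
    have hx' : x ≫ (ρ S).f n = 0 := hx
    have hx1 : (x ≫ (mappingCone.fst S.g).1.v n (n + 1) rfl) ≫ S.g.f (n + 1) = 0 := by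
      rw [Category.assoc, ← ρ_fst, ← Category.assoc, hx', zero_comp]
    have hx2 : x ≫ (mappingCone.snd S.g).v n n (add_zero n) = 0 := by
      rw [← ρ_snd, ← Category.assoc, hx', zero_comp]
    have hl : hSn.exact.lift (x ≫ (mappingCone.fst S.g).1.v n (n + 1) rfl) hx1 ≫ S.f.f (n + 1) =
        x ≫ (mappingCone.fst S.g).1.v n (n + 1) rfl := hSn.exact.lift_f _ hx1
    refine ⟨W, 𝟙 W, inferInstance,
      hSn.exact.lift (x ≫ (mappingCone.fst S.g).1.v n (n + 1) rfl) hx1, ?_⟩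
    change 𝟙 W ≫ x = _ ≫ θf S n
    rw [Category.id_comp]
    dsimp only [θf]
    apply mappingCone.ext_to S.g n (n + 1) rfl
    · rw [Category.assoc, Category.assoc, mappingCone.inl_v_fst_v, Category.comp_id]
      exact hl.symm
    · rw [Category.assoc, Category.assoc, mappingCone.inl_v_snd_v, comp_zero, comp_zero]
      exact hx2
  · change Mono (θf S n)
    dsimp only [θf]
    exact mono_comp _ _
  · change Epi ((ρ S).f n)
    refine ⟨fun {Z} g₁ g₂ h => ?_⟩
    apply mappingCone.ext_from (𝟙 S.X₃) (n + 1) n rfl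
    · rw [← cancel_epi (S.g.f (n + 1)), ← Category.assoc, ← ρ_inl, Category.assoc, h,
        ← Category.assoc, ρ_inl, Category.assoc]
    · rw [← ρ_inr, Category.assoc, h, Category.assoc]

variable (S)

set_option backward.isDefEq.respectTransparency.types false in
/-- The canonical map from the shifted kernel to the cone of `S.g`. -/
noncomputable def θ :
    (CategoryTheory.shiftFunctor (CochainComplex A ℤ) (1 : ℤ)).obj S.X₁ ⟶ mappingCone S.g :=
  CochainComplex.ofHom (X := (CategoryTheory.shiftFunctor (CochainComplex A ℤ) (1 : ℤ)).obj S.X₁)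
    (Y := mappingCone S.g) (fun n => θf S n) (fun n => θf_comm S n)

set_option backward.isDefEq.respectTransparency.types false in
theorem θ_ρ : θ S ≫ ρ S = 0 := by
  ext n
  exact θf_ρ S n

variable {S}

set_option backward.isDefEq.respectTransparency.types false in
theorem shortExact_θρ (hS : S.ShortExact) :
    (ShortComplex.mk (θ S) (ρ S) (θ_ρ S)).ShortExact :=
  HomologicalComplex.shortExact_of_degreewise_shortExact _ (fun n => shortExact_aux hS n)

theorem quasiIso_θ (hS : S.ShortExact) : QuasiIso (θ S) :=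
  quasiIso_f_of_acyclic _ (shortExact_θρ hS)
    (fun n => exactAt_of_homotopy_id_zero _ (mappingCone.homotopyToZeroOfId S.X₃) n)

set_option backward.isDefEq.respectTransparency.types false in
theorem mono_θ_f (hS : S.ShortExact) (n : ℤ) : Mono ((θ S).f n) :=
  (shortExact_aux hS n).mono_f

theorem inl_map {K₁ L₁ K₂ L₂ : CochainComplex A ℤ} (φ₁ : K₁ ⟶ L₁) (φ₂ : K₂ ⟶ L₂)
    (a : K₁ ⟶ K₂) (b : L₁ ⟶ L₂) (comm : φ₁ ≫ b = a ≫ φ₂) (p q : ℤ) (h : p + (-1) = q) :
    (mappingCone.inl φ₁).v p q h ≫ (mappingCone.map φ₁ φ₂ a b comm).f q =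
      a.f p ≫ (mappingCone.inl φ₂).v p q h := by
  simp [mappingCone.map]

theorem θf_naturality {S S' : ShortComplex (CochainComplex A ℤ)} (a : S.X₁ ⟶ S'.X₁)
    (b : S.X₂ ⟶ S'.X₂) (c : S.X₃ ⟶ S'.X₃) (h12 : S.f ≫ b = a ≫ S'.f)
    (h23 : S.g ≫ c = b ≫ S'.g) (n : ℤ) :
    a.f (n + 1) ≫ θf S' n = θf S n ≫ (mappingCone.map S.g S'.g b c h23).f n := by
  have h := HomologicalComplex.congr_hom h12 (n + 1)
  rw [HomologicalComplex.comp_f, HomologicalComplex.comp_f] at h
  dsimp only [θf]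
  rw [Category.assoc, inl_map, reassoc_of% h]

set_option backward.isDefEq.respectTransparency.types false in
theorem θ_naturality {S S' : ShortComplex (CochainComplex A ℤ)} (a : S.X₁ ⟶ S'.X₁)
    (b : S.X₂ ⟶ S'.X₂) (c : S.X₃ ⟶ S'.X₃) (h12 : S.f ≫ b = a ≫ S'.f)
    (h23 : S.g ≫ c = b ≫ S'.g) :
    (CategoryTheory.shiftFunctor (CochainComplex A ℤ) (1 : ℤ)).map a ≫ θ S' =
      θ S ≫ mappingCone.map S.g S'.g b c h23 := by
  ext n
  exact θf_naturality a b c h12 h23 n

theorem map_congr {K₁ L₁ K₂ L₂ : CochainComplex A ℤ} (φ₁ : K₁ ⟶ L₁) (φ₂ : K₂ ⟶ L₂)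
    (a a' : K₁ ⟶ K₂) (b b' : L₁ ⟶ L₂) (comm : φ₁ ≫ b = a ≫ φ₂) (comm' : φ₁ ≫ b' = a' ≫ φ₂)
    (ha : a = a') (hb : b = b') :
    mappingCone.map φ₁ φ₂ a b comm = mappingCone.map φ₁ φ₂ a' b' comm' := by
  subst ha hb
  rfl

end General

section Functorial

variable {A : Type u} [Category.{v} A] [Abelian A] (I₀ : A ⥤ A) (e : 𝟭 A ⟶ I₀)

/-- The contractible complex with terms `I₀ (M^n) ⊞ I₀ (M^(n+1))`. -/
noncomputable abbrev Jobj (M : CochainComplex A ℤ) : CochainComplex A ℤ :=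
  CochainComplex.of (fun n => I₀.obj (M.X n) ⊞ I₀.obj (M.X (n + 1)))
    (fun _ => biprod.snd ≫ biprod.inl) (fun _ => by simp)

theorem Jobj_d (M : CochainComplex A ℤ) (n : ℤ) :
    (Jobj I₀ M).d n (n + 1) = biprod.snd ≫ biprod.inl :=
  CochainComplex.of_d (fun n => I₀.obj (M.X n) ⊞ I₀.obj (M.X (n + 1)))
    (fun _ => biprod.snd ≫ biprod.inl) n

/-- Functoriality of `Jobj`. -/
noncomputable def Jmap {M M' : CochainComplex A ℤ} (f : M ⟶ M') : Jobj I₀ M ⟶ Jobj I₀ M' :=
  CochainComplex.ofHom (X := Jobj I₀ M) (Y := Jobj I₀ M')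
    (fun n => biprod.map (I₀.map (f.f n)) (I₀.map (f.f (n + 1))))
    (fun n => by rw [Jobj_d, Jobj_d]; simp)

theorem Jmap_f {M M' : CochainComplex A ℤ} (f : M ⟶ M') (n : ℤ) :
    (Jmap I₀ f).f n = biprod.map (I₀.map (f.f n)) (I₀.map (f.f (n + 1))) := rfl

theorem Jmap_id (M : CochainComplex A ℤ) : Jmap I₀ (𝟙 M) = 𝟙 _ := by
  refine HomologicalComplex.hom_ext _ _ (fun n => ?_)
  rw [Jmap_f]
  apply biprod.hom_ext <;> simp

theorem Jmap_comp {M M' M'' : CochainComplex A ℤ} (f : M ⟶ M') (g : M' ⟶ M'') :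
    Jmap I₀ (f ≫ g) = Jmap I₀ f ≫ Jmap I₀ g := by
  refine HomologicalComplex.hom_ext _ _ (fun n => ?_)
  rw [HomologicalComplex.comp_f, Jmap_f, Jmap_f, Jmap_f]
  apply biprod.hom_ext <;> simp

/-- The natural embedding `M ⟶ Jobj M`. -/
noncomputable def uapp (M : CochainComplex A ℤ) : M ⟶ Jobj I₀ M :=
  CochainComplex.ofHom (X := M) (Y := Jobj I₀ M)
    (fun n => biprod.lift (e.app (M.X n)) (M.d n (n + 1) ≫ e.app (M.X (n + 1))))
    (fun n => by rw [Jobj_d]; apply biprod.hom_ext <;> simp)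

theorem uapp_f (M : CochainComplex A ℤ) (n : ℤ) :
    (uapp I₀ e M).f n =
      biprod.lift (e.app (M.X n)) (M.d n (n + 1) ≫ e.app (M.X (n + 1))) := rfl

theorem u_nat {M M' : CochainComplex A ℤ} (f : M ⟶ M') :
    uapp I₀ e M ≫ Jmap I₀ f = f ≫ uapp I₀ e M' := by
  refine HomologicalComplex.hom_ext _ _ (fun n => ?_)
  rw [HomologicalComplex.comp_f, HomologicalComplex.comp_f, uapp_f, uapp_f, Jmap_f]
  have h1 : f.f n ≫ e.app (M'.X n) = e.app (M.X n) ≫ I₀.map (f.f n) := e.naturality (f.f n)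
  have h2 : f.f (n + 1) ≫ e.app (M'.X (n + 1)) = e.app (M.X (n + 1)) ≫ I₀.map (f.f (n + 1)) :=
    e.naturality (f.f (n + 1))
  apply biprod.hom_ext
  · simp [h1]
  · simp [h2]

theorem mono_uapp_f (he : ∀ X, Mono (e.app X)) (M : CochainComplex A ℤ) (n : ℤ) :
    Mono ((uapp I₀ e M).f n) := by
  have := he (M.X n)
  have w : (uapp I₀ e M).f n ≫ biprod.fst = e.app (M.X n) := by
    rw [uapp_f, biprod.lift_fst]
  exact mono_of_mono_fac w

/-- The short exact sequence `0 ⟶ M ⟶ J M ⟶ Q M ⟶ 0`. -/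
noncomputable def SM (M : CochainComplex A ℤ) : ShortComplex (CochainComplex A ℤ) :=
  ShortComplex.mk (uapp I₀ e M) (cokernel.π (uapp I₀ e M)) (cokernel.condition _)

theorem SM_shortExact (he : ∀ X, Mono (e.app X)) (M : CochainComplex A ℤ) :
    (SM I₀ e M).ShortExact := by
  have h1 : Mono (uapp I₀ e M) :=
    HomologicalComplex.mono_of_mono_f _ (fun n => mono_uapp_f I₀ e he M n)
  have h2 : Epi (cokernel.π (uapp I₀ e M)) := inferInstance
  exact ShortComplex.ShortExact.mk' (ShortComplex.exact_cokernel _) h1 h2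

/-- The induced map on cokernels. -/
noncomputable def qmap {M M' : CochainComplex A ℤ} (f : M ⟶ M') :
    cokernel (uapp I₀ e M) ⟶ cokernel (uapp I₀ e M') :=
  cokernel.map _ _ f (Jmap I₀ f) (u_nat I₀ e f)

@[reassoc]
theorem π_qmap {M M' : CochainComplex A ℤ} (f : M ⟶ M') :
    cokernel.π (uapp I₀ e M) ≫ qmap I₀ e f = Jmap I₀ f ≫ cokernel.π (uapp I₀ e M') := by
  simp [qmap]

theorem qmap_id (M : CochainComplex A ℤ) : qmap I₀ e (𝟙 M) = 𝟙 _ := by
  apply coequalizer.hom_ext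
  rw [π_qmap, Jmap_id, Category.id_comp, Category.comp_id]

theorem qmap_comp {M M' M'' : CochainComplex A ℤ} (f : M ⟶ M') (g : M' ⟶ M'') :
    qmap I₀ e (f ≫ g) = qmap I₀ e f ≫ qmap I₀ e g := by
  apply coequalizer.hom_ext
  rw [π_qmap, π_qmap_assoc, π_qmap, Jmap_comp, Category.assoc]

/-- The cone functor `M ↦ cone (J M ⟶ Q M)`. -/
noncomputable def C : CochainComplex A ℤ ⥤ CochainComplex A ℤ where
  obj M := mappingCone (cokernel.π (uapp I₀ e M))
  map {M M'} f := mappingCone.map _ _ (Jmap I₀ f) (qmap I₀ e f) (π_qmap I₀ e f)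
  map_id M :=
    (map_congr _ _ _ _ _ _ _ (by rw [Category.id_comp, Category.comp_id]) (Jmap_id I₀ M)
      (qmap_id I₀ e M)).trans (mappingCone.map_id _)
  map_comp {M M' M''} f g :=
    (map_congr _ _ _ _ _ _ _ (by rw [π_qmap_assoc, π_qmap, Category.assoc])
      (Jmap_comp I₀ f g) (qmap_comp I₀ e f g)).trans
      (mappingCone.map_comp _ _ _ _ _ (π_qmap I₀ e f) _ _ (π_qmap I₀ e g))

/-- The natural map `M⟦1⟧ ⟶ cone (J M ⟶ Q M)`. -/
noncomputable def Θ : CategoryTheory.shiftFunctor (CochainComplex A ℤ) (1 : ℤ) ⟶ C I₀ e where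
  app M := θ (SM I₀ e M)
  naturality M M' f :=
    θ_naturality (S := SM I₀ e M) (S' := SM I₀ e M') f (Jmap I₀ f) (qmap I₀ e f)
      (u_nat I₀ e f) (π_qmap I₀ e f)

end Functorial

set_option backward.isDefEq.respectTransparency.types false in
theorem result {A : Type u} [Category.{v} A] [Abelian A]
    [IsGrothendieckAbelian.{v} A] :
    ∃ (N : CochainComplex A ℤ ⥤ CochainComplex A ℤ) (j : 𝟭 _ ⟶ N),
      ∀ M : CochainComplex A ℤ, (∀ n : ℤ, Mono ((j.app M).f n)) ∧ QuasiIso (j.app M) ∧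
        ∀ n : ℤ, ∃ (I : A) (_ : Injective I) (a : M.X n ⟶ I) (b : I ⟶ (N.obj M).X n),
          Mono b ∧ a ≫ b = (j.app M).f n := by
  obtain ⟨I₀, e, he⟩ := H5.exists_functorial_injective_embedding.{v} A
  have hinj : ∀ X, Injective (I₀.obj X) := fun X => (he X).1
  have hmono : ∀ X, Mono (e.app X) := fun X => (he X).2
  let T₁ := CategoryTheory.shiftFunctor (CochainComplex A ℤ) (1 : ℤ)
  let T₂ := CategoryTheory.shiftFunctor (CochainComplex A ℤ) (-1 : ℤ)
  let iso : T₂ ⋙ T₁ ≅ 𝟭 _ := shiftFunctorCompIsoId (CochainComplex A ℤ) (-1 : ℤ) 1 (by norm_num)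
  refine ⟨T₂ ⋙ C I₀ e, iso.inv ≫ Functor.whiskerLeft T₂ (Θ I₀ e), fun M => ?_⟩
  have hj : (iso.inv ≫ Functor.whiskerLeft T₂ (Θ I₀ e)).app M =
      iso.inv.app M ≫ θ (SM I₀ e (T₂.obj M)) := rfl
  have hSE := SM_shortExact I₀ e hmono (T₂.obj M)
  refine ⟨fun n => ?_, ?_, fun n => ?_⟩
  · rw [hj, HomologicalComplex.comp_f]
    exact @mono_comp _ _ _ _ _ ((iso.inv.app M).f n) inferInstance
      ((θ (SM I₀ e (T₂.obj M))).f n) (mono_θ_f hSE n)
  · rw [hj]
    exact quasiIso_comp (hφ' := quasiIso_θ hSE) _ _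
  · have := hinj ((T₂.obj M).X (n + 1))
    have := hinj ((T₂.obj M).X (n + 1 + 1))
    refine ⟨I₀.obj ((T₂.obj M).X (n + 1)) ⊞ I₀.obj ((T₂.obj M).X (n + 1 + 1)), inferInstance,
      (iso.inv.app M).f n ≫ (uapp I₀ e (T₂.obj M)).f (n + 1),
      (mappingCone.inl (cokernel.π (uapp I₀ e (T₂.obj M)))).v (n + 1) n (by omega), ?_, ?_⟩
    · exact mono_inl (SM I₀ e (T₂.obj M)) n
    · rw [hj, HomologicalComplex.comp_f, Category.assoc]
      rfl

end Groth.Agent.S0918
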