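import Groth.Statements.S0919
import Mathlib.CategoryTheory.Adjunction.AdjointFunctorTheorems
import Mathlib.CategoryTheory.Abelian.Subobject
import Mathlib.CategoryTheory.Limits.Yoneda

set_option autoImplicit false
universe v u
open CategoryTheory
open CohDer

namespace Groth.Agent.S0919

open CategoryTheory.Limits Opposite in
/-- Let A be a Grothendieck abelian category and F a contravariant functor from A to sets (a functor on
the opposite category). Then F is representable if and only if F turns all small colimits of A into
limits, i.e. preserves small limits as a functor on the opposite category. -/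
theorem result {A : Type u} [Category.{v} A] [Abelian A]
    [IsGrothendieckAbelian.{v} A] (F : Aᵒᵖ ⥤ Type v) :
    F.IsRepresentable ↔ PreservesLimitsOfSize.{v, v} F := by
  constructor
  · intro h
    exact preservesLimits_of_natIso F.reprW
  · intro h
    have hsep : ObjectProperty.IsCoseparating (ObjectProperty.singleton (coseparator Aᵒᵖ)) :=
      isCoseparator_coseparator Aᵒᵖ
    have hF : F.IsRightAdjoint := isRightAdjoint_of_preservesLimits_of_isCoseparating hsep F
    let L := F.leftAdjoint
    let adj : L ⊣ F := Adjunction.ofIsRightAdjoint F
    refine ⟨(L.obj PUnit).unop, ⟨?_⟩⟩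
    exact
      { homEquiv := fun {X} =>
          ((opEquiv (L.obj PUnit) (op X)).symm.trans (adj.homEquiv PUnit (op X))).trans
            (Functor.CorepresentableBy.id.homEquiv)
        homEquiv_comp := by
          intro X X' f g
          have h := adj.homEquiv_naturality_right (X := PUnit) (Y := op X') (Y' := op X) g.op f.op
          change ((adj.homEquiv PUnit (op X)) (g.op ≫ f.op)) ⟨⟩ = F.map f.op (((adj.homEquiv PUnit (op X')) g.op) ⟨⟩)
          rw [h]
          rfl }

end Groth.Agent.S0919
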