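import Groth.Statements.S0920
import Groth.Agent.H40.FlatPullback
import Groth.Agent.H40.TorAmp
import Groth.Agent.H31.Lpull

set_option autoImplicit false
universe u
open CategoryTheory
attribute [local instance] HasDerivedCategory.standard
open DCoh

namespace Groth.Agent.S0920

open AlgebraicGeometry in
/-- For f : X -> Y and E in D(O_Y) represented by a complex of flat modules vanishing outside [a, b],
the derived pullback Lf^* E (under its existence binder) has tor-amplitude in [a, b]. -/
theorem result {X Y : Scheme.{u}} (f : X ⟶ Y) [DCoh.HasLpull f] (E : DCoh.D Y) (a b : ℤ)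
    (hE : DCoh.HasFlatAmplitudeIn a b E) : DCoh.HasTorAmplitudeIn a b ((DCoh.Lpull f).obj E) := by
  obtain ⟨P, hPb, hPf, ⟨e⟩⟩ := hE
  have hPK : DCoh.IsKFlat P :=
    Groth.Agent.H40.TorAmp.isKFlat_of_bounded_above_stalkFlat P b
      (fun i hi => hPb i (Or.inr hi)) hPf
  have iso : (DCoh.Lpull f).obj E ≅ DerivedCategory.Q.obj
      (((Scheme.Modules.pullback f).mapHomologicalComplex (ComplexShape.up ℤ)).obj P) :=
    (DCoh.Lpull f).mapIso e.symm ≪≫ Groth.Agent.H31.Stalk.LpullObjIso f P hPK
  apply Groth.Agent.H40.TorAmp.hasTorAmplitudeIn_of_hasFlatAmplitudeIn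
  exact ⟨((Scheme.Modules.pullback f).mapHomologicalComplex (ComplexShape.up ℤ)).obj P,
    fun i hi => Functor.map_isZero (Scheme.Modules.pullback f) (hPb i hi),
    fun i => Groth.Agent.H40.FlatPullback.isFlat_pullback f _ (hPf i), ⟨iso.symm⟩⟩
end Groth.Agent.S0920
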