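import Groth.Statements.S0927
import Groth.Agent.H53.ProjFormula
import Groth.Agent.S0891
import Groth.Agent.H45.RDerivedExact
import Groth.Agent.H28.LpullLoc2
import Groth.Agent.H40.FlatBridge

set_option autoImplicit false
universe u
open CategoryTheory
open Coh

namespace Groth.Agent.S0927

open AlgebraicGeometry in
/-- `E ⊗ -` as an endofunctor of `Z.Modules`. -/
noncomputable def tL {Z : Scheme.{u}} (E : Z.Modules) : Z.Modules ⥤ Z.Modules :=
  (ModSite.tensorBi Z.sheaf).obj E

open AlgebraicGeometry CategoryTheory.Limits in
/-- `E ⊗ -` is exact and additive for `E` finite locally free. -/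
theorem tensorLeft_exact {Z : Scheme.{u}} (E : Z.Modules) (hE : FlatMod.IsFinLocFree E) :
    (tL E).Additive ∧ PreservesFiniteLimits (tL E) ∧ PreservesFiniteColimits (tL E) := by
  have hflat : ModSite.IsFlat (O := Z.sheaf) E :=
    Groth.Agent.H40.FlatBridge.isFlat_of_stalkFlat E
      (Groth.Agent.H28.LpullLoc.isFlat_of_isFinLocFree hE)
  have : PreservesFiniteLimits ((ModSite.tensorBi Z.sheaf).flip.obj E) := hflat.1
  have h1 : PreservesFiniteLimits ((ModSite.tensorBi Z.sheaf).obj E) :=
    preservesFiniteLimits_of_natIso (Groth.Agent.H31.braidIso (O := Z.sheaf) E).symm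
  have h2 : PreservesFiniteColimits ((ModSite.tensorBi Z.sheaf).obj E) := inferInstance
  have h3 : ((ModSite.tensorBi Z.sheaf).obj E).Additive := by
    have := preservesBinaryBiproducts_of_preservesBinaryCoproducts
      ((ModSite.tensorBi Z.sheaf).obj E)
    exact Functor.additive_of_preservesBinaryBiproducts _
  exact ⟨h3, h1, h2⟩

open AlgebraicGeometry CategoryTheory.Limits in
/-- Projection formula, for schemes and one degree at a time: let f : X → Y be a morphism of schemes, F
an O_X-module and E a finite locally free O_Y-module. Then for every q the O_Y-module E ⊗ R^q f_* F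
is isomorphic to R^q f_* (f^* E ⊗ F). The higher direct images are the right derived functors of
f_*, under the instance argument recording that O_X-modules have injective resolutions. (The
published statement treats ringed spaces and also gives a version for bounded-below complexes.) -/
theorem result {X Y : Scheme.{u}} (f : X ⟶ Y) [HasInjectiveResolutions X.Modules]
    (F : X.Modules) (E : Y.Modules) (hE : FlatMod.IsFinLocFree E) (q : ℕ) :
    Nonempty (CohB1.tensorMod E ((Coh.Rpush f q).obj F) ≅
      (Coh.Rpush f q).obj (CohB1.tensorMod ((Scheme.Modules.pullback f).obj E) F)) := by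
  have hEX : FlatMod.IsFinLocFree ((Scheme.Modules.pullback f).obj E) :=
    Groth.Agent.H28.LpullLoc.isFinLocFree_pullback f hE
  obtain ⟨a1, a2, a3⟩ := tensorLeft_exact E hE
  obtain ⟨b1, b2, b3⟩ := tensorLeft_exact ((Scheme.Modules.pullback f).obj E) hEX
  have hInj : ∀ J : X.Modules, Injective J →
      Injective ((tL ((Scheme.Modules.pullback f).obj E)).obj J) :=
    fun J hJ => Groth.Agent.S0891.result J _ hEX
  exact Groth.Agent.H45.RDerivedExact.nonempty_rightDerived_iso
    (Scheme.Modules.pushforward f) (Scheme.Modules.pushforward f)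
    (tL ((Scheme.Modules.pullback f).obj E)) (tL E) hInj
    (Groth.Agent.H53.ProjFormula.pfIso f E hE) F q

end Groth.Agent.S0927
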