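import Groth.Statements.S0928
import Mathlib.CategoryTheory.Abelian.GrothendieckCategory.EnoughInjectives
import Mathlib.CategoryTheory.Abelian.GrothendieckAxioms.Sheaf
import Mathlib.CategoryTheory.Generator.Presheaf
import Mathlib.Algebra.Category.Grp.AB

set_option autoImplicit false
universe u
open CategoryTheory
open CohDer

namespace Groth.Agent.S0928

open Limits in
theorem isGrothendieckAbelian_presheaf {C : Type u} [SmallCategory C] :
    IsGrothendieckAbelian.{u} (Cᵒᵖ ⥤ AddCommGrpCat.{u}) where
  ab5OfSize := ⟨fun K _ _ => inferInstance⟩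

open Limits ZeroObject in
/-- In a Grothendieck abelian category there are functorial injective embeddings. -/
theorem exists_functorial_injective_embedding (A : Type (u + 1)) [Category.{u} A] [Abelian A]
    [IsGrothendieckAbelian.{u} A] :
    ∃ (J : A ⥤ A) (j : 𝟭 _ ⟶ J), ∀ F : A, Injective (J.obj F) ∧ Mono (j.app F) := by
  let T : A ⥤ Arrow A :=
    { obj := fun F => Arrow.mk (0 : F ⟶ 0)
      map := fun f => Arrow.homMk f (𝟙 0) (by simp)
      map_id := fun F => by ext <;> simp
      map_comp := fun f g => by ext <;> simp }
  let data := MorphismProperty.functorialFactorizationData (MorphismProperty.monomorphisms A)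
    (MorphismProperty.monomorphisms A).rlp
  let j : 𝟭 A ⟶ T ⋙ data.Z :=
    { app := fun F => data.i.app (T.obj F)
      naturality := fun F G f => data.i.naturality (T.map f) }
  refine ⟨T ⋙ data.Z, j, fun F => ⟨?_, ?_⟩⟩
  · exact inferInstanceAs (Injective (IsGrothendieckAbelian.monoMapFactorizationDataRlp (0 : F ⟶ 0)).Z)
  · exact inferInstanceAs (Mono (IsGrothendieckAbelian.monoMapFactorizationDataRlp (0 : F ⟶ 0)).i)

/-- On a small category C the category of presheaves of abelian groups has functorial injective
embeddings: there are an endofunctor J of the presheaf category and a natural transformation from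
the identity to J with each component a monomorphism into an injective presheaf. -/
theorem result {C : Type u} [SmallCategory C] :
    ∃ (J : (Cᵒᵖ ⥤ AddCommGrpCat.{u}) ⥤ (Cᵒᵖ ⥤ AddCommGrpCat.{u})) (j : 𝟭 _ ⟶ J),
      ∀ F : Cᵒᵖ ⥤ AddCommGrpCat.{u}, Injective (J.obj F) ∧ Mono (j.app F) := by
  have := isGrothendieckAbelian_presheaf (C := C)
  exact exists_functorial_injective_embedding (Cᵒᵖ ⥤ AddCommGrpCat.{u})

end Groth.Agent.S0928
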