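import Groth.Statements.S0931
-- import your own Groth.Agent.* helpers here

import Groth.Agent.H5.HDU.Nat
import Groth.Agent.H5.KInj.Derives
import Mathlib.Algebra.Homology.HomotopyCategory.ShiftSequence

set_option autoImplicit false
universe u
open CategoryTheory
open CohSite

namespace Groth.Agent.S0931

open Groth.Agent.H5.HDULib Groth.Agent.H5.KInjDer Limits Opposite

section Aux

variable {C : Type u} [SmallCategory C] {J : GrothendieckTopology C}
  [HasDerivedCategory.{u} (Sheaf J AddCommGrpCat.{u})]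
  (M : CochainComplex (Sheaf J AddCommGrpCat.{u}) ℤ) [M.IsKInjective]

/-- The map from `M⁻¹` to the sheaf of degree `0` cocycles. -/
noncomputable def δ : M.X (-1) ⟶ kernel (M.d 0 1) :=
  kernel.lift (M.d 0 1) (M.d (-1) 0) (M.d_comp_d _ _ _)

theorem δ_clM : (δ M).hom ≫ clM J M = 0 := by
  apply NatTrans.ext
  funext U
  apply AddCommGrpCat.hom_ext
  ext r
  change ((clM J M).app (op U.unop)).hom (sec J (δ M) U.unop r) = 0
  rw [clM_eq_zero_iff]
  refine ⟨r, ?_⟩
  rw [← sec_comp, δ, kernel.lift_ι]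

instance : Epi (clM J M) := by
  haveI : ∀ U, Epi ((clM J M).app U) := fun U => by
    rw [AddCommGrpCat.epi_iff_surjective]
    exact fun y => clM_surjective J M U.unop y
  exact NatTrans.epi_of_epi_app _

theorem kernel_ι_comp {T : Sheaf J AddCommGrpCat.{u}} (g : kernel (M.d 0 1) ⟶ T)
    (hg : δ M ≫ g = 0) : kernel.ι (clM J M) ≫ g.hom = 0 := by
  apply NatTrans.ext
  funext U
  apply AddCommGrpCat.hom_ext
  ext x
  let s : (kernel (M.d 0 1)).obj.obj (op U.unop) := ((kernel.ι (clM J M)).app U).hom x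
  have hs : ((clM J M).app (op U.unop)).hom s = 0 := by
    change ((kernel.ι (clM J M) ≫ clM J M).app U).hom x = 0
    rw [kernel.condition]
    rfl
  rw [clM_eq_zero_iff] at hs
  obtain ⟨r, hr⟩ := hs
  have hs' : s = sec J (δ M) U.unop r := by
    apply sec_injective_of_mono J (kernel.ι (M.d 0 1)) U.unop
    rw [← hr, ← sec_comp, δ, kernel.lift_ι]
  change sec J g U.unop s = 0
  rw [hs', ← sec_comp, hg, sec_zero]

omit [HasDerivedCategory.{u} (Sheaf J AddCommGrpCat.{u})] in
/-- If `p : Z ⟶ P` is an epimorphism of presheaves from (the underlying presheaf of) a sheaf `Z`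
whose kernel is killed by every sheaf morphism killing `d`, then the sheafification of `P` is the
cokernel of `d`. -/
theorem nonempty_iso_cokernel {P : Cᵒᵖ ⥤ AddCommGrpCat.{u}} {Z₁ Z : Sheaf J AddCommGrpCat.{u}}
    (d : Z₁ ⟶ Z) (p : Z.obj ⟶ P) [Epi p] (h0 : d.hom ≫ p = 0)
    (hker : ∀ (T : Sheaf J AddCommGrpCat.{u}) (g : Z ⟶ T), d ≫ g = 0 → kernel.ι p ≫ g.hom = 0) :
    Nonempty ((presheafToSheaf J AddCommGrpCat.{u}).obj P ≅ cokernel d) := by
  let adj := sheafificationAdjunction J AddCommGrpCat.{u}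
  let π : Z ⟶ (presheafToSheaf J AddCommGrpCat.{u}).obj P :=
    ObjectProperty.homMk (p ≫ adj.unit.app P)
  have hπ : π.hom = p ≫ adj.unit.app P := rfl
  have w : d ≫ π = 0 := by
    apply ObjectProperty.hom_ext
    rw [ObjectProperty.FullSubcategory.comp_hom, hπ, ← Category.assoc, h0, zero_comp]
    rfl
  have hcolim : IsColimit (CokernelCofork.ofπ π w) :=
    CokernelCofork.IsColimit.ofπ π w
      (fun {T} g hg => (adj.homEquiv P T).symm (Abelian.epiDesc p g.hom (hker T g hg)))
      (fun {T} g hg => by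
        apply ObjectProperty.hom_ext
        rw [ObjectProperty.FullSubcategory.comp_hom, hπ, Category.assoc]
        have h1 : adj.unit.app P ≫ ((adj.homEquiv P T).symm
            (Abelian.epiDesc p g.hom (hker T g hg))).hom = Abelian.epiDesc p g.hom (hker T g hg) := by
          have := (adj.homEquiv P T).apply_symm_apply (Abelian.epiDesc p g.hom (hker T g hg))
          rw [Adjunction.homEquiv_unit] at this
          exact this
        rw [h1, Abelian.comp_epiDesc])
      (fun {T} g hg m hm => by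
        apply (adj.homEquiv P T).injective
        rw [Equiv.apply_symm_apply, ← cancel_epi p, Abelian.comp_epiDesc,
          Adjunction.homEquiv_unit, ← Category.assoc]
        have := congrArg (fun φ => φ.hom) hm
        rw [← this]
        rfl)
  exact ⟨hcolim.coconePointUniqueUpToIso (colimit.isColimit (parallelPair d 0))⟩

theorem nonempty_iso_homology_zero :
    Nonempty ((presheafToSheaf J AddCommGrpCat.{u}).obj
      (CohCx.HDUPresheaf (DerivedCategory.Q.obj M) 0) ≅ M.homology 0) := by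
  obtain ⟨e1⟩ := nonempty_iso_cokernel (δ M) (clM J M) (δ_clM M) (fun T g hg => kernel_ι_comp M g hg)
  let e2 : cokernel (δ M) ≅ (M.sc' (-1) 0 1).homology :=
    (ShortComplex.homologyIsoCokernelLift (M.sc' (-1) 0 1)).symm
  let e3 : M.homology 0 ≅ (M.sc' (-1) 0 1).homology :=
    HomologicalComplex.homologyIsoSc' M (-1) 0 1 (by simp) (by simp)
  exact ⟨e1 ≪≫ e2 ≪≫ e3.symm⟩

end Aux

/-- Let K be an object of the derived category of abelian sheaves on a site and q an integer. Then the
sheafification of the presheaf U ↦ H^q(U, K) is isomorphic to the q-th cohomology sheaf H^q(K). -/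
theorem result {C : Type u} [SmallCategory C] {J : GrothendieckTopology C}
    [HasDerivedCategory.{u} (Sheaf J AddCommGrpCat.{u})] (K : DerivedCategory (Sheaf J AddCommGrpCat.{u}))
    (q : ℤ) :
    Nonempty ((presheafToSheaf J AddCommGrpCat.{u}).obj (CohCx.HDUPresheaf K q) ≅ CohCx.HD K q) := by

  let K₀ := DerivedCategory.Q.objPreimage K
  let eK : DerivedCategory.Q.obj K₀ ≅ K := DerivedCategory.Q.objObjPreimageIso K
  let M : CochainComplex (Sheaf J AddCommGrpCat.{u}) ℤ := (ρ₀ (Sheaf J AddCommGrpCat.{u})).obj K₀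
  haveI hM : M.IsKInjective := ρ₀_kinj (Sheaf J AddCommGrpCat.{u}) K₀
  have hι : QuasiIso ((ι (Sheaf J AddCommGrpCat.{u})).app K₀) :=
    (HomologicalComplex.mem_quasiIso_iff _).1 (ι_mem (Sheaf J AddCommGrpCat.{u}) K₀)
  have hQι : IsIso (DerivedCategory.Q.map ((ι (Sheaf J AddCommGrpCat.{u})).app K₀)) :=
    (DerivedCategory.isIso_Q_map_iff_quasiIso _ _).2 hι
  let e : DerivedCategory.Q.obj M ≅ K := (@asIso _ _ _ _ _ hQι).symm ≪≫ eK
  let M' : CochainComplex (Sheaf J AddCommGrpCat.{u}) ℤ := M⟦q⟧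
  obtain ⟨e0⟩ := nonempty_iso_homology_zero M'
  let a : (shiftFunctor (DerivedCategory (Sheaf J AddCommGrpCat.{u})) q).obj K ≅
      (shiftFunctor (DerivedCategory (Sheaf J AddCommGrpCat.{u})) (0 : ℤ)).obj
        (DerivedCategory.Q.obj M') :=
    (shiftFunctor _ q).mapIso e.symm ≪≫ ((DerivedCategory.Q.commShiftIso q).app M).symm ≪≫
      ((shiftFunctorZero _ ℤ).app _).symm
  let b : CohCx.HDUPresheaf K q ≅ CohCx.HDUPresheaf (DerivedCategory.Q.obj M') 0 :=
    Functor.isoWhiskerLeft (G J).op (preadditiveYoneda.mapIso a)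
  let c1 : M'.homology 0 ≅ M.homology q :=
    ((HomologicalComplex.homologyFunctor (Sheaf J AddCommGrpCat.{u}) (ComplexShape.up ℤ) 0).shiftIso
      q 0 q (add_zero q)).app M
  let c2 : M.homology q ≅ CohCx.HD K q :=
    ((DerivedCategory.homologyFunctorFactors (Sheaf J AddCommGrpCat.{u}) q).app M).symm ≪≫
      (DerivedCategory.homologyFunctor _ q).mapIso e
  exact ⟨(presheafToSheaf J AddCommGrpCat.{u}).mapIso b ≪≫ e0 ≪≫ c1 ≪≫ c2⟩

end Groth.Agent.S0931
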