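import Groth.Statements.S0934
import Groth.Agent.H53.ModEpi

set_option autoImplicit false
universe u
open CategoryTheory
open Coh

namespace Groth.Agent.S0934

open AlgebraicGeometry in
/-- Schemes; E finite locally free, which on a scheme is locally the same as a direct summand of a
finite free module: let p : G -> F be an epimorphism of O_X-modules and φ : E -> F a morphism with E
finite locally free. Then every point has an open neighbourhood V and a morphism ψ : E|_V -> G|_V
with ψ ≫ p|_V = φ|_V. -/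
theorem result {X : Scheme.{u}} {E F G : X.Modules} (p : G ⟶ F) [Epi p] (φ : E ⟶ F)
    (hE : FlatMod.IsFinLocFree E) (x : X) :
    ∃ (V : X.Opens) (ψ : E.restrict V.ι ⟶ G.restrict V.ι), x ∈ V ∧
      ψ ≫ (Scheme.Modules.restrictFunctor V.ι).map p = (Scheme.Modules.restrictFunctor V.ι).map φ := by
  classical
  obtain ⟨U, n, hxU, ⟨α⟩⟩ := hE x
  let FU := F.restrict U.ι
  let GU := G.restrict U.ι
  let φU := (Scheme.Modules.restrictFunctor U.ι).map φ
  let pU := (Scheme.Modules.restrictFunctor U.ι).map p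
  let f : Fin n → (Coh.structureModule (↑U) ⟶ FU) := fun k =>
    Limits.Sigma.ι (fun _ : Fin n => Coh.structureModule (↑U)) k ≫ α.inv ≫ φU
  let t : Fin n → SheafOfModules.sections FU := fun k => SheafOfModules.unitHomEquiv FU (f k)
  have hloc : ∀ k, ∃ (Vk : X.Opens) (hVk : Vk ≤ U.ι ''ᵁ ⊤) (s : Γ(G, Vk)), x ∈ Vk ∧
      p.app Vk s = F.presheaf.map (homOfLE hVk).op ((t k).val (Opposite.op ⊤)) := fun k =>
    Groth.Agent.H53.modules_epi_locally_surjective p _ _ x (by simpa using hxU)
  choose Vk hVk s hxVk hs using hloc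
  let V : X.Opens := ⟨(⋂ k, (Vk k : Set X)) ∩ U, (isOpen_iInter_of_finite fun k => (Vk k).2).inter U.2⟩
  have hxV : x ∈ V := ⟨Set.mem_iInter.2 hxVk, hxU⟩
  have hVU : V ≤ U := fun y hy => hy.2
  have hVVk : ∀ k, V ≤ Vk k := fun k y hy => Set.mem_iInter.1 hy.1 k
  let j : (V : Scheme.{u}) ⟶ (U : Scheme.{u}) := X.homOfLE hVU
  have hjι : j ≫ U.ι = V.ι := X.homOfLE_ι hVU
  have hle : ∀ (k : Fin n) (W : (↑U : Scheme.{u}).Opens), U.ι ''ᵁ (j ''ᵁ (j ⁻¹ᵁ W)) ≤ Vk k := by
    intro k W
    refine le_trans ?_ (hVVk k)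
    rintro _ ⟨_, ⟨z, -, rfl⟩, rfl⟩
    have hz : U.ι (j z) = V.ι z := by rw [← hjι]; rfl
    have hz' : V.ι z ∈ V := z.2
    rw [← hz] at hz'
    exact hz'
  let N := (Scheme.Modules.restrictFunctor j).obj GU
  let P := (Scheme.Modules.pushforward j).obj N
  let σ : Fin n → SheafOfModules.sections P := fun k =>
    PresheafOfModules.sectionsMk
      (fun W => G.presheaf.map (homOfLE (hle k W.unop)).op (s k))
      (by
        intro W W' g
        have hWW' : U.ι ''ᵁ (j ''ᵁ (j ⁻¹ᵁ W'.unop)) ≤ U.ι ''ᵁ (j ''ᵁ (j ⁻¹ᵁ W.unop)) :=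
          Scheme.Hom.image_mono _ (Scheme.Hom.image_mono _
            (Scheme.Hom.preimage_mono _ (leOfHom g.unop)))
        exact (congrArg (fun m => (ConcreteCategory.hom m) (s k))
          (G.presheaf.map_comp (homOfLE (hle k W.unop)).op (homOfLE hWW').op)).symm)
  let adj := Scheme.Modules.restrictAdjunction j
  let EU := E.restrict U.ι
  let ψ' : (Scheme.Modules.restrictFunctor j).obj EU ⟶ N :=
    (adj.homEquiv EU N).symm
      (α.hom ≫ Limits.Sigma.desc (fun k => (SheafOfModules.unitHomEquiv P).symm (σ k)))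
  have hψ' : ψ' ≫ (Scheme.Modules.restrictFunctor j).map pU =
      (Scheme.Modules.restrictFunctor j).map φU := by
    apply (adj.homEquiv _ _).injective
    rw [Adjunction.homEquiv_naturality_right, Equiv.apply_symm_apply, Adjunction.homEquiv_unit,
      adj.unit_naturality, Category.assoc, ← cancel_epi α.inv, Iso.inv_hom_id_assoc]
    apply Limits.Sigma.hom_ext
    intro k
    rw [Limits.Sigma.ι_desc_assoc]
    have hf : Limits.Sigma.ι (fun _ : Fin n => Coh.structureModule (↑U)) k ≫ α.inv ≫ φU ≫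
        adj.unit.app FU = (SheafOfModules.unitHomEquiv FU).symm (t k) ≫ adj.unit.app FU := by
      simp only [t, Equiv.symm_apply_apply, f]
      exact (Category.assoc _ _ _).symm.trans (Category.assoc _ _ _).symm
    refine Eq.trans ?_ hf.symm
    refine (SheafOfModules.unitHomEquiv_symm_comp _ _).trans
      (Eq.trans ?_ (SheafOfModules.unitHomEquiv_symm_comp _ _).symm)
    congr 1
    apply PresheafOfModules.sections_ext
    intro W
    have hW1 : U.ι ''ᵁ (j ''ᵁ (j ⁻¹ᵁ W.unop)) ≤ U.ι ''ᵁ W.unop :=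
      Scheme.Hom.image_mono _ (j.image_preimage_le W.unop)
    have hW2 : U.ι ''ᵁ W.unop ≤ U.ι ''ᵁ ⊤ := Scheme.Hom.image_mono _ le_top
    have e1 : (t k).val W = F.presheaf.map (homOfLE hW2).op ((t k).val (Opposite.op ⊤)) :=
      (PresheafOfModules.sections_property (t k) (homOfLE (le_top : W.unop ≤ ⊤)).op).symm
    have e2 : p.app (U.ι ''ᵁ (j ''ᵁ (j ⁻¹ᵁ W.unop)))
        (G.presheaf.map (homOfLE (hle k W.unop)).op (s k)) =
        F.presheaf.map (homOfLE (hle k W.unop)).op (p.app (Vk k) (s k)) :=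
      congrArg (fun m => (ConcreteCategory.hom m) (s k))
        (p.mapPresheaf.naturality (homOfLE (hle k W.unop)).op)
    show p.app (U.ι ''ᵁ (j ''ᵁ (j ⁻¹ᵁ W.unop)))
        (G.presheaf.map (homOfLE (hle k W.unop)).op (s k)) =
      F.presheaf.map (homOfLE hW1).op ((t k).val W)
    rw [e2, hs k, e1]
    rw [← ConcreteCategory.comp_apply, ← ConcreteCategory.comp_apply, ← Functor.map_comp,
      ← Functor.map_comp]
    rfl
  let θ : Scheme.Modules.restrictFunctor V.ι ≅
      Scheme.Modules.restrictFunctor U.ι ⋙ Scheme.Modules.restrictFunctor j :=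
    Scheme.Modules.restrictFunctorCongr hjι.symm ≪≫ Scheme.Modules.restrictFunctorComp j U.ι
  refine ⟨V, θ.hom.app E ≫ ψ' ≫ θ.inv.app G, hxV, ?_⟩
  have h1 : (Scheme.Modules.restrictFunctor j).map pU ≫ θ.inv.app F =
      θ.inv.app G ≫ (Scheme.Modules.restrictFunctor V.ι).map p := θ.inv.naturality p
  have h2 : (Scheme.Modules.restrictFunctor V.ι).map φ ≫ θ.hom.app F =
      θ.hom.app E ≫ (Scheme.Modules.restrictFunctor j).map φU := θ.hom.naturality φ
  calc (θ.hom.app E ≫ ψ' ≫ θ.inv.app G) ≫ (Scheme.Modules.restrictFunctor V.ι).map p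
      = θ.hom.app E ≫ ψ' ≫ (θ.inv.app G ≫ (Scheme.Modules.restrictFunctor V.ι).map p) := by
        simp only [Category.assoc]
    _ = θ.hom.app E ≫ ψ' ≫ ((Scheme.Modules.restrictFunctor j).map pU ≫ θ.inv.app F) := by
        rw [h1]
    _ = θ.hom.app E ≫ (ψ' ≫ (Scheme.Modules.restrictFunctor j).map pU) ≫ θ.inv.app F := by
        simp only [Category.assoc]
    _ = (θ.hom.app E ≫ (Scheme.Modules.restrictFunctor j).map φU) ≫ θ.inv.app F := by
        rw [hψ', Category.assoc]
    _ = ((Scheme.Modules.restrictFunctor V.ι).map φ ≫ θ.hom.app F) ≫ θ.inv.app F := by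
        rw [h2]
    _ = (Scheme.Modules.restrictFunctor V.ι).map φ := by
        rw [Category.assoc, Iso.hom_inv_id_app, Category.comp_id]

end Groth.Agent.S0934
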