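import Groth.Statements.S0936
import Groth.Agent.H33.LeraySite

set_option autoImplicit false
universe u
open CategoryTheory
open CohSite

namespace Groth.Agent.S0936

open Opposite CategoryTheory.Limits in
/-- Abelian sheaves, O = Z: let U be an object of a site such that each functor F ↦ H^p(U, F) on abelian
sheaves preserves direct sums. Then for every family (M_i) of objects of the derived category of
abelian sheaves which is uniformly bounded below and whose direct sum exists, the canonical map ⊕_i
Hom(Z[h_U]^#, M_i) -> Hom(Z[h_U]^#, ⊕_i M_i) is bijective. -/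
theorem result {C : Type u} [SmallCategory C] (J : GrothendieckTopology C)
    (U : C) [HasDerivedCategory.{u} (Sheaf J AddCommGrpCat.{u})]
    (h : ∀ (p : ℕ) (ι : Type u), PreservesColimitsOfShape (Discrete ι)
      ((Sheaf.cohomologyPresheafFunctor J p).flip.obj (op U)))
    {I : Type u} (M : I → DerivedCategory (Sheaf J AddCommGrpCat.{u})) [HasCoproduct M] (a : ℤ)
    (hM : ∀ i, (M i).IsGE a) :
    Function.Bijective (CohDer.homSumToHomCoprod
      ((DerivedCategory.singleFunctor (Sheaf J AddCommGrpCat.{u}) 0).obj (CohCx.freeSheaf J U)) M) := by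
  classical
  have hmod : ∀ i, ∃ (Ii : CochainComplex (Sheaf J AddCommGrpCat.{u}) ℤ), Ii.IsStrictlyGE a ∧
      (∀ n, Injective (Ii.X n)) ∧ Nonempty (DerivedCategory.Q.obj Ii ≅ M i) := fun i => by
    haveI := hM i
    obtain ⟨K, hK, ⟨e⟩⟩ := (M i).exists_iso_Q_obj_of_isGE a
    haveI := hK
    obtain ⟨L, j, hj, hL, hL'⟩ :=
      CochainComplex.Plus.modelCategoryQuillen.exists_quasiIso_injective K a
    haveI : IsIso (DerivedCategory.Q.map j) :=
      (DerivedCategory.isIso_Q_map_iff_quasiIso _ j).2 hj
    exact ⟨L, hL', hL, ⟨(asIso (DerivedCategory.Q.map j)).symm ≪≫ e.symm⟩⟩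
  choose I_ hGE hInj e using hmod
  exact Groth.Agent.H33.LeraySite.bijective_of_core _ M I_ (fun i => (e i).some)
    (fun g => Groth.Agent.H33.LeraySite.core_bounded J U h I_ a hGE hInj g)

end Groth.Agent.S0936
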