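import Groth.Statements.S0938
import Groth.Agent.H99.SecEquiv

set_option autoImplicit false
universe u
open CategoryTheory
open Coh

namespace Groth.Agent.S0938

open AlgebraicGeometry CategoryTheory.Limits Opposite Groth.Agent.H99.SecEquiv

set_option backward.isDefEq.respectTransparency false

/-- The finite free module of the prelude is Mathlib's free sheaf of modules. -/
noncomputable def eFree (X : Scheme.{u}) (n : ℕ) :
    (SheafOfModules.free (R := X.ringCatSheaf) (ULift.{u} (Fin n)) : SheafOfModules.{u} X.ringCatSheaf) ≅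
      (FlatMod.freeMod X n : SheafOfModules.{u} X.ringCatSheaf) :=
  Sigma.reindex (Equiv.ulift.{u} (α := Fin n)) (fun _ : Fin n => SheafOfModules.unit X.ringCatSheaf)

/-- The global sections functor. -/
noncomputable def F0 (X : Scheme.{u}) : X.Modules ⥤ ModuleCat.{u} (Γ(X, ⊤)) :=
  SheafOfModules.evaluation X.ringCatSheaf (op (⊤ : X.Opens))

theorem bij_of_retract {X : Scheme.{u}} (M N : X.Modules) (n : ℕ) (i : M ⟶ FlatMod.freeMod X n)
    (r : FlatMod.freeMod X n ⟶ M) (hir : i ≫ r = 𝟙 M) :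
    Function.Bijective (fun φ : M ⟶ N => (F0 X).map φ) := by
  have hb := G_bijective_of_retract (R := X.ringCatSheaf) (I := ULift.{u} (Fin n))
    (X := (⊤ : X.Opens)) isTerminalTop (E := M) (M := N)
    (i ≫ (eFree X n).inv) ((eFree X n).hom ≫ r) (by
      rw [Category.assoc, Iso.inv_hom_id_assoc]; exact hir)
  constructor
  · intro φ ψ h
    apply hb.1
    exact congrArg ModuleCat.Hom.hom h
  · intro g
    obtain ⟨φ, hφ⟩ := hb.2 g.hom
    exact ⟨φ, ModuleCat.hom_ext hφ⟩

theorem fp_of_retract {X : Scheme.{u}} (M : X.Modules) (n : ℕ) (i : M ⟶ FlatMod.freeMod X n)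
    (r : FlatMod.freeMod X n ⟶ M) (hir : i ≫ r = 𝟙 M) :
    Module.Finite (Γ(X, ⊤)) ((F0 X).obj M) ∧ Module.Projective (Γ(X, ⊤)) ((F0 X).obj M) :=
  finite_projective_of_retract (R := X.ringCatSheaf) (I := ULift.{u} (Fin n))
    (X := (⊤ : X.Opens)) isTerminalTop (E := M)
    (i ≫ (eFree X n).inv) ((eFree X n).hom ≫ r) (by
      rw [Category.assoc, Iso.inv_hom_id_assoc]; exact hir)

theorem exists_of_fp {X : Scheme.{u}} (N : ModuleCat.{u} (Γ(X, ⊤)))
    (h1 : Module.Finite (Γ(X, ⊤)) N) (h2 : Module.Projective (Γ(X, ⊤)) N) :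
    ∃ (M : X.Modules) (n : ℕ) (i : M ⟶ FlatMod.freeMod X n) (r : FlatMod.freeMod X n ⟶ M),
      i ≫ r = 𝟙 M ∧ Nonempty ((F0 X).obj M ≅ N) := by
  have : Module.Finite (X.ringCatSheaf.obj.obj (op (⊤ : X.Opens))) N := h1
  have : Module.Projective (X.ringCatSheaf.obj.obj (op (⊤ : X.Opens))) N := h2
  obtain ⟨n, E, i, p, hip, hiso⟩ :=
    exists_retract_of_finite_projective (R := X.ringCatSheaf) (X := (⊤ : X.Opens)) isTerminalTop N
  refine ⟨E, n, i ≫ (eFree X n).hom, (eFree X n).inv ≫ p, ?_, hiso⟩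
  rw [Category.assoc, Iso.hom_inv_id_assoc]
  exact hip

end Groth.Agent.S0938

namespace Groth.Agent.S0938

open AlgebraicGeometry CategoryTheory.Limits in
/-- For a scheme X with R = Γ(X, O_X), the full subcategory of O_X-modules which are retracts of a
finite free O_X-module is equivalent to the full subcategory of R-modules which are finite and
projective (existence of an equivalence of categories). The published statement is for ringed
spaces; stated here for schemes. -/
theorem result {X : Scheme.{u}} :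
    Nonempty ((ObjectProperty.FullSubcategory fun M : X.Modules =>
        ∃ (n : ℕ) (i : M ⟶ FlatMod.freeMod X n) (r : FlatMod.freeMod X n ⟶ M), i ≫ r = 𝟙 M) ≌
      (ObjectProperty.FullSubcategory fun N : ModuleCat.{u} (Γ(X, ⊤)) =>
        Module.Finite (Γ(X, ⊤)) N ∧ Module.Projective (Γ(X, ⊤)) N)) := by
  let P : ObjectProperty X.Modules := fun M : X.Modules =>
    ∃ (n : ℕ) (i : M ⟶ FlatMod.freeMod X n) (r : FlatMod.freeMod X n ⟶ M), i ≫ r = 𝟙 M
  let Q : ObjectProperty (ModuleCat.{u} (Γ(X, ⊤))) := fun N : ModuleCat.{u} (Γ(X, ⊤)) =>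
    Module.Finite (Γ(X, ⊤)) N ∧ Module.Projective (Γ(X, ⊤)) N
  have hF0 : ∀ M : P.FullSubcategory, Q ((P.ι ⋙ F0 X).obj M) := by
    rintro ⟨M, n, i, r, hir⟩
    exact fp_of_retract M n i r hir
  let F : P.FullSubcategory ⥤ Q.FullSubcategory := Q.lift (P.ι ⋙ F0 X) hF0
  have : F.Faithful := by
    refine ⟨fun {M N} φ ψ h => ?_⟩
    obtain ⟨n, i, r, hir⟩ := M.property
    apply ObjectProperty.hom_ext
    apply (bij_of_retract M.obj N.obj n i r hir).1
    exact congrArg (fun g => g.hom) h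
  have : F.Full := by
    refine ⟨fun {M N} g => ?_⟩
    obtain ⟨n, i, r, hir⟩ := M.property
    obtain ⟨φ, hφ⟩ := (bij_of_retract M.obj N.obj n i r hir).2 g.hom
    exact ⟨ObjectProperty.homMk φ, ObjectProperty.hom_ext _ hφ⟩
  have : F.EssSurj := by
    refine ⟨fun N => ?_⟩
    obtain ⟨M, n, i, r, hir, ⟨e⟩⟩ := exists_of_fp N.obj N.property.1 N.property.2
    exact ⟨⟨M, n, i, r, hir⟩, ⟨Q.isoMk e⟩⟩
  have : F.IsEquivalence := {}
  exact ⟨F.asEquivalence⟩

end Groth.Agent.S0938
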