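import Groth.Statements.S12510
import Groth.Agent.H53.SiteTensor2

set_option autoImplicit false
universe u
open CategoryTheory
attribute [local instance] HasDerivedCategory.standard
open DCoh

namespace Groth.Agent.S12510

open AlgebraicGeometry in
/-- For schemes and with the complex L K-flat. Let X be a scheme and K, L cochain complexes of
O_X-modules with L K-flat, so that K ⊗^L L is the total tensor complex K ⊗ L; take the derived
tensor functors − ⊗^L K, − ⊗^L L, − ⊗^L (K ⊗ L) and their right adjoints RHom under their existence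
binders. Then the functors RHom(K ⊗ L, −) and RHom(K, RHom(L, −)) from D(O_X) to itself are
isomorphic. (The published statement is a natural isomorphism of triangulated functors in all three
variables on a ringed space; this row asserts the existence of an isomorphism of functors in the
last variable, which refines the objectwise statement.) -/
theorem result {X : Scheme.{u}} (K L : CochainComplex X.Modules ℤ) (hL : DCoh.IsKFlat L)
    [DCoh.HasLTensorCx K] [DCoh.HasRSheafHom K] [DCoh.HasLTensorCx L] [DCoh.HasRSheafHom L]
    [DCoh.HasLTensorCx ((DCoh.tensorCx.obj K).obj L)] [DCoh.HasRSheafHom ((DCoh.tensorCx.obj K).obj L)] :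
    Nonempty (DCoh.RSheafHom ((DCoh.tensorCx.obj K).obj L) ≅ DCoh.RSheafHom L ⋙ DCoh.RSheafHom K) := by
  have h1 : (DCoh.LTensorCx K).IsLeftDerivedFunctor
      ((DCoh.tensorCxQ K).totalLeftDerivedCounit DerivedCategory.Q
        (HomologicalComplex.quasiIso X.Modules (ComplexShape.up ℤ)))
      (HomologicalComplex.quasiIso X.Modules (ComplexShape.up ℤ)) := inferInstance
  have h2 : (DCoh.LTensorCx L).IsLeftDerivedFunctor
      ((DCoh.tensorCxQ L).totalLeftDerivedCounit DerivedCategory.Q
        (HomologicalComplex.quasiIso X.Modules (ComplexShape.up ℤ)))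
      (HomologicalComplex.quasiIso X.Modules (ComplexShape.up ℤ)) := inferInstance
  have h3 : (DCoh.LTensorCx ((DCoh.tensorCx.obj K).obj L)).IsLeftDerivedFunctor
      ((DCoh.tensorCxQ ((DCoh.tensorCx.obj K).obj L)).totalLeftDerivedCounit DerivedCategory.Q
        (HomologicalComplex.quasiIso X.Modules (ComplexShape.up ℤ)))
      (HomologicalComplex.quasiIso X.Modules (ComplexShape.up ℤ)) := inferInstance
  exact Groth.Agent.H53.SiteTensor.nonempty_rightAdj_iso (O := X.sheaf) K L hL
    (DCoh.LTensorCx K) (DCoh.LTensorCx L) (DCoh.LTensorCx ((DCoh.tensorCx.obj K).obj L))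
    ((DCoh.tensorCxQ K).totalLeftDerivedCounit DerivedCategory.Q
      (HomologicalComplex.quasiIso X.Modules (ComplexShape.up ℤ)))
    ((DCoh.tensorCxQ L).totalLeftDerivedCounit DerivedCategory.Q
      (HomologicalComplex.quasiIso X.Modules (ComplexShape.up ℤ)))
    ((DCoh.tensorCxQ ((DCoh.tensorCx.obj K).obj L)).totalLeftDerivedCounit DerivedCategory.Q
      (HomologicalComplex.quasiIso X.Modules (ComplexShape.up ℤ)))
    h1 h2 h3
    (DCoh.RSheafHom K) (DCoh.RSheafHom L) (DCoh.RSheafHom ((DCoh.tensorCx.obj K).obj L))
    (DCoh.RSheafHomAdj K) (DCoh.RSheafHomAdj L) (DCoh.RSheafHomAdj ((DCoh.tensorCx.obj K).obj L))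

end Groth.Agent.S12510
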