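import Groth.Statements.S0972
import Mathlib
-- import your own Groth.Agent.* helpers here

set_option autoImplicit false
universe v u
open CategoryTheory CategoryTheory.Limits
open CohDer

namespace Groth.Agent.S0972

open HomologicalComplex

section OneStep

variable {A : Type u} [Category.{v} A] [Abelian A]

lemma rel_succ (n : ℤ) : (ComplexShape.up ℤ).Rel n (n + 1) := rfl

lemma lift_comp_eq {X B C Z : A} (f : X ⟶ B) (g : X ⟶ C) (p : B ⊞ C ⟶ Z) :
    biprod.lift f g ≫ p = f ≫ biprod.inl ≫ p + g ≫ biprod.inr ≫ p := by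
  rw [biprod.lift_eq, Preadditive.add_comp, Category.assoc, Category.assoc]

variable (K : CochainComplex A ℤ) (M : ℤ → A) (ι : ∀ n, K.X n ⟶ M n)

/-- `P n = M (n+1) ⊞ M n`. -/
noncomputable abbrev P (n : ℤ) : A := M (n + 1) ⊞ M n

/-- the differential `(a, b) ↦ (0, a)` of the contractible complex `J`. -/
noncomputable def dP (n : ℤ) : P M n ⟶ P M (n + 1) :=
  (biprod.fst : P M n ⟶ M (n + 1)) ≫ (biprod.inr : M (n + 1) ⟶ P M (n + 1))

lemma dP_sq (n : ℤ) : dP M n ≫ dP M (n + 1) = 0 := by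
  simp [dP]

/-- the contractible complex. -/
noncomputable def J : CochainComplex A ℤ := CochainComplex.of (P M) (dP M) (dP_sq M)

lemma J_d (n : ℤ) : (J M).d n (n + 1) = dP M n := CochainComplex.of_d _ _ n

lemma dP_exact (n : ℤ) : (ShortComplex.mk (dP M n) (dP M (n + 1)) (dP_sq M n)).Exact := by
  rw [ShortComplex.exact_iff_exact_up_to_refinements]
  intro T x₂ hx₂
  dsimp at x₂ hx₂
  have h0 : x₂ ≫ (biprod.fst : P M (n + 1) ⟶ M (n + 1 + 1)) = 0 := by
    have h : (x₂ ≫ (biprod.fst : P M (n + 1) ⟶ M (n + 1 + 1))) ≫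
        (biprod.inr : M (n + 1 + 1) ⟶ P M (n + 1 + 1)) = 0 := by
      rw [Category.assoc]; exact hx₂
    exact (cancel_mono (biprod.inr : M (n + 1 + 1) ⟶ P M (n + 1 + 1))).1 (h.trans zero_comp.symm)
  refine ⟨T, 𝟙 T, inferInstance,
    x₂ ≫ (biprod.snd : P M (n + 1) ⟶ M (n + 1)) ≫ (biprod.inl : M (n + 1) ⟶ P M n), ?_⟩
  dsimp
  have h1 : x₂ = x₂ ≫ (biprod.snd : P M (n + 1) ⟶ M (n + 1)) ≫
      (biprod.inr : M (n + 1) ⟶ P M (n + 1)) := by
    conv_lhs => rw [← Category.comp_id x₂, ← biprod.total, Preadditive.comp_add,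
      ← Category.assoc, h0, zero_comp, zero_add]
  rw [Category.id_comp]
  simp only [dP, Category.assoc, biprod.inl_fst_assoc]
  exact h1

lemma J_exactAt (n : ℤ) : (J M).ExactAt (n + 1) := by
  rw [(J M).exactAt_iff' n (n + 1) (n + 1 + 1) (by simp) (by simp)]
  refine ShortComplex.exact_of_iso ?_ (dP_exact M n)
  exact ShortComplex.isoMk (Iso.refl _) (Iso.refl _) (Iso.refl _)
    ((Category.id_comp _).trans ((J_d M n).trans (Category.comp_id _).symm))
    ((Category.id_comp _).trans ((J_d M (n + 1)).trans (Category.comp_id _).symm))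

lemma J_homology_isZero (m : ℤ) : IsZero ((J M).homology m) := by
  obtain ⟨n, rfl⟩ : ∃ n, m = n + 1 := ⟨m - 1, by omega⟩
  exact (J_exactAt M n).isZero_homology

/-- the embedding `x ↦ (ι d x, ι x)`. -/
noncomputable def ψ (n : ℤ) : K.X n ⟶ P M n :=
  biprod.lift (K.d n (n + 1) ≫ ι (n + 1)) (ι n)

@[reassoc (attr := simp)]
lemma ψ_fst (n : ℤ) :
    ψ K M ι n ≫ (biprod.fst : P M n ⟶ M (n + 1)) = K.d n (n + 1) ≫ ι (n + 1) := by
  simp [ψ]

@[reassoc (attr := simp)]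
lemma ψ_snd (n : ℤ) : ψ K M ι n ≫ (biprod.snd : P M n ⟶ M n) = ι n := by
  simp [ψ]

lemma ψ_mono [∀ n, Mono (ι n)] (n : ℤ) : Mono (ψ K M ι n) :=
  mono_of_mono_fac (ψ_snd K M ι n)

lemma ψ_cπ (n : ℤ) :
    (K.d n (n + 1) ≫ ι (n + 1)) ≫ (biprod.inl : M (n + 1) ⟶ P M n) ≫ cokernel.π (ψ K M ι n) +
      ι n ≫ (biprod.inr : M n ⟶ P M n) ≫ cokernel.π (ψ K M ι n) = 0 :=
  (lift_comp_eq _ _ _).symm.trans (cokernel.condition (ψ K M ι n))

lemma ψ_dP (n : ℤ) : ψ K M ι n ≫ dP M n = K.d n (n + 1) ≫ ψ K M ι (n + 1) := by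
  apply biprod.hom_ext
  · simp [dP]
  · simp [dP]

/-- the chain map `K ⟶ J`. -/
noncomputable def e : K ⟶ J M where
  f n := ψ K M ι n
  comm' := by
    rintro i j (rfl : i + 1 = j)
    exact (congrArg (fun x => ψ K M ι i ≫ x) (J_d M i)).trans (ψ_dP K M ι i)

/-- differential of the quotient `Q = J / K`. -/
noncomputable def dQ (n : ℤ) : cokernel (ψ K M ι n) ⟶ cokernel (ψ K M ι (n + 1)) :=
  cokernel.desc _ (dP M n ≫ cokernel.π _) (by
    rw [← Category.assoc, ψ_dP, Category.assoc, cokernel.condition, comp_zero])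

@[reassoc]
lemma π_dQ (n : ℤ) :
    cokernel.π (ψ K M ι n) ≫ dQ K M ι n = dP M n ≫ cokernel.π (ψ K M ι (n + 1)) := by
  simp [dQ]

lemma dQ_sq (n : ℤ) : dQ K M ι n ≫ dQ K M ι (n + 1) = 0 := by
  rw [← cancel_epi (cokernel.π (ψ K M ι n)), π_dQ_assoc, π_dQ, ← Category.assoc, dP_sq,
    zero_comp, comp_zero]

/-- the quotient complex `Q = J / K`. -/
noncomputable abbrev QX (n : ℤ) : A := cokernel (ψ K M ι n)

/-- the quotient complex `Q = J / K`. -/
noncomputable def Q : CochainComplex A ℤ :=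
  CochainComplex.of (QX K M ι) (dQ K M ι) (dQ_sq K M ι)

lemma Q_d (n : ℤ) : (Q K M ι).d n (n + 1) = dQ K M ι n := CochainComplex.of_d _ _ n

/-- the projection `J ⟶ Q`. -/
noncomputable def prQ : J M ⟶ Q K M ι where
  f n := cokernel.π (ψ K M ι n)
  comm' := by
    rintro i j (rfl : i + 1 = j)
    exact (congrArg (fun x => cokernel.π (ψ K M ι i) ≫ x) (Q_d K M ι i)).trans
      ((π_dQ K M ι i).trans
        (congrArg (fun x => x ≫ cokernel.π (ψ K M ι (i + 1))) (J_d M i).symm))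

/-- the short exact sequence `0 → K → J → Q → 0`. -/
noncomputable abbrev ses : ShortComplex (CochainComplex A ℤ) :=
  ShortComplex.mk (e K M ι) (prQ K M ι) (by
    ext n
    dsimp [e, prQ]
    exact cokernel.condition _)

lemma ses_shortExact [∀ n, Mono (ι n)] : (ses K M ι).ShortExact := by
  refine HomologicalComplex.shortExact_of_degreewise_shortExact _ (fun n => ?_)
  have hmono : Mono (ψ K M ι n) := ψ_mono K M ι n
  exact ShortComplex.ShortExact.mk' (ShortComplex.exact_cokernel (ψ K M ι n)) hmono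
    (inferInstance : Epi (cokernel.π (ψ K M ι n)))

/-- concrete components of the comparison `K⟦1⟧ ⟶ Q`, `x ↦ [(ι x, 0)]`. -/
noncomputable def tf (n : ℤ) : K.X (n + 1) ⟶ cokernel (ψ K M ι n) :=
  ι (n + 1) ≫ (biprod.inl : M (n + 1) ⟶ P M n) ≫ cokernel.π (ψ K M ι n)

lemma tf_comm (n : ℤ) :
    tf K M ι n ≫ dQ K M ι n = - (K.d (n + 1) (n + 1 + 1) ≫ tf K M ι (n + 1)) := by
  have h := ψ_cπ K M ι (n + 1)
  rw [Category.assoc] at h
  simp only [tf, Category.assoc, π_dQ, dP, biprod.inl_fst_assoc]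
  exact eq_neg_of_add_eq_zero_right h

lemma shift_one_d (n : ℤ) : (K⟦(1 : ℤ)⟧).d n (n + 1) = - K.d (n + 1) (n + 1 + 1) := by
  rw [CochainComplex.shiftFunctor_obj_d', Int.negOnePow_one, Units.neg_smul, one_smul]

/-- the comparison `K⟦1⟧ ⟶ Q`. -/
noncomputable def t : K⟦(1 : ℤ)⟧ ⟶ Q K M ι where
  f n := tf K M ι n
  comm' := by
    rintro i j (rfl : i + 1 = j)
    exact (congrArg (fun x => tf K M ι i ≫ x) (Q_d K M ι i)).trans
      ((tf_comm K M ι i).trans
        ((Preadditive.neg_comp _ _).symm.trans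
          (congrArg (fun x => x ≫ tf K M ι (i + 1)) (shift_one_d K i).symm)))

/-- `K⟦1⟧.X n ⟶ J.X n`, `x ↦ (ι x, 0)`. -/
noncomputable def wf (n : ℤ) : (K⟦(1 : ℤ)⟧).X n ⟶ (J M).X n :=
  ι (n + 1) ≫ (biprod.inl : M (n + 1) ⟶ P M n)

lemma wf_prQ (n : ℤ) : wf K M ι n ≫ (prQ K M ι).f n = (t K M ι).f n :=
  Category.assoc _ _ _

/-- the coercion `K⟦1⟧.X n ⟶ K.X (n+1)`. -/
noncomputable def σ (n : ℤ) : (K⟦(1 : ℤ)⟧).X n ⟶ K.X (n + 1) :=
  (K.shiftFunctorObjXIso 1 n (n + 1) rfl).hom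

lemma σ_eq (n : ℤ) : σ K n = 𝟙 (K.X (n + 1)) := rfl

lemma σ_d (n : ℤ) :
    σ K n ≫ K.d (n + 1) (n + 1 + 1) = - ((K⟦(1 : ℤ)⟧).d n (n + 1) ≫ σ K (n + 1)) := by
  rw [shift_one_d, σ_eq, σ_eq]
  show 𝟙 (K.X (n + 1)) ≫ K.d (n + 1) (n + 1 + 1) =
    - ((- K.d (n + 1) (n + 1 + 1)) ≫ 𝟙 (K.X (n + 1 + 1)))
  rw [Category.id_comp, Category.comp_id, neg_neg]

lemma cyc_σ_d (n : ℤ) :
    ((K⟦(1 : ℤ)⟧).iCycles n ≫ σ K n) ≫ K.d (n + 1) (n + 1 + 1) = 0 := by
  rw [Category.assoc, σ_d, Preadditive.comp_neg, iCycles_d_assoc, zero_comp, neg_zero]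

lemma inl_dP (n : ℤ) :
    (biprod.inl : M (n + 1) ⟶ P M n) ≫ dP M n = (biprod.inr : M (n + 1) ⟶ P M (n + 1)) := by
  simp [dP]

lemma σ_e (n : ℤ) : σ K n ≫ (e K M ι).f (n + 1) =
    wf K M ι n ≫ (J M).d n (n + 1) - (K⟦(1 : ℤ)⟧).d n (n + 1) ≫ wf K M ι (n + 1) := by
  rw [J_d, shift_one_d, σ_eq]
  show 𝟙 (K.X (n + 1)) ≫ ψ K M ι (n + 1) =
    (ι (n + 1) ≫ (biprod.inl : M (n + 1) ⟶ P M n)) ≫ dP M n -
      (- K.d (n + 1) (n + 1 + 1)) ≫
        (ι (n + 1 + 1) ≫ (biprod.inl : M (n + 1 + 1) ⟶ P M (n + 1)))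
  rw [Category.id_comp]
  apply biprod.hom_ext <;> simp [dP]

lemma δ_homologyMap_t [∀ n, Mono (ι n)] (n : ℤ) :
    (K⟦(1 : ℤ)⟧).homologyπ n ≫ homologyMap (t K M ι) n ≫
        (ses_shortExact K M ι).δ n (n + 1) (rel_succ n) =
      K.liftCycles ((K⟦(1 : ℤ)⟧).iCycles n ≫ σ K n) (n + 1 + 1) (by simp) (cyc_σ_d K n) ≫
        K.homologyπ (n + 1) := by
  have hx₃ : ((K⟦(1 : ℤ)⟧).iCycles n ≫ (t K M ι).f n) ≫ (Q K M ι).d n (n + 1) = 0 := by
    rw [Category.assoc, (t K M ι).comm, iCycles_d_assoc, zero_comp]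
  have hx₂ : ((K⟦(1 : ℤ)⟧).iCycles n ≫ wf K M ι n) ≫ (prQ K M ι).f n =
      (K⟦(1 : ℤ)⟧).iCycles n ≫ (t K M ι).f n := by
    rw [Category.assoc, wf_prQ]
  have hx₁ : ((K⟦(1 : ℤ)⟧).iCycles n ≫ σ K n) ≫ (e K M ι).f (n + 1) =
      ((K⟦(1 : ℤ)⟧).iCycles n ≫ wf K M ι n) ≫ (J M).d n (n + 1) := by
    rw [Category.assoc, σ_e, Preadditive.comp_sub, iCycles_d_assoc, zero_comp, sub_zero,
      Category.assoc]
  have hδ := (ses_shortExact K M ι).δ_eq n (n + 1) (rel_succ n) _ hx₃ _ hx₂ _ hx₁ (n + 1 + 1) (by simp)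
  have ha : (K⟦(1 : ℤ)⟧).homologyπ n ≫ homologyMap (t K M ι) n =
      (Q K M ι).liftCycles ((K⟦(1 : ℤ)⟧).iCycles n ≫ (t K M ι).f n) (n + 1) (by simp) hx₃ ≫
        (Q K M ι).homologyπ n := by
    rw [homologyπ_naturality]
    congr 1
  rw [← Category.assoc, ha, Category.assoc]
  exact hδ

lemma t_quasiIsoAt [∀ n, Mono (ι n)] (n : ℤ) : QuasiIsoAt (t K M ι) n := by
  rw [quasiIsoAt_iff_isIso_homologyMap]
  have hδiso : IsIso ((ses_shortExact K M ι).δ n (n + 1) (rel_succ n)) :=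
    (ses_shortExact K M ι).isIso_δ n (n + 1) (rel_succ n) (J_homology_isZero M n)
      (J_homology_isZero M (n + 1))
  have h1 : (K⟦(1 : ℤ)⟧).liftCycles ((K⟦(1 : ℤ)⟧).iCycles n) (n + 1) (by simp)
      ((K⟦(1 : ℤ)⟧).iCycles_d n (n + 1)) = 𝟙 _ := by
    rw [← cancel_mono ((K⟦(1 : ℤ)⟧).iCycles n), liftCycles_i, Category.id_comp]
  have h := CochainComplex.liftCycles_shift_homologyπ_assoc K ((K⟦(1 : ℤ)⟧).iCycles n) (n + 1)
    (by simp) ((K⟦(1 : ℤ)⟧).iCycles_d n (n + 1)) (n + 1) (add_comm 1 n) (n + 1 + 1) (by simp)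
    (((HomologicalComplex.homologyFunctor A (ComplexShape.up ℤ) 0).shiftIso (1 : ℤ) n (n + 1)
      (add_comm 1 n)).hom.app K)
  rw [h1, Category.id_comp] at h
  have hb : (K⟦(1 : ℤ)⟧).homologyπ n ≫
      ((HomologicalComplex.homologyFunctor A (ComplexShape.up ℤ) 0).shiftIso (1 : ℤ) n (n + 1)
        (add_comm 1 n)).hom.app K =
      K.liftCycles ((K⟦(1 : ℤ)⟧).iCycles n ≫ σ K n) (n + 1 + 1) (by simp) (cyc_σ_d K n) ≫
        K.homologyπ (n + 1) :=
    h.trans ((congrArg (fun x => K.liftCycles ((K⟦(1 : ℤ)⟧).iCycles n ≫ σ K n) (n + 1 + 1)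
        (by simp) (cyc_σ_d K n) ≫ K.homologyπ (n + 1) ≫ x)
      (((HomologicalComplex.homologyFunctor A (ComplexShape.up ℤ) 0).shiftIso (1 : ℤ) n (n + 1)
        (add_comm 1 n)).inv_hom_id_app K)).trans
      (congrArg (fun x => K.liftCycles ((K⟦(1 : ℤ)⟧).iCycles n ≫ σ K n) (n + 1 + 1)
        (by simp) (cyc_σ_d K n) ≫ x) (Category.comp_id (K.homologyπ (n + 1)))))
  have key : (K⟦(1 : ℤ)⟧).homologyπ n ≫ (homologyMap (t K M ι) n ≫
      (ses_shortExact K M ι).δ n (n + 1) (rel_succ n)) = (K⟦(1 : ℤ)⟧).homologyπ n ≫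
      ((HomologicalComplex.homologyFunctor A (ComplexShape.up ℤ) 0).shiftIso (1 : ℤ) n (n + 1)
        (add_comm 1 n)).hom.app K :=
    (δ_homologyMap_t K M ι n).trans hb.symm
  have key' := (cancel_epi _).1 key
  haveI := hδiso
  haveI : IsIso (homologyMap (t K M ι) n ≫ (ses_shortExact K M ι).δ n (n + 1) (rel_succ n)) := by
    rw [key']
    exact (inferInstance : IsIso (((HomologicalComplex.homologyFunctor A (ComplexShape.up ℤ)
      0).shiftIso (1 : ℤ) n (n + 1) (add_comm 1 n)).hom.app K))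
  exact IsIso.of_isIso_comp_right (homologyMap (t K M ι) n)
    ((ses_shortExact K M ι).δ n (n + 1) (rel_succ n))

instance t_quasiIso [∀ n, Mono (ι n)] : QuasiIso (t K M ι) :=
  (quasiIso_iff _).2 (fun n => t_quasiIsoAt K M ι n)

lemma inl_cπ_isIso (n : ℤ) [IsIso (ι n)] :
    IsIso ((biprod.inl : M (n + 1) ⟶ P M n) ≫ cokernel.π (ψ K M ι n)) := by
  have h := ψ_cπ K M ι n
  have h2 : (biprod.inr : M n ⟶ P M n) ≫ cokernel.π (ψ K M ι n) =
      - (inv (ι n) ≫ (K.d n (n + 1) ≫ ι (n + 1)) ≫ (biprod.inl : M (n + 1) ⟶ P M n) ≫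
        cokernel.π (ψ K M ι n)) := by
    rw [← cancel_epi (ι n), Preadditive.comp_neg, IsIso.hom_inv_id_assoc]
    exact eq_neg_of_add_eq_zero_right h
  refine ⟨⟨cokernel.desc (ψ K M ι n)
    ((biprod.fst : P M n ⟶ M (n + 1)) -
      (biprod.snd : P M n ⟶ M n) ≫ inv (ι n) ≫ K.d n (n + 1) ≫ ι (n + 1)) ?_, ?_, ?_⟩⟩
  · rw [Preadditive.comp_sub, ψ_fst, ψ_snd_assoc, IsIso.hom_inv_id_assoc, sub_self]
  · rw [Category.assoc, cokernel.π_desc, Preadditive.comp_sub, biprod.inl_fst,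
      biprod.inl_snd_assoc, zero_comp, sub_zero]
  · rw [← cancel_epi (cokernel.π (ψ K M ι n)), cokernel.π_desc_assoc, Category.comp_id]
    calc ((biprod.fst : P M n ⟶ M (n + 1)) -
            (biprod.snd : P M n ⟶ M n) ≫ inv (ι n) ≫ K.d n (n + 1) ≫ ι (n + 1)) ≫
          (biprod.inl : M (n + 1) ⟶ P M n) ≫ cokernel.π (ψ K M ι n)
        = (biprod.fst : P M n ⟶ M (n + 1)) ≫ (biprod.inl : M (n + 1) ⟶ P M n) ≫
            cokernel.π (ψ K M ι n) +
          (biprod.snd : P M n ⟶ M n) ≫ (biprod.inr : M n ⟶ P M n) ≫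
            cokernel.π (ψ K M ι n) := by
          rw [h2]
          simp only [Preadditive.add_comp, Preadditive.neg_comp,
            Preadditive.comp_neg, Category.assoc, sub_eq_add_neg]
      _ = ((biprod.fst : P M n ⟶ M (n + 1)) ≫ (biprod.inl : M (n + 1) ⟶ P M n) +
            (biprod.snd : P M n ⟶ M n) ≫ (biprod.inr : M n ⟶ P M n)) ≫
            cokernel.π (ψ K M ι n) := by
          rw [Preadditive.add_comp, Category.assoc, Category.assoc]
      _ = cokernel.π (ψ K M ι n) := by rw [biprod.total, Category.id_comp]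

lemma tf_isIso (n : ℤ) [IsIso (ι (n + 1))] [IsIso (ι n)] : IsIso (tf K M ι n) := by
  haveI := inl_cπ_isIso K M ι n
  unfold tf
  infer_instance

/-- the next complex `Q⟦-1⟧`. -/
noncomputable abbrev N : CochainComplex A ℤ := (Q K M ι)⟦(-1 : ℤ)⟧

/-- the transition map `K ⟶ N`. -/
noncomputable def τ : K ⟶ N K M ι :=
  (shiftShiftNeg K (1 : ℤ)).inv ≫ (t K M ι)⟦(-1 : ℤ)⟧'

instance τ_quasiIso [∀ n, Mono (ι n)] : QuasiIso (τ K M ι) := by
  unfold τ
  infer_instance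

lemma τ_f_isIso (m : ℤ) (h : IsIso (tf K M ι (m + -1))) : IsIso ((τ K M ι).f m) := by
  unfold τ
  rw [HomologicalComplex.comp_f]
  haveI : IsIso (((t K M ι)⟦(-1 : ℤ)⟧').f m) := h
  haveI : IsIso ((shiftShiftNeg K (1 : ℤ)).inv.f m) :=
    inferInstanceAs (IsIso ((HomologicalComplex.eval A (ComplexShape.up ℤ) m).map
      (shiftShiftNeg K (1 : ℤ)).inv))
  infer_instance

end OneStep

section Iterate

variable {A : Type u} [Category.{v} A] [Abelian A] (d : A → ℕ∞)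
  (h1 : ∀ X : A, ∃ (Y : A) (ι : X ⟶ Y), Mono ι ∧ d Y = 0)

/-- a chosen embedding into an object with `d = 0`, the identity when possible. -/
structure Emb (X : A) where
  Y : A
  ι : X ⟶ Y
  mono : Mono ι
  dY : d Y = 0
  iso : d X = 0 → IsIso ι

noncomputable def emb (X : A) : Emb d X := by
  classical
  exact if h : d X = 0 then ⟨X, 𝟙 X, inferInstance, h, fun _ => inferInstance⟩
    else ⟨(h1 X).choose, (h1 X).choose_spec.choose, (h1 X).choose_spec.choose_spec.1,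
      (h1 X).choose_spec.choose_spec.2, fun h' => absurd h' h⟩

noncomputable def EM (K : CochainComplex A ℤ) (n : ℤ) : A := (emb d h1 (K.X n)).Y

noncomputable def Eι (K : CochainComplex A ℤ) (n : ℤ) : K.X n ⟶ EM d h1 K n :=
  (emb d h1 (K.X n)).ι

instance (K : CochainComplex A ℤ) (n : ℤ) : Mono (Eι d h1 K n) := (emb d h1 (K.X n)).mono

lemma d_EM (K : CochainComplex A ℤ) (n : ℤ) : d (EM d h1 K n) = 0 := (emb d h1 (K.X n)).dY

lemma Eι_isIso (K : CochainComplex A ℤ) (n : ℤ) (h : d (K.X n) = 0) : IsIso (Eι d h1 K n) :=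
  (emb d h1 (K.X n)).iso h

noncomputable def next (K : CochainComplex A ℤ) : CochainComplex A ℤ :=
  N K (EM d h1 K) (Eι d h1 K)

noncomputable def nextτ (K : CochainComplex A ℤ) : K ⟶ next d h1 K :=
  τ K (EM d h1 K) (Eι d h1 K)

instance (K : CochainComplex A ℤ) : QuasiIso (nextτ d h1 K) := by
  unfold nextτ
  exact @τ_quasiIso _ _ _ K (EM d h1 K) (Eι d h1 K) (fun n => inferInstance)

lemma nextτ_f_isIso (K : CochainComplex A ℤ) (m : ℤ) (h0 : d (K.X m) = 0)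
    (h1' : d (K.X (m + -1)) = 0) : IsIso ((nextτ d h1 K).f m) := by
  apply τ_f_isIso
  haveI : IsIso (Eι d h1 K (m + -1)) := Eι_isIso d h1 K _ h1'
  haveI : IsIso (Eι d h1 K (m + -1 + 1)) := by
    apply Eι_isIso
    have e : m + -1 + 1 = m := by omega
    rw [e]; exact h0
  exact tf_isIso K (EM d h1 K) (Eι d h1 K) (m + -1)

variable (h2 : ∀ X Y : A, d (X ⊞ Y) ≤ max (d X) (d Y))
  (h3 : ∀ S : ShortComplex A, S.ShortExact → d S.X₃ ≤ max (d S.X₁ - 1) (d S.X₂))

include h2 h3 in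
lemma d_next (K : CochainComplex A ℤ) (m : ℤ) :
    d ((next d h1 K).X m) ≤ d (K.X (m + -1)) - 1 := by
  have hSE : (ShortComplex.mk (ψ K (EM d h1 K) (Eι d h1 K) (m + -1)) (cokernel.π _)
      (cokernel.condition _)).ShortExact :=
    ShortComplex.ShortExact.mk' (ShortComplex.exact_cokernel _)
      (ψ_mono K (EM d h1 K) (Eι d h1 K) (m + -1)) inferInstance
  have h := h3 _ hSE
  have hP : d (P (EM d h1 K) (m + -1)) = 0 := by
    have h' := h2 (EM d h1 K (m + -1 + 1)) (EM d h1 K (m + -1))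
    rw [d_EM d h1 K, d_EM d h1 K, max_self] at h'
    exact nonpos_iff_eq_zero.1 h'
  dsimp at h
  rw [hP, max_eq_left (by simp)] at h
  exact h

/-- the sequence of complexes. -/
noncomputable def Kseq (K : CochainComplex A ℤ) : ℕ → CochainComplex A ℤ
  | 0 => K
  | i + 1 => next d h1 (Kseq K i)

noncomputable def τseq (K : CochainComplex A ℤ) (i : ℕ) :
    Kseq d h1 K i ⟶ Kseq d h1 K (i + 1) :=
  nextτ d h1 (Kseq d h1 K i)

instance (K : CochainComplex A ℤ) (i : ℕ) : QuasiIso (τseq d h1 K i) := by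
  unfold τseq
  exact (inferInstance : QuasiIso (nextτ d h1 (Kseq d h1 K i)))

include h2 h3 in
lemma d_Kseq (K : CochainComplex A ℤ) (i : ℕ) :
    ∀ m : ℤ, d ((Kseq d h1 K i).X m) ≤ d (K.X (m - i)) - i := by
  induction i with
  | zero => intro m; simp [Kseq]
  | succ i ih =>
    intro m
    have e : m + -1 - (i : ℤ) = m - ((i + 1 : ℕ) : ℤ) := by push_cast; ring
    calc d ((Kseq d h1 K (i + 1)).X m)
        ≤ d ((Kseq d h1 K i).X (m + -1)) - 1 := d_next d h1 h2 h3 _ m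
      _ ≤ (d (K.X (m + -1 - i)) - i) - 1 := tsub_le_tsub_right (ih (m + -1)) 1
      _ = d (K.X (m - ((i + 1 : ℕ) : ℤ))) - ((i + 1 : ℕ) : ℕ∞) := by
          rw [e, tsub_tsub]; norm_cast

include h2 h3 in
lemma Kseq_zero_from (K : CochainComplex A ℤ)
    (hK : ∀ m : ℤ, ∃ N : ℤ, ∀ n : ℤ, n ≤ N → ∃ k : ℕ, d (K.X n) = k ∧ n + k ≤ m) (m : ℤ) :
    ∃ i₀ : ℕ, ∀ i : ℕ, i₀ ≤ i → d ((Kseq d h1 K i).X m) = 0 := by
  obtain ⟨N, hN⟩ := hK m
  refine ⟨(m - N).toNat, fun i hi => ?_⟩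
  have hle : m - (i : ℤ) ≤ N := by
    have := Int.self_le_toNat (m - N)
    omega
  obtain ⟨k, hk, hk'⟩ := hN (m - i) hle
  have h := d_Kseq d h1 h2 h3 K i m
  rw [hk] at h
  have hki : k ≤ i := by omega
  have h0 : ((k : ℕ) : ℕ∞) - ((i : ℕ) : ℕ∞) = 0 := tsub_eq_zero_of_le (by exact_mod_cast hki)
  rw [h0] at h
  exact nonpos_iff_eq_zero.1 h

end Iterate

section Seq

variable {C : Type*} [Category C] (G : ℕ ⥤ C) (I : ℕ)
  (hG : ∀ i, I ≤ i → IsIso (G.map (homOfLE (Nat.le_succ i))))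

include hG in
lemma isIso_map_add : ∀ (k i : ℕ) (f : i ⟶ i + k), I ≤ i → IsIso (G.map f)
  | 0, i, f, _ => by
    have : f = 𝟙 i := Subsingleton.elim _ _
    rw [this, G.map_id]; infer_instance
  | k + 1, i, f, hi => by
    have : f = (homOfLE (Nat.le_add_right i k) : i ⟶ i + k) ≫ homOfLE (Nat.le_succ (i + k)) :=
      Subsingleton.elim _ _
    rw [this, G.map_comp]
    haveI := isIso_map_add k i (homOfLE (Nat.le_add_right i k)) hi
    haveI := hG (i + k) (hi.trans (Nat.le_add_right i k))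
    infer_instance

include hG in
lemma isIso_map_of_le (i j : ℕ) (f : i ⟶ j) (hi : I ≤ i) : IsIso (G.map f) := by
  obtain ⟨k, rfl⟩ := Nat.exists_eq_add_of_le (leOfHom f)
  exact isIso_map_add G I hG k i f hi

/-- the iso `G I ≅ G i` for `I ≤ i`. -/
noncomputable def isoOf (i : ℕ) (h : I ≤ i) : G.obj I ≅ G.obj i :=
  @asIso _ _ _ _ (G.map (homOfLE h)) (isIso_map_of_le G I hG I i (homOfLE h) le_rfl)

lemma isoOf_hom (i : ℕ) (h : I ≤ i) : (isoOf G I hG i h).hom = G.map (homOfLE h) := rfl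

/-- the explicit colimit cocone with point `G I`. -/
noncomputable def c₀ : Cocone G where
  pt := G.obj I
  ι :=
    { app := fun i => if h : i ≤ I then G.map (homOfLE h)
        else (isoOf G I hG i (le_of_not_ge h)).inv
      naturality := by
        intro i j f
        dsimp only [Functor.const_obj_obj, Functor.const_obj_map]
        rw [Category.comp_id]
        by_cases hj : j ≤ I
        · have hi : i ≤ I := (leOfHom f).trans hj
          rw [dif_pos hj, dif_pos hi, ← G.map_comp]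
          exact congrArg G.map (Subsingleton.elim _ _)
        · rw [dif_neg hj]
          by_cases hi : i ≤ I
          · rw [dif_pos hi, Iso.comp_inv_eq, isoOf_hom, ← G.map_comp]
            exact congrArg G.map (Subsingleton.elim _ _)
          · rw [dif_neg hi, Iso.comp_inv_eq, Iso.eq_inv_comp, isoOf_hom, isoOf_hom, ← G.map_comp]
            exact congrArg G.map (Subsingleton.elim _ _) }

lemma c₀_ι_I : (c₀ G I hG).ι.app I = 𝟙 _ := by
  show (if h : I ≤ I then G.map (homOfLE h) else (isoOf G I hG I (le_of_not_ge h)).inv) = _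
  rw [dif_pos le_rfl]
  exact (congrArg G.map (Subsingleton.elim _ _)).trans (G.map_id I)

/-- it is a colimit. -/
noncomputable def c₀_isColimit : IsColimit (c₀ G I hG) where
  desc s := s.ι.app I
  fac s i := by
    dsimp [c₀]
    by_cases hi : i ≤ I
    · rw [dif_pos hi]; exact s.w _
    · rw [dif_neg hi, Iso.inv_comp_eq, isoOf_hom]; exact (s.w _).symm
  uniq s m hm := by
    have h := hm I
    have h2 : (c₀ G I hG).ι.app I ≫ m = m := by
      rw [c₀_ι_I]; exact Category.id_comp m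
    exact h2.symm.trans h

lemma c₀_ι_isIso (i : ℕ) (hi : I ≤ i) : IsIso ((c₀ G I hG).ι.app i) := by
  dsimp [c₀]
  by_cases h : i ≤ I
  · rw [dif_pos h]; exact isIso_map_of_le G I hG i I _ hi
  · rw [dif_neg h]; infer_instance

include hG in
lemma ι_isIso_of_isColimit (c : Cocone G) (hc : IsColimit c) (i : ℕ) (hi : I ≤ i) :
    IsIso (c.ι.app i) := by
  have h := IsColimit.comp_coconePointUniqueUpToIso_hom (c₀_isColimit G I hG) hc i
  rw [← h]
  haveI := c₀_ι_isIso G I hG i hi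
  infer_instance

end Seq

section Final

variable {A : Type u} [Category.{v} A] [Abelian A]

lemma quasiIsoAt_of_isIso_f {K L : CochainComplex A ℤ} (g : K ⟶ L) (m : ℤ)
    (h1 : IsIso (g.f (m - 1))) (h2 : IsIso (g.f m)) (h3 : IsIso (g.f (m + 1))) :
    QuasiIsoAt g m := by
  rw [quasiIsoAt_iff' g (m - 1) m (m + 1) (by simp) (by simp)]
  haveI : Epi ((shortComplexFunctor' A (ComplexShape.up ℤ) (m - 1) m (m + 1)).map g).τ₁ := by
    show Epi (g.f (m - 1)); infer_instance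
  haveI : IsIso ((shortComplexFunctor' A (ComplexShape.up ℤ) (m - 1) m (m + 1)).map g).τ₂ := by
    show IsIso (g.f m); infer_instance
  haveI : Mono ((shortComplexFunctor' A (ComplexShape.up ℤ) (m - 1) m (m + 1)).map g).τ₃ := by
    show Mono (g.f (m + 1)); infer_instance
  exact ShortComplex.quasiIso_of_epi_of_isIso_of_mono _

end Final

/-- Let d assign to each object of an abelian category a value in ℕ∞, invariant under isomorphism, such
that every object embeds into an object with d = 0, d of a binary biproduct is at most the maximum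
of the d of the summands, and in a short exact sequence 0 → X₁ → X₂ → X₃ → 0 one has d(X₃) ≤
max(d(X₁) - 1, d(X₂)). If K is a cochain complex with all d(Kⁿ) finite (the source allows the value
∞; we state the finite case) and n + d(Kⁿ) tending to -∞ as n → -∞, then K maps quasi-isomorphically
to a complex L all of whose terms have d = 0. -/
theorem result {A : Type u} [Category.{v} A] [Abelian A] (d : A → ℕ∞) (hiso : ∀ ⦃X Y : A⦄, Nonempty (X ≅ Y) → d X = d Y)
    (h1 : ∀ X : A, ∃ (Y : A) (ι : X ⟶ Y), Mono ι ∧ d Y = 0)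
    (h2 : ∀ X Y : A, d (X ⊞ Y) ≤ max (d X) (d Y))
    (h3 : ∀ S : ShortComplex A, S.ShortExact → d S.X₃ ≤ max (d S.X₁ - 1) (d S.X₂))
    (K : CochainComplex A ℤ) (hfin : ∀ n : ℤ, d (K.X n) ≠ ⊤)
    (hK : ∀ m : ℤ, ∃ N : ℤ, ∀ n : ℤ, n ≤ N → ∃ k : ℕ, d (K.X n) = k ∧ n + k ≤ m) :
    ∃ (L : CochainComplex A ℤ) (f : K ⟶ L), QuasiIso f ∧ ∀ n, d (L.X n) = 0 := by
  classical
  -- thresholds
  have hz : ∀ m : ℤ, ∃ i₀ : ℕ, ∀ i : ℕ, i₀ ≤ i → d ((Kseq d h1 K i).X m) = 0 :=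
    Kseq_zero_from d h1 h2 h3 K hK
  choose i₀ hi₀ using hz
  let I : ℤ → ℕ := fun m => max (i₀ m) (i₀ (m + -1))
  let F : ℕ ⥤ CochainComplex A ℤ := Functor.ofSequence (τseq d h1 K)
  have hFstep : ∀ i : ℕ, F.map (homOfLE (Nat.le_succ i)) = τseq d h1 K i := fun i =>
    Functor.ofSequence_map_homOfLE_succ _ i
  have hG : ∀ (m : ℤ) (i : ℕ), I m ≤ i →
      IsIso ((F ⋙ HomologicalComplex.eval A (ComplexShape.up ℤ) m).map (homOfLE (Nat.le_succ i))) := by
    intro m i hi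
    show IsIso ((F.map (homOfLE (Nat.le_succ i))).f m)
    rw [hFstep]
    exact nextτ_f_isIso d h1 _ m (hi₀ m i ((le_max_left _ _).trans hi))
      (hi₀ (m + -1) i ((le_max_right _ _).trans hi))
  haveI : ∀ m : ℤ, HasColimit (F ⋙ HomologicalComplex.eval A (ComplexShape.up ℤ) m) := fun m =>
    ⟨⟨⟨c₀ _ (I m) (hG m), c₀_isColimit _ (I m) (hG m)⟩⟩⟩
  have hleg : ∀ (m : ℤ) (i : ℕ), I m ≤ i → IsIso ((colimit.ι F i).f m) := by
    intro m i hi
    exact ι_isIso_of_isColimit _ (I m) (hG m)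
      ((HomologicalComplex.eval A (ComplexShape.up ℤ) m).mapCocone (colimit.cocone F))
      (isColimitOfPreserves (HomologicalComplex.eval A (ComplexShape.up ℤ) m) (colimit.isColimit F))
      i hi
  have hF0 : ∀ i : ℕ, QuasiIso (F.map (homOfLE (Nat.zero_le i))) := by
    intro i
    induction i with
    | zero =>
      have : homOfLE (Nat.zero_le 0) = 𝟙 (0 : ℕ) := Subsingleton.elim _ _
      rw [this, F.map_id]; infer_instance
    | succ i ih =>
      have : homOfLE (Nat.zero_le (i + 1)) = homOfLE (Nat.zero_le i) ≫ homOfLE (Nat.le_succ i) :=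
        Subsingleton.elim _ _
      rw [this, F.map_comp]
      haveI := ih
      haveI : QuasiIso (F.map (homOfLE (Nat.le_succ i))) := by
        rw [hFstep]; exact (inferInstance : QuasiIso (τseq d h1 K i))
      infer_instance
  refine ⟨colimit F, colimit.ι F 0, ?_, ?_⟩
  · refine (quasiIso_iff (colimit.ι F 0)).2 (fun m => ?_)
    let i := max (I (m - 1)) (max (I m) (I (m + 1)))
    have hw : F.map (homOfLE (Nat.zero_le i)) ≫ colimit.ι F i = colimit.ι F 0 := colimit.w F _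
    haveI := hF0 i
    haveI : QuasiIsoAt (colimit.ι F i) m :=
      quasiIsoAt_of_isIso_f _ m (hleg _ i (le_max_left _ _))
        (hleg _ i ((le_max_left _ _).trans (le_max_right _ _)))
        (hleg _ i ((le_max_right _ _).trans (le_max_right _ _)))
    have hq : QuasiIsoAt (F.map (homOfLE (Nat.zero_le i)) ≫ colimit.ι F i) m := inferInstance
    rw [hw] at hq
    exact hq
  · intro m
    haveI := hleg m (I m) le_rfl
    have e : (F.obj (I m)).X m ≅ (colimit F).X m := asIso ((colimit.ι F (I m)).f m)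
    rw [← hiso ⟨e⟩]
    exact hi₀ m (I m) (le_max_left _ _)

end Groth.Agent.S0972
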