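import Groth.Statements.S0973
import Groth.Agent.H56.DerCat

set_option autoImplicit false
universe w v u
open CategoryTheory CategoryTheory.Limits
open CohDer

namespace Groth.Agent.S0973

open DerivedCategory DerivedCategory.TStructure Pretriangulated Groth.Agent.H56

variable {A : Type u} [Category.{v} A] [Abelian A] [HasDerivedCategory.{w} A]

lemma exists_splitting (T : DerivedCategory A) (i a : ℤ) [T.IsLE i] [T.IsGE a]
    (hvan : ∀ j : ℤ, a ≤ j → j < i → ∀ Z : DerivedCategory A, Z.IsGE j → Z.IsLE j →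
      Nonempty ((homologyFunctor A j).obj Z ≅ (homologyFunctor A j).obj T) →
      ∀ g : (t.truncGE i).obj T ⟶ Z⟦(1 : ℤ)⟧, g = 0) :
    ∃ σ : (t.truncGE i).obj T ⟶ T, σ ≫ (t.truncGEπ i).app T = 𝟙 _ := by
  have hδ : (t.truncGEδLT i).app T = 0 := by
    apply hom_shift_eq_zero_of_pieces ((t.truncGE i).obj T) ((i - 1 - a).toNat + 1)
      ((t.truncLT i).obj T) a (i - 1) (by omega)
      (inferInstanceAs (t.IsGE ((t.truncLT i).obj T) a))
      (inferInstanceAs (t.IsLE ((t.truncLT i).obj T) (i - 1)))
    intro j haj hji Z hZGE hZLE ⟨e⟩ g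
    have := isIso_homologyMap_truncLTι T i j (by omega)
    exact hvan j haj (by omega) Z hZGE hZLE
      ⟨e ≪≫ asIso ((homologyFunctor A j).map ((t.truncLTι i).app T))⟩ g
  have hT := t.triangleLTGE_distinguished i T
  obtain ⟨σ, hσ⟩ := Triangle.coyoneda_exact₃ _ hT (𝟙 ((t.truncGE i).obj T)) (by
    change 𝟙 _ ≫ (t.truncGEδLT i).app T = 0
    rw [hδ, comp_zero])
  exact ⟨σ, hσ.symm⟩

lemma exists_section (K : DerivedCategory A) (a : ℤ) [K.IsGE a]
    (hExt : ∀ (i j : ℤ) (p : ℕ), j < i → 2 ≤ p →
      ∀ f : (DerivedCategory.singleFunctor A 0).obj ((DerivedCategory.homologyFunctor A i).obj K) ⟶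
        ((DerivedCategory.singleFunctor A 0).obj ((DerivedCategory.homologyFunctor A j).obj K))⟦(p : ℤ)⟧, f = 0)
    (i : ℤ) :
    ∃ s : (singleFunctor A i).obj ((homologyFunctor A i).obj K) ⟶ K,
      IsIso ((homologyFunctor A i).map s) := by
  have hTLE : ((t.truncLT (i + 1)).obj K).IsLE i :=
    inferInstanceAs (t.IsLE ((t.truncLT (i + 1)).obj K) i)
  have hTGE : ((t.truncLT (i + 1)).obj K).IsGE a :=
    inferInstanceAs (t.IsGE ((t.truncLT (i + 1)).obj K) a)
  have hι : ∀ j : ℤ, j < i + 1 →
      IsIso ((homologyFunctor A j).map ((t.truncLTι (i + 1)).app K)) :=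
    fun j hj => isIso_homologyMap_truncLTι K (i + 1) j hj
  have hEGE : ((t.truncGE i).obj ((t.truncLT (i + 1)).obj K)).IsGE i :=
    inferInstanceAs (t.IsGE ((t.truncGE i).obj ((t.truncLT (i + 1)).obj K)) i)
  have hELE : ((t.truncGE i).obj ((t.truncLT (i + 1)).obj K)).IsLE i :=
    inferInstanceAs (t.IsLE ((t.truncGE i).obj ((t.truncLT (i + 1)).obj K)) i)
  have hπ : IsIso ((homologyFunctor A i).map
      ((t.truncGEπ i).app ((t.truncLT (i + 1)).obj K))) :=
    isIso_homologyMap_truncGEπ _ i i le_rfl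
  obtain ⟨eE0⟩ := nonempty_iso_single ((t.truncGE i).obj ((t.truncLT (i + 1)).obj K)) i
  have hιi := hι i (by omega)
  obtain ⟨eE, -⟩ : ∃ eE : (t.truncGE i).obj ((t.truncLT (i + 1)).obj K) ≅
      (singleFunctor A i).obj ((homologyFunctor A i).obj K), True :=
    ⟨eE0 ≪≫ (singleFunctor A i).mapIso
      ((asIso ((homologyFunctor A i).map
        ((t.truncGEπ i).app ((t.truncLT (i + 1)).obj K)))).symm ≪≫
        asIso ((homologyFunctor A i).map ((t.truncLTι (i + 1)).app K))), trivial⟩
  obtain ⟨σ, hσ⟩ := exists_splitting ((t.truncLT (i + 1)).obj K) i a (by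
    intro j haj hji Z hZGE hZLE ⟨e⟩ g
    obtain ⟨eZ0⟩ := nonempty_iso_single Z j
    have := hι j (by omega)
    obtain ⟨eZ, -⟩ : ∃ eZ : Z ≅ (singleFunctor A j).obj ((homologyFunctor A j).obj K), True :=
      ⟨eZ0 ≪≫ (singleFunctor A j).mapIso
        (e ≪≫ asIso ((homologyFunctor A j).map ((t.truncLTι (i + 1)).app K))), trivial⟩
    have hz := single_hom_shift_eq_zero ((homologyFunctor A i).obj K)
      ((homologyFunctor A j).obj K) i j (i - j + 1).toNat (by omega)
      (hExt i j _ (by omega) (by omega)) (eE.inv ≫ g ≫ eZ.hom⟦(1 : ℤ)⟧')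
    rw [← cancel_epi eE.inv, ← cancel_mono (eZ.hom⟦(1 : ℤ)⟧'), Category.assoc, hz, comp_zero,
      zero_comp])
  refine ⟨eE.inv ≫ σ ≫ (t.truncLTι (i + 1)).app K, ?_⟩
  rw [Functor.map_comp, Functor.map_comp]
  have h1 : IsIso ((homologyFunctor A i).map σ) := by
    have h2 : (homologyFunctor A i).map σ ≫ (homologyFunctor A i).map
        ((t.truncGEπ i).app ((t.truncLT (i + 1)).obj K)) = 𝟙 _ := by
      rw [← Functor.map_comp, hσ, CategoryTheory.Functor.map_id]
    have h3 : IsIso ((homologyFunctor A i).map σ ≫ (homologyFunctor A i).map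
        ((t.truncGEπ i).app ((t.truncLT (i + 1)).obj K))) := by
      rw [h2]; infer_instance
    exact IsIso.of_isIso_comp_right ((homologyFunctor A i).map σ) ((homologyFunctor A i).map
        ((t.truncGEπ i).app ((t.truncLT (i + 1)).obj K)))
  infer_instance

lemma isIso_desc {ι : Type} [Fintype ι] [DecidableEq ι] (deg : ι → ℤ)
    (hdeg : Function.Injective deg) (S : ι → DerivedCategory A) [HasBiproduct S]
    (hS : ∀ (i : ι) (j : ℤ), deg i ≠ j → IsZero ((homologyFunctor A j).obj (S i)))
    (K : DerivedCategory A) (s : ∀ i, S i ⟶ K)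
    (hs : ∀ i, IsIso ((homologyFunctor A (deg i)).map (s i)))
    (hK : ∀ j : ℤ, j ∉ Set.range deg → IsZero ((homologyFunctor A j).obj K)) :
    IsIso (biproduct.desc s) := by
  rw [isIso_iff]
  intro j
  have htotal : 𝟙 ((homologyFunctor A j).obj (⨁ S)) =
      ∑ i : ι, (homologyFunctor A j).map (biproduct.π S i) ≫
        (homologyFunctor A j).map (biproduct.ι S i) := by
    rw [← CategoryTheory.Functor.map_id, ← biproduct.total, Functor.map_sum]
    simp only [Functor.map_comp]
  by_cases hj : j ∈ Set.range deg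
  · obtain ⟨jj, rfl⟩ := hj
    have hι : IsIso ((homologyFunctor A (deg jj)).map (biproduct.ι S jj)) := by
      refine ⟨(homologyFunctor A (deg jj)).map (biproduct.π S jj), ?_, ?_⟩
      · rw [← Functor.map_comp, biproduct.ι_π_self, CategoryTheory.Functor.map_id]
      · rw [htotal]
        symm
        apply Finset.sum_eq_single jj
        · intro i _ hi
          have hne : deg i ≠ deg jj := fun h => hi (hdeg h)
          rw [(hS i _ hne).eq_of_tgt ((homologyFunctor A (deg jj)).map (biproduct.π S i)) 0,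
            zero_comp]
        · intro h; exact absurd (Finset.mem_univ _) h
    have hcomp : (homologyFunctor A (deg jj)).map (biproduct.ι S jj) ≫
        (homologyFunctor A (deg jj)).map (biproduct.desc s) =
        (homologyFunctor A (deg jj)).map (s jj) := by
      rw [← Functor.map_comp, biproduct.ι_desc]
    haveI : IsIso ((homologyFunctor A (deg jj)).map (biproduct.ι S jj) ≫
        (homologyFunctor A (deg jj)).map (biproduct.desc s)) := by
      rw [hcomp]; exact hs jj
    exact IsIso.of_isIso_comp_left ((homologyFunctor A (deg jj)).map (biproduct.ι S jj)) _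
  · have h1 : IsZero ((homologyFunctor A j).obj (⨁ S)) := by
      rw [IsZero.iff_id_eq_zero, htotal]
      apply Finset.sum_eq_zero
      intro i _
      have hne : deg i ≠ j := fun h => hj ⟨i, h⟩
      rw [(hS i _ hne).eq_of_tgt ((homologyFunctor A j).map (biproduct.π S i)) 0, zero_comp]
    exact ⟨0, h1.eq_of_src _ _, (hK j hj).eq_of_src _ _⟩

/-- Let K be an object of the derived category of an abelian category with cohomology concentrated in
degrees a, …, b. Suppose that for all i > j and p ≥ 2 every morphism H^i(K) ⟶ H^j(K)[p] in the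
derived category (an element of Ext^p) vanishes. Then K splits: it is isomorphic to ⨁_{a ≤ i ≤ b}
Hⁱ(K)[-i]. -/
theorem result {A : Type u} [Category.{v} A] [Abelian A] [HasDerivedCategory.{w} A]
    (K : DerivedCategory A) (a b : ℤ) [K.IsGE a] [K.IsLE b]
    (hExt : ∀ (i j : ℤ) (p : ℕ), j < i → 2 ≤ p →
      ∀ f : (DerivedCategory.singleFunctor A 0).obj ((DerivedCategory.homologyFunctor A i).obj K) ⟶
        ((DerivedCategory.singleFunctor A 0).obj ((DerivedCategory.homologyFunctor A j).obj K))⟦(p : ℤ)⟧, f = 0)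
    [HasBiproduct (fun i : Finset.Icc a b => (DerivedCategory.singleFunctor A (i : ℤ)).obj ((DerivedCategory.homologyFunctor A (i : ℤ)).obj K))] :
    Nonempty (K ≅ ⨁ (fun i : Finset.Icc a b => (DerivedCategory.singleFunctor A (i : ℤ)).obj ((DerivedCategory.homologyFunctor A (i : ℤ)).obj K))) := by
  classical
  choose s hs using fun i : ℤ => exists_section K a hExt i
  haveI := isIso_desc (A := A) (ι := Finset.Icc a b) (fun i => (i : ℤ)) Subtype.val_injective
    (fun i : Finset.Icc a b => (DerivedCategory.singleFunctor A (i : ℤ)).obj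
      ((DerivedCategory.homologyFunctor A (i : ℤ)).obj K))
    (by
      intro i j hij
      rcases lt_or_gt_of_ne hij with h | h
      · exact isZero_of_isLE _ (i : ℤ) j h
      · exact isZero_of_isGE _ (i : ℤ) j h)
    K (fun i => s i) (fun i => hs i)
    (by
      intro j hj
      have hj' : ¬ (a ≤ j ∧ j ≤ b) := by
        intro h
        exact hj ⟨⟨j, Finset.mem_Icc.mpr h⟩, rfl⟩
      rw [not_and_or, not_le, not_le] at hj'
      rcases hj' with h | h
      · exact isZero_of_isGE K a j h
      · exact isZero_of_isLE K b j h)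
  exact ⟨(asIso (biproduct.desc (fun i : Finset.Icc a b => s i))).symm⟩

end Groth.Agent.S0973
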