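import Groth.Statements.S0976
import Mathlib.CategoryTheory.Triangulated.Orthogonal

set_option autoImplicit false
universe v u
open CategoryTheory
open CohDer

namespace Groth.Agent.S0976

open CategoryTheory.Pretriangulated in
/-- Let P be a triangulated subcategory of a triangulated category D (an object property containing
zero, stable under shifts, closed under extensions). Consider the class of objects X sitting in a
distinguished triangle A → X → B → A[1] with P A and B right orthogonal to P. This class is again
stable under shifts and closed under extensions, i.e. satisfies two-out-of-three in distinguished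
triangles. -/
theorem result {D : Type u} [Category.{v} D] [Preadditive D] [Limits.HasZeroObject D] [HasShift D ℤ]
    [∀ n : ℤ, (shiftFunctor D n).Additive] [Pretriangulated D] [IsTriangulated D]
    (P : ObjectProperty D) [P.IsTriangulated] :
    ObjectProperty.IsTriangulated (fun X : D => ∃ (A B : D) (f : A ⟶ X) (g : X ⟶ B) (h : B ⟶ (shiftFunctor D (1 : ℤ)).obj A),
      Triangle.mk f g h ∈ distinguishedTriangles ∧ P A ∧ P.rightOrthogonal B) := by
  let Q := P.rightOrthogonal
  have iQ1 : Q.IsTriangulated := inferInstanceAs P.rightOrthogonal.IsTriangulated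
  have iQ2 : Q.IsClosedUnderIsomorphisms := inferInstanceAs P.rightOrthogonal.IsClosedUnderIsomorphisms
  change (ObjectProperty.extensionProduct P Q).IsTriangulated
  have hQP : ObjectProperty.extensionProduct Q P ≤ ObjectProperty.extensionProduct P Q := by
    intro X ⟨B, A, f, g, h, hT, hB, hA⟩
    have hB1 : Q (B⟦(1 : ℤ)⟧) := Q.le_shift (1 : ℤ) _ hB
    have h0 : h = 0 := hB1 h hA
    obtain ⟨e, he₁, he₂⟩ := exists_iso_binaryBiproduct_of_distTriang _ hT h0
    have hAB : ObjectProperty.extensionProduct P Q (A ⊞ B) :=
      ⟨A, B, _, _, _, binaryBiproductTriangle_distinguished A B, hA, hB⟩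
    exact (ObjectProperty.extensionProduct P Q).prop_of_iso
      ((e ≪≫ Limits.biprod.braiding B A).symm) hAB
  have hQQ : ObjectProperty.extensionProduct Q Q ≤ Q :=
    ObjectProperty.extensionProduct_le_of_isTriangulatedClosed₂ le_rfl le_rfl
  have hPP : ObjectProperty.extensionProduct P P ≤ P.isoClosure :=
    ObjectProperty.extensionProduct_le_of_isTriangulatedClosed₂' le_rfl le_rfl
  have h1 : ObjectProperty.extensionProduct Q (ObjectProperty.extensionProduct P Q) ≤
      ObjectProperty.extensionProduct P Q := by
    rw [← ObjectProperty.extensionProduct_assoc]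
    refine (ObjectProperty.monotone_extensionProduct_left Q hQP).trans ?_
    rw [ObjectProperty.extensionProduct_assoc]
    exact ObjectProperty.monotone_extensionProduct_right P hQQ
  have h2 : ObjectProperty.extensionProduct (ObjectProperty.extensionProduct P Q)
      (ObjectProperty.extensionProduct P Q) ≤ ObjectProperty.extensionProduct P Q := by
    rw [ObjectProperty.extensionProduct_assoc]
    refine (ObjectProperty.monotone_extensionProduct_right P h1).trans ?_
    rw [← ObjectProperty.extensionProduct_assoc]
    refine (ObjectProperty.monotone_extensionProduct_left Q hPP).trans ?_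
    rw [ObjectProperty.extensionProduct_isoClosure_left]
  have : (ObjectProperty.extensionProduct P Q).ContainsZero := by
    obtain ⟨Z, hZ, hPZ⟩ := P.exists_prop_of_containsZero
    exact ⟨⟨Z, hZ, ObjectProperty.le_extensionProduct_left Q Z hPZ⟩⟩
  have : (ObjectProperty.extensionProduct P Q).IsTriangulatedClosed₂ :=
    .mk' (fun T hT h₁ h₃ => h2 _ ⟨T.obj₁, T.obj₃, T.mor₁, T.mor₂, T.mor₃, hT, h₁, h₃⟩)
  exact {}

end Groth.Agent.S0976
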