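import Groth.Statements.S0977
import Mathlib.CategoryTheory.Triangulated.Orthogonal
import Mathlib.CategoryTheory.Localization.Triangulated

set_option autoImplicit false
universe v u
open CategoryTheory
open CohDer

namespace Groth.Agent.S0977

open CategoryTheory.Pretriangulated in
/-- The equivalence A ≃ D/B: let A and B be strictly full triangulated subcategories of a triangulated
category D such that every morphism from an object of A to an object of B is zero and every object X
of D sits in a distinguished triangle a → X → b → a[1] with a in A and b in B. Then the composite of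
the inclusion of A with the Verdier quotient functor D → D/B (the localization at the morphisms
whose cone lies in B) is an equivalence. -/
theorem result {D : Type u} [Category.{v} D] [Preadditive D] [Limits.HasZeroObject D] [HasShift D ℤ]
    [∀ n : ℤ, (shiftFunctor D n).Additive] [Pretriangulated D] [IsTriangulated D]
    (A B : ObjectProperty D) [A.IsTriangulated] [A.IsClosedUnderIsomorphisms]
    [B.IsTriangulated] [B.IsClosedUnderIsomorphisms]
    (hAB : ∀ (a b : D), A a → B b → ∀ f : a ⟶ b, f = 0)
    (hdec : ∀ X : D, ∃ (a b : D) (f : a ⟶ X) (g : X ⟶ b) (h : b ⟶ (shiftFunctor D (1 : ℤ)).obj a),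
      Triangle.mk f g h ∈ distinguishedTriangles ∧ A a ∧ B b) :
    (A.ι ⋙ B.trW.Q).IsEquivalence := by
  have horth : ∀ a : D, A a → B.leftOrthogonal a := fun a ha b f hb => hAB a b ha hb f
  have hbij : ∀ (a : D) (_ : A a) (Y : D),
      Function.Bijective (B.trW.Q.map : (a ⟶ Y) → _) := fun a ha Y =>
    ObjectProperty.leftOrthogonal.map_bijective_of_isTriangulated (horth a ha) B.trW.Q Y
  refine { faithful := ⟨?_⟩, full := ⟨?_⟩, essSurj := ⟨?_⟩ }
  · intro X Y f g hfg
    apply A.ι.map_injective
    exact (hbij X.obj X.property Y.obj).1 hfg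
  · intro X Y φ
    obtain ⟨g, hg⟩ := (hbij X.obj X.property Y.obj).2 φ
    obtain ⟨g', hg'⟩ := A.ι.map_surjective g
    exact ⟨g', by rw [← hg, ← hg']; rfl⟩
  · intro Z
    have : B.trW.Q.EssSurj := Localization.essSurj B.trW.Q B.trW
    obtain ⟨a, b, f, g, h, hT, ha, hb⟩ := hdec (B.trW.Q.objPreimage Z)
    have hf : B.trW f := ⟨b, g, h, hT, hb⟩
    have : IsIso (B.trW.Q.map f) := Localization.inverts B.trW.Q B.trW f hf
    exact ⟨⟨a, ha⟩, ⟨asIso (B.trW.Q.map f) ≪≫ B.trW.Q.objObjPreimageIso Z⟩⟩

end Groth.Agent.S0977
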