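import Groth.Statements.S1076
import Groth.Agent.H6.Compact

set_option autoImplicit false
universe v u
open CategoryTheory
open DerLim

namespace Groth.Agent.S1076

open CategoryTheory.Limits CategoryTheory.Pretriangulated Groth.Agent.H6

section Helpers

variable {D : Type u} [Category.{v} D] [Preadditive D] [Limits.HasZeroObject D] [HasShift D ℤ]
    [∀ n : ℤ, (shiftFunctor D n).Additive] [Pretriangulated D] [IsTriangulated D]
    [HasCoproducts.{v} D] {ι : Type v} (E : ι → D)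

/-- the property "is one of the `E i`, `i ∈ s`" -/
abbrev famProp (s : Finset ι) : ObjectProperty D := fun Y : D => ∃ i ∈ s, Y = E i

lemma famProp_mono {s t : Finset ι} (h : s ⊆ t) : famProp E s ≤ famProp E t :=
  fun _ ⟨i, hi, e⟩ => ⟨i, h hi, e⟩

lemma env_mono {s t : Finset ι} (h : s ⊆ t) :
    (famProp E s).triangEnvelope ≤ (famProp E t).triangEnvelope :=
  ObjectProperty.monotone_triangEnvelope (famProp_mono E h)

lemma env_le_compact (hc : ∀ i, CohDer.IsCompactObject (E i)) (s : Finset ι) :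
    (famProp E s).triangEnvelope ≤ compactProp D := by
  apply triangEnvelope_le_compact
  rintro Y ⟨i, -, rfl⟩
  exact hc i

lemma exists_factor_of_map_to_coprod (i₀ : ι) {κ : Type v} (a : κ → ι) (m : κ → ℤ)
    {C : D} (hC : CohDer.IsCompactObject C)
    (φ : C ⟶ ∐ fun k => (shiftFunctor D (m k)).obj (E (a k))) :
    ∃ (s : Finset ι) (E' : D) (g : C ⟶ E')
      (h : E' ⟶ ∐ fun k => (shiftFunctor D (m k)).obj (E (a k))),
      i₀ ∈ s ∧ (famProp E s).triangEnvelope E' ∧ g ≫ h = φ := by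
  classical
  obtain ⟨t, -, ht⟩ := IsCompactObject.exists_finset hC φ
  have hne : (famProp E (insert i₀ (t.image a))).Nonempty :=
    ObjectProperty.nonempty_of_prop ⟨i₀, Finset.mem_insert_self _ _, rfl⟩
  refine ⟨insert i₀ (t.image a),
    ∏ᶜ (fun k : t => (shiftFunctor D (m k)).obj (E (a k))),
    Pi.lift (fun k : t => φ ≫ sigmaπ (fun k => (shiftFunctor D (m k)).obj (E (a k))) k),
    ∑ k : t, Pi.π (fun k : t => (shiftFunctor D (m k)).obj (E (a k))) k ≫
      Sigma.ι (fun k => (shiftFunctor D (m k)).obj (E (a k))) k,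
    Finset.mem_insert_self _ _, ?_, ?_⟩
  · apply ObjectProperty.prop_product
    intro k
    apply ObjectProperty.le_shift (famProp E (insert i₀ (t.image a))).triangEnvelope (m k)
    apply ObjectProperty.le_triangEnvelope
    exact ⟨a k, Finset.mem_insert_of_mem (Finset.mem_image_of_mem a k.2), rfl⟩
  · rw [Preadditive.comp_sum]
    simp only [Pi.lift_π_assoc]
    rw [Finset.sum_coe_sort t
      (fun k => (φ ≫ sigmaπ (fun k => (shiftFunctor D (m k)).obj (E (a k))) k) ≫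
        Sigma.ι (fun k => (shiftFunctor D (m k)).obj (E (a k))) k)]
    exact ht.symm

lemma exists_factor_of_map_to_shift_coprod (i₀ : ι) {κ : Type v} (a : κ → ι) (m : κ → ℤ)
    {C : D} (hC : CohDer.IsCompactObject C)
    (ψ : C ⟶ (shiftFunctor D (1 : ℤ)).obj (∐ fun k => (shiftFunctor D (m k)).obj (E (a k)))) :
    ∃ (s : Finset ι) (E' : D) (g : C ⟶ (shiftFunctor D (1 : ℤ)).obj E')
      (h : E' ⟶ ∐ fun k => (shiftFunctor D (m k)).obj (E (a k))),
      i₀ ∈ s ∧ (famProp E s).triangEnvelope E' ∧ g ≫ (shiftFunctor D (1 : ℤ)).map h = ψ := by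
  let adj : shiftFunctor D (-1 : ℤ) ⊣ shiftFunctor D (1 : ℤ) :=
    (shiftEquiv' D (-1 : ℤ) 1 (by norm_num)).toAdjunction
  obtain ⟨s, E', g', h, hs, hE', e⟩ := exists_factor_of_map_to_coprod E i₀ a m
    (isCompactObject_shift hC (-1)) ((adj.homEquiv _ _).symm ψ)
  refine ⟨s, E', adj.homEquiv _ _ g', h, hs, hE', ?_⟩
  rw [← Adjunction.homEquiv_naturality_right, e, Equiv.apply_symm_apply]

end Helpers

open CategoryTheory.Limits CategoryTheory.Pretriangulated in
/-- Let D be a triangulated category with all small direct sums and E a small nonempty family of compact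
objects (nonempty so that the envelope of a finite subfamily can contain a zero object). Let X₀ → X₁
→ … be a sequential system in which X₀ is a direct sum of shifts of members of E and each Xₙ → Xₙ₊₁
sits in a distinguished triangle Yₙ → Xₙ → Xₙ₊₁ → Yₙ[1] with Yₙ a direct sum of shifts of members of
E. Then every morphism from a compact object C to some Xₙ factors through an object of the
triangulated envelope (closure under shifts, finite sums, summands and extensions) of finitely many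
members of E. -/
theorem result {D : Type u} [Category.{v} D] [Preadditive D] [Limits.HasZeroObject D] [HasShift D ℤ]
    [∀ n : ℤ, (shiftFunctor D n).Additive] [Pretriangulated D] [IsTriangulated D] [HasCoproducts.{v} D]
    {ι : Type v} [Nonempty ι] (E : ι → D) (hc : ∀ i, CohDer.IsCompactObject (E i))
    (K : ℕ → D) (f : ∀ n, K n ⟶ K (n + 1))
    (h0 : ∃ (κ : Type v) (a : κ → ι) (m : κ → ℤ), Nonempty (K 0 ≅ ∐ (fun k => (shiftFunctor D (m k)).obj (E (a k)))))
    (hstep : ∀ n, ∃ (κ : Type v) (a : κ → ι) (m : κ → ℤ) (y : (∐ fun k => (shiftFunctor D (m k)).obj (E (a k))) ⟶ K n)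
      (z : K (n + 1) ⟶ (shiftFunctor D (1 : ℤ)).obj (∐ fun k => (shiftFunctor D (m k)).obj (E (a k)))),
      Triangle.mk y (f n) z ∈ distinguishedTriangles)
    (C : D) (hC : CohDer.IsCompactObject C) (n : ℕ) (φ : C ⟶ K n) :
    ∃ (s : Finset ι) (E' : D) (g : C ⟶ E') (h : E' ⟶ K n),
      ObjectProperty.triangEnvelope (fun Y : D => ∃ i ∈ s, Y = E i) E' ∧ g ≫ h = φ := by
  classical
  obtain ⟨i₀⟩ := ‹Nonempty ι›
  suffices H : ∀ (n : ℕ) (C : D) (_ : CohDer.IsCompactObject C) (φ : C ⟶ K n),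
      ∃ (s : Finset ι) (E' : D) (g : C ⟶ E') (h : E' ⟶ K n),
        i₀ ∈ s ∧ (famProp E s).triangEnvelope E' ∧ g ≫ h = φ by
    obtain ⟨s, E', g, h, -, hE', e⟩ := H n C hC φ
    exact ⟨s, E', g, h, hE', e⟩
  intro n
  induction n with
  | zero =>
    intro C hC φ
    obtain ⟨κ, a, m, ⟨e⟩⟩ := h0
    obtain ⟨s, E', g, h, hs, hE', hgh⟩ :=
      exists_factor_of_map_to_coprod E i₀ a m hC (φ ≫ e.hom)
    exact ⟨s, E', g, h ≫ e.inv, hs, hE', by
      rw [← Category.assoc, hgh, Category.assoc, e.hom_inv_id, Category.comp_id]⟩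
  | succ n ih =>
    intro C hC φ
    obtain ⟨κ, a, m, y, z, hT⟩ := hstep n
    obtain ⟨s₁, E₁, g₁, h₁, hs₁, hE₁, e₁⟩ :=
      exists_factor_of_map_to_shift_coprod E i₀ a m hC (φ ≫ z)
    have hE₁c : CohDer.IsCompactObject E₁ := env_le_compact E hc s₁ _ hE₁
    obtain ⟨C', u, v, hT'⟩ := distinguished_cocone_triangle₂ g₁
    have hC'c : CohDer.IsCompactObject C' := isCompactObject_ext₂ _ hT' hE₁c hC
    obtain ⟨(b : C' ⟶ K n), hb₁, -⟩ :=
      complete_distinguished_triangle_morphism₂ _ _ hT' hT h₁ φ e₁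
    replace hb₁ : u ≫ b = h₁ ≫ y := hb₁
    obtain ⟨s₂, E₂, g₂, h₂, hs₂, hE₂, e₂⟩ := ih C' hC'c b
    obtain ⟨E₃, p, q, hT₃⟩ := distinguished_cocone_triangle (u ≫ g₂)
    obtain ⟨(c₁ : C ⟶ E₃), -, hc₁b⟩ :=
      complete_distinguished_triangle_morphism _ _ hT' hT₃ (𝟙 E₁) g₂
        (show u ≫ g₂ = 𝟙 E₁ ≫ u ≫ g₂ from (Category.id_comp _).symm)
    replace hc₁b : g₁ ≫ (shiftFunctor D (1 : ℤ)).map (𝟙 E₁) = c₁ ≫ q := hc₁b
    obtain ⟨(c₂ : E₃ ⟶ K (n + 1)), -, hc₂b⟩ :=
      complete_distinguished_triangle_morphism _ _ hT₃ hT h₁ h₂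
        (show (u ≫ g₂) ≫ h₂ = h₁ ≫ y by rw [Category.assoc, e₂]; exact hb₁)
    replace hc₂b : q ≫ (shiftFunctor D (1 : ℤ)).map h₁ = c₂ ≫ z := hc₂b
    rw [CategoryTheory.Functor.map_id, Category.comp_id] at hc₁b
    have hδ : (φ - c₁ ≫ c₂) ≫ z = 0 := by
      rw [Preadditive.sub_comp, Category.assoc, ← hc₂b, ← Category.assoc, ← hc₁b, e₁, sub_self]
    obtain ⟨(d : C ⟶ K n), hd⟩ := Triangle.coyoneda_exact₃ _ hT (φ - c₁ ≫ c₂) hδ
    replace hd : φ - c₁ ≫ c₂ = d ≫ f n := hd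
    obtain ⟨s₃, E₄, g₄, h₄, hs₃, hE₄, e₄⟩ := ih C hC d
    have hne : (famProp E (s₁ ∪ s₂ ∪ s₃)).Nonempty :=
      ObjectProperty.nonempty_of_prop
        ⟨i₀, Finset.mem_union_left _ (Finset.mem_union_left _ hs₁), rfl⟩
    have hE₁' : (famProp E (s₁ ∪ s₂ ∪ s₃)).triangEnvelope E₁ :=
      env_mono E (Finset.subset_union_left.trans Finset.subset_union_left) _ hE₁
    have hE₂' : (famProp E (s₁ ∪ s₂ ∪ s₃)).triangEnvelope E₂ :=
      env_mono E (Finset.subset_union_right.trans Finset.subset_union_left) _ hE₂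
    have hE₄' : (famProp E (s₁ ∪ s₂ ∪ s₃)).triangEnvelope E₄ :=
      env_mono E Finset.subset_union_right _ hE₄
    have hE₃ : (famProp E (s₁ ∪ s₂ ∪ s₃)).triangEnvelope E₃ :=
      ObjectProperty.ext_of_isTriangulatedClosed₃ _ _ hT₃ hE₁' hE₂'
    refine ⟨s₁ ∪ s₂ ∪ s₃, E₃ ⊞ E₄, biprod.lift c₁ g₄, biprod.desc c₂ (h₄ ≫ f n),
      Finset.mem_union_left _ (Finset.mem_union_left _ hs₁), ?_, ?_⟩
    · exact ObjectProperty.prop_of_isLimit_binaryFan _ (BinaryBiproduct.isLimit E₃ E₄) hE₃ hE₄'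
    · rw [biprod.lift_desc, ← Category.assoc, e₄, ← hd]
      abel

end Groth.Agent.S1076
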