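import Groth.Statements.S0978
import Groth.Agent.H6.Hocolim
import Groth.Agent.S0984
import Groth.Agent.S1076

set_option autoImplicit false
universe v u
open CategoryTheory
open CohDer

namespace Groth.Agent.S0978

section Helpers

open CategoryTheory.Limits CategoryTheory.Pretriangulated Groth.Agent.H6

variable {D : Type u} [Category.{v} D] [Preadditive D] [Limits.HasZeroObject D] [HasShift D ℤ]
  [∀ n : ℤ, (shiftFunctor D n).Additive] [Pretriangulated D]

/-- objects all of whose maps to all shifts of `K` vanish -/
def orth (K : D) : ObjectProperty D := fun Y => ∀ (n : ℤ) (g : Y ⟶ (shiftFunctor D n).obj K), g = 0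

instance (K : D) : (orth K).IsStableUnderRetracts where
  of_retract {Y Y'} r hY' := by
    intro n g
    have h : g = r.i ≫ (r.r ≫ g) := by rw [← Category.assoc, r.retract, Category.id_comp]
    rw [h, hY' n (r.r ≫ g), Limits.comp_zero]

open scoped ZeroObject in
instance (K : D) : (orth K).ContainsZero where
  exists_zero := ⟨0, isZero_zero D, fun _ _ => (isZero_zero D).eq_of_src _ _⟩

instance (K : D) : (orth K).IsStableUnderShift ℤ where
  isStableUnderShiftBy m := ⟨by
    intro Y hY n g
    let adj : shiftFunctor D m ⊣ shiftFunctor D (-m) := (shiftEquiv D m).toAdjunction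
    have h1 : adj.homEquiv _ _ g ≫ ((shiftFunctorAdd D n (-m)).app K).inv = 0 :=
      hY (n + -m) _
    have h2 : adj.homEquiv _ _ g = 0 := by
      rw [← cancel_mono ((shiftFunctorAdd D n (-m)).app K).inv, h1, Limits.zero_comp]
    have h3 := congrArg (adj.homEquiv _ _).symm h2
    rw [Equiv.symm_apply_apply] at h3
    rw [h3]
    exact map_zero (adj.homAddEquiv _ _).symm⟩

instance (K : D) : (orth K).IsTriangulatedClosed₂ :=
  .mk' (fun T hT h₁ h₃ => by
    intro n g
    obtain ⟨g'', hg''⟩ := Triangle.yoneda_exact₂ T hT g (h₁ n _)
    rw [hg'', h₃ n g'', Limits.comp_zero])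

instance (K : D) : (orth K).IsTriangulated where

end Helpers

open CategoryTheory.Limits in
/-- Let D be a triangulated category with all small direct sums and E a compact object. Then E generates
D (an object admitting only zero maps from all shifts of E is zero) if and only if D is compactly
generated and every compact object lies in the triangulated envelope of E (objects reachable from E
by shifts, finite sums, direct summands and extensions). -/
theorem result {D : Type u} [Category.{v} D] [Preadditive D] [Limits.HasZeroObject D] [HasShift D ℤ]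
    [∀ n : ℤ, (shiftFunctor D n).Additive] [Pretriangulated D] [IsTriangulated D] [HasCoproducts.{v} D]
    [HasColimitsOfShape (Discrete ℕ) D]
    (E : D) (hE : CohDer.IsCompactObject E) :
    CohDer.Generates (fun _ : Unit => E) ↔
      (CohDer.IsCompactlyGenerated D ∧ ∀ X : D, CohDer.IsCompactObject X → ObjectProperty.triangEnvelope (fun Y : D => Y = E) X) := by
  constructor
  · intro hgen
    have hgen' : CohDer.Generates (fun _ : PUnit.{v + 1} => E) := by
      intro K hK
      exact hgen K (fun _ n f => hK PUnit.unit n f)
    refine ⟨⟨PUnit.{v + 1}, fun _ => E, fun _ => hE, hgen'⟩, ?_⟩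
    intro X hX
    obtain ⟨K, f, i, hL, h0, hstep⟩ :=
      Groth.Agent.S0984.result (fun _ : PUnit.{v + 1} => E) (fun _ => hE) hgen' X
    obtain ⟨N, b, hb⟩ := Groth.Agent.H6.IsHocolim.exists_factor_of_compact hL hX (𝟙 X)
    obtain ⟨s, E', g, h, hE', hgh⟩ :=
      Groth.Agent.S1076.result (fun _ : PUnit.{v + 1} => E) (fun _ => hE) K f h0 hstep X hX N b
    have hE'' : ObjectProperty.triangEnvelope (fun Y : D => Y = E) E' :=
      ObjectProperty.monotone_triangEnvelope (fun Y ⟨_, _, hY⟩ => hY) _ hE'
    exact ObjectProperty.prop_of_retract _ ⟨g, h ≫ i N, by rw [← Category.assoc, hgh, ← hb]⟩ hE''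
  · rintro ⟨⟨ι', E', hc', hg'⟩, hall⟩
    intro K hK
    apply hg' K
    intro i n g
    have hle : ObjectProperty.triangEnvelope (fun Y : D => Y = E) ≤ orth K := by
      rw [ObjectProperty.triangEnvelope_le_iff]
      rintro Y rfl
      exact fun n g => hK () n g
    exact hle _ (hall (E' i) (hc' i)) n g

end Groth.Agent.S0978
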