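import Groth.Statements.S0982
import Groth.Agent.H56.DerCat2
-- import your own Groth.Agent.* helpers here

set_option autoImplicit false
universe w v u
open CategoryTheory CategoryTheory.Limits
open CohDer

namespace Groth.Agent.S0982

open DerivedCategory DerivedCategory.TStructure Groth.Agent.H56

/-- Let K : ℕ ⥤ CochainComplex A ℤ be a sequence of cochain maps K₀ → K₁ → K₂ → … in an abelian category
with Hⁱ(K₀) = 0 for i > 0 and such that for every j < n the map H⁻ʲ(Kⱼ) → H⁻ʲ(Kⱼ₊₁) is zero. Then in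
the derived category the composite K₀ → Kₙ factors through the canonical truncation τ_{≤ -n}Kₙ → Kₙ. -/
theorem result {A : Type u} [Category.{v} A] [Abelian A] [HasDerivedCategory.{w} A]
    (K : ℕ ⥤ CochainComplex A ℤ) (n : ℕ)
    (h0 : ∀ i : ℤ, 0 < i → IsZero ((K.obj 0).homology i))
    (hz : ∀ j : ℕ, j < n → HomologicalComplex.homologyMap (K.map (homOfLE (Nat.le_succ j))) (-(j : ℤ)) = 0) :
    ∃ φ : DerivedCategory.Q.obj (K.obj 0) ⟶ DerivedCategory.Q.obj ((K.obj n).truncLE (-(n : ℤ))),
      φ ≫ DerivedCategory.Q.map ((K.obj n).ιTruncLE (-(n : ℤ))) = DerivedCategory.Q.map (K.map (homOfLE (Nat.zero_le n))) := by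
  have hLE0 : (Q.obj (K.obj 0)).IsLE 0 := by
    rw [isLE_Q_obj_iff, CochainComplex.isLE_iff]
    intro i hi
    rw [HomologicalComplex.exactAt_iff_isZero_homology]
    exact h0 i hi
  have key : ∀ j : ℕ, j ≤ n → ∃ (W : DerivedCategory A) (_ : W.IsLE (-(j : ℤ)))
      (a : Q.obj (K.obj 0) ⟶ W) (c : W ⟶ Q.obj (K.obj j)),
      a ≫ c = Q.map (K.map (homOfLE (Nat.zero_le j))) := by
    intro j
    induction j with
    | zero =>
      intro _
      refine ⟨Q.obj (K.obj 0), by simpa using hLE0, 𝟙 _, 𝟙 _, ?_⟩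
      have : homOfLE (Nat.zero_le 0) = 𝟙 (0 : ℕ) := Subsingleton.elim _ _
      rw [this, K.map_id, Q.map_id, Category.comp_id]
    | succ j ih =>
      intro hj
      obtain ⟨W, hW, a, c, hac⟩ := ih (by omega)
      have hz' : (homologyFunctor A (-(j : ℤ))).map
          (c ≫ Q.map (K.map (homOfLE (Nat.le_succ j)))) = 0 := by
        rw [Functor.map_comp]
        have h3 : (homologyFunctor A (-(j : ℤ))).map (Q.map (K.map (homOfLE (Nat.le_succ j)))) = 0 := by
          have h2 := homologyFunctorFactors_hom_naturality (K.map (homOfLE (Nat.le_succ j))) (-(j : ℤ))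
          have h2' : (homologyFunctor A (-(j : ℤ))).map (Q.map (K.map (homOfLE (Nat.le_succ j)))) ≫
              (homologyFunctorFactors A (-(j : ℤ))).hom.app (K.obj (j + 1)) = 0 := by
            rw [h2, hz j (by omega)]
            exact comp_zero
          exact (cancel_mono ((homologyFunctorFactors A (-(j : ℤ))).hom.app _)).1
            (h2'.trans zero_comp.symm)
        rw [h3, comp_zero]
      obtain ⟨W', hW', g', c', hgc⟩ := exists_factor_of_homologyMap_eq_zero (-(j : ℤ)) _ hz'
      refine ⟨W', ?_, a ≫ g', c', ?_⟩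
      · have e : -((j + 1 : ℕ) : ℤ) = -(j : ℤ) - 1 := by push_cast; omega
        rw [e]
        exact hW'
      · rw [Category.assoc, ← hgc, ← Category.assoc, hac, ← Q.map_comp, ← K.map_comp]
        rfl
  obtain ⟨W, hW, a, c, hac⟩ := key n le_rfl
  obtain ⟨c', hc'⟩ := exists_lift_truncLE (K.obj n) (-(n : ℤ)) W c
  exact ⟨a ≫ c', by rw [Category.assoc, hc', hac]⟩

end Groth.Agent.S0982
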