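import Groth.Statements.S0986
-- import your own Groth.Agent.* helpers here

import Mathlib.CategoryTheory.Abelian.GrothendieckAxioms.Colim
import Mathlib.CategoryTheory.Functor.OfSequence

set_option autoImplicit false
universe v u
open CategoryTheory CategoryTheory.Limits
open DerLim

namespace Groth.Agent.S0986

section helpers

attribute [local instance] Abelian.hasFiniteBiproducts

variable {A : Type u} [Category.{v} A] [Abelian A] (F : ℕ ⥤ A) [HasCoproduct F.obj]

/-- the shift endomorphism of the direct sum -/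
noncomputable abbrev s : (∐ F.obj) ⟶ ∐ F.obj :=
  DerLim.shiftMap F.obj (fun n => F.map (homOfLE (Nat.le_succ n)))

@[reassoc]
lemma ι_s (n : ℕ) : Sigma.ι F.obj n ≫ s F = F.map (homOfLE (Nat.le_succ n)) ≫ Sigma.ι F.obj (n + 1) := by
  simp [s, DerLim.shiftMap]

/-- partial sums: objects -/
noncomputable abbrev Pobj (n : ℕ) : A := ⨁ (fun k : Fin (n + 1) => F.obj k.1)

/-- partial sums: transition maps -/
noncomputable def Pmap {n m : ℕ} (h : n ≤ m) : Pobj F n ⟶ Pobj F m :=
  biproduct.desc (fun k =>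
    biproduct.ι (fun k : Fin (m + 1) => F.obj k.1) (Fin.castLE (Nat.succ_le_succ h) k))

/-- partial sums: map to the direct sum -/
noncomputable def ιP (n : ℕ) : Pobj F n ⟶ ∐ F.obj :=
  biproduct.desc (fun k : Fin (n + 1) => Sigma.ι F.obj k.1)

@[reassoc]
lemma ι_Pmap {n m : ℕ} (h : n ≤ m) (k : Fin (n + 1)) :
    biproduct.ι (fun k : Fin (n + 1) => F.obj k.1) k ≫ Pmap F h =
      biproduct.ι (fun k : Fin (m + 1) => F.obj k.1) (Fin.castLE (Nat.succ_le_succ h) k) := by
  simp [Pmap]

@[reassoc]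
lemma ι_ιP (n : ℕ) (k : Fin (n + 1)) :
    biproduct.ι (fun k : Fin (n + 1) => F.obj k.1) k ≫ ιP F n = Sigma.ι F.obj k.1 := by
  simp [ιP]

/-- partial sums -/
noncomputable def P : ℕ ⥤ A where
  obj n := Pobj F n
  map {n m} h := Pmap F (leOfHom h)
  map_id n := by
    apply biproduct.hom_ext'
    intro k
    rw [ι_Pmap, Category.comp_id]
    rfl
  map_comp f g := by
    apply biproduct.hom_ext'
    intro k
    rw [ι_Pmap, ι_Pmap_assoc, ι_Pmap]
    rfl

/-- the cocone of partial sums with point the direct sum -/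
noncomputable def cP : Cocone (P F) where
  pt := ∐ F.obj
  ι :=
    { app := fun n => ιP F n
      naturality := by
        intro n m h
        apply biproduct.hom_ext'
        intro k
        show biproduct.ι (fun k : Fin (n + 1) => F.obj k.1) k ≫ Pmap F (leOfHom h) ≫ ιP F m =
          biproduct.ι (fun k : Fin (n + 1) => F.obj k.1) k ≫ ιP F n ≫ 𝟙 _
        rw [ι_Pmap_assoc, ι_ιP, ι_ιP_assoc, Category.comp_id]
        rfl }

/-- the direct sum is the colimit of the partial sums -/
noncomputable def hcP : IsColimit (cP F) where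
  desc c := Sigma.desc (fun k =>
    biproduct.ι (fun j : Fin (k + 1) => F.obj j.1) (Fin.last k) ≫ c.ι.app k)
  fac c n := by
    show ιP F n ≫ Sigma.desc (fun k =>
      biproduct.ι (fun j : Fin (k + 1) => F.obj j.1) (Fin.last k) ≫ c.ι.app k) = c.ι.app n
    apply biproduct.hom_ext'
    intro k
    have h1 : Pmap F (Nat.le_of_lt_succ k.2) ≫ c.ι.app n = c.ι.app k.1 :=
      c.w (homOfLE (Nat.le_of_lt_succ k.2))
    have h2 : biproduct.ι (fun j : Fin (k.1 + 1) => F.obj j.1) (Fin.last k.1) ≫
        Pmap F (Nat.le_of_lt_succ k.2) =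
        biproduct.ι (fun j : Fin (n + 1) => F.obj j.1) k := by
      rw [ι_Pmap]
      rfl
    rw [ι_ιP_assoc, Sigma.ι_desc, ← h1]
    exact (Category.assoc _ _ _).symm.trans (congrArg (fun t => t ≫ c.ι.app n) h2)
  uniq c m hm := by
    apply Sigma.hom_ext
    intro k
    rw [Sigma.ι_desc, ← hm k]
    show _ = biproduct.ι (fun j : Fin (k + 1) => F.obj j.1) (Fin.last k) ≫ ιP F k ≫ m
    rw [ι_ιP_assoc]
    rfl

/-- retraction onto the partial sums -/
noncomputable def r (n : ℕ) : (∐ F.obj) ⟶ Pobj F n :=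
  Sigma.desc (fun j => if h : j < n + 1 then
    biproduct.ι (fun k : Fin (n + 1) => F.obj k.1) ⟨j, h⟩ else 0)

lemma ι_r (n : ℕ) : ιP F n ≫ r F n = 𝟙 _ := by
  apply biproduct.hom_ext'
  intro k
  rw [ι_ιP_assoc, r, Sigma.ι_desc, dif_pos k.2, Category.comp_id]

/-- powers of the shift -/
noncomputable def spow : ℕ → ((∐ F.obj) ⟶ ∐ F.obj)
  | 0 => 𝟙 _
  | (m + 1) => spow m ≫ s F

lemma ι_spow (j m : ℕ) : Sigma.ι F.obj j ≫ spow F m =
    F.map (homOfLE (Nat.le_add_right j m)) ≫ Sigma.ι F.obj (j + m) := by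
  induction m with
  | zero =>
    simp only [spow, Category.comp_id]
    have : (homOfLE (Nat.le_add_right j 0)) = 𝟙 j := Subsingleton.elim _ _
    rw [this, F.map_id, Category.id_comp]
    rfl
  | succ m ih =>
    simp only [spow]
    rw [← Category.assoc, ih, Category.assoc, ι_s, ← Category.assoc, ← F.map_comp]
    rfl

lemma spow_r (n : ℕ) : spow F (n + 1) ≫ r F n = 0 := by
  apply Sigma.hom_ext
  intro j
  rw [← Category.assoc, ι_spow, Category.assoc]
  simp only [r, colimit.ι_desc, Cofan.mk_ι_app]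
  rw [dif_neg (by omega)]
  simp

/-- partial geometric series -/
noncomputable def psi : ℕ → ((∐ F.obj) ⟶ ∐ F.obj)
  | 0 => 𝟙 _
  | (m + 1) => 𝟙 _ + psi m ≫ s F

lemma phi_psi (m : ℕ) : (𝟙 (∐ F.obj) - s F) ≫ psi F m = 𝟙 _ - spow F (m + 1) := by
  induction m with
  | zero => simp [psi, spow]
  | succ m ih =>
    have : spow F (m + 1 + 1) = spow F (m + 1) ≫ s F := rfl
    rw [this]
    simp only [psi]
    rw [Preadditive.comp_add, ← Category.assoc, ih]
    simp only [Preadditive.sub_comp, Category.comp_id, Category.id_comp]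
    abel

lemma mono_α (n : ℕ) : Mono (ιP F n ≫ (𝟙 (∐ F.obj) - s F)) := by
  have : (ιP F n ≫ (𝟙 (∐ F.obj) - s F)) ≫ (psi F n ≫ r F n) = 𝟙 _ := by
    simp only [Category.assoc]
    rw [← Category.assoc (𝟙 (∐ F.obj) - s F) (psi F n) (r F n), phi_psi, Preadditive.sub_comp,
      Category.id_comp, spow_r, sub_zero, ι_r]
  exact mono_of_mono_fac this

attribute [local instance] IsFiltered.isConnected

lemma mono_phi [HasColimitsOfShape ℕ A] [HasExactColimitsOfShape ℕ A] :
    Mono (𝟙 (∐ F.obj) - s F) := by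
  let α : P F ⟶ (Functor.const ℕ).obj (∐ F.obj) :=
    { app := fun n => ιP F n ≫ (𝟙 (∐ F.obj) - s F)
      naturality := by
        intro n m h
        dsimp
        rw [Category.comp_id, ← Category.assoc]
        exact congrArg (· ≫ (𝟙 (∐ F.obj) - s F)) ((cP F).w h) }
  have h1 : ∀ n, Mono (α.app n) := fun n => mono_α F n
  have h2 : Mono α := NatTrans.mono_of_mono_app α
  exact colim.map_mono' α (hcP F) (isColimitConstCocone ℕ (∐ F.obj)) (𝟙 (∐ F.obj) - s F)
    (fun n => (Category.comp_id (α.app n)).symm)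

end helpers

/-- Let A be an abelian category in which colimits of sequences ℕ ⥤ A exist and are exact, and F : ℕ ⥤ A
a sequence whose direct sum ⨁ Fₙ exists. Then the map 1 - shift on ⨁ Fₙ followed by the canonical
map ⨁ Fₙ → colim F is a short exact sequence 0 → ⨁ Fₙ → ⨁ Fₙ → colim F → 0. -/
theorem result {A : Type u} [Category.{v} A] [Abelian A]
    [HasColimitsOfShape ℕ A] [HasExactColimitsOfShape ℕ A] (F : ℕ ⥤ A) [HasCoproduct F.obj] :
    ∃ w : (𝟙 (∐ F.obj) - DerLim.shiftMap F.obj (fun n => F.map (homOfLE (Nat.le_succ n)))) ≫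
        Sigma.desc (fun n => colimit.ι F n) = 0,
      (ShortComplex.mk _ _ w).ShortExact := by
  have w : (𝟙 (∐ F.obj) - DerLim.shiftMap F.obj (fun n => F.map (homOfLE (Nat.le_succ n)))) ≫
        Sigma.desc (fun n => colimit.ι F n) = 0 := by
    apply Sigma.hom_ext
    intro n
    rw [Preadditive.sub_comp, Preadditive.comp_sub, Category.id_comp, ι_s_assoc]
    simp
  refine ⟨w, ?_⟩
  have : Mono (𝟙 (∐ F.obj) - DerLim.shiftMap F.obj (fun n => F.map (homOfLE (Nat.le_succ n)))) :=
    mono_phi F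
  have : Epi (Sigma.desc (fun n => colimit.ι F n)) := by
    constructor
    intro Z g h hgh
    apply colimit.hom_ext
    intro n
    have := congrArg (fun t => Sigma.ι F.obj n ≫ t) hgh
    simpa using this
  refine ShortComplex.ShortExact.mk (ShortComplex.exact_of_g_is_cokernel _ ?_)
  refine CokernelCofork.IsColimit.ofπ _ _
    (fun {Z'} g' hg' => colimit.desc F ⟨Z', NatTrans.ofSequence (fun n => Sigma.ι F.obj n ≫ g') ?_⟩)
    ?_ ?_
  · intro n
    have := congrArg (fun t => Sigma.ι F.obj n ≫ t) hg'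
    simp only [Preadditive.sub_comp, Preadditive.comp_sub, Category.id_comp, comp_zero,
      ι_s_assoc] at this
    simp only [Functor.const_obj_obj, Functor.const_obj_map, Category.comp_id]
    rw [sub_eq_zero] at this
    exact this.symm
  · intro Z' g' hg'
    apply Sigma.hom_ext
    intro n
    simp
  · intro Z' g' hg' m hm
    apply colimit.hom_ext
    intro n
    simp [← hm]

end Groth.Agent.S0986
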