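import Groth.Statements.S0985
import Groth.Agent.S0986
import Mathlib.Algebra.Homology.GrothendieckAbelian
import Mathlib.Algebra.Homology.DerivedCategory.ShortExact
import Mathlib.CategoryTheory.Limits.Preserves.Shapes.Products

set_option autoImplicit false
universe w v u
open CategoryTheory CategoryTheory.Limits
open DerLim

namespace Groth.Agent.S0985

/-- Let A be an abelian category in which colimits of sequences ℕ ⥤ A exist and are exact, and let L : ℕ
⥤ CochainComplex A ℤ be a sequence of complexes. Then the image in the derived category of the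
termwise colimit of L, with the canonical maps from the Lₙ, is a homotopy colimit of the images of
the Lₙ — assuming the termwise direct sum of the Lₙ exists and is preserved by the localization
functor to D(A) (a known result, carried here as a hypothesis rather than proved), and that the
direct sum of the images exists in D(A). -/
theorem result {A : Type u} [Category.{v} A] [Abelian A] [HasDerivedCategory.{w} A]
    [HasColimitsOfShape ℕ A] [HasExactColimitsOfShape ℕ A]
    (L : ℕ ⥤ CochainComplex A ℤ) [HasCoproduct L.obj] [PreservesColimit (Discrete.functor L.obj) (DerivedCategory.Q (C := A))]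
    [HasCoproduct (fun n => DerivedCategory.Q.obj (L.obj n))] :
    DerLim.IsHocolim (fun n => DerivedCategory.Q.obj (L.obj n)) (fun n => DerivedCategory.Q.map (L.map (homOfLE (Nat.le_succ n))))
      (DerivedCategory.Q.obj (colimit L)) (fun n => DerivedCategory.Q.map (colimit.ι L n)) := by
  open CategoryTheory.Pretriangulated in
  -- the short exact sequence of complexes
  obtain ⟨w, hS⟩ := Groth.Agent.S0986.result (A := CochainComplex A ℤ) L
  have hdist := DerivedCategory.triangleOfSES_distinguished hS
  -- the comparison isomorphism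
  let K : ℕ → DerivedCategory A := fun n => DerivedCategory.Q.obj (L.obj n)
  let e : (∐ K) ≅ DerivedCategory.Q.obj (∐ L.obj) :=
    (PreservesCoproduct.iso (DerivedCategory.Q (C := A)) L.obj).symm
  have he : ∀ n, Sigma.ι K n ≫ e.hom = DerivedCategory.Q.map (Sigma.ι L.obj n) := fun n =>
    ι_comp_sigmaComparison (DerivedCategory.Q (C := A)) L.obj n
  let fK : ∀ n, K n ⟶ K (n + 1) := fun n => DerivedCategory.Q.map (L.map (homOfLE (Nat.le_succ n)))
  have hsK : ∀ n, Sigma.ι K n ≫ DerLim.shiftMap K fK = fK n ≫ Sigma.ι K (n + 1) := fun n => by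
    simp [DerLim.shiftMap]
  have hsL : ∀ n, Sigma.ι L.obj n ≫ DerLim.shiftMap L.obj
      (fun n => L.map (homOfLE (Nat.le_succ n))) =
      L.map (homOfLE (Nat.le_succ n)) ≫ Sigma.ι L.obj (n + 1) := fun n => by
    simp [DerLim.shiftMap]
  have c1 : (𝟙 (∐ K) - DerLim.shiftMap K fK) ≫ e.hom = e.hom ≫ DerivedCategory.Q.map
      (𝟙 (∐ L.obj) - DerLim.shiftMap L.obj (fun n => L.map (homOfLE (Nat.le_succ n)))) := by
    apply Sigma.hom_ext
    intro n
    rw [Preadditive.sub_comp, Preadditive.comp_sub, Category.id_comp, he, ← Category.assoc, hsK,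
      Category.assoc, he, ← Category.assoc, he, ← Functor.map_comp, ← Functor.map_comp,
      Preadditive.comp_sub, Category.comp_id, hsL, Functor.map_sub]
  have c2 : Sigma.desc (fun n => DerivedCategory.Q.map (colimit.ι L n)) ≫
      𝟙 (DerivedCategory.Q.obj (colimit L)) =
      e.hom ≫ DerivedCategory.Q.map (Sigma.desc (fun n => colimit.ι L n)) := by
    apply Sigma.hom_ext
    intro n
    rw [Category.comp_id, Sigma.ι_desc, ← Category.assoc, he, ← Functor.map_comp, Sigma.ι_desc]
  have c3 : (DerivedCategory.triangleOfSESδ hS ≫
      (shiftFunctor (DerivedCategory A) (1 : ℤ)).map e.inv) ≫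
      (shiftFunctor (DerivedCategory A) (1 : ℤ)).map e.hom =
      𝟙 (DerivedCategory.Q.obj (colimit L)) ≫ DerivedCategory.triangleOfSESδ hS := by
    rw [Category.id_comp, Category.assoc, ← Functor.map_comp, e.inv_hom_id, CategoryTheory.Functor.map_id,
      Category.comp_id]
  exact ⟨DerivedCategory.triangleOfSESδ hS ≫ (shiftFunctor (DerivedCategory A) (1 : ℤ)).map e.inv,
    isomorphic_distinguished _ hdist _ (Triangle.isoMk _ _ e e (Iso.refl _) c1 c2 c3)⟩

end Groth.Agent.S0985
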