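import Groth.Statements.S0989

set_option autoImplicit false
universe w v u
open CategoryTheory CategoryTheory.Limits
open CohDer

namespace Groth.Agent.S0989

open ComposableArrows Pretriangulated ZeroObject in
/-- Let P be a weak Serre class in an abelian category A: P is closed under isomorphisms, holds for a
zero object, and whenever X₀ → X₁ → X₂ → X₃ → X₄ is exact with P holding for X₀, X₁, X₃, X₄ it holds
for X₂. Then the class of objects of the derived category all of whose cohomology objects satisfy P
is a triangulated subcategory (contains zero, stable under shifts, closed under extensions) which is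
moreover closed under retracts (saturated). -/
theorem result {A : Type u} [Category.{v} A] [Abelian A] [HasDerivedCategory.{w} A]
    (P : ObjectProperty A) [P.IsClosedUnderIsomorphisms] (h0 : ∃ Z : A, IsZero Z ∧ P Z)
    (hP : ∀ S : ComposableArrows A 4, S.Exact → P (S.obj 0) → P (S.obj 1) → P (S.obj 3) → P (S.obj 4) → P (S.obj 2)) :
    ObjectProperty.IsTriangulated (fun X : DerivedCategory A => ∀ n : ℤ, P ((DerivedCategory.homologyFunctor A n).obj X)) ∧
    ObjectProperty.IsStableUnderRetracts (fun X : DerivedCategory A => ∀ n : ℤ, P ((DerivedCategory.homologyFunctor A n).obj X)) := by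
  have hzero : ∀ Z : A, IsZero Z → P Z := by
    intro Z hZ
    obtain ⟨Z₀, hZ₀, hP₀⟩ := h0
    exact P.prop_of_iso (hZ₀.iso hZ) hP₀
  -- P is stable under retracts
  have hretr : ∀ {X Y : A} (i : X ⟶ Y) (r : Y ⟶ X), i ≫ r = 𝟙 X → P Y → P X := by
    intro X Y i r hir hY
    have hepi : Epi r := (SplitEpi.mk i hir).epi
    have w1 : (𝟙 Y - r ≫ i) ≫ r = 0 := by
      rw [Preadditive.sub_comp, Category.id_comp, Category.assoc, hir, Category.comp_id, sub_self]
    have ex1 : (ShortComplex.mk (𝟙 Y - r ≫ i) r w1).Exact := by
      rw [ShortComplex.exact_iff_exact_up_to_refinements]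
      intro B x₂ hx₂
      refine ⟨B, 𝟙 B, inferInstance, x₂, ?_⟩
      dsimp at hx₂ ⊢
      rw [Category.id_comp, Preadditive.comp_sub, Category.comp_id, ← Category.assoc, hx₂,
        zero_comp, sub_zero]
    have w2 : r ≫ (0 : X ⟶ (0 : A)) = 0 := comp_zero
    have ex2 : (ShortComplex.mk r (0 : X ⟶ (0 : A)) w2).Exact := by
      rw [ShortComplex.exact_iff_epi _ rfl]
      exact hepi
    have w3 : (0 : X ⟶ (0 : A)) ≫ (0 : (0 : A) ⟶ (0 : A)) = 0 := comp_zero
    have ex3 : (ShortComplex.mk (0 : X ⟶ (0 : A)) (0 : (0 : A) ⟶ (0 : A)) w3).Exact :=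
      ShortComplex.exact_of_isZero_X₂ _ (isZero_zero A)
    have hex : (mk₄ (𝟙 Y - r ≫ i) r (0 : X ⟶ (0 : A)) (0 : (0 : A) ⟶ (0 : A))).Exact :=
      exact_of_δ₀ ex1.exact_toComposableArrows
        (exact_of_δ₀ ex2.exact_toComposableArrows ex3.exact_toComposableArrows)
    exact hP _ hex hY hY (hzero _ (isZero_zero A)) (hzero _ (isZero_zero A))
  constructor
  · refine { exists_zero := ?_, isStableUnderShiftBy := ?_, ext₂' := ?_ }
    · refine ⟨0, isZero_zero _, fun n => hzero _ ?_⟩
      exact (DerivedCategory.homologyFunctor A n).map_isZero (isZero_zero _)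
    · intro a
      refine ⟨fun X hX n => ?_⟩
      have e := ((DerivedCategory.homologyFunctor A 0).shiftIso a n (a + n) rfl).app X
      rw [DerivedCategory.shift_homologyFunctor, DerivedCategory.shift_homologyFunctor] at e
      exact P.prop_of_iso e.symm (hX (a + n))
    · intro T hT h₁ h₃
      refine ⟨T.obj₂, fun n => ?_, ⟨Iso.refl _⟩⟩
      have hex : (mk₄ (DerivedCategory.HomologySequence.δ T (n - 1) n (by omega))
          ((DerivedCategory.homologyFunctor A n).map T.mor₁)
          ((DerivedCategory.homologyFunctor A n).map T.mor₂)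
          (DerivedCategory.HomologySequence.δ T n (n + 1) rfl)).Exact :=
        exact_of_δ₀
          (DerivedCategory.HomologySequence.exact₁ T hT (n - 1) n (by omega)).exact_toComposableArrows
          (exact_of_δ₀ (DerivedCategory.HomologySequence.exact₂ T hT n).exact_toComposableArrows
            (DerivedCategory.HomologySequence.exact₃ T hT n (n + 1) rfl).exact_toComposableArrows)
      exact hP _ hex (h₃ (n - 1)) (h₁ n) (h₃ n) (h₁ (n + 1))
  · refine ⟨fun {X Y} h hY n => ?_⟩
    exact hretr ((DerivedCategory.homologyFunctor A n).map h.i) ((DerivedCategory.homologyFunctor A n).map h.r)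
      (by rw [← CategoryTheory.Functor.map_comp, h.retract, CategoryTheory.Functor.map_id]) (hY n)

end Groth.Agent.S0989
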