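import Groth.Statements.S0990
import Mathlib

set_option autoImplicit false
universe w w' v v' u u'
open CategoryTheory CategoryTheory.Limits
open CohDer

namespace Groth.Agent.S0990

/-! ### Lifting a sequence going to the right (left calculus of fractions) -/

section SeqR

variable {C : Type u} [Category.{v} C] {D : Type u'} [Category.{v'} D]
  [HasZeroMorphisms C] [HasZeroMorphisms D]
  (L : C ⥤ D) [L.PreservesZeroMorphisms] (W : MorphismProperty C) [L.IsLocalization W]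
  (Y : ℕ → D) (g : ∀ n, Y n ⟶ Y (n + 1))

/-- The state of the recursion at stage `n`: a lift `Z` of `Y n`, together with the previous
differential `e : Zp ⟶ Z`. -/
structure StR (n : ℕ) where
  Zp : C
  Z : C
  e : Zp ⟶ Z
  ψ : L.obj Z ≅ Y n
  h : L.map e ≫ ψ.hom ≫ g n = 0

/-- The data produced by one step. -/
structure NextR {n : ℕ} (s : StR L Y g n) where
  Z' : C
  f : s.Z ⟶ Z'
  ψ' : L.obj Z' ≅ Y (n + 1)
  he : s.e ≫ f = 0
  hcomm : L.map f ≫ ψ'.hom = s.ψ.hom ≫ g n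

variable [W.HasLeftCalculusOfFractions]

include W in
lemma nonempty_nextR {n : ℕ} (s : StR L Y g n) : Nonempty (NextR L Y g s) := by
  haveI : L.EssSurj := Localization.essSurj L W
  obtain ⟨fr, hfr⟩ := Localization.exists_leftFraction L W
    (s.ψ.hom ≫ g n ≫ (L.objObjPreimageIso (Y (n + 1))).inv)
  have h2 : L.map fr.f =
      (s.ψ.hom ≫ g n ≫ (L.objObjPreimageIso (Y (n + 1))).inv) ≫ L.map fr.s := by
    rw [hfr, fr.map_comp_map_s]
  have h1 : L.map (s.e ≫ fr.f) = L.map (0 : s.Zp ⟶ fr.Y') := by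
    rw [L.map_comp, L.map_zero, h2]
    simp only [Category.assoc]
    rw [reassoc_of% s.h, zero_comp]
  obtain ⟨Z'', t, ht, hfac⟩ := (MorphismProperty.map_eq_iff_postcomp L W _ _).1 h1
  have hW : W (fr.s ≫ t) := W.comp_mem _ _ fr.hs ht
  refine ⟨⟨Z'', fr.f ≫ t,
    (Localization.isoOfHom L W _ hW).symm ≪≫ L.objObjPreimageIso (Y (n + 1)), ?_, ?_⟩⟩
  · rw [← Category.assoc, hfac, zero_comp]
  · rw [← Iso.eq_comp_inv]
    simp only [Iso.trans_inv, Iso.symm_inv, Localization.isoOfHom_hom, Functor.map_comp, h2,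
      Category.assoc]

noncomputable def chosenR {n : ℕ} (s : StR L Y g n) : NextR L Y g s :=
  Classical.choice (nonempty_nextR L W Y g s)

noncomputable def nextR (hg : ∀ n, g n ≫ g (n + 1) = 0) {n : ℕ} (s : StR L Y g n) :
    StR L Y g (n + 1) where
  Zp := s.Z
  Z := (chosenR L W Y g s).Z'
  e := (chosenR L W Y g s).f
  ψ := (chosenR L W Y g s).ψ'
  h := by
    have hc := (chosenR L W Y g s).hcomm
    rw [reassoc_of% hc, hg n, comp_zero]

noncomputable def stateR (hg : ∀ n, g n ≫ g (n + 1) = 0) (s₀ : StR L Y g 0) :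
    ∀ n, StR L Y g n
  | 0 => s₀
  | n + 1 => nextR L W Y g hg (stateR hg s₀ n)

lemma nextR_e_comp (hg : ∀ n, g n ≫ g (n + 1) = 0) {n : ℕ} (s : StR L Y g n) :
    s.e ≫ (nextR L W Y g hg s).e = 0 :=
  (chosenR L W Y g s).he

lemma nextR_comm (hg : ∀ n, g n ≫ g (n + 1) = 0) {n : ℕ} (s : StR L Y g n) :
    L.map (nextR L W Y g hg s).e ≫ (nextR L W Y g hg s).ψ.hom = s.ψ.hom ≫ g n :=
  (chosenR L W Y g s).hcomm

include W in
theorem exists_lift_seqR (hg : ∀ n, g n ≫ g (n + 1) = 0) (s₀ : StR L Y g 0) :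
    ∃ (X : ℕ → C) (f0 : s₀.Z ⟶ X 0) (f : ∀ n, X n ⟶ X (n + 1))
      (ψ : ∀ n, L.obj (X n) ≅ Y (n + 1)),
      s₀.e ≫ f0 = 0 ∧ f0 ≫ f 0 = 0 ∧ (∀ n, f n ≫ f (n + 1) = 0) ∧
      L.map f0 ≫ (ψ 0).hom = s₀.ψ.hom ≫ g 0 ∧
      ∀ n, L.map (f n) ≫ (ψ (n + 1)).hom = (ψ n).hom ≫ g (n + 1) :=
  ⟨fun n => (stateR L W Y g hg s₀ (n + 1)).Z, (stateR L W Y g hg s₀ 1).e,
    fun n => (stateR L W Y g hg s₀ (n + 2)).e, fun n => (stateR L W Y g hg s₀ (n + 1)).ψ,
    nextR_e_comp L W Y g hg s₀, nextR_e_comp L W Y g hg (stateR L W Y g hg s₀ 1),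
    fun n => nextR_e_comp L W Y g hg (stateR L W Y g hg s₀ (n + 2)),
    nextR_comm L W Y g hg s₀, fun n => nextR_comm L W Y g hg (stateR L W Y g hg s₀ (n + 1))⟩

end SeqR

/-! ### Lifting a sequence going to the left (right calculus of fractions) -/

section SeqL

variable {C : Type u} [Category.{v} C] {D : Type u'} [Category.{v'} D]
  [HasZeroMorphisms C] [HasZeroMorphisms D]
  (L : C ⥤ D) [L.PreservesZeroMorphisms] (W : MorphismProperty C) [L.IsLocalization W]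
  (Y : ℕ → D) (g : ∀ n, Y (n + 1) ⟶ Y n)

structure StL (n : ℕ) where
  Z : C
  Zn : C
  e : Z ⟶ Zn
  ψ : L.obj Z ≅ Y n
  h : g n ≫ ψ.inv ≫ L.map e = 0

structure NextL {n : ℕ} (s : StL L Y g n) where
  Z' : C
  f : Z' ⟶ s.Z
  ψ' : L.obj Z' ≅ Y (n + 1)
  he : f ≫ s.e = 0
  hcomm : L.map f ≫ s.ψ.hom = ψ'.hom ≫ g n

variable [W.HasRightCalculusOfFractions]

include W in
lemma nonempty_nextL {n : ℕ} (s : StL L Y g n) : Nonempty (NextL L Y g s) := by
  haveI : L.EssSurj := Localization.essSurj L W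
  obtain ⟨fr, hfr⟩ := Localization.exists_rightFraction L W
    ((L.objObjPreimageIso (Y (n + 1))).hom ≫ g n ≫ s.ψ.inv)
  have h2 : L.map fr.f =
      L.map fr.s ≫ ((L.objObjPreimageIso (Y (n + 1))).hom ≫ g n ≫ s.ψ.inv) := by
    rw [hfr, fr.map_s_comp_map]
  have h1 : L.map (fr.f ≫ s.e) = L.map (0 : fr.X' ⟶ s.Zn) := by
    rw [L.map_comp, L.map_zero, h2]
    simp only [Category.assoc]
    rw [s.h, comp_zero, comp_zero]
  obtain ⟨Z'', t, ht, hfac⟩ := (MorphismProperty.map_eq_iff_precomp L W _ _).1 h1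
  have hW : W (t ≫ fr.s) := W.comp_mem _ _ ht fr.hs
  refine ⟨⟨Z'', t ≫ fr.f,
    Localization.isoOfHom L W _ hW ≪≫ L.objObjPreimageIso (Y (n + 1)), ?_, ?_⟩⟩
  · rw [Category.assoc, hfac, comp_zero]
  · simp only [Iso.trans_hom, Localization.isoOfHom_hom, Functor.map_comp, h2, Category.assoc,
      Iso.inv_hom_id, Category.comp_id]

noncomputable def chosenL {n : ℕ} (s : StL L Y g n) : NextL L Y g s :=
  Classical.choice (nonempty_nextL L W Y g s)

noncomputable def nextL (hg : ∀ n, g (n + 1) ≫ g n = 0) {n : ℕ} (s : StL L Y g n) :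
    StL L Y g (n + 1) where
  Z := (chosenL L W Y g s).Z'
  Zn := s.Z
  e := (chosenL L W Y g s).f
  ψ := (chosenL L W Y g s).ψ'
  h := by
    have hc := (chosenL L W Y g s).hcomm
    have h' : (chosenL L W Y g s).ψ'.inv ≫ L.map (chosenL L W Y g s).f = g n ≫ s.ψ.inv := by
      rw [Iso.inv_comp_eq, ← Category.assoc, ← hc, Category.assoc, Iso.hom_inv_id,
        Category.comp_id]
    rw [h', ← Category.assoc, hg n, zero_comp]

noncomputable def stateL (hg : ∀ n, g (n + 1) ≫ g n = 0) (s₀ : StL L Y g 0) :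
    ∀ n, StL L Y g n
  | 0 => s₀
  | n + 1 => nextL L W Y g hg (stateL hg s₀ n)

lemma nextL_e_comp (hg : ∀ n, g (n + 1) ≫ g n = 0) {n : ℕ} (s : StL L Y g n) :
    (nextL L W Y g hg s).e ≫ s.e = 0 :=
  (chosenL L W Y g s).he

lemma nextL_comm (hg : ∀ n, g (n + 1) ≫ g n = 0) {n : ℕ} (s : StL L Y g n) :
    L.map (nextL L W Y g hg s).e ≫ s.ψ.hom = (nextL L W Y g hg s).ψ.hom ≫ g n :=
  (chosenL L W Y g s).hcomm

include W in
theorem exists_lift_seqL (hg : ∀ n, g (n + 1) ≫ g n = 0) (s₀ : StL L Y g 0) :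
    ∃ (X : ℕ → C) (f0 : X 0 ⟶ s₀.Z) (f : ∀ n, X (n + 1) ⟶ X n)
      (ψ : ∀ n, L.obj (X n) ≅ Y (n + 1)),
      f0 ≫ s₀.e = 0 ∧ f 0 ≫ f0 = 0 ∧ (∀ n, f (n + 1) ≫ f n = 0) ∧
      L.map f0 ≫ s₀.ψ.hom = (ψ 0).hom ≫ g 0 ∧
      ∀ n, L.map (f n) ≫ (ψ n).hom = (ψ (n + 1)).hom ≫ g (n + 1) :=
  ⟨fun n => (stateL L W Y g hg s₀ (n + 1)).Z, (stateL L W Y g hg s₀ 1).e,
    fun n => (stateL L W Y g hg s₀ (n + 2)).e, fun n => (stateL L W Y g hg s₀ (n + 1)).ψ,
    nextL_e_comp L W Y g hg s₀, nextL_e_comp L W Y g hg (stateL L W Y g hg s₀ 1),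
    fun n => nextL_e_comp L W Y g hg (stateL L W Y g hg s₀ (n + 2)),
    nextL_comm L W Y g hg s₀, fun n => nextL_comm L W Y g hg (stateL L W Y g hg s₀ (n + 1))⟩

end SeqL

/-! ### Gluing the two sides into a `ℤ`-indexed complex -/

section Glue

variable {A : Type u} [Category.{v} A] [Preadditive A]
  {Q : Type u'} [Category.{v'} Q] [Preadditive Q] (L : A ⥤ Q) [L.Additive]

def gX (Z : A) (XR XL : ℕ → A) : ℤ → A
  | Int.ofNat 0 => Z
  | Int.ofNat (k + 1) => XR k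
  | Int.negSucc k => XL k

def gD (Z : A) (XR XL : ℕ → A) (f0R : Z ⟶ XR 0) (fR : ∀ k, XR k ⟶ XR (k + 1))
    (f0L : XL 0 ⟶ Z) (fL : ∀ k, XL (k + 1) ⟶ XL k) :
    ∀ n : ℤ, gX Z XR XL n ⟶ gX Z XR XL (n + 1)
  | Int.ofNat 0 => f0R
  | Int.ofNat (k + 1) => fR k
  | Int.negSucc 0 => f0L
  | Int.negSucc (k + 1) => fL k

lemma assemble (K : CochainComplex Q ℤ) (Z : A) (φ₀ : L.obj Z ≅ K.X (Int.ofNat 0))
    (XR XL : ℕ → A) (f0R : Z ⟶ XR 0) (fR : ∀ k, XR k ⟶ XR (k + 1))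
    (f0L : XL 0 ⟶ Z) (fL : ∀ k, XL (k + 1) ⟶ XL k)
    (ψR : ∀ k, L.obj (XR k) ≅ K.X (Int.ofNat (k + 1)))
    (ψL : ∀ k, L.obj (XL k) ≅ K.X (Int.negSucc k))
    (hJ : f0L ≫ f0R = 0) (h2R : f0R ≫ fR 0 = 0) (h3R : ∀ k, fR k ≫ fR (k + 1) = 0)
    (h2L : fL 0 ≫ f0L = 0) (h3L : ∀ k, fL (k + 1) ≫ fL k = 0)
    (c0R : L.map f0R ≫ (ψR 0).hom = φ₀.hom ≫ K.d (Int.ofNat 0) (Int.ofNat 1))
    (cR : ∀ k, L.map (fR k) ≫ (ψR (k + 1)).hom =
      (ψR k).hom ≫ K.d (Int.ofNat (k + 1)) (Int.ofNat (k + 2)))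
    (c0L : L.map f0L ≫ φ₀.hom = (ψL 0).hom ≫ K.d (Int.negSucc 0) (Int.ofNat 0))
    (cL : ∀ k, L.map (fL k) ≫ (ψL k).hom =
      (ψL (k + 1)).hom ≫ K.d (Int.negSucc (k + 1)) (Int.negSucc k)) :
    ∃ K' : CochainComplex A ℤ,
      Nonempty ((L.mapHomologicalComplex (ComplexShape.up ℤ)).obj K' ≅ K) := by
  have sq : ∀ n : ℤ, gD Z XR XL f0R fR f0L fL n ≫ gD Z XR XL f0R fR f0L fL (n + 1) = 0 := by
    intro n
    match n with
    | Int.ofNat 0 => exact h2R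
    | Int.ofNat (k + 1) => exact h3R k
    | Int.negSucc 0 => exact hJ
    | Int.negSucc 1 => exact h2L
    | Int.negSucc (k + 2) => exact h3L k
  let K' : CochainComplex A ℤ :=
    CochainComplex.of (gX Z XR XL) (gD Z XR XL f0R fR f0L fL) sq
  let ψ : ∀ n : ℤ, L.obj (gX Z XR XL n) ≅ K.X n := fun n =>
    match n with
    | Int.ofNat 0 => φ₀
    | Int.ofNat (k + 1) => ψR k
    | Int.negSucc k => ψL k
  refine ⟨K', ⟨HomologicalComplex.Hom.isoOfComponents ψ ?_⟩⟩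
  intro i j hij
  obtain rfl : i + 1 = j := hij
  have hd : K'.d i (i + 1) = gD Z XR XL f0R fR f0L fL i := CochainComplex.of_d _ _ _
  show (ψ i).hom ≫ K.d i (i + 1) = L.map (K'.d i (i + 1)) ≫ (ψ (i + 1)).hom
  rw [hd]
  match i with
  | Int.ofNat 0 => exact c0R.symm
  | Int.ofNat (k + 1) => exact (cR k).symm
  | Int.negSucc 0 => exact c0L.symm
  | Int.negSucc (k + 1) => exact (cL k).symm

end Glue

section Main

variable {A : Type u} [Category.{v} A] [Abelian A]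
    (P : ObjectProperty A) [P.IsSerreClass]
    {Q : Type u'} [Category.{v'} Q] [Abelian Q]
    (L : A ⥤ Q) [L.IsLocalization P.isoModSerre] [L.Additive]

include P in
theorem exists_lift_complex (K : CochainComplex Q ℤ) :
    ∃ K' : CochainComplex A ℤ,
      Nonempty ((L.mapHomologicalComplex (ComplexShape.up ℤ)).obj K' ≅ K) := by
  haveI : L.EssSurj := Localization.essSurj L P.isoModSerre
  let Z := L.objPreimage (K.X (Int.ofNat 0))
  let φ₀ : L.obj Z ≅ K.X (Int.ofNat 0) := L.objObjPreimageIso _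
  let YR : ℕ → Q := fun n => K.X (Int.ofNat n)
  let gR : ∀ n, YR n ⟶ YR (n + 1) := fun n => K.d (Int.ofNat n) (Int.ofNat (n + 1))
  have hgR : ∀ n, gR n ≫ gR (n + 1) = 0 := fun n => K.d_comp_d _ _ _
  let sR : StR L YR gR 0 :=
    { Zp := Z, Z := Z, e := 0, ψ := φ₀, h := by rw [L.map_zero, zero_comp] }
  obtain ⟨XR, f0R, fR, ψR, -, h2R, h3R, c0R, cR⟩ :=
    exists_lift_seqR L P.isoModSerre YR gR hgR sR
  let YL : ℕ → Q := fun n => K.X (Int.negOfNat n)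
  let gL : ∀ n, YL (n + 1) ⟶ YL n := fun n => K.d (Int.negOfNat (n + 1)) (Int.negOfNat n)
  have hgL : ∀ n, gL (n + 1) ≫ gL n = 0 := fun n => K.d_comp_d _ _ _
  have c0R' : L.map f0R ≫ (ψR 0).hom = φ₀.hom ≫ K.d (Int.ofNat 0) (Int.ofNat 1) := c0R
  have hL0 : L.map f0R = φ₀.hom ≫ K.d (Int.ofNat 0) (Int.ofNat 1) ≫ (ψR 0).inv := by
    rw [← Category.assoc, Iso.eq_comp_inv]
    exact c0R'
  let sL : StL L YL gL 0 :=
    { Z := Z, Zn := XR 0, e := f0R, ψ := φ₀,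
      h := by
        show K.d (Int.negSucc 0) (Int.ofNat 0) ≫ φ₀.inv ≫ L.map f0R = 0
        rw [hL0, Iso.inv_hom_id_assoc, ← Category.assoc, K.d_comp_d, zero_comp] }
  obtain ⟨XL, f0L, fL, ψL, hJ, h2L, h3L, c0L, cL⟩ :=
    exists_lift_seqL L P.isoModSerre YL gL hgL sL
  exact assemble L K Z φ₀ XR XL f0R fR f0L fL ψR ψL hJ h2R h3R h2L h3L c0R' cR c0L cL

end Main

/-- Let P be a Serre class in an abelian category A and let L : A ⥤ Q be a model of the quotient A/P,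
i.e. an exact functor to an abelian category which is a localization at the morphisms whose kernel
and cokernel satisfy P. Then the induced functor on derived categories D(A) ⥤ D(Q) is essentially
surjective. -/
theorem result {A : Type u} [Category.{v} A] [Abelian A] [HasDerivedCategory.{w} A]
    (P : ObjectProperty A) [P.IsSerreClass]
    {Q : Type u'} [Category.{v'} Q] [Abelian Q] [HasDerivedCategory.{w'} Q]
    (L : A ⥤ Q) [L.IsLocalization P.isoModSerre] [L.Additive] [PreservesFiniteLimits L] [PreservesFiniteColimits L] :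
    L.mapDerivedCategory.EssSurj := by
  refine ⟨fun Y => ?_⟩
  obtain ⟨K', ⟨e⟩⟩ := exists_lift_complex P L (DerivedCategory.Q.objPreimage Y)
  exact ⟨DerivedCategory.Q.obj K', ⟨(L.mapDerivedCategoryFactors.app K') ≪≫
    DerivedCategory.Q.mapIso e ≪≫ DerivedCategory.Q.objObjPreimageIso Y⟩⟩

end Groth.Agent.S0990
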