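import Groth.Statements.S0991
import Mathlib.CategoryTheory.Abelian.SerreClass.Localization
import Mathlib.CategoryTheory.Localization.Bousfield
import Mathlib.CategoryTheory.Localization.Composition
import Mathlib.CategoryTheory.Adjunction.Additive
import Mathlib.CategoryTheory.Adjunction.FullyFaithful

set_option autoImplicit false
universe w w' v v' u u'
open CategoryTheory CategoryTheory.Limits
open CohDer

namespace Groth.Agent.S0991

section helpers

open ZeroObject

variable {A : Type u} [Category.{v} A] [Abelian A] {Q : Type u'} [Category.{v'} Q] [Abelian Q]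

/-- The termwise adjunction on cochain complexes. -/
noncomputable def adjC (u : Q ⥤ A) (v : A ⥤ Q) [u.Additive] [v.Additive] (adj : u ⊣ v) :
    u.mapHomologicalComplex (ComplexShape.up ℤ) ⊣ v.mapHomologicalComplex (ComplexShape.up ℤ) :=
  Adjunction.mkOfUnitCounit
    { unit :=
        { app := fun K =>
            { f := fun i => adj.unit.app (K.X i)
              comm' := fun i j _ => by
                dsimp
                exact (adj.unit.naturality (K.d i j)).symm }
          naturality := fun K L f => by
            ext i
            dsimp
            exact adj.unit.naturality (f.f i) }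
      counit :=
        { app := fun K =>
            { f := fun i => adj.counit.app (K.X i)
              comm' := fun i j _ => by
                dsimp
                exact (adj.counit.naturality (K.d i j)).symm }
          naturality := fun K L f => by
            ext i
            dsimp
            exact adj.counit.naturality (f.f i) }
      left_triangle := by
        ext K i
        simp only [Functor.comp_obj, Functor.id_obj, NatTrans.comp_app,
          Functor.whiskerRight_app, Functor.associator_hom_app, Functor.whiskerLeft_app,
          Category.id_comp, NatTrans.id_app', HomologicalComplex.comp_f,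
          Functor.mapHomologicalComplex_map_f, HomologicalComplex.id_f]
        exact adj.left_triangle_components (K.X i)
      right_triangle := by
        ext K i
        simp only [Functor.comp_obj, Functor.id_obj, NatTrans.comp_app,
          Functor.whiskerRight_app, Functor.associator_inv_app, Functor.whiskerLeft_app,
          Category.id_comp, NatTrans.id_app', HomologicalComplex.comp_f,
          Functor.mapHomologicalComplex_map_f, HomologicalComplex.id_f]
        exact adj.right_triangle_components (K.X i) }

lemma isZero_iff_homology [HasDerivedCategory.{w'} Q] (X : DerivedCategory Q) :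
    IsZero X ↔ ∀ n : ℤ, IsZero ((DerivedCategory.homologyFunctor Q n).obj X) := by
  constructor
  · intro h n
    exact (DerivedCategory.homologyFunctor Q n).map_isZero h
  · intro h
    have h0 : IsIso (0 : X ⟶ 0) := by
      rw [DerivedCategory.isIso_iff]
      intro n
      exact ⟨⟨0, (h n).eq_of_src _ _,
        ((DerivedCategory.homologyFunctor Q n).map_isZero (isZero_zero _)).eq_of_src _ _⟩⟩
    exact IsZero.of_iso (isZero_zero _) (asIso (0 : X ⟶ 0))

lemma isZero_homology_map_iff [HasDerivedCategory.{w} A] [HasDerivedCategory.{w'} Q]
    (P : ObjectProperty A) [P.IsSerreClass]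
    (v : A ⥤ Q) [v.IsLocalization P.isoModSerre] [v.Additive] [PreservesFiniteLimits v]
    [PreservesFiniteColimits v] (Z : DerivedCategory A) (n : ℤ) :
    IsZero ((DerivedCategory.homologyFunctor Q n).obj (v.mapDerivedCategory.obj Z)) ↔
      P ((DerivedCategory.homologyFunctor A n).obj Z) := by
  let K := DerivedCategory.Q.objPreimage Z
  let e : DerivedCategory.Q.obj K ≅ Z := DerivedCategory.Q.objObjPreimageIso Z
  have e1 : (DerivedCategory.homologyFunctor Q n).obj (v.mapDerivedCategory.obj Z) ≅
      v.obj ((DerivedCategory.homologyFunctor A n).obj Z) :=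
    (DerivedCategory.homologyFunctor Q n).mapIso (v.mapDerivedCategory.mapIso e.symm) ≪≫
      (DerivedCategory.homologyFunctor Q n).mapIso (v.mapDerivedCategoryFactors.app K) ≪≫
      (DerivedCategory.homologyFunctorFactors Q n).app _ ≪≫
      (K.sc n).mapHomologyIso v ≪≫
      v.mapIso ((DerivedCategory.homologyFunctorFactors A n).app K).symm ≪≫
      v.mapIso ((DerivedCategory.homologyFunctor A n).mapIso e)
  rw [e1.isZero_iff]
  exact ObjectProperty.SerreClassLocalization.isZero_obj_iff v P _

/-- objects of `D(A)` with all cohomology in `P` -/
def SP [HasDerivedCategory.{w} A] (P : ObjectProperty A) : ObjectProperty (DerivedCategory A) :=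
  fun X => ∀ n : ℤ, P ((DerivedCategory.homologyFunctor A n).obj X)

instance [HasDerivedCategory.{w} A] (P : ObjectProperty A) [P.IsClosedUnderIsomorphisms] :
    (SP P).IsClosedUnderIsomorphisms :=
  ⟨fun e h n => P.prop_of_iso ((DerivedCategory.homologyFunctor A n).mapIso e) (h n)⟩

end helpers


/-- Let P be a Serre class in an abelian category A and v : A ⥤ Q an exact localization at the morphisms
with kernel and cokernel in P (a model of A/P). Suppose v has a left adjoint u whose unit 𝟭 ⟶ u ⋙ v
is an isomorphism. Then the induced functor D(A) ⥤ D(Q) is a localization at the class of morphisms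
whose cone has all cohomology objects in P; that is, D(Q) is the Verdier quotient D(A)/D_P(A). -/
theorem result {A : Type u} [Category.{v} A] [Abelian A] [HasDerivedCategory.{w} A]
    (P : ObjectProperty A) [P.IsSerreClass]
    {Q : Type u'} [Category.{v'} Q] [Abelian Q] [HasDerivedCategory.{w'} Q]
    (v : A ⥤ Q) [v.IsLocalization P.isoModSerre] [v.Additive] [PreservesFiniteLimits v] [PreservesFiniteColimits v]
    (u : Q ⥤ A) (adj : u ⊣ v) [IsIso adj.unit] :
    v.mapDerivedCategory.IsLocalization
      (ObjectProperty.trW (fun X : DerivedCategory A => ∀ n : ℤ, P ((DerivedCategory.homologyFunctor A n).obj X))) := by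
  classical
  have : u.Additive := adj.left_adjoint_additive
  let aC := adjC u v adj
  have hunit : IsIso aC.unit := by
    have : ∀ K, IsIso (aC.unit.app K) := fun K => by
      have : ∀ i, IsIso ((aC.unit.app K).f i) := fun i => by
        change IsIso (adj.unit.app (K.X i))
        infer_instance
      exact HomologicalComplex.Hom.isIso_of_components _
    exact NatIso.isIso_of_isIso_app _
  let ff := aC.fullyFaithfulLOfIsIsoUnit
  have := ff.full
  have := ff.faithful
  have h1 : (v.mapHomologicalComplex (ComplexShape.up ℤ)).IsLocalization
      ((MorphismProperty.isomorphisms _).inverseImage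
        (v.mapHomologicalComplex (ComplexShape.up ℤ))) := aC.isLocalization'
  let W3 : MorphismProperty (CochainComplex A ℤ) :=
    (HomologicalComplex.quasiIso Q (ComplexShape.up ℤ)).inverseImage
      (v.mapHomologicalComplex (ComplexShape.up ℤ))
  have h3 : (v.mapHomologicalComplex (ComplexShape.up ℤ) ⋙ DerivedCategory.Q).IsLocalization W3 := by
    refine Functor.IsLocalization.comp (v.mapHomologicalComplex (ComplexShape.up ℤ))
      DerivedCategory.Q
      ((MorphismProperty.isomorphisms _).inverseImage
        (v.mapHomologicalComplex (ComplexShape.up ℤ)))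
      (HomologicalComplex.quasiIso Q (ComplexShape.up ℤ)) W3 ?_ ?_ ?_
    · intro K L f hf
      exact Localization.inverts DerivedCategory.Q
        (HomologicalComplex.quasiIso Q (ComplexShape.up ℤ)) _ hf
    · intro K L f hf
      simp only [MorphismProperty.inverseImage_iff, MorphismProperty.isomorphisms.iff] at hf
      simp only [W3, MorphismProperty.inverseImage_iff, HomologicalComplex.mem_quasiIso_iff]
      infer_instance
    · intro K L g hg
      have e : Arrow.mk g ≅ Arrow.mk ((v.mapHomologicalComplex (ComplexShape.up ℤ)).map
          ((u.mapHomologicalComplex (ComplexShape.up ℤ)).map g)) :=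
        Arrow.isoMk (asIso (aC.unit.app K)) (asIso (aC.unit.app L))
          (aC.unit.naturality g).symm
      refine ⟨(u.mapHomologicalComplex (ComplexShape.up ℤ)).obj K,
        (u.mapHomologicalComplex (ComplexShape.up ℤ)).obj L,
        (u.mapHomologicalComplex (ComplexShape.up ℤ)).map g, ?_, ⟨e.symm⟩⟩
      exact ((HomologicalComplex.quasiIso Q (ComplexShape.up ℤ)).arrow_mk_iso_iff e).1 hg
  have h4 : (DerivedCategory.Q ⋙ v.mapDerivedCategory).IsLocalization W3 :=
    Functor.IsLocalization.of_iso W3 v.mapDerivedCategoryFactors.symm
  have key2 : ∀ {X Y : DerivedCategory A} (g : X ⟶ Y),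
      (SP P).trW g ↔ IsIso (v.mapDerivedCategory.map g) := by
    intro X Y g
    obtain ⟨Z, a, b, hT⟩ := Pretriangulated.distinguished_cocone_triangle g
    have h1 : (SP P).trW g ↔ SP P Z :=
      (SP P).trW_iff_of_distinguished (Pretriangulated.Triangle.mk g a b) hT
    have h2 : IsZero (v.mapDerivedCategory.obj Z) ↔ IsIso (v.mapDerivedCategory.map g) :=
      (Pretriangulated.Triangle.isZero₃_iff_isIso₁ _
        (v.mapDerivedCategory.map_distinguished _ hT))
    rw [h1, ← h2, isZero_iff_homology]
    exact forall_congr' (fun n => (isZero_homology_map_iff P v Z n).symm)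
  have key3 : ∀ {K L : CochainComplex A ℤ} (f : K ⟶ L),
      IsIso (v.mapDerivedCategory.map (DerivedCategory.Q.map f)) ↔ W3 f := by
    intro K L f
    have := NatIso.isIso_map_iff v.mapDerivedCategoryFactors f
    dsimp at this
    rw [this, DerivedCategory.isIso_Q_map_iff_quasiIso]
    simp only [W3, MorphismProperty.inverseImage_iff, HomologicalComplex.mem_quasiIso_iff]
  refine Functor.IsLocalization.of_comp DerivedCategory.Q v.mapDerivedCategory
    (HomologicalComplex.quasiIso A (ComplexShape.up ℤ)) _ W3 ?_ ?_
  · intro K L f hf
    rw [HomologicalComplex.mem_quasiIso_iff] at hf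
    simp only [W3, MorphismProperty.inverseImage_iff, HomologicalComplex.mem_quasiIso_iff]
    infer_instance
  · ext X Y g
    change (SP P).trW g ↔ _
    rw [key2]
    constructor
    · intro hiso
      obtain ⟨Z, a, b, hT⟩ := Pretriangulated.distinguished_cocone_triangle g
      obtain ⟨K, L, f, ⟨e⟩⟩ := (DerivedCategory.mem_distTriang_iff _).1 hT
      have ea : Arrow.mk g ≅ Arrow.mk (DerivedCategory.Q.map f) :=
        Arrow.isoMk (Pretriangulated.Triangle.π₁.mapIso e) (Pretriangulated.Triangle.π₂.mapIso e)
          e.hom.comm₁.symm
      refine ⟨K, L, f, ?_, ⟨ea.symm⟩⟩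
      rw [← key3]
      exact (((MorphismProperty.isomorphisms _).inverseImage
        v.mapDerivedCategory).arrow_mk_iso_iff ea).1 hiso
    · rintro ⟨K, L, f, hf, ⟨ea⟩⟩
      rw [← key3] at hf
      exact (((MorphismProperty.isomorphisms _).inverseImage
        v.mapDerivedCategory).arrow_mk_iso_iff ea).1 hf

end Groth.Agent.S0991
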