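import Groth.Statements.S0992
import Mathlib.CategoryTheory.Limits.ConcreteCategory.Basic
import Mathlib.Algebra.Homology.ShortComplex.Ab

set_option autoImplicit false
universe w
open CategoryTheory CategoryTheory.Limits Opposite
open CohDer

namespace Groth.Agent.S0992

/-- An inverse system of acyclic complexes of abelian groups, in elementwise form. -/
structure Sys (I : Type w) [LinearOrder I] where
  G : I → ℤ → Type w
  grp : ∀ β n, AddCommGroup (G β n)
  d : ∀ β (i j : ℤ), G β i →+ G β j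
  r : ∀ {γ β : I}, γ ≤ β → ∀ n, G β n →+ G γ n
  d_d : ∀ β i j k (x : G β i), d β j k (d β i j x) = 0
  r_refl : ∀ β n (x : G β n), r (le_refl β) n x = x
  r_trans : ∀ {γ γ' β : I} (h : γ ≤ γ') (h' : γ' ≤ β) n (x : G β n),
    r h n (r h' n x) = r (h.trans h') n x
  r_d : ∀ {γ β : I} (h : γ ≤ β) i j (x : G β i), r h j (d β i j x) = d γ i j (r h i x)
  exact : ∀ β (i j k : ℤ), i + 1 = j → j + 1 = k → ∀ x : G β j, d β j k x = 0 →
    ∃ y : G β i, d β i j y = x
  lift : ∀ β n (x : ∀ γ, G γ n), (∀ γ γ' (h : γ ≤ γ'), γ' < β → r h n (x γ') = x γ) →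
    ∃ y : G β n, ∀ γ (h : γ < β), r h.le n y = x γ

attribute [instance] Sys.grp

variable {I : Type w} [LinearOrder I] (S : Sys I)

/-- extension property at `β`. -/
def Q (β : I) : Prop :=
  ∀ (i j k : ℤ), i + 1 = j → j + 1 = k → ∀ (x : ∀ γ, S.G γ j),
    (∀ γ, γ ≤ β → S.d γ j k (x γ) = 0) →
    (∀ γ γ' (h : γ ≤ γ'), γ' ≤ β → S.r h j (x γ') = x γ) →
    ∀ (y : ∀ γ, S.G γ i),
    (∀ γ, γ < β → S.d γ i j (y γ) = x γ) →
    (∀ γ γ' (h : γ ≤ γ'), γ' < β → S.r h i (y γ') = y γ) →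
    ∃ yβ : S.G β i, S.d β i j yβ = x β ∧ ∀ γ (h : γ < β), S.r h.le i yβ = y γ

/-- acyclicity of the limit over the part of `I` cut out by `p`. -/
def R (p : I → Prop) : Prop :=
  ∀ (i j k : ℤ), i + 1 = j → j + 1 = k → ∀ (x : ∀ γ, S.G γ j),
    (∀ γ, p γ → S.d γ j k (x γ) = 0) →
    (∀ γ γ' (h : γ ≤ γ'), p γ' → S.r h j (x γ') = x γ) →
    ∃ y : ∀ γ, S.G γ i, (∀ γ, p γ → S.d γ i j (y γ) = x γ) ∧
      (∀ γ γ' (h : γ ≤ γ'), p γ' → S.r h i (y γ') = y γ)

theorem rec_lemma [WellFoundedLT I] (p : I → Prop) (hp : ∀ γ γ', γ ≤ γ' → p γ' → p γ)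
    (hQ : ∀ β, p β → Q S β) : R S p := by
  intro i j k hij hjk x hxc hxr
  obtain ⟨F, hF⟩ : ∃ F : ∀ β, S.G β i, ∀ β,
      (∃ yβ : S.G β i, S.d β i j yβ = x β ∧ ∀ γ (h : γ < β), S.r h.le i yβ = F γ) →
      (S.d β i j (F β) = x β ∧ ∀ γ (h : γ < β), S.r h.le i (F β) = F γ) := by
    let Φ : ∀ β, (∀ γ, γ < β → S.G γ i) → S.G β i := fun β prev =>
      Classical.epsilon (fun yβ : S.G β i =>
        S.d β i j yβ = x β ∧ ∀ γ (h : γ < β), S.r h.le i yβ = prev γ h)
    refine ⟨WellFounded.fix (IsWellFounded.wf (r := ((· < ·) : I → I → Prop))) Φ, fun β hex => ?_⟩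
    have h1 := Classical.epsilon_spec hex
    rw [WellFounded.fix_eq]
    exact h1
  have hgood : ∀ β, p β →
      (S.d β i j (F β) = x β ∧ ∀ γ (h : γ < β), S.r h.le i (F β) = F γ) := by
    intro β
    induction β using WellFoundedLT.induction with
    | ind β ih =>
      intro hpβ
      apply hF
      have ih' : ∀ γ, γ < β →
          (S.d γ i j (F γ) = x γ ∧ ∀ δ (h : δ < γ), S.r h.le i (F γ) = F δ) :=
        fun γ hγ => ih γ hγ (hp γ β hγ.le hpβ)
      refine hQ β hpβ i j k hij hjk x (fun γ hγ => hxc γ (hp γ β hγ hpβ))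
        (fun γ γ' h hγ' => hxr γ γ' h (hp γ' β hγ' hpβ)) F (fun γ hγ => (ih' γ hγ).1) ?_
      intro γ γ' h hγ'
      rcases h.eq_or_lt with rfl | hlt
      · exact S.r_refl _ _ _
      · exact (ih' γ' hγ').2 γ hlt
  refine ⟨F, fun γ hγ => (hgood γ hγ).1, ?_⟩
  intro γ γ' h hγ'
  rcases h.eq_or_lt with rfl | hlt
  · exact S.r_refl _ _ _
  · exact (hgood γ' hγ').2 γ hlt

theorem step_lemma (β : I) (hR : R S (fun γ => γ < β)) : Q S β := by
  intro i j k hij hjk x hxc hxr y hyd hyr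
  obtain ⟨y', hy'⟩ := S.lift β i y hyr
  have hwc : S.d β j k (x β - S.d β i j y') = 0 := by
    rw [map_sub, hxc β le_rfl, S.d_d, sub_zero]
  have hwr : ∀ γ (h : γ < β), S.r h.le j (x β - S.d β i j y') = 0 := by
    intro γ h
    rw [map_sub, hxr γ β h.le le_rfl, S.r_d, hy' γ h, hyd γ h, sub_self]
  obtain ⟨v', hv'⟩ := S.exact β i j k hij hjk _ hwc
  let u : ∀ γ, S.G γ i := fun γ => if h : γ ≤ β then S.r h i v' else 0
  have hu : ∀ γ (h : γ ≤ β), u γ = S.r h i v' := fun γ h => dif_pos h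
  have huc : ∀ γ, γ < β → S.d γ i j (u γ) = 0 := by
    intro γ h
    rw [hu γ h.le, ← S.r_d, hv', hwr γ h]
  have hur : ∀ γ γ' (h : γ ≤ γ'), γ' < β → S.r h i (u γ') = u γ := by
    intro γ γ' h hγ'
    rw [hu γ' hγ'.le, hu γ (h.trans hγ'.le), S.r_trans]
  obtain ⟨t, htd, htr⟩ := hR (i - 1) i j (sub_add_cancel i 1) hij u huc hur
  obtain ⟨T, hT⟩ := S.lift β (i - 1) t htr
  refine ⟨y' + v' - S.d β (i - 1) i T, ?_, ?_⟩
  · rw [map_sub, map_add, S.d_d, sub_zero, hv']
    abel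
  · intro γ h
    rw [map_sub, map_add, hy' γ h, S.r_d, hT γ h, htd γ h, hu γ h.le]
    abel

theorem all_Q [WellFoundedLT I] : ∀ β, Q S β := by
  intro β
  induction β using WellFoundedLT.induction with
  | ind β ih =>
    exact step_lemma S β (rec_lemma S (fun γ => γ < β) (fun γ γ' h h' => lt_of_le_of_lt h h')
      (fun γ hγ => ih γ hγ))

theorem total [WellFoundedLT I] : R S (fun _ => True) :=
  rec_lemma S _ (fun _ _ _ _ => trivial) (fun β _ => all_Q S β)

/-- the elementwise system attached to a functor. -/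
noncomputable def sysOf (K : Iᵒᵖ ⥤ CochainComplex AddCommGrpCat.{w} ℤ)
    (hac : ∀ (β : I) (n : ℤ), (K.obj (op β)).ExactAt n)
    (hsurj : ∀ (β : I) (n : ℤ) (x : ∀ γ : {γ : I // γ < β}, (K.obj (op γ.1)).X n),
      (∀ (γ γ' : {γ : I // γ < β}) (h : γ.1 ≤ γ'.1),
        ((K.map (homOfLE h).op).f n).hom (x γ') = x γ) →
      ∃ y : (K.obj (op β)).X n, ∀ γ : {γ : I // γ < β},
        ((K.map (homOfLE γ.2.le).op).f n).hom y = x γ) : Sys I where
  G β n := (K.obj (op β)).X n
  grp β n := inferInstance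
  d β i j := ((K.obj (op β)).d i j).hom
  r {γ β} h n := ((K.map (homOfLE h).op).f n).hom
  d_d β i j k x := by
    have h1 := (K.obj (op β)).d_comp_d i j k
    exact congr(($h1).hom x)
  r_refl β n x := by
    have h1 : (homOfLE (le_refl β)).op = 𝟙 (op β) := rfl
    rw [h1, K.map_id]
    rfl
  r_trans {γ γ' β} h h' n x := by
    have h1 : K.map (homOfLE h').op ≫ K.map (homOfLE h).op = K.map (homOfLE (h.trans h')).op := by
      rw [← K.map_comp, ← op_comp, homOfLE_comp]
    exact congr((($h1).f n).hom x)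
  r_d {γ β} h i j x := by
    have h1 := (K.map (homOfLE h).op).comm i j
    exact congr(($h1).hom x).symm
  exact β i j k hij hjk x hx := by
    have h1 := hac β j
    rw [(K.obj (op β)).exactAt_iff' i j k (by simp; omega) (by simp; omega),
      ShortComplex.ab_exact_iff] at h1
    exact h1 x hx
  lift β n x hx := by
    obtain ⟨y, hy⟩ := hsurj β n (fun γ => x γ.1) (fun γ γ' h => hx γ.1 γ'.1 h γ'.2)
    exact ⟨y, fun γ h => hy ⟨γ, h⟩⟩

/-- Let I be a well-ordered type and K : Iᵒᵖ ⥤ CochainComplex Ab an inverse system of acyclic complexes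
of abelian groups such that for every β and every degree n, each family of elements of the Kⁿ_γ (γ <
β) compatible under the transition maps lifts to an element of Kⁿ_β (i.e. Kⁿ_β → lim_{γ<β} Kⁿ_γ is
surjective). Then the limit complex lim K is acyclic. -/
theorem result {I : Type w} [LinearOrder I] [WellFoundedLT I]
    (K : Iᵒᵖ ⥤ CochainComplex AddCommGrpCat.{w} ℤ)
    (hac : ∀ (β : I) (n : ℤ), (K.obj (op β)).ExactAt n)
    (hsurj : ∀ (β : I) (n : ℤ) (x : ∀ γ : {γ : I // γ < β}, (K.obj (op γ.1)).X n),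
      (∀ (γ γ' : {γ : I // γ < β}) (h : γ.1 ≤ γ'.1), ((K.map (homOfLE h).op).f n).hom (x γ') = x γ) →
      ∃ y : (K.obj (op β)).X n, ∀ γ : {γ : I // γ < β}, ((K.map (homOfLE γ.2.le).op).f n).hom y = x γ)
    (n : ℤ) : (limit K).ExactAt n := by
  have hT := total (sysOf K hac hsurj)
  rw [(limit K).exactAt_iff' (n - 1) n (n + 1) (by simp) (by simp), ShortComplex.ab_exact_iff]
  intro a ha
  change ((limit K).X n : Type w) at a
  change ((limit K).d n (n + 1)).hom a = 0 at ha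
  let x : ∀ γ : I, (K.obj (op γ)).X n := fun γ => ((limit.π K (op γ)).f n).hom a
  have hxc : ∀ γ : I, True → ((K.obj (op γ)).d n (n + 1)).hom (x γ) = 0 := by
    intro γ _
    have h1 := (limit.π K (op γ)).comm n (n + 1)
    have h2 := congr(($h1).hom a)
    simp only [AddCommGrpCat.hom_comp, AddMonoidHom.comp_apply] at h2
    rw [h2, ha, map_zero]
  have hxr : ∀ (γ γ' : I) (h : γ ≤ γ'), True →
      ((K.map (homOfLE h).op).f n).hom (x γ') = x γ := by
    intro γ γ' h _
    have h1 := limit.w K (homOfLE h).op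
    exact congr((($h1).f n).hom a)
  obtain ⟨y, hyd, hyr⟩ := hT (n - 1) n (n + 1) (sub_add_cancel n 1) rfl x hxc hxr
  have hD := isLimitOfPreserves (HomologicalComplex.eval AddCommGrpCat.{w} (ComplexShape.up ℤ) (n - 1))
    (limit.isLimit K)
  have hD' := isLimitOfPreserves (HomologicalComplex.eval AddCommGrpCat.{w} (ComplexShape.up ℤ) n)
    (limit.isLimit K)
  let e := Types.isLimitEquivSections (isLimitOfPreserves (forget AddCommGrpCat.{w}) hD)
  let s : ((K ⋙ HomologicalComplex.eval AddCommGrpCat.{w} (ComplexShape.up ℤ) (n - 1)) ⋙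
      forget AddCommGrpCat.{w}).sections :=
    ⟨fun j => y j.unop, by
      intro j j' f
      have h1 : f = (homOfLE (leOfHom f.unop)).op := rfl
      rw [h1]
      exact hyr j'.unop j.unop (leOfHom f.unop) trivial⟩
  let b : ((limit K).X (n - 1) : Type w) := e.symm s
  have hb : ∀ γ : I, ((limit.π K (op γ)).f (n - 1)).hom b = y γ := fun γ =>
    Types.isLimitEquivSections_symm_apply (isLimitOfPreserves (forget AddCommGrpCat.{w}) hD) s (op γ)
  refine ⟨b, ?_⟩
  apply Concrete.isLimit_ext (K ⋙ HomologicalComplex.eval AddCommGrpCat.{w} (ComplexShape.up ℤ) n) hD'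
  intro j
  change ((limit.π K j).f n).hom (((limit K).d (n - 1) n).hom b) = ((limit.π K j).f n).hom a
  have h1 := (limit.π K j).comm (n - 1) n
  have h2 := congr(($h1).hom b)
  simp only [AddCommGrpCat.hom_comp, AddMonoidHom.comp_apply] at h2
  rw [← h2, hb j.unop]
  exact hyd j.unop trivial

end Groth.Agent.S0992
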