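import Groth.Statements.S10000
import Groth.Agent.H32.GeomLift2
import Groth.Agent.H32.EtStalk2
import Groth.Agent.H52.Topology

set_option autoImplicit false
universe u
open CategoryTheory CategoryTheory.Limits AlgebraicGeometry
open AlgSp

namespace Groth.Agent.S10000

/-- For a morphism X ⟶ Y of algebraic spaces and an algebraically closed field k over S that is large
compared with X, X(k) surjects onto |X| ×_{|Y|} Y(k): every pair of a point x of |X| and a k-valued
point of Y with the same image in |Y| comes from a k-valued point of X. (The published statement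
measures largeness by a cardinal attached to X that bounds the residue fields of an etale atlas;
this row asks directly that every residue field of one surjective etale chart U of X have
cardinality smaller than that of k, which is how the bound enters the argument.) -/
theorem result {S : Scheme.{u}} {X Y : AlgSp.Space S} (f : X ⟶ Y)
    {U : Over S} (a : (AlgSp.yon S).obj U ⟶ X.obj) (ha : AlgSp.RepWith @Etale a) (has : AlgSp.RepWith @Surjective a)
    (ybar : AlgSp.FieldPt Y.obj) (hy : ybar.IsGeometric)
    (hk : ∀ u : ↥U.left, Cardinal.mk ↥(U.left.residueField u) < Cardinal.mk ybar.K)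
    (x : AlgSp.Points X.obj) (hx : AlgSp.Points.map f.hom x = AlgSp.Points.mk ybar) :
    ∃ xbar : (AlgSp.yon S).obj ybar.pt ⟶ X.obj, xbar ≫ f.hom = ybar.toHom ∧
      AlgSp.Points.ofPt xbar (IsLocalRing.closedPoint ybar.K) = x := by
  have : IsAlgClosed ybar.K := hy
  obtain ⟨u, rfl⟩ := Groth.Agent.H52.surjective_ofPt_of_surjective a has x
  obtain ⟨V, b, hb, l, hl⟩ := Groth.Agent.H32.EtStalk.exists_atlas_lift Y.property ybar
  obtain ⟨W, snd, fst, sq⟩ := hb.1 (a ≫ f.hom)
  obtain ⟨fst', rfl⟩ := (AlgSp.yon S).map_surjective fst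
  have hsnd : Etale snd.left := hb.2 _ _ _ sq
  let c : ↥ybar.pt.left := IsLocalRing.closedPoint ybar.K
  have h1 : Points.ofPt b (l.left c) = Points.ofPt (a ≫ f.hom) u := by
    rw [← Groth.Agent.H52.ofPt_yon_map_comp, hl, Points.ofPt_toHom, ← hx]
    rfl
  obtain ⟨w, hw1, hw2⟩ := Groth.Agent.H52.exists_of_ofPt_eq_ofPt sq (l.left c) u h1
  have hcard : Cardinal.mk ↥(W.left.residueField w) < Cardinal.mk ybar.K :=
    Groth.Agent.H32.GeomLift.card_residueField_lt snd.left w (hk (snd.left w))
  obtain ⟨m, hm1, hm2⟩ :=
    Groth.Agent.H32.GeomLift.exists_lift_point fst'.left w l.left c hw1.symm hcard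
  have hmW : m ≫ W.hom = ybar.str := by
    have e1 : fst'.left ≫ V.hom = W.hom := Over.w fst'
    have e2 : l.left ≫ V.hom = ybar.str := Over.w l
    rw [← e1, ← Category.assoc, hm1, e2]
  let m' : ybar.pt ⟶ W := Over.homMk m hmW
  have hm' : m' ≫ fst' = l := Over.OverMorphism.ext hm1
  refine ⟨(AlgSp.yon S).map (m' ≫ snd) ≫ a, ?_, ?_⟩
  · rw [Functor.map_comp, Category.assoc, Category.assoc, ← sq.w, ← Category.assoc,
      ← Functor.map_comp, hm', hl]
  · rw [Groth.Agent.H52.ofPt_yon_map_comp]
    change Points.ofPt a (snd.left (m c)) = _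
    rw [hm2, hw2]

end Groth.Agent.S10000
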