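import Groth.Statements.S10001
import Groth.Agent.H50.CutOut

set_option autoImplicit false
universe u
open CategoryTheory CategoryTheory.Limits AlgebraicGeometry Opposite
open AlgSp

namespace Groth.Agent.S10001

/-- Last assertion, on T-valued points for schemes T: if i : Z ⟶ X is the closed subspace cut out by the
sheaf of ideals I, a morphism h : h_T ⟶ X from a scheme T factors through Z exactly when h^*I ⟶ O_T
vanishes, that is, when for every affine etale chart U of X the functions in I(U) pull back to zero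
on T ×_X U (I is contained in the kernel family of h). -/
theorem result {S : Scheme.{u}} {Z X : AlgSp.Space S} (i : Z ⟶ X) (I : AlgSp.IdealEt X.obj)
    (hZ : AlgSp.IsCutOutBy I i.hom) {T : Over S} (h : (AlgSp.yon S).obj T ⟶ X.obj) (hh : AlgSp.Representable h) :
    (∃ k : (AlgSp.yon S).obj T ⟶ Z.obj, k ≫ i.hom = h) ↔ I ≤ AlgSp.idealOfRep hh := by
  obtain ⟨hi, rfl⟩ := hZ
  haveI : Mono i.hom := Groth.Agent.H50.mono_of_repWith
    (fun _ _ g hg => by haveI : IsClosedImmersion g := hg; infer_instance) hi
  constructor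
  · rintro ⟨k, hk'⟩
    rw [AlgSp.IdealEt.le_def]
    intro E hE
    have hcomm : (hh.fst E.obj.hom ≫ k) ≫ i.hom =
        (AlgSp.yon S).map (hh.snd E.obj.hom) ≫ E.obj.hom := by
      rw [Category.assoc, hk', (hh.isPullback E.obj.hom).w]
    have hl : hi.1.lift (hh.fst E.obj.hom ≫ k) (hh.snd E.obj.hom) hcomm ≫
        hi.1.snd E.obj.hom = hh.snd E.obj.hom := hi.1.lift_snd _ _ _
    intro a ha
    have ha' : (hi.1.snd E.obj.hom).left.appTop.hom a = 0 := ha
    show a ∈ RingHom.ker (hh.snd E.obj.hom).left.appTop.hom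
    rw [RingHom.mem_ker, ← hl, Over.comp_left, Scheme.Hom.comp_appTop, CommRingCat.hom_comp,
      RingHom.comp_apply, ha', map_zero]
  · intro hle
    have H : ∀ ⦃V : Over S⦄ (c : (AlgSp.yon S).obj V ⟶ X.obj), IsAffine V.left →
        AlgSp.RepWith @Etale c →
        ∃ l : hh.pullback c ⟶ hi.1.pullback c, l ≫ hi.1.snd c = hh.snd c := by
      intro V c hV hc
      haveI := hV
      haveI : IsClosedImmersion (hi.1.snd c).left := hi.2 _ _ _ (hi.1.isPullback c)
      have hk := (AlgSp.IdealEt.le_def _ _).1 hle (AlgSp.EtOver.mk c hc) hV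
      obtain ⟨l₀, hl₀⟩ := Groth.Agent.H50.exists_lift_of_ker_appTop_le (hi.1.snd c).left
        (hh.snd c).left hk
      refine ⟨Over.homMk l₀ ?_, ?_⟩
      · rw [← Over.w (hi.1.snd c), ← Category.assoc, hl₀, Over.w]
      · apply Over.OverMorphism.ext
        exact hl₀
    exact Groth.Agent.H50.exists_factor_of_charts X.property i.hom h hi.1 hh H

end Groth.Agent.S10001
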