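import Groth.Statements.S9989
import Groth.Agent.H50.CutOut

set_option autoImplicit false
universe u
open CategoryTheory CategoryTheory.Limits AlgebraicGeometry Opposite
open AlgSp

namespace Groth.Agent.S9989

/-- For closed subspaces i : Z ⟶ X and i' : Z' ⟶ X of an algebraic space cut out by sheaves of ideals I
and I', one has I ≤ I' exactly when i' factors through i. -/
theorem result {S : Scheme.{u}} {X Z Z' : AlgSp.Space S} (i : Z ⟶ X) (i' : Z' ⟶ X)
    (I I' : AlgSp.IdealEt X.obj) (h : AlgSp.IsCutOutBy I i.hom) (h' : AlgSp.IsCutOutBy I' i'.hom) :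
    I ≤ I' ↔ ∃ k : Z' ⟶ Z, k ≫ i = i' := by
  obtain ⟨hi, rfl⟩ := h
  obtain ⟨hi', rfl⟩ := h'
  haveI : Mono i.hom := Groth.Agent.H50.mono_of_repWith
    (fun _ _ g hg => by haveI : IsClosedImmersion g := hg; infer_instance) hi
  constructor
  · intro hle
    have H : ∀ ⦃V : Over S⦄ (c : (AlgSp.yon S).obj V ⟶ X.obj), IsAffine V.left →
        AlgSp.RepWith @Etale c →
        ∃ l : hi'.1.pullback c ⟶ hi.1.pullback c, l ≫ hi.1.snd c = hi'.1.snd c := by
      intro V c hV hc
      haveI := hV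
      haveI : IsClosedImmersion (hi.1.snd c).left := hi.2 _ _ _ (hi.1.isPullback c)
      have hk := (AlgSp.IdealEt.le_def _ _).1 hle (AlgSp.EtOver.mk c hc) hV
      obtain ⟨l₀, hl₀⟩ := Groth.Agent.H50.exists_lift_of_ker_appTop_le (hi.1.snd c).left
        (hi'.1.snd c).left hk
      refine ⟨Over.homMk l₀ ?_, ?_⟩
      · rw [← Over.w (hi.1.snd c), ← Category.assoc, hl₀, Over.w]
      · apply Over.OverMorphism.ext
        exact hl₀
    obtain ⟨k, hk⟩ := Groth.Agent.H50.exists_factor_of_charts X.property i.hom i'.hom hi.1 hi'.1 H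
    exact ⟨ObjectProperty.homMk k, by apply ObjectProperty.hom_ext; exact hk⟩
  · rintro ⟨k, hk⟩
    rw [AlgSp.IdealEt.le_def]
    intro E hE
    have hk' : k.hom ≫ i.hom = i'.hom := by rw [← hk]; rfl
    have hcomm : (hi'.1.fst E.obj.hom ≫ k.hom) ≫ i.hom =
        (AlgSp.yon S).map (hi'.1.snd E.obj.hom) ≫ E.obj.hom := by
      rw [Category.assoc, hk', (hi'.1.isPullback E.obj.hom).w]
    have hl : hi.1.lift (hi'.1.fst E.obj.hom ≫ k.hom) (hi'.1.snd E.obj.hom) hcomm ≫
        hi.1.snd E.obj.hom = hi'.1.snd E.obj.hom := hi.1.lift_snd _ _ _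
    intro a ha
    have ha' : (hi.1.snd E.obj.hom).left.appTop.hom a = 0 := ha
    show a ∈ RingHom.ker (hi'.1.snd E.obj.hom).left.appTop.hom
    rw [RingHom.mem_ker, ← hl, Over.comp_left, Scheme.Hom.comp_appTop, CommRingCat.hom_comp,
      RingHom.comp_apply, ha', map_zero]

end Groth.Agent.S9989
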