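import Groth.Statements.S10003
import Groth.Agent.H50.IdealChart
import Groth.Agent.H52.QC
import Groth.Agent.S9989

set_option autoImplicit false
universe u
open CategoryTheory CategoryTheory.Limits AlgebraicGeometry Opposite
open AlgSp

namespace Groth.Agent.S10003

/-- For a quasi-compact morphism f : X ⟶ Y of algebraic spaces that is representable by schemes, the
sheaf of ideals Ker(O_Y ⟶ f_* O_X) (the kernel family on affine etale charts of Y) is
quasi-coherent, and the scheme theoretic image of f is exactly the closed subspace it cuts out. (The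
published statement is for an arbitrary quasi-compact morphism of algebraic spaces; f_* O_X on the
small etale site with scheme charts is available only for representable f, the case stated.) -/
theorem result {S : Scheme.{u}} {X Y : AlgSp.Space S} (f : X ⟶ Y)
    (hf : AlgSp.Representable f.hom) (hqc : AlgSp.IsQuasiCompactMor f.hom) :
    (AlgSp.idealOfRep hf).IsQCoh ∧
      ∀ (Z : AlgSp.Space S) (i : Z ⟶ Y), AlgSp.IsSchImage f.hom i.hom ↔ AlgSp.IsCutOutBy (AlgSp.idealOfRep hf) i.hom := by
  have hQC : ∀ (V : Over S) (c : (AlgSp.yon S).obj V ⟶ Y.obj), IsAffine V.left →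
      QuasiCompact (hf.snd c).left := by
    intro V c hV
    haveI := hV
    have h1 : AlgSp.IsQuasiCompactSp ((AlgSp.yon S).obj (hf.pullback c)) :=
      hqc (AlgSp.IsAlgSpace.yon_obj V) (Groth.Agent.H52.isQuasiCompactSp_yon V) c (hf.fst c)
        ((AlgSp.yon S).map (hf.snd c)) (hf.isPullback c)
    haveI := Groth.Agent.H52.compactSpace_points_of_isQuasiCompactSp h1
    haveI : CompactSpace ↥(hf.pullback c).left :=
      (AlgSp.Points.schemeHomeo (hf.pullback c)).symm.compactSpace
    exact (HasAffineProperty.iff_of_isAffine (P := @QuasiCompact)).2 inferInstance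
  have hqcoh : (AlgSp.idealOfRep hf).IsQCoh := by
    intro E E' g hE hE'
    haveI := hE
    haveI := hE'
    haveI : QuasiCompact (hf.snd E.obj.hom).left := hQC _ _ hE
    haveI : QuasiCompact (hf.snd E'.obj.hom).left := hQC _ _ hE'
    haveI : Etale g.hom.left.left := AlgSp.EtOver.etale_left g
    have sq : IsPullback (P := (hf.pullback E'.obj.hom).left) (X := (hf.pullback E.obj.hom).left)
        (Y := E'.obj.left.left) (Z := E.obj.left.left) (AlgSp.EtOver.bcMap hf g).hom.left.left
        (hf.snd E'.obj.hom).left (hf.snd E.obj.hom).left g.hom.left.left :=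
      AlgSp.EtOver.isPullback_bcMap_left hf g
    have hk : (hf.snd E'.obj.hom).left.ker = (hf.snd E.obj.hom).left.ker.comap g.hom.left.left :=
      Groth.Agent.H50.ker_eq_comap_of_isPullback sq
    have e : (⊤ : E'.obj.left.left.Opens) ≤ g.hom.left.left ⁻¹ᵁ ⊤ := le_top
    have h2 := Groth.Agent.H9.comap_ideal g.hom.left.left (hf.snd E.obj.hom).left.ker
      ⟨⊤, isAffineOpen_top _⟩ ⟨⊤, isAffineOpen_top _⟩ e
    rw [← hk, Scheme.Hom.ker_apply, Scheme.Hom.ker_apply, Groth.Agent.H50.appLE_top_top] at h2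
    exact h2.le
  refine ⟨hqcoh, ?_⟩
  have hback : ∀ (Z : AlgSp.Space S) (i : Z ⟶ Y),
      AlgSp.IsCutOutBy (AlgSp.idealOfRep hf) i.hom → AlgSp.IsSchImage f.hom i.hom := by
    intro Z i hcut
    obtain ⟨hi, heq⟩ := hcut
    haveI : Mono i.hom := Groth.Agent.H50.mono_of_repWith
      (fun _ _ g hg => by haveI : IsClosedImmersion g := hg; infer_instance) hi
    refine ⟨hi, ?_, ?_⟩
    · refine Groth.Agent.H50.exists_factor_of_charts Y.property i.hom f.hom hi.1 hf ?_
      intro V c hV hc
      haveI := hV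
      haveI : IsClosedImmersion (hi.1.snd c).left := hi.2 _ _ _ (hi.1.isPullback c)
      have hk : RingHom.ker (hi.1.snd c).left.appTop.hom ≤
          RingHom.ker (hf.snd c).left.appTop.hom := by
        have h0 := congrArg (fun K : AlgSp.IdealEt Y.obj => K.ideal (AlgSp.EtOver.mk c hc) hV) heq
        exact h0.le
      obtain ⟨l₀, hl₀⟩ := Groth.Agent.H50.exists_lift_of_ker_appTop_le (hi.1.snd c).left
        (hf.snd c).left hk
      refine ⟨Over.homMk l₀ ?_, ?_⟩
      · rw [← Over.w (hi.1.snd c), ← Category.assoc, hl₀, Over.w]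
      · apply Over.OverMorphism.ext
        exact hl₀
    · intro Z' i' hZ' hi' hfac
      obtain ⟨f'', hf''⟩ := hfac
      haveI : Mono i' := Groth.Agent.H50.mono_of_repWith
        (fun _ _ g hg => by haveI : IsClosedImmersion g := hg; infer_instance) hi'
      refine Groth.Agent.H50.exists_factor_of_charts Y.property i' i.hom hi'.1 hi.1 ?_
      intro V c hV hc
      haveI := hV
      haveI : IsClosedImmersion (hi'.1.snd c).left := hi'.2 _ _ _ (hi'.1.isPullback c)
      have hcomm : (hf.fst c ≫ f'') ≫ i' = (AlgSp.yon S).map (hf.snd c) ≫ c := by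
        rw [Category.assoc, hf'', (hf.isPullback c).w]
      have hl : hi'.1.lift (hf.fst c ≫ f'') (hf.snd c) hcomm ≫ hi'.1.snd c = hf.snd c :=
        hi'.1.lift_snd _ _ _
      have hk : RingHom.ker (hi'.1.snd c).left.appTop.hom ≤
          RingHom.ker (hi.1.snd c).left.appTop.hom := by
        have h0 := congrArg (fun K : AlgSp.IdealEt Y.obj => K.ideal (AlgSp.EtOver.mk c hc) hV) heq
        have h0' : RingHom.ker (hi.1.snd c).left.appTop.hom =
            RingHom.ker (hf.snd c).left.appTop.hom := h0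
        rw [h0']
        intro a ha
        have ha' : (hi'.1.snd c).left.appTop.hom a = 0 := ha
        rw [RingHom.mem_ker, ← hl, Over.comp_left, Scheme.Hom.comp_appTop, CommRingCat.hom_comp,
          RingHom.comp_apply, ha', map_zero]
      obtain ⟨l₀, hl₀⟩ := Groth.Agent.H50.exists_lift_of_ker_appTop_le (hi'.1.snd c).left
        (hi.1.snd c).left hk
      refine ⟨Over.homMk l₀ ?_, ?_⟩
      · rw [← Over.w (hi'.1.snd c), ← Category.assoc, hl₀, Over.w]
      · apply Over.OverMorphism.ext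
        exact hl₀
  intro Z i
  refine ⟨fun hsch => ?_, hback Z i⟩
  obtain ⟨Z₀, i₀, hZ₀, hcut₀⟩ := Groth.Agent.H50.exists_isCutOutBy_of_isQCoh Y.property
    (AlgSp.idealOfRep hf) hqcoh
  have hsch₀ := hback ⟨Z₀, hZ₀⟩ (ObjectProperty.homMk i₀) hcut₀
  obtain ⟨hi, hfac, hmin⟩ := hsch
  obtain ⟨hi₀, hfac₀, hmin₀⟩ := hsch₀
  obtain ⟨k, hk⟩ := hmin i₀ hZ₀ hi₀ hfac₀
  obtain ⟨k', hk'⟩ := hmin₀ i.hom Z.property hi hfac
  refine ⟨hi, ?_⟩
  obtain ⟨hi₀', heq₀⟩ := hcut₀
  rw [← heq₀]
  have h1 := (Groth.Agent.S9989.result (Z := Z) (Z' := ⟨Z₀, hZ₀⟩) i (ObjectProperty.homMk i₀)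
    _ _ ⟨hi, rfl⟩ ⟨hi₀', rfl⟩).2 ⟨ObjectProperty.homMk k', by
      apply ObjectProperty.hom_ext
      exact hk'⟩
  have h2 := (Groth.Agent.S9989.result (Z := ⟨Z₀, hZ₀⟩) (Z' := Z) (ObjectProperty.homMk i₀) i
    _ _ ⟨hi₀', rfl⟩ ⟨hi, rfl⟩).2 ⟨ObjectProperty.homMk k, by
      apply ObjectProperty.hom_ext
      exact hk⟩
  apply AlgSp.IdealEt.ext
  funext E hE
  exact le_antisymm (h1 E hE) (h2 E hE)

end Groth.Agent.S10003
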