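import Groth.Statements.S10026
import Groth.Agent.H16.LimPres

set_option autoImplicit false
universe u
open CategoryTheory CategoryTheory.Limits AlgebraicGeometry
open AlgSp

namespace Groth.Agent.S10026

open Opposite Groth.Agent.H16.LimPres in
theorem result' (S : Scheme.{u}) {F G H : AlgSp.PSp S} (a : F ⟶ G) (b : G ⟶ H)
    (hab : AlgSp.IsRelLimitPreserving (a ≫ b)) (hb : AlgSp.IsRelLimitPreserving b) :
    AlgSp.IsRelLimitPreserving a := by
  intro T y I _ _ D c hc hD hT
  -- the section y' = b y of H over T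
  let y' : H.obj (op T) := b.app _ y
  have hby : ∀ (X : Over T.left), b.app _ (G.map (AlgSp.overHom T X).op y) =
      H.map (AlgSp.overHom T X).op y' := fun X => by
    rw [NatTrans.naturality_apply]
  have hGm : ∀ {X Y : Over T.left} (f : X ⟶ Y),
      G.map ((Over.map T.hom).map f).op (G.map (AlgSp.overHom T Y).op y) =
        G.map (AlgSp.overHom T X).op y := fun {X Y} f => by
    rw [← Functor.map_comp_apply, ← op_comp, AlgSp.map_comp_overHom]
  refine ⟨Types.FilteredColimit.isColimitOf' _ _ ?_ ?_⟩
  · intro x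
    have hx2 : a.app (op ((Over.map T.hom).obj c.pt)) x.1 =
        G.map (AlgSp.overHom T c.pt).op y := x.2
    have hx : (a ≫ b).app (op ((Over.map T.hom).obj c.pt)) x.1 =
        H.map (AlgSp.overHom T c.pt).op y' := by
      change b.app (op ((Over.map T.hom).obj c.pt)) (a.app (op ((Over.map T.hom).obj c.pt)) x.1) = _
      rw [hx2, hby]
    obtain ⟨i, xi, hxi⟩ := lp_surj (AlgSp.fiberFun (a ≫ b) T y') (hab T y') D c hc hD hT ⟨_, hx⟩
    have hxi' : F.map ((Over.map T.hom).map (cπ c i)).op xi.1 = x.1 := by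
      have := congrArg Subtype.val hxi
      rwa [AlgSp.fiberFun_map_coe] at this
    -- two sections of the fibre of b over y' on D i
    have h1 : b.app (op ((Over.map T.hom).obj (D.obj i)))
        (a.app (op ((Over.map T.hom).obj (D.obj i))) xi.1) =
        H.map (AlgSp.overHom T (D.obj i)).op y' := xi.2
    have h2 : b.app _ (G.map (AlgSp.overHom T (D.obj i)).op y) =
        H.map (AlgSp.overHom T (D.obj i)).op y' := hby _
    obtain ⟨k, f, hf⟩ := lp_inj (AlgSp.fiberFun b T y') (hb T y') D c hc hD hT i ⟨_, h1⟩ ⟨_, h2⟩ (by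
      apply Subtype.ext
      change G.map ((Over.map T.hom).map (cπ c i)).op (a.app _ xi.1) =
        G.map ((Over.map T.hom).map (cπ c i)).op (G.map (AlgSp.overHom T (D.obj i)).op y)
      rw [← NatTrans.naturality_apply, hxi', hx2, hGm])
    have hf' : G.map ((Over.map T.hom).map (D.map f)).op (a.app _ xi.1) =
        G.map ((Over.map T.hom).map (D.map f)).op (G.map (AlgSp.overHom T (D.obj i)).op y) := by
      exact congrArg Subtype.val hf
    have hw : a.app _ (F.map ((Over.map T.hom).map (D.map f)).op xi.1) =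
        G.map (AlgSp.overHom T (D.obj k)).op y := by
      rw [NatTrans.naturality_apply, hf', hGm]
    refine ⟨op k, ⟨_, hw⟩, ?_⟩
    apply Subtype.ext
    change x.1 = F.map ((Over.map T.hom).map (cπ c k)).op
      (F.map ((Over.map T.hom).map (D.map f)).op xi.1)
    have hcw : cπ c k ≫ D.map f = cπ c i := c.w f
    rw [← Functor.map_comp_apply, ← op_comp, ← Functor.map_comp, hcw]
    exact hxi'.symm
  · intro i x x' h
    obtain ⟨i₀⟩ := i
    change (AlgSp.fiberFun a T y).map (cπ c i₀).op x =
      (AlgSp.fiberFun a T y).map (cπ c i₀).op x' at h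
    have h1 : F.map ((Over.map T.hom).map (cπ c i₀)).op x.1 =
        F.map ((Over.map T.hom).map (cπ c i₀)).op x'.1 := congrArg Subtype.val h
    have hx2 : a.app (op ((Over.map T.hom).obj (D.obj i₀))) x.1 =
        G.map (AlgSp.overHom T (D.obj i₀)).op y := x.2
    have hx2' : a.app (op ((Over.map T.hom).obj (D.obj i₀))) x'.1 =
        G.map (AlgSp.overHom T (D.obj i₀)).op y := x'.2
    have hx : (a ≫ b).app (op ((Over.map T.hom).obj (D.obj i₀))) x.1 =
        H.map (AlgSp.overHom T (D.obj i₀)).op y' := by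
      change b.app (op ((Over.map T.hom).obj (D.obj i₀)))
        (a.app (op ((Over.map T.hom).obj (D.obj i₀))) x.1) = _
      rw [hx2, hby]
    have hx' : (a ≫ b).app (op ((Over.map T.hom).obj (D.obj i₀))) x'.1 =
        H.map (AlgSp.overHom T (D.obj i₀)).op y' := by
      change b.app (op ((Over.map T.hom).obj (D.obj i₀)))
        (a.app (op ((Over.map T.hom).obj (D.obj i₀))) x'.1) = _
      rw [hx2', hby]
    obtain ⟨k, f, hf⟩ := lp_inj (AlgSp.fiberFun (a ≫ b) T y') (hab T y') D c hc hD hT i₀
      ⟨_, hx⟩ ⟨_, hx'⟩ (by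
        apply Subtype.ext
        exact h1)
    refine ⟨op k, f.op, ?_⟩
    change (AlgSp.fiberFun a T y).map (D.map f).op x = (AlgSp.fiberFun a T y).map (D.map f).op x'
    apply Subtype.ext
    have hf' : F.map ((Over.map T.hom).map (D.map f)).op x.1 =
        F.map ((Over.map T.hom).map (D.map f)).op x'.1 := congrArg Subtype.val hf
    exact hf'


/-- Let `a : F ⟶ G`, `b : G ⟶ H` be transformations of presheaves of sets on schemes over `S`. If `a ≫
b` and `b` are relatively limit preserving, then so is `a`. -/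
theorem result (S : Scheme.{u}) {F G H : AlgSp.PSp S} (a : F ⟶ G) (b : G ⟶ H)
    (hab : AlgSp.IsRelLimitPreserving (a ≫ b)) (hb : AlgSp.IsRelLimitPreserving b) :
    AlgSp.IsRelLimitPreserving a := by
  exact result' S a b hab hb

end Groth.Agent.S10026
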