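import Groth.Statements.S10027
import Groth.Agent.H16.LimPres
import Groth.Agent.S10026

set_option autoImplicit false
universe u
open CategoryTheory CategoryTheory.Limits AlgebraicGeometry
open AlgSp

namespace Groth.Agent.S10027

section
set_option backward.isDefEq.respectTransparency false
set_option backward.isDefEq.respectTransparency.types false
open Opposite Groth.Agent.H16.LimPres

/-- base change of relatively limit preserving maps. -/
theorem baseChange (S : Scheme.{u}) {F G H P : AlgSp.PSp S}
    (a : F ⟶ G) (b : H ⟶ G) (fst : P ⟶ F) (snd : P ⟶ H) (hP : IsPullback fst snd a b)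
    (hb : AlgSp.IsRelLimitPreserving b) :
    AlgSp.IsRelLimitPreserving fst := by
  have hPX : ∀ X : (Over S)ᵒᵖ, IsPullback (fst.app X) (snd.app X) (a.app X) (b.app X) :=
    fun X => hP.map ((evaluation _ _).obj X)
  intro T x I _ _ D c hc hD hT
  let y : G.obj (op T) := a.app _ x
  have hay : ∀ (X : Over T.left), a.app _ (F.map (AlgSp.overHom T X).op x) =
      G.map (AlgSp.overHom T X).op y := fun X => by
    rw [NatTrans.naturality_apply]
  have hsq : ∀ (X : (Over S)ᵒᵖ) (p : P.obj X), a.app X (fst.app X p) = b.app X (snd.app X p) :=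
    fun X p => congrFun (congrArg (fun f => (ConcreteCategory.hom f : _ → _)) (hPX X).w) p
  have hFm : ∀ {X Y : Over T.left} (f : X ⟶ Y),
      F.map ((Over.map T.hom).map f).op (F.map (AlgSp.overHom T Y).op x) =
        F.map (AlgSp.overHom T X).op x := fun {X Y} f => by
    rw [← Functor.map_comp_apply, ← op_comp, AlgSp.map_comp_overHom]
  refine ⟨Types.FilteredColimit.isColimitOf' _ _ ?_ ?_⟩
  · intro p
    have hp2 : fst.app (op ((Over.map T.hom).obj c.pt)) p.1 =
        F.map (AlgSp.overHom T c.pt).op x := p.2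
    have hsp : b.app (op ((Over.map T.hom).obj c.pt)) (snd.app _ p.1) =
        G.map (AlgSp.overHom T c.pt).op y := by
      rw [← hsq, hp2, hay]
    obtain ⟨i, hi, hhi⟩ := lp_surj (AlgSp.fiberFun b T y) (hb T y) D c hc hD hT ⟨_, hsp⟩
    have hhi' : H.map ((Over.map T.hom).map (cπ c i)).op hi.1 =
        snd.app (op ((Over.map T.hom).obj c.pt)) p.1 := congrArg Subtype.val hhi
    have hi2 : b.app (op ((Over.map T.hom).obj (D.obj i))) hi.1 =
        G.map (AlgSp.overHom T (D.obj i)).op y := hi.2
    obtain ⟨pi, hpi1, hpi2⟩ := Types.exists_of_isPullback (hPX (op ((Over.map T.hom).obj (D.obj i))))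
      (F.map (AlgSp.overHom T (D.obj i)).op x) hi.1 (by rw [hay, hi2])
    refine ⟨op i, ⟨pi, hpi1⟩, ?_⟩
    apply Subtype.ext
    change p.1 = P.map ((Over.map T.hom).map (cπ c i)).op pi
    apply Types.ext_of_isPullback (hPX (op ((Over.map T.hom).obj c.pt)))
    · rw [hp2, NatTrans.naturality_apply, hpi1, hFm]
    · rw [NatTrans.naturality_apply, hpi2, hhi']
  · intro i p p' h
    obtain ⟨i₀⟩ := i
    change (AlgSp.fiberFun fst T x).map (cπ c i₀).op p =
      (AlgSp.fiberFun fst T x).map (cπ c i₀).op p' at h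
    have h1 : P.map ((Over.map T.hom).map (cπ c i₀)).op p.1 =
        P.map ((Over.map T.hom).map (cπ c i₀)).op p'.1 := congrArg Subtype.val h
    have hp2 : fst.app (op ((Over.map T.hom).obj (D.obj i₀))) p.1 =
        F.map (AlgSp.overHom T (D.obj i₀)).op x := p.2
    have hp2' : fst.app (op ((Over.map T.hom).obj (D.obj i₀))) p'.1 =
        F.map (AlgSp.overHom T (D.obj i₀)).op x := p'.2
    have hs : b.app (op ((Over.map T.hom).obj (D.obj i₀))) (snd.app _ p.1) =
        G.map (AlgSp.overHom T (D.obj i₀)).op y := by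
      rw [← hsq, hp2, hay]
    have hs' : b.app (op ((Over.map T.hom).obj (D.obj i₀))) (snd.app _ p'.1) =
        G.map (AlgSp.overHom T (D.obj i₀)).op y := by
      rw [← hsq, hp2', hay]
    obtain ⟨k, f, hf⟩ := lp_inj (AlgSp.fiberFun b T y) (hb T y) D c hc hD hT i₀
      ⟨_, hs⟩ ⟨_, hs'⟩ (by
        apply Subtype.ext
        change H.map ((Over.map T.hom).map (cπ c i₀)).op (snd.app _ p.1) =
          H.map ((Over.map T.hom).map (cπ c i₀)).op (snd.app _ p'.1)
        rw [← NatTrans.naturality_apply, ← NatTrans.naturality_apply, h1])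
    have hf' : H.map ((Over.map T.hom).map (D.map f)).op (snd.app _ p.1) =
        H.map ((Over.map T.hom).map (D.map f)).op (snd.app _ p'.1) := congrArg Subtype.val hf
    refine ⟨op k, f.op, ?_⟩
    change (AlgSp.fiberFun fst T x).map (D.map f).op p = (AlgSp.fiberFun fst T x).map (D.map f).op p'
    apply Subtype.ext
    change P.map ((Over.map T.hom).map (D.map f)).op p.1 =
      P.map ((Over.map T.hom).map (D.map f)).op p'.1
    apply Types.ext_of_isPullback (hPX (op ((Over.map T.hom).obj (D.obj k))))
    · rw [NatTrans.naturality_apply, NatTrans.naturality_apply, hp2, hp2']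
    · rw [NatTrans.naturality_apply, NatTrans.naturality_apply, hf']

end


/-- Let `a : F ⟶ G`, `b : H ⟶ G`, `c : G ⟶ E` be transformations of presheaves of sets on schemes over
`S` and `P` a fibre product `F ×_G H`. If `c`, `a ≫ c` and `b ≫ c` are relatively limit preserving,
then so is `P ⟶ E`. -/
theorem result (S : Scheme.{u}) {E F G H P : AlgSp.PSp S}
    (a : F ⟶ G) (b : H ⟶ G) (c : G ⟶ E) (fst : P ⟶ F) (snd : P ⟶ H) (hP : IsPullback fst snd a b)
    (hc : AlgSp.IsRelLimitPreserving c) (hac : AlgSp.IsRelLimitPreserving (a ≫ c))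
    (hbc : AlgSp.IsRelLimitPreserving (b ≫ c)) :
    AlgSp.IsRelLimitPreserving (fst ≫ a ≫ c) := by
  have ha : AlgSp.IsRelLimitPreserving a := Groth.Agent.S10026.result' S a c hac hc
  have hb : AlgSp.IsRelLimitPreserving b := Groth.Agent.S10026.result' S b c hbc hc
  exact Groth.Agent.H16.LimPres.isRelLimitPreserving_comp S fst (a ≫ c)
    (baseChange S a b fst snd hP hb) hac

end Groth.Agent.S10027
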