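import Groth.Statements.S3042
import Mathlib
import Groth.Agent.H49.UnramFibre

set_option autoImplicit false
universe u
open CategoryTheory MonoidalCategory CartesianMonoidalCategory MonObj GrpObj AlgebraicGeometry TensorProduct
open SGA3

namespace Groth.Agent.S3042

open AlgebraicGeometry CategoryTheory Limits


/-- Let f : X → Y be a morphism of schemes locally of finite type. Then f is a monomorphism if and only
if, for every point y of Y, the fibre X_y → Spec κ(y) is a monomorphism. -/
theorem result (X Y : Scheme.{u}) (f : X ⟶ Y) [LocallyOfFiniteType f] :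
    Mono f ↔ ∀ y : Y, Mono (f.fiberToSpecResidueField y) := by
  constructor
  · intro hf y
    show Mono (pullback.snd f (Y.fromSpecResidueField y))
    infer_instance
  · intro H
    have H' : ∀ y : Y, Mono (pullback.snd f (Y.fromSpecResidueField y)) := H
    haveI : FormallyUnramified f := by
      apply Groth.Agent.H49.UnramFibre.formallyUnramified_of_fiberToSpecResidueField
      intro y
      haveI := H y
      haveI : IsIso (pullback.diagonal (f.fiberToSpecResidueField y)) :=
        (pullback.isIso_diagonal_iff _).mpr inferInstance
      infer_instance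
    haveI : UniversallyInjective f := by
      refine ((tfae_universallyInjective f).out 0 1).mpr ?_
      intro K _ g₁ g₂ hg
      have hg' : g₁ ≫ f = g₂ ≫ f := hg
      let y : Y := (g₁ ≫ f) (IsLocalRing.closedPoint K)
      let h : Spec (.of K) ⟶ Spec (Y.residueField y) :=
        Spec.map (Y.descResidueField (Scheme.stalkClosedPointTo (g₁ ≫ f)))
      have hh : h ≫ Y.fromSpecResidueField y = g₁ ≫ f :=
        Scheme.descResidueField_stalkClosedPointTo_fromSpecResidueField K Y (g₁ ≫ f)
      let g₁' : Spec (.of K) ⟶ pullback f (Y.fromSpecResidueField y) :=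
        pullback.lift g₁ h hh.symm
      let g₂' : Spec (.of K) ⟶ pullback f (Y.fromSpecResidueField y) :=
        pullback.lift g₂ h (by rw [hh, hg'])
      have e1 : g₁' ≫ pullback.snd f (Y.fromSpecResidueField y) = h := pullback.lift_snd _ _ _
      have e2 : g₂' ≫ pullback.snd f (Y.fromSpecResidueField y) = h := pullback.lift_snd _ _ _
      haveI := H' y
      have h2 : g₁' = g₂' :=
        (cancel_mono (pullback.snd f (Y.fromSpecResidueField y))).mp (e1.trans e2.symm)
      have e3 : g₁' ≫ pullback.fst f (Y.fromSpecResidueField y) = g₁ := pullback.lift_fst _ _ _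
      have e4 : g₂' ≫ pullback.fst f (Y.fromSpecResidueField y) = g₂ := pullback.lift_fst _ _ _
      rw [← e3, ← e4, h2]
    haveI : Surjective (pullback.diagonal f) :=
      (UniversallyInjective.iff_diagonal f).mp inferInstance
    haveI : IsOpenImmersion (pullback.diagonal f) := inferInstance
    haveI : IsIso (pullback.diagonal f) :=
      (isIso_iff_isOpenImmersion_and_surjective _).mpr ⟨inferInstance, inferInstance⟩
    exact (pullback.isIso_diagonal_iff f).mp this

end Groth.Agent.S3042
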