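import Groth.Statements.S1315
import Mathlib
import Groth.Agent.S3042

set_option autoImplicit false
universe u
open FlatMor

namespace Groth.Agent.S1315

open AlgebraicGeometry CategoryTheory Limits

theorem isIso_residueFieldMap {Y Y' : Scheme.{u}} (i : Y ⟶ Y') [SurjectiveOnStalks i] (y : Y) :
    IsIso (i.residueFieldMap y) := by
  rw [ConcreteCategory.isIso_iff_bijective]
  refine ⟨(i.residueFieldMap y).hom.injective, ?_⟩
  intro b
  obtain ⟨s, rfl⟩ := Y.residue_surjective y b
  obtain ⟨t, rfl⟩ := i.stalkMap_surjective y s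
  refine ⟨Y'.residue (i y) t, ?_⟩
  have h := Scheme.residue_residueFieldMap i y
  exact congrArg (fun φ => φ.hom t) h

theorem mono_of_isPullback_of_isIso {C : Type*} [Category C] {P X Y Z : C} {a : P ⟶ X}
    {b : P ⟶ Y} {f : X ⟶ Z} {g : Y ⟶ Z} (sq : IsPullback a b f g) (hg : IsIso g) (hb : Mono b) :
    Mono f := by
  haveI := sq.isIso_fst_of_isIso
  haveI : Mono (a ≫ f) := by
    rw [sq.w]; infer_instance
  have h : Mono (inv a ≫ (a ≫ f)) := mono_comp _ _
  rwa [IsIso.inv_hom_id_assoc] at h


open AlgebraicGeometry CategoryTheory Limits in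
/-- Let Y ⟶ Y' be a thickening, let X be the base change to Y of a scheme X' over Y', and assume both X
⟶ Y and X' ⟶ Y' are locally of finite type. Then X ⟶ Y is a monomorphism if and only if X' ⟶ Y' is. -/
theorem result {X X' Y Y' : Scheme.{u}} (iX : X ⟶ X') (iY : Y ⟶ Y') (f : X ⟶ Y) (f' : X' ⟶ Y')
    (hY : MoreMor.IsThickening iY) (hc : IsPullback iX f f' iY) [LocallyOfFiniteType f] [LocallyOfFiniteType f'] :
    Mono f ↔ Mono f' := by
  constructor
  · intro hf
    obtain ⟨hYc, hYs⟩ := hY
    rw [Groth.Agent.S3042.result X' Y' f']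
    intro y'
    obtain ⟨y, rfl⟩ := hYs.surj y'
    have sq := isPullback_fiberToSpecResidueField_of_isPullback hc y
    haveI : IsIso (iY.residueFieldMap y) := isIso_residueFieldMap iY y
    have h1 : IsIso (Spec.map (iY.residueFieldMap y)) := inferInstance
    have h2 : Mono (f.fiberToSpecResidueField y) := by
      show Mono (pullback.snd f (Y.fromSpecResidueField y))
      infer_instance
    exact mono_of_isPullback_of_isIso sq h1 h2
  · intro hf'
    exact hc.mono_snd_of_mono

end Groth.Agent.S1315
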