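import Groth.Statements.S1314
import Mathlib
import Groth.Agent.S1315
import Groth.Agent.H49.UnramFibre

set_option autoImplicit false
universe u
open FlatMor

namespace Groth.Agent.S1314

open AlgebraicGeometry CategoryTheory Limits

theorem of_isPullback_of_isIso {C : Type*} [Category C] (P : MorphismProperty C) [P.RespectsIso]
    {Q X Y Z : C} {a : Q ⟶ X} {b : Q ⟶ Y} {f : X ⟶ Z} {g : Y ⟶ Z} (sq : IsPullback a b f g)
    (hg : IsIso g) (hb : P b) : P f := by
  haveI := sq.isIso_fst_of_isIso
  have h1 : P (b ≫ g) := (P.cancel_right_of_respectsIso b g).mpr hb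
  rw [← sq.w] at h1
  exact (P.cancel_left_of_respectsIso a f).mp h1


open AlgebraicGeometry CategoryTheory Limits in
/-- Let Y ⟶ Y' be a thickening, let X be the base change to Y of a scheme X' over Y', and assume both X
⟶ Y and X' ⟶ Y' are locally of finite type. Then X ⟶ Y is formally unramified if and only if X' ⟶ Y'
is. (The source states this as the vanishing of the sheaf of relative differentials; formal
unramifiedness is the equivalent phrasing available here.) -/
theorem result {X X' Y Y' : Scheme.{u}} (iX : X ⟶ X') (iY : Y ⟶ Y') (f : X ⟶ Y) (f' : X' ⟶ Y')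
    (hY : MoreMor.IsThickening iY) (hc : IsPullback iX f f' iY) [LocallyOfFiniteType f] [LocallyOfFiniteType f'] :
    FormallyUnramified f ↔ FormallyUnramified f' := by
  constructor
  · intro hf
    obtain ⟨hYc, hYs⟩ := hY
    apply Groth.Agent.H49.UnramFibre.formallyUnramified_of_fiberToSpecResidueField
    intro y'
    obtain ⟨y, rfl⟩ := hYs.surj y'
    have sq := isPullback_fiberToSpecResidueField_of_isPullback hc y
    haveI : IsIso (iY.residueFieldMap y) := Groth.Agent.S1315.isIso_residueFieldMap iY y
    have h1 : IsIso (Spec.map (iY.residueFieldMap y)) := inferInstance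
    have h2 : FormallyUnramified (f.fiberToSpecResidueField y) :=
      MorphismProperty.pullback_snd (P := @FormallyUnramified) _ _ hf
    exact of_isPullback_of_isIso @FormallyUnramified sq h1 h2
  · intro hf'
    exact MorphismProperty.of_isPullback (P := @FormallyUnramified) hc hf'

end Groth.Agent.S1314
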