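import Groth.Statements.S10047
import Groth.Agent.H50.NilLft
import Groth.Agent.H50.ThickBridge
import Groth.Agent.H50.WhereCI
import Groth.Agent.S10614
import Groth.Agent.S10593
import Groth.Agent.S9906
import Groth.Agent.H52.LocPBC
import Groth.Agent.H52.QC
import Groth.Agent.H52.FibProd
import Groth.Agent.H52.EtLocalInst

set_option autoImplicit false
universe u
open CategoryTheory CategoryTheory.Limits AlgebraicGeometry
open AlgSp

namespace Groth.Agent.S10047

/-- Let `f : X ⟶ B` and `g : B' ⟶ B` be morphisms of algebraic spaces over `S` with `g` a closed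
immersion inducing a bijection on points, and suppose the base change `X ×_B B' ⟶ B'` is a closed
immersion. If `f` is of finite type or `g` is of finite presentation, then `f` is a closed
immersion. -/
theorem result (S : Scheme.{u}) {X B B' : AlgSp.Space S}
    (f : X ⟶ B) (g : B' ⟶ B) (hg : AlgSp.RepWith @IsClosedImmersion g.hom)
    (hbij : Function.Bijective (AlgSp.Points.map g.hom))
    (X' : AlgSp.Sp S) (fst : X' ⟶ X.obj) (snd : X' ⟶ B'.obj) (hX' : IsPullback fst snd f.hom g.hom)
    (hsnd : AlgSp.RepWith @IsClosedImmersion snd)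
    (hor : AlgSp.IsFiniteTypeMor f.hom ∨ AlgSp.IsFinitePresentationMor g.hom) :
    AlgSp.RepWith @IsClosedImmersion f.hom := by
  have hX'alg : AlgSp.IsAlgSpace X' :=
    Groth.Agent.H52.isAlgSpace_of_isPullback hX' B.property.diag X.property B'.property
  let X's : AlgSp.Space S := ⟨X', hX'alg⟩
  let i : X's ⟶ X := ObjectProperty.homMk fst
  let s : X's ⟶ B' := ObjectProperty.homMk snd
  -- thickenings
  have hgS : AlgSp.RepWith @Surjective g.hom := (Groth.Agent.S9906.result g hg.1).2 hbij.2
  have hgT : AlgSp.IsThickMor g.hom :=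
    ⟨hg.1, fun U V k a b sq => ⟨hg.2 k a b sq, hgS.2 k a b sq⟩⟩
  have hiT : AlgSp.IsThickMor fst := Groth.Agent.H50.isThickMor_of_isPullback hX' hgT
  obtain ⟨hgUC, -, hgUI⟩ := (Groth.Agent.S10614.result g).2.1.1 hg
  obtain ⟨hsUC, hsUnr, hsUI⟩ := (Groth.Agent.S10614.result s).2.1.1 hsnd
  have hlft_s : AlgSp.LocP @LocallyOfFiniteType snd :=
    fun U V a b h ha hb c => (hsUnr a b h ha hb c).1
  -- locally of finite type
  have hlft : AlgSp.LocP @LocallyOfFiniteType f.hom := by
    rcases hor with h | h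
    · exact h.1
    · have hlfp_fst : AlgSp.LocP @LocallyOfFinitePresentation fst :=
        Groth.Agent.H52.locP_baseChange Groth.Agent.H52.etLocal_lfp.{u} B'.property B.property
          X.property hX'.flip h.1
      intro U' V' a' b' k' ha' hb' comm'
      obtain ⟨U, V, iU, iV, a, b, k, hae, hbe, hcomm, sqU, sqV, hUt, hVt, sq⟩ :=
        Groth.Agent.H50.exists_thick_chart fst g.hom snd f.hom hiT hgT hX' a' b' k' ha' hb' comm'
      haveI : LocallyOfFiniteType k.left := hlft_s a b k hae hbe hcomm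
      haveI : LocallyOfFinitePresentation iU.left := hlfp_fst a a' iU hae ha' sqU.w
      exact Groth.Agent.H50.lft_of_isPullback_of_lfp_source sq hVt hUt
  -- unramified
  have w : i ≫ f = s ≫ g := ObjectProperty.hom_ext _ hX'.w
  have hunr : AlgSp.LocP (@LocallyOfFiniteType ⊓ @FormallyUnramified) f.hom :=
    ((Groth.Agent.S10593.result i g s f hiT hgT w hX' hlft_s hlft).2).1 hsUnr
  -- the common base change set-up
  have key : ∀ ⦃Z P : AlgSp.Sp S⦄, AlgSp.IsAlgSpace Z → ∀ (k : Z ⟶ B.obj) (p1 : P ⟶ X.obj)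
      (p2 : P ⟶ Z), IsPullback p1 p2 f.hom k →
      ∃ (Z' P' : AlgSp.Sp S) (kz : Z' ⟶ Z) (a : P' ⟶ P) (b : P' ⟶ Z'),
        a ≫ p2 = b ≫ kz ∧ Function.Surjective (AlgSp.Points.map a) ∧
        IsClosedMap (AlgSp.Points.map kz) ∧ Function.Injective (AlgSp.Points.map kz) ∧
        IsClosedMap (AlgSp.Points.map b) ∧ Function.Injective (AlgSp.Points.map b) := by
    intro Z P hZ k p1 p2 sq
    have sqZ := IsPullback.of_hasPullback k g.hom
    have hZ' : AlgSp.IsAlgSpace (pullback k g.hom) :=
      Groth.Agent.H52.isAlgSpace_of_isPullback sqZ B.property.diag hZ B'.property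
    have sqP := IsPullback.of_hasPullback p2 (pullback.fst k g.hom)
    have hw : (pullback.fst p2 (pullback.fst k g.hom) ≫ p1) ≫ f.hom =
        (pullback.snd p2 (pullback.fst k g.hom) ≫ pullback.snd k g.hom) ≫ g.hom := by
      rw [Category.assoc, sq.w, ← Category.assoc, pullback.condition, Category.assoc,
        Category.assoc, pullback.condition]
    have hl1 : hX'.lift _ _ hw ≫ fst = pullback.fst p2 (pullback.fst k g.hom) ≫ p1 :=
      hX'.lift_fst _ _ hw
    have hl2 : hX'.lift _ _ hw ≫ snd =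
        pullback.snd p2 (pullback.fst k g.hom) ≫ pullback.snd k g.hom := hX'.lift_snd _ _ hw
    have big1 := sqP.flip.paste_horiz sqZ.flip
    rw [← sq.w, ← hl2] at big1
    have s1 : IsPullback (hX'.lift _ _ hw) (pullback.fst p2 (pullback.fst k g.hom)) fst p1 :=
      IsPullback.of_right big1 hl1 hX'.flip
    have s2 := s1.paste_vert sq
    rw [sqP.w, hX'.w] at s2
    have s3 : IsPullback (hX'.lift _ _ hw) (pullback.snd p2 (pullback.fst k g.hom)) snd
        (pullback.snd k g.hom) := IsPullback.of_bot s2 hl2 sqZ.flip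
    have hkz : Function.Surjective (AlgSp.Points.map (pullback.fst k g.hom)) :=
      Groth.Agent.H52.surjective_map_fst_of_isPullback sqZ hbij.2
    refine ⟨_, _, pullback.fst k g.hom, pullback.fst p2 (pullback.fst k g.hom),
      pullback.snd p2 (pullback.fst k g.hom), sqP.w,
      Groth.Agent.H52.surjective_map_fst_of_isPullback sqP hkz,
      hgUC hZ k _ _ sqZ.flip, hgUI hZ k _ _ sqZ.flip, hsUC hZ' _ _ _ s3, hsUI hZ' _ _ _ s3⟩
  have hUC : AlgSp.IsUnivClosedMor f.hom := by
    intro Z P hZ k p1 p2 sq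
    obtain ⟨Z', P', kz, a, b, hcomm, ha, hkzc, -, hbc, -⟩ := key hZ k p1 p2 sq
    show IsClosedMap (AlgSp.Points.map p2)
    intro C hC
    have e : AlgSp.Points.map p2 '' C =
        AlgSp.Points.map kz '' (AlgSp.Points.map b '' (AlgSp.Points.map a ⁻¹' C)) := by
      rw [← Set.image_comp]
      have e1 : AlgSp.Points.map kz ∘ AlgSp.Points.map b =
          AlgSp.Points.map p2 ∘ AlgSp.Points.map a := by
        funext y
        simp only [Function.comp_apply]
        rw [← AlgSp.Points.map_comp, ← AlgSp.Points.map_comp, hcomm]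
      rw [e1, Set.image_comp, Set.image_preimage_eq C ha]
    rw [e]
    exact hkzc _ (hbc _ (hC.preimage (AlgSp.Points.continuous_map a)))
  have hUI : AlgSp.IsUnivInjectiveMor f.hom := by
    intro Z P hZ k p1 p2 sq
    obtain ⟨Z', P', kz, a, b, hcomm, ha, -, hkzi, -, hbi⟩ := key hZ k p1 p2 sq
    show Function.Injective (AlgSp.Points.map p2)
    intro x1 x2 h12
    obtain ⟨y1, rfl⟩ := ha x1
    obtain ⟨y2, rfl⟩ := ha x2
    have h3 : AlgSp.Points.map kz (AlgSp.Points.map b y1) =
        AlgSp.Points.map kz (AlgSp.Points.map b y2) := by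
      rw [← AlgSp.Points.map_comp, ← AlgSp.Points.map_comp, ← hcomm, AlgSp.Points.map_comp,
        AlgSp.Points.map_comp]
      exact h12
    rw [hbi (hkzi h3)]
  exact (Groth.Agent.S10614.result f).2.1.2 ⟨hUC, hunr, hUI⟩

end Groth.Agent.S10047
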