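import Groth.Statements.S10053
import Groth.Agent.H50.AnUnivClosed
import Groth.Agent.H50.Etale
import Groth.Agent.H50.Basic

set_option autoImplicit false
universe u
open CategoryTheory CategoryTheory.Limits AlgebraicGeometry
open AlgSp

namespace Groth.Agent.S10053

/-- For a quasi-compact morphism `f : X ⟶ Y` of algebraic spaces over `S` these conditions are
equivalent: (1) `f` is universally closed; (2) for every `Z ⟶ Y` locally of finite presentation,
with `Z` an algebraic space, the map `|X ×_Y Z| → |Z|` is closed; (3) for some scheme `V` with a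
surjective etale morphism `V ⟶ Y`, the maps `|X ×_Y 𝐀^n_V| → |𝐀^n_V|` are closed for all `n`. Stated
as (1) ↔ (2) and (1) ↔ (3). -/
theorem result (S : Scheme.{u}) {X Y : AlgSp.Space S} (f : X ⟶ Y)
    (hqc : AlgSp.IsQuasiCompactMor f.hom) :
    (AlgSp.IsUnivClosedMor f.hom ↔
      ∀ (Z : AlgSp.Space S) (g : Z ⟶ Y), AlgSp.LocP @LocallyOfFinitePresentation g.hom →
        ∀ (P : AlgSp.Sp S) (fst : P ⟶ X.obj) (snd : P ⟶ Z.obj), IsPullback fst snd f.hom g.hom →
          IsClosedMap (AlgSp.Points.map snd)) ∧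
    (AlgSp.IsUnivClosedMor f.hom ↔
      ∃ (V : Over S) (p : (AlgSp.yon S).obj V ⟶ Y.obj), AlgSp.RepWith @Etale p ∧ AlgSp.RepWith @Surjective p ∧
        ∀ (n : ℕ) (P : AlgSp.Sp S) (fst : P ⟶ X.obj)
          (snd : P ⟶ (AlgSp.yon S).obj (Over.mk ((𝔸(ULift.{u} (Fin n); V.left) ↘ V.left) ≫ V.hom))),
          IsPullback fst snd f.hom ((AlgSp.yon S).map (Over.homMk (𝔸(ULift.{u} (Fin n); V.left) ↘ V.left)) ≫ p) →
            IsClosedMap (AlgSp.Points.map snd)) := by
  have h31 : AlgSp.IsUnivClosedMor f.hom →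
      ∃ (V : Over S) (p : (AlgSp.yon S).obj V ⟶ Y.obj), AlgSp.RepWith @Etale p ∧
        AlgSp.RepWith @Surjective p ∧
        ∀ (n : ℕ) (P : AlgSp.Sp S) (fst : P ⟶ X.obj)
          (snd : P ⟶ (AlgSp.yon S).obj
            (Over.mk ((𝔸(ULift.{u} (Fin n); V.left) ↘ V.left) ≫ V.hom))),
          IsPullback fst snd f.hom
            ((AlgSp.yon S).map (Over.homMk (𝔸(ULift.{u} (Fin n); V.left) ↘ V.left)) ≫ p) →
            IsClosedMap (AlgSp.Points.map snd) := by
    intro huc
    obtain ⟨V, p, hpe, hps⟩ := Y.property.atlas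
    exact ⟨V, p, hpe, hps, fun n P fst snd sq => huc (IsAlgSpace.yon_obj _) _ fst snd sq⟩
  refine ⟨⟨fun huc Z g _ P fst snd sq => huc Z.property g.hom fst snd sq, fun h2 => ?_⟩,
    ⟨h31, ?_⟩⟩
  · obtain ⟨V, p, hpe, hps⟩ := Y.property.atlas
    refine Groth.Agent.H50.AnUnivClosed.isUnivClosedMor_of_affineSpace_closed f hqc V p hpe hps ?_
    intro n P fst snd sq
    have hlfp : LocP @LocallyOfFinitePresentation
        ((yon S).map (Over.homMk (𝔸(ULift.{u} (Fin n); V.left) ↘ V.left) :
          Over.mk ((𝔸(ULift.{u} (Fin n); V.left) ↘ V.left) ≫ V.hom) ⟶ V) ≫ p) := by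
      haveI i0 : MorphismProperty.IsMultiplicative
          (@LocallyOfFinitePresentation : MorphismProperty Scheme.{u}) :=
        { id_mem := fun _ => inferInstance
          comp_mem := fun f g hf hg =>
            MorphismProperty.comp_mem (@LocallyOfFinitePresentation) f g hf hg }
      have i1 := AlgSp.repWith_isMultiplicative (S := S) @LocallyOfFinitePresentation
      have hπ : RepWith @LocallyOfFinitePresentation
          ((yon S).map (Over.homMk (𝔸(ULift.{u} (Fin n); V.left) ↘ V.left) :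
            Over.mk ((𝔸(ULift.{u} (Fin n); V.left) ↘ V.left) ≫ V.hom) ⟶ V)) :=
        (repWith_yon_map_iff _ _).2
          (show LocallyOfFinitePresentation (𝔸(ULift.{u} (Fin n); V.left) ↘ V.left) from
            inferInstance)
      have hp' : RepWith @LocallyOfFinitePresentation p :=
        Groth.Agent.H50.repWith_mono (fun _ _ g hg => by have : Etale g := hg; infer_instance) hpe
      exact Groth.Agent.H50.locP_of_repWith
        (fun A B g hg => by have : Etale g := hg; infer_instance)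
        ((RepWith @LocallyOfFinitePresentation).comp_mem _ _ hπ hp')
    exact h2 ⟨_, IsAlgSpace.yon_obj _⟩
      (ObjectProperty.homMk ((yon S).map (Over.homMk (𝔸(ULift.{u} (Fin n); V.left) ↘ V.left) :
        Over.mk ((𝔸(ULift.{u} (Fin n); V.left) ↘ V.left) ≫ V.hom) ⟶ V) ≫ p)) hlfp P fst snd sq
  · rintro ⟨V, p, hpe, hps, H⟩
    exact Groth.Agent.H50.AnUnivClosed.isUnivClosedMor_of_affineSpace_closed f hqc V p hpe hps H

end Groth.Agent.S10053
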