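import Groth.Statements.S10054
import Groth.Agent.S4450
import Groth.Agent.H52.Charts
import Groth.Agent.H52.FibProd
import Groth.Agent.H52.Points
import Groth.Agent.H50.Basic
import Groth.Prelude.Def_AlgSpDec

set_option autoImplicit false
universe u
open CategoryTheory CategoryTheory.Limits AlgebraicGeometry
open AlgSp

namespace Groth.Agent.S10054

theorem exists_affine_nbhd {V : Scheme.{u}} (v : V) :
    ∃ Vo : V.Opens, IsAffineOpen Vo ∧ v ∈ Vo := by
  obtain ⟨Vo, hVo, hvVo, -⟩ := TopologicalSpace.Opens.isBasis_iff_nbhd.mp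
    V.isBasis_affineOpens (show v ∈ (⊤ : V.Opens) from trivial)
  exact ⟨Vo, hVo, hvVo⟩

theorem exists_specializes_of_mem_closure_range {U V : Scheme.{u}} [IsLocallyNoetherian V]
    (p : U ⟶ V) [LocallyOfFiniteType p] [CompactSpace U] (v : V)
    (hv : v ∈ closure (Set.range p)) : ∃ u : U, p u ⤳ v := by
  haveI : IsLocallyNoetherian U := LocallyOfFiniteType.isLocallyNoetherian p
  haveI : IsNoetherian U := {}
  have hfin : (irreducibleComponents U).Finite :=
    TopologicalSpace.NoetherianSpace.finite_irreducibleComponents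
  have hgen : ∀ C ∈ irreducibleComponents U, ∃ η : U, IsGenericPoint η C := fun C hC =>
    QuasiSober.sober hC.1 (isClosed_of_mem_irreducibleComponents C hC)
  have hne : (Set.range p).Nonempty := by
    by_contra h
    rw [Set.not_nonempty_iff_eq_empty] at h
    rw [h, closure_empty] at hv
    exact hv
  obtain ⟨_, u0, -⟩ := hne
  haveI : Nonempty U := ⟨u0⟩
  choose! η hη using hgen
  have hsub : closure (Set.range p) ⊆ ⋃ C ∈ irreducibleComponents U, closure {p (η C)} := by
    refine closure_minimal ?_ (hfin.isClosed_biUnion fun C _ => isClosed_closure)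
    rintro _ ⟨u, rfl⟩
    have hu : u ∈ ⋃₀ irreducibleComponents U := by rw [sUnion_irreducibleComponents]; trivial
    obtain ⟨C, hC, huC⟩ := hu
    refine Set.mem_biUnion hC ?_
    have h1 : u ∈ closure ({η C} : Set U) := by rw [(hη C hC).def]; exact huC
    have h2 := image_closure_subset_closure_image p.continuous ⟨u, h1, rfl⟩
    rwa [Set.image_singleton] at h2
  obtain ⟨C, hC, hvC⟩ := Set.mem_iUnion₂.mp (hsub hv)
  exact ⟨η C, specializes_iff_mem_closure.mpr hvC⟩

theorem exists_dvr_of_mem_closure_range {U V : Scheme.{u}} [IsLocallyNoetherian V] (p : U ⟶ V)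
    [LocallyOfFiniteType p] [CompactSpace U] (v : V) (hv : v ∈ closure (Set.range p)) :
    ∃ (A : Type u) (_ : CommRing A) (_ : IsDomain A) (_ : IsDiscreteValuationRing A)
      (h : Spec (CommRingCat.of A) ⟶ V) (x : Spec (CommRingCat.of (FractionRing A)) ⟶ U),
      x ≫ p = Spec.map (CommRingCat.ofHom (algebraMap A (FractionRing A))) ≫ h ∧
      h (IsLocalRing.closedPoint A) = v := by
  obtain ⟨u, hu⟩ := exists_specializes_of_mem_closure_range p v hv
  by_cases hne : v = p u
  · refine ⟨PowerSeries (U.residueField u), inferInstance, inferInstance, inferInstance,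
      Spec.map (CommRingCat.ofHom (algebraMap (U.residueField u) (PowerSeries (U.residueField u)))) ≫
        U.fromSpecResidueField u ≫ p,
      Spec.map (CommRingCat.ofHom ((algebraMap (PowerSeries (U.residueField u))
        (FractionRing (PowerSeries (U.residueField u)))).comp
        (algebraMap (U.residueField u) (PowerSeries (U.residueField u))))) ≫
        U.fromSpecResidueField u, ?_, ?_⟩
    · rw [Category.assoc, ← Spec.map_comp_assoc]
      rfl
    · rw [Scheme.Hom.comp_apply, Scheme.Hom.comp_apply, Scheme.fromSpecResidueField_apply, hne]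
  · obtain ⟨A, h, hA, hcl, hgen⟩ := Groth.Agent.S4450.result p u v hu hne
    let e : FractionRing A ≃ₐ[A] U.residueField u := FractionRing.algEquiv A (U.residueField u)
    have he : CommRingCat.ofHom (algebraMap A (FractionRing A)) =
        CommRingCat.ofHom A.subtype ≫
          CommRingCat.ofHom (e.symm : U.residueField u →+* FractionRing A) := by
      apply CommRingCat.hom_ext
      apply RingHom.ext
      intro a
      exact (e.symm.commutes a).symm
    refine ⟨A, inferInstance, inferInstance, hA, h,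
      Spec.map (CommRingCat.ofHom (e.symm : U.residueField u →+* FractionRing A)) ≫
        U.fromSpecResidueField u, ?_, hcl⟩
    rw [Category.assoc, ← hgen, ← Spec.map_comp_assoc, ← he]

/-- Let `f : X ⟶ Y` be a morphism of finite type of algebraic spaces over `S` with `Y` locally
Noetherian, and `y ∈ |Y|` a point lying in the closure of `f`'s image on points. Then one can find a
discrete valuation ring `A` with fraction field `K` and a commutative square `Spec K ⟶ X`, `Spec A ⟶
Y` (over `f` and `Spec K ⟶ Spec A`) sending the closed point of `Spec A` to `y`. (The refinement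
that the `K`-point may be taken at a codimension-0 point with `K` a residue field of an etale chart
is not included.) -/
theorem result (S : Scheme.{u}) {X Y : AlgSp.Space S} (f : X ⟶ Y)
    (hft : AlgSp.IsFiniteTypeMor f.hom) (hY : AlgSp.IsLocNoethSp Y.obj) (y : AlgSp.Points Y.obj)
    (hy : y ∈ closure (Set.range (AlgSp.Points.map f.hom))) :
    ∃ (A : Type u) (_ : CommRing A) (_ : IsDomain A) (_ : IsDiscreteValuationRing A)
      (a : Spec (CommRingCat.of A) ⟶ S)
      (α : (AlgSp.yon S).obj (Over.mk a) ⟶ Y.obj)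
      (κ : (AlgSp.yon S).obj (Over.mk (Spec.map (CommRingCat.ofHom (algebraMap A (FractionRing A))) ≫ a)) ⟶ X.obj),
      κ ≫ f.hom = (AlgSp.yon S).map (Over.homMk (Spec.map (CommRingCat.ofHom (algebraMap A (FractionRing A))))) ≫ α ∧
      AlgSp.Points.map α (AlgSp.Points.schemeEquiv (Over.mk a) (IsLocalRing.closedPoint A)) = y := by
  obtain ⟨hlft, hqc⟩ := hft
  obtain ⟨V₁, b₁, hb₁e, hb₁s, hV₁⟩ := hY
  haveI : IsLocallyNoetherian V₁.left := hV₁
  obtain ⟨v₁, hv₁⟩ := Groth.Agent.H52.surjective_ofPt_of_surjective b₁ hb₁s y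
  obtain ⟨Vo, hVo, hv₁Vo⟩ := exists_affine_nbhd v₁
  have hVo' : IsAffineOpen Vo := hVo
  haveI : IsAffine (Vo : Scheme.{u}) := hVo'
  obtain ⟨b, hbdef⟩ : ∃ b : (yon S).obj (Groth.Agent.H52.overOf Vo.ι) ⟶ Y.obj,
      b = (yon S).map (Groth.Agent.H52.overOfHom Vo.ι) ≫ b₁ := ⟨_, rfl⟩
  have hbe : RepWith @Etale b := by
    rw [hbdef]
    exact Groth.Agent.H52.repWith_yon_map_comp @Etale (Groth.Agent.H52.overOfHom Vo.ι)
      (show Etale Vo.ι from inferInstance) b₁ hb₁e
  obtain ⟨v, hv⟩ : ∃ v : ↥(Groth.Agent.H52.overOf Vo.ι).left, Vo.ι v = v₁ := by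
    have : v₁ ∈ Set.range Vo.ι := by rw [Scheme.Opens.range_ι]; exact hv₁Vo
    exact this
  have hbv : Points.ofPt b v = y := by
    rw [hbdef, Groth.Agent.H52.ofPt_yon_map_comp]
    show Points.ofPt b₁ (Vo.ι v) = y
    rw [hv, hv₁]
  haveI : IsLocallyNoetherian (Groth.Agent.H52.overOf Vo.ι).left :=
    isLocallyNoetherian_of_isOpenImmersion Vo.ι
  haveI hVc : CompactSpace ↥(Groth.Agent.H52.overOf Vo.ι).left := by
    show CompactSpace ↥(Vo : Scheme.{u})
    infer_instance
  have sqX : IsPullback (pullback.fst f.hom b) (pullback.snd f.hom b) f.hom b :=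
    IsPullback.of_hasPullback _ _
  have hVqc : IsQuasiCompactSp ((yon S).obj (Groth.Agent.H52.overOf Vo.ι)) :=
    ⟨_, 𝟙 _, repWith_id @Etale _, repWith_id @Surjective _, hVc⟩
  obtain ⟨U, c, hce, hcs, hUc⟩ := hqc (IsAlgSpace.yon_obj _) hVqc b (pullback.fst f.hom b)
    (pullback.snd f.hom b) sqX
  haveI : CompactSpace ↥U.left := hUc
  obtain ⟨p, hp⟩ := (yon S).map_surjective (c ≫ pullback.snd f.hom b)
  have hfst : RepWith @Etale (pullback.fst f.hom b) :=
    Groth.Agent.H50.repWith_fst_of_isPullback sqX hbe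
  have hcf : RepWith @Etale (c ≫ pullback.fst f.hom b) := by
    have := AlgSp.repWith_isMultiplicative (S := S) @Etale
    exact (RepWith @Etale).comp_mem _ _ hce hfst
  have comm : (c ≫ pullback.fst f.hom b) ≫ f.hom = (yon S).map p ≫ b := by
    rw [Category.assoc, sqX.w, ← Category.assoc, hp]
  haveI : LocallyOfFiniteType p.left := hlft _ _ p hcf hbe comm
  have hvcl : v ∈ closure (Set.range p.left) := by
    rw [mem_closure_iff]
    intro O hO hvO
    have hOpen : IsOpen (Points.ofPt b '' O) :=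
      Groth.Agent.H52.isOpenMap_ofPt_of_etale b hbe O hO
    have hyO : y ∈ Points.ofPt b '' O := ⟨v, hvO, hbv⟩
    obtain ⟨y', hy'O, hy'r⟩ := (mem_closure_iff.mp hy) _ hOpen hyO
    obtain ⟨o, hoO, ho⟩ := hy'O
    obtain ⟨x, hx⟩ := hy'r
    obtain ⟨z, hz1, hz2⟩ := Groth.Agent.H52.exists_point_of_isPullback sqX x
      (Points.ofScheme _ o) (by rw [hx, ← ho, Points.ofPt_eq_map_ofScheme])
    obtain ⟨u', hu'⟩ := Groth.Agent.H52.surjective_ofPt_of_surjective c hcs z
    refine ⟨o, hoO, u', ?_⟩
    apply Groth.Agent.H52.ofScheme_injective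
    rw [← Groth.Agent.H52.map_yon_map_ofScheme, hp, Points.map_comp,
      ← Points.ofPt_eq_map_ofScheme, hu', hz2]
  obtain ⟨A, iA, iD, iV, h, x, hxh, hcl⟩ := exists_dvr_of_mem_closure_range p.left v hvcl
  have hx0 : x ≫ U.hom = (Spec.map (CommRingCat.ofHom (algebraMap A (FractionRing A)))) ≫
      (h ≫ (Groth.Agent.H52.overOf Vo.ι).hom) := by
    rw [← Over.w p, ← Category.assoc, hxh, Category.assoc]
  obtain ⟨H, hH⟩ : ∃ H : Over.mk (h ≫ (Groth.Agent.H52.overOf Vo.ι).hom) ⟶
      Groth.Agent.H52.overOf Vo.ι, H.left = h := ⟨Over.homMk h rfl, rfl⟩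
  obtain ⟨X', hX'⟩ : ∃ X' : Over.mk (Spec.map (CommRingCat.ofHom (algebraMap A (FractionRing A))) ≫
      h ≫ (Groth.Agent.H52.overOf Vo.ι).hom) ⟶ U, X'.left = x := ⟨Over.homMk x hx0, rfl⟩
  refine ⟨A, iA, iD, iV, h ≫ (Groth.Agent.H52.overOf Vo.ι).hom, (yon S).map H ≫ b,
    (yon S).map X' ≫ c ≫ pullback.fst f.hom b, ?_, ?_⟩
  · have key : X' ≫ p = (Over.homMk (Spec.map (CommRingCat.ofHom (algebraMap A (FractionRing A)))) rfl :
        Over.mk (Spec.map (CommRingCat.ofHom (algebraMap A (FractionRing A))) ≫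
          h ≫ (Groth.Agent.H52.overOf Vo.ι).hom) ⟶
        Over.mk (h ≫ (Groth.Agent.H52.overOf Vo.ι).hom)) ≫ H := by
      apply Over.OverMorphism.ext
      rw [Over.comp_left, Over.comp_left, hX', hH, hxh]
      rfl
    have e1 : ((yon S).map X' ≫ c ≫ pullback.fst f.hom b) ≫ f.hom = (yon S).map (X' ≫ p) ≫ b := by
      rw [Functor.map_comp, hp]
      simp only [Category.assoc]
      rw [sqX.w]
    rw [e1, key, Functor.map_comp, Category.assoc]
  · show Points.map ((yon S).map H ≫ b) (Points.ofScheme _ (IsLocalRing.closedPoint A)) = y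
    rw [Points.map_comp, Groth.Agent.H52.map_yon_map_ofScheme, ← Points.ofPt_eq_map_ofScheme, hH,
      hcl, hbv]

end Groth.Agent.S10054
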