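import Groth.Statements.S10290
import Groth.Agent.H51.ValUniq

set_option autoImplicit false
universe u
open CategoryTheory CategoryTheory.Limits AlgebraicGeometry
open AlgSp

namespace Groth.Agent.S10290

/-- A separated morphism of algebraic spaces satisfies the uniqueness part of the valuative criterion. -/
theorem result {S : Scheme.{u}} {X Y : AlgSp.Space S} (f : X ⟶ Y)
    (hf : AlgSp.IsSeparatedMor f.hom) : AlgSp.UniqVC f.hom := by
  intro sq l l' h1 h2 h1' h2'
  have hg : l ≫ f.hom = l' ≫ f.hom := by rw [h2, h2']
  obtain ⟨W, snd, fst, sqp⟩ := hf.1 (pullback.lift l l' hg)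
  have hci : IsClosedImmersion snd.left := hf.2 _ fst snd sqp
  have hcomm : sq.top ≫ pullback.diagonal f.hom = (yon S).map sq.j ≫ pullback.lift l l' hg := by
    apply pullback.hom_ext
    · rw [Category.assoc, pullback.diagonal_fst, Category.comp_id, Category.assoc,
        pullback.lift_fst, h1]
    · rw [Category.assoc, pullback.diagonal_snd, Category.comp_id, Category.assoc,
        pullback.lift_snd, h1']
  obtain ⟨k', hk'⟩ := (yon S).map_surjective (sqp.lift sq.top ((yon S).map sq.j) hcomm)
  have hk2 : k' ≫ snd = sq.j :=
    (yon S).map_injective (by rw [Functor.map_comp, hk', sqp.lift_snd])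
  have hiso : IsIso snd.left :=
    Groth.Agent.H51.isIso_of_isClosedImmersion_of_generic sq.A sq.K
      (IsFractionRing.injective sq.A sq.K) snd.left k'.left
      (by rw [← Over.comp_left, hk2]; rfl)
  have hiso'' : IsIso ((Over.forget S).map snd) := hiso
  have hiso' : IsIso snd := isIso_of_reflects_iso snd (Over.forget S)
  have e1 : fst = (yon S).map snd ≫ l := by
    have := congr($(sqp.w) ≫ pullback.fst f.hom f.hom)
    rw [Category.assoc, pullback.diagonal_fst, Category.comp_id, Category.assoc,
      pullback.lift_fst] at this
    exact this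
  have e2 : fst = (yon S).map snd ≫ l' := by
    have := congr($(sqp.w) ≫ pullback.snd f.hom f.hom)
    rw [Category.assoc, pullback.diagonal_snd, Category.comp_id, Category.assoc,
      pullback.lift_snd] at this
    exact this
  exact (cancel_epi ((yon S).map snd)).mp (e1.symm.trans e2)

end Groth.Agent.S10290
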