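import Groth.Statements.S9951
import Groth.Agent.H50.Basic

set_option autoImplicit false
universe u
open CategoryTheory CategoryTheory.Limits AlgebraicGeometry
open AlgSp

namespace Groth.Agent.S9951

/-- The source of a morphism locally of finite type with locally Noetherian target is locally
Noetherian. -/
theorem result {S : Scheme.{u}} {X Y : AlgSp.Space S} (f : X ⟶ Y)
    (hf : AlgSp.LocP @LocallyOfFiniteType f.hom) (hY : AlgSp.IsLocNoethSp Y.obj) : AlgSp.IsLocNoethSp X.obj := by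
  obtain ⟨U, a, hae, has⟩ := X.property.atlas
  obtain ⟨V, b, hbe, hbs, hV⟩ := hY
  have hrep : AlgSp.Representable b := hbe.rep
  have sq := hrep.isPullback (a ≫ f.hom)
  have h1 : AlgSp.RepWith @Etale ((AlgSp.yon S).map (hrep.snd (a ≫ f.hom))) :=
    Groth.Agent.H50.repWith_snd_of_isPullback sq hbe
  have h2 : AlgSp.RepWith @Surjective ((AlgSp.yon S).map (hrep.snd (a ≫ f.hom))) :=
    Groth.Agent.H50.repWith_snd_of_isPullback sq hbs
  obtain ⟨k, hk⟩ := (AlgSp.yon S).map_surjective (hrep.fst (a ≫ f.hom))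
  have hpe : AlgSp.RepWith @Etale ((AlgSp.yon S).map (hrep.snd (a ≫ f.hom)) ≫ a) :=
    (AlgSp.RepWith @Etale).comp_mem _ _ h1 hae
  have hps : AlgSp.RepWith @Surjective ((AlgSp.yon S).map (hrep.snd (a ≫ f.hom)) ≫ a) :=
    (AlgSp.RepWith @Surjective).comp_mem _ _ h2 has
  refine ⟨hrep.pullback (a ≫ f.hom), (AlgSp.yon S).map (hrep.snd (a ≫ f.hom)) ≫ a, hpe, hps, ?_⟩
  have hk' : LocallyOfFiniteType k.left := by
    refine hf ((AlgSp.yon S).map (hrep.snd (a ≫ f.hom)) ≫ a) b k hpe hbe ?_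
    rw [hk, Category.assoc]
    exact sq.w.symm
  have : IsLocallyNoetherian V.left := hV
  exact LocallyOfFiniteType.isLocallyNoetherian k.left

end Groth.Agent.S9951
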