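import Groth.Statements.S10064
import Groth.Agent.S10290
import Groth.Agent.S9951
import Groth.Agent.S9984
import Groth.Agent.H51.DiagSep
import Groth.Agent.H73.DVRClosed
import Groth.Agent.H52.FibProd

set_option autoImplicit false
universe u
open CategoryTheory CategoryTheory.Limits AlgebraicGeometry
open AlgSp

namespace Groth.Agent.S10064

theorem dvrExistence_of_uniq {S : Scheme.{u}} {F G : Sp S} (f : F ⟶ G)
    (hu : ∀ sq : AlgSp.ValSq f, IsDiscreteValuationRing sq.A → sq.HasUniq)
    {T W : Over S} (r : (yon S).obj T ⟶ pullback f f) (fst : (yon S).obj W ⟶ F) (snd : W ⟶ T)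
    (sq : IsPullback fst ((yon S).map snd) (pullback.diagonal f) r) [Mono snd.left] :
    Groth.Agent.H73.DVRClosed.DVRExistence snd.left := by
  intro A iA iD iV x y hxy
  have hx0 : x ≫ W.hom =
      Spec.map (CommRingCat.ofHom (algebraMap A (FractionRing A))) ≫ y ≫ T.hom := by
    rw [← Over.w snd, ← Category.assoc, hxy, Category.assoc]
  obtain ⟨yA, hyA⟩ : ∃ yA : Over.mk (y ≫ T.hom) ⟶ T, yA.left = y := ⟨Over.homMk y rfl, rfl⟩
  obtain ⟨xK, hxK⟩ : ∃ xK : Over.mk (Spec.map (CommRingCat.ofHom
      (algebraMap A (FractionRing A))) ≫ y ≫ T.hom) ⟶ W, xK.left = x := ⟨Over.homMk x hx0, rfl⟩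
  obtain ⟨j, hj⟩ : ∃ j : Over.mk (Spec.map (CommRingCat.ofHom
      (algebraMap A (FractionRing A))) ≫ y ≫ T.hom) ⟶ Over.mk (y ≫ T.hom),
      j = Over.homMk (Spec.map (CommRingCat.ofHom (algebraMap A (FractionRing A)))) rfl :=
    ⟨_, rfl⟩
  have hjl : j.left = Spec.map (CommRingCat.ofHom (algebraMap A (FractionRing A))) := by
    rw [hj]; rfl
  have key : xK ≫ snd = j ≫ yA := by
    apply Over.OverMorphism.ext
    rw [Over.comp_left, Over.comp_left, hxK, hyA, hjl, hxy]
  obtain ⟨g, hg⟩ : ∃ g : (yon S).obj (Over.mk (y ≫ T.hom)) ⟶ pullback f f,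
      g = (yon S).map yA ≫ r := ⟨_, rfl⟩
  have hfst : fst = (yon S).map snd ≫ r ≫ pullback.fst f f := by
    have := congrArg (· ≫ pullback.fst f f) sq.w
    simp only [Category.assoc, pullback.diagonal_fst, Category.comp_id] at this
    exact this
  have hsnd : fst = (yon S).map snd ≫ r ≫ pullback.snd f f := by
    have := congrArg (· ≫ pullback.snd f f) sq.w
    simp only [Category.assoc, pullback.diagonal_snd, Category.comp_id] at this
    exact this
  have htop1 : (yon S).map j ≫ g ≫ pullback.fst f f = (yon S).map xK ≫ fst := by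
    conv_rhs => rw [hfst]
    rw [hg, ← Category.assoc ((yon S).map xK), ← Functor.map_comp, key, Functor.map_comp]
    simp only [Category.assoc]
  have htop2 : (yon S).map j ≫ g ≫ pullback.snd f f = (yon S).map xK ≫ fst := by
    conv_rhs => rw [hsnd]
    rw [hg, ← Category.assoc ((yon S).map xK), ← Functor.map_comp, key, Functor.map_comp]
    simp only [Category.assoc]
  let sqv : AlgSp.ValSq f :=
    { A := A
      K := FractionRing A
      str := y ≫ T.hom
      top := (yon S).map xK ≫ fst
      bot := (g ≫ pullback.fst f f) ≫ f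
      comm := by
        rw [← htop1, hj]
        simp only [Category.assoc] }
  have huq : sqv.HasUniq := hu sqv iV
  have h12 : g ≫ pullback.fst f f = g ≫ pullback.snd f f := by
    apply huq
    · rw [hj] at htop1; exact htop1
    · rfl
    · rw [hj] at htop2; exact htop2
    · show (g ≫ pullback.snd f f) ≫ f = (g ≫ pullback.fst f f) ≫ f
      rw [Category.assoc, Category.assoc, pullback.condition]
  have hgΔ : (g ≫ pullback.fst f f) ≫ pullback.diagonal f = g := by
    apply pullback.hom_ext
    · rw [Category.assoc, pullback.diagonal_fst, Category.comp_id]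
    · rw [Category.assoc, pullback.diagonal_snd, Category.comp_id, h12]
  obtain ⟨L, hL⟩ := (yon S).map_surjective
    (sq.lift (g ≫ pullback.fst f f) ((yon S).map yA) (by rw [hgΔ, hg]))
  have hLs : L ≫ snd = yA := by
    apply (yon S).map_injective
    rw [Functor.map_comp, hL, sq.lift_snd]
  refine ⟨L.left, ?_, ?_⟩
  · rw [← Over.comp_left, hLs, hyA]
  · rw [← cancel_mono snd.left, Category.assoc, ← Over.comp_left, hLs, hyA, hxy]

/-- Let `f : X ⟶ Y` be quasi-separated and locally of finite type with `Y` locally Noetherian. Then `f`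
is separated if and only if every valuative test square for `f` whose valuation ring is a discrete
valuation ring admits at most one dotted arrow. (The published statement also lists the uniqueness
part of the valuative criterion, over arbitrary valuation rings, as an equivalent condition, and a
refinement to squares hitting a codimension-0 point; neither is included in this row.) -/
theorem result (S : Scheme.{u}) {X Y : AlgSp.Space S} (f : X ⟶ Y)
    (hqs : AlgSp.IsQuasiSeparatedMor f.hom) (hft : AlgSp.LocP @LocallyOfFiniteType f.hom) (hY : AlgSp.IsLocNoethSp Y.obj) :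
    AlgSp.IsSeparatedMor f.hom ↔ ∀ sq : AlgSp.ValSq f.hom, IsDiscreteValuationRing sq.A → sq.HasUniq := by
  refine ⟨fun h sq _ => Groth.Agent.S10290.result f h sq, fun hu => ?_⟩
  have hX : IsAlgSpace X.obj := X.property
  have hYa : IsAlgSpace Y.obj := Y.property
  have sqP : IsPullback (pullback.fst f.hom f.hom) (pullback.snd f.hom f.hom) f.hom f.hom :=
    IsPullback.of_hasPullback _ _
  have hP : IsAlgSpace (pullback f.hom f.hom) :=
    Groth.Agent.H52.isAlgSpace_of_isPullback sqP hYa.diag hX hX
  let PP : AlgSp.Space S := ⟨pullback f.hom f.hom, hP⟩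
  let pr1 : PP ⟶ X := ObjectProperty.homMk (pullback.fst f.hom f.hom)
  let pr2 : PP ⟶ X := ObjectProperty.homMk (pullback.snd f.hom f.hom)
  have hpr2 : LocP @LocallyOfFiniteType pr2.hom :=
    Groth.Agent.S9984.result @LocallyOfFiniteType (Or.inl rfl) f f pr1 pr2 sqP hft
  have hXn : IsLocNoethSp X.obj := Groth.Agent.S9951.result f hft hY
  have hPn : IsLocNoethSp PP.obj := Groth.Agent.S9951.result pr2 hpr2 hXn
  obtain ⟨T₀, r, hre, hrs, hT₀⟩ : IsLocNoethSp (pullback f.hom f.hom) := hPn
  haveI : IsLocallyNoetherian T₀.left := hT₀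
  have hrep := Groth.Agent.H51.representable_pullback_diagonal hX f.hom
  obtain ⟨W₀, snd, fst, sq⟩ := hrep r
  haveI hm : Mono snd.left := Groth.Agent.H51.mono_left_of_isPullback_diagonal f.hom sq
  haveI : LocallyOfFiniteType snd.left :=
    (Groth.Agent.H51.repWith_locallyOfFiniteType_diagonal hX hYa f.hom).2 r fst snd sq
  haveI : QuasiCompact snd.left := hqs.2 r fst snd sq
  have hdvr := dvrExistence_of_uniq f.hom hu r fst snd sq
  have huc : UniversallyClosed snd.left :=
    Groth.Agent.H73.DVRClosed.universallyClosed_of_dvrExistence snd.left hdvr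
  have hΔ : RepWith @UniversallyClosed (pullback.diagonal f.hom) :=
    Groth.Agent.H51.repWith_of_baseChange_cover' @UniversallyClosed (pullback.diagonal f.hom) hrep r
      (Groth.Agent.H51.repWith_fppf_of_etale_surjective r hre hrs) fst snd sq huc
  exact Groth.Agent.H51.isSeparatedMor_of_repWith_universallyClosed_diagonal hX hYa f.hom hΔ

end Groth.Agent.S10064
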