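import Groth.Statements.S10289
import Groth.Agent.H52.ValExist
import Groth.Agent.H52.FibProd
import Groth.Agent.H52.FQMor
import Groth.Agent.H52.Decent

set_option autoImplicit false
universe u
open CategoryTheory CategoryTheory.Limits AlgebraicGeometry
open AlgSp

namespace Groth.Agent.S10289

open Groth.Agent.H52

/-- A quasi-separated universally closed morphism of algebraic spaces meets the existence half of the
valuative criterion. -/
theorem result {S : Scheme.{u}} {X Y : AlgSp.Space S} (f : X ⟶ Y)
    (hqs : AlgSp.IsQuasiSeparatedMor f.hom) (hc : AlgSp.IsUnivClosedMor f.hom) : AlgSp.ExistVC f.hom := by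
  intro sq
  have pb := IsPullback.of_hasPullback f.hom sq.bot
  have hPa : IsAlgSpace (pullback f.hom sq.bot) :=
    isAlgSpace_of_isPullback pb Y.property.diag X.property (IsAlgSpace.yon_obj _)
  have hPd : IsDecent (pullback f.hom sq.bot) :=
    isDecent_of_quasiSeparated_over_scheme hPa (pullback.snd _ _)
      (repWith_quasiCompact_diagonal_baseChange pb hqs)
  exact hasLiftExt_of_decent_closed sq pb hPa hPd (hc (IsAlgSpace.yon_obj _) sq.bot _ _ pb)

end Groth.Agent.S10289
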