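import Groth.Statements.S10067
import Groth.Agent.H16.LimPres2

set_option autoImplicit false
universe u
open CategoryTheory CategoryTheory.Limits AlgebraicGeometry
open AlgSp

namespace Groth.Agent.S10067

section
set_option backward.isDefEq.respectTransparency false
set_option backward.isDefEq.respectTransparency.types false
open Opposite Groth.Agent.H16.LimPres

lemma colimMap_ι_apply {J : Type u} [SmallCategory J] {F G : J ⥤ Type (u+1)} (α : F ⟶ G) (j : J)
    (x : F.obj j) : colimMap α (colimit.ι F j x) = colimit.ι G j (α.app j x) :=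
  ConcreteCategory.congr_hom (ι_colimMap α j) x

theorem fwd (S : Scheme.{u}) {F G : AlgSp.PSp S} (a : F ⟶ G) (ha : AlgSp.IsRelLimitPreserving a)
    {I : Type u} [SmallCategory I] [IsCofiltered I] (D : I ⥤ Over S) (c : Cone D)
    (hc : IsLimit ((Over.forget S).mapCone c)) (hD : ∀ i, IsAffine (D.obj i).left)
    (hT : IsAffine c.pt.left) :
    IsPullback (colimMap (Functor.whiskerLeft D.op a))
      (colimit.desc (D.op ⋙ F) (F.mapCocone c.op))
      (colimit.desc (D.op ⋙ G) (G.mapCocone c.op)) (a.app (Opposite.op c.pt)) := by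
  have hdF : ∀ (i : I) (w : F.obj (op (D.obj i))),
      colimit.desc (D.op ⋙ F) (F.mapCocone c.op) (colimit.ι (D.op ⋙ F) (op i) w) =
        F.map (cπ c i).op w := fun i w => colimit.ι_desc_apply _ _ _
  have hdG : ∀ (i : I) (z : G.obj (op (D.obj i))),
      colimit.desc (D.op ⋙ G) (G.mapCocone c.op) (colimit.ι (D.op ⋙ G) (op i) z) =
        G.map (cπ c i).op z := fun i z => colimit.ι_desc_apply _ _ _
  have hm : ∀ (i : I) (w : F.obj (op (D.obj i))),
      colimMap (Functor.whiskerLeft D.op a) (colimit.ι (D.op ⋙ F) (op i) w) =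
        colimit.ι (D.op ⋙ G) (op i) (a.app (op (D.obj i)) w) := fun i w => colimMap_ι_apply _ _ _
  have hwF : ∀ {i k : I} (f : k ⟶ i) (w : F.obj (op (D.obj i))),
      colimit.ι (D.op ⋙ F) (op k) (F.map (D.map f).op w) = colimit.ι (D.op ⋙ F) (op i) w :=
    fun {i k} f w => colimit.w_apply (D.op ⋙ F) f.op w
  have hwG : ∀ {i k : I} (f : k ⟶ i) (z : G.obj (op (D.obj i))),
      colimit.ι (D.op ⋙ G) (op k) (G.map (D.map f).op z) = colimit.ι (D.op ⋙ G) (op i) z :=
    fun {i k} f z => colimit.w_apply (D.op ⋙ G) f.op z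
  rw [Types.isPullback_iff]
  refine ⟨?_, ?_, ?_⟩
  · apply colimit.hom_ext
    intro j
    rw [ι_colimMap_assoc, colimit.ι_desc, colimit.ι_desc_assoc]
    exact (a.naturality _).symm
  · rintro ξ ξ' ⟨h1, h2⟩
    obtain ⟨⟨i⟩, w, w', rfl, rfl⟩ :=
      Types.FilteredColimit.jointly_surjective_of_isColimit₂ (colimit.isColimit _) ξ ξ'
    change colimit.ι (D.op ⋙ F) (op i) w = colimit.ι (D.op ⋙ F) (op i) w'
    change colimMap (Functor.whiskerLeft D.op a) (colimit.ι (D.op ⋙ F) (op i) w) =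
      colimMap (Functor.whiskerLeft D.op a) (colimit.ι (D.op ⋙ F) (op i) w') at h1
    change colimit.desc (D.op ⋙ F) (F.mapCocone c.op) (colimit.ι (D.op ⋙ F) (op i) w) =
      colimit.desc (D.op ⋙ F) (F.mapCocone c.op) (colimit.ι (D.op ⋙ F) (op i) w') at h2
    rw [hm, hm] at h1
    rw [hdF, hdF] at h2
    obtain ⟨⟨j⟩, f, hf⟩ := (Types.FilteredColimit.isColimit_eq_iff' (colimit.isColimit (D.op ⋙ G))
      (i := op i) (a.app (op (D.obj i)) w) (a.app (op (D.obj i)) w')).mp h1
    have hf' : G.map (D.map f.unop).op (a.app (op (D.obj i)) w) =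
        G.map (D.map f.unop).op (a.app (op (D.obj i)) w') := hf
    have hcw : cπ c j ≫ D.map f.unop = cπ c i := c.w f.unop
    obtain ⟨k, g, hg⟩ := Groth.Agent.H16.LimPres2.R2 a ha D c hc hD hT j
      (a.app _ (F.map (D.map f.unop).op w)) (F.map (D.map f.unop).op w)
      (F.map (D.map f.unop).op w') rfl
      (by rw [NatTrans.naturality_apply, NatTrans.naturality_apply, hf'])
      (by
        rw [← Functor.map_comp_apply, ← Functor.map_comp_apply, ← op_comp, hcw]
        exact h2)
    rw [← hwF f.unop w, ← hwF f.unop w', ← hwF g, ← hwF g (F.map (D.map f.unop).op w'), hg]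
  · intro η x hx
    obtain ⟨⟨i⟩, z, rfl⟩ := Types.jointly_surjective' η
    change colimit.desc (D.op ⋙ G) (G.mapCocone c.op) (colimit.ι (D.op ⋙ G) (op i) z) =
      a.app (op c.pt) x at hx
    rw [hdG] at hx
    obtain ⟨k, f, w, hw1, hw2⟩ := Groth.Agent.H16.LimPres2.R1 a ha D c hc hD hT i z x hx.symm
    refine ⟨colimit.ι (D.op ⋙ F) (op k) w, ?_, ?_⟩
    · change colimMap (Functor.whiskerLeft D.op a) (colimit.ι (D.op ⋙ F) (op k) w) =
        colimit.ι (D.op ⋙ G) (op i) z
      rw [hm, hw1, hwG]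
    · change colimit.desc (D.op ⋙ F) (F.mapCocone c.op) (colimit.ι (D.op ⋙ F) (op k) w) = x
      rw [hdF, hw2]

theorem bwd (S : Scheme.{u}) {F G : AlgSp.PSp S} (a : F ⟶ G)
    (h : ∀ ⦃I : Type u⦄ [SmallCategory I] [IsCofiltered I] (D : I ⥤ Over S) (c : Cone D),
        IsLimit ((Over.forget S).mapCone c) → (∀ i, IsAffine (D.obj i).left) → IsAffine c.pt.left →
          IsPullback (colimMap (Functor.whiskerLeft D.op a)) (colimit.desc (D.op ⋙ F) (F.mapCocone c.op))
            (colimit.desc (D.op ⋙ G) (G.mapCocone c.op)) (a.app (Opposite.op c.pt))) :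
    AlgSp.IsRelLimitPreserving a := by
  intro T y I _ _ D c hc hD hT
  let D₁ : I ⥤ Over S := D ⋙ Over.map T.hom
  let c₁ : Cone D₁ := (Over.map T.hom).mapCone c
  have hc₁ : IsLimit ((Over.forget S).mapCone c₁) := hc
  have H := h D₁ c₁ hc₁ hD hT
  have hdF : ∀ (i : I) (w : F.obj (op (D₁.obj i))),
      colimit.desc (D₁.op ⋙ F) (F.mapCocone c₁.op) (colimit.ι (D₁.op ⋙ F) (op i) w) =
        F.map ((Over.map T.hom).map (cπ c i)).op w := fun i w => colimit.ι_desc_apply _ _ _
  have hdG : ∀ (i : I) (z : G.obj (op (D₁.obj i))),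
      colimit.desc (D₁.op ⋙ G) (G.mapCocone c₁.op) (colimit.ι (D₁.op ⋙ G) (op i) z) =
        G.map ((Over.map T.hom).map (cπ c i)).op z := fun i z => colimit.ι_desc_apply _ _ _
  have hm : ∀ (i : I) (w : F.obj (op (D₁.obj i))),
      colimMap (Functor.whiskerLeft D₁.op a) (colimit.ι (D₁.op ⋙ F) (op i) w) =
        colimit.ι (D₁.op ⋙ G) (op i) (a.app (op (D₁.obj i)) w) := fun i w => colimMap_ι_apply _ _ _
  have hwF : ∀ {i k : I} (f : k ⟶ i) (w : F.obj (op (D₁.obj i))),
      colimit.ι (D₁.op ⋙ F) (op k) (F.map ((Over.map T.hom).map (D.map f)).op w) =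
        colimit.ι (D₁.op ⋙ F) (op i) w :=
    fun {i k} f w => colimit.w_apply (D₁.op ⋙ F) f.op w
  have hGm : ∀ {X Y : Over T.left} (f : X ⟶ Y),
      G.map ((Over.map T.hom).map f).op (G.map (AlgSp.overHom T Y).op y) =
        G.map (AlgSp.overHom T X).op y := fun {X Y} f => by
    rw [← Functor.map_comp_apply, ← op_comp, AlgSp.map_comp_overHom]
  refine ⟨Types.FilteredColimit.isColimitOf' _ _ ?_ ?_⟩
  · intro x
    have hx2 : a.app (op ((Over.map T.hom).obj c.pt)) x.1 =
        G.map (AlgSp.overHom T c.pt).op y := x.2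
    obtain ⟨i₀⟩ := IsCofiltered.nonempty (C := I)
    obtain ⟨ξ, hξ1, hξ2⟩ := Types.exists_of_isPullback H
      (colimit.ι (D₁.op ⋙ G) (op i₀) (G.map (AlgSp.overHom T (D.obj i₀)).op y)) x.1 (by
        rw [hdG, hGm]
        exact hx2.symm)
    obtain ⟨⟨j⟩, w, rfl⟩ := Types.jointly_surjective' ξ
    change colimMap (Functor.whiskerLeft D₁.op a) (colimit.ι (D₁.op ⋙ F) (op j) w) = _ at hξ1
    change colimit.desc (D₁.op ⋙ F) (F.mapCocone c₁.op) (colimit.ι (D₁.op ⋙ F) (op j) w) = _ at hξ2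
    rw [hm] at hξ1
    rw [hdF] at hξ2
    obtain ⟨⟨k⟩, f, g, hfg⟩ := (Types.FilteredColimit.colimit_eq_iff (D₁.op ⋙ G)).mp hξ1
    have hfg' : G.map ((Over.map T.hom).map (D.map f.unop)).op (a.app (op (D₁.obj j)) w) =
        G.map ((Over.map T.hom).map (D.map g.unop)).op (G.map (AlgSp.overHom T (D.obj i₀)).op y) :=
      hfg
    rw [hGm] at hfg'
    have hw : a.app (op ((Over.map T.hom).obj (D.obj k)))
        (F.map ((Over.map T.hom).map (D.map f.unop)).op w) =
        G.map (AlgSp.overHom T (D.obj k)).op y := by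
      rw [NatTrans.naturality_apply]
      exact hfg'
    refine ⟨op k, ⟨_, hw⟩, ?_⟩
    apply Subtype.ext
    change x.1 = F.map ((Over.map T.hom).map (cπ c k)).op
      (F.map ((Over.map T.hom).map (D.map f.unop)).op w)
    have hcw : cπ c k ≫ D.map f.unop = cπ c j := c.w f.unop
    rw [← Functor.map_comp_apply, ← op_comp, ← Functor.map_comp, hcw]
    exact hξ2.symm
  · intro i x x' hxx
    obtain ⟨i₀⟩ := i
    change (AlgSp.fiberFun a T y).map (cπ c i₀).op x =
      (AlgSp.fiberFun a T y).map (cπ c i₀).op x' at hxx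
    have h1 : F.map ((Over.map T.hom).map (cπ c i₀)).op x.1 =
        F.map ((Over.map T.hom).map (cπ c i₀)).op x'.1 := congrArg Subtype.val hxx
    have hx2 : a.app (op (D₁.obj i₀)) x.1 =
        G.map (AlgSp.overHom T (D.obj i₀)).op y := x.2
    have hx2' : a.app (op (D₁.obj i₀)) x'.1 =
        G.map (AlgSp.overHom T (D.obj i₀)).op y := x'.2
    have heq : colimit.ι (D₁.op ⋙ F) (op i₀) x.1 = colimit.ι (D₁.op ⋙ F) (op i₀) x'.1 := by
      apply Types.ext_of_isPullback H
      · rw [hm, hm, hx2, hx2']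
      · rw [hdF, hdF, h1]
    obtain ⟨⟨k⟩, f, hf⟩ := (Types.FilteredColimit.isColimit_eq_iff'
      (colimit.isColimit (D₁.op ⋙ F)) (i := op i₀) x.1 x'.1).mp heq
    refine ⟨op k, f, ?_⟩
    change (AlgSp.fiberFun a T y).map (D.map f.unop).op x =
      (AlgSp.fiberFun a T y).map (D.map f.unop).op x'
    apply Subtype.ext
    exact hf

end


/-- A transformation `a : F ⟶ G` of presheaves of sets on schemes over `S` is relatively limit
preserving if and only if, for every directed limit `T = lim T_i` of affine schemes over `S` (with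
`T` affine), the square formed by `colim F(T_i) → F(T)`, `colim G(T_i) → G(T)` and the two maps
induced by `a` is cartesian in sets. -/
theorem result (S : Scheme.{u}) {F G : AlgSp.PSp S} (a : F ⟶ G) :
    AlgSp.IsRelLimitPreserving a ↔
      ∀ ⦃I : Type u⦄ [SmallCategory I] [IsCofiltered I] (D : I ⥤ Over S) (c : Cone D),
        IsLimit ((Over.forget S).mapCone c) → (∀ i, IsAffine (D.obj i).left) → IsAffine c.pt.left →
          IsPullback (colimMap (Functor.whiskerLeft D.op a)) (colimit.desc (D.op ⋙ F) (F.mapCocone c.op))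
            (colimit.desc (D.op ⋙ G) (G.mapCocone c.op)) (a.app (Opposite.op c.pt)) := by
  constructor
  · intro ha I _ _ D c hc hD hT
    exact fwd S a ha D c hc hD hT
  · exact bwd S a

end Groth.Agent.S10067
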