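import Groth.Statements.S10089
-- import your own Groth.Agent.* helpers here

set_option autoImplicit false
universe u
open CategoryTheory CategoryTheory.Limits AlgebraicGeometry
open AlgSp

namespace Groth.Agent.S10089

/-- Let `a : F ⟶ G` be a map of presheaves of sets on schemes over `S` which is representable by
algebraic spaces. If `G` is an fppf sheaf, then so is `F`. -/
theorem result (S : Scheme.{u}) (F G : AlgSp.PSp S) (a : F ⟶ G)
    (ha : AlgSp.RepBySp a) (hG : Presheaf.IsSheaf (AlgSp.J S) G) :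
    Presheaf.IsSheaf (AlgSp.J S) F := by
  rw [isSheaf_iff_isSheaf_of_type] at hG ⊢
  intro T R hR x hx
  obtain ⟨y, hy, hyu⟩ := hG R hR (x.map a) (hx.map a)
  let ξ : (AlgSp.pyon S).obj T ⟶ G := uliftYonedaEquiv.symm y
  obtain ⟨hsh, -⟩ := ha ξ (pullback.fst a ξ) (pullback.snd a ξ) (IsPullback.of_hasPullback a ξ)
  rw [isSheaf_iff_isSheaf_of_type] at hsh
  have sqT : ∀ T' : (Over S)ᵒᵖ, IsPullback ((pullback.fst a ξ).app T') ((pullback.snd a ξ).app T')
      (a.app T') (ξ.app T') :=
    fun T' => (IsPullback.of_hasPullback a ξ).map ((evaluation _ _).obj T')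
  have hξ : ∀ ⦃T' : Over S⦄ (f : T' ⟶ T), ξ.app (Opposite.op T') ⟨f⟩ = G.map f.op y := by
    intro T' f
    simp [ξ]
  have key : ∀ ⦃T' : Over S⦄ (f : T' ⟶ T) (hf : R.arrows f),
      ∃ z : (pullback a ξ).obj (Opposite.op T'),
        (pullback.fst a ξ).app _ z = x f hf ∧ (pullback.snd a ξ).app _ z = ⟨f⟩ := by
    intro T' f hf
    apply Types.exists_of_isPullback (sqT (Opposite.op T'))
    rw [hξ]
    exact (hy f hf).symm
  choose z hz1 hz2 using key
  have hx' : Presieve.FamilyOfElements.Compatible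
      (fun T' f hf => z f hf : Presieve.FamilyOfElements (pullback a ξ) R.arrows) := by
    rw [Presieve.compatible_iff_sieveCompatible]
    intro T₁ T₂ f g hf
    apply Types.ext_of_isPullback (sqT (Opposite.op T₂))
    · rw [hz1, NatTrans.naturality_apply, hz1]
      exact (Presieve.compatible_iff_sieveCompatible x).1 hx f g hf
    · rw [hz2, NatTrans.naturality_apply, hz2]
      rfl
  obtain ⟨w, hw, hwu⟩ := hsh R hR _ hx'
  refine ⟨(pullback.fst a ξ).app _ w, ?_, ?_⟩
  · intro T' f hf
    rw [← NatTrans.naturality_apply, hw f hf, hz1]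
  · intro x0 hx0
    have h1 : a.app _ x0 = y := hyu _ (hx0.map a)
    obtain ⟨w0, hw01, hw02⟩ := Types.exists_of_isPullback (sqT (Opposite.op T)) x0 ⟨𝟙 T⟩ (by
      rw [hξ, h1]; simp)
    have h2 : w0 = w := by
      apply hwu
      intro T' f hf
      apply Types.ext_of_isPullback (sqT (Opposite.op T'))
      · rw [NatTrans.naturality_apply, hw01, hz1]
        exact hx0 f hf
      · rw [NatTrans.naturality_apply, hw02, hz2]
        change ULift.up (f ≫ 𝟙 T) = _
        rw [Category.comp_id]
    rw [← hw01, h2]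

end Groth.Agent.S10089
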