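import Groth.Statements.S1010
import Mathlib
import Groth.Agent.H31.MVShriek
import Groth.Agent.H6.RpushQC
import Groth.Agent.H42.QcqsPush
import Groth.Agent.H6.EV.A0
import Groth.Agent.H42.EV_A1
import Groth.Agent.H6.EV.A2

set_option autoImplicit false
universe u
open CategoryTheory CategoryTheory.Limits AlgebraicGeometry
attribute [local instance] HasDerivedCategory.standard
open Perf

namespace Groth.Agent.S1010

open Groth.Agent.H31.MVS Pretriangulated

/-- The property propagated by the Mayer–Vietoris induction. -/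
def PP {X : Scheme.{u}} (E : DCoh.D X) (W : X.Opens) : Prop :=
  ∃ m : ℤ, ∀ (F : X.Modules), FlatMod.IsFinLocFree F → ∀ n : ℤ, m ≤ n →
    ∀ φ : DCoh.inD X ((S W).obj F) ⟶ E⟦n⟧, φ = 0

theorem eq_zero_of_biprod {X : Scheme.{u}} {A B : X.Modules} {K : DCoh.D X}
    (x : DCoh.inD X (A ⊞ B) ⟶ K)
    (h₁ : (DerivedCategory.singleFunctor X.Modules 0).map (biprod.inl : A ⟶ A ⊞ B) ≫ x = 0)
    (h₂ : (DerivedCategory.singleFunctor X.Modules 0).map (biprod.inr : B ⟶ A ⊞ B) ≫ x = 0) :
    x = 0 := by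
  have h : (DerivedCategory.singleFunctor X.Modules 0).map (𝟙 (A ⊞ B)) ≫ x = 0 := by
    rw [← biprod.total, Functor.map_add, Functor.map_comp, Functor.map_comp,
      Preadditive.add_comp, Category.assoc, Category.assoc, h₁, h₂, comp_zero, comp_zero, add_zero]
  rwa [CategoryTheory.Functor.map_id, Category.id_comp] at h

theorem PP_sup {X : Scheme.{u}} (E : DCoh.D X) (U V : X.Opens) (hU : PP E U) (hV : PP E V)
    (hUV : PP E (U ⊓ V)) : PP E (U ⊔ V) := by
  obtain ⟨m₁, h₁⟩ := hU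
  obtain ⟨m₂, h₂⟩ := hV
  obtain ⟨m₃, h₃⟩ := hUV
  refine ⟨max (max m₁ m₂) (m₃ + 1), fun F hF n hn φ => ?_⟩
  obtain ⟨f, g, w, hS⟩ := Groth.Agent.H42.EV.exists_MV_shortExact U V F
  have hT := hS.singleTriangle_distinguished
  have hx : (DerivedCategory.singleFunctor X.Modules 0).map g ≫ φ = 0 := by
    apply eq_zero_of_biprod
    · exact h₁ F hF n (by omega) _
    · exact h₂ F hF n (by omega) _
  obtain ⟨ψ, hψ⟩ := Triangle.yoneda_exact₃ _ hT φ hx
  have hψ0 : ψ = 0 := by
    let i := (shiftFunctorAdd' (DCoh.D X) (n - 1) 1 n (by omega)).app E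
    obtain ⟨χ, hχ⟩ := (shiftFunctor (DCoh.D X) (1 : ℤ)).map_surjective (ψ ≫ i.hom)
    have hχ0 : χ = 0 := h₃ F hF (n - 1) (by omega) χ
    rw [← cancel_mono i.hom, ← hχ, hχ0, Functor.map_zero, zero_comp]
  rw [hψ, hψ0]
  exact comp_zero

/-- Let the scheme X be quasi-compact and quasi-separated and E a bounded object of D(O_X) with
quasi-coherent cohomology sheaves. There is an integer n₀ > 0 such that for every finite locally
free O_X-module F and every n ≥ n₀, every morphism F ⟶ E[n] in D(O_X) (an element of Extⁿ(F, E)) is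
zero. -/
theorem result (X : Scheme.{u}) [CompactSpace ↥X] [QuasiSeparatedSpace ↥X]
    (E : DCoh.D X) (hE : DCoh.IsQCohD E) (a b : ℤ) [E.IsGE a] [E.IsLE b] :
    ∃ n₀ : ℤ, 0 < n₀ ∧ ∀ (F : X.Modules), FlatMod.IsFinLocFree F → ∀ n : ℤ, n₀ ≤ n →
      ∀ φ : DCoh.inD X F ⟶ E⟦n⟧, φ = 0 := by

  have hc : IsCompact ((⊤ : X.Opens) : Set X) := by simpa using isCompact_univ
  have i1 : CompactSpace (⊤ : X.Opens) := isCompact_iff_compactSpace.1 hc
  have i2 : QuasiSeparatedSpace (⊤ : X.Opens) :=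
    (⊤ : X.Opens).ι.isOpenEmbedding.quasiSeparatedSpace
  have hP : PP E (⊤ : X.Opens) := by
    refine Groth.Agent.H42.QcqsPush.induction_in_open (⊤ : X.Opens) (PP E) ?_ ?_
    · intro W hW _
      exact ⟨b + 1, fun F hF n hn φ =>
        Groth.Agent.H6.EV.A2.hom_S_affine_eq_zero E hE a b W hW F hF n (by omega) φ⟩
    · intro U V hU hV hUV
      exact PP_sup E U V hU hV hUV
  obtain ⟨m, hm⟩ := hP
  refine ⟨max m 1, by omega, fun F hF n hn φ => ?_⟩
  obtain ⟨e⟩ := Groth.Agent.H6.EV.A0.nonempty_S_top_iso F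
  have h0 := hm F hF n (by omega) ((DerivedCategory.singleFunctor X.Modules 0).map e.hom ≫ φ)
  have h1 : φ = (DerivedCategory.singleFunctor X.Modules 0).map e.inv ≫
      ((DerivedCategory.singleFunctor X.Modules 0).map e.hom ≫ φ) := by
    rw [← Category.assoc, ← Functor.map_comp, e.inv_hom_id, CategoryTheory.Functor.map_id,
      Category.id_comp]
  rw [h1, h0, comp_zero]

end Groth.Agent.S1010
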