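import Groth.Statements.S10111
import Groth.Agent.H50.Fppf
import Mathlib.CategoryTheory.Limits.Types.Pullbacks
import Mathlib.CategoryTheory.Limits.FunctorCategory.EpiMono

set_option autoImplicit false
universe u v
open CategoryTheory CategoryTheory.Limits AlgebraicGeometry
open AlgSp

namespace Groth.Agent.S10111

open Opposite Groth.Agent.H50

/-- A section of `F` which fppf locally lies in the subfunctor `G` (with `G ⟶ F` representable by
algebraic spaces) lies in `G`. -/
theorem mem_range_of_local {S : Scheme.{u}} {F G : PSp S} (m : G ⟶ F) [Mono m] (hb : RepBySp m)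
    {T : Over S} (x : F.obj (op T)) {R : Sieve T} (hR : R ∈ J S T)
    (h : ∀ ⦃T' : Over S⦄ (f : T' ⟶ T), R.arrows f → F.map f.op x ∈ Set.range (m.app (op T'))) :
    x ∈ Set.range (m.app (op T)) := by
  obtain ⟨ξ, hξ⟩ : ∃ ξ : (pyon S).obj T ⟶ F, ξ = uliftYonedaEquiv.symm x := ⟨_, rfl⟩
  have hξapp : ∀ (T' : Over S) (f : T' ⟶ T), ξ.app (op T') (ULift.up f) = F.map f.op x := by
    intro T' f
    rw [hξ]
    rfl
  have sqP := IsPullback.of_hasPullback m ξ
  obtain ⟨hPsh, -⟩ := hb ξ _ _ sqP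
  rw [isSheaf_iff_isSheaf_of_type] at hPsh
  have hTsh : Presieve.IsSheaf (J S) ((pyon S).obj T) :=
    (isSheaf_iff_isSheaf_of_type _ _).1 ((yon S).obj T).property
  have sqE : ∀ T' : Over S, IsPullback ((pullback.fst m ξ).app (op T'))
      ((pullback.snd m ξ).app (op T')) (m.app (op T')) (ξ.app (op T')) :=
    fun T' => sqP.map ((evaluation _ _).obj (op T'))
  have hex : ∀ (T' : Over S) (f : T' ⟶ T) (_ : R f), ∃ p : (pullback m ξ).obj (op T'),
      (pullback.snd m ξ).app (op T') p = ULift.up f := by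
    intro T' f hf
    obtain ⟨z, hz⟩ := h f hf
    obtain ⟨p, -, hp⟩ := Types.exists_of_isPullback (sqE T') z (ULift.up f)
      (by rw [hξapp]; exact hz)
    exact ⟨p, hp⟩
  choose p hp2 using hex
  have hsndinj : ∀ T' : Over S, Function.Injective ((pullback.snd m ξ).app (op T')) := fun T' =>
    (mono_iff_injective _).1 inferInstance
  have hmapup : ∀ {Y Z : Over S} (g : Z ⟶ Y) (f : Y ⟶ T),
      ((pyon S).obj T).map g.op (ULift.up f) = ULift.up (g ≫ f) := fun g f => rfl
  have hpc : Presieve.FamilyOfElements.Compatible (P := pullback m ξ) (R := R.arrows)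
      (fun T' f hf => p T' f hf) := by
    intro Y₁ Y₂ Z g₁ g₂ f₁ f₂ h₁ h₂ e
    change (pullback m ξ).map g₁.op (p Y₁ f₁ h₁) = (pullback m ξ).map g₂.op (p Y₂ f₂ h₂)
    apply hsndinj Z
    rw [NatTrans.naturality_apply, NatTrans.naturality_apply, hp2, hp2, hmapup, hmapup, e]
  obtain ⟨q, hq, -⟩ := hPsh R hR _ hpc
  have hq' : ∀ {Y : Over S} (f : Y ⟶ T) (hf : R f), (pullback m ξ).map f.op q = p Y f hf :=
    fun f hf => hq f hf
  have hsnd : (pullback.snd m ξ).app (op T) q = ULift.up (𝟙 T) := by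
    apply (hTsh R hR).isSeparatedFor.ext
    intro Y f hf
    rw [← NatTrans.naturality_apply, hq' f hf, hp2, hmapup, Category.comp_id]
  refine ⟨(pullback.fst m ξ).app (op T) q, ?_⟩
  have hw := congrArg (fun α => α.app (op T) q) (pullback.condition (f := m) (g := ξ))
  simp only [NatTrans.comp_app_apply] at hw
  rw [hw, hsnd, hξapp]
  simp

/-- Let `F` be a presheaf of sets on schemes over `S` which is a Zariski sheaf, and `F_i ⊂ F` a family
of subfunctors which are fppf sheaves, whose inclusions are representable by algebraic spaces, and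
such that `∐ F_i ⟶ F` becomes surjective after fppf sheafification (every section of `F` lies fppf
locally in some `F_i`). Then `F` is an fppf sheaf. -/
theorem result (S : Scheme.{u}) (F : AlgSp.PSp S)
    (h1 : Presheaf.IsSheaf (QuotSh.J Scheme.zariskiPrecoverage S) F) {ι : Type v} (Fi : ι → AlgSp.PSp S)
    (m : ∀ i, Fi i ⟶ F) [∀ i, Mono (m i)] (ha : ∀ i, Presheaf.IsSheaf (AlgSp.J S) (Fi i))
    (hb : ∀ i, AlgSp.RepBySp (m i))
    (hc : ∀ (T : Over S) (x : F.obj (Opposite.op T)), ∃ R ∈ (AlgSp.J S) T,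
      ∀ ⦃T' : Over S⦄ (f : T' ⟶ T), R.arrows f → ∃ i, F.map f.op x ∈ Set.range ((m i).app (Opposite.op T'))) :
    Presheaf.IsSheaf (AlgSp.J S) F := by
  rw [isSheaf_iff_isSheaf_of_type] at h1 ⊢
  have hinj : ∀ i (T' : Over S), Function.Injective ((m i).app (op T')) := fun i T' =>
    (mono_iff_injective _).1 inferInstance
  have hFi : ∀ i, Presieve.IsSheaf (J S) (Fi i) := fun i =>
    (isSheaf_iff_isSheaf_of_type _ _).1 (ha i)
  have hmc : ∀ {A B C : Over S} (g : A ⟶ B) (f : B ⟶ C) (x : F.obj (op C)),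
      F.map (g ≫ f).op x = F.map g.op (F.map f.op x) := by
    intro A B C g f x
    rw [op_comp, Functor.map_comp_apply]
  have hmci : ∀ i {A B C : Over S} (g : A ⟶ B) (f : B ⟶ C) (x : (Fi i).obj (op C)),
      (Fi i).map (g ≫ f).op x = (Fi i).map g.op ((Fi i).map f.op x) := by
    intro i A B C g f x
    rw [op_comp, Functor.map_comp_apply]
  have hres : ∀ i {T T' : Over S} (f : T' ⟶ T) (x : F.obj (op T)),
      x ∈ Set.range ((m i).app (op T)) → F.map f.op x ∈ Set.range ((m i).app (op T')) := by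
    rintro i T T' f _ ⟨z, rfl⟩
    exact ⟨(Fi i).map f.op z, NatTrans.naturality_apply (m i) f.op z⟩
  -- singleton fppf covers
  have hgen : ∀ {U T' : Over S} (g' : T' ⟶ U), Flat g'.left → LocallyOfFinitePresentation g'.left →
      Surjective g'.left → Sieve.generate (Presieve.singleton g') ∈ J S U := by
    intro U T' g' h1 h2 h3
    refine mem_J_of_fppf_family (fun _ : PUnit.{1} => T') (fun _ => g')
      (fun τ => ?_) (fun _ => h1) (fun _ => h2) _ (fun _ => ?_)
    · obtain ⟨t', ht'⟩ := h3.surj τ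
      exact ⟨PUnit.unit, t', ht'⟩
    · exact ⟨_, 𝟙 _, g', Presieve.singleton.mk, Category.id_comp _⟩
  -- Step A: equality can be checked on a surjective flat finitely presented cover, provided the
  -- section lies in one of the subfunctors there.
  have stepA : ∀ i {U T' : Over S} (g' : T' ⟶ U), Flat g'.left →
      LocallyOfFinitePresentation g'.left → Surjective g'.left → ∀ (x y : F.obj (op U)),
      F.map g'.op x ∈ Set.range ((m i).app (op T')) → F.map g'.op x = F.map g'.op y → x = y := by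
    intro i U T' g' h1' h2' h3' x y hx hxy
    have hSig := hgen g' h1' h2' h3'
    have hxm : x ∈ Set.range ((m i).app (op U)) := by
      refine mem_range_of_local (m i) (hb i) x hSig ?_
      rintro Y f ⟨Y', k, _, ⟨⟩, rfl⟩
      rw [hmc]
      exact hres i k _ hx
    have hym : y ∈ Set.range ((m i).app (op U)) := by
      refine mem_range_of_local (m i) (hb i) y hSig ?_
      rintro Y f ⟨Y', k, _, ⟨⟩, rfl⟩
      rw [hmc, ← hxy]
      exact hres i k _ hx
    obtain ⟨a, rfl⟩ := hxm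
    obtain ⟨b, rfl⟩ := hym
    have hab : (Fi i).map g'.op a = (Fi i).map g'.op b := by
      apply hinj i T'
      rw [NatTrans.naturality_apply, NatTrans.naturality_apply]
      exact hxy
    have : a = b := by
      apply (hFi i _ hSig).isSeparatedFor.ext
      rintro Y f ⟨Y', k, _, ⟨⟩, rfl⟩
      rw [hmci, hmci, hab]
    rw [this]
  -- Lemma 2: `F` is separated for the fppf topology.
  have hsep : ∀ (T : Over S) (R : Sieve T), R ∈ J S T → ∀ (x y : F.obj (op T)),
      (∀ ⦃Y : Over S⦄ (f : Y ⟶ T), R f → F.map f.op x = F.map f.op y) → x = y := by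
    intro T R hR x y hxy
    obtain ⟨Rx, hRx, hx⟩ := hc T x
    have hR' : R ⊓ Rx ∈ J S T := (J S).intersection_covering hR hRx
    let Z : Sieve T :=
      { arrows := fun Y f => F.map f.op x = F.map f.op y
        downward_closed := by
          intro Y Y' f hf g
          change F.map (g ≫ f).op x = F.map (g ≫ f).op y
          rw [hmc, hmc, hf] }
    have key : ∀ τ : T.left, ∃ (U : Over S) (j : U ⟶ T), IsOpenImmersion j.left ∧
        (∃ u : U.left, j.left u = τ) ∧ F.map j.op x = F.map j.op y := by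
      intro τ
      obtain ⟨T', g, hg, hfl, hfp, t', ht'⟩ := exists_fppf_of_mem_J hR' τ
      obtain ⟨U, j, g', hgg, hj, hfl', hfp', hs'⟩ := exists_open_image g
      refine ⟨U, j, hj, ⟨g'.left t', ?_⟩, ?_⟩
      · rw [← Scheme.Hom.comp_apply, ← Over.comp_left, hgg, ht']
      · obtain ⟨i, hi⟩ := hx g hg.2
        refine stepA i g' hfl' hfp' hs' _ _ ?_ ?_
        · rw [← hmc, hgg]
          exact hi
        · rw [← hmc, ← hmc, hgg]
          exact hxy g hg.1
    choose U j hj hsurj heq using key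
    have hZ : Z ∈ QuotSh.J Scheme.zariskiPrecoverage S T :=
      mem_zariski_of_family U j (fun τ => ⟨τ, hsurj τ⟩) hj Z heq
    exact (h1 Z hZ).isSeparatedFor.ext (fun Y f hf => hf)
  -- Lemma 3: existence of amalgamations.
  intro T R hR
  rw [← Presieve.isSeparatedFor_and_exists_isAmalgamation_iff_isSheafFor]
  refine ⟨?_, ?_⟩
  · intro x t₁ t₂ ht₁ ht₂
    exact hsep T R hR t₁ t₂ (fun Y f hf => (ht₁ f hf).trans (ht₂ f hf).symm)
  intro x hx
  have hcomp : ∀ {Y Y' : Over S} (f : Y ⟶ T) (hf : R f) (g : Y' ⟶ Y),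
      x (g ≫ f) (R.downward_closed hf g) = F.map g.op (x f hf) :=
    fun f hf g => Presieve.FamilyOfElements.comp_of_compatible R hx hf g
  have hxcongr : ∀ {Y : Over S} (f f' : Y ⟶ T) (hf : R f) (hf' : R f'), f = f' →
      x f hf = x f' hf' := by
    intro Y f f' hf hf' e
    subst e
    rfl
  let R' : Sieve T :=
    { arrows := fun Y f => ∃ (hf : R f) (i : ι), x f hf ∈ Set.range ((m i).app (op Y))
      downward_closed := by
        rintro Y Y' f ⟨hf, i, hi⟩ g
        refine ⟨R.downward_closed hf g, i, ?_⟩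
        rw [hcomp f hf g]
        exact hres i g _ hi }
  have hR' : R' ∈ J S T := by
    refine (J S).transitive hR R' (fun Y f hf => ?_)
    obtain ⟨Rf, hRf, hxf⟩ := hc Y (x f hf)
    refine (J S).superset_covering ?_ hRf
    intro Y' g hg
    obtain ⟨i, hi⟩ := hxf g hg
    refine ⟨R.downward_closed hf g, i, ?_⟩
    rw [hcomp f hf g]
    exact hi
  have key : ∀ τ : T.left, ∃ (U : Over S) (j : U ⟶ T) (yU : F.obj (op U)) (Sg : Sieve U),
      IsOpenImmersion j.left ∧ (∃ u : U.left, j.left u = τ) ∧ Sg ∈ J S U ∧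
      ∀ ⦃Y : Over S⦄ (f : Y ⟶ U), Sg f → ∃ hf : R (f ≫ j), F.map f.op yU = x (f ≫ j) hf := by
    intro τ
    obtain ⟨T', g, ⟨hgR, i, hi⟩, hfl, hfp, t', ht'⟩ := exists_fppf_of_mem_J hR' τ
    obtain ⟨U, j, g', hgg, hj, hfl', hfp', hs'⟩ := exists_open_image g
    have hSig := hgen g' hfl' hfp' hs'
    have hmemR : ∀ ⦃Y : Over S⦄ (f : Y ⟶ U), Sieve.generate (Presieve.singleton g') f →
        ∃ hf : R (f ≫ j), x (f ≫ j) hf ∈ Set.range ((m i).app (op Y)) := by
      rintro Y f ⟨Y', k, _, ⟨⟩, rfl⟩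
      have e : (k ≫ g') ≫ j = k ≫ g := by rw [Category.assoc, hgg]
      have hk : R ((k ≫ g') ≫ j) := by
        rw [e]
        exact R.downward_closed hgR k
      refine ⟨hk, ?_⟩
      rw [hxcongr _ _ hk (R.downward_closed hgR k) e, hcomp g hgR k]
      exact hres i k _ hi
    choose hfR a ha' using hmemR
    have hac : Presieve.FamilyOfElements.Compatible (P := Fi i)
        (R := (Sieve.generate (Presieve.singleton g')).arrows) (fun Y f hf => a f hf) := by
      intro Y₁ Y₂ Z₁ g₁ g₂ f₁ f₂ h₁ h₂ e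
      change (Fi i).map g₁.op (a f₁ h₁) = (Fi i).map g₂.op (a f₂ h₂)
      apply hinj i Z₁
      rw [NatTrans.naturality_apply, NatTrans.naturality_apply, ha', ha',
        ← hcomp (f₁ ≫ j) (hfR f₁ h₁) g₁, ← hcomp (f₂ ≫ j) (hfR f₂ h₂) g₂]
      apply hxcongr
      rw [← Category.assoc, ← Category.assoc, e]
    obtain ⟨aU, haU, -⟩ := hFi i _ hSig _ hac
    refine ⟨U, j, (m i).app (op U) aU, Sieve.generate (Presieve.singleton g'), hj,
      ⟨g'.left t', ?_⟩, hSig, ?_⟩
    · rw [← Scheme.Hom.comp_apply, ← Over.comp_left, hgg, ht']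
    · intro Y f hf
      refine ⟨hfR f hf, ?_⟩
      rw [← NatTrans.naturality_apply, ← ha' f hf]
      exact congrArg _ (haU f hf)
  choose U j yU Sg hj hsurj hSg hy using key
  -- compatibility of the local sections
  have hstar : ∀ (τ₁ τ₂ : T.left) (Y : Over S) (l₁ : Y ⟶ U τ₁) (l₂ : Y ⟶ U τ₂),
      l₁ ≫ j τ₁ = l₂ ≫ j τ₂ → F.map l₁.op (yU τ₁) = F.map l₂.op (yU τ₂) := by
    intro τ₁ τ₂ Y l₁ l₂ e
    refine hsep Y ((Sg τ₁).pullback l₁ ⊓ (Sg τ₂).pullback l₂)
      ((J S).intersection_covering ((J S).pullback_stable l₁ (hSg τ₁))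
        ((J S).pullback_stable l₂ (hSg τ₂))) _ _ ?_
    rintro Y' h ⟨h1', h2'⟩
    obtain ⟨hf1, e1⟩ := hy τ₁ (h ≫ l₁) h1'
    obtain ⟨hf2, e2⟩ := hy τ₂ (h ≫ l₂) h2'
    rw [← hmc, ← hmc, e1, e2]
    apply hxcongr
    rw [Category.assoc, Category.assoc, e]
  let Z₀ : Sieve T :=
    { arrows := fun Y f => ∃ (τ : T.left) (k : Y ⟶ U τ), k ≫ j τ = f
      downward_closed := by
        rintro Y Y' f ⟨τ, k, rfl⟩ g
        exact ⟨τ, g ≫ k, Category.assoc _ _ _⟩ }
  have hZ₀mem : ∀ τ, Z₀ (j τ) := fun τ => ⟨τ, 𝟙 _, Category.id_comp _⟩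
  have hZ₀ : Z₀ ∈ QuotSh.J Scheme.zariskiPrecoverage S T :=
    mem_zariski_of_family U j (fun τ => ⟨τ, hsurj τ⟩) hj Z₀ hZ₀mem
  have hZ₀' : Z₀ ∈ J S T :=
    mem_J_of_fppf_family U j (fun τ => ⟨τ, hsurj τ⟩)
      (fun τ => have := hj τ; inferInstance) (fun τ => have := hj τ; inferInstance) Z₀ hZ₀mem
  let yfam : Presieve.FamilyOfElements F Z₀.arrows :=
    fun Y f hf => F.map hf.choose_spec.choose.op (yU hf.choose)
  have hyfam : yfam.Compatible := by
    intro Y₁ Y₂ Z₁ g₁ g₂ f₁ f₂ h₁ h₂ e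
    change F.map g₁.op (F.map h₁.choose_spec.choose.op (yU h₁.choose)) =
      F.map g₂.op (F.map h₂.choose_spec.choose.op (yU h₂.choose))
    rw [← hmc, ← hmc]
    apply hstar
    rw [Category.assoc, Category.assoc, h₁.choose_spec.choose_spec, h₂.choose_spec.choose_spec, e]
  obtain ⟨y, hyam, -⟩ := h1 Z₀ hZ₀ yfam hyfam
  have hyj : ∀ τ, F.map (j τ).op y = yU τ := by
    intro τ
    have h0 : F.map (j τ).op y = yfam (j τ) (hZ₀mem τ) := hyam (j τ) (hZ₀mem τ)
    rw [h0]
    change F.map (hZ₀mem τ).choose_spec.choose.op (yU (hZ₀mem τ).choose) = yU τ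
    have h2 := hstar (hZ₀mem τ).choose τ _ (hZ₀mem τ).choose_spec.choose (𝟙 _)
      (by rw [(hZ₀mem τ).choose_spec.choose_spec, Category.id_comp])
    rw [h2]
    simp
  refine ⟨y, ?_⟩
  intro Y f hf
  change F.map f.op y = x f hf
  let Γ : Sieve T :=
    { arrows := fun Y h => ∃ (τ : T.left) (k : Y ⟶ U τ), Sg τ k ∧ k ≫ j τ = h
      downward_closed := by
        rintro Y Y' h ⟨τ, k, hk, rfl⟩ g
        exact ⟨τ, g ≫ k, (Sg τ).downward_closed hk g, Category.assoc _ _ _⟩ }
  have hΓ : Γ ∈ J S T := by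
    refine (J S).transitive hZ₀' Γ ?_
    rintro Y h ⟨τ, k, rfl⟩
    refine (J S).superset_covering ?_ ((J S).pullback_stable k (hSg τ))
    intro Y' g hg
    exact ⟨τ, g ≫ k, hg, Category.assoc _ _ _⟩
  refine hsep Y (Γ.pullback f) ((J S).pullback_stable f hΓ) _ _ ?_
  rintro Y' h ⟨τ, k, hk, e⟩
  obtain ⟨hfk, ek⟩ := hy τ k hk
  rw [← hmc, ← e, hmc, hyj τ, ek, ← hcomp f hf h]
  exact hxcongr _ _ _ _ e
end Groth.Agent.S10111
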