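import Groth.Statements.S10114
import Groth.Agent.H50.Kernel

set_option autoImplicit false
universe u
open CategoryTheory CategoryTheory.Limits AlgebraicGeometry
open AlgSp

namespace Groth.Agent.S10114

open Groth.Agent.H50

/-- Let `s, t : R ⟶ U` be a pre-equivalence relation of algebraic spaces, `g : U' ⟶ U` a morphism of
algebraic spaces and `s', t' : R' ⟶ U'` the restriction of the pre-relation along `g` (so `R' = (U'
× U') ×_{U × U} R`). Then the induced map of quotient sheaves `U'/R' ⟶ U/R` is injective, and it is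
an isomorphism when `g` is a surjection of sheaves. -/
theorem result (S : Scheme.{u}) (R U R' U' : AlgSp.Sp S)
    (hR : AlgSp.IsAlgSpace R) (hU : AlgSp.IsAlgSpace U) (hR' : AlgSp.IsAlgSpace R') (hU' : AlgSp.IsAlgSpace U')
    (s t : R ⟶ U) (hpre : AlgSp.IsPreEqvRelSp s t) (g : U' ⟶ U) (s' t' : R' ⟶ U') (r : R' ⟶ R)
    (hsq : IsPullback (prod.lift t' s') r (prod.map g g) (prod.lift t s))
    (ψ : AlgSp.quotSp s' t' ⟶ AlgSp.quotSp s t) (hψ : AlgSp.quotSpπ s' t' ≫ ψ = g ≫ AlgSp.quotSpπ s t) :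
    Mono ψ ∧ (Epi g → IsIso ψ) := by
  have hπ : Epi (AlgSp.quotSpπ s t) :=
    epi_of_isColimit_cofork (c := Cofork.ofπ (AlgSp.quotSpπ s t) (AlgSp.quotSp_condition s t))
      (AlgSp.quotSpIsCoequalizer s t)
  have hπ' : Epi (AlgSp.quotSpπ s' t') :=
    epi_of_isColimit_cofork (c := Cofork.ofπ (AlgSp.quotSpπ s' t') (AlgSp.quotSp_condition s' t'))
      (AlgSp.quotSpIsCoequalizer s' t')
  have hmono : Mono ψ := by
    apply mono_of_forall_yon
    intro T α β hαβ
    obtain ⟨S1, hS1, h1⟩ := exists_local_lift (AlgSp.quotSpπ s' t') α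
    obtain ⟨S2, hS2, h2⟩ := exists_local_lift (AlgSp.quotSpπ s' t') β
    refine hom_ext_of_local α β ((AlgSp.J S).intersection_covering hS1 hS2) ?_
    rintro T' f ⟨hf1, hf2⟩
    obtain ⟨a', ha'⟩ := h1 f hf1
    obtain ⟨b', hb'⟩ := h2 f hf2
    rw [← ha', ← hb']
    have hab : (a' ≫ g) ≫ AlgSp.quotSpπ s t = (b' ≫ g) ≫ AlgSp.quotSpπ s t := by
      rw [Category.assoc, Category.assoc, ← hψ, ← Category.assoc, ← Category.assoc, ha', hb',
        Category.assoc, Category.assoc, hαβ]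
    obtain ⟨S3, hS3, h3⟩ := exists_local_rel s t hpre _ _ hab
    refine hom_ext_of_local _ _ hS3 ?_
    intro T'' k hk
    obtain ⟨ρ, hρ1, hρ2⟩ := h3 k hk
    obtain ⟨ρ', e1, e2⟩ : ∃ ρ' : (AlgSp.yon S).obj T'' ⟶ R',
        ρ' ≫ t' = (AlgSp.yon S).map k ≫ a' ∧ ρ' ≫ s' = (AlgSp.yon S).map k ≫ b' := by
      have hcomm : prod.lift ((AlgSp.yon S).map k ≫ a') ((AlgSp.yon S).map k ≫ b') ≫
          prod.map g g = ρ ≫ prod.lift t s := by
        apply Limits.prod.hom_ext
        · simp only [Category.assoc, prod.map_fst, prod.lift_fst_assoc, prod.lift_fst]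
          exact hρ1.symm
        · simp only [Category.assoc, prod.map_snd, prod.lift_snd_assoc, prod.lift_snd]
          exact hρ2.symm
      refine ⟨hsq.lift _ _ hcomm, ?_, ?_⟩
      · have := hsq.lift_fst _ _ hcomm =≫ prod.fst
        simpa only [Category.assoc, prod.lift_fst] using this
      · have := hsq.lift_fst _ _ hcomm =≫ prod.snd
        simpa only [Category.assoc, prod.lift_snd] using this
    calc (AlgSp.yon S).map k ≫ a' ≫ AlgSp.quotSpπ s' t'
        = (ρ' ≫ t') ≫ AlgSp.quotSpπ s' t' := by rw [e1, Category.assoc]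
      _ = (ρ' ≫ s') ≫ AlgSp.quotSpπ s' t' := by
          rw [Category.assoc, Category.assoc, AlgSp.quotSp_condition]
      _ = (AlgSp.yon S).map k ≫ b' ≫ AlgSp.quotSpπ s' t' := by rw [e2, Category.assoc]
  refine ⟨hmono, fun hg => ?_⟩
  have h1 : Epi (AlgSp.quotSpπ s' t' ≫ ψ) := by
    rw [hψ]
    exact epi_comp g (AlgSp.quotSpπ s t)
  have h2 : Epi ψ := epi_of_epi (AlgSp.quotSpπ s' t') ψ
  exact isIso_of_mono_of_epi ψ

end Groth.Agent.S10114
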