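import Groth.Statements.S10115
import Groth.Agent.H50.Kernel

set_option autoImplicit false
universe u
open CategoryTheory CategoryTheory.Limits AlgebraicGeometry
open AlgSp AlgSp.GroupoidSp

namespace Groth.Agent.S10115

open Groth.Agent.H50 AlgSp in
theorem aux {S : Scheme.{u}} {B : AlgSp.Sp S} (G G' : AlgSp.GroupoidSp B)
    (φ : AlgSp.GroupoidSp.Hom G' G) (hφ : φ.IsRestriction)
    (ψ : AlgSp.quotSp G'.s G'.t ⟶ AlgSp.quotSp G.s G.t)
    (hψ' : AlgSp.quotSpπ G'.s G'.t ≫ ψ = φ.fU ≫ AlgSp.quotSpπ G.s G.t) :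
    Mono ψ ∧ (Epi (pullback.snd φ.fU G.t ≫ G.s) → IsIso ψ) := by
  have hπ : Epi (AlgSp.quotSpπ G.s G.t) :=
    epi_of_isColimit_cofork (c := Cofork.ofπ (AlgSp.quotSpπ G.s G.t) (AlgSp.quotSp_condition G.s G.t))
      (AlgSp.quotSpIsCoequalizer G.s G.t)
  have hπ' : Epi (AlgSp.quotSpπ G'.s G'.t) :=
    epi_of_isColimit_cofork
      (c := Cofork.ofπ (AlgSp.quotSpπ G'.s G'.t) (AlgSp.quotSp_condition G'.s G'.t))
      (AlgSp.quotSpIsCoequalizer G'.s G'.t)
  -- the groupoid gives a pre-equivalence relation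
  have hpre : AlgSp.IsPreEqvRelSp G.s G.t := by
    intro T
    refine ⟨fun a => ⟨a ≫ G.e, ?_, ?_⟩, ?_, ?_⟩
    · rw [Category.assoc, G.e_t, Category.comp_id]
    · rw [Category.assoc, G.e_s, Category.comp_id]
    · rintro a b ⟨r, rfl, rfl⟩
      refine ⟨r ≫ G.i, ?_, ?_⟩
      · rw [Category.assoc, G.i_t]
      · rw [Category.assoc, G.i_s]
    · rintro a b c ⟨r₁, rfl, h₁⟩ ⟨r₂, h₂, rfl⟩
      have h : r₁ ≫ G.s = r₂ ≫ G.t := h₁.trans h₂.symm
      exact ⟨pullback.lift r₁ r₂ h ≫ G.c, G.comp_t r₁ r₂ h, G.comp_s r₁ r₂ h⟩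
  have hmono : Mono ψ := by
    apply mono_of_forall_yon
    intro T α β hαβ
    obtain ⟨S1, hS1, h1⟩ := exists_local_lift (AlgSp.quotSpπ G'.s G'.t) α
    obtain ⟨S2, hS2, h2⟩ := exists_local_lift (AlgSp.quotSpπ G'.s G'.t) β
    refine hom_ext_of_local α β ((AlgSp.J S).intersection_covering hS1 hS2) ?_
    rintro T' f ⟨hf1, hf2⟩
    obtain ⟨a', ha'⟩ := h1 f hf1
    obtain ⟨b', hb'⟩ := h2 f hf2
    rw [← ha', ← hb']
    have hab : (a' ≫ φ.fU) ≫ AlgSp.quotSpπ G.s G.t = (b' ≫ φ.fU) ≫ AlgSp.quotSpπ G.s G.t := by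
      rw [Category.assoc, Category.assoc, ← hψ', ← Category.assoc, ← Category.assoc, ha', hb',
        Category.assoc, Category.assoc, hαβ]
    obtain ⟨S3, hS3, h3⟩ := exists_local_rel G.s G.t hpre _ _ hab
    refine hom_ext_of_local _ _ hS3 ?_
    intro T'' k hk
    obtain ⟨ρ, hρ1, hρ2⟩ := h3 k hk
    obtain ⟨ρ', e1, e2⟩ : ∃ ρ' : (AlgSp.yon S).obj T'' ⟶ G'.R,
        ρ' ≫ G'.t = (AlgSp.yon S).map k ≫ a' ∧ ρ' ≫ G'.s = (AlgSp.yon S).map k ≫ b' := by
      have hm : ((AlgSp.yon S).map k ≫ a') ≫ G'.pU = ((AlgSp.yon S).map k ≫ b') ≫ G'.pU := by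
        rw [← φ.fU_over, ← Category.assoc, ← Category.assoc, Category.assoc _ a' φ.fU,
          Category.assoc _ b' φ.fU, ← hρ1, ← hρ2, Category.assoc, Category.assoc, G.t_over,
          G.s_over]
      have hcomm : ρ ≫ G.j = pullback.lift _ _ hm ≫ φ.prodMap := by
        apply pullback.hom_ext
        · rw [Category.assoc, G.j_fst, hρ1, Category.assoc, GroupoidSp.Hom.prodMap,
            pullback.lift_fst, pullback.lift_fst_assoc, Category.assoc]
        · rw [Category.assoc, G.j_snd, hρ2, Category.assoc, GroupoidSp.Hom.prodMap,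
            pullback.lift_snd, pullback.lift_snd_assoc, Category.assoc]
      refine ⟨hφ.lift _ _ hcomm, ?_, ?_⟩
      · have := hφ.lift_snd _ _ hcomm =≫ pullback.fst _ _
        simpa only [Category.assoc, G'.j_fst, pullback.lift_fst] using this
      · have := hφ.lift_snd _ _ hcomm =≫ pullback.snd _ _
        simpa only [Category.assoc, G'.j_snd, pullback.lift_snd] using this
    calc (AlgSp.yon S).map k ≫ a' ≫ AlgSp.quotSpπ G'.s G'.t
        = (ρ' ≫ G'.t) ≫ AlgSp.quotSpπ G'.s G'.t := by rw [e1, Category.assoc]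
      _ = (ρ' ≫ G'.s) ≫ AlgSp.quotSpπ G'.s G'.t := by
          rw [Category.assoc, Category.assoc, AlgSp.quotSp_condition]
      _ = (AlgSp.yon S).map k ≫ b' ≫ AlgSp.quotSpπ G'.s G'.t := by rw [e2, Category.assoc]
  refine ⟨hmono, fun hE => ?_⟩
  have key : (pullback.snd φ.fU G.t ≫ G.s) ≫ AlgSp.quotSpπ G.s G.t =
      (pullback.fst φ.fU G.t ≫ AlgSp.quotSpπ G'.s G'.t) ≫ ψ := by
    rw [Category.assoc, AlgSp.quotSp_condition, ← Category.assoc, ← pullback.condition,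
      Category.assoc, Category.assoc, hψ']
  have h1 : Epi ((pullback.fst φ.fU G.t ≫ AlgSp.quotSpπ G'.s G'.t) ≫ ψ) := by
    rw [← key]
    exact epi_comp _ (AlgSp.quotSpπ G.s G.t)
  have h2 : Epi ψ := epi_of_epi (pullback.fst φ.fU G.t ≫ AlgSp.quotSpπ G'.s G'.t) ψ
  exact isIso_of_mono_of_epi ψ

/-- For a groupoid `(U, R, s, t, c)` in algebraic spaces over `B`, let `(U', R', s', t', c')` be its
restriction along a morphism `g : U' ⟶ U` over `B`. Then `U'/R' ⟶ U/R` is injective; if the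
composite `h : U' ×_{g, U, t} R ⟶ R ⟶ U` of the projection with `s` is a surjection of fppf sheaves
(for instance if `g` is), then it is bijective. -/
theorem result (S : Scheme.{u}) (B : AlgSp.Sp S) (hB : AlgSp.IsAlgSpace B)
    (G G' : AlgSp.GroupoidSp B) (hU : AlgSp.IsAlgSpace G.U) (hR : AlgSp.IsAlgSpace G.R)
    (hU' : AlgSp.IsAlgSpace G'.U) (hR' : AlgSp.IsAlgSpace G'.R) (φ : AlgSp.GroupoidSp.Hom G' G)
    (hφ : φ.IsRestriction) (ψ : G'.quot ⟶ G.quot) (hψ : G'.quotπ ≫ ψ = φ.fU ≫ G.quotπ) :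
    Mono ψ ∧ (Epi (pullback.snd φ.fU G.t ≫ G.s) → IsIso ψ) := by
  exact aux G G' φ hφ ψ hψ

end Groth.Agent.S10115
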