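import Groth.Statements.S10117
import Groth.Agent.H50.Action

set_option autoImplicit false
universe u
open CategoryTheory CategoryTheory.Limits AlgebraicGeometry MonoidalCategory MonObj
open AlgSp AlgSp.GAction

namespace Groth.Agent.S10117

/-- If a group algebraic space `G` over `B` acts freely on an algebraic space `X` over `B`, then `G ×_B
X ⟶ X ×_B X`, `(g, x) ↦ (g x, x)`, is a monomorphism. (The published statement is an equivalence;
this row states only the direction from free to monomorphism.) -/
theorem result (S : Scheme.{u}) (B : AlgSp.Sp S) (hB : AlgSp.IsAlgSpace B)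
    (G X : Over B) [GrpObj G] (hG : AlgSp.IsAlgSpace G.left) (hX : AlgSp.IsAlgSpace X.left)
    (a : AlgSp.GAction G X) (ha : a.IsFree) :
    Mono (CartesianMonoidalCategory.lift a.act (CartesianMonoidalCategory.snd G X)).left := by
  apply Groth.Agent.H50.mono_of_forall_yon
  intro T u v h
  have hβ : v ≫ (G ⊗ X).hom = u ≫ (G ⊗ X).hom := by
    have := congrArg (fun m => m ≫ (X ⊗ X).hom) h
    simpa only [Category.assoc, Over.w] using this.symm
  let u' : Over.mk (u ≫ (G ⊗ X).hom) ⟶ G ⊗ X := Over.homMk u rfl
  let v' : Over.mk (u ≫ (G ⊗ X).hom) ⟶ G ⊗ X := Over.homMk v hβ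
  have huv : u' ≫ CartesianMonoidalCategory.lift a.act (CartesianMonoidalCategory.snd G X) =
      v' ≫ CartesianMonoidalCategory.lift a.act (CartesianMonoidalCategory.snd G X) :=
    Over.OverMorphism.ext (by rw [Over.comp_left, Over.comp_left]; exact h)
  have h1 : u' ≫ a.act = v' ≫ a.act := by
    have := congrArg (fun m => m ≫ CartesianMonoidalCategory.fst X X) huv
    simpa using this
  have h2 : u' ≫ CartesianMonoidalCategory.snd G X = v' ≫ CartesianMonoidalCategory.snd G X := by
    have := congrArg (fun m => m ≫ CartesianMonoidalCategory.snd X X) huv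
    simpa using this
  have hu : u' = CartesianMonoidalCategory.lift (u' ≫ CartesianMonoidalCategory.fst G X)
      (u' ≫ CartesianMonoidalCategory.snd G X) := by simp
  have hv : v' = CartesianMonoidalCategory.lift (v' ≫ CartesianMonoidalCategory.fst G X)
      (u' ≫ CartesianMonoidalCategory.snd G X) := by rw [h2]; simp
  have h3 : u' ≫ CartesianMonoidalCategory.fst G X = v' ≫ CartesianMonoidalCategory.fst G X := by
    apply Groth.Agent.H50.gaction_free_cancel a ha _ _ _ (u' ≫ CartesianMonoidalCategory.snd G X)
    rw [← hu, ← hv]
    exact h1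
  have : u' = v' := by rw [hu, hv, h3]
  have := congrArg (fun m => m.left) this
  simpa [u', v'] using this

end Groth.Agent.S10117
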