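import Groth.Statements.S10118
import Groth.Agent.H50.Where2
import Groth.Agent.H50.AtMor
import Groth.Agent.S10639
import Groth.Agent.S10313

set_option autoImplicit false
universe u
open CategoryTheory CategoryTheory.Limits AlgebraicGeometry MonoidalCategory MonObj
open AlgSp AlgSp.GAction

namespace Groth.Agent.S10118


open Groth.Agent.H52 Groth.Agent.H50 CartesianMonoidalCategory

theorem locP_lqf_iff {S : Scheme.{u}} {X Y : AlgSp.Space S} (f : X ⟶ Y) :
    AlgSp.LocP (@LocallyQuasiFinite ⊓ @LocallyOfFiniteType) f.hom ↔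
      ∀ x, AlgSp.HasAtMor (fun U _ h u => ∃ W : U.Opens, u ∈ W ∧ LocallyQuasiFinite (W.ι ≫ h) ∧
        LocallyOfFiniteType (W.ι ≫ h)) f.hom x := by
  constructor
  · intro hf x
    obtain ⟨U, V, a, b, h, u, ha, hb, comm, hu⟩ :=
      exists_chart_diagram_at X.property Y.property f.hom x
    have hP : (@LocallyQuasiFinite ⊓ @LocallyOfFiniteType : MorphismProperty Scheme.{u})
        ((⊤ : U.left.Opens).ι ≫ h.left) := by
      have := (etLocal_lqf.{u}).mult
      exact MorphismProperty.comp_mem _ _ _ (etLocal_lqf.etale _ inferInstance)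
        (hf a b h ha hb comm)
    exact ⟨U, V, a, b, h, u, ha, hb, comm, hu, ⊤, trivial, hP.1, hP.2⟩
  · intro H
    refine Groth.Agent.H50.locP_of_forall_hasAtMor_nbhd etLocal_lqf f.hom ?_
    intro x
    obtain ⟨U, V, a, b, h, u, ha, hb, comm, hu, W, huW, h1, h2⟩ := H x
    exact ⟨U, V, a, b, h, u, ha, hb, comm, hu, W, huW, h1, h2⟩

theorem locP_iso_comp {S : Scheme.{u}} {P : MorphismProperty Scheme.{u}} {F F' G : AlgSp.Sp S}
    (e : F' ⟶ F) [IsIso e] {h : F ⟶ G} (hh : AlgSp.LocP P h) : AlgSp.LocP P (e ≫ h) := by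
  intro U V a b k ha hb comm
  exact hh (a ≫ e) b k
    (((AlgSp.RepWith @Etale).cancel_right_of_respectsIso a e).2 ha) hb
    (by rw [Category.assoc, comm])

theorem transfer {S : Scheme.{u}} {B : AlgSp.Sp S} (hB : AlgSp.IsAlgSpace B)
    (G X : Over B) [GrpObj G] (hG : AlgSp.IsAlgSpace G.left) (hX : AlgSp.IsAlgSpace X.left)
    (a : AlgSp.GAction G X) (ha : a.IsPseudoTorsor)
    (P : MorphismProperty Scheme.{u}) (hP : EtLocal P)
    (Q : ∀ (U V : Scheme.{u}), (U ⟶ V) → ↥U → Prop)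
    (hi : ∀ {X Y : AlgSp.Space S} (f : X ⟶ Y),
      AlgSp.LocP P f.hom ↔ ∀ x, AlgSp.HasAtMor Q f.hom x)
    (hii : ∀ (X'' : AlgSp.Space S) (b f'' : X'' ⟶ (⟨X.left, hX⟩ : AlgSp.Space S)),
      IsPullback b.hom f''.hom X.hom X.hom → ∀ x'', AlgSp.HasAtMor Q f''.hom x'' →
        AlgSp.HasAtMor Q X.hom (AlgSp.Points.map b.hom x''))
    (hGP : AlgSp.LocP P G.hom) : AlgSp.LocP P X.hom := by
  haveI : IsIso (lift a.act (snd G X)) := ha
  have sqGX : IsPullback (fst G X).left (snd G X).left G.hom X.hom :=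
    IsPullback.of_hasPullback G.hom X.hom
  have sqXX : IsPullback (fst X X).left (snd X X).left X.hom X.hom :=
    IsPullback.of_hasPullback X.hom X.hom
  have h1 : AlgSp.LocP P (snd G X).left := locP_baseChange hP hG hB hX sqGX hGP
  have e1 : snd X X = inv (lift a.act (snd G X)) ≫ snd G X := by
    rw [IsIso.eq_inv_comp, lift_snd]
  have e2 : (snd X X).left = (inv (lift a.act (snd G X))).left ≫ (snd G X).left := by
    rw [← Over.comp_left, ← e1]
  haveI : IsIso (inv (lift a.act (snd G X))).left :=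
    inferInstanceAs (IsIso ((Over.forget B).map (inv (lift a.act (snd G X)))))
  have h2 : AlgSp.LocP P (snd X X).left := by rw [e2]; exact locP_iso_comp _ h1
  let Xs : AlgSp.Space S := ⟨X.left, hX⟩
  have hXX : AlgSp.IsAlgSpace (X ⊗ X).left := isAlgSpace_of_isPullback sqXX hB.diag hX hX
  let XXs : AlgSp.Space S := ⟨(X ⊗ X).left, hXX⟩
  let pr1 : XXs ⟶ Xs := ObjectProperty.homMk (fst X X).left
  let pr2 : XXs ⟶ Xs := ObjectProperty.homMk (snd X X).left
  have h3 : ∀ x'', AlgSp.HasAtMor Q pr2.hom x'' := (hi pr2).1 h2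
  let Bs : AlgSp.Space S := ⟨B, hB⟩
  let fX : Xs ⟶ Bs := ObjectProperty.homMk X.hom
  rw [show X.hom = fX.hom from rfl, hi fX]
  intro x
  have hΔ : (lift (𝟙 X) (𝟙 X)).left ≫ (fst X X).left = 𝟙 X.left := by
    rw [← Over.comp_left, lift_fst]; rfl
  have key := hii XXs pr1 pr2 sqXX (AlgSp.Points.map (lift (𝟙 X) (𝟙 X)).left x) (h3 _)
  rwa [show pr1.hom = (fst X X).left from rfl, ← AlgSp.Points.map_comp, hΔ,
    AlgSp.Points.map_id] at key

/-- Let `X` be a pseudo-torsor under a group algebraic space `G` over an algebraic space `B`, where both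
`G` and `X` are locally of finite type over `B`. Whenever `G ⟶ B` is unramified, `X ⟶ B` is
unramified too; likewise, local quasi-finiteness passes from `G ⟶ B` to `X ⟶ B`. -/
theorem result (S : Scheme.{u}) (B : AlgSp.Sp S) (hB : AlgSp.IsAlgSpace B)
    (G X : Over B) [GrpObj G] (hG : AlgSp.IsAlgSpace G.left) (hX : AlgSp.IsAlgSpace X.left)
    (a : AlgSp.GAction G X) (ha : a.IsPseudoTorsor)
    (hGt : AlgSp.LocP @LocallyOfFiniteType G.hom) (hXt : AlgSp.LocP @LocallyOfFiniteType X.hom) :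
    (AlgSp.LocP (@LocallyOfFiniteType ⊓ @FormallyUnramified) G.hom →
        AlgSp.LocP (@LocallyOfFiniteType ⊓ @FormallyUnramified) X.hom) ∧
      (AlgSp.LocP (@LocallyQuasiFinite ⊓ @LocallyOfFiniteType) G.hom →
        AlgSp.LocP (@LocallyQuasiFinite ⊓ @LocallyOfFiniteType) X.hom) := by
  constructor
  · intro hGu
    refine transfer hB G X hG hX a ha _ etLocal_unramified
      (fun U _ h u => ∃ W : U.Opens, u ∈ W ∧ LocallyOfFiniteType (W.ι ≫ h) ∧
        FormallyUnramified (W.ι ≫ h))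
      (fun f => Groth.Agent.S10639.locP_unram_iff f) ?_ hGu
    intro X'' b f'' sq x'' hx''
    have e := (Groth.Agent.S10312.result (X := (⟨X.left, hX⟩ : AlgSp.Space S))
      (Y := (⟨B, hB⟩ : AlgSp.Space S)) (Z := (⟨B, hB⟩ : AlgSp.Space S))
      (Z' := (⟨X.left, hX⟩ : AlgSp.Space S)) (Y' := (⟨X.left, hX⟩ : AlgSp.Space S)) (X' := X'')
      (ObjectProperty.homMk X.hom) (ObjectProperty.homMk X.hom) (𝟙 _) (Category.comp_id _) hXt
      (ObjectProperty.homMk X.hom) (ObjectProperty.homMk X.hom) (𝟙 _) IsPullback.of_id_snd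
      b f'' sq).2
    exact (Set.ext_iff.1 e x'').1 hx''
  · intro hGq
    refine transfer hB G X hG hX a ha _ etLocal_lqf
      (fun U _ h u => ∃ W : U.Opens, u ∈ W ∧ LocallyQuasiFinite (W.ι ≫ h) ∧
        LocallyOfFiniteType (W.ι ≫ h))
      (fun f => locP_lqf_iff f) ?_ hGq
    intro X'' b f'' sq x'' hx''
    obtain ⟨X', j, -, -, -, hbc⟩ := Groth.Agent.S10313.result
      (X := (⟨X.left, hX⟩ : AlgSp.Space S)) (Y := (⟨B, hB⟩ : AlgSp.Space S))
      (ObjectProperty.homMk X.hom) hXt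
    have h1 := (hbc (⟨X.left, hX⟩ : AlgSp.Space S) X'' (ObjectProperty.homMk X.hom) b f'' sq x'').2
      hx''
    have h2 := (hbc (⟨B, hB⟩ : AlgSp.Space S) (⟨X.left, hX⟩ : AlgSp.Space S) (𝟙 _) (𝟙 _)
      (ObjectProperty.homMk X.hom) IsPullback.of_id_fst (AlgSp.Points.map b.hom x'')).1
      (by
        rw [show (𝟙 (⟨X.left, hX⟩ : AlgSp.Space S) : (⟨X.left, hX⟩ : AlgSp.Space S) ⟶ _).hom =
          𝟙 X.left from rfl, AlgSp.Points.map_id]
        exact h1)
    exact h2

end Groth.Agent.S10118
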