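import Groth.Statements.S10121
import Groth.Agent.H50.Points

set_option autoImplicit false
universe u
open CategoryTheory CategoryTheory.Limits AlgebraicGeometry
open AlgSp

namespace Groth.Agent.S10121

/-- For a pre-equivalence relation `s, t : R ⟶ U` of algebraic spaces, the relation on points of `U`
given by `x ∼ y` when some point `r` of `R` has `t(r) = x` and `s(r) = y` is an equivalence relation
on `|U|`. -/
theorem result (S : Scheme.{u}) (R U : AlgSp.Sp S)
    (hR : AlgSp.IsAlgSpace R) (hU : AlgSp.IsAlgSpace U) (s t : R ⟶ U) (h : AlgSp.IsPreEqvRelSp s t) :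
    _root_.Equivalence (fun x y : AlgSp.Points U =>
      ∃ r : AlgSp.Points R, AlgSp.Points.map t r = x ∧ AlgSp.Points.map s r = y) := by
  refine ⟨?_, ?_, ?_⟩
  · intro x
    induction x using AlgSp.Points.ind with
    | h p =>
      obtain ⟨r, hr1, hr2⟩ := (h p.pt).refl p.toHom
      refine ⟨AlgSp.Points.mk (Groth.Agent.H50.fieldPtOfHom p.str r), ?_, ?_⟩
      · rw [Groth.Agent.H50.points_map_mk_fieldPtOfHom, hr1, Groth.Agent.H50.fieldPtOfHom_toHom]
      · rw [Groth.Agent.H50.points_map_mk_fieldPtOfHom, hr2, Groth.Agent.H50.fieldPtOfHom_toHom]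
  · rintro x y ⟨ρ, rfl, rfl⟩
    induction ρ using AlgSp.Points.ind with
    | h q =>
      obtain ⟨r, hr1, hr2⟩ := (h q.pt).symm ⟨q.toHom, rfl, rfl⟩
      refine ⟨AlgSp.Points.mk (Groth.Agent.H50.fieldPtOfHom q.str r), ?_, ?_⟩
      · rw [Groth.Agent.H50.points_map_mk_fieldPtOfHom, hr1,
          ← Groth.Agent.H50.points_map_mk_fieldPtOfHom, Groth.Agent.H50.fieldPtOfHom_toHom]
      · rw [Groth.Agent.H50.points_map_mk_fieldPtOfHom, hr2,
          ← Groth.Agent.H50.points_map_mk_fieldPtOfHom, Groth.Agent.H50.fieldPtOfHom_toHom]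
  · rintro x y z ⟨ρ1, rfl, h1⟩ ⟨ρ2, h2, rfl⟩
    induction ρ1 using AlgSp.Points.ind with
    | h q1 =>
    induction ρ2 using AlgSp.Points.ind with
    | h q2 =>
      rw [← h2, AlgSp.Points.map_mk, AlgSp.Points.map_mk,
        Groth.Agent.H50.mk_eq_mk_iff_toHom] at h1
      obtain ⟨Ω, _, w, (α : Over.mk w ⟶ q1.pt), (β : Over.mk w ⟶ q2.pt), hαβ⟩ := h1
      rw [AlgSp.FieldPt.toHom_map, AlgSp.FieldPt.toHom_map] at hαβ
      replace hαβ : (AlgSp.yon S).map α ≫ q1.toHom ≫ s = (AlgSp.yon S).map β ≫ q2.toHom ≫ t :=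
        hαβ
      obtain ⟨r, hr1, hr2⟩ := (h (Over.mk w)).trans
        ⟨(AlgSp.yon S).map α ≫ q1.toHom, rfl, rfl⟩
        ⟨(AlgSp.yon S).map β ≫ q2.toHom, by rw [Category.assoc, Category.assoc, hαβ], rfl⟩
      refine ⟨AlgSp.Points.mk (Groth.Agent.H50.fieldPtOfHom w r), ?_, ?_⟩
      · rw [Groth.Agent.H50.points_map_mk_fieldPtOfHom, hr1, Category.assoc,
          Groth.Agent.H50.mk_fieldPtOfHom_comp q1.str w α,
          ← Groth.Agent.H50.points_map_mk_fieldPtOfHom, Groth.Agent.H50.fieldPtOfHom_toHom]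
      · rw [Groth.Agent.H50.points_map_mk_fieldPtOfHom, hr2, Category.assoc,
          Groth.Agent.H50.mk_fieldPtOfHom_comp q2.str w β,
          ← Groth.Agent.H50.points_map_mk_fieldPtOfHom, Groth.Agent.H50.fieldPtOfHom_toHom]

end Groth.Agent.S10121
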