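import Groth.Statements.S10123
import Groth.Agent.H52.GpdRestrict

set_option autoImplicit false
universe u
open CategoryTheory CategoryTheory.Limits AlgebraicGeometry
open AlgSp AlgSp.GroupoidSp
open Groth.Agent.H52

namespace Groth.Agent.S10123

/-- Let `(U', R', s', t', c')` be the restriction of a groupoid in algebraic spaces `(U, R, s, t, c)`
over `B` along `g : U' ⟶ U`. If `s, t, g` are locally of finite type (resp. locally of finite
presentation, resp. flat) then so are `s', t'`. -/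
theorem result (S : Scheme.{u}) (B : AlgSp.Sp S) (hB : AlgSp.IsAlgSpace B)
    (G G' : AlgSp.GroupoidSp B) (hU : AlgSp.IsAlgSpace G.U) (hR : AlgSp.IsAlgSpace G.R)
    (hU' : AlgSp.IsAlgSpace G'.U) (hR' : AlgSp.IsAlgSpace G'.R) (φ : AlgSp.GroupoidSp.Hom G' G)
    (hφ : φ.IsRestriction) :
    (AlgSp.LocP @LocallyOfFiniteType G.s → AlgSp.LocP @LocallyOfFiniteType G.t →
        AlgSp.LocP @LocallyOfFiniteType φ.fU →
        AlgSp.LocP @LocallyOfFiniteType G'.s ∧ AlgSp.LocP @LocallyOfFiniteType G'.t) ∧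
      (AlgSp.LocP @LocallyOfFinitePresentation G.s → AlgSp.LocP @LocallyOfFinitePresentation G.t →
        AlgSp.LocP @LocallyOfFinitePresentation φ.fU →
        AlgSp.LocP @LocallyOfFinitePresentation G'.s ∧ AlgSp.LocP @LocallyOfFinitePresentation G'.t) ∧
      (AlgSp.LocP @Flat G.s → AlgSp.LocP @Flat G.t → AlgSp.LocP @Flat φ.fU →
        AlgSp.LocP @Flat G'.s ∧ AlgSp.LocP @Flat G'.t) := by
  have hφ' : IsPullback φ.fR G'.j G.j φ.prodMap := hφ
  have huniv0 : ∀ {T : AlgSp.Sp S} (α : T ⟶ G.R) (a b : T ⟶ G'.U), α ≫ G.t = a ≫ φ.fU →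
      α ≫ G.s = b ≫ φ.fU → ∃ l : T ⟶ G'.R, l ≫ φ.fR = α ∧ l ≫ G'.t = a ∧ l ≫ G'.s = b := by
    intro T α a b h1 h2
    have hab : a ≫ G'.pU = b ≫ G'.pU := by
      rw [← φ.fU_over, ← Category.assoc, ← h1, ← Category.assoc, ← h2, Category.assoc,
        Category.assoc, G.t_over, G.s_over]
    have hcond : α ≫ G.j = pullback.lift a b hab ≫ φ.prodMap := by
      apply pullback.hom_ext
      · rw [Category.assoc, G.j_fst, Category.assoc]
        simp only [Hom.prodMap, pullback.map, pullback.lift_fst, pullback.lift_fst_assoc]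
        exact h1
      · rw [Category.assoc, G.j_snd, Category.assoc]
        simp only [Hom.prodMap, pullback.map, pullback.lift_snd, pullback.lift_snd_assoc]
        exact h2
    refine ⟨hφ'.lift α (pullback.lift a b hab) hcond, hφ'.lift_fst _ _ _, ?_, ?_⟩
    · rw [← G'.j_fst, ← Category.assoc, hφ'.lift_snd, pullback.lift_fst]
    · rw [← G'.j_snd, ← Category.assoc, hφ'.lift_snd, pullback.lift_snd]
  have hext0 : ∀ {T : AlgSp.Sp S} (l l' : T ⟶ G'.R), l ≫ φ.fR = l' ≫ φ.fR →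
      l ≫ G'.t = l' ≫ G'.t → l ≫ G'.s = l' ≫ G'.s → l = l' := by
    intro T l l' h1 h2 h3
    apply hφ'.hom_ext h1
    apply pullback.hom_ext
    · rw [Category.assoc, Category.assoc, G'.j_fst]; exact h2
    · rw [Category.assoc, Category.assoc, G'.j_snd]; exact h3
  have key : ∀ (P : MorphismProperty Scheme.{u}), EtLocal P → AlgSp.LocP P G.s → AlgSp.LocP P G.t →
      AlgSp.LocP P φ.fU → AlgSp.LocP P G'.s ∧ AlgSp.LocP P G'.t := by
    intro P hP h1 h2 h3
    refine ⟨locP_restrict_aux hP hR hU hU' G.s G.t φ.fU G'.s G'.t φ.fR φ.comm_s φ.comm_t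
      huniv0 hext0 h1 h3,
      locP_restrict_aux hP hR hU hU' G.t G.s φ.fU G'.t G'.s φ.fR φ.comm_t φ.comm_s
      (fun α a b e1 e2 => ?_) (fun l l' e1 e2 e3 => hext0 l l' e1 e3 e2) h2 h3⟩
    obtain ⟨l, e3, e4, e5⟩ := huniv0 α b a e2 e1
    exact ⟨l, e3, e5, e4⟩
  exact ⟨key _ etLocal_lft, key _ etLocal_lfp, key _ etLocal_flat⟩

end Groth.Agent.S10123
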