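import Groth.Statements.S10124
import Groth.Agent.S10122

set_option autoImplicit false
universe u
open CategoryTheory CategoryTheory.Limits AlgebraicGeometry
open AlgSp AlgSp.GroupoidSp

namespace Groth.Agent.S10124

open Groth.Agent.S10122

variable {S : Scheme.{u}} {B : AlgSp.Sp S} (G : AlgSp.GroupoidSp B)

section
variable {T : AlgSp.Sp S} (v v' : T ⟶ G.U) (δ : T ⟶ G.R)

theorem trans_h1 (hδt : δ ≫ G.t = v) :
    pullback.snd v G.s ≫ G.s = (pullback.fst v G.s ≫ δ) ≫ G.t := by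
  rw [Category.assoc, hδt, pullback.condition]

theorem trans_h2 (hδs : δ ≫ G.s = v')
    (h1 : pullback.snd v G.s ≫ G.s = (pullback.fst v G.s ≫ δ) ≫ G.t) :
    pullback.fst v G.s ≫ v' =
      S10122.cmp G (pullback.snd v G.s) (pullback.fst v G.s ≫ δ) h1 ≫ G.s := by
  have e : S10122.cmp G (pullback.snd v G.s) (pullback.fst v G.s ≫ δ) h1 ≫ G.s =
      (pullback.fst v G.s ≫ δ) ≫ G.s := G.comp_s _ _ h1
  rw [e, Category.assoc, hδs]

/-- Translation of the fibre of `s` over `v` to the fibre over `v'` by an arrow `δ : v' ⟶ v`. -/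
noncomputable def Φ (hδt : δ ≫ G.t = v) (hδs : δ ≫ G.s = v') :
    pullback v G.s ⟶ pullback v' G.s :=
  pullback.lift (pullback.fst v G.s)
    (S10122.cmp G (pullback.snd v G.s) (pullback.fst v G.s ≫ δ) (trans_h1 G v δ hδt))
    (trans_h2 G v v' δ hδs _)

theorem Φ_fst (hδt : δ ≫ G.t = v) (hδs : δ ≫ G.s = v') : Φ G v v' δ hδt hδs ≫ pullback.fst v' G.s = pullback.fst v G.s :=
  pullback.lift_fst _ _ _

theorem Φ_snd (hδt : δ ≫ G.t = v) (hδs : δ ≫ G.s = v') : Φ G v v' δ hδt hδs ≫ pullback.snd v' G.s =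
    S10122.cmp G (pullback.snd v G.s) (pullback.fst v G.s ≫ δ) (trans_h1 G v δ hδt) :=
  pullback.lift_snd _ _ _

end

theorem Φ_comp {T : AlgSp.Sp S} (v v' : T ⟶ G.U) (δ δ' : T ⟶ G.R) (hδt : δ ≫ G.t = v)
    (hδs : δ ≫ G.s = v') (hδ't : δ' ≫ G.t = v') (hδ's : δ' ≫ G.s = v)
    (h : δ ≫ G.s = δ' ≫ G.t) (hinv : S10122.cmp G δ δ' h = v ≫ G.e) :
    Φ G v v' δ hδt hδs ≫ Φ G v' v δ' hδ't hδ's = 𝟙 _ := by
  apply pullback.hom_ext
  · rw [Category.assoc, Φ_fst, Φ_fst, Category.id_comp]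
  · rw [Category.assoc, Φ_snd, Category.id_comp, precomp_cmp]
    have hX : S10122.cmp G (pullback.snd v G.s) (pullback.fst v G.s ≫ δ) (trans_h1 G v δ hδt) ≫ G.s =
        (pullback.fst v G.s ≫ δ') ≫ G.t := by
      have e : S10122.cmp G (pullback.snd v G.s) (pullback.fst v G.s ≫ δ) (trans_h1 G v δ hδt) ≫ G.s =
          (pullback.fst v G.s ≫ δ) ≫ G.s := G.comp_s _ _ _
      rw [e, Category.assoc, Category.assoc, h]
    have e1 : S10122.cmp G (Φ G v v' δ hδt hδs ≫ pullback.snd v' G.s)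
        (Φ G v v' δ hδt hδs ≫ pullback.fst v' G.s ≫ δ')
        (precomp_h G _ (trans_h1 G v' δ' hδ't)) =
        S10122.cmp G (S10122.cmp G (pullback.snd v G.s) (pullback.fst v G.s ≫ δ) (trans_h1 G v δ hδt))
          (pullback.fst v G.s ≫ δ') hX :=
      cmp_congr G _ hX (Φ_snd G v v' δ hδt hδs) (by rw [← Category.assoc, Φ_fst])
    have hY : (pullback.fst v G.s ≫ δ) ≫ G.s = (pullback.fst v G.s ≫ δ') ≫ G.t := by
      rw [Category.assoc, Category.assoc, h]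
    have hZ : pullback.snd v G.s ≫ G.s =
        S10122.cmp G (pullback.fst v G.s ≫ δ) (pullback.fst v G.s ≫ δ') hY ≫ G.t :=
      (trans_h1 G v δ hδt).trans (G.comp_t _ _ hY).symm
    have e2 : S10122.cmp G (S10122.cmp G (pullback.snd v G.s) (pullback.fst v G.s ≫ δ) (trans_h1 G v δ hδt))
          (pullback.fst v G.s ≫ δ') hX =
        S10122.cmp G (pullback.snd v G.s)
          (S10122.cmp G (pullback.fst v G.s ≫ δ) (pullback.fst v G.s ≫ δ') hY) hZ :=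
      G.assoc _ _ _ (trans_h1 G v δ hδt) hY
    have e3 : S10122.cmp G (pullback.fst v G.s ≫ δ) (pullback.fst v G.s ≫ δ') hY =
        pullback.snd v G.s ≫ G.s ≫ G.e := by
      have e := precomp_cmp G (pullback.fst v G.s) δ δ' h
      have e' : S10122.cmp G (pullback.fst v G.s ≫ δ) (pullback.fst v G.s ≫ δ') hY =
          pullback.fst v G.s ≫ S10122.cmp G δ δ' h := e.symm
      rw [e', hinv, ← Category.assoc, pullback.condition, Category.assoc]
    have hW : pullback.snd v G.s ≫ G.s = (pullback.snd v G.s ≫ G.s ≫ G.e) ≫ G.t := by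
      rw [Category.assoc, Category.assoc, G.e_t, Category.comp_id]
    have e4 : S10122.cmp G (pullback.snd v G.s)
          (S10122.cmp G (pullback.fst v G.s ≫ δ) (pullback.fst v G.s ≫ δ') hY) hZ =
        S10122.cmp G (pullback.snd v G.s) (pullback.snd v G.s ≫ G.s ≫ G.e) hW :=
      cmp_congr G hZ hW rfl e3
    have e5 : S10122.cmp G (pullback.snd v G.s) (pullback.snd v G.s ≫ G.s ≫ G.e) hW =
        pullback.snd v G.s := G.comp_e _
    exact e1.trans (e2.trans (e4.trans e5))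

/-- The fibres of `s` over the target and the source of an arrow are isomorphic. -/
noncomputable def fibreIso {T : AlgSp.Sp S} (v v' : T ⟶ G.U) (δ δ' : T ⟶ G.R)
    (hδt : δ ≫ G.t = v) (hδs : δ ≫ G.s = v') (hδ't : δ' ≫ G.t = v') (hδ's : δ' ≫ G.s = v)
    (h : δ ≫ G.s = δ' ≫ G.t) (hinv : S10122.cmp G δ δ' h = v ≫ G.e)
    (h' : δ' ≫ G.s = δ ≫ G.t) (hinv' : S10122.cmp G δ' δ h' = v' ≫ G.e) :
    Over.mk (pullback.fst v G.s) ≅ Over.mk (pullback.fst v' G.s) :=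
  Over.isoMk ⟨Φ G v v' δ hδt hδs, Φ G v' v δ' hδ't hδ's,
    Φ_comp G v v' δ δ' hδt hδs hδ't hδ's h hinv,
    Φ_comp G v' v δ' δ hδ't hδ's hδt hδs h' hinv'⟩ (Φ_fst G v v' δ hδt hδs)


/-- Let `(U, R, s, t, c)` be a groupoid in algebraic spaces over `B`, `K` a field and `r, r' : Spec K ⟶
R` with `t ∘ r = t ∘ r'`; put `u = s ∘ r`, `u' = s ∘ r'`. Then the fibres `Spec K ×_{u, U, s} R` and
`Spec K ×_{u', U, s} R` are isomorphic as spaces over `Spec K` (existence of an isomorphism over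
`Spec K`). -/
theorem result (S : Scheme.{u}) (B : AlgSp.Sp S) (hB : AlgSp.IsAlgSpace B)
    (G : AlgSp.GroupoidSp B) (hU : AlgSp.IsAlgSpace G.U) (hR : AlgSp.IsAlgSpace G.R)
    (K : Type u) [Field K] (σ : Spec (CommRingCat.of K) ⟶ S)
    (r r' : (AlgSp.yon S).obj (Over.mk σ) ⟶ G.R) (h : r ≫ G.t = r' ≫ G.t) :
    Nonempty (Over.mk (pullback.fst (r ≫ G.s) G.s) ≅ Over.mk (pullback.fst (r' ≫ G.s) G.s)) := by
  have a1 : (r ≫ G.i) ≫ G.t = r ≫ G.s := by rw [Category.assoc, G.i_t]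
  have a2 : (r ≫ G.i) ≫ G.s = r' ≫ G.t := by rw [Category.assoc, G.i_s, h]
  have a3 : (r ≫ G.i) ≫ G.s = r ≫ G.t := by rw [Category.assoc, G.i_s]
  have a4 : r ≫ G.s = (r ≫ G.i) ≫ G.t := a1.symm
  have i1 : S10122.cmp G (r ≫ G.i) r a3 = (r ≫ G.s) ≫ G.e :=
    (G.i_comp r).trans (Category.assoc _ _ _).symm
  have i2 : S10122.cmp G r (r ≫ G.i) a4 = (r' ≫ G.t) ≫ G.e :=
    (G.comp_i r).trans ((Category.assoc _ _ _).symm.trans (by rw [h]))
  have b1 : (r' ≫ G.i) ≫ G.t = r' ≫ G.s := by rw [Category.assoc, G.i_t]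
  have b2 : (r' ≫ G.i) ≫ G.s = r' ≫ G.t := by rw [Category.assoc, G.i_s]
  have b1' : r' ≫ G.s = (r' ≫ G.i) ≫ G.t := b1.symm
  have j1 : S10122.cmp G r' (r' ≫ G.i) b1' = (r' ≫ G.t) ≫ G.e :=
    (G.comp_i r').trans (Category.assoc _ _ _).symm
  have j2 : S10122.cmp G (r' ≫ G.i) r' b2 = (r' ≫ G.s) ≫ G.e :=
    (G.i_comp r').trans (Category.assoc _ _ _).symm
  exact ⟨(fibreIso G (r ≫ G.s) (r' ≫ G.t) (r ≫ G.i) r a1 a2 h rfl a3 i1 a4 i2).trans
    (fibreIso G (r' ≫ G.t) (r' ≫ G.s) r' (r' ≫ G.i) rfl rfl b1 b2 b1' j1 b2 j2)⟩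

end Groth.Agent.S10124
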