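import Groth.Statements.S10125
import Groth.Agent.H50.OverField

set_option autoImplicit false
universe u
open CategoryTheory CategoryTheory.Limits AlgebraicGeometry MonoidalCategory MonObj
open AlgSp

namespace Groth.Agent.S10125

open Groth.Agent.H50 Groth.Agent.H52

/-- For a group algebraic space `G` over a field `k`, the multiplication `m` of `G`, a morphism `G ×_k G
⟶ G`, is both flat and universally open. (The published situation allows any base scheme `S` with
`k` a field over `S`; this row takes `S = Spec k`.) -/
theorem result (k : Type u) [Field k]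
    (G : Over ((AlgSp.yon (Spec (CommRingCat.of k))).obj (Over.mk (𝟙 _)))) [GrpObj G]
    (hG : AlgSp.IsAlgSpace G.left) :
    AlgSp.LocP @Flat (μ[G]).left ∧ AlgSp.IsUnivOpenMor (μ[G]).left := by
  have sq0 := (isPullback_mul G).map (Over.forget _)
  have sq : IsPullback (CartesianMonoidalCategory.snd G G).left (μ[G]).left
      (CartesianMonoidalCategory.toUnit G).left (CartesianMonoidalCategory.toUnit G).left := sq0.flip
  have hB : AlgSp.IsAlgSpace ((AlgSp.yon (Spec (CommRingCat.of k))).obj (Over.mk (𝟙 _))) :=
    AlgSp.IsAlgSpace.yon_obj _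
  have h1 : AlgSp.LocP @Flat (CartesianMonoidalCategory.toUnit G).left :=
    locP_flat_over_field k (𝟙 _) _
  have h2 : AlgSp.IsUnivOpenMor (CartesianMonoidalCategory.toUnit G).left :=
    isUnivOpenMor_over_field k (𝟙 _) hG _
  exact ⟨locP_baseChange etLocal_flat hG hB hG sq h1, isUnivOpenMor_baseChange sq h2⟩

end Groth.Agent.S10125
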