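import Groth.Statements.S10126
import Groth.Agent.H50.OverField

set_option autoImplicit false
universe u
open CategoryTheory CategoryTheory.Limits AlgebraicGeometry
open AlgSp AlgSp.GroupoidSp

namespace Groth.Agent.S10126

open Groth.Agent.H50 Groth.Agent.H52

/-- Let `(U, R, s, t, c)` be a groupoid in algebraic spaces over `B` whose object space is `U = Spec k`,
with `k` a field. Then the composition `c : R ×_{s, U, t} R ⟶ R` is flat and universally open. -/
theorem result (S : Scheme.{u}) (B : AlgSp.Sp S) (hB : AlgSp.IsAlgSpace B)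
    (G : AlgSp.GroupoidSp B) (hR : AlgSp.IsAlgSpace G.R) (k : Type u) [Field k]
    (σ : Spec (CommRingCat.of k) ⟶ S) (eU : G.U ≅ (AlgSp.yon S).obj (Over.mk σ)) :
    AlgSp.LocP @Flat G.c ∧ AlgSp.IsUnivOpenMor G.c := by
  have sq : IsPullback (pullback.snd G.s G.t) G.c (G.s ≫ eU.hom) (G.s ≫ eU.hom) :=
    (isPullback_comp_mono eU.hom (isPullback_c G)).flip
  have hK : AlgSp.IsAlgSpace ((AlgSp.yon S).obj (Over.mk σ)) := AlgSp.IsAlgSpace.yon_obj _
  have h1 : AlgSp.LocP @Flat (G.s ≫ eU.hom) := locP_flat_over_field k σ _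
  have h2 : AlgSp.IsUnivOpenMor (G.s ≫ eU.hom) := isUnivOpenMor_over_field k σ hR _
  exact ⟨locP_baseChange etLocal_flat hR hK hR sq h1, isUnivOpenMor_baseChange sq h2⟩

end Groth.Agent.S10126
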