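import Groth.Statements.S10129
import Groth.Agent.H50.SchDense
import Groth.Agent.H50.Quot
import Groth.Agent.H50.Fibre
import Groth.Agent.H52.EpiFppf
import Groth.Agent.H52.LocPOps
import Groth.Agent.H52.LocPBC
import Groth.Agent.H52.EtLocalInst
import Groth.Agent.S9912

set_option autoImplicit false
universe u
open CategoryTheory CategoryTheory.Limits AlgebraicGeometry
open AlgSp

namespace Groth.Agent.S10129

/-- Consider morphisms `g : X ⟶ Z` and `f : X ⟶ Y` of algebraic spaces over `B`, with `Y ⟶ B` separated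
and `g` surjective, flat and locally of finite presentation, and let `V ⊂ Z` be a scheme
theoretically dense open subspace with `V ⟶ Z` quasi-compact such that `f` restricted to `g⁻¹(V)`
factors through `g⁻¹(V) ⟶ V`. Then `f` factors through `g`. (The published statement does not ask
the open immersion `V ⟶ Z` to be quasi-compact; the published proof pulls the scheme theoretic
density of `V` back along a flat morphism by a lemma that requires it, so this row assumes it.) -/
theorem result (S : Scheme.{u}) (B : AlgSp.Sp S) (hB : AlgSp.IsAlgSpace B)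
    (X Y Z : AlgSp.Space S) (pX : X.obj ⟶ B) (pY : Y.obj ⟶ B) (pZ : Z.obj ⟶ B)
    (f : X.obj ⟶ Y.obj) (g : X.obj ⟶ Z.obj) (hf : f ≫ pY = pX) (hg : g ≫ pZ = pX)
    (hY : AlgSp.IsSeparatedMor pY)
    (hgs : AlgSp.IsSurjectiveMor g) (hgf : AlgSp.LocP @Flat g) (hgp : AlgSp.LocP @LocallyOfFinitePresentation g)
    (V : AlgSp.Sp S) (v : V ⟶ Z.obj) (hv : AlgSp.IsSchDense v) (hvq : AlgSp.IsQuasiCompactMor v)
    (hfac : ∃ φ : V ⟶ Y.obj, pullback.fst g v ≫ f = pullback.snd g v ≫ φ) :
    ∃ h : Z.obj ⟶ Y.obj, g ≫ h = f := by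
  haveI hepi : Epi g := Groth.Agent.H52.epi_of_fppf_mor X.property Z.property g hgf hgp hgs
  obtain ⟨φ, hφ⟩ := hfac
  obtain ⟨hvo, V₀, φ₀, W, fstV, hφ₀e, hφ₀s, sqV, hW⟩ := hv
  have hValg : AlgSp.IsAlgSpace V := Groth.Agent.H50.isAlgSpace_of_representable hvo.1 Z.property
  have hvqc : AlgSp.RepWith @QuasiCompact v :=
    (Groth.Agent.S9912.result (X := ⟨V, hValg⟩) (Y := Z) (ObjectProperty.homMk v) hvo.1).2 hvq
  haveI hWqc : QuasiCompact W.ι := hvqc.2 _ _ _ sqV
  have epi_of_es : ∀ {F G : AlgSp.Sp S} (a : F ⟶ G), AlgSp.RepWith @Etale a →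
      AlgSp.RepWith @Surjective a → Epi a := fun a h1 h2 =>
    Groth.Agent.H52.epi_of_repWith_fppf a
      (Groth.Agent.H50.repWith_mono (fun _ _ k hk => by haveI : Etale k := hk; infer_instance) h1)
      (Groth.Agent.H50.repWith_mono (fun _ _ k hk => by haveI : Etale k := hk; infer_instance) h1)
      h2
  have sqR := IsPullback.of_hasPullback g g
  have hR : AlgSp.IsAlgSpace (pullback g g) :=
    Groth.Agent.H52.isAlgSpace_of_isPullback sqR Z.property.diag X.property X.property
  obtain ⟨T, t, hte, hts⟩ := hR.atlas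
  haveI : Epi t := epi_of_es t hte hts
  have key : t ≫ pullback.fst g g ≫ f = t ≫ pullback.snd g g ≫ f := by
    have hζ : AlgSp.LocP @Flat (pullback.fst g g ≫ g) :=
      Groth.Agent.H52.locP_comp Groth.Agent.H52.etLocal_flat X.property _ _
        (Groth.Agent.H52.locP_baseChange Groth.Agent.H52.etLocal_flat X.property Z.property
          X.property sqR.flip hgf) hgf
    obtain ⟨z, hzdef⟩ : ∃ z : (AlgSp.yon S).obj T ⟶ Z.obj, z = t ≫ pullback.fst g g ≫ g :=
      ⟨_, rfl⟩
    have hz : AlgSp.LocP @Flat z := by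
      rw [hzdef]
      exact Groth.Agent.H52.locP_chart_comp hζ t hte
    have hrep : AlgSp.Representable φ₀ := hφ₀e.1
    obtain ⟨h', hh'⟩ := (AlgSp.yon S).map_surjective (hrep.fst z)
    have sqT : IsPullback ((AlgSp.yon S).map h') ((AlgSp.yon S).map (hrep.snd z)) φ₀ z := by
      rw [hh']
      exact hrep.isPullback _
    have hre : Etale (hrep.snd z).left := hφ₀e.property _ _ _ sqT
    have hrs : Surjective (hrep.snd z).left := hφ₀s.property _ _ _ sqT
    haveI hflat : Flat h'.left :=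
      Groth.Agent.H52.P_snd_of_locP Groth.Agent.H52.etLocal_flat Z.property
        z φ₀ (hrep.snd z) h' sqT.flip hz
    have hW' : CInt.IsSchematicallyDense (h'.left ⁻¹ᵁ W) :=
      Groth.Agent.H50.isSchematicallyDense_preimage_of_flat h'.left W hW
    haveI : Epi ((AlgSp.yon S).map (hrep.snd z)) :=
      epi_of_es _ ((AlgSp.repWith_yon_map_iff _ _).2 hre) ((AlgSp.repWith_yon_map_iff _ _).2 hrs)
    rw [← cancel_epi ((AlgSp.yon S).map (hrep.snd z))]
    obtain ⟨α, hα⟩ : ∃ α, α = (AlgSp.yon S).map (hrep.snd z) ≫ t ≫ pullback.fst g g ≫ f :=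
      ⟨_, rfl⟩
    obtain ⟨β, hβ⟩ : ∃ β, β = (AlgSp.yon S).map (hrep.snd z) ≫ t ≫ pullback.snd g g ≫ f :=
      ⟨_, rfl⟩
    rw [← hα, ← hβ]
    have hαβ : α ≫ pY = β ≫ pY := by
      rw [hα, hβ]
      simp only [Category.assoc]
      rw [hf, ← hg, pullback.condition_assoc]
    have hδ1 : pullback.lift α β hαβ ≫ pullback.fst pY pY = α := pullback.lift_fst _ _ _
    have hδ2 : pullback.lift α β hαβ ≫ pullback.snd pY pY = β := pullback.lift_snd _ _ _
    obtain ⟨E₀, e, fstE, sqE⟩ := hY.1 (pullback.lift α β hαβ)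
    haveI he : IsClosedImmersion e.left := hY.2 _ _ _ sqE
    obtain ⟨hW₁, sqW₁⟩ := Groth.Agent.H50.exists_isPullback_yon_opensOver h' W
    obtain ⟨ι', hι'⟩ : ∃ ι', ι' = Groth.Agent.H50.opensOverι (hrep.pullback z) (h'.left ⁻¹ᵁ W) :=
      ⟨_, rfl⟩
    rw [← hι'] at sqW₁
    have hν : ((AlgSp.yon S).map hW₁ ≫ fstV) ≫ v =
        (AlgSp.yon S).map ι' ≫ (AlgSp.yon S).map (hrep.snd z) ≫ z := by
      rw [Category.assoc, sqV.w, ← Category.assoc, sqW₁.w, Category.assoc, sqT.w]
    have hres : ∀ (pr : pullback g g ⟶ X.obj), pr ≫ g = pullback.fst g g ≫ g →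
        (AlgSp.yon S).map ι' ≫ (AlgSp.yon S).map (hrep.snd z) ≫ t ≫ pr ≫ f =
          ((AlgSp.yon S).map hW₁ ≫ fstV) ≫ φ := by
      intro pr hpr
      have hc : ((AlgSp.yon S).map ι' ≫ (AlgSp.yon S).map (hrep.snd z) ≫ t ≫ pr) ≫ g =
          ((AlgSp.yon S).map hW₁ ≫ fstV) ≫ v := by
        have hz' : t ≫ pr ≫ g = z := by rw [hzdef, hpr]
        rw [hν]
        simp only [Category.assoc, hz']
      have h1 : pullback.lift _ _ hc ≫ pullback.fst g v =
          (AlgSp.yon S).map ι' ≫ (AlgSp.yon S).map (hrep.snd z) ≫ t ≫ pr :=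
        pullback.lift_fst _ _ _
      have h2 : pullback.lift _ _ hc ≫ pullback.snd g v = (AlgSp.yon S).map hW₁ ≫ fstV :=
        pullback.lift_snd _ _ _
      calc (AlgSp.yon S).map ι' ≫ (AlgSp.yon S).map (hrep.snd z) ≫ t ≫ pr ≫ f
          = ((AlgSp.yon S).map ι' ≫ (AlgSp.yon S).map (hrep.snd z) ≫ t ≫ pr) ≫ f := by
            simp only [Category.assoc]
        _ = (pullback.lift _ _ hc ≫ pullback.fst g v) ≫ f := by rw [h1]
        _ = pullback.lift _ _ hc ≫ pullback.snd g v ≫ φ := by rw [Category.assoc, hφ]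
        _ = ((AlgSp.yon S).map hW₁ ≫ fstV) ≫ φ := by rw [← Category.assoc, h2]
    have hα' : (AlgSp.yon S).map ι' ≫ α = ((AlgSp.yon S).map hW₁ ≫ fstV) ≫ φ := by
      rw [hα]
      exact hres (pullback.fst g g) rfl
    have hβ' : (AlgSp.yon S).map ι' ≫ β = ((AlgSp.yon S).map hW₁ ≫ fstV) ≫ φ := by
      rw [hβ]
      exact hres (pullback.snd g g) pullback.condition.symm
    have hcomm : ((AlgSp.yon S).map ι' ≫ α) ≫ pullback.diagonal pY =
        (AlgSp.yon S).map ι' ≫ pullback.lift α β hαβ := by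
      apply pullback.hom_ext
      · rw [Category.assoc, pullback.diagonal_fst, Category.comp_id, Category.assoc, hδ1]
      · rw [Category.assoc, pullback.diagonal_snd, Category.comp_id, Category.assoc, hδ2, hα',
          hβ']
    obtain ⟨l, hl⟩ := (AlgSp.yon S).map_surjective (sqE.lift _ _ hcomm)
    have hle : l ≫ e = ι' :=
      (AlgSp.yon S).map_injective (by rw [Functor.map_comp, hl, sqE.lift_snd])
    have hker : e.left.ker = ⊥ := by
      have h1 : e.left.ker ≤ (l.left ≫ e.left).ker := Scheme.Hom.le_ker_comp l.left e.left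
      have h2 : l.left ≫ e.left = (h'.left ⁻¹ᵁ W).ι := by
        have := congrArg CommaMorphism.left hle
        rw [hι'] at this
        exact this
      rw [h2, Groth.Agent.H50.ker_ι_eq_bot_of_isSchematicallyDense hW'] at h1
      exact le_bot_iff.1 h1
    haveI : IsIso e.left := IsClosedImmersion.isIso_of_ker_eq e.left (𝟙 _) e.left
      (Category.comp_id _) (by rw [hker, Scheme.Hom.ker_eq_bot_of_isIso])
    haveI : IsIso ((Over.forget S).map e) := ‹IsIso e.left›
    haveI : IsIso e := isIso_of_reflects_iso e (Over.forget S)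
    have hδ : pullback.lift α β hαβ =
        inv ((AlgSp.yon S).map e) ≫ fstE ≫ pullback.diagonal pY := by
      rw [sqE.w, IsIso.inv_hom_id_assoc]
    calc α = pullback.lift α β hαβ ≫ pullback.fst pY pY := hδ1.symm
      _ = pullback.lift α β hαβ ≫ pullback.snd pY pY := by
        rw [hδ]
        simp only [Category.assoc, pullback.diagonal_fst, pullback.diagonal_snd]
      _ = β := hδ2
  have hpr : pullback.fst g g ≫ f = pullback.snd g g ≫ f := by
    rw [← cancel_epi t]
    exact key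
  haveI := Groth.Agent.H50.effectiveEpi_of_epi g
  refine ⟨EffectiveEpi.desc g f (fun {W'} g₁ g₂ w => ?_), EffectiveEpi.fac g f _⟩
  calc g₁ ≫ f = (pullback.lift g₁ g₂ w ≫ pullback.fst g g) ≫ f := by rw [pullback.lift_fst]
    _ = (pullback.lift g₁ g₂ w ≫ pullback.snd g g) ≫ f := by
      rw [Category.assoc, hpr, ← Category.assoc]
    _ = g₂ ≫ f := by rw [pullback.lift_snd]

end Groth.Agent.S10129
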