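import Groth.Statements.S10130
import Groth.Agent.H52.Iso

set_option autoImplicit false
universe u
open CategoryTheory CategoryTheory.Limits AlgebraicGeometry
open AlgSp AlgSp.GroupoidSp

namespace Groth.Agent.S10130

open Groth.Agent.H52

variable {S : Scheme.{u}}

/-- A scheme-valued point factors through a representable open immersion as soon as all its
points land in the image. -/
theorem exists_lift_of_openImmersion {W U : AlgSp.Sp S} (w : W ⟶ U)
    (hw : AlgSp.RepWith @IsOpenImmersion w) {T : Over S} (x : (AlgSp.yon S).obj T ⟶ U)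
    (hx : ∀ τ : T.left, AlgSp.Points.ofPt x τ ∈ Set.range (AlgSp.Points.map w)) :
    ∃ a : (AlgSp.yon S).obj T ⟶ W, a ≫ w = x := by
  obtain ⟨V, snd, fst, sq⟩ := hw.1 x
  have h1 : IsOpenImmersion snd.left := hw.2 _ _ _ sq
  have h2 : Surjective snd.left := ⟨fun τ => by
    obtain ⟨ξ, hξ⟩ := hx τ
    rw [AlgSp.Points.ofPt_eq_map_ofScheme] at hξ
    obtain ⟨z, -, hz⟩ := Groth.Agent.H52.exists_point_of_isPullback sq ξ _ hξ
    obtain ⟨v, rfl⟩ := (AlgSp.Points.schemeEquiv V).surjective z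
    change AlgSp.Points.map _ (AlgSp.Points.ofScheme V v) = _ at hz
    rw [map_yon_map_ofScheme] at hz
    exact ⟨v, ofScheme_injective T hz⟩⟩
  have h3 : IsIso snd.left := (isIso_iff_isOpenImmersion_and_surjective _).2 ⟨h1, h2⟩
  have h4 : IsIso ((Over.forget S).map snd) := h3
  have h5 : IsIso snd := isIso_of_reflects_iso snd (Over.forget S)
  refine ⟨inv ((AlgSp.yon S).map snd) ≫ fst, ?_⟩
  rw [Category.assoc, sq.w, IsIso.inv_hom_id_assoc]

theorem mem_range_of_lift {W U : AlgSp.Sp S} (w : W ⟶ U) {T : Over S}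
    (x : (AlgSp.yon S).obj T ⟶ U) (h : ∃ a : (AlgSp.yon S).obj T ⟶ W, a ≫ w = x) (τ : T.left) :
    AlgSp.Points.ofPt x τ ∈ Set.range (AlgSp.Points.map w) := by
  obtain ⟨a, rfl⟩ := h
  exact ⟨AlgSp.Points.ofPt a τ, AlgSp.Points.map_ofPt a w τ⟩

variable {B : AlgSp.Sp S} (G : AlgSp.GroupoidSp B)

theorem c_s : G.c ≫ G.s = pullback.snd G.s G.t ≫ G.s := by
  have hid : pullback.lift (pullback.fst G.s G.t) (pullback.snd G.s G.t) pullback.condition =
      𝟙 _ := by
    apply pullback.hom_ext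
    · rw [pullback.lift_fst, Category.id_comp]
    · rw [pullback.lift_snd, Category.id_comp]
  have h := G.comp_s (pullback.fst G.s G.t) (pullback.snd G.s G.t) pullback.condition
  rw [hid, Category.id_comp] at h
  exact h

theorem c_t : G.c ≫ G.t = pullback.fst G.s G.t ≫ G.t := by
  have hid : pullback.lift (pullback.fst G.s G.t) (pullback.snd G.s G.t) pullback.condition =
      𝟙 _ := by
    apply pullback.hom_ext
    · rw [pullback.lift_fst, Category.id_comp]
    · rw [pullback.lift_snd, Category.id_comp]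
  have h := G.comp_t (pullback.fst G.s G.t) (pullback.snd G.s G.t) pullback.condition
  rw [hid, Category.id_comp] at h
  exact h

/-- The set `s(t⁻¹ A)` is stable: if the target of an arrow lies in it, so does the source. -/
theorem source_mem_of_target_mem (A : Set (AlgSp.Points G.U)) (ρ : AlgSp.Points G.R)
    (h : AlgSp.Points.map G.t ρ ∈ AlgSp.Points.map G.s '' (AlgSp.Points.map G.t ⁻¹' A)) :
    AlgSp.Points.map G.s ρ ∈ AlgSp.Points.map G.s '' (AlgSp.Points.map G.t ⁻¹' A) := by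
  obtain ⟨ρ', hρ'A, hρ'⟩ := h
  obtain ⟨z, hz1, hz2⟩ := Groth.Agent.H52.exists_point_of_isPullback
    (IsPullback.of_hasPullback G.s G.t) ρ' ρ hρ'
  refine ⟨AlgSp.Points.map G.c z, ?_, ?_⟩
  · change AlgSp.Points.map G.t (AlgSp.Points.map G.c z) ∈ A
    rw [← AlgSp.Points.map_comp, c_t, AlgSp.Points.map_comp, hz1]
    exact hρ'A
  · rw [← AlgSp.Points.map_comp, c_s, AlgSp.Points.map_comp, hz2]

theorem target_mem_of_source_mem (A : Set (AlgSp.Points G.U)) (ρ : AlgSp.Points G.R)
    (h : AlgSp.Points.map G.s ρ ∈ AlgSp.Points.map G.s '' (AlgSp.Points.map G.t ⁻¹' A)) :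
    AlgSp.Points.map G.t ρ ∈ AlgSp.Points.map G.s '' (AlgSp.Points.map G.t ⁻¹' A) := by
  have h1 : AlgSp.Points.map G.t (AlgSp.Points.map G.i ρ) = AlgSp.Points.map G.s ρ := by
    rw [← AlgSp.Points.map_comp, G.i_t]
  have h2 : AlgSp.Points.map G.s (AlgSp.Points.map G.i ρ) = AlgSp.Points.map G.t ρ := by
    rw [← AlgSp.Points.map_comp, G.i_s]
  rw [← h2]
  apply source_mem_of_target_mem
  rw [h1]
  exact h


/-- Let `(U, R, s, t, c)` be a groupoid in algebraic spaces over `B` with `s, t` open. For every open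
subspace `W ⊂ U`, the open subspace `s(t⁻¹(W))` of `U` is `R`-invariant. -/
theorem result (S : Scheme.{u}) (B : AlgSp.Sp S) (hB : AlgSp.IsAlgSpace B)
    (G : AlgSp.GroupoidSp B) (hU : AlgSp.IsAlgSpace G.U) (hR : AlgSp.IsAlgSpace G.R)
    (hs : AlgSp.IsOpenMor G.s) (ht : AlgSp.IsOpenMor G.t)
    (W W' : AlgSp.Sp S) (w : W ⟶ G.U) (w' : W' ⟶ G.U)
    (hw : AlgSp.RepWith @IsOpenImmersion w) (hw' : AlgSp.RepWith @IsOpenImmersion w')
    (himg : Set.range (AlgSp.Points.map w') =
      AlgSp.Points.map G.s '' (AlgSp.Points.map G.t ⁻¹' Set.range (AlgSp.Points.map w))) :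
    G.IsInvariant w' := by
  intro T r
  constructor
  · intro h
    apply exists_lift_of_openImmersion w' hw'
    intro τ
    have h1 := mem_range_of_lift w' (r ≫ G.t) h τ
    rw [himg] at h1 ⊢
    rw [← AlgSp.Points.map_ofPt] at h1 ⊢
    exact source_mem_of_target_mem G _ _ h1
  · intro h
    apply exists_lift_of_openImmersion w' hw'
    intro τ
    have h1 := mem_range_of_lift w' (r ≫ G.s) h τ
    rw [himg] at h1 ⊢
    rw [← AlgSp.Points.map_ofPt] at h1 ⊢
    exact target_mem_of_source_mem G _ _ h1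

end Groth.Agent.S10130
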