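import Groth.Statements.S10131
import Groth.Agent.H50.OpenSubChart
import Groth.Agent.H50.MonoPts
import Groth.Agent.H52.QC
import Groth.Agent.S10194

set_option autoImplicit false
universe u
open CategoryTheory CategoryTheory.Limits AlgebraicGeometry
open AlgSp AlgSp.GroupoidSp

namespace Groth.Agent.S10131

open Groth.Agent.H50 Groth.Agent.H52

/-- Let `(U, R, s, t, c)` be a groupoid in algebraic spaces over `B` with `s, t` open and quasi-compact.
Then `U` has an open covering by `R`-invariant quasi-compact open subspaces. -/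
theorem result (S : Scheme.{u}) (B : AlgSp.Sp S) (hB : AlgSp.IsAlgSpace B)
    (G : AlgSp.GroupoidSp B) (hU : AlgSp.IsAlgSpace G.U) (hR : AlgSp.IsAlgSpace G.R)
    (hs : AlgSp.IsOpenMor G.s ∧ AlgSp.IsQuasiCompactMor G.s) (ht : AlgSp.IsOpenMor G.t ∧ AlgSp.IsQuasiCompactMor G.t)
    (x : AlgSp.Points G.U) :
    ∃ (W : AlgSp.Sp S) (w : W ⟶ G.U), AlgSp.RepWith @IsOpenImmersion w ∧ G.IsInvariant w ∧
      AlgSp.IsQuasiCompactSp W ∧ x ∈ Set.range (AlgSp.Points.map w) := by
  -- Step 1: a quasi-compact open neighbourhood of `x`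
  obtain ⟨V, a, ha, has⟩ := hU.atlas
  obtain ⟨v, rfl⟩ := surjective_ofPt_of_surjective a has x
  obtain ⟨_, ⟨V₀, hV₀, rfl⟩, hvV₀, -⟩ := V.left.isBasis_affineOpens.exists_subset_of_mem_open
    (Set.mem_univ v) isOpen_univ
  have hW₀o : IsOpen (Points.ofPt a '' (V₀ : Set ↥V.left)) :=
    isOpenMap_ofPt_of_etale a ha _ V₀.isOpen
  obtain ⟨a₁, ha₁j, ha₁, has₁⟩ := exists_chart_openSub a ha V₀
  have hU₀alg : IsAlgSpace (openSub G.U (Points.ofPt a '' (V₀ : Set ↥V.left))) :=
    isAlgSpace_openSub hW₀o hU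
  have hU₀qc : IsQuasiCompactSp (openSub G.U (Points.ofPt a '' (V₀ : Set ↥V.left))) := by
    refine ⟨opensOver V V₀, a₁, ha₁, has₁, ?_⟩
    haveI : IsAffine (opensOver V V₀).left := hV₀
    infer_instance
  have hmem : ∀ (W : Set (Points G.U)) (y : Points (openSub G.U W)),
      Points.map (openSubι G.U W) y ∈ W := by
    intro W y
    have h : Points.map (openSubι G.U W) y ∈ Set.range (Points.map (openSubι G.U W)) := ⟨y, rfl⟩
    rwa [range_map_openSubι] at h
  have hex : ∀ (W : Set (Points G.U)) (x : Points G.U), x ∈ W →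
      ∃ y, Points.map (openSubι G.U W) y = x := by
    intro W x hx
    have h : x ∈ Set.range (Points.map (openSubι G.U W)) := by
      rw [range_map_openSubι]
      exact hx
    exact h
  -- Step 2: its preimage under `s`
  have sqR := IsPullback.of_hasPullback G.s (openSubι G.U (Points.ofPt a '' (V₀ : Set ↥V.left)))
  have hR₀qc : IsQuasiCompactSp (pullback G.s (openSubι G.U (Points.ofPt a '' (V₀ : Set ↥V.left)))) :=
    hs.2 hU₀alg hU₀qc _ _ _ sqR
  have hR₀alg : IsAlgSpace (pullback G.s (openSubι G.U (Points.ofPt a '' (V₀ : Set ↥V.left)))) :=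
    isAlgSpace_pullback _ _ hR hU₀alg hU.diag
  -- Step 3: the invariant open set
  have hW'o : IsOpen (Points.map G.t '' (Points.map G.s ⁻¹' (Points.ofPt a '' (V₀ : Set ↥V.left)))) :=
    ht.1 _ (hW₀o.preimage (Points.continuous_map G.s))
  have hid : pullback.lift (pullback.fst G.s G.t) (pullback.snd G.s G.t) pullback.condition = 𝟙 _ := by
    apply pullback.hom_ext <;> simp
  have c_s : G.c ≫ G.s = pullback.snd G.s G.t ≫ G.s := by
    have := G.comp_s (pullback.fst G.s G.t) (pullback.snd G.s G.t) pullback.condition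
    rwa [hid, Category.id_comp] at this
  have c_t : G.c ≫ G.t = pullback.fst G.s G.t ≫ G.t := by
    have := G.comp_t (pullback.fst G.s G.t) (pullback.snd G.s G.t) pullback.condition
    rwa [hid, Category.id_comp] at this
  have hinv1 : ∀ ρ : Points G.R,
      Points.map G.s ρ ∈ Points.map G.t '' (Points.map G.s ⁻¹' (Points.ofPt a '' (V₀ : Set ↥V.left))) →
      Points.map G.t ρ ∈ Points.map G.t '' (Points.map G.s ⁻¹' (Points.ofPt a '' (V₀ : Set ↥V.left))) := by
    rintro ρ ⟨ρ', hρ', hρρ'⟩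
    obtain ⟨ζ, hζ1, hζ2⟩ := Groth.Agent.H52.exists_point_of_isPullback
      (IsPullback.of_hasPullback G.s G.t) ρ ρ' hρρ'.symm
    refine ⟨Points.map G.c ζ, ?_, ?_⟩
    · show Points.map G.s (Points.map G.c ζ) ∈ Points.ofPt a '' (V₀ : Set ↥V.left)
      rw [← Points.map_comp, c_s, Points.map_comp, hζ2]
      exact hρ'
    · rw [← Points.map_comp, c_t, Points.map_comp, hζ1]
  have hinv2 : ∀ ρ : Points G.R,
      Points.map G.t ρ ∈ Points.map G.t '' (Points.map G.s ⁻¹' (Points.ofPt a '' (V₀ : Set ↥V.left))) →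
      Points.map G.s ρ ∈ Points.map G.t '' (Points.map G.s ⁻¹' (Points.ofPt a '' (V₀ : Set ↥V.left))) := by
    intro ρ h
    have h1 := hinv1 (Points.map G.i ρ) (by rw [← Points.map_comp, G.i_s]; exact h)
    rwa [← Points.map_comp, G.i_t] at h1
  -- Step 4: the open subspace
  refine ⟨openSub G.U _, openSubι G.U _, repWith_isOpenImmersion_openSubι hW'o, ?_, ?_, ?_⟩
  · intro T r
    rw [factors_openSubι_iff, factors_openSubι_iff]
    constructor
    · intro h τ
      have h1 := hinv2 (Points.ofPt r τ) (by rw [Points.map_ofPt]; exact h τ)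
      rwa [Points.map_ofPt] at h1
    · intro h τ
      have h1 := hinv1 (Points.ofPt r τ) (by rw [Points.map_ofPt]; exact h τ)
      rwa [Points.map_ofPt] at h1
  · have hWalg : IsAlgSpace (openSub G.U
        (Points.map G.t '' (Points.map G.s ⁻¹' (Points.ofPt a '' (V₀ : Set ↥V.left))))) :=
      isAlgSpace_openSub hW'o hU
    have hrange : Set.range (Points.map
        (pullback.fst G.s (openSubι G.U (Points.ofPt a '' (V₀ : Set ↥V.left))) ≫ G.t)) ⊆
        Set.range (Points.map (openSubι G.U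
          (Points.map G.t '' (Points.map G.s ⁻¹' (Points.ofPt a '' (V₀ : Set ↥V.left)))))) := by
      rw [range_map_openSubι]
      rintro _ ⟨z, rfl⟩
      rw [Points.map_comp]
      refine ⟨Points.map (pullback.fst _ _) z, ?_, rfl⟩
      show Points.map G.s (Points.map (pullback.fst _ _) z) ∈ Points.ofPt a '' (V₀ : Set ↥V.left)
      rw [← Points.map_comp, pullback.condition, Points.map_comp]
      exact hmem _ _
    obtain ⟨k, hk⟩ := (Groth.Agent.S10194.result (X := ⟨G.U, hU⟩)
      (X' := ⟨openSub G.U _, hWalg⟩)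
      (Y := ⟨pullback G.s (openSubι G.U (Points.ofPt a '' (V₀ : Set ↥V.left))), hR₀alg⟩)
      (ObjectProperty.homMk (openSubι G.U _)) (repWith_isOpenImmersion_openSubι hW'o)
      (ObjectProperty.homMk (pullback.fst _ _ ≫ G.t))).2 hrange
    have hk' : k.hom ≫ openSubι G.U _ = pullback.fst _ _ ≫ G.t := congrArg (fun m => m.hom) hk
    refine isQuasiCompactSp_of_surjective k.hom hWalg ?_ hR₀qc
    intro y
    have hy : Points.map (openSubι G.U _) y ∈
        Points.map G.t '' (Points.map G.s ⁻¹' (Points.ofPt a '' (V₀ : Set ↥V.left))) := hmem _ y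
    obtain ⟨ρ, hρ, hρy⟩ := hy
    obtain ⟨y₀, hy₀⟩ := hex _ _ hρ
    obtain ⟨z, hz1, hz2⟩ := Groth.Agent.H52.exists_point_of_isPullback sqR ρ y₀ hy₀.symm
    refine ⟨z, ?_⟩
    apply injective_map_of_mono (openSubι G.U _)
    rw [← Points.map_comp, hk', Points.map_comp, hz1, hρy]
  · rw [range_map_openSubι]
    refine ⟨Points.map G.e (Points.ofPt a v), ?_, ?_⟩
    · show Points.map G.s (Points.map G.e (Points.ofPt a v)) ∈ Points.ofPt a '' (V₀ : Set ↥V.left)
      rw [← Points.map_comp, G.e_s, Points.map_id]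
      exact ⟨v, hvV₀, rfl⟩
    · rw [← Points.map_comp, G.e_t, Points.map_id]

end Groth.Agent.S10131
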