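import Groth.Statements.S10132
import Groth.Agent.H50.Nice
import Groth.Agent.H50.Fibre

set_option autoImplicit false
universe u
open CategoryTheory CategoryTheory.Limits AlgebraicGeometry
open AlgSp AlgSp.GroupoidSp

namespace Groth.Agent.S10132

open Groth.Agent.H50 Groth.Agent.H52

/-- Let `(U, R, s, t, c)` be a groupoid in algebraic spaces over `B` whose object space is `U = Spec k`,
let `k ⊂ k'` be a field extension and `(U', R', s', t', c')` the restriction along `Spec k' ⟶ Spec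
k`. Then `s, t, s', t'`, `Spec k' ⟶ Spec k` and `R' ⟶ R` are surjective, flat and universally open,
and `R' ⟶ R` is moreover affine. (The published statement lists every arrow of the restriction
diagram; this row omits the six arrows through `R ×_{s,U} U'` and `U' ×_{U,t} R`, each a base change
of `s`, `t` or `Spec k' ⟶ Spec k`.) -/
theorem result (S : Scheme.{u}) (B : AlgSp.Sp S) (hB : AlgSp.IsAlgSpace B)
    (G G' : AlgSp.GroupoidSp B) (hR : AlgSp.IsAlgSpace G.R) (hR' : AlgSp.IsAlgSpace G'.R)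
    (k k' : Type u) [Field k] [Field k'] [Algebra k k'] (σ : Spec (CommRingCat.of k) ⟶ S)
    (eU : G.U ≅ ((AlgSp.yon S).obj (Over.mk σ)))
    (eU' : G'.U ≅ ((AlgSp.yon S).obj (Over.mk (Spec.map (CommRingCat.ofHom (algebraMap k k')) ≫ σ))))
    (φ : AlgSp.GroupoidSp.Hom G' G) (hφ : φ.IsRestriction)
    (hfU : φ.fU = eU'.hom ≫ (AlgSp.yon S).map (Over.homMk (Spec.map (CommRingCat.ofHom (algebraMap k k'))) rfl :
      Over.mk (Spec.map (CommRingCat.ofHom (algebraMap k k')) ≫ σ) ⟶ Over.mk σ) ≫ eU.inv) :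
    (∀ f ∈ [G.s, G.t], AlgSp.IsSurjectiveMor f ∧ AlgSp.LocP @Flat f ∧ AlgSp.IsUnivOpenMor f) ∧
      (∀ f ∈ [G'.s, G'.t], AlgSp.IsSurjectiveMor f ∧ AlgSp.LocP @Flat f ∧ AlgSp.IsUnivOpenMor f) ∧
      (AlgSp.IsSurjectiveMor φ.fU ∧ AlgSp.LocP @Flat φ.fU ∧ AlgSp.IsUnivOpenMor φ.fU) ∧
      (AlgSp.IsSurjectiveMor φ.fR ∧ AlgSp.LocP @Flat φ.fR ∧ AlgSp.IsUnivOpenMor φ.fR ∧ AlgSp.IsAffineMor φ.fR) := by
  have hU : AlgSp.IsAlgSpace G.U := (AlgSp.IsAlgSpace.yon_obj _).of_iso eU.symm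
  have hU' : AlgSp.IsAlgSpace G'.U := (AlgSp.IsAlgSpace.yon_obj _).of_iso eU'.symm
  have h1 : ∀ f ∈ [G.s, G.t],
      AlgSp.IsSurjectiveMor f ∧ AlgSp.LocP @Flat f ∧ AlgSp.IsUnivOpenMor f := by
    intro f hf
    rcases List.mem_pair.1 hf with rfl | rfl
    · exact ⟨isSurjectiveMor_of_section G.s G.e G.e_s, locP_flat_of_iso_field k σ eU _,
        isUnivOpenMor_of_iso_field k σ eU hR _⟩
    · exact ⟨isSurjectiveMor_of_section G.t G.e G.e_t, locP_flat_of_iso_field k σ eU _,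
        isUnivOpenMor_of_iso_field k σ eU hR _⟩
  have h2 : ∀ f ∈ [G'.s, G'.t],
      AlgSp.IsSurjectiveMor f ∧ AlgSp.LocP @Flat f ∧ AlgSp.IsUnivOpenMor f := by
    intro f hf
    rcases List.mem_pair.1 hf with rfl | rfl
    · exact ⟨isSurjectiveMor_of_section G'.s G'.e G'.e_s, locP_flat_of_iso_field k' _ eU' _,
        isUnivOpenMor_of_iso_field k' _ eU' hR' _⟩
    · exact ⟨isSurjectiveMor_of_section G'.t G'.e G'.e_t, locP_flat_of_iso_field k' _ eU' _,
        isUnivOpenMor_of_iso_field k' _ eU' hR' _⟩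
  have hκ : AlgSp.IsAffineMor ((AlgSp.yon S).map
      (Over.homMk (Spec.map (CommRingCat.ofHom (algebraMap k k'))) rfl :
        Over.mk (Spec.map (CommRingCat.ofHom (algebraMap k k')) ≫ σ) ⟶ Over.mk σ)) :=
    isAffineMor_of_repWith ((AlgSp.repWith_yon_map_iff @IsAffineHom _).2 (by
      show IsAffineHom (Spec.map (CommRingCat.ofHom (algebraMap k k')))
      infer_instance))
  have h3a : AlgSp.IsAffineMor φ.fU := by
    rw [hfU]
    exact isAffineMor_comp (isAffineMor_of_isIso _) (isAffineMor_comp hκ (isAffineMor_of_isIso _))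
  have h3s : AlgSp.IsSurjectiveMor φ.fU := by
    intro y
    obtain ⟨x0⟩ := nonempty_points_spec_field (Spec.map (CommRingCat.ofHom (algebraMap k k')) ≫ σ)
    refine ⟨AlgSp.Points.map eU'.inv x0, ?_⟩
    have hinj : Function.Injective (AlgSp.Points.map eU.hom) := by
      intro a b hab
      have h := congrArg (AlgSp.Points.map eU.inv) hab
      rwa [← AlgSp.Points.map_comp, ← AlgSp.Points.map_comp, eU.hom_inv_id, AlgSp.Points.map_id,
        AlgSp.Points.map_id] at h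
    apply hinj
    exact (subsingleton_points_spec_field σ).elim _ _
  have h3 : Nice4 φ.fU := ⟨h3s, locP_flat_of_iso_field k σ eU _,
    isUnivOpenMor_of_iso_field k σ eU hU' _, h3a⟩
  have hM : AlgSp.IsAlgSpace (pullback G.pU G'.pU) := isAlgSpace_pullback G.pU G'.pU hU hU' hB.diag
  have hP' : AlgSp.IsAlgSpace (pullback G'.pU G'.pU) :=
    isAlgSpace_pullback G'.pU G'.pU hU' hU' hB.diag
  have hP : AlgSp.IsAlgSpace (pullback G.pU G.pU) := isAlgSpace_pullback G.pU G.pU hU hU hB.diag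
  have hc₁ : (pullback.fst G'.pU G'.pU ≫ φ.fU) ≫ G.pU = pullback.snd G'.pU G'.pU ≫ G'.pU := by
    rw [Category.assoc, φ.fU_over]
    exact pullback.condition
  have hc₂ : pullback.fst G.pU G'.pU ≫ G.pU = (pullback.snd G.pU G'.pU ≫ φ.fU) ≫ G.pU := by
    rw [Category.assoc, φ.fU_over]
    exact pullback.condition
  have sq₁ : IsPullback (pullback.lift _ _ hc₁) (pullback.fst G'.pU G'.pU)
      (pullback.fst G.pU G'.pU) φ.fU := isPullback_lift_fst φ.fU G.pU G'.pU G'.pU φ.fU_over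
  have sq₂ : IsPullback (pullback.lift _ _ hc₂) (pullback.snd G.pU G'.pU)
      (pullback.snd G.pU G.pU) φ.fU := isPullback_lift_snd φ.fU G.pU G.pU G'.pU φ.fU_over
  have hm₁ := Nice4.baseChange hU' hU hM sq₁.flip h3
  have hm₂ := Nice4.baseChange hU' hU hP sq₂.flip h3
  have hprod : φ.prodMap = pullback.lift _ _ hc₁ ≫ pullback.lift _ _ hc₂ := by
    apply pullback.hom_ext
    · rw [Category.assoc, pullback.lift_fst, pullback.lift_fst]
      exact pullback.lift_fst _ _ _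
    · rw [Category.assoc, pullback.lift_snd, ← Category.assoc, pullback.lift_snd]
      exact pullback.lift_snd _ _ _
  have hpm : Nice4 φ.prodMap := by
    rw [hprod]
    exact Nice4.comp hM hP hm₁ hm₂
  have hφ' : IsPullback φ.fR G'.j G.j φ.prodMap := hφ
  have h4 := Nice4.baseChange hP' hP hR hφ'.flip hpm
  exact ⟨h1, h2, ⟨h3.surj, h3.flat, h3.uo⟩, ⟨h4.surj, h4.flat, h4.uo, h4.aff⟩⟩

end Groth.Agent.S10132
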