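import Groth.Statements.S10136
import Groth.Agent.H50.FibDimBC
import Groth.Agent.S10678
import Groth.Agent.S5792

set_option autoImplicit false
universe u
open CategoryTheory CategoryTheory.Limits AlgebraicGeometry MonoidalCategory MonObj
open AlgSp

namespace Groth.Agent.S10136

/-- For a group algebraic space `G` locally of finite type over a field `k`, `dim_g(G) = dim(G)` for
every point `g` of `G`. (The published situation allows any base scheme `S` with `k` a field over
`S`; this row takes `S = Spec k`.) -/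
theorem result (k : Type u) [Field k]
    (G : Over ((AlgSp.yon (Spec (CommRingCat.of k))).obj (Over.mk (𝟙 _)))) [GrpObj G] (hG : AlgSp.IsAlgSpace G.left)
    (hlft : AlgSp.LocP @LocallyOfFiniteType G.hom) (g : AlgSp.Points G.left) :
    AlgSp.HasAt (fun V v => FlatMor.localDim ↥V v = AlgSp.dim G.left) G.left g := by
  have hB : AlgSp.IsAlgSpace ((AlgSp.yon (Spec (CommRingCat.of k))).obj (Over.mk (𝟙 _))) :=
    AlgSp.IsAlgSpace.yon_obj _
  have hsub : ∀ y y' : AlgSp.Points ((AlgSp.yon (Spec (CommRingCat.of k))).obj (Over.mk (𝟙 _))),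
      y = y' := by
    intro y y'
    obtain ⟨t, rfl⟩ := (AlgSp.Points.schemeHomeo _).surjective y
    obtain ⟨t', rfl⟩ := (AlgSp.Points.schemeHomeo _).surjective y'
    congr 1
    exact Subsingleton.elim (α := PrimeSpectrum k) t t'
  have hss : Subsingleton ↥(Over.mk (𝟙 (Spec (CommRingCat.of k)))).left := by
    show Subsingleton (PrimeSpectrum k)
    infer_instance
  have hid : AlgSp.RepWith @Etale (𝟙 ((AlgSp.yon (Spec (CommRingCat.of k))).obj (Over.mk (𝟙 _)))) :=
    AlgSp.repWith_id @Etale (Over.mk (𝟙 (Spec (CommRingCat.of k))))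
  have key : ∀ (U U' : Over (Spec (CommRingCat.of k)))
      (a : (AlgSp.yon _).obj U ⟶ G.left) (a' : (AlgSp.yon _).obj U' ⟶ G.left),
      AlgSp.RepWith @Etale a → AlgSp.RepWith @Etale a' → ∀ (u : ↥U.left) (u' : ↥U'.left),
      FlatMor.localDim ↥U.left u = FlatMor.localDim ↥U'.left u' := by
    intro U U' a a' ha ha' u u'
    obtain ⟨h, hh⟩ := (AlgSp.yon _).map_surjective (a ≫ G.hom)
    obtain ⟨h', hh'⟩ := (AlgSp.yon _).map_surjective (a' ≫ G.hom)
    have comm : a ≫ G.hom = (AlgSp.yon _).map h ≫ 𝟙 _ := by rw [hh, Category.comp_id]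
    have comm' : a' ≫ G.hom = (AlgSp.yon _).map h' ≫ 𝟙 _ := by rw [hh', Category.comp_id]
    obtain ⟨d, hd⟩ : ∃ d, FlatMor.fibreDimAt h.left u = d := ⟨_, rfl⟩
    have h1 : AlgSp.HasAtMor (fun _ _ h u => FlatMor.fibreDimAt h u = d) G.hom
        (AlgSp.Points.ofPt a u) :=
      ⟨U, _, a, 𝟙 _, h, u, ha, hid, comm, rfl, hd⟩
    have h2 := (Groth.Agent.H50.grp_fibreDim_translate hB G hG hlft _ d).1 h1
    rw [hsub (AlgSp.Points.map G.hom (AlgSp.Points.ofPt a u))
      (AlgSp.Points.map G.hom (AlgSp.Points.ofPt a' u'))] at h2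
    have h3 := (Groth.Agent.H50.grp_fibreDim_translate hB G hG hlft
      (AlgSp.Points.ofPt a' u') d).2 h2
    have h4 := Groth.Agent.H52.fibreDimAt_eq_of_hasAtMor G.hom _ d h3 a' (𝟙 _) h' ha' hid comm' u' rfl
    rw [Groth.Agent.S10678.fibreDimAt_eq_localDim_of_subsingleton] at h4 hd
    rw [h4, hd]
  obtain ⟨U, a, hae, has⟩ := hG.atlas
  obtain ⟨u, hu⟩ := Groth.Agent.H52.surjective_ofPt_of_surjective a has g
  refine ⟨U, a, u, hae, hu, ?_⟩
  apply le_antisymm
  · exact (Groth.Agent.H9.FibDim.localDim_le_dim _ u).trans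
      (le_iSup_of_le U (le_iSup_of_le a (le_iSup_of_le hae le_rfl)))
  · unfold AlgSp.dim
    refine iSup_le fun U' => iSup_le fun a' => iSup_le fun ha' => ?_
    rw [Groth.Agent.S5792.result]
    exact iSup_le fun u' => (key U' U a' a ha' hae u' u).le

end Groth.Agent.S10136
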