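import Groth.Statements.S10347
import Groth.Agent.H52.DimLqf
import Groth.Agent.H52.Charts

set_option autoImplicit false
universe u
open CategoryTheory CategoryTheory.Limits AlgebraicGeometry Topology TopologicalSpace
open AlgSp

namespace Groth.Agent.S10347

/-- For a locally quasi-finite morphism f : X ⟶ Y of algebraic spaces over a scheme S (locally
quasi-finite and locally of finite type, etale locally on source and target), dim X ≤ dim Y. -/
theorem result {S : Scheme.{u}} {X Y : AlgSp.Space S} (f : X ⟶ Y)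
    (hf : AlgSp.LocP (@LocallyQuasiFinite ⊓ @LocallyOfFiniteType) f.hom) :
    AlgSp.dim X.obj ≤ AlgSp.dim Y.obj := by
  unfold AlgSp.dim
  refine iSup_le fun U => iSup_le fun a => iSup_le fun ha => ?_
  obtain ⟨V, b, hbe, hbs⟩ := Y.property.atlas
  obtain ⟨U', ψ, fst, sq⟩ := hbe.1 (a ≫ f.hom)
  obtain ⟨h, rfl⟩ := (AlgSp.yon S).map_surjective fst
  have hψe : Etale ψ.left := hbe.2 _ _ _ sq
  have hψs : Surjective ψ.left := hbs.2 _ _ _ sq
  have ha' : AlgSp.RepWith @Etale ((AlgSp.yon S).map ψ ≫ a) :=
    Groth.Agent.H52.repWith_yon_map_comp @Etale ψ hψe a ha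
  have hh := hf ((AlgSp.yon S).map ψ ≫ a) b h ha' hbe (by rw [Category.assoc, sq.w])
  have hlqf : LocallyQuasiFinite h.left := hh.1
  calc topologicalKrullDim ↥U.left
      ≤ topologicalKrullDim ↥U'.left := Groth.Agent.H52.topologicalKrullDim_le_of_flat_surjective ψ.left
    _ ≤ topologicalKrullDim ↥V.left := Groth.Agent.H52.topologicalKrullDim_le_of_locallyQuasiFinite h.left
    _ ≤ _ := by
      refine le_iSup_of_le V (le_iSup_of_le b ?_)
      exact le_iSup (fun _ : AlgSp.RepWith @Etale b => topologicalKrullDim ↥V.left) hbe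

end Groth.Agent.S10347
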