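import Groth.Statements.S10137
import Groth.Agent.H50.GpdDim
import Groth.Agent.H37.AlgUnits
import Groth.Agent.S9902
import Groth.Agent.S9948
import Groth.Agent.S10347
import Groth.Agent.H52.Charts
import Groth.Agent.H52.FibProd
import Groth.Agent.H50.Basic
import Groth.Prelude.Def_AlgSpDec

set_option autoImplicit false
universe u
open CategoryTheory CategoryTheory.Limits AlgebraicGeometry
open AlgSp AlgSp.GroupoidSp

namespace Groth.Agent.S10137

/-- For a groupoid in algebraic spaces `(U, R, s, t, c)` over `B` with `U = Spec k` and `s, t` locally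
of finite type, the stabilizer group algebraic space `G = Spec k ×_{Δ, Spec k ×_B Spec k, (t, s)} R`
satisfies `dim(R) = dim(G)`. -/
theorem result (S : Scheme.{u}) (B : AlgSp.Sp S) (hB : AlgSp.IsAlgSpace B)
    (G : AlgSp.GroupoidSp B) (hR : AlgSp.IsAlgSpace G.R) (k : Type u) [Field k]
    (σ : Spec (CommRingCat.of k) ⟶ S) (eU : G.U ≅ (AlgSp.yon S).obj (Over.mk σ))
    (hs : AlgSp.LocP @LocallyOfFiniteType G.s) (ht : AlgSp.LocP @LocallyOfFiniteType G.t) :
    AlgSp.dim G.R = AlgSp.dim G.stabilizer := by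
  have hU : IsAlgSpace G.U := (IsAlgSpace.yon_obj (Over.mk σ)).of_iso eU.symm
  have hP : IsAlgSpace (pullback G.pU G.pU) :=
    Groth.Agent.H52.isAlgSpace_of_isPullback (IsPullback.of_hasPullback G.pU G.pU) hB.diag hU hU
  have hdf : G.diag ≫ pullback.fst G.pU G.pU = 𝟙 G.U := pullback.lift_fst _ _ _
  have hds : G.diag ≫ pullback.snd G.pU G.pU = 𝟙 G.U := pullback.lift_snd _ _ _
  have hsec : (ObjectProperty.homMk G.diag :
      (⟨G.U, hU⟩ : AlgSp.Space S) ⟶ ⟨pullback G.pU G.pU, hP⟩) ≫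
      (ObjectProperty.homMk (pullback.fst G.pU G.pU) :
        (⟨pullback G.pU G.pU, hP⟩ : AlgSp.Space S) ⟶ ⟨G.U, hU⟩) = 𝟙 _ :=
    ObjectProperty.hom_ext _ hdf
  have hdiag : RepWith (@LocallyQuasiFinite ⊓ @LocallyOfFiniteType) G.diag :=
    (Groth.Agent.S9902.result _ _ hsec).2.2.1
  have sqst : IsPullback G.stabilizerι G.stabilizerToU G.j G.diag :=
    IsPullback.of_hasPullback G.j G.diag
  have hι : RepWith (@LocallyQuasiFinite ⊓ @LocallyOfFiniteType) G.stabilizerι :=
    Groth.Agent.H50.repWith_fst_of_isPullback sqst hdiag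
  have hstab : IsAlgSpace G.stabilizer :=
    Groth.Agent.H52.isAlgSpace_of_isPullback sqst hP.diag hR hU
  apply le_antisymm
  · -- dim R ≤ dim stabilizer
    have pt : ↥(Over.mk σ).left := (⟨⊥, Ideal.bot_prime⟩ : PrimeSpectrum k)
    obtain ⟨ε, hε⟩ : ∃ ε : (yon S).obj (Over.mk σ) ⟶ G.R, ε = eU.inv ≫ G.e := ⟨_, rfl⟩
    have hεs : ε ≫ G.s ≫ eU.hom = 𝟙 _ := by
      rw [hε, Category.assoc, ← Category.assoc G.e, G.e_s, Category.id_comp, eU.inv_hom_id]
    have hεt : ε ≫ G.t ≫ eU.hom = 𝟙 _ := by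
      rw [hε, Category.assoc, ← Category.assoc G.e, G.e_t, Category.id_comp, eU.inv_hom_id]
    obtain ⟨V₁, a₁, ha₁e, ha₁s⟩ := hR.atlas
    obtain ⟨v₁, hv₁⟩ := Groth.Agent.H52.surjective_ofPt_of_surjective a₁ ha₁s (Points.ofPt ε pt)
    obtain ⟨Vo, hVo, hv₁Vo, -⟩ := TopologicalSpace.Opens.isBasis_iff_nbhd.mp
      V₁.left.isBasis_affineOpens (show v₁ ∈ (⊤ : V₁.left.Opens) from trivial)
    have hVo' : IsAffineOpen Vo := hVo
    obtain ⟨φ, hφ⟩ : ∃ φ : Spec Γ(V₁.left, Vo) ⟶ V₁.left, φ = hVo'.fromSpec := ⟨_, rfl⟩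
    haveI : IsOpenImmersion φ := by rw [hφ]; infer_instance
    have hφrange : Set.range φ = (Vo : Set V₁.left) := by rw [hφ]; exact hVo'.range_fromSpec
    obtain ⟨z₀, hz₀⟩ : ∃ z₀ : ↥(Spec Γ(V₁.left, Vo)), φ z₀ = v₁ := by
      have : v₁ ∈ Set.range φ := by rw [hφrange]; exact hv₁Vo
      exact this
    obtain ⟨a, hadef⟩ : ∃ a : (yon S).obj (Groth.Agent.H52.overOf φ) ⟶ G.R,
        a = (yon S).map (Groth.Agent.H52.overOfHom φ) ≫ a₁ := ⟨_, rfl⟩
    have hae : RepWith @Etale a := by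
      rw [hadef]
      exact Groth.Agent.H52.repWith_yon_map_comp @Etale (Groth.Agent.H52.overOfHom φ)
        (show Etale φ from inferInstance) a₁ ha₁e
    have haz₀ : Points.ofPt a z₀ = Points.ofPt ε pt := by
      rw [hadef, Groth.Agent.H52.ofPt_yon_map_comp]
      show Points.ofPt a₁ (φ z₀) = _
      rw [hz₀, hv₁]
    obtain ⟨ms, hms⟩ := (yon S).map_surjective (a ≫ G.s ≫ eU.hom)
    obtain ⟨mt, hmt⟩ := (yon S).map_surjective (a ≫ G.t ≫ eU.hom)
    have comms : a ≫ G.s = (yon S).map ms ≫ eU.inv := by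
      rw [hms, Category.assoc, Category.assoc, eU.hom_inv_id, Category.comp_id]
    have commt : a ≫ G.t = (yon S).map mt ≫ eU.inv := by
      rw [hmt, Category.assoc, Category.assoc, eU.hom_inv_id, Category.comp_id]
    have hb : RepWith @Etale eU.inv := Groth.Agent.H50.repWith_of_isIso @Etale eU.inv
    have hmtft : LocallyOfFiniteType mt.left := ht a eU.inv mt hae hb commt
    obtain ⟨σh, hσ⟩ : ∃ σh : CommRingCat.of k ⟶ Γ(V₁.left, Vo), Spec.map σh = ms.left :=
      Spec.map_surjective _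
    obtain ⟨τh, hτ⟩ : ∃ τh : CommRingCat.of k ⟶ Γ(V₁.left, Vo), Spec.map τh = mt.left :=
      Spec.map_surjective _
    haveI : LocallyOfFiniteType (Spec.map τh) := by rw [hτ]; exact hmtft
    have hft : τh.hom.FiniteType :=
      (HasRingHomProperty.Spec_iff (P := @LocallyOfFiniteType)).mp inferInstance
    haveI : IsNoetherianRing Γ(V₁.left, Vo) := by
      letI := τh.hom.toAlgebra
      haveI : Algebra.FiniteType k Γ(V₁.left, Vo) := hft
      exact Algebra.FiniteType.isNoetherianRing k Γ(V₁.left, Vo)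
    obtain ⟨Z, hZ⟩ : ∃ Z : Set (PrimeSpectrum Γ(V₁.left, Vo)),
        Z = PrimeSpectrum.zeroLocus (Set.range fun a : k => σh.hom a - τh.hom a) := ⟨_, rfl⟩
    have hZmem : ∀ x : PrimeSpectrum Γ(V₁.left, Vo),
        x ∈ Z ↔ ∀ a : k, σh.hom a - τh.hom a ∈ x.asIdeal := by
      intro x
      rw [hZ, PrimeSpectrum.mem_zeroLocus, Set.range_subset_iff]
      rfl
    have hZcons : Topology.IsConstructible Z := by
      have hfg : (Ideal.span (Set.range fun a : k => σh.hom a - τh.hom a)).FG :=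
        IsNoetherian.noetherian _
      have := ((PrimeSpectrum.isRetrocompact_zeroLocus_compl_of_fg hfg).isConstructible
        (PrimeSpectrum.isClosed_zeroLocus _).isOpen_compl).of_compl
      rwa [PrimeSpectrum.zeroLocus_span, ← hZ] at this
    have hZgen : StableUnderGeneralization Z := by
      intro x y hyx hx
      rw [hZmem] at hx ⊢
      have hle : y ≤ x := (PrimeSpectrum.le_iff_specializes y x).mpr hyx
      exact fun a => Groth.Agent.H37.AlgUnits.sub_mem_of_le σh.hom τh.hom hft y.asIdeal x.asIdeal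
        (hp := y.isPrime) (hq' := x.isPrime) hle hx a
    have hZopen : IsOpen Z :=
      PrimeSpectrum.isOpen_of_stableUnderGeneralization_of_isConstructible hZgen hZcons
    -- the identity point lies in `Z`
    have hz₀Z : ∀ b : k, σh.hom b - τh.hom b ∈
        PrimeSpectrum.asIdeal (R := ↑Γ(V₁.left, Vo)) z₀ := by
      intro b
      obtain ⟨Q, sndQ, fstQ, sq⟩ := hae.rep ε
      obtain ⟨f₁, rfl⟩ := (yon S).map_surjective fstQ
      obtain ⟨q, hq1, -⟩ := Groth.Agent.H52.exists_of_ofPt_eq_ofPt sq z₀ pt haz₀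
      have e1 : f₁ ≫ ms = sndQ := by
        apply (yon S).map_injective
        rw [Functor.map_comp, hms, ← Category.assoc, sq.w, Category.assoc, hεs, Category.comp_id]
      have e2 : f₁ ≫ mt = sndQ := by
        apply (yon S).map_injective
        rw [Functor.map_comp, hmt, ← Category.assoc, sq.w, Category.assoc, hεt, Category.comp_id]
      have e12 : f₁.left ≫ Spec.map σh = f₁.left ≫ Spec.map τh := by
        rw [hσ, hτ, ← Over.comp_left, ← Over.comp_left, e1, e2]
      obtain ⟨χ, hχ⟩ : ∃ χ : Γ(V₁.left, Vo) ⟶ Q.left.residueField q,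
          Spec.map χ = Q.left.fromSpecResidueField q ≫ f₁.left := Spec.map_surjective _
      have hστχ : σh ≫ χ = τh ≫ χ := by
        apply Spec.map_injective
        rw [Spec.map_comp, Spec.map_comp, hχ, Category.assoc, Category.assoc, e12]
      have pt' : ↥(Spec (Q.left.residueField q)) :=
        (⟨⊥, Ideal.bot_prime⟩ : PrimeSpectrum (Q.left.residueField q))
      have hg : (Spec.map χ) pt' = z₀ := by
        rw [hχ, Scheme.Hom.comp_apply, Scheme.fromSpecResidueField_apply, hq1]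
      rw [← hg]
      show χ.hom (σh.hom b - τh.hom b) ∈ (pt' : PrimeSpectrum _).asIdeal
      have h1 : χ.hom (σh.hom b) = χ.hom (τh.hom b) := by
        have := congrArg (fun g => g.hom b) hστχ
        simpa using this
      rw [map_sub, h1, sub_self]
      exact zero_mem _
    -- the closed subscheme `Spec (B ⧸ I)` as a scheme over the chart
    obtain ⟨I, hI⟩ : ∃ I : Ideal Γ(V₁.left, Vo),
        I = Ideal.span (Set.range fun a : k => σh.hom a - τh.hom a) := ⟨_, rfl⟩
    obtain ⟨qh, hqh⟩ : ∃ qh : Γ(V₁.left, Vo) ⟶ CommRingCat.of (Γ(V₁.left, Vo) ⧸ I),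
        qh = CommRingCat.ofHom (Ideal.Quotient.mk I) := ⟨_, rfl⟩
    have heq : σh ≫ qh = τh ≫ qh := by
      rw [hqh]
      ext b
      show Ideal.Quotient.mk I (σh.hom b) = Ideal.Quotient.mk I (τh.hom b)
      refine Ideal.Quotient.eq.mpr ?_
      rw [hI]
      exact Ideal.subset_span ⟨b, rfl⟩
    have hZrange : ∀ x : PrimeSpectrum Γ(V₁.left, Vo), x ∈ Z →
        ∃ y : ↥(Spec (CommRingCat.of (Γ(V₁.left, Vo) ⧸ I))), (Spec.map qh) y = x := by
      intro x hx
      have hxI : x ∈ PrimeSpectrum.zeroLocus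
          (RingHom.ker (Ideal.Quotient.mk I) : Set Γ(V₁.left, Vo)) := by
        rw [Ideal.mk_ker, hI, PrimeSpectrum.zeroLocus_span, ← hZ]; exact hx
      rw [← range_comap_of_surjective _ _ Ideal.Quotient.mk_surjective] at hxI
      obtain ⟨y, hy⟩ := hxI
      rw [hqh]
      exact ⟨y, hy⟩
    obtain ⟨ψq, hψq⟩ : ∃ ψq : Groth.Agent.H52.overOf (U := Groth.Agent.H52.overOf φ) (Spec.map qh) ⟶
        Groth.Agent.H52.overOf φ,
        ψq = Groth.Agent.H52.overOfHom (U := Groth.Agent.H52.overOf φ) (Spec.map qh) := ⟨_, rfl⟩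
    have hψql : ψq.left = Spec.map qh := by rw [hψq]; rfl
    have hψ : ψq ≫ ms = ψq ≫ mt := by
      apply Over.OverMorphism.ext
      rw [Over.comp_left, Over.comp_left, hψql, ← hσ, ← hτ, ← Spec.map_comp, ← Spec.map_comp, heq]
    obtain ⟨ρ, hρdef⟩ : ∃ ρ : (yon S).obj (Groth.Agent.H52.overOf
        (U := Groth.Agent.H52.overOf φ) (Spec.map qh)) ⟶ G.R, ρ = (yon S).map ψq ≫ a := ⟨_, rfl⟩
    have hρ : ρ ≫ G.t = ρ ≫ G.s := by
      rw [hρdef, Category.assoc, Category.assoc, comms, commt, ← Category.assoc, ← Category.assoc,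
        ← Functor.map_comp, ← Functor.map_comp, hψ]
    have hcond : ρ ≫ G.j = (ρ ≫ G.s) ≫ G.diag := by
      apply pullback.hom_ext
      · rw [Category.assoc, G.j_fst, Category.assoc, hdf, Category.comp_id, hρ]
      · rw [Category.assoc, G.j_snd, Category.assoc, hds, Category.comp_id]
    obtain ⟨ℓ, hℓ⟩ : ∃ ℓ : (yon S).obj (Groth.Agent.H52.overOf
        (U := Groth.Agent.H52.overOf φ) (Spec.map qh)) ⟶ G.stabilizer, ℓ ≫ G.stabilizerι = ρ :=
      ⟨pullback.lift ρ (ρ ≫ G.s) hcond, pullback.lift_fst _ _ _⟩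
    obtain ⟨E, cE, fE, sqE⟩ := hι.rep a
    have hfE : RepWith @Etale fE := Groth.Agent.H50.repWith_fst_of_isPullback sqE hae
    have hcondE : ℓ ≫ G.stabilizerι = (yon S).map ψq ≫ a := by rw [hℓ, hρdef]
    obtain ⟨d', hd'⟩ := (yon S).map_surjective (sqE.lift ℓ ((yon S).map ψq) hcondE)
    have hd'c : d' ≫ cE = ψq := by
      apply (yon S).map_injective
      rw [Functor.map_comp, hd', sqE.lift_snd]
    have hdl : d'.left ≫ cE.left = Spec.map qh := by
      rw [← Over.comp_left, hd'c, hψql]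
    -- dimension chain
    have hqind : Topology.IsInducing (Spec.map qh) := by
      haveI : IsClosedImmersion (Spec.map qh) := by
        rw [hqh]
        exact IsClosedImmersion.spec_of_surjective _ Ideal.Quotient.mk_surjective
      exact (Spec.map qh).isClosedEmbedding.isEmbedding.isInducing
    have hdind : Topology.IsInducing d'.left := by
      refine Topology.IsInducing.of_comp d'.left.continuous cE.left.continuous ?_
      have : (⇑cE.left ∘ ⇑d'.left) = ⇑(Spec.map qh) := by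
        funext y
        rw [Function.comp_apply, ← Scheme.Hom.comp_apply, hdl]
      rw [this]
      exact hqind
    have h3 : topologicalKrullDim ↥E.left ≤ AlgSp.dim G.stabilizer :=
      le_iSup_of_le E (le_iSup_of_le fE (le_iSup_of_le hfE le_rfl))
    have h2 : topologicalKrullDim (Z : Set (PrimeSpectrum Γ(V₁.left, Vo))) ≤
        topologicalKrullDim ↥(Spec (CommRingCat.of (Γ(V₁.left, Vo) ⧸ I))) := by
      have hex : ∀ x : (Z : Set (PrimeSpectrum Γ(V₁.left, Vo))),
          ∃ y : ↥(Spec (CommRingCat.of (Γ(V₁.left, Vo) ⧸ I))), (Spec.map qh) y = x.1 :=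
        fun x => hZrange x.1 x.2
      choose g hg using hex
      have hgi : Topology.IsInducing g := by
        refine hqind.of_comp_iff.mp ?_
        have : ⇑(Spec.map qh) ∘ g = Subtype.val := funext hg
        rw [this]; exact Topology.IsInducing.subtypeVal
      exact hgi.topologicalKrullDim_le
    have h1 : FlatMor.localDim ↥(Spec Γ(V₁.left, Vo)) z₀ ≤
        topologicalKrullDim (Z : Set (PrimeSpectrum Γ(V₁.left, Vo))) :=
      Groth.Agent.H9.FibDim.localDim_le_of_mem (PrimeSpectrum Γ(V₁.left, Vo)) z₀ ⟨Z, hZopen⟩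
        ((hZmem z₀).mpr hz₀Z)
    have key : FlatMor.localDim ↥(Groth.Agent.H52.overOf φ).left z₀ ≤ AlgSp.dim G.stabilizer :=
      h1.trans (h2.trans (hdind.topologicalKrullDim_le.trans h3))
    have hdimR : AlgSp.dim G.R ≤ FlatMor.localDim ↥(Groth.Agent.H52.overOf φ).left z₀ := by
      unfold AlgSp.dim
      refine iSup_le fun W' => iSup_le fun a' => iSup_le fun ha' => ?_
      rw [Groth.Agent.S5792.result]
      exact iSup_le fun w' =>
        (Groth.Agent.H50.gpd_localDim_const G hR k σ eU hs a' a ha' hae w' z₀).le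
    exact hdimR.trans key
  · -- dim stabilizer ≤ dim R
    have hloc : LocP (@LocallyQuasiFinite ⊓ @LocallyOfFiniteType) G.stabilizerι :=
      (Groth.Agent.S9948.result (@LocallyQuasiFinite ⊓ @LocallyOfFiniteType)
        (Or.inr (Or.inr (Or.inr (Or.inr (Or.inr (Or.inl (fun _ _ _ => Iff.rfl)))))))
        (X := ⟨G.stabilizer, hstab⟩) (Y := ⟨G.R, hR⟩) (ObjectProperty.homMk G.stabilizerι)
        hι.rep).2 hι
    exact Groth.Agent.S10347.result (X := ⟨G.stabilizer, hstab⟩) (Y := ⟨G.R, hR⟩)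
      (ObjectProperty.homMk G.stabilizerι) hloc

end Groth.Agent.S10137
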