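import Groth.Statements.S10141
import Groth.Agent.H51.GpdQuot

set_option autoImplicit false
universe u
open CategoryTheory CategoryTheory.Limits AlgebraicGeometry
open AlgSp

namespace Groth.Agent.S10141

/-- Let `(U, R, s, t, c)` be a groupoid scheme over `S` and `g : U' ⟶ U` a morphism such that the
composite `h : U' ×_{g, U, t} R ⟶ R ⟶ U` of the projection with `s` has open image `W ⊂ U` and `h :
U' ×_{g, U, t} R ⟶ W` is a surjection of fppf sheaves. Then for the restriction `R' = R|_{U'}` the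
map of fppf quotient sheaves `U'/R' ⟶ U/R` is representable and an open immersion. -/
theorem result (S : Scheme.{u}) (G : Grpd.GroupoidScheme S)
    (U' : Scheme.{u}) (g : U' ⟶ G.U) (W : G.U.Opens)
    (hW : (W : Set ↥G.U) = Set.range ⇑(pullback.snd g G.t ≫ G.s))
    (hlift : pullback g G.t ⟶ ↑W) (hh : hlift ≫ W.ι = pullback.snd g G.t ≫ G.s)
    (hsurj : Sheaf.IsLocallySurjective ((AlgSp.yon S).map
      (Over.homMk hlift ((Category.assoc _ _ _).symm.trans (congrArg (· ≫ G.pU) hh)) :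
        Over.mk ((pullback.snd g G.t ≫ G.s) ≫ G.pU) ⟶ Over.mk (W.ι ≫ G.pU))))
    (R' : Over S) (s' t' : R' ⟶ Over.mk (g ≫ G.pU)) (r : R' ⟶ Over.mk G.pR)
    (hsq : IsPullback (prod.lift t' s') r
      (prod.map (Over.homMk g rfl : Over.mk (g ≫ G.pU) ⟶ Over.mk G.pU) (Over.homMk g rfl : Over.mk (g ≫ G.pU) ⟶ Over.mk G.pU))
      (prod.lift (Over.homMk G.t G.t_over : Over.mk G.pR ⟶ Over.mk G.pU) (Over.homMk G.s G.s_over : Over.mk G.pR ⟶ Over.mk G.pU)))
    (ψ : QuotSh.quot Scheme.fppfPrecoverage s' t' ⟶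
      QuotSh.quot Scheme.fppfPrecoverage (Over.homMk G.s G.s_over : Over.mk G.pR ⟶ Over.mk G.pU) (Over.homMk G.t G.t_over : Over.mk G.pR ⟶ Over.mk G.pU))
    (hψ : QuotSh.quotπ Scheme.fppfPrecoverage s' t' ≫ ψ =
      QuotSh.repMap Scheme.fppfPrecoverage (Over.homMk g rfl : Over.mk (g ≫ G.pU) ⟶ Over.mk G.pU) ≫ QuotSh.quotπ Scheme.fppfPrecoverage _ _) :
    AlgSp.RepWith @IsOpenImmersion ψ := by
  have he_over : G.e ≫ G.pR = G.pU := by
    rw [← G.s_over, ← Category.assoc, G.e_s, Category.id_comp]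
  have hi_over : G.i ≫ G.pR = G.pR := by
    rw [← G.s_over, ← Category.assoc, G.i_s, G.t_over, G.s_over]
  refine Groth.Agent.H51.GpdQuot.repWith_isOpenImmersion_quot_restrict_pre
    (Over.homMk G.s G.s_over : Over.mk G.pR ⟶ Over.mk G.pU)
    (Over.homMk G.t G.t_over : Over.mk G.pR ⟶ Over.mk G.pU)
    (Over.homMk g rfl : Over.mk (g ≫ G.pU) ⟶ Over.mk G.pU) s' t' r hsq ?_ W ?_ ?_ ψ hψ
  · -- pre-equivalence relation
    intro T
    refine ⟨fun a => ?_, fun {a b} hab => ?_, fun {a b c} hab hbc => ?_⟩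
    · refine ⟨a ≫ (Over.homMk G.e he_over : Over.mk G.pU ⟶ Over.mk G.pR), ?_, ?_⟩
      · apply Over.OverMorphism.ext
        change (a.left ≫ G.e) ≫ G.t = a.left
        rw [Category.assoc, G.e_t]
        exact Category.comp_id _
      · apply Over.OverMorphism.ext
        change (a.left ≫ G.e) ≫ G.s = a.left
        rw [Category.assoc, G.e_s]
        exact Category.comp_id _
    · obtain ⟨ρ, h1, h2⟩ := hab
      refine ⟨ρ ≫ (Over.homMk G.i hi_over : Over.mk G.pR ⟶ Over.mk G.pR), ?_, ?_⟩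
      · rw [← h2]
        apply Over.OverMorphism.ext
        change (ρ.left ≫ G.i) ≫ G.t = ρ.left ≫ G.s
        rw [Category.assoc, G.i_t]
      · rw [← h1]
        apply Over.OverMorphism.ext
        change (ρ.left ≫ G.i) ≫ G.s = ρ.left ≫ G.t
        rw [Category.assoc, G.i_s]
    · obtain ⟨r₁, h1, h2⟩ := hab
      obtain ⟨r₂, h3, h4⟩ := hbc
      have hcomp : r₁.left ≫ G.s = r₂.left ≫ G.t := by
        have e1 := congrArg CommaMorphism.left h2
        have e2 := congrArg CommaMorphism.left h3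
        exact e1.trans e2.symm
      have hover : (pullback.lift r₁.left r₂.left hcomp ≫ G.c) ≫ G.pR = T.hom := by
        calc (pullback.lift r₁.left r₂.left hcomp ≫ G.c) ≫ G.pR
            = ((pullback.lift r₁.left r₂.left hcomp ≫ G.c) ≫ G.s) ≫ G.pU := by
              rw [Category.assoc _ G.s, G.s_over]
          _ = (r₂.left ≫ G.s) ≫ G.pU := by rw [G.comp_s r₁.left r₂.left hcomp]
          _ = r₂.left ≫ G.pR := by rw [Category.assoc, G.s_over]
          _ = T.hom := Over.w r₂
      refine ⟨(Over.homMk (pullback.lift r₁.left r₂.left hcomp ≫ G.c) hover : T ⟶ Over.mk G.pR), ?_, ?_⟩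
      · rw [← h1]
        apply Over.OverMorphism.ext
        exact G.comp_t r₁.left r₂.left hcomp
      · rw [← h4]
        apply Over.OverMorphism.ext
        exact G.comp_s r₁.left r₂.left hcomp
  · -- the image of `h` lies in `W`
    intro X ξ ρ hρ x
    have hc : ξ.left ≫ g = ρ.left ≫ G.t := (congrArg CommaMorphism.left hρ).symm
    change (ρ.left ≫ G.s) x ∈ (W : Set ↥G.U)
    rw [hW]
    refine ⟨(pullback.lift ξ.left ρ.left hc) x, ?_⟩
    rw [← Scheme.Hom.comp_apply, pullback.lift_snd_assoc]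
  · -- the local surjectivity
    refine ⟨Over.mk ((pullback.snd g G.t ≫ G.s) ≫ G.pU),
      (Over.homMk hlift ((Category.assoc _ _ _).symm.trans (congrArg (· ≫ G.pU) hh)) :
        Over.mk ((pullback.snd g G.t ≫ G.s) ≫ G.pU) ⟶ Over.mk (W.ι ≫ G.pU)),
      (Over.homMk (pullback.fst g G.t) (by
        change pullback.fst g G.t ≫ g ≫ G.pU = (pullback.snd g G.t ≫ G.s) ≫ G.pU
        rw [← Category.assoc, pullback.condition, Category.assoc, G.t_over, Category.assoc,
          G.s_over]) : Over.mk ((pullback.snd g G.t ≫ G.s) ≫ G.pU) ⟶ Over.mk (g ≫ G.pU)),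
      (Over.homMk (pullback.snd g G.t) (by
        change pullback.snd g G.t ≫ G.pR = (pullback.snd g G.t ≫ G.s) ≫ G.pU
        rw [Category.assoc, G.s_over]) : Over.mk ((pullback.snd g G.t ≫ G.s) ≫ G.pU) ⟶ Over.mk G.pR),
      ?_, ?_, ?_⟩
    · exact (Sheaf.isLocallySurjective_iff_epi _).1 hsurj
    · apply Over.OverMorphism.ext
      exact pullback.condition.symm
    · apply Over.OverMorphism.ext
      exact hh.symm

end Groth.Agent.S10141
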