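import Groth.Statements.S10142
import Groth.Agent.H51.Gpd

set_option autoImplicit false
universe u
open CategoryTheory CategoryTheory.Limits AlgebraicGeometry
open AlgSp AlgSp.GroupoidSp
open Groth.Agent.H51

namespace Groth.Agent.S10142

/-- For a groupoid in algebraic spaces `(U, R, s, t, c, e, i)` over `B`: the square with sides `c : R
×_{s,U,t} R ⟶ R`, `pr_1 : R ×_{s,U,t} R ⟶ R`, `s` and `s` is cartesian, and the morphism `R
×_{t,U,t} R ⟶ R ×_{s,U,t} R`, `(α, β) ↦ (α, i(α) ∘ β)`, is an isomorphism whose composite with `c`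
is the second projection `pr_1 : R ×_{t,U,t} R ⟶ R`. (The published statement also lists the square
formed by `pr_0`, `pr_1`, `s`, `t`, which is cartesian by definition of the fibre product.) -/
theorem result (S : Scheme.{u}) (B : AlgSp.Sp S) (hB : AlgSp.IsAlgSpace B)
    (G : AlgSp.GroupoidSp B) (hU : AlgSp.IsAlgSpace G.U) (hR : AlgSp.IsAlgSpace G.R) :
    IsPullback G.c (pullback.snd G.s G.t) G.s G.s ∧
      ∀ φ : pullback G.t G.t ⟶ pullback G.s G.t,
        φ ≫ pullback.fst G.s G.t = pullback.fst G.t G.t →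
        φ ≫ pullback.snd G.s G.t =
          pullback.lift (pullback.fst G.t G.t ≫ G.i) (pullback.snd G.t G.t)
            ((Category.assoc _ _ _).trans ((congrArg (pullback.fst G.t G.t ≫ ·) G.i_s).trans pullback.condition)) ≫ G.c →
        IsIso φ ∧ φ ≫ G.c = pullback.snd G.t G.t := by
  have hmc : ∀ {T : AlgSp.Sp S} (m : T ⟶ pullback G.s G.t),
      m ≫ G.c = Gpd.comp G (m ≫ pullback.fst G.s G.t) (m ≫ pullback.snd G.s G.t)
        (by rw [Category.assoc, pullback.condition, Category.assoc]) := by
    intro T m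
    conv_lhs => rw [Gpd.c_eq G]
    exact Gpd.precomp G m _ _ _
  refine ⟨?_, ?_⟩
  · have hw : G.c ≫ G.s = pullback.snd G.s G.t ≫ G.s := by
      rw [Gpd.c_eq G]; exact Gpd.comp_s G _ _ _
    refine ⟨⟨hw⟩, ⟨PullbackCone.IsLimit.mk hw
      (fun s => pullback.lift
        (Gpd.comp G s.fst (s.snd ≫ G.i) (by rw [Category.assoc, G.i_t, s.condition])) s.snd
        (by rw [Gpd.comp_s, Category.assoc, G.i_s])) ?_ ?_ ?_⟩⟩
    · intro s
      exact Gpd.comp_i_comp' G s.fst s.snd s.condition
    · intro s
      exact pullback.lift_snd _ _ _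
    · intro s m h1 h2
      apply pullback.hom_ext
      · rw [pullback.lift_fst]
        have hγ : s.fst = Gpd.comp G (m ≫ pullback.fst G.s G.t) (m ≫ pullback.snd G.s G.t)
            (by rw [Category.assoc, pullback.condition, Category.assoc]) := by
          rw [← h1]; exact hmc m
        have hβ : s.snd ≫ G.i = (m ≫ pullback.snd G.s G.t) ≫ G.i := by rw [h2]
        refine Eq.trans ?_ (Gpd.comp_congr G hγ hβ ?_ ?_).symm
        · exact (Gpd.comp_comp_i G _ _ _).symm
        · rw [Category.assoc, G.i_t]; exact s.condition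
      · rw [pullback.lift_snd]; exact h2
  · intro φ h1 h2
    have h2' : φ ≫ pullback.snd G.s G.t =
        Gpd.comp G (pullback.fst G.t G.t ≫ G.i) (pullback.snd G.t G.t)
          (by rw [Category.assoc, G.i_s, pullback.condition]) := h2
    have hφc : φ ≫ G.c = pullback.snd G.t G.t := by
      rw [hmc φ]
      refine (Gpd.comp_congr G h1 h2' _ ?_).trans (Gpd.comp_i_comp G _ _ pullback.condition)
      rw [Gpd.comp_t, Category.assoc, G.i_t]
    refine ⟨?_, hφc⟩
    have hct : pullback.fst G.s G.t ≫ G.t = G.c ≫ G.t := by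
      rw [Gpd.c_eq G]; exact (Gpd.comp_t G _ _ _).symm
    let ψ : pullback G.s G.t ⟶ pullback G.t G.t := pullback.lift (pullback.fst G.s G.t) G.c hct
    refine ⟨ψ, ?_, ?_⟩
    · apply pullback.hom_ext
      · rw [Category.assoc, pullback.lift_fst, h1, Category.id_comp]
      · rw [Category.assoc, pullback.lift_snd, hφc, Category.id_comp]
    · apply pullback.hom_ext
      · rw [Category.assoc, h1, pullback.lift_fst, Category.id_comp]
      · rw [Category.assoc, h2', Gpd.precomp, Category.id_comp]
        have e1 : ψ ≫ pullback.fst G.t G.t ≫ G.i = pullback.fst G.s G.t ≫ G.i := by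
          rw [← Category.assoc, pullback.lift_fst]
        have e2 : ψ ≫ pullback.snd G.t G.t =
            Gpd.comp G (pullback.fst G.s G.t) (pullback.snd G.s G.t) pullback.condition := by
          rw [pullback.lift_snd]; exact Gpd.c_eq G
        refine (Gpd.comp_congr G e1 e2 _ ?_).trans (Gpd.i_comp_comp G _ _ pullback.condition)
        rw [Category.assoc, G.i_s, Gpd.comp_t]

end Groth.Agent.S10142
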