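import Groth.Statements.S10145
import Groth.Agent.H51.Gpd

set_option autoImplicit false
universe u
open CategoryTheory CategoryTheory.Limits AlgebraicGeometry
open AlgSp AlgSp.GroupoidSp
open Groth.Agent.H51

namespace Groth.Agent.S10145

/-- Let `(U, R, s, t, c)` be a groupoid in algebraic spaces over `B` whose object space is `U = Spec k`,
and let `r : Spec k ⟶ R` be such that `s ∘ r` and `t ∘ r` are automorphisms of `Spec k`; write `a =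
r ∘ (s ∘ r)⁻¹`, so that `s ∘ a = id` and `t ∘ a` is an automorphism. Then `R ⟶ R`, `f ↦ c(a ∘ t ∘ f,
f)`, is an automorphism of `R` mapping `e` to `a` (the point `r`). -/
theorem result (S : Scheme.{u}) (B : AlgSp.Sp S) (hB : AlgSp.IsAlgSpace B)
    (G : AlgSp.GroupoidSp B) (hR : AlgSp.IsAlgSpace G.R) (k : Type u) [Field k]
    (σ : Spec (CommRingCat.of k) ⟶ S) (eU : G.U ≅ (AlgSp.yon S).obj (Over.mk σ))
    (a : G.U ⟶ G.R) (ha : a ≫ G.s = 𝟙 G.U) [IsIso (a ≫ G.t)] :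
    IsIso (pullback.lift (G.t ≫ a) (𝟙 G.R) (((Category.assoc _ _ _).trans (congrArg (G.t ≫ ·) ha)).trans ((Category.comp_id _).trans (Category.id_comp _).symm)) ≫ G.c) ∧
      G.e ≫ (pullback.lift (G.t ≫ a) (𝟙 G.R) (((Category.assoc _ _ _).trans (congrArg (G.t ≫ ·) ha)).trans ((Category.comp_id _).trans (Category.id_comp _).symm)) ≫ G.c) = a := by
  have h0 : (G.t ≫ a) ≫ G.s = 𝟙 G.R ≫ G.t := by
    rw [Category.assoc, ha, Category.comp_id, Category.id_comp]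
  change IsIso (Gpd.comp G (G.t ≫ a) (𝟙 G.R) h0) ∧ G.e ≫ Gpd.comp G (G.t ≫ a) (𝟙 G.R) h0 = a
  set F := Gpd.comp G (G.t ≫ a) (𝟙 G.R) h0 with hF
  have hτ : inv (a ≫ G.t) ≫ a ≫ G.t = 𝟙 _ := IsIso.inv_hom_id _
  have hτ' : (a ≫ G.t) ≫ inv (a ≫ G.t) = 𝟙 _ := IsIso.hom_inv_id _
  -- α = a(τ⁻¹(t g))
  let α : G.R ⟶ G.R := G.t ≫ inv (a ≫ G.t) ≫ a
  have hαt : α ≫ G.t = 𝟙 G.R ≫ G.t := by
    simp only [α, Category.assoc]
    rw [hτ, Category.comp_id, Category.id_comp]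
  have hαs : α ≫ G.s = G.t ≫ inv (a ≫ G.t) := by
    simp only [α, Category.assoc]
    rw [ha, Category.comp_id]
  have h0' : (α ≫ G.i) ≫ G.s = 𝟙 G.R ≫ G.t := by
    rw [Category.assoc, G.i_s, hαt]
  let F' := Gpd.comp G (α ≫ G.i) (𝟙 G.R) h0'
  have hFt : F ≫ G.t = G.t ≫ a ≫ G.t := by
    rw [hF, Gpd.comp_t, Category.assoc]
  have hF't : F' ≫ G.t = G.t ≫ inv (a ≫ G.t) := by
    change Gpd.comp G (α ≫ G.i) (𝟙 G.R) h0' ≫ G.t = _
    rw [Gpd.comp_t, Category.assoc, G.i_t, hαs]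
  refine ⟨⟨F', ?_, ?_⟩, ?_⟩
  · -- F ≫ F' = 𝟙
    change F ≫ Gpd.comp G (α ≫ G.i) (𝟙 G.R) h0' = 𝟙 _
    rw [Gpd.precomp]
    have e1 : F ≫ α ≫ G.i = (G.t ≫ a) ≫ G.i := by
      have h3 : F ≫ α = G.t ≫ a := by
        change F ≫ G.t ≫ inv (a ≫ G.t) ≫ a = _
        rw [← Category.assoc F G.t, hFt, Category.assoc G.t (a ≫ G.t), IsIso.hom_inv_id_assoc]
      rw [← Category.assoc, h3]
    have e2 : F ≫ 𝟙 G.R = Gpd.comp G (G.t ≫ a) (𝟙 G.R) h0 := by rw [Category.comp_id]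
    refine (Gpd.comp_congr G e1 e2 _ ?_).trans (Gpd.i_comp_comp G _ _ h0)
    rw [Category.assoc, G.i_s, Gpd.comp_t]
  · -- F' ≫ F = 𝟙
    rw [hF, Gpd.precomp]
    have e1 : F' ≫ G.t ≫ a = α := by
      rw [← Category.assoc, hF't, Category.assoc]
    have e2 : F' ≫ 𝟙 G.R = Gpd.comp G (α ≫ G.i) (𝟙 G.R) h0' := by rw [Category.comp_id]
    refine (Gpd.comp_congr G e1 e2 _ ?_).trans (Gpd.comp_i_comp G α (𝟙 G.R) hαt)
    rw [Gpd.comp_t, Category.assoc α G.i G.t, G.i_t]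
  · rw [hF, Gpd.precomp]
    have e1 : G.e ≫ G.t ≫ a = a := by
      rw [← Category.assoc, G.e_t, Category.id_comp]
    have e2 : G.e ≫ 𝟙 G.R = 𝟙 G.U ≫ G.e := by rw [Category.comp_id, Category.id_comp]
    refine (Gpd.comp_congr G e1 e2 _ ?_).trans (Gpd.comp_e G a (𝟙 G.U) ha.symm)
    rw [Category.assoc, G.e_t, Category.comp_id, ha]

end Groth.Agent.S10145
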