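import Groth.Statements.S10146
import Groth.Agent.H50.FieldAut
import Groth.Prelude.Def_AlgSpDec

set_option autoImplicit false
universe u
open CategoryTheory CategoryTheory.Limits AlgebraicGeometry
open AlgSp AlgSp.GroupoidSp

namespace Groth.Agent.S10146

/-- Let `(U, R, s, t, c)` be a groupoid in algebraic spaces over `B` whose object space is `U = Spec k`.
For every point `r` of `R` there are an algebraically closed field extension `k'` of `k` and, on the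
restriction `(U', R', s', t', c')` along `Spec k' ⟶ Spec k`, a morphism `r' : Spec k' ⟶ R'` mapping
to `r` in `R` such that `s' ∘ r'` and `t' ∘ r'` are automorphisms of `Spec k'`. -/
theorem result (S : Scheme.{u}) (B : AlgSp.Sp S) (hB : AlgSp.IsAlgSpace B)
    (G : AlgSp.GroupoidSp B) (hR : AlgSp.IsAlgSpace G.R) (k : Type u) [Field k]
    (σ : Spec (CommRingCat.of k) ⟶ S) (eU : G.U ≅ (AlgSp.yon S).obj (Over.mk σ)) (r : AlgSp.Points G.R) :
    ∃ (k' : Type u) (_ : Field k') (_ : Algebra k k'), IsAlgClosed k' ∧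
      ∀ (G' : AlgSp.GroupoidSp B) (φ : AlgSp.GroupoidSp.Hom G' G), φ.IsRestriction → AlgSp.IsAlgSpace G'.R →
        ∀ (eU' : G'.U ≅ (AlgSp.yon S).obj (Over.mk (Spec.map (CommRingCat.ofHom (algebraMap k k')) ≫ σ))),
          φ.fU = eU'.hom ≫ (AlgSp.yon S).map (Over.homMk (Spec.map (CommRingCat.ofHom (algebraMap k k'))) rfl :
            Over.mk (Spec.map (CommRingCat.ofHom (algebraMap k k')) ≫ σ) ⟶ Over.mk σ) ≫ eU.inv →
          ∃ r' : G'.U ⟶ G'.R, (∀ x : AlgSp.Points G'.U, AlgSp.Points.map (r' ≫ φ.fR) x = r) ∧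
            IsIso (r' ≫ G'.s) ∧ IsIso (r' ≫ G'.t) := by
  induction r using AlgSp.Points.ind with
  | h ρ =>
  obtain ⟨mt, hmt⟩ := (AlgSp.yon S).map_surjective (ρ.toHom ≫ G.t ≫ eU.hom)
  obtain ⟨ms, hms⟩ := (AlgSp.yon S).map_surjective (ρ.toHom ≫ G.s ≫ eU.hom)
  obtain ⟨at', hat⟩ : ∃ f : CommRingCat.of k ⟶ CommRingCat.of ρ.K, Spec.map f = mt.left :=
    Spec.map_surjective mt.left
  obtain ⟨as', has⟩ : ∃ f : CommRingCat.of k ⟶ CommRingCat.of ρ.K, Spec.map f = ms.left :=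
    Spec.map_surjective ms.left
  obtain ⟨k', fk', ack', φr, β, hβ⟩ :=
    Groth.Agent.H50.FieldAut.exists_conj k ρ.K at'.hom as'.hom
  letI algk' : Algebra k k' := (φr.comp at'.hom).toAlgebra
  refine ⟨k', fk', algk', ack', ?_⟩
  intro G' φ hφ hR' eU' hfU
  have hι : CommRingCat.ofHom (algebraMap k k') = at' ≫ CommRingCat.ofHom φr := rfl
  have hβι : CommRingCat.ofHom (algebraMap k k') ≫ CommRingCat.ofHom β.toRingHom =
      as' ≫ CommRingCat.ofHom φr :=
    CommRingCat.hom_ext (RingHom.ext fun x => hβ x)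
  have hstr_t : Spec.map at' ≫ σ = ρ.str := by rw [hat]; exact Over.w mt
  have hstr_s : Spec.map as' ≫ σ = ρ.str := by rw [has]; exact Over.w ms
  have hn0 : Spec.map (CommRingCat.ofHom φr) ≫ ρ.str =
      Spec.map (CommRingCat.ofHom (algebraMap k k')) ≫ σ := by
    rw [hι, Spec.map_comp, Category.assoc, hstr_t]
  have hβ0 : Spec.map (CommRingCat.ofHom β.toRingHom) ≫
      (Spec.map (CommRingCat.ofHom (algebraMap k k')) ≫ σ) =
      Spec.map (CommRingCat.ofHom (algebraMap k k')) ≫ σ := by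
    rw [← Category.assoc, ← Spec.map_comp, hβι, Spec.map_comp, Category.assoc, hstr_s, hn0]
  obtain ⟨ι', hι'⟩ : ∃ ι' : (Over.mk (Spec.map (CommRingCat.ofHom (algebraMap k k')) ≫ σ) :
      Over S) ⟶ Over.mk σ,
      ι' = Over.homMk (Spec.map (CommRingCat.ofHom (algebraMap k k'))) rfl := ⟨_, rfl⟩
  obtain ⟨n, hn⟩ : ∃ n : (Over.mk (Spec.map (CommRingCat.ofHom (algebraMap k k')) ≫ σ) :
      Over S) ⟶ ρ.pt, n.left = Spec.map (CommRingCat.ofHom φr) :=
    ⟨Over.homMk (Spec.map (CommRingCat.ofHom φr)) hn0, rfl⟩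
  obtain ⟨β', hβ'⟩ : ∃ β' : (Over.mk (Spec.map (CommRingCat.ofHom (algebraMap k k')) ≫ σ) :
      Over S) ⟶ Over.mk (Spec.map (CommRingCat.ofHom (algebraMap k k')) ≫ σ),
      β'.left = Spec.map (CommRingCat.ofHom β.toRingHom) :=
    ⟨Over.homMk (Spec.map (CommRingCat.ofHom β.toRingHom)) hβ0, rfl⟩
  have hι'l : ι'.left = Spec.map (CommRingCat.ofHom (algebraMap k k')) := by rw [hι']; rfl
  have I1 : n ≫ mt = ι' := by
    apply Over.OverMorphism.ext
    rw [Over.comp_left, hn, hι'l, ← hat, ← Spec.map_comp, ← hι]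
  have I2 : β' ≫ ι' = n ≫ ms := by
    apply Over.OverMorphism.ext
    rw [Over.comp_left, Over.comp_left, hn, hβ', hι'l, ← has, ← Spec.map_comp, ← Spec.map_comp, hβι]
  have hβiso : IsIso ((AlgSp.yon S).map β') := by
    have h1 : IsIso ((Over.forget S).map β') := by
      show IsIso β'.left
      rw [hβ']
      have : IsIso (CommRingCat.ofHom β.toRingHom) :=
        (ConcreteCategory.isIso_iff_bijective (CommRingCat.ofHom β.toRingHom)).2 β.bijective
      infer_instance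
    have : IsIso β' := isIso_of_reflects_iso β' (Over.forget S)
    infer_instance
  have J0t : ρ.toHom ≫ G.t = (AlgSp.yon S).map mt ≫ eU.inv := by
    rw [hmt, Category.assoc, Category.assoc, eU.hom_inv_id, Category.comp_id]
  have J0s : ρ.toHom ≫ G.s = (AlgSp.yon S).map ms ≫ eU.inv := by
    rw [hms, Category.assoc, Category.assoc, eU.hom_inv_id, Category.comp_id]
  obtain ⟨ρ', hρ'⟩ : ∃ ρ' : (AlgSp.yon S).obj
      (Over.mk (Spec.map (CommRingCat.ofHom (algebraMap k k')) ≫ σ)) ⟶ G.R,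
      ρ' = (AlgSp.yon S).map n ≫ ρ.toHom := ⟨_, rfl⟩
  have J1 : ρ' ≫ G.t = (AlgSp.yon S).map ι' ≫ eU.inv := by
    rw [hρ', Category.assoc, J0t, ← Category.assoc, ← Functor.map_comp, I1]
  have J2 : ρ' ≫ G.s = (AlgSp.yon S).map β' ≫ (AlgSp.yon S).map ι' ≫ eU.inv := by
    rw [hρ', Category.assoc, J0s, ← Category.assoc, ← Functor.map_comp, ← I2, Functor.map_comp,
      Category.assoc]
  have K1 : eU'.inv ≫ φ.fU = (AlgSp.yon S).map ι' ≫ eU.inv := by
    rw [hfU, eU'.inv_hom_id_assoc, hι']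
  have e1 : ((AlgSp.yon S).map ι' ≫ eU.inv) ≫ G.pU = ρ' ≫ G.pR := by
    rw [← J1, Category.assoc, G.t_over]
  have e2 : ((AlgSp.yon S).map β' ≫ (AlgSp.yon S).map ι' ≫ eU.inv) ≫ G.pU = ρ' ≫ G.pR := by
    rw [← J2, Category.assoc, G.s_over]
  have cond : eU'.inv ≫ G'.pU = ((AlgSp.yon S).map β' ≫ eU'.inv) ≫ G'.pU := by
    calc eU'.inv ≫ G'.pU = eU'.inv ≫ φ.fU ≫ G.pU := by rw [φ.fU_over]
      _ = ((AlgSp.yon S).map ι' ≫ eU.inv) ≫ G.pU := by rw [← Category.assoc, K1]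
      _ = ρ' ≫ G.pR := e1
      _ = ((AlgSp.yon S).map β' ≫ (AlgSp.yon S).map ι' ≫ eU.inv) ≫ G.pU := e2.symm
      _ = (((AlgSp.yon S).map β' ≫ eU'.inv) ≫ φ.fU) ≫ G.pU := by
          have h0 : (AlgSp.yon S).map β' ≫ (AlgSp.yon S).map ι' ≫ eU.inv =
              ((AlgSp.yon S).map β' ≫ eU'.inv) ≫ φ.fU := by
            rw [Category.assoc, K1]
          rw [h0]
      _ = ((AlgSp.yon S).map β' ≫ eU'.inv) ≫ G'.pU := by rw [Category.assoc, φ.fU_over]
  obtain ⟨w, hw1, hw2⟩ : ∃ w : (AlgSp.yon S).obj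
      (Over.mk (Spec.map (CommRingCat.ofHom (algebraMap k k')) ≫ σ)) ⟶ pullback G'.pU G'.pU,
      w ≫ pullback.fst G'.pU G'.pU = eU'.inv ∧
      w ≫ pullback.snd G'.pU G'.pU = (AlgSp.yon S).map β' ≫ eU'.inv :=
    ⟨pullback.lift _ _ cond, pullback.lift_fst _ _ _, pullback.lift_snd _ _ _⟩
  have hp1 : φ.prodMap ≫ pullback.fst G.pU G.pU = pullback.fst G'.pU G'.pU ≫ φ.fU :=
    pullback.lift_fst _ _ _
  have hp2 : φ.prodMap ≫ pullback.snd G.pU G.pU = pullback.snd G'.pU G'.pU ≫ φ.fU :=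
    pullback.lift_snd _ _ _
  have comm : ρ' ≫ G.j = w ≫ φ.prodMap := by
    apply pullback.hom_ext
    · rw [Category.assoc, G.j_fst, Category.assoc, hp1, ← Category.assoc, hw1, K1]
      exact J1
    · rw [Category.assoc, G.j_snd, Category.assoc, hp2, ← Category.assoc, hw2, Category.assoc, K1]
      exact J2
  obtain ⟨l, hl1, hl2⟩ : ∃ l : (AlgSp.yon S).obj
      (Over.mk (Spec.map (CommRingCat.ofHom (algebraMap k k')) ≫ σ)) ⟶ G'.R,
      l ≫ φ.fR = ρ' ∧ l ≫ G'.j = w :=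
    ⟨hφ.lift _ _ comm, hφ.lift_fst _ _ _, hφ.lift_snd _ _ _⟩
  refine ⟨eU'.hom ≫ l, ?_, ?_, ?_⟩
  · intro x
    rw [Category.assoc, hl1, hρ', ← Category.assoc, AlgSp.Points.map_comp]
    generalize AlgSp.Points.map (eU'.hom ≫ (AlgSp.yon S).map n) x = y
    rw [← AlgSp.Points.ofScheme_toScheme ρ.pt y, AlgSp.Points.map_ofPt, Category.id_comp]
    exact AlgSp.Points.ofPt_toHom ρ _
  · have h : (eU'.hom ≫ l) ≫ G'.s = eU'.hom ≫ (AlgSp.yon S).map β' ≫ eU'.inv := by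
      rw [← G'.j_snd, Category.assoc, ← Category.assoc l, hl2, hw2]
    rw [h]
    infer_instance
  · have h : (eU'.hom ≫ l) ≫ G'.t = 𝟙 _ := by
      rw [← G'.j_fst, Category.assoc, ← Category.assoc l, hl2, hw1, eU'.hom_inv_id]
    rw [h]
    infer_instance

end Groth.Agent.S10146
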