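import Groth.Statements.S10148
import Groth.Agent.H51.LinTop
import Mathlib.Topology.Algebra.InfiniteSum.Nonarchimedean
import Mathlib.Topology.Algebra.InfiniteSum.Ring
import Mathlib.Topology.Algebra.Polynomial

set_option autoImplicit false
set_option linter.unusedSectionVars false
universe u
open LinTop
open Groth.Agent.H51 Topology Filter Polynomial

namespace Groth.Agent.S10148

section

variable (A : Type u) [CommRing A] [UniformSpace A] [IsUniformAddGroup A] [IsTopologicalRing A]
  [IsLinearTopology A A]

theorem nonarch : NonarchimedeanAddGroup A where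
  is_nonarchimedean := fun U hU => by
    obtain ⟨I, hI, hIU⟩ := exists_open_ideal_subset hU
    exact ⟨⟨I.toAddSubgroup, hI⟩, hIU⟩

variable [T2Space A] [CompleteSpace A]

theorem isUnit_one_sub_of_isTopologicallyNilpotent {z : A} (hz : IsTopologicallyNilpotent z) :
    IsUnit (1 - z) := by
  have : NonarchimedeanAddGroup A := nonarch A
  have hs : Summable (z ^ ·) :=
    NonarchimedeanAddGroup.summable_of_tendsto_cofinite_zero
      (by rw [Nat.cofinite_eq_atTop]; exact hz)
  exact IsUnit.of_mul_eq_one _ hs.one_sub_mul_tsum_pow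

end

/-- Let A be a weakly admissible topological ring (linearly topologized, Hausdorff and complete, having
a weak ideal of definition) and let I be a weak ideal of definition of A, that is, an open ideal
consisting of topologically nilpotent elements. Then (A, I) is a henselian pair. -/
theorem result
    (A : Type u) [CommRing A] [UniformSpace A] [IsUniformAddGroup A] [IsTopologicalRing A]
    (hA : LinTop.IsWeaklyAdmissible A) (I : Ideal A) (hI : LinTop.IsWeakIdealOfDefinition A I) :
    HenselianRing A I := by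
  obtain ⟨⟨hlin, _⟩, hT2, hC⟩ := hA
  have hjac : I ≤ Ideal.jacobson ⊥ := by
    intro x hx
    rw [Ideal.mem_jacobson_bot]
    intro y
    have h1 : IsTopologicallyNilpotent (-(x * y)) :=
      hI.2 _ (I.neg_mem (I.mul_mem_right y hx))
    have := isUnit_one_sub_of_isTopologicallyNilpotent A h1
    simpa [add_comm] using this
  have hna : NonarchimedeanAddGroup A := nonarch A
  refine ⟨hjac, ?_⟩
  intro f _ a₀ h₁ h₂
  classical
  let f' := derivative f
  let e := f.eval a₀
  let E : Ideal A := Ideal.span {e}
  have heE : e ∈ E := Ideal.subset_span rfl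
  have hEI : E ≤ I := (Ideal.span_singleton_le_iff_mem I).mpr h₁
  let c : ℕ → A := fun n => Nat.recOn n a₀ fun _ b => b - f.eval b * Ring.inverse (f'.eval b)
  have hc : ∀ n, c (n + 1) = c n - f.eval (c n) * Ring.inverse (f'.eval (c n)) := fun n => rfl
  have hc_mod : ∀ n, c n ≡ a₀ [SMOD E] := by
    intro n
    induction n with
    | zero => rfl
    | succ n ih =>
      rw [hc, sub_eq_add_neg, ← add_zero a₀]
      refine ih.add ?_
      rw [SModEq.zero, Ideal.neg_mem_iff]
      refine E.mul_mem_right _ ?_
      have h₁' : f.eval a₀ ≡ 0 [SMOD E] := SModEq.zero.mpr heE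
      rw [← SModEq.zero]
      exact (ih.eval f).trans h₁'
  have hf'c : ∀ n, IsUnit (f'.eval (c n)) := by
    intro n
    have := isLocalHom_of_le_jacobson_bot I hjac
    apply IsUnit.of_map (Ideal.Quotient.mk I)
    convert h₂ using 1
    have hmodI : c n ≡ a₀ [SMOD I] := SModEq.mono hEI (hc_mod n)
    exact SModEq.def.mp (hmodI.eval _)
  have hfcI : ∀ n, f.eval (c n) ∈ E ^ (n + 1) := by
    intro n
    induction n with
    | zero =>
      rw [zero_add, pow_one]
      exact heE
    | succ n ih =>
      rw [← taylor_eval_sub (c n), hc, sub_eq_add_neg, sub_eq_add_neg,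
        add_neg_cancel_comm]
      rw [eval_eq_sum, sum_over_range' _ _ _ (lt_add_of_pos_right _ zero_lt_two), ←
        Finset.sum_range_add_sum_Ico _ (Nat.le_add_left _ _)]
      swap
      · intro i
        rw [zero_mul]
      refine Ideal.add_mem _ ?_ ?_
      · rw [← one_add_one_eq_two, Finset.sum_range_succ, Finset.range_one, Finset.sum_singleton,
          taylor_coeff_zero, taylor_coeff_one, pow_zero, pow_one, mul_one, mul_neg,
          mul_left_comm, Ring.mul_inverse_cancel _ (hf'c n), mul_one, add_neg_cancel]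
        exact Ideal.zero_mem _
      · refine Submodule.sum_mem _ ?_
        simp only [Finset.mem_Ico]
        rintro i ⟨h2i, _⟩
        have aux : n + 2 ≤ i * (n + 1) := by trans 2 * (n + 1) <;> nlinarith only [h2i]
        refine Ideal.mul_mem_left _ _ (Ideal.pow_le_pow_right aux ?_)
        rw [pow_mul']
        exact Ideal.pow_mem_pow ((Ideal.neg_mem_iff _).2 <| Ideal.mul_mem_right _ _ ih) _
  -- powers of E tend to zero
  have hEsmall : ∀ J : Ideal A, IsOpen (J : Set A) → ∃ N, ∀ n, N ≤ n → E ^ n ≤ J := by
    intro J hJ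
    obtain ⟨N, hN⟩ := (isTopologicallyNilpotent_iff.mp (hI.2 e h₁)) J hJ
    refine ⟨N, fun n hn => ?_⟩
    rw [Ideal.span_singleton_pow, Ideal.span_singleton_le_iff_mem]
    obtain ⟨k, rfl⟩ := Nat.exists_eq_add_of_le hn
    rw [pow_add]
    exact J.mul_mem_right _ hN
  have hdiff : ∀ n, c (n + 1) - c n ∈ E ^ (n + 1) := by
    intro n
    rw [hc]
    have : c n - f.eval (c n) * Ring.inverse (f'.eval (c n)) - c n =
        -(f.eval (c n) * Ring.inverse (f'.eval (c n))) := by ring
    rw [this, Ideal.neg_mem_iff]
    exact Ideal.mul_mem_right _ _ (hfcI n)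
  have hcauchy : CauchySeq c := by
    apply NonarchimedeanAddGroup.cauchySeq_of_tendsto_sub_nhds_zero
    rw [tendsto_atTop']
    intro U hU
    obtain ⟨J, hJ, hJU⟩ := exists_open_ideal_subset hU
    obtain ⟨N, hN⟩ := hEsmall J hJ
    exact ⟨N, fun n hn => hJU (hN (n + 1) (le_trans hn (Nat.le_succ n)) (hdiff n))⟩
  obtain ⟨a, ha⟩ := cauchySeq_tendsto_of_complete hcauchy
  refine ⟨a, ?_, ?_⟩
  · change f.eval a = 0
    have hlim1 : Tendsto (fun n => f.eval (c n)) atTop (𝓝 (f.eval a)) :=
      (f.continuous.tendsto a).comp ha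
    have hlim2 : Tendsto (fun n => f.eval (c n)) atTop (𝓝 0) := by
      rw [tendsto_atTop']
      intro U hU
      obtain ⟨J, hJ, hJU⟩ := exists_open_ideal_subset hU
      obtain ⟨N, hN⟩ := hEsmall J hJ
      exact ⟨N, fun n hn => hJU (hN (n + 1) (le_trans hn (Nat.le_succ n)) (hfcI n))⟩
    exact tendsto_nhds_unique hlim1 hlim2
  · have hcl : IsClosed (I : Set A) := isClosed_of_isOpen_ideal I hI.1
    have hlim : Tendsto (fun n => c n - a₀) atTop (𝓝 (a - a₀)) := ha.sub tendsto_const_nhds
    apply hcl.mem_of_tendsto hlim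
    refine Filter.Eventually.of_forall (fun n => ?_)
    exact hEI (SModEq.sub_mem.mp (hc_mod n))

end Groth.Agent.S10148
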