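import Groth.Statements.S10152
import Groth.Agent.H51.LinTop

set_option autoImplicit false
universe u v
open LinTop
open Groth.Agent.H51 Topology Filter

namespace Groth.Agent.S10152

/-- Let φ : A → B be a taut homomorphism of linearly topologized rings. If A has a countable fundamental
system of open ideals, then so does B (equivalently, the neighbourhood filters of 0 are countably
generated). -/
theorem result
    (A : Type u) [CommRing A] [TopologicalSpace A] [IsTopologicalRing A] [IsLinearTopology A A]
    (B : Type v) [CommRing B] [TopologicalSpace B] [IsTopologicalRing B] [IsLinearTopology B B]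
    (φ : A →+* B) (hφ : LinTop.IsTaut φ) (hA : (nhds (0 : A)).IsCountablyGenerated) :
    (nhds (0 : B)).IsCountablyGenerated := by
  obtain ⟨x, hxo, hx⟩ := (IsLinearTopology.hasBasis_open_ideal (R := A)).exists_antitone_subbasis
  have hb : (𝓝 (0 : B)).HasBasis (fun _ : ℕ => True)
      (fun n => closure (((x n).map φ : Ideal B) : Set B)) := by
    rw [Filter.hasBasis_iff]
    intro t
    constructor
    · intro ht
      obtain ⟨I, hI, hIt⟩ := hφ.2.2 t ht
      obtain ⟨n, -, hn⟩ := hx.toHasBasis.mem_iff.mp (mem_nhds_zero_of_isOpen_ideal hI)
      refine ⟨n, trivial, Set.Subset.trans (closure_map_mono φ ?_) hIt⟩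
      exact hn
    · rintro ⟨n, -, hn⟩
      refine Filter.mem_of_superset ?_ hn
      have ho := hφ.2.1 _ (hxo n)
      exact ho.mem_nhds (subset_closure ((x n).map φ).zero_mem)
  exact hb.isCountablyGenerated

end Groth.Agent.S10152
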