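import Groth.Statements.S10154
import Groth.Agent.H51.LinTop

set_option autoImplicit false
universe u v
open LinTop
open Groth.Agent.H51 Topology Filter

namespace Groth.Agent.S10154

/-- Let φ : A → B be a taut homomorphism of linearly topologized rings. If A is pre-admissible, then B
is pre-admissible. -/
theorem result
    (A : Type u) [CommRing A] [TopologicalSpace A] [IsTopologicalRing A] [IsLinearTopology A A]
    (B : Type v) [CommRing B] [TopologicalSpace B] [IsTopologicalRing B] [IsLinearTopology B B]
    (φ : A →+* B) (hφ : LinTop.IsTaut φ) (hA : LinTop.IsPreadmissible A) :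
    LinTop.IsPreadmissible B := by
  obtain ⟨-, I, hI⟩ := hA
  refine ⟨inferInstance, (I.map φ).closure, hφ.2.1 I hI.1, ?_⟩
  intro U hU
  obtain ⟨I', hI'o, hI'U⟩ := hφ.2.2 U hU
  obtain ⟨n, hn, hle⟩ := exists_pow_le_of_isIdealOfDefinition hI hI'o
  refine ⟨n, hn, Set.Subset.trans ?_ hI'U⟩
  have h1 : (I.map φ).closure ^ n ≤ ((I.map φ) ^ n).closure := closure_pow_le _ _
  have h2 : ((I.map φ) ^ n).closure ≤ (I'.map φ).closure := by
    apply ideal_closure_mono
    rw [← Ideal.map_pow]
    exact Ideal.map_mono hle
  exact h1.trans h2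

end Groth.Agent.S10154
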