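import Groth.Statements.S10155
import Groth.Agent.H51.LinTop
import Groth.Agent.H51.OpenMap
import Groth.Agent.H51.OpenMap2

set_option autoImplicit false
universe u v
open LinTop
open Groth.Agent.H51 Topology Filter

namespace Groth.Agent.S10155

/-- For a ring map with dense range, the closure of the image of an ideal is the closure of the
ideal generated by the image. -/
theorem closure_image_eq_closure_map
    {A : Type u} [CommRing A]
    {B : Type v} [CommRing B] [TopologicalSpace B] [IsTopologicalRing B]
    (φ : A →+* B) (hd : DenseRange φ) (I : Ideal A) :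
    closure (φ '' (I : Set A)) = closure ((I.map φ : Ideal B) : Set B) := by
  apply Set.Subset.antisymm
  · apply closure_mono
    rintro _ ⟨a, ha, rfl⟩
    exact Ideal.mem_map_of_mem φ ha
  · apply closure_minimal _ isClosed_closure
    intro b hb
    -- closure (φ '' I) as an additive subgroup
    let K : AddSubgroup B := (AddSubgroup.map φ.toAddMonoidHom I.toAddSubgroup).topologicalClosure
    have hK : (K : Set B) = closure (φ '' (I : Set A)) := rfl
    rw [← hK]
    unfold Ideal.map at hb
    refine Submodule.span_induction (p := fun y _ => y ∈ K) ?_ ?_ ?_ ?_ hb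
    · intro y hy
      exact subset_closure hy
    · exact K.zero_mem
    · intro y z _ _ hy hz
      exact K.add_mem hy hz
    · intro c y _ hy
      have hc : c ∈ closure (Set.range φ) := hd c
      have : c * y ∈ closure (φ '' (I : Set A)) := by
        refine map_mem_closure₂ continuous_mul hc hy ?_
        rintro _ ⟨a, rfl⟩ _ ⟨z, hz, rfl⟩
        exact ⟨a * z, I.mul_mem_left a hz, map_mul φ a z⟩
      exact this

/-- Let φ : A → B be a taut homomorphism of linearly topologized rings with dense image. Assume A is
Hausdorff and complete with a countable fundamental system of open ideals and B is Hausdorff. Then φ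
is surjective and open, so that B is the quotient of A by the closed ideal ker φ with the quotient
topology, and B is complete. -/
theorem result
    (A : Type u) [CommRing A] [UniformSpace A] [IsUniformAddGroup A] [IsTopologicalRing A]
    [IsLinearTopology A A] [T2Space A] [CompleteSpace A] (hA : (nhds (0 : A)).IsCountablyGenerated)
    (B : Type v) [CommRing B] [UniformSpace B] [IsUniformAddGroup B] [IsTopologicalRing B]
    [IsLinearTopology B B] [T2Space B]
    (φ : A →+* B) (hφ : LinTop.IsTaut φ) (hd : DenseRange φ) :
    Function.Surjective φ ∧ IsOpenQuotientMap φ ∧ CompleteSpace B := by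
  have := hA
  obtain ⟨x, hxo, hx⟩ := (IsLinearTopology.hasBasis_open_ideal (R := A)).exists_antitone_subbasis
  let Gn : ℕ → AddSubgroup A := fun n => (x n).toAddSubgroup
  have hGo : ∀ n, IsOpen (Gn n : Set A) := hxo
  have hGa : Antitone Gn := fun a b hab => hx.antitone hab
  have hGb : ∀ U ∈ 𝓝 (0 : A), ∃ n, (Gn n : Set A) ⊆ U := by
    intro U hU
    obtain ⟨n, -, hn⟩ := hx.toHasBasis.mem_iff.mp hU
    exact ⟨n, hn⟩
  have himage : ∀ n, closure (φ.toAddMonoidHom '' (Gn n : Set A)) =
      closure (((x n).map φ : Ideal B) : Set B) := fun n =>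
    closure_image_eq_closure_map φ hd (x n)
  have hHo : ∀ n, IsOpen (closure (φ.toAddMonoidHom '' (Gn n : Set A))) := by
    intro n
    rw [himage n]
    exact hφ.2.1 _ (hxo n)
  have hHb : ∀ U ∈ 𝓝 (0 : B), ∃ n, closure (φ.toAddMonoidHom '' (Gn n : Set A)) ⊆ U := by
    intro U hU
    obtain ⟨I, hI, hIU⟩ := hφ.2.2 U hU
    obtain ⟨n, hn⟩ := hGb _ (mem_nhds_zero_of_isOpen_ideal hI)
    refine ⟨n, ?_⟩
    rw [himage n]
    exact Set.Subset.trans (closure_map_mono φ hn) hIU
  have hc : Continuous φ.toAddMonoidHom := hφ.1
  have hsurj : Function.Surjective φ :=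
    surjective_of_closure_image φ.toAddMonoidHom hc Gn hGo hGa hGb hHo hHb hd
  have hopen : IsOpenMap φ :=
    isOpenMap_of_closure_image φ.toAddMonoidHom hc Gn hGo hGa hGb hHo hHb
  refine ⟨hsurj, ⟨hsurj, hφ.1, hopen⟩, ?_⟩
  have : FirstCountableTopology A := by
    have : (uniformity A).IsCountablyGenerated := IsUniformAddGroup.uniformity_countably_generated
    exact UniformSpace.firstCountableTopology A
  exact completeSpace_of_open_surjective φ.toAddMonoidHom hc hopen hsurj

end Groth.Agent.S10155
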