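import Groth.Statements.S10156
import Groth.Agent.H51.LinTop

set_option autoImplicit false
universe u v w
open LinTop
open Groth.Agent.H51 Topology Filter

namespace Groth.Agent.S10156

/-- Given pre-adic rings A, B, C and continuous ring maps ψ : B → C and φ : A → B, adicness of the
composite A → C implies that ψ is adic. -/
theorem result
    (A : Type u) [CommRing A] [TopologicalSpace A] [IsTopologicalRing A] (hA : LinTop.IsPreadic A)
    (B : Type v) [CommRing B] [TopologicalSpace B] [IsTopologicalRing B] (hB : LinTop.IsPreadic B)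
    (C : Type w) [CommRing C] [TopologicalSpace C] [IsTopologicalRing C] (hC : LinTop.IsPreadic C)
    (φ : A →+* B) (ψ : B →+* C) (hφ : Continuous φ) (hψ : Continuous ψ)
    (h : LinTop.IsAdicHom (ψ.comp φ)) : LinTop.IsAdicHom ψ := by
  obtain ⟨J₀, hJ₀⟩ := hB
  obtain ⟨I, hI, hK⟩ := h
  have hJ₀' := isAdic_iff.mp hJ₀
  have hK' := isAdic_iff.mp hK
  have hJ₀open : IsOpen ((J₀ : Ideal B) : Set B) := by simpa using hJ₀'.1 1
  have hJ₀def : LinTop.IsIdealOfDefinition B J₀ := by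
    refine ⟨hJ₀open, fun U hU => ?_⟩
    obtain ⟨n, hn⟩ := hJ₀'.2 U hU
    exact ⟨n + 1, Nat.succ_pos n, Set.Subset.trans
      (show ((J₀ ^ (n + 1) : Ideal B) : Set B) ⊆ (J₀ ^ n : Ideal B) from
        Ideal.pow_le_pow_right (Nat.le_succ n)) hn⟩
  refine ⟨J₀, hJ₀def, ?_⟩
  rw [isAdic_iff]
  -- some power of I maps into J₀
  have hIo : IsOpen (((J₀.comap φ : Ideal A)) : Set A) := hJ₀open.preimage hφ
  obtain ⟨m, hm, hmle⟩ := exists_pow_le_of_isIdealOfDefinition hI hIo
  have hKm : (I.map (ψ.comp φ)) ^ m ≤ J₀.map ψ := by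
    rw [← Ideal.map_pow, ← Ideal.map_map]
    apply Ideal.map_mono
    rw [Ideal.map_le_iff_le_comap]
    exact hmle
  constructor
  · intro n
    have hle : ((I.map (ψ.comp φ)) ^ m) ^ n ≤ (J₀.map ψ) ^ n := Ideal.pow_right_mono hKm n
    rw [← pow_mul] at hle
    exact Ideal.isOpen_of_isOpen_subideal hle (hK'.1 (m * n))
  · intro s hs
    obtain ⟨k, hk⟩ := hK'.2 s hs
    have hKopen : IsOpen (((I.map (ψ.comp φ) : Ideal C)) : Set C) := by simpa using hK'.1 1
    have hpre : (((I.map (ψ.comp φ)).comap ψ : Ideal B) : Set B) ∈ 𝓝 (0 : B) := by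
      have ho : IsOpen ((((I.map (ψ.comp φ)).comap ψ : Ideal B)) : Set B) := hKopen.preimage hψ
      exact ho.mem_nhds (Ideal.zero_mem _)
    obtain ⟨l, hl⟩ := hJ₀'.2 _ hpre
    have hJl : (J₀.map ψ) ^ l ≤ I.map (ψ.comp φ) := by
      rw [← Ideal.map_pow, Ideal.map_le_iff_le_comap]
      exact hl
    refine ⟨l * k, Set.Subset.trans ?_ hk⟩
    have : ((J₀.map ψ) ^ l) ^ k ≤ (I.map (ψ.comp φ)) ^ k := Ideal.pow_right_mono hJl k
    rw [← pow_mul] at this
    exact this

end Groth.Agent.S10156
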