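import Groth.Statements.S10157
import Groth.Agent.H51.LinTop

set_option autoImplicit false
universe u v
open LinTop
open Groth.Agent.H51 Topology Filter

namespace Groth.Agent.S10157

/-- A continuous adic homomorphism φ : A → B between pre-adic topological rings is taut. -/
theorem result
    (A : Type u) [CommRing A] [TopologicalSpace A] [IsTopologicalRing A] (hA : LinTop.IsPreadic A)
    (B : Type v) [CommRing B] [TopologicalSpace B] [IsTopologicalRing B] (hB : LinTop.IsPreadic B)
    (φ : A →+* B) (hφ : Continuous φ) (h : LinTop.IsAdicHom φ) : LinTop.IsTaut φ := by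
  obtain ⟨I, hI, hK⟩ := h
  have hK' := isAdic_iff.mp hK
  have : IsLinearTopology B B := by
    have hl := (I.map φ).isLinearTopology
    unfold IsAdic at hK
    rw [← hK] at hl
    exact hl
  apply isTaut_of_continuous_of_isOpen φ hφ
  intro I' hI'
  obtain ⟨n, -, hle⟩ := exists_pow_le_of_isIdealOfDefinition hI hI'
  have h1 : (I.map φ) ^ n ≤ (I'.map φ).closure := by
    rw [← Ideal.map_pow]
    exact (Ideal.map_mono hle).trans (ideal_le_closure _)
  exact Ideal.isOpen_of_isOpen_subideal h1 (hK'.1 n)

end Groth.Agent.S10157
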