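import Groth.Statements.S10158
import Groth.Agent.H51.Adic

set_option autoImplicit false
universe u v
open LinTop
open Groth.Agent.H51 Topology Filter

namespace Groth.Agent.S10158

/-- Let φ : A → B be a taut homomorphism of linearly topologized rings. Assume A is pre-adic with a
finitely generated ideal of definition I and B is Hausdorff and complete. Then the topology of B is
the φ(I)B-adic topology; in particular B is adic with a finitely generated ideal of definition and φ
is adic. -/
theorem result
    (A : Type u) [CommRing A] [TopologicalSpace A] [IsTopologicalRing A] (hA : LinTop.IsPreadic A)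
    (I : Ideal A) (hI : LinTop.IsIdealOfDefinition A I) (hfg : I.FG)
    (B : Type v) [CommRing B] [UniformSpace B] [IsUniformAddGroup B] [IsTopologicalRing B]
    [IsLinearTopology B B] [T2Space B] [CompleteSpace B]
    (φ : A →+* B) (hφ : LinTop.IsTaut φ) :
    IsAdic (I.map φ) := by
  obtain ⟨I₀, hI₀⟩ := hA
  have hI₀' := isAdic_iff.mp hI₀
  -- powers of I are open in A
  have hIpow : ∀ n : ℕ, IsOpen ((I ^ n : Ideal A) : Set A) := by
    intro n
    obtain ⟨m, hm⟩ := hI₀'.2 (I : Set A) (hI.1.mem_nhds I.zero_mem)
    have hle : (I₀ ^ m) ^ n ≤ I ^ n := Ideal.pow_right_mono hm n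
    rw [← pow_mul] at hle
    exact Ideal.isOpen_of_isOpen_subideal hle (hI₀'.1 (m * n))
  apply isAdic_of_fg_of_closure_pow_basis (I.map φ) (hfg.map φ)
  · intro n
    rw [← Ideal.map_pow]
    exact hφ.2.1 _ (hIpow n)
  · intro U hU
    obtain ⟨I', hI', hI'U⟩ := hφ.2.2 U hU
    obtain ⟨n, -, hle⟩ := exists_pow_le_of_isIdealOfDefinition hI hI'
    refine ⟨n, Set.Subset.trans ?_ hI'U⟩
    rw [← Ideal.map_pow]
    exact closure_map_mono φ hle

end Groth.Agent.S10158
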