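import Groth.Statements.S10165
import Groth.Agent.H51.LinTop

set_option autoImplicit false
universe u v
open LinTop
open Groth.Agent.H51 Topology Filter

namespace Groth.Agent.S10165

/-- Let φ : A → B be a taut homomorphism of linearly topologized rings. If A is weakly pre-adic, then B
is weakly pre-adic. -/
theorem result
    (A : Type u) [CommRing A] [TopologicalSpace A] [IsTopologicalRing A] [IsLinearTopology A A]
    (B : Type v) [CommRing B] [TopologicalSpace B] [IsTopologicalRing B] [IsLinearTopology B B]
    (φ : A →+* B) (hφ : LinTop.IsTaut φ) (hA : LinTop.IsWeaklyPreadic A) :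
    LinTop.IsWeaklyPreadic B := by
  obtain ⟨-, I, hIo, hIb⟩ := hA
  have key : ∀ n : ℕ, (((I ^ n).closure).map φ).closure = ((I.map φ) ^ n).closure := by
    intro n
    apply le_antisymm
    · have hc : IsClosed (((((I.map φ) ^ n).closure).comap φ : Ideal A) : Set A) :=
        (isClosed_closure (s := (((I.map φ) ^ n : Ideal B) : Set B))).preimage hφ.1
      have h1 : (I ^ n).closure ≤ (((I.map φ) ^ n).closure).comap φ := by
        apply ideal_closure_le_of_isClosed _ hc
        rw [← Ideal.map_le_iff_le_comap, Ideal.map_pow]
        exact ideal_le_closure _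
      have h2 : ((I ^ n).closure).map φ ≤ ((I.map φ) ^ n).closure :=
        Ideal.map_le_iff_le_comap.mpr h1
      have := ideal_closure_mono h2
      rwa [ideal_closure_closure] at this
    · apply ideal_closure_mono
      rw [← Ideal.map_pow]
      exact Ideal.map_mono (ideal_le_closure _)
  refine ⟨inferInstance, I.map φ, ?_, ?_⟩
  · intro n
    have ho := hφ.2.1 ((I ^ n).closure) (hIo n)
    have := congrArg (fun K : Ideal B => (K : Set B)) (key n)
    simp only [Ideal.coe_closure] at this
    rw [← this]
    exact ho
  · intro U hU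
    obtain ⟨I', hI', hI'U⟩ := hφ.2.2 U hU
    obtain ⟨n, hn⟩ := hIb _ (mem_nhds_zero_of_isOpen_ideal hI')
    refine ⟨n, Set.Subset.trans ?_ hI'U⟩
    have h1 : ((I.map φ) ^ n).closure ≤ (I'.map φ).closure := by
      rw [← key n]
      exact ideal_closure_mono (Ideal.map_mono hn)
    exact h1

end Groth.Agent.S10165
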