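import Groth.Statements.S10159
import Groth.Agent.H51.LinTop
import Groth.Agent.S10165

set_option autoImplicit false
universe u
open LinTop
open Groth.Agent.H51 Topology Filter

namespace Groth.Agent.S10159

/-- a preadic ring is linearly topologized and weakly preadic -/
theorem isWeaklyPreadic_of_isAdic {A : Type u} [CommRing A] [TopologicalSpace A]
    [IsTopologicalRing A] {I : Ideal A} (hI : IsAdic I) :
    IsLinearTopology A A ∧ LinTop.IsWeaklyPreadic A := by
  have hlin : IsLinearTopology A A := by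
    have hl := I.isLinearTopology
    unfold IsAdic at hI
    rw [← hI] at hl
    exact hl
  have hI' := isAdic_iff.mp hI
  refine ⟨hlin, hlin, I, fun n => ?_, fun U hU => ?_⟩
  · rw [closure_eq_of_isOpen_ideal _ (hI'.1 n)]
    exact hI'.1 n
  · obtain ⟨n, hn⟩ := hI'.2 U hU
    exact ⟨n, by rw [closure_eq_of_isOpen_ideal _ (hI'.1 n)]; exact hn⟩

section Adic

variable {A : Type u} [CommRing A] (I : Ideal A)

theorem isOpen_pow_adic (n : ℕ) : @IsOpen A I.adicTopology ((I ^ n : Ideal A) : Set A) := by
  let _ := I.adicTopology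
  exact (I.openAddSubgroup n).isOpen'

theorem exists_pow_le_of_isOpen_adic {K : Ideal A}
    (hK : @IsOpen A I.adicTopology (K : Set A)) : ∃ n : ℕ, I ^ n ≤ K := by
  let _ := I.adicTopology
  have : (K : Set A) ∈ 𝓝 (0 : A) := hK.mem_nhds K.zero_mem
  obtain ⟨n, -, hn⟩ := I.hasBasis_nhds_zero_adic.mem_iff.mp this
  exact ⟨n, hn⟩

theorem continuous_id_adic [t : TopologicalSpace A] [IsTopologicalRing A]
    (h : ∀ U ∈ 𝓝 (0 : A), ∃ n : ℕ, ((I ^ n : Ideal A) : Set A) ⊆ U) :
    @Continuous A A I.adicTopology t (RingHom.id A) := by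
  rw [@continuous_def A A I.adicTopology t]
  intro s hs
  rw [@isOpen_iff_mem_nhds A I.adicTopology]
  intro x hx
  rw [(Ideal.hasBasis_nhds_adic I x).mem_iff]
  have : (fun y => x + y) ⁻¹' s ∈ 𝓝 (0 : A) := by
    apply (continuous_const.add continuous_id).continuousAt.preimage_mem_nhds
    simpa using hs.mem_nhds hx
  obtain ⟨n, hn⟩ := h _ this
  refine ⟨n, trivial, ?_⟩
  rintro _ ⟨y, hy, rfl⟩
  exact hn hy

end Adic

/-- For a ring A carrying a linear topology, the following four conditions are equivalent: (1) A is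
weakly pre-adic; (2) there exist a pre-adic topological ring A' and a taut continuous ring
homomorphism A' → A (A' is taken in the universe of A, which suffices since A with an adic topology
serves); (3) A has an ideal of definition, and for at least one ideal of definition I every closure
cl(I^n) with n ≥ 1 is open; (4) A has an ideal of definition, and for each of its ideals of
definition I every closure cl(I^n) with n ≥ 1 is open. -/
theorem result
    (A : Type u) [CommRing A] [TopologicalSpace A] [IsTopologicalRing A] [IsLinearTopology A A] :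
    List.TFAE [LinTop.IsWeaklyPreadic A,
      ∃ (A' : Type u) (_ : CommRing A') (_ : TopologicalSpace A') (_ : IsTopologicalRing A')
        (φ : A' →+* A), LinTop.IsPreadic A' ∧ LinTop.IsTaut φ,
      LinTop.IsPreadmissible A ∧ ∃ I : Ideal A, LinTop.IsIdealOfDefinition A I ∧
        ∀ n : ℕ, 0 < n → IsOpen (closure ((I ^ n : Ideal A) : Set A)),
      LinTop.IsPreadmissible A ∧ ∀ I : Ideal A, LinTop.IsIdealOfDefinition A I →
        ∀ n : ℕ, 0 < n → IsOpen (closure ((I ^ n : Ideal A) : Set A))] := by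
  tfae_have 1 → 2 := by
    rintro ⟨-, I, hIo, hIb⟩
    have htr : @IsTopologicalRing A I.adicTopology _ :=
      @NonarchimedeanRing.toIsTopologicalRing A _ I.adicTopology I.nonarchimedean
    refine ⟨A, inferInstance, I.adicTopology, htr, RingHom.id A, ⟨I, rfl⟩, ?_, ?_, ?_⟩
    · exact continuous_id_adic I (fun U hU => by
        obtain ⟨n, hn⟩ := hIb U hU
        exact ⟨n, Set.Subset.trans subset_closure hn⟩)
    · intro K hK
      obtain ⟨n, hn⟩ := exists_pow_le_of_isOpen_adic I hK
      rw [Ideal.map_id]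
      exact isOpen_closure_of_le (ideal_closure_mono hn) (hIo n)
    · intro U hU
      obtain ⟨n, hn⟩ := hIb U hU
      refine ⟨I ^ n, isOpen_pow_adic I n, ?_⟩
      rw [Ideal.map_id]
      exact hn
  tfae_have 2 → 1 := by
    rintro ⟨A', _, _, _, φ, ⟨I', hI'⟩, hφ⟩
    obtain ⟨hlin, hw⟩ := isWeaklyPreadic_of_isAdic hI'
    exact Groth.Agent.S10165.result A' A φ hφ hw
  tfae_have 1 → 4 := by
    rintro ⟨-, I₀, hIo, hIb⟩
    refine ⟨⟨inferInstance, I₀.closure, by simpa using hIo 1, ?_⟩, ?_⟩
    · intro U hU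
      obtain ⟨n, hn⟩ := hIb U hU
      refine ⟨n + 1, Nat.succ_pos n, Set.Subset.trans ?_ hn⟩
      have h1 : I₀.closure ^ (n + 1) ≤ (I₀ ^ (n + 1)).closure := closure_pow_le _ _
      have h2 : (I₀ ^ (n + 1)).closure ≤ (I₀ ^ n).closure :=
        ideal_closure_mono (Ideal.pow_le_pow_right (Nat.le_succ n))
      exact h1.trans h2
    · intro I hI n _
      obtain ⟨m, hm⟩ := hIb (I : Set A) (hI.1.mem_nhds I.zero_mem)
      have hle : I₀ ^ m ≤ I := (ideal_le_closure _).trans hm
      have hle2 : (I₀ ^ m) ^ n ≤ I ^ n := Ideal.pow_right_mono hle n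
      rw [← pow_mul] at hle2
      exact isOpen_closure_of_le (ideal_closure_mono hle2) (hIo (m * n))
  tfae_have 4 → 3 := by
    rintro ⟨hpre, h⟩
    obtain ⟨I, hI⟩ := hpre.2
    exact ⟨hpre, I, hI, h I hI⟩
  tfae_have 3 → 1 := by
    rintro ⟨-, I, hI, hn⟩
    refine ⟨inferInstance, I, fun n => ?_, fun U hU => ?_⟩
    · rcases Nat.eq_zero_or_pos n with rfl | hpos
      · simp
      · exact hn n hpos
    · obtain ⟨J, hJ, hJU⟩ := exists_open_ideal_subset hU
      obtain ⟨n, -, hle⟩ := exists_pow_le_of_isIdealOfDefinition hI hJ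
      refine ⟨n, Set.Subset.trans ?_ hJU⟩
      exact closure_minimal (show ((I ^ n : Ideal A) : Set A) ⊆ J from hle)
        (isClosed_of_isOpen_ideal J hJ)
  tfae_finish

end Groth.Agent.S10159
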