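import Groth.Statements.S10160
import Groth.Agent.H51.LinTop

set_option autoImplicit false
universe u
open LinTop
open Groth.Agent.H51 Topology Filter

namespace Groth.Agent.S10160

/-- A weakly adic topological ring is admissible and has a countable fundamental system of open ideals. -/
theorem result
    (A : Type u) [CommRing A] [UniformSpace A] [IsUniformAddGroup A] [IsTopologicalRing A] (hA : LinTop.IsWeaklyAdic A) :
    LinTop.IsAdmissible A ∧ (nhds (0 : A)).IsCountablyGenerated := by
  obtain ⟨⟨hlin, I, hIo, hIb⟩, hT2, hC⟩ := hA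
  have := hlin
  refine ⟨⟨⟨hlin, I.closure, ?_, ?_⟩, hT2, hC⟩, ?_⟩
  · simpa using hIo 1
  · intro U hU
    obtain ⟨n, hn⟩ := hIb U hU
    refine ⟨n + 1, Nat.succ_pos n, Set.Subset.trans ?_ hn⟩
    have h1 : I.closure ^ (n + 1) ≤ (I ^ (n + 1)).closure := closure_pow_le _ _
    have h2 : (I ^ (n + 1)).closure ≤ (I ^ n).closure :=
      ideal_closure_mono (Ideal.pow_le_pow_right (Nat.le_succ n))
    exact h1.trans h2
  · have hb : (𝓝 (0 : A)).HasBasis (fun _ : ℕ => True)
        (fun n => closure ((I ^ n : Ideal A) : Set A)) := by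
      rw [Filter.hasBasis_iff]
      intro t
      constructor
      · intro ht
        obtain ⟨n, hn⟩ := hIb t ht
        exact ⟨n, trivial, hn⟩
      · rintro ⟨n, -, hn⟩
        exact Filter.mem_of_superset ((hIo n).mem_nhds (subset_closure (I ^ n).zero_mem)) hn
    exact hb.isCountablyGenerated

end Groth.Agent.S10160
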