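import Groth.Statements.S10164
import Groth.Agent.H51.FFlat
import Groth.Agent.H51.Adic

set_option autoImplicit false
universe u
open LinTop
open Groth.Agent.H51 Topology Filter

namespace Groth.Agent.S10164

/-- Let A be weakly adic and I an ideal of definition of A with I/I₂ finitely generated, where I₂
denotes the closure of I^2 (here: I maps onto a finitely generated ideal of A/I₂). Then A is adic,
and some finitely generated ideal of A is an ideal of definition. -/
theorem result
    (A : Type u) [CommRing A] [UniformSpace A] [IsUniformAddGroup A] [IsTopologicalRing A] (hA : LinTop.IsWeaklyAdic A)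
    (I : Ideal A) (hI : LinTop.IsIdealOfDefinition A I)
    (hfg : (I.map (Ideal.Quotient.mk ((I ^ 2).closure))).FG) :
    LinTop.IsAdicRing A ∧ ∃ J : Ideal A, LinTop.IsIdealOfDefinition A J ∧ J.FG := by
  obtain ⟨⟨hlin, I₀, hI₀o, hI₀b⟩, hT2, hC⟩ := hA
  have := hlin
  have := hT2
  have := hC
  have hIo : IsOpen (I : Set A) := hI.1
  -- K n = closure (I^n)
  have hKanti : ∀ {a b : ℕ}, a ≤ b → (I ^ b).closure ≤ (I ^ a).closure := fun {a b} hab =>
    ideal_closure_mono (Ideal.pow_le_pow_right hab)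
  have hKo : ∀ n, IsOpen (((I ^ n).closure : Ideal A) : Set A) := by
    intro n
    obtain ⟨m, hm⟩ := hI₀b _ (mem_nhds_zero_of_isOpen_ideal hIo)
    have h1 : I₀ ^ m ≤ I := fun x hx => hm (subset_closure hx)
    have h2 : I₀ ^ (m * n) ≤ I ^ n := by
      rw [pow_mul]; exact Ideal.pow_right_mono h1 n
    exact Ideal.isOpen_of_isOpen_subideal (ideal_closure_mono h2) (hI₀o (m * n))
  have hKb : ∀ I' : Ideal A, IsOpen (I' : Set A) → ∃ n : ℕ, 0 < n ∧ (I ^ n).closure ≤ I' := by
    intro I' hI'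
    obtain ⟨n, hn, hle⟩ := hI.2 _ (mem_nhds_zero_of_isOpen_ideal hI')
    exact ⟨n, hn, ideal_closure_le_of_isClosed hle (isClosed_of_isOpen_ideal _ hI')⟩
  have hK1 : (I ^ 1).closure = I := by
    rw [pow_one]
    exact le_antisymm (ideal_closure_le_of_isClosed le_rfl (isClosed_of_isOpen_ideal _ hIo))
      (ideal_le_closure _)
  -- generators
  obtain ⟨s, hs⟩ := hfg
  have hlift : ∀ t : s, ∃ x : A, x ∈ I ∧ Ideal.Quotient.mk ((I ^ 2).closure) x = (t : A ⧸ (I ^ 2).closure) := by
    intro t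
    have ht : (t : A ⧸ (I ^ 2).closure) ∈ I.map (Ideal.Quotient.mk ((I ^ 2).closure)) := by
      rw [← hs]; exact Ideal.subset_span (Finset.mem_coe.mpr t.2)
    obtain ⟨x, hx, hxt⟩ := (Ideal.mem_map_iff_of_surjective _ Ideal.Quotient.mk_surjective).mp ht
    exact ⟨x, hx, hxt⟩
  choose g hgI hgt using hlift
  let J : Ideal A := Ideal.span (Set.range g)
  have hJfg : J.FG := Submodule.fg_span (Set.finite_range g)
  have hJI : J ≤ I := Ideal.span_le.mpr (by rintro _ ⟨t, rfl⟩; exact hgI t)
  have hJmap : I.map (Ideal.Quotient.mk ((I ^ 2).closure)) ≤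
      J.map (Ideal.Quotient.mk ((I ^ 2).closure)) := by
    rw [← hs]
    apply Ideal.span_le.mpr
    intro t ht
    have : t = Ideal.Quotient.mk ((I ^ 2).closure) (g ⟨t, Finset.mem_coe.mp ht⟩) :=
      (hgt ⟨t, Finset.mem_coe.mp ht⟩).symm
    rw [this]
    exact Ideal.mem_map_of_mem _ (Ideal.subset_span ⟨_, rfl⟩)
  have hIle : I ≤ J ⊔ (I ^ 2).closure := by
    intro x hx
    have h1 : Ideal.Quotient.mk ((I ^ 2).closure) x ∈ J.map (Ideal.Quotient.mk ((I ^ 2).closure)) :=
      hJmap (Ideal.mem_map_of_mem _ hx)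
    obtain ⟨y, hy, hyx⟩ := (Ideal.mem_map_iff_of_surjective _ Ideal.Quotient.mk_surjective).mp h1
    have hd : x - y ∈ (I ^ 2).closure := Ideal.Quotient.eq.mp hyx.symm
    exact Submodule.mem_sup.mpr ⟨y, hy, x - y, hd, by ring⟩
  have hJpow : ∀ n, J ^ n ≤ I ^ n := fun n => Ideal.pow_right_mono hJI n
  -- I^n ≤ J^n ⊔ K (n+1)
  have hstep : ∀ n : ℕ, I ^ (n + 1) ≤ J ^ (n + 1) ⊔ (I ^ (n + 2)).closure := by
    intro n
    induction n with
    | zero => simpa using hIle
    | succ n ih =>
      have e1 : I ^ (n + 1 + 1) = I ^ (n + 1) * I := pow_succ _ _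
      rw [e1]
      have h1 : I ^ (n + 1) * I ≤ I ^ (n + 1) * (J ⊔ (I ^ 2).closure) := Ideal.mul_mono_right hIle
      refine h1.trans ?_
      rw [Ideal.mul_sup]
      apply sup_le
      · -- I^(n+1) * J
        have h2 : I ^ (n + 1) * J ≤ (J ^ (n + 1) ⊔ (I ^ (n + 2)).closure) * J := Ideal.mul_mono_left ih
        refine h2.trans ?_
        rw [Ideal.sup_mul]
        apply sup_le
        · rw [← pow_succ]; exact le_sup_left
        · have h3 : (I ^ (n + 2)).closure * J ≤ (I ^ (n + 2)).closure * (I ^ 1).closure :=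
            Ideal.mul_mono_right (hJI.trans (by rw [hK1]))
          refine (h3.trans (closure_mul_closure_le _ _)).trans ?_
          rw [← pow_add]
          exact le_sup_right
      · have h3 : I ^ (n + 1) * (I ^ 2).closure ≤ (I ^ (n + 1)).closure * (I ^ 2).closure :=
          Ideal.mul_mono_left (ideal_le_closure _)
        refine (h3.trans (closure_mul_closure_le _ _)).trans ?_
        rw [← pow_add]
        exact le_sup_right
  -- K (n+1) ≤ J^(n+1) ⊔ K (n+2)
  have hstepK : ∀ n : ℕ, (I ^ (n + 1)).closure ≤ J ^ (n + 1) ⊔ (I ^ (n + 2)).closure := by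
    intro n
    apply ideal_closure_le_of_isClosed (hstep n)
    apply isClosed_of_isOpen_ideal
    exact Ideal.isOpen_of_isOpen_subideal le_sup_right (hKo (n + 2))
  -- K (n+1) ≤ J^(n+1) ⊔ K (n+1+k)
  have hstepK' : ∀ n k : ℕ, (I ^ (n + 1)).closure ≤ J ^ (n + 1) ⊔ (I ^ (n + 1 + k)).closure := by
    intro n k
    induction k with
    | zero => exact le_sup_right
    | succ k ih =>
      refine ih.trans (sup_le le_sup_left ?_)
      have h1 := hstepK (n + k)
      have e1 : n + k + 1 = n + 1 + k := by ring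
      have e2 : n + k + 2 = n + 1 + (k + 1) := by ring
      rw [e1, e2] at h1
      refine h1.trans (sup_le ?_ le_sup_right)
      exact (Ideal.pow_le_pow_right (by omega)).trans le_sup_left
  -- closure (J^n) = K n
  have hcl : ∀ n, (J ^ n).closure = (I ^ n).closure := by
    intro n
    apply le_antisymm (ideal_closure_mono (hJpow n))
    rcases Nat.eq_zero_or_pos n with rfl | hpos
    · simp
    · obtain ⟨m, rfl⟩ : ∃ m, n = m + 1 := ⟨n - 1, by omega⟩
      intro x hx
      apply mem_closure_of_forall_mem_sup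
      intro I' hI'
      obtain ⟨k, -, hk⟩ := hKb I' hI'
      have h1 := hstepK' m k hx
      have h2 : (I ^ (m + 1 + k)).closure ≤ I' := (hKanti (by omega)).trans hk
      exact (sup_le_sup_left h2 _) h1
  have hopen : ∀ n : ℕ, IsOpen (closure ((J ^ n : Ideal A) : Set A)) := by
    intro n
    have := hKo n
    rw [← hcl n] at this
    exact this
  have hbasis : ∀ U ∈ 𝓝 (0 : A), ∃ n : ℕ, closure ((J ^ n : Ideal A) : Set A) ⊆ U := by
    intro U hU
    obtain ⟨I', hI', hI'U⟩ := exists_open_ideal_subset hU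
    obtain ⟨n, -, hn⟩ := hKb I' hI'
    refine ⟨n, Set.Subset.trans ?_ hI'U⟩
    have : (J ^ n).closure ≤ I' := (hcl n).le.trans hn
    exact this
  have hadic : IsAdic J := isAdic_of_fg_of_closure_pow_basis J hJfg hopen hbasis
  refine ⟨⟨⟨J, hadic⟩, hT2, hC⟩, J, ⟨?_, ?_⟩, hJfg⟩
  · have := (isAdic_iff.mp hadic).1 1
    rwa [pow_one] at this
  · intro U hU
    obtain ⟨n, hn⟩ := (isAdic_iff.mp hadic).2 U hU
    refine ⟨n + 1, Nat.succ_pos n, Set.Subset.trans ?_ hn⟩
    exact Ideal.pow_le_pow_right (Nat.le_succ n)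

end Groth.Agent.S10164
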