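import Groth.Statements.S10166
import Groth.Agent.H51.LinTop

set_option autoImplicit false
universe u v
open LinTop
open Groth.Agent.H51 Topology Filter

namespace Groth.Agent.S10166

/-- Let φ : A → B be a taut homomorphism of linearly topologized rings such that for every open ideal I
of A, with J the closure of φ(I)B, the induced map A/I → B/J is faithfully flat. If B has a
countable fundamental system of open ideals, then so does A. -/
theorem result
    (A : Type u) [CommRing A] [TopologicalSpace A] [IsTopologicalRing A] [IsLinearTopology A A]
    (B : Type v) [CommRing B] [TopologicalSpace B] [IsTopologicalRing B] [IsLinearTopology B B]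
    (φ : A →+* B) (hφ : LinTop.IsTautFFlat φ) (hB : (nhds (0 : B)).IsCountablyGenerated) :
    (nhds (0 : A)).IsCountablyGenerated := by
  obtain ⟨x, hxo, hx⟩ := (IsLinearTopology.hasBasis_open_ideal (R := B)).exists_antitone_subbasis
  have hb : (𝓝 (0 : A)).HasBasis (fun _ : ℕ => True)
      (fun n => (((x n).comap φ : Ideal A) : Set A)) := by
    rw [Filter.hasBasis_iff]
    intro t
    constructor
    · intro ht
      obtain ⟨I, hI, hIt⟩ := exists_open_ideal_subset ht
      have ho : IsOpen (((I.map φ).closure : Ideal B) : Set B) := hφ.1.2.1 I hI
      obtain ⟨n, -, hn⟩ := hx.toHasBasis.mem_iff.mp (mem_nhds_zero_of_isOpen_ideal ho)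
      refine ⟨n, trivial, Set.Subset.trans ?_ hIt⟩
      have : (x n).comap φ ≤ ((I.map φ).closure).comap φ := Ideal.comap_mono hn
      rw [comap_closure_map_eq hφ I hI] at this
      exact this
    · rintro ⟨n, -, hn⟩
      refine Filter.mem_of_superset ?_ hn
      have ho : IsOpen (((x n).comap φ : Ideal A) : Set A) := (hxo n).preimage hφ.1.1
      exact mem_nhds_zero_of_isOpen_ideal ho
  exact hb.isCountablyGenerated

end Groth.Agent.S10166
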