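import Groth.Statements.S10167
import Groth.Agent.H51.LinTop

set_option autoImplicit false
universe u v
open LinTop
open Groth.Agent.H51 Topology Filter

namespace Groth.Agent.S10167

/-- Let φ : A → B be a taut homomorphism of linearly topologized rings such that for every open ideal I
of A the induced ring map A/I → B/J, where J denotes the closure of φ(I)B, is faithfully flat. If B
has a weak ideal of definition (B is weakly pre-admissible), then so does A. -/
theorem result
    (A : Type u) [CommRing A] [TopologicalSpace A] [IsTopologicalRing A] [IsLinearTopology A A]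
    (B : Type v) [CommRing B] [TopologicalSpace B] [IsTopologicalRing B] [IsLinearTopology B B]
    (φ : A →+* B) (hφ : LinTop.IsTautFFlat φ) (hB : LinTop.IsWeaklyPreadmissible B) :
    LinTop.IsWeaklyPreadmissible A := by
  obtain ⟨-, J, hJo, hJn⟩ := hB
  refine ⟨inferInstance, J.comap φ, hJo.preimage hφ.1.1, ?_⟩
  intro f hf
  rw [isTopologicallyNilpotent_iff]
  intro I' hI'
  have ho : IsOpen (((I'.map φ).closure : Ideal B) : Set B) := hφ.1.2.1 I' hI'
  obtain ⟨n, hn⟩ := (isTopologicallyNilpotent_iff.mp (hJn (φ f) hf)) _ ho
  refine ⟨n, ?_⟩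
  have : f ^ n ∈ ((I'.map φ).closure).comap φ := by
    rw [Ideal.mem_comap, map_pow]
    exact hn
  rwa [comap_closure_map_eq hφ I' hI'] at this

end Groth.Agent.S10167
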