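import Groth.Statements.S10168
import Groth.Agent.H51.LinTop

set_option autoImplicit false
universe u v
open LinTop
open Groth.Agent.H51 Topology Filter

namespace Groth.Agent.S10168

/-- Let φ : A → B be a taut homomorphism of linearly topologized rings such that for every open ideal I
of A, with J the closure of φ(I)B, the induced map A/I → B/J is faithfully flat. If B is
pre-admissible, then A is pre-admissible. -/
theorem result
    (A : Type u) [CommRing A] [TopologicalSpace A] [IsTopologicalRing A] [IsLinearTopology A A]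
    (B : Type v) [CommRing B] [TopologicalSpace B] [IsTopologicalRing B] [IsLinearTopology B B]
    (φ : A →+* B) (hφ : LinTop.IsTautFFlat φ) (hB : LinTop.IsPreadmissible B) :
    LinTop.IsPreadmissible A := by
  obtain ⟨-, J, hJ⟩ := hB
  refine ⟨inferInstance, J.comap φ, hJ.1.preimage hφ.1.1, ?_⟩
  intro U hU
  obtain ⟨I', hI', hI'U⟩ := exists_open_ideal_subset hU
  have ho : IsOpen (((I'.map φ).closure : Ideal B) : Set B) := hφ.1.2.1 I' hI'
  obtain ⟨n, hn, hle⟩ := exists_pow_le_of_isIdealOfDefinition hJ ho
  refine ⟨n, hn, Set.Subset.trans ?_ hI'U⟩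
  have h1 : (J.comap φ) ^ n ≤ (J ^ n).comap φ := Ideal.le_comap_pow φ n
  have h2 : (J ^ n).comap φ ≤ ((I'.map φ).closure).comap φ := Ideal.comap_mono hle
  rw [comap_closure_map_eq hφ I' hI'] at h2
  exact h1.trans h2

end Groth.Agent.S10168
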