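import Groth.Statements.S10169
import Groth.Agent.H51.FFlat

set_option autoImplicit false
universe u v
open LinTop
open Groth.Agent.H51 Topology Filter

namespace Groth.Agent.S10169

/-- Let φ : A → B be a taut homomorphism of linearly topologized rings such that for every open ideal I
of A the induced ring map A/I → B/J, where J denotes the closure of φ(I)B, is faithfully flat. Weak
pre-adicness then descends: when B is weakly pre-adic, A is as well. -/
theorem result
    (A : Type u) [CommRing A] [TopologicalSpace A] [IsTopologicalRing A] [IsLinearTopology A A]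
    (B : Type v) [CommRing B] [TopologicalSpace B] [IsTopologicalRing B] [IsLinearTopology B B]
    (φ : A →+* B) (hφ : LinTop.IsTautFFlat φ) (hB : LinTop.IsWeaklyPreadic B) :
    LinTop.IsWeaklyPreadic A := by
  obtain ⟨-, J, hJo, hJb⟩ := hB
  -- K n = closure (J^n), open ideals of B
  have hKo : ∀ n, IsOpen (((J ^ n).closure : Ideal B) : Set B) := hJo
  have hKanti : ∀ {a b : ℕ}, a ≤ b → (J ^ b).closure ≤ (J ^ a).closure := fun {a b} hab =>
    ideal_closure_mono (Ideal.pow_le_pow_right hab)
  -- the ideal
  let I : Ideal A := ((J ^ 1).closure).comap φ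
  have hIo : IsOpen (I : Set A) := (hKo 1).preimage hφ.1.1
  -- I_n = φ⁻¹ (K n) are open and form a basis
  have hInO : ∀ n, IsOpen ((((J ^ n).closure).comap φ : Ideal A) : Set A) := fun n =>
    (hKo n).preimage hφ.1.1
  have hbasis : ∀ I' : Ideal A, IsOpen (I' : Set A) → ∃ n, ((J ^ n).closure).comap φ ≤ I' := by
    intro I' hI'
    have ho : IsOpen (((I'.map φ).closure : Ideal B) : Set B) := hφ.1.2.1 I' hI'
    obtain ⟨n, hn⟩ := hJb _ (mem_nhds_zero_of_isOpen_ideal ho)
    refine ⟨n, ?_⟩
    have h1 : ((J ^ n).closure).comap φ ≤ ((I'.map φ).closure).comap φ := Ideal.comap_mono hn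
    rwa [comap_closure_map_eq hφ I' hI'] at h1
  -- I^n ≤ I_n
  have hpowle : ∀ n, (I ^ n).closure ≤ ((J ^ n).closure).comap φ := by
    intro n
    apply ideal_closure_le_of_isClosed _ (isClosed_of_isOpen_ideal _ (hInO n))
    have h1 : I ^ n ≤ (((J ^ 1).closure) ^ n).comap φ := Ideal.le_comap_pow φ n
    have h2 : ((J ^ 1).closure) ^ n ≤ (J ^ n).closure := by
      have h := closure_pow_le J n
      simpa only [pow_one] using h
    exact h1.trans (Ideal.comap_mono h2)
  -- c with K c ≤ closure (φ(I) B)
  have hIBo : IsOpen (((I.map φ).closure : Ideal B) : Set B) := hφ.1.2.1 I hIo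
  obtain ⟨c, hc⟩ := hJb _ (mem_nhds_zero_of_isOpen_ideal hIBo)
  have hc' : (J ^ c).closure ≤ (I.map φ).closure := hc
  refine ⟨inferInstance, I, fun n => ?_, fun U hU => ?_⟩
  · -- openness of closure (I^n)
    rcases Nat.eq_zero_or_pos n with rfl | hpos
    · simp
    · -- I_{c n} ≤ closure (I^n)
      have hle : ((J ^ (c * n)).closure).comap φ ≤ (I ^ n).closure := by
        intro x hx
        apply mem_closure_of_forall_mem_sup
        intro I' hI'
        have hJ'o : IsOpen (((I'.map φ).closure : Ideal B) : Set B) := hφ.1.2.1 I' hI'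
        apply mem_sup_of_map_mem_sup hφ I' hI'
        -- K (c n) ≤ (I^n).map φ ⊔ J'
        have h1 : (J ^ (c * n)).closure ≤ J ^ (c * n) ⊔ (I'.map φ).closure :=
          closure_le_sup_of_isOpen _ _ hJ'o
        have h2 : J ^ c ≤ I.map φ ⊔ (I'.map φ).closure :=
          (ideal_le_closure _).trans (hc'.trans (closure_le_sup_of_isOpen _ _ hJ'o))
        have h3 : J ^ (c * n) ≤ (I.map φ) ^ n ⊔ (I'.map φ).closure := by
          rw [pow_mul]
          exact (Ideal.pow_right_mono h2 n).trans (sup_pow_le _ _ n hpos)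
        have h4 : (J ^ (c * n)).closure ≤ (I ^ n).map φ ⊔ (I'.map φ).closure := by
          rw [Ideal.map_pow]
          exact h1.trans (sup_le h3 le_sup_right)
        exact h4 hx
      exact Ideal.isOpen_of_isOpen_subideal hle (hInO (c * n))
  · obtain ⟨I', hI', hI'U⟩ := exists_open_ideal_subset hU
    obtain ⟨n, hn⟩ := hbasis I' hI'
    exact ⟨n, Set.Subset.trans (show ((I ^ n).closure : Set A) ⊆ I' from (hpowle n).trans hn) hI'U⟩

end Groth.Agent.S10169
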