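import Groth.Statements.S10170
import Groth.Agent.H51.FFlat
import Groth.Agent.H51.Adic

set_option autoImplicit false
universe u v
open LinTop
open Groth.Agent.H51 Topology Filter

namespace Groth.Agent.S10170

/-- an element of `I.map φ` already lies in `I'.map φ` for a finitely generated `I' ≤ I` -/
theorem exists_fg_le_of_mem_map {A : Type u} {B : Type v} [CommRing A] [CommRing B] (φ : A →+* B)
    (I : Ideal A) {x : B} (hx : x ∈ I.map φ) :
    ∃ I' : Ideal A, I' ≤ I ∧ I'.FG ∧ x ∈ I'.map φ := by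
  change x ∈ Submodule.span B (φ '' I) at hx
  induction hx using Submodule.span_induction with
  | mem x hx =>
    obtain ⟨a, ha, rfl⟩ := hx
    refine ⟨Ideal.span {a}, (Ideal.span_singleton_le_iff_mem _).mpr ha, ⟨{a}, by simp⟩, ?_⟩
    exact Ideal.mem_map_of_mem _ (Ideal.mem_span_singleton_self a)
  | zero => exact ⟨⊥, bot_le, Submodule.fg_bot, Ideal.zero_mem _⟩
  | add x y _ _ hx hy =>
    obtain ⟨I1, h1, f1, m1⟩ := hx
    obtain ⟨I2, h2, f2, m2⟩ := hy
    exact ⟨I1 ⊔ I2, sup_le h1 h2, Submodule.FG.sup f1 f2,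
      Ideal.add_mem _ (Ideal.map_mono le_sup_left m1) (Ideal.map_mono le_sup_right m2)⟩
  | smul a x _ hx =>
    obtain ⟨I1, h1, f1, m1⟩ := hx
    exact ⟨I1, h1, f1, Ideal.mul_mem_left _ a m1⟩

theorem exists_fg_le_of_forall_mem_sup {A : Type u} {B : Type v} [CommRing A] [CommRing B]
    (φ : A →+* B) (I : Ideal A) (L : Ideal B) (s : Finset B)
    (hs : ∀ g ∈ s, g ∈ I.map φ ⊔ L) :
    ∃ I' : Ideal A, I' ≤ I ∧ I'.FG ∧ ∀ g ∈ s, g ∈ I'.map φ ⊔ L := by
  classical
  induction s using Finset.induction_on with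
  | empty => exact ⟨⊥, bot_le, Submodule.fg_bot, by simp⟩
  | insert g s hg ih =>
    obtain ⟨I1, h1, f1, m1⟩ := ih (fun g' hg' => hs g' (Finset.mem_insert_of_mem hg'))
    obtain ⟨x, hx, l, hl, hxl⟩ := Submodule.mem_sup.mp (hs g (Finset.mem_insert_self g s))
    obtain ⟨I2, h2, f2, m2⟩ := exists_fg_le_of_mem_map φ I hx
    refine ⟨I1 ⊔ I2, sup_le h1 h2, Submodule.FG.sup f1 f2, ?_⟩
    intro g' hg'
    rcases Finset.mem_insert.mp hg' with rfl | hg'
    · rw [← hxl]
      exact Submodule.mem_sup.mpr ⟨x, Ideal.map_mono le_sup_right m2, l, hl, rfl⟩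
    · exact (sup_le_sup_right (Ideal.map_mono le_sup_left) L) (m1 g' hg')

/-- Let φ : A → B be a taut homomorphism of linearly topologized rings such that for every open ideal I
of A the induced ring map A/I → B/J, where J denotes the closure of φ(I)B, is faithfully flat.
Suppose A is Hausdorff and complete, and B is adic with some finitely generated ideal of definition.
Then A is adic, and some finitely generated ideal of A is an ideal of definition. -/
theorem result
    (A : Type u) [CommRing A] [UniformSpace A] [IsUniformAddGroup A] [IsTopologicalRing A] [IsLinearTopology A A] [T2Space A] [CompleteSpace A]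
    (B : Type v) [CommRing B] [UniformSpace B] [IsUniformAddGroup B] [IsTopologicalRing B] (hB : LinTop.IsAdicRing B)
    (hJ : ∃ J : Ideal B, LinTop.IsIdealOfDefinition B J ∧ J.FG)
    (φ : A →+* B) (hφ : LinTop.IsTautFFlat φ) :
    LinTop.IsAdicRing A ∧ ∃ I : Ideal A, LinTop.IsIdealOfDefinition A I ∧ I.FG := by
  obtain ⟨⟨J', hJ'⟩, hBT2, hBC⟩ := hB
  obtain ⟨J, hJdef, hJfg⟩ := hJ
  -- linear topology on B
  have hlinB : IsLinearTopology B B := by
    have hl := J'.isLinearTopology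
    have hJ'' := hJ'
    unfold IsAdic at hJ''
    rw [← hJ''] at hl
    exact hl
  have hJo : IsOpen (J : Set B) := hJdef.1
  have hJpo : ∀ n, IsOpen ((J ^ n : Ideal B) : Set B) := by
    intro n
    have h1 := isAdic_iff.mp hJ'
    obtain ⟨m, hm⟩ := h1.2 J (hJo.mem_nhds J.zero_mem)
    have hm' : J' ^ m ≤ J := hm
    have h2 : J' ^ (m * n) ≤ J ^ n := by rw [pow_mul]; exact Ideal.pow_right_mono hm' n
    exact Ideal.isOpen_of_isOpen_subideal h2 (h1.1 (m * n))
  have hJb : ∀ L : Ideal B, IsOpen (L : Set B) → ∃ n, J ^ n ≤ L := by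
    intro L hL
    obtain ⟨n, -, hn⟩ := hJdef.2 L (hL.mem_nhds L.zero_mem)
    exact ⟨n, hn⟩
  -- I_n
  have hInO : ∀ n, IsOpen (((J ^ n).comap φ : Ideal A) : Set A) := fun n =>
    (hJpo n).preimage hφ.1.1
  have hInC : ∀ n, IsClosed (((J ^ n).comap φ : Ideal A) : Set A) := fun n =>
    isClosed_of_isOpen_ideal _ (hInO n)
  have hbasisA : ∀ I'' : Ideal A, IsOpen (I'' : Set A) → ∃ n, (J ^ n).comap φ ≤ I'' := by
    intro I'' hI''
    have ho : IsOpen (((I''.map φ).closure : Ideal B) : Set B) := hφ.1.2.1 I'' hI''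
    obtain ⟨n, hn⟩ := hJb _ ho
    refine ⟨n, ?_⟩
    have h1 : (J ^ n).comap φ ≤ ((I''.map φ).closure).comap φ := Ideal.comap_mono hn
    rwa [comap_closure_map_eq hφ I'' hI''] at h1
  let I : Ideal A := J.comap φ
  have hIo : IsOpen (I : Set A) := hJo.preimage hφ.1.1
  have hIBo : IsOpen (((I.map φ).closure : Ideal B) : Set B) := hφ.1.2.1 I hIo
  obtain ⟨c, hc⟩ := hJb _ hIBo
  -- finite generation
  have hJcfg : (J ^ c).FG := hJfg.pow
  obtain ⟨s, hs⟩ := hJcfg
  have hs1 : ∀ g ∈ s, g ∈ I.map φ ⊔ J ^ (c + 1) := by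
    intro g hg
    have hgc : g ∈ J ^ c := by rw [← hs]; exact Ideal.subset_span hg
    exact closure_le_sup_of_isOpen _ _ (hJpo (c + 1)) (hc hgc)
  obtain ⟨I', hI'I, hI'fg, hI's⟩ := exists_fg_le_of_forall_mem_sup φ I (J ^ (c + 1)) s hs1
  have h0 : J ^ c ≤ I'.map φ ⊔ J ^ (c + 1) := by
    rw [← hs]; exact Ideal.span_le.mpr hI's
  have hk : ∀ k, J ^ c ≤ I'.map φ ⊔ J ^ (c + k) := by
    intro k
    induction k with
    | zero => exact le_sup_right
    | succ k ih =>
      refine ih.trans (sup_le le_sup_left ?_)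
      have e : J ^ (c + k) = J ^ k * J ^ c := by rw [← pow_add, add_comm]
      rw [e]
      refine (Ideal.mul_mono_right h0).trans ?_
      rw [Ideal.mul_sup]
      apply sup_le
      · exact le_sup_of_le_left Ideal.mul_le_right
      · rw [← pow_add]
        have e2 : k + (c + 1) = c + (k + 1) := by ring
        rw [e2]; exact le_sup_right
  have hcl : J ^ c ≤ (I'.map φ).closure := by
    intro x hx
    apply mem_closure_of_forall_mem_sup
    intro L hL
    obtain ⟨k, hk'⟩ := hJb L hL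
    have h1 : J ^ (c + k) ≤ L := (Ideal.pow_le_pow_right (Nat.le_add_left k c)).trans hk'
    exact (sup_le_sup_left h1 _) (hk k hx)
  have hcln : ∀ n, J ^ (c * n) ≤ ((I' ^ n).map φ).closure := by
    intro n
    rw [pow_mul, Ideal.map_pow]
    exact (Ideal.pow_right_mono hcl n).trans (closure_pow_le _ n)
  have hle : ∀ n, (J ^ (c * n)).comap φ ≤ (I' ^ n).closure := by
    intro n x hx
    apply mem_closure_of_forall_mem_sup
    intro I'' hI''
    have hJ''o : IsOpen (((I''.map φ).closure : Ideal B) : Set B) := hφ.1.2.1 I'' hI''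
    apply mem_sup_of_map_mem_sup hφ I'' hI''
    exact closure_le_sup_of_isOpen _ _ hJ''o (hcln n hx)
  have hge : ∀ n, (I' ^ n).closure ≤ (J ^ n).comap φ := by
    intro n
    apply ideal_closure_le_of_isClosed _ (hInC n)
    exact (Ideal.pow_right_mono hI'I n).trans (Ideal.le_comap_pow φ n)
  have hopen : ∀ n : ℕ, IsOpen (closure ((I' ^ n : Ideal A) : Set A)) := fun n =>
    Ideal.isOpen_of_isOpen_subideal (hle n) (hInO (c * n))
  have hbasis : ∀ U ∈ 𝓝 (0 : A), ∃ n : ℕ, closure ((I' ^ n : Ideal A) : Set A) ⊆ U := by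
    intro U hU
    obtain ⟨I'', hI'', hI''U⟩ := exists_open_ideal_subset hU
    obtain ⟨n, hn⟩ := hbasisA I'' hI''
    exact ⟨n, Set.Subset.trans (show ((I' ^ n).closure : Set A) ⊆ I'' from (hge n).trans hn) hI''U⟩
  have hadic : IsAdic I' := isAdic_of_fg_of_closure_pow_basis I' hI'fg hopen hbasis
  refine ⟨⟨⟨I', hadic⟩, inferInstance, inferInstance⟩, I', ⟨?_, ?_⟩, hI'fg⟩
  · have := (isAdic_iff.mp hadic).1 1
    rwa [pow_one] at this
  · intro U hU
    obtain ⟨n, hn⟩ := (isAdic_iff.mp hadic).2 U hU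
    refine ⟨n + 1, Nat.succ_pos n, Set.Subset.trans ?_ hn⟩
    exact Ideal.pow_le_pow_right (Nat.le_succ n)

end Groth.Agent.S10170
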