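import Groth.Statements.S10171
import Mathlib.Topology.Algebra.OpenSubgroup
import Mathlib.Topology.Algebra.IsUniformGroup.Basic

set_option autoImplicit false
universe u v
open LinTop
open UniformSpace Topology

namespace Groth.Agent.S10171

/-- Let M be a linearly topologized module over a ring R and N a submodule. Write M^ for the separated
completion of M and (M/N)^ for that of M/N (quotient topology, additive uniform structure). Then the
kernel of the induced map M^ → (M/N)^ is the closure of the image of N in M^; that closure is the
completion of N, so this is the exactness of 0 → N^ → M^ → (M/N)^ at M^. -/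
theorem result
    {R : Type u} [Ring R] {M : Type v} [AddCommGroup M] [Module R M] [UniformSpace M]
    [IsUniformAddGroup M] [IsLinearTopology R M] (N : Submodule R M) :
    (@UniformSpace.Completion.map M _ (M ⧸ N.toAddSubgroup)
        (IsTopologicalAddGroup.rightUniformSpace (M ⧸ N.toAddSubgroup))
        (QuotientAddGroup.mk' N.toAddSubgroup)) ⁻¹' {0} =
      closure (Set.range (fun n : N => ((n : M) : UniformSpace.Completion M))) := by
  letI uQ : UniformSpace (M ⧸ N.toAddSubgroup) :=
    IsTopologicalAddGroup.rightUniformSpace (M ⧸ N.toAddSubgroup)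
  haveI : IsUniformAddGroup (M ⧸ N.toAddSubgroup) := isUniformAddGroup_of_addCommGroup
  set π : M →+ M ⧸ N.toAddSubgroup := QuotientAddGroup.mk' N.toAddSubgroup with hπdef
  have hπc : Continuous π := QuotientAddGroup.continuous_mk
  set F : Completion M →+ Completion (M ⧸ N.toAddSubgroup) := π.completion hπc with hFdef
  have hF : ∀ y, Completion.map π y = F y := fun y => rfl
  have hFc : Continuous F := π.continuous_completion hπc
  ext x
  simp only [Set.mem_preimage, Set.mem_singleton_iff]
  rw [hF]
  constructor
  · intro hx
    rw [mem_closure_iff_nhds]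
    intro t ht
    have hS : (fun y : Completion M => x - y) ⁻¹' t ∈ 𝓝 (0 : Completion M) := by
      apply (continuous_const.sub continuous_id).continuousAt.preimage_mem_nhds
      simpa using ht
    obtain ⟨C, ⟨hC, hCcl⟩, hCS⟩ := (closed_nhds_basis (0 : Completion M)).mem_iff.mp hS
    have hC' : ((↑) : M → Completion M) ⁻¹' C ∈ 𝓝 (0 : M) :=
      (Completion.continuous_coe M).continuousAt.preimage_mem_nhds (by rwa [Completion.coe_zero])
    obtain ⟨U, hUo, hUC⟩ := (IsLinearTopology.hasBasis_open_submodule R).mem_iff.mp hC'
    let V : AddSubgroup (Completion M) := (U.toAddSubgroup.map Completion.toCompl).topologicalClosure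
    have hVC : (V : Set (Completion M)) ⊆ C :=
      closure_minimal (by rintro _ ⟨u, hu, rfl⟩; exact hUC hu) hCcl
    have hV0 : (V : Set (Completion M)) ∈ 𝓝 (0 : Completion M) := by
      have := (Completion.isDenseInducing_toCompl M).closure_image_mem_nhds (hUo.mem_nhds U.zero_mem)
      rw [map_zero] at this
      exact this
    have hx' : (fun y : Completion M => x - y) ⁻¹' (V : Set (Completion M)) ∈ 𝓝 x := by
      apply (continuous_const.sub continuous_id).continuousAt.preimage_mem_nhds
      simpa using hV0
    obtain ⟨m, hm⟩ := Completion.denseRange_coe.mem_nhds hx'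
    have hπm : π m ∈ (U.toAddSubgroup.map π : AddSubgroup (M ⧸ N.toAddSubgroup)) := by
      have h1 : F (x - (m : Completion M)) =
          - ((π m : M ⧸ N.toAddSubgroup) : Completion (M ⧸ N.toAddSubgroup)) := by
        rw [map_sub, hx, zero_sub]
        congr 1
        exact π.completion_coe hπc m
      have h2 : F (x - (m : Completion M)) ∈
          closure (((↑) : (M ⧸ N.toAddSubgroup) → Completion (M ⧸ N.toAddSubgroup)) ''
            ((U.toAddSubgroup.map π : AddSubgroup (M ⧸ N.toAddSubgroup)) : Set (M ⧸ N.toAddSubgroup))) := by
        have hsub : (V : Set (Completion M)) ⊆ F ⁻¹'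
            closure (((↑) : (M ⧸ N.toAddSubgroup) → Completion (M ⧸ N.toAddSubgroup)) ''
            ((U.toAddSubgroup.map π : AddSubgroup (M ⧸ N.toAddSubgroup)) : Set (M ⧸ N.toAddSubgroup))) := by
          apply closure_minimal _ (isClosed_closure.preimage hFc)
          rintro _ ⟨u, hu, rfl⟩
          apply subset_closure
          refine ⟨π u, ⟨u, hu, rfl⟩, ?_⟩
          exact (π.completion_coe hπc u).symm
        exact hsub hm
      have hAo : IsOpen ((U.toAddSubgroup.map π : AddSubgroup (M ⧸ N.toAddSubgroup)) :
          Set (M ⧸ N.toAddSubgroup)) := QuotientAddGroup.isOpenMap_coe _ hUo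
      have hAc : IsClosed ((U.toAddSubgroup.map π : AddSubgroup (M ⧸ N.toAddSubgroup)) :
          Set (M ⧸ N.toAddSubgroup)) := AddSubgroup.isClosed_of_isOpen _ hAo
      rw [h1, ← Completion.coe_neg] at h2
      have h3 : -(π m) ∈ closure ((U.toAddSubgroup.map π : AddSubgroup (M ⧸ N.toAddSubgroup)) :
          Set (M ⧸ N.toAddSubgroup)) := by
        rw [(Completion.isUniformInducing_coe (M ⧸ N.toAddSubgroup)).isInducing.closure_eq_preimage_closure_image]
        exact h2
      rw [hAc.closure_eq] at h3
      exact (AddSubgroup.neg_mem_iff _).1 h3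
    obtain ⟨u, hu, hum⟩ := hπm
    have hn : m - u ∈ N := by
      have h0 : π (m - u) = 0 := by rw [map_sub, hum, sub_self]
      exact (QuotientAddGroup.eq_zero_iff _).1 h0
    refine ⟨((m - u : M) : Completion M), ?_, ⟨⟨m - u, hn⟩, rfl⟩⟩
    have hmem : x - ((m - u : M) : Completion M) ∈ (V : Set (Completion M)) := by
      have e : x - ((m - u : M) : Completion M) = (x - m) + (u : Completion M) := by
        rw [Completion.coe_sub]; abel
      rw [e]
      exact V.add_mem hm (subset_closure ⟨u, hu, rfl⟩)
    have := hCS (hVC hmem)
    simpa using this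
  · intro hx
    have hcl : IsClosed (F ⁻¹' {0}) := isClosed_singleton.preimage hFc
    have hsub : closure (Set.range fun n : N => ((n : M) : Completion M)) ⊆ F ⁻¹' {0} := by
      apply closure_minimal _ hcl
      rintro _ ⟨n, rfl⟩
      show F _ = 0
      rw [π.completion_coe hπc]
      have h0 : π (n : M) = 0 := (QuotientAddGroup.eq_zero_iff _).2 n.2
      rw [h0, Completion.coe_zero]
    exact hsub hx

end Groth.Agent.S10171
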