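import Groth.Statements.S10172
import Mathlib.Topology.Algebra.OpenSubgroup
import Mathlib.Topology.Algebra.IsUniformGroup.Basic
import Mathlib.GroupTheory.QuotientGroup.Basic

set_option autoImplicit false
universe u v
open LinTop
open UniformSpace Topology Uniformity

namespace Groth.Agent.S10172

/-- Let M be a linearly topologized module over a ring R having a countable fundamental system of
neighbourhoods of 0, and N a submodule. With M^ and (M/N)^ the separated completions of M and of M/N
(quotient topology, additive uniform structure), the induced map M^ → (M/N)^ is surjective and open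
(so, its kernel being the completion of N, the sequence 0 → N^ → M^ → (M/N)^ → 0 is exact). -/
theorem result
    {R : Type u} [Ring R] {M : Type v} [AddCommGroup M] [Module R M] [UniformSpace M]
    [IsUniformAddGroup M] [IsLinearTopology R M] (hc : (nhds (0 : M)).IsCountablyGenerated)
    (N : Submodule R M) :
    Function.Surjective (@UniformSpace.Completion.map M _ (M ⧸ N.toAddSubgroup)
        (IsTopologicalAddGroup.rightUniformSpace (M ⧸ N.toAddSubgroup))
        (QuotientAddGroup.mk' N.toAddSubgroup)) ∧
      IsOpenMap (@UniformSpace.Completion.map M _ (M ⧸ N.toAddSubgroup)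
        (IsTopologicalAddGroup.rightUniformSpace (M ⧸ N.toAddSubgroup))
        (QuotientAddGroup.mk' N.toAddSubgroup)) := by
  letI uQ : UniformSpace (M ⧸ N.toAddSubgroup) :=
    IsTopologicalAddGroup.rightUniformSpace (M ⧸ N.toAddSubgroup)
  haveI : IsUniformAddGroup (M ⧸ N.toAddSubgroup) := isUniformAddGroup_of_addCommGroup
  set π : M →+ M ⧸ N.toAddSubgroup := QuotientAddGroup.mk' N.toAddSubgroup with hπdef
  have hπc : Continuous π := QuotientAddGroup.continuous_mk
  have hπs : Function.Surjective π := QuotientAddGroup.mk_surjective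
  set F : Completion M →+ Completion (M ⧸ N.toAddSubgroup) := π.completion hπc with hFdef
  have hF : (Completion.map π : Completion M → Completion (M ⧸ N.toAddSubgroup)) = ⇑F := rfl
  have hFc : Continuous F := π.continuous_completion hπc
  have hFcoe : ∀ m : M, F (m : Completion M) = ((π m : M ⧸ N.toAddSubgroup) :
      Completion (M ⧸ N.toAddSubgroup)) := fun m => π.completion_coe hπc m
  rw [hF]
  -- first countability of the completion
  haveI hcG : (𝓝 (0 : Completion M)).IsCountablyGenerated := by
    obtain ⟨s, hs⟩ := (𝓝 (0 : M)).exists_antitone_basis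
    have hb : (𝓝 (0 : Completion M)).HasBasis (fun _ : ℕ => True)
        (fun k => closure (((↑) : M → Completion M) '' s k)) := by
      refine ⟨fun t => ⟨fun ht => ?_, fun ⟨k, _, hk⟩ => Filter.mem_of_superset ?_ hk⟩⟩
      · obtain ⟨C, ⟨hC, hCcl⟩, hCt⟩ := (closed_nhds_basis (0 : Completion M)).mem_iff.mp ht
        have hC' : ((↑) : M → Completion M) ⁻¹' C ∈ 𝓝 (0 : M) :=
          (Completion.continuous_coe M).continuousAt.preimage_mem_nhds
            (by rwa [Completion.coe_zero])
        obtain ⟨k, -, hk⟩ := hs.toHasBasis.mem_iff.mp hC'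
        exact ⟨k, trivial, (closure_minimal (Set.image_subset_iff.2 hk) hCcl).trans hCt⟩
      · have := (Completion.isDenseInducing_toCompl M).closure_image_mem_nhds
          (hs.toHasBasis.mem_of_mem trivial : s k ∈ 𝓝 0)
        rw [map_zero] at this
        exact this
    exact hb.isCountablyGenerated
  haveI : (𝓤 (Completion M)).IsCountablyGenerated :=
    IsUniformAddGroup.uniformity_countably_generated
  haveI : FirstCountableTopology (Completion M) := inferInstance
  -- quotient by the kernel
  let H : AddSubgroup (Completion M) := F.ker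
  letI uGH : UniformSpace (Completion M ⧸ H) := IsTopologicalAddGroup.rightUniformSpace _
  haveI : IsUniformAddGroup (Completion M ⧸ H) := isUniformAddGroup_of_addCommGroup
  haveI : CompleteSpace (Completion M ⧸ H) := QuotientAddGroup.completeSpace_right (Completion M) H
  let Fb : Completion M ⧸ H →+ Completion (M ⧸ N.toAddSubgroup) := QuotientAddGroup.kerLift F
  have hFb : ∀ x : Completion M, Fb (x : Completion M ⧸ H) = F x :=
    fun x => QuotientAddGroup.kerLift_mk F x
  have hFbc : Continuous Fb := by
    rw [(QuotientAddGroup.isQuotientMap_mk H).continuous_iff]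
    exact hFc
  have hFbinj : Function.Injective Fb := QuotientAddGroup.kerLift_injective F
  -- key claim
  have hkey : ∀ U : Submodule R M, IsOpen (U : Set M) → ∀ x : Completion M,
      F x ∈ closure (((↑) : (M ⧸ N.toAddSubgroup) → Completion (M ⧸ N.toAddSubgroup)) ''
        (π '' (U : Set M))) →
      ∃ û ∈ closure (((↑) : M → Completion M) '' (U : Set M)), x - û ∈ H := by
    intro U hUo x hx
    let V : AddSubgroup (Completion M) :=
      (U.toAddSubgroup.map Completion.toCompl).topologicalClosure
    let A : AddSubgroup (M ⧸ N.toAddSubgroup) := U.toAddSubgroup.map π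
    let Wg : AddSubgroup (Completion (M ⧸ N.toAddSubgroup)) :=
      (A.map Completion.toCompl).topologicalClosure
    have hV0 : (V : Set (Completion M)) ∈ 𝓝 (0 : Completion M) := by
      have := (Completion.isDenseInducing_toCompl M).closure_image_mem_nhds
        (hUo.mem_nhds U.zero_mem)
      rw [map_zero] at this
      exact this
    have hx' : (fun y : Completion M => x - y) ⁻¹' (V : Set (Completion M)) ∈ 𝓝 x := by
      apply (continuous_const.sub continuous_id).continuousAt.preimage_mem_nhds
      simpa using hV0
    obtain ⟨m, hm⟩ := Completion.denseRange_coe.mem_nhds hx'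
    have hxW : F x ∈ Wg := hx
    have hsub : (V : Set (Completion M)) ⊆ F ⁻¹' (Wg : Set (Completion (M ⧸ N.toAddSubgroup))) := by
      apply closure_minimal _ (isClosed_closure.preimage hFc)
      rintro _ ⟨u, hu, rfl⟩
      apply subset_closure
      refine ⟨π u, ⟨u, hu, rfl⟩, ?_⟩
      exact (hFcoe u).symm
    have h2 : F (x - (m : Completion M)) ∈ Wg := hsub hm
    have h3 : F (m : Completion M) ∈ Wg := by
      have e : F (m : Completion M) = F x - F (x - (m : Completion M)) := by
        rw [map_sub]; abel
      rw [e]
      exact Wg.sub_mem hxW h2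
    rw [hFcoe] at h3
    have hAo : IsOpen (A : Set (M ⧸ N.toAddSubgroup)) := QuotientAddGroup.isOpenMap_coe _ hUo
    have hAc : IsClosed (A : Set (M ⧸ N.toAddSubgroup)) := AddSubgroup.isClosed_of_isOpen _ hAo
    have h4 : π m ∈ closure (A : Set (M ⧸ N.toAddSubgroup)) := by
      rw [(Completion.isUniformInducing_coe (M ⧸ N.toAddSubgroup)).isInducing.closure_eq_preimage_closure_image]
      exact h3
    rw [hAc.closure_eq] at h4
    obtain ⟨u, hu, hum⟩ := h4
    have hn : m - u ∈ N := by
      have h0 : π (m - u) = 0 := by rw [map_sub, hum, sub_self]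
      exact (QuotientAddGroup.eq_zero_iff _).1 h0
    refine ⟨(x - (m : Completion M)) + (u : Completion M),
      V.add_mem hm (subset_closure ⟨u, hu, rfl⟩), ?_⟩
    have e : x - ((x - (m : Completion M)) + (u : Completion M)) = ((m - u : M) : Completion M) := by
      rw [Completion.coe_sub]; abel
    rw [e]
    show F _ = 0
    rw [hFcoe]
    have h0 : π (m - u) = 0 := (QuotientAddGroup.eq_zero_iff _).2 hn
    rw [h0, Completion.coe_zero]
  have hind : Topology.IsInducing Fb := by
    rw [IsTopologicalAddGroup.isInducing_iff_nhds_zero]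
    apply le_antisymm
    · have := hFbc.tendsto 0
      rw [map_zero] at this
      exact this.le_comap
    · intro S hS
      have hS' : ((↑) : Completion M → Completion M ⧸ H) ⁻¹' S ∈ 𝓝 (0 : Completion M) :=
        QuotientAddGroup.continuous_mk.continuousAt.preimage_mem_nhds (by simpa using hS)
      obtain ⟨C, ⟨hC, hCcl⟩, hCS⟩ := (closed_nhds_basis (0 : Completion M)).mem_iff.mp hS'
      have hC' : ((↑) : M → Completion M) ⁻¹' C ∈ 𝓝 (0 : M) :=
        (Completion.continuous_coe M).continuousAt.preimage_mem_nhds
          (by rwa [Completion.coe_zero])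
      obtain ⟨U, hUo, hUC⟩ := (IsLinearTopology.hasBasis_open_submodule R).mem_iff.mp hC'
      rw [Filter.mem_comap]
      refine ⟨closure (((↑) : (M ⧸ N.toAddSubgroup) → Completion (M ⧸ N.toAddSubgroup)) ''
        (π '' (U : Set M))), ?_, ?_⟩
      · have hπU : (π '' (U : Set M)) ∈ 𝓝 (0 : M ⧸ N.toAddSubgroup) :=
          (QuotientAddGroup.isOpenMap_coe _ hUo).mem_nhds ⟨0, U.zero_mem, map_zero π⟩
        have := (Completion.isDenseInducing_toCompl (M ⧸ N.toAddSubgroup)).closure_image_mem_nhds hπU
        rw [map_zero] at this
        exact this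
      · intro z hz
        obtain ⟨x, rfl⟩ := QuotientAddGroup.mk_surjective z
        rw [Set.mem_preimage, hFb] at hz
        obtain ⟨û, hû, hxû⟩ := hkey U hUo x hz
        have hxeq : (x : Completion M ⧸ H) = (û : Completion M ⧸ H) := by
          rw [QuotientAddGroup.eq]
          have : -x + û = -(x - û) := by abel
          rw [this]
          exact H.neg_mem hxû
        rw [hxeq]
        exact hCS (closure_minimal (Set.image_subset_iff.2 hUC) hCcl hû)
  have hui : IsUniformInducing Fb := AddMonoidHom.isUniformInducing_of_isInducing hind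
  have hclosed : IsClosed (Set.range Fb) := hui.isComplete_range.isClosed
  have hrange : Set.range Fb = Set.univ := by
    have hdense : Dense (Set.range Fb) := by
      refine Dense.mono ?_ (Completion.denseRange_coe (α := M ⧸ N.toAddSubgroup))
      rintro _ ⟨q, rfl⟩
      obtain ⟨m, rfl⟩ := hπs q
      exact ⟨((m : Completion M) : Completion M ⧸ H), by rw [hFb, hFcoe]⟩
    rw [← hclosed.closure_eq, hdense.closure_eq]
  have hFbs : Function.Surjective Fb := Set.range_eq_univ.1 hrange
  have hFeq : (⇑F : Completion M → Completion (M ⧸ N.toAddSubgroup)) =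
      Fb ∘ ((↑) : Completion M → Completion M ⧸ H) := by
    funext x
    exact (hFb x).symm
  refine ⟨?_, ?_⟩
  · rw [hFeq]
    exact hFbs.comp QuotientAddGroup.mk_surjective
  · rw [hFeq]
    refine IsOpenMap.comp (hind.isOpenMap ?_) QuotientAddGroup.isOpenMap_coe
    rw [hrange]
    exact isOpen_univ

end Groth.Agent.S10172
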