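import Groth.Statements.S10173
import Groth.Agent.H51.AdicModule

set_option autoImplicit false
universe u v
open LinTop
open Groth.Agent.H51 Topology Filter UniformSpace UniformSpace.Completion

namespace Groth.Agent.S10173

/-- Let R be a commutative ring, I a finitely generated ideal and M a topological R-module (additive
uniform structure, each scalar acting uniformly continuously) having an open submodule M' whose
topology is the I-adic one, i.e. the I^n M' are open in M and form a fundamental system of
neighbourhoods of 0. Then the separated completion M^ has an open submodule whose topology is I-adic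
in the same sense, and for every n ≥ 1 the map M → M^/I^n M^ is surjective with kernel I^n M,
identifying M^/I^n M^ with M/I^n M. -/
theorem result
    {R : Type u} [CommRing R] (I : Ideal R) (hI : I.FG)
    {M : Type v} [AddCommGroup M] [Module R M] [UniformSpace M] [IsUniformAddGroup M]
    [UniformContinuousConstSMul R M]
    (M' : Submodule R M) (hopen : ∀ n : ℕ, IsOpen ((I ^ n • M' : Submodule R M) : Set M))
    (hbasis : ∀ U ∈ nhds (0 : M), ∃ n : ℕ, ((I ^ n • M' : Submodule R M) : Set M) ⊆ U) :
    (∃ M'' : Submodule R (UniformSpace.Completion M),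
        (∀ n : ℕ, IsOpen ((I ^ n • M'' : Submodule R (UniformSpace.Completion M)) :
          Set (UniformSpace.Completion M))) ∧
        ∀ U ∈ nhds (0 : UniformSpace.Completion M), ∃ n : ℕ,
          ((I ^ n • M'' : Submodule R (UniformSpace.Completion M)) :
            Set (UniformSpace.Completion M)) ⊆ U) ∧
      ∀ n : ℕ, 0 < n →
        Function.Surjective ((QuotientAddGroup.mk' (I ^ n • ⊤ : Submodule R (UniformSpace.Completion M)).toAddSubgroup).comp
          (UniformSpace.Completion.toCompl : M →+ UniformSpace.Completion M)) ∧
        ((QuotientAddGroup.mk' (I ^ n • ⊤ : Submodule R (UniformSpace.Completion M)).toAddSubgroup).comp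
          (UniformSpace.Completion.toCompl : M →+ UniformSpace.Completion M)).ker = (I ^ n • ⊤ : Submodule R M).toAddSubgroup := by
  refine ⟨⟨clS M', fun n => ?_, fun U hU => ?_⟩, fun n hn => ⟨?_, ?_⟩⟩
  · rw [smul_clS_eq' I hI M' hopen hbasis n]
    exact isOpen_clS _ (hopen n)
  · obtain ⟨m, hm⟩ := exists_clS_subset I M' hbasis hU
    refine ⟨m, ?_⟩
    rw [smul_clS_eq' I hI M' hopen hbasis m]
    exact hm
  · -- surjectivity
    intro q
    obtain ⟨x, rfl⟩ := QuotientAddGroup.mk_surjective q
    have hopenK : IsOpen (clS (I ^ n • M') : Set (Completion M)) := isOpen_clS _ (hopen n)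
    have hopen' : IsOpen ((fun z => z - x) ⁻¹' (clS (I ^ n • M') : Set (Completion M))) :=
      hopenK.preimage (continuous_id.sub continuous_const)
    have hne : ((fun z => z - x) ⁻¹' (clS (I ^ n • M') : Set (Completion M))).Nonempty :=
      ⟨x, by simp⟩
    obtain ⟨m, hm⟩ := (denseRange_coe (α := M)).exists_mem_open hopen' hne
    have hm' : (m : Completion M) - x ∈ clS (I ^ n • M') := hm
    have h1 : clS (I ^ n • M') ≤ I ^ n • (⊤ : Submodule R (Completion M)) := by
      rw [← smul_clS_eq' I hI M' hopen hbasis n]
      exact Submodule.smul_mono le_rfl le_top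
    refine ⟨m, ?_⟩
    change (QuotientAddGroup.mk (m : Completion M) :
      Completion M ⧸ (I ^ n • ⊤ : Submodule R (Completion M)).toAddSubgroup) = QuotientAddGroup.mk x
    rw [QuotientAddGroup.eq]
    have h2 : (m : Completion M) - x ∈ (I ^ n • ⊤ : Submodule R (Completion M)) := h1 hm'
    have h3 : -(m : Completion M) + x = -((m : Completion M) - x) := by abel
    rw [h3]
    exact (I ^ n • ⊤ : Submodule R (Completion M)).neg_mem h2
  · -- kernel
    ext m
    rw [AddMonoidHom.mem_ker]
    change (QuotientAddGroup.mk (m : Completion M) :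
      Completion M ⧸ (I ^ n • ⊤ : Submodule R (Completion M)).toAddSubgroup) = 0 ↔ _
    rw [QuotientAddGroup.eq_zero_iff]
    change (m : Completion M) ∈ (I ^ n • ⊤ : Submodule R (Completion M)) ↔
      m ∈ (I ^ n • ⊤ : Submodule R M)
    rw [smul_top_eq_clS I hI M' hopen hbasis n, mem_clS_iff]
    have hW : IsOpen (((I ^ n • ⊤ : Submodule R M).toAddSubgroup : AddSubgroup M) : Set M) := by
      have hle : (I ^ n • M' : Submodule R M).toAddSubgroup ≤
          (I ^ n • ⊤ : Submodule R M).toAddSubgroup := fun y hy =>
        Submodule.smul_mono (le_refl (I ^ n)) (le_top : M' ≤ ⊤) hy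
      exact AddSubgroup.isOpen_mono hle (hopen n)
    exact coe_mem_cl_iff _ hW m

end Groth.Agent.S10173
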