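import Groth.Statements.S10186
import Groth.Agent.H52.QSAffine
-- import your own Groth.Agent.* helpers here

set_option autoImplicit false
universe u
open CategoryTheory CategoryTheory.Limits AlgebraicGeometry Topology TopologicalSpace
open AlgSp

namespace Groth.Agent.S10186

open scoped TensorProduct in
theorem closedImm_lift {S : Scheme.{u}} (T P : Over S) [IsAffine T.left] (fst snd : P ⟶ T)
    (hP : IsAffine P.left)
    (hsurj : Function.Surjective
      (Algebra.TensorProduct.productMap fst.left.appTop.hom.toIntAlgHom
        snd.left.appTop.hom.toIntAlgHom)) :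
    IsClosedImmersion (prod.lift fst snd).left := by
  let p₁ : (T ⨯ T).left ⟶ T.left := (prod.fst : T ⨯ T ⟶ T).left
  let p₂ : (T ⨯ T).left ⟶ T.left := (prod.snd : T ⨯ T ⟶ T).left
  let t := terminal.from T.left
  let k : (T ⨯ T).left ⟶ pullback t t := pullback.lift p₁ p₂ (Subsingleton.elim _ _)
  have hk₁ : k ≫ pullback.fst t t = p₁ := pullback.lift_fst _ _ _
  have hk₂ : k ≫ pullback.snd t t = p₂ := pullback.lift_snd _ _ _
  have hmono : Mono k := by
    constructor
    intro Z α β hαβ
    have h1 : α ≫ p₁ = β ≫ p₁ := by rw [← hk₁, ← Category.assoc, hαβ, Category.assoc]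
    have h2 : α ≫ p₂ = β ≫ p₂ := by rw [← hk₂, ← Category.assoc, hαβ, Category.assoc]
    rw [← cancel_mono (Over.prodLeftIsoPullback T T).hom]
    apply pullback.hom_ext
    · rw [Category.assoc, Category.assoc, Over.prodLeftIsoPullback_hom_fst]; exact h1
    · rw [Category.assoc, Category.assoc, Over.prodLeftIsoPullback_hom_snd]; exact h2
  have hsep : IsSeparated k := inferInstance
  let hh : P.left ⟶ (T ⨯ T).left := (prod.lift fst snd).left
  have hh₁ : hh ≫ p₁ = fst.left := by
    show (prod.lift fst snd).left ≫ (prod.fst : T ⨯ T ⟶ T).left = fst.left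
    rw [← Over.comp_left, prod.lift_fst]
  have hh₂ : hh ≫ p₂ = snd.left := by
    show (prod.lift fst snd).left ≫ (prod.snd : T ⨯ T ⟶ T).left = snd.left
    rw [← Over.comp_left, prod.lift_snd]
  have hA : IsAffine (pullback t t) := inferInstance
  have hc1 : (hh ≫ k) ≫ pullback.fst t t = fst.left := by rw [Category.assoc, hk₁, hh₁]
  have hc2 : (hh ≫ k) ≫ pullback.snd t t = snd.left := by rw [Category.assoc, hk₂, hh₂]
  have key : ∀ w, ∃ y, (hh ≫ k).appTop.hom y =
      Algebra.TensorProduct.productMap fst.left.appTop.hom.toIntAlgHom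
        snd.left.appTop.hom.toIntAlgHom w := by
    intro w
    induction w using TensorProduct.induction_on with
    | zero => exact ⟨0, by rw [map_zero, map_zero]⟩
    | tmul a b =>
      refine ⟨(pullback.fst t t).appTop.hom a * (pullback.snd t t).appTop.hom b, ?_⟩
      rw [map_mul, Algebra.TensorProduct.productMap_apply_tmul]
      have e1 : (hh ≫ k).appTop.hom ((pullback.fst t t).appTop.hom a) = fst.left.appTop.hom a := by
        rw [← hc1, Scheme.Hom.comp_appTop]; rfl
      have e2 : (hh ≫ k).appTop.hom ((pullback.snd t t).appTop.hom b) = snd.left.appTop.hom b := by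
        rw [← hc2, Scheme.Hom.comp_appTop]; rfl
      rw [e1, e2]
      rfl
    | add w₁ w₂ h₁ h₂ =>
      obtain ⟨y₁, hy₁⟩ := h₁
      obtain ⟨y₂, hy₂⟩ := h₂
      exact ⟨y₁ + y₂, by rw [map_add, hy₁, hy₂, map_add]⟩
  have hcomp : IsClosedImmersion (hh ≫ k) := by
    apply IsClosedImmersion.of_surjective_of_isAffine
    intro z
    obtain ⟨w, rfl⟩ := hsurj z
    exact key w
  exact IsClosedImmersion.of_comp hh k


/-- Let X be an algebraic space over a scheme S such that for all affine schemes U, V over S mapping to
X and every scheme P over S representing h_U ×_X h_V, the scheme P is affine and the ring map from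
the tensor product over the integers of the global sections of U and V to the global sections of P,
induced by the two projections, is surjective. Then X is separated over S. (The published statement
concerns absolute separatedness, over the integers, which this hypothesis also gives and which
implies separatedness over S.) -/
theorem result {S : Scheme.{u}} (X : AlgSp.Space S)
    (h : ∀ (U V P : Over S) (a : (AlgSp.yon S).obj U ⟶ X.obj) (b : (AlgSp.yon S).obj V ⟶ X.obj)
      (fst : P ⟶ U) (snd : P ⟶ V),
      IsAffine U.left → IsAffine V.left →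
      IsPullback ((AlgSp.yon S).map fst) ((AlgSp.yon S).map snd) a b →
        IsAffine P.left ∧ Function.Surjective
          (Algebra.TensorProduct.productMap fst.left.appTop.hom.toIntAlgHom snd.left.appTop.hom.toIntAlgHom)) :
    AlgSp.IsSeparatedSp X.obj := by
  have hX : IsAlgSpace X.obj := X.property
  refine Groth.Agent.H52.repWith_diag_of_affine hX.diag (fun T hT g E x e sqE => ?_)
  have : IsAffine T.left := hT
  obtain ⟨a, ha⟩ : ∃ a, a = g ≫ prod.fst := ⟨_, rfl⟩
  obtain ⟨b, hb⟩ : ∃ b, b = g ≫ prod.snd := ⟨_, rfl⟩
  obtain ⟨P, snd, fst', sq⟩ := (hX.representable_from_yon a) b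
  obtain ⟨fst, rfl⟩ := (yon S).map_surjective fst'
  obtain ⟨hPaff, hsurj⟩ := h T T P a b fst snd hT hT sq
  have sqP := Groth.Agent.H51.isPullback_diag_yon sq
  have hg : g = (yon S).map (Limits.diag T) ≫ prodComparison (yon S) T T ≫ prod.map a b := by
    apply Limits.prod.hom_ext
    · simp only [Category.assoc, prod.map_fst, prodComparison_fst_assoc, ← Functor.map_comp_assoc,
        Limits.diag, prod.lift_fst, ha]
      simp
    · simp only [Category.assoc, prod.map_snd, prodComparison_snd_assoc, ← Functor.map_comp_assoc,
        Limits.diag, prod.lift_snd, hb]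
      simp
  have hw : x ≫ Limits.diag X.obj =
      ((yon S).map e ≫ (yon S).map (Limits.diag T)) ≫ prodComparison (yon S) T T ≫ prod.map a b := by
    rw [sqE.w, hg, Category.assoc]
  have h11 : sqP.lift x ((yon S).map e ≫ (yon S).map (Limits.diag T)) hw ≫
      ((yon S).map fst ≫ a) = x := sqP.lift_fst _ _ _
  have big : IsPullback (sqP.lift x ((yon S).map e ≫ (yon S).map (Limits.diag T)) hw ≫
      ((yon S).map fst ≫ a)) ((yon S).map e) (Limits.diag X.obj)
      ((yon S).map (Limits.diag T) ≫ prodComparison (yon S) T T ≫ prod.map a b) := by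
    rw [h11, ← hg]; exact sqE
  have left : IsPullback (sqP.lift x ((yon S).map e ≫ (yon S).map (Limits.diag T)) hw)
      ((yon S).map e) ((yon S).map (prod.lift fst snd)) ((yon S).map (Limits.diag T)) :=
    IsPullback.of_right big (sqP.lift_snd _ _ _) sqP
  obtain ⟨ε, hε⟩ := (yon S).map_surjective (sqP.lift x ((yon S).map e ≫ (yon S).map (Limits.diag T)) hw)
  rw [← hε] at left
  have hci : IsClosedImmersion (prod.lift fst snd).left := closedImm_lift T P fst snd hPaff hsurj
  have hrep : RepWith @IsClosedImmersion ((yon S).map (prod.lift fst snd)) :=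
    (repWith_yon_map_iff @IsClosedImmersion _).2 hci
  exact (repWith_yon_map_iff @IsClosedImmersion e).1
    (Groth.Agent.H50.repWith_snd_of_isPullback left hrep)

end Groth.Agent.S10186
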