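import Groth.Statements.S10187
import Groth.Agent.H52.QSAffine
-- import your own Groth.Agent.* helpers here

set_option autoImplicit false
universe u
open CategoryTheory CategoryTheory.Limits AlgebraicGeometry Topology TopologicalSpace
open AlgSp

namespace Groth.Agent.S10187

open scoped TensorProduct

/-- Let S be a separated scheme and X an algebraic space over S whose diagonal over S is a closed
immersion. Then for all affine schemes U, V over S mapping to X and every scheme P over S
representing h_U ×_X h_V, the scheme P is affine and the ring map from the tensor product over the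
integers of the global sections of U and V to the global sections of P, induced by the projections,
is surjective. (The published statement uses absolute separatedness of X; over a separated base this
agrees with separatedness over S, and without a hypothesis on S the relative notion does not
suffice: take X = h_S for an affine line with doubled origin S and U, V the two copies of the line.) -/
theorem result {S : Scheme.{u}} [S.IsSeparated]
    (X : AlgSp.Space S) (hX : AlgSp.IsSeparatedSp X.obj) (U V P : Over S) (a : (AlgSp.yon S).obj U ⟶ X.obj) (b : (AlgSp.yon S).obj V ⟶ X.obj)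
      (fst : P ⟶ U) (snd : P ⟶ V)
    (hU : IsAffine U.left) (hV : IsAffine V.left)
    (h : IsPullback ((AlgSp.yon S).map fst) ((AlgSp.yon S).map snd) a b) :
    IsAffine P.left ∧ Function.Surjective
          (Algebra.TensorProduct.productMap fst.left.appTop.hom.toIntAlgHom snd.left.appTop.hom.toIntAlgHom) := by
  have := hU
  have := hV
  have sqP := Groth.Agent.H51.isPullback_diag_yon h
  have hrep : RepWith @IsClosedImmersion ((yon S).map (prod.lift fst snd)) :=
    Groth.Agent.H50.repWith_snd_of_isPullback sqP hX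
  have hci : IsClosedImmersion (prod.lift fst snd).left :=
    (repWith_yon_map_iff @IsClosedImmersion _).1 hrep
  let i := terminal.from S
  let k' := pullback.map U.hom V.hom (U.hom ≫ i) (V.hom ≫ i) (𝟙 _) (𝟙 _) i
    (Category.id_comp _).symm (Category.id_comp _).symm
  have hdiag : IsClosedImmersion (pullback.diagonal i) := inferInstance
  have hk' : IsClosedImmersion k' :=
    MorphismProperty.of_isPullback (P := @IsClosedImmersion)
      (pullback_map_diagonal_isPullback U.hom V.hom i) hdiag
  let c : P.left ⟶ pullback (U.hom ≫ i) (V.hom ≫ i) :=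
    (prod.lift fst snd).left ≫ (Over.prodLeftIsoPullback U V).hom ≫ k'
  have hc : IsClosedImmersion c := inferInstance
  have hc1 : c ≫ pullback.fst _ _ = fst.left := by
    simp only [c, k', Category.assoc, pullback.lift_fst, Category.comp_id]
    rw [Over.prodLeftIsoPullback_hom_fst, ← Over.comp_left, prod.lift_fst]
  have hc2 : c ≫ pullback.snd _ _ = snd.left := by
    simp only [c, k', Category.assoc, pullback.lift_snd, Category.comp_id]
    rw [Over.prodLeftIsoPullback_hom_snd, ← Over.comp_left, prod.lift_snd]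
  have hA : IsAffine (pullback (U.hom ≫ i) (V.hom ≫ i)) := inferInstance
  obtain ⟨hPaff, -⟩ := IsClosedImmersion.isAffine_surjective_of_isAffine c
  refine ⟨hPaff, ?_⟩
  have := hPaff
  let pm := Algebra.TensorProduct.productMap fst.left.appTop.hom.toIntAlgHom
    snd.left.appTop.hom.toIntAlgHom
  let φ : CommRingCat.of (Γ(U.left, ⊤) ⊗[ℤ] Γ(V.left, ⊤)) ⟶ Γ(P.left, ⊤) :=
    CommRingCat.ofHom pm.toRingHom
  let ψ₁ : Γ(U.left, ⊤) ⟶ CommRingCat.of (Γ(U.left, ⊤) ⊗[ℤ] Γ(V.left, ⊤)) :=
    CommRingCat.ofHom Algebra.TensorProduct.includeLeftRingHom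
  let ψ₂ : Γ(V.left, ⊤) ⟶ CommRingCat.of (Γ(U.left, ⊤) ⊗[ℤ] Γ(V.left, ⊤)) :=
    CommRingCat.ofHom (Algebra.TensorProduct.includeRight (R := ℤ) (A := Γ(U.left, ⊤))
      (B := Γ(V.left, ⊤))).toRingHom
  have hψ₁ : ψ₁ ≫ φ = fst.left.appTop := by
    ext a
    exact Algebra.TensorProduct.productMap_left_apply _ _ a
  have hψ₂ : ψ₂ ≫ φ = snd.left.appTop := by
    ext b
    exact Algebra.TensorProduct.productMap_right_apply _ _ b
  let m : P.left ⟶ Spec (CommRingCat.of (Γ(U.left, ⊤) ⊗[ℤ] Γ(V.left, ⊤))) :=
    P.left.toSpecΓ ≫ Spec.map φ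
  let n₁ : Spec (CommRingCat.of (Γ(U.left, ⊤) ⊗[ℤ] Γ(V.left, ⊤))) ⟶ U.left :=
    Spec.map ψ₁ ≫ U.left.isoSpec.inv
  let n₂ : Spec (CommRingCat.of (Γ(U.left, ⊤) ⊗[ℤ] Γ(V.left, ⊤))) ⟶ V.left :=
    Spec.map ψ₂ ≫ V.left.isoSpec.inv
  have hm1 : m ≫ n₁ = fst.left := by
    simp only [m, n₁, Category.assoc]
    rw [← Spec.map_comp_assoc, hψ₁, ← Scheme.toSpecΓ_naturality_assoc,
      Scheme.toSpecΓ_isoSpec_inv, Category.comp_id]
  have hm2 : m ≫ n₂ = snd.left := by
    simp only [m, n₂, Category.assoc]
    rw [← Spec.map_comp_assoc, hψ₂, ← Scheme.toSpecΓ_naturality_assoc,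
      Scheme.toSpecΓ_isoSpec_inv, Category.comp_id]
  let n : Spec (CommRingCat.of (Γ(U.left, ⊤) ⊗[ℤ] Γ(V.left, ⊤))) ⟶
      pullback (U.hom ≫ i) (V.hom ≫ i) := pullback.lift n₁ n₂ (Subsingleton.elim _ _)
  have hmn : m ≫ n = c := by
    apply pullback.hom_ext
    · rw [Category.assoc, pullback.lift_fst, hm1, hc1]
    · rw [Category.assoc, pullback.lift_snd, hm2, hc2]
  have hmnci : IsClosedImmersion (m ≫ n) := by rw [hmn]; exact hc
  have hsepn : IsSeparated n := inferInstance
  have hmci : IsClosedImmersion m := IsClosedImmersion.of_comp m n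
  obtain ⟨-, hms⟩ := IsClosedImmersion.isAffine_surjective_of_isAffine m
  have happ : m.appTop =
      (Scheme.ΓSpecIso (CommRingCat.of (Γ(U.left, ⊤) ⊗[ℤ] Γ(V.left, ⊤)))).hom ≫ φ := by
    rw [Scheme.Hom.comp_appTop, Scheme.toSpecΓ_appTop, Scheme.ΓSpecIso_naturality]
  intro z
  obtain ⟨y, hy⟩ := hms z
  refine ⟨(Scheme.ΓSpecIso (CommRingCat.of (Γ(U.left, ⊤) ⊗[ℤ] Γ(V.left, ⊤)))).hom.hom y, ?_⟩
  rw [← hy, happ]
  rfl

end Groth.Agent.S10187
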