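import Groth.Statements.S10188
import Groth.Agent.H51.SrcRep

set_option autoImplicit false
universe u
open CategoryTheory CategoryTheory.Limits AlgebraicGeometry Topology TopologicalSpace
open AlgSp

namespace Groth.Agent.S10188

/-- Let P be a property of schemes that is local in the etale topology (for every scheme V and every
etale covering family of V, V has P if and only if all members have P), and let X be an algebraic
space over a scheme S. Then X has P etale locally (some surjective etale chart from a scheme with P)
if and only if every scheme admitting a representable etale map to X has P. -/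
theorem result {S : Scheme.{u}} (P : Scheme.{u} → Prop)
    (hP : ∀ (V : Scheme.{u}) (𝒰 : Scheme.Cover.{u} (Scheme.precoverage @Etale) V), P V ↔ ∀ i, P (𝒰.X i))
    (X : AlgSp.Space S) :
    AlgSp.EtaleLocally P X.obj ↔
      ∀ (U : Over S) (a : (AlgSp.yon S).obj U ⟶ X.obj), AlgSp.RepWith @Etale a → P U.left := by
  constructor
  · rintro ⟨U, p, hp, hps, hPU⟩ V a ha
    have sq := hp.rep.isPullback a
    obtain ⟨q, hq⟩ := (yon S).map_surjective (hp.rep.fst a)
    rw [← hq] at sq
    have hsE : Etale (hp.rep.snd a).left := hp.property_snd a
    have hsS : Surjective (hp.rep.snd a).left := hps.property_snd a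
    have hqE : Etale q.left := ha.2 p _ q sq.flip
    let 𝒰 : Scheme.Cover.{u} (Scheme.precoverage @Etale) U.left :=
      Scheme.Cover.mkOfCovers (Option PUnit.{u+1})
        (fun o => o.elim U.left (fun _ => (hp.rep.pullback a).left))
        (fun o => match o with
          | none => 𝟙 U.left
          | some _ => q.left)
        (fun x => ⟨none, x, rfl⟩)
        (fun o => match o with
          | none => (inferInstance : Etale (𝟙 U.left))
          | some _ => hqE)
    have hPT : P (hp.rep.pullback a).left := ((hP U.left 𝒰).mp hPU) (some PUnit.unit)
    let 𝒱 : Scheme.Cover.{u} (Scheme.precoverage @Etale) V.left :=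
      Scheme.Cover.mkOfCovers PUnit.{u+1} (fun _ => (hp.rep.pullback a).left)
        (fun _ => (hp.rep.snd a).left) (fun x => ⟨PUnit.unit, hsS.surj x⟩) (fun _ => hsE)
    exact (hP V.left 𝒱).mpr (fun _ => hPT)
  · intro h
    obtain ⟨U, p, hp, hps⟩ := X.property.atlas
    exact ⟨U, p, hp, hps, h U p hp⟩

end Groth.Agent.S10188
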