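import Groth.Statements.S10196
import Groth.Agent.H50.Presentation
import Groth.Agent.S10194

set_option autoImplicit false
universe u
open CategoryTheory CategoryTheory.Limits AlgebraicGeometry Topology TopologicalSpace
open AlgSp

namespace Groth.Agent.S10196

open Groth.Agent.H50

/-- Let X be an algebraic space over a scheme S, a : h_U ⟶ X a representable etale map from a scheme U
over S, and X' ⟶ X the open subspace whose image in |X| is the (open) image of U. Then a factors
through a representable etale and surjective a' : h_U ⟶ X', and if R is a scheme over S with h_R =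
h_U ×_X h_U then also h_R = h_U ×_{X'} h_U and (U, R, a') is a presentation of X'. -/
theorem result {S : Scheme.{u}} {X X' : AlgSp.Space S} {U : Over S}
    (a : (AlgSp.yon S).obj U ⟶ X.obj) (ha : AlgSp.RepWith @Etale a)
    (j : X' ⟶ X) (hj : AlgSp.RepWith @IsOpenImmersion j.hom)
    (himage : Set.range (AlgSp.Points.map j.hom) = Set.range (AlgSp.Points.ofPt a)) :
    ∃ a' : (AlgSp.yon S).obj U ⟶ X'.obj, a' ≫ j.hom = a ∧ AlgSp.RepWith @Etale a' ∧ AlgSp.RepWith @Surjective a' ∧
      ∀ (R : Over S) (s t : R ⟶ U), IsPullback ((AlgSp.yon S).map t) ((AlgSp.yon S).map s) a a →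
        AlgSp.IsPresentation s t a' := by
  have hjm : Mono j.hom := Groth.Agent.H50.mono_of_repWith (fun _ _ g hg => by
    have : IsOpenImmersion g := hg
    infer_instance) hj
  let Y : AlgSp.Space S := ⟨(yon S).obj U, IsAlgSpace.yon_obj U⟩
  let f : Y ⟶ X := ObjectProperty.homMk a
  have hr : Set.range (Points.map f.hom) ⊆ Set.range (Points.map j.hom) := by
    rintro _ ⟨y, rfl⟩
    rw [himage]
    obtain ⟨u, rfl⟩ := (Points.schemeEquiv U).surjective y
    exact ⟨u, Points.ofPt_eq_map_ofScheme a u⟩
  obtain ⟨g, hg⟩ := (Groth.Agent.S10194.result j hj f).2 hr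
  have hga : g.hom ≫ j.hom = a := congrArg (fun k => k.hom) hg
  have hge : RepWith @Etale g.hom := by
    apply repWith_of_comp_mono g.hom j.hom
    rw [hga]
    exact ha
  have hgs : RepWith @Surjective g.hom := by
    apply repWith_surjective_of_comp_mono j.hom g.hom hge.rep
    rw [hga, himage]
  refine ⟨g.hom, hga, hge, hgs, fun R s t sq => ?_⟩
  exact ⟨isEtaleEqvRel_of_isPullback s t a ha sq, hge, hgs,
    isPullback_of_comp_mono j.hom (by rw [hga]; exact sq)⟩

end Groth.Agent.S10196
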