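import Groth.Statements.S10197
import Groth.Agent.H51.LargestScheme

set_option autoImplicit false
universe u
open CategoryTheory CategoryTheory.Limits AlgebraicGeometry Topology TopologicalSpace
open AlgSp

namespace Groth.Agent.S10197

/-- An algebraic space X over a scheme S has a largest open subspace which is a scheme: there is an open
subspace X' ⟶ X whose underlying sheaf is representable by a scheme over S, through which every open
subspace of X with representable underlying sheaf factors. -/
theorem result {S : Scheme.{u}} (X : AlgSp.Space S) :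
    ∃ (X' : AlgSp.Space S) (j : X' ⟶ X), AlgSp.RepWith @IsOpenImmersion j.hom ∧ X'.obj.obj.IsRepresentable ∧
      ∀ (X'' : AlgSp.Space S) (j'' : X'' ⟶ X), AlgSp.RepWith @IsOpenImmersion j''.hom →
        X''.obj.obj.IsRepresentable → ∃ k : X'' ⟶ X', k ≫ j = j'' := by
  have hW := Groth.Agent.H51.LargestScheme.isOpen_schemeLocus X.property
  obtain ⟨G, ⟨e⟩⟩ := Groth.Agent.H51.LargestScheme.exists_iso_yon_openSub_schemeLocus X.property
  refine ⟨⟨Groth.Agent.H50.openSub X.obj (Groth.Agent.H51.LargestScheme.schemeLocus X.obj),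
      Groth.Agent.H50.isAlgSpace_openSub hW X.property⟩,
    ObjectProperty.homMk (Groth.Agent.H50.openSubι X.obj _),
    Groth.Agent.H50.repWith_isOpenImmersion_openSubι hW,
    (AlgSp.representableByOfIso e).isRepresentable, fun X'' j'' hj'' hrep => ?_⟩
  obtain ⟨V, ⟨r⟩⟩ := hrep.has_representation
  have e'' := AlgSp.isoOfRepresentableBy r
  have hj2 : AlgSp.RepWith @IsOpenImmersion (e''.hom ≫ j''.hom) :=
    (MorphismProperty.cancel_left_of_respectsIso (AlgSp.RepWith (S := S) @IsOpenImmersion) e''.hom
      j''.hom).2 hj''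
  obtain ⟨k, hk⟩ := Groth.Agent.H51.exists_factor_openSubι
    (Groth.Agent.H51.LargestScheme.schemeLocus X.obj) j''.hom (fun y hy => by
      obtain ⟨z, rfl⟩ := hy
      refine ⟨V, e''.hom ≫ j''.hom, hj2, AlgSp.Points.map e''.inv z, ?_⟩
      rw [← AlgSp.Points.map_comp, Iso.inv_hom_id_assoc])
  exact ⟨ObjectProperty.homMk k, ObjectProperty.hom_ext _ hk⟩

end Groth.Agent.S10197
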