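import Groth.Statements.S10198
import Groth.Agent.H52.ZarQs

set_option autoImplicit false
universe u
open CategoryTheory CategoryTheory.Limits AlgebraicGeometry Topology TopologicalSpace
open AlgSp

namespace Groth.Agent.S10198

/-- (1) if and only if (3): for an algebraic space X over a scheme S, X is Zariski locally
quasi-separated over S (it has a Zariski covering by open subspaces whose diagonals over S are
quasi-compact) if and only if X has a Zariski covering by open subspaces each of which admits a
quasi-compact, etale, surjective map from an affine scheme. Since the second condition does not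
mention S, being Zariski locally quasi-separated does not depend on the base. -/
theorem result {S : Scheme.{u}} (X : AlgSp.Space S) :
    (∃ (ι : Type u) (Xi : ι → AlgSp.Space S) (j : ∀ i, Xi i ⟶ X),
        AlgSp.IsZarCover (fun i => (Xi i).obj) (fun i => (j i).hom) ∧ ∀ i, AlgSp.IsQuasiSeparatedSp (Xi i).obj) ↔
      (∃ (ι : Type u) (Xi : ι → AlgSp.Space S) (j : ∀ i, Xi i ⟶ X),
        AlgSp.IsZarCover (fun i => (Xi i).obj) (fun i => (j i).hom) ∧
          ∀ i, ∃ (U : Over S) (p : (AlgSp.yon S).obj U ⟶ (Xi i).obj), IsAffine U.left ∧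
            AlgSp.RepWith @QuasiCompact p ∧ AlgSp.RepWith @Etale p ∧ AlgSp.RepWith @Surjective p) := by
  constructor
  · rintro ⟨ι, Xi, j, hj, hqs⟩
    obtain ⟨ι', Xi', hXi', j', hcov, hcharts⟩ :=
      Groth.Agent.H52.exists_zarCover_qc_charts (fun i => (Xi i).obj) (fun i => (Xi i).property)
        (fun i => (j i).hom) hj hqs
    exact ⟨ι', fun k => ⟨Xi' k, hXi' k⟩, fun k => ObjectProperty.homMk (j' k), hcov, hcharts⟩
  · rintro ⟨ι, Xi, j, hj, h⟩
    refine ⟨ι, Xi, j, hj, fun i => ?_⟩
    obtain ⟨U, p, hU, hpq, hpe, hps⟩ := h i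
    exact Groth.Agent.H52.isQuasiSeparatedSp_of_qc_chart (Xi i).property hU p hpq hpe hps

end Groth.Agent.S10198
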