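import Groth.Statements.S10203
import Groth.Agent.H52.Noeth

set_option autoImplicit false
universe u
open CategoryTheory CategoryTheory.Limits AlgebraicGeometry Topology TopologicalSpace
open AlgSp

namespace Groth.Agent.S10203

/-- If X is a quasi-compact, locally Noetherian algebraic space over a scheme S, then |X| is a
Noetherian topological space. -/
theorem result {S : Scheme.{u}} (X : AlgSp.Space S)
    (hqc : AlgSp.IsQuasiCompactSp X.obj) (hX : AlgSp.IsLocNoethSp X.obj) :
    NoetherianSpace (AlgSp.Points X.obj) := by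
  obtain ⟨U, p, hpe, hps, hU⟩ := hqc
  have : CompactSpace ↥U.left := hU
  have hc : CompactSpace (AlgSp.Points X.obj) :=
    (Groth.Agent.H52.surjective_ofPt_of_surjective p hps).compactSpace (AlgSp.Points.continuous_ofPt p)
  choose W hWo hxW hWn using fun x => Groth.Agent.H52.exists_noetherianSpace_nhd hX x
  obtain ⟨t, ht⟩ := isCompact_univ.elim_finite_subcover W hWo
    (fun x _ => Set.mem_iUnion.mpr ⟨x, hxW x⟩)
  have h1 : NoetherianSpace ↥(⋃ i : t, W i.1) := NoetherianSpace.iUnion (fun i : t => W i.1)
  have h2 : (⋃ i : t, W i.1) = Set.univ := by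
    apply Set.eq_univ_of_univ_subset
    intro x hx
    obtain ⟨i, hi, hxi⟩ : ∃ i ∈ t, x ∈ W i := by simpa using ht hx
    exact Set.mem_iUnion.mpr ⟨⟨i, hi⟩, hxi⟩
  rw [h2] at h1
  exact noetherian_univ_iff.mp h1

end Groth.Agent.S10203
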