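import Groth.Statements.S10205
import Groth.Agent.H52.FQQs

set_option autoImplicit false
universe u
open CategoryTheory CategoryTheory.Limits AlgebraicGeometry Topology TopologicalSpace
open AlgSp
open Groth.Agent.H52

namespace Groth.Agent.S10205

/-- Let X be an algebraic space over a scheme S, k a field with a structure morphism Spec k ⟶ S, and p :
h_{Spec k} ⟶ X a surjective etale map. If the diagonal of X over S is quasi-compact, then X ≅
h_{Spec k'} for a field k' over S, where p corresponds to a finite etale morphism Spec k ⟶ Spec k'
over S (that is, k is a finite separable extension of k'). (The published statement assumes X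
quasi-separated in the absolute sense; the argument only uses that Spec k ×_X Spec k is
quasi-compact, which already follows from quasi-compactness of the diagonal over S since Spec k ×_S
Spec k is affine.) -/
theorem result {S : Scheme.{u}} (X : AlgSp.Space S)
    (hX : AlgSp.IsQuasiSeparatedSp X.obj) (k : Type u) [Field k] (str : Spec (CommRingCat.of k) ⟶ S)
    (p : (AlgSp.yon S).obj (Over.mk str) ⟶ X.obj) (hp : AlgSp.RepWith @Etale p) (hs : AlgSp.RepWith @Surjective p) :
    ∃ (k' : Type u) (_ : Field k') (str' : Spec (CommRingCat.of k') ⟶ S)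
      (e : (AlgSp.yon S).obj (Over.mk str') ≅ X.obj) (c : Over.mk str ⟶ Over.mk str'),
      (AlgSp.yon S).map c ≫ e.hom = p ∧ IsFinite c.left ∧ Etale c.left := by
  have hrep : Representable p := hp.rep
  have sq0 := hrep.isPullback p
  obtain ⟨t, ht⟩ := (yon S).map_surjective (hrep.fst p)
  rw [← ht] at sq0
  have he : Etale (hrep.snd p).left := hp.property_snd p
  have hqc : QuasiCompact (hrep.snd p).left :=
    quasiCompact_kernelPair_of_isQuasiSeparatedSp hX str (hrep.snd p) t sq0
  have hfin : IsFinite (hrep.snd p).left :=
    isFinite_of_etale_quasiCompact_field (k := k) (hrep.snd p).left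
  obtain ⟨k', _, ι, hι, str', hstr, p', hp', hfac⟩ :=
    exists_mono_factor_of_finite str p (hrep.snd p) t sq0
  have hepi : Epi p := epi_of_etale_surjective p hp hs
  have hepi' : Epi p' := by
    rw [← hfac] at hepi
    exact epi_of_epi ((yon S).map (Over.homMk (Spec.map (CommRingCat.ofHom ι)) hstr :
      Over.mk str ⟶ Over.mk str')) p'
  have hiso : IsIso p' := isIso_of_mono_of_epi p'
  refine ⟨k', inferInstance, str', asIso p', Over.homMk (Spec.map (CommRingCat.ofHom ι)) hstr,
    hfac, (IsFinite.SpecMap_iff (CommRingCat.ofHom ι)).2 hι, ?_⟩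
  rw [← repWith_yon_map_iff @Etale]
  have h1 : (yon S).map (Over.homMk (Spec.map (CommRingCat.ofHom ι)) hstr :
      Over.mk str ⟶ Over.mk str') = p ≫ inv p' := by
    rw [← hfac, Category.assoc, IsIso.hom_inv_id, Category.comp_id]
  rw [h1]
  exact ((RepWith @Etale).cancel_right_of_respectsIso _ _).2 hp

end Groth.Agent.S10205
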