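import Groth.Statements.S10213
import Groth.Agent.H52.Charts
import Mathlib.AlgebraicGeometry.Limits

set_option autoImplicit false
universe u
open CategoryTheory CategoryTheory.Limits AlgebraicGeometry Topology TopologicalSpace
open AlgSp

namespace Groth.Agent.S10213

/-- For an algebraic space X over a scheme S there is a surjective etale map h_U ⟶ X where U is a
disjoint union of affine schemes, each of which maps into an affine open of S. -/
theorem result {S : Scheme.{u}} (X : AlgSp.Space S) :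
    ∃ (ι : Type u) (V : ι → Scheme.{u}) (_ : ∀ i, IsAffine (V i)) (q : (∐ V) ⟶ S)
      (p : (AlgSp.yon S).obj (Over.mk q) ⟶ X.obj),
      AlgSp.RepWith @Etale p ∧ AlgSp.RepWith @Surjective p ∧
        ∀ i, ∃ W : S.Opens, IsAffineOpen W ∧ ∀ v : ↥(V i), (Sigma.ι V i ≫ q) v ∈ W := by
  obtain ⟨U, p, hpe, hps⟩ := X.property.atlas
  -- index: affine opens of `U` mapping into an affine open of `S`
  let ι : Type u := {V : U.left.Opens // IsAffineOpen V ∧ ∃ W : S.Opens, IsAffineOpen W ∧ V ≤ U.hom ⁻¹ᵁ W}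
  let V : ι → Scheme.{u} := fun i => (i.1 : Scheme.{u})
  have hV : ∀ i, IsAffine (V i) := fun i => i.2.1
  let f : ∀ i, V i ⟶ U.left := fun i => i.1.ι
  let d : (∐ V) ⟶ U.left := Sigma.desc f
  have hd1 : Etale d := IsZariskiLocalAtSource.sigmaDesc (fun _ => inferInstance)
  have hd2 : Surjective d := by
    refine Surjective.sigmaDesc_of_union_range_eq_univ (Set.eq_univ_of_forall fun u => ?_)
    obtain ⟨_, ⟨W, hW, rfl⟩, hsW, -⟩ :=
      (S.isBasis_affineOpens).exists_subset_of_mem_open (Set.mem_univ (U.hom u)) isOpen_univ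
    obtain ⟨_, ⟨V₀, hV₀, rfl⟩, huV₀, hV₀W⟩ :=
      (U.left.isBasis_affineOpens).exists_subset_of_mem_open (show u ∈ ((U.hom ⁻¹ᵁ W : U.left.Opens) : Set ↥U.left) from hsW)
        (U.hom ⁻¹ᵁ W).2
    refine Set.mem_iUnion.mpr ⟨⟨V₀, hV₀, W, hW, hV₀W⟩, ?_⟩
    change u ∈ Set.range (Scheme.Opens.ι (V₀ : U.left.Opens))
    rw [Scheme.Opens.range_ι]
    exact huV₀
  let ψ : Groth.Agent.H52.overOf (U := U) d ⟶ U := Groth.Agent.H52.overOfHom d
  refine ⟨ι, V, hV, d ≫ U.hom, (AlgSp.yon S).map ψ ≫ p,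
    Groth.Agent.H52.repWith_yon_map_comp @Etale ψ hd1 p hpe,
    Groth.Agent.H52.repWith_yon_map_comp @Surjective ψ hd2 p hps, fun i => ?_⟩
  obtain ⟨W, hW, hVW⟩ := i.2.2
  refine ⟨W, hW, fun v => ?_⟩
  have : Sigma.ι V i ≫ d ≫ U.hom = i.1.ι ≫ U.hom := by
    rw [← Category.assoc, Sigma.ι_desc]
  rw [this]
  exact hVW v.2

end Groth.Agent.S10213
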