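import Groth.Statements.S10214
import Groth.Agent.H50.OpenSubChart

set_option autoImplicit false
universe u
open CategoryTheory CategoryTheory.Limits AlgebraicGeometry Topology TopologicalSpace
open AlgSp

namespace Groth.Agent.S10214

open Groth.Agent.H50

/-- Every algebraic space X over a scheme S has a Zariski covering by open subspaces X_i such that each
X_i has a surjective etale map from an affine scheme; moreover the affine schemes may be taken to
map into affine opens of S. -/
theorem result {S : Scheme.{u}} (X : AlgSp.Space S) :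
    ∃ (ι : Type u) (Xi : ι → AlgSp.Space S) (j : ∀ i, Xi i ⟶ X),
      AlgSp.IsZarCover (fun i => (Xi i).obj) (fun i => (j i).hom) ∧
        ∀ i, ∃ (U : Over S) (p : (AlgSp.yon S).obj U ⟶ (Xi i).obj), IsAffine U.left ∧
          AlgSp.RepWith @Etale p ∧ AlgSp.RepWith @Surjective p ∧
          ∃ W : S.Opens, IsAffineOpen W ∧ ∀ v : ↥U.left, U.hom v ∈ W := by
  obtain ⟨U, a, ha, has⟩ := X.property.atlas
  have key : ∀ u : ↥U.left, ∃ (V : U.left.Opens) (W : S.Opens), IsAffineOpen V ∧ IsAffineOpen W ∧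
      u ∈ V ∧ ∀ v ∈ V, U.hom v ∈ W := by
    intro u
    obtain ⟨W, hW, huW⟩ : ∃ W : S.Opens, IsAffineOpen W ∧ U.hom u ∈ W := by
      obtain ⟨_, ⟨W, hW, rfl⟩, huW, -⟩ := S.isBasis_affineOpens.exists_subset_of_mem_open
        (Set.mem_univ (U.hom u)) isOpen_univ
      exact ⟨W, hW, huW⟩
    obtain ⟨_, ⟨V, hV, rfl⟩, huV, hVW⟩ := U.left.isBasis_affineOpens.exists_subset_of_mem_open
      (show u ∈ ((U.hom ⁻¹ᵁ W : U.left.Opens) : Set U.left) from huW) (U.hom ⁻¹ᵁ W).isOpen
    exact ⟨V, W, hV, hW, huV, fun v hv => hVW hv⟩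
  choose V W hV hW huV hVW using key
  have hopen : ∀ u, IsOpen (Points.ofPt a '' (V u : Set ↥U.left)) :=
    fun u => Groth.Agent.H52.isOpenMap_ofPt_of_etale a ha _ (V u).isOpen
  refine ⟨↥U.left, fun u => ⟨openSub X.obj (Points.ofPt a '' (V u : Set ↥U.left)),
      isAlgSpace_openSub (hopen u) X.property⟩,
    fun u => ObjectProperty.homMk (openSubι X.obj _),
    ⟨fun u => repWith_isOpenImmersion_openSubι (hopen u), fun x => ?_⟩, fun u => ?_⟩
  · obtain ⟨u, rfl⟩ := Groth.Agent.H52.surjective_ofPt_of_surjective a has x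
    refine ⟨u, ?_⟩
    show Points.ofPt a u ∈ Set.range (Points.map (openSubι X.obj _))
    rw [range_map_openSubι]
    exact ⟨u, huV u, rfl⟩
  · obtain ⟨a₁, -, ha₁, has₁⟩ := exists_chart_openSub a ha (V u)
    refine ⟨opensOver U (V u), a₁, hV u, ha₁, has₁, W u, hW u, fun v => ?_⟩
    exact hVW u v.1 v.2

end Groth.Agent.S10214
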