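import Groth.Statements.S10216
import Groth.Agent.H32.EtStalk1
import Groth.Agent.H52.Topology

set_option autoImplicit false
universe u
open CategoryTheory CategoryTheory.Limits AlgebraicGeometry Topology TopologicalSpace
open AlgSp

namespace Groth.Agent.S10216

/-- Let φ : U ⟶ X be an etale morphism of algebraic spaces over a scheme S, take a geometric point x̄ :
Spec k ⟶ X of X whose image in |X| is x, and let u ∈ |U| with φ(u) = x. Then there is a geometric
point ū : Spec k ⟶ U (with the same field k) lying over u and with φ ∘ ū = x̄. -/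
theorem result {S : Scheme.{u}} {U X : AlgSp.Space S} (φ : U ⟶ X)
    (hφ : AlgSp.IsEtaleMor φ.hom) (xbar : AlgSp.FieldPt X.obj) (hx : xbar.IsGeometric)
    (u : AlgSp.Points U.obj) (hu : AlgSp.Points.map φ.hom u = AlgSp.Points.mk xbar) :
    ∃ ubar : (AlgSp.yon S).obj xbar.pt ⟶ U.obj,
      ubar ≫ φ.hom = xbar.toHom ∧ AlgSp.Points.ofPt ubar (IsLocalRing.closedPoint xbar.K) = u := by
  obtain ⟨V, a, ha, hs⟩ := U.property.atlas
  obtain ⟨v, rfl⟩ := Groth.Agent.H52.surjective_ofPt_of_surjective a hs u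
  have hb : RepWith @Etale (a ≫ φ.hom) := hφ a ha
  obtain ⟨W, snd, fst, sq⟩ := hb.1 xbar.toHom
  obtain ⟨fst', rfl⟩ := (yon S).map_surjective fst
  have h1 : Points.ofPt (a ≫ φ.hom) v =
      Points.ofPt xbar.toHom (IsLocalRing.closedPoint xbar.K) :=
    (show Points.ofPt (a ≫ φ.hom) v = Points.mk xbar from hu).trans
      (Points.ofPt_toHom xbar _).symm
  obtain ⟨w, hw1, hw2⟩ := Groth.Agent.H52.exists_of_ofPt_eq_ofPt sq v _ h1
  have : IsAlgClosed xbar.K := hx
  obtain ⟨l, hl, hl'⟩ := Groth.Agent.H32.EtStalk.exists_lift_of_isPullback (a ≫ φ.hom) hb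
    xbar.str xbar.toHom fst' snd sq w
  refine ⟨(yon S).map l ≫ a, by rw [Category.assoc]; exact hl, ?_⟩
  refine (Groth.Agent.H52.ofPt_yon_map_comp l a _).trans ?_
  congr 1
  rw [← hw1, ← hl']
  congr 1
  exact Subsingleton.elim (α := ↥(Spec (CommRingCat.of xbar.K))) _ _

end Groth.Agent.S10216
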