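import Groth.Statements.S10220
import Groth.Agent.H32.EtStalk3

set_option autoImplicit false
universe u
open CategoryTheory CategoryTheory.Limits AlgebraicGeometry Topology TopologicalSpace
open AlgSp

namespace Groth.Agent.S10220

/-- Let X be an algebraic space over a scheme S and a : F ⟶ G a map of sheaves of sets on the small
etale site of X. Then a is injective (a monomorphism) if and only if the induced map on stalks F_x̄
→ G_x̄ is injective for every geometric point x̄ of X, and a is surjective (an epimorphism of
sheaves) if and only if all these stalk maps are surjective. -/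
theorem result {S : Scheme.{u}} (X : AlgSp.Space S) {F G : AlgSp.EtSh X.obj (Type (u + 1))} (a : F ⟶ G) :
    (Mono a ↔ ∀ p : AlgSp.FieldPt X.obj, p.IsGeometric →
        Function.Injective ((AlgSp.stalkEtFunctor (Type (u + 1)) p).map a)) ∧
    (Epi a ↔ ∀ p : AlgSp.FieldPt X.obj, p.IsGeometric →
        Function.Surjective ((AlgSp.stalkEtFunctor (Type (u + 1)) p).map a)) := by
  have hab1 : AB5OfSize.{u, u} (Type (u + 1)) := AB5OfSize_shrink.{u, u, u + 1, u + 1} _
  refine ⟨⟨?_, ?_⟩, ⟨?_, ?_⟩⟩
  · intro hm p hp
    have : IsAlgClosed p.K := hp
    let Φ := Groth.Agent.H32.EtStalk.point X.property p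
    have h1 : PreservesFiniteLimits (Φ.sheafFiber (A := Type (u + 1))) := inferInstance
    have h2 : Mono (Φ.sheafFiber.map a) := inferInstance
    exact (mono_iff_injective _).1 h2
  · intro h
    have h1 : ∀ E, Mono (a.hom.app E) := fun E => (mono_iff_injective _).2 (by
      obtain ⟨E⟩ := E
      exact Groth.Agent.H32.EtStalk.injective_app_of_stalk X.property a h E)
    have h2 : Mono a.hom := NatTrans.mono_of_mono_app _
    exact (sheafToPresheaf _ _).mono_of_mono_map
      (show Mono ((sheafToPresheaf _ _).map a) from h2)
  · intro he p hp
    have : IsAlgClosed p.K := hp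
    let Φ := Groth.Agent.H32.EtStalk.point X.property p
    have h1 : PreservesFiniteColimits (Φ.sheafFiber (A := Type (u + 1))) := inferInstance
    have h2 : Epi (Φ.sheafFiber.map a) := inferInstance
    exact (epi_iff_surjective _).1 h2
  · intro h
    have h1 := Groth.Agent.H32.EtStalk.isLocallySurjective_of_stalk X.property a h
    exact (Sheaf.isLocallySurjective_iff_epi a).1 h1

end Groth.Agent.S10220
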