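import Groth.Statements.S10221
import Groth.Agent.H32.EtStalk4

set_option autoImplicit false
universe u
open CategoryTheory CategoryTheory.Limits AlgebraicGeometry Topology TopologicalSpace
open AlgSp

namespace Groth.Agent.S10221

/-- Let X be an algebraic space over a scheme S. A short complex of abelian sheaves on the small etale
site of X (maps f, g with g ∘ f = 0) is exact if and only if it is exact on stalks at all geometric
points x̄ of X: every element of the middle stalk killed by g_x̄ is in the image of f_x̄. -/
theorem result {S : Scheme.{u}} (X : AlgSp.Space S) (C : ShortComplex (AlgSp.AbEt X.obj)) :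
    C.Exact ↔ ∀ p : AlgSp.FieldPt X.obj, p.IsGeometric →
      ∀ y : ↥((AlgSp.stalkEtFunctor AddCommGrpCat.{u + 1} p).obj C.X₂),
        ((AlgSp.stalkEtFunctor AddCommGrpCat.{u + 1} p).map C.g) y = 0 →
          ∃ x : ↥((AlgSp.stalkEtFunctor AddCommGrpCat.{u + 1} p).obj C.X₁),
            ((AlgSp.stalkEtFunctor AddCommGrpCat.{u + 1} p).map C.f) x = y := by
  have hab2 : AB5OfSize.{u, u} (AddCommGrpCat.{u + 1}) := AB5OfSize_shrink.{u, u, u + 1, u + 1} _
  constructor
  · intro hC p hp
    have : IsAlgClosed p.K := hp
    let Φ := Groth.Agent.H32.EtStalk.point X.property p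
    have h1 : PreservesFiniteLimits (Φ.sheafFiber (A := AddCommGrpCat.{u + 1})) := inferInstance
    have h2 : PreservesFiniteColimits (Φ.sheafFiber (A := AddCommGrpCat.{u + 1})) := inferInstance
    have h3 : (Φ.sheafFiber (A := AddCommGrpCat.{u + 1})).PreservesZeroMorphisms := inferInstance
    have h4 : (Φ.sheafFiber (A := AddCommGrpCat.{u + 1})).PreservesHomology := inferInstance
    have h5 : (C.map (Φ.sheafFiber (A := AddCommGrpCat.{u + 1}))).Exact := hC.map _
    exact (ShortComplex.ab_exact_iff _).1 h5
  · intro h
    rw [ShortComplex.exact_iff_isZero_homology]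
    apply Groth.Agent.H32.EtStalk.isZero_of_stalk X.property
    intro p hp
    have : IsAlgClosed p.K := hp
    let Φ := Groth.Agent.H32.EtStalk.point X.property p
    have h1 : PreservesFiniteLimits (Φ.sheafFiber (A := AddCommGrpCat.{u + 1})) := inferInstance
    have h2 : PreservesFiniteColimits (Φ.sheafFiber (A := AddCommGrpCat.{u + 1})) := inferInstance
    have h3 : (Φ.sheafFiber (A := AddCommGrpCat.{u + 1})).PreservesZeroMorphisms := inferInstance
    have h4 : (Φ.sheafFiber (A := AddCommGrpCat.{u + 1})).PreservesHomology := inferInstance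
    have e := C.mapHomologyIso (Φ.sheafFiber (A := AddCommGrpCat.{u + 1}))
    refine IsZero.of_iso ?_ e.symm
    rw [← ShortComplex.exact_iff_isZero_homology]
    exact (ShortComplex.ab_exact_iff _).2 (h p hp)

end Groth.Agent.S10221
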