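import Groth.Statements.S10225
import Groth.Agent.H32.EtSH8
import Groth.Agent.S2747

set_option autoImplicit false
universe u
open CategoryTheory CategoryTheory.Limits AlgebraicGeometry Topology TopologicalSpace
open AlgSp

namespace Groth.Agent.S10225

/-- Let X be an algebraic space over a scheme S and x̄ a geometric point of X lying over x ∈ |X|. Then
the local ring of X at x is reduced (for some etale chart h_U ⟶ X and some point u of U over x, the
local ring of U at u is reduced) if and only if the etale local ring of X at x̄ is reduced; in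
particular the latter does not depend on the choice of x̄ over x. -/
theorem result {S : Scheme.{u}} (X : AlgSp.Space S) (p : AlgSp.FieldPt X.obj) (hp : p.IsGeometric) :
    AlgSp.HasAt (fun U u => _root_.IsReduced ↥(U.presheaf.stalk u)) X.obj (AlgSp.Points.mk p) ↔
      _root_.IsReduced ↥(AlgSp.OEtStalk p) := by
  have : IsAlgClosed p.K := hp
  have hlocS := Groth.Agent.H32.EtLoc.isLocalRing_stalk X.property p
  have key : ∀ (U : Over S) (a : (AlgSp.yon S).obj U ⟶ X.obj) (u : ↥U.left),
      AlgSp.RepWith @Etale a → AlgSp.Points.ofPt a u = AlgSp.Points.mk p →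
      (_root_.IsReduced ↥(AlgSp.OEtStalk p) ↔ _root_.IsReduced ↥(U.left.presheaf.stalk u)) := by
    intro U a u ha hu
    have hlocR := Groth.Agent.H32.EtSH.isLocalRing_ulift_stalk U.left u
    obtain ⟨f, hlh, hSH⟩ := Groth.Agent.H32.EtSH.exists_sh_of_chart X.property p a ha u hu hlocR hlocS
    have h1 := @Groth.Agent.S2747.result (ULift.{u + 1} ↥(U.left.presheaf.stalk u))
      ↥(AlgSp.OEtStalk p) _ hlocR _ hlocS f.toAlgebra hlh hSH
    rw [h1]
    constructor
    · intro h
      exact isReduced_of_injective
        (ULift.ringEquiv.symm : ↥(U.left.presheaf.stalk u) ≃+* ULift.{u + 1} _).toRingHom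
        (ULift.ringEquiv.symm : ↥(U.left.presheaf.stalk u) ≃+* ULift.{u + 1} _).injective
    · intro h
      exact isReduced_of_injective
        (ULift.ringEquiv : ULift.{u + 1} ↥(U.left.presheaf.stalk u) ≃+* _).toRingHom
        (ULift.ringEquiv : ULift.{u + 1} ↥(U.left.presheaf.stalk u) ≃+* _).injective
  constructor
  · rintro ⟨U, a, u, ha, hu, hd⟩
    exact (key U a u ha hu).2 hd
  · intro hd
    obtain ⟨U, a, u, ha, hu⟩ := Groth.Agent.H32.EtSH.exists_chart X.property p
    exact ⟨U, a, u, ha, hu, (key U a u ha hu).1 hd⟩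

end Groth.Agent.S10225
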