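import Groth.Statements.S10226
import Groth.Agent.H32.EtSH8
import Groth.Agent.S0540
import Groth.Agent.H52.Topology

set_option autoImplicit false
universe u
open CategoryTheory CategoryTheory.Limits AlgebraicGeometry Topology TopologicalSpace
open AlgSp

namespace Groth.Agent.S10226

/-- Let X be a Noetherian algebraic space over a scheme S (quasi-compact, with quasi-compact diagonal
over S, and locally Noetherian) and x̄ a geometric point of X. Then the etale local ring of X at x̄
is a Noetherian local ring. -/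
theorem result {S : Scheme.{u}} (X : AlgSp.Space S)
    (hqc : AlgSp.IsQuasiCompactSp X.obj) (hqs : AlgSp.IsQuasiSeparatedSp X.obj) (hX : AlgSp.IsLocNoethSp X.obj)
    (p : AlgSp.FieldPt X.obj) (hp : p.IsGeometric) :
    IsNoetherianRing ↥(AlgSp.OEtStalk p) ∧ IsLocalRing ↥(AlgSp.OEtStalk p) := by
  have : IsAlgClosed p.K := hp
  have hlocS := Groth.Agent.H32.EtLoc.isLocalRing_stalk X.property p
  refine ⟨?_, hlocS⟩
  obtain ⟨U, a, ha, hs, hN⟩ := hX
  obtain ⟨u, hu⟩ := Groth.Agent.H52.surjective_ofPt_of_surjective a hs (AlgSp.Points.mk p)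
  have hlocR := Groth.Agent.H32.EtSH.isLocalRing_ulift_stalk U.left u
  obtain ⟨f, hlh, hSH⟩ := Groth.Agent.H32.EtSH.exists_sh_of_chart X.property p a ha u hu hlocR hlocS
  have h1 := @Groth.Agent.S0540.result (ULift.{u + 1} ↥(U.left.presheaf.stalk u)) _ hlocR
    ↥(AlgSp.OEtStalk p) _ hlocS f.toAlgebra hlh hSH
  have hN' : IsLocallyNoetherian U.left := hN
  have h2 : IsNoetherianRing ↥(U.left.presheaf.stalk u) := inferInstance
  have h3 : IsNoetherianRing (ULift.{u + 1} ↥(U.left.presheaf.stalk u)) :=
    isNoetherianRing_of_ringEquiv _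
      (ULift.ringEquiv.symm : ↥(U.left.presheaf.stalk u) ≃+* ULift.{u + 1} _)
  exact h1.1 h3

end Groth.Agent.S10226
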