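import Groth.Statements.S10227
import Groth.Agent.H32.EtSH12
import Groth.Agent.S9782

set_option autoImplicit false
universe u
open CategoryTheory CategoryTheory.Limits AlgebraicGeometry Topology TopologicalSpace
open AlgSp

namespace Groth.Agent.S10227

/-- (1) ⇔ (4) ⇔ (5): let X be an algebraic space over a scheme S and x ∈ |X|. The following are
equivalent: for every scheme U, every etale h_U ⟶ X and every point u of U over x, the local ring of
U at u has a unique minimal prime; for every such (U, u), the local ring of U at u is geometrically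
unibranch; for every geometric point x̄ over x, the etale local ring of X at x̄ has a unique minimal
prime. -/
theorem result {S : Scheme.{u}} (X : AlgSp.Space S) (x : AlgSp.Points X.obj) :
    ((∀ (U : Over S) (a : (AlgSp.yon S).obj U ⟶ X.obj) (u : ↥U.left),
        AlgSp.RepWith @Etale a → AlgSp.Points.ofPt a u = x → CAlgX.HasUniqueMinimalPrime ↥(U.left.presheaf.stalk u)) ↔
      (∀ (U : Over S) (a : (AlgSp.yon S).obj U ⟶ X.obj) (u : ↥U.left),
        AlgSp.RepWith @Etale a → AlgSp.Points.ofPt a u = x → CAlg2.IsGeomUnibranch ↥(U.left.presheaf.stalk u))) ∧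
    ((∀ (U : Over S) (a : (AlgSp.yon S).obj U ⟶ X.obj) (u : ↥U.left),
        AlgSp.RepWith @Etale a → AlgSp.Points.ofPt a u = x → CAlgX.HasUniqueMinimalPrime ↥(U.left.presheaf.stalk u)) ↔
      ∀ p : AlgSp.FieldPt X.obj, p.IsGeometric → AlgSp.Points.mk p = x →
        CAlgX.HasUniqueMinimalPrime ↥(AlgSp.OEtStalk p)) := by
  have hXp := X.property
  -- geometrically unibranch implies a unique minimal prime
  have hGU : ∀ (A : Type u) [CommRing A] [IsLocalRing A], CAlg2.IsGeomUnibranch A →
      CAlgX.HasUniqueMinimalPrime A := by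
    intro A _ _ hA
    have hdom : IsDomain (A ⧸ nilradical A) := hA.1.1
    have hprime : (nilradical A).IsPrime := (Ideal.Quotient.isDomain_iff_prime _).1 hdom
    have hmem : nilradical A ∈ minimalPrimes A := by
      refine ⟨⟨hprime, bot_le⟩, ?_⟩
      rintro Q ⟨hQ, -⟩ -
      exact nilradical_le_prime Q
    refine ⟨nilradical A, hmem, ?_⟩
    intro Q hQ
    have hQp : Q.IsPrime := hQ.1.1
    have h1 : nilradical A ≤ Q := nilradical_le_prime Q
    exact le_antisymm (hQ.2 ⟨hprime, bot_le⟩ h1) h1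
  have hBA : (∀ (U : Over S) (a : (AlgSp.yon S).obj U ⟶ X.obj) (u : ↥U.left),
        AlgSp.RepWith @Etale a → AlgSp.Points.ofPt a u = x →
        CAlg2.IsGeomUnibranch ↥(U.left.presheaf.stalk u)) →
      (∀ (U : Over S) (a : (AlgSp.yon S).obj U ⟶ X.obj) (u : ↥U.left),
        AlgSp.RepWith @Etale a → AlgSp.Points.ofPt a u = x →
        CAlgX.HasUniqueMinimalPrime ↥(U.left.presheaf.stalk u)) :=
    fun hB U a u ha hu => hGU _ (hB U a u ha hu)
  have hAB : (∀ (U : Over S) (a : (AlgSp.yon S).obj U ⟶ X.obj) (u : ↥U.left),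
        AlgSp.RepWith @Etale a → AlgSp.Points.ofPt a u = x →
        CAlgX.HasUniqueMinimalPrime ↥(U.left.presheaf.stalk u)) →
      (∀ (U : Over S) (a : (AlgSp.yon S).obj U ⟶ X.obj) (u : ↥U.left),
        AlgSp.RepWith @Etale a → AlgSp.Points.ofPt a u = x →
        CAlg2.IsGeomUnibranch ↥(U.left.presheaf.stalk u)) := by
    intro hA U a u ha hu
    rw [Groth.Agent.S9782.result U.left u]
    intro U' g u' hg hgu
    rw [Groth.Agent.H32.EtSH.encard_irreducibleComponents_eq_minimalPrimes_stalk,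
      ← Groth.Agent.H32.EtSH.hasUniqueMinimalPrime_iff_encard]
    let U'' : Over S := Over.mk (g ≫ U.hom)
    let g' : U'' ⟶ U := Over.homMk g rfl
    refine hA U'' ((AlgSp.yon S).map g' ≫ a) u'
      (Groth.Agent.H32.EtSH.chart_comp a ha g' hg) ?_
    rw [Groth.Agent.H52.ofPt_yon_map_comp]
    change AlgSp.Points.ofPt a (g u') = x
    rw [hgu, hu]
  have hBC : (∀ (U : Over S) (a : (AlgSp.yon S).obj U ⟶ X.obj) (u : ↥U.left),
        AlgSp.RepWith @Etale a → AlgSp.Points.ofPt a u = x →
        CAlg2.IsGeomUnibranch ↥(U.left.presheaf.stalk u)) →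
      ∀ p : AlgSp.FieldPt X.obj, p.IsGeometric → AlgSp.Points.mk p = x →
        CAlgX.HasUniqueMinimalPrime ↥(AlgSp.OEtStalk p) := by
    intro hB p hp hpx
    have : IsAlgClosed p.K := hp
    obtain ⟨U, a, u, ha, hu⟩ := Groth.Agent.H32.EtSH.exists_chart hXp p
    exact (Groth.Agent.H32.EtSH.hasUniqueMinimalPrime_stalk_iff hXp p a ha u hu).2
      (hB U a u ha (hu.trans hpx))
  have hCB : (∀ p : AlgSp.FieldPt X.obj, p.IsGeometric → AlgSp.Points.mk p = x →
        CAlgX.HasUniqueMinimalPrime ↥(AlgSp.OEtStalk p)) →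
      (∀ (U : Over S) (a : (AlgSp.yon S).obj U ⟶ X.obj) (u : ↥U.left),
        AlgSp.RepWith @Etale a → AlgSp.Points.ofPt a u = x →
        CAlg2.IsGeomUnibranch ↥(U.left.presheaf.stalk u)) := by
    intro hC U a u ha hu
    obtain ⟨p, hp, hpx⟩ := Groth.Agent.H32.EtSH.exists_geometric_over a ha u
    have : IsAlgClosed p.K := hp
    exact (Groth.Agent.H32.EtSH.hasUniqueMinimalPrime_stalk_iff hXp p a ha u hpx.symm).1
      (hC p hp (hpx.trans hu))
  exact ⟨⟨hAB, hBA⟩, ⟨fun hA => hBC (hAB hA), fun hC => hBA (hCB hC)⟩⟩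

end Groth.Agent.S10227
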