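import Groth.Statements.S10228
import Groth.Agent.H51.CofanSurj
import Groth.Agent.S10174

set_option autoImplicit false
universe u
open CategoryTheory CategoryTheory.Limits AlgebraicGeometry Topology TopologicalSpace
open AlgSp

namespace Groth.Agent.S10228

/-- An algebraic space that is the coproduct of finitely many quasi-compact algebraic spaces is
quasi-compact: if X_i (i in a finite type) are quasi-compact algebraic spaces over a scheme S and
the underlying sheaf of the algebraic space X is a coproduct of the underlying sheaves of the X_i
(given by a colimit cofan of fppf sheaves whose cone point is the sheaf of X), then X is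
quasi-compact. -/
theorem result {S : Scheme.{u}} {ι : Type u} [Finite ι] (Xi : ι → AlgSp.Space S)
    (X : AlgSp.Space S) (c : Cofan fun i => (Xi i).obj) (hc : IsColimit c) (hX : c.pt = X.obj)
    (hqc : ∀ i, AlgSp.IsQuasiCompactSp (Xi i).obj) :
    AlgSp.IsQuasiCompactSp X.obj := by
  obtain ⟨Xo, hXo⟩ := X
  change c.pt = Xo at hX
  subst hX
  rw [Groth.Agent.S10174.result ⟨c.pt, hXo⟩]
  have hcomp : ∀ i, CompactSpace (AlgSp.Points (Xi i).obj) := fun i =>
    (Groth.Agent.S10174.result (Xi i)).1 (hqc i)
  have huniv : (Set.univ : Set (AlgSp.Points c.pt)) = ⋃ i, Set.range (AlgSp.Points.map (c.inj i)) := by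
    ext x
    simp only [Set.mem_univ, Set.mem_iUnion, true_iff]
    exact Groth.Agent.H51.exists_mem_range_of_isColimit_cofan c hc x
  refine ⟨?_⟩
  rw [huniv]
  refine isCompact_iUnion fun i => ?_
  have := hcomp i
  exact isCompact_range (AlgSp.Points.continuous_map (c.inj i))

end Groth.Agent.S10228
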