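import Groth.Statements.S1023
import Mathlib
import Groth.Agent.H90.QCohHom

set_option autoImplicit false
universe u
open CategoryTheory CategoryTheory.Limits AlgebraicGeometry
attribute [local instance] HasDerivedCategory.standard
open Perf

namespace Groth.Agent.S1023

open Groth.Agent.H90.QH Groth.Agent.H90.SPerf Groth.Agent.H90.LR AlgebraicGeometry
  CategoryTheory.Limits in
/-- A perfect object on a quasi-compact scheme is bounded above. -/
theorem exists_isLE_of_isPerfect (X : Scheme.{u}) [CompactSpace ↥X] (E : DCoh.D X)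
    (hE : DCoh.IsPerfect E) : ∃ b : ℤ, E.IsLE b := by
  rw [isPerfect_iff] at hE
  choose V hxV P hP e using fun x => exists_homology_iso_of_locPerfO (hE x)
  choose a b hab using fun x => (hP x).1
  obtain ⟨t, ht⟩ := isCompact_univ.elim_finite_subcover
    (fun x => ((V x : X.Opens) : Set X))
    (fun x => (V x).isOpen) (fun y _ => Set.mem_iUnion.2 ⟨y, hxV y⟩)
  let N : ℕ := t.sup (fun x => (b x).natAbs)
  have hN : ∀ x ∈ t, b x ≤ N := fun x hx => by
    have h1 : (b x).natAbs ≤ N := Finset.le_sup (f := fun x => (b x).natAbs) hx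
    omega
  refine ⟨N, (DerivedCategory.isLE_iff E _).2 (fun i hi => ?_)⟩
  refine isZero_of_locally _ (fun y => ?_)
  have hy := ht (Set.mem_univ y)
  obtain ⟨x, hx⟩ := Set.mem_iUnion.1 hy
  obtain ⟨hxt, hyx⟩ := Set.mem_iUnion.1 hx
  obtain ⟨ei⟩ := e x i
  have := hN x hxt
  have h0 : IsZero ((P x).X i) := hab x i (Or.inr (by omega))
  exact ⟨V x, hyx, IsZero.of_iso (ShortComplex.isZero_homology_of_isZero_X₂ _ h0) ei⟩


/-- Let the scheme X be quasi-compact and quasi-separated, P a perfect object of D(O_X), E ∈ D_QCoh(O_X)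
and a ∈ ℤ. Then the morphisms P[-i] ⟶ E vanish for all sufficiently negative i if and only if the
morphisms P[-i] ⟶ τ_{≤ a}E vanish for all sufficiently negative i. -/
theorem result (X : Scheme.{u}) [CompactSpace ↥X] [QuasiSeparatedSpace ↥X]
    (P : DCoh.D X) (hP : DCoh.IsPerfect P) (E : DCoh.D X) (hE : DCoh.IsQCohD E) (a : ℤ) :
    (∃ N : ℤ, ∀ i : ℤ, i ≤ N → ∀ φ : P⟦-i⟧ ⟶ E, φ = 0) ↔
    (∃ N : ℤ, ∀ i : ℤ, i ≤ N → ∀ φ : P⟦-i⟧ ⟶ ((DerivedCategory.TStructure.t : CategoryTheory.Triangulated.TStructure (DCoh.D X)).truncLE a).obj E, φ = 0) := by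
  obtain ⟨d, hd⟩ := exists_isLE_of_isPerfect X P hP
  have hsh : ∀ i : ℤ, i ≤ a - d → (P⟦-i⟧).IsLE a := fun i hi => by
    have h1 : (P⟦-i⟧).IsLE (d + i) :=
      DerivedCategory.TStructure.t.isLE_shift P d (-i) (d + i) (by omega)
    exact DerivedCategory.TStructure.t.isLE_of_le (P⟦-i⟧) (d + i) a (by omega)
  constructor
  · rintro ⟨N₁, h₁⟩
    refine ⟨min N₁ (a - d), fun i hi φ => ?_⟩
    have := hsh i (le_trans hi (min_le_right _ _))
    apply DerivedCategory.TStructure.t.to_truncLE_obj_ext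
    rw [Limits.zero_comp]
    exact h₁ i (le_trans hi (min_le_left _ _)) _
  · rintro ⟨N₂, h₂⟩
    refine ⟨min N₂ (a - d), fun i hi φ => ?_⟩
    have := hsh i (le_trans hi (min_le_right _ _))
    have h0 := h₂ i (le_trans hi (min_le_left _ _))
      (DerivedCategory.TStructure.t.liftTruncLE φ a)
    rw [← DerivedCategory.TStructure.t.liftTruncLE_ι φ a, h0, Limits.zero_comp]

end Groth.Agent.S1023
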