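import Groth.Statements.S10231
import Groth.Agent.H32.EtSH8
import Groth.Agent.S0540
import Groth.Agent.S2743
import Groth.Agent.H52.Topology

set_option autoImplicit false
universe u
open CategoryTheory CategoryTheory.Limits AlgebraicGeometry Topology TopologicalSpace
open AlgSp

namespace Groth.Agent.S10231

/-- Let X be a locally Noetherian algebraic space over a scheme S. Then X is regular (etale locally a
regular scheme: some surjective etale chart from a locally Noetherian scheme all of whose local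
rings are regular) if and only if every etale local ring of X at a geometric point is a regular
local ring. -/
theorem result {S : Scheme.{u}} (X : AlgSp.Space S) (hX : AlgSp.IsLocNoethSp X.obj) :
    AlgSp.EtaleLocally (fun U => IsLocallyNoetherian U ∧ ∀ u : ↥U, IsRegularLocalRing ↥(U.presheaf.stalk u)) X.obj ↔
      ∀ p : AlgSp.FieldPt X.obj, p.IsGeometric → IsRegularLocalRing ↥(AlgSp.OEtStalk p) := by
  have key : ∀ (p : AlgSp.FieldPt X.obj), p.IsGeometric → ∀ (U : Over S)
      (a : (AlgSp.yon S).obj U ⟶ X.obj) (u : ↥U.left),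
      AlgSp.RepWith @Etale a → AlgSp.Points.ofPt a u = AlgSp.Points.mk p →
      (IsRegularLocalRing ↥(AlgSp.OEtStalk p) ↔ IsRegularLocalRing ↥(U.left.presheaf.stalk u)) := by
    intro p hp U a u ha hu
    have : IsAlgClosed p.K := hp
    have hlocS := Groth.Agent.H32.EtLoc.isLocalRing_stalk X.property p
    have hlocR := Groth.Agent.H32.EtSH.isLocalRing_ulift_stalk U.left u
    obtain ⟨f, hlh, hSH⟩ := Groth.Agent.H32.EtSH.exists_sh_of_chart X.property p a ha u hu hlocR hlocS
    have hN := @Groth.Agent.S0540.result (ULift.{u + 1} ↥(U.left.presheaf.stalk u)) _ hlocR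
      ↥(AlgSp.OEtStalk p) _ hlocS f.toAlgebra hlh hSH
    constructor
    · intro h
      have h1 : IsNoetherianRing ↥(AlgSp.OEtStalk p) := inferInstance
      have h2 : IsNoetherianRing (ULift.{u + 1} ↥(U.left.presheaf.stalk u)) := hN.2 h1
      have h3 := @Groth.Agent.S2743.result (ULift.{u + 1} ↥(U.left.presheaf.stalk u))
        ↥(AlgSp.OEtStalk p) _ hlocR h2 _ hlocS f.toAlgebra hlh hSH
      have h4 : IsRegularLocalRing (ULift.{u + 1} ↥(U.left.presheaf.stalk u)) := h3.1 h
      exact IsRegularLocalRing.of_ringEquiv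
        (ULift.ringEquiv : ULift.{u + 1} ↥(U.left.presheaf.stalk u) ≃+* _)
    · intro h
      have h4 : IsRegularLocalRing (ULift.{u + 1} ↥(U.left.presheaf.stalk u)) :=
        IsRegularLocalRing.of_ringEquiv
          (ULift.ringEquiv.symm : ↥(U.left.presheaf.stalk u) ≃+* ULift.{u + 1} _)
      have h2 : IsNoetherianRing (ULift.{u + 1} ↥(U.left.presheaf.stalk u)) := inferInstance
      have h3 := @Groth.Agent.S2743.result (ULift.{u + 1} ↥(U.left.presheaf.stalk u))
        ↥(AlgSp.OEtStalk p) _ hlocR h2 _ hlocS f.toAlgebra hlh hSH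
      exact h3.2 h4
  have hgeo : ∀ (U : Over S) (a : (AlgSp.yon S).obj U ⟶ X.obj) (u : ↥U.left)
      (ha : AlgSp.RepWith @Etale a), ∃ p : AlgSp.FieldPt X.obj, p.IsGeometric ∧
        AlgSp.Points.mk p = AlgSp.Points.ofPt a u := by
    intro U a u ha
    obtain ⟨p, hp, l, hl⟩ := Groth.Agent.H32.EtStalk.exists_geometric_lift (AlgSp.EtOver.mk a ha) u
    refine ⟨p, hp, ?_⟩
    have h1 := Groth.Agent.H32.EtStalk.ofPt_liftsTo p l
      (default : ↥(Spec (CommRingCat.of p.K)))
    rw [hl] at h1
    exact h1.symm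
  constructor
  · rintro ⟨U, a, ha, hs, hN, hreg⟩ p hp
    obtain ⟨u, hu⟩ := Groth.Agent.H52.surjective_ofPt_of_surjective a hs (AlgSp.Points.mk p)
    exact (key p hp U a u ha hu).2 (hreg u)
  · intro h
    obtain ⟨U, a, ha, hs, hN⟩ := hX
    refine ⟨U, a, ha, hs, hN, fun u => ?_⟩
    obtain ⟨p, hp, hpx⟩ := hgeo U a u ha
    exact (key p hp U a u ha hpx.symm).1 (h p hp)

end Groth.Agent.S10231
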