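import Groth.Statements.S10233
import Groth.Agent.H50.ImmDesc
import Groth.Agent.H50.Fibre

set_option autoImplicit false
universe u
open CategoryTheory CategoryTheory.Limits AlgebraicGeometry Topology TopologicalSpace
open AlgSp

namespace Groth.Agent.S10233

open Groth.Agent.H50 Groth.Agent.H52

/-- Let X be an algebraic space over a scheme S with a presentation (U, R, s, t, p), and let i' : Z' ⟶ U
be an immersion of schemes that is R-invariant, meaning that one locally closed subscheme R' of R is
at the same time the inverse image of Z' under s and under t. Then Z' descends to a locally closed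
subspace of X: there is a morphism of algebraic spaces i : Z ⟶ X representable by immersions
together with a map h_{Z'} ⟶ Z making h_{Z'} the fibre product Z ×_X h_U; moreover i is a closed
(resp. open) immersion when i' is. -/
theorem result {S : Scheme.{u}} (X : AlgSp.Space S) {R U : Over S} (s t : R ⟶ U)
    (p : (AlgSp.yon S).obj U ⟶ X.obj) (hp : AlgSp.IsPresentation s t p)
    {Z' R' : Scheme.{u}} (i' : Z' ⟶ U.left) [IsImmersion i'] (k : R' ⟶ R.left) (s' t' : R' ⟶ Z')
    (hs : IsPullback k s' s.left i') (ht : IsPullback k t' t.left i') :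
    ∃ (Z : AlgSp.Space S) (i : Z ⟶ X) (q : (AlgSp.yon S).obj (Over.mk (i' ≫ U.hom)) ⟶ Z.obj),
      AlgSp.RepWith @IsImmersion i.hom ∧
      IsPullback q ((AlgSp.yon S).map (Over.homMk i' rfl : Over.mk (i' ≫ U.hom) ⟶ U)) i.hom p ∧
      (IsClosedImmersion i' → AlgSp.RepWith @IsClosedImmersion i.hom) ∧
      (IsOpenImmersion i' → AlgSp.RepWith @IsOpenImmersion i.hom) := by
  have hinv : FInvariant p i' := by
    rintro W w₁ w₂ h ⟨d, hd⟩
    obtain ⟨l, hl1, hl2⟩ := hp.isPullback.exists_lift ((AlgSp.yon S).map w₂) ((AlgSp.yon S).map w₁) h.symm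
    obtain ⟨r, rfl⟩ := (AlgSp.yon S).map_surjective l
    rw [← Functor.map_comp] at hl1 hl2
    have hr1 : r ≫ t = w₂ := (AlgSp.yon S).map_injective hl1
    have hr2 : r ≫ s = w₁ := (AlgSp.yon S).map_injective hl2
    have hr2' : r.left ≫ s.left = d ≫ i' := by
      rw [hd, ← hr2]
      rfl
    obtain ⟨ρ, hρ1, hρ2⟩ := hs.exists_lift r.left d hr2'
    refine ⟨ρ ≫ t', ?_⟩
    rw [Category.assoc, ← ht.w, ← Category.assoc, hρ1, ← hr1]
    rfl
  obtain ⟨Z, i, q, hm, hi, sq, hcl, hop⟩ :=
    exists_locallyClosed_subspace p hp.etale hp.surjective i' hinv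
  exact ⟨⟨Z, isAlgSpace_of_representable hi.rep X.property⟩, ObjectProperty.homMk i, q, hi, sq, hcl, hop⟩

end Groth.Agent.S10233
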