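import Groth.Statements.S10234
import Mathlib

set_option autoImplicit false
universe u
open CategoryTheory CategoryTheory.Limits AlgebraicGeometry Topology TopologicalSpace
open AlgSp

namespace Groth.Agent.S10234

section Aux
open AlgSp.EtOver

variable {S : Scheme.{u}} {X Y : AlgSp.Sp S} (f : X ⟶ Y) (hf : AlgSp.IsEtaleMor f)

omit hf in
lemma aux {W P Q : Over S} (c : (yon S).obj Q ⟶ X) (l : W ⟶ P) (p : P ⟶ Q) (a : W ⟶ Q)
    (h : l ≫ p = a) (t : (yon S).obj W ⟶ Y) (ht : (yon S).map a ≫ (c ≫ f) = t) :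
    (yon S).map l ≫ ((yon S).map p ≫ c) ≫ f = t := by
  subst h; subst ht; simp

noncomputable def mapIsLimit {E₁ E₂ E₀ : AlgSp.EtOver X} (g₁ : E₁ ⟶ E₀) (g₂ : E₂ ⟶ E₀) :
    IsLimit (PullbackCone.mk ((AlgSp.EtOver.postcomp f hf).map (pullbackFst g₁ g₂))
      ((AlgSp.EtOver.postcomp f hf).map (pullbackSnd g₁ g₂))
      (by rw [← Functor.map_comp, ← Functor.map_comp, pullback_condition])) :=
  PullbackCone.IsLimit.mk _
    (fun s => homMk (pullback.lift s.fst.hom.left s.snd.hom.left (congrArg (fun k => k.hom.left) s.condition))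
      (aux f E₁.obj.hom _ _ _ (pullback.lift_fst _ _ _) _ (w s.fst)))
    (fun s => hom_ext _ _ (pullback.lift_fst _ _ _))
    (fun s => hom_ext _ _ (pullback.lift_snd _ _ _))
    (fun s m h₁ h₂ => hom_ext _ _ (pullback.hom_ext
      ((congrArg (fun k => k.hom.left) h₁).trans (pullback.lift_fst _ _ _).symm)
      ((congrArg (fun k => k.hom.left) h₂).trans (pullback.lift_snd _ _ _).symm)))

instance preservesLimit_cospan_postcomp {E₁ E₂ E₀ : AlgSp.EtOver X} (g₁ : E₁ ⟶ E₀) (g₂ : E₂ ⟶ E₀) :
    PreservesLimit (cospan g₁ g₂) (AlgSp.EtOver.postcomp f hf) :=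
  preservesLimit_of_preserves_limit_cone (pullbackIsLimit g₁ g₂)
    ((isLimitMapConePullbackConeEquiv _ _).symm (mapIsLimit f hf g₁ g₂))

instance preservesPullbacks_postcomp :
    PreservesLimitsOfShape WalkingCospan (AlgSp.EtOver.postcomp f hf) where
  preservesLimit {K} := preservesLimit_of_iso_diagram _ (diagramIsoCospan K).symm

theorem cont : (AlgSp.EtOver.postcomp f hf).IsContinuous (AlgSp.etTop X) (AlgSp.etTop Y) := by
  have hle : AlgSp.etPre X ≤ (AlgSp.etPre Y).comap (AlgSp.EtOver.postcomp f hf) := by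
    unfold AlgSp.etPre
    rw [← Precoverage.comap_comp]
    exact le_of_eq rfl
  unfold AlgSp.etTop
  exact Functor.isContinuous_toGrothendieck_of_pullbacksPreservedBy (AlgSp.EtOver.postcomp f hf)
    (AlgSp.etPre X) (AlgSp.etPre Y) hle

theorem cocont : (AlgSp.EtOver.postcomp f hf).IsCocontinuous (AlgSp.etTop X) (AlgSp.etTop Y) where
  cover_lift {U} {T} hT := by
    have hT' : T ∈ (AlgSp.etPre Y).toGrothendieck ((AlgSp.EtOver.postcomp f hf).obj U) := hT
    rw [Precoverage.mem_toGrothendieck_iff_of_isStableUnderComposition] at hT'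
    obtain ⟨R, hR, hRT⟩ := hT'
    obtain ⟨ι, Z, e, rfl⟩ := R.exists_eq_ofArrows
    have hsurj := (AlgSp.ofArrows_mem_etPre_iff Z e).1 hR
    let V : ι → AlgSp.EtOver X := fun i =>
      AlgSp.EtOver.mk (U := (Z i).obj.left) ((yon S).map (e i).hom.left ≫ U.obj.hom)
        ((repWith_isMultiplicative (S := S) @Etale).comp_mem _ _
          ((repWith_yon_map_iff _ _).2 (etale_left (e i))) U.property)
    let g : ∀ i, V i ⟶ U := fun i => AlgSp.EtOver.homMk (e i).hom.left rfl
    have hmem : Sieve.ofArrows V g ∈ AlgSp.etTop X U :=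
      AlgSp.ofArrows_mem_etTop V g (fun x => by
        obtain ⟨i, hi⟩ := hsurj x
        exact ⟨i, hi⟩)
    refine (AlgSp.etTop X).superset_covering ?_ hmem
    rw [Sieve.ofArrows, Sieve.generate_le_iff]
    rintro W h ⟨i⟩
    change T.arrows ((AlgSp.EtOver.postcomp f hf).map (g i))
    have ew : (yon S).map (𝟙 (Z i).obj.left) ≫ (Z i).obj.hom =
        ((AlgSp.EtOver.postcomp f hf).obj (V i)).obj.hom := by
      have h1 := w (e i)
      exact ((congrArg (· ≫ (Z i).obj.hom) ((yon S).map_id _)).trans (Category.id_comp _)).trans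
        (h1.symm.trans (Category.assoc _ _ _).symm)
    let ee : (AlgSp.EtOver.postcomp f hf).obj (V i) ⟶ Z i := AlgSp.EtOver.homMk (𝟙 _) ew
    have hee : (AlgSp.EtOver.postcomp f hf).map (g i) = ee ≫ e i :=
      AlgSp.EtOver.hom_ext _ _ (Category.id_comp _).symm
    rw [hee]
    have hei : T.arrows (e i) := hRT _ _ (Presieve.ofArrows.mk i)
    exact T.downward_closed hei ee

end Aux


/-- Suppose f : X ⟶ Y is a morphism of algebraic spaces over a scheme S that is etale. Then the functor
j : X_etale ⟶ Y_etale, (U ⟶ X) ↦ (U ⟶ X ⟶ Y), is continuous and cocontinuous for the etale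
topologies. (The identification of the associated morphism of topoi with f_small, and the resulting
formula for inverse images, are not part of this row.) -/
theorem result {S : Scheme.{u}} {X Y : AlgSp.Space S} (f : X ⟶ Y)
    (hf : AlgSp.IsEtaleMor f.hom) :
    (AlgSp.EtOver.postcomp f.hom hf).IsContinuous (AlgSp.etTop X.obj) (AlgSp.etTop Y.obj) ∧
      (AlgSp.EtOver.postcomp f.hom hf).IsCocontinuous (AlgSp.etTop X.obj) (AlgSp.etTop Y.obj) := by
  exact ⟨cont f.hom hf, cocont f.hom hf⟩

end Groth.Agent.S10234
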