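import Groth.Statements.S10235
import Groth.Agent.S7490
import Groth.Agent.H51.QuotGen
import Groth.Agent.H50.Fppf
import Groth.Agent.H49.GQ9

set_option autoImplicit false
universe u
open CategoryTheory CategoryTheory.Limits AlgebraicGeometry Topology TopologicalSpace
open AlgSp

namespace Groth.Agent.S10235


/-- Let (U, R, s, t, c) be a groupoid scheme over a scheme S whose source and target maps s, t : R ⟶ U
are finite locally free and whose map j = (t, s) is an equivalence relation, and suppose that in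
each nonempty closed subset of U one can find a point u such that some affine open of U contains the
whole equivalence class t(s⁻¹{u}) of u. Then there are a scheme M over S and a finite locally free
morphism U ⟶ M over S such that the square with the two maps t, s : R ⟶ U over U ⟶ M is cartesian (R
= U ×_M U) and U ⟶ M exhibits h_M as the quotient of h_U by the pair h_R ⇉ h_U in the category of
fppf sheaves. -/
theorem result {S : Scheme.{u}} (G : Grpd.GroupoidScheme S)
    (hs : Mor2.IsFinLocFree G.s) (ht : Mor2.IsFinLocFree G.t)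
    (heq : AlgSp.IsEqvRel (Over.homMk G.s G.s_over : Over.mk G.pR ⟶ Over.mk G.pU) (Over.homMk G.t G.t_over : Over.mk G.pR ⟶ Over.mk G.pU))
    (h3 : ∀ Z : Set ↥G.U, IsClosed Z → Z.Nonempty →
      ∃ u ∈ Z, ∃ W : G.U.Opens, IsAffineOpen W ∧ ∀ r : ↥G.R, G.s r = u → G.t r ∈ W) :
    ∃ (M : Over S) (m : Over.mk G.pU ⟶ M), Mor2.IsFinLocFree m.left ∧ IsPullback G.t G.s m.left m.left ∧
      QuotSh.IsQuotient Scheme.fppfPrecoverage (Over.homMk G.s G.s_over : Over.mk G.pR ⟶ Over.mk G.pU) (Over.homMk G.t G.t_over : Over.mk G.pR ⟶ Over.mk G.pU) m := by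
  obtain ⟨hs1, hs2, hs3⟩ := hs
  haveI := hs1
  haveI := hs2
  haveI := hs3
  -- `j` is a monomorphism
  haveI : Mono G.j := by
    refine ⟨fun {T} a b hab => ?_⟩
    have h1 : a ≫ G.t = b ≫ G.t := by
      have := congrArg (fun ψ => ψ ≫ pullback.fst _ _) hab
      simp only [Category.assoc] at this
      rw [Groth.Agent.H37.GrpdCalc.j_fst] at this
      exact this
    have h2 : a ≫ G.s = b ≫ G.s := by
      have := congrArg (fun ψ => ψ ≫ pullback.snd _ _) hab
      simp only [Category.assoc] at this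
      rw [Groth.Agent.H37.GrpdCalc.j_snd] at this
      exact this
    have hpR : b ≫ G.pR = a ≫ G.pR := by
      rw [← G.t_over, ← Category.assoc, ← Category.assoc, h1]
    have := heq.injective (Over.mk (a ≫ G.pR))
      (Over.homMk a rfl : Over.mk (a ≫ G.pR) ⟶ Over.mk G.pR)
      (Over.homMk b hpR : Over.mk (a ≫ G.pR) ⟶ Over.mk G.pR)
      (by ext; exact h1) (by ext; exact h2)
    exact congrArg (fun φ => φ.left) this
  -- every point has an invariant affine open neighbourhood
  have hcov : ∀ u : G.U, ∃ W : Groth.Agent.H49.GQ1.J G, u ∈ W.1 := by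
    by_contra hne
    push_neg at hne
    obtain ⟨u₀, hu₀⟩ := hne
    let Z : Set G.U := {u | ∀ W : Groth.Agent.H49.GQ1.J G, u ∉ W.1}
    have hZcl : IsClosed Z := by
      have : Z = (⋃ W : Groth.Agent.H49.GQ1.J G, (W.1 : Set G.U))ᶜ := by
        ext u
        simp only [Z, Set.mem_setOf_eq, Set.mem_compl_iff, Set.mem_iUnion, not_exists]
        rfl
      rw [this]
      exact (isOpen_iUnion fun W => W.1.isOpen).isClosed_compl
    obtain ⟨u, huZ, W, hW, huW⟩ := h3 Z hZcl ⟨u₀, hu₀⟩
    obtain ⟨W', hW'1, hW'2, hW'3⟩ :=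
      Groth.Agent.H49.InvAffine.exists_invariant_affine G u W hW huW
    exact huZ ⟨W', hW'1, hW'3⟩ hW'2
  have hT := Groth.Agent.H49.GQ7.goodFamily_top_of hcov
  haveI hepi := Groth.Agent.H49.GQ9.epi_q hT
  have hfin := Groth.Agent.H49.GQ8.isFinite_q hT
  have hflat := Groth.Agent.H49.GQ8.flat_q hT
  have hlfp := Groth.Agent.H49.GQ8.lfp_q hT
  haveI hsurj : Surjective (Groth.Agent.H49.GQ7.q hT) := Groth.Agent.H49.GQ7.surjective_q hT
  haveI hθ := Groth.Agent.H49.GQ8.isIso_lift hT
  obtain ⟨qS, hqS⟩ := Groth.Agent.H49.GQ9.exists_desc hT G.pU (G.s_over.trans G.t_over.symm)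
  have hpb : IsPullback G.t G.s (Groth.Agent.H49.GQ7.q hT) (Groth.Agent.H49.GQ7.q hT) :=
    IsPullback.of_iso_pullback ⟨(Groth.Agent.H49.GQ7.s_q_eq_t_q hT).symm⟩
      (asIso (pullback.lift G.t G.s (Groth.Agent.H49.GQ7.s_q_eq_t_q hT).symm))
      (pullback.lift_fst _ _ _) (pullback.lift_snd _ _ _)
  refine ⟨Over.mk qS, Over.homMk (Groth.Agent.H49.GQ7.q hT) hqS, ⟨hfin, hflat, hlfp⟩, hpb, ?_⟩
  have w : (Over.homMk G.s G.s_over : Over.mk G.pR ⟶ Over.mk G.pU) ≫
      (Over.homMk (Groth.Agent.H49.GQ7.q hT) hqS : Over.mk G.pU ⟶ Over.mk qS) =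
      (Over.homMk G.t G.t_over : Over.mk G.pR ⟶ Over.mk G.pU) ≫
      (Over.homMk (Groth.Agent.H49.GQ7.q hT) hqS : Over.mk G.pU ⟶ Over.mk qS) := by
    ext
    exact Groth.Agent.H49.GQ7.s_q_eq_t_q hT
  have w' : (Over.homMk G.t G.t_over : Over.mk G.pR ⟶ Over.mk G.pU).left ≫
      (Over.homMk (Groth.Agent.H49.GQ7.q hT) hqS : Over.mk G.pU ⟶ Over.mk qS).left =
      (Over.homMk G.s G.s_over : Over.mk G.pR ⟶ Over.mk G.pU).left ≫
      (Over.homMk (Groth.Agent.H49.GQ7.q hT) hqS : Over.mk G.pU ⟶ Over.mk qS).left :=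
    (Groth.Agent.H49.GQ7.s_q_eq_t_q hT).symm
  refine Groth.Agent.S7490.result Scheme.fppfPrecoverage _ _ _ w w' ?_ ?_
  · apply Groth.Agent.H51.QuotGen.epi_repMap_of_local_lift
    intro T a
    have sqO := IsPullback.of_hasPullback
      (Over.homMk (Groth.Agent.H49.GQ7.q hT) hqS : Over.mk G.pU ⟶ Over.mk qS) a
    have sqS := sqO.map (Over.forget S)
    have h1 : Flat (pullback.snd (Over.homMk (Groth.Agent.H49.GQ7.q hT) hqS :
        Over.mk G.pU ⟶ Over.mk qS) a).left :=
      MorphismProperty.of_isPullback (P := @Flat) sqS hflat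
    have h2 : LocallyOfFinitePresentation (pullback.snd
        (Over.homMk (Groth.Agent.H49.GQ7.q hT) hqS : Over.mk G.pU ⟶ Over.mk qS) a).left :=
      MorphismProperty.of_isPullback (P := @LocallyOfFinitePresentation) sqS hlfp
    have h3 : Surjective (pullback.snd (Over.homMk (Groth.Agent.H49.GQ7.q hT) hqS :
        Over.mk G.pU ⟶ Over.mk qS) a).left :=
      MorphismProperty.of_isPullback (P := @Surjective) sqS hsurj
    refine ⟨Sieve.generate (Presieve.singleton (pullback.snd
        (Over.homMk (Groth.Agent.H49.GQ7.q hT) hqS : Over.mk G.pU ⟶ Over.mk qS) a)),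
      Groth.Agent.H50.mem_J_of_fppf_family (fun _ : Unit => pullback _ a)
        (fun _ => pullback.snd _ a) (fun τ => ?_) (fun _ => h1) (fun _ => h2) _
        (fun _ => Sieve.le_generate _ _ _ (Presieve.singleton.mk)), ?_⟩
    · obtain ⟨y, hy⟩ := h3.surj τ
      exact ⟨(), y, hy⟩
    · rintro T' f ⟨Z, h, g, ⟨⟩, rfl⟩
      refine ⟨h ≫ pullback.fst _ a, ?_⟩
      rw [Category.assoc, Category.assoc, sqO.w]
  · have key : ∀ (pf : pullback.lift G.t G.s (Groth.Agent.H49.GQ7.s_q_eq_t_q hT).symm ≫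
        (Over.mk (pullback.fst (Groth.Agent.H49.GQ7.q hT) (Groth.Agent.H49.GQ7.q hT) ≫ G.pU)).hom =
        (Over.mk G.pR).hom),
        Epi (QuotSh.repMap Scheme.fppfPrecoverage
          (Over.homMk (pullback.lift G.t G.s (Groth.Agent.H49.GQ7.s_q_eq_t_q hT).symm) pf :
            Over.mk G.pR ⟶ Over.mk (pullback.fst (Groth.Agent.H49.GQ7.q hT)
              (Groth.Agent.H49.GQ7.q hT) ≫ G.pU))) := by
      intro pf
      haveI : IsIso ((Over.forget S).map
          (Over.homMk (pullback.lift G.t G.s (Groth.Agent.H49.GQ7.s_q_eq_t_q hT).symm) pf :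
            Over.mk G.pR ⟶ Over.mk (pullback.fst (Groth.Agent.H49.GQ7.q hT)
              (Groth.Agent.H49.GQ7.q hT) ≫ G.pU))) := hθ
      haveI : IsIso (Over.homMk (pullback.lift G.t G.s
          (Groth.Agent.H49.GQ7.s_q_eq_t_q hT).symm) pf :
            Over.mk G.pR ⟶ Over.mk (pullback.fst (Groth.Agent.H49.GQ7.q hT)
              (Groth.Agent.H49.GQ7.q hT) ≫ G.pU)) :=
        isIso_of_reflects_iso _ (Over.forget S)
      infer_instance
    exact key _

end Groth.Agent.S10235
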