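import Groth.Statements.S10237
import Groth.Agent.H32.EtChartQC

set_option autoImplicit false
universe u
open CategoryTheory CategoryTheory.Limits AlgebraicGeometry Topology TopologicalSpace
open AlgSp

namespace Groth.Agent.S10237

/-- Let X be an algebraic space over a scheme S and F a sheaf of modules over O_X on the small etale
site of X. If there is a surjective etale map p : h_U ⟶ X from a scheme U such that the pullback
p^*F is a quasi-coherent module, then F is quasi-coherent. -/
theorem result {S : Scheme.{u}} (X : AlgSp.Space S) (F : AlgSp.ModEt X.obj)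
    {U : Over S} (p : (AlgSp.yon S).obj U ⟶ X.obj) (hrep : AlgSp.Representable p)
    (hp : AlgSp.RepWith @Etale p) (hs : AlgSp.RepWith @Surjective p)
    [(SheafOfModules.pushforward.{u + 1} (AlgSp.bcRingHom hrep)).IsRightAdjoint]
    (hF : ((AlgSp.pullModEt hrep).obj F).IsQuasicoherent) :
    F.IsQuasicoherent := by
  have hf : AlgSp.IsEtaleMor p := AlgSp.isEtaleMor_of_repWith _ hp
  have e : AlgSp.pullModEt hrep ≅ SheafOfModules.pushforward.{u + 1}
      (Groth.Agent.H32.EtPull.postRingHom (f := p) hf) :=
    Adjunction.leftAdjointUniq (AlgSp.pullPushAdjModEt hrep)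
      (Groth.Agent.H32.EtPull.modAdj hrep hf)
  have hN : ((SheafOfModules.pushforward.{u + 1}
      (Groth.Agent.H32.EtPull.postRingHom (f := p) hf)).obj F).IsQuasicoherent :=
    (SheafOfModules.isQuasicoherent (AlgSp.OEtRing ((AlgSp.yon S).obj U))).prop_of_iso (e.app F) hF
  exact Groth.Agent.H32.EtChart.isQuasicoherent_of_chart p hp hf hs F hN

end Groth.Agent.S10237
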