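import Groth.Statements.S10238
import Groth.Agent.H32.EtPullQC

set_option autoImplicit false
universe u
open CategoryTheory CategoryTheory.Limits AlgebraicGeometry Topology TopologicalSpace
open AlgSp

namespace Groth.Agent.S10238

/-- Let X be an algebraic space over a scheme S and F a quasi-coherent O_X-module on the small etale
site of X. Then for every affine scheme U and every etale map p : h_U ⟶ X the pullback p^*F is
quasi-coherent. -/
theorem result {S : Scheme.{u}} (X : AlgSp.Space S) (F : AlgSp.ModEt X.obj)
    (hF : F.IsQuasicoherent) {U : Over S} (hU : IsAffine U.left) (p : (AlgSp.yon S).obj U ⟶ X.obj)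
    (hrep : AlgSp.Representable p) (hp : AlgSp.RepWith @Etale p)
    [(SheafOfModules.pushforward.{u + 1} (AlgSp.bcRingHom hrep)).IsRightAdjoint] :
    ((AlgSp.pullModEt hrep).obj F).IsQuasicoherent := by
  have hf : AlgSp.IsEtaleMor p := AlgSp.isEtaleMor_of_repWith _ hp
  have h := Groth.Agent.H32.EtPull.isQuasicoherent_pushforward_postRingHom hrep hf F hF
  have e : AlgSp.pullModEt hrep ≅ SheafOfModules.pushforward.{u + 1}
      (Groth.Agent.H32.EtPull.postRingHom (f := p) hf) :=
    Adjunction.leftAdjointUniq (AlgSp.pullPushAdjModEt hrep)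
      (Groth.Agent.H32.EtPull.modAdj hrep hf)
  exact (SheafOfModules.isQuasicoherent (AlgSp.OEtRing ((AlgSp.yon S).obj U))).prop_of_iso (e.app F).symm h

end Groth.Agent.S10238
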