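import Groth.Statements.S10239
import Groth.Agent.H32.EtSH12
import Groth.Agent.S9753

set_option autoImplicit false
universe u
open CategoryTheory CategoryTheory.Limits AlgebraicGeometry Topology TopologicalSpace
open AlgSp

namespace Groth.Agent.S10239

/-- (1) ⇔ (4) ⇔ (5): let X be an algebraic space over a scheme S, x ∈ |X| and n ≥ 1 an integer. The
following are equivalent: (1) for every scheme U, etale h_U ⟶ X and u ∈ U over x the local ring of U
at u has at most n minimal primes, and for some such (U, u) exactly n; (4) for every such (U, u) the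
number of geometric branches of U at u is n; (5) for every geometric point x̄ over x the etale local
ring of X at x̄ has exactly n minimal primes. -/
theorem result {S : Scheme.{u}} (X : AlgSp.Space S) (x : AlgSp.Points X.obj)
    (n : ℕ) (hn : 1 ≤ n) :
    (((∀ (U : Over S) (a : (AlgSp.yon S).obj U ⟶ X.obj) (u : ↥U.left),
        AlgSp.RepWith @Etale a → AlgSp.Points.ofPt a u = x → (minimalPrimes ↥(U.left.presheaf.stalk u)).encard ≤ n) ∧
        AlgSp.HasAt (fun U u => (minimalPrimes ↥(U.presheaf.stalk u)).encard = n) X.obj x) ↔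
      (∀ (U : Over S) (a : (AlgSp.yon S).obj U ⟶ X.obj) (u : ↥U.left),
        AlgSp.RepWith @Etale a → AlgSp.Points.ofPt a u = x → Brnch.numGeomBranchesAt U.left u = n)) ∧
    ((∀ (U : Over S) (a : (AlgSp.yon S).obj U ⟶ X.obj) (u : ↥U.left),
        AlgSp.RepWith @Etale a → AlgSp.Points.ofPt a u = x → Brnch.numGeomBranchesAt U.left u = n) ↔
      ∀ p : AlgSp.FieldPt X.obj, p.IsGeometric → AlgSp.Points.mk p = x →
        (minimalPrimes ↥(AlgSp.OEtStalk p)).encard = n) := by
  have hXp := X.property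
  -- the geometric branch number as a supremum of numbers of minimal primes
  have F1 : ∀ (U : Scheme.{u}) (u : ↥U), Brnch.numGeomBranchesAt U u =
      ⨆ (U' : Scheme.{u}) (g : U' ⟶ U) (u' : ↥U') (_ : Etale g ∧ g u' = u),
        (minimalPrimes ↥(U'.presheaf.stalk u')).encard := by
    intro U u
    rw [Groth.Agent.S9753.result U u]
    simp only [Groth.Agent.H32.EtSH.encard_irreducibleComponents_eq_minimalPrimes_stalk]
  have F1a : ∀ (U : Scheme.{u}) (u : ↥U) (U' : Scheme.{u}) (g : U' ⟶ U) (u' : ↥U'),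
      Etale g → g u' = u →
      (minimalPrimes ↥(U'.presheaf.stalk u')).encard ≤ Brnch.numGeomBranchesAt U u := by
    intro U u U' g u' hg hgu
    rw [F1 U u]
    exact le_iSup_of_le U' (le_iSup_of_le g (le_iSup_of_le u' (le_iSup_of_le ⟨hg, hgu⟩ le_rfl)))
  have F1b : ∀ (U : Scheme.{u}) (u : ↥U) (c : ℕ∞),
      (∀ (U' : Scheme.{u}) (g : U' ⟶ U) (u' : ↥U'), Etale g → g u' = u →
        (minimalPrimes ↥(U'.presheaf.stalk u')).encard ≤ c) →
      Brnch.numGeomBranchesAt U u ≤ c := by
    intro U u c H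
    rw [F1 U u]
    exact iSup_le fun U' => iSup_le fun g => iSup_le fun u' => iSup_le fun h => H U' g u' h.1 h.2
  have F1self : ∀ (U : Scheme.{u}) (u : ↥U),
      (minimalPrimes ↥(U.presheaf.stalk u)).encard ≤ Brnch.numGeomBranchesAt U u :=
    fun U u => F1a U u U (𝟙 U) u inferInstance rfl
  -- all charts over x have the same geometric branch number
  have F2 : ∀ (U : Over S) (a : (AlgSp.yon S).obj U ⟶ X.obj) (u : ↥U.left)
      (V : Over S) (b : (AlgSp.yon S).obj V ⟶ X.obj) (v : ↥V.left),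
      AlgSp.RepWith @Etale a → AlgSp.Points.ofPt a u = x →
      AlgSp.RepWith @Etale b → AlgSp.Points.ofPt b v = x →
      Brnch.numGeomBranchesAt U.left u = Brnch.numGeomBranchesAt V.left v := by
    intro U a u V b v ha hu hb hv
    obtain ⟨p, hp, hpx⟩ := Groth.Agent.H32.EtSH.exists_geometric_over a ha u
    have : IsAlgClosed p.K := hp
    rw [← Groth.Agent.H32.EtSH.encard_minimalPrimes_stalk hXp p a ha u hpx.symm,
      ← Groth.Agent.H32.EtSH.encard_minimalPrimes_stalk hXp p b hb v
        (hv.trans (hu.symm.trans hpx.symm))]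
  -- charts over charts
  have hcomp : ∀ (U : Over S) (a : (AlgSp.yon S).obj U ⟶ X.obj) (u : ↥U.left),
      AlgSp.RepWith @Etale a → AlgSp.Points.ofPt a u = x →
      ∀ (U' : Scheme.{u}) (g : U' ⟶ U.left) (u' : ↥U'), Etale g → g u' = u →
      ∃ (U'' : Over S) (a'' : (AlgSp.yon S).obj U'' ⟶ X.obj) (u'' : ↥U''.left),
        AlgSp.RepWith @Etale a'' ∧ AlgSp.Points.ofPt a'' u'' = x ∧
          (minimalPrimes ↥(U''.left.presheaf.stalk u'')).encard =
            (minimalPrimes ↥(U'.presheaf.stalk u')).encard := by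
    intro U a u ha hu U' g u' hg hgu
    let U'' : Over S := Over.mk (g ≫ U.hom)
    let g' : U'' ⟶ U := Over.homMk g rfl
    refine ⟨U'', (AlgSp.yon S).map g' ≫ a, u', Groth.Agent.H32.EtSH.chart_comp a ha g' hg, ?_, rfl⟩
    rw [Groth.Agent.H52.ofPt_yon_map_comp]
    change AlgSp.Points.ofPt a (g u') = x
    rw [hgu, hu]
  refine ⟨⟨?_, ?_⟩, ⟨?_, ?_⟩⟩
  · rintro ⟨hle, U₀, a₀, u₀, ha₀, hu₀, hn₀⟩ U a u ha hu
    rw [F2 U a u U₀ a₀ u₀ ha hu ha₀ hu₀]
    apply le_antisymm
    · apply F1b
      intro U' g u' hg hgu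
      obtain ⟨U'', a'', u'', ha'', hu'', he⟩ := hcomp U₀ a₀ u₀ ha₀ hu₀ U' g u' hg hgu
      rw [← he]
      exact hle U'' a'' u'' ha'' hu''
    · rw [← hn₀]
      exact F1self U₀.left u₀
  · intro hB
    constructor
    · intro U a u ha hu
      rw [← hB U a u ha hu]
      exact F1self U.left u
    · obtain ⟨U, a, ha, hs⟩ := hXp.atlas
      obtain ⟨u, hu⟩ := Groth.Agent.H52.surjective_ofPt_of_surjective a hs x
      by_contra hno
      have hbound : ∀ (U' : Scheme.{u}) (g : U' ⟶ U.left) (u' : ↥U'), Etale g → g u' = u →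
          (minimalPrimes ↥(U'.presheaf.stalk u')).encard ≤ ((n - 1 : ℕ) : ℕ∞) := by
        intro U' g u' hg hgu
        have h1 : (minimalPrimes ↥(U'.presheaf.stalk u')).encard ≤ (n : ℕ∞) := by
          rw [← hB U a u ha hu]
          exact F1a U.left u U' g u' hg hgu
        obtain ⟨m, hm, hmn⟩ := ENat.le_natCast_iff.1 h1
        have hne : m ≠ n := by
          rintro rfl
          obtain ⟨U'', a'', u'', ha'', hu'', he⟩ := hcomp U a u ha hu U' g u' hg hgu
          exact hno ⟨U'', a'', u'', ha'', hu'', he.trans hm⟩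
        rw [hm]
        exact_mod_cast (by omega : m ≤ n - 1)
      have h2 := F1b U.left u _ hbound
      rw [hB U a u ha hu] at h2
      have h3 : n ≤ n - 1 := by exact_mod_cast h2
      omega
  · intro hB p hp hpx
    have : IsAlgClosed p.K := hp
    obtain ⟨U, a, u, ha, hu⟩ := Groth.Agent.H32.EtSH.exists_chart hXp p
    rw [Groth.Agent.H32.EtSH.encard_minimalPrimes_stalk hXp p a ha u hu]
    exact hB U a u ha (hu.trans hpx)
  · intro hC U a u ha hu
    obtain ⟨p, hp, hpx⟩ := Groth.Agent.H32.EtSH.exists_geometric_over a ha u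
    have : IsAlgClosed p.K := hp
    rw [← Groth.Agent.H32.EtSH.encard_minimalPrimes_stalk hXp p a ha u hpx.symm]
    exact hC p hp (hpx.trans hu)

end Groth.Agent.S10239
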