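import Groth.Statements.S10245
import Groth.Agent.S7490
import Groth.Agent.H51.QuotGen
import Groth.Agent.H50.Fppf
import Groth.Agent.H49.GQ9
import Groth.Agent.H49.ActGrpd2

set_option autoImplicit false
universe u
open CategoryTheory CategoryTheory.Limits MonoidalCategory CartesianMonoidalCategory MonObj AlgebraicGeometry Topology TopologicalSpace
open AlgSp

namespace Groth.Agent.S10245


/-- Let G ⟶ S be a finite locally free group scheme over a scheme S acting on a scheme X over S by a : G
×_S X ⟶ X, freely on T-valued points for every S-scheme T. Assume one of the following: the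
structure morphism X ⟶ S is affine; X admits an open immersion into some affine scheme; G ⟶ S is
radicial (universally injective). Then the fppf quotient sheaf X/G is a scheme M: there is q : X ⟶ M
over S exhibiting h_M as the quotient of h_X by the projection and the action G ×_S X ⇉ X in fppf
sheaves; moreover the square formed by the action, the projection and q is cartesian (G ×_S X ≅ X
×_M X) and X ⟶ M has sections fppf locally on M, so that X ⟶ X/G is an fppf G-torsor. (The published
statement also allows X ⟶ S quasi-affine, projective or quasi-projective, or X an open subscheme of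
Proj of a graded ring; those cases are not covered by this row.) -/
theorem result {S : Scheme.{u}} (G X : Over S) [GrpObj G]
    (a : AlgGrp.Action G X) (hG : Mor2.IsFinLocFree G.hom)
    (hfree : ∀ (T : Over S) (g : T ⟶ G) (x : T ⟶ X), lift g x ≫ a.act = x → g = toUnit T ≫ η[G])
    (h3 : IsAffineHom X.hom ∨ (∃ (R : CommRingCat.{u}) (i : X.left ⟶ Spec R), IsOpenImmersion i) ∨
      UniversallyInjective G.hom) :
    ∃ (M : Over S) (q : X ⟶ M), QuotSh.IsQuotient Scheme.fppfPrecoverage (snd G X) a.act q ∧
      IsPullback a.act.left (snd G X).left q.left q.left ∧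
      NonAbH1.IsLocallyTrivialFor Scheme.fppfPrecoverage (Over.mk q.left) := by
  obtain ⟨hG1, hG2, hG3⟩ := hG
  let Gr : Grpd.GroupoidScheme S := Groth.Agent.H49.ActGrpd.actGrpd a
  haveI : IsFinite Gr.s := Groth.Agent.H49.ActGrpd.isFinite_s a hG1
  haveI : Flat Gr.s := Groth.Agent.H49.ActGrpd.flat_s a hG2
  haveI : LocallyOfFinitePresentation Gr.s := Groth.Agent.H49.ActGrpd.lfp_s a hG3
  haveI : Mono Gr.j := Groth.Agent.H49.ActGrpd.mono_j a hfree
  have haff : ∀ x : Gr.U, ∃ V : Gr.U.Opens, IsAffineOpen V ∧
      Gr.t.base '' (Gr.s.base ⁻¹' {x}) ⊆ (V : Set Gr.U) := by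
    intro x
    rcases h3 with h | ⟨R, i, hi⟩ | h
    · haveI := h
      exact Groth.Agent.H49.ActGrpd.haff_of_isAffineHom a x
    · haveI := hi
      exact Groth.Agent.H49.ActGrpd.haff_of_isOpenImmersion a hG1 i x
    · exact Groth.Agent.H49.ActGrpd.haff_of_universallyInjective a h x
  have hT : Groth.Agent.H49.GQ6.GoodFamily (fun _ : Groth.Agent.H49.GQ1.J Gr => True) :=
    Groth.Agent.H49.GQ7.goodFamily_top haff
  haveI hepi := Groth.Agent.H49.GQ9.epi_q hT
  have hfin := Groth.Agent.H49.GQ8.isFinite_q hT
  have hflat := Groth.Agent.H49.GQ8.flat_q hT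
  have hlfp := Groth.Agent.H49.GQ8.lfp_q hT
  haveI hsurj : Surjective (Groth.Agent.H49.GQ7.q hT) := Groth.Agent.H49.GQ7.surjective_q hT
  haveI hθ := Groth.Agent.H49.GQ8.isIso_lift hT
  obtain ⟨qS, hqS⟩ := Groth.Agent.H49.GQ9.exists_desc hT Gr.pU (Gr.s_over.trans Gr.t_over.symm)
  have hpb : IsPullback Gr.t Gr.s (Groth.Agent.H49.GQ7.q hT) (Groth.Agent.H49.GQ7.q hT) :=
    IsPullback.of_iso_pullback ⟨(Groth.Agent.H49.GQ7.s_q_eq_t_q hT).symm⟩
      (asIso (pullback.lift Gr.t Gr.s (Groth.Agent.H49.GQ7.s_q_eq_t_q hT).symm))
      (pullback.lift_fst _ _ _) (pullback.lift_snd _ _ _)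
  let M : Over S := Over.mk qS
  let q : X ⟶ M := Over.homMk (U := X) (V := M) (Groth.Agent.H49.GQ7.q hT) hqS
  have hql : q.left = Groth.Agent.H49.GQ7.q hT := rfl
  refine ⟨M, q, ?_, hpb, ?_⟩
  · have w : snd G X ≫ q = a.act ≫ q := by
      apply Over.OverMorphism.ext
      exact Groth.Agent.H49.GQ7.s_q_eq_t_q hT
    have w' : a.act.left ≫ q.left = (snd G X).left ≫ q.left :=
      (Groth.Agent.H49.GQ7.s_q_eq_t_q hT).symm
    refine Groth.Agent.S7490.result Scheme.fppfPrecoverage _ _ _ w w' ?_ ?_
    · apply Groth.Agent.H51.QuotGen.epi_repMap_of_local_lift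
      intro T b
      have sqO := IsPullback.of_hasPullback q b
      have sqS := sqO.map (Over.forget S)
      have h1 : Flat (pullback.snd q b).left :=
        MorphismProperty.of_isPullback (P := @Flat) sqS hflat
      have h2 : LocallyOfFinitePresentation (pullback.snd q b).left :=
        MorphismProperty.of_isPullback (P := @LocallyOfFinitePresentation) sqS hlfp
      have h3 : Surjective (pullback.snd q b).left :=
        MorphismProperty.of_isPullback (P := @Surjective) sqS hsurj
      refine ⟨Sieve.generate (Presieve.singleton (pullback.snd q b)),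
        Groth.Agent.H50.mem_J_of_fppf_family (fun _ : Unit => pullback q b)
          (fun _ => pullback.snd q b) (fun τ => ?_) (fun _ => h1) (fun _ => h2) _
          (fun _ => Sieve.le_generate _ _ _ (Presieve.singleton.mk)), ?_⟩
      · obtain ⟨y, hy⟩ := h3.surj τ
        exact ⟨(), y, hy⟩
      · rintro T' f ⟨Z, h, g, ⟨⟩, rfl⟩
        refine ⟨h ≫ pullback.fst q b, ?_⟩
        rw [Category.assoc, Category.assoc, sqO.w]
    · have key : ∀ (pf : pullback.lift a.act.left (snd G X).left w' ≫
          (Over.mk (pullback.fst q.left q.left ≫ X.hom)).hom = (G ⊗ X).hom),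
          Epi (QuotSh.repMap Scheme.fppfPrecoverage
            (Over.homMk (pullback.lift a.act.left (snd G X).left w') pf :
              G ⊗ X ⟶ Over.mk (pullback.fst q.left q.left ≫ X.hom))) := by
        intro pf
        haveI : IsIso ((Over.forget S).map
            (Over.homMk (pullback.lift a.act.left (snd G X).left w') pf :
              G ⊗ X ⟶ Over.mk (pullback.fst q.left q.left ≫ X.hom))) := hθ
        haveI : IsIso (Over.homMk (pullback.lift a.act.left (snd G X).left w') pf :
              G ⊗ X ⟶ Over.mk (pullback.fst q.left q.left ≫ X.hom)) :=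
          isIso_of_reflects_iso _ (Over.forget S)
        infer_instance
      exact key _
  · haveI : Flat q.left := hflat
    haveI : LocallyOfFinitePresentation q.left := hlfp
    haveI : Surjective q.left := hsurj
    refine ⟨Presieve.singleton q.left, Scheme.Hom.singleton_mem_fppfPrecoverage q.left, ?_⟩
    rintro S' f ⟨⟩
    exact ⟨𝟙 _, Category.id_comp _⟩

end Groth.Agent.S10245
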