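import Groth.Statements.S10246
import Groth.Agent.H32.AffMap

set_option autoImplicit false
universe u
open CategoryTheory CategoryTheory.Limits AlgebraicGeometry Topology TopologicalSpace
open AlgSp

namespace Groth.Agent.S10246

/-- Let X be an algebraic space over a terminal base scheme (so that morphisms over the base are all
morphisms) and T an affine scheme. Then f ↦ f♯ is a bijection from morphisms X ⟶ T to ring maps Γ(T,
O_T) ⟶ Γ(X, O_X), where Γ(X, O_X) is the ring of global sections of the structure sheaf on the small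
etale site and f♯ is characterised by: for every scheme U etale over X, following f♯ by the
restriction Γ(X, O_X) ⟶ Γ(U, O_U) gives the map on global sections of the induced morphism U ⟶ T. -/
theorem result {S : Scheme.{u}} (hS : IsTerminal S) (X : AlgSp.Space S)
    (T : Over S) [IsAffine T.left] (φ : Γ(T.left, ⊤) →+* ↥(AlgSp.gsectEt (AlgSp.OEt X.obj))) :
    ∃! f : X.obj ⟶ (AlgSp.yon S).obj T,
      ∀ (E : AlgSp.EtOver X.obj) (r : Γ(T.left, ⊤)),
        ((limit.π (AlgSp.OEt X.obj).obj (Opposite.op E)) (φ r)).down =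
          ((AlgSp.yon S).preimage (E.obj.hom ≫ f)).left.appTop r := by
  -- the morphisms on charts
  let gs : ∀ E : AlgSp.EtOver X.obj, E.obj.left.left ⟶ T.left := fun E =>
    Groth.Agent.H32.AffMap.homOfΓ (Groth.Agent.H32.AffMap.comp T φ E)
  have hgs : ∀ E : AlgSp.EtOver X.obj, (gs E).appTop = Groth.Agent.H32.AffMap.comp T φ E :=
    fun E => Groth.Agent.H32.AffMap.homOfΓ_appTop _
  let g' : ∀ E : AlgSp.EtOver X.obj, E.obj.left ⟶ T := fun E =>
    Over.homMk (gs E) (hS.hom_ext _ _)
  have hg' : ∀ {E E' : AlgSp.EtOver X.obj} (h : E ⟶ E'), h.hom.left ≫ g' E' = g' E := by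
    intro E E' h
    apply Over.OverMorphism.ext
    change h.hom.left.left ≫ gs E' = gs E
    apply ext_of_isAffine
    rw [Scheme.Hom.comp_appTop, hgs, hgs]
    exact Groth.Agent.H32.AffMap.comp_naturality T φ h
  obtain ⟨f, hf⟩ := Groth.Agent.H32.ChartGlue.exists_desc_of_compatible X.property
    ((AlgSp.yon S).obj T) (fun E => (AlgSp.yon S).map (g' E))
    (fun {E E'} h => by rw [← Functor.map_comp, hg' h])
  have key : ∀ (f' : X.obj ⟶ (AlgSp.yon S).obj T),
      (∀ (E : AlgSp.EtOver X.obj) (r : Γ(T.left, ⊤)),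
        ((limit.π (AlgSp.OEt X.obj).obj (Opposite.op E)) (φ r)).down =
          ((AlgSp.yon S).preimage (E.obj.hom ≫ f')).left.appTop r) ↔
      ∀ E : AlgSp.EtOver X.obj, E.obj.hom ≫ f' = (AlgSp.yon S).map (g' E) := by
    intro f'
    constructor
    · intro h E
      have h1 : ((AlgSp.yon S).preimage (E.obj.hom ≫ f')).left = gs E := by
        apply ext_of_isAffine
        rw [hgs]
        ext r
        exact (h E r).symm
      have h2 : (AlgSp.yon S).preimage (E.obj.hom ≫ f') = g' E := Over.OverMorphism.ext h1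
      rw [← h2, Functor.map_preimage]
    · intro h E r
      rw [h E, Functor.preimage_map]
      change _ = (gs E).appTop r
      rw [hgs]
      rfl
  refine ⟨f, (key f).2 hf, ?_⟩
  intro f' hf'
  apply Groth.Agent.H32.ChartGlue.hom_ext_of_charts X.property
  intro E
  rw [(key f').1 hf' E, hf E]

end Groth.Agent.S10246
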