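import Groth.Statements.S10266
import Groth.Agent.H51.RepDescent

set_option autoImplicit false
universe u
open CategoryTheory CategoryTheory.Limits AlgebraicGeometry
open AlgSp

namespace Groth.Agent.S10266

/-- A morphism of algebraic spaces that is locally of finite presentation, flat and unramified is etale. -/
theorem result {S : Scheme.{u}} {X Y : AlgSp.Space S} (f : X ⟶ Y)
    (h1 : AlgSp.LocP @LocallyOfFinitePresentation f.hom) (h2 : AlgSp.LocP @Flat f.hom)
    (h3 : AlgSp.LocP (@LocallyOfFiniteType ⊓ @FormallyUnramified) f.hom) :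
    AlgSp.IsEtaleMor f.hom := by
  intro U φ hφ
  have hc : Representable (φ ≫ f.hom) := Y.property.representable_from_yon _
  obtain ⟨V, b, hbe, hbs⟩ := Y.property.atlas
  refine Groth.Agent.H51.repWith_etale_of_baseChange_cover (φ ≫ f.hom) hc b
    (Groth.Agent.H51.repWith_fppf_of_etale_surjective b hbe hbs) ?_
  have sq := hc.isPullback b
  have inst1 := AlgSp.repWith_isStableUnderBaseChange (S := S) @Etale
  have inst2 := AlgSp.repWith_isMultiplicative (S := S) @Etale
  have hfst : RepWith @Etale (hc.fst b) := (RepWith @Etale).of_isPullback sq.flip hbe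
  have ha : RepWith @Etale (hc.fst b ≫ φ) := (RepWith @Etale).comp_mem _ _ hfst hφ
  have hcomm : (hc.fst b ≫ φ) ≫ f.hom = (yon S).map (hc.snd b) ≫ b := by
    rw [Category.assoc]; exact sq.w
  have e1 : LocallyOfFinitePresentation (hc.snd b).left := h1 _ b _ ha hbe hcomm
  have e2 : Flat (hc.snd b).left := h2 _ b _ ha hbe hcomm
  have e3 : FormallyUnramified (hc.snd b).left := (h3 _ b _ ha hbe hcomm).2
  exact Etale.iff_flat_and_formallyUnramified.mpr ⟨e2, e3, e1⟩

end Groth.Agent.S10266
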