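import Groth.Statements.S10268
import Groth.Agent.H51.AffDescChart
import Groth.Agent.H51.AffDescProps

set_option autoImplicit false
universe u
open CategoryTheory CategoryTheory.Limits AlgebraicGeometry
open AlgSp

namespace Groth.Agent.S10268

/-- (3) ⇒ (2): integrality and finiteness of a morphism of algebraic spaces descend along a surjective
etale base change from a scheme. -/
theorem result {S : Scheme.{u}} {X Y : AlgSp.Space S} (f : X ⟶ Y) (V : Over S)
    (p : (AlgSp.yon S).obj V ⟶ Y.obj) (hp : AlgSp.RepWith @Etale p) (hps : AlgSp.RepWith @Surjective p)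
    {P : AlgSp.Sp S} (fst : P ⟶ X.obj) (snd : P ⟶ (AlgSp.yon S).obj V) (sq : IsPullback fst snd f.hom p) :
    (AlgSp.IsIntegralMor snd → AlgSp.IsIntegralMor f.hom) ∧ (AlgSp.IsFiniteMor snd → AlgSp.IsFiniteMor f.hom) := by
  constructor
  · intro h Z hZ g
    have := hZ
    obtain ⟨Z', c, g'', hZ', hce, hcs, hg⟩ :=
      Groth.Agent.H51.AffDesc.exists_affine_etale_cover p hp hps g
    obtain ⟨W', b', x', sqW', hW', hb'⟩ := h hZ' ((AlgSp.yon S).map g'')
    obtain ⟨W, w, k, x, hW, sqx, sqS⟩ := Groth.Agent.H51.AffDesc.exists_affine_pullback f.hom p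
      fst snd sq g c g'' hg b' x' sqW'
    exact ⟨W, w, x, sqx, hW, Groth.Agent.H51.AffDescProps.isIntegralHom_of_isPullback sqS hb'⟩
  · intro h Z hZ g
    have := hZ
    obtain ⟨Z', c, g'', hZ', hce, hcs, hg⟩ :=
      Groth.Agent.H51.AffDesc.exists_affine_etale_cover p hp hps g
    obtain ⟨W', b', x', sqW', hW', hb'⟩ := h hZ' ((AlgSp.yon S).map g'')
    obtain ⟨W, w, k, x, hW, sqx, sqS⟩ := Groth.Agent.H51.AffDesc.exists_affine_pullback f.hom p
      fst snd sq g c g'' hg b' x' sqW'
    exact ⟨W, w, x, sqx, hW, Groth.Agent.H51.AffDescProps.isFinite_of_isPullback sqS hb'⟩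

end Groth.Agent.S10268
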