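import Groth.Statements.S10269
import Groth.Agent.S9984

set_option autoImplicit false
universe u
open CategoryTheory CategoryTheory.Limits AlgebraicGeometry
open AlgSp

namespace Groth.Agent.S10269

/-- A finite morphism of algebraic spaces is integral; an integral morphism locally of finite type is
finite. -/
theorem result {S : Scheme.{u}} {X Y : AlgSp.Space S} (f : X ⟶ Y) :
    (AlgSp.IsFiniteMor f.hom → AlgSp.IsIntegralMor f.hom) ∧
    (AlgSp.IsIntegralMor f.hom → AlgSp.LocP @LocallyOfFiniteType f.hom → AlgSp.IsFiniteMor f.hom) := by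
  refine ⟨fun hf Z hZ g => ?_, fun hf hlft Z hZ g => ?_⟩
  · obtain ⟨W, i, fst, sq, hW, hi⟩ := hf hZ g
    have : IsFinite i.left := hi
    exact ⟨W, i, fst, sq, hW, inferInstance⟩
  · obtain ⟨W, i, fst, sq, hW, hi⟩ := hf hZ g
    refine ⟨W, i, fst, sq, hW, ?_⟩
    let Y' : AlgSp.Space S := ⟨(AlgSp.yon S).obj Z, AlgSp.IsAlgSpace.yon_obj Z⟩
    let X' : AlgSp.Space S := ⟨(AlgSp.yon S).obj W, AlgSp.IsAlgSpace.yon_obj W⟩
    let g' : Y' ⟶ Y := ObjectProperty.homMk g
    let fst' : X' ⟶ X := ObjectProperty.homMk fst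
    let f' : X' ⟶ Y' := ObjectProperty.homMk ((AlgSp.yon S).map i)
    have h1 : AlgSp.LocP @LocallyOfFiniteType f'.hom :=
      Groth.Agent.S9984.result _ (Or.inl rfl) f g' fst' f' sq hlft
    have h2 : LocallyOfFiniteType i.left := AlgSp.locP_yon_map h1
    have h3 : IsIntegralHom i.left := hi
    exact (IsFinite.iff_isIntegralHom_and_locallyOfFiniteType i.left).2 ⟨h3, h2⟩

end Groth.Agent.S10269
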