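import Groth.Statements.S10272
import Groth.Agent.H51.GraphSep

set_option autoImplicit false
universe u
open CategoryTheory CategoryTheory.Limits AlgebraicGeometry
open AlgSp

namespace Groth.Agent.S10272

/-- If g is separated and the composite of f and g is finite (resp. integral) then f is finite (resp.
integral). -/
theorem result {S : Scheme.{u}} {X Y Z : AlgSp.Space S} (f : X ⟶ Y) (g : Y ⟶ Z)
    (hg : AlgSp.IsSeparatedMor g.hom) :
    (AlgSp.IsFiniteMor (f ≫ g).hom → AlgSp.IsFiniteMor f.hom) ∧
    (AlgSp.IsIntegralMor (f ≫ g).hom → AlgSp.IsIntegralMor f.hom) := by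
  refine ⟨fun hfin T hT t => ?_, fun hint T hT t => ?_⟩
  · obtain ⟨W', i', fst', sq', hW', hi'⟩ := hfin hT (t ≫ g.hom)
    obtain ⟨W, j, hj, sq⟩ :=
      Groth.Agent.H51.exists_closedImmersion_of_isSeparatedMor f.hom g.hom hg t i' fst' sq'
    have : IsAffine W'.left := hW'
    have : IsFinite i'.left := hi'
    refine ⟨W, j ≫ i', _, sq, isAffine_of_isAffineHom j.left, ?_⟩
    rw [Over.comp_left]
    infer_instance
  · obtain ⟨W', i', fst', sq', hW', hi'⟩ := hint hT (t ≫ g.hom)
    obtain ⟨W, j, hj, sq⟩ :=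
      Groth.Agent.H51.exists_closedImmersion_of_isSeparatedMor f.hom g.hom hg t i' fst' sq'
    have : IsAffine W'.left := hW'
    have : IsIntegralHom i'.left := hi'
    refine ⟨W, j ≫ i', _, sq, isAffine_of_isAffineHom j.left, ?_⟩
    rw [Over.comp_left]
    infer_instance

end Groth.Agent.S10272
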