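import Groth.Statements.S10273
import Groth.Agent.H51.AffineCoverFpqc
import Groth.Agent.S10536
import Groth.Agent.S10275

set_option autoImplicit false
universe u
open CategoryTheory CategoryTheory.Limits AlgebraicGeometry
open AlgSp

namespace Groth.Agent.S10273

/-- (1) ⇔ (3): properness of a morphism of algebraic spaces can be tested after base change to affine
schemes over the target. -/
theorem result {S : Scheme.{u}} {X Y : AlgSp.Space S} (f : X ⟶ Y) :
    AlgSp.IsProperMor f.hom ↔
      ∀ (Z : Over S), IsAffine Z.left → ∀ (g : (AlgSp.yon S).obj Z ⟶ Y.obj) (P : AlgSp.Sp S) (fst : P ⟶ X.obj)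
        (snd : P ⟶ (AlgSp.yon S).obj Z), IsPullback fst snd f.hom g → AlgSp.IsProperMor snd := by
  constructor
  · intro hf Z hZ g P fst snd sq
    have hP : AlgSp.IsAlgSpace P :=
      Groth.Agent.H52.isAlgSpace_of_isPullback sq Y.property.diag X.property
        ((AlgSp.ofScheme S).obj Z).property
    exact Groth.Agent.S10275.result (X' := ⟨P, hP⟩) (Y' := (AlgSp.ofScheme S).obj Z) f
      (ObjectProperty.homMk g) (ObjectProperty.homMk fst) (ObjectProperty.homMk snd) sq hf
  · intro h
    obtain ⟨ι, V, g, hV, -, -, hcov⟩ := Groth.Agent.H51.exists_affine_fpqcCover Y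
    have sq : ∀ i, IsPullback (pullback.fst f.hom (g i)) (pullback.snd f.hom (g i)) f.hom (g i) :=
      fun i => IsPullback.of_hasPullback _ _
    have hP : ∀ i, AlgSp.IsAlgSpace (pullback f.hom (g i)) := fun i =>
      Groth.Agent.H52.isAlgSpace_of_isPullback (sq i) Y.property.diag X.property
        ((AlgSp.ofScheme S).obj (V i)).property
    exact (Groth.Agent.S10536.result S (fun i => (AlgSp.yon S).obj (V i)) g Y.property
      (fun i => ((AlgSp.ofScheme S).obj (V i)).property) hcov f.hom X.property
      (fun i => pullback f.hom (g i)) (fun i => pullback.snd f.hom (g i))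
      (fun i => pullback.fst f.hom (g i)) hP sq).2
      (fun i => h (V i) (hV i) (g i) _ _ _ (sq i))

end Groth.Agent.S10273
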