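import Groth.Statements.S9918
import Groth.Agent.H52.QC

set_option autoImplicit false
universe u
open CategoryTheory CategoryTheory.Limits AlgebraicGeometry
open AlgSp
open Groth.Agent.H52

namespace Groth.Agent.S9918

/-- (5) ⇒ (1): quasi-compactness of a morphism of algebraic spaces descends along a surjective etale
base change of algebraic spaces. -/
theorem result {S : Scheme.{u}} {X Y Y' X' : AlgSp.Space S}
    (f : X ⟶ Y) (g : Y' ⟶ Y) (fst : X' ⟶ X) (f' : X' ⟶ Y') (sq : IsPullback fst.hom f'.hom f.hom g.hom)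
    (hg : AlgSp.IsEtaleMor g.hom) (hgs : AlgSp.IsSurjectiveMor g.hom) (hf' : AlgSp.IsQuasiCompactMor f'.hom) :
    AlgSp.IsQuasiCompactMor f.hom := by
  apply isQuasiCompactMor_of_affine X.property Y.property f.hom
  intro Z hZ h P pfst psnd sqP
  have : IsAffine Z.left := hZ
  obtain ⟨V', q', hq'e, hq's⟩ := Y'.property.atlas
  have hφe : RepWith @Etale (q' ≫ g.hom) := hg q' hq'e
  have hφs : Function.Surjective (Points.ofPt (q' ≫ g.hom)) := by
    intro y
    obtain ⟨y', rfl⟩ := hgs y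
    obtain ⟨v, rfl⟩ := surjective_ofPt_of_surjective q' hq's y'
    exact ⟨v, rfl⟩
  obtain ⟨ι, _, T, c, d, hT, hcE, hcd, hcs⟩ :=
    exists_finite_affine_refinement h (q' ≫ g.hom) hφe hφs
  have hP : IsAlgSpace P :=
    isAlgSpace_of_isPullback sqP Y.property.diag X.property (IsAlgSpace.yon_obj Z)
  obtain ⟨e, he⟩ : ∃ e : ∀ i, (yon S).obj (T i) ⟶ Y'.obj,
      ∀ i, (yon S).map (c i) ≫ h = e i ≫ g.hom :=
    ⟨fun i => (yon S).map (d i) ≫ q', fun i => by rw [hcd i, Category.assoc]⟩
  have sqi : ∀ i, IsPullback (pullback.fst f.hom (e i ≫ g.hom)) (pullback.snd f.hom (e i ≫ g.hom))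
      f.hom (e i ≫ g.hom) := fun i => IsPullback.of_hasPullback _ _
  have hQ : ∀ i, IsQuasiCompactSp (pullback f.hom (e i ≫ g.hom)) := fun i => by
    have : IsAffine (T i).left := hT i
    have : CompactSpace ↥(T i).left := inferInstance
    let k : pullback f.hom (e i ≫ g.hom) ⟶ X'.obj :=
      sq.lift (pullback.fst _ _) (pullback.snd _ _ ≫ e i) ((sqi i).w.trans (Category.assoc _ _ _).symm)
    have sqk : IsPullback k (pullback.snd f.hom (e i ≫ g.hom)) f'.hom (e i) :=
      isPullback_lift_of_comp_right sq (sqi i) k (sq.lift_fst _ _ _) (sq.lift_snd _ _ _)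
    exact hf' (IsAlgSpace.yon_obj _) (isQuasiCompactSp_yon _) (e i) k _ sqk
  let l : ∀ i, pullback f.hom (e i ≫ g.hom) ⟶ P := fun i =>
    sqP.lift (pullback.fst _ _) (pullback.snd _ _ ≫ (yon S).map (c i))
      (by rw [Category.assoc, he i]; exact (sqi i).w)
  have sql : ∀ i, IsPullback (l i) (pullback.snd f.hom (e i ≫ g.hom)) psnd ((yon S).map (c i)) :=
    fun i => isPullback_lift_of_comp_right sqP (by rw [he i]; exact sqi i) (l i)
      (sqP.lift_fst _ _ _) (sqP.lift_snd _ _ _)
  refine isQuasiCompactSp_of_finite_cover hP _ l hQ fun x => ?_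
  obtain ⟨z, hz⟩ := (Points.schemeEquiv Z).surjective (Points.map psnd x)
  obtain ⟨i, t, rfl⟩ := hcs z
  have hx : Points.map psnd x = Points.map ((yon S).map (c i)) (Points.ofScheme (T i) t) := by
    rw [map_yon_map_ofScheme]
    exact hz.symm
  obtain ⟨w, hw, -⟩ := exists_point_of_isPullback (sql i) x _ hx
  exact ⟨i, w, hw⟩

end Groth.Agent.S9918
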