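import Groth.Statements.S10274
import Groth.Agent.H51.Proper
import Groth.Agent.H50.Descent
import Groth.Agent.S9904
import Groth.Agent.S9918
import Groth.Agent.S9924

set_option autoImplicit false
universe u
open CategoryTheory CategoryTheory.Limits AlgebraicGeometry
open AlgSp

namespace Groth.Agent.S10274

/-- (4) ⇒ (1): properness of a morphism of algebraic spaces descends along a surjective etale base
change from a scheme. -/
theorem result {S : Scheme.{u}} {X Y : AlgSp.Space S} (f : X ⟶ Y) (V : Over S)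
    (p : (AlgSp.yon S).obj V ⟶ Y.obj) (hp : AlgSp.RepWith @Etale p) (hps : AlgSp.RepWith @Surjective p)
    {P : AlgSp.Sp S} (fst : P ⟶ X.obj) (snd : P ⟶ (AlgSp.yon S).obj V) (sq : IsPullback fst snd f.hom p)
    (h : AlgSp.IsProperMor snd) : AlgSp.IsProperMor f.hom := by
  have instE2 := AlgSp.repWith_isMultiplicative (S := S) @Etale
  have hP : AlgSp.IsAlgSpace P :=
    Groth.Agent.H52.isAlgSpace_of_isPullback sq Y.property.diag X.property (AlgSp.IsAlgSpace.yon_obj V)
  let Y' : AlgSp.Space S := ⟨(AlgSp.yon S).obj V, AlgSp.IsAlgSpace.yon_obj V⟩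
  let X' : AlgSp.Space S := ⟨P, hP⟩
  let g : Y' ⟶ Y := ObjectProperty.homMk p
  let fst' : X' ⟶ X := ObjectProperty.homMk fst
  let f' : X' ⟶ Y' := ObjectProperty.homMk snd
  have hge : AlgSp.IsEtaleMor g.hom := fun W φ hφ => (AlgSp.RepWith @Etale).comp_mem _ _ hφ hp
  have hgs : AlgSp.IsSurjectiveMor g.hom := by
    intro y
    obtain ⟨v, hv⟩ := Groth.Agent.H52.surjective_ofPt_of_surjective p hps y
    exact ⟨AlgSp.Points.ofScheme V v, by rw [← hv, AlgSp.Points.ofPt_eq_map_ofScheme]; rfl⟩
  have hdesc : MorphismProperty.DescendsAlong (@LocallyOfFiniteType : MorphismProperty Scheme.{u})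
      Groth.Agent.H50.fppfProp := inferInstance
  refine ⟨(Groth.Agent.S9904.result f V p hp hps fst snd sq).1 h.1,
    ⟨Groth.Agent.H50.locP_of_isPullback_atlas hdesc hp hps sq h.2.1.1,
      Groth.Agent.S9918.result f g fst' f' sq hge hgs h.2.1.2⟩,
    Groth.Agent.S9924.result f V p hp hps fst snd sq h.2.2⟩

end Groth.Agent.S10274
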