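import Groth.Statements.S10283
import Groth.Agent.H52.ValFinSep
import Groth.Agent.H52.FibProd

set_option autoImplicit false
universe u
open CategoryTheory CategoryTheory.Limits AlgebraicGeometry
open AlgSp

namespace Groth.Agent.S10283

open Groth.Agent.H52

/-- In the existence part of the valuative criterion for a morphism of algebraic spaces one may restrict
to finite separable extensions of the fraction field. -/
theorem result {S : Scheme.{u}} {X Y : AlgSp.Space S} (f : X ⟶ Y)
    (hf : AlgSp.ExistVC f.hom) (sq : AlgSp.ValSq f.hom) :
    ∃ e : sq.DomExt, (letI := e.ψ.toAlgebra; Module.Finite sq.K e.K' ∧ Algebra.IsSeparable sq.K e.K') ∧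
      e.HasLift := by
  have pb := IsPullback.of_hasPullback f.hom sq.bot
  have hPa : IsAlgSpace (pullback f.hom sq.bot) :=
    isAlgSpace_of_isPullback pb Y.property.diag X.property (IsAlgSpace.yon_obj _)
  exact exists_finite_separable_domExt sq pb hPa hf

end Groth.Agent.S10283
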