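import Groth.Statements.S1029
import Mathlib
import Groth.Agent.S0997
import Groth.Agent.S9498
import Groth.Agent.S1105
import Groth.Agent.H28.K0Perf
import Groth.Agent.H28.K0Derived
import Groth.Agent.H90.FreeLocus
import Groth.Agent.H6.K0Transfer

set_option autoImplicit false
universe u
open CategoryTheory CategoryTheory.Limits AlgebraicGeometry
attribute [local instance] HasDerivedCategory.standard
open KZero

namespace Groth.Agent.S1029

open scoped ZeroObject

/-- Let A be a ring and X = Spec A. There is an isomorphism from K₀(A) (free abelian group on finite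
projective A-modules modulo short exact sequences of such) to K₀(X) = K₀(D_perf(O_X)) (free abelian
group on perfect objects of D(O_X) modulo distinguished triangles among them) sending the class of M
to the class of M~ placed in degree 0. -/
theorem result (A : Type u) [CommRing A] :
    ∃ φ : KZero.K0sub (fun M : ModuleCat.{u} A => Module.Finite A M ∧ Module.Projective A M) ≃+
        KZero.K0tr (fun K : DCoh.D (Spec (CommRingCat.of A)) => DCoh.IsPerfect K),
      ∀ (M : ModuleCat.{u} A), Module.Finite A M → Module.Projective A M →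
        φ (KZero.clSub (fun M : ModuleCat.{u} A => Module.Finite A M ∧ Module.Projective A M) M) =
          KZero.clTr (fun K : DCoh.D (Spec (CommRingCat.of A)) => DCoh.IsPerfect K) (DCoh.inD (Spec (CommRingCat.of A)) (tilde M)) := by
  have instA : PreservesFiniteLimits (tilde.functor (CommRingCat.of A)) :=
    (Groth.Agent.S9498.result A).1
  have instB : PreservesFiniteColimits (tilde.functor (CommRingCat.of A)) :=
    (Groth.Agent.S9498.result A).2
  obtain ⟨hfull, hfaith, hess0⟩ := Groth.Agent.S0997.result (CommRingCat.of A)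
  have hPQ : ∀ X : Dual.D A,
      DCoh.IsPerfect ((DCoh.tildeD (CommRingCat.of A)).obj X) ↔ DRing.IsPerfect A X :=
    fun X => Groth.Agent.S1105.result A X
  have hQiso : ∀ {K L : DCoh.D (Spec (CommRingCat.of A))}, (K ≅ L) → DCoh.IsPerfect K →
      DCoh.IsPerfect L := by
    intro K L e h x
    obtain ⟨V, hx, hV⟩ := h x
    exact ⟨V, hx, fun F ⟨eF⟩ => hV F ⟨eF ≪≫ e.symm⟩⟩
  have hP0 : DRing.IsPerfect A (0 : Dual.D A) := Groth.Agent.H28.K0Perf.perf_zero
  have hQ0 : DCoh.IsPerfect (0 : DCoh.D (Spec (CommRingCat.of A))) := by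
    refine hQiso ?_ ((hPQ 0).2 hP0)
    exact (Functor.map_isZero _ (isZero_zero _)).iso (isZero_zero _)
  have hess : ∀ K : DCoh.D (Spec (CommRingCat.of A)), DCoh.IsPerfect K →
      ∃ X : Dual.D A, Nonempty ((DCoh.tildeD (CommRingCat.of A)).obj X ≅ K) := by
    intro K hK
    exact (hess0 K).1 (fun i => Groth.Agent.H90.QH.isQCoh_HD_of_isPerfect K hK i)
  obtain ⟨φ₁, hφ₁⟩ := Groth.Agent.H6.K0Transfer.main (DCoh.tildeD (CommRingCat.of A))
    (fun K : Dual.D A => DRing.IsPerfect A K)
    (fun K : DCoh.D (Spec (CommRingCat.of A)) => DCoh.IsPerfect K) hPQ hess hQiso hP0 hQ0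
  obtain ⟨φ₀, hφ₀, -⟩ := Groth.Agent.H28.K0Perf.main A
  refine ⟨φ₀.trans φ₁, fun M hfin hproj => ?_⟩
  have e1 : φ₀ (KZero.clSub
      (fun M : ModuleCat.{u} A => Module.Finite A M ∧ Module.Projective A M) M) =
      KZero.clTr (fun K : Dual.D A => DRing.IsPerfect A K) (Dual.inD A M) := hφ₀ M hfin hproj
  have hPM : DRing.IsPerfect A (Dual.inD A M) :=
    Groth.Agent.H28.K0Perf.perf_single (M := M) ⟨hfin, hproj⟩
  have e2 := hφ₁ (Dual.inD A M) hPM
  have hQM := (hPQ _).2 hPM
  have iso : (DCoh.tildeD (CommRingCat.of A)).obj (Dual.inD A M) ≅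
      DCoh.inD (Spec (CommRingCat.of A)) (tilde M) :=
    ((tilde.functor (CommRingCat.of A)).mapDerivedCategorySingleFunctor 0).app M
  have e3 := Groth.Agent.H28.K0D.clTr_iso
    (fun K : DCoh.D (Spec (CommRingCat.of A)) => DCoh.IsPerfect K) iso hQM (hQiso iso hQM) hQ0
  rw [AddEquiv.trans_apply, e1, e2]
  exact e3

end Groth.Agent.S1029
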