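import Groth.Statements.S10293
import Groth.Agent.H51.AffDescChart
import Groth.Agent.H51.AffDescProps
import Groth.Agent.H51.AffineTest
import Groth.Agent.H51.FpqcLocPInst

set_option autoImplicit false
universe u
open CategoryTheory CategoryTheory.Limits AlgebraicGeometry
open AlgSp

namespace Groth.Agent.S10293

/-- (3) ⇒ (1): being finite locally free descends along a surjective etale base change from a scheme. -/
theorem result {S : Scheme.{u}} {X Y : AlgSp.Space S} (f : X ⟶ Y) (V : Over S)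
    (p : (AlgSp.yon S).obj V ⟶ Y.obj) (hp : AlgSp.RepWith @Etale p) (hps : AlgSp.RepWith @Surjective p)
    {P : AlgSp.Sp S} (fst : P ⟶ X.obj) (snd : P ⟶ (AlgSp.yon S).obj V) (sq : IsPullback fst snd f.hom p)
    (h : AlgSp.IsFinLocFreeMor snd) : AlgSp.IsFinLocFreeMor f.hom := by
  have key : ∀ ⦃Z : Over S⦄, IsAffine Z.left → ∀ (g : (AlgSp.yon S).obj Z ⟶ Y.obj),
      ∃ (W : Over S) (i : W ⟶ Z) (x : (AlgSp.yon S).obj W ⟶ X.obj),
        IsPullback x ((AlgSp.yon S).map i) f.hom g ∧ IsFinite i.left ∧ Flat i.left ∧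
          LocallyOfFinitePresentation i.left := by
    intro Z hZ g
    have := hZ
    obtain ⟨Z', c, g'', hZ', hce, hcs, hg⟩ :=
      Groth.Agent.H51.AffDesc.exists_affine_etale_cover p hp hps g
    obtain ⟨W', b', x', sqW'⟩ := h.rep ((AlgSp.yon S).map g'')
    obtain ⟨hb1, hb2, hb3⟩ : Mor2.IsFinLocFree b'.left := h.property _ _ _ sqW'
    have hW' : IsAffine W'.left := isAffine_of_isAffineHom b'.left
    obtain ⟨W, w, k, x, hW, sqx, sqS⟩ := Groth.Agent.H51.AffDesc.exists_affine_pullback f.hom p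
      fst snd sq g c g'' hg b' x' sqW'
    refine ⟨W, w, x, sqx, Groth.Agent.H51.AffDescProps.isFinite_of_isPullback sqS hb1, ?_,
      Groth.Agent.H51.AffDescProps.locallyOfFinitePresentation_of_isPullback sqS hb3⟩
    have := Groth.Agent.H51.flat_descendsAlong_fpqc.{u}
    exact MorphismProperty.of_isPullback_of_descendsAlong (P := @Flat)
      (Q := @Surjective ⊓ @Flat ⊓ @QuasiCompact) sqS.flip
      (Groth.Agent.H51.AffDescProps.fpqc_of c.left) hb2
  have h1 : AlgSp.RepWith @IsFinite f.hom :=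
    Groth.Agent.H51.ZarGlue.repWith_of_affine_test @IsFinite f.hom (fun Z hZ g => by
      obtain ⟨W, i, x, sqx, hi, -, -⟩ := key hZ g
      exact ⟨W, i, x, sqx, hi⟩)
  have h2 : AlgSp.RepWith @Flat f.hom :=
    Groth.Agent.H51.ZarGlue.repWith_of_affine_test @Flat f.hom (fun Z hZ g => by
      obtain ⟨W, i, x, sqx, -, hi, -⟩ := key hZ g
      exact ⟨W, i, x, sqx, hi⟩)
  have h3 : AlgSp.RepWith @LocallyOfFinitePresentation f.hom :=
    Groth.Agent.H51.ZarGlue.repWith_of_affine_test @LocallyOfFinitePresentation f.hom (fun Z hZ g => by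
      obtain ⟨W, i, x, sqx, -, -, hi⟩ := key hZ g
      exact ⟨W, i, x, sqx, hi⟩)
  exact ⟨h1.rep, fun _ _ g fst snd sq =>
    ⟨h1.property g fst snd sq, h2.property g fst snd sq, h3.property g fst snd sq⟩⟩

end Groth.Agent.S10293
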