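import Groth.Statements.S10294
import Groth.Agent.S9948
import Groth.Agent.H51.AffineTest
import Groth.Agent.H52.NoethSpec

set_option autoImplicit false
universe u
open CategoryTheory CategoryTheory.Limits AlgebraicGeometry
open AlgSp

namespace Groth.Agent.S10294

/-- Finite locally free is the same as finite, flat and locally of finite presentation; over a locally
Noetherian target it is the same as finite and flat. -/
theorem result {S : Scheme.{u}} {X Y : AlgSp.Space S} (f : X ⟶ Y) :
    (AlgSp.IsFinLocFreeMor f.hom ↔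
      (AlgSp.IsFiniteMor f.hom ∧ AlgSp.LocP @Flat f.hom ∧ AlgSp.LocP @LocallyOfFinitePresentation f.hom)) ∧
    (AlgSp.IsLocNoethSp Y.obj →
      (AlgSp.IsFinLocFreeMor f.hom ↔ (AlgSp.IsFiniteMor f.hom ∧ AlgSp.LocP @Flat f.hom))) := by
  have hfin_of : AlgSp.IsFinLocFreeMor f.hom → AlgSp.IsFiniteMor f.hom := by
    intro h Z hZ g
    obtain ⟨W, i, x, sq⟩ := h.rep g
    obtain ⟨h1, -, -⟩ : Mor2.IsFinLocFree i.left := h.property _ _ _ sq
    have := hZ
    exact ⟨W, i, x, sq, isAffine_of_isAffineHom i.left, h1⟩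
  have hrepfin : AlgSp.IsFiniteMor f.hom → AlgSp.RepWith @IsFinite f.hom := fun h =>
    Groth.Agent.H51.ZarGlue.repWith_of_affine_test @IsFinite f.hom (fun Z hZ g => by
      obtain ⟨W, i, x, sq, -, hi⟩ := h hZ g
      exact ⟨W, i, x, sq, hi⟩)
  have hflat : ∀ hf : AlgSp.Representable f.hom, AlgSp.LocP @Flat f.hom ↔ AlgSp.RepWith @Flat f.hom :=
    fun hf => Groth.Agent.S9948.result @Flat (Or.inr (Or.inr (Or.inl rfl))) f hf
  have hlfp : ∀ hf : AlgSp.Representable f.hom, AlgSp.LocP @LocallyOfFinitePresentation f.hom ↔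
      AlgSp.RepWith @LocallyOfFinitePresentation f.hom :=
    fun hf => Groth.Agent.S9948.result @LocallyOfFinitePresentation (Or.inr (Or.inl rfl)) f hf
  have hlft : ∀ hf : AlgSp.Representable f.hom, AlgSp.LocP @LocallyOfFiniteType f.hom ↔
      AlgSp.RepWith @LocallyOfFiniteType f.hom :=
    fun hf => Groth.Agent.S9948.result @LocallyOfFiniteType (Or.inl rfl) f hf
  have part1 : AlgSp.IsFinLocFreeMor f.hom ↔
      (AlgSp.IsFiniteMor f.hom ∧ AlgSp.LocP @Flat f.hom ∧
        AlgSp.LocP @LocallyOfFinitePresentation f.hom) := by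
    constructor
    · intro h
      refine ⟨hfin_of h, (hflat h.rep).2 ⟨h.rep, fun _ _ g fst snd sq => (h.property g fst snd sq).2.1⟩,
        (hlfp h.rep).2 ⟨h.rep, fun _ _ g fst snd sq => (h.property g fst snd sq).2.2⟩⟩
    · rintro ⟨h1, h2, h3⟩
      have r1 := hrepfin h1
      have r2 := (hflat r1.rep).1 h2
      have r3 := (hlfp r1.rep).1 h3
      exact ⟨r1.rep, fun _ _ g fst snd sq =>
        ⟨r1.property g fst snd sq, r2.property g fst snd sq, r3.property g fst snd sq⟩⟩
  refine ⟨part1, fun hN => ?_⟩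
  rw [part1]
  constructor
  · rintro ⟨h1, h2, -⟩
    exact ⟨h1, h2⟩
  · rintro ⟨h1, h2⟩
    refine ⟨h1, h2, ?_⟩
    have r1 := hrepfin h1
    have r2 : AlgSp.RepWith @LocallyOfFiniteType f.hom :=
      ⟨r1.rep, fun _ _ g fst snd sq => by
        have h0 : IsFinite snd.left := r1.property g fst snd sq
        exact (inferInstance : LocallyOfFiniteType snd.left)⟩
    have l2 := (hlft r1.rep).2 r2
    intro U V a b h ha hb comm
    have hV : IsLocallyNoetherian V.left := Groth.Agent.H52.isLocallyNoetherian_chart hN b hb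
    have : LocallyOfFiniteType h.left := l2 a b h ha hb comm
    exact LocallyOfFinitePresentation.iff_locallyOfFiniteType.mpr inferInstance

end Groth.Agent.S10294
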