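import Groth.Statements.S10296
import Groth.Agent.S10272
import Groth.Agent.S10270
import Groth.Agent.S10267
import Groth.Agent.H51.AffineMor
-- import your own Groth.Agent.* helpers here

set_option autoImplicit false
universe u
open CategoryTheory CategoryTheory.Limits AlgebraicGeometry
open AlgSp

namespace Groth.Agent.S10296

/-- The induced morphism from the normalization of X in Y to any integral Z -> X through which Y -> X
factors is the normalization of Z in Y. -/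
theorem result {S : Scheme.{u}} {Y X X' Z : AlgSp.Space S} (f : Y ⟶ X)
    (hqc : AlgSp.IsQuasiCompactMor f.hom) (hqs : AlgSp.IsQuasiSeparatedMor f.hom) (ν : X' ⟶ X) (f' : Y ⟶ X')
    (hn : AlgSp.IsRelNormalization f.hom ν.hom f'.hom) (π : Z ⟶ X) (hπ : AlgSp.IsIntegralMor π.hom) (g : Y ⟶ Z)
    (hg : g ≫ π = f) (h : X' ⟶ Z) (h1 : f' ≫ h = g) (h2 : h ≫ π = ν) :
    AlgSp.IsRelNormalization g.hom h.hom f'.hom := by
  obtain ⟨hfac, hνint, huniv⟩ := hn
  have hsep : AlgSp.IsSeparatedMor π.hom :=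
    Groth.Agent.H51.isSeparatedMor_of_isAffineMor π
      ((Groth.Agent.S10270.result π).1 hπ).1
  have hh1 : f'.hom ≫ h.hom = g.hom := congrArg (fun t => t.hom) h1
  have hh2 : h.hom ≫ π.hom = ν.hom := congrArg (fun t => t.hom) h2
  have hgf : g.hom ≫ π.hom = f.hom := congrArg (fun t => t.hom) hg
  have hhint : AlgSp.IsIntegralMor h.hom := by
    apply (Groth.Agent.S10272.result h π hsep).2
    show AlgSp.IsIntegralMor (h.hom ≫ π.hom)
    rw [hh2]
    exact hνint
  refine ⟨hh1, hhint, ?_⟩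
  intro Z' hZ' π' g' hπ' hg'
  let Z'' : AlgSp.Space S := ⟨Z', hZ'⟩
  let π'' : Z'' ⟶ Z := ObjectProperty.homMk π'
  have hcomp : AlgSp.IsIntegralMor (π' ≫ π.hom) := by
    have e1 : AlgSp.RepWith @IsIntegralHom π' := (Groth.Agent.S10267.result π'').1.1 hπ'
    have e2 : AlgSp.RepWith @IsIntegralHom π.hom := (Groth.Agent.S10267.result π).1.1 hπ
    have e3 : AlgSp.RepWith @IsIntegralHom (π' ≫ π.hom) :=
      MorphismProperty.comp_mem _ _ _ e1 e2
    exact (Groth.Agent.S10267.result (π'' ≫ π)).1.2 e3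
  have hgπ : g' ≫ (π' ≫ π.hom) = f.hom := by
    rw [← Category.assoc, hg', hgf]
  obtain ⟨h', ⟨hh'1, hh'2⟩, huniq⟩ := huniv hZ' (π' ≫ π.hom) g' hcomp hgπ
  obtain ⟨k, -, hkuniq⟩ := huniv Z.property π.hom g.hom hπ hgf
  have e1 : h' ≫ π' = k :=
    hkuniq _ ⟨by rw [← Category.assoc, hh'1, hg'], by rw [Category.assoc, hh'2]⟩
  have e2 : h.hom = k := hkuniq _ ⟨hh1, hh2⟩
  refine ⟨h', ⟨hh'1, e1.trans e2.symm⟩, ?_⟩
  rintro h'' ⟨a1, a2⟩
  apply huniq
  refine ⟨a1, ?_⟩
  rw [← Category.assoc, a2, hh2]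

end Groth.Agent.S10296
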