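import Groth.Statements.S10309
import Groth.Agent.S9355
import Groth.Agent.H52.ChartIndep
import Groth.Agent.H52.Charts

set_option autoImplicit false
universe u
open CategoryTheory CategoryTheory.Limits AlgebraicGeometry
open AlgSp

namespace Groth.Agent.S10309

/-- For f locally of finite presentation, the locus where the relative dimension is at most n is
retrocompact in |X|. -/
theorem result {S : Scheme.{u}} {X Y : AlgSp.Space S} (f : X ⟶ Y)
    (hf : AlgSp.LocP @LocallyOfFinitePresentation f.hom) (n : ℕ) (V : Set (AlgSp.Points X.obj))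
    (hV : IsOpen V) (hVc : IsCompact V) :
    IsCompact (V ∩ {x : AlgSp.Points X.obj |
      AlgSp.HasAtMor (fun _ _ h u => FlatMor.fibreDimAt h u ≤ (n : WithBot ℕ∞)) f.hom x}) := by
  have hX := X.property
  have hY := Y.property
  obtain ⟨U₀, p, hpe, hps⟩ := hX.atlas
  obtain ⟨V₀, q, hqe, hqs⟩ := hY.atlas
  obtain ⟨U, h, a', sqW⟩ := (hY.representable_from_yon (p ≫ f.hom)) q
  obtain ⟨a₁, rfl⟩ := (AlgSp.yon S).map_surjective a'
  have ha₁ : Etale a₁.left := hqe.2 _ _ _ sqW.flip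
  have ha₁s : Surjective a₁.left := hqs.2 _ _ _ sqW.flip
  have hae : AlgSp.RepWith @Etale ((AlgSp.yon S).map a₁ ≫ p) :=
    Groth.Agent.H52.repWith_yon_map_comp @Etale a₁ ha₁ p hpe
  have has : AlgSp.RepWith @Surjective ((AlgSp.yon S).map a₁ ≫ p) :=
    Groth.Agent.H52.repWith_yon_map_comp @Surjective a₁ ha₁s p hps
  have comm : ((AlgSp.yon S).map a₁ ≫ p) ≫ f.hom = (AlgSp.yon S).map h ≫ q := by
    rw [Category.assoc]; exact sqW.w
  generalize (AlgSp.yon S).map a₁ ≫ p = a at hae has comm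
  haveI : LocallyOfFinitePresentation h.left := hf a q h hae hqe comm
  have hAc : Continuous (AlgSp.Points.ofPt a) := AlgSp.Points.continuous_ofPt a
  have hAo : IsOpenMap (AlgSp.Points.ofPt a) := Groth.Agent.H52.isOpenMap_ofPt_of_etale a hae
  have hAs : Function.Surjective (AlgSp.Points.ofPt a) :=
    Groth.Agent.H52.surjective_ofPt_of_surjective a has
  -- a compact open `K` of the chart with image `V`
  obtain ⟨K, hKo, hKc, hKV⟩ : ∃ K : Set ↥U.left, IsOpen K ∧ IsCompact K ∧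
      AlgSp.Points.ofPt a '' K = V := by
    have hUV : IsOpen (AlgSp.Points.ofPt a ⁻¹' V) := hV.preimage hAc
    have hnb : ∀ u : ↥U.left, u ∈ AlgSp.Points.ofPt a ⁻¹' V →
        ∃ W : U.left.Opens, W ∈ U.left.affineOpens ∧ u ∈ W ∧
          W ≤ (⟨AlgSp.Points.ofPt a ⁻¹' V, hUV⟩ : U.left.Opens) := fun u hu =>
      (TopologicalSpace.Opens.isBasis_iff_nbhd.1 U.left.isBasis_affineOpens)
        (show u ∈ (⟨AlgSp.Points.ofPt a ⁻¹' V, hUV⟩ : U.left.Opens) from hu)
    choose! W hWaff hWmem hWsub using hnb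
    have hcov : V ⊆ ⋃ u ∈ AlgSp.Points.ofPt a ⁻¹' V, AlgSp.Points.ofPt a '' (W u : Set ↥U.left) := by
      intro x hx
      obtain ⟨u, rfl⟩ := hAs x
      exact Set.mem_biUnion (x := u) hx (Set.mem_image_of_mem _ (hWmem u hx))
    obtain ⟨b', hb'sub, hb'fin, hb'cov⟩ := hVc.elim_finite_subcover_image
      (fun u _ => hAo _ (W u).isOpen) hcov
    refine ⟨⋃ u ∈ b', (W u : Set ↥U.left), isOpen_biUnion fun u _ => (W u).isOpen,
      hb'fin.isCompact_biUnion fun u hu => (hWaff u (hb'sub hu)).isCompact, ?_⟩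
    apply Set.Subset.antisymm
    · rintro _ ⟨u, hu, rfl⟩
      rw [Set.mem_iUnion₂] at hu
      obtain ⟨i, hi, hui⟩ := hu
      exact hWsub i (hb'sub hi) hui
    · intro x hx
      have hx' := hb'cov hx
      rw [Set.mem_iUnion₂] at hx'
      obtain ⟨i, hi, u, hu, rfl⟩ := hx'
      exact ⟨u, Set.mem_biUnion hi hu, rfl⟩
  have hret : IsRetrocompact {u : ↥U.left | FlatMor.fibreDimAt h.left u ≤ (n : WithBot ℕ∞)} :=
    Groth.Agent.S9355.result h.left n
  have hcomp : IsCompact ({u : ↥U.left | FlatMor.fibreDimAt h.left u ≤ (n : WithBot ℕ∞)} ∩ K) :=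
    hret hKc hKo
  have himg : AlgSp.Points.ofPt a ''
      ({u : ↥U.left | FlatMor.fibreDimAt h.left u ≤ (n : WithBot ℕ∞)} ∩ K) =
      V ∩ {x : AlgSp.Points X.obj |
        AlgSp.HasAtMor (fun _ _ h u => FlatMor.fibreDimAt h u ≤ (n : WithBot ℕ∞)) f.hom x} := by
    apply Set.Subset.antisymm
    · rintro _ ⟨u, ⟨hu1, hu2⟩, rfl⟩
      refine ⟨?_, ?_⟩
      · rw [← hKV]; exact Set.mem_image_of_mem _ hu2
      · exact ⟨U, V₀, a, q, h, u, hae, hqe, comm, rfl, hu1⟩
    · rintro x ⟨hxV, hxE⟩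
      rw [← hKV] at hxV
      obtain ⟨u, huK, rfl⟩ := hxV
      refine ⟨u, ⟨?_, huK⟩, rfl⟩
      obtain ⟨U', V', a', b', h', u', ha', hb', comm', hu', hd'⟩ := hxE
      have key := Groth.Agent.H52.fibreDimAt_eq_of_charts f.hom a q h hae hqe comm a' b' h' ha' hb'
        comm' u u' hu'.symm
      show FlatMor.fibreDimAt h.left u ≤ _
      rw [key]; exact hd'
  rw [← himg]
  exact hcomp.image hAc

end Groth.Agent.S10309
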