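import Groth.Statements.S1031
-- import your own Groth.Agent.* helpers here

set_option autoImplicit false
universe v u
open CategoryTheory
open CohDer

namespace Groth.Agent.S1031

section Aux

open CategoryTheory.Limits CategoryTheory.Pretriangulated CategoryTheory.ObjectProperty

variable {C : Type u} [Category.{v} C] [Preadditive C] [HasZeroObject C] [HasShift C ℤ]
  [∀ n : ℤ, (shiftFunctor C n).Additive] [Pretriangulated C]

/-- Closure of a class of objects under products of pairs. -/
def ClosedProd (P : ObjectProperty C) : Prop :=
  ∀ f : WalkingPair → C, (∀ j, P (f j)) → P (∏ᶜ f)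

lemma closedProd_of_instance (P : ObjectProperty C) [P.IsClosedUnderBinaryProducts] :
    ClosedProd P := by
  intro f hf
  exact P.prop_of_isLimit (limit.isLimit (Discrete.functor f)) (fun ⟨j⟩ => hf j)

lemma instance_of_closedProd (P : ObjectProperty C) [P.IsClosedUnderIsomorphisms]
    (h : ClosedProd P) : P.IsClosedUnderBinaryProducts where
  limitsOfShape_le := by
    rintro X ⟨p⟩
    refine P.prop_of_iso ?_ (h (fun j => p.diag.obj ⟨j⟩) (fun j => p.prop_diag_obj ⟨j⟩))
    exact IsLimit.conePointUniqueUpToIso (limit.isLimit _)
      ((IsLimit.postcomposeHomEquiv (Discrete.natIsoFunctor (F := p.diag)) _).2 p.isLimit)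

lemma closedProd_extensionProduct (P Q : ObjectProperty C) (hP : ClosedProd P)
    (hQ : ClosedProd Q) : ClosedProd (extensionProduct P Q) := by
  intro f hf
  choose Y Z a b c hT hPY hQZ using hf
  let T : WalkingPair → Triangle C := fun j => Triangle.mk (a j) (b j) (c j)
  have hdist : productTriangle T ∈ distTriang C := productTriangle_distinguished T hT
  exact ⟨∏ᶜ Y, ∏ᶜ Z, _, _, _, hdist, hP Y hPY, hQ Z hQZ⟩

lemma closedProd_retractClosure (P : ObjectProperty C) (hP : ClosedProd P) :
    ClosedProd (retractClosure P) := by
  intro f hf
  choose g hg hr using hf
  have r : ∀ j, Retract (f j) (g j) := fun j => (hr j).some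
  refine ⟨∏ᶜ g, hP g hg, ⟨?_⟩⟩
  exact
    { i := Limits.Pi.map (fun j => (r j).i)
      r := Limits.Pi.map (fun j => (r j).r)
      retract := by
        apply Limits.Pi.hom_ext
        intro j
        simp only [Category.assoc, Limits.Pi.map_π, Limits.Pi.map_π_assoc, (r j).retract,
          Category.comp_id, Category.id_comp] }

lemma closedProd_extensionProductIter (P : ObjectProperty C) (hP : ClosedProd P) (n : ℕ) :
    ClosedProd (P.extensionProductIter n) := by
  induction n with
  | zero => rw [extensionProductIter_zero]; exact hP
  | succ n ih =>
    rw [extensionProductIter_succ]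
    exact closedProd_extensionProduct _ _ hP ih

lemma closedProd_triangEnvelopeIter (P : ObjectProperty C) (n : ℕ) :
    ClosedProd (P.triangEnvelopeIter n) := by
  apply closedProd_retractClosure
  apply closedProd_extensionProductIter
  apply closedProd_retractClosure
  exact closedProd_of_instance _

end Aux


/-- Let D be a triangulated category admitting a strong generator G (every object is reached from G by
shifts, finite sums, summands and a uniformly bounded number of extensions). Then every classical
generator E of D (every object reached from E with some finite number of extensions) is itself a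
strong generator. -/
theorem result {D : Type u} [Category.{v} D] [Preadditive D] [Limits.HasZeroObject D] [HasShift D ℤ]
    [∀ n : ℤ, (shiftFunctor D n).Additive] [Pretriangulated D] [IsTriangulated D]
    (G E : D) (hG : ObjectProperty.IsStrongTriangulatedGenerator (fun X : D => X = G))
    (hE : ObjectProperty.IsClassicalTriangulatedGenerator (fun X : D => X = E)) :
    ObjectProperty.IsStrongTriangulatedGenerator (fun X : D => X = E) := by
  classical
  obtain ⟨n, hn⟩ := hG
  have hGE : ObjectProperty.triangEnvelope (fun X : D => X = E) G := by
    have : ObjectProperty.triangEnvelope (fun X : D => X = E) = ⊤ := hE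
    rw [this]
    trivial
  obtain ⟨m, hm⟩ := (ObjectProperty.prop_triangEnvelope_iff _ G).1 hGE
  set PE : ObjectProperty D := fun X : D => X = E with hPE
  set PG : ObjectProperty D := fun X : D => X = G with hPG
  set Q : ObjectProperty D := PE.triangEnvelopeIter m with hQ
  have hPGQ : PG ≤ Q := by
    intro X hX
    have : X = G := hX
    rw [this]
    exact hm
  have hQprod : Q.IsClosedUnderBinaryProducts :=
    instance_of_closedProd Q (closedProd_triangEnvelopeIter PE m)
  have hbase : (PG.shiftClosure ℤ).binaryProductsClosure.retractClosure ≤ Q := by
    rw [ObjectProperty.retractClosure_le_iff]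
    apply ObjectProperty.limitsClosure_le
    rw [ObjectProperty.shiftClosure_le_iff]
    exact hPGQ
  have key : ∀ k : ℕ, Q.extensionProductIter k ≤ PE.triangEnvelopeIter (k * (m + 1) + m) := by
    intro k
    induction k with
    | zero =>
      rw [ObjectProperty.extensionProductIter_zero, Nat.zero_mul, Nat.zero_add]
    | succ k ih =>
      rw [ObjectProperty.extensionProductIter_succ]
      have e : (k + 1) * (m + 1) + m = (m + 1) + (k * (m + 1) + m) := by ring
      rw [e, PE.triangEnvelopeIter_add (n := m + 1) (n' := m) rfl]
      exact (ObjectProperty.monotone_extensionProduct_right Q ih).trans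
        (ObjectProperty.le_retractClosure _)
  refine ⟨n * (m + 1) + m, ?_⟩
  rw [eq_top_iff, ← hn]
  calc PG.triangEnvelopeIter n ≤ (Q.extensionProductIter n).retractClosure :=
        ObjectProperty.monotone_retractClosure (ObjectProperty.monotone_extensionProductIter hbase n)
    _ ≤ PE.triangEnvelopeIter (n * (m + 1) + m) := by
        rw [ObjectProperty.retractClosure_le_iff]
        exact key n

end Groth.Agent.S1031
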