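import Groth.Statements.S10310
import Groth.Agent.H52.ChartAt
import Groth.Agent.H50.AtMor
import Groth.Agent.S1608

set_option autoImplicit false
universe u
open CategoryTheory CategoryTheory.Limits AlgebraicGeometry
open AlgSp

namespace Groth.Agent.S10310

open Groth.Agent.H52

/-- A morphism locally of finite type is locally quasi-finite if and only if it has relative dimension 0
at every point. -/
theorem result {S : Scheme.{u}} {X Y : AlgSp.Space S} (f : X ⟶ Y)
    (hf : AlgSp.LocP @LocallyOfFiniteType f.hom) :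
    AlgSp.LocP (@LocallyQuasiFinite ⊓ @LocallyOfFiniteType) f.hom ↔
      ∀ x : AlgSp.Points X.obj, AlgSp.HasAtMor (fun _ _ h u => FlatMor.fibreDimAt h u = 0) f.hom x := by
  constructor
  · intro hl x
    obtain ⟨U, V, a, b, h, u, ha, hb, comm, hu⟩ :=
      exists_chart_diagram_at X.property Y.property f.hom x
    obtain ⟨h1, h2⟩ := hl a b h ha hb comm
    have h1' : LocallyQuasiFinite h.left := h1
    have h2' : LocallyOfFiniteType h.left := h2
    refine ⟨U, V, a, b, h, u, ha, hb, comm, hu, ?_⟩
    have := Groth.Agent.S1608.fibreDimAt_eq_zero_of_quasiFiniteAt h.left u (h.left.quasiFiniteAt u)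
    change FlatMor.fibreDimAt h.left u = 0
    rw [this]; rfl
  · intro H
    refine Groth.Agent.H50.locP_of_forall_hasAtMor_nbhd etLocal_lqf f.hom fun x => ?_
    obtain ⟨U, V, a, b, h, u, ha, hb, comm, hu, hdim⟩ := H x
    have h2 : LocallyOfFiniteType h.left := hf a b h ha hb comm
    have hq : h.left.QuasiFiniteAt u :=
      Groth.Agent.S1608.quasiFiniteAt_of_fibreDimAt_eq_zero h.left u (by rw [hdim]; rfl)
    refine ⟨U, V, a, b, h, u, ha, hb, comm, hu, h.left.quasiFiniteLocus, hq, ?_, ?_⟩
    · exact (inferInstance : LocallyQuasiFinite (h.left.quasiFiniteLocus.ι ≫ h.left))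
    · exact (inferInstance : LocallyOfFiniteType (h.left.quasiFiniteLocus.ι ≫ h.left))

end Groth.Agent.S10310
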