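import Groth.Statements.S10314
import Groth.Agent.H52.ChartIndep
import Groth.Agent.H52.ChartAt
import Groth.Agent.H52.NoethSpec
import Groth.Agent.H60.LocalDimFlat
import Groth.Agent.H9.Equidim

set_option autoImplicit false
universe u
open CategoryTheory CategoryTheory.Limits AlgebraicGeometry
open AlgSp

namespace Groth.Agent.S10314

open Groth.Agent.H52

/-- For a flat morphism locally of finite type of relative dimension d between locally Noetherian
algebraic spaces, the dimension of X at a point equals the dimension of Y at the image point plus d. -/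
theorem result {S : Scheme.{u}} {X Y : AlgSp.Space S} (f : X ⟶ Y)
    (hX : AlgSp.IsLocNoethSp X.obj) (hY : AlgSp.IsLocNoethSp Y.obj) (hf : AlgSp.LocP @Flat f.hom)
    (hf' : AlgSp.LocP @LocallyOfFiniteType f.hom) (d : ℕ)
    (hd : ∀ x : AlgSp.Points X.obj, AlgSp.HasAtMor (fun _ _ h u => FlatMor.fibreDimAt h u = (d : WithBot ℕ∞)) f.hom x)
    (x : AlgSp.Points X.obj) (dX dY : WithBot ℕ∞) (hx : AlgSp.HasAt (fun U u => FlatMor.localDim ↥U u = dX) X.obj x)
    (hy : AlgSp.HasAt (fun U u => FlatMor.localDim ↥U u = dY) Y.obj (AlgSp.Points.map f.hom x)) :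
    dX = dY + (d : WithBot ℕ∞) := by
  obtain ⟨U, V, a, b, h, u, ha, hb, comm, hu⟩ :=
    exists_chart_diagram_at X.property Y.property f.hom x
  have hflat : Flat h.left := hf a b h ha hb comm
  have hlft : LocallyOfFiniteType h.left := hf' a b h ha hb comm
  have hUn : IsLocallyNoetherian U.left := isLocallyNoetherian_chart hX a ha
  have hVn : IsLocallyNoetherian V.left := isLocallyNoetherian_chart hY b hb
  have hall : ∀ u' : ↥U.left, FlatMor.fibreDimAt h.left u' = (d : WithBot ℕ∞) := fun u' =>
    fibreDimAt_eq_of_hasAtMor f.hom _ _ (hd (AlgSp.Points.ofPt a u')) a b h ha hb comm u' rfl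
  have hrel : Cyc.HasRelDim h.left d := by
    intro y T hT
    have : LocallyOfFiniteType (h.left.fiberToSpecResidueField y) :=
      MorphismProperty.pullback_snd _ _ inferInstance
    refine Groth.Agent.H9.Equidim.dim_component_eq_of_localDim (k := V.left.residueField y)
      (h.left.fiberToSpecResidueField y) d (fun a' => ?_) T hT
    rw [Groth.Agent.H9.FibDim.localDim_fiber]
    exact hall _
  have key := Groth.Agent.H60.LocalDimFlat.localDim_eq h.left d hrel u
  have e1 : FlatMor.localDim ↥U.left u = dX := localDim_eq_of_hasAt x dX hx a ha u hu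
  have e2 : FlatMor.localDim ↥V.left (h.left u) = dY :=
    localDim_eq_of_hasAt _ dY hy b hb (h.left u) (by
      rw [← hu, AlgSp.Points.map_ofPt, comm, ofPt_yon_map_comp])
  rw [← e1, ← e2]
  exact key

end Groth.Agent.S10314
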