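import Groth.Statements.S10315
import Groth.Agent.H52.ChartIndep
import Groth.Agent.H52.ChartAt
import Groth.Agent.H52.NoethSpec
import Groth.Agent.H60.LocalDimFlat
import Groth.Agent.H9.Equidim
import Groth.Agent.H70.SmoothFibreDimComp

set_option autoImplicit false
universe u
open CategoryTheory CategoryTheory.Limits AlgebraicGeometry
open AlgSp

namespace Groth.Agent.S10315

open Groth.Agent.H52

/-- For a smooth morphism of locally Noetherian algebraic spaces, the dimension of X at x is the
dimension of Y at the image of x plus the relative dimension of f at x. -/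
theorem result {S : Scheme.{u}} {X Y : AlgSp.Space S} (f : X ⟶ Y)
    (hX : AlgSp.IsLocNoethSp X.obj) (hY : AlgSp.IsLocNoethSp Y.obj) (hf : AlgSp.LocP @Smooth f.hom)
    (x : AlgSp.Points X.obj) (d dX dY : WithBot ℕ∞)
    (hd : AlgSp.HasAtMor (fun _ _ h u => FlatMor.fibreDimAt h u = d) f.hom x)
    (hx : AlgSp.HasAt (fun U u => FlatMor.localDim ↥U u = dX) X.obj x)
    (hy : AlgSp.HasAt (fun U u => FlatMor.localDim ↥U u = dY) Y.obj (AlgSp.Points.map f.hom x)) :
    dX = dY + d := by
  obtain ⟨U, V, a, b, h, u, ha, hb, comm, hu⟩ :=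
    exists_chart_diagram_at X.property Y.property f.hom x
  have hsm : Smooth h.left := hf a b h ha hb comm
  have hUn : IsLocallyNoetherian U.left := isLocallyNoetherian_chart hX a ha
  have hVn : IsLocallyNoetherian V.left := isLocallyNoetherian_chart hY b hb
  have hdu : FlatMor.fibreDimAt h.left u = d :=
    fibreDimAt_eq_of_hasAtMor f.hom x d hd a b h ha hb comm u hu
  obtain ⟨n, W, huW, hWs⟩ :=
    Groth.Agent.H70.SmoothFibreDimComp.exists_smoothOfRelativeDimension h.left u
  have hWsm : Smooth (W.ι ≫ h.left) := SmoothOfRelativeDimension.smooth n (W.ι ≫ h.left)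
  have hdn : d = (n : WithBot ℕ∞) := by
    rw [← hdu]
    exact Groth.Agent.H70.SmoothFibreDimComp.fibreDimAt_of_local h.left (W.ι ≫ h.left) W.ι (𝟙 _)
      (Category.comp_id _) n ⟨u, huW⟩ u rfl
  have hrel : Cyc.HasRelDim (W.ι ≫ h.left) n := by
    intro y T hT
    have : LocallyOfFiniteType ((W.ι ≫ h.left).fiberToSpecResidueField y) :=
      MorphismProperty.pullback_snd _ _ inferInstance
    refine Groth.Agent.H9.Equidim.dim_component_eq_of_localDim (k := V.left.residueField y)
      ((W.ι ≫ h.left).fiberToSpecResidueField y) n (fun a' => ?_) T hT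
    rw [Groth.Agent.H9.FibDim.localDim_fiber]
    exact Groth.Agent.H70.SmoothFibreDim.fibreDimAt_eq n (W.ι ≫ h.left) _
  have key := Groth.Agent.H60.LocalDimFlat.localDim_eq (W.ι ≫ h.left) n hrel ⟨u, huW⟩
  have e0 : FlatMor.localDim ↥W.toScheme ⟨u, huW⟩ = FlatMor.localDim ↥U.left u :=
    Groth.Agent.H70.LocalDimEtale.localDim_eq_of_etale W.ι ⟨u, huW⟩
  have e1 : FlatMor.localDim ↥U.left u = dX := localDim_eq_of_hasAt x dX hx a ha u hu
  have e2 : FlatMor.localDim ↥V.left (h.left u) = dY :=
    localDim_eq_of_hasAt _ dY hy b hb (h.left u) (by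
      rw [← hu, AlgSp.Points.map_ofPt, comm, ofPt_yon_map_comp])
  rw [hdn, ← e1, ← e2, ← e0]
  exact key

end Groth.Agent.S10315
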