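import Groth.Statements.S10321
import Groth.Agent.H52.SL.Image

set_option autoImplicit false
universe u
open CategoryTheory CategoryTheory.Limits AlgebraicGeometry
open AlgSp

namespace Groth.Agent.S10321

/-- Let X be separated and locally quasi-finite over an affine scheme T, let T' -> T be etale with T'
affine, and let V' be an open subspace of T' ×_T X that is quasi-affine over T'. Then V' maps onto a
quasi-compact open subspace of X that is itself a scheme. -/
theorem result {S : Scheme.{u}} {T T' : Over S} [IsAffine T.left]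
    [IsAffine T'.left] (e : T' ⟶ T) [Etale e.left] {X P V' : AlgSp.Space S} (f : X ⟶ (AlgSp.ofScheme S).obj T)
    (hsep : AlgSp.IsSeparatedMor f.hom) (hqf : AlgSp.LocP (@LocallyQuasiFinite ⊓ @LocallyOfFiniteType) f.hom)
    (p1 : P ⟶ (AlgSp.ofScheme S).obj T') (p2 : P ⟶ X)
    (sq : IsPullback p2.hom p1.hom f.hom ((AlgSp.yon S).map e)) (j : V' ⟶ P)
    (hj : AlgSp.RepWith @IsOpenImmersion j.hom) (hqa : AlgSp.IsQuasiAffineMor (j ≫ p1).hom) :
    ∃ (W : Over S) (i : (AlgSp.yon S).obj W ⟶ X.obj), AlgSp.RepWith @IsOpenImmersion i ∧ CompactSpace ↥W.left ∧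
      Set.range (AlgSp.Points.map i) = Set.range (AlgSp.Points.map (j ≫ p2).hom) := by
  have hT : AlgSp.IsAlgSpace ((AlgSp.yon S).obj T) := AlgSp.IsAlgSpace.yon_obj T
  obtain ⟨Z, ⟨ψ⟩⟩ := Groth.Agent.H52.SL.exists_iso_yon_of_sep_lqf X.property f.hom hsep hqf
  -- `V'` is a quasi-affine scheme
  obtain ⟨V0, i0, fst0, sq0, hV0⟩ := hqa (Z := T') inferInstance (𝟙 _)
  haveI : IsIso fst0 := sq0.isIso_fst_of_isIso (IsIso.id _)
  haveI : CompactSpace ↥V0.left := hV0.toCompactSpace
  have hp2 : AlgSp.RepWith @Etale p2.hom := Groth.Agent.H52.SL.repWith_etale_of_isPullback_yon e sq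
  have hm : AlgSp.RepWith @Etale (fst0 ≫ (j ≫ p2).hom) := by
    have h1 := AlgSp.repWith_isMultiplicative (S := S) @Etale
    have hR : (AlgSp.RepWith (S := S) @Etale).RespectsIso := inferInstance
    refine (MorphismProperty.cancel_left_of_respectsIso (AlgSp.RepWith (S := S) @Etale) fst0 _).2 ?_
    exact MorphismProperty.comp_mem _ _ _
      (Groth.Agent.H50.repWith_mono (fun _ _ g (hg : IsOpenImmersion g) => (inferInstance : Etale g)) hj) hp2
  obtain ⟨W, i, hi, hWc, hir⟩ := Groth.Agent.H52.SL.exists_open_subscheme_image ψ _ hm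
  refine ⟨W, i, hi, hWc, ?_⟩
  rw [Groth.Agent.H52.SL.range_map_eq_range_ofPt, hir]
  ext x
  constructor
  · rintro ⟨y, rfl⟩
    exact ⟨AlgSp.Points.map fst0 y, by rw [AlgSp.Points.map_comp]⟩
  · rintro ⟨y, rfl⟩
    refine ⟨AlgSp.Points.map (inv fst0) y, ?_⟩
    rw [← AlgSp.Points.map_comp, ← Category.assoc, IsIso.inv_hom_id, Category.id_comp]

end Groth.Agent.S10321
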