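import Groth.Statements.S10325
import Groth.Agent.H51.CoprodFinite

set_option autoImplicit false
universe u
open CategoryTheory CategoryTheory.Limits AlgebraicGeometry
open AlgSp

namespace Groth.Agent.S10325

/-- A finite disjoint union of algebraic spaces finite over Y is finite over Y. -/
theorem result {S : Scheme.{u}} {n : ℕ} (X : Fin n → AlgSp.Space S) (Y : AlgSp.Space S)
    (g : ∀ i, X i ⟶ Y) (hg : ∀ i, AlgSp.IsFiniteMor (g i).hom) (c : Cofan fun i => (X i).obj) (hc : IsColimit c)
    (d : c.pt ⟶ Y.obj) (hd : ∀ i, c.inj i ≫ d = (g i).hom) : AlgSp.IsFiniteMor d := by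
  let F' : ULift.{u} (Fin n) → AlgSp.Sp S := fun i => (X i.down).obj
  let c' : Cofan F' := Cofan.mk c.pt (fun i => c.inj i.down)
  have hc' : IsColimit c' := by
    refine mkCofanColimit c' (fun s => Cofan.IsColimit.desc hc (fun i => s.inj ⟨i⟩)) ?_ ?_
    · intro s i
      exact Cofan.IsColimit.fac hc _ i.down
    · intro s m hm
      refine Cofan.IsColimit.hom_ext hc _ _ (fun i => ?_)
      rw [Cofan.IsColimit.fac]
      exact hm ⟨i⟩
  refine Groth.Agent.H51.CoprodFinite.isFiniteMor_desc c' hc' d (fun i => ?_)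
  change AlgSp.IsFiniteMor (c.inj i.down ≫ d)
  rw [hd]
  exact hg i.down

end Groth.Agent.S10325
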