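import Groth.Statements.S10327
import Groth.Agent.S10285
import Groth.Agent.S10288
import Groth.Agent.S10289
import Groth.Agent.S10290
import Groth.Agent.S10291

set_option autoImplicit false
universe u
open CategoryTheory CategoryTheory.Limits AlgebraicGeometry
open AlgSp

namespace Groth.Agent.S10327

/-- For f quasi-compact and quasi-separated, f is separated and universally closed if and only if the
valuative criterion holds, if and only if every valuative square has a unique lift. -/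
theorem result {S : Scheme.{u}} {X Y : AlgSp.Space S} (f : X ⟶ Y)
    (hqc : AlgSp.IsQuasiCompactMor f.hom) (hqs : AlgSp.IsQuasiSeparatedMor f.hom) :
    ((AlgSp.IsSeparatedMor f.hom ∧ AlgSp.IsUnivClosedMor f.hom) ↔ AlgSp.VC f.hom) ∧
    ((AlgSp.IsSeparatedMor f.hom ∧ AlgSp.IsUnivClosedMor f.hom) ↔
      (AlgSp.UniqVC f.hom ∧ AlgSp.ExistVCStrict f.hom)) := by
  have h1 : (AlgSp.IsSeparatedMor f.hom ∧ AlgSp.IsUnivClosedMor f.hom) → AlgSp.VC f.hom := fun h =>
    ⟨Groth.Agent.S10290.result f h.1, Groth.Agent.S10289.result f hqs h.2⟩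
  have h2 : AlgSp.VC f.hom → (AlgSp.IsSeparatedMor f.hom ∧ AlgSp.IsUnivClosedMor f.hom) := fun h =>
    ⟨Groth.Agent.S10291.result f hqs h.1, Groth.Agent.S10288.result f hqc h.2⟩
  refine ⟨⟨h1, h2⟩, ⟨fun h => ?_, fun h => ?_⟩⟩
  · exact ⟨(h1 h).1, (Groth.Agent.S10285.result f h.1).1 (h1 h).2⟩
  · have hs : AlgSp.IsSeparatedMor f.hom := Groth.Agent.S10291.result f hqs h.1
    exact h2 ⟨h.1, (Groth.Agent.S10285.result f hs).2 h.2⟩

end Groth.Agent.S10327
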