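import Groth.Statements.S10328
import Groth.Agent.H50.FlatLocus
import Groth.Agent.H52.ChartIndep
import Groth.Agent.S9354

set_option autoImplicit false
universe u
open CategoryTheory CategoryTheory.Limits AlgebraicGeometry
open AlgSp

namespace Groth.Agent.S10328

/-- The relative dimension of a composite at a point is at most the sum of the relative dimensions, with
equality when the first morphism is flat at the point. (The published part (2) allows more generally
flatness of a fibre of X -> Y over a field point of Z; only the case f flat at x is stated.) -/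
theorem result {S : Scheme.{u}} {X Y Z : AlgSp.Space S} (f : X ⟶ Y) (g : Y ⟶ Z)
    (hf : AlgSp.LocP @LocallyOfFiniteType f.hom) (hg : AlgSp.LocP @LocallyOfFiniteType g.hom)
    (x : AlgSp.Points X.obj) (a b : WithBot ℕ∞)
    (ha : AlgSp.HasAtMor (fun _ _ h u => FlatMor.fibreDimAt h u = a) f.hom x)
    (hb : AlgSp.HasAtMor (fun _ _ h u => FlatMor.fibreDimAt h u = b) g.hom (AlgSp.Points.map f.hom x)) :
    AlgSp.HasAtMor (fun _ _ h u => FlatMor.fibreDimAt h u ≤ a + b) (f ≫ g).hom x ∧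
    (AlgSp.IsFlatAtMor f.hom x → AlgSp.HasAtMor (fun _ _ h u => FlatMor.fibreDimAt h u = a + b) (f ≫ g).hom x) := by
  have hX := X.property
  have hY := Y.property
  have hZ := Z.property
  obtain ⟨U₀, V₀, a₀, b₀, k₀, u₀, ha₀, hb₀, comm₀, hu₀⟩ :=
    Groth.Agent.H52.exists_chart_diagram_at hX hY f.hom x
  obtain ⟨W, c, hc, hcs⟩ := hZ.atlas
  obtain ⟨U, V, pU, pV, k, l, hA, hB, comm1, comm2, -, -, -, -, hpUs⟩ :=
    Groth.Agent.H50.exists_refine3 f.hom g.hom a₀ b₀ k₀ ha₀ hb₀ comm₀ c hc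
  obtain ⟨u, hu⟩ := (hpUs hcs).surj u₀
  have hx1 : AlgSp.Points.ofPt ((AlgSp.yon S).map pU ≫ a₀) u = x := by
    rw [Groth.Agent.H52.ofPt_yon_map_comp, hu, hu₀]
  have hy1 : AlgSp.Points.ofPt ((AlgSp.yon S).map pV ≫ b₀) (k.left u) = AlgSp.Points.map f.hom x := by
    rw [← hx1, AlgSp.Points.map_ofPt, comm1]
    exact (Groth.Agent.H52.ofPt_yon_map_comp k _ u).symm
  haveI i1 : LocallyOfFiniteType k.left := hf _ _ k hA hB comm1
  haveI i2 : LocallyOfFiniteType l.left := hg _ c l hB hc comm2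
  have ea : FlatMor.fibreDimAt k.left u = a :=
    Groth.Agent.H52.fibreDimAt_eq_of_hasAtMor f.hom x a ha _ _ k hA hB comm1 u hx1
  have eb : FlatMor.fibreDimAt l.left (k.left u) = b :=
    Groth.Agent.H52.fibreDimAt_eq_of_hasAtMor g.hom (AlgSp.Points.map f.hom x) b hb _ c l hB hc comm2
      (k.left u) hy1
  have key := Groth.Agent.S9354.result k.left l.left u
  have commA : ((AlgSp.yon S).map pU ≫ a₀) ≫ (f ≫ g).hom = (AlgSp.yon S).map (k ≫ l) ≫ c := by
    calc ((AlgSp.yon S).map pU ≫ a₀) ≫ (f ≫ g).hom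
        = (((AlgSp.yon S).map pU ≫ a₀) ≫ f.hom) ≫ g.hom := (Category.assoc _ _ _).symm
      _ = (AlgSp.yon S).map k ≫ (((AlgSp.yon S).map pV ≫ b₀) ≫ g.hom) := by
          rw [comm1, Category.assoc]
      _ = (AlgSp.yon S).map k ≫ (AlgSp.yon S).map l ≫ c := by rw [comm2]
      _ = (AlgSp.yon S).map (k ≫ l) ≫ c := by rw [Functor.map_comp, Category.assoc]
  refine ⟨⟨U, W, _, c, k ≫ l, u, hA, hc, commA, hx1, ?_⟩,
    fun hfl => ⟨U, W, _, c, k ≫ l, u, hA, hc, commA, hx1, ?_⟩⟩
  · show FlatMor.fibreDimAt (k.left ≫ l.left) u ≤ a + b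
    rw [← ea, ← eb]
    exact key.1
  · show FlatMor.fibreDimAt (k.left ≫ l.left) u = a + b
    rw [← ea, ← eb]
    exact key.2 (hfl _ _ k u hA hB comm1 hx1)

end Groth.Agent.S10328
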