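import Groth.Statements.S9993
import Groth.Agent.H50.OpenSubChart

set_option autoImplicit false
universe u
open CategoryTheory CategoryTheory.Limits AlgebraicGeometry
open AlgSp

namespace Groth.Agent.S9993

open Groth.Agent.H50

/-- A morphism f : X ⟶ Y of algebraic spaces has P at the point x in the neighbourhood sense (some chart
diagram through x whose top arrow has P on an open neighbourhood of the chosen point) if and only if
some open subspace X' of X through x has its restriction X' ⟶ Y in the class P etale locally on the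
source and target. -/
theorem result {S : Scheme.{u}} (P : MorphismProperty Scheme.{u})
    (hP : P = @LocallyOfFiniteType ∨ P = @LocallyOfFinitePresentation ∨ P = @Flat ∨ P = @Smooth ∨ P = @Etale ∨
      (∀ ⦃A B : Scheme.{u}⦄ (g : A ⟶ B), P g ↔ (LocallyQuasiFinite g ∧ LocallyOfFiniteType g)) ∨
      (∀ ⦃A B : Scheme.{u}⦄ (g : A ⟶ B), P g ↔ (LocallyOfFiniteType g ∧ FormallyUnramified g)))
    {X Y : AlgSp.Space S} (f : X ⟶ Y) (x : AlgSp.Points X.obj) :
    AlgSp.HasAtMor (fun U _ h u => ∃ W : U.Opens, u ∈ W ∧ P (W.ι ≫ h)) f.hom x ↔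
      ∃ (X' : AlgSp.Space S) (j : X' ⟶ X), AlgSp.RepWith @IsOpenImmersion j.hom ∧
        x ∈ Set.range (AlgSp.Points.map j.hom) ∧ AlgSp.LocP P (j ≫ f).hom := by
  have hE := Groth.Agent.H52.etLocal_of_list P hP
  constructor
  · rintro ⟨U, V, a, b, h, u, ha, hb, comm, hu, W₀, huW, hW₀⟩
    have hWo : IsOpen (Points.ofPt a '' (W₀ : Set ↥U.left)) :=
      Groth.Agent.H52.isOpenMap_ofPt_of_etale a ha _ W₀.isOpen
    obtain ⟨a₁, ha₁j, ha₁, has₁⟩ := exists_chart_openSub a ha W₀
    refine ⟨⟨openSub X.obj (Points.ofPt a '' (W₀ : Set ↥U.left)), isAlgSpace_openSub hWo X.property⟩,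
      ⟨openSubι X.obj _⟩, repWith_isOpenImmersion_openSubι hWo, ?_, ?_⟩
    · rw [range_map_openSubι]
      exact ⟨u, huW, hu⟩
    · refine Groth.Agent.H52.locP_of_one_chart hE (openSubι X.obj _ ≫ f.hom) a₁ b
        (opensOverι U W₀ ≫ h) ha₁ has₁ hb ?_ hW₀
      rw [← Category.assoc, ha₁j, Category.assoc, comm, Functor.map_comp, Category.assoc]
  · rintro ⟨X', j, hj, ⟨x', rfl⟩, hloc⟩
    obtain ⟨U, a, ha, has⟩ := X'.property.atlas
    obtain ⟨V, b, hb, hbs⟩ := Y.property.atlas
    have sq := hb.rep.isPullback' (a ≫ j.hom ≫ f.hom)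
    have hse : Etale (hb.rep.snd (a ≫ j.hom ≫ f.hom)).left := hb.property_snd _
    have hss : Surjective (hb.rep.snd (a ≫ j.hom ≫ f.hom)).left := hbs.property_snd _
    obtain ⟨u, rfl⟩ := Groth.Agent.H52.surjective_ofPt_of_surjective a has x'
    obtain ⟨u', hu'⟩ := hss.surj u
    have hι : RepWith @Etale ((yon S).map (hb.rep.snd (a ≫ j.hom ≫ f.hom))) :=
      (repWith_yon_map_iff _ _).2 hse
    have := AlgSp.repWith_isMultiplicative (S := S) @Etale
    have ha' : RepWith @Etale ((yon S).map (hb.rep.snd (a ≫ j.hom ≫ f.hom)) ≫ a) :=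
      (RepWith @Etale).comp_mem _ _ hι ha
    have hje : RepWith @Etale j.hom :=
      Groth.Agent.H50.repWith_mono (fun _ _ g hg => by
        have : IsOpenImmersion g := hg
        infer_instance) hj
    have ha'' : RepWith @Etale (((yon S).map (hb.rep.snd (a ≫ j.hom ≫ f.hom)) ≫ a) ≫ j.hom) :=
      (RepWith @Etale).comp_mem _ _ ha' hje
    have comm' : ((yon S).map (hb.rep.snd (a ≫ j.hom ≫ f.hom)) ≫ a) ≫ (j ≫ f).hom =
        (yon S).map (hb.rep.fst' (a ≫ j.hom ≫ f.hom)) ≫ b := by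
      show ((yon S).map _ ≫ a) ≫ j.hom ≫ f.hom = _
      rw [Category.assoc]
      exact sq.w.symm
    have comm : (((yon S).map (hb.rep.snd (a ≫ j.hom ≫ f.hom)) ≫ a) ≫ j.hom) ≫ f.hom =
        (yon S).map (hb.rep.fst' (a ≫ j.hom ≫ f.hom)) ≫ b := by
      rw [Category.assoc]
      exact comm'
    refine ⟨_, V, _, b, hb.rep.fst' (a ≫ j.hom ≫ f.hom), u', ha'', hb, comm, ?_, ⊤, trivial, ?_⟩
    · rw [← Points.map_ofPt, Groth.Agent.H52.ofPt_yon_map_comp, hu']
    · exact hE.precomp _ _ inferInstance (hloc _ b _ ha' hb comm')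

end Groth.Agent.S9993
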