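import Groth.Statements.S10329
import Groth.Agent.H52.ChartBC
import Groth.Agent.H52.FibreDimPB
import Groth.Agent.H52.ChartIndep
import Groth.Agent.H52.ChartAt
import Groth.Agent.H70.EtaleSquare
import Groth.Agent.S1608
import Groth.Agent.S9993

set_option autoImplicit false
universe u
open CategoryTheory CategoryTheory.Limits AlgebraicGeometry
open AlgSp

namespace Groth.Agent.S10329

open Groth.Agent.H52

/-- If the fibre of a morphism locally of finite type has dimension 0 at a point, then the morphism is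
locally quasi-finite on some open subspace containing the image of that point. -/
theorem result {S : Scheme.{u}} {X Y F : AlgSp.Space S} (f : X ⟶ Y)
    (hf : AlgSp.LocP @LocallyOfFiniteType f.hom) (k : Type u) [Field k] (str : Spec (.of k) ⟶ S)
    (y : (AlgSp.yon S).obj (Over.mk str) ⟶ Y.obj) (p : F ⟶ X) (q : F.obj ⟶ (AlgSp.yon S).obj (Over.mk str))
    (sq : IsPullback p.hom q f.hom y) (z : AlgSp.Points F.obj)
    (hz : AlgSp.HasAt (fun U u => FlatMor.localDim ↥U u = 0) F.obj z) :
    ∃ (X' : AlgSp.Space S) (j : X' ⟶ X), AlgSp.RepWith @IsOpenImmersion j.hom ∧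
      AlgSp.Points.map p.hom z ∈ Set.range (AlgSp.Points.map j.hom) ∧
      AlgSp.LocP (@LocallyQuasiFinite ⊓ @LocallyOfFiniteType) (j ≫ f).hom := by
  classical
  obtain ⟨U, V, a, b, h, u, ha, hb, comm, hu⟩ :=
    exists_chart_diagram_at X.property Y.property f.hom (AlgSp.Points.map p.hom z)
  have hlft : LocallyOfFiniteType h.left := hf a b h ha hb comm
  obtain ⟨U', V', a', b', h', π, gV, u', ha', hb', comm', hu', hπ, hpb, -, -⟩ :=
    exists_chart_diagram_baseChange Y.property (AlgSp.IsAlgSpace.yon_obj (Over.mk str)) sq z a b h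
      ha hb comm u hu
  have hld : FlatMor.localDim ↥U'.left u' = 0 := localDim_eq_of_hasAt z 0 hz a' ha' u' hu'
  -- `V'` is discrete
  obtain ⟨β, rfl⟩ := (AlgSp.yon S).map_surjective b'
  have hβe : Etale β.left := (AlgSp.repWith_yon_map_iff _ _).1 hb'
  have hβq : LocallyQuasiFinite β.left := Groth.Agent.H70.EtaleSquare.locallyQuasiFinite_of_etale β.left
  have hdisc : _root_.IsDiscrete (β.left ⁻¹' {β.left (h'.left u')}) :=
    Scheme.Hom.isDiscrete_preimage_singleton β.left _
  have huniv : β.left ⁻¹' {β.left (h'.left u')} = Set.univ := by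
    ext v
    simp only [Set.mem_preimage, Set.mem_singleton_iff, Set.mem_univ, iff_true]
    exact Subsingleton.elim (α := PrimeSpectrum k) _ _
  have hopen : IsOpen ({h'.left u'} : Set ↥V'.left) := by
    rw [huniv] at hdisc
    have : DiscreteTopology ↥V'.left := by
      have h1 : DiscreteTopology ↥(Set.univ : Set ↥V'.left) := hdisc.to_subtype
      exact DiscreteTopology.of_continuous_injective
        (f := fun v : ↥V'.left => (⟨v, Set.mem_univ v⟩ : ↥(Set.univ : Set ↥V'.left)))
        (Continuous.subtype_mk continuous_id _) (fun v w hvw => congrArg Subtype.val hvw)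
    exact isOpen_discrete _
  -- the fibre dimension of `h'` at `u'`
  have hfd' : FlatMor.fibreDimAt h'.left u' = 0 := by
    rw [Groth.Agent.H9.FibDim.fibreDimAt_eq_tfd]
    unfold Groth.Agent.H9.FibDim.tfd
    have hop : IsOpen (h'.left ⁻¹' {h'.left u'}) := hopen.preimage h'.left.continuous
    rw [Groth.Agent.H9.FibDim.localDim_of_isOpenEmbedding hop.isOpenEmbedding_subtypeVal]
    exact hld
  have hfd : FlatMor.fibreDimAt h.left u = 0 := by
    rw [← hπ, ← fibreDimAt_eq_of_isPullback h.left gV.left π.left h'.left hpb u']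
    exact hfd'
  have hq : h.left.QuasiFiniteAt u :=
    Groth.Agent.S1608.quasiFiniteAt_of_fibreDimAt_eq_zero h.left u (by rw [hfd]; rfl)
  have hat : AlgSp.HasAtMor (fun U _ h u => ∃ W : U.Opens, u ∈ W ∧
      (@LocallyQuasiFinite ⊓ @LocallyOfFiniteType : MorphismProperty Scheme.{u}) (W.ι ≫ h)) f.hom
      (AlgSp.Points.map p.hom z) :=
    ⟨U, V, a, b, h, u, ha, hb, comm, hu, h.left.quasiFiniteLocus, hq,
      (inferInstance : LocallyQuasiFinite (h.left.quasiFiniteLocus.ι ≫ h.left)),
      (inferInstance : LocallyOfFiniteType (h.left.quasiFiniteLocus.ι ≫ h.left))⟩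
  exact (Groth.Agent.S9993.result (@LocallyQuasiFinite ⊓ @LocallyOfFiniteType)
    (Or.inr (Or.inr (Or.inr (Or.inr (Or.inr (Or.inl (fun _ _ g => Iff.rfl))))))) f
    (AlgSp.Points.map p.hom z)).1 hat

end Groth.Agent.S10329
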