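import Groth.Statements.S10333
import Groth.Agent.S10267
import Groth.Agent.H50.RedFactor
import Groth.Agent.H50.ClosedDesc
import Groth.Agent.H50.Basic
-- import your own Groth.Agent.* helpers here

set_option autoImplicit false
universe u
open CategoryTheory CategoryTheory.Limits AlgebraicGeometry
open AlgSp

namespace Groth.Agent.S10333

/-- Let f : Y -> X be a morphism of algebraic spaces over S that is quasi-compact and quasi-separated,
and X' -> X the normalization of X in Y (an integral morphism through which f factors, initial among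
such factorizations). If Y is reduced then X' is reduced. -/
theorem result {S : Scheme.{u}} {Y X X' : AlgSp.Space S} (f : Y ⟶ X)
    (hqc : AlgSp.IsQuasiCompactMor f.hom) (hqs : AlgSp.IsQuasiSeparatedMor f.hom) (ν : X' ⟶ X) (f' : Y ⟶ X')
    (hn : AlgSp.IsRelNormalization f.hom ν.hom f'.hom) (hY : AlgSp.IsReducedSp Y.obj) :
    AlgSp.IsReducedSp X'.obj := by
  obtain ⟨hfac, hνint, huniv⟩ := hn
  obtain ⟨Zr, ir, hZr, hir, hrange, hred⟩ :=
    Groth.Agent.H50.exists_isRedInduced X'.property Set.univ isClosed_univ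
  haveI : Mono ir :=
    Groth.Agent.H50.mono_of_repWith (fun _ _ g hg => by have := hg; infer_instance) hir
  obtain ⟨g, hg⟩ := Groth.Agent.H50.exists_factor_of_isReducedSp f'.hom ir hir hY
    (by rw [hrange]; exact Set.subset_univ _)
  let Zr' : AlgSp.Space S := ⟨Zr, hZr⟩
  let ir' : Zr' ⟶ X' := ObjectProperty.homMk ir
  have e1 : AlgSp.RepWith @IsIntegralHom ir :=
    Groth.Agent.H50.repWith_mono
      (fun _ _ g (hg : IsClosedImmersion g) => (inferInstance : IsIntegralHom g)) hir
  have e2 : AlgSp.RepWith @IsIntegralHom ν.hom := (Groth.Agent.S10267.result ν).1.1 hνint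
  have e3 : AlgSp.RepWith @IsIntegralHom (ir ≫ ν.hom) := MorphismProperty.comp_mem _ _ _ e1 e2
  have hπ : AlgSp.IsIntegralMor (ir ≫ ν.hom) := (Groth.Agent.S10267.result (ir' ≫ ν)).1.2 e3
  have hgπ : g ≫ (ir ≫ ν.hom) = f.hom := by rw [← Category.assoc, hg, hfac]
  obtain ⟨h, ⟨hh1, hh2⟩, -⟩ := huniv hZr (ir ≫ ν.hom) g hπ hgπ
  obtain ⟨k, -, hkuniq⟩ := huniv X'.property ν.hom f'.hom hνint hfac
  have e4 : h ≫ ir = k :=
    hkuniq _ ⟨by rw [← Category.assoc, hh1, hg], by rw [Category.assoc, hh2]⟩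
  have e5 : 𝟙 X'.obj = k := hkuniq _ ⟨Category.comp_id _, Category.id_comp _⟩
  have hsplit : h ≫ ir = 𝟙 X'.obj := e4.trans e5.symm
  haveI : IsSplitEpi ir := ⟨⟨⟨h, hsplit⟩⟩⟩
  haveI : IsIso ir := isIso_of_mono_of_isSplitEpi ir
  obtain ⟨U, p, hpe, hps, hU⟩ := hred
  haveI := AlgSp.repWith_isMultiplicative (S := S) @Etale
  haveI := AlgSp.repWith_isMultiplicative (S := S) @Surjective
  refine ⟨U, p ≫ ir, ?_, ?_, hU⟩
  · exact MorphismProperty.comp_mem _ _ _ hpe
      (MorphismProperty.of_isIso (AlgSp.RepWith @Etale) ir)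
  · exact MorphismProperty.comp_mem _ _ _ hps
      (MorphismProperty.of_isIso (AlgSp.RepWith @Surjective) ir)

end Groth.Agent.S10333
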