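import Groth.Statements.S10335
import Groth.Agent.H52.TrdegBC
import Groth.Agent.H52.LocPBC
import Groth.Agent.H52.EtLocalInst
import Groth.Agent.H52.Points

set_option autoImplicit false
universe u
open CategoryTheory CategoryTheory.Limits AlgebraicGeometry
open AlgSp

namespace Groth.Agent.S10335
open Groth.Agent.H52 Groth.Agent.H25.TrdegCharts

theorem cancel_aux (e : WithBot ℕ∞) (n m : ℕ)
    (h : ((n + m : ℕ) : WithBot ℕ∞) = e + ((n : ℕ∞) : WithBot ℕ∞)) : e = (m : WithBot ℕ∞) := by
  induction e using WithBot.recBotCoe with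
  | bot =>
    rw [WithBot.bot_add] at h
    exact absurd h (WithBot.coe_ne_bot)
  | coe e₀ =>
    induction e₀ using ENat.recTopCoe with
    | top =>
      exfalso
      have h' : (((n + m : ℕ) : ℕ∞) : WithBot ℕ∞) = (((⊤ : ℕ∞) + (n : ℕ∞) : ℕ∞) : WithBot ℕ∞) := by
        exact_mod_cast h
      rw [top_add] at h'
      have h'' : ((n + m : ℕ) : ℕ∞) = ⊤ := by exact_mod_cast h'
      exact ENat.natCast_ne_top _ h''
    | coe k =>
      have h' : (n + m : ℕ) = k + n := by exact_mod_cast h
      have : k = m := by omega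
      rw [this]
      rfl

/-- The dimension of the local ring of the fibre read on a chart diagram only depends on the point. -/
theorem stalkDim_eq_of_hasAtMor {S : Scheme.{u}} {X Y : AlgSp.Sp S} (f : X ⟶ Y)
    (hf : AlgSp.LocP @LocallyOfFiniteType f) (x : AlgSp.Points X) (e : WithBot ℕ∞)
    (he : AlgSp.HasAtMor (fun _ _ h u =>
      ringKrullDim ↥((h.fiber (h u)).presheaf.stalk (h.asFiber u)) = e) f x)
    {U V : Over S} (a : (AlgSp.yon S).obj U ⟶ X) (b : (AlgSp.yon S).obj V ⟶ Y) (h : U ⟶ V)
    (ha : AlgSp.RepWith @Etale a) (hb : AlgSp.RepWith @Etale b)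
    (comm : a ≫ f = (AlgSp.yon S).map h ≫ b) (u : ↥U.left) (hu : AlgSp.Points.ofPt a u = x) :
    ringKrullDim ↥((h.left.fiber (h.left u)).presheaf.stalk (h.left.asFiber u)) = e := by
  have : LocallyOfFiniteType h.left := hf a b h ha hb comm
  obtain ⟨n, m, h1, h2, h3⟩ := Groth.Agent.H9.FibreFormula.fibre_formula h.left u
  have hd : AlgSp.HasAtMor (fun _ _ h u => FlatMor.fibreDimAt h u = ((n + m : ℕ) : WithBot ℕ∞)) f x :=
    ⟨U, V, a, b, h, u, ha, hb, comm, hu, h3⟩
  have hr : AlgSp.HasAtMor (fun _ _ h u => Dual3.resTrdeg h u = (n : Cardinal.{u})) f x :=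
    ⟨U, V, a, b, h, u, ha, hb, comm, hu, h1⟩
  have key := hasAtMor_fibreDim_eq_add f hf x _ e _ hd he hr
  rw [Cardinal.toENat_nat] at key
  rw [h2]
  exact (cancel_aux e n m key).symm

/-- In a base change square of algebraic spaces with f : X -> Y locally of finite type and f' : X' -> Y'
its base change along g : Y' -> Y, take a point x' of X' over x. The fibre of f' has a local ring at
x' whose dimension exceeds the corresponding dimension for the fibre of f at x by exactly the
transcendence degree of x over f(x) minus that of x' over f'(x'), and this excess is never negative;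
and for x in X and y' in Y' over the same point of Y some x' over both has excess zero. All four
quantities are read on some chart diagram through the point. -/
theorem result {S : Scheme.{u}} {X Y Y' X' : AlgSp.Space S} (f : X ⟶ Y) (g : Y' ⟶ Y)
    (g' : X' ⟶ X) (f' : X' ⟶ Y') (sq : IsPullback g'.hom f'.hom f.hom g.hom)
    (hf : AlgSp.LocP @LocallyOfFiniteType f.hom) :
    (∀ (x' : AlgSp.Points X'.obj) (e e' : WithBot ℕ∞) (r r' : Cardinal.{u}),
      AlgSp.HasAtMor (fun _ _ h u => ringKrullDim ↥((h.fiber (h u)).presheaf.stalk (h.asFiber u)) = e) f.hom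
          (AlgSp.Points.map g'.hom x') →
      AlgSp.HasAtMor (fun _ _ h u => Dual3.resTrdeg h u = r) f.hom (AlgSp.Points.map g'.hom x') →
      AlgSp.HasAtMor (fun _ _ h u => ringKrullDim ↥((h.fiber (h u)).presheaf.stalk (h.asFiber u)) = e') f'.hom x' →
      AlgSp.HasAtMor (fun _ _ h u => Dual3.resTrdeg h u = r') f'.hom x' →
        e' + ((Cardinal.toENat r' : ℕ∞) : WithBot ℕ∞) = e + ((Cardinal.toENat r : ℕ∞) : WithBot ℕ∞) ∧ e ≤ e') ∧
    (∀ (x : AlgSp.Points X.obj) (y' : AlgSp.Points Y'.obj) (e : WithBot ℕ∞),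
      AlgSp.Points.map f.hom x = AlgSp.Points.map g.hom y' →
      AlgSp.HasAtMor (fun _ _ h u => ringKrullDim ↥((h.fiber (h u)).presheaf.stalk (h.asFiber u)) = e) f.hom x →
        ∃ x' : AlgSp.Points X'.obj, AlgSp.Points.map g'.hom x' = x ∧ AlgSp.Points.map f'.hom x' = y' ∧
          AlgSp.HasAtMor (fun _ _ h u => ringKrullDim ↥((h.fiber (h u)).presheaf.stalk (h.asFiber u)) = e)
            f'.hom x') := by
  have hf' : AlgSp.LocP @LocallyOfFiniteType f'.hom :=
    locP_baseChange etLocal_lft X.property Y.property Y'.property sq hf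
  refine ⟨?_, ?_⟩
  · intro x' e e' r r' he hr he' hr'
    obtain ⟨U, V, a, b, h, u, ha, hb, comm, hu, heq⟩ := he
    have hlft : LocallyOfFiniteType h.left := hf a b h ha hb comm
    obtain ⟨U', V', a', b', h', π, gV, u', ha', hb', comm', hu', hπ, hpb, -, -⟩ :=
      exists_chart_diagram_baseChange Y.property Y'.property sq x' a b h ha hb comm u hu
    obtain ⟨b₀, n, b₀', n', h1, h2, h3, h4, h5, h6⟩ :=
      stalkDim_trdeg_of_isPullback h.left gV.left π.left h'.left hpb u'
    rw [hπ] at h1 h2
    have e_eq : e = b₀ := heq.symm.trans h1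
    have r_eq : r = n :=
      (resTrdeg_eq_of_hasAtMor f.hom _ r hr a b h ha hb comm u hu).symm.trans h2
    have e'_eq : e' = b₀' :=
      (stalkDim_eq_of_hasAtMor f'.hom hf' x' e' he' a' b' h' ha' hb' comm' u' hu').symm.trans h3
    have r'_eq : r' = n' :=
      (resTrdeg_eq_of_hasAtMor f'.hom x' r' hr' a' b' h' ha' hb' comm' u' hu').symm.trans h4
    rw [e_eq, r_eq, e'_eq, r'_eq, Cardinal.toENat_nat, Cardinal.toENat_nat]
    constructor
    · exact_mod_cast h5
    · have : b₀ ≤ b₀' := by omega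
      exact_mod_cast this
  · intro x y' e hxy he
    obtain ⟨U, V, a, b, h, u, ha, hb, comm, hu, heq⟩ := he
    have hlft : LocallyOfFiniteType h.left := hf a b h ha hb comm
    obtain ⟨x₀, hx₀1, hx₀2⟩ := exists_point_of_isPullback sq x y' hxy
    obtain ⟨U', V', a', b', h', π, gV, u₀, ha', hb', comm', hu₀, hπ, hpb, hag, hbg⟩ :=
      exists_chart_diagram_baseChange Y.property Y'.property sq x₀ a b h ha hb comm u
        (hu.trans hx₀1.symm)
    have hpt : gV.left.base (h'.left u₀) = h.left.base u := by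
      have := congrArg (fun k : U'.left ⟶ V.left => k.base u₀) hpb.w
      simp only [Scheme.Hom.comp_base, TopCat.comp_app] at this
      rw [← this]
      exact congrArg h.left.base hπ
    obtain ⟨z, hz1, hz2, hz3⟩ := exists_point_trdeg_ge' hpb u (h'.left u₀) hpt
    obtain ⟨b₀, n, b₀', n', h1, h2, h3, h4, h5, h6⟩ :=
      stalkDim_trdeg_of_isPullback h.left gV.left π.left h'.left hpb z
    have hz1' : π.left z = u := hz1
    rw [hz1'] at h1 h2
    have hge : Dual3.resTrdeg h.left u ≤ Dual3.resTrdeg h'.left z := hz3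
    rw [h2, h4] at hge
    have hge' : n ≤ n' := by exact_mod_cast hge
    have hbb : b₀' = b₀ := by omega
    refine ⟨AlgSp.Points.ofPt a' z, ?_, ?_, U', V', a', b', h', z, ha', hb', comm', rfl, ?_⟩
    · rw [AlgSp.Points.map_ofPt, hag, ofPt_yon_map_comp, hz1', hu]
    · rw [AlgSp.Points.map_ofPt, comm', ofPt_yon_map_comp]
      have hz2' : h'.left z = h'.left u₀ := hz2
      rw [hz2', ← ofPt_yon_map_comp, ← comm', ← AlgSp.Points.map_ofPt, hu₀, hx₀2]
    · show ringKrullDim ↥((h'.left.fiber (h'.left z)).presheaf.stalk (h'.left.asFiber z)) = e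
      rw [h3, hbb, ← h1]
      exact heq

end Groth.Agent.S10335
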