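import Groth.Statements.S10336
import Groth.Agent.H52.ZarLocalTarget

set_option autoImplicit false
universe u
open CategoryTheory CategoryTheory.Limits AlgebraicGeometry
open AlgSp

namespace Groth.Agent.S10336

open Groth.Agent.H52

/-- Integrality, finiteness and finite local freeness of a morphism f : X -> Y of algebraic spaces over
S can be checked on the restrictions of f over the members of a Zariski covering of Y by open
subspaces. -/
theorem result {S : Scheme.{u}} {X Y : AlgSp.Space S} (f : X ⟶ Y) {ι : Type u}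
    (Yi : ι → AlgSp.Space S) (j : ∀ i, Yi i ⟶ Y) (hj : AlgSp.IsZarCover (fun i => (Yi i).obj) (fun i => (j i).hom))
    (Xi : ι → AlgSp.Sp S) (p : ∀ i, Xi i ⟶ X.obj) (q : ∀ i, Xi i ⟶ (Yi i).obj)
    (sq : ∀ i, IsPullback (p i) (q i) f.hom (j i).hom) :
    ((∀ i, AlgSp.IsIntegralMor (q i)) → AlgSp.IsIntegralMor f.hom) ∧
    ((∀ i, AlgSp.IsFiniteMor (q i)) → AlgSp.IsFiniteMor f.hom) ∧
    ((∀ i, AlgSp.IsFinLocFreeMor (q i)) → AlgSp.IsFinLocFreeMor f.hom) := by
  have hj' : AlgSp.IsZarCover (fun i => (Yi i).obj) (fun i => (j i).hom) := hj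
  refine ⟨fun h => ?_, fun h => ?_, fun h => ?_⟩
  · have hrep : AlgSp.RepWith @IsIntegralHom f.hom :=
      repWith_of_zarCover @IsIntegralHom f.hom (fun i => (Yi i).obj) (fun i => (j i).hom) hj' Xi p q sq
        (fun i Z hZ l => by
          obtain ⟨W, c, fst, sqc, -, hc⟩ := h i hZ l
          exact ⟨W, c, fst, sqc, hc⟩)
    intro Z hZ g
    obtain ⟨W, c, fst, sqc⟩ := hrep.1 g
    have hc : IsIntegralHom c.left := hrep.2 _ _ _ sqc
    have : IsAffine Z.left := hZ
    exact ⟨W, c, fst, sqc, isAffine_of_isAffineHom c.left, hc⟩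
  · have hrep : AlgSp.RepWith @IsFinite f.hom :=
      repWith_of_zarCover @IsFinite f.hom (fun i => (Yi i).obj) (fun i => (j i).hom) hj' Xi p q sq
        (fun i Z hZ l => by
          obtain ⟨W, c, fst, sqc, -, hc⟩ := h i hZ l
          exact ⟨W, c, fst, sqc, hc⟩)
    intro Z hZ g
    obtain ⟨W, c, fst, sqc⟩ := hrep.1 g
    have hc : IsFinite c.left := hrep.2 _ _ _ sqc
    have : IsAffine Z.left := hZ
    exact ⟨W, c, fst, sqc, isAffine_of_isAffineHom c.left, hc⟩
  · have key : ∀ (Q : MorphismProperty Scheme.{u}) [IsZariskiLocalAtTarget Q],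
        (∀ ⦃A B : Scheme.{u}⦄ (g : A ⟶ B), AlgSp.finLocFree g → Q g) → AlgSp.RepWith Q f.hom := by
      intro Q _ hQ
      refine repWith_of_zarCover Q f.hom (fun i => (Yi i).obj) (fun i => (j i).hom) hj' Xi p q sq
        (fun i Z hZ l => ?_)
      obtain ⟨W, c, fst, sqc⟩ := (h i).1 l
      exact ⟨W, c, fst, sqc, hQ _ ((h i).2 _ _ _ sqc)⟩
    have h1 := key @IsFinite (fun _ _ g hg => hg.1)
    have h2 := key @Flat (fun _ _ g hg => hg.2.1)
    have h3 := key @LocallyOfFinitePresentation (fun _ _ g hg => hg.2.2)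
    exact ⟨h1.1, fun _ _ g fst snd sqg => ⟨h1.2 g fst snd sqg, h2.2 g fst snd sqg, h3.2 g fst snd sqg⟩⟩

end Groth.Agent.S10336
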