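import Groth.Statements.S1034
import Groth.Agent.S0986
import Mathlib.CategoryTheory.Limits.Preserves.Shapes.Products

set_option autoImplicit false
universe v v' u u'
open CategoryTheory CategoryTheory.Limits
open DerLim

namespace Groth.Agent.S1034

section Helpers

open CategoryTheory.Limits

variable {D : Type u} [Category.{v} D] [Preadditive D] {A : Type u'} [Category.{v'} A]
  [Abelian A]

lemma hasCoproduct_map (G : D ⥤ A) (K : ℕ → D) [HasCoproduct K]
    [PreservesColimit (Discrete.functor K) G] : HasCoproduct (fun n => G.obj (K n)) :=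
  ⟨⟨⟨_, isColimitCofanMkObjOfIsColimit G K _ (coproductIsCoproduct K)⟩⟩⟩

lemma sigmaComparison_comp_map_one_sub_shiftMap (G : D ⥤ A) [G.Additive] (K : ℕ → D)
    (f : ∀ n, K n ⟶ K (n + 1)) [HasCoproduct K] [HasCoproduct (fun n => G.obj (K n))]
    (g : ∀ n, G.obj (K n) ⟶ G.obj (K (n + 1))) (hg : ∀ n, g n = G.map (f n)) :
    sigmaComparison G K ≫ G.map (𝟙 _ - DerLim.shiftMap K f) =
      (𝟙 _ - DerLim.shiftMap (fun n => G.obj (K n)) g) ≫ sigmaComparison G K := by
  apply Sigma.hom_ext
  intro n
  unfold DerLim.shiftMap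
  have h1 : Sigma.ι (fun n => G.obj (K n)) n ≫ sigmaComparison G K ≫
      G.map (𝟙 _ - Sigma.desc fun n => f n ≫ Sigma.ι K (n + 1)) =
      G.map (Sigma.ι K n) - G.map (f n) ≫ G.map (Sigma.ι K (n + 1)) := by
    rw [ι_comp_sigmaComparison_assoc, ← G.map_comp, Preadditive.comp_sub, Category.comp_id,
      Sigma.ι_desc, G.map_sub, G.map_comp]
  have h2 : Sigma.ι (fun n => G.obj (K n)) n ≫
      (𝟙 _ - Sigma.desc fun n => g n ≫ Sigma.ι (fun n => G.obj (K n)) (n + 1)) ≫
        sigmaComparison G K =
      G.map (Sigma.ι K n) - G.map (f n) ≫ G.map (Sigma.ι K (n + 1)) := by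
    rw [Preadditive.sub_comp, Category.id_comp, Preadditive.comp_sub, ι_comp_sigmaComparison,
      Sigma.ι_desc_assoc, Category.assoc, ι_comp_sigmaComparison, hg]
  rw [h1, h2]

lemma mono_map_one_sub_shiftMap [HasColimitsOfShape ℕ A]
    [HasExactColimitsOfShape ℕ A] (G : D ⥤ A) [G.Additive] (K : ℕ → D)
    (f : ∀ n, K n ⟶ K (n + 1)) [HasCoproduct K] [PreservesColimit (Discrete.functor K) G] :
    Mono (G.map (𝟙 _ - DerLim.shiftMap K f)) := by
  haveI : HasCoproduct (fun n => G.obj (K n)) := hasCoproduct_map G K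
  haveI : HasCoproduct (Functor.ofSequence (fun n => G.map (f n))).obj :=
    (inferInstance : HasCoproduct (fun n => G.obj (K n)))
  obtain ⟨w, hSE⟩ := Groth.Agent.S0986.result (Functor.ofSequence (fun n => G.map (f n)))
  have hm := hSE.mono_f
  have hcomm := sigmaComparison_comp_map_one_sub_shiftMap G K f
    (fun n => (Functor.ofSequence (fun n => G.map (f n))).map (homOfLE (Nat.le_succ n)))
    (fun n => Functor.ofSequence_map_homOfLE_succ _ n)
  have e : G.map (𝟙 _ - DerLim.shiftMap K f) = inv (sigmaComparison G K) ≫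
      (𝟙 _ - DerLim.shiftMap (fun n => G.obj (K n))
        (fun n => (Functor.ofSequence (fun n => G.map (f n))).map (homOfLE (Nat.le_succ n)))) ≫
      sigmaComparison G K := by
    rw [← hcomm, IsIso.inv_hom_id_assoc]
  rw [e]
  haveI : Mono (𝟙 _ - DerLim.shiftMap (fun n => G.obj (K n))
        (fun n => (Functor.ofSequence (fun n => G.map (f n))).map (homOfLE (Nat.le_succ n)))) :=
    hm
  infer_instance

lemma exists_iso_of_cokernels {X Y Z Z' : A} (u : X ⟶ Y) (g : Y ⟶ Z) (g' : Y ⟶ Z')
    (w : u ≫ g = 0) (w' : u ≫ g' = 0) (h : (ShortComplex.mk u g w).Exact)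
    (h' : (ShortComplex.mk u g' w').Exact) [Epi g] [Epi g'] :
    ∃ e : Z ≅ Z', g ≫ e.hom = g' := by
  haveI : Epi (ShortComplex.mk u g w).g := ‹Epi g›
  haveI : Epi (ShortComplex.mk u g' w').g := ‹Epi g'›
  refine ⟨IsColimit.coconePointUniqueUpToIso h.gIsCokernel h'.gIsCokernel, ?_⟩
  exact IsColimit.comp_coconePointUniqueUpToIso_hom h.gIsCokernel h'.gIsCokernel
    WalkingParallelPair.one

end Helpers

open CategoryTheory.Pretriangulated in
/-- Let D be a pretriangulated category with countable direct sums, A an abelian category with exact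
colimits of shape ℕ, and H : D ⥤ A a homological functor that preserves countable direct sums. If L
(with maps iₙ : Kₙ ⟶ L) is a homotopy colimit of a system (Kₙ, fₙ), then H(L) is the colimit of the
H(Kₙ): there is an isomorphism colimₙ H(Kₙ) ≅ H(L) compatible with the maps H(iₙ). -/
theorem result {D : Type u} [Category.{v} D] [Preadditive D] [Limits.HasZeroObject D] [HasShift D ℤ]
    [∀ n : ℤ, (shiftFunctor D n).Additive] [Pretriangulated D] [IsTriangulated D] [HasColimitsOfShape (Discrete ℕ) D]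
    {A : Type u'} [Category.{v'} A] [Abelian A] [HasColimitsOfShape ℕ A] [HasExactColimitsOfShape ℕ A]
    (H : D ⥤ A) [H.IsHomological] [PreservesColimitsOfShape (Discrete ℕ) H]
    (K : ℕ → D) (f : ∀ n, K n ⟶ K (n + 1)) (L : D) (i : ∀ n, K n ⟶ L) (hL : DerLim.IsHocolim K f L i) :
    ∃ e : colimit (Functor.ofSequence (fun n => H.map (f n))) ≅ H.obj L,
      ∀ n : ℕ, colimit.ι (Functor.ofSequence (fun n => H.map (f n))) n ≫ e.hom = H.map (i n) := by
  obtain ⟨c, hT⟩ := hL
  haveI hcopH : HasCoproduct (fun n => H.obj (K n)) := hasCoproduct_map H K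
  -- `H (u[1])` is a mono
  have hmono1 : Mono (H.map ((shiftFunctor D (1 : ℤ)).map (𝟙 (∐ K) - DerLim.shiftMap K f))) :=
    mono_map_one_sub_shiftMap (shiftFunctor D (1 : ℤ) ⋙ H) K f
  have ex0 := H.map_distinguished_exact _ hT
  have ex1 := H.map_distinguished_exact _ (rot_of_distTriang _ hT)
  have ex2 := H.map_distinguished_exact _ (rot_of_distTriang _ (rot_of_distTriang _ hT))
  have hc0 : H.map c = 0 := by
    have h : H.map c ≫
        H.map (-(shiftFunctor D (1 : ℤ)).map (𝟙 (∐ K) - DerLim.shiftMap K f)) = 0 :=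
      ((shortComplexOfDistTriangle _
        (rot_of_distTriang _ (rot_of_distTriang _ hT))).map H).zero
    rw [Functor.map_neg, Preadditive.comp_neg, neg_eq_zero] at h
    exact (cancel_mono
      (H.map ((shiftFunctor D (1 : ℤ)).map (𝟙 (∐ K) - DerLim.shiftMap K f)))).1
        (by rw [h, zero_comp])
  have hepi : Epi (H.map (Sigma.desc i)) := ex1.epi_f hc0
  obtain ⟨w, hSE⟩ := @Groth.Agent.S0986.result A _ _ _ _
    (Functor.ofSequence (fun n => H.map (f n))) hcopH
  have hcomm := sigmaComparison_comp_map_one_sub_shiftMap H K f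
    (fun n => (Functor.ofSequence (fun n => H.map (f n))).map (homOfLE (Nat.le_succ n)))
    (fun n => Functor.ofSequence_map_homOfLE_succ _ n)
  have hup : (𝟙 (∐ K) - DerLim.shiftMap K f) ≫ Sigma.desc i = 0 :=
    comp_distTriang_mor_zero₁₂ _ hT
  have w' : (𝟙 _ - DerLim.shiftMap (fun n => H.obj (K n))
      (fun n => (Functor.ofSequence (fun n => H.map (f n))).map (homOfLE (Nat.le_succ n)))) ≫
      sigmaComparison H K ≫ H.map (Sigma.desc i) = 0 := by
    rw [← reassoc_of% hcomm, ← H.map_comp, hup, H.map_zero, comp_zero]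
  haveI hpres : PreservesColimit (Discrete.functor K) H := inferInstance
  haveI hiso : IsIso (sigmaComparison H K) := inferInstance
  have exS₂ : (ShortComplex.mk _ _ w').Exact := by
    have iso : ShortComplex.mk _ _ w' ≅ (shortComplexOfDistTriangle _ hT).map H :=
      ShortComplex.isoMk (@asIso _ _ _ _ (sigmaComparison H K) hiso)
        (@asIso _ _ _ _ (sigmaComparison H K) hiso)
        (Iso.refl _) hcomm (Category.comp_id _).symm
    exact ShortComplex.exact_of_iso iso.symm ex0
  have hepi' : Epi (sigmaComparison H K ≫ H.map (Sigma.desc i)) := epi_comp _ _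
  obtain ⟨e, he⟩ := @exists_iso_of_cokernels A _ _ _ _ _ _ _ _ _ w w' hSE.exact exS₂
    hSE.epi_g hepi'
  refine ⟨e, fun n => ?_⟩
  calc colimit.ι (Functor.ofSequence (fun n => H.map (f n))) n ≫ e.hom
      = (Sigma.ι (fun n => H.obj (K n)) n ≫
        Sigma.desc (fun n => colimit.ι (Functor.ofSequence (fun n => H.map (f n))) n)) ≫
          e.hom := (congrArg (fun t => t ≫ e.hom) (Sigma.ι_desc (f := fun n => H.obj (K n))
            (fun n => colimit.ι (Functor.ofSequence (fun n => H.map (f n))) n) n)).symm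
    _ = Sigma.ι (fun n => H.obj (K n)) n ≫
        (Sigma.desc (fun n => colimit.ι (Functor.ofSequence (fun n => H.map (f n))) n) ≫
          e.hom) := Category.assoc _ _ _
    _ = Sigma.ι (fun n => H.obj (K n)) n ≫ sigmaComparison H K ≫ H.map (Sigma.desc i) :=
        congrArg (fun t => Sigma.ι (fun n => H.obj (K n)) n ≫ t) he
    _ = H.map (i n) := by
        rw [ι_comp_sigmaComparison_assoc, ← H.map_comp, Sigma.ι_desc]

end Groth.Agent.S1034
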