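import Groth.Statements.S10345
import Mathlib
import Groth.Agent.H69.DecentCoheight
import Groth.Agent.H69.SoberDim
import Groth.Agent.H52.FQDecent

set_option autoImplicit false
set_option linter.style.haveILetI false
universe u
open CategoryTheory CategoryTheory.Limits AlgebraicGeometry Topology TopologicalSpace
open AlgSp

namespace Groth.Agent.S10345

/-- For a decent algebraic space X over a scheme S the Krull dimension of the topological space |X|
equals the dimension of X (the supremum of the Krull dimensions of the schemes etale over X). -/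
theorem result {S : Scheme.{u}} (X : AlgSp.Space S)
    (hX : AlgSp.IsDecent X.obj) :
    topologicalKrullDim (AlgSp.Points X.obj) = AlgSp.dim X.obj := by
  haveI : T0Space (AlgSp.Points X.obj) := H52.t0Space_of_isDecent X.property hX
  haveI : QuasiSober (AlgSp.Points X.obj) := H69.DecentSober.quasiSober_of_isDecent X.property hX
  rw [H69.SoberDim.topologicalKrullDim_eq_iSup]
  unfold AlgSp.dim
  apply le_antisymm
  · apply iSup_le
    intro x
    obtain ⟨U, a, u, -, hae, hu⟩ := H52.exists_affine_chart_at X.property x
    have h1 := H69.DecentCoheight.coheight_ofPt_eq X.property hX a hae u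
    rw [hu] at h1
    refine le_trans ?_ (le_iSup_of_le U (le_iSup_of_le a (le_iSup_of_le hae le_rfl)))
    rw [H69.SoberDim.topologicalKrullDim_eq_iSup (α := ↥U.left)]
    have h2 : H69.SoberDim.spCoheight x = H69.SoberDim.spCoheight u := h1.symm
    rw [h2]
    exact le_iSup (fun u : ↥U.left => ((H69.SoberDim.spCoheight u : ℕ∞) : WithBot ℕ∞)) u
  · apply iSup_le
    intro U
    apply iSup_le
    intro a
    apply iSup_le
    intro hae
    rw [H69.SoberDim.topologicalKrullDim_eq_iSup (α := ↥U.left)]
    apply iSup_le
    intro u
    have h1 : H69.SoberDim.spCoheight u = H69.SoberDim.spCoheight (AlgSp.Points.ofPt a u) :=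
      H69.DecentCoheight.coheight_ofPt_eq X.property hX a hae u
    rw [h1]
    exact le_iSup (fun x : AlgSp.Points X.obj =>
      ((H69.SoberDim.spCoheight x : ℕ∞) : WithBot ℕ∞)) (AlgSp.Points.ofPt a u)

end Groth.Agent.S10345
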