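import Groth.Statements.S10346
import Mathlib
import Groth.Agent.H69.DecentCoheight
import Groth.Agent.H69.SoberDim

set_option autoImplicit false
set_option linter.style.haveILetI false
universe u
open CategoryTheory CategoryTheory.Limits AlgebraicGeometry Topology TopologicalSpace
open AlgSp

namespace Groth.Agent.S10346

/-- Let S be a scheme and X a decent algebraic space over S. Then for every representable etale a : h_U
⟶ X from a scheme U and every point u of U with image x ∈ |X|, the local dimension of U at u (the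
dimension of X at x) equals the local dimension of the topological space |X| at x. -/
theorem result {S : Scheme.{u}} (X : AlgSp.Space S)
    (hX : AlgSp.IsDecent X.obj) {U : Over S} (a : (AlgSp.yon S).obj U ⟶ X.obj) (ha : AlgSp.RepWith @Etale a)
    (u : ↥U.left) :
    FlatMor.localDim ↥U.left u = FlatMor.localDim (AlgSp.Points X.obj) (AlgSp.Points.ofPt a u) := by
  haveI : T0Space (AlgSp.Points X.obj) := H52.t0Space_of_isDecent X.property hX
  haveI : QuasiSober (AlgSp.Points X.obj) := H69.DecentSober.quasiSober_of_isDecent X.property hX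
  have hco : ∀ w : ↥U.left, H69.SoberDim.spCoheight w =
      H69.SoberDim.spCoheight (AlgSp.Points.ofPt a w) := fun w =>
    H69.DecentCoheight.coheight_ofPt_eq X.property hX a ha w
  unfold FlatMor.localDim
  rw [H69.SoberDim.iInf_opens_eq, H69.SoberDim.iInf_opens_eq]
  apply le_antisymm
  · apply le_iInf
    rintro ⟨W, hxW⟩
    let V' : TopologicalSpace.Opens ↥U.left :=
      ⟨AlgSp.Points.ofPt a ⁻¹' (W : Set (AlgSp.Points X.obj)),
        W.isOpen.preimage (AlgSp.Points.continuous_ofPt a)⟩
    refine iInf_le_of_le ⟨V', hxW⟩ ?_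
    apply iSup_le
    rintro ⟨w, hw⟩
    rw [hco w]
    exact le_iSup (fun x' : ((W : Set (AlgSp.Points X.obj))) =>
      ((H69.SoberDim.spCoheight (x' : AlgSp.Points X.obj) : ℕ∞) : WithBot ℕ∞))
      ⟨AlgSp.Points.ofPt a w, hw⟩
  · apply le_iInf
    rintro ⟨V', huV⟩
    let W : TopologicalSpace.Opens (AlgSp.Points X.obj) :=
      ⟨AlgSp.Points.ofPt a '' (V' : Set ↥U.left),
        H52.isOpenMap_ofPt_of_etale a ha _ V'.isOpen⟩
    refine iInf_le_of_le ⟨W, ⟨u, huV, rfl⟩⟩ ?_
    apply iSup_le
    rintro ⟨x', w, hw, rfl⟩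
    change ((H69.SoberDim.spCoheight (AlgSp.Points.ofPt a w) : ℕ∞) : WithBot ℕ∞) ≤ _
    rw [← hco w]
    exact le_iSup (fun w' : ((V' : Set ↥U.left)) =>
      ((H69.SoberDim.spCoheight (w' : ↥U.left) : ℕ∞) : WithBot ℕ∞)) ⟨w, hw⟩

end Groth.Agent.S10346
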