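import Groth.Statements.S10348
import Groth.Agent.H52.DimLqf
import Groth.Agent.H52.Charts

set_option autoImplicit false
universe u
open CategoryTheory CategoryTheory.Limits AlgebraicGeometry Topology TopologicalSpace
open AlgSp

namespace Groth.Agent.S10348

/-- Let S be a scheme, X and Y algebraic spaces over S, and f : X ⟶ Y a morphism which is locally
quasi-finite; let x ∈ |X| have image y ∈ |Y|. Then the local ring of X at x has dimension at most
that of the local ring of Y at the point y (both dimensions read on etale charts through the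
points). -/
theorem result {S : Scheme.{u}} {X Y : AlgSp.Space S} (f : X ⟶ Y)
    (hf : AlgSp.LocP (@LocallyQuasiFinite ⊓ @LocallyOfFiniteType) f.hom) (x : AlgSp.Points X.obj)
    (d e : WithBot ℕ∞)
    (hx : AlgSp.HasAt (fun U u => ringKrullDim ↥(U.presheaf.stalk u) = d) X.obj x)
    (hy : AlgSp.HasAt (fun V v => ringKrullDim ↥(V.presheaf.stalk v) = e) Y.obj (AlgSp.Points.map f.hom x)) :
    d ≤ e := by
  obtain ⟨U, a, u, hae, hu, hd⟩ := hx
  obtain ⟨V, b, v, hbe, hv, he⟩ := hy
  obtain ⟨W, ψ, fst, sq⟩ := hbe.1 (a ≫ f.hom)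
  obtain ⟨h, rfl⟩ := (AlgSp.yon S).map_surjective fst
  have hψe : Etale ψ.left := hbe.2 _ _ _ sq
  have ha' : AlgSp.RepWith @Etale ((AlgSp.yon S).map ψ ≫ a) :=
    Groth.Agent.H52.repWith_yon_map_comp @Etale ψ hψe a hae
  have hh := hf ((AlgSp.yon S).map ψ ≫ a) b h ha' hbe (by rw [Category.assoc, sq.w])
  have hlqf : LocallyQuasiFinite h.left := hh.1
  have hpt : AlgSp.Points.ofPt b v = AlgSp.Points.ofPt (a ≫ f.hom) u := by
    rw [hv, ← AlgSp.Points.map_ofPt, hu]
  obtain ⟨w, hw1, hw2⟩ := Groth.Agent.H52.exists_of_ofPt_eq_ofPt sq v u hpt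
  have h1 := Groth.Agent.H52.ringKrullDim_stalk_le_of_flat ψ.left w
  have h2 := Groth.Agent.H52.ringKrullDim_stalk_le_of_locallyQuasiFinite h.left w
  rw [hw2] at h1
  rw [hw1] at h2
  rw [← hd, ← he]
  exact h1.trans h2

end Groth.Agent.S10348
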