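import Groth.Statements.S10352
import Groth.Agent.H52.FQEtale

set_option autoImplicit false
universe u
open CategoryTheory CategoryTheory.Limits AlgebraicGeometry Topology TopologicalSpace
open AlgSp
open Groth.Agent.H52

namespace Groth.Agent.S10352

/-- Let S be a scheme, X and Y algebraic spaces over S, and f : X ⟶ Y an etale morphism. If Y is decent
then X is decent. -/
theorem result {S : Scheme.{u}} {X Y : AlgSp.Space S} (f : X ⟶ Y)
    (hf : AlgSp.IsEtaleMor f.hom) (hY : AlgSp.IsDecent Y.obj) : AlgSp.IsDecent X.obj := by
  intro x
  obtain ⟨q, hq, -, hqc⟩ := hY (Points.map f.hom x)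
  exact exists_mono_quasiCompact_of_etale X.property Y.property f.hom hf x q hq hqc

end Groth.Agent.S10352
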