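import Groth.Statements.S10360
import Groth.Agent.H52.FQFibres

set_option autoImplicit false
universe u
open CategoryTheory CategoryTheory.Limits AlgebraicGeometry Topology TopologicalSpace
open AlgSp
open Groth.Agent.H52

namespace Groth.Agent.S10360

/-- (1) ⇔ (4): for an algebraic space X over a scheme S and x ∈ |X|, the fibres over x of |U| → |X| and
|U ×_X U| → |X| are finite for every etale h_U ⟶ X with U affine, if and only if x is represented by
a monomorphism Spec k ⟶ X which is representable quasi-compact. -/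
theorem result {S : Scheme.{u}} (X : AlgSp.Space S)
    (x : AlgSp.Points X.obj) :
    (∀ (U : Over S) (φ : (AlgSp.yon S).obj U ⟶ X.obj), IsAffine U.left → AlgSp.RepWith @Etale φ →
        ∀ (R : Over S) (s t : R ⟶ U), IsPullback ((AlgSp.yon S).map t) ((AlgSp.yon S).map s) φ φ →
          (AlgSp.Points.ofPt φ ⁻¹' {x}).Finite ∧ (AlgSp.Points.ofPt ((AlgSp.yon S).map t ≫ φ) ⁻¹' {x}).Finite) ↔
      ∃ p : AlgSp.FieldPt X.obj, AlgSp.Points.mk p = x ∧ Mono p.toHom ∧ AlgSp.RepWith @QuasiCompact p.toHom := by
  constructor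
  · intro H
    obtain ⟨U, a, u, hU, hae, hu⟩ := exists_affine_chart_at X.property x
    obtain ⟨R, s, fst, hR⟩ := hae.1 a
    obtain ⟨t, rfl⟩ := (yon S).map_surjective fst
    have hfinR := (H U a hU hae R s t hR).2
    rw [← hu] at hfinR
    obtain ⟨p, c, hm, hfac, hfin, hp⟩ :=
      exists_mono_fieldPt_of_finite_fibre_kernelPair a hae u s t hR hfinR
    refine ⟨p, hp.trans hu, hm, ?_⟩
    have : Mono p.toHom := hm
    refine repWith_quasiCompact_of_finite_fibres X.property p (fun V b hV hbe => ?_)
    obtain ⟨R', s', fst', hR'⟩ := hbe.1 b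
    obtain ⟨t', rfl⟩ := (yon S).map_surjective fst'
    rw [hp.trans hu]
    exact (H V b hV hbe R' s' t' hR').1
  · rintro ⟨p, rfl, hm, hq⟩ U φ hU hφ R s t hR
    have : IsAffine U.left := hU
    exact ⟨finite_fibre_of_quasiCompact p hq φ hφ,
      finite_fibre_kernelPair_of_quasiCompact p hq φ hφ s t hR⟩

end Groth.Agent.S10360
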