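import Groth.Statements.S10366
import Groth.Agent.H52.RedField

set_option autoImplicit false
universe u
open CategoryTheory CategoryTheory.Limits AlgebraicGeometry Topology TopologicalSpace
open AlgSp
open Groth.Agent.H52

namespace Groth.Agent.S10366

/-- (1) ⇔ (2): an algebraic space Z over a scheme S is reduced with |Z| a single point if and only if
there is a surjective flat morphism Spec k ⟶ Z from the spectrum of a field. -/
theorem result {S : Scheme.{u}} (Z : AlgSp.Space S) :
    (AlgSp.EtaleLocally (fun U => IsReduced U) Z.obj ∧ Nonempty (AlgSp.Points Z.obj) ∧ Subsingleton (AlgSp.Points Z.obj)) ↔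
      ∃ (k : Type u) (_ : Field k) (str : Spec (CommRingCat.of k) ⟶ S) (p : (AlgSp.yon S).obj (Over.mk str) ⟶ Z.obj),
        AlgSp.LocP @Flat p ∧ AlgSp.IsSurjectiveMor p := by
  constructor
  · rintro ⟨⟨U, a, hae, has, hred⟩, ⟨z₀⟩, hsub⟩
    exact exists_flat_surjective_field_of_reduced a hae has hred z₀ hsub
  · rintro ⟨k, hk, str, p, hpf, hps⟩
    obtain ⟨U, a, hae, has⟩ := Z.property.atlas
    refine ⟨⟨U, a, hae, has, isReduced_chart_of_flat_surjective_field str p hpf hps a hae⟩, ?_, ?_⟩
    · obtain ⟨y₀⟩ := nonempty_points_spec_field str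
      exact ⟨Points.map p y₀⟩
    · have := subsingleton_points_spec_field str
      exact hps.subsingleton

end Groth.Agent.S10366
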