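import Groth.Statements.S10367
import Groth.Agent.H52.FieldPts

set_option autoImplicit false
universe u
open CategoryTheory CategoryTheory.Limits AlgebraicGeometry Topology TopologicalSpace
open AlgSp
open Groth.Agent.H52

namespace Groth.Agent.S10367

/-- (2) ⇒ (3): if an algebraic space Z over a scheme S admits a surjective flat morphism Spec k ⟶ Z with
k a field, then it also admits such a morphism which is moreover locally of finite type. -/
theorem result {S : Scheme.{u}} (Z : AlgSp.Space S)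
    (k : Type u) [Field k] (str : Spec (CommRingCat.of k) ⟶ S) (p : (AlgSp.yon S).obj (Over.mk str) ⟶ Z.obj)
    (hpf : AlgSp.LocP @Flat p) (hps : AlgSp.IsSurjectiveMor p) :
    ∃ (k' : Type u) (_ : Field k') (str' : Spec (CommRingCat.of k') ⟶ S) (q : (AlgSp.yon S).obj (Over.mk str') ⟶ Z.obj),
      AlgSp.LocP @LocallyOfFiniteType q ∧ AlgSp.LocP @Flat q ∧ AlgSp.IsSurjectiveMor q := by
  obtain ⟨U, a₀, hae, has⟩ := Z.property.atlas
  obtain ⟨x₀⟩ := nonempty_points_spec_field str
  obtain ⟨u, -⟩ := surjective_ofPt_of_surjective a₀ has (AlgSp.Points.map p x₀)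
  obtain ⟨_, ⟨V, hV, rfl⟩, huV, -⟩ :=
    U.left.isBasis_affineOpens.exists_subset_of_mem_open (Set.mem_univ u) isOpen_univ
  obtain ⟨W, rfl⟩ : ∃ W : U.left.Opens, W = V := ⟨V, rfl⟩
  have hVaff : IsAffine W.toScheme := hV
  have hne : (Set.univ : Set ↥W.toScheme).Nonempty := ⟨⟨u, huV⟩, trivial⟩
  obtain ⟨v, -, hv⟩ := IsClosed.exists_closed_singleton isClosed_univ hne
  have hci : IsClosedImmersion (W.toScheme.fromSpecResidueField v) := by
    apply IsClosedImmersion.of_isPreimmersion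
    rw [Scheme.range_fromSpecResidueField]
    exact hv
  let φ : Spec (W.toScheme.residueField v) ⟶ U.left :=
    W.toScheme.fromSpecResidueField v ≫ W.ι
  have hφ : LocallyOfFiniteType φ := inferInstance
  let β : Over.mk (φ ≫ U.hom) ⟶ U := Over.homMk φ rfl
  have hβ : LocallyOfFiniteType β.left := hφ
  have hg := Groth.Agent.H50.goodProp_lft.{u}
  have h1 : AlgSp.LocP @LocallyOfFiniteType ((AlgSp.yon S).map β) :=
    Groth.Agent.H50.locP_of_repWith hg.etale ((AlgSp.repWith_yon_map_iff _ β).2 hβ)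
  have h2 : AlgSp.LocP @LocallyOfFiniteType a₀ :=
    Groth.Agent.H50.locP_of_repWith hg.etale (Groth.Agent.H50.repWith_mono hg.etale hae)
  have h3 : AlgSp.LocP @LocallyOfFiniteType ((AlgSp.yon S).map β ≫ a₀) :=
    locP_comp etLocal_lft (AlgSp.IsAlgSpace.yon_obj U) _ _ h1 h2
  obtain ⟨h4, h5⟩ := flat_surjective_fieldPt str p hpf hps (φ ≫ U.hom) ((AlgSp.yon S).map β ≫ a₀)
  exact ⟨_, inferInstance, φ ≫ U.hom, (AlgSp.yon S).map β ≫ a₀, h3, h4, h5⟩

end Groth.Agent.S10367
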