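import Groth.Statements.S10371
import Groth.Agent.H52.EpiFppf

set_option autoImplicit false
universe u
open CategoryTheory CategoryTheory.Limits AlgebraicGeometry Topology TopologicalSpace
open AlgSp
open Groth.Agent.H52

namespace Groth.Agent.S10371

/-- Two monomorphisms Z ⟶ X, Z' ⟶ X of algebraic spaces over a scheme S with image {x} in |X|, whose
sources admit a locally finitely presented, flat, surjective morphism from the spectrum of a field,
are isomorphic over X. -/
theorem result {S : Scheme.{u}} (X : AlgSp.Space S) (x : AlgSp.Points X.obj)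
    {Z Z' : AlgSp.Space S} (i : Z ⟶ X) (i' : Z' ⟶ X) [Mono i.hom] [Mono i'.hom]
    (hi : Set.range (AlgSp.Points.map i.hom) = {x}) (hi' : Set.range (AlgSp.Points.map i'.hom) = {x})
    (hZ : ∃ (k : Type u) (_ : Field k) (str : Spec (CommRingCat.of k) ⟶ S) (p : (AlgSp.yon S).obj (Over.mk str) ⟶ Z.obj),
        AlgSp.LocP @LocallyOfFinitePresentation p ∧ AlgSp.LocP @Flat p ∧ AlgSp.IsSurjectiveMor p)
    (hZ' : ∃ (k : Type u) (_ : Field k) (str : Spec (CommRingCat.of k) ⟶ S) (p : (AlgSp.yon S).obj (Over.mk str) ⟶ Z'.obj),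
        AlgSp.LocP @LocallyOfFinitePresentation p ∧ AlgSp.LocP @Flat p ∧ AlgSp.IsSurjectiveMor p) :
    ∃ e : Z' ≅ Z, e.hom ≫ i = i' := by
  obtain ⟨k, _, str, p, h2, h1, h3⟩ := hZ
  obtain ⟨k', _, str', p', h2', h1', h3'⟩ := hZ'
  have sq := IsPullback.of_hasPullback i.hom i'.hom
  have hW : AlgSp.IsAlgSpace (pullback i.hom i'.hom) :=
    isAlgSpace_of_isPullback sq X.property.diag Z.property Z'.property
  obtain ⟨z, hz⟩ : x ∈ Set.range (AlgSp.Points.map i.hom) := by rw [hi]; rfl
  obtain ⟨z', hz'⟩ : x ∈ Set.range (AlgSp.Points.map i'.hom) := by rw [hi']; rfl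
  obtain ⟨w, -, -⟩ := exists_point_of_isPullback sq z z' (hz.trans hz'.symm)
  have e1 : IsIso (pullback.fst i.hom i'.hom) :=
    isIso_of_mono_to_fppf_point str hW Z.property _ p h1 h2 h3 ⟨w⟩
  have e2 : IsIso (pullback.snd i.hom i'.hom) :=
    isIso_of_mono_to_fppf_point str' hW Z'.property _ p' h1' h2' h3' ⟨w⟩
  let e₀ : Z'.obj ≅ Z.obj := (asIso (pullback.snd i.hom i'.hom)).symm ≪≫
    asIso (pullback.fst i.hom i'.hom)
  refine ⟨(ObjectProperty.fullyFaithfulι (AlgSp.IsAlgSpace (S := S))).preimageIso e₀, ?_⟩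
  apply (ObjectProperty.ι (AlgSp.IsAlgSpace (S := S))).map_injective
  rw [Functor.map_comp, Functor.FullyFaithful.preimageIso_hom, Functor.FullyFaithful.map_preimage]
  change (inv (pullback.snd i.hom i'.hom) ≫ pullback.fst i.hom i'.hom) ≫ i.hom = i'.hom
  rw [Category.assoc, pullback.condition, IsIso.inv_hom_id_assoc]

end Groth.Agent.S10371
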