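import Groth.Statements.S10372
import Groth.Agent.H52.RedField

set_option autoImplicit false
universe u
open CategoryTheory CategoryTheory.Limits AlgebraicGeometry Topology TopologicalSpace
open AlgSp
open Groth.Agent.H52

namespace Groth.Agent.S10372

/-- A reduced, locally Noetherian algebraic space Z over a scheme S whose space of points is a single
point is regular (etale locally a regular scheme). -/
theorem result {S : Scheme.{u}} (Z : AlgSp.Space S)
    (hr : AlgSp.EtaleLocally (fun U => IsReduced U) Z.obj) (hN : AlgSp.IsLocNoethSp Z.obj)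
    [Nonempty (AlgSp.Points Z.obj)] [Subsingleton (AlgSp.Points Z.obj)] :
    AlgSp.EtaleLocally (fun U => IsLocallyNoetherian U ∧ ∀ u : ↥U, IsRegularLocalRing ↥(U.presheaf.stalk u)) Z.obj := by
  obtain ⟨U₁, a₁, hae₁, has₁, hred⟩ := hr
  obtain ⟨U₂, a₂, hae₂, has₂, hn⟩ := hN
  obtain ⟨z₀⟩ := ‹Nonempty (AlgSp.Points Z.obj)›
  obtain ⟨k₀, hk₀, str₀, p₀, hpf₀, hps₀⟩ :=
    exists_flat_surjective_field_of_reduced a₁ hae₁ has₁ hred z₀ inferInstance
  exact ⟨U₂, a₂, hae₂, has₂, hn, fun u => isRegularLocalRing_of_isField _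
    (isField_stalk_chart_of_flat_surjective_field str₀ p₀ hpf₀ hps₀ a₂ hae₂ u)⟩

end Groth.Agent.S10372
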