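import Groth.Statements.S10377
import Groth.Agent.H52.ConsSp

set_option autoImplicit false
universe u
open CategoryTheory CategoryTheory.Limits AlgebraicGeometry Topology TopologicalSpace
open AlgSp

namespace Groth.Agent.S10377
open Groth.Agent.H52

/-- Let S be a scheme with quasi-separated underlying space, X an algebraic space over S which is
quasi-separated over S, and E ⊆ |X|. Then E is etale locally constructible (its inverse image in
every scheme etale over X is locally constructible) exactly when E, as a subset of the topological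
space |X|, is locally constructible. (The published statement assumes X quasi-separated in the
absolute sense; this row assumes S has quasi-separated underlying space and X quasi-separated over
S, which together imply it.) -/
theorem result {S : Scheme.{u}} [QuasiSeparatedSpace ↥S]
    (X : AlgSp.Space S) (hX : AlgSp.IsQuasiSeparatedSp X.obj) (E : Set (AlgSp.Points X.obj)) :
    (∀ (U : Over S) (a : (AlgSp.yon S).obj U ⟶ X.obj), AlgSp.RepWith @Etale a →
        IsLocallyConstructible (AlgSp.Points.ofPt a ⁻¹' E)) ↔
      IsLocallyConstructible E := by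
  have hXa : IsAlgSpace X.obj := X.property
  have hloc : ∀ x : Points X.obj, ∃ (W : Set (Points X.obj)) (_ : IsOpen W) (U : Over S)
      (p : (yon S).obj U ⟶ H50.openSub X.obj W), x ∈ W ∧ IsAffine U.left ∧
      RepWith @QuasiCompact p ∧ RepWith @Etale p ∧ RepWith @Surjective p :=
    fun x => exists_qc_chart_openSub hXa hX x
  choose W hW U₀ p hxW hU₀ hpq hpe hps using hloc
  have hemb : ∀ x, IsOpenEmbedding (Points.map (H50.openSubι X.obj (W x))) :=
    fun x => isOpenEmbedding_map_openSubι hXa (hW x)
  have h1m := AlgSp.repWith_isMultiplicative (S := S) @Etale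
  have hje : ∀ x, RepWith @Etale (H50.openSubι X.obj (W x)) := fun x =>
    H50.repWith_mono (fun _ _ g hg => by have : IsOpenImmersion g := hg; infer_instance)
      (H50.repWith_isOpenImmersion_openSubι (hW x))
  have hce : ∀ x, RepWith @Etale (p x ≫ H50.openSubι X.obj (W x)) :=
    fun x => (RepWith @Etale).comp_mem _ _ (hpe x) (hje x)
  have hYa : ∀ x, IsAlgSpace (H50.openSub X.obj (W x)) := fun x => H50.isAlgSpace_openSub (hW x) hXa
  have hkey : ∀ x, IsConstructible (Points.ofPt (p x ≫ H50.openSubι X.obj (W x)) ⁻¹' E) ↔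
      IsConstructible (Points.map (H50.openSubι X.obj (W x)) ⁻¹' E) := fun x =>
    isConstructible_iff_preimage_ofPt_of_qc_chart (hYa x) (hU₀ x) (p x) (hpq x) (hpe x) (hps x)
      (Points.map (H50.openSubι X.obj (W x)) ⁻¹' E)
  constructor
  · intro h
    have hcov : TopologicalSpace.IsOpenCover
        (fun x : Points X.obj => (⟨W x, hW x⟩ : Opens (Points X.obj))) := by
      apply TopologicalSpace.IsOpenCover.mk
      rw [eq_top_iff]
      intro x _
      exact TopologicalSpace.Opens.mem_iSup.2 ⟨x, hxW x⟩
    refine IsLocallyConstructible.of_isOpenCover hcov (fun x => ?_)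
    have := hU₀ x
    have h1 := h (U₀ x) (p x ≫ H50.openSubι X.obj (W x)) (hce x)
    have h2 : IsConstructible (Points.ofPt (p x ≫ H50.openSubι X.obj (W x)) ⁻¹' E) :=
      h1.isConstructible
    have h3 := (hkey x).1 h2
    have h4 := H50.isLocallyConstructible_restrict_range (hemb x) h3.isLocallyConstructible
    have hr : Set.range (Points.map (H50.openSubι X.obj (W x))) = W x :=
      H50.range_map_openSubι X.obj (W x)
    rw [hr] at h4
    exact h4
  · intro hE U a ha
    apply H50.isLocallyConstructible_of_forall_openImmersion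
    intro u
    have := hU₀ (Points.ofPt a u)
    have hqs' : IsQuasiSeparatedSp (H50.openSub X.obj (W (Points.ofPt a u))) :=
      isQuasiSeparatedSp_of_qc_chart (hYa _) (hU₀ _) (p _) (hpq _) (hpe _) (hps _)
    have hqc' : IsQuasiCompactSp (H50.openSub X.obj (W (Points.ofPt a u))) :=
      ⟨U₀ _, p _, hpe _, hps _, inferInstance⟩
    have : SpectralSpace (Points (H50.openSub X.obj (W (Points.ofPt a u)))) :=
      spectralSpace_points (hYa _) hqc' hqs'
    have h1 : IsLocallyConstructible
        (Points.map (H50.openSubι X.obj (W (Points.ofPt a u))) ⁻¹' E) :=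
      hE.preimage_of_isOpenEmbedding (hemb _)
    have h2 := h1.isConstructible
    have h3 := (hkey _).2 h2
    obtain ⟨Q, ψ, fst, sq⟩ := ha.1 (p (Points.ofPt a u) ≫ H50.openSubι X.obj (W (Points.ofPt a u)))
    obtain ⟨φ, rfl⟩ := (yon S).map_surjective fst
    have hψ : Etale ψ.left := ha.2 _ _ _ sq
    have hφ : Etale φ.left := (hce _).2 _ _ _ sq.flip
    obtain ⟨u₀, hu₀⟩ : ∃ u₀, Points.ofPt
        (p (Points.ofPt a u) ≫ H50.openSubι X.obj (W (Points.ofPt a u))) u₀ = Points.ofPt a u := by
      have hmem : Points.ofPt a u ∈ W (Points.ofPt a u) := hxW _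
      rw [← H50.range_map_openSubι X.obj (W (Points.ofPt a u))] at hmem
      obtain ⟨y, hy⟩ := hmem
      obtain ⟨u₀, rfl⟩ := surjective_ofPt_of_surjective (p _) (hps _) y
      exact ⟨u₀, hy⟩
    obtain ⟨v, hv1, hv2⟩ := exists_of_ofPt_eq_ofPt sq u u₀ hu₀.symm
    let A : U.left.Opens := ⟨Set.range φ.left, φ.left.isOpenMap.isOpen_range⟩
    have hrange : Set.range φ.left ⊆ Set.range A.ι := by
      rw [Scheme.Opens.range_ι]; rfl
    let φ' : Q.left ⟶ A.toScheme := IsOpenImmersion.lift A.ι φ.left hrange
    have hφ' : φ' ≫ A.ι = φ.left := IsOpenImmersion.lift_fac _ _ _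
    have hφe : Etale φ' := by
      have h5 : Etale (φ' ≫ A.ι) := by rw [hφ']; exact hφ
      exact MorphismProperty.of_postcomp (W := @Etale) (W' := @Etale) φ' A.ι inferInstance h5
    have hφs : Surjective φ' := by
      refine ⟨fun z => ?_⟩
      obtain ⟨q, hq⟩ := z.2
      refine ⟨q, ?_⟩
      apply A.ι.isOpenEmbedding.injective
      rw [← Scheme.Hom.comp_apply, hφ']
      exact hq
    refine ⟨A.toScheme, A.ι, inferInstance, ?_, ?_⟩
    · rw [Scheme.Opens.range_ι]
      exact ⟨v, hv1⟩
    · apply H50.isLocallyConstructible_of_preimage_of_etale_surjective φ'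
      have e : φ' ⁻¹' (A.ι ⁻¹' (Points.ofPt a ⁻¹' E)) = ψ.left ⁻¹' (Points.ofPt
          (p (Points.ofPt a u) ≫ H50.openSubι X.obj (W (Points.ofPt a u))) ⁻¹' E) := by
        ext q
        simp only [Set.mem_preimage]
        rw [← Scheme.Hom.comp_apply, hφ', ← ofPt_yon_map_comp, ← ofPt_yon_map_comp, sq.w]
      rw [e]
      exact H50.isLocallyConstructible_preimage ψ.left h3.isLocallyConstructible

end Groth.Agent.S10377
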