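import Groth.Statements.S10379
import Groth.Agent.H52.ValExist
import Groth.Agent.H52.FibProd
import Groth.Agent.H52.FQMor
import Groth.Agent.H52.Decent

set_option autoImplicit false
universe u
open CategoryTheory CategoryTheory.Limits AlgebraicGeometry Topology TopologicalSpace
open AlgSp

namespace Groth.Agent.S10379

open Groth.Agent.H52

/-- Let S be a scheme, X and Y algebraic spaces over S with X decent, and f : X ⟶ Y a quasi-compact
morphism. If f is universally closed, then the valuative criterion's existence part holds for f.
(The published statement is the equivalence of the two conditions; the converse implication holds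
for every quasi-compact f and is not part of this row.) -/
theorem result {S : Scheme.{u}} {X Y : AlgSp.Space S} (f : X ⟶ Y)
    (hq : AlgSp.IsQuasiCompactMor f.hom) (hX : AlgSp.IsDecent X.obj) (hc : AlgSp.IsUnivClosedMor f.hom) :
    AlgSp.ExistVC f.hom := by
  intro sq
  have pb := IsPullback.of_hasPullback f.hom sq.bot
  have hPa : IsAlgSpace (pullback f.hom sq.bot) :=
    isAlgSpace_of_isPullback pb Y.property.diag X.property (IsAlgSpace.yon_obj _)
  have hrep : Representable (pullback.fst f.hom sq.bot) :=
    MorphismProperty.of_isPullback pb.flip (Y.property.representable_from_yon sq.bot)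
  have hPd : IsDecent (pullback f.hom sq.bot) := isDecent_of_representable _ hrep hX
  exact hasLiftExt_of_decent_closed sq pb hPa hPd (hc (IsAlgSpace.yon_obj _) sq.bot _ _ pb)

end Groth.Agent.S10379
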