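import Groth.Statements.S10382
import Groth.Agent.H52.Decent

set_option autoImplicit false
universe u
open CategoryTheory CategoryTheory.Limits AlgebraicGeometry Topology TopologicalSpace
open AlgSp

namespace Groth.Agent.S10382

/-- The composition of two decent morphisms of algebraic spaces over a scheme S is decent. -/
theorem result {S : Scheme.{u}} {X Y Z : AlgSp.Space S} (f : X ⟶ Y) (g : Y ⟶ Z)
    (hf : AlgSp.IsDecentMor f.hom) (hg : AlgSp.IsDecentMor g.hom) : AlgSp.IsDecentMor (f ≫ g).hom := by
  intro T F' t fst snd sq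
  change IsPullback fst snd (f.hom ≫ g.hom) t at sq
  have sqb := IsPullback.of_hasPullback g.hom t
  have hdec : AlgSp.IsDecent (pullback g.hom t) := hg t _ _ sqb
  let l : F' ⟶ pullback g.hom t := pullback.lift (fst ≫ f.hom) snd (by rw [Category.assoc]; exact sq.w)
  have hl2 : l ≫ pullback.snd g.hom t = snd := pullback.lift_snd _ _ _
  have sq2 : IsPullback fst (l ≫ pullback.snd g.hom t) (f.hom ≫ g.hom) t := by rw [hl2]; exact sq
  have sqt : IsPullback fst l f.hom (pullback.fst g.hom t) :=
    IsPullback.of_bot sq2 (pullback.lift_fst _ _ _).symm sqb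
  exact Groth.Agent.H52.isDecent_of_isDecentMor_baseChange f.hom hf _ fst l sqt hdec

end Groth.Agent.S10382
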