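import Groth.Statements.S10383
import Groth.Agent.H52.Decent

set_option autoImplicit false
universe u
open CategoryTheory CategoryTheory.Limits AlgebraicGeometry Topology TopologicalSpace
open AlgSp

namespace Groth.Agent.S10383

/-- If X and Z are decent algebraic spaces over a scheme S with morphisms to an algebraic space Y, then
the fibre product X ×_Y Z is decent. -/
theorem result {S : Scheme.{u}} {X Y Z P : AlgSp.Space S} (f : X ⟶ Y) (g : Z ⟶ Y)
    (fst : P ⟶ X) (snd : P ⟶ Z) (h : IsPullback fst.hom snd.hom f.hom g.hom)
    (hX : AlgSp.IsDecent X.obj) (hZ : AlgSp.IsDecent Z.obj) : AlgSp.IsDecent P.obj := by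
  have hgd : AlgSp.IsDecentMor g.hom := by
    intro T F' t fst' snd' sq
    have ht : AlgSp.Representable t := Y.property.representable_from_yon t
    have hfst : AlgSp.Representable fst' := MorphismProperty.of_isPullback sq.flip ht
    exact Groth.Agent.H52.isDecent_of_representable fst' hfst hZ
  exact Groth.Agent.H52.isDecent_of_isDecentMor_baseChange g.hom hgd f.hom snd.hom fst.hom h.flip hX

end Groth.Agent.S10383
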