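import Groth.Statements.S10389
import Groth.Agent.H52.PairFibre3

set_option autoImplicit false
universe u
open CategoryTheory CategoryTheory.Limits AlgebraicGeometry Topology TopologicalSpace
open AlgSp

namespace Groth.Agent.S10389

open Groth.Agent.H52

/-- Let W = X ×_Y Z be a fibre product of algebraic spaces over a scheme S with projections p, q, and
let x ∈ |X|, z ∈ |Z| lie over the same point y ∈ |Y|. If y is represented by a monomorphism Spec k ⟶
Y from the spectrum of a field and g : Z ⟶ Y is quasi-finite at z, then the set of points of |W|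
mapping to x and to z is finite. (Special case: Y decent and g etale.) -/
theorem result {S : Scheme.{u}} {X Y Z W : AlgSp.Space S} (f : X ⟶ Y)
    (g : Z ⟶ Y) (p : W ⟶ X) (q : W ⟶ Z) (hW : IsPullback p.hom q.hom f.hom g.hom) (x : AlgSp.Points X.obj)
    (z : AlgSp.Points Z.obj) (hxz : AlgSp.Points.map f.hom x = AlgSp.Points.map g.hom z)
    (hy : ∃ r : AlgSp.FieldPt Y.obj, AlgSp.Points.mk r = AlgSp.Points.map g.hom z ∧ Mono r.toHom)
    (hg : AlgSp.HasAtMor (fun U _ h u => ∃ W : U.Opens, u ∈ W ∧ LocallyQuasiFinite (W.ι ≫ h) ∧ LocallyOfFiniteType (W.ι ≫ h)) g.hom z) :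
    {w : AlgSp.Points W.obj | AlgSp.Points.map p.hom w = x ∧ AlgSp.Points.map q.hom w = z}.Finite := by
  obtain ⟨r, hr, hm⟩ := hy
  obtain ⟨U, V, a, b, h, u, hae, hbe, hcomm, hau, W', huW', hlqf, -⟩ := hg
  -- shrink the chart
  have hae' : RepWith @Etale ((yon S).map (overOpenHom U W') ≫ a) :=
    repWith_yon_map_comp @Etale _ (show Etale (Scheme.Opens.ι W') from inferInstance) a hae
  let u' : ↥(overOpen U W').left := ⟨u, huW'⟩
  obtain ⟨a', ha'⟩ : ∃ a', a' = (yon S).map (overOpenHom U W') ≫ a := ⟨_, rfl⟩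
  obtain ⟨h', hh'⟩ : ∃ h', h' = overOpenHom U W' ≫ h := ⟨_, rfl⟩
  have hl : LocallyQuasiFinite h'.left := by rw [hh']; exact hlqf
  have hcomm' : a' ≫ g.hom = (yon S).map h' ≫ b := by
    rw [ha', hh', Category.assoc, hcomm, Functor.map_comp, Category.assoc]
  have hau' : Points.ofPt a' u' = z := by
    rw [ha', ofPt_yon_map_comp]; exact hau
  -- field points
  have hζ : Points.mk (FieldPt.ofPt a' u') = z := hau'
  obtain ⟨ξ, hξ⟩ := Points.mk_surjective x
  -- factorizations
  have h1 : Points.mk r = Points.mk (ξ.map f.hom) := by rw [← Points.map_mk, hξ, hxz, hr]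
  obtain ⟨cK, hcK, -⟩ := existsUnique_factor_of_mono Y.property r (ξ.map f.hom) h1
  have h2 : Points.mk r = Points.mk ((FieldPt.ofPt a' u').map g.hom) := by
    rw [← Points.map_mk, hζ, hr]
  obtain ⟨cL, hcL, -⟩ := existsUnique_factor_of_mono Y.property r ((FieldPt.ofPt a' u').map g.hom) h2
  rw [FieldPt.toHom_map] at hcK hcL
  have hcL' : (yon S).map cL ≫ r.toHom = (yon S).map (ptIncl a' u' ≫ h') ≫ b := by
    refine hcL.trans ?_
    rw [FieldPt.toHom_ofPt, Category.assoc, hcomm', Functor.map_comp, Category.assoc]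
  have hfin : IsFinite cL.left := isFinite_factor_of_mono_of_lqf r a' b hbe h' u' cL hcL'
  have := @finite_fibre_pullback_of_factor S X.obj Y.obj Z.obj W.obj f.hom g.hom p.hom q.hom hW r hm ξ
    (FieldPt.ofPt a' u') cK hcK cL hcL hfin
  rwa [hξ, hζ] at this

end Groth.Agent.S10389
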