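import Groth.Statements.S10394
import Mathlib
import Groth.Agent.H69.DecentCoheight
import Groth.Agent.H52.FQDecent

set_option autoImplicit false
set_option linter.style.haveILetI false
universe u
open CategoryTheory CategoryTheory.Limits AlgebraicGeometry Topology TopologicalSpace
open AlgSp

namespace Groth.Agent.S10394

/-- (1) ⇔ (4): let S be a scheme, X a decent algebraic space over S and x ∈ |X|. Then x is the generic
point of some irreducible component of |X| if and only if the local ring of X at x has dimension
zero (x is a codimension 0 point of X). -/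
theorem result {S : Scheme.{u}} (X : AlgSp.Space S)
    (hX : AlgSp.IsDecent X.obj) (x : AlgSp.Points X.obj) :
    (∃ T ∈ irreducibleComponents (AlgSp.Points X.obj), IsGenericPoint x T) ↔ AlgSp.HasAt (fun U u => ringKrullDim ↥(U.presheaf.stalk u) = 0) X.obj x := by
  haveI : T0Space (AlgSp.Points X.obj) := H52.t0Space_of_isDecent X.property hX
  haveI : QuasiSober (AlgSp.Points X.obj) := H69.DecentSober.quasiSober_of_isDecent X.property hX
  rw [H69.DecentCoheight.exists_component_isGenericPoint_iff,
    ← H69.DecentCoheight.coheight_eq_zero_iff]
  constructor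
  · intro h
    obtain ⟨U, a, u, -, hae, hu⟩ := H52.exists_affine_chart_at X.property x
    refine ⟨U, a, u, hae, hu, ?_⟩
    change ringKrullDim ↑(U.left.presheaf.stalk u) = 0
    rw [ringKrullDim_stalk_eq_coheight]
    have h1 := H69.DecentCoheight.coheight_ofPt_eq X.property hX a hae u
    rw [hu, h] at h1
    have h2 : Order.coheight u = 0 := h1
    rw [h2]; rfl
  · rintro ⟨U, a, u, hae, hu, hdim⟩
    change ringKrullDim ↑(U.left.presheaf.stalk u) = 0 at hdim
    rw [ringKrullDim_stalk_eq_coheight] at hdim
    have h1 := H69.DecentCoheight.coheight_ofPt_eq X.property hX a hae u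
    rw [hu] at h1
    rw [← h1]
    have h2 : Order.coheight u = 0 := by exact_mod_cast hdim
    exact h2

end Groth.Agent.S10394
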