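import Groth.Statements.S10395
import Mathlib
import Groth.Agent.H69.DecentEtale
import Groth.Agent.H51.EtaleIff
import Groth.Agent.H52.FQDecent

set_option autoImplicit false
set_option linter.style.haveILetI false
universe u
open CategoryTheory CategoryTheory.Limits AlgebraicGeometry Topology TopologicalSpace
open AlgSp

namespace Groth.Agent.S10395

/-- (1) ⇔ (2) ⇔ (3): let S be a scheme, X a decent algebraic space over S, and (Y, y) ⟶ (X, x) an etale
morphism of pointed algebraic spaces. Then the point y is a generic point of some irreducible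
component of |Y| if and only if the point x is a generic point of some irreducible component of |X|. -/
theorem result {S : Scheme.{u}} {X Y : AlgSp.Space S}
    (hX : AlgSp.IsDecent X.obj) (f : Y ⟶ X) (hf : AlgSp.IsEtaleMor f.hom) (y : AlgSp.Points Y.obj) :
    (∃ T ∈ irreducibleComponents (AlgSp.Points Y.obj), IsGenericPoint y T) ↔
      (∃ T ∈ irreducibleComponents (AlgSp.Points X.obj), IsGenericPoint (AlgSp.Points.map f.hom y) T) := by
  have hY : AlgSp.IsDecent Y.obj := H69.DecentEtale.isDecent_of_isEtaleMor Y.property f.hom hf hX
  haveI : T0Space (AlgSp.Points X.obj) := H52.t0Space_of_isDecent X.property hX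
  haveI : QuasiSober (AlgSp.Points X.obj) := H69.DecentSober.quasiSober_of_isDecent X.property hX
  haveI : T0Space (AlgSp.Points Y.obj) := H52.t0Space_of_isDecent Y.property hY
  haveI : QuasiSober (AlgSp.Points Y.obj) := H69.DecentSober.quasiSober_of_isDecent Y.property hY
  have hflat : AlgSp.LocP @Flat f.hom := by
    intro U V a b h ha hb comm
    have : Etale h.left := H51.locP_etale_of_isEtaleMor f.hom hf a b h ha hb comm
    infer_instance
  rw [H69.DecentCoheight.exists_component_isGenericPoint_iff,
    H69.DecentCoheight.exists_component_isGenericPoint_iff]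
  constructor
  · intro hy x' hx'
    obtain ⟨p, hp, -, hqc⟩ := hX x'
    obtain ⟨y', hy's, hy'⟩ := H52.exists_generization_of_flat Y.property X.property f.hom hflat
      (AlgSp.Points.map f.hom y) p (by rw [hp]; exact hx') hqc y rfl
    have h1 := hy y' hy's
    rw [← hp, ← hy']
    exact h1.map (AlgSp.Points.continuous_map f.hom)
  · intro hx y' hy'
    have h1 : AlgSp.Points.map f.hom y' ⤳ AlgSp.Points.map f.hom y :=
      hy'.map (AlgSp.Points.continuous_map f.hom)
    have h2 := hx _ h1
    have he : AlgSp.Points.map f.hom y = AlgSp.Points.map f.hom y' := (h2.antisymm h1).eq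
    obtain ⟨V, b, v, -, hbe, hv⟩ := H52.exists_affine_chart_at Y.property y
    obtain ⟨q, hq, -, hqc⟩ := hY y'
    obtain ⟨v', hv's, hv'⟩ := H52.exists_generization_of_specializes y q (by rw [hq]; exact hy')
      hqc b hbe v hv
    have hvv : v = v' := by
      refine H52.eq_of_specializes_of_isDecent hX (b ≫ f.hom) (hf b hbe) v v' ?_ hv's
      rw [← AlgSp.Points.map_ofPt, ← AlgSp.Points.map_ofPt, hv, hv', hq]
      exact he
    have : y = y' := by rw [← hv, hvv, hv', hq]
    rw [this]

end Groth.Agent.S10395
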