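import Groth.Statements.S10396
import Mathlib
import Groth.Agent.H69.DecentCoheight

set_option autoImplicit false
set_option linter.style.haveILetI false
universe u
open CategoryTheory CategoryTheory.Limits AlgebraicGeometry Topology TopologicalSpace
open AlgSp

namespace Groth.Agent.S10396

/-- Let S be a scheme, X a decent algebraic space over S, and T ⊆ |X| an irreducible closed subset with
generic point ξ. Then codim(T, |X|) equals the dimension of the local ring at ξ of X, read on any
etale chart (U, u) ⟶ (X, ξ) as the Krull dimension of O_{U,u}. -/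
theorem result {S : Scheme.{u}} (X : AlgSp.Space S)
    (hX : AlgSp.IsDecent X.obj) (T : TopologicalSpace.IrreducibleCloseds (AlgSp.Points X.obj)) (ξ : AlgSp.Points X.obj)
    (hξ : IsGenericPoint ξ (T : Set (AlgSp.Points X.obj))) {U : Over S} (a : (AlgSp.yon S).obj U ⟶ X.obj)
    (ha : AlgSp.RepWith @Etale a) (u : ↥U.left) (hu : AlgSp.Points.ofPt a u = ξ) :
    (Order.coheight T : WithBot ℕ∞) = ringKrullDim ↥(U.left.presheaf.stalk u) := by
  haveI : T0Space (AlgSp.Points X.obj) := H52.t0Space_of_isDecent X.property hX
  haveI : QuasiSober (AlgSp.Points X.obj) := H69.DecentSober.quasiSober_of_isDecent X.property hX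
  rw [ringKrullDim_stalk_eq_coheight]
  have h1 := H69.DecentCoheight.coheight_ofPt_eq X.property hX a ha u
  rw [hu] at h1
  have h2 : @Order.coheight _ (specializationPreorder _) ξ = Order.coheight T := by
    letI : PartialOrder (AlgSp.Points X.obj) := specializationOrder (AlgSp.Points X.obj)
    have h3 := Order.coheight_orderIso (irreducibleSetEquivPoints (α := AlgSp.Points X.obj)) T
    have hgen : irreducibleSetEquivPoints (α := AlgSp.Points X.obj) T = ξ := by
      have hg : IsGenericPoint (irreducibleSetEquivPoints (α := AlgSp.Points X.obj) T)
          (T : Set (AlgSp.Points X.obj)) := by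
        have := T.2.isGenericPoint_genericPoint_closure
        rwa [T.3.closure_eq] at this
      exact hg.eq hξ
    rw [hgen] at h3
    exact h3
  rw [← h2, ← h1]

end Groth.Agent.S10396
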