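import Groth.Statements.S10401
import Mathlib.AlgebraicGeometry.Morphisms.FiniteType

set_option autoImplicit false
universe u
open CategoryTheory CategoryTheory.Limits AlgebraicGeometry Topology TopologicalSpace
open AlgSp

namespace Groth.Agent.S10401

/-- If Y is a Jacobson algebraic space and X is an algebraic space that is locally of finite type over
Y, then X is Jacobson. -/
theorem result {S : Scheme.{u}} {X Y : AlgSp.Space S} (hX : AlgSp.EtaleLocally (fun U => JacobsonSpace ↥U) X.obj)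
    (f : Y ⟶ X) (hf : AlgSp.LocP @LocallyOfFiniteType f.hom) : AlgSp.EtaleLocally (fun U => JacobsonSpace ↥U) Y.obj := by
  obtain ⟨U, pU, hUet, hUsurj, hUJ⟩ := hX
  obtain ⟨W, pW, hWet, hWsurj⟩ := Y.property.atlas
  obtain ⟨V, snd, fst, sq⟩ := hUet.1 (pW ≫ f.hom)
  have hsndEt : Etale snd.left := hUet.2 _ _ _ sq
  have hsndSurj : Surjective snd.left := hUsurj.2 _ _ _ sq
  obtain ⟨h, rfl⟩ := (AlgSp.yon S).map_surjective fst
  have := AlgSp.repWith_isMultiplicative (S := S) @Etale
  have := AlgSp.repWith_isMultiplicative (S := S) @Surjective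
  have ha : AlgSp.RepWith @Etale ((AlgSp.yon S).map snd ≫ pW) :=
    (AlgSp.RepWith @Etale).comp_mem _ _ ((AlgSp.repWith_yon_map_iff _ _).2 hsndEt) hWet
  have ha' : AlgSp.RepWith @Surjective ((AlgSp.yon S).map snd ≫ pW) :=
    (AlgSp.RepWith @Surjective).comp_mem _ _ ((AlgSp.repWith_yon_map_iff _ _).2 hsndSurj) hWsurj
  have hlft : LocallyOfFiniteType h.left :=
    hf ((AlgSp.yon S).map snd ≫ pW) pU h ha hUet (by rw [Category.assoc]; exact sq.w.symm)
  refine ⟨V, (AlgSp.yon S).map snd ≫ pW, ha, ha', ?_⟩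
  have : JacobsonSpace ↥U.left := hUJ
  exact LocallyOfFiniteType.jacobsonSpace h.left

end Groth.Agent.S10401
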