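import Groth.Statements.S10409
import Groth.Agent.H52.FQApp
import Groth.Agent.H50.RepIso

set_option autoImplicit false
universe u
open CategoryTheory CategoryTheory.Limits AlgebraicGeometry Topology TopologicalSpace
open AlgSp
open Groth.Agent.H52

namespace Groth.Agent.S10409

/-- (3) ⇔ (4): for an algebraic space X over a scheme S and x ∈ |X|, there is a monomorphism Spec k ⟶ X
representing x if and only if there is a morphism Spec k' ⟶ X representing x whose
self-fibre-product has etale and quasi-compact projections to Spec k'. -/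
theorem result {S : Scheme.{u}} (X : AlgSp.Space S)
    (x : AlgSp.Points X.obj) :
    (∃ p : AlgSp.FieldPt X.obj, AlgSp.Points.mk p = x ∧ Mono p.toHom) ↔
      ∃ q : AlgSp.FieldPt X.obj, AlgSp.Points.mk q = x ∧
        ∀ (P : AlgSp.Sp S) (fst snd : P ⟶ (AlgSp.yon S).obj q.pt), IsPullback fst snd q.toHom q.toHom →
          AlgSp.RepWith @Etale fst ∧ AlgSp.RepWith @QuasiCompact fst := by
  constructor
  · rintro ⟨p, hp, hm⟩
    refine ⟨p, hp, fun P fst snd sq => ?_⟩
    have : IsIso fst := IsKernelPair.isIso_of_mono sq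
    exact ⟨Groth.Agent.H50.repWith_of_isIso _ fst, Groth.Agent.H50.repWith_of_isIso _ fst⟩
  · rintro ⟨q, hq, h⟩
    have sq := IsPullback.of_hasPullback q.toHom q.toHom
    obtain ⟨h1, h2⟩ := h _ _ _ sq
    have hrep : Representable (pullback.fst q.toHom q.toHom) := h1.rep
    have sqR := hrep.isPullback (𝟙 _)
    have hiso : IsIso (hrep.fst (𝟙 _)) := sqR.isIso_fst_of_isIso
    have hes : hrep.fst (𝟙 _) ≫ pullback.fst q.toHom q.toHom = (yon S).map (hrep.snd (𝟙 _)) := by
      rw [sqR.w, Category.comp_id]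
    obtain ⟨t, ht⟩ := (yon S).map_surjective (hrep.fst (𝟙 _) ≫ pullback.snd q.toHom q.toHom)
    have sq' : IsPullback ((yon S).map t) ((yon S).map (hrep.snd (𝟙 _))) q.toHom q.toHom := by
      refine IsPullback.of_iso sq.flip (asIso (hrep.fst (𝟙 _))).symm (Iso.refl _) (Iso.refl _)
        (Iso.refl _) ?_ ?_ (by simp) (by simp)
      · rw [Iso.refl_hom, Category.comp_id, Iso.symm_hom, asIso_inv, ht, IsIso.inv_hom_id_assoc]
      · rw [Iso.refl_hom, Category.comp_id, Iso.symm_hom, asIso_inv, ← hes, IsIso.inv_hom_id_assoc]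
    have he : Etale (hrep.snd (𝟙 _)).left := by
      rw [← repWith_yon_map_iff @Etale, ← hes]
      exact ((RepWith @Etale).cancel_left_of_respectsIso _ _).2 h1
    have hqc : QuasiCompact (hrep.snd (𝟙 _)).left := by
      rw [← repWith_yon_map_iff @QuasiCompact, ← hes]
      exact ((RepWith @QuasiCompact).cancel_left_of_respectsIso _ _).2 h2
    obtain ⟨p, c, hm, hfac, hfin, hpq⟩ :=
      exists_mono_fieldPt_of_etale_quasiCompact q (hrep.snd (𝟙 _)) t sq'
    exact ⟨p, hpq.trans hq, hm⟩

end Groth.Agent.S10409
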