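import Groth.Statements.S10410
import Groth.Agent.H52.FQFibres2

set_option autoImplicit false
universe u
open CategoryTheory CategoryTheory.Limits AlgebraicGeometry Topology TopologicalSpace
open AlgSp
open Groth.Agent.H52

namespace Groth.Agent.S10410

/-- Let X be an algebraic space over a scheme S, x ∈ |X|, and φ : U ⟶ X etale with U a scheme. Then x
lies in the image of |U| and the fibres of |U| → |X| and |U ×_X U| → |X| over x are finite, if and
only if x is represented by a monomorphism Spec k ⟶ X such that Spec k ×_X U is a nonempty scheme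
finite over k. -/
theorem result {S : Scheme.{u}} (X : AlgSp.Space S) (x : AlgSp.Points X.obj)
    {U : Over S} (φ : (AlgSp.yon S).obj U ⟶ X.obj) (hφ : AlgSp.RepWith @Etale φ) :
    (x ∈ Set.range (AlgSp.Points.ofPt φ) ∧ (AlgSp.Points.ofPt φ ⁻¹' {x}).Finite ∧
        ∀ (R : Over S) (s t : R ⟶ U), IsPullback ((AlgSp.yon S).map t) ((AlgSp.yon S).map s) φ φ →
          (AlgSp.Points.ofPt ((AlgSp.yon S).map t ≫ φ) ⁻¹' {x}).Finite) ↔
      ∃ p : AlgSp.FieldPt X.obj, AlgSp.Points.mk p = x ∧ Mono p.toHom ∧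
        ∀ (T : Over S) (c : T ⟶ p.pt) (snd : (AlgSp.yon S).obj T ⟶ (AlgSp.yon S).obj U),
          IsPullback ((AlgSp.yon S).map c) snd p.toHom φ → Nonempty ↥T.left ∧ IsFinite c.left := by
  constructor
  · rintro ⟨⟨u, hu⟩, hfinU, H⟩
    obtain ⟨R, s, fst, hR⟩ := hφ.1 φ
    obtain ⟨t, rfl⟩ := (yon S).map_surjective fst
    have hfinR := H R s t hR
    rw [← hu] at hfinR
    obtain ⟨p, c, hm, hfac, hfin, hp⟩ :=
      exists_mono_fieldPt_of_finite_fibre_kernelPair φ hφ u s t hR hfinR
    refine ⟨p, hp.trans hu, hm, fun T c' snd sq => ?_⟩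
    obtain ⟨ψ, rfl⟩ := (yon S).map_surjective snd
    have hfib := fibre_eq_range_of_isPullback p φ sq
    rw [hp.trans hu] at hfib
    have hmem : u ∈ Points.ofPt φ ⁻¹' {x} := hu
    rw [hfib] at hmem hfinU
    obtain ⟨t₀, -⟩ := hmem
    refine ⟨⟨t₀⟩, ?_⟩
    have : Mono p.toHom := hm
    have hmono : Mono ψ.left := mono_left_of_isPullback_of_mono sq
    have hinj : Function.Injective ψ.left := ψ.left.injective
    have hTfin : Finite ↥T.left := by
      have : Finite (Set.range ψ.left) := hfinU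
      exact Finite.of_injective (Set.rangeFactorization ψ.left)
        (fun a b hab => hinj (congrArg Subtype.val hab))
    have hce : Etale c'.left := hφ.2 _ _ _ sq.flip
    have haffk : IsAffine p.pt.left := inferInstanceAs (IsAffine (Spec (CommRingCat.of p.K)))
    have hcq : QuasiCompact c'.left := inferInstance
    exact isFinite_of_etale_quasiCompact_field (k := p.K) c'.left
  · rintro ⟨p, rfl, hm, H⟩
    obtain ⟨T, c, fst, sq⟩ := hφ.1 p.toHom
    obtain ⟨ψ, rfl⟩ := (yon S).map_surjective fst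
    obtain ⟨⟨t₀⟩, hcf⟩ := H T c _ sq.flip
    have hfib := fibre_eq_range_of_isPullback p φ sq.flip
    have hTfin : Finite ↥T.left := finite_of_isFinite_field (K := p.K) c.left
    refine ⟨⟨ψ.left t₀, ?_⟩, ?_, fun R s t hR => ?_⟩
    · have : ψ.left t₀ ∈ Points.ofPt φ ⁻¹' {Points.mk p} := by rw [hfib]; exact ⟨t₀, rfl⟩
      exact this
    · rw [hfib]; exact Set.finite_range _
    · exact finite_fibre_kernelPair_of_compact X.property.diag p φ hφ s t hR c ψ sq.flip

end Groth.Agent.S10410
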