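import Groth.Statements.S10412
import Groth.Agent.H50.OpenSubChart
import Groth.Agent.H52.DescCI
import Groth.Agent.H52.MonoField
import Groth.Agent.H52.Topology

set_option autoImplicit false
universe u
open CategoryTheory CategoryTheory.Limits AlgebraicGeometry Topology TopologicalSpace
open AlgSp

namespace Groth.Agent.S10412

/-- For an algebraic space X over a scheme S the following are equivalent: (1) X has a Zariski covering
by open subspaces X_i, each X_i admitting a surjective, etale and quasi-compact morphism U_i ⟶ X_i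
with U_i a scheme; (2) there are etale morphisms U_i ⟶ X from schemes, jointly surjective, such that
for each i both projection morphisms from U_i ×_X U_i to U_i are quasi-compact. -/
theorem result {S : Scheme.{u}} (X : AlgSp.Space S) :
    (∃ (ι : Type u) (Xi : ι → AlgSp.Space S) (j : ∀ i, Xi i ⟶ X) (U : ι → Over S)
        (a : ∀ i, (AlgSp.yon S).obj (U i) ⟶ (Xi i).obj),
        AlgSp.IsZarCover (fun i => (Xi i).obj) (fun i => (j i).hom) ∧
          ∀ i, AlgSp.RepWith @Etale (a i) ∧ AlgSp.RepWith @Surjective (a i) ∧ AlgSp.RepWith @QuasiCompact (a i)) ↔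
      ∃ (ι : Type u) (U : ι → Over S) (φ : ∀ i, (AlgSp.yon S).obj (U i) ⟶ X.obj),
        (∀ i, AlgSp.RepWith @Etale (φ i)) ∧
          (∀ x : AlgSp.Points X.obj, ∃ (i : ι) (v : ↥(U i).left), AlgSp.Points.ofPt (φ i) v = x) ∧
          ∀ (i : ι) (R : Over S) (s t : R ⟶ U i), IsPullback ((AlgSp.yon S).map t) ((AlgSp.yon S).map s) (φ i) (φ i) →
            QuasiCompact s.left ∧ QuasiCompact t.left := by
  constructor
  · rintro ⟨ι, Xi, j, U, a, hj, ha⟩
    have hjm : ∀ i, Mono (j i).hom := fun i =>
      Groth.Agent.H50.mono_of_repWith (P := @IsOpenImmersion)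
        (by intro _ _ g hg; have : IsOpenImmersion g := hg; infer_instance) (hj.1 i)
    have hje : ∀ i, AlgSp.RepWith @Etale (j i).hom := fun i =>
      Groth.Agent.H50.repWith_mono (P := @IsOpenImmersion) (Q := @Etale)
        (by intro _ _ g hg; have : IsOpenImmersion g := hg; infer_instance) (hj.1 i)
    refine ⟨ι, U, fun i => a i ≫ (j i).hom, fun i => ?_, fun x => ?_, fun i R s t sq => ?_⟩
    · exact (AlgSp.RepWith @Etale).comp_mem _ _ (ha i).1 (hje i)
    · obtain ⟨i, y, rfl⟩ := hj.2 x
      obtain ⟨v, hv⟩ := Groth.Agent.H52.surjective_ofPt_of_surjective (a i) (ha i).2.1 y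
      exact ⟨i, v, by rw [← AlgSp.Points.map_ofPt, hv]⟩
    · have := hjm i
      have sq' : IsPullback ((AlgSp.yon S).map t) ((AlgSp.yon S).map s) (a i) (a i) := by
        have w : (AlgSp.yon S).map t ≫ a i = (AlgSp.yon S).map s ≫ a i := by
          rw [← cancel_mono (j i).hom, Category.assoc, Category.assoc]
          exact sq.w
        refine ⟨⟨w⟩, ⟨PullbackCone.IsLimit.mk w
          (fun c => sq.lift c.fst c.snd (by
            rw [← Category.assoc, c.condition, Category.assoc]))
          (fun c => sq.lift_fst _ _ _) (fun c => sq.lift_snd _ _ _)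
          (fun c m h1 h2 => sq.hom_ext (h1.trans (sq.lift_fst _ _ _).symm)
            (h2.trans (sq.lift_snd _ _ _).symm))⟩⟩
      exact ⟨(ha i).2.2.2 _ _ _ sq', (ha i).2.2.2 _ _ _ sq'.flip⟩
  · rintro ⟨ι, U, φ, hφ, hsurj, hqc⟩
    let W : ι → Set (AlgSp.Points X.obj) := fun i => Set.range (AlgSp.Points.ofPt (φ i))
    have hW : ∀ i, IsOpen (W i) := fun i =>
      (Groth.Agent.H52.isOpenMap_ofPt_of_etale (φ i) (hφ i)).isOpen_range
    have hfac : ∀ i, ∃ a₁ : (AlgSp.yon S).obj (U i) ⟶ Groth.Agent.H50.openSub X.obj (W i),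
        a₁ ≫ Groth.Agent.H50.openSubι X.obj (W i) = φ i := fun i =>
      (Groth.Agent.H50.factors_openSubι_iff X.obj (W i) (φ i)).2 (fun t => ⟨t, rfl⟩)
    choose a ha using hfac
    have hae : ∀ i, AlgSp.RepWith @Etale (a i) := fun i =>
      Groth.Agent.H50.repWith_of_comp_mono (a i) (Groth.Agent.H50.openSubι X.obj (W i))
        (by rw [ha i]; exact hφ i)
    have has : ∀ i, AlgSp.RepWith @Surjective (a i) := fun i =>
      Groth.Agent.H50.repWith_surjective_of_comp_openSubι (a i) (hae i).rep
        (by rw [ha i])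
    refine ⟨ι, fun i => ⟨Groth.Agent.H50.openSub X.obj (W i),
        Groth.Agent.H50.isAlgSpace_openSub (hW i) X.property⟩,
      fun i => ObjectProperty.homMk (Groth.Agent.H50.openSubι X.obj (W i)), U, a, ⟨fun i => ?_, fun x => ?_⟩,
      fun i => ⟨hae i, has i, ?_⟩⟩
    · exact Groth.Agent.H50.repWith_isOpenImmersion_openSubι (hW i)
    · obtain ⟨i, v, hv⟩ := hsurj x
      refine ⟨i, ?_⟩
      change x ∈ Set.range (AlgSp.Points.map (Groth.Agent.H50.openSubι X.obj (W i)))
      rw [Groth.Agent.H50.range_map_openSubι]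
      exact ⟨v, hv⟩
    · obtain ⟨R, t, fst, sq⟩ := (hφ i).1 (φ i)
      obtain ⟨s, rfl⟩ := (AlgSp.yon S).map_surjective fst
      obtain ⟨hs, ht⟩ := hqc i R t s sq
      have sq' : IsPullback ((AlgSp.yon S).map s) ((AlgSp.yon S).map t) (a i) (a i) := by
        have w : (AlgSp.yon S).map s ≫ a i = (AlgSp.yon S).map t ≫ a i := by
          rw [← cancel_mono (Groth.Agent.H50.openSubι X.obj (W i)), Category.assoc, Category.assoc, ha i]
          exact sq.w
        refine ⟨⟨w⟩, ⟨PullbackCone.IsLimit.mk w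
          (fun c => sq.lift c.fst c.snd (by
            rw [← ha i, ← Category.assoc, c.condition, Category.assoc]))
          (fun c => sq.lift_fst _ _ _) (fun c => sq.lift_snd _ _ _)
          (fun c m h1 h2 => sq.hom_ext (h1.trans (sq.lift_fst _ _ _).symm)
            (h2.trans (sq.lift_snd _ _ _).symm))⟩⟩
      exact Groth.Agent.H50.repWith_of_isPullback_atlas Groth.Agent.H52.quasiCompact_descendsAlong_fppf
        (hae i).rep (hae i) (has i) sq' ((AlgSp.repWith_yon_map_iff _ t).2 hs)

end Groth.Agent.S10412
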