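import Groth.Statements.S10416
import Groth.Agent.H52.RedResidual
import Groth.Agent.H50.RedFactor
import Groth.Agent.H50.ClosedDesc

set_option autoImplicit false
universe u
open CategoryTheory CategoryTheory.Limits AlgebraicGeometry Topology TopologicalSpace
open AlgSp

namespace Groth.Agent.S10416

/-- Let S be a scheme, X a locally Noetherian algebraic space over S, x ∈ |X|, and i : Z_x ⟶ X the
residual space at x. Then x is closed in |X| if and only if i is a closed immersion. -/
theorem result {S : Scheme.{u}} {X Z : AlgSp.Space S}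
    (hX : AlgSp.IsLocNoethSp X.obj) (x : AlgSp.Points X.obj) (i : Z ⟶ X) [Mono i.hom]
    (hi : Set.range (AlgSp.Points.map i.hom) = {x}) (hZ : ∃ (k : Type u) (_ : Field k) (str : Spec (CommRingCat.of k) ⟶ S) (p : (AlgSp.yon S).obj (Over.mk str) ⟶ Z.obj),
        AlgSp.LocP @LocallyOfFinitePresentation p ∧ AlgSp.LocP @Flat p ∧ AlgSp.IsSurjectiveMor p) :
    IsClosed ({x} : Set (AlgSp.Points X.obj)) ↔ AlgSp.RepWith @IsClosedImmersion i.hom := by
  constructor
  · intro hx
    obtain ⟨k, _, str, p, hp1, hp2, hp3⟩ := hZ
    -- `Z` is reduced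
    have hkred : AlgSp.IsReducedSp ((AlgSp.yon S).obj (Over.mk str)) := by
      refine ⟨Over.mk str, 𝟙 _, ?_, ?_, ?_⟩
      · rw [← CategoryTheory.Functor.map_id]
        exact (AlgSp.repWith_yon_map_iff @Etale (𝟙 (Over.mk str))).2
          (show Etale (𝟙 (Spec (CommRingCat.of k))) from inferInstance)
      · rw [← CategoryTheory.Functor.map_id]
        exact (AlgSp.repWith_yon_map_iff @Surjective (𝟙 (Over.mk str))).2
          (show Surjective (𝟙 (Spec (CommRingCat.of k))) from inferInstance)
      · exact (inferInstance : IsReduced (Spec (CommRingCat.of k)))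
    have hZred : AlgSp.IsReducedSp Z.obj :=
      Groth.Agent.H51.isReducedSp_of_flat_surjective Z.property p hp2 hp3 hkred
    -- the reduced induced structure on `{x}`
    obtain ⟨T, j, hT, hj, hjr, hTred⟩ := Groth.Agent.H50.exists_isRedInduced X.property {x} hx
    have hjm : Mono j := Groth.Agent.H50.mono_of_repWith
      (fun _ _ g hg => by have := hg; infer_instance) hj
    -- `j` factors through `i`
    obtain ⟨V, b, hbe, hbs, hVred⟩ := hTred
    have := hVred
    have hbepi : Epi b := Groth.Agent.H52.epi_of_etale_surjective b hbe hbs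
    have hxi : x ∈ Set.range (AlgSp.Points.map i.hom) := by rw [hi]; rfl
    obtain ⟨g, hg⟩ := Groth.Agent.H52.exists_factor_of_epi i.hom j b
      (Groth.Agent.H52.exists_factor_of_reduced_scheme_locNoeth X.property hX Z.property x i.hom hxi
        (b ≫ j) (fun v => by
          have h1 : AlgSp.Points.ofPt (b ≫ j) v ∈ Set.range (AlgSp.Points.map j) := by
            rw [← AlgSp.Points.map_ofPt]
            exact ⟨_, rfl⟩
          rw [hjr] at h1
          exact h1))
    -- `i` factors through `j`
    obtain ⟨h, hh⟩ := Groth.Agent.H50.exists_factor_of_isReducedSp i.hom j hj hZred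
      (by rw [hi, hjr])
    have h1 : h ≫ g = 𝟙 _ := by
      rw [← cancel_mono i.hom, Category.assoc, hg, hh, Category.id_comp]
    have h2 : g ≫ h = 𝟙 _ := by
      rw [← cancel_mono j, Category.assoc, hh, hg, Category.id_comp]
    have hiso : IsIso h := ⟨g, h1, h2⟩
    rw [← hh]
    exact MorphismProperty.RespectsIso.precomp _ h j hj
  · intro hci
    have := Groth.Agent.H50.isClosed_range_map_of_closedImmersion X.property i.hom hci
    rwa [hi] at this

end Groth.Agent.S10416
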