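import Groth.Statements.S10422
import Mathlib.RingTheory.TensorProduct.Nontrivial
import Mathlib.LinearAlgebra.TensorProduct.Finiteness
import Mathlib.LinearAlgebra.Matrix.Rank
import Mathlib.RingTheory.Ideal.Quotient.Basic
import Mathlib.RingTheory.Spectrum.Prime.RingHom

set_option autoImplicit false
universe u
open Topology TopologicalSpace TensorProduct
open AlgSp

namespace Groth.Agent.S10422

/-- Finitely many field extensions of `k` embed into a common field extension of `k`. -/
theorem exists_common_field (k : Type u) [Field k] (K : ℕ → Type u) [∀ n, Field (K n)]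
    [∀ n, Algebra k (K n)] (r : ℕ) :
    ∃ (Ω : Type u) (_ : Field Ω) (_ : Algebra k Ω), ∀ n < r, Nonempty (K n →ₐ[k] Ω) := by
  induction r with
  | zero => exact ⟨k, inferInstance, inferInstance, fun n hn => absurd hn (Nat.not_lt_zero n)⟩
  | succ r ih =>
    obtain ⟨Ω, _, _, hΩ⟩ := ih
    have : Nontrivial (Ω ⊗[k] K r) :=
      Algebra.TensorProduct.nontrivial_of_algebraMap_injective_of_isDomain k Ω (K r)
        (algebraMap k Ω).injective (algebraMap k (K r)).injective
    obtain ⟨m, hm⟩ := Ideal.exists_maximal (Ω ⊗[k] K r)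
    refine ⟨(Ω ⊗[k] K r) ⧸ m, Ideal.Quotient.field m, inferInstance, fun n hn => ?_⟩
    rcases Nat.lt_succ_iff_lt_or_eq.mp hn with h | rfl
    · obtain ⟨σ⟩ := hΩ n h
      exact ⟨((Ideal.Quotient.mkₐ k m).comp Algebra.TensorProduct.includeLeft).comp σ⟩
    · exact ⟨(Ideal.Quotient.mkₐ k m).comp Algebra.TensorProduct.includeRight⟩

/-- Let A be a ring, k a field, (p_n) a sequence of primes of A which are pairwise distinct, and k →
κ(p_n) field embeddings. Then the closure in Spec(A ⊗ A) of the image of ∐_{n ≠ m} Spec(κ(p_n) ⊗_k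
κ(p_m)) meets the diagonal. Here κ(p_n) is any A-algebra K_n which is a field whose structure map
has kernel p_n and whose elements are quotients of images of elements of A. -/
theorem result (A : Type u) [CommRing A] (k : Type u) [Field k]
    (p : ℕ → PrimeSpectrum A) (hp : Function.Injective p) (K : ℕ → Type u) [∀ n, Field (K n)]
    [∀ n, Algebra A (K n)] [∀ n, Algebra k (K n)]
    (hker : ∀ n, RingHom.ker (algebraMap A (K n)) = (p n).asIdeal)
    (hfrac : ∀ n (x : K n), ∃ a b : A, algebraMap A (K n) b ≠ 0 ∧ x * algebraMap A (K n) b = algebraMap A (K n) a) :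
    (closure (⋃ (n : ℕ) (m : ℕ) (_ : n ≠ m),
        Set.range (PrimeSpectrum.comap
          (Algebra.TensorProduct.lift
            ((Algebra.TensorProduct.includeLeft (R := k) (S := ℤ) (A := K n) (B := K m)).toRingHom.toIntAlgHom.comp
              (Algebra.ofId A (K n)).toRingHom.toIntAlgHom)
            ((Algebra.TensorProduct.includeRight (R := k) (A := K n) (B := K m)).toRingHom.toIntAlgHom.comp
              (Algebra.ofId A (K m)).toRingHom.toIntAlgHom)
            (fun _ _ => Commute.all _ _)).toRingHom)) ∩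
      Set.range (PrimeSpectrum.comap (Algebra.TensorProduct.lmul' (S := A) ℤ).toRingHom)).Nonempty := by
  classical
  set T : Set (PrimeSpectrum (A ⊗[ℤ] A)) := ⋃ (n : ℕ) (m : ℕ) (_ : n ≠ m),
        Set.range (PrimeSpectrum.comap
          (Algebra.TensorProduct.lift
            ((Algebra.TensorProduct.includeLeft (R := k) (S := ℤ) (A := K n) (B := K m)).toRingHom.toIntAlgHom.comp
              (Algebra.ofId A (K n)).toRingHom.toIntAlgHom)
            ((Algebra.TensorProduct.includeRight (R := k) (A := K n) (B := K m)).toRingHom.toIntAlgHom.comp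
              (Algebra.ofId A (K m)).toRingHom.toIntAlgHom)
            (fun _ _ => Commute.all _ _)).toRingHom) with hT
  set μ : A ⊗[ℤ] A →+* A := (Algebra.TensorProduct.lmul' (S := A) ℤ).toRingHom with hμ
  have hμsurj : Function.Surjective μ := fun a => ⟨a ⊗ₜ 1, by simp [hμ]⟩
  rw [← PrimeSpectrum.zeroLocus_vanishingIdeal_eq_closure, range_comap_of_surjective _ μ hμsurj,
    ← PrimeSpectrum.zeroLocus_sup, Set.nonempty_iff_ne_empty, Ne, PrimeSpectrum.zeroLocus_empty_iff_eq_top]
  intro htop
  have h1 : (1 : A ⊗[ℤ] A) ∈ PrimeSpectrum.vanishingIdeal T ⊔ RingHom.ker μ := by rw [htop]; trivial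
  obtain ⟨z, hz, w, hw, hzw⟩ := Submodule.mem_sup.mp h1
  have hμz : μ z = 1 := by
    have := congrArg μ hzw
    rw [map_add, RingHom.mem_ker.mp hw, add_zero, map_one] at this
    exact this
  obtain ⟨s, hs⟩ := TensorProduct.exists_finset z
  obtain ⟨Ω, _, _, hΩ⟩ := exists_common_field k K (s.card + 1)
  let σ : ∀ j : Fin (s.card + 1), K j →ₐ[k] Ω := fun j => (hΩ j.val j.isLt).some
  let ψ : ∀ n m : Fin (s.card + 1), K n ⊗[k] K m →ₐ[k] Ω := fun n m =>
    Algebra.TensorProduct.lift (σ n) (σ m) (fun _ _ => Commute.all _ _)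
  let f : ∀ n m : ℕ, A ⊗[ℤ] A →+* K n ⊗[k] K m := fun n m =>
    (Algebra.TensorProduct.lift
            ((Algebra.TensorProduct.includeLeft (R := k) (S := ℤ) (A := K n) (B := K m)).toRingHom.toIntAlgHom.comp
              (Algebra.ofId A (K n)).toRingHom.toIntAlgHom)
            ((Algebra.TensorProduct.includeRight (R := k) (A := K n) (B := K m)).toRingHom.toIntAlgHom.comp
              (Algebra.ofId A (K m)).toRingHom.toIntAlgHom)
            (fun _ _ => Commute.all _ _)).toRingHom
  have hf_tmul : ∀ (n m : Fin (s.card + 1)) (a b : A),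
      ψ n m (f n m (a ⊗ₜ b)) = σ n (algebraMap A (K n) a) * σ m (algebraMap A (K m) b) := by
    intro n m a b
    simp [ψ, f, Algebra.ofId_apply]
  -- off-diagonal vanishing
  have hoff : ∀ n m : Fin (s.card + 1), n ≠ m → ψ n m (f n m z) = 0 := by
    intro n m hnm
    have hprime : (RingHom.ker (ψ n m).toRingHom).IsPrime := RingHom.ker_isPrime _
    let q : PrimeSpectrum (K n ⊗[k] K m) := ⟨RingHom.ker (ψ n m).toRingHom, hprime⟩
    have hx : PrimeSpectrum.comap (f n m) q ∈ T := by
      rw [hT]
      refine Set.mem_iUnion.mpr ⟨n, Set.mem_iUnion.mpr ⟨m, Set.mem_iUnion.mpr ⟨?_, ⟨q, rfl⟩⟩⟩⟩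
      exact fun h => hnm (Fin.ext h)
    have := (PrimeSpectrum.mem_vanishingIdeal T z).mp hz _ hx
    exact this
  let U : Matrix (Fin (s.card + 1)) s Ω := fun j i => σ j (algebraMap A (K j) i.1.1)
  let V : Matrix s (Fin (s.card + 1)) Ω := fun i j => σ j (algebraMap A (K j) i.1.2)
  have hUV : ∀ n m, (U * V) n m = ψ n m (f n m z) := by
    intro n m
    rw [hs, map_sum, map_sum, Matrix.mul_apply, ← Finset.sum_coe_sort s]
    refine Finset.sum_congr rfl fun i _ => ?_
    rw [hf_tmul]
  have hdiag : ∀ n, (U * V) n n = 1 := by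
    intro n
    have hμz' : μ z = ∑ i ∈ s, i.1 * i.2 := by
      rw [hs, map_sum]
      refine Finset.sum_congr rfl fun i _ => ?_
      simp [hμ]
    rw [Matrix.mul_apply]
    have : ∑ i : s, U n i * V i n = σ n (algebraMap A (K n) (∑ i ∈ s, i.1 * i.2)) := by
      rw [map_sum, map_sum, ← Finset.sum_coe_sort s]
      refine Finset.sum_congr rfl fun i _ => ?_
      simp [U, V]
    rw [this, ← hμz', hμz, map_one, map_one]
  have hone : U * V = 1 := by
    ext n m
    by_cases hnm : n = m
    · subst hnm; rw [hdiag, Matrix.one_apply_eq]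
    · rw [hUV, hoff n m hnm, Matrix.one_apply_ne hnm]
  have hrank : (U * V).rank = s.card + 1 := by
    rw [hone, Matrix.rank_one, Fintype.card_fin]
  have hle : (U * V).rank ≤ s.card :=
    (Matrix.rank_mul_le_left U V).trans ((Matrix.rank_le_card_width U).trans (by simp))
  omega

end Groth.Agent.S10422
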