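import Groth.Statements.S10428
import Mathlib
import Groth.Agent.H69.UnivBddSp
import Groth.Agent.H52.DecentTop

set_option autoImplicit false
universe u
open CategoryTheory CategoryTheory.Limits AlgebraicGeometry Topology TopologicalSpace
open AlgSp

namespace Groth.Agent.S10428

/-- Let X be an algebraic space over a scheme S and φ : U ⟶ X a morphism from a scheme with universally
bounded fibres. Then for some integer n, every fibre of |U| → |X| contains at most n elements. -/
theorem result {S : Scheme.{u}} (X : AlgSp.Space S) {U : Over S}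
    (φ : (AlgSp.yon S).obj U ⟶ X.obj) (hφ : W4dec.HasUnivBddFibres φ) :
    ∃ n : ℕ, ∀ x : AlgSp.Points X.obj, (AlgSp.Points.ofPt φ ⁻¹' {x}).encard ≤ n := by
  obtain ⟨n, hn⟩ := hφ
  refine ⟨n, fun x => ?_⟩
  induction x using AlgSp.Points.ind with
  | h p =>
  have hrep := X.property.representable_from_yon φ
  obtain ⟨T, c, snd, sq⟩ := hrep p.toHom
  obtain ⟨ψ, rfl⟩ := (AlgSp.yon S).map_surjective snd
  have h1 := hn p T c ((AlgSp.yon S).map ψ) sq.flip
  have h2 := (H69.UnivBddSp.finiteOfDegLE_iff c.left n).2 h1
  obtain ⟨hfin, hcard⟩ := H37.BddFibLib.card_le_of_finiteOfDegLE c.left n h2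
  rw [H52.fibre_eq_range_of_isPullback p φ sq.flip]
  calc (Set.range ψ.left).encard ≤ (Set.univ : Set ↥T.left).encard := by
        rw [← Set.image_univ]; exact Set.encard_image_le _ _
    _ = (Nat.card ↥T.left : ℕ∞) := by
        rw [Set.encard_univ, ENat.card_eq_coe_natCard]
    _ ≤ n := by exact_mod_cast hcard

end Groth.Agent.S10428
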