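import Groth.Statements.S10430
import Groth.Agent.H52.DecentCrit

set_option autoImplicit false
universe u
open CategoryTheory CategoryTheory.Limits AlgebraicGeometry Topology TopologicalSpace
open AlgSp

namespace Groth.Agent.S10430

/-- If every etale morphism U ⟶ X from an affine scheme to the algebraic space X has universally bounded
fibres, then X is decent. -/
theorem result {S : Scheme.{u}} (X : AlgSp.Space S)
    (h : ∀ (U : Over S) (φ : (AlgSp.yon S).obj U ⟶ X.obj), IsAffine U.left → AlgSp.RepWith @Etale φ → W4dec.HasUnivBddFibres φ) :
    AlgSp.IsDecent X.obj := by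
  refine Groth.Agent.H52.isDecent_of_finite_fibreProducts X.property ?_
  intro U a hU hae q W wU wZ sqW
  obtain ⟨n, hn⟩ := h U a hU hae
  have hfin : IsFinite wZ.left := (hn q W wZ ((AlgSp.yon S).map wU) sqW.flip).1
  exact Groth.Agent.H52.finite_of_isFinite_field (K := q.K) wZ.left

end Groth.Agent.S10430
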