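import Groth.Statements.S9781
import Mathlib
import Groth.Agent.H70.UnibranchScheme

set_option autoImplicit false
universe u
open Brnch

namespace Groth.Agent.S9781



open AlgebraicGeometry CategoryTheory Limits in
/-- The local ring of X at x is unibranch exactly when, for each étale morphism g : U ⟶ X and point u
over x with trivial residue field extension (an elementary étale neighbourhood), the point u lies on
a single irreducible component of U. -/
theorem result (X : Scheme.{u}) (x : X) :
    CAlg2.IsUnibranch ↑(X.presheaf.stalk x) ↔ ∀ (U : Scheme.{u}) (g : U ⟶ X) (u : U), Hens2.IsEtaleNbhd g u x →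
      {Z : Set ↑U | Z ∈ irreducibleComponents ↑U ∧ u ∈ Z}.encard = 1 := by
  constructor
  · rintro hX U g u ⟨hg, rfl, hres⟩
    haveI := hg
    exact Groth.Agent.H70.UnibranchScheme.encard_eq_one_of_isUnibranch g u hres hX
  · intro H
    exact Groth.Agent.H70.UnibranchScheme.isUnibranch_of_forall_encard_eq_one x H

end Groth.Agent.S9781
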