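import Groth.Statements.S10441
import Groth.Agent.H32.ElemHens4
import Groth.Agent.H32.EtSH12
import Groth.Agent.S2052
import Groth.Agent.S9781

set_option autoImplicit false
universe u
open CategoryTheory CategoryTheory.Limits AlgebraicGeometry Topology TopologicalSpace
open AlgSp

namespace Groth.Agent.S10441

/-- For a decent algebraic space X over a scheme S and x ∈ |X|, fix an elementary etale neighbourhood
(U₀, u₀) of (X, x) and a henselization R of O_{U₀, u₀} (a model of the henselian local ring at x).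
The following are equivalent: (1) O_{U, u} has exactly one minimal prime whenever (U, u) is an
elementary etale neighbourhood of (X, x); (2) a unique irreducible component of U passes through u
for all such (U, u); (3) O_{U, u} is unibranch for all such (U, u); (4) R has exactly one minimal
prime. -/
theorem result {S : Scheme.{u}} (X : AlgSp.Space S)
    (hX : AlgSp.IsDecent X.obj) (x : AlgSp.Points X.obj) {U₀ : Over S}
    (a₀ : (AlgSp.yon S).obj U₀ ⟶ X.obj) (u₀ : ↥U₀.left) (h₀ : AlgSp.IsElemEtaleNbhd a₀ u₀ x)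
    (R : Type u) [CommRing R] [IsLocalRing R] [Algebra ↥(U₀.left.presheaf.stalk u₀) R]
    [IsLocalHom (algebraMap ↥(U₀.left.presheaf.stalk u₀) R)] [Hensel.IsHenselization ↥(U₀.left.presheaf.stalk u₀) R] :
    ((∀ (U : Over S) (a : (AlgSp.yon S).obj U ⟶ X.obj) (u : ↥U.left), AlgSp.IsElemEtaleNbhd a u x →
        CAlgX.HasUniqueMinimalPrime ↥(U.left.presheaf.stalk u)) ↔
      (∀ (U : Over S) (a : (AlgSp.yon S).obj U ⟶ X.obj) (u : ↥U.left), AlgSp.IsElemEtaleNbhd a u x →
        {Z : Set ↥U.left | Z ∈ irreducibleComponents ↥U.left ∧ u ∈ Z}.encard = 1)) ∧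
    ((∀ (U : Over S) (a : (AlgSp.yon S).obj U ⟶ X.obj) (u : ↥U.left), AlgSp.IsElemEtaleNbhd a u x →
        {Z : Set ↥U.left | Z ∈ irreducibleComponents ↥U.left ∧ u ∈ Z}.encard = 1) ↔
      (∀ (U : Over S) (a : (AlgSp.yon S).obj U ⟶ X.obj) (u : ↥U.left), AlgSp.IsElemEtaleNbhd a u x →
        CAlg2.IsUnibranch ↥(U.left.presheaf.stalk u))) ∧
    ((∀ (U : Over S) (a : (AlgSp.yon S).obj U ⟶ X.obj) (u : ↥U.left), AlgSp.IsElemEtaleNbhd a u x →
        CAlg2.IsUnibranch ↥(U.left.presheaf.stalk u)) ↔ CAlgX.HasUniqueMinimalPrime R) := by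
  have hXa : IsAlgSpace X.obj := X.property
  -- (B) ↔ (A) pointwise
  have hAB : ∀ (U : Over S) (u : ↥U.left), CAlgX.HasUniqueMinimalPrime ↥(U.left.presheaf.stalk u) ↔
      {Z : Set ↥U.left | Z ∈ irreducibleComponents ↥U.left ∧ u ∈ Z}.encard = 1 := by
    intro U u
    rw [Groth.Agent.H32.EtSH.hasUniqueMinimalPrime_iff_encard,
      Groth.Agent.H32.EtSH.encard_irreducibleComponents_eq_minimalPrimes_stalk]
  -- unibranch of any nbhd ↔ unique minimal prime of R
  have hCD : ∀ (U : Over S) (a : (AlgSp.yon S).obj U ⟶ X.obj) (u : ↥U.left), AlgSp.IsElemEtaleNbhd a u x →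
      (CAlg2.IsUnibranch ↥(U.left.presheaf.stalk u) ↔ CAlgX.HasUniqueMinimalPrime R) := by
    intro U a u h
    obtain ⟨R₂, _, _, alg₁, alg₂, l₁, l₂, H₁, H₂⟩ :=
      Groth.Agent.H32.ElemHens.exists_common_henselization hXa x a a₀ u u₀ h h₀
    rw [@Groth.Agent.S2052.result _ R₂ _ _ _ _ alg₁ l₁ H₁,
      ← @Groth.Agent.S2052.result _ R₂ _ _ _ _ alg₂ l₂ H₂]
    exact Groth.Agent.S2052.result
  refine ⟨?_, ?_, ?_⟩
  · constructor
    · intro H U a u h
      exact (hAB U u).mp (H U a u h)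
    · intro H U a u h
      exact (hAB U u).mpr (H U a u h)
  · constructor
    · intro H U a u h
      rw [Groth.Agent.S9781.result]
      intro U₁ g u₁ hg
      exact H (Over.mk (g ≫ U.hom)) _ u₁
        (Groth.Agent.H32.ElemHens.isElemEtaleNbhd_of_isEtaleNbhd a u x h g u₁ hg)
    · intro H U a u h
      exact (Groth.Agent.S9781.result U.left u).mp (H U a u h) U.left (𝟙 _) u
        (Groth.Agent.H32.ElemHens.isEtaleNbhd_id U.left u)
  · constructor
    · intro H
      exact (hCD U₀ a₀ u₀ h₀).mp (H U₀ a₀ u₀ h₀)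
    · intro H U a u h
      exact (hCD U a u h).mpr H

end Groth.Agent.S10441
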