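import Groth.Statements.S10442
import Groth.Agent.H32.ElemHens4
import Groth.Agent.H32.EtSH12
import Groth.Agent.S9237
import Groth.Agent.S9752

set_option autoImplicit false
universe u
open CategoryTheory CategoryTheory.Limits AlgebraicGeometry Topology TopologicalSpace
open AlgSp

namespace Groth.Agent.S10442

/-- For a decent algebraic space X over a scheme S, x ∈ |X| and n ≥ 1, fix an elementary etale
neighbourhood (U₀, u₀) of (X, x) and a henselization R of O_{U₀, u₀} (a model of the henselian local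
ring at x). The following are equivalent: (1) over all elementary etale neighbourhoods (U, u) of (X,
x), O_{U, u} has at most n minimal primes, with the value n attained; (2) the same for the number of
irreducible components of U through u; (3) the same for the branch number of U at u; (4) R has
exactly n minimal primes. -/
theorem result {S : Scheme.{u}} (X : AlgSp.Space S)
    (hX : AlgSp.IsDecent X.obj) (x : AlgSp.Points X.obj) (n : ℕ) (hn : 1 ≤ n) {U₀ : Over S}
    (a₀ : (AlgSp.yon S).obj U₀ ⟶ X.obj) (u₀ : ↥U₀.left) (h₀ : AlgSp.IsElemEtaleNbhd a₀ u₀ x)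
    (R : Type u) [CommRing R] [IsLocalRing R] [Algebra ↥(U₀.left.presheaf.stalk u₀) R]
    [IsLocalHom (algebraMap ↥(U₀.left.presheaf.stalk u₀) R)] [Hensel.IsHenselization ↥(U₀.left.presheaf.stalk u₀) R] :
    (((∀ (U : Over S) (a : (AlgSp.yon S).obj U ⟶ X.obj) (u : ↥U.left), AlgSp.IsElemEtaleNbhd a u x →
        (minimalPrimes ↥(U.left.presheaf.stalk u)).encard ≤ n) ∧
      (∃ (U : Over S) (a : (AlgSp.yon S).obj U ⟶ X.obj) (u : ↥U.left), AlgSp.IsElemEtaleNbhd a u x ∧
        (minimalPrimes ↥(U.left.presheaf.stalk u)).encard = n)) ↔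
     ((∀ (U : Over S) (a : (AlgSp.yon S).obj U ⟶ X.obj) (u : ↥U.left), AlgSp.IsElemEtaleNbhd a u x →
        {Z : Set ↥U.left | Z ∈ irreducibleComponents ↥U.left ∧ u ∈ Z}.encard ≤ n) ∧
      (∃ (U : Over S) (a : (AlgSp.yon S).obj U ⟶ X.obj) (u : ↥U.left), AlgSp.IsElemEtaleNbhd a u x ∧
        {Z : Set ↥U.left | Z ∈ irreducibleComponents ↥U.left ∧ u ∈ Z}.encard = n))) ∧
    (((∀ (U : Over S) (a : (AlgSp.yon S).obj U ⟶ X.obj) (u : ↥U.left), AlgSp.IsElemEtaleNbhd a u x →
        {Z : Set ↥U.left | Z ∈ irreducibleComponents ↥U.left ∧ u ∈ Z}.encard ≤ n) ∧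
      (∃ (U : Over S) (a : (AlgSp.yon S).obj U ⟶ X.obj) (u : ↥U.left), AlgSp.IsElemEtaleNbhd a u x ∧
        {Z : Set ↥U.left | Z ∈ irreducibleComponents ↥U.left ∧ u ∈ Z}.encard = n)) ↔
     ((∀ (U : Over S) (a : (AlgSp.yon S).obj U ⟶ X.obj) (u : ↥U.left), AlgSp.IsElemEtaleNbhd a u x →
        Brnch.numBranchesAt U.left u ≤ n) ∧
      (∃ (U : Over S) (a : (AlgSp.yon S).obj U ⟶ X.obj) (u : ↥U.left), AlgSp.IsElemEtaleNbhd a u x ∧
        Brnch.numBranchesAt U.left u = n))) ∧
    (((∀ (U : Over S) (a : (AlgSp.yon S).obj U ⟶ X.obj) (u : ↥U.left), AlgSp.IsElemEtaleNbhd a u x →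
        Brnch.numBranchesAt U.left u ≤ n) ∧
      (∃ (U : Over S) (a : (AlgSp.yon S).obj U ⟶ X.obj) (u : ↥U.left), AlgSp.IsElemEtaleNbhd a u x ∧
        Brnch.numBranchesAt U.left u = n)) ↔
     (minimalPrimes R).encard = n) := by
  have hXa : IsAlgSpace X.obj := X.property
  have hAB : ∀ (U : Over S) (u : ↥U.left),
      {Z : Set ↥U.left | Z ∈ irreducibleComponents ↥U.left ∧ u ∈ Z}.encard =
        (minimalPrimes ↥(U.left.presheaf.stalk u)).encard := fun U u =>
    Groth.Agent.H32.EtSH.encard_irreducibleComponents_eq_minimalPrimes_stalk U.left u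
  have hCD : ∀ (U : Over S) (a : (AlgSp.yon S).obj U ⟶ X.obj) (u : ↥U.left), AlgSp.IsElemEtaleNbhd a u x →
      Brnch.numBranchesAt U.left u = (minimalPrimes R).encard := by
    intro U a u h
    obtain ⟨R₂, _, _, alg₁, alg₂, l₁, l₂, H₁, H₂⟩ :=
      Groth.Agent.H32.ElemHens.exists_common_henselization hXa x a a₀ u u₀ h h₀
    have e1 := @Groth.Agent.S9237.result ↥(U.left.presheaf.stalk u) R₂ _ _ _ _ alg₁ l₁ H₁
    have e2 := @Groth.Agent.S9237.result ↥(U₀.left.presheaf.stalk u₀) R₂ _ _ _ _ alg₂ l₂ H₂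
    have e3 := Groth.Agent.S9237.result ↥(U₀.left.presheaf.stalk u₀) R
    change Brnch.numBranches _ = _
    rw [← e1, e2, ← e3]
    rfl
  have hle : ∀ (U : Over S) (u : ↥U.left),
      {Z : Set ↥U.left | Z ∈ irreducibleComponents ↥U.left ∧ u ∈ Z}.encard ≤
        Brnch.numBranchesAt U.left u := by
    intro U u
    rw [Groth.Agent.S9752.result]
    exact le_iSup_of_le U.left (le_iSup_of_le (𝟙 _) (le_iSup_of_le u
      (le_iSup_of_le (Groth.Agent.H32.ElemHens.isEtaleNbhd_id U.left u) le_rfl)))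
  refine ⟨?_, ?_, ?_⟩
  · simp only [hAB]
  · constructor
    · rintro ⟨HB1, U, a, u, h, e⟩
      have C1 : ∀ (U : Over S) (a : (AlgSp.yon S).obj U ⟶ X.obj) (u : ↥U.left),
          AlgSp.IsElemEtaleNbhd a u x → Brnch.numBranchesAt U.left u ≤ n := by
        intro U a u h
        rw [Groth.Agent.S9752.result]
        refine iSup_le fun U₁ => iSup_le fun g => iSup_le fun u₁ => iSup_le fun hg => ?_
        exact HB1 (Over.mk (g ≫ U.hom)) _ u₁ (Groth.Agent.H32.ElemHens.isElemEtaleNbhd_of_isEtaleNbhd a u x h g u₁ hg)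
      exact ⟨C1, U, a, u, h, le_antisymm (C1 U a u h) (e ▸ hle U u)⟩
    · rintro ⟨HC1, U, a, u, h, e⟩
      have B1 : ∀ (U : Over S) (a : (AlgSp.yon S).obj U ⟶ X.obj) (u : ↥U.left),
          AlgSp.IsElemEtaleNbhd a u x →
          {Z : Set ↥U.left | Z ∈ irreducibleComponents ↥U.left ∧ u ∈ Z}.encard ≤ n :=
        fun U a u h => (hle U u).trans (HC1 U a u h)
      refine ⟨B1, ?_⟩
      by_contra hne
      push_neg at hne
      obtain ⟨m, rfl⟩ : ∃ m : ℕ, n = m + 1 := ⟨n - 1, by omega⟩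
      have hsup : Brnch.numBranchesAt U.left u ≤ (m : ℕ∞) := by
        rw [Groth.Agent.S9752.result]
        refine iSup_le fun U₁ => iSup_le fun g => iSup_le fun u₁ => iSup_le fun hg => ?_
        have hnb := Groth.Agent.H32.ElemHens.isElemEtaleNbhd_of_isEtaleNbhd a u x h g u₁ hg
        have h1 := B1 (Over.mk (g ≫ U.hom)) _ u₁ hnb
        have h2 := hne (Over.mk (g ≫ U.hom)) _ u₁ hnb
        have h3 := lt_of_le_of_ne h1 h2
        rw [Nat.cast_add, Nat.cast_one] at h3
        exact (ENat.lt_add_one_iff (ENat.coe_ne_top m)).mp h3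
      rw [e] at hsup
      exact absurd hsup (by rw [not_le]; exact_mod_cast Nat.lt_succ_self m)
  · constructor
    · rintro ⟨-, U, a, u, h, e⟩
      rw [← hCD U a u h]
      exact e
    · intro H
      refine ⟨fun U a u h => ?_, U₀, a₀, u₀, h₀, ?_⟩
      · rw [hCD U a u h, H]
      · rw [hCD U₀ a₀ u₀ h₀, H]

end Groth.Agent.S10442
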