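import Groth.Statements.S10445
import Groth.Agent.H52.FibreCond3

set_option autoImplicit false
universe u
open CategoryTheory CategoryTheory.Limits AlgebraicGeometry Topology TopologicalSpace
open AlgSp

namespace Groth.Agent.S10445

open Groth.Agent.H52

/-- Transfer of pointwise topological conditions along an embedding onto a subset. -/
theorem fibre_point_transfer {A B : Type*} [TopologicalSpace A] [TopologicalSpace B] (g : A → B)
    (hg : IsEmbedding g) {F : Set B} (hr : Set.range g = F) (a : A) (b : B) (hb : b ∈ F) (hab : g a = b) :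
    (IsOpen ({(⟨b, hb⟩ : ↥F)} : Set ↥F) ↔ IsOpen ({a} : Set A)) ∧
    ((IsClosed ({(⟨b, hb⟩ : ↥F)} : Set ↥F) ∧ ∀ x' : ↥F, x' ⤳ (⟨b, hb⟩ : ↥F) → x' = ⟨b, hb⟩) ↔
      (IsClosed ({a} : Set A) ∧ ∀ a' : A, a' ⤳ a → a' = a)) := by
  subst hr
  subst hab
  let ψ : A ≃ₜ ↥(Set.range g) := hg.toHomeomorph
  have hψ : ψ a = ⟨g a, hb⟩ := rfl
  have himg : ψ '' {a} = {(⟨g a, hb⟩ : ↥(Set.range g))} := by rw [Set.image_singleton, hψ]
  refine ⟨?_, ?_⟩
  · rw [← himg, ψ.isOpen_image]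
  · rw [← himg, ψ.isClosed_image]
    refine and_congr Iff.rfl ?_
    constructor
    · intro H a' ha'
      have := H (ψ a') (by rw [← hψ]; exact ha'.map ψ.continuous)
      exact ψ.injective (this.trans hψ.symm)
    · intro H x' hx'
      obtain ⟨a', rfl⟩ := ψ.surjective x'
      rw [← hψ] at hx' ⊢
      rw [H a' (ψ.isInducing.specializes_iff.1 hx')]

theorem fibre_localDim_transfer {A B : Type*} [TopologicalSpace A] [TopologicalSpace B] (g : A → B)
    (hg : IsEmbedding g) {F : Set B} (hr : Set.range g = F) (a : A) (b : B) (hb : b ∈ F) (hab : g a = b) :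
    FlatMor.localDim ↥F (⟨b, hb⟩ : ↥F) = FlatMor.localDim A a := by
  subst hr
  subst hab
  exact (Groth.Agent.H9.FibDim.localDim_of_isOpenEmbedding hg.toHomeomorph.isOpenEmbedding a).symm


/-- Take f : X ⟶ Y locally of finite type between algebraic spaces over a scheme S, a field-valued point
Spec k ⟶ Y with class y, the fibre product X_k = Spec k ×_Y X, x ∈ |X| over y, x̃ ∈ |X_k| over x,
and F = |f|⁻¹(y) with the induced topology. Numbering the conditions (1) dim_x F = 0, (2) x isolated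
in F, (3) x closed in F with no proper generization in F, (4) dim_{x̃} |X_k| = 0, (5) x̃ isolated in
|X_k|, (6) x̃ closed in |X_k| with no proper generization, (7) dim_{x̃}(X_k) = 0 (local dimension of
an etale chart), (8) f quasi-finite at x: (5) ⇔ (6) ⇔ (7) ⇔ (8); (4) ⇔ (5) when X_k is decent; (2) ⇔
(5) and (3) ⇔ (6) when Y is decent; (1) ⇔ (2) when X and Y are decent. -/
theorem result {S : Scheme.{u}} {X Y : AlgSp.Space S} (f : X ⟶ Y)
    (hf : AlgSp.LocP @LocallyOfFiniteType f.hom) (r : AlgSp.FieldPt Y.obj) (Xk : AlgSp.Space S) (fst : Xk ⟶ X)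
    (snd : Xk.obj ⟶ (AlgSp.yon S).obj r.pt) (hsq : IsPullback fst.hom snd f.hom r.toHom)
    (x : AlgSp.Points X.obj) (hx : x ∈ (AlgSp.Points.map f.hom ⁻¹' {AlgSp.Points.mk r})) (xt : AlgSp.Points Xk.obj)
    (hxt : AlgSp.Points.map fst.hom xt = x) :
    ((IsOpen ({xt} : Set (AlgSp.Points Xk.obj)) ↔
      IsClosed ({xt} : Set (AlgSp.Points Xk.obj)) ∧ ∀ x' : AlgSp.Points Xk.obj, x' ⤳ xt → x' = xt) ∧
    (IsOpen ({xt} : Set (AlgSp.Points Xk.obj)) ↔ AlgSp.HasAt (fun U u => FlatMor.localDim ↥U u = 0) Xk.obj xt) ∧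
    (AlgSp.HasAt (fun U u => FlatMor.localDim ↥U u = 0) Xk.obj xt ↔ AlgSp.HasAtMor (fun U _ h u => ∃ W : U.Opens, u ∈ W ∧ LocallyQuasiFinite (W.ι ≫ h) ∧ LocallyOfFiniteType (W.ι ≫ h)) f.hom x) ∧
    (AlgSp.IsDecent Xk.obj →
      (FlatMor.localDim (AlgSp.Points Xk.obj) xt = 0 ↔ IsOpen ({xt} : Set (AlgSp.Points Xk.obj)))) ∧
    (AlgSp.IsDecent Y.obj →
      (IsOpen ({(⟨x, hx⟩ : ↥(AlgSp.Points.map f.hom ⁻¹' {AlgSp.Points.mk r}))} : Set ↥(AlgSp.Points.map f.hom ⁻¹' {AlgSp.Points.mk r})) ↔ IsOpen ({xt} : Set (AlgSp.Points Xk.obj))) ∧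
      ((IsClosed ({(⟨x, hx⟩ : ↥(AlgSp.Points.map f.hom ⁻¹' {AlgSp.Points.mk r}))} : Set ↥(AlgSp.Points.map f.hom ⁻¹' {AlgSp.Points.mk r})) ∧ ∀ x' : ↥(AlgSp.Points.map f.hom ⁻¹' {AlgSp.Points.mk r}), x' ⤳ (⟨x, hx⟩ : ↥(AlgSp.Points.map f.hom ⁻¹' {AlgSp.Points.mk r})) → x' = (⟨x, hx⟩ : ↥(AlgSp.Points.map f.hom ⁻¹' {AlgSp.Points.mk r}))) ↔
        IsClosed ({xt} : Set (AlgSp.Points Xk.obj)) ∧ ∀ x' : AlgSp.Points Xk.obj, x' ⤳ xt → x' = xt)) ∧
    (AlgSp.IsDecent Y.obj → AlgSp.IsDecent X.obj →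
      (FlatMor.localDim ↥(AlgSp.Points.map f.hom ⁻¹' {AlgSp.Points.mk r}) (⟨x, hx⟩ : ↥(AlgSp.Points.map f.hom ⁻¹' {AlgSp.Points.mk r})) = 0 ↔ IsOpen ({(⟨x, hx⟩ : ↥(AlgSp.Points.map f.hom ⁻¹' {AlgSp.Points.mk r}))} : Set ↥(AlgSp.Points.map f.hom ⁻¹' {AlgSp.Points.mk r}))))) := by
  have hX := X.property
  have hY := Y.property
  have hXk := Xk.property
  have hsnd := lft_snd_fibre hX hY f.hom hf r fst.hom snd hsq
  have hK : FieldCharts r.K Xk.obj := FC.of_lft r.str snd hsnd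
  have h1 := FC.isOpen_singleton_iff_isClosed_and hXk hK xt
  have h2 := FC.hasAt_localDim_zero_iff_isOpen_singleton hXk hK xt
  have h3 : IsOpen ({xt} : Set (AlgSp.Points Xk.obj)) ↔ LqfAt f.hom x := by
    rw [← lqfAt_field_iff_isOpen_singleton r.str hXk snd hsnd xt,
      lqfAt_baseChange_iff hX hY (IsAlgSpace.yon_obj _) hXk f.hom hf r.toHom fst.hom snd hsq xt, hxt]
  refine ⟨h1, h2, h2.symm.trans h3, fun hd => FC.localDim_points_eq_zero_iff hXk hK hd xt,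
    fun hYd => ?_, fun hYd hXd => ?_⟩
  · obtain ⟨K₀, _, str₀, X₀, snd₀, fst₀, e, c, hX₀, hsnd₀, sqe, he, hemb, hrange₀, -⟩ :=
      exists_fibre_data hX hY f.hom hf r fst.hom snd hsq hYd
    have hK₀ : FieldCharts K₀ X₀ := FC.of_lft str₀ snd₀ hsnd₀
    have hopen := isOpen_singleton_field_baseChange_iff r.str str₀ c hXk hX₀ snd snd₀ e hsnd₀ sqe xt
    have key := fibre_point_transfer (AlgSp.Points.map fst₀) hemb hrange₀ (AlgSp.Points.map e xt) x hx
      (by rw [← AlgSp.Points.map_comp, he, hxt])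
    refine ⟨key.1.trans hopen.symm, ?_⟩
    rw [key.2, ← FC.isOpen_singleton_iff_isClosed_and hX₀ hK₀, ← hopen, h1]
  · obtain ⟨K₀, _, str₀, X₀, snd₀, fst₀, e, c, hX₀, hsnd₀, sqe, he, hemb, hrange₀, hdec⟩ :=
      exists_fibre_data hX hY f.hom hf r fst.hom snd hsq hYd
    have hX₀d := hdec hXd
    have hK₀ : FieldCharts K₀ X₀ := FC.of_lft str₀ snd₀ hsnd₀
    have key := fibre_point_transfer (AlgSp.Points.map fst₀) hemb hrange₀ (AlgSp.Points.map e xt) x hx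
      (by rw [← AlgSp.Points.map_comp, he, hxt])
    have key3 := fibre_localDim_transfer (AlgSp.Points.map fst₀) hemb hrange₀ (AlgSp.Points.map e xt) x hx
      (by rw [← AlgSp.Points.map_comp, he, hxt])
    rw [key.1, key3]
    exact FC.localDim_points_eq_zero_iff hX₀ hK₀ hX₀d _

end Groth.Agent.S10445
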