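import Groth.Statements.S10451
import Groth.Agent.H52.SL.General
import Groth.Agent.H52.DimZero
import Groth.Agent.H52.DescCI
import Groth.Agent.H51.DiagSep
import Groth.Agent.H50.RepIso
import Groth.Agent.S10613

set_option autoImplicit false
universe u
open CategoryTheory CategoryTheory.Limits AlgebraicGeometry
open AlgSp

namespace Groth.Agent.S10451

open Groth.Agent.H50 Groth.Agent.H52 Groth.Agent.H52.SL Groth.Agent.H52.DimZero

section helpers

variable {k : Type u} [Field k]

/-- Every etale chart of a zero-dimensional space locally of finite type over a field is locally Artinian. -/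
theorem chart_artinian {X : AlgSp.Sp (Spec (CommRingCat.of k))}
    (p : X ⟶ (AlgSp.yon (Spec (CommRingCat.of k))).obj (Over.mk (𝟙 _)))
    (hp : AlgSp.LocP @LocallyOfFiniteType p) (hd : AlgSp.dim X = 0)
    {U : Over (Spec (CommRingCat.of k))} (a : (AlgSp.yon _).obj U ⟶ X) (ha : AlgSp.RepWith @Etale a) :
    IsLocallyArtinian U.left := by
  obtain ⟨g, hg⟩ := (AlgSp.yon (Spec (CommRingCat.of k))).map_surjective (a ≫ p)
  have hlft : LocallyOfFiniteType g.left :=
    hp a (𝟙 _) g ha (SL.repWith_etale_id _) (by rw [hg, Category.comp_id])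
  have hdim : topologicalKrullDim ↥U.left ≤ AlgSp.dim X := by
    unfold AlgSp.dim
    exact le_iSup_of_le U (le_iSup_of_le a (le_iSup_of_le ha le_rfl))
  exact isLocallyArtinian_of_lft_field g.left (hdim.trans hd.le)

end helpers

/-- Let k be a field and X an algebraic space locally of finite type over k with dim X = 0. Then X is a
separated scheme and every quasi-compact open of X is affine. -/
theorem result (k : Type u) [Field k]
    (X : AlgSp.Space (Spec (CommRingCat.of k))) (p : X.obj ⟶ (AlgSp.yon (Spec (CommRingCat.of k))).obj (Over.mk (𝟙 _)))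
    (hp : AlgSp.LocP @LocallyOfFiniteType p) (hd : AlgSp.dim X.obj = 0) :
    ∃ (U : Over (Spec (CommRingCat.of k))) (_ : (AlgSp.yon (Spec (CommRingCat.of k))).obj U ≅ X.obj), U.left.IsSeparated ∧
      ∀ V : U.left.Opens, IsCompact (V : Set ↥U.left) → IsAffineOpen V := by
  have hX : IsAlgSpace X.obj := X.property
  have hB : IsAlgSpace ((AlgSp.yon (Spec (CommRingCat.of k))).obj (Over.mk (𝟙 _))) := IsAlgSpace.yon_obj _
  have hmulE := AlgSp.repWith_isMultiplicative (S := Spec (CommRingCat.of k)) @Etale
  have hbcE := AlgSp.repWith_isStableUnderBaseChange (S := Spec (CommRingCat.of k)) @Etale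
  -- (A) locally quasi-finite
  have hlqf : LocP (@LocallyQuasiFinite ⊓ @LocallyOfFiniteType) p := by
    intro U V a b h ha hb comm
    haveI := chart_artinian p hp hd a ha
    haveI : LocallyOfFiniteType h.left := hp a b h ha hb comm
    exact ⟨lqf_of_discrete h.left, inferInstance⟩
  -- (B) separated
  have hsep : IsSeparatedMor p := by
    obtain ⟨U, T, R, a, α, β, α', β', ι, r, hae, has, hre, hrs, sqR, sqT, hια, hιβ, magic⟩ :=
      Groth.Agent.H51.exists_diagonal_chart hX hB p
    haveI hU : IsLocallyArtinian U.left := chart_artinian p hp hd a hae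
    obtain ⟨g, hg⟩ := (AlgSp.yon (Spec (CommRingCat.of k))).map_surjective (a ≫ p)
    haveI hglft : LocallyOfFiniteType g.left :=
      hp a (𝟙 _) g hae (SL.repWith_etale_id _) (by rw [hg, Category.comp_id])
    haveI hglqf : LocallyQuasiFinite g.left := lqf_of_discrete g.left
    -- `T = U ×_k U`
    have sqT' : IsPullback α β g g := by
      refine IsPullback.of_map (AlgSp.yon (Spec (CommRingCat.of k))) ?_ (by rw [hg]; exact sqT)
      apply (AlgSp.yon (Spec (CommRingCat.of k))).map_injective
      rw [Functor.map_comp, Functor.map_comp, hg]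
      exact sqT.w
    have sqTl : IsPullback α.left β.left g.left g.left := sqT'.map (Over.forget _)
    haveI : LocallyQuasiFinite β.left := MorphismProperty.of_isPullback (P := @LocallyQuasiFinite) sqTl hglqf
    haveI : LocallyOfFiniteType β.left := MorphismProperty.of_isPullback (P := @LocallyOfFiniteType) sqTl hglft
    haveI : IsLocallyNoetherian T.left := LocallyOfFiniteType.isLocallyNoetherian β.left
    haveI : DiscreteTopology ↥T.left := discrete_of_lqf β.left
    haveI hT : IsLocallyArtinian T.left := .of_isLocallyNoetherian_of_discreteTopology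
    -- `ι` is a monomorphism locally of finite type
    have hβ'e : RepWith @Etale ((AlgSp.yon _).map β') := MorphismProperty.of_isPullback sqR hae
    haveI : Etale β'.left := (repWith_yon_map_iff @Etale β').1 hβ'e
    haveI : LocallyOfFiniteType (ι.left ≫ β.left) := by
      rw [← Over.comp_left, hιβ]; infer_instance
    haveI : LocallyOfFiniteType ι.left := locallyOfFiniteType_of_comp ι.left β.left
    haveI hιm : Mono ((AlgSp.yon (Spec (CommRingCat.of k))).map ι) := magic.mono_snd_of_mono
    haveI hιm' : Mono ι := (AlgSp.yon (Spec (CommRingCat.of k))).mono_of_mono_map hιm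
    haveI : Mono ι.left := inferInstance
    have hCI : IsClosedImmersion ι.left := isClosedImmersion_of_mono_lft ι.left
    exact Groth.Agent.H50.repWith_of_isPullback_atlas isClosedImmersion_descendsAlong_fppf
      (Groth.Agent.H51.representable_pullback_diagonal hX p) hre hrs magic
      ((repWith_yon_map_iff @IsClosedImmersion ι).2 hCI)
  -- (C) `X` is a scheme
  obtain ⟨W, ⟨ψ⟩⟩ := exists_iso_yon_of_sep_lqf hX p hsep hlqf
  haveI : MorphismProperty.ContainsIdentities (@Etale : MorphismProperty Scheme.{u}) :=
    (inferInstance : MorphismProperty.IsMultiplicative (@Etale : MorphismProperty Scheme.{u})).toContainsIdentities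
  haveI : MorphismProperty.RespectsIso (@Etale : MorphismProperty Scheme.{u}) :=
    MorphismProperty.IsStableUnderBaseChange.respectsIso
  have hψe : RepWith @Etale ψ.hom := Groth.Agent.H50.repWith_of_isIso @Etale ψ.hom
  haveI hW : IsLocallyArtinian W.left := chart_artinian p hp hd ψ.hom hψe
  haveI : DiscreteTopology ↥W.left := inferInstance
  refine ⟨W, ψ, ?_, fun V hV => isAffineOpen_of_isCompact_discrete W.left V hV⟩
  -- (D) separatedness of the scheme
  obtain ⟨gW, hgW⟩ := (AlgSp.yon (Spec (CommRingCat.of k))).map_surjective (ψ.hom ≫ p)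
  have hsepW : IsSeparatedMor ((AlgSp.yon (Spec (CommRingCat.of k))).map gW) := by
    rw [hgW]
    have h1 : IsSeparatedMor ψ.hom := Groth.Agent.S10613.isSeparatedMor_of_mono ψ.hom
    exact Groth.Agent.H32.GoodMore.isSeparatedMor_comp
      (X := ⟨(AlgSp.yon _).obj W, IsAlgSpace.yon_obj W⟩) (Y := X)
      (Z := ⟨(AlgSp.yon _).obj (Over.mk (𝟙 _)), hB⟩)
      (ObjectProperty.homMk ψ.hom) (ObjectProperty.homMk p) h1 hsep
  haveI : IsSeparated gW.left := (isSeparatedMor_yon_map_iff gW).1 hsepW
  haveI : (Over.mk (𝟙 (Spec (CommRingCat.of k)))).left.IsSeparated :=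
    (inferInstance : (Spec (CommRingCat.of k)).IsSeparated)
  refine ⟨?_⟩
  rw [← terminal.comp_from gW.left]
  infer_instance

end Groth.Agent.S10451
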