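import Groth.Statements.S10465
import Groth.Agent.H52.ProdBC

set_option autoImplicit false
universe u
open CategoryTheory CategoryTheory.Limits AlgebraicGeometry Topology TopologicalSpace
open AlgSp

namespace Groth.Agent.S10465

/-- For a field extension k'/k and an algebraic space X over k, geometric connectedness of X over k is
equivalent to geometric connectedness of its base change X_{k'} over k' (the base changes of X_{k'}
to extensions K of k' being the base changes X_K of X, geometric connectedness of X_{k'} over k'
reads: |X_K| is connected for every field K over k'). -/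
theorem result (k : Type u) [Field k] (X : AlgSp.Space (Spec (CommRingCat.of k))) (k' : Type u) [Field k'] [Algebra k k'] :
    (∀ (K : Type u) [Field K] [Algebra k K], ConnectedSpace (AlgSp.Points (X.obj ⨯ (AlgSp.yon (Spec (CommRingCat.of k))).obj (Over.mk (Spec.map (CommRingCat.ofHom (algebraMap k K))))))) ↔
      ∀ (K : Type u) [Field K] [Algebra k K] [Algebra k' K] [IsScalarTower k k' K],
        ConnectedSpace (AlgSp.Points (X.obj ⨯ (AlgSp.yon (Spec (CommRingCat.of k))).obj (Over.mk (Spec.map (CommRingCat.ofHom (algebraMap k K)))))) := by
  constructor
  · intro h K _ _ _ _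
    exact h K
  · intro h K _ _
    obtain ⟨L, _, i₁, i₂, hi⟩ := AlgSp.FieldPt.exists_amalgamation (algebraMap k K) (algebraMap k k')
    letI : Algebra k L := (i₁.comp (algebraMap k K)).toAlgebra
    letI : Algebra k' L := i₂.toAlgebra
    haveI : IsScalarTower k k' L := IsScalarTower.of_algebraMap_eq fun x => by
      change (i₁.comp (algebraMap k K)) x = i₂ (algebraMap k k' x)
      rw [hi]; rfl
    have hL := h L
    let g : (Over.mk (Spec.map (CommRingCat.ofHom (algebraMap k L))) : Over (Spec (CommRingCat.of k))) ⟶
        Over.mk (Spec.map (CommRingCat.ofHom (algebraMap k K))) :=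
      Over.homMk (Spec.map (CommRingCat.ofHom i₁)) (by
        change Spec.map (CommRingCat.ofHom i₁) ≫ Spec.map (CommRingCat.ofHom (algebraMap k K)) =
          Spec.map (CommRingCat.ofHom (algebraMap k L))
        rw [← Spec.map_comp]
        rfl)
    have hg : Function.Surjective (fun t : ↥(Over.mk (Spec.map (CommRingCat.ofHom (algebraMap k L))) :
        Over (Spec (CommRingCat.of k))).left => g.left t) := by
      intro y
      refine ⟨(IsLocalRing.closedPoint L : PrimeSpectrum L), ?_⟩
      have : Subsingleton (PrimeSpectrum K) := inferInstance
      exact Subsingleton.elim (α := PrimeSpectrum K) _ _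
    exact (Groth.Agent.H52.surjective_map_prod_map_id g hg X.obj).connectedSpace
      (AlgSp.Points.continuous_map _)

end Groth.Agent.S10465
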