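import Groth.Statements.S10483
import Groth.Agent.H52.FieldLqf
import Groth.Agent.H52.DiscreteFibre

set_option autoImplicit false
universe u
open CategoryTheory CategoryTheory.Limits AlgebraicGeometry
open AlgSp

namespace Groth.Agent.S10483

open Groth.Agent.H50 Groth.Agent.H52 Groth.Agent.H52.SL Groth.Agent.H52.DimZero Groth.Agent.H52.FieldLqf

set_option backward.isDefEq.respectTransparency.types false in
set_option maxHeartbeats 1600000 in
/-- (1) ⇔ (5): let k be a field and X an algebraic space over k. Then X is locally quasi-finite over k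
if and only if X decomposes as a disjoint union of spectra of finite-dimensional Artinian local
k-algebras: X is a scheme every point of which has an affine open neighbourhood with Artinian local
coordinate ring, finite over k. -/
theorem result (k : Type u) [Field k] (X : AlgSp.Space (Spec (CommRingCat.of k))) (p : X.obj ⟶ (AlgSp.yon (Spec (CommRingCat.of k))).obj (Over.mk (𝟙 _))) :
    AlgSp.LocP (@LocallyQuasiFinite ⊓ @LocallyOfFiniteType : MorphismProperty Scheme.{u}) p ↔
      ∃ (U : Over (Spec (CommRingCat.of k))) (_ : (AlgSp.yon (Spec (CommRingCat.of k))).obj U ≅ X.obj), ∀ u : ↥U.left, ∃ V : U.left.Opens,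
        u ∈ V ∧ IsAffineOpen V ∧ IsArtinianRing ↥Γ(U.left, V) ∧ IsLocalRing ↥Γ(U.left, V) ∧
          IsFinite (V.ι ≫ U.hom) := by
  have hX : IsAlgSpace X.obj := X.property
  haveI hkart : IsLocallyArtinian (Spec (CommRingCat.of k)) :=
    Scheme.isLocallyArtinianScheme_Spec.mpr (inferInstanceAs (IsArtinianRing k))
  constructor
  · intro hlqf
    -- every chart is locally Artinian
    have hch : ∀ ⦃U : Over (Spec (CommRingCat.of k))⦄ (a : (AlgSp.yon _).obj U ⟶ X.obj),
        AlgSp.RepWith @Etale a → IsLocallyArtinian U.left := by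
      intro U a ha
      obtain ⟨g, hg⟩ := (AlgSp.yon (Spec (CommRingCat.of k))).map_surjective (a ≫ p)
      have hgP := hlqf a (𝟙 _) g ha (SL.repWith_etale_id _) (by rw [hg, Category.comp_id])
      haveI : LocallyQuasiFinite g.left := hgP.1
      haveI : LocallyOfFiniteType g.left := hgP.2
      haveI : DiscreteTopology ↥U.left := discreteTopology_of_lqf_field g.left
      haveI : IsLocallyNoetherian U.left :=
        LocallyOfFiniteType.isLocallyNoetherian (Y := Spec (CommRingCat.of k)) g.left
      exact .of_isLocallyNoetherian_of_discreteTopology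
    have hp : AlgSp.LocP @LocallyOfFiniteType p := fun _ _ a b h ha hb hc => (hlqf a b h ha hb hc).2
    have hsep : IsSeparatedMor p := isSeparatedMor_of_charts_artinian hX p hp hch
    obtain ⟨W, ⟨ψ⟩⟩ := exists_iso_yon_of_sep_lqf hX p hsep hlqf
    have hψe : RepWith @Etale ψ.hom := repWith_etale_of_isIso ψ.hom
    haveI hW : IsLocallyArtinian W.left := hch ψ.hom hψe
    haveI : DiscreteTopology ↥W.left := inferInstance
    obtain ⟨gW, hgW⟩ := (AlgSp.yon (Spec (CommRingCat.of k))).map_surjective (ψ.hom ≫ p)
    have hgWP := hlqf ψ.hom (𝟙 _) gW hψe (SL.repWith_etale_id _) (by rw [hgW, Category.comp_id])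
    have hgWhom : gW.left = W.hom := by
      have := Over.w gW
      simpa using this
    haveI : LocallyQuasiFinite W.hom := hgWhom ▸ hgWP.1
    refine ⟨W, ψ, fun u => ?_⟩
    let V : W.left.Opens := ⟨{u}, isOpen_discrete _⟩
    have hVaff : IsAffineOpen V := isAffineOpen_of_isCompact_discrete W.left V isCompact_singleton
    haveI : IsAffine V.toScheme := hVaff
    haveI : Subsingleton ↥V.toScheme := by
      constructor
      rintro ⟨a, ha⟩ ⟨b, hb⟩
      apply Subtype.ext
      exact (ha : a = u).trans (hb : b = u).symm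
    haveI : Nonempty ↥V.toScheme := ⟨⟨u, rfl⟩⟩
    refine ⟨V, rfl, hVaff, IsLocallyArtinian.isArtinianRing_presheaf_obj ⟨V, hVaff⟩, ?_, ?_⟩
    · haveI h1 : IsLocalRing Γ(V.toScheme, ⊤) := isLocalRing_of_subsingleton
      exact (V.topIso.commRingCatIsoToRingEquiv).isLocalRing
    · haveI : LocallyQuasiFinite (V.ι ≫ W.hom) := inferInstance
      exact isFinite_of_lqf_of_affine (V.ι ≫ W.hom)
  · rintro ⟨U, ψ, hU⟩
    choose V hV using hU
    have hcov : iSup V = ⊤ := by
      rw [eq_top_iff]
      intro u _
      exact TopologicalSpace.Opens.mem_iSup.2 ⟨u, (hV u).1⟩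
    haveI hUlqf : LocallyQuasiFinite U.hom :=
      IsZariskiLocalAtSource.of_iSup_eq_top V hcov (fun u => by
        haveI := (hV u).2.2.2.2
        infer_instance)
    haveI hUlft : LocallyOfFiniteType U.hom :=
      IsZariskiLocalAtSource.of_iSup_eq_top V hcov (fun u => by
        haveI := (hV u).2.2.2.2
        infer_instance)
    obtain ⟨gU, hgU⟩ := (AlgSp.yon (Spec (CommRingCat.of k))).map_surjective (ψ.hom ≫ p)
    have hgUhom : gU.left = U.hom := by
      have := Over.w gU
      simpa using this
    have hmulE := AlgSp.repWith_isMultiplicative (S := Spec (CommRingCat.of k)) @Etale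
    intro A B a b h ha hb hc
    obtain ⟨a'', ha''⟩ := (AlgSp.yon (Spec (CommRingCat.of k))).map_surjective (a ≫ ψ.inv)
    haveI ha''e : Etale a''.left := (repWith_yon_map_iff @Etale a'').1 (by
      rw [ha'']
      exact MorphismProperty.comp_mem _ _ _ ha (repWith_etale_of_isIso ψ.inv))
    obtain ⟨b'', hb''⟩ := (AlgSp.yon (Spec (CommRingCat.of k))).map_surjective b
    haveI hb''e : Etale b''.left := (repWith_yon_map_iff @Etale b'').1 (hb'' ▸ hb)
    have heq : a'' ≫ gU = h ≫ b'' := by
      apply (AlgSp.yon (Spec (CommRingCat.of k))).map_injective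
      rw [Functor.map_comp, Functor.map_comp, ha'', hgU, hb'', Category.assoc,
        ← Category.assoc ψ.inv, Iso.inv_hom_id, Category.id_comp, hc]
    have heql : a''.left ≫ U.hom = h.left ≫ b''.left := by
      rw [← hgUhom, ← Over.comp_left, heq, Over.comp_left]
    haveI : LocallyQuasiFinite a''.left := Groth.Agent.H50.locallyQuasiFinite_of_unramified a''.left
    haveI : LocallyQuasiFinite (h.left ≫ b''.left) := by rw [← heql]; infer_instance
    haveI : LocallyOfFiniteType (h.left ≫ b''.left) := by rw [← heql]; infer_instance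
    exact ⟨LocallyQuasiFinite.of_comp h.left b''.left, locallyOfFiniteType_of_comp h.left b''.left⟩

end Groth.Agent.S10483
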