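import Groth.Statements.S10489
import Groth.Agent.H51.Reduced
import Groth.Agent.S1535

set_option autoImplicit false
universe u
open CategoryTheory CategoryTheory.Limits AlgebraicGeometry Topology TopologicalSpace
open AlgSp

namespace Groth.Agent.S10489


/-- Let k be a field and X an algebraic space which is smooth over k. Then X is regular as an algebraic
space. -/
theorem result (k : Type u) [Field k] (X : AlgSp.Space (Spec (CommRingCat.of k))) (p : X.obj ⟶ (AlgSp.yon (Spec (CommRingCat.of k))).obj (Over.mk (𝟙 _))) (hp : AlgSp.LocP @Smooth p) :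
    AlgSp.EtaleLocally (fun U => IsLocallyNoetherian U ∧ ∀ u : ↥U, IsRegularLocalRing ↥(U.presheaf.stalk u)) X.obj := by
  obtain ⟨U, a, hae, has⟩ := X.property.atlas
  obtain ⟨h', hh'⟩ := (AlgSp.yon (Spec (CommRingCat.of k))).map_surjective (a ≫ p)
  have hsm : Smooth h'.left :=
    hp a (𝟙 _) h' hae (AlgSp.repWith_id _ _) (by rw [hh', Category.comp_id])
  haveI : LocallyOfFiniteType h'.left := inferInstance
  haveI : IsLocallyNoetherian (Over.mk (𝟙 (Spec (CommRingCat.of k)))).left :=
    (inferInstance : IsLocallyNoetherian (Spec (CommRingCat.of k)))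
  haveI hN : IsLocallyNoetherian U.left := LocallyOfFiniteType.isLocallyNoetherian h'.left
  refine ⟨U, a, hae, has, hN, fun u => ?_⟩
  letI : U.left.Over (Spec (CommRingCat.of k)) := ⟨h'.left⟩
  haveI : Smooth (U.left ↘ Spec (CommRingCat.of k)) := hsm
  exact Groth.Agent.S1535.result k U.left u

end Groth.Agent.S10489
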