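import Groth.Statements.S10496
import Groth.Agent.S10192
import Groth.Agent.S10191
import Groth.Agent.H52.Decent
import Groth.Agent.H50.Etale

set_option autoImplicit false
universe u
open CategoryTheory CategoryTheory.Limits AlgebraicGeometry Topology TopologicalSpace
open AlgSp

namespace Groth.Agent.S10496

open Groth.Agent.H52

/-- Let X be a decent algebraic space over a scheme S. For every irreducible closed subset T of |X|
there is an integral closed subspace Z of X with |Z| = T. -/
theorem result {S : Scheme.{u}} (X : AlgSp.Space S)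
    (hX : AlgSp.IsDecent X.obj) (T : Set (AlgSp.Points X.obj)) (hT : IsClosed T) (hTi : IsIrreducible T) :
    ∃ (Z : AlgSp.Space S) (i : Z ⟶ X), AlgSp.RepWith @IsClosedImmersion i.hom ∧ AlgSp.IsIntegralSp Z.obj ∧
      Set.range (AlgSp.Points.map i.hom) = T := by
  obtain ⟨Z, i, hi, hrange, hred⟩ := Groth.Agent.S10192.result X T hT
  refine ⟨Z, i, hi, ⟨hred, isDecent_of_representable i.hom hi.rep hX, ?_⟩, hrange⟩
  have himm : AlgSp.RepWith @IsImmersion i.hom :=
    Groth.Agent.H50.repWith_mono (fun _ _ g hg => by have := hg; infer_instance) hi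
  obtain ⟨hemb, -⟩ := Groth.Agent.S10191.result i himm
  have h1 : IrreducibleSpace ↥(Set.range (AlgSp.Points.map i.hom)) := by
    rw [hrange]
    exact isIrreducible_iff_irreducibleSpace.1 hTi
  have h2 : IsIrreducible (Set.univ : Set ↥(Set.range (AlgSp.Points.map i.hom))) :=
    (irreducibleSpace_def _).1 h1
  have h3 := h2.image hemb.toHomeomorph.symm hemb.toHomeomorph.symm.continuous.continuousOn
  rw [Set.image_univ, hemb.toHomeomorph.symm.surjective.range_eq] at h3
  exact (irreducibleSpace_def _).2 h3

end Groth.Agent.S10496
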