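import Groth.Statements.S10498
import Mathlib
import Groth.Agent.H47.HensNoeth2
import Groth.Agent.S9407

set_option autoImplicit false
universe u
open TensorProduct
open Hensel

namespace Groth.Agent.S10498

open TensorProduct

/-- Base change of a flat reduced algebra along a (strict) henselization-like ind-étale local
algebra stays reduced. -/
theorem isReduced_tensor_of_isIndEtaleLocal {A R : Type u} [CommRing A] [IsLocalRing A]
    [CommRing R] [IsLocalRing R] [Algebra A R] [IsLocalHom (algebraMap A R)]
    (hI : Groth.Agent.H47.HensNoeth.IsIndEtaleLocal A R)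
    (T : Type u) [CommRing T] [Algebra A T] [Module.Flat A T] [IsReduced T] :
    IsReduced (T ⊗[A] R) := by
  classical
  haveI : Module.Flat A R := hI.flat
  apply IsReduced.tensorProduct_of_flat_of_forall_fg
  intro B hB
  obtain ⟨Y, hY⟩ := hB
  obtain ⟨C, _, _, hC, φ, hφ⟩ := hI.rep Y
  let Q : Ideal C := (IsLocalRing.maximalIdeal R).comap φ.toRingHom
  haveI hQ : Q.IsPrime := Ideal.comap_isPrime _ _
  have hQmem : ∀ c : C, c ∈ Q → ¬ IsUnit (φ c) := fun c h =>
    (IsLocalRing.mem_maximalIdeal _).mp h
  have hunit : ∀ y : Q.primeCompl, IsUnit (φ y) := fun y => by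
    by_contra h
    exact y.2 ((IsLocalRing.mem_maximalIdeal _).mpr h)
  let ĝ : Localization.AtPrime Q →ₐ[A] R :=
    IsLocalization.liftAlgHom (M := Q.primeCompl) (f := φ) hunit
  have hĝ : ∀ c : C, ĝ (algebraMap C _ c) = φ c := fun c => by
    show IsLocalization.liftAlgHom (M := Q.primeCompl) (f := φ) hunit _ = _
    rw [IsLocalization.liftAlgHom_apply, IsLocalization.lift_eq]
    rfl
  letI algLS : Algebra (Localization.AtPrime Q) R := ĝ.toRingHom.toAlgebra
  haveI : IsScalarTower A (Localization.AtPrime Q) R :=
    IsScalarTower.of_algebraMap_eq (fun a => (ĝ.commutes a).symm)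
  haveI : Module.Flat (Localization.AtPrime Q) R :=
    Algebra.FormallyUnramified.flat_of_restrictScalars A _ R
  haveI : IsLocalHom (algebraMap (Localization.AtPrime Q) R) := ⟨fun x hx => by
    obtain ⟨⟨a, s⟩, hxs⟩ := IsLocalization.surj Q.primeCompl x
    have hx' : IsUnit (ĝ x) := hx
    have h1 : ĝ x * φ s = φ a := by
      rw [← hĝ, ← hĝ, ← map_mul]
      exact congrArg ĝ hxs
    have h2 : IsUnit (φ a) := by
      rw [← h1]
      exact hx'.mul (hunit s)
    have h3 : a ∉ Q := fun h => hQmem a h h2
    have h4 : IsUnit (algebraMap C (Localization.AtPrime Q) a) :=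
      IsLocalization.map_units _ (⟨a, h3⟩ : Q.primeCompl)
    rw [← hxs] at h4
    exact isUnit_of_mul_isUnit_left h4⟩
  haveI : Module.FaithfullyFlat (Localization.AtPrime Q) R :=
    Module.FaithfullyFlat.of_flat_of_isLocalHom
  have hinj : Function.Injective ĝ :=
    FaithfulSMul.algebraMap_injective (Localization.AtPrime Q) R
  have hBE : B ≤ ĝ.range := by
    rw [← hY]
    apply Algebra.adjoin_le
    intro y hy
    obtain ⟨c, hc⟩ := hφ y (Finset.mem_coe.mp hy)
    exact ⟨algebraMap C _ c, by rw [← hc]; exact hĝ c⟩
  let eE : Localization.AtPrime Q ≃ₐ[A] ĝ.range := AlgEquiv.ofInjective ĝ hinj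
  let ι : B →ₐ[A] Localization.AtPrime Q :=
    (eE.symm : ĝ.range →ₐ[A] Localization.AtPrime Q).comp (Subalgebra.inclusion hBE)
  have hι : Function.Injective ι :=
    eE.symm.injective.comp (Subalgebra.inclusion_injective hBE)
  have h_inj : Function.Injective (Algebra.TensorProduct.map (AlgHom.id T T) ι) :=
    Module.Flat.lTensor_preserves_injective_linearMap (M := T) ι.toLinearMap hι
  haveI hred1 : IsReduced (T ⊗[A] C) := Groth.Agent.S9407.result T (T ⊗[A] C)
  let ψ : T ⊗[A] C →ₐ[T] T ⊗[A] Localization.AtPrime Q :=
    Algebra.TensorProduct.map (AlgHom.id T T) (IsScalarTower.toAlgHom A C (Localization.AtPrime Q))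
  letI alg2 : Algebra (T ⊗[A] C) (T ⊗[A] Localization.AtPrime Q) := ψ.toRingHom.toAlgebra
  haveI : IsScalarTower T (T ⊗[A] C) (T ⊗[A] Localization.AtPrime Q) :=
    IsScalarTower.of_algebraMap_eq (fun t => (ψ.commutes t).symm)
  have H : (algebraMap (T ⊗[A] C) (T ⊗[A] Localization.AtPrime Q)).comp
      (Algebra.TensorProduct.includeRight (R := A) (A := T) (B := C)).toRingHom =
      ((Algebra.TensorProduct.includeRight (R := A) (A := T)
        (B := Localization.AtPrime Q)) : Localization.AtPrime Q →+* _).comp
        (algebraMap C (Localization.AtPrime Q)) := by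
    apply RingHom.ext
    intro c
    show ψ ((1 : T) ⊗ₜ[A] c) = (1 : T) ⊗ₜ[A] (algebraMap C (Localization.AtPrime Q) c)
    rfl
  have hloc := IsLocalization.tensorProduct_tensorProduct_right A T Q.primeCompl
    (Localization.AtPrime Q) H
  haveI hred2 : IsReduced (T ⊗[A] Localization.AtPrime Q) :=
    @isReduced_localizationPreserves (T ⊗[A] C) _ _ (T ⊗[A] Localization.AtPrime Q) _ _ hloc hred1
  exact isReduced_of_injective _ h_inj


/-- (1) ⇔ (2): let k be a field, A a local k-algebra and R a strict henselization of A. Then A is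
geometrically reduced over k (K ⊗_k A reduced for every field extension K of k) if and only if R is
geometrically reduced over k. -/
theorem result (k : Type u) [Field k]
    (A : Type u) [CommRing A] [IsLocalRing A] [Algebra k A]
    (R : Type u) [CommRing R] [IsLocalRing R] [Algebra A R] [IsLocalHom (algebraMap A R)]
    [Hensel.IsStrictHenselization A R] [Algebra k R] [IsScalarTower k A R] :
    (∀ (K : Type u) [Field K] [Algebra k K], IsReduced (TensorProduct k K A)) ↔
      ∀ (K : Type u) [Field K] [Algebra k K], IsReduced (TensorProduct k K R) := by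
  have hI := Groth.Agent.H47.HensNoeth.isIndEtaleLocal_of_isStrictHenselization A R
  haveI : Module.Flat A R := hI.flat
  haveI : Module.FaithfullyFlat A R := hI.faithfullyFlat
  constructor
  · intro h K _ _
    haveI h0 : IsReduced (K ⊗[k] A) := h K
    haveI h1 : IsReduced (A ⊗[k] K) :=
      isReduced_of_injective (Algebra.TensorProduct.comm k A K) (AlgEquiv.injective _)
    haveI h2 : IsReduced ((A ⊗[k] K) ⊗[A] R) :=
      isReduced_tensor_of_isIndEtaleLocal hI (A ⊗[k] K)
    haveI h3 : IsReduced (R ⊗[A] (A ⊗[k] K)) :=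
      isReduced_of_injective (Algebra.TensorProduct.comm A R (A ⊗[k] K)) (AlgEquiv.injective _)
    haveI h4 : IsReduced (R ⊗[k] K) :=
      isReduced_of_injective (Algebra.TensorProduct.cancelBaseChange k A A R K).symm
        (AlgEquiv.injective _)
    exact isReduced_of_injective (Algebra.TensorProduct.comm k K R) (AlgEquiv.injective _)
  · intro h K _ _
    haveI : IsReduced (K ⊗[k] R) := h K
    have hinjAR : Function.Injective (algebraMap A R) := FaithfulSMul.algebraMap_injective A R
    have h_inj : Function.Injective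
        (Algebra.TensorProduct.map (AlgHom.id K K) (IsScalarTower.toAlgHom k A R)) :=
      Module.Flat.lTensor_preserves_injective_linearMap (M := K)
        (IsScalarTower.toAlgHom k A R).toLinearMap (fun x y hxy => hinjAR hxy)
    exact isReduced_of_injective _ h_inj

end Groth.Agent.S10498
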