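import Groth.Statements.S1050
import Groth.Agent.H33.PCohSub

set_option autoImplicit false
universe w w' v u
open CategoryTheory CategoryTheory.Limits
open CohDer

namespace Groth.Agent.S1050

/-- Let P be a Serre class in an abelian category A (so that the full subcategory on P is abelian; its
closure under kernels, cokernels, finite products and the exactness of the inclusion are carried as
instance hypotheses) such that for every epimorphism X ⟶ Y with P Y there is a subobject X' of X
with P X' mapping onto Y. Then the induced functor D(P) ⥤ D(A) is fully faithful on bounded above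
objects, and every bounded above object of D(A) all of whose cohomology objects satisfy P is in its
essential image from a bounded above object; that is, D⁻(P) ≃ D⁻_P(A). -/
theorem result {A : Type u} [Category.{v} A] [Abelian A] [HasDerivedCategory.{w} A]
    (P : ObjectProperty A) [P.IsSerreClass] [P.IsClosedUnderKernels] [P.IsClosedUnderCokernels]
    [P.IsClosedUnderFiniteProducts] [HasDerivedCategory.{w'} P.FullSubcategory]
    [PreservesFiniteLimits P.ι] [PreservesFiniteColimits P.ι]
    (hlift : ∀ (X Y : A) (π : X ⟶ Y), Epi π → P Y → ∃ (X' : A) (i : X' ⟶ X), Mono i ∧ P X' ∧ Epi (i ≫ π)) :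
    (∀ (M N : DerivedCategory P.FullSubcategory) (b : ℤ), M.IsLE b → N.IsLE b →
      Function.Bijective (fun φ : M ⟶ N => P.ι.mapDerivedCategory.map φ)) ∧
    ∀ (K : DerivedCategory A) (b : ℤ), K.IsLE b → (∀ n : ℤ, P ((DerivedCategory.homologyFunctor A n).obj K)) →
      ∃ M : DerivedCategory P.FullSubcategory, M.IsLE b ∧ Nonempty (P.ι.mapDerivedCategory.obj M ≅ K) := by
  constructor
  · intro M N b hM hN
    haveI := hM
    haveI := hN
    obtain ⟨M₀, hM₀, ⟨eM⟩⟩ := M.exists_iso_Q_obj_of_isLE b
    obtain ⟨N₀, hN₀, ⟨eN⟩⟩ := N.exists_iso_Q_obj_of_isLE b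
    constructor
    · intro φ φ' h
      have h' : P.ι.mapDerivedCategory.map φ = P.ι.mapDerivedCategory.map φ' := h
      have h0 : eM.inv ≫ (φ - φ') ≫ eN.hom = 0 :=
        Groth.Agent.H33.PCoh.map_eq_zero_core P hlift M₀ N₀ b _ (by
          rw [CategoryTheory.Functor.map_comp, CategoryTheory.Functor.map_comp,
            CategoryTheory.Functor.map_sub, h', sub_self, zero_comp, comp_zero])
      have h1 : φ - φ' = 0 := by
        have h2 : φ - φ' = eM.hom ≫ (eM.inv ≫ (φ - φ') ≫ eN.hom) ≫ eN.inv := by simp
        rw [h2, h0, zero_comp, comp_zero]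
      exact sub_eq_zero.1 h1
    · intro ψ
      obtain ⟨φ', hφ'⟩ := Groth.Agent.H33.PCoh.map_surjective_core P hlift M₀ N₀ b
        (P.ι.mapDerivedCategory.map eM.inv ≫ ψ ≫ P.ι.mapDerivedCategory.map eN.hom)
      refine ⟨eM.hom ≫ φ' ≫ eN.inv, ?_⟩
      show P.ι.mapDerivedCategory.map (eM.hom ≫ φ' ≫ eN.inv) = ψ
      rw [CategoryTheory.Functor.map_comp, CategoryTheory.Functor.map_comp, hφ']
      simp
  · intro K b hK hP'
    haveI := hK
    obtain ⟨M₀, hM₀, ⟨e⟩⟩ := Groth.Agent.H33.PCoh.exists_liftCx_of_homology_prop P hlift K b hP'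
    exact ⟨DerivedCategory.Q.obj M₀, inferInstance,
      ⟨(P.ι.mapDerivedCategoryFactors).app M₀ ≪≫ e⟩⟩

end Groth.Agent.S1050
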