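import Groth.Statements.S10507
import Groth.Agent.H51.FpqcCov

set_option autoImplicit false
universe u
open CategoryTheory CategoryTheory.Limits AlgebraicGeometry
open AlgSp

namespace Groth.Agent.S10507

/-- If `{X_i ⟶ X}` is an fpqc covering of the algebraic space `X` by algebraic spaces and each `X_i` has
an fpqc covering `{X_ij ⟶ X_i}` by algebraic spaces, then the composites `X_ij ⟶ X_i ⟶ X`, indexed
by the pairs `(i, j)`, form an fpqc covering of `X`. -/
theorem result {S : Scheme.{u}} (X : AlgSp.Space S) {ι : Type u}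
    (Xi : ι → AlgSp.Space S) (g : ∀ i, Xi i ⟶ X) (κ : ι → Type u) (Xij : ∀ i, κ i → AlgSp.Space S)
    (gij : ∀ i j, Xij i j ⟶ Xi i)
    (h : AlgSp.IsFpqcCover (fun i => (Xi i).obj) (fun i => (g i).hom))
    (hij : ∀ i, AlgSp.IsFpqcCover (fun j => (Xij i j).obj) (fun j => (gij i j).hom)) :
    AlgSp.IsFpqcCover (fun r : Σ i, κ i => (Xij r.1 r.2).obj) (fun r => (gij r.1 r.2 ≫ g r.1).hom) := by
  refine ⟨fun r => ?_, fun Z hZ h₀ => ?_⟩
  · exact Groth.Agent.S9985.result @Flat (Or.inr (Or.inr (Or.inl rfl))) (gij r.1 r.2) (g r.1)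
      ((hij r.1).1 r.2) (h.1 r.1)
  · obtain ⟨m, W, c, hW, hc, hs, hl⟩ := h.2 Z hZ h₀
    choose i l hl using hl
    have := fun j => (hij (i j)).2 (W j) (hW j) (l j)
    choose n W' c' hW' hc' hs' hl' using this
    choose k l' hl' using hl'
    refine Groth.Agent.H51.exists_fin_of_finite (α := Σ j : Fin m, Fin (n j)) _ _ h₀
      (fun a => W' a.1 a.2) (fun a => c' a.1 a.2 ≫ c a.1) (fun a => hW' _ _)
      (fun a => ?_) (fun z => ?_) (fun a => ?_)
    · rw [Over.comp_left]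
      exact MorphismProperty.comp_mem _ _ _ (hc' _ _) (hc _)
    · obtain ⟨j, w, rfl⟩ := hs z
      obtain ⟨t, w', rfl⟩ := hs' j w
      exact ⟨⟨j, t⟩, w', by simp⟩
    · refine ⟨⟨i a.1, k a.1 a.2⟩, l' a.1 a.2, ?_⟩
      change l' a.1 a.2 ≫ (gij (i a.1) (k a.1 a.2)).hom ≫ (g (i a.1)).hom = _
      rw [← Category.assoc, hl', Category.assoc, hl, Functor.map_comp, Category.assoc]

end Groth.Agent.S10507
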