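import Groth.Statements.S10508
import Groth.Agent.H51.FpqcCov2
import Groth.Agent.H50.Descent
import Groth.Agent.H52.LocPBC
import Groth.Agent.H52.EtLocalInst

set_option autoImplicit false
universe u
open CategoryTheory CategoryTheory.Limits AlgebraicGeometry
open AlgSp

namespace Groth.Agent.S10508

/-- Let `X` be an algebraic space over `S`, `{X_i ⟶ X}` a family of morphisms of algebraic spaces and
`h_U ⟶ X` a representable etale, representable surjective map from a scheme `U` over `S`, with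
pullback squares of sheaves exhibiting algebraic spaces `U_i` as `U ×_X X_i`. Then `{X_i ⟶ X}` is an
fpqc covering of `X` if and only if `{U_i ⟶ h_U}` is an fpqc covering of `h_U`. -/
theorem result {S : Scheme.{u}} (X : AlgSp.Space S) {ι : Type u}
    (Xi : ι → AlgSp.Space S) (g : ∀ i, Xi i ⟶ X) {U : Over S} (p : (AlgSp.yon S).obj U ⟶ X.obj)
    (hp : AlgSp.RepWith @Etale p) (hps : AlgSp.RepWith @Surjective p)
    (Ui : ι → AlgSp.Space S) (q : ∀ i, (Ui i).obj ⟶ (AlgSp.yon S).obj U) (p' : ∀ i, Ui i ⟶ Xi i)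
    (sq : ∀ i, IsPullback (q i) (p' i).hom p (g i).hom) :
    AlgSp.IsFpqcCover (fun i => (Xi i).obj) (fun i => (g i).hom) ↔
      AlgSp.IsFpqcCover (fun i => (Ui i).obj) q := by
  have hU : AlgSp.IsAlgSpace ((AlgSp.yon S).obj U) := ((AlgSp.ofScheme S).obj U).property
  constructor
  · intro h
    refine ⟨fun i => ?_, fun Z hZ h' => ?_⟩
    · exact Groth.Agent.H52.locP_baseChange Groth.Agent.H52.etLocal_flat (Xi i).property X.property hU
        (sq i).flip (h.1 i)
    · obtain ⟨m, W, c, hW, hc, hs, hl⟩ := h.2 Z hZ (h' ≫ p)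
      refine ⟨m, W, c, hW, hc, hs, fun j => ?_⟩
      obtain ⟨i, l, hl'⟩ := hl j
      refine ⟨i, (sq i).lift ((AlgSp.yon S).map (c j) ≫ h') l (by rw [Category.assoc, hl']), ?_⟩
      exact (sq i).lift_fst _ _ _
  · intro h
    refine ⟨fun i => ?_, fun Z hZ h₀ => ?_⟩
    · exact Groth.Agent.H50.locP_of_isPullback_atlas Groth.Agent.H50.flat_descendsAlong_fppf hp hps
        (sq i).flip (h.1 i)
    · refine Groth.Agent.H51.fpqc_lift_of_etale_chart _ _ p hp hps (fun Z' hZ' h' => ?_) Z hZ h₀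
      obtain ⟨m, W, c, hW, hc, hs, hl⟩ := h.2 Z' hZ' h'
      refine ⟨m, W, c, hW, hc, hs, fun j => ?_⟩
      obtain ⟨i, l, hl'⟩ := hl j
      refine ⟨i, l ≫ (p' i).hom, ?_⟩
      rw [Category.assoc, ← (sq i).w, ← Category.assoc, hl', Category.assoc]

end Groth.Agent.S10508
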