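import Groth.Statements.S10509
import Groth.Agent.S0412
import Groth.Agent.H52.Topology

set_option autoImplicit false
universe u
open CategoryTheory CategoryTheory.Limits AlgebraicGeometry
open AlgSp

namespace Groth.Agent.S10509

/-- A smooth covering of an algebraic space `X` over `S` by algebraic spaces can be refined by an etale
covering of `X` by algebraic spaces: there is an etale covering `{U_j ⟶ X}` each member of which
factors through some member of the given smooth covering. -/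
theorem result {S : Scheme.{u}} (X : AlgSp.Space S) {ι : Type u}
    (Xi : ι → AlgSp.Space S) (g : ∀ i, Xi i ⟶ X)
    (h : AlgSp.IsSmCover (fun i => (Xi i).obj) (fun i => (g i).hom)) :
    ∃ (κ : Type u) (U : κ → AlgSp.Space S) (c : ∀ j, U j ⟶ X),
      AlgSp.IsEtCover (fun j => (U j).obj) (fun j => (c j).hom) ∧
      ∀ j, ∃ (i : ι) (r : U j ⟶ Xi i), r ≫ g i = c j := by
  classical
  obtain ⟨V, b, hb, hbs⟩ := X.property.atlas
  choose U a ha has using fun i => (Xi i).property.atlas
  choose W pU fst sq using fun i => hb.1 (a i ≫ (g i).hom)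
  let hh : ∀ i, W i ⟶ V := fun i => (AlgSp.yon S).preimage (fst i)
  have hhmap : ∀ i, (AlgSp.yon S).map (hh i) = fst i := fun i => (AlgSp.yon S).map_preimage _
  have hpUe : ∀ i, Etale (pU i).left := fun i => hb.2 _ _ _ (sq i)
  have hpUs : ∀ i, Surjective (pU i).left := fun i => hbs.2 _ _ _ (sq i)
  have ha' : ∀ i, AlgSp.RepWith @Etale ((AlgSp.yon S).map (pU i) ≫ a i) := fun i =>
    (AlgSp.repWith_isMultiplicative (S := S) @Etale).comp_mem _ _
      ((AlgSp.repWith_yon_map_iff _ _).2 (hpUe i)) (ha i)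
  have hcomm : ∀ i, ((AlgSp.yon S).map (pU i) ≫ a i) ≫ (g i).hom =
      (AlgSp.yon S).map (hh i) ≫ b := by
    intro i
    rw [hhmap, (sq i).w, Category.assoc]
  have hsm : ∀ i, Smooth (hh i).left := fun i => h.1 i _ b (hh i) (ha' i) hb (hcomm i)
  have hsec : ∀ (i : ι) (w : (W i).left), ∃ (T : Over S) (e : T ⟶ V) (s : T ⟶ W i) (t : T.left),
      Etale e.left ∧ e.left t = (hh i).left w ∧ s ≫ hh i = e := by
    intro i w
    haveI := hsm i
    obtain ⟨V', e, v', he, hev, s, hs⟩ :=
      Groth.Agent.S0412.result (hh i).left ((hh i).left w) ⟨w, rfl⟩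
    refine ⟨Over.mk (e ≫ V.hom), Over.homMk e rfl, Over.homMk s ?_, v', he, hev, ?_⟩
    · simp only [Over.mk_hom]
      rw [← hs, Category.assoc, Over.w]
    · ext
      simpa using hs
  choose T e s t hTe hTt hTs using hsec
  refine ⟨Σ i, (W i).left, fun j => (AlgSp.ofScheme S).obj (T j.1 j.2),
    fun j => ObjectProperty.homMk ((AlgSp.yon S).map (e j.1 j.2) ≫ b), ⟨?_, ?_⟩, ?_⟩
  · rintro ⟨i, w⟩
    have hc : AlgSp.RepWith @Etale ((AlgSp.yon S).map (e i w) ≫ b) :=
      (AlgSp.repWith_isMultiplicative (S := S) @Etale).comp_mem _ _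
        ((AlgSp.repWith_yon_map_iff _ _).2 (hTe i w)) hb
    exact fun _ φ hφ => (AlgSp.repWith_isMultiplicative (S := S) @Etale).comp_mem _ _ hφ hc
  · intro x
    obtain ⟨i, xi, hxi⟩ := h.2 x
    obtain ⟨u, hu⟩ := Groth.Agent.H52.surjective_ofPt_of_surjective (a i) (has i) xi
    have := hpUs i
    obtain ⟨w, hw⟩ := (pU i).left.surjective u
    refine ⟨⟨i, w⟩, Points.ofScheme _ (t i w), ?_⟩
    show Points.map ((AlgSp.yon S).map (e i w) ≫ b) (Points.ofScheme _ (t i w)) = x
    rw [← Points.ofPt_eq_map_ofScheme, Groth.Agent.H52.ofPt_yon_map_comp, hTt,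
      ← Groth.Agent.H52.ofPt_yon_map_comp, ← hcomm i, ← Points.map_ofPt,
      Groth.Agent.H52.ofPt_yon_map_comp, hw, hu]
    exact hxi
  · rintro ⟨i, w⟩
    refine ⟨i, ObjectProperty.homMk
      ((AlgSp.yon S).map (s i w) ≫ (AlgSp.yon S).map (pU i) ≫ a i), ?_⟩
    apply ObjectProperty.hom_ext
    show ((AlgSp.yon S).map (s i w) ≫ (AlgSp.yon S).map (pU i) ≫ a i) ≫ (g i).hom =
      (AlgSp.yon S).map (e i w) ≫ b
    rw [← hTs i w, Functor.map_comp]
    simp only [Category.assoc]
    congr 1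
    simpa only [Category.assoc] using hcomm i

end Groth.Agent.S10509
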