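import Groth.Statements.S1051
import Mathlib

set_option autoImplicit false
universe v u
open CategoryTheory
open CohDer

namespace Groth.Agent.S1051

open CategoryTheory.Pretriangulated CategoryTheory.Limits ZeroObject

/-- dependent recursion with choice -/
lemma exists_seq {α : ℕ → Type*} (x0 : α 0) (R : ∀ k, α k → α (k + 1) → Prop)
    (h : ∀ k x, ∃ y, R k x y) : ∃ f : ∀ k, α k, f 0 = x0 ∧ ∀ k, R k (f k) (f (k + 1)) :=
  ⟨fun k => Nat.rec x0 (fun k x => (h k x).choose) k, rfl,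
    fun k => (h k _).choose_spec⟩

section

variable {D : Type u} [Category.{v} D] [Preadditive D] [HasZeroObject D] [HasShift D ℤ]
  [∀ n : ℤ, (shiftFunctor D n).Additive] [Pretriangulated D]
  (X : ChainComplex D ℕ) (n : ℕ)

/-- the inductive invariant at stage `k` -/
structure Stage (k : ℕ) where
  Y : D
  a : Y ⟶ X.X k
  V : ∀ i : ℕ, k + 2 < i → i ≤ n → ∀ (Z : D),
    Nonempty (Z ≅ (shiftFunctor D ((i : ℤ) - k - 2)).obj (X.X i)) → ∀ φ : Z ⟶ Y, φ = 0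
  M : k + 2 ≤ n → ∀ g : X.X (k + 2) ⟶ Y, g ≫ a = 0 → g = 0
  Lft : k + 1 ≤ n → ∃ b : X.X (k + 1) ⟶ Y, b ≫ a = X.d (k + 1) k

variable {X n}

/-- key exactness statement for a distinguished triangle `Y' ⟶ X₁ ⟶ Y ⟶ Y'⟦1⟧` -/
lemma exists_factor {Y' X₁ Y : D} (a' : Y' ⟶ X₁) (b : X₁ ⟶ Y)
    (c : Y ⟶ (shiftFunctor D (1 : ℤ)).obj Y')
    (hT : Triangle.mk a' b c ∈ distinguishedTriangles) {Z : D} (φ : Z ⟶ Y') (hφ : φ ≫ a' = 0) :
    ∃ h : (shiftFunctor D (1 : ℤ)).obj Z ⟶ Y, (shiftFunctor D (1 : ℤ)).map φ = h ≫ c := by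
  have hrot := rot_of_distTriang _ hT
  refine Triangle.coyoneda_exact₃ _ hrot ((shiftFunctor D (1 : ℤ)).map φ) ?_
  show (shiftFunctor D (1 : ℤ)).map φ ≫ (-(shiftFunctor D (1 : ℤ)).map a') = 0
  rw [Preadditive.comp_neg, ← CategoryTheory.Functor.map_comp, hφ,
    CategoryTheory.Functor.map_zero, neg_zero]

lemma step (hX : ∀ i j : ℕ, j + 2 < i → i ≤ n →
      ∀ φ : (shiftFunctor D ((i : ℤ) - j - 2)).obj (X.X i) ⟶ X.X j, φ = 0)
    (k : ℕ) (S : Stage X n k) :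
    ∃ (S' : Stage X n (k + 1)) (b : X.X (k + 1) ⟶ S.Y)
      (c : S.Y ⟶ (shiftFunctor D (1 : ℤ)).obj S'.Y),
      k < n → (Triangle.mk S'.a b c ∈ distinguishedTriangles ∧ b ≫ S.a = X.d (k + 1) k) := by
  by_cases hk : k < n
  · obtain ⟨b, hb⟩ := S.Lft (by omega)
    obtain ⟨Y', a', c, hT⟩ := distinguished_cocone_triangle₁ b
    refine ⟨⟨Y', a', ?_, ?_, ?_⟩, b, c, fun _ => ⟨hT, hb⟩⟩
    · -- V'
      intro i hi1 hi2 Z ⟨e⟩ φ
      have h1 : φ ≫ a' = 0 := by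
        have := hX i (k + 1) (by omega) hi2 (e.inv ≫ φ ≫ a')
        rw [← cancel_epi e.inv, this, comp_zero]
      obtain ⟨h, hh⟩ := exists_factor a' b c hT φ h1
      have e' : (shiftFunctor D (1 : ℤ)).obj Z ≅
          (shiftFunctor D ((i : ℤ) - k - 2)).obj (X.X i) :=
        (shiftFunctor D (1 : ℤ)).mapIso e ≪≫
          ((shiftFunctorAdd' D ((i : ℤ) - ((k + 1 : ℕ) : ℤ) - 2) 1 ((i : ℤ) - k - 2)
            (by push_cast; ring)).app (X.X i)).symm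
      have h0 := S.V i (by omega) hi2 _ ⟨e'⟩ h
      apply (shiftFunctor D (1 : ℤ)).map_injective
      rw [hh, h0, zero_comp, CategoryTheory.Functor.map_zero]
    · -- M'
      intro hk3 g hg
      obtain ⟨h, hh⟩ := exists_factor a' b c hT g hg
      have e' : (shiftFunctor D (1 : ℤ)).obj (X.X (k + 1 + 2)) ≅
          (shiftFunctor D (((k + 1 + 2 : ℕ) : ℤ) - k - 2)).obj (X.X (k + 1 + 2)) :=
        eqToIso (congrArg (fun t => (shiftFunctor D t).obj (X.X (k + 1 + 2)))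
          (by push_cast; ring))
      have h0 := S.V (k + 1 + 2) (by omega) hk3 _ ⟨e'⟩ h
      apply (shiftFunctor D (1 : ℤ)).map_injective
      rw [hh, h0, zero_comp, CategoryTheory.Functor.map_zero]
    · -- Lft'
      intro hk2
      have h1 : X.d (k + 1 + 1) (k + 1) ≫ b = 0 := by
        apply S.M (by omega)
        rw [Category.assoc, hb, HomologicalComplex.d_comp_d]
      obtain ⟨b', hb'⟩ := Triangle.coyoneda_exact₂ _ hT (X.d (k + 1 + 1) (k + 1)) h1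
      exact ⟨b', hb'.symm⟩
  · refine ⟨⟨0, 0, ?_, ?_, ?_⟩, 0, 0, fun h => absurd h hk⟩
    · intro i hi1 hi2; omega
    · intro h; omega
    · intro h; omega

end

open CategoryTheory.Pretriangulated in
/-- Let X be a chain complex in a triangulated category D and n a natural number; consider the finite
complex Xₙ → Xₙ₋₁ → … → X₀. If every morphism Xᵢ[i - j - 2] ⟶ Xⱼ with j + 2 < i ≤ n vanishes, then
there is a Postnikov system for it: objects Yₖ (k ≤ n), an isomorphism Y₀ ⟶ X₀, and for each k < n a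
distinguished triangle Yₖ₊₁ ⟶ Xₖ₊₁ ⟶ Yₖ ⟶ Yₖ₊₁[1] such that Xₖ₊₁ ⟶ Yₖ ⟶ Xₖ is the differential of X. -/
theorem result {D : Type u} [Category.{v} D] [Preadditive D] [Limits.HasZeroObject D] [HasShift D ℤ]
    [∀ n : ℤ, (shiftFunctor D n).Additive] [Pretriangulated D] [IsTriangulated D]
    (X : ChainComplex D ℕ) (n : ℕ)
    (hX : ∀ i j : ℕ, j + 2 < i → i ≤ n → ∀ φ : (shiftFunctor D ((i : ℤ) - j - 2)).obj (X.X i) ⟶ X.X j, φ = 0) :
    ∃ (Y : ℕ → D) (a : ∀ k, Y k ⟶ X.X k) (b : ∀ k, X.X (k + 1) ⟶ Y k) (c : ∀ k, Y k ⟶ (shiftFunctor D (1 : ℤ)).obj (Y (k + 1))),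
      IsIso (a 0) ∧ ∀ k, k < n → Triangle.mk (a (k + 1)) (b k) (c k) ∈ distinguishedTriangles ∧ b k ≫ a k = X.d (k + 1) k := by
  have hV0 : ∀ i : ℕ, 0 + 2 < i → i ≤ n → ∀ (Z : D),
      Nonempty (Z ≅ (shiftFunctor D ((i : ℤ) - (0 : ℕ) - 2)).obj (X.X i)) →
      ∀ φ : Z ⟶ X.X 0, φ = 0 := by
    intro i hi1 hi2 Z ⟨e⟩ φ
    have := hX i 0 (by omega) hi2 (e.inv ≫ φ)
    rw [← cancel_epi e.inv, this, Limits.comp_zero]
  let S0 : Stage X n 0 :=
    ⟨X.X 0, 𝟙 _, hV0, fun _ g hg => by rwa [Category.comp_id] at hg,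
      fun _ => ⟨X.d (0 + 1) 0, Category.comp_id _⟩⟩
  obtain ⟨f, hf0, hf⟩ := exists_seq (α := fun k => Stage X n k) S0
    (fun k S S' => ∃ (b : X.X (k + 1) ⟶ S.Y) (c : S.Y ⟶ (shiftFunctor D (1 : ℤ)).obj S'.Y),
      k < n → (Triangle.mk S'.a b c ∈ distinguishedTriangles ∧ b ≫ S.a = X.d (k + 1) k))
    (fun k S => step hX k S)
  choose b c hbc using hf
  refine ⟨fun k => (f k).Y, fun k => (f k).a, b, c, ?_, fun k hk => hbc k hk⟩
  have : ∀ S : Stage X n 0, S = S0 → IsIso S.a := by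
    rintro _ rfl
    exact (inferInstance : IsIso (𝟙 (X.X 0)))
  exact this _ hf0

end Groth.Agent.S1051
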