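import Groth.Statements.S7190
import Groth.Agent.H38.PhMain
import Groth.Agent.S7198

set_option autoImplicit false
universe w u
open FlatMor

namespace Groth.Agent.S7190

open AlgebraicGeometry CategoryTheory Limits in
/-- An fppf covering {T_i → T} of schemes (flat, locally of finite presentation, jointly surjective) is
a ph covering. -/
theorem result {T : Scheme.{u}} (E : PreZeroHypercover.{w} T)
    (hflat : ∀ i, Flat (E.f i)) (hfp : ∀ i, LocallyOfFinitePresentation (E.f i))
    (hsurj : ∀ t : T, ∃ (i : E.I₀) (x : E.X i), E.f i x = t) : HTop.IsPhCover E := by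
  refine Groth.Agent.H38.PhGood.isPhCover_of_tower (fun i => ?_) ?_
  · haveI := hfp i
    infer_instance
  · intro s
    obtain ⟨U, W, π, hsU, hπ, hπs, hW⟩ := Groth.Agent.S7198.result E hflat hfp hsurj s
    refine ⟨U, W, π, hsU, hπ.1, hπs, fun w => ?_⟩
    obtain ⟨W', T', ρ, i, r, hw, hρ, hρs, hr⟩ := hW w
    exact ⟨W', T', ρ, i, r, hw, hρ.1, hρs, hr⟩

end Groth.Agent.S7190
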