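import Groth.Statements.S1052
import Groth.Agent.H28.K0Derived
import Groth.Agent.H8.CohKerCoker
import Groth.Agent.H8.StructureCoh

set_option autoImplicit false
universe u
open CategoryTheory CategoryTheory.Limits AlgebraicGeometry
attribute [local instance] HasDerivedCategory.standard
open KZero

namespace Groth.Agent.S1052

/-- Let X be a Noetherian scheme. There is an isomorphism between K₀(Coh(O_X)) (free abelian group on
coherent O_X-modules modulo short exact sequences of coherent modules) and K₀(D^b_Coh(O_X)) (free
abelian group on bounded objects of D(O_X) with coherent cohomology modulo distinguished triangles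
among them) which sends the class of a coherent module F to the class of F placed in degree 0. -/
theorem result (X : Scheme.{u}) [IsNoetherian X] :
    ∃ φ : KZero.K0sub (fun M : X.Modules => Coh.IsCoh M) ≃+
        KZero.K0tr (fun K : DCoh.D X => DCoh.IsCohD K ∧ ∃ a b : ℤ, K.IsGE a ∧ K.IsLE b),
      ∀ F : X.Modules, Coh.IsCoh F →
        φ (KZero.clSub (fun M : X.Modules => Coh.IsCoh M) F) =
          KZero.clTr (fun K : DCoh.D X => DCoh.IsCohD K ∧ ∃ a b : ℤ, K.IsGE a ∧ K.IsLE b) (DCoh.inD X F) := by
  have hiso : ∀ {M N : X.Modules}, (M ≅ N) → Coh.IsCoh M → Coh.IsCoh N := by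
    intro M N e h
    haveI : SheafOfModules.IsFiniteType (R := X.ringCatSheaf) M := h.2
    have hq : N.IsQuasicoherent :=
      (SheafOfModules.isQuasicoherent X.ringCatSheaf).prop_of_iso e h.1
    exact ⟨hq, Groth.Agent.H8.isFiniteType_of_epi e.hom⟩
  have hker : ∀ {M N : X.Modules} (f : M ⟶ N), Coh.IsCoh M → Coh.IsCoh N →
      Coh.IsCoh (kernel f) :=
    fun f hM hN => Groth.Agent.H8.isCoh_kernel hM hN f
  have hzero : ∀ {Z : X.Modules}, IsZero Z → Coh.IsCoh Z := by
    intro Z hZ
    have hO := Groth.Agent.H8.isCoh_structureModule X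
    have hk := hker (𝟙 (Coh.structureModule X)) hO hO
    have hkz : IsZero (kernel (𝟙 (Coh.structureModule X))) := isZero_kernel_of_mono _
    exact hiso (hkz.iso hZ) hk
  exact Groth.Agent.H28.K0D.main' (fun M : X.Modules => Coh.IsCoh M) ⟨hiso, hzero, hker⟩ _
    (fun K => Iff.rfl)

end Groth.Agent.S1052
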