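import Groth.Statements.S1053
import Mathlib.Algebra.Homology.DerivedCategory.KProjective

set_option autoImplicit false
universe w v u
open CategoryTheory CategoryTheory.Limits
open CohDer

namespace Groth.Agent.S1053

/-- Let P and K be cochain complexes in an abelian category with P bounded, consisting of projective
objects and zero in degrees below n, and with Hⁱ(K) = 0 for all i ≥ n. Then every morphism P ⟶ K in
the homotopy category and every morphism P ⟶ K in the derived category is zero. -/
theorem result {A : Type u} [Category.{v} A] [Abelian A] [HasDerivedCategory.{w} A]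
    (P K : CochainComplex A ℤ) (n b : ℤ) [P.IsStrictlyGE n] [P.IsStrictlyLE b] (hP : ∀ i : ℤ, Projective (P.X i))
    (hK : ∀ i : ℤ, n ≤ i → IsZero (K.homology i)) :
    (∀ φ : (HomotopyCategory.quotient A (ComplexShape.up ℤ)).obj P ⟶ (HomotopyCategory.quotient A (ComplexShape.up ℤ)).obj K, φ = 0) ∧
    (∀ φ : DerivedCategory.Q.obj P ⟶ DerivedCategory.Q.obj K, φ = 0) := by
  have : ∀ i, Projective (P.X i) := hP
  have : P.IsKProjective := CochainComplex.isKProjective_of_projective P b
  have : K.IsLE (n-1) := by
    rw [CochainComplex.isLE_iff]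
    intro i hi
    rw [HomologicalComplex.exactAt_iff_isZero_homology]
    exact hK i (by lia)
  -- every morphism `Q.obj P ⟶ Q.obj L` comes from a chain map
  have key : ∀ (L : CochainComplex A ℤ) (ψ : DerivedCategory.Q.obj P ⟶ DerivedCategory.Q.obj L),
      ∃ g : P ⟶ L, ψ = DerivedCategory.Q.map g := by
    intro L ψ
    obtain ⟨f, hf⟩ := (CochainComplex.IsKProjective.Qh_map_bijective P
      ((HomotopyCategory.quotient A (ComplexShape.up ℤ)).obj L)).2
        ((DerivedCategory.quotientCompQhIso A).hom.app P ≫ ψ ≫
          (DerivedCategory.quotientCompQhIso A).inv.app L)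
    obtain ⟨g, rfl⟩ := (HomotopyCategory.quotient A (ComplexShape.up ℤ)).map_surjective f
    refine ⟨g, ?_⟩
    have h1 := DerivedCategory.quotientCompQhIso_hom_naturality (C := A) g
    rw [hf] at h1
    simp only [Category.assoc, Iso.inv_hom_id_app, Category.comp_id] at h1
    exact (cancel_epi _).1 h1
  have hD : ∀ φ : DerivedCategory.Q.obj P ⟶ DerivedCategory.Q.obj K, φ = 0 := by
    intro φ
    have : IsIso (DerivedCategory.Q.map (K.ιTruncLE (n-1))) := by
      rw [DerivedCategory.isIso_Q_map_iff_quasiIso]; infer_instance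
    suffices h : φ ≫ inv (DerivedCategory.Q.map (K.ιTruncLE (n-1))) = 0 by
      have h2 := congrArg (· ≫ DerivedCategory.Q.map (K.ιTruncLE (n-1))) h
      simpa using h2
    obtain ⟨g, hg⟩ := key (K.truncLE (n-1)) (φ ≫ inv (DerivedCategory.Q.map (K.ιTruncLE (n-1))))
    have hg0 : g = 0 := by
      ext i
      by_cases hi : i < n
      · exact (P.isZero_of_isStrictlyGE n i hi).eq_of_src _ _
      · exact ((K.truncLE (n-1)).isZero_of_isStrictlyLE (n-1) i (by lia)).eq_of_tgt _ _
    rw [hg, hg0, Functor.map_zero]
  refine ⟨?_, hD⟩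
  intro φ
  apply (CochainComplex.IsKProjective.Qh_map_bijective P
      ((HomotopyCategory.quotient A (ComplexShape.up ℤ)).obj K)).1
  rw [Functor.map_zero]
  have h3 := hD ((DerivedCategory.quotientCompQhIso A).inv.app P ≫ DerivedCategory.Qh.map φ ≫
    (DerivedCategory.quotientCompQhIso A).hom.app K)
  have h4 := congrArg (fun t => (DerivedCategory.quotientCompQhIso A).hom.app P ≫ t ≫
    (DerivedCategory.quotientCompQhIso A).inv.app K) h3
  simpa using h4

end Groth.Agent.S1053
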