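import Groth.Statements.S10560
import Groth.Agent.H49.AlgSpFppf

set_option autoImplicit false
universe u
open CategoryTheory CategoryTheory.Limits AlgebraicGeometry
open AlgSp

namespace Groth.Agent.S10560


/-- Let f : X ⟶ Y and q : Y ⟶ B be morphisms of algebraic spaces over S with f surjective, flat and
locally of finite presentation. If f ≫ q is smooth then q is smooth; if f ≫ q is etale then q is
etale. -/
theorem result {S : Scheme.{u}} {X Y B : AlgSp.Space S} (f : X ⟶ Y) (q : Y ⟶ B)
    (hs : AlgSp.IsSurjectiveMor f.hom) (hfl : AlgSp.LocP @Flat f.hom)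
    (hfp : AlgSp.LocP @LocallyOfFinitePresentation f.hom) :
    (AlgSp.LocP @Smooth (f ≫ q).hom → AlgSp.LocP @Smooth q.hom) ∧
    (AlgSp.IsEtaleMor (f ≫ q).hom → AlgSp.IsEtaleMor q.hom) := by
  refine ⟨fun h => ?_, fun h => ?_⟩
  · exact Groth.Agent.H49.AlgSpFppf.locP_of_comp_of_fppf @Smooth
      (fun e h h1 h2 h3 h4 => Groth.Agent.H49.FppfSource.smooth_of_comp_of_fppf_family e h h1 h2 h3 h4)
      Y.property X.property f.hom hs hfl hfp q.hom h
  · refine Groth.Agent.H51.isEtaleMor_of_locP_etale Y.property B.property q.hom ?_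
    exact Groth.Agent.H49.AlgSpFppf.locP_of_comp_of_fppf @Etale
      (fun e h h1 h2 h3 h4 => Groth.Agent.H49.FppfSource.etale_of_comp_of_fppf_family e h h1 h2 h3 h4)
      Y.property X.property f.hom hs hfl hfp q.hom
      (Groth.Agent.H51.locP_etale_of_isEtaleMor _ h)

end Groth.Agent.S10560
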