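import Groth.Statements.S10562
import Groth.Agent.H51.Reduced
import Groth.Agent.H7.NoethDescent

set_option autoImplicit false
universe u
open CategoryTheory CategoryTheory.Limits AlgebraicGeometry
open AlgSp

namespace Groth.Agent.S10562

/-- Let f : X ⟶ Y be a morphism of algebraic spaces over S which is locally of finite presentation, flat
and surjective. If X is locally Noetherian then Y is locally Noetherian. -/
theorem result {S : Scheme.{u}} {X Y : AlgSp.Space S} (f : X ⟶ Y)
    (hfp : AlgSp.LocP @LocallyOfFinitePresentation f.hom) (hfl : AlgSp.LocP @Flat f.hom)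
    (hs : AlgSp.IsSurjectiveMor f.hom) (hX : AlgSp.IsLocNoethSp X.obj) :
    AlgSp.IsLocNoethSp Y.obj := by
  obtain ⟨U, a, hae, has, hU⟩ := hX
  obtain ⟨V, b, hbe, hbs⟩ := Y.property.atlas
  obtain ⟨U₁, p, h, hpe, hps, ha₁e, hcomm, ha₁s, hhs⟩ :=
    Groth.Agent.H51.exists_chart_over f.hom a b hae hbe hbs
  have hU' : IsLocallyNoetherian U.left := hU
  have hU₁ : IsLocallyNoetherian U₁.left := LocallyOfFiniteType.isLocallyNoetherian p.left
  have hflat : Flat h.left := hfl _ b h ha₁e hbe hcomm
  have hlfp : LocallyOfFinitePresentation h.left := hfp _ b h ha₁e hbe hcomm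
  have hsurj : Surjective h.left := hhs has hs
  have hV : IsLocallyNoetherian V.left := Groth.Agent.H7.isLocallyNoetherian_of_fppf h.left
  exact ⟨V, b, hbe, hbs, hV⟩

end Groth.Agent.S10562
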