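import Groth.Statements.S10563
import Groth.Agent.H51.Reduced
import Groth.Agent.H7.NoethDescent
import Groth.Agent.S0065
import Groth.Agent.S0565

set_option autoImplicit false
universe u
open CategoryTheory CategoryTheory.Limits AlgebraicGeometry
open AlgSp

namespace Groth.Agent.S10563


/-- Let f : X ⟶ Y be a morphism of algebraic spaces over S which is locally of finite presentation, flat
and surjective. If X is regular (etale locally a locally Noetherian scheme all of whose local rings
are regular local rings) then Y is regular. -/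
theorem result {S : Scheme.{u}} {X Y : AlgSp.Space S} (f : X ⟶ Y)
    (hfp : AlgSp.LocP @LocallyOfFinitePresentation f.hom) (hfl : AlgSp.LocP @Flat f.hom)
    (hs : AlgSp.IsSurjectiveMor f.hom)
    (hX : AlgSp.EtaleLocally (fun U => IsLocallyNoetherian U ∧ ∀ u : ↥U, IsRegularLocalRing ↥(U.presheaf.stalk u)) X.obj) :
    AlgSp.EtaleLocally (fun U => IsLocallyNoetherian U ∧ ∀ u : ↥U, IsRegularLocalRing ↥(U.presheaf.stalk u)) Y.obj := by
  obtain ⟨U, a, hae, has, hU, hUreg⟩ := hX
  obtain ⟨V, b, hbe, hbs⟩ := Y.property.atlas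
  obtain ⟨U₁, p, h, hpe, hps, ha₁e, hcomm, ha₁s, hhs⟩ :=
    Groth.Agent.H51.exists_chart_over f.hom a b hae hbe hbs
  haveI hU' : IsLocallyNoetherian U.left := hU
  haveI : Etale p.left := hpe
  haveI hU₁ : IsLocallyNoetherian U₁.left := LocallyOfFiniteType.isLocallyNoetherian p.left
  haveI hflat : Flat h.left := hfl _ b h ha₁e hbe hcomm
  haveI hlfp : LocallyOfFinitePresentation h.left := hfp _ b h ha₁e hbe hcomm
  haveI hsurj : Surjective h.left := hhs has hs
  haveI hV : IsLocallyNoetherian V.left := Groth.Agent.H7.isLocallyNoetherian_of_fppf h.left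
  refine ⟨V, b, hbe, hbs, hV, fun v => ?_⟩
  obtain ⟨u, rfl⟩ := h.left.surjective v
  haveI hreg₁ : IsRegularLocalRing (U₁.left.presheaf.stalk u) :=
    (Groth.Agent.S0065.result p.left u).mpr (hUreg _)
  have hfl' : (h.left.stalkMap u).hom.Flat := AlgebraicGeometry.Flat.stalkMap h.left u
  algebraize [(h.left.stalkMap u).hom]
  haveI : Module.Flat (V.left.presheaf.stalk (h.left u)) (U₁.left.presheaf.stalk u) := hfl'
  haveI : IsLocalHom (algebraMap (V.left.presheaf.stalk (h.left u))
      (U₁.left.presheaf.stalk u)) :=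
    inferInstanceAs (IsLocalHom (h.left.stalkMap u).hom)
  exact Groth.Agent.S0565.result _ (U₁.left.presheaf.stalk u)

end Groth.Agent.S10563
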