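import Groth.Statements.S10566
import Groth.Agent.H51.SmoothST

set_option autoImplicit false
universe u
open CategoryTheory CategoryTheory.Limits AlgebraicGeometry
open AlgSp AlgSp.IsSmoothLocalST

namespace Groth.Agent.S10566

/-- For a property P of morphisms of algebraic spaces over S that is smooth local on source-and-target
and a morphism f : X ⟶ Y of algebraic spaces, each of the following is equivalent to P f: (c) for
some commutative square a ≫ f = h ≫ b with a : U ⟶ X and b : V ⟶ Y smooth and a surjective, h has P;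
(d) for every commutative square a ≫ f = h ≫ b with b smooth and the induced morphism U ⟶ X ×_Y V
smooth, h has P; (e) for some smooth covering of Y by algebraic spaces Y_i every base change Y_i ×_Y
X ⟶ Y_i has P; (f) for some smooth covering of X by algebraic spaces X_i every composite X_i ⟶ Y has
P. (Condition (b) of the published list is the defining locality condition, and its condition (g)
combines (e) and (f); they are not repeated here.) -/
theorem result {S : Scheme.{u}} {P : MorphismProperty (AlgSp.Sp S)}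
    (hP : AlgSp.IsSmoothLocalST P) {X Y : AlgSp.Space S} (f : X ⟶ Y) :
    (P f.hom ↔ ∃ (U V : AlgSp.Space S) (a : U ⟶ X) (b : V ⟶ Y) (h : U ⟶ V),
      AlgSp.LocP @Smooth a.hom ∧ AlgSp.LocP @Smooth b.hom ∧ AlgSp.IsSurjectiveMor a.hom ∧
      a ≫ f = h ≫ b ∧ P h.hom) ∧
    (P f.hom ↔ ∀ (U V W : AlgSp.Space S) (a : U ⟶ X) (b : V ⟶ Y) (h : U ⟶ V) (p : W ⟶ X) (q : W ⟶ V)
      (e : U ⟶ W), IsPullback p.hom q.hom f.hom b.hom → e ≫ p = a → e ≫ q = h →
      AlgSp.LocP @Smooth b.hom → AlgSp.LocP @Smooth e.hom → P h.hom) ∧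
    (P f.hom ↔ ∃ (ι : Type u) (Yi Xi : ι → AlgSp.Space S) (g : ∀ i, Yi i ⟶ Y) (p : ∀ i, Xi i ⟶ Yi i)
      (q : ∀ i, Xi i ⟶ X), AlgSp.IsSmCover (fun i => (Yi i).obj) (fun i => (g i).hom) ∧
      (∀ i, IsPullback (q i).hom (p i).hom f.hom (g i).hom) ∧ ∀ i, P (p i).hom) ∧
    (P f.hom ↔ ∃ (ι : Type u) (Xi : ι → AlgSp.Space S) (g : ∀ i, Xi i ⟶ X),
      AlgSp.IsSmCover (fun i => (Xi i).obj) (fun i => (g i).hom) ∧ ∀ i, P (g i ≫ f).hom) := by
  have hLS := Groth.Agent.H51.IsSmoothLocalST.localOnSource hP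
  have hLB := Groth.Agent.H51.IsSmoothLocalST.localOnBase hP
  have hid : IsPullback (𝟙 X.obj) f.hom f.hom (𝟙 Y.obj) := IsPullback.of_horiz_isIso ⟨by simp⟩
  refine ⟨⟨fun hf => ?_, ?_⟩, ⟨fun hf => ?_, fun H => ?_⟩, ⟨fun hf => ?_, ?_⟩, ⟨fun hf => ?_, ?_⟩⟩
  · exact ⟨X, Y, 𝟙 X, 𝟙 Y, f, Groth.Agent.H51.locP_smooth_id X.obj,
      Groth.Agent.H51.locP_smooth_id Y.obj, fun x => ⟨x, AlgSp.Points.map_id x⟩,
      by rw [Category.id_comp, Category.comp_id], hf⟩
  · rintro ⟨U, V, a, b, h, ha, hb, has, hcomm, hh⟩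
    have h1 : P (h.hom ≫ b.hom) :=
      Groth.Agent.H51.IsSmoothLocalST.postcomp hP U.property V.property Y.property h.hom b.hom hh hb
    have h2 : a.hom ≫ f.hom = h.hom ≫ b.hom := congrArg (fun φ => φ.hom) hcomm
    refine (hLS (fun _ : PUnit.{u + 1} => U.obj) (fun _ => a.hom) X.property (fun _ => U.property)
      ⟨fun _ => ha, fun x => ⟨⟨⟩, has x⟩⟩ f.hom Y.property).2 fun _ => ?_
    rw [h2]
    exact h1
  · intro U V W a b h p q e sq hea heh hb he
    subst heh
    have h1 : P q.hom :=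
      hP.baseChange X.property Y.property W.property V.property f.hom b.hom q.hom p.hom sq hb hf
    exact hP.precomp U.property W.property V.property e.hom q.hom he h1
  · exact H X Y X (𝟙 X) (𝟙 Y) f (𝟙 X) f (𝟙 X) hid (Category.id_comp _) (Category.id_comp _)
      (Groth.Agent.H51.locP_smooth_id Y.obj) (Groth.Agent.H51.locP_smooth_id X.obj)
  · exact ⟨PUnit.{u + 1}, fun _ => Y, fun _ => X, fun _ => 𝟙 Y, fun _ => f, fun _ => 𝟙 X,
      ⟨fun _ => Groth.Agent.H51.locP_smooth_id Y.obj, fun y => ⟨⟨⟩, y, AlgSp.Points.map_id y⟩⟩,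
      fun _ => hid, fun _ => hf⟩
  · rintro ⟨ι, Yi, Xi, g, p, q, hcov, hsq, hp⟩
    exact (hLB (fun i => (Yi i).obj) (fun i => (g i).hom) Y.property (fun i => (Yi i).property)
      hcov f.hom X.property (fun i => (Xi i).obj) (fun i => (p i).hom) (fun i => (q i).hom)
      (fun i => (Xi i).property) hsq).2 hp
  · exact ⟨PUnit.{u + 1}, fun _ => X, fun _ => 𝟙 X,
      ⟨fun _ => Groth.Agent.H51.locP_smooth_id X.obj, fun x => ⟨⟨⟩, x, AlgSp.Points.map_id x⟩⟩,
      fun _ => by rw [Category.id_comp]; exact hf⟩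
  · rintro ⟨ι, Xi, g, hcov, hp⟩
    exact (hLS (fun i => (Xi i).obj) (fun i => (g i).hom) X.property (fun i => (Xi i).property)
      hcov f.hom Y.property).2 hp

end Groth.Agent.S10566
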