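import Groth.Statements.S10568
import Groth.Agent.H51.EtSmoothST

set_option autoImplicit false
universe u
open CategoryTheory CategoryTheory.Limits AlgebraicGeometry
open AlgSp AlgSp.IsEtaleSmoothLocalST

namespace Groth.Agent.S10568

/-- A property P of morphisms of algebraic spaces over S, local on source-and-target in the etale-smooth
sense, is (1) etale local on the source, (2) smooth local on the base, (3) stable under
postcomposition with etale morphisms: whenever g : Y ⟶ Z is etale and f : X ⟶ Y has P, the composite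
f ≫ g has P, and (4) conversely, if g : Y ⟶ Z is etale and f ≫ g has P then f has P. -/
theorem result {S : Scheme.{u}} {P : MorphismProperty (AlgSp.Sp S)}
    (hP : AlgSp.IsEtaleSmoothLocalST P) :
    AlgSp.IsLocalOnSource (AlgSp.IsEtCover (S := S)) P ∧
    AlgSp.IsLocalOnBase (AlgSp.IsSmCover (S := S)) P ∧
    (∀ ⦃X Y Z : AlgSp.Space S⦄ (f : X ⟶ Y) (g : Y ⟶ Z), P f.hom → AlgSp.IsEtaleMor g.hom → P (f ≫ g).hom) ∧
    (∀ ⦃X Y Z : AlgSp.Space S⦄ (f : X ⟶ Y) (g : Y ⟶ Z), AlgSp.IsEtaleMor g.hom → P (f ≫ g).hom → P f.hom) := by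
  exact ⟨Groth.Agent.H51.IsEtaleSmoothLocalST.localOnSource hP,
    Groth.Agent.H51.IsEtaleSmoothLocalST.localOnBase hP,
    fun X Y Z f g hf hg => Groth.Agent.H51.IsEtaleSmoothLocalST.postcomp hP X.property Y.property
      Z.property f.hom g.hom hf hg,
    fun X Y Z f g hg hfg => Groth.Agent.H51.IsEtaleSmoothLocalST.of_postcomp hP X.property
      Y.property Z.property f.hom g.hom hg hfg⟩

end Groth.Agent.S10568
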