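import Groth.Statements.S10571
import Groth.Agent.H51.CoprodAlgSpace
import Groth.Agent.H52.FibProd

set_option autoImplicit false
universe u
open CategoryTheory CategoryTheory.Limits AlgebraicGeometry
open AlgSp

namespace Groth.Agent.S10571

/-- Suppose a property P of morphisms between algebraic spaces over S satisfies: (1) if finitely many
morphisms X_i ⟶ Y_i have P then so does the induced morphism ∐ X_i ⟶ ∐ Y_i, (2) f : X ⟶ Y has P
exactly when, for each affine scheme Z and each h_Z ⟶ Y, the base change h_Z ×_Y X ⟶ h_Z has P, and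
(3) for every surjective flat morphism of affine schemes Z' ⟶ Z over S and every f : X ⟶ h_Z, if the
base change h_{Z'} ×_{h_Z} X ⟶ h_{Z'} has P then f has P. Under these hypotheses, P is local on the
base for the fpqc topology. (The published statement asks (1) only for two morphisms; its proof
applies (1) to a disjoint union indexed by a finite set that may be empty, and with (1) for two
morphisms only the property that holds for no morphism satisfies all three hypotheses without being
fpqc local on the base, as the empty covering of the empty algebraic space shows. This row asks (1)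
for all finite families, the empty one included.) -/
theorem result {S : Scheme.{u}} (P : MorphismProperty (AlgSp.Sp S))
    (h1 : ∀ ⦃ι : Type u⦄ [Finite ι] (Xi Yi : ι → AlgSp.Sp S) (fi : ∀ i, Xi i ⟶ Yi i)
      (cX : Cofan Xi) (cY : Cofan Yi) (hcX : IsColimit cX) (hcY : IsColimit cY) (m : cX.pt ⟶ cY.pt),
      (∀ i, AlgSp.IsAlgSpace (Xi i)) → (∀ i, AlgSp.IsAlgSpace (Yi i)) →
      AlgSp.IsAlgSpace cX.pt → AlgSp.IsAlgSpace cY.pt →
      (∀ i, cX.inj i ≫ m = fi i ≫ cY.inj i) → (∀ i, P (fi i)) → P m)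
    (h2 : ∀ ⦃X Y : AlgSp.Sp S⦄, AlgSp.IsAlgSpace X → AlgSp.IsAlgSpace Y → ∀ (f : X ⟶ Y),
      P f ↔ ∀ (Z : Over S), IsAffine Z.left → ∀ (g : (AlgSp.yon S).obj Z ⟶ Y) (W : AlgSp.Sp S)
        (fst : W ⟶ X) (snd : W ⟶ (AlgSp.yon S).obj Z), AlgSp.IsAlgSpace W → IsPullback fst snd f g → P snd)
    (h3 : ∀ ⦃Z Z' : Over S⦄ (c : Z' ⟶ Z), IsAffine Z.left → IsAffine Z'.left → Surjective c.left → Flat c.left →
      ∀ ⦃X X' : AlgSp.Sp S⦄ (f : X ⟶ (AlgSp.yon S).obj Z) (fst : X' ⟶ X) (f' : X' ⟶ (AlgSp.yon S).obj Z'),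
        AlgSp.IsAlgSpace X → AlgSp.IsAlgSpace X' → IsPullback fst f' f ((AlgSp.yon S).map c) → P f' → P f) :
    AlgSp.IsLocalOnBase (AlgSp.IsFpqcCover (S := S)) P := by
  intro ι Y Yi g hY hYi hcov X f hX Xi p q hXi sq
  -- base change of `p i` to an affine is a base change of `f`
  have hfwd : ∀ i, P f → P (p i) := by
    intro i hPf
    rw [h2 (hXi i) (hYi i)]
    intro Z hZ k W fst snd hW sqW
    exact (h2 hX hY f).1 hPf Z hZ (k ≫ g i) W (fst ≫ q i) snd hW (sqW.paste_horiz (sq i))
  refine ⟨fun hPf i => hfwd i hPf, fun hp => ?_⟩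
  rw [h2 hX hY]
  intro Z hZ k W fst snd hW sqW
  obtain ⟨m, Wj, c, hWaff, hflat, hsurj, hl⟩ := hcov.2 Z hZ k
  choose idx l hl using hl
  let U : ULift.{u} (Fin m) → Over S := fun j => Wj j.down
  have hUaff : ∀ j, IsAffine (U j).left := fun j => hWaff j.down
  let Z' : Over S := Groth.Agent.H51.sigmaOver U
  have hZ' : IsAffine Z'.left :=
    inferInstanceAs (IsAffine (∐ fun j => (U j).left))
  let cc : Z' ⟶ Z := Over.homMk (Sigma.desc fun j => (c j.down).left) (by
    apply Sigma.hom_ext
    intro j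
    simp [Z', U])
  have hccι : ∀ j, Groth.Agent.H51.sigmaOverι U j ≫ cc = c j.down := by
    intro j
    ext1
    simp [cc, Z', U]
  have hccflat : Flat cc.left := by
    have : ∀ j : ULift.{u} (Fin m), Flat (c j.down).left := fun j => hflat j.down
    exact IsZariskiLocalAtSource.sigmaDesc (P := @Flat) this
  have hccsurj : Surjective cc.left := by
    apply Surjective.sigmaDesc_of_union_range_eq_univ
    rw [Set.eq_univ_iff_forall]
    intro z
    obtain ⟨j, hj⟩ := hsurj z
    exact Set.mem_iUnion.2 ⟨⟨j⟩, hj⟩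
  -- the base change of `snd` to `Z'`
  have hhZ : IsAlgSpace ((yon S).obj Z) := IsAlgSpace.yon_obj Z
  have hhZ' : IsAlgSpace ((yon S).obj Z') := IsAlgSpace.yon_obj Z'
  have sqX' := IsPullback.of_hasPullback snd ((yon S).map cc)
  have hX' : IsAlgSpace (pullback snd ((yon S).map cc)) :=
    Groth.Agent.H52.isAlgSpace_of_isPullback sqX' hhZ.diag hW hhZ'
  refine h3 cc hZ hZ' hccsurj hccflat snd (pullback.fst snd ((yon S).map cc))
    (pullback.snd snd ((yon S).map cc)) hW hX' sqX' ?_
  -- decompose over the summands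
  obtain ⟨hcY⟩ := Groth.Agent.H51.nonempty_isColimit_yon_sigmaOver U
  have sqQ := fun j => IsPullback.of_hasPullback (pullback.snd snd ((yon S).map cc))
    ((yon S).map (Groth.Agent.H51.sigmaOverι U j))
  obtain ⟨hcX⟩ := Groth.Agent.H51.nonempty_isColimit_cofan_of_isPullback _ hcY
    (pullback.snd snd ((yon S).map cc)) _ _ sqQ
  have hQ : ∀ j, IsAlgSpace (pullback (pullback.snd snd ((yon S).map cc))
      ((yon S).map (Groth.Agent.H51.sigmaOverι U j))) := fun j =>
    Groth.Agent.H52.isAlgSpace_of_isPullback (sqQ j) hhZ'.diag hX' (IsAlgSpace.yon_obj (U j))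
  refine h1 _ _ (fun j => pullback.snd (pullback.snd snd ((yon S).map cc))
      ((yon S).map (Groth.Agent.H51.sigmaOverι U j))) _ _ hcX hcY
    (pullback.snd snd ((yon S).map cc)) hQ (fun j => IsAlgSpace.yon_obj (U j)) hX' hhZ'
    (fun j => (sqQ j).w) (fun j => ?_)
  -- each summand is a base change of `p (idx j.down)`
  have big := ((sqQ j).paste_horiz sqX').paste_horiz sqW
  have hbot : ((yon S).map (Groth.Agent.H51.sigmaOverι U j) ≫ (yon S).map cc) ≫ k =
      l j.down ≫ g (idx j.down) := by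
    rw [← Functor.map_comp, hccι j, hl j.down]
  rw [hbot] at big
  have hw : ((pullback.fst (pullback.snd snd ((yon S).map cc))
      ((yon S).map (Groth.Agent.H51.sigmaOverι U j)) ≫ pullback.fst snd ((yon S).map cc)) ≫ fst) ≫ f =
      (pullback.snd (pullback.snd snd ((yon S).map cc))
      ((yon S).map (Groth.Agent.H51.sigmaOverι U j)) ≫ l j.down) ≫ g (idx j.down) := by
    rw [Category.assoc _ (l j.down), ← big.w]
  have sqt := Groth.Agent.H52.isPullback_lift_of_comp_right (sq (idx j.down)) big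
    ((sq (idx j.down)).lift _ _ hw) ((sq (idx j.down)).lift_fst _ _ hw)
    ((sq (idx j.down)).lift_snd _ _ hw)
  exact (h2 (hXi (idx j.down)) (hYi (idx j.down)) (p (idx j.down))).1 (hp (idx j.down)) (U j)
    (hUaff j) (l j.down) _ _ _ (hQ j) sqt

end Groth.Agent.S10571
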