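import Groth.Statements.S10573
import Groth.Agent.H51.ChartLifts
import Groth.Agent.H52.Fpqc

set_option autoImplicit false
universe u
open CategoryTheory CategoryTheory.Limits AlgebraicGeometry
open AlgSp

namespace Groth.Agent.S10573

/-- Let {g_i : T_i ⟶ T} be a family of algebraic spaces over S forming an fpqc covering, and let W_i ⊂
|T_i| be open subsets (open subspaces) such that for all i, j the two projections T_i ×_T T_j ⟶ T_i,
T_j pull W_i and W_j back to the same subset of |T_i ×_T T_j|. Then there is a unique open subset W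
⊂ |T| with g_i⁻¹(W) = W_i for every i. -/
theorem result {S : Scheme.{u}} {ι : Type u} {T : AlgSp.Space S}
    (Ti : ι → AlgSp.Space S) (g : ∀ i, Ti i ⟶ T)
    (hg : AlgSp.IsFpqcCover (fun i => (Ti i).obj) (fun i => (g i).hom))
    (Wi : ∀ i, Set (AlgSp.Points (Ti i).obj)) (hW : ∀ i, IsOpen (Wi i))
    (hc : ∀ i j, AlgSp.Points.map (pullback.fst (g i).hom (g j).hom) ⁻¹' Wi i =
      AlgSp.Points.map (pullback.snd (g i).hom (g j).hom) ⁻¹' Wi j) :
    ∃! W : TopologicalSpace.Opens (AlgSp.Points T.obj), ∀ i, AlgSp.Points.map (g i).hom ⁻¹' (W : Set (AlgSp.Points T.obj)) = Wi i := by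
  let W₀ : Set (AlgSp.Points T.obj) := ⋃ i, AlgSp.Points.map (g i).hom '' Wi i
  have key1 : ∀ i, AlgSp.Points.map (g i).hom ⁻¹' W₀ = Wi i := by
    intro i
    ext x
    constructor
    · intro hx
      obtain ⟨j, y, hy, hxy⟩ := Set.mem_iUnion.1 hx
      obtain ⟨z, hz1, hz2⟩ := Groth.Agent.H52.exists_point_of_isPullback
        (IsPullback.of_hasPullback (g i).hom (g j).hom) x y hxy.symm
      have h1 : z ∈ AlgSp.Points.map (pullback.snd (g i).hom (g j).hom) ⁻¹' Wi j := by
        rw [Set.mem_preimage, hz2]; exact hy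
      rw [← hc i j, Set.mem_preimage, hz1] at h1
      exact h1
    · intro hx
      exact Set.mem_iUnion.2 ⟨i, x, hx, rfl⟩
  have key2 : IsOpen W₀ := by
    rw [Groth.Agent.H52.isOpen_iff_affine]
    intro Z hZ c
    obtain ⟨m, W', c', hW', hflat, hsurj, hlift⟩ := hg.2 Z hZ c
    apply Groth.Agent.H52.isOpen_of_fpqc hZ W' c' hW' hflat hsurj
    intro j
    obtain ⟨i, l, hl⟩ := hlift j
    have e : (fun t => (c' j).left t) ⁻¹' (AlgSp.Points.ofPt c ⁻¹' W₀) = AlgSp.Points.ofPt l ⁻¹' Wi i := by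
      ext t
      simp only [Set.mem_preimage]
      rw [← Groth.Agent.H52.ofPt_yon_map_comp, ← hl, ← AlgSp.Points.map_ofPt l (g i).hom t,
        ← Set.mem_preimage, key1 i]
    rw [e]
    exact (hW i).preimage (AlgSp.Points.continuous_ofPt l)
  refine ⟨⟨W₀, key2⟩, key1, fun W' hW' => ?_⟩
  apply TopologicalSpace.Opens.ext
  ext x
  obtain ⟨i, ξ, rfl⟩ := Groth.Agent.H51.surjective_of_isFpqcCover _ _ hg x
  change AlgSp.Points.map (g i).hom ξ ∈ (W' : Set _) ↔ AlgSp.Points.map (g i).hom ξ ∈ W₀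
  rw [← Set.mem_preimage, ← Set.mem_preimage, hW' i, key1 i]

end Groth.Agent.S10573
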