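import Groth.Statements.S10577
import Groth.Agent.H32.FP.PushBC
import Groth.Agent.H32.FP.FT
import Groth.Agent.H32.FP.FinDesc
import Groth.Agent.H32.WAFin.Chart
import Groth.Agent.H44.FPres_FINBC
import Groth.Agent.H51.FPres_BCCOV

set_option autoImplicit false
universe u
open CategoryTheory CategoryTheory.Limits AlgebraicGeometry
open AlgSp

namespace Groth.Agent.S10577

/-- Let f : X ⟶ Y be a finite morphism of algebraic spaces over S and F a quasi-coherent O_X-module (on
the small etale site). Then F is of finite type exactly when its direct image f_*F is of finite type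
as an O_Y-module. (A finite morphism is representable; the row carries representability of f as an
explicit hypothesis because the direct image functor is defined for representable morphisms.) -/
theorem result {S : Scheme.{u}} {X Y : AlgSp.Space S} (f : X ⟶ Y)
    (hrep : AlgSp.Representable f.hom) (hfin : AlgSp.IsFiniteMor f.hom)
    (F : AlgSp.ModEt X.obj) [F.IsQuasicoherent] :
    F.IsFiniteType ↔ ((AlgSp.pushModEt hrep).obj F).IsFiniteType := by
  have haff : AlgSp.IsAffineMor f.hom := fun Z hZ g => by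
    obtain ⟨W, i, fst, sq, hW, -⟩ := hfin hZ g
    exact ⟨W, i, fst, sq, hW⟩
  -- the comparison of sections over `E` and `bc E`
  have key : ∀ (E : AlgSp.EtOver Y.obj), IsAffine E.obj.left.left →
      IsAffine ((AlgSp.EtOver.bc hrep).obj E).obj.left.left ∧
      (Module.Finite ((AlgSp.OEt X.obj).obj.obj (Opposite.op ((AlgSp.EtOver.bc hrep).obj E)))
        (F.val.obj (Opposite.op ((AlgSp.EtOver.bc hrep).obj E))) ↔
      Module.Finite ((AlgSp.OEt Y.obj).obj.obj (Opposite.op E))
        (((AlgSp.pushModEt hrep).obj F).val.obj (Opposite.op E))) := by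
    intro E hE
    obtain ⟨hbE, hfinR⟩ := Groth.Agent.H44.FPres_FINBC.finite_bc hrep hfin E hE
    refine ⟨hbE, ?_⟩
    letI alg : Algebra ((AlgSp.OEt Y.obj).obj.obj (Opposite.op E))
        ((AlgSp.OEt X.obj).obj.obj (Opposite.op ((AlgSp.EtOver.bc hrep).obj E))) :=
      (Groth.Agent.H32.FP.bcR hrep E).toAlgebra
    have hR : (Groth.Agent.H32.FP.bcR hrep E).Finite := by
      have h0 : Groth.Agent.H32.FP.bcR hrep E =
          (ULift.ringEquiv (R := Γ(((AlgSp.EtOver.bc hrep).obj E).obj.left.left, ⊤))).symm.toRingHom.comp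
            ((hrep.snd E.obj.hom).left.appTop.hom.comp
              (ULift.ringEquiv (R := Γ(E.obj.left.left, ⊤))).toRingHom) := rfl
      rw [h0]
      exact RingHom.Finite.comp
        (RingHom.Finite.of_surjective _
          (ULift.ringEquiv (R := Γ(((AlgSp.EtOver.bc hrep).obj E).obj.left.left, ⊤))).symm.surjective)
        (RingHom.Finite.comp hfinR
          (RingHom.Finite.of_surjective _ (ULift.ringEquiv (R := Γ(E.obj.left.left, ⊤))).surjective))
    haveI : Module.Finite ((AlgSp.OEt Y.obj).obj.obj (Opposite.op E))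
        ((AlgSp.OEt X.obj).obj.obj (Opposite.op ((AlgSp.EtOver.bc hrep).obj E))) := hR
    letI mA : Module ((AlgSp.OEt Y.obj).obj.obj (Opposite.op E))
        (F.val.obj (Opposite.op ((AlgSp.EtOver.bc hrep).obj E))) :=
      (inferInstance : Module ((AlgSp.OEt Y.obj).obj.obj (Opposite.op E))
        (((AlgSp.pushModEt hrep).obj F).val.obj (Opposite.op E)))
    haveI : IsScalarTower ((AlgSp.OEt Y.obj).obj.obj (Opposite.op E))
        ((AlgSp.OEt X.obj).obj.obj (Opposite.op ((AlgSp.EtOver.bc hrep).obj E)))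
        (F.val.obj (Opposite.op ((AlgSp.EtOver.bc hrep).obj E))) :=
      IsScalarTower.of_algebraMap_smul (fun _ _ => rfl)
    constructor
    · intro h1
      haveI := h1
      exact Module.Finite.trans ((AlgSp.OEt X.obj).obj.obj (Opposite.op ((AlgSp.EtOver.bc hrep).obj E)))
        (F.val.obj (Opposite.op ((AlgSp.EtOver.bc hrep).obj E)))
    · intro h1
      haveI : Module.Finite ((AlgSp.OEt Y.obj).obj.obj (Opposite.op E))
          (F.val.obj (Opposite.op ((AlgSp.EtOver.bc hrep).obj E))) := h1
      exact Module.Finite.of_restrictScalars_finite ((AlgSp.OEt Y.obj).obj.obj (Opposite.op E))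
        ((AlgSp.OEt X.obj).obj.obj (Opposite.op ((AlgSp.EtOver.bc hrep).obj E)))
        (F.val.obj (Opposite.op ((AlgSp.EtOver.bc hrep).obj E)))
  constructor
  · intro hFT
    haveI := hFT
    refine Groth.Agent.H32.FP2.isFiniteType_of_forall_affine_finite Y.obj _
      (fun g hE hV => Groth.Agent.H32.FP.isBC_push hrep haff F g hE hV) (fun E hE => ?_)
    obtain ⟨hbE, hiff⟩ := key E hE
    exact hiff.1 (Groth.Agent.H32.WAFin.finite_sectModEt X.obj F _ hbE)
  · intro hFT
    haveI := hFT
    obtain ⟨σ, hσ⟩ := SheafOfModules.IsFiniteType.exists_localGeneratorsData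
      ((AlgSp.pushModEt hrep).obj F)
    refine Groth.Agent.H32.FP2.isFiniteType_of_forall_affine_finite X.obj F
      (fun g hE hV => Groth.Agent.H32.QCBC.isBC_modEt X.obj F g hE hV) (fun V hV => ?_)
    obtain ⟨T, hT, hTf⟩ := Groth.Agent.H51.FPres_BCCOV.exists_cover_bc hrep Y.property V
    refine Groth.Agent.H32.WAFin2.finite_of_cover (AlgSp.OEt X.obj)
      (Groth.Agent.H32.QCBC.affSite_etOver X.obj) F
      (fun g hE hV => Groth.Agent.H32.QCBC.isBC_modEt X.obj F g hE hV) hV T hT
      (fun V' g hg hV' => ?_)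
    obtain ⟨Z, a, b, -, hZ, E, hE, ⟨w⟩⟩ := hTf g hg
    obtain ⟨hbE, hiff⟩ := key E hE
    have h1 : Module.Finite ((AlgSp.OEt Y.obj).obj.obj (Opposite.op E))
        (((AlgSp.pushModEt hrep).obj F).val.obj (Opposite.op E)) :=
      Groth.Agent.H32.WAFin2.finite_sect (AlgSp.OEt Y.obj)
        (Groth.Agent.H32.QCBC.affSite_etOver Y.obj) _
        (fun g hE hV => Groth.Agent.H32.FP.isBC_push hrep haff F g hE hV) σ hσ hE
    have h2 := hiff.2 h1
    have h3 := Groth.Agent.H32.WAFin2.finite_of_hom (AlgSp.OEt X.obj) F w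
      (Groth.Agent.H32.QCBC.isBC_modEt X.obj F w hbE hZ) h2
    exact Groth.Agent.H32.WAFin2.finite_of_hom (AlgSp.OEt X.obj) F a
      (Groth.Agent.H32.QCBC.isBC_modEt X.obj F a hZ hV') h3

end Groth.Agent.S10577
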