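import Groth.Statements.S10579
import Groth.Agent.H32.EtSH12
import Groth.Agent.H47.FieldBC

set_option autoImplicit false
universe u
open CategoryTheory CategoryTheory.Limits AlgebraicGeometry
open AlgSp

namespace Groth.Agent.S10579

/-- Let f : X ⟶ Y be a morphism of algebraic spaces over S and x ∈ |X|. If X is geometrically unibranch
at x and f is flat at x, then Y is geometrically unibranch at the image point f(x). Here an
algebraic space is geometrically unibranch at a point when for every etale chart from a scheme U and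
every point u of U over it the local ring of U at u is geometrically unibranch. -/
theorem result {S : Scheme.{u}} {X Y : AlgSp.Space S} (f : X ⟶ Y) (x : AlgSp.Points X.obj)
    (hf : AlgSp.IsFlatAtMor f.hom x)
    (hX : ∀ (U : Over S) (a : (AlgSp.yon S).obj U ⟶ X.obj) (v : ↥U.left), AlgSp.RepWith @Etale a →
      AlgSp.Points.ofPt a v = x → CAlg2.IsGeomUnibranch ↥(U.left.presheaf.stalk v))
    (V : Over S) (b : (AlgSp.yon S).obj V ⟶ Y.obj) (w : ↥V.left) (hb : AlgSp.RepWith @Etale b)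
    (hw : AlgSp.Points.ofPt b w = AlgSp.Points.map f.hom x) :
    CAlg2.IsGeomUnibranch ↥(V.left.presheaf.stalk w) := by
  obtain ⟨U₁, a₁, ha₁, hs₁⟩ := X.property.atlas
  obtain ⟨u₁, hu₁⟩ := Groth.Agent.H52.surjective_ofPt_of_surjective a₁ hs₁ x
  obtain ⟨W, snd, fst, sq⟩ := hb.1 (a₁ ≫ f.hom)
  obtain ⟨fst', rfl⟩ := (AlgSp.yon S).map_surjective fst
  have hsnd : Etale snd.left := hb.2 _ _ _ sq
  have h1 : AlgSp.Points.ofPt b w = AlgSp.Points.ofPt (a₁ ≫ f.hom) u₁ := by
    rw [hw, ← hu₁]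
    rfl
  obtain ⟨w', hw'1, hw'2⟩ := Groth.Agent.H52.exists_of_ofPt_eq_ofPt sq w u₁ h1
  subst hw'1
  have ha : AlgSp.RepWith @Etale ((AlgSp.yon S).map snd ≫ a₁) :=
    Groth.Agent.H32.EtSH.chart_comp a₁ ha₁ snd hsnd
  have hpt : AlgSp.Points.ofPt ((AlgSp.yon S).map snd ≫ a₁) w' = x := by
    rw [Groth.Agent.H52.ofPt_yon_map_comp, hw'2, hu₁]
  have hcomm : ((AlgSp.yon S).map snd ≫ a₁) ≫ f.hom = (AlgSp.yon S).map fst' ≫ b := by
    rw [Category.assoc]
    exact sq.w.symm
  have hflat := hf ((AlgSp.yon S).map snd ≫ a₁) b fst' w' ha hb hcomm hpt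
  have hGU := hX W _ w' ha hpt
  letI alg : Algebra ↥(V.left.presheaf.stalk (fst'.left w')) ↥(W.left.presheaf.stalk w') :=
    (fst'.left.stalkMap w').hom.toAlgebra
  haveI hloc : IsLocalHom (algebraMap ↥(V.left.presheaf.stalk (fst'.left w'))
      ↥(W.left.presheaf.stalk w')) :=
    inferInstanceAs (IsLocalHom (fst'.left.stalkMap w').hom)
  haveI hfl : Module.Flat ↥(V.left.presheaf.stalk (fst'.left w')) ↥(W.left.presheaf.stalk w') :=
    hflat
  exact Groth.Agent.H47.FieldBC.isGeomUnibranch_of_flat _ _ hGU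

end Groth.Agent.S10579
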