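import Groth.Statements.S10582
import Groth.Agent.H50.AtMor
import Groth.Agent.H50.OpenSubChart
import Groth.Agent.H50.OverField
import Groth.Agent.H52.QC
import Groth.Agent.H52.EpiFppf
import Mathlib.AlgebraicGeometry.Morphisms.LocalFlatDescent

set_option autoImplicit false
universe u
open CategoryTheory CategoryTheory.Limits AlgebraicGeometry
open AlgSp

namespace Groth.Agent.S10582

open Groth.Agent.H50 Groth.Agent.H52

/-- A monomorphism of algebraic spaces that is quasi-compact, flat and surjective is an isomorphism. -/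
theorem result {S : Scheme.{u}} {X Y : AlgSp.Space S} (f : X ⟶ Y)
    (hqc : AlgSp.IsQuasiCompactMor f.hom) (hflat : AlgSp.LocP @Flat f.hom) (hsurj : AlgSp.IsSurjectiveMor f.hom)
    [Mono f.hom] : IsIso f.hom := by
  have hX : IsAlgSpace X.obj := X.property
  have hY : IsAlgSpace Y.obj := Y.property
  have hEt : LocP @Etale f.hom := by
    apply locP_of_forall_hasAtMor_nbhd etLocal_etale
    intro x
    obtain ⟨V, φ, hφ, hφs⟩ := hY.atlas
    obtain ⟨v, hv⟩ := surjective_ofPt_of_surjective φ hφs (Points.map f.hom x)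
    obtain ⟨_, ⟨(V₀ : V.left.Opens), hV₀, rfl⟩, hvV₀, -⟩ :=
      V.left.isBasis_affineOpens.exists_subset_of_mem_open (Set.mem_univ v) isOpen_univ
    have hφ₀ : RepWith @Etale ((yon S).map (opensOverι V V₀) ≫ φ) :=
      repWith_etale_opens_ι_comp φ hφ V₀
    have sq := IsPullback.of_hasPullback f.hom ((yon S).map (opensOverι V V₀) ≫ φ)
    haveI : IsAffine (opensOver V V₀).left := hV₀
    have hqcV : IsQuasiCompactSp ((yon S).obj (opensOver V V₀)) := isQuasiCompactSp_yon _
    have hXV : IsQuasiCompactSp (pullback f.hom ((yon S).map (opensOverι V V₀) ≫ φ)) :=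
      hqc (IsAlgSpace.yon_obj _) hqcV _ _ _ sq
    obtain ⟨W, c, hce, hcs, hW⟩ := hXV
    haveI : CompactSpace ↥W.left := hW
    have hfst : RepWith @Etale (pullback.fst f.hom ((yon S).map (opensOverι V V₀) ≫ φ)) :=
      repWith_fst_of_isPullback sq hφ₀
    have := AlgSp.repWith_isMultiplicative (S := S) @Etale
    have ha : RepWith @Etale (c ≫ pullback.fst f.hom ((yon S).map (opensOverι V V₀) ≫ φ)) :=
      (RepWith @Etale).comp_mem _ _ hce hfst
    obtain ⟨h, hh⟩ := (yon S).map_surjective
      (c ≫ pullback.snd f.hom ((yon S).map (opensOverι V V₀) ≫ φ))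
    have comm : (c ≫ pullback.fst f.hom ((yon S).map (opensOverι V V₀) ≫ φ)) ≫ f.hom =
        (yon S).map h ≫ ((yon S).map (opensOverι V V₀) ≫ φ) := by
      rw [hh, Category.assoc, Category.assoc, pullback.condition]
    haveI hfl : Flat h.left := hflat _ _ h ha hφ₀ comm
    haveI hqc' : QuasiCompact h.left :=
      (HasAffineProperty.iff_of_isAffine (P := @QuasiCompact)).mpr (inferInstance : CompactSpace ↥W.left)
    have hsj : Surjective h.left := by
      refine ⟨fun t => ?_⟩
      obtain ⟨e, he⟩ := hsurj (Points.ofPt ((yon S).map (opensOverι V V₀) ≫ φ) t)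
      rw [Points.ofPt_eq_map_ofScheme] at he
      obtain ⟨ξ, hξ1, hξ2⟩ := Groth.Agent.H52.exists_point_of_isPullback sq e _ he
      obtain ⟨w, rfl⟩ := surjective_ofPt_of_surjective c hcs ξ
      refine ⟨w, ?_⟩
      apply ofScheme_injective
      rw [← map_yon_map_ofScheme, hh, Points.map_comp, ← Points.ofPt_eq_map_ofScheme, hξ2]
    -- the self fibre product of `h`
    have hrep := hce.rep
    have sq0 := hrep.isPullback c
    obtain ⟨q1, hq1⟩ := (yon S).map_surjective (hrep.fst c)
    have hq2 : Etale (hrep.snd c).left := hce.property_snd c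
    have sq1 : IsPullback ((yon S).map q1) ((yon S).map (hrep.snd c)) ((yon S).map h) ((yon S).map h) := by
      rw [hq1, hh]
      exact Groth.Agent.H50.isPullback_comp_mono
        (pullback.snd f.hom ((yon S).map (opensOverι V V₀) ≫ φ)) sq0
    have sq2 : IsPullback q1 (hrep.snd c) h h :=
      IsPullback.of_map (yon S) ((yon S).map_injective (by
        simp only [Functor.map_comp]; exact sq1.w)) sq1
    have sq3 : IsPullback q1.left (hrep.snd c).left h.left h.left := sq2.map (Over.forget S)
    haveI hhe : Etale h.left :=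
      MorphismProperty.of_isPullback_of_descendsAlong (P := @Etale)
        (Q := @Surjective ⊓ @Flat ⊓ @QuasiCompact) sq3.flip ⟨⟨hsj, hfl⟩, hqc'⟩ hq2
    -- the point
    have hpt : Points.map f.hom x = Points.map ((yon S).map (opensOverι V V₀) ≫ φ)
        (Points.ofScheme (opensOver V V₀) ⟨v, hvV₀⟩) := by
      rw [← Points.ofPt_eq_map_ofScheme, ofPt_yon_map_comp, ← hv]
      rfl
    obtain ⟨ξ, hξ1, hξ2⟩ := Groth.Agent.H52.exists_point_of_isPullback sq x _ hpt
    obtain ⟨w, rfl⟩ := surjective_ofPt_of_surjective c hcs ξ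
    refine ⟨W, opensOver V V₀, c ≫ pullback.fst f.hom ((yon S).map (opensOverι V V₀) ≫ φ),
      (yon S).map (opensOverι V V₀) ≫ φ, h, w, ha, hφ₀, comm, hξ1, ⊤, trivial, ?_⟩
    infer_instance
  have hlfp : LocP @LocallyOfFinitePresentation f.hom := by
    intro U V a b h ha hb comm
    haveI : Etale h.left := hEt a b h ha hb comm
    infer_instance
  haveI : Epi f.hom := epi_of_fppf_mor hX hY f.hom hflat hlfp hsurj
  exact isIso_of_mono_of_epi f.hom

end Groth.Agent.S10582
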