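import Groth.Statements.S1059
import Groth.Agent.H28.PerfEuler

set_option autoImplicit false
universe u
open CategoryTheory CategoryTheory.Limits AlgebraicGeometry Opposite
attribute [local instance] HasDerivedCategory.standard
open Perf

namespace Groth.Agent.S1059

/-- Let E be a perfect object of D(O_X). Assuming the derived pullbacks to the points Spec κ(x) ⟶ X
exist, the function x ↦ χ_E(x) = Σᵢ (-1)ⁱ dim_{κ(x)} Hⁱ(E ⊗^L κ(x)) is locally constant on X. -/
theorem result (X : Scheme.{u}) [∀ x : X, DCoh.HasLpull (X.fromSpecResidueField x)]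
    (E : DCoh.D X) (hE : DCoh.IsPerfect E) :
    IsLocallyConstant (fun x : X => PerfD.eulerChar E x) := by
  rw [IsLocallyConstant.iff_exists_open]
  intro x
  obtain ⟨W, hxW, hW⟩ := Groth.Agent.H28.LpullLoc.exists_free_presentation E hE x
  obtain ⟨F, hF, ⟨eF⟩⟩ := Groth.Agent.H28.LpullLoc.exists_kflat_rep E
  obtain ⟨P, a, b, hab, hfree, ⟨eP⟩⟩ := hW F ⟨eF⟩
  choose n hn using hfree
  refine ⟨W, W.isOpen, hxW, fun y hy => ?_⟩
  rw [Groth.Agent.H28.PerfEuler.eulerChar_eq E W F hF eF P a b hab n hn eP y hy,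
    Groth.Agent.H28.PerfEuler.eulerChar_eq E W F hF eF P a b hab n hn eP x hxW]

end Groth.Agent.S1059
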