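import Groth.Statements.S10591
import Groth.Agent.H50.ThickLft
import Groth.Agent.H52.ChartIndep
import Groth.Agent.H52.ChartAt
import Groth.Agent.S10593
import Groth.Agent.S9358

set_option autoImplicit false
universe u
open CategoryTheory CategoryTheory.Limits AlgebraicGeometry
open AlgSp

namespace Groth.Agent.S10591

/-- Consider a morphism (f, f') from the thickening X ⊂ X' to the thickening Y ⊂ Y' of algebraic spaces
over S, meaning: i : X ⟶ X' and j : Y ⟶ Y' are thickenings (representable, every base change to a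
scheme a surjective closed immersion) and i ≫ f' = f ≫ j. Assume moreover that the square is
cartesian (X = Y ×_{Y'} X') and that i is a finite order thickening (for one n, on every affine
etale scheme chart of X' the (n+1)-st power of the ideal of the base change of X vanishes). Then f
is locally of finite type of relative dimension d, resp. locally of finite type, resp. locally
quasi-finite, resp. unramified, if and only if f' is (relative dimension d at a point: some chart
diagram through the point has fibre of local dimension d there) (all in the etale-local sense,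
locally quasi-finite and unramified including locally of finite type). -/
theorem result {S : Scheme.{u}} {X X' Y Y' : AlgSp.Space S} (i : X ⟶ X') (j : Y ⟶ Y')
    (f : X ⟶ Y) (f' : X' ⟶ Y')
    (hi : AlgSp.IsThickMor i.hom)
    (hj : AlgSp.IsThickMor j.hom) (w : i ≫ f' = f ≫ j)
    (hcart : IsPullback i.hom f.hom f'.hom j.hom)
    (hfo : AlgSp.IsFinThickMor i.hom) (d : ℕ) :
    ((AlgSp.LocP @LocallyOfFiniteType f.hom ∧
        ∀ x, AlgSp.HasAtMor (fun _ _ h u => FlatMor.fibreDimAt h u = (d : WithBot ℕ∞)) f.hom x) ↔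
      (AlgSp.LocP @LocallyOfFiniteType f'.hom ∧
        ∀ x', AlgSp.HasAtMor (fun _ _ h u => FlatMor.fibreDimAt h u = (d : WithBot ℕ∞)) f'.hom x')) ∧
    (AlgSp.LocP @LocallyOfFiniteType f.hom ↔ AlgSp.LocP @LocallyOfFiniteType f'.hom) ∧
    (AlgSp.LocP (@LocallyQuasiFinite ⊓ @LocallyOfFiniteType) f.hom ↔
      AlgSp.LocP (@LocallyQuasiFinite ⊓ @LocallyOfFiniteType) f'.hom) ∧
    (AlgSp.LocP (@LocallyOfFiniteType ⊓ @FormallyUnramified) f.hom ↔
      AlgSp.LocP (@LocallyOfFiniteType ⊓ @FormallyUnramified) f'.hom) := by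
  have hcart' : IsPullback i.hom f.hom f'.hom j.hom := hcart
  have elft := Groth.Agent.H52.etLocal_lft.{u}
  have down : ∀ (P : MorphismProperty Scheme.{u}), Groth.Agent.H52.EtLocal P →
      AlgSp.LocP P f'.hom → AlgSp.LocP P f.hom :=
    fun P hP h => Groth.Agent.H52.locP_baseChange hP X'.property Y'.property Y.property hcart h
  have uplft : AlgSp.LocP @LocallyOfFiniteType f.hom → AlgSp.LocP @LocallyOfFiniteType f'.hom := by
    intro hlft U' V' a' b' k' ha' hb' comm'
    obtain ⟨U, V, iU, iV, a, b, k, hae, hbe, hcomm, sqU, sqV, hUt, hVt, sq⟩ :=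
      Groth.Agent.H50.exists_thick_chart i.hom j.hom f.hom f'.hom hi hj hcart a' b' k' ha' hb' comm'
    have hfinU : MoreMor.IsFiniteOrderThickening iU.left :=
      Groth.Agent.H50.isFiniteOrderThickening_of_isFinThickMor X'.property i.hom hfo a' a iU sqU
    haveI : LocallyOfFiniteType k.left := hlft a b k hae hbe hcomm
    exact Groth.Agent.H50.lft_of_isPullback_of_finiteOrder_source sq hVt hfinU
  have S93 := fun hft hft' => Groth.Agent.S10593.result i j f f' hi hj w hcart hft hft'
  refine ⟨?c1, ⟨uplft, down _ elft⟩, ?c3, ?c4⟩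
  case c1 =>
    constructor
    · rintro ⟨hl, hd⟩
      have hlft' := uplft hl
      refine ⟨hlft', fun x' => ?_⟩
      obtain ⟨U', V', a', b', k', u', ha', hb', comm', hu'⟩ :=
        Groth.Agent.H52.exists_chart_diagram_at X'.property Y'.property f'.hom x'
      obtain ⟨U, V, iU, iV, a, b, k, hae, hbe, hcomm, sqU, sqV, hUt, hVt, sq⟩ :=
        Groth.Agent.H50.exists_thick_chart i.hom j.hom f.hom f'.hom hi hj hcart a' b' k' ha' hb'
          comm'
      obtain ⟨u, hu⟩ := hUt.2.surj u'
      have e1 : FlatMor.fibreDimAt k.left u = (d : WithBot ℕ∞) :=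
        Groth.Agent.H52.fibreDimAt_eq_of_hasAtMor f.hom (AlgSp.Points.ofPt a u) _ (hd _) a b k hae
          hbe hcomm u rfl
      haveI : LocallyOfFiniteType k'.left := hlft' a' b' k' ha' hb' comm'
      have e2 : FlatMor.fibreDimAt k.left u = FlatMor.fibreDimAt k'.left (iU.left u) :=
        (Groth.Agent.S9358.result k'.left iV.left iU.left k.left sq d).1 u
      refine ⟨U', V', a', b', k', u', ha', hb', comm', hu', ?_⟩
      show FlatMor.fibreDimAt k'.left u' = (d : WithBot ℕ∞)
      rw [← hu, ← e2]; exact e1
    · rintro ⟨hlft', hd'⟩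
      refine ⟨down _ elft hlft', fun x => ?_⟩
      obtain ⟨U', V', a', b', k', u', ha', hb', comm', hu', hq⟩ := hd' (AlgSp.Points.map i.hom x)
      obtain ⟨U, V, iU, iV, a, b, k, hae, hbe, hcomm, sqU, sqV, hUt, hVt, sq⟩ :=
        Groth.Agent.H50.exists_thick_chart i.hom j.hom f.hom f'.hom hi hj hcart a' b' k' ha' hb'
          comm'
      have hxy : AlgSp.Points.map i.hom x =
          AlgSp.Points.map a' (AlgSp.Points.ofScheme U' u') := by
        rw [← AlgSp.Points.ofPt_eq_map_ofScheme, hu']
      obtain ⟨ζ, hζ1, hζ2⟩ := Groth.Agent.H50.exists_point_of_isPullback sqU x _ hxy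
      have hau : AlgSp.Points.ofPt a (AlgSp.Points.toScheme U ζ) = x := by
        rw [AlgSp.Points.ofPt_eq_map_ofScheme, AlgSp.Points.ofScheme_toScheme]; exact hζ1
      have e1 : AlgSp.Points.ofPt ((AlgSp.yon S).map iU) (AlgSp.Points.toScheme U ζ) =
          AlgSp.Points.ofScheme U' u' := by
        rw [AlgSp.Points.ofPt_eq_map_ofScheme, AlgSp.Points.ofScheme_toScheme]; exact hζ2
      have e2 := congrArg (AlgSp.Points.toScheme U') e1
      rw [AlgSp.Points.toScheme_ofScheme, AlgSp.Points.toScheme_ofPt] at e2
      haveI : LocallyOfFiniteType k'.left := hlft' a' b' k' ha' hb' comm'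
      have e3 : FlatMor.fibreDimAt k.left (AlgSp.Points.toScheme U ζ) =
          FlatMor.fibreDimAt k'.left (iU.left (AlgSp.Points.toScheme U ζ)) :=
        (Groth.Agent.S9358.result k'.left iV.left iU.left k.left sq d).1 (AlgSp.Points.toScheme U ζ)
      have e4 : FlatMor.fibreDimAt k'.left (iU.left (AlgSp.Points.toScheme U ζ)) =
          (d : WithBot ℕ∞) := by
        rw [e2]; exact hq
      exact ⟨U, V, a, b, k, AlgSp.Points.toScheme U ζ, hae, hbe, hcomm, hau, e3.trans e4⟩
  case c3 =>
    constructor
    · intro h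
      have hft : AlgSp.LocP @LocallyOfFiniteType f.hom :=
        fun U V a b k ha hb c => (h a b k ha hb c).2
      exact ((S93 hft (uplft hft)).1).1 h
    · intro h'
      have hft' : AlgSp.LocP @LocallyOfFiniteType f'.hom :=
        fun U V a b k ha hb c => (h' a b k ha hb c).2
      exact ((S93 (down _ elft hft') hft').1).2 h'
  case c4 =>
    constructor
    · intro h
      have hft : AlgSp.LocP @LocallyOfFiniteType f.hom :=
        fun U V a b k ha hb c => (h a b k ha hb c).1
      exact ((S93 hft (uplft hft)).2).1 h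
    · intro h'
      have hft' : AlgSp.LocP @LocallyOfFiniteType f'.hom :=
        fun U V a b k ha hb c => (h' a b k ha hb c).1
      exact ((S93 (down _ elft hft') hft').2).2 h'

end Groth.Agent.S10591
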