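import Groth.Statements.S10594
import Groth.Agent.H50.ThickImm
import Groth.Agent.S10593
import Groth.Agent.S10589
import Groth.Agent.S10649

set_option autoImplicit false
universe u
open CategoryTheory CategoryTheory.Limits AlgebraicGeometry
open AlgSp

namespace Groth.Agent.S10594

/-- Consider a morphism (f, f') from the thickening X ⊂ X' to the thickening Y ⊂ Y' of algebraic spaces
over S, meaning: i : X ⟶ X' and j : Y ⟶ Y' are thickenings (representable, every base change to a
scheme a surjective closed immersion) and i ≫ f' = f ≫ j. Assume moreover that the square is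
cartesian (X = Y ×_{Y'} X') and that f and f' are locally of finite type. Then f is finite, resp. a
closed immersion, resp. an immersion, resp. proper, if and only if f' is (immersions of algebraic
spaces being the representable ones). -/
theorem result {S : Scheme.{u}} {X X' Y Y' : AlgSp.Space S} (i : X ⟶ X') (j : Y ⟶ Y')
    (f : X ⟶ Y) (f' : X' ⟶ Y')
    (hi : AlgSp.IsThickMor i.hom)
    (hj : AlgSp.IsThickMor j.hom) (w : i ≫ f' = f ≫ j)
    (hcart : IsPullback i.hom f.hom f'.hom j.hom)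
    (hft : AlgSp.LocP @LocallyOfFiniteType f.hom) (hft' : AlgSp.LocP @LocallyOfFiniteType f'.hom) :
    (AlgSp.IsFiniteMor f.hom ↔ AlgSp.IsFiniteMor f'.hom) ∧
    (AlgSp.RepWith @IsClosedImmersion f.hom ↔ AlgSp.RepWith @IsClosedImmersion f'.hom) ∧
    (AlgSp.RepWith @IsImmersion f.hom ↔ AlgSp.RepWith @IsImmersion f'.hom) ∧
    (AlgSp.IsProperMor f.hom ↔ AlgSp.IsProperMor f'.hom) := by
  obtain ⟨-, hQC, hUC, hUI, -⟩ := Groth.Agent.S10587.result i j f f' hi hj w
  obtain ⟨hSep, -⟩ := Groth.Agent.S10589.result i j f f' hi hj w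
  obtain ⟨hlqf, hunr⟩ := Groth.Agent.S10593.result i j f f' hi hj w hcart hft hft'
  have hprop : AlgSp.IsProperMor f.hom ↔ AlgSp.IsProperMor f'.hom := by
    constructor
    · rintro ⟨h1, ⟨_, h2⟩, h3⟩
      exact ⟨hSep.1 h1, ⟨hft', hQC.1 h2⟩, hUC.1 h3⟩
    · rintro ⟨h1, ⟨_, h2⟩, h3⟩
      exact ⟨hSep.2 h1, ⟨hft, hQC.2 h2⟩, hUC.2 h3⟩
  have := AlgSp.repWith_isStableUnderBaseChange (S := S) @IsImmersion
  refine ⟨?_, Groth.Agent.H50.ci_iff_of_thick i j f f' hi hj w hunr,
    ⟨?_, fun h' => MorphismProperty.of_isPullback (P := AlgSp.RepWith @IsImmersion) hcart h'⟩,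
    hprop⟩
  · have h01 : AlgSp.IsFiniteMor f.hom ↔ (AlgSp.IsProperMor f.hom ∧
        AlgSp.LocP (@LocallyQuasiFinite ⊓ @LocallyOfFiniteType) f.hom) :=
      (Groth.Agent.S10649.result f).out 0 1
    have h01' : AlgSp.IsFiniteMor f'.hom ↔ (AlgSp.IsProperMor f'.hom ∧
        AlgSp.LocP (@LocallyQuasiFinite ⊓ @LocallyOfFiniteType) f'.hom) :=
      (Groth.Agent.S10649.result f').out 0 1
    rw [h01, h01', hprop, hlqf]
  · refine Groth.Agent.H50.imm_of_imm_thick i j f f' hi hj hcart ?_
    intro V V' k c c' v' hk wS sqc hv' hc'h hc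
    have hlc : AlgSp.LocP @LocallyOfFiniteType c.hom :=
      fun U W a b h ha hb comm =>
        (Groth.Agent.H50.WhereCI.locP_unram_of_closedImmersion hc a b h ha hb comm).1
    have hlc' : AlgSp.LocP @LocallyOfFiniteType c'.hom :=
      Groth.Agent.H50.locP_lft_of_comp_openImmersion hv' hc'h hft'
    exact (Groth.Agent.S10593.result i k c c' hi hk wS sqc hlc hlc').2

end Groth.Agent.S10594
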