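import Groth.Statements.S10597
import Groth.Agent.H50.DeformCore
import Groth.Agent.H50.ThickFin
import Groth.Agent.H50.WhereCI
import Groth.Agent.S10596
import Groth.Agent.S10592
import Groth.Agent.H52.FibProd

set_option autoImplicit false
universe u
open CategoryTheory CategoryTheory.Limits AlgebraicGeometry
open AlgSp

namespace Groth.Agent.S10597

/-- Let iB : B ⟶ B' be a finite order thickening of algebraic spaces over S (a thickening such that for
one n the (n+1)-st power of the ideal vanishes on every affine etale scheme chart), f' : X' ⟶ Y' a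
morphism of algebraic spaces over B' (via g' : Y' ⟶ B') with X' flat over B', and f : X ⟶ Y, g : Y ⟶
B its base change to B (both squares to iB cartesian, iX ≫ f' = f ≫ iY). Then f is an isomorphism,
resp. an open immersion, resp. a monomorphism, resp. finite locally free, resp. finite locally free
of degree d, if and only if f' is. -/
theorem result {S : Scheme.{u}} {X X' Y Y' B B' : AlgSp.Space S} (iX : X ⟶ X') (iY : Y ⟶ Y') (iB : B ⟶ B')
    (f : X ⟶ Y) (f' : X' ⟶ Y') (g : Y ⟶ B) (g' : Y' ⟶ B')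
    (hcX : IsPullback iX.hom (f ≫ g).hom (f' ≫ g').hom iB.hom) (hcY : IsPullback iY.hom g.hom g'.hom iB.hom)
    (w : iX ≫ f' = f ≫ iY)
    (hB : AlgSp.IsFinThickMor iB.hom) (hflat : AlgSp.LocP @Flat (f' ≫ g').hom) :
    (IsIso f.hom ↔ IsIso f'.hom) ∧
    (AlgSp.RepWith @IsOpenImmersion f.hom ↔ AlgSp.RepWith @IsOpenImmersion f'.hom) ∧
    (Mono f.hom ↔ Mono f'.hom) ∧
    (AlgSp.IsFinLocFreeMor f.hom ↔ AlgSp.IsFinLocFreeMor f'.hom) ∧
    (∀ d : ℕ, AlgSp.IsFinLocFreeOfDegMor d f.hom ↔ AlgSp.IsFinLocFreeOfDegMor d f'.hom) := by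
  have hw : iX.hom ≫ f'.hom = f.hom ≫ iY.hom := congrArg (fun m => m.hom) w
  have hBt : AlgSp.IsThickMor iB.hom := by
    obtain ⟨n, hn⟩ := hB
    exact hn.1
  have hXt : AlgSp.IsThickMor iX.hom := Groth.Agent.H50.isThickMor_of_isPullback hcX hBt
  have hYt : AlgSp.IsThickMor iY.hom := Groth.Agent.H50.isThickMor_of_isPullback hcY hBt
  have hXfo : AlgSp.IsFinThickMor iX.hom :=
    Groth.Agent.H50.isFinThickMor_of_isPullback B'.property hcX hB
  have hcart : IsPullback iX.hom f.hom f'.hom iY.hom :=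
    Groth.Agent.H50.isPullback_top_of_thick3 iX.hom iY.hom iB.hom f.hom f'.hom g.hom g'.hom hcX hcY
      hw
  obtain ⟨-, hFlat, -, -, hLfp, -, -, hEt⟩ :=
    Groth.Agent.S10596.result iX iY iB f f' g g' hcX hcY w hB hflat 0
  obtain ⟨hCI, -, hFin, -⟩ := Groth.Agent.S10592.result iX iY f f' hXt hYt w hcart hXfo
  obtain ⟨h1, h2, h4, h5⟩ := Groth.Agent.H50.deform_core iX iY f f' hXt hYt w hcart hCI hFlat hEt
    hFin hLfp
  refine ⟨h1, h2, ⟨fun hm => ?_, fun hm' => ?_⟩, h4, h5⟩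
  · -- the diagonal
    have hP : AlgSp.IsAlgSpace (pullback f.hom f.hom) :=
      Groth.Agent.H52.isAlgSpace_of_isPullback (IsPullback.of_hasPullback f.hom f.hom)
        Y.property.diag X.property X.property
    have hP' : AlgSp.IsAlgSpace (pullback f'.hom f'.hom) :=
      Groth.Agent.H52.isAlgSpace_of_isPullback (IsPullback.of_hasPullback f'.hom f'.hom)
        Y'.property.diag X'.property X'.property
    let Ps : AlgSp.Space S := ⟨pullback f.hom f.hom, hP⟩
    let Ps' : AlgSp.Space S := ⟨pullback f'.hom f'.hom, hP'⟩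
    let δ : X ⟶ Ps := ObjectProperty.homMk (pullback.diagonal f.hom)
    let δ' : X' ⟶ Ps' := ObjectProperty.homMk (pullback.diagonal f'.hom)
    let κ : Ps ⟶ Ps' := ObjectProperty.homMk (Groth.Agent.H50.WhereCI.kmap hcart)
    let gP : Ps ⟶ B := ObjectProperty.homMk (pullback.fst f.hom f.hom ≫ f.hom ≫ g.hom)
    let gP' : Ps' ⟶ B' := ObjectProperty.homMk (pullback.fst f'.hom f'.hom ≫ f'.hom ≫ g'.hom)
    have hcYΔ : IsPullback κ.hom gP.hom gP'.hom iB.hom :=
      Groth.Agent.H50.WhereCI.isPullback_kmap_proj hcart hcY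
    have e1 : (δ ≫ gP).hom = (f ≫ g).hom := by
      show pullback.diagonal f.hom ≫ pullback.fst f.hom f.hom ≫ f.hom ≫ g.hom = f.hom ≫ g.hom
      rw [pullback.diagonal_fst_assoc]
    have e2 : (δ' ≫ gP').hom = (f' ≫ g').hom := by
      show pullback.diagonal f'.hom ≫ pullback.fst f'.hom f'.hom ≫ f'.hom ≫ g'.hom =
        f'.hom ≫ g'.hom
      rw [pullback.diagonal_fst_assoc]
    have hcXΔ : IsPullback iX.hom (δ ≫ gP).hom (δ' ≫ gP').hom iB.hom := by
      rw [e1, e2]; exact hcX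
    have wΔ : iX ≫ δ' = δ ≫ κ :=
      ObjectProperty.hom_ext _ (Groth.Agent.H50.WhereCI.diagonal_kmap hcart).symm
    have hflatΔ : AlgSp.LocP @Flat (δ' ≫ gP').hom := by
      rw [e2]; exact hflat
    have hκt : AlgSp.IsThickMor κ.hom := Groth.Agent.H50.isThickMor_of_isPullback hcYΔ hBt
    have hcartΔ : IsPullback iX.hom δ.hom δ'.hom κ.hom :=
      (Groth.Agent.H50.WhereCI.isPullback_diagonal_kmap hcart).flip
    obtain ⟨-, hFlatΔ, -, -, hLfpΔ, -, -, hEtΔ⟩ :=
      Groth.Agent.S10596.result iX κ iB δ δ' gP gP' hcXΔ hcYΔ wΔ hB hflatΔ 0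
    obtain ⟨hCIΔ, -, hFinΔ, -⟩ := Groth.Agent.S10592.result iX κ δ δ' hXt hκt wΔ hcartΔ hXfo
    have hisoΔ := (Groth.Agent.H50.deform_core iX κ δ δ' hXt hκt wΔ hcartΔ hCIΔ hFlatΔ hEtΔ hFinΔ
      hLfpΔ).1
    haveI := hm
    have hiso : IsIso (pullback.diagonal f.hom) :=
      ⟨⟨pullback.fst f.hom f.hom, pullback.diagonal_fst _,
        Groth.Agent.H50.WhereCI.fst_diagonal_of_mono f.hom⟩⟩
    haveI : IsIso (pullback.diagonal f'.hom) := hisoΔ.1 hiso
    exact Groth.Agent.H50.WhereCI.mono_of_isIso_diagonal f'.hom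
  · haveI := hm'
    refine ⟨fun a b hab => hcart.hom_ext ?_ hab⟩
    rw [← cancel_mono f'.hom, Category.assoc, Category.assoc, hw, ← Category.assoc,
      ← Category.assoc, hab]

end Groth.Agent.S10597
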