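import Groth.Statements.S10598
import Groth.Agent.H50.ThickFlat
import Groth.Agent.S1381

set_option autoImplicit false
universe u
open CategoryTheory CategoryTheory.Limits AlgebraicGeometry
open AlgSp

namespace Groth.Agent.S10598

/-- Let iB : B ⟶ B' be a thickening of algebraic spaces over S (representable, every base change to a
scheme a surjective closed immersion), f' : X' ⟶ Y' a morphism of algebraic spaces over B' (via g' :
Y' ⟶ B') with Y' locally of finite type over B' and X' flat and locally of finite presentation over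
B', and f : X ⟶ Y, g : Y ⟶ B its base change to B (both squares to iB cartesian, iX ≫ f' = f ≫ iY).
If f is flat, then f' is flat and g' : Y' ⟶ B' is flat at every point of Y' in the image of f'. -/
theorem result {S : Scheme.{u}} {X X' Y Y' B B' : AlgSp.Space S} (iX : X ⟶ X') (iY : Y ⟶ Y') (iB : B ⟶ B')
    (f : X ⟶ Y) (f' : X' ⟶ Y') (g : Y ⟶ B) (g' : Y' ⟶ B')
    (hcX : IsPullback iX.hom (f ≫ g).hom (f' ≫ g').hom iB.hom) (hcY : IsPullback iY.hom g.hom g'.hom iB.hom)
    (w : iX ≫ f' = f ≫ iY)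
    (hB : AlgSp.IsThickMor iB.hom)
    (hg' : AlgSp.LocP @LocallyOfFiniteType g'.hom)
    (hflat : AlgSp.LocP @Flat (f' ≫ g').hom) (hfp : AlgSp.LocP @LocallyOfFinitePresentation (f' ≫ g').hom)
    (hf : AlgSp.LocP @Flat f.hom) :
    AlgSp.LocP @Flat f'.hom ∧
    ∀ x' : AlgSp.Points X'.obj, AlgSp.IsFlatAtMor g'.hom (AlgSp.Points.map f'.hom x') := by
  have hP := Groth.Agent.H52.etLocal_flat.{u}
  have hw : iX.hom ≫ f'.hom = f.hom ≫ iY.hom := congrArg (fun m => m.hom) w
  have part1 : AlgSp.LocP @Flat f'.hom := by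
    refine Groth.Agent.H50.locP_of_thick3 hP B'.property iX.hom iY.hom iB.hom f.hom f'.hom g.hom
      g'.hom hB hcX hcY hw ?_ hf
    intro U U' V V' C C' iU iV iC k k' l l' a' b' c' c ha' hb' hc' comm1 comm2 sqC hUt hVt hCt
      s1 s2 s3 hk
    have commA : a' ≫ (f' ≫ g').hom = (AlgSp.yon S).map (k' ≫ l') ≫ c' := by
      calc a' ≫ (f' ≫ g').hom = (a' ≫ f'.hom) ≫ g'.hom := (Category.assoc _ _ _).symm
        _ = (AlgSp.yon S).map k' ≫ (b' ≫ g'.hom) := by rw [comm1, Category.assoc]
        _ = (AlgSp.yon S).map k' ≫ (AlgSp.yon S).map l' ≫ c' := by rw [comm2]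
        _ = (AlgSp.yon S).map (k' ≫ l') ≫ c' := by rw [Functor.map_comp, Category.assoc]
    haveI i1 : LocallyOfFinitePresentation (k'.left ≫ l'.left) := hfp a' c' (k' ≫ l') ha' hc' commA
    haveI i2 : Flat (k'.left ≫ l'.left) := hflat a' c' (k' ≫ l') ha' hc' commA
    haveI i3 : LocallyOfFiniteType l'.left := hg' b' c' l' hb' hc' comm2
    exact (Groth.Agent.S1381.result iU.left iV.left iC.left k.left k'.left l.left l'.left hCt s3 s2
      s1.w).1 hk
  exact ⟨part1, fun x' =>
    Groth.Agent.H50.isFlatAtMor_map_of_flat X'.property f'.hom g'.hom part1 hflat x'⟩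

end Groth.Agent.S10598
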