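import Groth.Statements.S10599
import Groth.Agent.H50.ThickFlat
import Groth.Agent.H52.ChartIndep
import Groth.Agent.H52.ChartAt
import Groth.Agent.H51.EtaleIff
import Groth.Agent.S1381
import Groth.Agent.S1384
import Groth.Agent.S1385
import Groth.Agent.S1312
import Groth.Agent.S1314
import Groth.Agent.S9358

set_option autoImplicit false
universe u
open CategoryTheory CategoryTheory.Limits AlgebraicGeometry
open AlgSp

namespace Groth.Agent.S10599

/-- Let iB : B ⟶ B' be a thickening of algebraic spaces over S (representable, every base change to a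
scheme a surjective closed immersion), f' : X' ⟶ Y' a morphism of algebraic spaces over B' (via g' :
Y' ⟶ B') with Y' locally of finite type over B' and X' flat and locally of finite presentation over
B', and f : X ⟶ Y, g : Y ⟶ B its base change to B (both squares to iB cartesian, iX ≫ f' = f ≫ iY).
Then f is locally of finite type of relative dimension d, resp. flat, resp. locally quasi-finite,
smooth, unramified, etale, if and only if f' is (etale-local sense; locally quasi-finite and
unramified include locally of finite type). -/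
theorem result {S : Scheme.{u}} {X X' Y Y' B B' : AlgSp.Space S} (iX : X ⟶ X') (iY : Y ⟶ Y') (iB : B ⟶ B')
    (f : X ⟶ Y) (f' : X' ⟶ Y') (g : Y ⟶ B) (g' : Y' ⟶ B')
    (hcX : IsPullback iX.hom (f ≫ g).hom (f' ≫ g').hom iB.hom) (hcY : IsPullback iY.hom g.hom g'.hom iB.hom)
    (w : iX ≫ f' = f ≫ iY)
    (hB : AlgSp.IsThickMor iB.hom)
    (hg' : AlgSp.LocP @LocallyOfFiniteType g'.hom)
    (hflat : AlgSp.LocP @Flat (f' ≫ g').hom) (hfp : AlgSp.LocP @LocallyOfFinitePresentation (f' ≫ g').hom) (d : ℕ) :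
    ((AlgSp.LocP @LocallyOfFiniteType f.hom ∧
        ∀ x, AlgSp.HasAtMor (fun _ _ h u => FlatMor.fibreDimAt h u = (d : WithBot ℕ∞)) f.hom x) ↔
      (AlgSp.LocP @LocallyOfFiniteType f'.hom ∧
        ∀ x', AlgSp.HasAtMor (fun _ _ h u => FlatMor.fibreDimAt h u = (d : WithBot ℕ∞)) f'.hom x')) ∧
    (AlgSp.LocP @Flat f.hom ↔ AlgSp.LocP @Flat f'.hom) ∧
    (AlgSp.LocP (@LocallyQuasiFinite ⊓ @LocallyOfFiniteType) f.hom ↔
      AlgSp.LocP (@LocallyQuasiFinite ⊓ @LocallyOfFiniteType) f'.hom) ∧
    (AlgSp.LocP @Smooth f.hom ↔ AlgSp.LocP @Smooth f'.hom) ∧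
    (AlgSp.LocP (@LocallyOfFiniteType ⊓ @FormallyUnramified) f.hom ↔
      AlgSp.LocP (@LocallyOfFiniteType ⊓ @FormallyUnramified) f'.hom) ∧
    (AlgSp.IsEtaleMor f.hom ↔ AlgSp.IsEtaleMor f'.hom) := by
  have hw : iX.hom ≫ f'.hom = f.hom ≫ iY.hom := congrArg (fun m => m.hom) w
  have hcXY : IsPullback iX.hom f.hom f'.hom iY.hom :=
    Groth.Agent.H50.isPullback_top_of_thick3 iX.hom iY.hom iB.hom f.hom f'.hom g.hom g'.hom hcX hcY hw
  have hYt : AlgSp.IsThickMor iY.hom := Groth.Agent.H50.isThickMor_of_isPullback hcY hB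
  have hXt : AlgSp.IsThickMor iX.hom := Groth.Agent.H50.isThickMor_of_isPullback hcXY hYt
  have elft := Groth.Agent.H52.etLocal_lft.{u}
  have hlft' : AlgSp.LocP @LocallyOfFiniteType f'.hom :=
    Groth.Agent.H50.locP_cancel (P := @LocallyOfFiniteType) (P' := @LocallyOfFinitePresentation)
      (fun A B C k l h => by
        haveI : LocallyOfFinitePresentation (k ≫ l) := h
        exact locallyOfFiniteType_of_comp k l)
      elft B'.property f'.hom g'.hom hfp
  have down : ∀ (P : MorphismProperty Scheme.{u}), Groth.Agent.H52.EtLocal P →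
      AlgSp.LocP P f'.hom → AlgSp.LocP P f.hom :=
    fun P hP h => Groth.Agent.H52.locP_baseChange hP X'.property Y'.property Y.property hcXY h
  have hlft : AlgSp.LocP @LocallyOfFiniteType f.hom := down _ elft hlft'
  have up : ∀ (P : MorphismProperty Scheme.{u}), Groth.Agent.H52.EtLocal P →
      (∀ {A A' D D' T T' : Scheme.{u}} (jA : A ⟶ A') (jD : D ⟶ D') (jT : T ⟶ T') (p : A ⟶ D)
        (p' : A' ⟶ D') (q : D ⟶ T) (q' : D' ⟶ T'), MoreMor.IsThickening jT →
        IsPullback jA (p ≫ q) (p' ≫ q') jT → IsPullback jD q q' jT → jA ≫ p' = p ≫ jD →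
        Flat (p' ≫ q') → LocallyOfFinitePresentation (p' ≫ q') → LocallyOfFiniteType q' →
        MoreMor.IsThickening jD → IsPullback jA p p' jD → P p → P p') →
      AlgSp.LocP P f.hom → AlgSp.LocP P f'.hom := by
    intro P hP T hfP
    refine Groth.Agent.H50.locP_of_thick3 hP B'.property iX.hom iY.hom iB.hom f.hom f'.hom g.hom
      g'.hom hB hcX hcY hw ?_ hfP
    intro U U' V V' C C' iU iV iC k k' l l' a' b' c' c ha' hb' hc' comm1 comm2 sqC hUt hVt hCt
      s1 s2 s3 hk
    have commA : a' ≫ (f' ≫ g').hom = (AlgSp.yon S).map (k' ≫ l') ≫ c' := by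
      calc a' ≫ (f' ≫ g').hom = (a' ≫ f'.hom) ≫ g'.hom := (Category.assoc _ _ _).symm
        _ = (AlgSp.yon S).map k' ≫ (b' ≫ g'.hom) := by rw [comm1, Category.assoc]
        _ = (AlgSp.yon S).map k' ≫ (AlgSp.yon S).map l' ≫ c' := by rw [comm2]
        _ = (AlgSp.yon S).map (k' ≫ l') ≫ c' := by rw [Functor.map_comp, Category.assoc]
    exact T iU.left iV.left iC.left k.left k'.left l.left l'.left hCt s3 s2 s1.w
      (hflat a' c' (k' ≫ l') ha' hc' commA) (hfp a' c' (k' ≫ l') ha' hc' commA)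
      (hg' b' c' l' hb' hc' comm2) hVt s1 hk
  refine ⟨?c1, ?c2, ?c3, ?c4, ?c5, ?c6⟩
  case c1 =>
    constructor
    · rintro ⟨-, hd⟩
      refine ⟨hlft', fun x' => ?_⟩
      obtain ⟨U', V', a', b', k', u', ha', hb', comm', hu'⟩ :=
        Groth.Agent.H52.exists_chart_diagram_at X'.property Y'.property f'.hom x'
      obtain ⟨U, V, iU, iV, a, b, k, hae, hbe, hcomm, sqU, sqV, hUt, hVt, sq⟩ :=
        Groth.Agent.H50.exists_thick_chart iX.hom iY.hom f.hom f'.hom hXt hYt hcXY a' b' k' ha' hb'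
          comm'
      obtain ⟨u, hu⟩ := hUt.2.surj u'
      have e1 : FlatMor.fibreDimAt k.left u = (d : WithBot ℕ∞) :=
        Groth.Agent.H52.fibreDimAt_eq_of_hasAtMor f.hom (AlgSp.Points.ofPt a u) _ (hd _) a b k hae
          hbe hcomm u rfl
      haveI : LocallyOfFiniteType k'.left := hlft' a' b' k' ha' hb' comm'
      have e2 : FlatMor.fibreDimAt k.left u = FlatMor.fibreDimAt k'.left (iU.left u) :=
        (Groth.Agent.S9358.result k'.left iV.left iU.left k.left sq d).1 u
      refine ⟨U', V', a', b', k', u', ha', hb', comm', hu', ?_⟩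
      show FlatMor.fibreDimAt k'.left u' = (d : WithBot ℕ∞)
      rw [← hu, ← e2]; exact e1
    · rintro ⟨-, hd'⟩
      refine ⟨hlft, fun x => ?_⟩
      obtain ⟨U', V', a', b', k', u', ha', hb', comm', hu', hq⟩ := hd' (AlgSp.Points.map iX.hom x)
      obtain ⟨U, V, iU, iV, a, b, k, hae, hbe, hcomm, sqU, sqV, hUt, hVt, sq⟩ :=
        Groth.Agent.H50.exists_thick_chart iX.hom iY.hom f.hom f'.hom hXt hYt hcXY a' b' k' ha' hb'
          comm'
      have hxy : AlgSp.Points.map iX.hom x =
          AlgSp.Points.map a' (AlgSp.Points.ofScheme U' u') := by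
        rw [← AlgSp.Points.ofPt_eq_map_ofScheme, hu']
      obtain ⟨ζ, hζ1, hζ2⟩ := Groth.Agent.H50.exists_point_of_isPullback sqU x _ hxy
      have hau : AlgSp.Points.ofPt a (AlgSp.Points.toScheme U ζ) = x := by
        rw [AlgSp.Points.ofPt_eq_map_ofScheme, AlgSp.Points.ofScheme_toScheme]; exact hζ1
      have e1 : AlgSp.Points.ofPt ((AlgSp.yon S).map iU) (AlgSp.Points.toScheme U ζ) =
          AlgSp.Points.ofScheme U' u' := by
        rw [AlgSp.Points.ofPt_eq_map_ofScheme, AlgSp.Points.ofScheme_toScheme]; exact hζ2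
      have e2 := congrArg (AlgSp.Points.toScheme U') e1
      rw [AlgSp.Points.toScheme_ofScheme, AlgSp.Points.toScheme_ofPt] at e2
      haveI : LocallyOfFiniteType k'.left := hlft' a' b' k' ha' hb' comm'
      have e3 : FlatMor.fibreDimAt k.left (AlgSp.Points.toScheme U ζ) =
          FlatMor.fibreDimAt k'.left (iU.left (AlgSp.Points.toScheme U ζ)) :=
        (Groth.Agent.S9358.result k'.left iV.left iU.left k.left sq d).1 (AlgSp.Points.toScheme U ζ)
      have e4 : FlatMor.fibreDimAt k'.left (iU.left (AlgSp.Points.toScheme U ζ)) =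
          (d : WithBot ℕ∞) := by
        rw [e2]; exact hq
      exact ⟨U, V, a, b, k, AlgSp.Points.toScheme U ζ, hae, hbe, hcomm, hau, e3.trans e4⟩
  case c2 =>
    refine ⟨up _ Groth.Agent.H52.etLocal_flat
      (fun jA jD jT p p' q q' hT h1 h2 h3 i1 i2 i3 _ _ hp => ?_),
      down _ Groth.Agent.H52.etLocal_flat⟩
    haveI := i1; haveI := i2; haveI := i3
    exact (Groth.Agent.S1381.result jA jD jT p p' q q' hT h1 h2 h3).1 hp
  case c3 =>
    refine ⟨up _ Groth.Agent.H52.etLocal_lqf
      (fun jA jD jT p p' q q' hT h1 h2 h3 i1 i2 i3 hD hc hp => ?_),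
      down _ Groth.Agent.H52.etLocal_lqf⟩
    haveI := i2
    haveI : LocallyOfFiniteType p := hp.2
    haveI : LocallyOfFiniteType p' := locallyOfFiniteType_of_comp p' q'
    exact ⟨(Groth.Agent.S1312.result jA jD p p' hD hc).1 hp.1, inferInstance⟩
  case c4 =>
    refine ⟨up _ Groth.Agent.H52.etLocal_smooth
      (fun jA jD jT p p' q q' hT h1 h2 h3 i1 i2 i3 _ _ hp => ?_),
      down _ Groth.Agent.H52.etLocal_smooth⟩
    haveI := i1; haveI := i2; haveI := i3
    exact (Groth.Agent.S1384.result jA jD jT p p' q q' hT h1 h2 h3).1 hp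
  case c5 =>
    refine ⟨up _ Groth.Agent.H52.etLocal_unramified
      (fun jA jD jT p p' q q' hT h1 h2 h3 i1 i2 i3 hD hc hp => ?_),
      down _ Groth.Agent.H52.etLocal_unramified⟩
    haveI := i2
    haveI : LocallyOfFiniteType p := hp.1
    haveI : LocallyOfFiniteType p' := locallyOfFiniteType_of_comp p' q'
    exact ⟨inferInstance, (Groth.Agent.S1314.result jA jD p p' hD hc).1 hp.2⟩
  case c6 =>
    constructor
    · intro h
      refine Groth.Agent.H51.isEtaleMor_of_locP_etale X'.property Y'.property f'.hom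
        (up _ Groth.Agent.H52.etLocal_etale
          (fun jA jD jT p p' q q' hT h1 h2 h3 i1 i2 i3 _ _ hp => ?_)
          (Groth.Agent.H51.locP_etale_of_isEtaleMor f.hom h))
      haveI := i1; haveI := i2; haveI := i3
      exact (Groth.Agent.S1385.result jA jD jT p p' q q' hT h1 h2 h3).1 hp
    · intro h
      exact Groth.Agent.H51.isEtaleMor_of_locP_etale X.property Y.property f.hom
        (down _ Groth.Agent.H52.etLocal_etale (Groth.Agent.H51.locP_etale_of_isEtaleMor f'.hom h))

end Groth.Agent.S10599
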