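import Groth.Statements.S10600
import Groth.Agent.H50.DeformCore
import Groth.Agent.H50.Where2
import Groth.Agent.S10599
import Groth.Agent.S10594
import Groth.Agent.S9952
import Groth.Agent.H52.LocPBC
import Groth.Agent.H52.EtLocalInst

set_option autoImplicit false
universe u
open CategoryTheory CategoryTheory.Limits AlgebraicGeometry
open AlgSp

namespace Groth.Agent.S10600

/-- Let iB : B ⟶ B' be a thickening of algebraic spaces over S (representable, every base change to a
scheme a surjective closed immersion), f' : X' ⟶ Y' a morphism of algebraic spaces over B' (via g' :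
Y' ⟶ B') with Y' locally of finite type over B' and X' flat and locally of finite presentation over
B', and f : X ⟶ Y, g : Y ⟶ B its base change to B (both squares to iB cartesian, iX ≫ f' = f ≫ iY).
Then f is an isomorphism, resp. an open immersion, resp. a monomorphism, resp. finite locally free,
resp. finite locally free of degree d, if and only if f' is. -/
theorem result {S : Scheme.{u}} {X X' Y Y' B B' : AlgSp.Space S} (iX : X ⟶ X') (iY : Y ⟶ Y') (iB : B ⟶ B')
    (f : X ⟶ Y) (f' : X' ⟶ Y') (g : Y ⟶ B) (g' : Y' ⟶ B')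
    (hcX : IsPullback iX.hom (f ≫ g).hom (f' ≫ g').hom iB.hom) (hcY : IsPullback iY.hom g.hom g'.hom iB.hom)
    (w : iX ≫ f' = f ≫ iY)
    (hB : AlgSp.IsThickMor iB.hom)
    (hg' : AlgSp.LocP @LocallyOfFiniteType g'.hom)
    (hflat : AlgSp.LocP @Flat (f' ≫ g').hom) (hfp : AlgSp.LocP @LocallyOfFinitePresentation (f' ≫ g').hom) :
    (IsIso f.hom ↔ IsIso f'.hom) ∧
    (AlgSp.RepWith @IsOpenImmersion f.hom ↔ AlgSp.RepWith @IsOpenImmersion f'.hom) ∧
    (Mono f.hom ↔ Mono f'.hom) ∧
    (AlgSp.IsFinLocFreeMor f.hom ↔ AlgSp.IsFinLocFreeMor f'.hom) ∧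
    (∀ d : ℕ, AlgSp.IsFinLocFreeOfDegMor d f.hom ↔ AlgSp.IsFinLocFreeOfDegMor d f'.hom) := by
  have hw : iX.hom ≫ f'.hom = f.hom ≫ iY.hom := congrArg (fun m => m.hom) w
  have hXt : AlgSp.IsThickMor iX.hom := Groth.Agent.H50.isThickMor_of_isPullback hcX hB
  have hYt : AlgSp.IsThickMor iY.hom := Groth.Agent.H50.isThickMor_of_isPullback hcY hB
  have hcart : IsPullback iX.hom f.hom f'.hom iY.hom :=
    Groth.Agent.H50.isPullback_top_of_thick3 iX.hom iY.hom iB.hom f.hom f'.hom g.hom g'.hom hcX hcY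
      hw
  have hlftc : AlgSp.LocP @LocallyOfFiniteType (f' ≫ g').hom := by
    intro U V a b h ha hb comm
    haveI : LocallyOfFinitePresentation h.left := hfp a b h ha hb comm
    infer_instance
  have hft' : AlgSp.LocP @LocallyOfFiniteType f'.hom := Groth.Agent.S9952.result f' g' hlftc
  have hft : AlgSp.LocP @LocallyOfFiniteType f.hom :=
    Groth.Agent.H52.locP_baseChange Groth.Agent.H52.etLocal_lft.{u} X'.property Y'.property
      Y.property hcart hft'
  have hlfp' : AlgSp.LocP @LocallyOfFinitePresentation f'.hom :=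
    Groth.Agent.H50.locP_lfp_of_comp f' g' hfp hg'
  have hlfp : AlgSp.LocP @LocallyOfFinitePresentation f.hom :=
    Groth.Agent.H52.locP_baseChange Groth.Agent.H52.etLocal_lfp.{u} X'.property Y'.property
      Y.property hcart hlfp'
  obtain ⟨-, hFlat, -, -, hUnr, hEt⟩ :=
    Groth.Agent.S10599.result iX iY iB f f' g g' hcX hcY w hB hg' hflat hfp 0
  obtain ⟨-, -, -, hUI, -⟩ := Groth.Agent.S10587.result iX iY f f' hXt hYt w
  obtain ⟨hFin, hCI, -, -⟩ := Groth.Agent.S10594.result iX iY f f' hXt hYt w hcart hft hft'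
  obtain ⟨h1, h2, h4, h5⟩ := Groth.Agent.H50.deform_core iX iY f f' hXt hYt w hcart hCI hFlat hEt
    hFin ⟨fun _ => hlfp', fun _ => hlfp⟩
  refine ⟨h1, h2, ⟨fun hm => ?_, fun hm' => ?_⟩, h4, h5⟩
  · have hunr := ((Groth.Agent.S10613.result f).2.1.2 ⟨hft, hm⟩).1
    have hui := ((Groth.Agent.S10613.result f).1.1 ⟨hunr, hm⟩).2
    exact ((Groth.Agent.S10613.result f').1.2 ⟨hUnr.1 hunr, hUI.1 hui⟩).2
  · haveI := hm'
    refine ⟨fun a b hab => hcart.hom_ext ?_ hab⟩
    rw [← cancel_mono f'.hom, Category.assoc, Category.assoc, hw, ← Category.assoc,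
      ← Category.assoc, hab]

end Groth.Agent.S10600
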