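import Groth.Statements.S10603
import Groth.Agent.S1386
import Groth.Agent.H50.FibreFlat
import Groth.Agent.H52.SrcFlat

set_option autoImplicit false
universe u
open CategoryTheory CategoryTheory.Limits AlgebraicGeometry
open AlgSp

namespace Groth.Agent.S10603

/-- Let f : X ⟶ Y and h : Y ⟶ Z be morphisms of algebraic spaces over S. Suppose X is flat and locally
of finite presentation over Z, Y is locally of finite type over Z, and for every field K and every z
: Spec K ⟶ Z the base change X_z ⟶ Y_z of f is flat (fibres taken as pullback squares of fppf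
sheaves). Then f is flat; if moreover f is surjective, then h is flat. -/
theorem result {S : Scheme.{u}} {X Y Z : AlgSp.Space S} (f : X ⟶ Y) (h : Y ⟶ Z)
    (hfp : AlgSp.LocP @LocallyOfFinitePresentation (f ≫ h).hom) (hfl : AlgSp.LocP @Flat (f ≫ h).hom)
    (hft : AlgSp.LocP @LocallyOfFiniteType h.hom)
    (hfib : ∀ (K : Type u) [Field K] (sK : Spec (CommRingCat.of K) ⟶ S)
      (z : (AlgSp.yon S).obj (Over.mk sK) ⟶ Z.obj) (Xz Yz : AlgSp.Sp S)
      (pX : Xz ⟶ X.obj) (qX : Xz ⟶ (AlgSp.yon S).obj (Over.mk sK))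
      (pY : Yz ⟶ Y.obj) (qY : Yz ⟶ (AlgSp.yon S).obj (Over.mk sK)) (fz : Xz ⟶ Yz),
      IsPullback pX qX (f ≫ h).hom z → IsPullback pY qY h.hom z → fz ≫ pY = pX ≫ f.hom → fz ≫ qY = qX →
      AlgSp.LocP @Flat fz) :
    AlgSp.LocP @Flat f.hom ∧ (AlgSp.IsSurjectiveMor f.hom → AlgSp.LocP @Flat h.hom) := by
  have hfib' : Groth.Agent.H50.FibFlat f h := hfib
  have hP := Groth.Agent.H52.etLocal_flat.{u}
  have part1 : AlgSp.LocP @Flat f.hom := by
    intro U V a b k ha hb comm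
    obtain ⟨W, c, hc, hcs⟩ := Z.property.atlas
    obtain ⟨V₁, pV, qV, sqV, hpVe⟩ : ∃ (V₁ : Over S) (pV : V₁ ⟶ V) (qV : V₁ ⟶ W),
        IsPullback ((yon S).map pV) ((yon S).map qV) (b ≫ h.hom) c ∧ Etale pV.left :=
      ⟨_, hc.rep.snd (b ≫ h.hom), hc.rep.fst' (b ≫ h.hom), (hc.rep.isPullback' (b ≫ h.hom)).flip,
        hc.property_snd (b ≫ h.hom)⟩
    obtain ⟨U₁, pU, qU, sqU0, hpUe, hpUs⟩ : ∃ (U₁ : Over S) (pU : U₁ ⟶ U) (qU : U₁ ⟶ W),
        IsPullback ((yon S).map pU) ((yon S).map qU) (a ≫ f.hom ≫ h.hom) c ∧ Etale pU.left ∧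
          Surjective pU.left :=
      ⟨_, hc.rep.snd (a ≫ f.hom ≫ h.hom), hc.rep.fst' (a ≫ f.hom ≫ h.hom),
        (hc.rep.isPullback' (a ≫ f.hom ≫ h.hom)).flip, hc.property_snd _, hcs.property_snd _⟩
    have w1 : (yon S).map (pU ≫ k) ≫ (b ≫ h.hom) = (yon S).map qU ≫ c := by
      calc (yon S).map (pU ≫ k) ≫ (b ≫ h.hom)
          = (yon S).map pU ≫ ((yon S).map k ≫ b) ≫ h.hom := by
            rw [Functor.map_comp, Category.assoc, Category.assoc]
        _ = (yon S).map pU ≫ (a ≫ f.hom ≫ h.hom) := by rw [← comm, Category.assoc]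
        _ = (yon S).map qU ≫ c := sqU0.w
    obtain ⟨k₁, hk₁⟩ := (yon S).map_surjective (sqV.lift _ _ w1)
    have hk₁p : k₁ ≫ pV = pU ≫ k := by
      apply (yon S).map_injective
      rw [Functor.map_comp, hk₁, sqV.lift_fst]
    have hk₁q : k₁ ≫ qV = qU := by
      apply (yon S).map_injective
      rw [Functor.map_comp, hk₁, sqV.lift_snd]
    have sqU : IsPullback ((yon S).map pU) ((yon S).map (k₁ ≫ qV)) (a ≫ f.hom ≫ h.hom) c := by
      rw [hk₁q]; exact sqU0
    haveI := AlgSp.repWith_isMultiplicative (S := S) @Etale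
    have hA : AlgSp.RepWith @Etale ((yon S).map pU ≫ a) :=
      (AlgSp.RepWith @Etale).comp_mem _ _ ((AlgSp.repWith_yon_map_iff _ _).2 hpUe) ha
    have hB : AlgSp.RepWith @Etale ((yon S).map pV ≫ b) :=
      (AlgSp.RepWith @Etale).comp_mem _ _ ((AlgSp.repWith_yon_map_iff _ _).2 hpVe) hb
    have commA : ((yon S).map pU ≫ a) ≫ (f ≫ h).hom = (yon S).map (k₁ ≫ qV) ≫ c := by
      rw [Category.assoc]; exact sqU.w
    have commB : ((yon S).map pV ≫ b) ≫ h.hom = (yon S).map qV ≫ c := by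
      rw [Category.assoc]; exact sqV.w
    haveI i1 : LocallyOfFinitePresentation (k₁.left ≫ qV.left) := hfp _ c (k₁ ≫ qV) hA hc commA
    haveI i2 : Flat (k₁.left ≫ qV.left) := hfl _ c (k₁ ≫ qV) hA hc commA
    haveI i3 : LocallyOfFiniteType qV.left := hft _ c qV hB hc commB
    have crit := (Groth.Agent.S1386.result k₁.left qV.left).1
    have key : ∀ s, Flat (MoreMor.fiberMap k₁.left qV.left s) := fun s =>
      Groth.Agent.H50.flat_fiberMap_of_fibFlat f h hfib' a b c ha hb k comm pU pV qV k₁ sqU sqV hk₁p s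
    have hk₁flat : Flat k₁.left := by
      apply Flat.of_stalkMap
      intro x
      haveI := key (qV.left (k₁.left x))
      exact ((crit x).1 ⟨Flat.stalkMap _ x, Flat.stalkMap _ _⟩).2
    have h1 : Flat (k₁.left ≫ pV.left) := hP.postcomp _ _ hpVe hk₁flat
    have h2 : Flat (pU.left ≫ k.left) := by
      rw [← Over.comp_left, ← hk₁p, Over.comp_left]; exact h1
    exact Groth.Agent.H52.SrcLocal.of_single (P := @Flat) hP.src _ _ hpUe hpUs h2
  refine ⟨part1, fun hsurj => ?_⟩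
  intro V W b c g hb hc comm
  obtain ⟨A, a₀, ha₀, ha₀s⟩ := X.property.atlas
  have H : ∀ v : V.left, ∃ (U : Over S) (k : U ⟶ V), Flat k.left ∧ Flat (k.left ≫ g.left) ∧
      v ∈ Set.range k.left := by
    intro v
    obtain ⟨x, hx⟩ := hsurj (AlgSp.Points.ofPt b v)
    obtain ⟨α, hα⟩ := Groth.Agent.H50.surjective_map_of_repWith_surjective a₀ ha₀s x
    obtain ⟨U, k, pA, sq, hpA⟩ : ∃ (U : Over S) (k : U ⟶ V) (pA : U ⟶ A),
        IsPullback ((yon S).map k) ((yon S).map pA) b (a₀ ≫ f.hom) ∧ Etale pA.left :=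
      ⟨_, hb.rep.fst' (a₀ ≫ f.hom), hb.rep.snd (a₀ ≫ f.hom), hb.rep.isPullback' _,
        hb.property_snd _⟩
    have hxy : AlgSp.Points.map b (AlgSp.Points.ofScheme V v) =
        AlgSp.Points.map (a₀ ≫ f.hom) α := by
      rw [AlgSp.Points.map_comp, hα, hx, ← AlgSp.Points.ofPt_eq_map_ofScheme]
    obtain ⟨ζ, hζ1, hζ2⟩ := Groth.Agent.H50.exists_point_of_isPullback sq _ _ hxy
    haveI := AlgSp.repWith_isMultiplicative (S := S) @Etale
    have hA : AlgSp.RepWith @Etale ((yon S).map pA ≫ a₀) :=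
      (AlgSp.RepWith @Etale).comp_mem _ _ ((AlgSp.repWith_yon_map_iff _ _).2 hpA) ha₀
    have commf : ((yon S).map pA ≫ a₀) ≫ f.hom = (yon S).map k ≫ b := by
      rw [Category.assoc]; exact sq.w.symm
    have commfh : ((yon S).map pA ≫ a₀) ≫ (f ≫ h).hom = (yon S).map (k ≫ g) ≫ c := by
      calc ((yon S).map pA ≫ a₀) ≫ (f ≫ h).hom
          = (((yon S).map pA ≫ a₀) ≫ f.hom) ≫ h.hom := (Category.assoc _ _ _).symm
        _ = (yon S).map k ≫ (b ≫ h.hom) := by rw [commf, Category.assoc]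
        _ = (yon S).map k ≫ (yon S).map g ≫ c := by rw [comm]
        _ = (yon S).map (k ≫ g) ≫ c := by rw [Functor.map_comp, Category.assoc]
    refine ⟨U, k, part1 _ b k hA hb commf, hfl _ c (k ≫ g) hA hc commfh, ?_⟩
    refine ⟨AlgSp.Points.toScheme U ζ, ?_⟩
    have e1 : AlgSp.Points.ofPt ((yon S).map k) (AlgSp.Points.toScheme U ζ) =
        AlgSp.Points.ofScheme V v := by
      rw [AlgSp.Points.ofPt_eq_map_ofScheme, AlgSp.Points.ofScheme_toScheme]; exact hζ1
    have e2 := congrArg (AlgSp.Points.toScheme V) e1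
    rw [AlgSp.Points.toScheme_ofScheme, AlgSp.Points.toScheme_ofPt] at e2
    exact e2
  choose U k hk1 hk2 hk3 using H
  exact Groth.Agent.H52.flat_of_comp_of_flat_family (fun v => (k v).left) g.left hk1
    (fun y => ⟨y, hk3 y⟩) hk2

end Groth.Agent.S10603
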