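import Groth.Statements.S10609
import Groth.Agent.H50.FlatLocusFibre

set_option autoImplicit false
universe u
open CategoryTheory CategoryTheory.Limits AlgebraicGeometry
open AlgSp

namespace Groth.Agent.S10609

/-- Let f : X ⟶ Y and h : Y ⟶ Z be morphisms of algebraic spaces over S with X locally of finite
presentation and flat over Z and Y locally of finite type over Z. Then the set of points of X at
which f is flat is open in the space of points of X, and its formation commutes with base change: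
for Z' ⟶ Z and pullback squares Y' = Y ×_Z Z', X' = X ×_Y Y', the set of points of X' at which X' ⟶
Y' is flat is the inverse image of that set under the map on points of X' ⟶ X. -/
theorem result {S : Scheme.{u}} {X Y Z : AlgSp.Space S} (f : X ⟶ Y) (h : Y ⟶ Z)
    (hfp : AlgSp.LocP @LocallyOfFinitePresentation (f ≫ h).hom) (hfl : AlgSp.LocP @Flat (f ≫ h).hom)
    (hft : AlgSp.LocP @LocallyOfFiniteType h.hom) :
    IsOpen {x : AlgSp.Points X.obj | AlgSp.IsFlatAtMor f.hom x} ∧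
    ∀ (X' Y' Z' : AlgSp.Space S) (g : Z' ⟶ Z) (f' : X' ⟶ Y') (h' : Y' ⟶ Z') (pX : X' ⟶ X) (pY : Y' ⟶ Y),
      IsPullback pY.hom h'.hom h.hom g.hom → IsPullback pX.hom f'.hom f.hom pY.hom →
      {x' : AlgSp.Points X'.obj | AlgSp.IsFlatAtMor f'.hom x'} =
        AlgSp.Points.map pX.hom ⁻¹' {x : AlgSp.Points X.obj | AlgSp.IsFlatAtMor f.hom x} := by
  have hX := X.property
  have hY := Y.property
  have hZ := Z.property
  refine ⟨Groth.Agent.H50.isOpen_flatLocus hX hY hZ f.hom h.hom hfp hfl hft, ?_⟩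
  intro X' Y' Z' g f' h' pX pY sqY sqX
  have hX' := X'.property
  have hY' := Y'.property
  have hZ' := Z'.property
  have bigX : IsPullback pX.hom (f'.hom ≫ h'.hom) (f.hom ≫ h.hom) g.hom := sqX.paste_vert sqY
  have hfp' : AlgSp.LocP @LocallyOfFinitePresentation (f'.hom ≫ h'.hom) :=
    Groth.Agent.H52.locP_baseChange Groth.Agent.H52.etLocal_lfp hX hZ hZ' bigX hfp
  have hfl' : AlgSp.LocP @Flat (f'.hom ≫ h'.hom) :=
    Groth.Agent.H52.locP_baseChange Groth.Agent.H52.etLocal_flat hX hZ hZ' bigX hfl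
  have hft' : AlgSp.LocP @LocallyOfFiniteType h'.hom :=
    Groth.Agent.H52.locP_baseChange Groth.Agent.H52.etLocal_lft hY hZ hZ' sqY hft
  ext x'
  simp only [Set.mem_setOf_eq, Set.mem_preimage]
  -- charts of `Z` and `Z'`
  obtain ⟨W, c, hc, hcs⟩ := hZ.atlas
  obtain ⟨W'', c'', hc'', hcs''⟩ := hZ'.atlas
  obtain ⟨W', eW, φW, sqW, heWe, heWs⟩ : ∃ (W' : Over S) (eW : W' ⟶ W'') (φW : W' ⟶ W),
      IsPullback ((AlgSp.yon S).map eW) ((AlgSp.yon S).map φW) (c'' ≫ g.hom) c ∧ Etale eW.left ∧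
        Surjective eW.left :=
    ⟨_, hc.rep.snd (c'' ≫ g.hom), hc.rep.fst' (c'' ≫ g.hom), (hc.rep.isPullback' (c'' ≫ g.hom)).flip,
      hc.property_snd _, hcs.property_snd _⟩
  haveI := AlgSp.repWith_isMultiplicative (S := S) @Etale
  haveI := AlgSp.repWith_isMultiplicative (S := S) @Surjective
  have hc' : AlgSp.RepWith @Etale ((AlgSp.yon S).map eW ≫ c'') :=
    (AlgSp.RepWith @Etale).comp_mem _ _ ((AlgSp.repWith_yon_map_iff _ _).2 heWe) hc''
  have hcs' : AlgSp.RepWith @Surjective ((AlgSp.yon S).map eW ≫ c'') :=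
    (AlgSp.RepWith @Surjective).comp_mem _ _ ((AlgSp.repWith_yon_map_iff _ _).2 heWs) hcs''
  have hcg : ((AlgSp.yon S).map eW ≫ c'') ≫ g.hom = (AlgSp.yon S).map φW ≫ c := by
    rw [Category.assoc]; exact sqW.w
  -- the field valued point
  obtain ⟨w', hw'⟩ := Groth.Agent.H52.surjective_ofPt_of_surjective ((AlgSp.yon S).map eW ≫ c'') hcs'
    (AlgSp.Points.map (f'.hom ≫ h'.hom) x')
  let sK : Spec (CommRingCat.of (W'.left.residueField w')) ⟶ S :=
    W'.left.fromSpecResidueField w' ≫ W'.hom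
  let t' : Over.mk sK ⟶ W' := Over.homMk (W'.left.fromSpecResidueField w') rfl
  have hpt : AlgSp.Points.map (f'.hom ≫ h'.hom) x' =
      AlgSp.Points.map ((AlgSp.yon S).map t' ≫ (AlgSp.yon S).map eW ≫ c'')
        (AlgSp.Points.ofScheme (Over.mk sK)
          (IsLocalRing.closedPoint (W'.left.residueField w') :
            PrimeSpectrum (W'.left.residueField w'))) := by
    rw [← AlgSp.Points.ofPt_eq_map_ofScheme, Groth.Agent.H52.ofPt_yon_map_comp, ← hw']
    congr 1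
    exact (Scheme.fromSpecResidueField_apply w' _).symm
  obtain ⟨Xz, Yz, pX', qX', pY', qY', sqXz, sqYz⟩ : ∃ (Xz Yz : AlgSp.Sp S) (pX' : Xz ⟶ X'.obj)
      (qX' : Xz ⟶ (AlgSp.yon S).obj (Over.mk sK)) (pY' : Yz ⟶ Y'.obj)
      (qY' : Yz ⟶ (AlgSp.yon S).obj (Over.mk sK)),
      IsPullback pX' qX' (f'.hom ≫ h'.hom) ((AlgSp.yon S).map t' ≫ (AlgSp.yon S).map eW ≫ c'') ∧
      IsPullback pY' qY' h'.hom ((AlgSp.yon S).map t' ≫ (AlgSp.yon S).map eW ≫ c'') :=
    ⟨_, _, _, _, _, _, IsPullback.of_hasPullback _ _, IsPullback.of_hasPullback _ _⟩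
  obtain ⟨ξ, hξ1, -⟩ := Groth.Agent.H50.exists_point_of_isPullback sqXz x' _ hpt
  have wfz : (pX' ≫ f'.hom) ≫ h'.hom =
      qX' ≫ ((AlgSp.yon S).map t' ≫ (AlgSp.yon S).map eW ≫ c'') := by
    rw [Category.assoc]; exact sqXz.w
  obtain ⟨fz, hfz1, hfz2⟩ := sqYz.exists_lift _ _ wfz
  -- the comparison for `(f', h')`
  have P1 := Groth.Agent.H50.isFlatAtMor_fibre_iff hX' hY' hZ' f'.hom h'.hom hfp' hfl' hft'
    ((AlgSp.yon S).map eW ≫ c'') hc' (W'.left.residueField w') sK t' pX' qX' pY' qY' fz sqXz sqYz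
    hfz1 hfz2 ξ
  -- the comparison for `(f, h)`
  have hz : ((AlgSp.yon S).map t' ≫ (AlgSp.yon S).map eW ≫ c'') ≫ g.hom =
      (AlgSp.yon S).map (t' ≫ φW) ≫ c := by
    rw [Category.assoc, hcg, Functor.map_comp, Category.assoc]
  have sqXz2 : IsPullback (pX' ≫ pX.hom) qX' (f.hom ≫ h.hom)
      ((AlgSp.yon S).map (t' ≫ φW) ≫ c) := by
    rw [← hz]; exact sqXz.paste_horiz bigX
  have sqYz2 : IsPullback (pY' ≫ pY.hom) qY' h.hom ((AlgSp.yon S).map (t' ≫ φW) ≫ c) := by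
    rw [← hz]; exact sqYz.paste_horiz sqY
  have hfz1' : fz ≫ (pY' ≫ pY.hom) = (pX' ≫ pX.hom) ≫ f.hom := by
    rw [← Category.assoc, hfz1, Category.assoc, Category.assoc, sqX.w]
  have P2 := Groth.Agent.H50.isFlatAtMor_fibre_iff hX hY hZ f.hom h.hom hfp hfl hft
    c hc (W'.left.residueField w') sK (t' ≫ φW) (pX' ≫ pX.hom) qX' (pY' ≫ pY.hom) qY' fz sqXz2
    sqYz2 hfz1' hfz2 ξ
  rw [AlgSp.Points.map_comp, hξ1] at P2
  rw [hξ1] at P1
  exact P1.trans P2.symm

end Groth.Agent.S10609
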