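import Groth.Statements.S10616
import Groth.Agent.H19.InfTop
import Groth.Agent.H19.SmoothFormal

set_option autoImplicit false
universe u
open CategoryTheory CategoryTheory.Limits AlgebraicGeometry
open AlgSp

namespace Groth.Agent.S10616

section helper

open Groth.Agent.H19.Inf

variable {S : Scheme.{u}}

/-- A representable smooth morphism of sheaves is formally smooth. -/
theorem formallySmooth_of_repWith_smooth {F G : AlgSp.Sp S} (a : F ⟶ G)
    (ha : AlgSp.RepWith @Smooth a) : AlgSp.IsFormallySmoothMor a := by
  intro sq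
  have hr := ha.rep
  have sqW := hr.isPullback sq.bot
  have hE : Smooth (hr.snd sq.bot).left := ha.property _ _ _ sqW
  have hFS : MoreMor.IsFormallySmoothHom (hr.snd sq.bot).left := by
    haveI := hE
    exact Groth.Agent.H19.SmoothFormal.isFormallySmoothHom_of_smooth _
  obtain ⟨s, hs⟩ := (AlgSp.yon S).map_surjective (sqW.lift sq.top ((AlgSp.yon S).map sq.j) sq.comm)
  have hs1 : (AlgSp.yon S).map s ≫ hr.fst sq.bot = sq.top := by rw [hs]; exact sqW.lift_fst _ _ _
  have hs2 : s ≫ hr.snd sq.bot = sq.j := by
    apply (AlgSp.yon S).map_injective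
    rw [Functor.map_comp, hs]
    exact sqW.lift_snd _ _ _
  have hs2' : s.left ≫ (hr.snd sq.bot).left =
      Spec.map (CommRingCat.ofHom (Ideal.Quotient.mk sq.I)) := by
    have := congrArg CommaMorphism.left hs2
    simpa using this
  obtain ⟨m, hm1, hm2⟩ := hFS sq.A sq.I sq.sq_zero s.left (𝟙 _)
    (by rw [Category.comp_id, hs2'])
  have hmS : m ≫ (hr.pullback sq.bot).hom = sq.str := by
    rw [← Over.w (hr.snd sq.bot), ← Category.assoc, hm2]
    exact Category.id_comp _
  let M : sq.ptT' ⟶ hr.pullback sq.bot := Over.homMk m hmS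
  have hM1 : sq.j ≫ M = s := by
    apply Over.OverMorphism.ext
    simpa [M] using hm1
  have hM2 : M ≫ hr.snd sq.bot = 𝟙 _ := by
    apply Over.OverMorphism.ext
    simpa [M] using hm2
  refine ⟨(AlgSp.yon S).map M ≫ hr.fst sq.bot, ?_, ?_⟩
  · rw [← Category.assoc, ← Functor.map_comp, hM1, hs1]
  · rw [Category.assoc, sqW.w, ← Category.assoc, ← Functor.map_comp, hM2,
      CategoryTheory.Functor.map_id, Category.id_comp]

/-- A representable formally unramified morphism of sheaves is formally unramified. -/
theorem formallyUnramified_of_repWith {F G : AlgSp.Sp S} (a : F ⟶ G)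
    (ha : AlgSp.RepWith (@LocallyOfFiniteType ⊓ @FormallyUnramified) a) :
    AlgSp.IsFormallyUnramifiedMor a := by
  intro sq L L' hL1 hL2 hL1' hL2'
  have hr := ha.rep
  have sqW := hr.isPullback sq.bot
  have hE : FormallyUnramified (hr.snd sq.bot).left := (ha.property _ _ _ sqW).2
  obtain ⟨M, hM⟩ := (AlgSp.yon S).map_surjective
    (sqW.lift L (𝟙 _) (by rw [Category.id_comp, hL2]))
  obtain ⟨M', hM'⟩ := (AlgSp.yon S).map_surjective
    (sqW.lift L' (𝟙 _) (by rw [Category.id_comp, hL2']))
  have hM1 : (AlgSp.yon S).map M ≫ hr.fst sq.bot = L := by rw [hM]; exact sqW.lift_fst _ _ _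
  have hM'1 : (AlgSp.yon S).map M' ≫ hr.fst sq.bot = L' := by rw [hM']; exact sqW.lift_fst _ _ _
  have hM2 : M ≫ hr.snd sq.bot = 𝟙 _ := by
    apply (AlgSp.yon S).map_injective
    rw [Functor.map_comp, hM, CategoryTheory.Functor.map_id]
    exact sqW.lift_snd _ _ _
  have hM'2 : M' ≫ hr.snd sq.bot = 𝟙 _ := by
    apply (AlgSp.yon S).map_injective
    rw [Functor.map_comp, hM', CategoryTheory.Functor.map_id]
    exact sqW.lift_snd _ _ _
  have hjM : sq.j ≫ M = sq.j ≫ M' := by
    apply (AlgSp.yon S).map_injective
    apply sqW.hom_ext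
    · rw [Functor.map_comp, Functor.map_comp, Category.assoc, Category.assoc, hM1, hM'1, hL1, hL1']
    · rw [← Functor.map_comp, ← Functor.map_comp, Category.assoc, Category.assoc, hM2, hM'2]
  have hMM : M = M' := by
    apply Over.OverMorphism.ext
    haveI : IsClosedImmersion (Spec.map (CommRingCat.ofHom (Ideal.Quotient.mk sq.I))) :=
      IsClosedImmersion.spec_of_surjective _ Ideal.Quotient.mk_surjective
    refine FormallyUnramified.hom_ext (Spec.map (CommRingCat.ofHom (Ideal.Quotient.mk sq.I)))
      (Groth.Agent.H8.isNilpotent_ker_SpecMap_mk sq.A sq.I sq.sq_zero) (hr.snd sq.bot).left ?_ ?_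
    · have := congrArg CommaMorphism.left hjM
      simpa using this
    · have := congrArg CommaMorphism.left (hM2.trans hM'2.symm)
      simpa using this
  rw [← hM1, ← hM'1, hMM]

end helper

/-- Let a : F ⟶ G be a morphism of fppf sheaves on (Sch/S). If a is representable and smooth, then a is
formally smooth; if a is representable and etale, then a is formally etale; if a is representable
and unramified, then a is formally unramified (lifting conditions against square-zero thickenings of
affine schemes). (The published statement is for transformations of arbitrary presheaves of sets on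
(Sch/S)_fppf; this row takes fppf sheaves, the case of algebraic spaces.) -/
theorem result {S : Scheme.{u}} {F G : AlgSp.Sp S} (a : F ⟶ G) :
    (AlgSp.RepWith @Smooth a → AlgSp.IsFormallySmoothMor a) ∧
    (AlgSp.RepWith @Etale a → AlgSp.IsFormallyEtaleMor a) ∧
    (AlgSp.RepWith (@LocallyOfFiniteType ⊓ @FormallyUnramified) a → AlgSp.IsFormallyUnramifiedMor a) := by
  exact ⟨formallySmooth_of_repWith_smooth a, Groth.Agent.H19.Inf.formallyEtale_of_repWith_etale a,
    formallyUnramified_of_repWith a⟩

end Groth.Agent.S10616
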