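import Groth.Statements.S10624
import Groth.Agent.H19.InfAff

set_option autoImplicit false
universe u
open CategoryTheory CategoryTheory.Limits AlgebraicGeometry
open AlgSp

namespace Groth.Agent.S10624

/-- Let f : X ⟶ Y be a formally unramified morphism of algebraic spaces over S and let j : T ⟶ T' be a
first order thickening of algebraic spaces (not necessarily affine schemes) with a : T ⟶ X, b : T' ⟶
Y and a ≫ f = j ≫ b. Then any two morphisms l, l' : T' ⟶ X with j ≫ l = a = j ≫ l' and l ≫ f = b =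
l' ≫ f are equal. -/
theorem result {S : Scheme.{u}} {X Y : AlgSp.Space S} (f : X ⟶ Y)
    (hf : AlgSp.IsFormallyUnramifiedMor f.hom) {T T' : AlgSp.Space S} (j : T ⟶ T') (hj : AlgSp.IsFOThickMor j.hom)
    (a : T ⟶ X) (b : T' ⟶ Y) (w : a ≫ f = j ≫ b)
    (l l' : T' ⟶ X) (h1 : j ≫ l = a) (h2 : l ≫ f = b) (h3 : j ≫ l' = a) (h4 : l' ≫ f = b) : l = l' := by
  apply ObjectProperty.hom_ext
  have h1' : j.hom ≫ l.hom = a.hom := by rw [← ObjectProperty.FullSubcategory.comp_hom, h1]
  have h2' : l.hom ≫ f.hom = b.hom := by rw [← ObjectProperty.FullSubcategory.comp_hom, h2]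
  have h3' : j.hom ≫ l'.hom = a.hom := by rw [← ObjectProperty.FullSubcategory.comp_hom, h3]
  have h4' : l'.hom ≫ f.hom = b.hom := by rw [← ObjectProperty.FullSubcategory.comp_hom, h4]
  apply Groth.Agent.H19.Inf.hom_ext_of_affine_charts T'.property
  intro V c hV hc
  have hr := hj.1.rep
  have sq := hr.isPullback c
  have hth : AlgSp.thick (hr.snd c).left := hj.1.property c _ _ sq
  have hsz : AlgSp.sqZero (hr.snd c).left := hj.2 c (hr.fst c) (hr.snd c) hV hc sq
  apply Groth.Agent.H19.Inf.lift_unique_affine hf (hr.snd c) hV hth.1 hsz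
  · rw [← Category.assoc, ← Category.assoc, ← sq.w, Category.assoc, Category.assoc, h1', h3']
  · rw [Category.assoc, Category.assoc, h2', h4']

end Groth.Agent.S10624
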