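import Groth.Statements.S10625
import Groth.Agent.H19.InfGlue

set_option autoImplicit false
universe u
open CategoryTheory CategoryTheory.Limits AlgebraicGeometry
open AlgSp

namespace Groth.Agent.S10625

/-- Take a formally etale morphism f : X ⟶ Y of algebraic spaces over S and let j : T ⟶ T' be a first
order thickening of algebraic spaces (not necessarily affine schemes) with a : T ⟶ X, b : T' ⟶ Y and
a ≫ f = j ≫ b. Then there is exactly one l : T' ⟶ X with j ≫ l = a and l ≫ f = b. -/
theorem result {S : Scheme.{u}} {X Y : AlgSp.Space S} (f : X ⟶ Y)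
    (hf : AlgSp.IsFormallyEtaleMor f.hom) {T T' : AlgSp.Space S} (j : T ⟶ T') (hj : AlgSp.IsFOThickMor j.hom)
    (a : T ⟶ X) (b : T' ⟶ Y) (w : a ≫ f = j ≫ b) :
    ∃! l : T' ⟶ X, j ≫ l = a ∧ l ≫ f = b := by
  have hw : j.hom ≫ b.hom = a.hom ≫ f.hom := by
    rw [← ObjectProperty.FullSubcategory.comp_hom, ← ObjectProperty.FullSubcategory.comp_hom, w]
  obtain ⟨l, ⟨h1, h2⟩, hu⟩ := Groth.Agent.H19.Inf.glue T'.property j.hom hj.1.rep f.hom a.hom b.hom
    (fun V W c fst snd hV hc sq => by
      have hth : AlgSp.thick snd.left := hj.1.property c fst snd sq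
      have hsz : AlgSp.sqZero snd.left := hj.2 c fst snd hV hc sq
      exact Groth.Agent.H19.Inf.lift_existsUnique_affine hf snd hV hth.1 hsz (fst ≫ a.hom) (c ≫ b.hom)
        (by rw [Category.assoc, ← hw, ← Category.assoc, sq.w, Category.assoc]))
  refine ⟨ObjectProperty.homMk l, ⟨?_, ?_⟩, ?_⟩
  · apply ObjectProperty.hom_ext
    exact h1
  · apply ObjectProperty.hom_ext
    exact h2
  · rintro l' ⟨h1', h2'⟩
    apply ObjectProperty.hom_ext
    exact hu l'.hom ⟨by rw [← ObjectProperty.FullSubcategory.comp_hom, h1'],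
      by rw [← ObjectProperty.FullSubcategory.comp_hom, h2']⟩

end Groth.Agent.S10625
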