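import Groth.Statements.S10627
import Groth.Agent.H19.InfSp
import Groth.Agent.H51.EtaleIff

set_option autoImplicit false
universe u
open CategoryTheory CategoryTheory.Limits AlgebraicGeometry
open AlgSp

namespace Groth.Agent.S10627

/-- A morphism f : X ⟶ Y of algebraic spaces over S is etale if and only if it is locally of finite
presentation and formally etale (lifting sense). -/
theorem result {S : Scheme.{u}} {X Y : AlgSp.Space S} (f : X ⟶ Y) :
    AlgSp.IsEtaleMor f.hom ↔ AlgSp.LocP @LocallyOfFinitePresentation f.hom ∧ AlgSp.IsFormallyEtaleMor f.hom := by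
  constructor
  · intro hf
    refine ⟨fun U V a b h ha hb hcomm => ?_,
      Groth.Agent.H19.Inf.formallyEtale_of_isEtaleMor X.property f.hom hf⟩
    haveI : Etale h.left := Groth.Agent.H51.locP_etale_of_isEtaleMor f.hom hf a b h ha hb hcomm
    infer_instance
  · rintro ⟨hlfp, hfE⟩
    refine Groth.Agent.H51.isEtaleMor_of_locP_etale X.property Y.property f.hom
      (fun U V a b h ha hb hcomm => ?_)
    exact (Groth.Agent.S1489.result h.left).2 ⟨hlfp a b h ha hb hcomm,
      Groth.Agent.H19.Inf.isFormallyEtaleHom_of_chart f.hom hfE a b h ha hb hcomm⟩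

end Groth.Agent.S10627
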