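import Groth.Statements.S9716
import Groth.Agent.H8.LocFreeSections
import Groth.Agent.H8.QCohPush
import Groth.Agent.H8.StructureCoh
import Mathlib.RingTheory.Finiteness.ModuleFinitePresentation
import Mathlib.AlgebraicGeometry.Morphisms.Flat
import Mathlib.AlgebraicGeometry.Morphisms.Finite
import Mathlib.AlgebraicGeometry.Morphisms.FinitePresentation

set_option autoImplicit false
universe u
open CategoryTheory AlgebraicGeometry
open Mor

namespace Groth.Agent.S9716

section Helpers

set_option linter.style.haveILetI false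

variable {X S : Scheme.{u}} (f : X ⟶ S)

set_option backward.isDefEq.respectTransparency false in
/-- Sections of `f_* O_X` over `V`, as a `Γ(S, V)`-module, are `Γ(X, f⁻¹ V)` with the module
structure coming from `f.app V`. -/
noncomputable def pushEquiv (V : S.Opens) :
    letI := (f.app V).hom.toAlgebra
    Γ((Scheme.Modules.pushforward f).obj (Coh.structureModule X), V) ≃ₗ[Γ(S, V)]
      Γ(X, f ⁻¹ᵁ V) :=
  letI := (f.app V).hom.toAlgebra
  { toFun := fun y => y
    invFun := fun y => y
    map_add' := fun _ _ => rfl
    map_smul' := fun _ _ => rfl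
    left_inv := fun _ => rfl
    right_inv := fun _ => rfl }

lemma res_flat {U W : X.Opens} (hU : IsAffineOpen U) (hW : IsAffineOpen W) (h : W ≤ U) :
    (X.presheaf.map (homOfLE h).op).hom.Flat := by
  have h1 := Scheme.Hom.flat_appLE (𝟙 X) hU hW (show W ≤ (𝟙 X) ⁻¹ᵁ U from h)
  have e : Scheme.Hom.appLE (𝟙 X) U W h = X.presheaf.map (homOfLE h).op := by
    simp only [Scheme.Hom.appLE, Scheme.Hom.id_app]
    exact Category.id_comp _
  rwa [e] at h1

lemma res_finitePresentation {U W : X.Opens} (hU : IsAffineOpen U) (hW : IsAffineOpen W)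
    (h : W ≤ U) : (X.presheaf.map (homOfLE h).op).hom.FinitePresentation := by
  have h1 := Scheme.Hom.finitePresentation_appLE (𝟙 X) hU hW (show W ≤ (𝟙 X) ⁻¹ᵁ U from h)
  have e : Scheme.Hom.appLE (𝟙 X) U W h = X.presheaf.map (homOfLE h).op := by
    simp only [Scheme.Hom.appLE, Scheme.Hom.id_app]
    exact Category.id_comp _
  rwa [e] at h1

lemma flat_of_app [IsAffineHom f]
    (H : ∀ V : S.Opens, IsAffineOpen V → (f.app V).hom.Flat) : Flat f := by
  refine ⟨fun {U} hU {V} hV e => ?_⟩
  have : f.appLE U V e = f.app U ≫ X.presheaf.map (homOfLE e).op := rfl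
  rw [this, CommRingCat.hom_comp]
  exact RingHom.Flat.comp (H U hU) (res_flat (hU.preimage f) hV e)

lemma lfp_of_app [IsAffineHom f]
    (H : ∀ V : S.Opens, IsAffineOpen V → (f.app V).hom.FinitePresentation) :
    LocallyOfFinitePresentation f := by
  refine ⟨fun {U} hU {V} hV e => ?_⟩
  have : f.appLE U V e = f.app U ≫ X.presheaf.map (homOfLE e).op := rfl
  rw [this, CommRingCat.hom_comp]
  exact RingHom.FinitePresentation.comp (res_finitePresentation (hU.preimage f) hV e) (H U hU)

end Helpers

/-- (1) ⇔ (2): a morphism f : X ⟶ S is affine with direct image f_*O_X a finite locally free O_S-module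
(locally on S isomorphic to a finite direct sum of copies of the structure sheaf, of possibly
varying rank) if and only if f is finite, flat and locally of finite presentation. -/
theorem result {X S : Scheme.{u}} (f : X ⟶ S) :
    (IsAffineHom f ∧ FlatMod.IsFinLocFree ((Scheme.Modules.pushforward f).obj (Coh.structureModule X))) ↔
      Mor2.IsFinLocFree f := by
  constructor
  · rintro ⟨hA, hP⟩
    haveI := hA
    haveI := Groth.Agent.H8.isQuasicoherent_structureModule' X
    haveI : ((Scheme.Modules.pushforward f).obj (Coh.structureModule X)).IsQuasicoherent :=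
      Groth.Agent.H8.isQuasicoherent_pushforward f _
    have key : ∀ V : S.Opens, IsAffineOpen V →
        letI := (f.app V).hom.toAlgebra
        Module.FinitePresentation Γ(S, V) Γ(X, f ⁻¹ᵁ V) ∧
          Module.Projective Γ(S, V) Γ(X, f ⁻¹ᵁ V) := by
      intro V hV
      letI := (f.app V).hom.toAlgebra
      obtain ⟨hfp, hproj⟩ :=
        Groth.Agent.H8.finitePresentation_projective_sections_of_isFinLocFree _ hP hV
      haveI := hfp
      haveI := hproj
      exact ⟨Module.FinitePresentation.of_equiv (pushEquiv f V),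
        Module.Projective.of_equiv (pushEquiv f V)⟩
    refine ⟨?_, ?_, ?_⟩
    · refine { toIsAffineHom := hA, finite_app := fun V hV => ?_ }
      letI := (f.app V).hom.toAlgebra
      haveI := (key V hV).1
      exact (inferInstance : Module.Finite Γ(S, V) Γ(X, f ⁻¹ᵁ V))
    · apply flat_of_app
      intro V hV
      letI := (f.app V).hom.toAlgebra
      haveI := (key V hV).2
      exact (inferInstance : Module.Flat Γ(S, V) Γ(X, f ⁻¹ᵁ V))
    · apply lfp_of_app
      intro V hV
      letI := (f.app V).hom.toAlgebra
      haveI := (key V hV).1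
      exact (inferInstance : Algebra.FinitePresentation Γ(S, V) Γ(X, f ⁻¹ᵁ V))
  · rintro ⟨hfin, hflat, hfp⟩
    haveI := hfin
    haveI := hflat
    haveI := hfp
    refine ⟨inferInstance, ?_⟩
    haveI := Groth.Agent.H8.isQuasicoherent_structureModule' X
    haveI : ((Scheme.Modules.pushforward f).obj (Coh.structureModule X)).IsQuasicoherent :=
      Groth.Agent.H8.isQuasicoherent_pushforward f _
    apply Groth.Agent.H8.isFinLocFree_of_projective_sections
    intro x
    obtain ⟨V, hV, hxV, -⟩ := exists_isAffineOpen_mem_and_subset (x := x)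
      (U := (⊤ : S.Opens)) trivial
    refine ⟨V, hV, hxV, ?_⟩
    letI := (f.app V).hom.toAlgebra
    haveI : Module.Finite Γ(S, V) Γ(X, f ⁻¹ᵁ V) := Scheme.Hom.finite_app f V hV
    haveI : Module.Flat Γ(S, V) Γ(X, f ⁻¹ᵁ V) := by
      have := Scheme.Hom.flat_appLE f hV (hV.preimage f) le_rfl
      rwa [← Scheme.Hom.app_eq_appLE] at this
    haveI : Algebra.FinitePresentation Γ(S, V) Γ(X, f ⁻¹ᵁ V) := by
      have := Scheme.Hom.finitePresentation_appLE f hV (hV.preimage f) le_rfl
      rwa [← Scheme.Hom.app_eq_appLE] at this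
    haveI : Module.FinitePresentation Γ(S, V) Γ(X, f ⁻¹ᵁ V) :=
      Module.FinitePresentation.of_finite_of_finitePresentation _ _
    haveI : Module.Projective Γ(S, V) Γ(X, f ⁻¹ᵁ V) :=
      Module.Flat.projective_of_finitePresentation
    exact ⟨Module.Finite.equiv (pushEquiv f V).symm,
      Module.Projective.of_equiv (pushEquiv f V).symm⟩

end Groth.Agent.S9716
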