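import Groth.Statements.S1063
import Groth.Agent.H53.ProjAffine
import Groth.Agent.H53.DualAdj
import Groth.Agent.H21.EpiPush
import Groth.Agent.H8.TensorFLF
import Groth.Agent.S9716
import Groth.Agent.H8.PullbackFinType
import Groth.Agent.H8.LocFreeNearFinite
import Groth.Agent.H58.TensorFaithful
import Groth.Agent.H58.PushFLF

set_option autoImplicit false
universe u
open CategoryTheory AlgebraicGeometry
open Perf

namespace Groth.Agent.S1063

set_option linter.style.haveILetI false

open CategoryTheory.Limits Groth.Agent.H31 Groth.Agent.H31.Stalk Groth.Agent.H53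

/-- For an adjunction `L ⊣ R` with `R` preserving epimorphisms and reflecting zero objects, the
adjunct of an epimorphism `G ⟶ R M` is an epimorphism `L G ⟶ M`. -/
theorem epi_homEquiv_symm {𝒜 : Type*} [Category 𝒜] [Abelian 𝒜] {L R : 𝒜 ⥤ 𝒜} (adj : L ⊣ R)
    [R.PreservesZeroMorphisms] [R.PreservesEpimorphisms]
    (hR : ∀ T : 𝒜, IsZero (R.obj T) → IsZero T) {G M : 𝒜} (p : G ⟶ R.obj M) [Epi p] :
    Epi ((adj.homEquiv G M).symm p) := by
  obtain ⟨pb, hpb⟩ : ∃ pb, pb = (adj.homEquiv G M).symm p := ⟨_, rfl⟩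
  rw [← hpb]
  apply Abelian.epi_of_cokernel_π_eq_zero
  have h1 : pb ≫ cokernel.π pb = 0 := cokernel.condition pb
  have h2 : p ≫ R.map (cokernel.π pb) = 0 := by
    have h := congrArg (adj.homEquiv G _) h1
    rw [Adjunction.homEquiv_naturality_right] at h
    have h' : adj.homEquiv G M pb = p := by rw [hpb, Equiv.apply_symm_apply]
    rw [h'] at h
    rw [h, Adjunction.homEquiv_unit, Functor.map_zero, comp_zero]
  have h3 : R.map (cokernel.π pb) = 0 := by
    rw [← cancel_epi p, h2, comp_zero]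
  have h4 : IsZero (R.obj (cokernel pb)) := by
    rw [IsZero.iff_id_eq_zero]
    haveI : Epi (R.map (cokernel.π pb)) := inferInstance
    rw [← cancel_epi (R.map (cokernel.π pb)), Category.comp_id, h3, zero_comp]
  exact (hR _ h4).eq_of_tgt _ _

/-- The stalks of `f_* O_X` are nonzero when `f` is surjective. -/
theorem nontrivial_stalk_pushO {X Y : Scheme.{u}} (f : X ⟶ Y) [Surjective f] (y : Y) :
    Nontrivial ((ProjAffine.pushO f).presheaf.stalk y) := by
  by_contra hne
  rw [not_nontrivial_iff_subsingleton] at hne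
  obtain ⟨x, rfl⟩ := f.surjective y
  obtain ⟨one, hone⟩ : ∃ one : Γ(ProjAffine.pushO f, ⊤), one = (1 : Γ(X, f ⁻¹ᵁ ⊤)) := ⟨_, rfl⟩
  have h0 : (ProjAffine.pushO f).presheaf.germ ⊤ (f x) trivial one =
      (ProjAffine.pushO f).presheaf.germ ⊤ (f x) trivial 0 := Subsingleton.elim _ _
  obtain ⟨W, hxW, i1, i2, hW⟩ :=
    TopCat.Presheaf.germ_eq (ProjAffine.pushO f).presheaf (U := ⊤) (V := ⊤) (f x)
      (show f x ∈ (⊤ : Y.Opens) from trivial) (show f x ∈ (⊤ : Y.Opens) from trivial) one 0 h0
  have h1 : X.presheaf.map ((TopologicalSpace.Opens.map f.base).map i1).op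
      (1 : Γ(X, f ⁻¹ᵁ ⊤)) = 0 := by
    have h : (ProjAffine.pushO f).presheaf.map i1.op one = 0 := by rw [hW, map_zero]
    rw [hone] at h
    exact h
  rw [map_one] at h1
  have hx : x ∈ f ⁻¹ᵁ W := hxW
  have h2 := congrArg (X.presheaf.germ (f ⁻¹ᵁ W) x hx) h1
  rw [map_one, map_zero] at h2
  exact one_ne_zero h2

open Groth.Agent.H58.TensorFaithful Groth.Agent.H58.PushFLF

/-- The resolution property descends along a surjective, finite locally free morphism f : X ⟶ Y; if
every finite-type quasi-coherent module on X is a quotient of a vector bundle, the same is true on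
Y. -/
theorem result {X Y : Scheme.{u}} (f : X ⟶ Y) (hf : Mor2.IsFinLocFree f) [Surjective f]
    (hX : PerfAux.HasResolutionProperty X) : PerfAux.HasResolutionProperty Y := by
  intro M hMq hMft
  obtain ⟨hfaff, hAflf⟩ := (Groth.Agent.S9716.result f).mpr hf
  haveI := hfaff
  haveI : M.IsQuasicoherent := hMq
  haveI : SheafOfModules.IsFiniteType (R := Y.ringCatSheaf) M := hMft
  have hq : ((Scheme.Modules.pullback f).obj M).IsQuasicoherent :=
    Groth.Agent.H8.isQuasicoherent_pullback f M
  have hft : SheafOfModules.IsFiniteType (R := X.ringCatSheaf)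
      ((Scheme.Modules.pullback f).obj M) := Groth.Agent.H8.isFiniteType_pullback f M
  obtain ⟨E, π, hE, hπ⟩ := hX _ hq hft
  haveI := hπ
  haveI := hq
  haveI : E.IsQuasicoherent := Groth.Agent.H8.isQuasicoherent_of_isFinLocFree E hE
  have hG : FlatMod.IsFinLocFree ((Scheme.Modules.pushforward f).obj E) :=
    isFinLocFree_pushforward f hf hE
  haveI hp : Epi ((Scheme.Modules.pushforward f).map π) :=
    Groth.Agent.H21.EpiPush.epi_pushforward_map f π
  obtain ⟨eM⟩ := ProjAffine.nonempty_iso f M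
  have hA' : SheafHomExact.LocFinFree (shX Y) (ProjAffine.pushO f) :=
    FinLocFreeSlice.locFinFree_of_isFinLocFree _ hAflf
  have hD : FlatMod.IsFinLocFree (DualAdj.dual (O := shX Y) (ProjAffine.pushO f)) :=
    DualAdj.isFinLocFree_of_locFinFree _ (DualAdj.locFinFree_dual _ hA')
  have hF : FlatMod.IsFinLocFree (CohB1.tensorMod ((Scheme.Modules.pushforward f).obj E)
      (DualAdj.dual (O := shX Y) (ProjAffine.pushO f))) :=
    Groth.Agent.H8.isFinLocFree_tensorMod hG hD
  let p' : (Scheme.Modules.pushforward f).obj E ⟶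
      ((ModSite.tensorBi (shX Y)).flip.obj (ProjAffine.pushO f)).obj M :=
    (Scheme.Modules.pushforward f).map π ≫ eM.inv
  have hp' : Epi p' := epi_comp _ _
  have hR : ∀ T : ModSite.Mod (shX Y),
      IsZero (((ModSite.tensorBi (shX Y)).flip.obj (ProjAffine.pushO f)).obj T) → IsZero T :=
    fun T h => isZero_of_isZero_tensorMod T (ProjAffine.pushO f) hAflf
      (nontrivial_stalk_pushO f) h
  have hepi := @epi_homEquiv_symm _ _ _ _ _ (DualAdj.adj (ProjAffine.pushO f) hA') _ _ hR _ _ p' hp'
  exact ⟨_, _, hF, hepi⟩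

end Groth.Agent.S1063
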