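import Groth.Statements.S10630
import Groth.Agent.H19.InfGlue

set_option autoImplicit false
universe u
open CategoryTheory CategoryTheory.Limits AlgebraicGeometry
open AlgSp

namespace Groth.Agent.S10630

/-- (1) ⇔ (3): let h : Z ⟶ X be a morphism of algebraic spaces over S and let i : Z ⟶ Z', h' : Z' ⟶ X be
a first order thickening of Z over X (i ≫ h' = h). Then (i, h') is a universal first order
thickening of Z over X if and only if for every first order thickening j : T ⟶ T' of schemes over S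
with T' affine, every a : T ⟶ Z and b : T' ⟶ X with j ≫ b = a ≫ h, there is exactly one a' : T' ⟶ Z'
with j ≫ a' = a ≫ i and a' ≫ h' = b. -/
theorem result {S : Scheme.{u}} {Z Z' X : AlgSp.Space S} (h : Z ⟶ X) (i : Z ⟶ Z')
    (h' : Z' ⟶ X) (hi : AlgSp.IsFOThickMor i.hom) (w : i ≫ h' = h) :
    AlgSp.IsUnivFOThick h.hom i.hom h'.hom ↔
      ∀ (T T' : Over S) (j : T ⟶ T'), IsAffine T'.left → AlgSp.IsFOThickMor ((AlgSp.yon S).map j) →
        ∀ (a : (AlgSp.yon S).obj T ⟶ Z.obj) (b : (AlgSp.yon S).obj T' ⟶ X.obj),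
          (AlgSp.yon S).map j ≫ b = a ≫ h.hom →
          ∃! a' : (AlgSp.yon S).obj T' ⟶ Z'.obj, (AlgSp.yon S).map j ≫ a' = a ≫ i.hom ∧ a' ≫ h'.hom = b := by
  have hw : i.hom ≫ h'.hom = h.hom := by rw [← ObjectProperty.FullSubcategory.comp_hom, w]
  constructor
  · rintro ⟨-, -, hU⟩ T T' j _ hj a b hjb
    exact hU (AlgSp.IsAlgSpace.yon_obj T) (AlgSp.IsAlgSpace.yon_obj T') ((AlgSp.yon S).map j) a b hj hjb
  · intro Haff
    refine ⟨hi, hw, ?_⟩
    intro T T' hT hT' j a b hj hjb
    refine Groth.Agent.H19.Inf.glue hT' j hj.1.rep h'.hom (a ≫ i.hom) b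
      (fun V W c fst snd hV hc sq => ?_)
    have hFO := Groth.Agent.H19.Inf.isFOThickMor_yon_map_snd hj c fst snd hc sq
    have := Haff W V snd hV hFO (fst ≫ a) (c ≫ b)
      (by rw [Category.assoc, ← hjb, ← Category.assoc, ← Category.assoc, sq.w])
    simpa only [Groth.Agent.H19.Inf.Solves, Category.assoc] using this

end Groth.Agent.S10630
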