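import Groth.Statements.S10631
import Groth.Agent.H19.InfGlue

set_option autoImplicit false
universe u
open CategoryTheory CategoryTheory.Limits AlgebraicGeometry
open AlgSp

namespace Groth.Agent.S10631

/-- Consider morphisms Z ⟶ Y ⟶ X of algebraic spaces over S. If (i : Z ⟶ Z', h' : Z' ⟶ Y) is, over Y, a
universal first order thickening of Z and g : Y ⟶ X is formally etale, then (i, h' ≫ g) is, over X,
a universal first order thickening of Z. -/
theorem result {S : Scheme.{u}} {Z Z' Y X : AlgSp.Space S} (hZ : Z ⟶ Y) (g : Y ⟶ X)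
    (i : Z ⟶ Z') (h' : Z' ⟶ Y) (HU : AlgSp.IsUnivFOThick hZ.hom i.hom h'.hom) (hg : AlgSp.IsFormallyEtaleMor g.hom) :
    AlgSp.IsUnivFOThick (hZ ≫ g).hom i.hom (h' ≫ g).hom := by
  obtain ⟨hi, hw, hU⟩ := HU
  refine ⟨hi, ?_, ?_⟩
  · rw [ObjectProperty.FullSubcategory.comp_hom, ObjectProperty.FullSubcategory.comp_hom,
      ← Category.assoc, hw]
  · intro T T' hT hT' j a b hj hjb
    rw [ObjectProperty.FullSubcategory.comp_hom] at hjb
    -- first lift to `Y`
    obtain ⟨m, ⟨hm1, hm2⟩, hmu⟩ := Groth.Agent.H19.Inf.lift_existsUnique hT' hg hj (a ≫ hZ.hom) b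
      (by rw [Category.assoc, hjb])
    obtain ⟨a', ⟨ha1, ha2⟩, hau⟩ := hU hT hT' j a m hj hm1
    refine ⟨a', ⟨ha1, ?_⟩, ?_⟩
    · rw [ObjectProperty.FullSubcategory.comp_hom, ← Category.assoc, ha2, hm2]
    · rintro a'' ⟨h1, h2⟩
      rw [ObjectProperty.FullSubcategory.comp_hom, ← Category.assoc] at h2
      have hm' : a'' ≫ h'.hom = m := by
        apply hmu
        refine ⟨?_, h2⟩
        rw [← Category.assoc, h1, Category.assoc, hw]
      exact hau a'' ⟨h1, hm'⟩

end Groth.Agent.S10631
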