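import Groth.Statements.S10632
import Groth.Agent.H19.InfSp

set_option autoImplicit false
universe u
open CategoryTheory CategoryTheory.Limits AlgebraicGeometry
open AlgSp

namespace Groth.Agent.S10632

/-- Let e : Z ⟶ Y be an etale morphism of algebraic spaces over S, hY : Y ⟶ X, and let (iY : Y ⟶ Y', hY'
: Y' ⟶ X) be a universal first order thickening of Y over X. Let e' : Z' ⟶ Y' be etale with iZ : Z ⟶
Z' making Z = Y ×_{Y'} Z' a pullback square. Then (iZ, e' ≫ hY') is a universal first order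
thickening of Z over X. -/
theorem result {S : Scheme.{u}} {Z Y Y' Z' X : AlgSp.Space S} (e : Z ⟶ Y)
    (he : AlgSp.IsEtaleMor e.hom) (hY : Y ⟶ X) (iY : Y ⟶ Y') (hY' : Y' ⟶ X)
    (HU : AlgSp.IsUnivFOThick hY.hom iY.hom hY'.hom) (iZ : Z ⟶ Z') (e' : Z' ⟶ Y') (he' : AlgSp.IsEtaleMor e'.hom)
    (sq : IsPullback e.hom iZ.hom iY.hom e'.hom) :
    AlgSp.IsUnivFOThick (e ≫ hY).hom iZ.hom (e' ≫ hY').hom := by
  obtain ⟨hiY, hwY, hU⟩ := HU
  have he'F : AlgSp.IsFormallyEtaleMor e'.hom :=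
    Groth.Agent.H19.Inf.formallyEtale_of_isEtaleMor Z'.property e'.hom he'
  have hiZ : AlgSp.IsFOThickMor iZ.hom :=
    ⟨Groth.Agent.H50.repWith_snd_of_isPullback sq hiY.1,
      fun V W b fst snd hV hb sq₂ => hiY.2 (b ≫ e'.hom) (fst ≫ e.hom) snd hV (he' b hb)
        (sq₂.paste_horiz sq)⟩
  refine ⟨hiZ, ?_, ?_⟩
  · rw [ObjectProperty.FullSubcategory.comp_hom, ObjectProperty.FullSubcategory.comp_hom,
      ← Category.assoc, ← sq.w, Category.assoc, hwY]
  · intro T T' hT hT' j a b hj hjb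
    rw [ObjectProperty.FullSubcategory.comp_hom] at hjb
    obtain ⟨aY, ⟨haY1, haY2⟩, haYu⟩ := hU hT hT' j (a ≫ e.hom) b hj (by rw [hjb, Category.assoc])
    obtain ⟨a', ⟨ha1, ha2⟩, hau⟩ := Groth.Agent.H19.Inf.lift_existsUnique hT' he'F hj (a ≫ iZ.hom) aY
      (by rw [Category.assoc, ← sq.w, ← Category.assoc, haY1])
    refine ⟨a', ⟨ha1, ?_⟩, ?_⟩
    · rw [ObjectProperty.FullSubcategory.comp_hom, ← Category.assoc, ha2, haY2]
    · rintro a'' ⟨h1, h2⟩
      rw [ObjectProperty.FullSubcategory.comp_hom, ← Category.assoc] at h2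
      have : a'' ≫ e'.hom = aY := by
        apply haYu
        refine ⟨?_, h2⟩
        rw [← Category.assoc, h1, Category.assoc, ← sq.w, Category.assoc]
      exact hau a'' ⟨h1, this⟩

end Groth.Agent.S10632
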