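import Groth.Statements.S10633
import Groth.Agent.H19.InfUniv
import Groth.Agent.S9906

set_option autoImplicit false
universe u
open CategoryTheory CategoryTheory.Limits AlgebraicGeometry
open AlgSp

namespace Groth.Agent.S10633

/-- Let e : Z ⟶ Y be a surjective etale morphism of algebraic spaces over S, hY : Y ⟶ X, and let (Z ⊂
Z') ⟶ (Y ⊂ Y') be an etale morphism of first order thickenings over X: iZ : Z ⟶ Z' and iY : Y ⟶ Y'
first order thickenings, f' : Z' ⟶ Y' etale with iZ ≫ f' = e ≫ iY, hY' : Y' ⟶ X with iY ≫ hY' = hY.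
If (iZ, f' ≫ hY') is a universal first order thickening of Z over X, then (iY, hY') is a universal
first order thickening of Y over X. -/
theorem result {S : Scheme.{u}} {Z Y Z' Y' X : AlgSp.Space S} (e : Z ⟶ Y)
    (he : AlgSp.IsEtaleMor e.hom) (hes : AlgSp.IsSurjectiveMor e.hom) (hY : Y ⟶ X)
    (iZ : Z ⟶ Z') (iY : Y ⟶ Y') (hiZ : AlgSp.IsFOThickMor iZ.hom) (hiY : AlgSp.IsFOThickMor iY.hom)
    (f' : Z' ⟶ Y') (hf' : AlgSp.IsEtaleMor f'.hom) (w : iZ ≫ f' = e ≫ iY) (hY' : Y' ⟶ X) (w' : iY ≫ hY' = hY)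
    (HU : AlgSp.IsUnivFOThick (e ≫ hY).hom iZ.hom (f' ≫ hY').hom) :
    AlgSp.IsUnivFOThick hY.hom iY.hom hY'.hom := by
  have HU' := HU
  obtain ⟨hiZ', hwZ, hU⟩ := HU'
  obtain ⟨U, p, hpe, hps⟩ := Z.property.atlas
  have hpe' : RepWith @Etale (p ≫ e.hom) := he p hpe
  have hps' : RepWith @Surjective (p ≫ e.hom) := by
    refine Groth.Agent.H52.repWith_surjective_of_surjective_ofPt _ hpe'.rep ?_
    intro y
    obtain ⟨z, rfl⟩ := hes y
    obtain ⟨t, rfl⟩ := Groth.Agent.H52.surjective_ofPt_of_surjective p hps z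
    exact ⟨t, rfl⟩
  have hiYs : IsSurjectiveMor iY.hom :=
    (Groth.Agent.S9906.result iY hiY.1.rep).1
      (Groth.Agent.H50.repWith_mono (fun _ _ _ h => h.2) hiY.1)
  have hf's : IsSurjectiveMor f'.hom := by
    intro y'
    obtain ⟨y, rfl⟩ := hiYs y'
    obtain ⟨z, rfl⟩ := hes y
    refine ⟨Points.map iZ.hom z, ?_⟩
    rw [← Points.map_comp, ← Points.map_comp]
    have hw := congrArg (fun m => m.hom) w
    exact congrArg (fun m => Points.map m z) hw
  obtain ⟨U', p', hp'e, hp's⟩ := Z'.property.atlas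
  have h1 : RepWith @Etale (p' ≫ f'.hom) := hf' p' hp'e
  have h1s : RepWith @Surjective (p' ≫ f'.hom) := by
    refine Groth.Agent.H52.repWith_surjective_of_surjective_ofPt _ h1.rep ?_
    intro y
    obtain ⟨z, rfl⟩ := hf's y
    obtain ⟨t, rfl⟩ := Groth.Agent.H52.surjective_ofPt_of_surjective p' hp's z
    exact ⟨t, rfl⟩
  have hfhU : IsFormallyUnramifiedMor (f' ≫ hY').hom :=
    Groth.Agent.H19.Inf.formallyUnramified_of_isUnivFOThick Z'.property _ _ _ HU
  have hY'U : IsFormallyUnramifiedMor hY'.hom := by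
    refine Groth.Agent.H19.Inf.formallyUnramified_of_comp_etale_surjective (p' ≫ f'.hom) hY'.hom
      h1 h1s ?_
    rw [Category.assoc]
    have hp'U : IsFormallyUnramifiedMor p' :=
      ((Groth.Agent.H53.isFormallyEtaleMor_iff _).1
        (Groth.Agent.H19.Inf.formallyEtale_of_repWith_etale p' hp'e)).2
    exact Groth.Agent.H53.formallyUnramified_comp p' _ hp'U hfhU
  refine ⟨hiY, congrArg (fun m => m.hom) w', ?_⟩
  intro T T' hT hT' j a b hj hjb
  refine Groth.Agent.H19.Inf.glue hT' j hj.1.rep hY'.hom (a ≫ iY.hom) b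
    (fun V W c fst snd hV hc sq => ?_)
  have hth : thick snd.left := hj.1.property c fst snd sq
  have hsz : sqZero snd.left := hj.2 c fst snd hV hc sq
  have hw' : iY.hom ≫ hY'.hom = hY.hom := congrArg (fun m => m.hom) w'
  have hw0 : (fst ≫ a ≫ iY.hom) ≫ hY'.hom = (yon S).map snd ≫ c ≫ b := by
    calc (fst ≫ a ≫ iY.hom) ≫ hY'.hom
        = fst ≫ a ≫ iY.hom ≫ hY'.hom := by simp only [Category.assoc]
      _ = fst ≫ a ≫ hY.hom := by rw [hw']
      _ = fst ≫ j ≫ b := by rw [hjb]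
      _ = (fst ≫ j) ≫ b := (Category.assoc _ _ _).symm
      _ = ((yon S).map snd ≫ c) ≫ b := by rw [sq.w]
      _ = _ := Category.assoc _ _ _
  obtain ⟨l, hl1, hl2⟩ := Groth.Agent.H19.Inf.lift_exists_affine_of_hasLift hY'.hom snd hV hth.1 hsz
    (fst ≫ a ≫ iY.hom) (c ≫ b) hw0 (fun sq' ⟨eW, htop⟩ =>
      Groth.Agent.H19.Inf.hasLift_of_isUnivFOThick_cover e.hom iZ.hom iY.hom f'.hom
        (congrArg (fun m => m.hom) w) hY'.hom HU hY'U p hpe' hps' sq'
        ((yon S).map eW.hom ≫ fst ≫ a) (by rw [htop]; simp only [Category.assoc]))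
  refine ⟨l, ⟨hl1, hl2⟩, fun l' hl' => ?_⟩
  exact Groth.Agent.H19.Inf.lift_unique_affine hY'U snd hV hth.1 hsz l' l
    (hl'.1.trans hl1.symm) (hl'.2.trans hl2.symm)

end Groth.Agent.S10633
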