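import Groth.Statements.S10635
import Groth.Agent.H50.InfNbhd

set_option autoImplicit false
universe u
open CategoryTheory CategoryTheory.Limits AlgebraicGeometry
open AlgSp

namespace Groth.Agent.S10635

/-- Take an immersion i : Z ⟶ X of algebraic spaces over S, written as a closed immersion c : Z ⟶ U
followed by an open immersion u : U ⟶ X, and let (j : Z ⟶ Z₁, k : Z₁ ⟶ U) be the first order
infinitesimal neighbourhood of Z in U. Then (j, k ≫ u) is a universal first order thickening of Z
over X. -/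
theorem result {S : Scheme.{u}} {Z U X Z₁ : AlgSp.Space S} (c : Z ⟶ U)
    (hc : AlgSp.RepWith @IsClosedImmersion c.hom) (u : U ⟶ X) (hu : AlgSp.RepWith @IsOpenImmersion u.hom)
    (j : Z ⟶ Z₁) (k : Z₁ ⟶ U) (hN : AlgSp.IsInfNbhd 1 c.hom j.hom k.hom) :
    AlgSp.IsUnivFOThick (c ≫ u).hom j.hom (k ≫ u).hom := by
  have hjk : j.hom ≫ k.hom = c.hom := hN.1
  have hkk : AlgSp.RepWith @IsClosedImmersion k.hom := hN.2.2.1
  haveI : Mono k.hom := Groth.Agent.H50.mono_of_repWith
    (fun _ _ g hg => by haveI : IsClosedImmersion g := hg; infer_instance) hkk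
  haveI : Mono u.hom := Groth.Agent.H50.mono_of_repWith
    (fun _ _ g hg => by haveI : IsOpenImmersion g := hg; infer_instance) hu
  refine ⟨Groth.Agent.H50.isFOThickMor_of_isInfNbhd U.property hN, ?_, ?_⟩
  · show j.hom ≫ (k.hom ≫ u.hom) = c.hom ≫ u.hom
    rw [← Category.assoc, hjk]
  · intro T T' hT hT' jT a b hjT hcomm
    have hcomm' : jT ≫ b = a ≫ c.hom ≫ u.hom := hcomm
    -- Step 1: `b` factors through the open immersion `u`
    have hjTs : Function.Surjective (AlgSp.Points.map jT) :=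
      Groth.Agent.H50.surjective_map_of_repWith_surjective jT
        (Groth.Agent.H50.repWith_mono (fun _ _ _ h => h.2) hjT.1)
    obtain ⟨b', hb'⟩ := Groth.Agent.H50.exists_factor_of_range_subset_openImmersion u.hom hu b (by
      rintro _ ⟨x, rfl⟩
      obtain ⟨x₀, rfl⟩ := hjTs x
      refine ⟨AlgSp.Points.map (a ≫ c.hom) x₀, ?_⟩
      rw [← AlgSp.Points.map_comp, ← AlgSp.Points.map_comp, hcomm', Category.assoc])
    have hjb' : jT ≫ b' = a ≫ c.hom := by
      rw [← cancel_mono u.hom, Category.assoc, hb', hcomm', Category.assoc]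
    -- Step 2: `b'` factors through the closed immersion `k`
    obtain ⟨a', ha'⟩ := Groth.Agent.H50.exists_factor_of_forall_yon k.hom b' (by
      intro Y y
      obtain ⟨WY, sY, fY, sqY⟩ := hjT.1.1 y
      have hJ : AlgSp.sqZero sY.left :=
        Groth.Agent.H50.sqZero_of_isFOThickMor hT' jT hjT y fY sY sqY
      obtain ⟨Wc, sc, fc, sqc⟩ := hN.2.1.1 (y ≫ b')
      obtain ⟨Wk, sk, fk, sqk⟩ := hkk.1 (y ≫ b')
      have hrel := Groth.Agent.H50.ker_eq_pow_of_isInfNbhd U.property hN (y ≫ b') fc sc fk sk sqc sqk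
      have hw : (fY ≫ a) ≫ c.hom = (AlgSp.yon S).map sY ≫ y ≫ b' := by
        rw [Category.assoc, ← hjb', ← Category.assoc, sqY.w, Category.assoc]
      obtain ⟨l, hl⟩ := (AlgSp.yon S).map_surjective (sqc.lift (fY ≫ a) ((AlgSp.yon S).map sY) hw)
      have hl2 : l ≫ sc = sY := (AlgSp.yon S).map_injective (by
        rw [Functor.map_comp, hl, sqc.lift_snd])
      have hle : sc.left.ker ≤ sY.left.ker := by
        rw [← hl2, Over.comp_left]
        exact Scheme.Hom.le_ker_comp _ _
      have hker : sk.left.ker = ⊥ := by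
        rw [hrel, pow_two, eq_bot_iff]
        calc sc.left.ker * sc.left.ker ≤ sY.left.ker * sY.left.ker := mul_le_mul' hle hle
          _ = ⊥ := hJ
      haveI : IsClosedImmersion sk.left := hkk.2 _ _ _ sqk
      have hH : sk.left.ker ≤ (𝟙 Y.left : Y.left ⟶ Y.left).ker := by rw [hker]; exact bot_le
      have hσ : IsClosedImmersion.lift sk.left (𝟙 Y.left) hH ≫ sk.left = 𝟙 Y.left :=
        IsClosedImmersion.lift_fac _ _ _
      let σ' : Y ⟶ Wk := Over.homMk (IsClosedImmersion.lift sk.left (𝟙 Y.left) hH) (by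
        rw [← Over.w sk, ← Category.assoc, hσ, Category.id_comp])
      have hσ' : σ' ≫ sk = 𝟙 Y := by
        apply Over.OverMorphism.ext
        exact hσ
      refine ⟨(AlgSp.yon S).map σ' ≫ fk, ?_⟩
      rw [Category.assoc, sqk.w, ← Category.assoc, ← Functor.map_comp, hσ',
        CategoryTheory.Functor.map_id, Category.id_comp])
    refine ⟨a', ⟨?_, ?_⟩, ?_⟩
    · rw [← cancel_mono k.hom, Category.assoc, ha', hjb', Category.assoc, hjk]
    · show a' ≫ k.hom ≫ u.hom = b
      rw [← Category.assoc, ha', hb']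
    · rintro a'' ⟨-, h2⟩
      have h2' : a'' ≫ k.hom ≫ u.hom = b := h2
      rw [← cancel_mono k.hom, ← cancel_mono u.hom, Category.assoc, Category.assoc, h2',
        ← Category.assoc, ha', hb']

end Groth.Agent.S10635
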