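import Groth.Statements.S9938
import Groth.Agent.H50.FieldExt

set_option autoImplicit false
universe u
open CategoryTheory CategoryTheory.Limits AlgebraicGeometry
open AlgSp

namespace Groth.Agent.S9938

theorem aux_cancel {C : Type*} [Category C] {A B B' P Q : C} (α : A ⟶ B) (β : A ⟶ B')
    (s1 : B ⟶ P) (s2 : B' ⟶ P)
    (p : P ⟶ Q) (x1 : B ⟶ Q) (x2 : B' ⟶ Q) (h : α ≫ s1 = β ≫ s2) (h1 : s1 ≫ p = x1) (h2 : s2 ≫ p = x2) :
    α ≫ x1 = β ≫ x2 := by
  rw [← h1, ← h2, ← Category.assoc, ← Category.assoc, h]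

/-- For a morphism of algebraic spaces, injectivity on field-valued points, universal injectivity, and
surjectivity of the diagonal are equivalent. -/
theorem result {S : Scheme.{u}} {X Y : AlgSp.Space S} (f : X ⟶ Y) :
    ((∀ (K : Type u) [Field K] (str : Spec (CommRingCat.of K) ⟶ S),
        Function.Injective (fun a : (AlgSp.yon S).obj (Over.mk str) ⟶ X.obj => a ≫ f.hom)) ↔ AlgSp.IsUnivInjectiveMor f.hom) ∧
    (AlgSp.IsUnivInjectiveMor f.hom ↔ AlgSp.IsSurjectiveMor (pullback.diagonal f.hom)) := by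
  have h12 : (∀ (K : Type u) [Field K] (str : Spec (CommRingCat.of K) ⟶ S),
      Function.Injective (fun a : (AlgSp.yon S).obj (Over.mk str) ⟶ X.obj => a ≫ f.hom)) →
      AlgSp.IsUnivInjectiveMor f.hom := by
    intro H Z Z' hZ g fst snd sq z1 z2 hz
    obtain ⟨Ω, _, w, a, b, hab, rfl, rfl⟩ := Groth.Agent.H50.exists_common_field snd snd z1 z2 hz
    have key : (a ≫ fst) ≫ f.hom = (b ≫ fst) ≫ f.hom := by
      rw [Category.assoc, Category.assoc, sq.w, ← Category.assoc, ← Category.assoc, hab]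
    have e1 : a ≫ fst = b ≫ fst := H Ω w key
    have e2 : a = b := sq.hom_ext e1 hab
    rw [e2]
  have h13 : (∀ (K : Type u) [Field K] (str : Spec (CommRingCat.of K) ⟶ S),
      Function.Injective (fun a : (AlgSp.yon S).obj (Over.mk str) ⟶ X.obj => a ≫ f.hom)) →
      AlgSp.IsSurjectiveMor (pullback.diagonal f.hom) := by
    intro H ζ
    obtain ⟨K, _, str, c, rfl⟩ := Groth.Agent.H50.exists_fieldPtOfHom ζ
    have key : (c ≫ pullback.fst f.hom f.hom) ≫ f.hom = (c ≫ pullback.snd f.hom f.hom) ≫ f.hom := by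
      rw [Category.assoc, Category.assoc, pullback.condition]
    have e : c ≫ pullback.fst f.hom f.hom = c ≫ pullback.snd f.hom f.hom := H K str key
    refine ⟨AlgSp.Points.mk (Groth.Agent.H50.fieldPtOfHom str (c ≫ pullback.fst f.hom f.hom)), ?_⟩
    rw [Groth.Agent.H50.points_map_mk_fieldPtOfHom]
    have e' : (c ≫ pullback.fst f.hom f.hom) ≫ pullback.diagonal f.hom = c := by
      apply pullback.hom_ext
      · simp only [Category.assoc, pullback.diagonal_fst, Category.comp_id]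
      · simp only [Category.assoc, pullback.diagonal_snd, Category.comp_id]
        exact e
    rw [e']
  have h21 : AlgSp.IsUnivInjectiveMor f.hom → (∀ (K : Type u) [Field K]
      (str : Spec (CommRingCat.of K) ⟶ S),
      Function.Injective (fun a : (AlgSp.yon S).obj (Over.mk str) ⟶ X.obj => a ≫ f.hom)) := by
    intro H K _ str a1 a2 h
    have h' : a1 ≫ f.hom = a2 ≫ f.hom := h
    have sqP := IsPullback.of_hasPullback f.hom (a1 ≫ f.hom)
    have hinj : Function.Injective (AlgSp.Points.map (pullback.snd f.hom (a1 ≫ f.hom))) :=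
      H (AlgSp.IsAlgSpace.yon_obj (Over.mk str)) (a1 ≫ f.hom) _ _ sqP
    obtain ⟨s1, hs1f, hs1s⟩ : ∃ s1 : (AlgSp.yon S).obj (Over.mk str) ⟶ pullback f.hom (a1 ≫ f.hom),
        s1 ≫ pullback.fst f.hom (a1 ≫ f.hom) = a1 ∧
          s1 ≫ pullback.snd f.hom (a1 ≫ f.hom) = 𝟙 _ :=
      ⟨pullback.lift a1 (𝟙 _) (by rw [Category.id_comp]), pullback.lift_fst _ _ _,
        pullback.lift_snd _ _ _⟩
    obtain ⟨s2, hs2f, hs2s⟩ : ∃ s2 : (AlgSp.yon S).obj (Over.mk str) ⟶ pullback f.hom (a1 ≫ f.hom),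
        s2 ≫ pullback.fst f.hom (a1 ≫ f.hom) = a2 ∧
          s2 ≫ pullback.snd f.hom (a1 ≫ f.hom) = 𝟙 _ :=
      ⟨pullback.lift a2 (𝟙 _) (by rw [Category.id_comp, h']), pullback.lift_fst _ _ _,
        pullback.lift_snd _ _ _⟩
    have hpt : AlgSp.Points.mk (Groth.Agent.H50.fieldPtOfHom str s1) =
        AlgSp.Points.mk (Groth.Agent.H50.fieldPtOfHom str s2) := by
      apply hinj
      rw [Groth.Agent.H50.points_map_mk_fieldPtOfHom, Groth.Agent.H50.points_map_mk_fieldPtOfHom,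
        hs1s, hs2s]
    obtain ⟨Ω, _, w, α, β, hαβ⟩ := Groth.Agent.H50.mk_eq_mk_iff_toHom.1 hpt
    rw [Groth.Agent.H50.toHom_fieldPtOfHom, Groth.Agent.H50.toHom_fieldPtOfHom] at hαβ
    have e1 := aux_cancel _ _ s1 s2 (pullback.snd f.hom (a1 ≫ f.hom)) (𝟙 _) (𝟙 _) hαβ hs1s hs2s
    have e2 := aux_cancel _ _ s1 s2 (pullback.fst f.hom (a1 ≫ f.hom)) a1 a2 hαβ hs1f hs2f
    rw [Category.comp_id, Category.comp_id] at e1
    rw [e1] at e2
    exact Groth.Agent.H50.hom_ext_of_field_ext X.property.diag str w β a1 a2 e2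
  have h31 : AlgSp.IsSurjectiveMor (pullback.diagonal f.hom) → (∀ (K : Type u) [Field K]
      (str : Spec (CommRingCat.of K) ⟶ S),
      Function.Injective (fun a : (AlgSp.yon S).obj (Over.mk str) ⟶ X.obj => a ≫ f.hom)) := by
    intro H K _ str a1 a2 h
    have h' : a1 ≫ f.hom = a2 ≫ f.hom := h
    obtain ⟨c, hc1, hc2⟩ : ∃ c : (AlgSp.yon S).obj (Over.mk str) ⟶ pullback f.hom f.hom,
        c ≫ pullback.fst f.hom f.hom = a1 ∧ c ≫ pullback.snd f.hom f.hom = a2 :=
      ⟨pullback.lift a1 a2 h', pullback.lift_fst _ _ _, pullback.lift_snd _ _ _⟩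
    obtain ⟨ξ, hξ⟩ := H (AlgSp.Points.mk (Groth.Agent.H50.fieldPtOfHom str c))
    obtain ⟨L, _, strL, t, rfl⟩ := Groth.Agent.H50.exists_fieldPtOfHom ξ
    rw [Groth.Agent.H50.points_map_mk_fieldPtOfHom] at hξ
    obtain ⟨Ω, _, w, α, β, hαβ⟩ := Groth.Agent.H50.mk_eq_mk_iff_toHom.1 hξ
    rw [Groth.Agent.H50.toHom_fieldPtOfHom, Groth.Agent.H50.toHom_fieldPtOfHom] at hαβ
    have e1 := aux_cancel _ _ (t ≫ pullback.diagonal f.hom) c (pullback.fst f.hom f.hom) t a1 hαβ
      (by rw [Category.assoc, pullback.diagonal_fst, Category.comp_id]) hc1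
    have e2 := aux_cancel _ _ (t ≫ pullback.diagonal f.hom) c (pullback.snd f.hom f.hom) t a2 hαβ
      (by rw [Category.assoc, pullback.diagonal_snd, Category.comp_id]) hc2
    exact Groth.Agent.H50.hom_ext_of_field_ext X.property.diag str w β a1 a2 (e1.symm.trans e2)
  exact ⟨⟨h12, h21⟩, ⟨fun h => h13 (h21 h), fun h => h12 (h31 h)⟩⟩

end Groth.Agent.S9938
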