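import Groth.Statements.S10640
import Groth.Agent.H50.Where3
import Groth.Agent.S10639
import Groth.Agent.S10262
import Groth.Agent.S9938

set_option autoImplicit false
universe u
open CategoryTheory CategoryTheory.Limits AlgebraicGeometry
open AlgSp

namespace Groth.Agent.S10640


/-- The unramified locus of `f` (some-chart neighbourhood form). -/
abbrev UnrAt {S : Scheme.{u}} {X Y : AlgSp.Space S} (f : X ⟶ Y) : Set (AlgSp.Points X.obj) :=
  {x | AlgSp.HasAtMor (fun U _ h u => ∃ W : U.Opens, u ∈ W ∧ LocallyOfFiniteType (W.ι ≫ h) ∧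
    FormallyUnramified (W.ι ≫ h)) f.hom x}

theorem unram_iff {S : Scheme.{u}} {X Y Z : AlgSp.Space S} (f : X ⟶ Y) (q : Y ⟶ Z)
    (hp1 : AlgSp.LocP @LocallyOfFiniteType (f ≫ q).hom)
    {Z' Y' X' : AlgSp.Space S} (g : Z' ⟶ Z) (gY : Y' ⟶ Y) (q' : Y' ⟶ Z')
    (sq1 : IsPullback gY.hom q'.hom q.hom g.hom) (gX : X' ⟶ X) (f' : X' ⟶ Y')
    (sq2 : IsPullback gX.hom f'.hom f.hom gY.hom) :
    AlgSp.LocP (@LocallyOfFiniteType ⊓ @FormallyUnramified) f'.hom ↔
      ∀ x', AlgSp.Points.map gX.hom x' ∈ UnrAt f := by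
  rw [Groth.Agent.S10639.locP_unram_iff]
  have e := (Groth.Agent.S10312.result f (f ≫ q) q rfl hp1 g gY q' sq1 gX f' sq2).2
  exact ⟨fun h x' => (Set.ext_iff.1 e x').1 (h x'), fun h x' => (Set.ext_iff.1 e x').2 (h x')⟩

/-- For morphisms f : X ⟶ Y, p : X ⟶ Z and q : Y ⟶ Z of algebraic spaces over S with f ≫ q = p, write XX
= X ×_Y X with projections pr0, pr1, and assume that p is closed and locally of finite type and that
the composite XX ⟶ X ⟶ Z (through pr1 and p) is closed as well. Then there is an open subspace W of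
Z with the following property: a morphism of algebraic spaces g : Z' ⟶ Z factors through W exactly
when the base change X' ⟶ Y' of f along g is unramified and universally injective. Here the base
change of f along g is any f' : X' ⟶ Y' obtained from pullback squares Y' = Y ×_Z Z' and X' = X ×_Y
Y' of algebraic spaces over S, and W ⊂ Z is given as a representable open immersion w : W ⟶ Z. -/
theorem result {S : Scheme.{u}} {X Y Z : AlgSp.Space S}
    (f : X ⟶ Y) (p : X ⟶ Z) (q : Y ⟶ Z) (hc : f ≫ q = p)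
    (XX : AlgSp.Space S) (pr0 pr1 : XX ⟶ X) (hXX : IsPullback pr0.hom pr1.hom f.hom f.hom)
    (hp1 : AlgSp.LocP @LocallyOfFiniteType p.hom) (hp2 : AlgSp.IsClosedMor p.hom)
    (hp3 : AlgSp.IsClosedMor (pr1 ≫ p).hom) :
    ∃ (W : AlgSp.Space S) (w : W ⟶ Z), AlgSp.RepWith @IsOpenImmersion w.hom ∧
      ∀ (Z' : AlgSp.Space S) (g : Z' ⟶ Z),
        (∃ k : Z' ⟶ W, k ≫ w = g) ↔
          ∀ (Y' : AlgSp.Space S) (gY : Y' ⟶ Y) (q' : Y' ⟶ Z'),
            IsPullback gY.hom q'.hom q.hom g.hom →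
            ∀ (X' : AlgSp.Space S) (gX : X' ⟶ X) (f' : X' ⟶ Y'),
              IsPullback gX.hom f'.hom f.hom gY.hom →
                (AlgSp.LocP (@LocallyOfFiniteType ⊓ @FormallyUnramified) f'.hom ∧ AlgSp.IsUnivInjectiveMor f'.hom) := by
  have hpe : p = f ≫ q := hc.symm
  subst hpe
  have hT : IsOpen (UnrAt f) := Groth.Agent.H52.isOpen_setOf_hasAtMor_nbhd
    (fun U V h W => LocallyOfFiniteType (W.ι ≫ h) ∧ FormallyUnramified (W.ι ≫ h)) f.hom
  have hW1 : IsOpen (AlgSp.Points.map (f ≫ q).hom '' (UnrAt f)ᶜ)ᶜ :=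
    (hp2 _ hT.isClosed_compl).isOpen_compl
  have hΔ0 : hXX.lift (𝟙 _) (𝟙 _) rfl ≫ pr0.hom = 𝟙 X.obj := hXX.lift_fst _ _ _
  have hΔ1 : hXX.lift (𝟙 _) (𝟙 _) rfl ≫ pr1.hom = 𝟙 X.obj := hXX.lift_snd _ _ _
  have hpr0 : ∀ x : AlgSp.Points X.obj,
      AlgSp.Points.map pr0.hom (AlgSp.Points.map (hXX.lift (𝟙 _) (𝟙 _) rfl) x) = x := by
    intro x
    rw [← AlgSp.Points.map_comp, hΔ0, AlgSp.Points.map_id]
  have hpr1 : ∀ x : AlgSp.Points X.obj,
      AlgSp.Points.map pr1.hom (AlgSp.Points.map (hXX.lift (𝟙 _) (𝟙 _) rfl) x) = x := by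
    intro x
    rw [← AlgSp.Points.map_comp, hΔ1, AlgSp.Points.map_id]
  have hpq : ∀ x, AlgSp.Points.map (f ≫ q).hom x =
      AlgSp.Points.map q.hom (AlgSp.Points.map f.hom x) := fun x => AlgSp.Points.map_comp _ _ x
  have hpr1p : ∀ ξ, AlgSp.Points.map (pr1 ≫ f ≫ q).hom ξ =
      AlgSp.Points.map (f ≫ q).hom (AlgSp.Points.map pr1.hom ξ) :=
    fun ξ => AlgSp.Points.map_comp _ _ ξ
  have hpr0p : ∀ ξ, AlgSp.Points.map (pr1 ≫ f ≫ q).hom ξ =
      AlgSp.Points.map (f ≫ q).hom (AlgSp.Points.map pr0.hom ξ) := by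
    intro ξ
    have e : (pr1 ≫ f ≫ q).hom = pr0.hom ≫ (f ≫ q).hom := by
      show pr1.hom ≫ f.hom ≫ q.hom = pr0.hom ≫ f.hom ≫ q.hom
      rw [← Category.assoc, ← hXX.w, Category.assoc]
    rw [e, AlgSp.Points.map_comp]
  -- the image of the diagonal over `W1` is open
  have hD : IsOpen (AlgSp.Points.map (hXX.lift (𝟙 _) (𝟙 _) rfl) ''
      (AlgSp.Points.map (f ≫ q).hom ⁻¹' (AlgSp.Points.map (f ≫ q).hom '' (UnrAt f)ᶜ)ᶜ)) := by
    obtain ⟨W1sp, w1, hw1, hr1, huniv1⟩ := Groth.Agent.H50.exists_openSub_space' Z _ hW1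
    obtain ⟨Y1, gY1, q1, X1, gX1, f1, sq1, sq2⟩ := Groth.Agent.H50.exists_baseChange_data f q w1
    have hun1 : AlgSp.LocP (@LocallyOfFiniteType ⊓ @FormallyUnramified) f1.hom :=
      (unram_iff f q hp1 w1 gY1 q1 sq1 gX1 f1 sq2).2
        ((Groth.Agent.H50.range_subset_compl_image_iff sq1 sq2 (UnrAt f)).1 hr1.subset)
    have hΔ' := (Groth.Agent.S10262.result f1).1 hun1
    obtain ⟨e, he0, he1, sqE, sqΔ⟩ := Groth.Agent.H50.exists_fibreSquare_map sq2 hXX
    have hgY1 : AlgSp.RepWith @IsOpenImmersion gY1.hom :=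
      Groth.Agent.H50.repWith_fst_of_isPullback sq1 hw1
    have hgX1 : AlgSp.RepWith @IsOpenImmersion gX1.hom :=
      Groth.Agent.H50.repWith_fst_of_isPullback sq2 hgY1
    have he : AlgSp.RepWith @IsOpenImmersion e :=
      Groth.Agent.H50.repWith_fst_of_isPullback sqE hgX1
    have := AlgSp.repWith_isMultiplicative (S := S) @IsOpenImmersion
    have hcomp : AlgSp.RepWith @IsOpenImmersion (pullback.diagonal f1.hom ≫ e) :=
      (AlgSp.RepWith @IsOpenImmersion).comp_mem _ _ hΔ' he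
    rw [sqΔ.w] at hcomp
    let jj : X1 ⟶ XX := ObjectProperty.homMk (gX1.hom ≫ hXX.lift (𝟙 _) (𝟙 _) rfl)
    have hopen : IsOpenMap (AlgSp.Points.map jj.hom) :=
      Groth.Agent.H50.isOpenMap_map_of_repWith_isOpenImmersion jj hcomp
    have hrange : AlgSp.Points.map (hXX.lift (𝟙 _) (𝟙 _) rfl) ''
        (AlgSp.Points.map (f ≫ q).hom ⁻¹' (AlgSp.Points.map (f ≫ q).hom '' (UnrAt f)ᶜ)ᶜ) =
        Set.range (AlgSp.Points.map jj.hom) := by
      have h1 : AlgSp.Points.map jj.hom =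
          AlgSp.Points.map (hXX.lift (𝟙 _) (𝟙 _) rfl) ∘ AlgSp.Points.map gX1.hom :=
        funext fun x => AlgSp.Points.map_comp _ _ x
      rw [h1, Set.range_comp]
      congr 1
      ext x
      constructor
      · intro hx
        have hx' : AlgSp.Points.map (f ≫ q).hom x ∈ Set.range (AlgSp.Points.map w1.hom) := by
          rw [hr1]; exact hx
        obtain ⟨z1, hz1⟩ := hx'
        obtain ⟨x1, hx1, -⟩ := Groth.Agent.H50.exists_point_baseChange sq1 sq2 x z1
          (by rw [← hpq]; exact hz1.symm)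
        exact ⟨x1, hx1⟩
      · rintro ⟨x1, rfl⟩
        have h2 : AlgSp.Points.map (f ≫ q).hom (AlgSp.Points.map gX1.hom x1) =
            AlgSp.Points.map w1.hom (AlgSp.Points.map q1.hom (AlgSp.Points.map f1.hom x1)) := by
          have e' : gX1.hom ≫ (f ≫ q).hom = f1.hom ≫ q1.hom ≫ w1.hom := by
            show gX1.hom ≫ f.hom ≫ q.hom = _
            rw [← Category.assoc, sq2.w, Category.assoc, sq1.w]
          rw [← AlgSp.Points.map_comp, e', AlgSp.Points.map_comp, AlgSp.Points.map_comp]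
        rw [Set.mem_preimage, h2, ← hr1]
        exact ⟨_, rfl⟩
    rw [hrange]
    exact hopen.isOpen_range
  have hWopen := (hp3 _ hD.isClosed_compl).isOpen_compl
  obtain ⟨Wsp, w, hw, huniv⟩ := Groth.Agent.H50.exists_openSub_space Z _ hWopen
  refine ⟨Wsp, w, hw, fun Z' g => ?_⟩
  rw [huniv Z' g]
  have key : ∀ (Y' : AlgSp.Space S) (gY : Y' ⟶ Y) (q' : Y' ⟶ Z'),
      IsPullback gY.hom q'.hom q.hom g.hom →
      ∀ (X' : AlgSp.Space S) (gX : X' ⟶ X) (f' : X' ⟶ Y'),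
        IsPullback gX.hom f'.hom f.hom gY.hom →
        (Set.range (AlgSp.Points.map g.hom) ⊆ (AlgSp.Points.map (pr1 ≫ f ≫ q).hom ''
          (AlgSp.Points.map (hXX.lift (𝟙 _) (𝟙 _) rfl) ''
          (AlgSp.Points.map (f ≫ q).hom ⁻¹'
            (AlgSp.Points.map (f ≫ q).hom '' (UnrAt f)ᶜ)ᶜ))ᶜ)ᶜ ↔
          (AlgSp.LocP (@LocallyOfFiniteType ⊓ @FormallyUnramified) f'.hom ∧
            AlgSp.IsUnivInjectiveMor f'.hom)) := by
    intro Y' gY q' sq1 X' gX f' sq2
    have hunr := unram_iff f q hp1 g gY q' sq1 gX f' sq2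
    have hA := Groth.Agent.H50.range_subset_compl_image_iff sq1 sq2 (UnrAt f)
    obtain ⟨e, he0, he1, sqE, sqΔ⟩ := Groth.Agent.H50.exists_fibreSquare_map sq2 hXX
    have hgcomm : ∀ x', AlgSp.Points.map (f ≫ q).hom (AlgSp.Points.map gX.hom x') =
        AlgSp.Points.map g.hom (AlgSp.Points.map q'.hom (AlgSp.Points.map f'.hom x')) := by
      intro x'
      have e' : gX.hom ≫ (f ≫ q).hom = f'.hom ≫ q'.hom ≫ g.hom := by
        show gX.hom ≫ f.hom ≫ q.hom = _
        rw [← Category.assoc, sq2.w, Category.assoc, sq1.w]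
      rw [← AlgSp.Points.map_comp, e', AlgSp.Points.map_comp, AlgSp.Points.map_comp]
    constructor
    · intro hg
      have hgW1 : Set.range (AlgSp.Points.map g.hom) ⊆
          (AlgSp.Points.map (f ≫ q).hom '' (UnrAt f)ᶜ)ᶜ := by
        rintro z hz ⟨x, hxT, rfl⟩
        refine hg hz ⟨AlgSp.Points.map (hXX.lift (𝟙 _) (𝟙 _) rfl) x, ?_, ?_⟩
        · rintro ⟨x2, hx2, hx2e⟩
          have : x2 = x := by
            have := congrArg (AlgSp.Points.map pr0.hom) hx2e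
            rwa [hpr0, hpr0] at this
          subst this
          exact hx2 ⟨x2, hxT, rfl⟩
        · rw [hpr1p, hpr1]
      refine ⟨hunr.2 (hA.1 hgW1), ?_⟩
      rw [(Groth.Agent.S9938.result f').2]
      intro ξ'
      have hξ : AlgSp.Points.map e ξ' ∈ AlgSp.Points.map (hXX.lift (𝟙 _) (𝟙 _) rfl) ''
          (AlgSp.Points.map (f ≫ q).hom ⁻¹'
            (AlgSp.Points.map (f ≫ q).hom '' (UnrAt f)ᶜ)ᶜ) := by
        by_contra hcon
        have hmem : AlgSp.Points.map (pr1 ≫ f ≫ q).hom (AlgSp.Points.map e ξ') ∈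
            Set.range (AlgSp.Points.map g.hom) := by
          refine ⟨AlgSp.Points.map q'.hom (AlgSp.Points.map f'.hom
            (AlgSp.Points.map (pullback.snd f'.hom f'.hom) ξ')), ?_⟩
          rw [← hgcomm, hpr1p, ← AlgSp.Points.map_comp e, he1, AlgSp.Points.map_comp]
        exact hg hmem ⟨_, hcon, rfl⟩
      obtain ⟨x, -, hx⟩ := hξ
      obtain ⟨x', hx', -⟩ := Groth.Agent.H50.exists_point_of_isPullback sqΔ ξ' x hx.symm
      exact ⟨x', hx'⟩
    · rintro ⟨hun, hui⟩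
      have hgW1 := hA.2 (hunr.1 hun)
      have hsurj : Function.Surjective (AlgSp.Points.map (pullback.diagonal f'.hom)) :=
        (Groth.Agent.S9938.result f').2.1 hui
      rintro z ⟨z', rfl⟩ ⟨ξ, hξD, hξz⟩
      apply hξD
      have hx1 : AlgSp.Points.map q.hom (AlgSp.Points.map f.hom (AlgSp.Points.map pr0.hom ξ)) =
          AlgSp.Points.map g.hom z' := by
        rw [← hpq, ← hpr0p]; exact hξz
      obtain ⟨x1', hx1', -⟩ := Groth.Agent.H50.exists_point_baseChange sq1 sq2 _ z' hx1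
      obtain ⟨ξ', hξ'1, hξ'2⟩ := Groth.Agent.H50.exists_point_of_isPullback sqE ξ x1' hx1'.symm
      obtain ⟨x', hx'⟩ := hsurj ξ'
      have hξeq : ξ = AlgSp.Points.map (hXX.lift (𝟙 _) (𝟙 _) rfl) (AlgSp.Points.map gX.hom x') := by
        rw [← hξ'1, ← hx', ← AlgSp.Points.map_comp, sqΔ.w, AlgSp.Points.map_comp]
      refine ⟨AlgSp.Points.map gX.hom x', ?_, hξeq.symm⟩
      have hxx : AlgSp.Points.map gX.hom x' = AlgSp.Points.map pr0.hom ξ := by
        rw [hξeq, hpr0]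
      rw [Set.mem_preimage, hxx, hpq, hx1]
      exact hgW1 ⟨z', rfl⟩
  constructor
  · intro hg Y' gY q' sq1 X' gX f' sq2
    exact (key Y' gY q' sq1 X' gX f' sq2).1 hg
  · intro Hall
    obtain ⟨Y', gY, q', X', gX, f', sq1, sq2⟩ := Groth.Agent.H50.exists_baseChange_data f q g
    exact (key Y' gY q' sq1 X' gX f' sq2).2 (Hall Y' gY q' sq1 X' gX f' sq2)

end Groth.Agent.S10640
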