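import Groth.Statements.S10641
import Groth.Agent.H50.WhereCI

set_option autoImplicit false
universe u
open CategoryTheory CategoryTheory.Limits AlgebraicGeometry
open AlgSp

namespace Groth.Agent.S10641

/-- For morphisms f : X ⟶ Y, p : X ⟶ Z and q : Y ⟶ Z of algebraic spaces over S with f ≫ q = p, where p
is universally closed and locally of finite type and q is separated, there is an open subspace W of
Z with the following property: a morphism of algebraic spaces g : Z' ⟶ Z factors through W exactly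
when the base change X' ⟶ Y' of f along g is a closed immersion (representable, and a closed
immersion on every represented pullback). Here the base change of f along g is any f' : X' ⟶ Y'
obtained from pullback squares Y' = Y ×_Z Z' and X' = X ×_Y Y' of algebraic spaces over S, and W ⊂ Z
is given as a representable open immersion w : W ⟶ Z. -/
theorem result {S : Scheme.{u}} {X Y Z : AlgSp.Space S}
    (f : X ⟶ Y) (p : X ⟶ Z) (q : Y ⟶ Z) (hc : f ≫ q = p)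
    (hp1 : AlgSp.LocP @LocallyOfFiniteType p.hom) (hp2 : AlgSp.IsUnivClosedMor p.hom)
    (hq : AlgSp.IsSeparatedMor q.hom) :
    ∃ (W : AlgSp.Space S) (w : W ⟶ Z), AlgSp.RepWith @IsOpenImmersion w.hom ∧
      ∀ (Z' : AlgSp.Space S) (g : Z' ⟶ Z),
        (∃ k : Z' ⟶ W, k ≫ w = g) ↔
          ∀ (Y' : AlgSp.Space S) (gY : Y' ⟶ Y) (q' : Y' ⟶ Z'),
            IsPullback gY.hom q'.hom q.hom g.hom →
            ∀ (X' : AlgSp.Space S) (gX : X' ⟶ X) (f' : X' ⟶ Y'),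
              IsPullback gX.hom f'.hom f.hom gY.hom →
                AlgSp.RepWith @IsClosedImmersion f'.hom := by
  subst hc
  have hpc : AlgSp.IsClosedMor (f ≫ q).hom :=
    hp2 Z.property (𝟙 _) (𝟙 _) (f ≫ q).hom IsPullback.of_id_fst
  obtain ⟨W₁, w₁, hw₁, H₁⟩ := Groth.Agent.S10639.result f (f ≫ q) q rfl hp1 hpc
  obtain ⟨Y₁, gY₁, q₁, X₁, gX₁, f₁, sqa, sqb⟩ := Groth.Agent.H50.exists_baseChange_data f q w₁
  have hunr₁ : AlgSp.LocP (@LocallyOfFiniteType ⊓ @FormallyUnramified) f₁.hom :=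
    (H₁ W₁ w₁).1 ⟨𝟙 _, Category.id_comp _⟩ Y₁ gY₁ q₁ sqa X₁ gX₁ f₁ sqb
  have hp₁ : AlgSp.IsUnivClosedMor (f₁ ≫ q₁).hom :=
    Groth.Agent.H51.univSp_of_isPullback _ (sqb.paste_vert sqa) hp2
  have hq₁ : AlgSp.IsSeparatedMor q₁.hom :=
    Groth.Agent.H32.GoodMore.isSeparatedMor_of_isPullback q w₁ gY₁ q₁ sqa hq
  obtain ⟨W, w, hw, HA⟩ := Groth.Agent.H50.WhereCI.where_ci_of_unramified f₁ q₁ hunr₁ hp₁ hq₁
  have := AlgSp.repWith_isMultiplicative (S := S) @IsOpenImmersion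
  refine ⟨W, w ≫ w₁, (AlgSp.RepWith @IsOpenImmersion).comp_mem _ _ hw hw₁, fun Z' g => ?_⟩
  constructor
  · rintro ⟨k, rfl⟩ Y' gY q' sq1 X' gX f' sq2
    have e1 : gY.hom ≫ q.hom = (q'.hom ≫ (k ≫ w).hom) ≫ w₁.hom := by
      rw [sq1.w]
      rfl
    obtain ⟨gY', h1, h2⟩ : ∃ gY' : Y' ⟶ Y₁, gY'.hom ≫ gY₁.hom = gY.hom ∧
        gY'.hom ≫ q₁.hom = q'.hom ≫ (k ≫ w).hom :=
      ⟨ObjectProperty.homMk (sqa.lift gY.hom (q'.hom ≫ (k ≫ w).hom) e1),
        sqa.lift_fst _ _ _, sqa.lift_snd _ _ _⟩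
    have sq1' : IsPullback gY'.hom q'.hom q₁.hom (k ≫ w).hom := by
      refine IsPullback.of_right ?_ h2 sqa
      rw [h1]
      exact sq1
    have e2 : gX.hom ≫ f.hom = (f'.hom ≫ gY'.hom) ≫ gY₁.hom := by
      rw [Category.assoc, h1, sq2.w]
    obtain ⟨gX', h3, h4⟩ : ∃ gX' : X' ⟶ X₁, gX'.hom ≫ gX₁.hom = gX.hom ∧
        gX'.hom ≫ f₁.hom = f'.hom ≫ gY'.hom :=
      ⟨ObjectProperty.homMk (sqb.lift gX.hom (f'.hom ≫ gY'.hom) e2),
        sqb.lift_fst _ _ _, sqb.lift_snd _ _ _⟩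
    have sq2' : IsPullback gX'.hom f'.hom f₁.hom gY'.hom := by
      refine IsPullback.of_right ?_ h4 sqb
      rw [h3, h1]
      exact sq2
    exact (HA Z' (k ≫ w)).1 ⟨k, rfl⟩ Y' gY' q' sq1' X' gX' f' sq2'
  · intro H
    obtain ⟨k₁, rfl⟩ : ∃ k₁ : Z' ⟶ W₁, k₁ ≫ w₁ = g :=
      (H₁ Z' g).2 (fun Y' gY q' sq1 X' gX f' sq2 =>
        Groth.Agent.H50.WhereCI.locP_unram_of_closedImmersion (H Y' gY q' sq1 X' gX f' sq2))
    obtain ⟨k, rfl⟩ : ∃ k : Z' ⟶ W, k ≫ w = k₁ :=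
      (HA Z' k₁).2 (fun Y'' gY'' q'' sq1'' X'' gX'' f'' sq2'' =>
        H Y'' (gY'' ≫ gY₁) q'' (sq1''.paste_horiz sqa) X'' (gX'' ≫ gX₁) f''
          (sq2''.paste_horiz sqb))
    exact ⟨k, (Category.assoc _ _ _).symm⟩

end Groth.Agent.S10641
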