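import Groth.Statements.S10642
import Groth.Agent.H50.Where
import Groth.Agent.S10609

set_option autoImplicit false
universe u
open CategoryTheory CategoryTheory.Limits AlgebraicGeometry
open AlgSp

namespace Groth.Agent.S10642

/-- For morphisms f : X ⟶ Y, p : X ⟶ Z and q : Y ⟶ Z of algebraic spaces over S with f ≫ q = p, where p
is flat, closed and locally of finite presentation and q is locally of finite type, there is an open
subspace W of Z with the following property: a morphism of algebraic spaces g : Z' ⟶ Z factors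
through W exactly when the base change X' ⟶ Y' of f along g is flat. Here the base change of f along
g is any f' : X' ⟶ Y' obtained from pullback squares Y' = Y ×_Z Z' and X' = X ×_Y Y' of algebraic
spaces over S, and W ⊂ Z is given as a representable open immersion w : W ⟶ Z. -/
theorem result {S : Scheme.{u}} {X Y Z : AlgSp.Space S}
    (f : X ⟶ Y) (p : X ⟶ Z) (q : Y ⟶ Z) (hc : f ≫ q = p)
    (hp1 : AlgSp.LocP @LocallyOfFinitePresentation p.hom) (hp2 : AlgSp.LocP @Flat p.hom)
    (hp3 : AlgSp.IsClosedMor p.hom) (hq : AlgSp.LocP @LocallyOfFiniteType q.hom) :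
    ∃ (W : AlgSp.Space S) (w : W ⟶ Z), AlgSp.RepWith @IsOpenImmersion w.hom ∧
      ∀ (Z' : AlgSp.Space S) (g : Z' ⟶ Z),
        (∃ k : Z' ⟶ W, k ≫ w = g) ↔
          ∀ (Y' : AlgSp.Space S) (gY : Y' ⟶ Y) (q' : Y' ⟶ Z'),
            IsPullback gY.hom q'.hom q.hom g.hom →
            ∀ (X' : AlgSp.Space S) (gX : X' ⟶ X) (f' : X' ⟶ Y'),
              IsPullback gX.hom f'.hom f.hom gY.hom →
                AlgSp.LocP @Flat f'.hom := by
  have hpe : p = f ≫ q := hc.symm
  subst hpe
  obtain ⟨hT, hbc⟩ := Groth.Agent.S10609.result f q hp1 hp2 hq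
  refine Groth.Agent.H50.where_of_locus f (f ≫ q) q rfl hp3
    {x : AlgSp.Points X.obj | AlgSp.IsFlatAtMor f.hom x} hT
    (fun {X' Y'} f' => AlgSp.LocP @Flat f'.hom) ?_
  intro Z' g Y' gY q' sq1 X' gX f' sq2
  rw [Groth.Agent.H50.locP_flat_iff_forall]
  have e := hbc X' Y' Z' g f' q' gX gY sq1 sq2
  constructor
  · intro h x'
    have : x' ∈ {x' : AlgSp.Points X'.obj | AlgSp.IsFlatAtMor f'.hom x'} := h x'
    rw [e] at this
    exact this
  · intro h x'
    have : x' ∈ {x' : AlgSp.Points X'.obj | AlgSp.IsFlatAtMor f'.hom x'} := by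
      rw [e]; exact h x'
    exact this

end Groth.Agent.S10642
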