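import Groth.Statements.S10643
import Groth.Agent.H50.Where2
import Groth.Agent.S10609

set_option autoImplicit false
universe u
open CategoryTheory CategoryTheory.Limits AlgebraicGeometry
open AlgSp

namespace Groth.Agent.S10643

/-- For morphisms f : X ⟶ Y, p : X ⟶ Z and q : Y ⟶ Z of algebraic spaces over S with f ≫ q = p, where p
is flat, closed and locally of finite presentation and q is closed and locally of finite type, there
is an open subspace W of Z with the following property: a morphism of algebraic spaces g : Z' ⟶ Z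
factors through W exactly when the base change X' ⟶ Y' of f along g is flat and surjective (on
points). Here the base change of f along g is any f' : X' ⟶ Y' obtained from pullback squares Y' = Y
×_Z Z' and X' = X ×_Y Y' of algebraic spaces over S, and W ⊂ Z is given as a representable open
immersion w : W ⟶ Z. -/
theorem result {S : Scheme.{u}} {X Y Z : AlgSp.Space S}
    (f : X ⟶ Y) (p : X ⟶ Z) (q : Y ⟶ Z) (hc : f ≫ q = p)
    (hp1 : AlgSp.LocP @LocallyOfFinitePresentation p.hom) (hp2 : AlgSp.LocP @Flat p.hom)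
    (hp3 : AlgSp.IsClosedMor p.hom) (hq1 : AlgSp.LocP @LocallyOfFiniteType q.hom)
    (hq2 : AlgSp.IsClosedMor q.hom) :
    ∃ (W : AlgSp.Space S) (w : W ⟶ Z), AlgSp.RepWith @IsOpenImmersion w.hom ∧
      ∀ (Z' : AlgSp.Space S) (g : Z' ⟶ Z),
        (∃ k : Z' ⟶ W, k ≫ w = g) ↔
          ∀ (Y' : AlgSp.Space S) (gY : Y' ⟶ Y) (q' : Y' ⟶ Z'),
            IsPullback gY.hom q'.hom q.hom g.hom →
            ∀ (X' : AlgSp.Space S) (gX : X' ⟶ X) (f' : X' ⟶ Y'),
              IsPullback gX.hom f'.hom f.hom gY.hom →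
                (AlgSp.IsSurjectiveMor f'.hom ∧ AlgSp.LocP @Flat f'.hom) := by
  have hpe : p = f ≫ q := hc.symm
  subst hpe
  obtain ⟨hT, hbc⟩ := Groth.Agent.S10609.result f q hp1 hp2 hq1
  have hW1 : IsOpen (AlgSp.Points.map (f ≫ q).hom ''
      {x : AlgSp.Points X.obj | AlgSp.IsFlatAtMor f.hom x}ᶜ)ᶜ :=
    (hp3 _ hT.isClosed_compl).isOpen_compl
  have hO : IsOpen (AlgSp.Points.map (f ≫ q).hom ⁻¹' (AlgSp.Points.map (f ≫ q).hom ''
      {x : AlgSp.Points X.obj | AlgSp.IsFlatAtMor f.hom x}ᶜ)ᶜ) :=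
    hW1.preimage (AlgSp.Points.continuous_map _)
  have hOT : ∀ x ∈ (AlgSp.Points.map (f ≫ q).hom ⁻¹' (AlgSp.Points.map (f ≫ q).hom ''
      {x : AlgSp.Points X.obj | AlgSp.IsFlatAtMor f.hom x}ᶜ)ᶜ), AlgSp.IsFlatAtMor f.hom x := by
    intro x hx
    by_contra hxT
    exact hx ⟨x, hxT, rfl⟩
  have hflfp := Groth.Agent.H50.locP_lfp_of_comp f q hp1 hq1
  have hfO := Groth.Agent.H50.isOpen_image_of_flat f hflfp hO hOT
  have hWopen := (hq2 _ hfO.isClosed_compl).isOpen_compl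
  obtain ⟨Wsp, w, hw, huniv⟩ := Groth.Agent.H50.exists_openSub_space Z _ hWopen
  refine ⟨Wsp, w, hw, fun Z' g => ?_⟩
  rw [huniv Z' g]
  have key : ∀ (Y' : AlgSp.Space S) (gY : Y' ⟶ Y) (q' : Y' ⟶ Z'),
      IsPullback gY.hom q'.hom q.hom g.hom →
      ∀ (X' : AlgSp.Space S) (gX : X' ⟶ X) (f' : X' ⟶ Y'),
        IsPullback gX.hom f'.hom f.hom gY.hom →
        (Set.range (AlgSp.Points.map g.hom) ⊆ (AlgSp.Points.map q.hom '' (AlgSp.Points.map f.hom ''
          (AlgSp.Points.map (f ≫ q).hom ⁻¹' (AlgSp.Points.map (f ≫ q).hom ''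
          {x : AlgSp.Points X.obj | AlgSp.IsFlatAtMor f.hom x}ᶜ)ᶜ))ᶜ)ᶜ ↔
          (AlgSp.IsSurjectiveMor f'.hom ∧ AlgSp.LocP @Flat f'.hom)) := by
    intro Y' gY q' sq1 X' gX f' sq2
    have hflat : AlgSp.LocP @Flat f'.hom ↔
        ∀ x', AlgSp.Points.map gX.hom x' ∈ {x : AlgSp.Points X.obj | AlgSp.IsFlatAtMor f.hom x} := by
      rw [Groth.Agent.H50.locP_flat_iff_forall]
      have e := hbc X' Y' Z' g f' q' gX gY sq1 sq2
      exact ⟨fun h x' => (Set.ext_iff.1 e x').1 (h x'), fun h x' => (Set.ext_iff.1 e x').2 (h x')⟩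
    have hA := Groth.Agent.H50.range_subset_compl_image_iff sq1 sq2
      {x : AlgSp.Points X.obj | AlgSp.IsFlatAtMor f.hom x}
    have hfcomm : ∀ x', AlgSp.Points.map f.hom (AlgSp.Points.map gX.hom x') =
        AlgSp.Points.map gY.hom (AlgSp.Points.map f'.hom x') := by
      intro x'
      rw [← AlgSp.Points.map_comp, ← AlgSp.Points.map_comp, sq2.w]
    have hqcomm : ∀ y', AlgSp.Points.map q.hom (AlgSp.Points.map gY.hom y') =
        AlgSp.Points.map g.hom (AlgSp.Points.map q'.hom y') := by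
      intro y'
      rw [← AlgSp.Points.map_comp, ← AlgSp.Points.map_comp, sq1.w]
    have hpq : ∀ x, AlgSp.Points.map (f ≫ q).hom x =
        AlgSp.Points.map q.hom (AlgSp.Points.map f.hom x) := fun x => AlgSp.Points.map_comp _ _ x
    constructor
    · intro hg
      have hgW1 : Set.range (AlgSp.Points.map g.hom) ⊆ (AlgSp.Points.map (f ≫ q).hom ''
          {x : AlgSp.Points X.obj | AlgSp.IsFlatAtMor f.hom x}ᶜ)ᶜ := by
        rintro z hz ⟨x, hxT, rfl⟩
        refine hg hz ⟨AlgSp.Points.map f.hom x, ?_, (hpq x).symm⟩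
        rintro ⟨x2, hx2, hx2e⟩
        apply hx2
        refine ⟨x, hxT, ?_⟩
        rw [hpq, hpq, hx2e]
      refine ⟨?_, hflat.2 (hA.1 hgW1)⟩
      intro y'
      have hz : AlgSp.Points.map q.hom (AlgSp.Points.map gY.hom y') ∈
          Set.range (AlgSp.Points.map g.hom) := ⟨_, (hqcomm y').symm⟩
      have hy : AlgSp.Points.map gY.hom y' ∈ AlgSp.Points.map f.hom ''
          (AlgSp.Points.map (f ≫ q).hom ⁻¹' (AlgSp.Points.map (f ≫ q).hom ''
          {x : AlgSp.Points X.obj | AlgSp.IsFlatAtMor f.hom x}ᶜ)ᶜ) := by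
        by_contra hy
        exact hg hz ⟨_, hy, rfl⟩
      obtain ⟨x, -, hx⟩ := hy
      obtain ⟨x', -, hx'⟩ := Groth.Agent.H50.exists_point_of_isPullback sq2 x y' hx
      exact ⟨x', hx'⟩
    · rintro ⟨hs, hfl⟩
      have hgW1 := hA.2 (hflat.1 hfl)
      rintro z ⟨z', rfl⟩ ⟨y, hy, hyz⟩
      obtain ⟨y', hy'1, hy'2⟩ := Groth.Agent.H50.exists_point_of_isPullback sq1 y z' hyz
      obtain ⟨x', hx'⟩ := hs y'
      apply hy
      refine ⟨AlgSp.Points.map gX.hom x', ?_, ?_⟩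
      · rw [Set.mem_preimage]
        have : AlgSp.Points.map (f ≫ q).hom (AlgSp.Points.map gX.hom x') =
            AlgSp.Points.map g.hom z' := by
          rw [hpq, hfcomm, hx', hy'1, hyz]
        rw [this]
        exact hgW1 ⟨z', rfl⟩
      · rw [hfcomm, hx', hy'1]
  constructor
  · intro hg Y' gY q' sq1 X' gX f' sq2
    exact (key Y' gY q' sq1 X' gX f' sq2).1 hg
  · intro Hall
    obtain ⟨Y', gY, q', X', gX, f', sq1, sq2⟩ := Groth.Agent.H50.exists_baseChange_data f q g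
    exact (key Y' gY q' sq1 X' gX f' sq2).2 (Hall Y' gY q' sq1 X' gX f' sq2)

end Groth.Agent.S10643
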