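import Groth.Statements.S10644
import Groth.Agent.H50.WhereIso
import Groth.Agent.S10641
import Groth.Agent.S10643

set_option autoImplicit false
universe u
open CategoryTheory CategoryTheory.Limits AlgebraicGeometry
open AlgSp

namespace Groth.Agent.S10644

/-- For morphisms f : X ⟶ Y, p : X ⟶ Z and q : Y ⟶ Z of algebraic spaces over S with f ≫ q = p, where p
is flat, universally closed and locally of finite presentation and q is closed, separated and
locally of finite type, there is an open subspace W of Z with the following property: a morphism of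
algebraic spaces g : Z' ⟶ Z factors through W exactly when the base change X' ⟶ Y' of f along g is
an isomorphism. Here the base change of f along g is any f' : X' ⟶ Y' obtained from pullback squares
Y' = Y ×_Z Z' and X' = X ×_Y Y' of algebraic spaces over S, and W ⊂ Z is given as a representable
open immersion w : W ⟶ Z. -/
theorem result {S : Scheme.{u}} {X Y Z : AlgSp.Space S}
    (f : X ⟶ Y) (p : X ⟶ Z) (q : Y ⟶ Z) (hc : f ≫ q = p)
    (hp1 : AlgSp.LocP @LocallyOfFinitePresentation p.hom) (hp2 : AlgSp.LocP @Flat p.hom)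
    (hp3 : AlgSp.IsUnivClosedMor p.hom) (hq1 : AlgSp.LocP @LocallyOfFiniteType q.hom)
    (hq2 : AlgSp.IsClosedMor q.hom) (hq3 : AlgSp.IsSeparatedMor q.hom) :
    ∃ (W : AlgSp.Space S) (w : W ⟶ Z), AlgSp.RepWith @IsOpenImmersion w.hom ∧
      ∀ (Z' : AlgSp.Space S) (g : Z' ⟶ Z),
        (∃ k : Z' ⟶ W, k ≫ w = g) ↔
          ∀ (Y' : AlgSp.Space S) (gY : Y' ⟶ Y) (q' : Y' ⟶ Z'),
            IsPullback gY.hom q'.hom q.hom g.hom →
            ∀ (X' : AlgSp.Space S) (gX : X' ⟶ X) (f' : X' ⟶ Y'),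
              IsPullback gX.hom f'.hom f.hom gY.hom →
                IsIso f'.hom := by
  have hp1' : AlgSp.LocP @LocallyOfFiniteType p.hom := fun U V a b h ha hb c => by
    haveI : LocallyOfFinitePresentation h.left := hp1 a b h ha hb c
    exact (inferInstance : LocallyOfFiniteType h.left)
  have hpc : AlgSp.IsClosedMor p.hom := hp3 Z.property (𝟙 _) (𝟙 _) p.hom IsPullback.of_id_fst
  obtain ⟨W₁, w₁, hw₁, H₁⟩ := Groth.Agent.S10641.result f p q hc hp1' hp3 hq3
  obtain ⟨W₂, w₂, hw₂, H₂⟩ := Groth.Agent.S10643.result f p q hc hp1 hp2 hpc hq1 hq2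
  have ho₁ : IsOpen (Set.range (AlgSp.Points.map w₁.hom)) :=
    (Groth.Agent.H50.AnUnivClosed.isOpenMap_map_of_etale W₁.property _
      (Groth.Agent.H50.repWith_etale_of_isOpenImmersion hw₁)).isOpen_range
  have ho₂ : IsOpen (Set.range (AlgSp.Points.map w₂.hom)) :=
    (Groth.Agent.H50.AnUnivClosed.isOpenMap_map_of_etale W₂.property _
      (Groth.Agent.H50.repWith_etale_of_isOpenImmersion hw₂)).isOpen_range
  obtain ⟨W, w, hw, Hfac⟩ := Groth.Agent.H50.exists_openSub_space Z _ (ho₁.inter ho₂)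
  refine ⟨W, w, hw, fun Z' g => ?_⟩
  rw [Hfac Z' g, Set.subset_inter_iff, ← Groth.Agent.S10194.result w₁ hw₁ g,
    ← Groth.Agent.S10194.result w₂ hw₂ g, H₁ Z' g, H₂ Z' g]
  constructor
  · rintro ⟨h1, h2⟩ Y' gY q' sq1 X' gX f' sq2
    obtain ⟨hs, hfl⟩ := h2 Y' gY q' sq1 X' gX f' sq2
    exact Groth.Agent.H50.WhereIso.isIso_of_ci_flat_surj f' (h1 Y' gY q' sq1 X' gX f' sq2) hs hfl
  · intro H
    refine ⟨fun Y' gY q' sq1 X' gX f' sq2 => ?_, fun Y' gY q' sq1 X' gX f' sq2 => ?_⟩
    · haveI := H Y' gY q' sq1 X' gX f' sq2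
      exact Groth.Agent.H50.repWith_of_isIso @IsClosedImmersion f'.hom
    · haveI := H Y' gY q' sq1 X' gX f' sq2
      refine ⟨fun y => ⟨AlgSp.Points.map (inv f'.hom) y, ?_⟩, ?_⟩
      · rw [← AlgSp.Points.map_comp, IsIso.inv_hom_id, AlgSp.Points.map_id]
      · exact Groth.Agent.H50.locP_of_repWith (P := @Flat)
          (fun _ _ g (hg : Etale g) => (inferInstance : Flat g))
          (Groth.Agent.H50.repWith_of_isIso @Flat f'.hom)

end Groth.Agent.S10644
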