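import Groth.Statements.S10653
import Groth.Agent.S1240
import Groth.Agent.H52.ChartIndep
import Groth.Agent.H52.ChartAt
import Groth.Agent.H52.QC
import Groth.Agent.H50.Basic
import Groth.Agent.H50.Points

set_option autoImplicit false
universe u
open CategoryTheory CategoryTheory.Limits AlgebraicGeometry
open AlgSp

namespace Groth.Agent.S10653

/-- For a flat morphism f : X ⟶ Y of algebraic spaces over S which is locally of finite type, and an
open subspace j : V ⟶ Y with |V| dense in |Y| such that the base change X ×_Y V ⟶ V has relative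
dimension at most d (at every point some etale chart diagram has top arrow with local fibre
dimension at most d): if either j is quasi-compact or f is locally of finite presentation, then f
has relative dimension at most d at every point of |X|. -/
theorem result {S : Scheme.{u}} {X Y V : AlgSp.Space S} (f : X ⟶ Y) (j : V ⟶ Y) (d : ℕ)
    (hf1 : AlgSp.LocP @Flat f.hom) (hf2 : AlgSp.LocP @LocallyOfFiniteType f.hom)
    (hj1 : AlgSp.RepWith @IsOpenImmersion j.hom) (hj2 : Dense (Set.range (AlgSp.Points.map j.hom)))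
    (P : AlgSp.Space S) (fst : P ⟶ X) (snd : P ⟶ V) (hP : IsPullback fst.hom snd.hom f.hom j.hom)
    (hV : ∀ x, AlgSp.HasAtMor (fun _ _ h u => FlatMor.fibreDimAt h u ≤ (d : WithBot ℕ∞)) snd.hom x)
    (h : AlgSp.LocP @LocallyOfFinitePresentation f.hom ∨ AlgSp.IsQuasiCompactMor j.hom) :
    ∀ x, AlgSp.HasAtMor (fun _ _ h u => FlatMor.fibreDimAt h u ≤ (d : WithBot ℕ∞)) f.hom x := by
  intro x
  have hX := X.property
  have hY := Y.property
  obtain ⟨U, W, a, b, k, u, ha, hb, comm, hu⟩ :=
    Groth.Agent.H52.exists_chart_diagram_at hX hY f.hom x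
  refine ⟨U, W, a, b, k, u, ha, hb, comm, hu, ?_⟩
  haveI : Flat k.left := hf1 a b k ha hb comm
  haveI : LocallyOfFiniteType k.left := hf2 a b k ha hb comm
  -- the open subscheme of the chart of `Y` lying over `V`
  obtain ⟨WV, ψ, φ, sq⟩ := hj1.1 b
  haveI hψ : IsOpenImmersion ψ.left := hj1.2 _ _ _ sq
  have hje : AlgSp.RepWith @Etale j.hom :=
    Groth.Agent.H50.repWith_mono
      (fun _ _ g hg => by have : IsOpenImmersion g := hg; infer_instance) hj1
  have hfste : AlgSp.RepWith @Etale fst.hom := Groth.Agent.H50.repWith_fst_of_isPullback hP hje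
  haveI := AlgSp.repWith_isMultiplicative (S := S) @Etale
  -- density of the open subscheme
  have hOdense : Dense (ψ.left.opensRange : Set ↥W.left) := by
    have h1 : Dense (AlgSp.Points.ofPt b ⁻¹' Set.range (AlgSp.Points.map j.hom)) :=
      hj2.preimage (Groth.Agent.H52.isOpenMap_ofPt_of_etale b hb)
    refine h1.mono ?_
    rw [Scheme.Hom.coe_opensRange]
    rintro w ⟨v, hv⟩
    rw [AlgSp.Points.ofPt_eq_map_ofScheme] at hv
    obtain ⟨z, hz1, hz2⟩ := Groth.Agent.H50.exists_point_of_isPullback sq v _ hv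
    obtain ⟨t, rfl⟩ := (AlgSp.Points.schemeEquiv WV).surjective z
    change AlgSp.Points.map _ (AlgSp.Points.ofScheme WV t) = _ at hz2
    rw [Groth.Agent.H52.map_yon_map_ofScheme] at hz2
    exact ⟨t, Groth.Agent.H52.ofScheme_injective W hz2⟩
  -- the bound over the open subscheme
  have hle : ∀ u' : ↥U.left, k.left u' ∈ (ψ.left.opensRange : Set ↥W.left) →
      FlatMor.fibreDimAt k.left u' ≤ (d : WithBot ℕ∞) := by
    intro u' hu'
    rw [Scheme.Hom.coe_opensRange] at hu'
    obtain ⟨t, ht⟩ := hu'
    have hpt : AlgSp.Points.map f.hom (AlgSp.Points.ofPt a u') =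
        AlgSp.Points.map j.hom (AlgSp.Points.ofPt φ t) := by
      rw [AlgSp.Points.map_ofPt, AlgSp.Points.map_ofPt, comm, sq.w,
        Groth.Agent.H52.ofPt_yon_map_comp, Groth.Agent.H52.ofPt_yon_map_comp, ht]
    obtain ⟨p, hp1, hp2⟩ := Groth.Agent.H50.exists_point_of_isPullback hP _ _ hpt
    obtain ⟨U', V', a', b', k', u'', ha', hb', comm', hu'', hd⟩ := hV p
    have ha'' : AlgSp.RepWith @Etale (a' ≫ fst.hom) :=
      (AlgSp.RepWith @Etale).comp_mem _ _ ha' hfste
    have hb'' : AlgSp.RepWith @Etale (b' ≫ j.hom) :=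
      (AlgSp.RepWith @Etale).comp_mem _ _ hb' hje
    have comm'' : (a' ≫ fst.hom) ≫ f.hom = (AlgSp.yon S).map k' ≫ b' ≫ j.hom := by
      rw [Category.assoc, hP.w, ← Category.assoc, comm', Category.assoc]
    have hpt' : AlgSp.Points.ofPt a u' = AlgSp.Points.ofPt (a' ≫ fst.hom) u'' := by
      rw [← AlgSp.Points.map_ofPt, hu'', hp1]
    rw [Groth.Agent.H52.fibreDimAt_eq_of_charts f.hom a b k ha hb comm (a' ≫ fst.hom)
      (b' ≫ j.hom) k' ha'' hb'' comm'' u' u'' hpt']
    exact hd
  have hor : LocallyOfFinitePresentation k.left ∨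
      IsRetrocompact (ψ.left.opensRange : Set ↥W.left) := by
    rcases h with h | h
    · exact Or.inl (h a b k ha hb comm)
    · right
      intro K hKc hKo
      let Ko : W.left.Opens := ⟨K, hKo⟩
      let KS : Over S := Over.mk (Ko.ι ≫ W.hom)
      let ιK : KS ⟶ W := Over.homMk Ko.ι rfl
      haveI : CompactSpace ↥KS.left := isCompact_iff_compactSpace.mp hKc
      obtain ⟨T, ψ', φ', sq'⟩ := hj1.1 ((AlgSp.yon S).map ιK ≫ b)
      have hqc : AlgSp.IsQuasiCompactSp ((AlgSp.yon S).obj T) :=
        h (AlgSp.IsAlgSpace.yon_obj KS) (Groth.Agent.H52.isQuasiCompactSp_yon KS) _ _ _ sq'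
      obtain ⟨M, p, hpe, hps, hMc⟩ := hqc
      obtain ⟨m, rfl⟩ := (AlgSp.yon S).map_surjective p
      have hms : Surjective m.left := (AlgSp.repWith_yon_map_iff @Surjective m).1 hps
      haveI : CompactSpace ↥M.left := hMc
      haveI hTc : CompactSpace ↥T.left :=
        hms.surj.compactSpace m.left.continuous
      have hgc : Continuous (fun t : ↥T.left => ιK.left (ψ'.left t)) :=
        ιK.left.continuous.comp ψ'.left.continuous
      have hιK : ∀ k₀ : ↥KS.left, ιK.left k₀ ∈ K := by
        intro k₀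
        have h0 : ιK.left k₀ ∈ Set.range Ko.ι := Set.mem_range_self k₀
        rw [Scheme.Opens.range_ι] at h0
        exact h0
      have himg : Set.range (fun t : ↥T.left => ιK.left (ψ'.left t)) =
          (ψ.left.opensRange : Set ↥W.left) ∩ K := by
        rw [Scheme.Hom.coe_opensRange]
        apply Set.Subset.antisymm
        · rintro _ ⟨t, rfl⟩
          refine ⟨?_, hιK _⟩
          have hw : φ' ≫ j.hom = (AlgSp.yon S).map (ψ' ≫ ιK) ≫ b := by
            rw [Functor.map_comp, Category.assoc]; exact sq'.w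
          obtain ⟨l, hl⟩ := (AlgSp.yon S).map_surjective (sq.lift φ' _ hw)
          have hl2 : l ≫ ψ = ψ' ≫ ιK := by
            apply (AlgSp.yon S).map_injective
            rw [Functor.map_comp, hl, sq.lift_snd]
          refine ⟨l.left t, ?_⟩
          have := congrArg (fun e => e.left t) hl2
          exact this
        · rintro w ⟨⟨t₀, ht₀⟩, hwK⟩
          have hwr : w ∈ Set.range Ko.ι := by rw [Scheme.Opens.range_ι]; exact hwK
          obtain ⟨k₀, hk₀⟩ := hwr
          have hpt : AlgSp.Points.map j.hom (AlgSp.Points.ofPt φ t₀) =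
              AlgSp.Points.map ((AlgSp.yon S).map ιK ≫ b) (AlgSp.Points.ofScheme KS k₀) := by
            rw [← AlgSp.Points.ofPt_eq_map_ofScheme, AlgSp.Points.map_ofPt, sq.w,
              Groth.Agent.H52.ofPt_yon_map_comp, Groth.Agent.H52.ofPt_yon_map_comp, ht₀]
            congr 1
            exact hk₀.symm
          obtain ⟨z, hz1, hz2⟩ := Groth.Agent.H50.exists_point_of_isPullback sq' _ _ hpt
          obtain ⟨t, rfl⟩ := (AlgSp.Points.schemeEquiv T).surjective z
          change AlgSp.Points.map _ (AlgSp.Points.ofScheme T t) = _ at hz2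
          rw [Groth.Agent.H52.map_yon_map_ofScheme] at hz2
          have hz3 := Groth.Agent.H52.ofScheme_injective KS hz2
          refine ⟨t, ?_⟩
          show ιK.left (ψ'.left t) = w
          rw [hz3]; exact hk₀
      rw [← himg]
      exact isCompact_range hgc
  exact Groth.Agent.S1240.result k.left ψ.left.opensRange hOdense d hle hor u

end Groth.Agent.S10653
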