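import Groth.Statements.S10654
import Groth.Agent.S10653
import Groth.Agent.H52.FD.Lqf
import Groth.Agent.H52.SL.General
import Groth.Agent.H52.ChartIndep
import Groth.Agent.H52.FQDecent
import Groth.Agent.H52.QC
import Groth.Agent.H51.AffineMor
import Groth.Agent.H51.Proper

set_option autoImplicit false
universe u
open CategoryTheory CategoryTheory.Limits AlgebraicGeometry
open AlgSp

namespace Groth.Agent.S10654

/-- For a flat proper morphism f : X ⟶ Y of algebraic spaces over S and an open subspace j : V ⟶ Y with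
|V| dense in |Y| such that the base change X ×_Y V ⟶ V is finite: f is finite over all of Y,
provided either j is quasi-compact or f is locally of finite presentation. -/
theorem result {S : Scheme.{u}} {X Y V : AlgSp.Space S} (f : X ⟶ Y) (j : V ⟶ Y)
    (hf1 : AlgSp.LocP @Flat f.hom) (hf2 : AlgSp.IsProperMor f.hom)
    (hj1 : AlgSp.RepWith @IsOpenImmersion j.hom) (hj2 : Dense (Set.range (AlgSp.Points.map j.hom)))
    (P : AlgSp.Space S) (fst : P ⟶ X) (snd : P ⟶ V) (hP : IsPullback fst.hom snd.hom f.hom j.hom)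
    (hV : AlgSp.IsFiniteMor snd.hom)
    (h : AlgSp.LocP @LocallyOfFinitePresentation f.hom ∨ AlgSp.IsQuasiCompactMor j.hom) :
    AlgSp.IsFiniteMor f.hom := by
  have hX := X.property
  have hY := Y.property
  have hVsp := V.property
  have hPsp := P.property
  have hlft : LocP @LocallyOfFiniteType f.hom := hf2.2.1.1
  have hsep : IsSeparatedMor f.hom := hf2.1
  have hqc : IsQuasiCompactMor f.hom := hf2.2.1.2
  have huc : IsUnivClosedMor f.hom := hf2.2.2
  -- Step 1: the finite morphism `snd` has fibre dimension `≤ 0` at every point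
  have hVdim : ∀ x, AlgSp.HasAtMor
      (fun _ _ h u => FlatMor.fibreDimAt h u ≤ ((0 : ℕ) : WithBot ℕ∞)) snd.hom x := by
    intro x
    obtain ⟨W, b, w, hWaff, hb, hw⟩ :=
      Groth.Agent.H52.exists_affine_chart_at hVsp (Points.map snd.hom x)
    obtain ⟨W', i, fst', sq', hW'aff, hi⟩ := hV hWaff b
    have hfst'e : RepWith @Etale fst' := Groth.Agent.H50.repWith_fst_of_isPullback sq' hb
    have hxy : Points.map snd.hom x = Points.map b (Points.ofScheme W w) := by
      rw [← Points.ofPt_eq_map_ofScheme]; exact hw.symm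
    obtain ⟨z, hz1, -⟩ := Groth.Agent.H50.exists_point_of_isPullback sq' x _ hxy
    obtain ⟨t, rfl⟩ := (AlgSp.Points.schemeEquiv W').surjective z
    change AlgSp.Points.map _ (AlgSp.Points.ofScheme W' t) = _ at hz1
    refine ⟨W', W, fst', b, i, t, hfst'e, hb, sq'.w, ?_, ?_⟩
    · rw [Points.ofPt_eq_map_ofScheme]; exact hz1
    · haveI : IsFinite i.left := hi
      exact_mod_cast Groth.Agent.H52.FD.fibreDimAt_le_zero_of_lqf i.left t
  -- Step 2: hence so does `f`
  have hXdim := Groth.Agent.S10653.result f j 0 hf1 hlft hj1 hj2 P fst snd hP hVdim h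
  -- Step 3: `f` is locally quasi-finite
  have hqf : LocP (@LocallyQuasiFinite ⊓ @LocallyOfFiniteType : MorphismProperty Scheme.{u})
      f.hom := by
    intro U W a b k ha hb comm
    haveI hk : LocallyOfFiniteType k.left := hlft a b k ha hb comm
    refine ⟨?_, hk⟩
    apply Groth.Agent.H52.FD.locallyQuasiFinite_of_fibreDimAt_le_zero
    intro u
    obtain ⟨U', W', a', b', k', u', ha', hb', comm', hu', hd⟩ := hXdim (Points.ofPt a u)
    rw [Groth.Agent.H52.fibreDimAt_eq_of_charts f.hom a b k ha hb comm a' b' k' ha' hb' comm'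
      u u' hu'.symm]
    exact_mod_cast hd
  -- Step 4: finiteness
  intro Z hZ g
  obtain ⟨W, k, fst0, sq⟩ := Groth.Agent.H52.SL.representable_of_sep_lqf hX hY f.hom hsep hqf g
  haveI : IsAffine Z.left := hZ
  have hZsp : IsAlgSpace ((yon S).obj Z) := IsAlgSpace.yon_obj Z
  have hqfk := Groth.Agent.H52.locP_baseChange Groth.Agent.H52.etLocal_lqf hX hY hZsp sq hqf
  have hkP := hqfk (𝟙 _) (𝟙 _) k (Groth.Agent.H52.SL.repWith_etale_id W)
    (Groth.Agent.H52.SL.repWith_etale_id Z) (by simp)
  haveI : LocallyQuasiFinite k.left := hkP.1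
  haveI : LocallyOfFiniteType k.left := hkP.2
  haveI : IsSeparated k.left := (AlgSp.isSeparatedMor_yon_map_iff k).1
    (Groth.Agent.H52.SL.isSeparatedMor_snd_of_isPullback hX hY hZsp sq hsep)
  haveI : UniversallyClosed k.left :=
    Groth.Agent.H51.universallyClosed_of_isUnivClosedMor_yon_map k
      (Groth.Agent.H51.univSp_of_isPullback _ sq huc)
  haveI : CompactSpace ↥W.left := by
    have h1 : IsQuasiCompactSp ((yon S).obj W) :=
      hqc hZsp (Groth.Agent.H52.isQuasiCompactSp_yon Z) g fst0 _ sq
    have h2 := Groth.Agent.H52.compactSpace_points_of_isQuasiCompactSp h1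
    exact (Points.schemeHomeo W).symm.compactSpace
  haveI : QuasiCompact k.left :=
    Groth.Agent.H52.FD.quasiCompact_of_compactSpace_of_isAffine k.left
  haveI : IsProper k.left := {}
  haveI : IsFinite k.left := IsFinite.of_isProper_of_locallyQuasiFinite k.left
  exact ⟨W, k, fst0, sq, isAffine_of_isAffineHom k.left, inferInstance⟩

end Groth.Agent.S10654
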