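import Groth.Statements.S5003
import Groth.Agent.S5004
import Groth.Agent.S8905
import Groth.Agent.H59.RegImmDesc
set_option maxHeartbeats 400000
set_option linter.style.haveILetI false

set_option autoImplicit false
universe u
open CategoryTheory CategoryTheory.Limits AlgebraicGeometry TopologicalSpace
open Nrm16

namespace Groth.Agent.S5003

/-- Let X be a locally Noetherian scheme and j : Y ⟶ X a morphism. Then j is a regular immersion if and
only if j is a quasi-regular immersion. -/
theorem result {X Y : Scheme.{u}} [IsLocallyNoetherian X] (j : Y ⟶ X) :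
    RegImm.IsRegularImmersion RegImm.Kind.regular j ↔ RegImm.IsRegularImmersion RegImm.Kind.quasi j := by
  constructor
  · intro h
    have h3 := Groth.Agent.S8905.result j
    exact h3.2.2 (h3.2.1 (h3.1 h))
  · rintro ⟨himm, h⟩
    haveI := himm
    refine ⟨himm, fun z => ?_⟩
    obtain ⟨U, hzU, hcl, rs, hq, hker⟩ := h z
    haveI : IsNoetherianRing Γ(X, U.1) := IsLocallyNoetherian.component_noetherian U
    obtain ⟨y, hy⟩ : ∃ y : PrimeSpectrum Γ(X, U.1), y = U.2.primeIdealOf ⟨j z, hzU⟩ := ⟨_, rfl⟩
    have hfy : U.2.fromSpec y = j z := by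
      rw [hy]; exact U.2.fromSpec_primeIdealOf ⟨j z, hzU⟩
    have hkey : ∀ f : Γ(X, U.1), j z ∈ X.basicOpen f ↔ f ∉ y.asIdeal := by
      intro f
      have h2 := U.2.fromSpec_preimage_basicOpen f
      constructor
      · intro hxf
        have h3 : y ∈ U.2.fromSpec ⁻¹ᵁ X.basicOpen f := by
          show U.2.fromSpec y ∈ X.basicOpen f
          rw [hfy]; exact hxf
        rw [h2] at h3
        exact (PrimeSpectrum.mem_basicOpen _ _).1 h3
      · intro hf
        have h3 : y ∈ (PrimeSpectrum.basicOpen f) := (PrimeSpectrum.mem_basicOpen _ _).2 hf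
        rw [← h2] at h3
        have h4 : U.2.fromSpec y ∈ X.basicOpen f := h3
        rwa [hfy] at h4
    have hIP : RingHom.ker (j.app U.1).hom ≤ y.asIdeal := by
      intro a ha
      by_contra hna
      have h1 : j z ∈ X.basicOpen a := (hkey a).2 hna
      have h2 : z ∈ j ⁻¹ᵁ X.basicOpen a := h1
      rw [Scheme.preimage_basicOpen, RingHom.mem_ker.mp ha, Scheme.basicOpen_zero] at h2
      exact h2
    haveI : y.asIdeal.IsPrime := y.isPrime
    have hq0 : CAlgX.IsQuasiRegular rs.get := hq
    have hq' : CAlgX.IsQuasiRegular (fun i : Fin rs.length =>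
        algebraMap Γ(X, U.1) (Localization.AtPrime y.asIdeal) (rs.get i)) :=
      Groth.Agent.H87.QRegLoc.isQuasiRegular_of_isLocalization y.asIdeal.primeCompl rs.get hq0
    have hmem : ∀ i : Fin rs.length,
        algebraMap Γ(X, U.1) (Localization.AtPrime y.asIdeal) (rs.get i) ∈
          IsLocalRing.maximalIdeal (Localization.AtPrime y.asIdeal) := by
      intro i
      rw [IsLocalization.AtPrime.to_map_mem_maximal_iff _ y.asIdeal]
      apply hIP
      rw [hker]
      exact Ideal.subset_span (List.get_mem rs i)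
    have hWR := Groth.Agent.S5803.result (Localization.AtPrime y.asIdeal) rs.length _
      (fun i => by
        rw [← Ideal.jacobson_bot, IsLocalRing.jacobson_eq_maximalIdeal _ bot_ne_top]
        exact hmem i) hq'
    rw [Groth.Agent.S5004.ofFn_get_map] at hWR
    have hER := Groth.Agent.S5004.elemReg_of_isWeaklyRegular _ hWR
    obtain ⟨g, hgy, hg⟩ := Groth.Agent.H71.VAS.exists_elemReg_away y.asIdeal rs hER
    have hxg : j z ∈ X.basicOpen g := (hkey g).2 hgy
    haveI : IsLocalization.Away g Γ(X, X.basicOpen g) := U.2.isLocalization_basicOpen g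
    have hER' := hg (Submonoid.powers g) Γ(X, X.basicOpen g)
      (IsLocalization.Away.algebraMap_isUnit g)
    have hWR' := Groth.Agent.H71.VAS.isWeaklyRegular_of_elemReg _ hER'
    have hcl' := Groth.Agent.H59.RegImmDesc.closedImm_basicOpen j hcl g
    have hkeq : RingHom.ker (j.app (X.basicOpen g)).hom =
        Ideal.ofList (rs.map (algebraMap Γ(X, U.1) Γ(X, X.basicOpen g))) := by
      rw [Groth.Agent.H59.RegImmDesc.ker_basicOpen j U.2 hcl g, hker, Ideal.map_ofList]
    refine ⟨X.affineBasicOpen g, hxg, hcl',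
      rs.map (algebraMap Γ(X, U.1) Γ(X, X.basicOpen g)), ?_, hkeq⟩
    show RingTheory.Sequence.IsRegular _ _
    refine ⟨hWR', ?_⟩
    simp only [smul_eq_mul, Ideal.mul_top]
    intro htop
    have hzg : z ∈ j ⁻¹ᵁ X.basicOpen g := hxg
    haveI : Nontrivial Γ(Y, j ⁻¹ᵁ X.basicOpen g) :=
      @Scheme.component_nontrivial _ _ ⟨⟨z, hzg⟩⟩
    exact RingHom.ker_ne_top (j.app (X.basicOpen g)).hom (hkeq.trans htop.symm)

end Groth.Agent.S5003
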