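import Groth.Statements.S10661
import Groth.Agent.S10660
import Groth.Agent.S5003
import Groth.Agent.S8905
import Groth.Agent.H7.NoethDescent
-- import your own Groth.Agent.* helpers here

set_option autoImplicit false
universe u
open CategoryTheory CategoryTheory.Limits AlgebraicGeometry
open AlgSp

namespace Groth.Agent.S10661


/-- Every scheme etale over a locally Noetherian sheaf is locally Noetherian. -/
theorem isLocallyNoetherian_chart {S : Scheme.{u}} {X : Sp S} (hX : IsLocNoethSp X) {V : Over S}
    (b : (yon S).obj V ⟶ X) (hb : RepWith @Etale b) : IsLocallyNoetherian V.left := by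
  obtain ⟨U, p, hpe, hps, hU⟩ := hX
  have : IsLocallyNoetherian U.left := hU
  obtain ⟨T, t₁, t₂, sq, he, hs⟩ : ∃ (T : Over S) (t₁ : T ⟶ U) (t₂ : T ⟶ V),
      IsPullback ((yon S).map t₁) ((yon S).map t₂) p b ∧ Etale t₂.left ∧ Surjective t₂.left :=
    ⟨_, _, _, hpe.rep.isPullback' b, hpe.property_snd b, hps.property_snd b⟩
  have he₁ : Etale t₁.left := hb.property p ((yon S).map t₂) t₁ sq.flip
  have := he
  have := hs
  have := he₁
  have : IsLocallyNoetherian T.left := LocallyOfFiniteType.isLocallyNoetherian t₁.left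
  exact Groth.Agent.H7.isLocallyNoetherian_of_fppf t₂.left

theorem koszul_of_quasi {S : Scheme.{u}} {Z X : AlgSp.Space S} (i : Z ⟶ X)
    (hX : AlgSp.IsLocNoethSp X.obj)
    (h : AlgSp.IsRegImmMor RegImm.Kind.quasi i.hom) :
    AlgSp.IsRegImmMor RegImm.Kind.koszul i.hom := by
  refine ⟨h.1, fun V W b fst snd hb sq => ?_⟩
  have : IsLocallyNoetherian V.left := isLocallyNoetherian_chart hX b hb
  have h1 := h.2 b fst snd hb sq
  have h2 := (Groth.Agent.S5003.result snd.left).2 h1
  exact (Groth.Agent.S8905.result snd.left).1 h2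


/-- For an immersion i : Z ⟶ X of algebraic spaces over S with X locally Noetherian (some etale
surjective chart is a locally Noetherian scheme), the three conditions Koszul-regular immersion,
H_1-regular immersion and quasi-regular immersion on i are equivalent. -/
theorem result {S : Scheme.{u}} {Z X : AlgSp.Space S} (i : Z ⟶ X) (hi : AlgSp.RepWith @IsImmersion i.hom)
    (hX : AlgSp.IsLocNoethSp X.obj) :
    (AlgSp.IsRegImmMor RegImm.Kind.koszul i.hom ↔ AlgSp.IsRegImmMor RegImm.Kind.h1 i.hom) ∧
      (AlgSp.IsRegImmMor RegImm.Kind.h1 i.hom ↔ AlgSp.IsRegImmMor RegImm.Kind.quasi i.hom) := by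
  have h60 := Groth.Agent.S10660.result i hi
  exact ⟨⟨h60.1, fun h => koszul_of_quasi i hX (h60.2 h)⟩,
    ⟨h60.2, fun h => h60.1 (koszul_of_quasi i hX h)⟩⟩

end Groth.Agent.S10661
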