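import Groth.Statements.S10663
import Groth.Agent.H56.RegImmCompKind
import Groth.Agent.H50.Basic
-- import your own Groth.Agent.* helpers here

set_option autoImplicit false
universe u
open CategoryTheory CategoryTheory.Limits AlgebraicGeometry
open AlgSp

namespace Groth.Agent.S10663


open Groth.Agent.H56.RegKindAppend Groth.Agent.H56.RegImmCompKind

/-- Composition of regular immersions of sheaves for the admissible triples of kinds. -/
theorem comp_sp {S : Scheme.{u}} {k₁ k₂ k : RegImm.Kind} (hk : CompKinds k₁ k₂ k)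
    {Z Y X : AlgSp.Sp S} (i : Z ⟶ Y) (j : Y ⟶ X)
    (hi : AlgSp.IsRegImmMor k₁ i) (hj : AlgSp.IsRegImmMor k₂ j) :
    AlgSp.IsRegImmMor k (i ≫ j) := by
  refine ⟨MorphismProperty.comp_mem _ _ _ hi.1 hj.1, ?_⟩
  intro V W b fst snd hb sq
  obtain ⟨YV, c, q, sqj⟩ : ∃ (YV : Over S) (c : (yon S).obj YV ⟶ Y) (q : YV ⟶ V),
      IsPullback c ((yon S).map q) j b := ⟨_, _, _, hj.1.isPullback b⟩
  have hc : AlgSp.RepWith @Etale c := Groth.Agent.H50.repWith_fst_of_isPullback sqj hb
  have hq : RegImm.IsRegularImmersion k₂ q.left := hj.2 b c q hb sqj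
  have hw : (fst ≫ i) ≫ j = (yon S).map snd ≫ b := by
    rw [Category.assoc]
    exact sq.w
  obtain ⟨l, hl⟩ := (yon S).map_surjective (sqj.lift (fst ≫ i) ((yon S).map snd) hw)
  have hl1 : (yon S).map l ≫ c = fst ≫ i := by
    rw [hl]
    exact sqj.lift_fst _ _ _
  have hl2 : l ≫ q = snd := by
    apply (yon S).map_injective
    rw [Functor.map_comp, hl]
    exact sqj.lift_snd _ _ _
  have sqt : IsPullback fst ((yon S).map l) i c := by
    refine IsPullback.of_bot ?_ hl1.symm sqj
    rw [← Functor.map_comp, hl2]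
    exact sq
  have hlreg : RegImm.IsRegularImmersion k₁ l.left := hi.2 c fst l hc sqt
  have hcomp := comp_kind hk q.left l.left hq hlreg
  show RegImm.IsRegularImmersion k snd.left
  rw [← hl2]
  exact hcomp


/-- For immersions i : Z ⟶ Y and j : Y ⟶ X of algebraic spaces over S, the composite i ≫ j is
Koszul-regular when i and j both are; likewise for H_1-regular; and it is quasi-regular when i is
H_1-regular and j quasi-regular. -/
theorem result {S : Scheme.{u}} {Z Y X : AlgSp.Space S} (i : Z ⟶ Y) (j : Y ⟶ X)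
    (hi : AlgSp.RepWith @IsImmersion i.hom) (hj : AlgSp.RepWith @IsImmersion j.hom) :
    (AlgSp.IsRegImmMor RegImm.Kind.koszul i.hom → AlgSp.IsRegImmMor RegImm.Kind.koszul j.hom →
        AlgSp.IsRegImmMor RegImm.Kind.koszul (i ≫ j).hom) ∧
      (AlgSp.IsRegImmMor RegImm.Kind.h1 i.hom → AlgSp.IsRegImmMor RegImm.Kind.h1 j.hom →
        AlgSp.IsRegImmMor RegImm.Kind.h1 (i ≫ j).hom) ∧
      (AlgSp.IsRegImmMor RegImm.Kind.h1 i.hom → AlgSp.IsRegImmMor RegImm.Kind.quasi j.hom →
        AlgSp.IsRegImmMor RegImm.Kind.quasi (i ≫ j).hom) := by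
  refine ⟨fun h1 h2 => ?_, fun h1 h2 => ?_, fun h1 h2 => ?_⟩
  · exact comp_sp CompKinds.koszul i.hom j.hom h1 h2
  · exact comp_sp CompKinds.h1 i.hom j.hom h1 h2
  · exact comp_sp CompKinds.quasi i.hom j.hom h1 h2

end Groth.Agent.S10663
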