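import Groth.Statements.S10664
import Groth.Agent.H56.LciAlgSp
-- import your own Groth.Agent.* helpers here

set_option autoImplicit false
universe u
open CategoryTheory CategoryTheory.Limits AlgebraicGeometry
open AlgSp

namespace Groth.Agent.S10664

/-- For a local complete intersection (Koszul) morphism f : X ⟶ Y of algebraic spaces over S, a smooth g
: P ⟶ Y, an etale e : U ⟶ X and a representable immersion i : U ⟶ P with i ≫ g = e ≫ f, the
immersion i is Koszul-regular as an immersion of algebraic spaces. -/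
theorem result {S : Scheme.{u}} {X Y P U : AlgSp.Space S} (f : X ⟶ Y) (g : P ⟶ Y) (e : U ⟶ X) (i : U ⟶ P)
    (hc : i ≫ g = e ≫ f) (hf : AlgSp.IsLCIMor f.hom) (hg : AlgSp.LocP @Smooth g.hom)
    (he : AlgSp.IsEtaleMor e.hom) (hi : AlgSp.RepWith @IsImmersion i.hom) :
    AlgSp.IsRegImmMor RegImm.Kind.koszul i.hom := by
  obtain ⟨W, c, hcW, hcs⟩ := Y.property.atlas
  have h1 : AlgSp.LocP AlgSp.lci (e.hom ≫ f.hom) := by
    intro T V a b h ha hb comm
    exact hf (a ≫ e.hom) b h (he a ha) hb (by rw [Category.assoc]; exact comm)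
  have h2 : AlgSp.LocP AlgSp.lci (i.hom ≫ g.hom) := by
    have h0 : i.hom ≫ g.hom = e.hom ≫ f.hom := congrArg (fun m => m.hom) hc
    rw [h0]
    exact h1
  have h3 : AlgSp.LocP AlgSp.lci i.hom :=
    Groth.Agent.H56.LciAlgSp.locP_lci_of_comp_smooth i.hom g.hom c hcW hcs hg h2
  refine ⟨hi.rep, ?_⟩
  intro V W' b fst snd hb sq
  show RegImm.IsRegularImmersion RegImm.Kind.koszul snd.left
  have hfst : AlgSp.RepWith @Etale fst := MorphismProperty.of_isPullback sq.flip hb
  have hlci : AlgSp.lci snd.left := h3 fst b snd hfst hb sq.w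
  have : IsImmersion snd.left := hi.2 b fst snd sq
  exact Groth.Agent.H56.LciSch.regImm_of_isLCIMor snd.left
    (Groth.Agent.H56.LciSch.isLCIMor_of_isKoszulAt _ hlci) (𝟙 _) snd.left (Category.comp_id _)

end Groth.Agent.S10664
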