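import Groth.Statements.S10665
import Groth.Agent.H56.LciAlgSp
-- import your own Groth.Agent.* helpers here

set_option autoImplicit false
universe u
open CategoryTheory CategoryTheory.Limits AlgebraicGeometry
open AlgSp

namespace Groth.Agent.S10665

/-- A Koszul-regular immersion between algebraic spaces over S (representable, Koszul-regular immersion
on every etale scheme chart of the target) is a local complete intersection morphism (Koszul at
every point, etale locally on source and target). -/
theorem result {S : Scheme.{u}} {X Y : AlgSp.Space S} (i : X ⟶ Y) (hi : AlgSp.IsRegImmMor RegImm.Kind.koszul i.hom) :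
    AlgSp.IsLCIMor i.hom := by
  intro U V a b h ha hb comm
  have hrep := hi.1
  have sqZ := hrep.isPullback b
  have hreg : RegImm.IsRegularImmersion RegImm.Kind.koszul (hrep.snd b).left :=
    hi.2 b (hrep.fst b) (hrep.snd b) hb sqZ
  have hfstZ : AlgSp.RepWith @Etale (hrep.fst b) := MorphismProperty.of_isPullback sqZ.flip hb
  obtain ⟨k, hk⟩ := (AlgSp.yon S).map_surjective (sqZ.lift a ((AlgSp.yon S).map h) comm)
  have hk1 : (AlgSp.yon S).map k ≫ hrep.fst b = a := by rw [hk, sqZ.lift_fst]
  have hk2 : k ≫ hrep.snd b = h := by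
    apply (AlgSp.yon S).map_injective
    rw [Functor.map_comp, hk, sqZ.lift_snd]
  have sqW := ha.rep.isPullback' (hrep.fst b)
  have hp2 : Etale (ha.rep.snd (hrep.fst b)).left := ha.property_snd (hrep.fst b)
  have hp1 : Etale (ha.rep.fst' (hrep.fst b)).left :=
    hfstZ.2 a ((AlgSp.yon S).map (ha.rep.snd (hrep.fst b))) _ sqW.flip
  obtain ⟨σ, hσ⟩ := (AlgSp.yon S).map_surjective
    (sqW.lift (𝟙 _) ((AlgSp.yon S).map k) (by rw [Category.id_comp, hk1]))
  have hσ1 : σ ≫ ha.rep.fst' (hrep.fst b) = 𝟙 U := by
    apply (AlgSp.yon S).map_injective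
    rw [Functor.map_comp, hσ, sqW.lift_fst]
    exact ((AlgSp.yon S).map_id U).symm
  have hσ2 : σ ≫ ha.rep.snd (hrep.fst b) = k := by
    apply (AlgSp.yon S).map_injective
    rw [Functor.map_comp, hσ, sqW.lift_snd]
  have := hp1
  have := hp2
  have : Etale (σ.left ≫ (ha.rep.fst' (hrep.fst b)).left) := by
    rw [← Over.comp_left, hσ1]
    show Etale (𝟙 U.left)
    infer_instance
  have : Etale σ.left := Etale.of_comp σ.left (ha.rep.fst' (hrep.fst b)).left
  have hket : Etale k.left := by
    rw [← hσ2, Over.comp_left]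
    infer_instance
  show ∀ x, Synt.IsKoszulAt h.left x
  rw [← hk2, Over.comp_left]
  exact Groth.Agent.H56.LciSch.koszul_comp k.left (hrep.snd b).left
    (Groth.Agent.H56.LciSch.koszul_of_smooth k.left)
    (Groth.Agent.H56.LciSch.isKoszulAt_of_isLCIMor _
      (Groth.Agent.H56.LciSch.isLCIMor_of_regularImmersion _ hreg))

end Groth.Agent.S10665
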