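import Groth.Statements.S10677
import Groth.Agent.H52.SL.Affine
import Groth.Agent.H52.QF.ClopenFinite

set_option autoImplicit false
universe u
open CategoryTheory CategoryTheory.Limits AlgebraicGeometry
open AlgSp

namespace Groth.Agent.S10677

open Groth.Agent.H50 Groth.Agent.H52 Groth.Agent.H52.SL Groth.Agent.H52.SL.Pieces

set_option maxHeartbeats 3200000 in
/-- For a separated morphism f : X ⟶ Y of algebraic spaces over S which is locally of finite type and a
point x of |X| with image y at which f is quasi-finite (some etale chart diagram through x has top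
arrow locally quasi-finite and locally of finite type on an open neighbourhood), there are an etale
morphism a : U ⟶ Y and a point u of |U| over y such that for the base change P = U ×_Y X there is an
open and closed subspace V ⊂ P, finite over U, containing a point mapping to x in |X| and to u in
|U|. -/
theorem result {S : Scheme.{u}} {X Y : AlgSp.Space S} (f : X ⟶ Y) (x : AlgSp.Points X.obj)
    (hf1 : AlgSp.LocP @LocallyOfFiniteType f.hom) (hf2 : AlgSp.IsSeparatedMor f.hom)
    (hf3 : AlgSp.HasAtMor (fun U _ h u => ∃ W : U.Opens, u ∈ W ∧ LocallyQuasiFinite (W.ι ≫ h) ∧ LocallyOfFiniteType (W.ι ≫ h)) f.hom x) :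
    ∃ (U : AlgSp.Space S) (a : U ⟶ Y) (u : AlgSp.Points U.obj), AlgSp.IsEtaleMor a.hom ∧
      AlgSp.Points.map a.hom u = AlgSp.Points.map f.hom x ∧
      ∀ (P : AlgSp.Space S) (prX : P ⟶ X) (prU : P ⟶ U), IsPullback prX.hom prU.hom f.hom a.hom →
        ∃ (V : AlgSp.Space S) (jV : V ⟶ P), AlgSp.RepWith @IsOpenImmersion jV.hom ∧ AlgSp.RepWith @IsClosedImmersion jV.hom ∧
          AlgSp.IsFiniteMor (jV ≫ prU).hom ∧
          ∃ v : AlgSp.Points V.obj, AlgSp.Points.map (jV ≫ prX).hom v = x ∧ AlgSp.Points.map (jV ≫ prU).hom v = u := by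
  obtain ⟨U0, V0, a0, b0, h, u0', ha0e, hb0e, hcomm, hx, W, hu0W, hlqf, hlft⟩ := hf3
  have hX : IsAlgSpace X.obj := X.property
  have hY : IsAlgSpace Y.obj := Y.property
  have hmul := AlgSp.repWith_isMultiplicative (S := S) @Etale
  -- an affine open `T` of `V0` through `h u0'`
  have hexT : ∃ T : V0.left.Opens, IsAffineOpen T ∧ h.left u0' ∈ T := by
    obtain ⟨_, ⟨T, hT, rfl⟩, hTmem, -⟩ := V0.left.isBasis_affineOpens.exists_subset_of_mem_open
      (Set.mem_univ (h.left u0')) isOpen_univ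
    exact ⟨T, hT, hTmem⟩
  obtain ⟨T, hT, hTmem⟩ := hexT
  -- an affine open `O` of `U0` through `u0'` inside `W ∩ h⁻¹ T`
  have hexO : ∃ O : U0.left.Opens, IsAffineOpen O ∧ u0' ∈ O ∧ O ≤ W ⊓ h.left ⁻¹ᵁ T := by
    obtain ⟨_, ⟨O, hO, rfl⟩, hu0O, hOsub⟩ := U0.left.isBasis_affineOpens.exists_subset_of_mem_open
      (show u0' ∈ ((W ⊓ h.left ⁻¹ᵁ T : U0.left.Opens) : Set ↥U0.left) from ⟨hu0W, hTmem⟩)
      (W ⊓ h.left ⁻¹ᵁ T).isOpen
    exact ⟨O, hO, hu0O, hOsub⟩
  obtain ⟨O, hO, hu0O, hOsub⟩ := hexO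
  have hOW : O ≤ W := fun z hz => (hOsub hz).1
  have hOT : O ≤ h.left ⁻¹ᵁ T := fun z hz => (hOsub hz).2
  let Uo : Over S := opensOver U0 O
  let To : Over S := opensOver V0 T
  haveI : IsAffine Uo.left := hO
  haveI : IsAffine To.left := hT
  let g0 : Uo.left ⟶ To.left := h.left.resLE T O hOT
  have hg0ι : g0 ≫ T.ι = O.ι ≫ h.left := Scheme.Hom.resLE_comp_ι _ _
  have hg0w : g0 ≫ To.hom = Uo.hom := by
    change g0 ≫ T.ι ≫ V0.hom = O.ι ≫ U0.hom
    rw [← Category.assoc, hg0ι, Category.assoc, Over.w h]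
  let g : Uo ⟶ To := Over.homMk g0 hg0w
  have hgι : opensOverι U0 O ≫ h = g ≫ opensOverι V0 T := by
    apply Over.OverMorphism.ext
    exact hg0ι.symm
  have hOfac : O.ι = U0.left.homOfLE hOW ≫ W.ι := (Scheme.homOfLE_ι _ _).symm
  haveI : LocallyQuasiFinite (W.ι ≫ h.left) := hlqf
  haveI : LocallyOfFiniteType (W.ι ≫ h.left) := hlft
  haveI hq1 : LocallyQuasiFinite (g0 ≫ T.ι) := by
    rw [hg0ι, hOfac, Category.assoc]; infer_instance
  haveI hq2 : LocallyOfFiniteType (g0 ≫ T.ι) := by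
    rw [hg0ι, hOfac, Category.assoc]; infer_instance
  haveI : LocallyQuasiFinite g.left := LocallyQuasiFinite.of_comp g0 T.ι
  haveI : LocallyOfFiniteType g.left := locallyOfFiniteType_of_comp g0 T.ι
  haveI : IsSeparated g.left := inferInstance
  let u0 : ↥Uo.left := ⟨u0', hu0O⟩
  -- the chart `a : h_Uo ⟶ X`
  let a : (yon S).obj Uo ⟶ X.obj := (yon S).map (opensOverι U0 O) ≫ a0
  have hae : RepWith @Etale a :=
    MorphismProperty.comp_mem _ _ _
      ((repWith_yon_map_iff @Etale _).2 (by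
        change Etale O.ι; infer_instance)) ha0e
  have hu0 : Points.ofPt a u0 = x := by
    rw [ofPt_yon_map_comp]; exact hx
  -- the chart `bT : h_To ⟶ Y`
  let bT : (yon S).obj To ⟶ Y.obj := (yon S).map (opensOverι V0 T) ≫ b0
  have hbTe : RepWith @Etale bT :=
    MorphismProperty.comp_mem _ _ _
      ((repWith_yon_map_iff @Etale _).2 (by
        change Etale T.ι; infer_instance)) hb0e
  have hag : a ≫ f.hom = (yon S).map g ≫ bT := by
    change ((yon S).map (opensOverι U0 O) ≫ a0) ≫ f.hom = (yon S).map g ≫ (yon S).map (opensOverι V0 T) ≫ b0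
    rw [Category.assoc, hcomm, ← Category.assoc, ← Functor.map_comp, hgι, Functor.map_comp, Category.assoc]
  obtain ⟨Y1, e0, VV, v, hY1, he0, hvVV, hfin, hvu, huniq, hrad⟩ :=
    exists_etale_split g.left u0 (g.left.quasiFiniteAt u0)
  haveI : IsAffine Y1 := hY1
  haveI : Etale e0 := he0
  let Y1o : Over S := Over.mk (e0 ≫ To.hom)
  let e : Y1o ⟶ To := Over.homMk e0 rfl
  haveI : IsAffine Y1o.left := hY1
  haveI : Etale e.left := he0
  have hY1a : IsAlgSpace ((yon S).obj Y1o) := IsAlgSpace.yon_obj Y1o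
  let c : (yon S).obj Y1o ⟶ Y.obj := (yon S).map e ≫ bT
  have hce : RepWith @Etale c :=
    MorphismProperty.comp_mem _ _ _ ((repWith_yon_map_iff @Etale _).2 he0) hbTe
  -- the finite piece as a scheme over `S`
  let Vo : Over S := Over.mk ((VV.ι ≫ pullback.fst g.left e0) ≫ Uo.hom)
  let k1 : Vo ⟶ Uo := Over.homMk (VV.ι ≫ pullback.fst g.left e0) rfl
  have hw : (VV.ι ≫ pullback.snd g.left e0) ≫ Y1o.hom = Vo.hom := by
    change (VV.ι ≫ pullback.snd g.left e0) ≫ e0 ≫ To.hom = (VV.ι ≫ pullback.fst g.left e0) ≫ Uo.hom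
    rw [← Over.w g]
    simp only [Category.assoc]
    rw [← pullback.condition_assoc]
  let w : Vo ⟶ Y1o := Over.homMk (VV.ι ≫ pullback.snd g.left e0) hw
  have hk1w : k1 ≫ g = w ≫ e := by
    apply Over.OverMorphism.ext
    change (VV.ι ≫ pullback.fst g.left e0) ≫ g.left = (VV.ι ≫ pullback.snd g.left e0) ≫ e0
    simp only [Category.assoc]
    rw [pullback.condition]
  haveI : IsFinite w.left := hfin
  -- the base change of `X`
  let P1 : Sp S := pullback f.hom c
  let p2 : P1 ⟶ X.obj := pullback.fst _ _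
  let p1 : P1 ⟶ (yon S).obj Y1o := pullback.snd _ _
  have sq : IsPullback p2 p1 f.hom c := IsPullback.of_hasPullback _ _
  have hP1 : IsAlgSpace P1 := isAlgSpace_of_isPullback sq hY.diag hX hY1a
  have hsep1 : IsSeparatedMor p1 :=
    Groth.Agent.H32.GoodMore.isSeparatedMor_of_isPullback (X := X) (Y := Y)
      (Y' := ⟨(yon S).obj Y1o, hY1a⟩) (X' := ⟨P1, hP1⟩) f
      (ObjectProperty.homMk c) (ObjectProperty.homMk p2) (ObjectProperty.homMk p1) sq hf2
  have hbcond : ((yon S).map k1 ≫ a) ≫ f.hom = (yon S).map w ≫ c := by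
    change ((yon S).map k1 ≫ a) ≫ f.hom = (yon S).map w ≫ (yon S).map e ≫ bT
    rw [Category.assoc, hag, ← Category.assoc, ← Functor.map_comp, hk1w, Functor.map_comp, Category.assoc]
  let b : (yon S).obj Vo ⟶ P1 := sq.lift ((yon S).map k1 ≫ a) ((yon S).map w) hbcond
  have hb2 : b ≫ p2 = (yon S).map k1 ≫ a := sq.lift_fst _ _ _
  have hb1 : b ≫ p1 = (yon S).map w := sq.lift_snd _ _ _
  have hp2e : RepWith @Etale p2 := by
    have := AlgSp.repWith_isStableUnderBaseChange (S := S) @Etale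
    exact MorphismProperty.of_isPullback sq.flip hce
  have hk1e : Etale k1.left := by
    change Etale (VV.ι ≫ pullback.fst g.left e0)
    infer_instance
  have hb2e : RepWith @Etale (b ≫ p2) := by
    rw [hb2]
    exact MorphismProperty.comp_mem _ _ _ ((repWith_yon_map_iff @Etale _).2 hk1e) hae
  have hbe : RepWith @Etale b :=
    repWith_of_isEtaleMor b (Groth.Agent.H51.isEtaleMor_of_comp (IsAlgSpace.yon_obj Vo) hP1 hX b p2
      (SL.isEtaleMor_of_repWith _ hb2e) (SL.isEtaleMor_of_repWith _ hp2e))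
  -- the injective open piece
  let vv : ↥Vo.left := ⟨v, hvVV⟩
  obtain ⟨VN, hvVN, hVN⟩ := exists_open_mono hP1 p1 hsep1 w b hbe hb1 vv
    (by
      intro v' hv'
      apply Subtype.ext
      exact huniq v'.1 v'.2 hv')
    (by
      intro K _ α β hαβ hα hβ
      have := hrad K (α ≫ VV.ι) (β ≫ VV.ι) (by rw [Category.assoc, Category.assoc]; exact hαβ)
        (fun z => by
          have := hα z
          change (VV.ι) (α z) = v
          rw [this]; rfl)
        (fun z => by
          have := hβ z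
          change (VV.ι) (β z) = v
          rw [this]; rfl)
      exact (cancel_mono VV.ι).1 this)
  -- shrink `Y1` around `y1 := w vv`
  let y1 : ↥Y1o.left := w.left vv
  have hclosed : IsClosed (w.left '' ((VN : Set ↥Vo.left)ᶜ)) :=
    w.left.isClosedMap _ VN.isOpen.isClosed_compl
  have hy1 : y1 ∈ (w.left '' ((VN : Set ↥Vo.left)ᶜ))ᶜ := by
    rintro ⟨v', hv', hv'e⟩
    have : v' = vv := by
      apply Subtype.ext
      exact huniq v'.1 v'.2 hv'e
    exact hv' (this ▸ hvVN)
  have hexY : ∃ Y1' : Y1o.left.Opens, IsAffineOpen Y1' ∧ y1 ∈ Y1' ∧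
      (Y1' : Set ↥Y1o.left) ⊆ (w.left '' ((VN : Set ↥Vo.left)ᶜ))ᶜ := by
    obtain ⟨_, ⟨Y1', hY1', rfl⟩, hmem, hsub⟩ := Y1o.left.isBasis_affineOpens.exists_subset_of_mem_open
      hy1 hclosed.isOpen_compl
    exact ⟨Y1', hY1', hmem, hsub⟩
  obtain ⟨Y1', hY1'aff, hy1mem, hY1'sub⟩ := hexY
  let Y1'o : Over S := opensOver Y1o Y1'
  let ι' : Y1'o ⟶ Y1o := opensOverι Y1o Y1'
  haveI : IsAffine Y1'o.left := hY1'aff
  let VV' : Vo.left.Opens := w.left ⁻¹ᵁ Y1'
  have hVV'VN : VV' ≤ VN := by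
    intro z hz
    by_contra hzn
    exact hY1'sub hz ⟨z, hzn, rfl⟩
  let V'o : Over S := opensOver Vo VV'
  let w'0 : V'o.left ⟶ Y1'o.left := w.left ∣_ Y1'
  have hw'ι : w'0 ≫ Y1'.ι = VV'.ι ≫ w.left := morphismRestrict_ι _ _
  have hw'w : w'0 ≫ Y1'o.hom = V'o.hom := by
    change w'0 ≫ Y1'.ι ≫ Y1o.hom = VV'.ι ≫ Vo.hom
    rw [← Category.assoc, hw'ι, Category.assoc, Over.w w]
  let w' : V'o ⟶ Y1'o := Over.homMk w'0 hw'w
  haveI : IsFinite w'.left := by
    change IsFinite (w.left ∣_ Y1')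
    infer_instance
  have hw'sq : opensOverι Vo VV' ≫ w = w' ≫ ι' := by
    apply Over.OverMorphism.ext
    exact hw'ι.symm
  -- the answer
  let Uf : AlgSp.Space S := ⟨(yon S).obj Y1'o, IsAlgSpace.yon_obj Y1'o⟩
  let af0 : (yon S).obj Y1'o ⟶ Y.obj := (yon S).map ι' ≫ c
  have haf0e : RepWith @Etale af0 :=
    MorphismProperty.comp_mem _ _ _
      ((repWith_yon_map_iff @Etale _).2 (by change Etale Y1'.ι; infer_instance)) hce
  let af : Uf ⟶ Y := ObjectProperty.homMk af0
  let u1 : ↥Y1'o.left := ⟨y1, hy1mem⟩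
  have hvv' : vv ∈ VV' := hy1mem
  refine ⟨Uf, af, Points.ofScheme Y1'o u1, SL.isEtaleMor_of_repWith _ haf0e, ?_, ?_⟩
  · -- the point `u` lies over `y`
    rw [← hx]
    change Points.ofPt (𝟙 _ ≫ (yon S).map ι' ≫ (yon S).map e ≫ (yon S).map (opensOverι V0 T) ≫ b0) u1 =
      Points.ofPt (a0 ≫ f.hom) u0'
    rw [Category.id_comp, hcomm, ← Functor.map_comp_assoc, ← Functor.map_comp_assoc,
      ofPt_yon_map_comp, ofPt_yon_map_comp]
    congr 1
    have hmor : (VV.ι ≫ pullback.snd g.left e0) ≫ e0 ≫ T.ι =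
        (VV.ι ≫ pullback.fst g.left e0) ≫ O.ι ≫ h.left := by
      have hgl : g.left ≫ T.ι = O.ι ≫ h.left := hg0ι
      rw [Category.assoc, ← pullback.condition_assoc, hgl, Category.assoc]
    have h2 : (VV.ι ≫ pullback.fst g.left e0) vv = u0 := hvu
    calc T.ι (e0 (Y1'.ι u1)) = ((VV.ι ≫ pullback.snd g.left e0) ≫ e0 ≫ T.ι) vv := rfl
      _ = ((VV.ι ≫ pullback.fst g.left e0) ≫ O.ι ≫ h.left) vv := by rw [hmor]
      _ = h.left (O.ι ((VV.ι ≫ pullback.fst g.left e0) vv)) := rfl
      _ = h.left u0' := by rw [h2]; rfl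
  · intro P prX prU sqP
    have hP : IsAlgSpace P.obj := P.property
    have hafc : af.hom = (yon S).map ι' ≫ c := rfl
    -- the comparison `q : P ⟶ P1`
    let q : P.obj ⟶ P1 := sq.lift prX.hom (prU.hom ≫ (yon S).map ι') (by
      rw [sqP.w, hafc, Category.assoc])
    have hq2 : q ≫ p2 = prX.hom := sq.lift_fst _ _ _
    have hq1 : q ≫ p1 = prU.hom ≫ (yon S).map ι' := sq.lift_snd _ _ _
    have sqTop : IsPullback prU.hom q ((yon S).map ι') p1 := by
      refine IsPullback.of_bot ?_ hq1.symm sq.flip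
      rw [hq2]
      exact sqP.flip
    have hqopen : RepWith @IsOpenImmersion q := by
      have := AlgSp.repWith_isStableUnderBaseChange (S := S) @IsOpenImmersion
      exact MorphismProperty.of_isPullback sqTop
        ((repWith_yon_map_iff @IsOpenImmersion _).2 (by change IsOpenImmersion Y1'.ι; infer_instance))
    haveI hqmono : Mono q :=
      Groth.Agent.H50.mono_of_repWith (fun _ _ g (hg : IsOpenImmersion g) => (inferInstance : Mono g)) hqopen
    -- the clopen piece
    have hjcond : ((yon S).map (opensOverι Vo VV' ≫ k1) ≫ a) ≫ f.hom = (yon S).map w' ≫ af.hom := by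
      calc ((yon S).map (opensOverι Vo VV' ≫ k1) ≫ a) ≫ f.hom
          = (yon S).map (opensOverι Vo VV') ≫ (((yon S).map k1 ≫ a) ≫ f.hom) := by
            simp only [Functor.map_comp, Category.assoc]
        _ = (yon S).map (opensOverι Vo VV') ≫ (yon S).map w ≫ c := by rw [hbcond]
        _ = (yon S).map (opensOverι Vo VV' ≫ w) ≫ c := by rw [Functor.map_comp, Category.assoc]
        _ = (yon S).map (w' ≫ ι') ≫ c := by rw [hw'sq]
        _ = (yon S).map w' ≫ af.hom := by rw [Functor.map_comp, Category.assoc, hafc]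
    let jV : (yon S).obj V'o ⟶ P.obj :=
      sqP.lift ((yon S).map (opensOverι Vo VV' ≫ k1) ≫ a) ((yon S).map w') hjcond
    have hjV2 : jV ≫ prX.hom = (yon S).map (opensOverι Vo VV' ≫ k1) ≫ a := sqP.lift_fst _ _ _
    have hjV1 : jV ≫ prU.hom = (yon S).map w' := sqP.lift_snd _ _ _
    have hjVq : jV ≫ q = (yon S).map (opensOverι Vo VV') ≫ b := by
      apply sq.hom_ext
      · rw [Category.assoc, hq2, hjV2, Category.assoc, hb2, Functor.map_comp, Category.assoc]
      · rw [Category.assoc, hq1, ← Category.assoc, hjV1, Category.assoc, hb1, ← Functor.map_comp,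
          ← Functor.map_comp, hw'sq]
    -- `h_{VV'} ⟶ P1` is an open immersion
    let incl : V'o ⟶ opensOver Vo VN := Over.homMk (Vo.left.homOfLE hVV'VN) (by
      change Vo.left.homOfLE hVV'VN ≫ VN.ι ≫ Vo.hom = VV'.ι ≫ Vo.hom
      rw [← Category.assoc, Scheme.homOfLE_ι])
    have hincl : incl ≫ opensOverι Vo VN = opensOverι Vo VV' := by
      apply Over.OverMorphism.ext
      exact Scheme.homOfLE_ι _ hVV'VN
    have hjb' : RepWith @IsOpenImmersion ((yon S).map (opensOverι Vo VV') ≫ b) := by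
      have := AlgSp.repWith_isMultiplicative (S := S) @IsOpenImmersion
      rw [← hincl, Functor.map_comp, Category.assoc]
      exact MorphismProperty.comp_mem _ _ _
        ((repWith_yon_map_iff @IsOpenImmersion _).2 (by
          change IsOpenImmersion (Vo.left.homOfLE hVV'VN); infer_instance)) hVN
    have sqJ : IsPullback (𝟙 ((yon S).obj V'o)) jV ((yon S).map (opensOverι Vo VV') ≫ b) q :=
      IsPullback.of_horiz_isIso_mono ⟨by rw [Category.id_comp, hjVq]⟩
    have hjVopen : RepWith @IsOpenImmersion jV := by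
      have := AlgSp.repWith_isStableUnderBaseChange (S := S) @IsOpenImmersion
      exact MorphismProperty.of_isPullback sqJ hjb'
    let Vf : AlgSp.Space S := ⟨(yon S).obj V'o, IsAlgSpace.yon_obj V'o⟩
    let jVm : Vf ⟶ P := ObjectProperty.homMk jV
    have hsepU : IsSeparatedMor prU.hom :=
      Groth.Agent.H32.GoodMore.isSeparatedMor_of_isPullback f af prX prU sqP hf2
    have hfinU : IsFiniteMor (jVm ≫ prU).hom := by
      change IsFiniteMor (jV ≫ prU.hom)
      rw [hjV1]
      exact (Groth.Agent.S10267.result (X := Vf) (Y := Uf) (ObjectProperty.homMk ((yon S).map w'))).2.2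
        ((repWith_yon_map_iff @IsFinite w').2 inferInstance)
    let v'' : ↥V'o.left := ⟨vv, hvv'⟩
    refine ⟨Vf, jVm, hjVopen, Groth.Agent.H52.QF.repWith_isClosedImmersion_of_open_of_finite jVm prU
      hjVopen hsepU hfinU, hfinU, Points.ofScheme V'o v'', ?_, ?_⟩
    · refine (Points.map_ofPt (𝟙 _) _ _).trans ?_
      change Points.ofPt (𝟙 _ ≫ jV ≫ prX.hom) v'' = x
      rw [Category.id_comp, hjV2]
      refine (ofPt_yon_map_comp (opensOverι Vo VV' ≫ k1) a _).trans ?_
      rw [← hu0]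
      congr 1
    · refine (Points.map_ofPt (𝟙 _) _ _).trans ?_
      change Points.ofPt (𝟙 _ ≫ jV ≫ prU.hom) v'' = Points.ofPt (𝟙 _) u1
      rw [Category.id_comp, hjV1, ← Category.comp_id ((yon S).map w')]
      refine (ofPt_yon_map_comp w' (𝟙 _) _).trans ?_
      congr 1
      apply Subtype.ext
      change (w'0 ≫ Y1'.ι) v'' = y1
      rw [hw'ι]
      rfl

end Groth.Agent.S10677
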