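import Groth.Statements.S10679
import Groth.Agent.S10678
import Groth.Agent.S0404
import Groth.Agent.S10180
import Groth.Agent.H9.FibDimTarget
import Groth.Agent.H52.QC
import Groth.Agent.H50.Basic

set_option autoImplicit false
universe u
open CategoryTheory CategoryTheory.Limits AlgebraicGeometry
open AlgSp

namespace Groth.Agent.S10679

theorem eq_of_forall_le_iff (a b : WithBot ℕ∞) (h0 : a = ⊥ ↔ b = ⊥)
    (h : ∀ n : ℕ, a ≤ (n : WithBot ℕ∞) ↔ b ≤ (n : WithBot ℕ∞)) : a = b := by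
  induction a using WithBot.recBotCoe with
  | bot => exact (h0.1 rfl).symm
  | coe a =>
    induction b using WithBot.recBotCoe with
    | bot => exact absurd (h0.2 rfl) WithBot.coe_ne_bot
    | coe b =>
      congr 1
      apply le_antisymm
      · induction b using ENat.recTopCoe with
        | top => exact le_top
        | coe m =>
          have h1 : ((a : ℕ∞) : WithBot ℕ∞) ≤ (((m : ℕ) : ℕ∞) : WithBot ℕ∞) :=
            (h m).2 (le_refl (((m : ℕ) : ℕ∞) : WithBot ℕ∞))
          exact WithBot.coe_le_coe.1 h1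
      · induction a using ENat.recTopCoe with
        | top => exact le_top
        | coe m =>
          have h1 : ((b : ℕ∞) : WithBot ℕ∞) ≤ (((m : ℕ) : ℕ∞) : WithBot ℕ∞) :=
            (h m).1 (le_refl (((m : ℕ) : ℕ∞) : WithBot ℕ∞))
          exact WithBot.coe_le_coe.1 h1

theorem dim_fiber_eq_bot_iff {X Y : Scheme.{u}} (f : X ⟶ Y) (y : Y) :
    topologicalKrullDim (f.fiber y) = ⊥ ↔ y ∉ Set.range f.base := by
  constructor
  · rintro h ⟨x, rfl⟩
    have h1 := Groth.Agent.H9.FibDim.localDim_le_dim (f.fiber (f.base x)) (f.asFiber x)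
    rw [h] at h1
    exact Groth.Agent.H9.FibDim.localDim_ne_bot _ _ (le_bot_iff.1 h1)
  · intro h
    rw [Groth.Agent.S5792.result, iSup_eq_bot]
    intro z
    have hz : f.fiberι y z ∈ Set.range (f.fiberι y) := Set.mem_range_self z
    rw [f.range_fiberι y] at hz
    exact (h ⟨f.fiberι y z, hz⟩).elim

/-- For a flat morphism f : X ⟶ Y of algebraic spaces over S which is of finite presentation, the fibre
dimension function on |Y|, y ↦ dimension of X_k for a field point k in the class of y, is lower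
semi-continuous: for every d the set of y such that every fibre X_k over y (k a field point in the
class of y, X_k any pullback in fppf sheaves) has dimension greater than d is open. -/
theorem result {S : Scheme.{u}} {X Y : AlgSp.Space S} (f : X ⟶ Y)
    (hf1 : AlgSp.LocP @Flat f.hom) (hf2 : AlgSp.IsFinitePresentationMor f.hom) (d : WithBot ℕ∞) :
    IsOpen {y : AlgSp.Points Y.obj | ∀ (k : AlgSp.FieldPt Y.obj), AlgSp.Points.mk k = y →
      ∀ (Xk : AlgSp.Sp S) (fst : Xk ⟶ X.obj) (snd : Xk ⟶ (AlgSp.yon S).obj k.pt),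
        IsPullback fst snd f.hom k.toHom → d < AlgSp.dim Xk} := by
  have hX := X.property
  have hY := Y.property
  have hft : AlgSp.IsFiniteTypeMor f.hom := by
    refine ⟨?_, hf2.2.1⟩
    intro U V a b h ha hb comm
    haveI : LocallyOfFinitePresentation h.left := hf2.1 a b h ha hb comm
    infer_instance
  have L0 : ∀ y : AlgSp.Points Y.obj, ∃ (k : AlgSp.FieldPt Y.obj) (Xk : AlgSp.Sp S)
      (fst : Xk ⟶ X.obj) (snd : Xk ⟶ (AlgSp.yon S).obj k.pt),
      AlgSp.Points.mk k = y ∧ IsPullback fst snd f.hom k.toHom := by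
    intro y
    obtain ⟨k, rfl⟩ := AlgSp.Points.mk_surjective y
    exact ⟨k, _, _, _, rfl, IsPullback.of_hasPullback f.hom k.toHom⟩
  rw [isOpen_iff_forall_mem_open]
  intro y hyA
  -- an affine etale chart of `Y` through `y`
  obtain ⟨V₀, q, hqe, hqs⟩ := hY.atlas
  obtain ⟨v₀, hv₀⟩ := Groth.Agent.H52.surjective_ofPt_of_surjective q hqs y
  obtain ⟨O, hO, hv₀O, -⟩ : ∃ O : V₀.left.Opens, O ∈ V₀.left.affineOpens ∧ v₀ ∈ O ∧
      O ≤ (⊤ : V₀.left.Opens) :=
    (TopologicalSpace.Opens.isBasis_iff_nbhd.1 V₀.left.isBasis_affineOpens)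
      (show v₀ ∈ (⊤ : V₀.left.Opens) from trivial)
  let V₁ : Over S := Over.mk (O.ι ≫ V₀.hom)
  let ι : V₁ ⟶ V₀ := Over.homMk O.ι rfl
  haveI hV₁aff : IsAffine V₁.left := hO
  have hb : AlgSp.RepWith @Etale ((AlgSp.yon S).map ι ≫ q) :=
    Groth.Agent.H52.repWith_yon_map_comp @Etale ι (inferInstanceAs (Etale O.ι)) q hqe
  have hvy : AlgSp.Points.ofPt ((AlgSp.yon S).map ι ≫ q) (⟨v₀, hv₀O⟩ : O) = y := by
    rw [Groth.Agent.H52.ofPt_yon_map_comp]
    exact hv₀
  generalize (AlgSp.yon S).map ι ≫ q = b at hb hvy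
  generalize (⟨v₀, hv₀O⟩ : O) = v at hvy
  -- the base change of `X` to the chart and an affine chart of it
  have sqP := IsPullback.of_hasPullback f.hom b
  have hP : AlgSp.IsAlgSpace (pullback f.hom b) :=
    Groth.Agent.H52.isAlgSpace_of_isPullback sqP hY.diag hX (AlgSp.IsAlgSpace.yon_obj _)
  have hqcP : AlgSp.IsQuasiCompactSp (pullback f.hom b) :=
    hf2.2.1 (AlgSp.IsAlgSpace.yon_obj V₁) (Groth.Agent.H52.isQuasiCompactSp_yon V₁) b _ _ sqP
  obtain ⟨U₁, p, hU₁aff, hpe, hps⟩ :=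
    (Groth.Agent.S10180.result (S := S) ⟨pullback f.hom b, hP⟩).1 hqcP
  change (AlgSp.yon S).obj U₁ ⟶ pullback f.hom b at p
  obtain ⟨h₁, hh₁⟩ := (AlgSp.yon S).map_surjective (p ≫ pullback.snd f.hom b)
  haveI := AlgSp.repWith_isMultiplicative (S := S) @Etale
  have hfst : AlgSp.RepWith @Etale (pullback.fst f.hom b) :=
    Groth.Agent.H50.repWith_fst_of_isPullback sqP hb
  have hc : AlgSp.RepWith @Etale (p ≫ pullback.fst f.hom b) :=
    (AlgSp.RepWith @Etale).comp_mem _ _ hpe hfst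
  have comm : (p ≫ pullback.fst f.hom b) ≫ f.hom = (AlgSp.yon S).map h₁ ≫ b := by
    rw [Category.assoc, sqP.w, ← Category.assoc, hh₁]
  haveI : Flat h₁.left := hf1 _ b h₁ hc hb comm
  haveI : LocallyOfFinitePresentation h₁.left := hf2.1 _ b h₁ hc hb comm
  -- lifting points
  have Down : ∀ u : ↥U₁.left, AlgSp.Points.map f.hom
      (AlgSp.Points.ofPt (p ≫ pullback.fst f.hom b) u) = AlgSp.Points.ofPt b (h₁.left u) := by
    intro u
    rw [AlgSp.Points.map_ofPt, comm, Groth.Agent.H52.ofPt_yon_map_comp]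
  have Lift : ∀ (x : AlgSp.Points X.obj) (v' : ↥V₁.left),
      AlgSp.Points.map f.hom x = AlgSp.Points.ofPt b v' →
      ∃ u : ↥U₁.left, AlgSp.Points.ofPt (p ≫ pullback.fst f.hom b) u = x ∧ h₁.left u = v' := by
    intro x v' hxv
    rw [AlgSp.Points.ofPt_eq_map_ofScheme] at hxv
    obtain ⟨z, hz1, hz2⟩ := Groth.Agent.H50.exists_point_of_isPullback sqP x _ hxv
    obtain ⟨u, hu⟩ := Groth.Agent.H52.surjective_ofPt_of_surjective p hps z
    refine ⟨u, ?_, ?_⟩
    · rw [← AlgSp.Points.map_ofPt, hu, hz1]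
    · apply Groth.Agent.H52.ofScheme_injective V₁
      rw [← Groth.Agent.H52.map_yon_map_ofScheme, hh₁, AlgSp.Points.map_comp,
        ← AlgSp.Points.ofPt_eq_map_ofScheme, hu, hz2]
  -- the dimension of a fibre of `f` is the dimension of the fibre of the chart
  have claim : ∀ (v' : ↥V₁.left) (k : AlgSp.FieldPt Y.obj)
      (_ : AlgSp.Points.mk k = AlgSp.Points.ofPt b v') (Xk : AlgSp.Sp S) (fst : Xk ⟶ X.obj)
      (snd : Xk ⟶ (AlgSp.yon S).obj k.pt) (_ : IsPullback fst snd f.hom k.toHom),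
      AlgSp.dim Xk = topologicalKrullDim (h₁.left.fiber v') := by
    intro v' k hk Xk fst snd hpb
    have K := Groth.Agent.S10678.result f hft _ k hk Xk fst snd hpb
    apply eq_of_forall_le_iff
    · rw [K.1, dim_fiber_eq_bot_iff]
      constructor
      · rintro hx ⟨u, hu⟩
        exact hx ⟨_, (Down u).trans (congrArg _ hu)⟩
      · rintro hv ⟨x, hx⟩
        obtain ⟨u, -, hu⟩ := Lift x v' hx
        exact hv ⟨u, hu⟩
    · intro n
      rw [K.2 n, Groth.Agent.H9.FibDim.dim_fiber_le_iff]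
      constructor
      · intro H u hu
        obtain ⟨U', V', a', b', k', u'', ha', hb', comm', hu'', hle⟩ :=
          H _ ((Down u).trans (congrArg _ hu))
        rw [Groth.Agent.H52.fibreDimAt_eq_of_charts f.hom _ b h₁ hc hb comm a' b' k' ha' hb'
          comm' u u'' hu''.symm]
        exact hle
      · intro H x hx
        obtain ⟨u, hu1, hu2⟩ := Lift x v' hx
        exact ⟨U₁, V₁, _, b, h₁, u, hc, hb, comm, hu1, H u hu2⟩
  refine ⟨AlgSp.Points.ofPt b '' {v' : ↥V₁.left | d < topologicalKrullDim (h₁.left.fiber v')},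
    ?_, ?_, ?_⟩
  · rintro _ ⟨v', hv', rfl⟩ k hk Xk fst snd hpb
    rw [claim v' k hk Xk fst snd hpb]
    exact hv'
  · exact Groth.Agent.H52.isOpenMap_ofPt_of_etale b hb _ (Groth.Agent.S0404.result h₁.left d)
  · refine ⟨v, ?_, hvy⟩
    obtain ⟨k₀, Xk₀, fst₀, snd₀, hk₀, h₀⟩ := L0 y
    have h1 := hyA k₀ hk₀ Xk₀ fst₀ snd₀ h₀
    rw [claim v k₀ (hk₀.trans hvy.symm) Xk₀ fst₀ snd₀ h₀] at h1
    exact h1

end Groth.Agent.S10679
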