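import Groth.Statements.S10680
import Groth.Agent.S10678
import Groth.Agent.H9.FibDimTop
import Groth.Agent.H52.Topology

set_option autoImplicit false
universe u
open CategoryTheory CategoryTheory.Limits AlgebraicGeometry
open AlgSp

namespace Groth.Agent.S10680

theorem lt_succ_iff' (x : WithBot ℕ∞) (n : ℕ) :
    x < (((n + 1 : ℕ) : ℕ∞) : WithBot ℕ∞) ↔ x ≤ ((n : ℕ) : WithBot ℕ∞) := by
  show x < _ ↔ x ≤ (((n : ℕ) : ℕ∞) : WithBot ℕ∞)
  induction x using WithBot.recBotCoe with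
  | bot => exact ⟨fun _ => bot_le, fun _ => WithBot.bot_lt_coe _⟩
  | coe a =>
    rw [WithBot.coe_lt_coe, WithBot.coe_le_coe]
    induction a using ENat.recTopCoe with
    | top => simp
    | coe m => rw [Nat.cast_lt, Nat.cast_le]; omega

theorem lt_zero_iff' (x : WithBot ℕ∞) : x < (((0 : ℕ) : ℕ∞) : WithBot ℕ∞) ↔ x = ⊥ := by
  induction x using WithBot.recBotCoe with
  | bot => exact ⟨fun _ => rfl, fun _ => WithBot.bot_lt_coe _⟩
  | coe a =>
    constructor
    · intro h
      rw [WithBot.coe_lt_coe] at h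
      simp at h
    · intro h
      exact absurd h WithBot.coe_ne_bot

theorem lt_top_iff' (x : WithBot ℕ∞) :
    x < ((⊤ : ℕ∞) : WithBot ℕ∞) ↔ ∃ n : ℕ, x < (((n : ℕ) : ℕ∞) : WithBot ℕ∞) := by
  induction x using WithBot.recBotCoe with
  | bot => exact ⟨fun _ => ⟨0, WithBot.bot_lt_coe _⟩, fun _ => WithBot.bot_lt_coe _⟩
  | coe a =>
    induction a using ENat.recTopCoe with
    | top =>
      constructor
      · intro h; exact absurd h (lt_irrefl _)
      · rintro ⟨n, hn⟩
        rw [WithBot.coe_lt_coe] at hn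
        exact absurd hn not_top_lt
    | coe m =>
      constructor
      · intro _
        exact ⟨m + 1, WithBot.coe_lt_coe.2 (Nat.cast_lt.2 (Nat.lt_succ_self m))⟩
      · intro _
        exact WithBot.coe_lt_coe.2 (ENat.coe_lt_top m)

/-- The locus of relative dimension at most `n`. -/
def relDimLe {S : Scheme.{u}} {X Y : AlgSp.Space S} (f : X ⟶ Y) (n : ℕ) :
    Set (AlgSp.Points X.obj) :=
  {x | AlgSp.HasAtMor (fun _ _ h u => FlatMor.fibreDimAt h u ≤ (n : WithBot ℕ∞)) f.hom x}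

theorem isOpen_relDimLe {S : Scheme.{u}} {X Y : AlgSp.Space S} (f : X ⟶ Y)
    (hft : AlgSp.LocP @LocallyOfFiniteType f.hom) (n : ℕ) : IsOpen (relDimLe f n) := by
  rw [isOpen_iff_forall_mem_open]
  rintro x ⟨U, V, a, b, h, u, ha, hb, comm, hu, hle⟩
  haveI : LocallyOfFiniteType h.left := hft a b h ha hb comm
  refine ⟨AlgSp.Points.ofPt a '' {u' | FlatMor.fibreDimAt h.left u' ≤ (n : WithBot ℕ∞)}, ?_, ?_, ?_⟩
  · rintro _ ⟨u', hu', rfl⟩
    exact ⟨U, V, a, b, h, u', ha, hb, comm, rfl, hu'⟩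
  · exact Groth.Agent.H52.isOpenMap_ofPt_of_etale a ha _
      (Groth.Agent.H9.FibDim.isOpen_setOf_fibreDimAt_le h.left n)
  · exact ⟨u, hle, hu⟩

/-- For a proper morphism f : X ⟶ Y between algebraic spaces over S the fibre dimension function on |Y|
is upper semi-continuous: for every d the set of y such that every fibre X_k over y (k a field point
in the class of y, X_k any pullback in fppf sheaves) has dimension less than d is open. -/
theorem result {S : Scheme.{u}} {X Y : AlgSp.Space S} (f : X ⟶ Y) (hf : AlgSp.IsProperMor f.hom) (d : WithBot ℕ∞) :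
    IsOpen {y : AlgSp.Points Y.obj | ∀ (k : AlgSp.FieldPt Y.obj), AlgSp.Points.mk k = y →
      ∀ (Xk : AlgSp.Sp S) (fst : Xk ⟶ X.obj) (snd : Xk ⟶ (AlgSp.yon S).obj k.pt),
        IsPullback fst snd f.hom k.toHom → AlgSp.dim Xk < d} := by
  have hX := X.property
  have hY := Y.property
  have hft : AlgSp.IsFiniteTypeMor f.hom := hf.2.1
  have hclosed : IsClosedMap (AlgSp.Points.map f.hom) :=
    hf.2.2 hY (𝟙 _) (𝟙 _) f.hom (IsPullback.of_horiz_isIso ⟨by simp⟩)
  have L0 : ∀ y : AlgSp.Points Y.obj, ∃ (k : AlgSp.FieldPt Y.obj) (Xk : AlgSp.Sp S)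
      (fst : Xk ⟶ X.obj) (snd : Xk ⟶ (AlgSp.yon S).obj k.pt),
      AlgSp.Points.mk k = y ∧ IsPullback fst snd f.hom k.toHom := by
    intro y
    obtain ⟨k, rfl⟩ := AlgSp.Points.mk_surjective y
    exact ⟨k, _, _, _, rfl, IsPullback.of_hasPullback f.hom k.toHom⟩
  have K := fun (y : AlgSp.Points Y.obj) (k : AlgSp.FieldPt Y.obj) (hk : AlgSp.Points.mk k = y)
      (Xk : AlgSp.Sp S) (fst : Xk ⟶ X.obj) (snd : Xk ⟶ (AlgSp.yon S).obj k.pt)
      (h : IsPullback fst snd f.hom k.toHom) =>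
    Groth.Agent.S10678.result f hft y k hk Xk fst snd h
  -- finite bounds
  have hfin : ∀ m : ℕ, IsOpen {y : AlgSp.Points Y.obj | ∀ (k : AlgSp.FieldPt Y.obj),
      AlgSp.Points.mk k = y → ∀ (Xk : AlgSp.Sp S) (fst : Xk ⟶ X.obj)
        (snd : Xk ⟶ (AlgSp.yon S).obj k.pt), IsPullback fst snd f.hom k.toHom →
        AlgSp.dim Xk < (((m : ℕ) : ℕ∞) : WithBot ℕ∞)} := by
    intro m
    cases m with
    | zero =>
      have hset : {y : AlgSp.Points Y.obj | ∀ (k : AlgSp.FieldPt Y.obj),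
          AlgSp.Points.mk k = y → ∀ (Xk : AlgSp.Sp S) (fst : Xk ⟶ X.obj)
          (snd : Xk ⟶ (AlgSp.yon S).obj k.pt), IsPullback fst snd f.hom k.toHom →
          AlgSp.dim Xk < (((0 : ℕ) : ℕ∞) : WithBot ℕ∞)} =
          (Set.range (AlgSp.Points.map f.hom))ᶜ := by
        ext y
        simp only [Set.mem_setOf_eq, Set.mem_compl_iff]
        constructor
        · intro hy
          obtain ⟨k, Xk, fst, snd, hk, h⟩ := L0 y
          exact (K y k hk Xk fst snd h).1.1 ((lt_zero_iff' _).1 (hy k hk Xk fst snd h))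
        · intro hy k hk Xk fst snd h
          exact (lt_zero_iff' _).2 ((K y k hk Xk fst snd h).1.2 hy)
      rw [hset]
      exact hclosed.isClosed_range.isOpen_compl
    | succ n =>
      have hset : {y : AlgSp.Points Y.obj | ∀ (k : AlgSp.FieldPt Y.obj),
          AlgSp.Points.mk k = y → ∀ (Xk : AlgSp.Sp S) (fst : Xk ⟶ X.obj)
          (snd : Xk ⟶ (AlgSp.yon S).obj k.pt), IsPullback fst snd f.hom k.toHom →
          AlgSp.dim Xk < (((n + 1 : ℕ) : ℕ∞) : WithBot ℕ∞)} =
          (AlgSp.Points.map f.hom '' (relDimLe f n)ᶜ)ᶜ := by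
        ext y
        simp only [Set.mem_setOf_eq, Set.mem_compl_iff, Set.mem_image, not_exists, not_and]
        constructor
        · intro hy x hx hxy
          obtain ⟨k, Xk, fst, snd, hk, h⟩ := L0 y
          have h1 := (lt_succ_iff' _ _).1 (hy k hk Xk fst snd h)
          exact hx (((K y k hk Xk fst snd h).2 n).1 h1 x hxy)
        · intro hy k hk Xk fst snd h
          refine (lt_succ_iff' _ _).2 (((K y k hk Xk fst snd h).2 n).2 ?_)
          intro x hxy
          by_contra hx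
          exact hy x hx hxy
      rw [hset]
      exact (hclosed _ (isOpen_relDimLe f hft.1 n).isClosed_compl).isOpen_compl
  induction d using WithBot.recBotCoe with
  | bot =>
    convert isOpen_empty
    rw [Set.eq_empty_iff_forall_notMem]
    intro y hy
    obtain ⟨k, Xk, fst, snd, hk, h⟩ := L0 y
    exact not_lt_bot (hy k hk Xk fst snd h)
  | coe d =>
    induction d using ENat.recTopCoe with
    | top =>
      have hset : {y : AlgSp.Points Y.obj | ∀ (k : AlgSp.FieldPt Y.obj),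
          AlgSp.Points.mk k = y → ∀ (Xk : AlgSp.Sp S) (fst : Xk ⟶ X.obj)
          (snd : Xk ⟶ (AlgSp.yon S).obj k.pt), IsPullback fst snd f.hom k.toHom →
          AlgSp.dim Xk < ((⊤ : ℕ∞) : WithBot ℕ∞)} =
          ⋃ m : ℕ, {y : AlgSp.Points Y.obj | ∀ (k : AlgSp.FieldPt Y.obj),
          AlgSp.Points.mk k = y → ∀ (Xk : AlgSp.Sp S) (fst : Xk ⟶ X.obj)
          (snd : Xk ⟶ (AlgSp.yon S).obj k.pt), IsPullback fst snd f.hom k.toHom →
          AlgSp.dim Xk < (((m : ℕ) : ℕ∞) : WithBot ℕ∞)} := by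
        ext y
        simp only [Set.mem_setOf_eq, Set.mem_iUnion]
        constructor
        · intro hy
          obtain ⟨k₀, Xk₀, fst₀, snd₀, hk₀, h₀⟩ := L0 y
          obtain ⟨n₀, hn₀⟩ := (lt_top_iff' _).1 (hy k₀ hk₀ Xk₀ fst₀ snd₀ h₀)
          have hP := ((K y k₀ hk₀ Xk₀ fst₀ snd₀ h₀).2 n₀).1 (le_of_lt hn₀)
          refine ⟨n₀ + 1, fun k hk Xk fst snd h => ?_⟩
          exact (lt_succ_iff' _ _).2 (((K y k hk Xk fst snd h).2 n₀).2 hP)
        · rintro ⟨n, hn⟩ k hk Xk fst snd h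
          exact (hn k hk Xk fst snd h).trans (WithBot.coe_lt_coe.2 (ENat.coe_lt_top n))
      rw [hset]
      exact isOpen_iUnion hfin
    | coe m => exact hfin m

end Groth.Agent.S10680
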