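import Groth.Statements.S10686
import Groth.Agent.H51.Reduced
import Groth.Agent.H52.MonoPt
import Groth.Agent.H52.FieldPts
import Groth.Agent.H52.LocPBC
import Groth.Agent.H52.FibProd
import Groth.Agent.H52.QC
import Groth.Agent.H52.EtLocalInst

set_option autoImplicit false
universe u
open CategoryTheory CategoryTheory.Limits AlgebraicGeometry
open AlgSp

namespace Groth.Agent.S10686

open Groth.Agent.H52

variable {S : Scheme.{u}}

/-- The fibre of `f` over the field point `k` is reduced (for every choice of fibre product). -/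
def R3 {X Y : AlgSp.Space S} (f : X ⟶ Y) (k : AlgSp.FieldPt Y.obj) : Prop :=
  ∀ (Xk : AlgSp.Sp S) (a : Xk ⟶ X.obj) (b : Xk ⟶ (AlgSp.yon S).obj k.pt), IsPullback a b f.hom k.toHom →
    AlgSp.EtaleLocally (fun U => IsReduced U) Xk

/-- Reducedness of the fibre descends along extensions of the field of definition. -/
theorem R3_of_restrict {X Y : AlgSp.Space S} (f : X ⟶ Y) (k : AlgSp.FieldPt Y.obj) {Ω : Type u} [Field Ω]
    {w : Spec (CommRingCat.of Ω) ⟶ S} (c : Over.mk w ⟶ k.pt) (h : R3 f (restrict k c)) : R3 f k := by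
  intro Xk a b sq
  have hXk : IsAlgSpace Xk := isAlgSpace_of_isPullback sq Y.property.diag X.property (IsAlgSpace.yon_obj _)
  have sq2 := IsPullback.of_hasPullback b ((AlgSp.yon S).map c)
  have sq3 : IsPullback (pullback.fst b ((AlgSp.yon S).map c) ≫ a) (pullback.snd b ((AlgSp.yon S).map c))
      f.hom (restrict k c).toHom := by
    rw [toHom_restrict]
    exact (sq2.flip.paste_vert sq.flip).flip
  have hred := h _ _ _ sq3
  have : Nonempty ↥(Over.mk w).left :=
    ⟨(IsLocalRing.closedPoint Ω : PrimeSpectrum Ω)⟩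
  obtain ⟨hfl, hsurj⟩ := flat_surjective_to_field (k := k.K) c.left
  have hflat : LocP @Flat ((AlgSp.yon S).map c) := locP_flat_yon_map c
  have hs : Function.Surjective (Points.map ((AlgSp.yon S).map c)) := by
    intro z
    obtain ⟨t, rfl⟩ := (Points.schemeEquiv k.pt).surjective z
    obtain ⟨t', ht'⟩ := hsurj.surj t
    exact ⟨Points.ofScheme _ t', by rw [map_yon_map_ofScheme, ht']; rfl⟩
  have hflat' : LocP @Flat (pullback.fst b ((AlgSp.yon S).map c)) :=
    locP_baseChange etLocal_flat (IsAlgSpace.yon_obj _) (IsAlgSpace.yon_obj _) hXk sq2.flip hflat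
  have hsurj' : IsSurjectiveMor (pullback.fst b ((AlgSp.yon S).map c)) :=
    surjective_map_fst_of_isPullback sq2 hs
  exact Groth.Agent.H51.isReducedSp_of_flat_surjective hXk _ hflat' hsurj' hred

/-- For a morphism f : X ⟶ Y between algebraic spaces over S and a point y of |Y|, write X_k for the
fibre (pullback in fppf sheaves) over a field point k of Y and call X_k geometrically reduced when
for every field homomorphism k ⟶ k' the base change X_{k'} is reduced (some etale surjective scheme
chart reduced). The following are equivalent: (1) X_k is geometrically reduced for some k in the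
class of y; (2) X_k is geometrically reduced for every k in the class of y; (3) X_k is reduced for
every k in the class of y. -/
theorem result {S : Scheme.{u}} {X Y : AlgSp.Space S} (f : X ⟶ Y) (y : AlgSp.Points Y.obj) :
    [∃ (k : AlgSp.FieldPt Y.obj), AlgSp.Points.mk k = y ∧
        ∀ (k' : Type u) [Field k'] (φ : k.K →+* k') (Xk' : AlgSp.Sp S) (a : Xk' ⟶ X.obj)
          (b : Xk' ⟶ (AlgSp.yon S).obj (Over.mk (Spec.map (CommRingCat.ofHom φ) ≫ k.str))),
          IsPullback a b f.hom ((AlgSp.yon S).map (Over.homMk (Spec.map (CommRingCat.ofHom φ)) rfl :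
            Over.mk (Spec.map (CommRingCat.ofHom φ) ≫ k.str) ⟶ k.pt) ≫ k.toHom) →
          AlgSp.EtaleLocally (fun U => IsReduced U) Xk',
      ∀ (k : AlgSp.FieldPt Y.obj), AlgSp.Points.mk k = y →
        ∀ (k' : Type u) [Field k'] (φ : k.K →+* k') (Xk' : AlgSp.Sp S) (a : Xk' ⟶ X.obj)
          (b : Xk' ⟶ (AlgSp.yon S).obj (Over.mk (Spec.map (CommRingCat.ofHom φ) ≫ k.str))),
          IsPullback a b f.hom ((AlgSp.yon S).map (Over.homMk (Spec.map (CommRingCat.ofHom φ)) rfl :
            Over.mk (Spec.map (CommRingCat.ofHom φ) ≫ k.str) ⟶ k.pt) ≫ k.toHom) →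
          AlgSp.EtaleLocally (fun U => IsReduced U) Xk',
      ∀ (k : AlgSp.FieldPt Y.obj), AlgSp.Points.mk k = y →
        ∀ (Xk : AlgSp.Sp S) (a : Xk ⟶ X.obj) (b : Xk ⟶ (AlgSp.yon S).obj k.pt), IsPullback a b f.hom k.toHom →
          AlgSp.EtaleLocally (fun U => IsReduced U) Xk].TFAE := by
  -- the morphism of schemes over `S` attached to a field extension
  have key : ∀ (k : AlgSp.FieldPt Y.obj) (k' : Type u) [Field k'] (φ : k.K →+* k'),
      (AlgSp.yon S).map (Over.homMk (Spec.map (CommRingCat.ofHom φ)) rfl :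
        Over.mk (Spec.map (CommRingCat.ofHom φ) ≫ k.str) ⟶ k.pt) ≫ k.toHom =
      (restrict k (Over.homMk (Spec.map (CommRingCat.ofHom φ)) rfl :
        Over.mk (Spec.map (CommRingCat.ofHom φ) ≫ k.str) ⟶ k.pt)).toHom :=
    fun k k' _ φ => (toHom_restrict k _).symm
  tfae_have 1 → 2 := by
    rintro ⟨k₁, hk₁, G₁⟩ k₂ hk₂ k' _ φ Xk' a b sq
    rw [key] at sq
    set k₂' := restrict k₂ (Over.homMk (Spec.map (CommRingCat.ofHom φ)) rfl :
        Over.mk (Spec.map (CommRingCat.ofHom φ) ≫ k₂.str) ⟶ k₂.pt) with hk₂'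
    have hmk : Points.mk k₂' = Points.mk k₁ := by rw [hk₂', mk_restrict, hk₂, hk₁]
    obtain ⟨Ω, _, w, α, β, hαβ⟩ := Points.mk_eq_mk_iff.mp hmk
    have hres : restrict k₂' α = restrict k₁ β := by
      unfold restrict
      congr 1
    suffices R3 f k₂' from this Xk' a b sq
    apply R3_of_restrict f k₂' α
    rw [hres]
    have hψ : Spec.map (Spec.preimage β.left) = β.left := Spec.map_preimage _
    have hw : w = Spec.map (Spec.preimage β.left) ≫ k₁.str := by
      rw [hψ]; exact (Over.w β).symm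
    generalize Spec.preimage β.left = ψ at hψ hw
    subst hw
    have hβ : β = (Over.homMk (Spec.map (CommRingCat.ofHom ψ.hom)) rfl :
        Over.mk (Spec.map (CommRingCat.ofHom ψ.hom) ≫ k₁.str) ⟶ k₁.pt) := by
      ext
      exact hψ.symm
    intro Xk a' b' sq'
    rw [hβ, ← key] at sq'
    exact G₁ Ω ψ.hom Xk a' b' sq'
  tfae_have 2 → 3 := by
    intro h k hk
    apply R3_of_restrict f k (Over.homMk (Spec.map (CommRingCat.ofHom (RingHom.id k.K))) rfl :
        Over.mk (Spec.map (CommRingCat.ofHom (RingHom.id k.K)) ≫ k.str) ⟶ k.pt)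
    intro Xk a b sq
    rw [← key] at sq
    exact h k hk k.K (RingHom.id _) Xk a b sq
  tfae_have 3 → 1 := by
    intro h
    obtain ⟨k, rfl⟩ : ∃ k, Points.mk k = y := Quotient.exists_rep y
    refine ⟨k, rfl, fun k' _ φ Xk' a b sq => ?_⟩
    rw [key] at sq
    exact h (restrict k _) (mk_restrict k _) Xk' a b sq
  tfae_finish

end Groth.Agent.S10686
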