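import Groth.Statements.S10683
import Groth.Agent.S1301
import Groth.Agent.S10686
import Groth.Agent.H52.GR.Sch
import Groth.Agent.H52.FD.Lqf
import Groth.Agent.H52.QC

set_option autoImplicit false
universe u
open CategoryTheory CategoryTheory.Limits AlgebraicGeometry
open AlgSp

namespace Groth.Agent.S10683

/-- For a quasi-compact morphism f : X ⟶ Y between algebraic spaces over S which is locally of finite
presentation, the set E of points of |Y| at which the fibre of f is geometrically reduced is etale
locally constructible: for every affine scheme V with a representable etale a : h_V ⟶ Y, the inverse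
image of E in V is a constructible subset. Here the fibre of f at y being geometrically reduced
means: for every field point k of Y in the class of y and every field homomorphism k ⟶ k', the base
change X_{k'} (pullback in fppf sheaves) is reduced (some etale surjective scheme chart is reduced). -/
theorem result {S : Scheme.{u}} {X Y : AlgSp.Space S} (f : X ⟶ Y)
    (hf1 : AlgSp.IsQuasiCompactMor f.hom) (hf2 : AlgSp.LocP @LocallyOfFinitePresentation f.hom)
    (V : Over S) (hV : IsAffine V.left) (a : (AlgSp.yon S).obj V ⟶ Y.obj) (ha : AlgSp.RepWith @Etale a) :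
    Topology.IsConstructible ((AlgSp.Points.ofPt a) ⁻¹' {y : AlgSp.Points Y.obj | ∀ (k : AlgSp.FieldPt Y.obj), AlgSp.Points.mk k = y →
        ∀ (k' : Type u) [Field k'] (φ : k.K →+* k') (Xk' : AlgSp.Sp S) (a : Xk' ⟶ X.obj)
          (b : Xk' ⟶ (AlgSp.yon S).obj (Over.mk (Spec.map (CommRingCat.ofHom φ) ≫ k.str))),
          IsPullback a b f.hom ((AlgSp.yon S).map (Over.homMk (Spec.map (CommRingCat.ofHom φ)) rfl :
            Over.mk (Spec.map (CommRingCat.ofHom φ) ≫ k.str) ⟶ k.pt) ≫ k.toHom) →
          AlgSp.EtaleLocally (fun U => IsReduced U) Xk'}) := by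
  have hX := X.property
  have hY := Y.property
  have hVsp : IsAlgSpace ((yon S).obj V) := IsAlgSpace.yon_obj V
  haveI : IsAffine V.left := hV
  have instE2 := AlgSp.repWith_isMultiplicative (S := S) @Etale
  -- the base change `X_V` and a quasi-compact etale surjective chart of it
  have sqA := IsPullback.of_hasPullback f.hom a
  have hXVqc : IsQuasiCompactSp (pullback f.hom a) :=
    hf1 hVsp (Groth.Agent.H52.isQuasiCompactSp_yon V) a _ _ sqA
  obtain ⟨U, p, hpe, hps, hUc⟩ := hXVqc
  haveI : CompactSpace ↥U.left := hUc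
  obtain ⟨g, hg⟩ := (yon S).map_surjective (p ≫ pullback.snd f.hom a)
  have hπ₁e : RepWith @Etale (pullback.fst f.hom a) := Groth.Agent.H50.repWith_fst_of_isPullback sqA ha
  have hp1 : RepWith @Etale (p ≫ pullback.fst f.hom a) := (RepWith @Etale).comp_mem _ _ hpe hπ₁e
  haveI : LocallyOfFinitePresentation g.left :=
    hf2 (p ≫ pullback.fst f.hom a) a g hp1 ha (by rw [Category.assoc, sqA.w, ← Category.assoc, hg])
  haveI : QuasiCompact g.left := Groth.Agent.H52.FD.quasiCompact_of_compactSpace_of_isAffine g.left
  have hcons := (Groth.Agent.S1301.result g.left).isConstructible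
  convert hcons using 1
  ext v
  simp only [Set.mem_preimage, Set.mem_setOf_eq]
  rw [Groth.Agent.H52.GR.geometricallyReduced_fibre_iff]
  -- the field point of `Y` attached to `v`
  set kv : FieldPt Y.obj := FieldPt.ofPt a v with hkv
  let ρ : kv.pt ⟶ V := Over.homMk (V.left.fromSpecResidueField v) rfl
  have hρ : kv.toHom = (yon S).map ρ ≫ a := FieldPt.toHom_ofPt a v
  -- the common chart construction
  have key : ∀ (K : Type u) [Field K] (φ : kv.K →+* K) (XT : Sp S) (a' : XT ⟶ X.obj)
      (b' : XT ⟶ (yon S).obj (Over.mk (Spec.map (CommRingCat.ofHom φ) ≫ kv.str))),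
      IsPullback a' b' f.hom ((yon S).map (Over.homMk (Spec.map (CommRingCat.ofHom φ)) rfl :
        Over.mk (Spec.map (CommRingCat.ofHom φ) ≫ kv.str) ⟶ kv.pt) ≫ kv.toHom) →
      ∃ (UT : Over S) (r : (yon S).obj UT ⟶ XT), RepWith @Etale r ∧ RepWith @Surjective r ∧
        UT.left = pullback g.left (Spec.map (CommRingCat.ofHom φ) ≫ V.left.fromSpecResidueField v) := by
    intro K _ φ XT a' b' sqB
    let T : Over S := Over.mk (Spec.map (CommRingCat.ofHom φ) ≫ kv.str)
    let c₀ : T ⟶ kv.pt := Over.homMk (Spec.map (CommRingCat.ofHom φ)) rfl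
    let c : T ⟶ V := c₀ ≫ ρ
    have hc : (yon S).map c₀ ≫ kv.toHom = (yon S).map c ≫ a := by
      rw [hρ, Functor.map_comp, Category.assoc]
    rw [hc] at sqB
    have hw : pullback.snd g.left c.left ≫ T.hom = pullback.fst g.left c.left ≫ U.hom := by
      rw [← Over.w c, ← Over.w g, ← Category.assoc, ← Category.assoc, pullback.condition]
    let UT : Over S := Over.mk (pullback.fst g.left c.left ≫ U.hom)
    let d₁ : UT ⟶ U := Over.homMk (pullback.fst g.left c.left) rfl
    let d₂ : UT ⟶ T := Over.homMk (pullback.snd g.left c.left) hw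
    have hpb : IsPullback d₁.left d₂.left g.left c.left := IsPullback.of_hasPullback g.left c.left
    have commO : d₁ ≫ g = d₂ ≫ c := by
      ext
      exact pullback.condition
    have sqD : IsPullback d₁ d₂ g c := IsPullback.of_map (Over.forget S) commO hpb
    obtain ⟨r, hre, hrs⟩ := Groth.Agent.H52.GR.exists_chart_baseChange f.hom a sqA p hpe hps g hg c sqB
      d₁ d₂ sqD
    exact ⟨UT, r, hre, hrs, rfl⟩
  constructor
  · intro h K _ φ
    have sq0 := IsPullback.of_hasPullback f.hom ((yon S).map (Over.homMk (Spec.map (CommRingCat.ofHom φ)) rfl :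
        Over.mk (Spec.map (CommRingCat.ofHom φ) ≫ kv.str) ⟶ kv.pt) ≫ kv.toHom)
    obtain ⟨UT, r, hre, -, hUT⟩ := key K φ _ _ _ sq0
    have hred := h kv rfl K φ _ _ _ sq0
    have := Groth.Agent.H52.GR.isReduced_of_etale_of_reducedSp r hre hred
    rw [hUT] at this
    exact this
  · intro h
    have h01 := (Groth.Agent.S10686.result f (Points.ofPt a v)).out 0 1
    refine h01.1 ⟨kv, rfl, ?_⟩
    intro K _ φ XT a' b' sqB
    obtain ⟨UT, r, hre, hrs, hUT⟩ := key K φ XT a' b' sqB
    refine ⟨UT, r, hre, hrs, ?_⟩
    rw [hUT]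
    exact h K φ

end Groth.Agent.S10683
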