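import Groth.Statements.S10687
import Groth.Agent.H52.GorSp
import Groth.Agent.H25.TrdegCharts

set_option autoImplicit false
universe u
open CategoryTheory CategoryTheory.Limits AlgebraicGeometry
open AlgSp

namespace Groth.Agent.S10687
open Groth.Agent.H52

/-- For morphisms f : X ⟶ Y and g : Y ⟶ Z between algebraic spaces over S whose fibres, and those of f ≫
g, are locally Noetherian, and a point x of |X|: (1) if g is Gorenstein at the image of x and f is
Gorenstein at x itself, then so is f ≫ g at x; (2) if f ≫ g is Gorenstein at x and f is flat there,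
then f is Gorenstein at x and g at the image of x. Here f is Gorenstein at x when in every etale
chart diagram through x the top arrow is Gorenstein at the point over x (flat there, with Gorenstein
local ring of its fibre), and the fibres of a morphism are locally Noetherian when every fibre over
a field point (pullback in fppf sheaves) is a locally Noetherian algebraic space. -/
theorem result {S : Scheme.{u}} {X Y Z : AlgSp.Space S} (f : X ⟶ Y) (g : Y ⟶ Z)
    (hf : ∀ (k : AlgSp.FieldPt Y.obj) (Xk : AlgSp.Sp S) (a : Xk ⟶ X.obj) (b : Xk ⟶ (AlgSp.yon S).obj k.pt),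
        IsPullback a b f.hom k.toHom → AlgSp.IsLocNoethSp Xk)
    (hg : ∀ (k : AlgSp.FieldPt Z.obj) (Xk : AlgSp.Sp S) (a : Xk ⟶ Y.obj) (b : Xk ⟶ (AlgSp.yon S).obj k.pt),
        IsPullback a b g.hom k.toHom → AlgSp.IsLocNoethSp Xk)
    (hfg : ∀ (k : AlgSp.FieldPt Z.obj) (Xk : AlgSp.Sp S) (a : Xk ⟶ X.obj) (b : Xk ⟶ (AlgSp.yon S).obj k.pt),
        IsPullback a b (f ≫ g).hom k.toHom → AlgSp.IsLocNoethSp Xk)
    (x : AlgSp.Points X.obj) :
    (AlgSp.LocPAt (fun h u => Dual3.IsGorensteinAt h u) f.hom x → AlgSp.LocPAt (fun h u => Dual3.IsGorensteinAt h u) g.hom (AlgSp.Points.map f.hom x) →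
        AlgSp.LocPAt (fun h u => Dual3.IsGorensteinAt h u) (f ≫ g).hom x) ∧
      (AlgSp.LocPAt (fun h u => Dual3.IsGorensteinAt h u) (f ≫ g).hom x → AlgSp.IsFlatAtMor f.hom x →
        AlgSp.LocPAt (fun h u => Dual3.IsGorensteinAt h u) f.hom x ∧ AlgSp.LocPAt (fun h u => Dual3.IsGorensteinAt h u) g.hom (AlgSp.Points.map f.hom x)) := by
  have hX := X.property
  have hY := Y.property
  have hZ := Z.property
  obtain ⟨V, W, b, c, l, v, hb, hc, comm2, hv⟩ :=
    exists_chart_diagram_at hY hZ g.hom (AlgSp.Points.map f.hom x)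
  obtain ⟨U₀, a₀, u₀, -, ha₀, hu₀⟩ := exists_affine_chart_at hX x
  obtain ⟨U, a, k, u, ha, comm1, hau, hku⟩ :=
    Groth.Agent.H25.TrdegCharts.exists_chart_over f.hom a₀ ha₀ b hb u₀ v (by rw [hu₀, hv])
  have hxu : AlgSp.Points.ofPt a u = x := hau.trans hu₀
  have commA : a ≫ (f ≫ g).hom = (AlgSp.yon S).map (k ≫ l) ≫ c := by
    show a ≫ (f.hom ≫ g.hom) = _
    rw [← Category.assoc, comm1, Category.assoc, comm2, Functor.map_comp, Category.assoc]
  have fk := isLocallyNoetherian_fiber_chart hX hY f.hom hf a b k ha hb comm1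
  have fl := isLocallyNoetherian_fiber_chart hY hZ g.hom hg b c l hb hc comm2
  have fkl := isLocallyNoetherian_fiber_chart hX hZ (f ≫ g).hom hfg a c (k ≫ l) ha hc commA
  have key := Groth.Agent.S3627.result U.left V.left W.left k.left l.left fk fl fkl u
  refine ⟨fun h1 h2 => ?_, fun h3 h4 => ?_⟩
  · refine locPAt_gor_of_one_chart hX hZ (f ≫ g).hom hfg x a c (k ≫ l) ha hc commA u hxu ?_
    exact key.1 (h1 a b k u ha hb comm1 hxu) (by rw [hku]; exact h2 b c l v hb hc comm2 hv)
  · have h5 := key.2 (h3 a c (k ≫ l) u ha hc commA hxu) (h4 a b k u ha hb comm1 hxu)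
    refine ⟨locPAt_gor_of_one_chart hX hY f.hom hf x a b k ha hb comm1 u hxu h5.1,
      locPAt_gor_of_one_chart hY hZ g.hom hg _ b c l hb hc comm2 v hv ?_⟩
    rw [← hku]; exact h5.2

end Groth.Agent.S10687
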