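import Groth.Statements.S10688
import Groth.Agent.H52.GorSp

set_option autoImplicit false
universe u
open CategoryTheory CategoryTheory.Limits AlgebraicGeometry
open AlgSp

namespace Groth.Agent.S10688
open Groth.Agent.H52

/-- For a morphism f : X ⟶ Y between algebraic spaces over S with locally Noetherian fibres, g : Y' ⟶ Y
locally of finite type, f' : X' ⟶ Y' the base change (a pullback square of algebraic spaces) with
projection g' : X' ⟶ X, and x' a point of |X'| with image x: (1) if f is Gorenstein at x then so is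
f' at x'; (2) when f is flat at x, Gorensteinness of f' at x' implies that of f at x; (3) the same
conclusion holds if instead g is flat at the image of x' and f' is Gorenstein at x'. Here f is
Gorenstein at x when in every etale chart diagram through x the top arrow is Gorenstein at the point
over x (flat there, with Gorenstein local ring of its fibre), and the fibres of a morphism are
locally Noetherian when every fibre over a field point (pullback in fppf sheaves) is a locally
Noetherian algebraic space. -/
theorem result {S : Scheme.{u}} {X Y X' Y' : AlgSp.Space S} (f : X ⟶ Y) (g : Y' ⟶ Y) (g' : X' ⟶ X) (f' : X' ⟶ Y')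
    (hsq : IsPullback g'.hom f'.hom f.hom g.hom)
    (hf : ∀ (k : AlgSp.FieldPt Y.obj) (Xk : AlgSp.Sp S) (a : Xk ⟶ X.obj) (b : Xk ⟶ (AlgSp.yon S).obj k.pt),
        IsPullback a b f.hom k.toHom → AlgSp.IsLocNoethSp Xk)
    (hg : AlgSp.LocP @LocallyOfFiniteType g.hom) (x' : AlgSp.Points X'.obj) :
    (AlgSp.LocPAt (fun h u => Dual3.IsGorensteinAt h u) f.hom (AlgSp.Points.map g'.hom x') → AlgSp.LocPAt (fun h u => Dual3.IsGorensteinAt h u) f'.hom x') ∧
      (AlgSp.IsFlatAtMor f.hom (AlgSp.Points.map g'.hom x') → AlgSp.LocPAt (fun h u => Dual3.IsGorensteinAt h u) f'.hom x' →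
        AlgSp.LocPAt (fun h u => Dual3.IsGorensteinAt h u) f.hom (AlgSp.Points.map g'.hom x')) ∧
      (AlgSp.IsFlatAtMor g.hom (AlgSp.Points.map f'.hom x') → AlgSp.LocPAt (fun h u => Dual3.IsGorensteinAt h u) f'.hom x' →
        AlgSp.LocPAt (fun h u => Dual3.IsGorensteinAt h u) f.hom (AlgSp.Points.map g'.hom x')) := by
  have hX := X.property
  have hY := Y.property
  have hX' := X'.property
  have hY' := Y'.property
  have hf' : LocNoethFibres f'.hom := locNoethFibres_baseChange hsq hf
  -- common step: from a chart of `f` through the image of `x'`, a base changed chart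
  have step : ∀ {U V : Over S} (a : (AlgSp.yon S).obj U ⟶ X.obj) (b : (AlgSp.yon S).obj V ⟶ Y.obj)
      (h : U ⟶ V) (u : ↥U.left), AlgSp.RepWith @Etale a → AlgSp.RepWith @Etale b →
      a ≫ f.hom = (AlgSp.yon S).map h ≫ b → AlgSp.Points.ofPt a u = AlgSp.Points.map g'.hom x' →
      ∃ (U' V' : Over S) (a' : (AlgSp.yon S).obj U' ⟶ X'.obj) (b' : (AlgSp.yon S).obj V' ⟶ Y'.obj)
        (h' : U' ⟶ V') (gV : V' ⟶ V) (u' : ↥U'.left),
        AlgSp.RepWith @Etale a' ∧ AlgSp.RepWith @Etale b' ∧ a' ≫ f'.hom = (AlgSp.yon S).map h' ≫ b' ∧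
        AlgSp.Points.ofPt a' u' = x' ∧ AlgSp.RepWith @Etale b' ∧
        b' ≫ g.hom = (AlgSp.yon S).map gV ≫ b ∧
        ((Dual3.IsGorensteinAt h.left u → Dual3.IsGorensteinAt h'.left u') ∧
          ((h.left.stalkMap u).hom.Flat → Dual3.IsGorensteinAt h'.left u' →
            Dual3.IsGorensteinAt h.left u) ∧
          ((gV.left.stalkMap (h'.left u')).hom.Flat → Dual3.IsGorensteinAt h'.left u' →
            Dual3.IsGorensteinAt h.left u)) := by
    intro U V a b h u ha hb comm hu
    obtain ⟨U', V', a', b', h', π, gV, u', ha', hb', comm', hu', hπu, hpb, -, hc2⟩ :=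
      exists_chart_diagram_baseChange hY hY' hsq x' a b h ha hb comm u hu
    have : LocallyOfFiniteType gV.left := hg b' b gV hb' hb hc2
    have fh := isLocallyNoetherian_fiber_chart hX hY f.hom hf a b h ha hb comm
    have key := Groth.Agent.S3625.result U.left V.left U'.left V'.left h.left gV.left h'.left π.left
      hpb fh u'
    rw [hπu] at key
    exact ⟨U', V', a', b', h', gV, u', ha', hb', comm', hu', hb', hc2, key⟩
  refine ⟨fun h1 => ?_, fun hfl h2 => ?_, fun hfl h2 => ?_⟩
  · obtain ⟨U, V, a, b, h, u, ha, hb, comm, hu⟩ :=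
      exists_chart_diagram_at hX hY f.hom (AlgSp.Points.map g'.hom x')
    obtain ⟨U', V', a', b', h', gV, u', ha', hb', comm', hu', -, -, key⟩ :=
      step a b h u ha hb comm hu
    exact locPAt_gor_of_one_chart hX' hY' f'.hom hf' x' a' b' h' ha' hb' comm' u' hu'
      (key.1 (h1 a b h u ha hb comm hu))
  · intro U V a b h u ha hb comm hu
    obtain ⟨U', V', a', b', h', gV, u', ha', hb', comm', hu', -, -, key⟩ :=
      step a b h u ha hb comm hu
    exact key.2.1 (hfl a b h u ha hb comm hu) (h2 a' b' h' u' ha' hb' comm' hu')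
  · intro U V a b h u ha hb comm hu
    obtain ⟨U', V', a', b', h', gV, u', ha', hb', comm', hu', -, hc2, key⟩ :=
      step a b h u ha hb comm hu
    have hpt : AlgSp.Points.ofPt b' (h'.left u') = AlgSp.Points.map f'.hom x' := by
      rw [← hu', AlgSp.Points.map_ofPt, comm', ofPt_yon_map_comp]
    exact key.2.2 (hfl b' b gV (h'.left u') hb' hb hc2 hpt) (h2 a' b' h' u' ha' hb' comm' hu')

end Groth.Agent.S10688
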