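import Groth.Statements.S10690
import Groth.Agent.H52.GorSp2

set_option autoImplicit false
universe u
open CategoryTheory CategoryTheory.Limits AlgebraicGeometry
open AlgSp

namespace Groth.Agent.S10690
open Groth.Agent.H52

/-- For a morphism f : X ⟶ Y between algebraic spaces over S whose fibres are locally Noetherian, the
following are equivalent: (1) f is Gorenstein at every point of |X|; (2) f is flat and for some
scheme V with a representable etale surjective b : h_V ⟶ Y every fibre of X ×_Y V ⟶ V over a point v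
of V (pullback along the residue field point of v) is a Gorenstein algebraic space (some etale
surjective scheme chart is a Gorenstein scheme); (3) f is flat and the same holds for every scheme V
with a representable etale b : h_V ⟶ Y. Here f is Gorenstein at x when in every etale chart diagram
through x the top arrow is Gorenstein at the point over x (flat there, with Gorenstein local ring of
its fibre), and the fibres of a morphism are locally Noetherian when every fibre over a field point
(pullback in fppf sheaves) is a locally Noetherian algebraic space. (The published statement also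
characterises being Gorenstein at a single point through strict henselizations; that part is stated
separately and not included here.) -/
theorem result {S : Scheme.{u}} {X Y : AlgSp.Space S} (f : X ⟶ Y)
    (hf : ∀ (k : AlgSp.FieldPt Y.obj) (Xk : AlgSp.Sp S) (a : Xk ⟶ X.obj) (b : Xk ⟶ (AlgSp.yon S).obj k.pt),
        IsPullback a b f.hom k.toHom → AlgSp.IsLocNoethSp Xk) :
    [∀ x : AlgSp.Points X.obj, AlgSp.LocPAt (fun h u => Dual3.IsGorensteinAt h u) f.hom x,
      AlgSp.LocP @Flat f.hom ∧ ∃ (V : Over S) (b : (AlgSp.yon S).obj V ⟶ Y.obj),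
        AlgSp.RepWith @Etale b ∧ AlgSp.RepWith @Surjective b ∧
          ∀ (v : ↥V.left) (Xv : AlgSp.Sp S) (a : Xv ⟶ X.obj)
            (c : Xv ⟶ (AlgSp.yon S).obj (Over.mk (V.left.fromSpecResidueField v ≫ V.hom))),
            IsPullback a c f.hom ((AlgSp.yon S).map (Over.homMk (V.left.fromSpecResidueField v) rfl :
              Over.mk (V.left.fromSpecResidueField v ≫ V.hom) ⟶ V) ≫ b) →
            AlgSp.EtaleLocally Dual3.IsGorenstein Xv,
      AlgSp.LocP @Flat f.hom ∧ ∀ (V : Over S) (b : (AlgSp.yon S).obj V ⟶ Y.obj), AlgSp.RepWith @Etale b →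
          ∀ (v : ↥V.left) (Xv : AlgSp.Sp S) (a : Xv ⟶ X.obj)
            (c : Xv ⟶ (AlgSp.yon S).obj (Over.mk (V.left.fromSpecResidueField v ≫ V.hom))),
            IsPullback a c f.hom ((AlgSp.yon S).map (Over.homMk (V.left.fromSpecResidueField v) rfl :
              Over.mk (V.left.fromSpecResidueField v ≫ V.hom) ⟶ V) ≫ b) →
            AlgSp.EtaleLocally Dual3.IsGorenstein Xv].TFAE := by
  have hX := X.property
  have hY := Y.property
  tfae_have 1 → 3 := by
    intro h1
    refine ⟨?_, ?_⟩
    · intro U V a b h ha hb comm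
      apply Flat.of_stalkMap
      intro u
      exact (h1 (AlgSp.Points.ofPt a u) a b h u ha hb comm rfl).1
    · intro V b hb v Xv a c sqv
      obtain ⟨U, a', k, ha', comm, -, hfib⟩ := exists_fibre_atlas hX f.hom b hb
      obtain ⟨c', hce, hcs, -⟩ := hfib v sqv
      refine ⟨fibOver k v, c', hce, hcs, ?_⟩
      refine ⟨isLocallyNoetherian_fiber_chart hX hY f.hom hf a' b k ha' hb comm v, fun z => ?_⟩
      have hz := h1 (AlgSp.Points.ofPt a' (k.left.fiberι v z)) a' b k _ ha' hb comm rfl
      exact (Groth.Agent.H60.GorBC.gorFibre_iff k.left (k.left.fiberι v z) v z rfl).2 hz.2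
  tfae_have 3 → 2 := by
    rintro ⟨hfl, h3⟩
    obtain ⟨V, b, hbe, hbs⟩ := hY.atlas
    exact ⟨hfl, V, b, hbe, hbs, fun v Xv a c sq => h3 V b hbe v Xv a c sq⟩
  tfae_have 2 → 1 := by
    rintro ⟨hfl, V, b, hbe, hbs, h2⟩ x
    obtain ⟨U, a, k, ha, comm, hpts, hfib⟩ := exists_fibre_atlas hX f.hom b hbe
    obtain ⟨v', hv'⟩ := surjective_ofPt_of_surjective b hbs (AlgSp.Points.map f.hom x)
    obtain ⟨u, hu, hku⟩ := hpts x v' hv'.symm
    subst hku
    obtain ⟨Xv, q₁, q₂, sqv⟩ : ∃ (Xv : AlgSp.Sp S) (q₁ : Xv ⟶ X.obj)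
        (q₂ : Xv ⟶ (AlgSp.yon S).obj (resOver V (k.left u))),
        IsPullback q₁ q₂ f.hom ((AlgSp.yon S).map (resOverι V (k.left u)) ≫ b) :=
      ⟨_, _, _, IsPullback.of_hasPullback _ _⟩
    obtain ⟨T, p, hpe, hps, hT⟩ := h2 (k.left u) Xv q₁ q₂ sqv
    obtain ⟨c, hce, -, -⟩ := hfib (k.left u) sqv
    obtain ⟨P, e₁, e₂, sqP⟩ : ∃ (P : Over S) (e₁ : P ⟶ fibOver k (k.left u)) (e₂ : P ⟶ T),
        IsPullback ((AlgSp.yon S).map e₂) ((AlgSp.yon S).map e₁) p c :=
      ⟨_, hpe.rep.snd c, hpe.rep.fst' c, hpe.rep.isPullback' c⟩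
    have he₁ : Etale e₁.left := hpe.2 _ _ _ sqP
    have he₁s : Surjective e₁.left := hps.2 _ _ _ sqP
    have he₂ : Etale e₂.left := hce.2 _ _ _ sqP.flip
    obtain ⟨z', hz'⟩ := he₁s.surj (k.left.asFiber u)
    have hFO : IsLocallyNoetherian (fibOver k (k.left u)).left :=
      isLocallyNoetherian_fiber_chart hX hY f.hom hf a b k ha hbe comm (k.left u)
    have hTn : IsLocallyNoetherian T.left := hT.1
    have g1 : LocCoh.IsGorensteinLocalRing (P.left.presheaf.stalk z') :=
      (gor_stalk_etale_iff e₂.left z').2 (hT.2 _)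
    have g2 := (gor_stalk_etale_iff e₁.left z').1 g1
    rw [hz'] at g2
    have hflat : Flat k.left := hfl a b k ha hbe comm
    exact locPAt_gor_of_one_chart hX hY f.hom hf x a b k ha hbe comm u hu
      ⟨Flat.stalkMap k.left u, g2⟩
  tfae_finish

end Groth.Agent.S10690
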