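import Groth.Statements.S10691
import Groth.Agent.H52.GorSp2
import Groth.Agent.H25.TrdegCharts
import Groth.Agent.H47.HensNoeth2
import Groth.Agent.S0540

set_option autoImplicit false
universe u
open CategoryTheory CategoryTheory.Limits AlgebraicGeometry
open AlgSp

namespace Groth.Agent.S10691
open Groth.Agent.H52

/-- Every etale chart of a Gorenstein space is a Gorenstein scheme. -/
theorem isGorenstein_chart {S : Scheme.{u}} {X : AlgSp.Sp S} (hX1 : AlgSp.IsLocNoethSp X)
    (hX2 : AlgSp.EtaleLocally Dual3.IsGorenstein X) {U : Over S} (a : (AlgSp.yon S).obj U ⟶ X)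
    (ha : AlgSp.RepWith @Etale a) : Dual3.IsGorenstein U.left := by
  obtain ⟨U₁, p, hpe, hps, hU₁⟩ := hX2
  obtain ⟨P, e₁, e₂, sqP⟩ : ∃ (P : Over S) (e₁ : P ⟶ U) (e₂ : P ⟶ U₁),
      IsPullback ((AlgSp.yon S).map e₂) ((AlgSp.yon S).map e₁) p a :=
    ⟨_, hpe.rep.snd a, hpe.rep.fst' a, hpe.rep.isPullback' a⟩
  have he₁ : Etale e₁.left := hpe.2 _ _ _ sqP
  have he₁s : Surjective e₁.left := hps.2 _ _ _ sqP
  have he₂ : Etale e₂.left := ha.2 _ _ _ sqP.flip
  have hU : IsLocallyNoetherian U.left := isLocallyNoetherian_chart hX1 a ha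
  exact isGorenstein_of_etale_surjective e₁.left (isGorenstein_of_etale e₂.left hU₁)

/-- Strict henselizations of Gorenstein local rings are Gorenstein. -/
theorem gor_strictHenselization (A R : Type u) [CommRing A] [IsLocalRing A] [CommRing R] [IsLocalRing R]
    [Algebra A R] [IsLocalHom (algebraMap A R)] [Hensel.IsStrictHenselization A R]
    (hA : LocCoh.IsGorensteinLocalRing A) : LocCoh.IsGorensteinLocalRing R := by
  have hAN : IsNoetherianRing A := hA.toIsNoetherian
  have hI := Groth.Agent.H47.HensNoeth.isIndEtaleLocal_of_isStrictHenselization A R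
  have hRN : IsNoetherianRing R := (Groth.Agent.S0540.result A R).1 hAN
  have hfl : Module.Flat A R := hI.flat
  have hmax : (IsLocalRing.maximalIdeal A).map (algebraMap A R) = IsLocalRing.maximalIdeal R :=
    hI.map_max
  have hM : ((IsLocalRing.maximalIdeal A).map (algebraMap A R)).IsMaximal := by
    rw [hmax]; infer_instance
  letI := Ideal.Quotient.field ((IsLocalRing.maximalIdeal A).map (algebraMap A R))
  have key := Groth.Agent.H60.GorTransfer.flat_local_iff A R
    (R ⧸ (IsLocalRing.maximalIdeal A).map (algebraMap A R))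
    (Ideal.Quotient.mk _) Ideal.Quotient.mk_surjective Ideal.mk_ker
  exact key.2 ⟨hA, Groth.Agent.H60.GorTransfer.gor_field _⟩

/-- For locally Noetherian algebraic spaces X, Y over S and a flat morphism f : X ⟶ Y, with X Gorenstein
(some etale surjective scheme chart is a Gorenstein scheme): f is Gorenstein at every point of |X|,
and for every point x of |X| the etale local ring of Y at a geometric point over f(x), presented as
a strict henselization R of the local ring of an etale scheme chart V of Y at a point v over f(x),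
is a Gorenstein local ring. Here f is Gorenstein at x when in every etale chart diagram through x
the top arrow is Gorenstein at the point over x (flat there, with Gorenstein local ring of its
fibre), and the fibres of a morphism are locally Noetherian when every fibre over a field point
(pullback in fppf sheaves) is a locally Noetherian algebraic space. -/
theorem result {S : Scheme.{u}} {X Y : AlgSp.Space S} (f : X ⟶ Y) (hf : AlgSp.LocP @Flat f.hom)
    (hX1 : AlgSp.IsLocNoethSp X.obj) (hY1 : AlgSp.IsLocNoethSp Y.obj)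
    (hX2 : AlgSp.EtaleLocally Dual3.IsGorenstein X.obj) :
    (∀ x : AlgSp.Points X.obj, AlgSp.LocPAt (fun h u => Dual3.IsGorensteinAt h u) f.hom x) ∧
      ∀ (x : AlgSp.Points X.obj) (V : Over S) (b : (AlgSp.yon S).obj V ⟶ Y.obj), AlgSp.RepWith @Etale b →
        ∀ (v : ↥V.left), AlgSp.Points.ofPt b v = AlgSp.Points.map f.hom x →
          ∀ (R : Type u) [CommRing R] [IsLocalRing R] [Algebra ↥(V.left.presheaf.stalk v) R]
            [IsLocalHom (algebraMap ↥(V.left.presheaf.stalk v) R)]
            [Hensel.IsStrictHenselization ↥(V.left.presheaf.stalk v) R],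
            LocCoh.IsGorensteinLocalRing R := by
  have hX := X.property
  have hY := Y.property
  have main : ∀ {U V : Over S} (a : (AlgSp.yon S).obj U ⟶ X.obj) (b : (AlgSp.yon S).obj V ⟶ Y.obj)
      (h : U ⟶ V) (u : ↥U.left), AlgSp.RepWith @Etale a → AlgSp.RepWith @Etale b →
      a ≫ f.hom = (AlgSp.yon S).map h ≫ b →
      Dual3.IsGorensteinAt h.left u ∧
        LocCoh.IsGorensteinLocalRing (V.left.presheaf.stalk (h.left u)) := by
    intro U V a b h u ha hb comm
    have hU := isGorenstein_chart hX1 hX2 a ha
    have hUn : IsLocallyNoetherian U.left := hU.1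
    have hVn : IsLocallyNoetherian V.left := isLocallyNoetherian_chart hY1 b hb
    have hfl : Flat h.left := hf a b h ha hb comm
    have key := (gor_stalk_iff_of_flat h.left u (Flat.stalkMap h.left u)).1 (hU.2 u)
    exact ⟨⟨Flat.stalkMap h.left u, key.2⟩, key.1⟩
  refine ⟨fun x U V a b h u ha hb comm _ => (main a b h u ha hb comm).1, ?_⟩
  intro x V b hb v hv R _ _ _ _ _
  obtain ⟨U₀, a₀, u₀, -, ha₀, hu₀⟩ := exists_affine_chart_at hX x
  obtain ⟨U, a, k, u, ha, comm, -, hku⟩ :=
    Groth.Agent.H25.TrdegCharts.exists_chart_over f.hom a₀ ha₀ b hb u₀ v (by rw [hu₀, hv])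
  subst hku
  exact gor_strictHenselization _ R (main a b k u ha hb comm).2

end Groth.Agent.S10691
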