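import Groth.Statements.S10692
import Groth.Agent.S10679
import Groth.Agent.S10680
import Groth.Agent.H9.CMFlatSch
import Groth.Agent.H52.QC
import Groth.Agent.H52.ChartAt

set_option autoImplicit false
universe u
open CategoryTheory CategoryTheory.Limits AlgebraicGeometry
open AlgSp

namespace Groth.Agent.S10692

/-- The set of points all of whose fibres have dimension satisfying `Q`. -/
def fibSet {S : Scheme.{u}} {X Y : AlgSp.Space S} (f : X ⟶ Y) (Q : WithBot ℕ∞ → Prop) :
    Set (AlgSp.Points Y.obj) :=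
  {y | ∀ (k : AlgSp.FieldPt Y.obj), AlgSp.Points.mk k = y → ∀ (Xk : AlgSp.Sp S)
    (fst : Xk ⟶ X.obj) (snd : Xk ⟶ (AlgSp.yon S).obj k.pt),
    IsPullback fst snd f.hom k.toHom → Q (AlgSp.dim Xk)}

theorem fibSet_congr {S : Scheme.{u}} {X Y : AlgSp.Space S} (f : X ⟶ Y)
    {Q Q' : WithBot ℕ∞ → Prop} (h : ∀ x, Q x ↔ Q' x) : fibSet f Q = fibSet f Q' := by
  ext y
  constructor
  · intro hy k hk Xk fst snd hp; exact (h _).1 (hy k hk Xk fst snd hp)
  · intro hy k hk Xk fst snd hp; exact (h _).2 (hy k hk Xk fst snd hp)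

theorem fibSet_and {S : Scheme.{u}} {X Y : AlgSp.Space S} (f : X ⟶ Y)
    (Q Q' : WithBot ℕ∞ → Prop) :
    fibSet f (fun x => Q x ∧ Q' x) = fibSet f Q ∩ fibSet f Q' := by
  ext y
  constructor
  · intro hy
    exact ⟨fun k hk Xk fst snd hp => (hy k hk Xk fst snd hp).1,
      fun k hk Xk fst snd hp => (hy k hk Xk fst snd hp).2⟩
  · rintro ⟨h1, h2⟩ k hk Xk fst snd hp
    exact ⟨h1 k hk Xk fst snd hp, h2 k hk Xk fst snd hp⟩

theorem eq_zero_iff' (x : WithBot ℕ∞) : x = (((0 : ℕ) : ℕ∞) : WithBot ℕ∞) ↔
    x < (((0 + 1 : ℕ) : ℕ∞) : WithBot ℕ∞) ∧ ⊥ < x := by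
  induction x using WithBot.recBotCoe with
  | bot =>
    constructor
    · intro h; exact absurd h.symm WithBot.coe_ne_bot
    · rintro ⟨-, h⟩; exact absurd h (lt_irrefl _)
  | coe a =>
    rw [WithBot.coe_inj, WithBot.coe_lt_coe]
    induction a using ENat.recTopCoe with
    | top =>
      constructor
      · intro h; exact absurd h (ENat.top_ne_coe _)
      · rintro ⟨h, -⟩; exact absurd h not_top_lt
    | coe j =>
      rw [Nat.cast_inj, Nat.cast_lt]
      constructor
      · intro h; exact ⟨by omega, WithBot.bot_lt_coe _⟩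
      · rintro ⟨h, -⟩; omega

theorem eq_succ_iff' (x : WithBot ℕ∞) (m : ℕ) : x = (((m + 1 : ℕ) : ℕ∞) : WithBot ℕ∞) ↔
    x < (((m + 1 + 1 : ℕ) : ℕ∞) : WithBot ℕ∞) ∧ (((m : ℕ) : ℕ∞) : WithBot ℕ∞) < x := by
  induction x using WithBot.recBotCoe with
  | bot =>
    constructor
    · intro h; exact absurd h.symm WithBot.coe_ne_bot
    · rintro ⟨-, h⟩; exact absurd h not_lt_bot
  | coe a =>
    rw [WithBot.coe_inj, WithBot.coe_lt_coe, WithBot.coe_lt_coe]
    induction a using ENat.recTopCoe with
    | top =>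
      constructor
      · intro h; exact absurd h (ENat.top_ne_coe _)
      · rintro ⟨h, -⟩; exact absurd h not_top_lt
    | coe j => rw [Nat.cast_inj, Nat.cast_lt, Nat.cast_lt]; omega

/-- For a proper flat morphism f : X ⟶ Y between algebraic spaces over S which is of finite
presentation, the fibre dimension function on |Y| is locally constant: for every d the set of y such
that every fibre X_k over y (k a field point in the class of y, X_k any pullback in fppf sheaves)
has dimension exactly d is open. -/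
theorem result {S : Scheme.{u}} {X Y : AlgSp.Space S} (f : X ⟶ Y) (hf1 : AlgSp.IsProperMor f.hom)
    (hf2 : AlgSp.LocP @Flat f.hom) (hf3 : AlgSp.IsFinitePresentationMor f.hom) (d : WithBot ℕ∞) :
    IsOpen {y : AlgSp.Points Y.obj | ∀ (k : AlgSp.FieldPt Y.obj), AlgSp.Points.mk k = y →
      ∀ (Xk : AlgSp.Sp S) (fst : Xk ⟶ X.obj) (snd : Xk ⟶ (AlgSp.yon S).obj k.pt),
        IsPullback fst snd f.hom k.toHom → AlgSp.dim Xk = d} := by
  have hX := X.property
  have hY := Y.property
  have hft : AlgSp.IsFiniteTypeMor f.hom := hf1.2.1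
  have hLo : ∀ e : WithBot ℕ∞, IsOpen (fibSet f (fun x => e < x)) :=
    fun e => Groth.Agent.S10679.result f hf2 hf3 e
  have hUp : ∀ e : WithBot ℕ∞, IsOpen (fibSet f (fun x => x < e)) :=
    fun e => Groth.Agent.S10680.result f hf1 e
  change IsOpen (fibSet f (fun x => x = d))
  induction d using WithBot.recBotCoe with
  | bot =>
    have e1 : fibSet f (fun x => x = ⊥) =
        fibSet f (fun x => x < (((0 : ℕ) : ℕ∞) : WithBot ℕ∞)) :=
      fibSet_congr f (fun x => (Groth.Agent.S10680.lt_zero_iff' x).symm)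
    rw [e1]
    exact hUp _
  | coe d =>
    induction d using ENat.recTopCoe with
    | top =>
      have e1 : fibSet f (fun x => x = ((⊤ : ℕ∞) : WithBot ℕ∞)) = ∅ := by
        rw [Set.eq_empty_iff_forall_notMem]
        intro y hy
        obtain ⟨k, rfl⟩ := AlgSp.Points.mk_surjective y
        have hpb := IsPullback.of_hasPullback f.hom k.toHom
        have htop := hy k rfl _ _ _ hpb
        have K := Groth.Agent.S10678.result f hft _ k rfl _ _ _ hpb
        haveI : CompactSpace ↥k.pt.left :=
          inferInstanceAs (CompactSpace ↥(Spec (CommRingCat.of k.K)))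
        have hqc : AlgSp.IsQuasiCompactSp (pullback f.hom k.toHom) :=
          hft.2 (AlgSp.IsAlgSpace.yon_obj _) (Groth.Agent.H52.isQuasiCompactSp_yon k.pt) k.toHom
            _ _ hpb
        haveI := Groth.Agent.H52.compactSpace_points_of_isQuasiCompactSp hqc
        have hcomp : IsCompact (Set.range (AlgSp.Points.map (pullback.fst f.hom k.toHom))) :=
          isCompact_range (AlgSp.Points.continuous_map _)
        have hcov : Set.range (AlgSp.Points.map (pullback.fst f.hom k.toHom)) ⊆
            ⋃ n : ℕ, Groth.Agent.S10680.relDimLe f n := by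
          rintro x -
          obtain ⟨U, V, a, b, h, u, ha, hb, comm, hu⟩ :=
            Groth.Agent.H52.exists_chart_diagram_at hX hY f.hom x
          haveI : LocallyOfFiniteType h.left := hft.1 a b h ha hb comm
          obtain ⟨n, hn⟩ := Groth.Agent.H9.CMFlatSch.exists_nat_fibreDimAt h.left u
          exact Set.mem_iUnion.2 ⟨n, U, V, a, b, h, u, ha, hb, comm, hu, le_of_eq hn⟩
        have hmono : Monotone (fun n : ℕ => Groth.Agent.S10680.relDimLe f n) := by
          intro n m hnm x hx
          obtain ⟨U, V, a, b, h, u, ha, hb, comm, hu, hle⟩ := hx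
          exact ⟨U, V, a, b, h, u, ha, hb, comm, hu,
            hle.trans (by exact_mod_cast hnm)⟩
        obtain ⟨N, hN⟩ := hcomp.elim_directed_cover _
          (fun n => Groth.Agent.S10680.isOpen_relDimLe f hft.1 n) hcov hmono.directed_le
        have hle : AlgSp.dim (pullback f.hom k.toHom) ≤ (N : WithBot ℕ∞) := by
          refine (K.2 N).2 ?_
          intro x hx
          apply hN
          have hy' : AlgSp.Points.map f.hom x = AlgSp.Points.map k.toHom
              (AlgSp.Points.ofScheme k.pt (IsLocalRing.closedPoint k.K : PrimeSpectrum k.K)) := by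
            rw [← AlgSp.Points.ofPt_eq_map_ofScheme, AlgSp.Points.ofPt_toHom, hx]
          obtain ⟨z, hz, -⟩ := Groth.Agent.H50.exists_point_of_isPullback hpb x _ hy'
          exact ⟨z, hz⟩
        rw [htop] at hle
        have hle' : ((⊤ : ℕ∞) : WithBot ℕ∞) ≤ (((N : ℕ) : ℕ∞) : WithBot ℕ∞) := hle
        rw [WithBot.coe_le_coe, top_le_iff] at hle'
        exact ENat.natCast_ne_top N hle'
      rw [e1]
      exact isOpen_empty
    | coe m =>
      cases m with
      | zero =>
        have e1 : fibSet f (fun x => x = (((0 : ℕ) : ℕ∞) : WithBot ℕ∞)) =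
            fibSet f (fun x => x < (((0 + 1 : ℕ) : ℕ∞) : WithBot ℕ∞) ∧ ⊥ < x) :=
          fibSet_congr f (fun x => eq_zero_iff' x)
        rw [e1, fibSet_and]
        exact (hUp _).inter (hLo _)
      | succ n =>
        have e1 : fibSet f (fun x => x = (((n + 1 : ℕ) : ℕ∞) : WithBot ℕ∞)) =
            fibSet f (fun x => x < (((n + 1 + 1 : ℕ) : ℕ∞) : WithBot ℕ∞) ∧
              (((n : ℕ) : ℕ∞) : WithBot ℕ∞) < x) :=
          fibSet_congr f (fun x => eq_succ_iff' x n)
        rw [e1, fibSet_and]
        exact (hUp _).inter (hLo _)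

end Groth.Agent.S10692
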