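import Groth.Statements.S10693
import Groth.Agent.H52.GorSp
import Groth.Agent.H52.GorHens
import Groth.Agent.H52.IndEtFlat
import Groth.Agent.H47.StrictQuot
import Groth.Agent.H47.Unibranch

set_option autoImplicit false
universe u
open CategoryTheory CategoryTheory.Limits AlgebraicGeometry
open AlgSp

namespace Groth.Agent.S10693
open Groth.Agent.H52

/-- Ring level core: flatness and the Gorenstein property of the closed fibre pass to strict henselizations. -/
theorem core (A B A' B' : Type u) [CommRing A] [IsLocalRing A] [CommRing B] [IsLocalRing B]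
    [CommRing A'] [IsLocalRing A'] [CommRing B'] [IsLocalRing B']
    [Algebra A A'] [IsLocalHom (algebraMap A A')] [Hensel.IsStrictHenselization A A']
    [Algebra B B'] [IsLocalHom (algebraMap B B')] [Hensel.IsStrictHenselization B B']
    (ψ : A →+* B) [IsLocalHom ψ] (φ : A' →+* B') [IsLocalHom φ]
    (hφ : φ.comp (algebraMap A A') = (algebraMap B B').comp ψ)
    (hN : IsNoetherianRing (B ⧸ (IsLocalRing.maximalIdeal A).map ψ)) :
    (ψ.Flat ∧ LocCoh.IsGorensteinLocalRing (B ⧸ (IsLocalRing.maximalIdeal A).map ψ)) ↔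
      (φ.Flat ∧ LocCoh.IsGorensteinLocalRing (B' ⧸ (IsLocalRing.maximalIdeal A').map φ)) := by
  have hIA := Groth.Agent.H47.HensNoeth.isIndEtaleLocal_of_isStrictHenselization A A'
  have hIB := Groth.Agent.H47.HensNoeth.isIndEtaleLocal_of_isStrictHenselization B B'
  have hα : (algebraMap A A').Flat := RingHom.flat_algebraMap_iff.2 hIA.flat
  have hβ : (algebraMap B B').Flat := RingHom.flat_algebraMap_iff.2 hIB.flat
  have hflat : ψ.Flat ↔ φ.Flat := by
    constructor
    · intro hψ
      apply flat_of_indEtaleLocal_of_flat_comp hIA φ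
      rw [hφ]
      exact RingHom.Flat.comp hψ hβ
    · intro hφf
      have h1 : (φ.comp (algebraMap A A')).Flat := RingHom.Flat.comp hα hφf
      rw [hφ] at h1
      exact Groth.Agent.H29.FiberStalkAt.flat_of_comp ψ (algebraMap B B') hβ h1
  refine and_congr hflat ?_
  -- the closed fibres
  set I : Ideal B := (IsLocalRing.maximalIdeal A).map ψ with hIdef
  have hI : I ≤ IsLocalRing.maximalIdeal B :=
    ((IsLocalRing.local_hom_TFAE ψ).out 0 2 rfl rfl).mp ‹_›
  have hJ : (IsLocalRing.maximalIdeal A').map φ = I.map (algebraMap B B') := by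
    rw [← hIA.map_max, Ideal.map_map, hφ, hIdef, Ideal.map_map]
  have hI' : I.map (algebraMap B B') ≤ IsLocalRing.maximalIdeal B' :=
    Groth.Agent.H47.Unibranch.map_le_maximalIdeal B B' hI
  haveI : IsLocalRing (B ⧸ I) := Groth.Agent.H47.Unibranch.isLocalRing_quotient _
    (fun h => (IsLocalRing.maximalIdeal.isMaximal B).ne_top (top_le_iff.mp (h ▸ hI)))
  haveI : IsLocalRing (B' ⧸ I.map (algebraMap B B')) :=
    Groth.Agent.H47.Unibranch.isLocalRing_quotient _
      (fun h => (IsLocalRing.maximalIdeal.isMaximal B').ne_top (top_le_iff.mp (h ▸ hI')))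
  haveI : IsLocalHom (algebraMap (B ⧸ I) (B' ⧸ I.map (algebraMap B B'))) :=
    Groth.Agent.H47.Unibranch.isLocalHom_quotient_map B B' _
  haveI : Hensel.IsStrictHenselization (B ⧸ I) (B' ⧸ I.map (algebraMap B B')) :=
    Groth.Agent.H47.StrictQuot.isStrictHenselization_quotient I
  have key := gor_strictHenselization_iff (B ⧸ I) (B' ⧸ I.map (algebraMap B B'))
  rw [key]
  exact ⟨fun hh => Groth.Agent.H60.GorTransfer.gor_of_ringEquiv (Ideal.quotEquivOfEq hJ.symm) hh,
    fun hh => Groth.Agent.H60.GorTransfer.gor_of_ringEquiv (Ideal.quotEquivOfEq hJ) hh⟩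

/-- (pointwise part) for a morphism f : X ⟶ Y between algebraic spaces over S with locally Noetherian
fibres and a point x of |X|, take an etale chart diagram through x: schemes U, V over S with
representable etale a : h_U ⟶ X, b : h_V ⟶ Y, a morphism h : U ⟶ V over S with a ≫ f = h_h ≫ b, and
a point u of U over x; let R be a strict henselization of the local ring of U at u, R' one of the
local ring of V at h u, and φ : R' ⟶ R a local homomorphism compatible with the map of local rings
induced by h (these present the etale local rings of Y and X at compatible geometric points). Then f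
is Gorenstein at x if and only if φ is flat and R / m_{R'} R is a Gorenstein local ring. Here f is
Gorenstein at x when in every etale chart diagram through x the top arrow is Gorenstein at the point
over x (flat there, with Gorenstein local ring of its fibre), and the fibres of a morphism are
locally Noetherian when every fibre over a field point (pullback in fppf sheaves) is a locally
Noetherian algebraic space. -/
theorem result {S : Scheme.{u}} {X Y : AlgSp.Space S} (f : X ⟶ Y)
    (hf : ∀ (k : AlgSp.FieldPt Y.obj) (Xk : AlgSp.Sp S) (a : Xk ⟶ X.obj) (b : Xk ⟶ (AlgSp.yon S).obj k.pt),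
        IsPullback a b f.hom k.toHom → AlgSp.IsLocNoethSp Xk)
    (x : AlgSp.Points X.obj) {U V : Over S} (a : (AlgSp.yon S).obj U ⟶ X.obj) (b : (AlgSp.yon S).obj V ⟶ Y.obj)
    (h : U ⟶ V) (ha : AlgSp.RepWith @Etale a) (hb : AlgSp.RepWith @Etale b) (hc : a ≫ f.hom = (AlgSp.yon S).map h ≫ b)
    (u : ↥U.left) (hu : AlgSp.Points.ofPt a u = x)
    (R : Type u) [CommRing R] [IsLocalRing R] [Algebra ↥(U.left.presheaf.stalk u) R]
    [IsLocalHom (algebraMap ↥(U.left.presheaf.stalk u) R)] [Hensel.IsStrictHenselization ↥(U.left.presheaf.stalk u) R]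
    (R' : Type u) [CommRing R'] [IsLocalRing R'] [Algebra ↥(V.left.presheaf.stalk (h.left u)) R']
    [IsLocalHom (algebraMap ↥(V.left.presheaf.stalk (h.left u)) R')]
    [Hensel.IsStrictHenselization ↥(V.left.presheaf.stalk (h.left u)) R']
    (φ : R' →+* R) [IsLocalHom φ]
    (hφ : φ.comp (algebraMap ↥(V.left.presheaf.stalk (h.left u)) R') =
      (algebraMap ↥(U.left.presheaf.stalk u) R).comp (h.left.stalkMap u).hom) :
    AlgSp.LocPAt (fun h u => Dual3.IsGorensteinAt h u) f.hom x ↔
      φ.Flat ∧ LocCoh.IsGorensteinLocalRing (R ⧸ (IsLocalRing.maximalIdeal R').map φ) := by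
  have hX := X.property
  have hY := Y.property
  have red : AlgSp.LocPAt (fun h u => Dual3.IsGorensteinAt h u) f.hom x ↔
      Dual3.IsGorensteinAt h.left u :=
    ⟨fun H => H a b h u ha hb hc hu,
      fun H => locPAt_gor_of_one_chart hX hY f.hom hf x a b h ha hb hc u hu H⟩
  rw [red]
  obtain ⟨eq⟩ := Groth.Agent.H29.FiberStalkAt.nonempty_fiberStalkEquiv h.left u
  have hfibN : IsLocallyNoetherian (h.left.fiber (h.left u)) :=
    isLocallyNoetherian_fiber_chart hX hY f.hom hf a b h ha hb hc (h.left u)
  have hN : IsNoetherianRing (↥(U.left.presheaf.stalk u) ⧸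
      Ideal.map (h.left.stalkMap u).hom (IsLocalRing.maximalIdeal ↥(V.left.presheaf.stalk (h.left u)))) :=
    isNoetherianRing_of_ringEquiv _ eq.symm
  have hl : IsLocalHom (h.left.stalkMap u).hom := inferInstance
  have key := core ↥(V.left.presheaf.stalk (h.left u)) ↥(U.left.presheaf.stalk u) R' R
    (h.left.stalkMap u).hom φ hφ hN
  rw [← key]
  refine and_congr Iff.rfl ?_
  exact ⟨fun hh => Groth.Agent.H60.GorTransfer.gor_of_ringEquiv eq.symm hh,
    fun hh => Groth.Agent.H60.GorTransfer.gor_of_ringEquiv eq hh⟩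

end Groth.Agent.S10693
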