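import Groth.Statements.S10698
import Groth.Agent.H51.SepCover

set_option autoImplicit false
universe u
open CategoryTheory CategoryTheory.Limits AlgebraicGeometry
open AlgSp

namespace Groth.Agent.S10698

/-- Let `g : X → Y` be a morphism of algebraic spaces over `S` and `(U ⊂ X, f : V → X)` an elementary
distinguished square. Suppose `U → Y` and `V → Y` are both separated, that the canonical morphism `c
: U ×_X V → U ×_Y V` (between chosen fibre products `PX`, `PY`) is closed on points, and that the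
canonical morphism `d : V ×_X V → V ×_Y V` (between chosen fibre products `QX`, `QY`) is
representable and a closed immersion. Then `g` is separated. (The published statement omits the
condition on `V ×_X V → V ×_Y V`; its proof identifies the piece of `X ×_Y X` over `V ×_Y V` with
`V`, which is `V ×_X V`, and without that condition the affine line with doubled origin over a
field, with `U` the complement of the two origins and `V` the disjoint union of the two standard
charts, satisfies every other hypothesis and is not separated. With it, the diagonal of `g` is a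
closed immersion over each of the four pieces `U ×_Y U`, `U ×_Y V`, `V ×_Y U`, `V ×_Y V` of an etale
cover of `X ×_Y X`; for `c`, which is an immersion because `U → X` is an open immersion and `U → Y`
is separated, closedness on points suffices.) -/
theorem result {S : Scheme.{u}} {U V X Y PX PY QX QY : AlgSp.Space S} (g : X ⟶ Y)
    (j : U ⟶ X) (f : V ⟶ X) (hsq : AlgSp.IsElemDistSq j.hom f.hom)
    (hU : AlgSp.IsSeparatedMor (j ≫ g).hom) (hV : AlgSp.IsSeparatedMor (f ≫ g).hom)
    (pX : PX ⟶ U) (qX : PX ⟶ V) (hPX : IsPullback pX.hom qX.hom j.hom f.hom)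
    (pY : PY ⟶ U) (qY : PY ⟶ V) (hPY : IsPullback pY.hom qY.hom (j ≫ g).hom (f ≫ g).hom)
    (c : PX ⟶ PY) (hc₁ : c ≫ pY = pX) (hc₂ : c ≫ qY = qX) (hcl : AlgSp.IsClosedMor c.hom)
    (rX₁ rX₂ : QX ⟶ V) (hQX : IsPullback rX₁.hom rX₂.hom f.hom f.hom)
    (rY₁ rY₂ : QY ⟶ V) (hQY : IsPullback rY₁.hom rY₂.hom (f ≫ g).hom (f ≫ g).hom)
    (d : QX ⟶ QY) (hd₁ : d ≫ rY₁ = rX₁) (hd₂ : d ≫ rY₂ = rX₂)
    (hdcl : AlgSp.RepWith @IsClosedImmersion d.hom) : AlgSp.IsSeparatedMor g.hom := by
  obtain ⟨hj, hf, T, P, i, p₁, p₂, hred, hP, hiso⟩ := hsq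
  let A : Bool → AlgSp.Sp S := fun b => Bool.rec V.obj U.obj b
  let a : ∀ b, A b ⟶ X.obj := fun b => Bool.rec (motive := fun b => A b ⟶ X.obj) f.hom j.hom b
  have hA : ∀ b, AlgSp.IsAlgSpace (A b) := by
    rintro (_ | _)
    · exact V.property
    · exact U.property
  have hjm : Mono j.hom :=
    Groth.Agent.H50.mono_of_repWith (fun _ _ k (hk : IsOpenImmersion k) => (inferInstance : Mono k)) hj
  have ha : ∀ b, AlgSp.IsEtaleMor (a b) := by
    rintro (_ | _)
    · exact hf
    · intro W φ hφ
      exact (AlgSp.RepWith @Etale).comp_mem _ _ hφ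
        (Groth.Agent.H51.repWith_mono
          (fun _ _ k (hk : IsOpenImmersion k) => (inferInstance : Etale k)) hj)
  have hsurj : ∀ x : AlgSp.Points X.obj, ∃ (k : Bool) (y : AlgSp.Points (A k)),
      AlgSp.Points.map (a k) y = x := by
    intro x
    by_cases hx : x ∈ Set.range (AlgSp.Points.map j.hom)
    · obtain ⟨y, hy⟩ := hx
      exact ⟨true, y, hy⟩
    · have hx' : x ∈ Set.range (AlgSp.Points.map i) := by
        rw [hred.2.1]
        exact hx
      obtain ⟨z, rfl⟩ := hx'
      refine ⟨false, AlgSp.Points.map p₂ (AlgSp.Points.map (inv p₁) z), ?_⟩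
      change AlgSp.Points.map f.hom _ = _
      rw [← AlgSp.Points.map_comp, ← AlgSp.Points.map_comp, ← hP.w, ← Category.assoc,
        IsIso.inv_hom_id, Category.id_comp]
  have hc₁' : c.hom ≫ pY.hom = pX.hom := congrArg (fun k => k.hom) hc₁
  have hc₂' : c.hom ≫ qY.hom = qX.hom := congrArg (fun k => k.hom) hc₂
  have hd₁' : d.hom ≫ rY₁.hom = rX₁.hom := congrArg (fun k => k.hom) hd₁
  have hd₂' : d.hom ≫ rY₂.hom = rX₂.hom := congrArg (fun k => k.hom) hd₂
  have hcci : AlgSp.RepWith @IsClosedImmersion c.hom :=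
    Groth.Agent.H51.SepCover.repWith_closedImmersion_of_isClosedMor g.hom j.hom hj f.hom hU hPX hPY
      c.hom hc₁' hc₂' hcl
  refine Groth.Agent.H51.SepCover.isSeparatedMor_of_etale_cover X.property g.hom A hA a ha hsurj ?_
  rintro (_ | _) (_ | _)
  · exact ⟨QX.obj, QY.obj, rX₁.hom, rX₂.hom, rY₁.hom, rY₂.hom, d.hom, hQX, hQY, hd₁', hd₂', hdcl⟩
  · exact ⟨PX.obj, PY.obj, qX.hom, pX.hom, qY.hom, pY.hom, c.hom, hPX.flip, hPY.flip, hc₂', hc₁',
      hcci⟩
  · exact ⟨PX.obj, PY.obj, pX.hom, qX.hom, pY.hom, qY.hom, c.hom, hPX, hPY, hc₁', hc₂', hcci⟩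
  · exact ⟨U.obj, pullback (j.hom ≫ g.hom) (j.hom ≫ g.hom), 𝟙 _, 𝟙 _, pullback.fst _ _,
      pullback.snd _ _, pullback.diagonal (j.hom ≫ g.hom), IsKernelPair.id_of_mono j.hom,
      IsPullback.of_hasPullback _ _, pullback.diagonal_fst _, pullback.diagonal_snd _, hU⟩

end Groth.Agent.S10698
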