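import Groth.Statements.S10716
import Groth.Agent.H51.ColimSch

set_option autoImplicit false
universe w v u
open CategoryTheory CategoryTheory.Limits AlgebraicGeometry
open AlgSp

namespace Groth.Agent.S10716

/-- Let `D : I ⥤ Over S` be a diagram of schemes over `S` with a cocone `c` such that (1) `c` is a
colimit in the category of schemes, (2) the coprojections are jointly surjective, (3) for every
etale `U → c.pt` and every cocone of cartesian squares `U_i = D_i ×_{c.pt} U`, `U` is the colimit of
the `U_i` in the category of schemes, and (4) every equifibered system of separated etale morphisms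
`U_i → D_i` (all transition squares cartesian) comes from some etale `U → c.pt` by base change. Then
the image of `c` in algebraic spaces over `S` is a colimit there. -/
theorem result {S : Scheme.{u}} {I : Type v} [Category.{w} I] (D : I ⥤ Over S) (c : Cocone D)
    (h₁ : IsColimit ((Over.forget S).mapCocone c))
    (h₂ : ∀ x : ↥c.pt.left, ∃ (i : I) (y : ↥(D.obj i).left), (c.ι.app i).left y = x)
    (h₃ : ∀ (D' : I ⥤ Over S) (α : D' ⟶ D) (c' : Cocone D') (a : c'.pt ⟶ c.pt), Etale a.left →
      (∀ i, IsPullback (c'.ι.app i) (α.app i) a (c.ι.app i)) → Nonempty (IsColimit ((Over.forget S).mapCocone c')))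
    (h₄ : ∀ (D' : I ⥤ Over S) (α : D' ⟶ D), NatTrans.Equifibered α → (∀ i, Etale (α.app i).left) →
      (∀ i, IsSeparated (α.app i).left) →
      ∃ (c' : Cocone D') (a : c'.pt ⟶ c.pt), Etale a.left ∧ ∀ i, IsPullback (c'.ι.app i) (α.app i) a (c.ι.app i)) :
    Nonempty (IsColimit ((AlgSp.ofScheme S).mapCocone c)) := by
  refine ⟨IsColimit.ofExistsUnique (fun s => ?_)⟩
  have hτ : ∀ ⦃i j : I⦄ (g : i ⟶ j),
      (AlgSp.yon S).map (D.map g) ≫ (s.ι.app j).hom = (s.ι.app i).hom := by
    intro i j g
    have := s.w g
    exact congrArg (fun f => f.hom) this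
  obtain ⟨k, hk⟩ := Groth.Agent.H51.ColimSch.exists_desc D c h₂ h₃ h₄ s.pt.property
    (fun i => (s.ι.app i).hom) hτ
  refine ⟨ObjectProperty.homMk k, fun i => ?_, fun m hm => ?_⟩
  · apply ObjectProperty.hom_ext
    exact hk i
  · apply ObjectProperty.hom_ext
    refine Groth.Agent.H51.ColimSch.hom_ext_of_cartesian D c h₃ s.pt.property D (𝟙 D) c (𝟙 _)
      (by
        change Etale (𝟙 c.pt.left)
        infer_instance)
      (fun i => IsPullback.id_vert (c.ι.app i)) m.hom k (fun i => ?_)
    rw [hk i]
    exact congrArg (fun f => f.hom) (hm i)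

end Groth.Agent.S10716
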