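import Groth.Statements.S1072
import Mathlib

set_option autoImplicit false
universe v v' u u'
open CategoryTheory CategoryTheory.Limits
open CohDer

namespace Groth.Agent.S1072

section

variable {A : Type u} [Category.{v} A] [Abelian A] (W : MorphismProperty A)
  {D : Type u'} [Category.{v'} D] (L : A ⥤ D) [L.IsLocalization W] [Preadditive D] [L.Additive]

omit [Abelian A] [L.IsLocalization W] [Preadditive D] [L.Additive] in
lemma isZero_of_isIso_zero_tgt {C : Type*} [Category C] [HasZeroMorphisms C] {X Y : C}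
    (f : X ⟶ Y) [IsIso f] (h : f = 0) : IsZero Y := by
  rw [IsZero.iff_id_eq_zero]
  calc 𝟙 Y = inv f ≫ f := (IsIso.inv_hom_id f).symm
    _ = inv f ≫ 0 := congrArg (fun z => inv f ≫ z) h
    _ = 0 := comp_zero

omit [Abelian A] [L.IsLocalization W] [Preadditive D] [L.Additive] in
lemma isZero_of_isIso_zero_src {C : Type*} [Category C] [HasZeroMorphisms C] {X Y : C}
    (f : X ⟶ Y) [IsIso f] (h : f = 0) : IsZero X := by
  rw [IsZero.iff_id_eq_zero]
  calc 𝟙 X = f ≫ inv f := (IsIso.hom_inv_id f).symm
    _ = 0 ≫ inv f := congrArg (fun z => z ≫ inv f) h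
    _ = 0 := zero_comp

include W in
lemma isZero_tgt {X' X : A} (s : X' ⟶ X) (hs : W s) (h0 : s = 0) : IsZero (L.obj X) := by
  have : IsIso (L.map s) := Localization.inverts L W s hs
  exact isZero_of_isIso_zero_tgt (L.map s) (by rw [h0, L.map_zero])

include W in
lemma isZero_src {X' X : A} (s : X' ⟶ X) (hs : W s) (h0 : s = 0) : IsZero (L.obj X') := by
  have : IsIso (L.map s) := Localization.inverts L W s hs
  exact isZero_of_isIso_zero_src (L.map s) (by rw [h0, L.map_zero])

lemma exists_zero_out [W.HasLeftCalculusOfFractions] {K : A} (hK : IsZero (L.obj K)) :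
    ∃ (Y : A) (s : K ⟶ Y), W s ∧ s = 0 := by
  have h : L.map (𝟙 K) = L.map 0 := hK.eq_of_src _ _
  obtain ⟨Y, s, hs, e⟩ := (MorphismProperty.map_eq_iff_postcomp L W _ _).1 h
  exact ⟨Y, s, hs, by simpa using e⟩

lemma exists_zero_in [W.HasRightCalculusOfFractions] {K : A} (hK : IsZero (L.obj K)) :
    ∃ (Z : A) (t : Z ⟶ K), W t ∧ t = 0 := by
  have h : L.map (𝟙 K) = L.map 0 := hK.eq_of_src _ _
  obtain ⟨Z, t, ht, e⟩ := (MorphismProperty.map_eq_iff_precomp L W _ _).1 h
  exact ⟨Z, t, ht, by simpa using e⟩

lemma epi_map [W.HasLeftCalculusOfFractions] {X Y : A} (p : X ⟶ Y) [Epi p] : Epi (L.map p) := by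
  apply Preadditive.epi_of_cancel_zero
  intro T g hg
  have := Localization.essSurj L W
  suffices h : g ≫ (L.objObjPreimageIso T).inv = 0 by
    rw [← cancel_mono (L.objObjPreimageIso T).inv, h, zero_comp]
  obtain ⟨φ, hφ⟩ := Localization.exists_leftFraction L W (g ≫ (L.objObjPreimageIso T).inv)
  have h1 : L.map p ≫ L.map φ.f = 0 := by
    rw [← φ.map_comp_map_s L (Localization.inverts L W), ← hφ, ← Category.assoc,
      ← Category.assoc, hg, zero_comp, zero_comp]
  have h2 : L.map (p ≫ φ.f) = L.map 0 := by rw [L.map_comp, h1, L.map_zero]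
  obtain ⟨Z, τ, hτ, e⟩ := (MorphismProperty.map_eq_iff_postcomp L W _ _).1 h2
  have h3 : φ.f ≫ τ = 0 := by
    rw [← cancel_epi p, ← Category.assoc, e, zero_comp, comp_zero]
  have : IsIso (L.map τ) := Localization.inverts L W τ hτ
  have h4 : L.map φ.f = 0 := by
    rw [← cancel_mono (L.map τ), ← L.map_comp, h3, L.map_zero, zero_comp]
  rw [hφ, MorphismProperty.LeftFraction.map, h4, zero_comp]

lemma mono_map [W.HasRightCalculusOfFractions] {X Y : A} (j : X ⟶ Y) [Mono j] :
    Mono (L.map j) := by
  apply Preadditive.mono_of_cancel_zero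
  intro T g hg
  have := Localization.essSurj L W
  suffices h : (L.objObjPreimageIso T).hom ≫ g = 0 by
    rw [← cancel_epi (L.objObjPreimageIso T).hom, h, comp_zero]
  obtain ⟨φ, hφ⟩ := Localization.exists_rightFraction L W ((L.objObjPreimageIso T).hom ≫ g)
  have h1 : L.map φ.f ≫ L.map j = 0 := by
    rw [← φ.map_s_comp_map L (Localization.inverts L W), ← hφ, Category.assoc,
      Category.assoc, hg, comp_zero, comp_zero]
  have h2 : L.map (φ.f ≫ j) = L.map 0 := by rw [L.map_comp, h1, L.map_zero]
  obtain ⟨Z, τ, hτ, e⟩ := (MorphismProperty.map_eq_iff_precomp L W _ _).1 h2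
  have h3 : τ ≫ φ.f = 0 := by
    rw [← cancel_mono j, Category.assoc, e, zero_comp, comp_zero]
  have : IsIso (L.map τ) := Localization.inverts L W τ hτ
  have h4 : L.map φ.f = 0 := by
    rw [← cancel_epi (L.map τ), ← L.map_comp, h3, L.map_zero, comp_zero]
  rw [hφ, MorphismProperty.RightFraction.map, h4, comp_zero]

/-- the kernel of `L` on objects -/
def kerProp : ObjectProperty A := fun X => IsZero (L.obj X)

open ZeroObject in
lemma isSerreClass_kerProp [W.HasLeftCalculusOfFractions] [W.HasRightCalculusOfFractions] :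
    (kerProp L).IsSerreClass where
  exists_zero := ⟨0, isZero_zero A, L.map_isZero (isZero_zero A)⟩
  prop_of_mono {X Y} f _ hY := by
    obtain ⟨Z, t, ht, h0⟩ := exists_zero_in W L hY
    obtain ⟨ψ, hψ⟩ := (MorphismProperty.LeftFraction.mk f t ht).exists_rightFraction
    dsimp at hψ
    have h1 : ψ.s = 0 := by
      rw [← cancel_mono f, hψ, h0, comp_zero, zero_comp]
    exact isZero_tgt W L ψ.s ψ.hs h1
  prop_of_epi {X Y} f _ hX := by
    obtain ⟨Z, s, hs, h0⟩ := exists_zero_out W L hX
    obtain ⟨ψ, hψ⟩ := (MorphismProperty.RightFraction.mk s hs f).exists_leftFraction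
    dsimp at hψ
    have h1 : ψ.s = 0 := by
      rw [← cancel_epi f, hψ, h0, comp_zero, zero_comp]
    exact isZero_src W L ψ.s ψ.hs h1
  prop_X₂_of_shortExact {S} hS h₁ h₃ := by
    have h : L.map S.g = L.map 0 := IsZero.eq_of_tgt h₃ _ _
    obtain ⟨Z, s, hs, e⟩ := (MorphismProperty.map_eq_iff_precomp L W _ _).1 h
    rw [comp_zero] at e
    have := hS.mono_f
    have hs' : s = hS.exact.lift s e ≫ S.f := (hS.exact.lift_f s e).symm
    have : IsIso (L.map s) := Localization.inverts L W s hs
    have h2 : L.map s = 0 := by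
      rw [hs', L.map_comp, IsZero.eq_of_tgt h₁ (L.map (hS.exact.lift s e)) 0, zero_comp]
    exact isZero_of_isIso_zero_tgt (L.map s) h2

variable [W.HasLeftCalculusOfFractions] [W.HasRightCalculusOfFractions]
  [(kerProp L).IsSerreClass]

lemma le_isoModSerre : W ≤ (kerProp L).isoModSerre := by
  intro X Y s hs
  have : IsIso (L.map s) := Localization.inverts L W s hs
  constructor
  · show IsZero (L.obj (kernel s))
    have h : L.map (kernel.ι s) = L.map 0 := by
      rw [← cancel_mono (L.map s), ← L.map_comp, kernel.condition, L.map_zero, L.map_zero,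
        zero_comp]
    obtain ⟨Z, t, ht, e⟩ := (MorphismProperty.map_eq_iff_precomp L W _ _).1 h
    have h0 : t = 0 := by rw [← cancel_mono (kernel.ι s), e, comp_zero, zero_comp]
    exact isZero_tgt W L t ht h0
  · show IsZero (L.obj (cokernel s))
    have h : L.map (cokernel.π s) = L.map 0 := by
      rw [← cancel_epi (L.map s), ← L.map_comp, cokernel.condition, L.map_zero, L.map_zero,
        comp_zero]
    obtain ⟨Z, t, ht, e⟩ := (MorphismProperty.map_eq_iff_postcomp L W _ _).1 h
    have h0 : t = 0 := by rw [← cancel_epi (cokernel.π s), e, comp_zero, zero_comp]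
    exact isZero_src W L t ht h0

lemma isIso_of_splitMono_of_epi {C : Type*} [Category C] {X Y Z : C} (f : X ⟶ Y) (h : Y ⟶ Z)
    [Epi f] [IsIso (f ≫ h)] : IsIso f := by
  refine ⟨h ≫ inv (f ≫ h), by rw [← Category.assoc, IsIso.hom_inv_id], ?_⟩
  rw [← cancel_epi f, ← Category.assoc, ← Category.assoc, IsIso.hom_inv_id, Category.id_comp,
    Category.comp_id]

lemma isIso_of_splitEpi_of_mono {C : Type*} [Category C] {X Y Z : C} (h : X ⟶ Y) (f : Y ⟶ Z)
    [Mono f] [IsIso (h ≫ f)] : IsIso f := by
  refine ⟨inv (h ≫ f) ≫ h, ?_, by rw [Category.assoc, IsIso.inv_hom_id]⟩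
  rw [← cancel_mono f, Category.assoc, Category.assoc, IsIso.inv_hom_id, Category.id_comp,
    Category.comp_id]

include W in
lemma isInvertedBy_isoModSerre : (kerProp L).isoModSerre.IsInvertedBy L := by
  intro X Y f hf
  obtain ⟨hK, hC⟩ := hf
  -- coimage part
  have h1 : IsIso (L.map (Abelian.coimage.π f)) := by
    obtain ⟨Y₁, s, hs, h0⟩ := exists_zero_out W L (show IsZero (L.obj (kernel f)) from hK)
    obtain ⟨ψ, hψ⟩ := (MorphismProperty.RightFraction.mk s hs (kernel.ι f)).exists_leftFraction
    dsimp at hψ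
    have hk : kernel.ι f ≫ ψ.s = 0 := by rw [hψ, h0, zero_comp]
    have hfac : Abelian.coimage.π f ≫ cokernel.desc (kernel.ι f) ψ.s hk = ψ.s :=
      cokernel.π_desc _ _ _
    have : Epi (L.map (Abelian.coimage.π f)) := epi_map W L _
    have : IsIso (L.map (Abelian.coimage.π f) ≫
        L.map (cokernel.desc (kernel.ι f) ψ.s hk)) := by
      rw [← L.map_comp, hfac]
      exact Localization.inverts L W ψ.s ψ.hs
    exact isIso_of_splitMono_of_epi _ (L.map (cokernel.desc (kernel.ι f) ψ.s hk))
  have h2 : IsIso (L.map (Abelian.image.ι f)) := by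
    obtain ⟨Z₁, t, ht, h0⟩ := exists_zero_in W L (show IsZero (L.obj (cokernel f)) from hC)
    obtain ⟨ψ, hψ⟩ := (MorphismProperty.LeftFraction.mk (cokernel.π f) t ht).exists_rightFraction
    dsimp at hψ
    have hk : ψ.s ≫ cokernel.π f = 0 := by rw [hψ, h0, comp_zero]
    have hfac : kernel.lift (cokernel.π f) ψ.s hk ≫ Abelian.image.ι f = ψ.s :=
      kernel.lift_ι _ _ _
    have : Mono (L.map (Abelian.image.ι f)) := mono_map W L _
    have : IsIso (L.map (kernel.lift (cokernel.π f) ψ.s hk) ≫
        L.map (Abelian.image.ι f)) := by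
      rw [← L.map_comp, hfac]
      exact Localization.inverts L W ψ.s ψ.hs
    exact isIso_of_splitEpi_of_mono (L.map (kernel.lift (cokernel.π f) ψ.s hk)) _
  have h3 : L.map f = L.map (Abelian.coimage.π f) ≫
      L.map (Abelian.coimageImageComparison f) ≫ L.map (Abelian.image.ι f) := by
    rw [← L.map_comp, ← L.map_comp, Abelian.coimage_image_factorisation]
  rw [h3]
  infer_instance

include W in
lemma isLocalization_isoModSerre : L.IsLocalization (kerProp L).isoModSerre :=
  Functor.IsLocalization.of_equivalence_source L W L (kerProp L).isoModSerre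
    (CategoryTheory.Equivalence.refl) (fun _ _ f hf =>
      MorphismProperty.le_isoClosure _ _ (le_isoModSerre W L f hf))
    (isInvertedBy_isoModSerre W L) (Functor.leftUnitor L)

end

/-- Let A be an abelian category, W a class of morphisms admitting both left and right calculus of
fractions, and L : A ⥤ D a localization functor for W. Then D admits the structure of an abelian
category and L is exact (preserves finite limits and finite colimits). -/
theorem result {A : Type u} [Category.{v} A] [Abelian A]
    (W : MorphismProperty A) [W.HasLeftCalculusOfFractions] [W.HasRightCalculusOfFractions]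
    {D : Type u'} [Category.{v'} D] (L : A ⥤ D) [L.IsLocalization W] :
    Nonempty (Abelian D) ∧ PreservesFiniteLimits L ∧ PreservesFiniteColimits L := by
  let _ := Localization.preadditive L W
  have := Localization.functor_additive L W
  have := isSerreClass_kerProp W L
  have := isLocalization_isoModSerre W L
  exact ⟨⟨ObjectProperty.SerreClassLocalization.abelian L (kerProp L)⟩,
    ObjectProperty.SerreClassLocalization.preservesFiniteLimits L (kerProp L),
    ObjectProperty.SerreClassLocalization.preservesFiniteColimits L (kerProp L)⟩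

end Groth.Agent.S1072
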