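-- Statement S10721: glueing pairs detect surjectivity.
import Groth.Statements.S10721
import Groth.Agent.H10.Glue

set_option autoImplicit false
universe u
open TensorProduct
open EtAlg

namespace Groth.Agent.S10721

/-- Glueing along a glueing pair detects closed immersions of affine schemes, stated for coordinate
rings. Let `(R → R', f)` be a glueing pair and `φ : A → B` a homomorphism of `R`-algebras with `A`,
`B` glueable as `R`-modules (so `Spec A`, `Spec B` are affine and glueable over `Spec R`). Then `φ`
is surjective (a closed immersion on spectra) if and only if `A_f → B_f` and `R' ⊗_R A → R' ⊗_R B`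
are surjective. -/
theorem result (R : Type u) [CommRing R] (R' : Type u) [CommRing R'] [Algebra R R'] (f : R)
    (hRR' : EtGlue.IsGlueingPair R R' f) (A B : Type u) [CommRing A] [Algebra R A] [CommRing B] [Algebra R B]
    (hA : EtGlue.IsGlueable R R' f A) (hB : EtGlue.IsGlueable R R' f B) (φ : A →ₐ[R] B) :
    Function.Surjective φ ↔
      Function.Surjective (Localization.awayMap φ.toRingHom (algebraMap R A f)) ∧ Function.Surjective (Algebra.TensorProduct.map (AlgHom.id R R') φ).toRingHom := by
  have hq : EtGlue.QuotPowBijective R R' f := hRR'.1
  have hφf : φ.toRingHom (algebraMap R A f) = algebraMap R B f := φ.commutes f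
  constructor
  · intro hφ
    refine ⟨?_, ?_⟩
    · rw [Localization.awayMap_surjective_iff]
      intro b
      obtain ⟨a, ha⟩ := hφ b
      exact ⟨a, 0, by simpa using ha⟩
    · intro z
      induction z using TensorProduct.induction_on with
      | zero => exact ⟨0, map_zero _⟩
      | tmul x b =>
        obtain ⟨a, rfl⟩ := hφ b
        exact ⟨x ⊗ₜ[R] a, by simp⟩
      | add x y hx hy =>
        obtain ⟨x', rfl⟩ := hx
        obtain ⟨y', rfl⟩ := hy
        exact ⟨x' + y', map_add _ _ _⟩
  · rintro ⟨h1, h2⟩
    have htop : LinearMap.range φ.toLinearMap = ⊤ := by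
      apply Groth.Agent.H10.Glue.eq_top_of_tensor_of_localized hq
      · intro z
        obtain ⟨y, hy⟩ := h2 z
        refine ⟨(φ.toLinearMap.rangeRestrict.lTensor R') y, ?_⟩
        rw [← LinearMap.comp_apply, ← LinearMap.lTensor_comp, ← hy]
        have : (LinearMap.range φ.toLinearMap).subtype ∘ₗ φ.toLinearMap.rangeRestrict =
            φ.toLinearMap := by ext; rfl
        rw [this]
        clear hy
        induction y using TensorProduct.induction_on with
        | zero => simp
        | tmul x a => simp
        | add a b ha hb => rw [map_add, map_add, ha, hb]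
      · intro b
        rw [Localization.awayMap_surjective_iff] at h1
        obtain ⟨a, m, ham⟩ := h1 b
        refine ⟨m, a, ?_⟩
        rw [AlgHom.toLinearMap_apply]
        change φ.toRingHom a = _
        rw [ham, hφf, Algebra.smul_def, map_pow]
    intro b
    have : b ∈ LinearMap.range φ.toLinearMap := htop ▸ Submodule.mem_top
    obtain ⟨a, ha⟩ := this
    exact ⟨a, ha⟩

end Groth.Agent.S10721
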