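-- Statement S10722: glueing pairs detect finite type ring maps.
import Groth.Statements.S10722
import Groth.Agent.H10.Glue
import Mathlib.RingTheory.RingHom.FiniteType

set_option autoImplicit false
universe u
open TensorProduct
open EtAlg

namespace Groth.Agent.S10722

/-- Glueing along a glueing pair detects finite type morphisms of affine schemes, stated for coordinate
rings. Let `(R → R', f)` be a glueing pair and `φ : A → B` a homomorphism of `R`-algebras with `A`,
`B` glueable as `R`-modules (so `Spec A`, `Spec B` are affine and glueable over `Spec R`). Then `φ`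
is of finite type if and only if `A_f → B_f` and `R' ⊗_R A → R' ⊗_R B` are. -/
theorem result (R : Type u) [CommRing R] (R' : Type u) [CommRing R'] [Algebra R R'] (f : R)
    (hRR' : EtGlue.IsGlueingPair R R' f) (A B : Type u) [CommRing A] [Algebra R A] [CommRing B] [Algebra R B]
    (hA : EtGlue.IsGlueable R R' f A) (hB : EtGlue.IsGlueable R R' f B) (φ : A →ₐ[R] B) :
    φ.toRingHom.FiniteType ↔ (Localization.awayMap φ.toRingHom (algebraMap R A f)).FiniteType ∧ (Algebra.TensorProduct.map (AlgHom.id R R') φ).toRingHom.FiniteType := by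
  classical
  have hq : EtGlue.QuotPowBijective R R' f := hRR'.1
  have hφf : φ.toRingHom (algebraMap R A f) = algebraMap R B f := φ.commutes f
  set g : B := φ.toRingHom (algebraMap R A f) with hg
  set ψ := (Algebra.TensorProduct.map (AlgHom.id R R') φ).toRingHom with hψ
  constructor
  · intro hφ
    refine ⟨RingHom.localization_away_map_finiteType A B _ _ φ.toRingHom _ hφ, ?_⟩
    -- base change
    letI algAB : Algebra A B := φ.toRingHom.toAlgebra
    letI algψ : Algebra (R' ⊗[R] A) (R' ⊗[R] B) := ψ.toAlgebra
    have hφ' : Algebra.FiniteType A B := hφ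
    obtain ⟨s, hs⟩ := hφ'.out
    change Algebra.FiniteType (R' ⊗[R] A) (R' ⊗[R] B)
    refine ⟨⟨s.image fun b => (1 : R') ⊗ₜ[R] b, ?_⟩⟩
    rw [eq_top_iff]
    have key : ∀ b : B, b ∈ Algebra.adjoin A (s : Set B) → ∀ x : R', x ⊗ₜ[R] b ∈
        Algebra.adjoin (R' ⊗[R] A) ((s.image fun b => (1 : R') ⊗ₜ[R] b : Finset _) : Set _) := by
      intro b hb
      induction hb using Algebra.adjoin_induction with
      | mem b hb =>
        intro x
        have h1 : x ⊗ₜ[R] b = algebraMap (R' ⊗[R] A) (R' ⊗[R] B) (x ⊗ₜ[R] (1 : A)) *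
            ((1 : R') ⊗ₜ[R] b) := by
          change _ = ψ (x ⊗ₜ[R] (1 : A)) * _
          simp [hψ, Algebra.TensorProduct.tmul_mul_tmul]
        rw [h1]
        apply Subalgebra.mul_mem _ (Subalgebra.algebraMap_mem _ _)
        apply Algebra.subset_adjoin
        exact Finset.mem_coe.mpr (Finset.mem_image_of_mem _ hb)
      | algebraMap a =>
        intro x
        have h1 : x ⊗ₜ[R] (algebraMap A B a) =
            algebraMap (R' ⊗[R] A) (R' ⊗[R] B) (x ⊗ₜ[R] a) := by
          change x ⊗ₜ[R] (φ a) = ψ (x ⊗ₜ[R] a)
          simp [hψ]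
        rw [h1]
        exact Subalgebra.algebraMap_mem _ _
      | add b₁ b₂ _ _ h₁ h₂ => intro x; rw [tmul_add]; exact Subalgebra.add_mem _ (h₁ x) (h₂ x)
      | mul b₁ b₂ _ _ h₁ h₂ =>
        intro x
        have h1 : x ⊗ₜ[R] (b₁ * b₂) = (x ⊗ₜ[R] b₁) * ((1 : R') ⊗ₜ[R] b₂) := by
          simp [Algebra.TensorProduct.tmul_mul_tmul]
        rw [h1]
        exact Subalgebra.mul_mem _ (h₁ x) (h₂ 1)
    have hall : ∀ z : R' ⊗[R] B, z ∈ Algebra.adjoin (R' ⊗[R] A)
        ((s.image fun b => (1 : R') ⊗ₜ[R] b : Finset _) : Set _) := by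
      intro z
      induction z using TensorProduct.induction_on with
      | zero => exact Subalgebra.zero_mem _
      | tmul x b => exact key b (hs ▸ Algebra.mem_top) x
      | add a b ha hb => exact Subalgebra.add_mem _ ha hb
    intro z _
    exact hall z
  · rintro ⟨h2, h1⟩
    letI algAB : Algebra A B := φ.toRingHom.toAlgebra
    have halg : ∀ a : A, algebraMap A B a = φ a := fun a => rfl
    haveI tower : IsScalarTower R A B := IsScalarTower.of_algebraMap_eq fun r => (φ.commutes r).symm
    -- generators after base change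
    have h1' : @Algebra.FiniteType (R' ⊗[R] A) (R' ⊗[R] B) _ _ ψ.toAlgebra := h1
    obtain ⟨s₁, hs₁⟩ := h1'.out
    obtain ⟨N₁, hN₁, hsN₁⟩ := TensorProduct.exists_finite_submodule_right_of_setFinite
      (s₁ : Set (R' ⊗[R] B)) s₁.finite_toSet
    obtain ⟨t₁, ht₁⟩ := Module.Finite.iff_fg.mp hN₁
    -- generators after localization
    have h2' : @Algebra.FiniteType (Localization.Away (algebraMap R A f))
      (Localization.Away g) _ _
      (Localization.awayMap φ.toRingHom (algebraMap R A f)).toAlgebra := h2
    obtain ⟨s₂, hs₂⟩ := h2'.out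
    have hsurj := fun y : Localization.Away g => IsLocalization.Away.surj g y
    choose k₂ b₂ hb₂ using hsurj
    -- the `A`-subalgebra generated by all of these
    let C₀ : Subalgebra A B := Algebra.adjoin A ((t₁ : Set B) ∪ (s₂.image b₂ : Finset B))
    let C : Subalgebra R B := C₀.restrictScalars R
    let P : Submodule R B := Subalgebra.toSubmodule C
    have hPC : ∀ b, b ∈ P ↔ b ∈ C₀ := fun b => Iff.rfl
    have hPmul : ∀ a p, p ∈ P → φ a * p ∈ P := fun a p hp => by
      rw [hPC] at hp ⊢
      rw [← halg]
      exact C₀.mul_mem (C₀.algebraMap_mem a) hp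
    have hPmul' : ∀ p q, p ∈ P → q ∈ P → p * q ∈ P := fun p q hp hq => C.mul_mem hp hq
    have hN₁P : N₁ ≤ P := by
      rw [← ht₁, Submodule.span_le]
      intro b hb
      exact Algebra.subset_adjoin (Or.inl hb)
    have hPg : ∀ p, p ∈ P → g * p ∈ P := fun p hp => hPmul _ p hp
    have htop : P = ⊤ := by
      apply Groth.Agent.H10.Glue.eq_top_of_tensor_of_localized hq
      · -- surjectivity after base change
        letI algψ : Algebra (R' ⊗[R] A) (R' ⊗[R] B) := ψ.toAlgebra
        have hone : (1 : R' ⊗[R] B) ∈ LinearMap.range (P.subtype.lTensor R') :=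
          ⟨(1 : R') ⊗ₜ[R] ⟨1, C.one_mem⟩, rfl⟩
        have hmem : ∀ z ∈ Algebra.adjoin (R' ⊗[R] A) (s₁ : Set (R' ⊗[R] B)),
            z ∈ LinearMap.range (P.subtype.lTensor R') := by
          intro z hz
          induction hz using Algebra.adjoin_induction with
          | mem z hz =>
            obtain ⟨w, rfl⟩ := hsN₁ hz
            refine ⟨(Submodule.inclusion hN₁P).lTensor R' w, ?_⟩
            rw [← LinearMap.comp_apply, ← LinearMap.lTensor_comp]
            rfl
          | algebraMap c =>
            have := Groth.Agent.H10.Glue.lTensor_range_mul_mem φ P hPmul c 1 hone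
            rwa [mul_one] at this
          | add z₁ z₂ _ _ h₁ h₂ => exact Submodule.add_mem _ h₁ h₂
          | mul z₁ z₂ _ _ h₁ h₂ =>
            exact Groth.Agent.H10.Glue.lTensor_range_mul_mem' C z₁ z₂ h₁ h₂
        intro z
        exact hmem z (hs₁ ▸ Algebra.mem_top)
      · -- after localization
        letI algloc : Algebra (Localization.Away (algebraMap R A f)) (Localization.Away g) :=
          (Localization.awayMap φ.toRingHom (algebraMap R A f)).toAlgebra
        have hmem : ∀ y ∈ Algebra.adjoin (Localization.Away (algebraMap R A f))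
            (s₂ : Set (Localization.Away g)), y ∈ Groth.Agent.H10.Glue.locSet g P := by
          intro y hy
          induction hy using Algebra.adjoin_induction with
          | mem y hy =>
            refine ⟨k₂ y, b₂ y, ?_, hb₂ y⟩
            apply Algebra.subset_adjoin
            exact Or.inr (Finset.mem_coe.mpr (Finset.mem_image_of_mem _ hy))
          | algebraMap c =>
            have := Groth.Agent.H10.Glue.locSet_awayMap_mul φ (algebraMap R A f) P hPmul c
              (Groth.Agent.H10.Glue.locSet_algebraMap g P (p := 1) C.one_mem)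
            rwa [map_one, mul_one] at this
          | add y₁ y₂ _ _ h₁ h₂ => exact Groth.Agent.H10.Glue.locSet_add g P hPg h₁ h₂
          | mul y₁ y₂ _ _ h₁ h₂ => exact Groth.Agent.H10.Glue.locSet_mul g P hPmul' h₁ h₂
        intro b
        obtain ⟨k, hk⟩ := Groth.Agent.H10.Glue.exists_pow_mul_mem_of_mem_locSet g P hPg b
          (hmem _ (hs₂ ▸ Algebra.mem_top))
        refine ⟨k, ?_⟩
        rw [Algebra.smul_def, map_pow, ← hφf]
        exact hk
    change Algebra.FiniteType A B
    refine ⟨⟨t₁ ∪ s₂.image b₂, ?_⟩⟩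
    rw [eq_top_iff]
    intro b _
    have : b ∈ P := htop ▸ Submodule.mem_top
    rw [Finset.coe_union]
    exact this

end Groth.Agent.S10722
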