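import Groth.Statements.S10724
import Groth.Agent.H10.GlueEtale
import Groth.Agent.S10723

set_option autoImplicit false
universe u
open TensorProduct
open EtAlg

namespace Groth.Agent.S10724

/-- Glueing along a glueing pair detects etale morphisms of affine schemes, stated for coordinate rings.
Let `(R → R', f)` be a glueing pair and `φ : A → B` a homomorphism of `R`-algebras with `A`, `B`
glueable as `R`-modules (so `Spec A`, `Spec B` are affine and glueable over `Spec R`). Then `φ` is
etale if and only if `A_f → B_f` and `R' ⊗_R A → R' ⊗_R B` are. -/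
theorem result (R : Type u) [CommRing R] (R' : Type u) [CommRing R'] [Algebra R R'] (f : R)
    (hRR' : EtGlue.IsGlueingPair R R' f) (A B : Type u) [CommRing A] [Algebra R A] [CommRing B] [Algebra R B]
    (hA : EtGlue.IsGlueable R R' f A) (hB : EtGlue.IsGlueable R R' f B) (φ : A →ₐ[R] B) :
    φ.toRingHom.Etale ↔ (Localization.awayMap φ.toRingHom (algebraMap R A f)).Etale ∧ (Algebra.TensorProduct.map (AlgHom.id R R') φ).toRingHom.Etale := by
  have key := Groth.Agent.S10723.result R R' f hRR' A B hA hB φ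
  simp only [RingHom.Etale.iff_flat_and_formallyUnramified]
  constructor
  · rintro ⟨hf, hu, hp⟩
    obtain ⟨⟨a1, a2⟩, ⟨b1, b2⟩⟩ := key.mp ⟨hf, hp⟩
    refine ⟨⟨a1, ?_, a2⟩, ⟨b1, ?_, b2⟩⟩
    · exact RingHom.FormallyUnramified.isStableUnderBaseChange.localizationPreserves.away
        φ.toRingHom (algebraMap R A f) _ _ hu
    · exact Groth.Agent.H10.GlueAlg.map_of_isStableUnderBaseChange φ
        RingHom.FormallyUnramified.isStableUnderBaseChange hu
  · rintro ⟨⟨a1, au, a2⟩, ⟨b1, bu, b2⟩⟩
    obtain ⟨hf, hp⟩ := key.mpr ⟨⟨a1, a2⟩, ⟨b1, b2⟩⟩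
    exact ⟨hf, Groth.Agent.H10.GlueEtale.formallyUnramified_descent φ hRR'.1 bu au, hp⟩

end Groth.Agent.S10724
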