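-- Statement S10727: glueing algebras along a glueing pair.
import Groth.Statements.S10727
import Groth.Agent.H10.Glue

set_option autoImplicit false
universe u
open TensorProduct
open EtAlg

namespace Groth.Agent.S10727

/-- Glueing affine schemes along a glueing pair, stated for their coordinate rings. Let `(R → R', f)` be
a glueing pair, `A₁` an `R`-algebra in which `f` is invertible, `A'` an `R'`-algebra and `φ : A'_f ≅
R' ⊗_R A₁` an isomorphism of `R'`-algebras. Then there is an `R`-algebra `A`, glueable as an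
`R`-module, with isomorphisms `A_f ≅ A₁` of `R`-algebras and `R' ⊗_R A ≅ A'` of `R'`-algebras under
which `φ` is the canonical identification `(R' ⊗_R A)_f = R' ⊗_R A_f`. (The published statement is
that base change is an equivalence between affine schemes over `Spec R` that are glueable and
triples of affine schemes over `Spec R_f`, `Spec R'_f`, `Spec R'` with cartesian squares; this row
states only that every such triple arises, on coordinate rings.) -/
theorem result (R : Type u) [CommRing R] (R' : Type u) [CommRing R'] [Algebra R R']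
    (f : R) (hRR' : EtGlue.IsGlueingPair R R' f) (A₁ : Type u) [CommRing A₁] [Algebra R A₁]
    (h₁ : IsUnit (algebraMap R A₁ f)) (A' : Type u) [CommRing A'] [Algebra R A'] [Algebra R' A']
    [IsScalarTower R R' A'] (φ : Localization.Away (algebraMap R A' f) ≃ₐ[R'] R' ⊗[R] A₁) :
    ∃ (A : Type u) (_ : CommRing A) (_ : Algebra R A) (_ : EtGlue.IsGlueable R R' f A)
      (e₁ : Localization.Away (algebraMap R A f) ≃ₐ[R] A₁) (e' : R' ⊗[R] A ≃ₐ[R'] A'),
      ∀ a : A, φ (algebraMap A' (Localization.Away (algebraMap R A' f)) (e' ((1 : R') ⊗ₜ[R] a))) =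
        (1 : R') ⊗ₜ[R] e₁ (algebraMap A (Localization.Away (algebraMap R A f)) a) := by
  have hq : EtGlue.QuotPowBijective R R' f := hRR'.1
  -- the map `β₀ : A' → R' ⊗ A₁`
  let β₀ : A' →ₐ[R'] R' ⊗[R] A₁ :=
    φ.toAlgHom.comp (IsScalarTower.toAlgHom R' A' (Localization.Away (algebraMap R A' f)))
  have hβ₀ : ∀ x, β₀ x = φ (algebraMap A' _ x) := fun x => rfl
  let β : A' →ₗ[R'] R' ⊗[R] A₁ := β₀.toLinearMap
  have hββ₀ : ∀ x, β x = β₀ x := fun x => rfl
  have hβ₀R : ∀ r : R, β₀ (algebraMap R A' r) = algebraMap R (R' ⊗[R] A₁) r := by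
    intro r
    rw [IsScalarTower.algebraMap_apply R R' A', AlgHom.commutes,
      ← IsScalarTower.algebraMap_apply R R' (R' ⊗[R] A₁)]
  have hf : Function.Bijective fun x : A₁ => f • x := by
    have : (fun x : A₁ => f • x) = fun x => (h₁.unit : A₁) * x := by
      funext x; rw [Algebra.smul_def]; rfl
    rw [this]
    exact h₁.unit.mulLeft_bijective
  have hβ1 : ∀ m', β m' = 0 → ∃ k : ℕ, f ^ k • m' = 0 := by
    intro m' hm'
    rw [hββ₀, hβ₀, EmbeddingLike.map_eq_zero_iff,
      IsLocalization.map_eq_zero_iff (Submonoid.powers (algebraMap R A' f))] at hm'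
    obtain ⟨c, hc⟩ := hm'
    obtain ⟨k, hk⟩ := (Submonoid.mem_powers_iff _ _).mp c.2
    refine ⟨k, ?_⟩
    rw [Algebra.smul_def, map_pow, hk]
    exact hc
  have hβ2 : ∀ y, ∃ (k : ℕ) (m' : A'), β m' = f ^ k • y := by
    intro y
    obtain ⟨k, a', ha'⟩ := IsLocalization.Away.surj (algebraMap R A' f) (φ.symm y)
    refine ⟨k, a', ?_⟩
    rw [hββ₀, hβ₀, ← ha', map_mul, AlgEquiv.apply_symm_apply, map_pow, ← hβ₀, hβ₀R,
      Algebra.smul_def, map_pow, mul_comm]
  -- the glued algebra
  let Asub : Subalgebra R (A' × A₁) :=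
    { carrier := {p | β p.1 = (1 : R') ⊗ₜ[R] p.2}
      mul_mem' := fun {a b} (ha : β a.1 = (1 : R') ⊗ₜ[R] a.2) (hb : β b.1 = (1 : R') ⊗ₜ[R] b.2) =>
        show β (a * b).1 = (1 : R') ⊗ₜ[R] (a * b).2 by
          rw [Prod.fst_mul, Prod.snd_mul, hββ₀, map_mul, ← hββ₀, ← hββ₀, ha, hb,
            Algebra.TensorProduct.tmul_mul_tmul, one_mul]
      one_mem' := show β (1 : A' × A₁).1 = (1 : R') ⊗ₜ[R] (1 : A' × A₁).2 by
        rw [Prod.fst_one, Prod.snd_one, hββ₀, map_one]; rfl
      add_mem' := fun {a b} (ha : β a.1 = (1 : R') ⊗ₜ[R] a.2) (hb : β b.1 = (1 : R') ⊗ₜ[R] b.2) =>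
        show β (a + b).1 = (1 : R') ⊗ₜ[R] (a + b).2 by
          rw [Prod.fst_add, Prod.snd_add, map_add, tmul_add, ha, hb]
      zero_mem' := show β (0 : A' × A₁).1 = (1 : R') ⊗ₜ[R] (0 : A' × A₁).2 by simp
      algebraMap_mem' := fun r =>
        show β (algebraMap R (A' × A₁) r).1 = (1 : R') ⊗ₜ[R] (algebraMap R (A' × A₁) r).2 by
          rw [Prod.algebraMap_apply, hββ₀, hβ₀R]
          show algebraMap R (R' ⊗[R] A₁) r = (1 : R') ⊗ₜ[R] (algebraMap R A₁ r)
          rw [Algebra.algebraMap_eq_smul_one, Algebra.algebraMap_eq_smul_one (A := A₁), tmul_smul]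
          rfl }
  let e : Asub ≃ₗ[R] Groth.Agent.H10.Glue.glueSub β :=
    { toFun := fun a => ⟨a.1, a.2⟩
      invFun := fun p => ⟨p.1, p.2⟩
      map_add' := fun _ _ => rfl
      map_smul' := fun _ _ => rfl
      left_inv := fun _ => rfl
      right_inv := fun _ => rfl }
  have hmem : ∀ a : Asub, β (a : A' × A₁).1 = (1 : R') ⊗ₜ[R] (a : A' × A₁).2 := fun a => a.2
  have hglue : EtGlue.IsGlueable R R' f Asub :=
    Groth.Agent.H10.Glue.isGlueable_of_linearEquiv hq e
      (Groth.Agent.H10.Glue.glueSub_isGlueable hRR' β hf hβ1 hβ2)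
  -- projections
  let pr₁ : Asub →ₐ[R] A' := (AlgHom.fst R A' A₁).comp Asub.val
  let pr₂ : Asub →ₐ[R] A₁ := (AlgHom.snd R A' A₁).comp Asub.val
  have hpr₁ : ∀ a : Asub, pr₁ a = (a : A' × A₁).1 := fun a => rfl
  have hpr₂ : ∀ a : Asub, pr₂ a = (a : A' × A₁).2 := fun a => rfl
  -- `A₁` is the localization of `A`
  letI algAA₁ : Algebra Asub A₁ := pr₂.toRingHom.toAlgebra
  have halgAA₁ : ∀ a : Asub, algebraMap Asub A₁ a = (a : A' × A₁).2 := fun a => rfl
  haveI towerA₁ : IsScalarTower R Asub A₁ :=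
    IsScalarTower.of_algebraMap_eq fun r => (pr₂.commutes r).symm
  have instLoc := Groth.Agent.H10.Glue.glueSnd_isLocalizedModule β hf hβ1 hβ2
  haveI locA₁ : IsLocalization.Away (algebraMap R Asub f) A₁ := by
    apply IsLocalization.Away.mk
    · rw [← IsScalarTower.algebraMap_apply R Asub A₁]; exact h₁
    · intro s
      obtain ⟨⟨p, c⟩, hpc⟩ := IsLocalizedModule.surj (Submonoid.powers f)
        (Groth.Agent.H10.Glue.glueSnd β) s
      obtain ⟨k, hk⟩ := (Submonoid.mem_powers_iff _ _).mp c.2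
      refine ⟨k, e.symm p, ?_⟩
      rw [← IsScalarTower.algebraMap_apply R Asub A₁, ← map_pow, mul_comm, ← Algebra.smul_def, hk]
      exact hpc
    · intro a b hab
      have hab' : Groth.Agent.H10.Glue.glueSnd β (e a) = Groth.Agent.H10.Glue.glueSnd β (e b) := hab
      obtain ⟨c, hc⟩ := IsLocalizedModule.exists_of_eq (S := Submonoid.powers f) hab'
      obtain ⟨k, hk⟩ := (Submonoid.mem_powers_iff _ _).mp c.2
      refine ⟨k, ?_⟩
      apply e.injective
      rw [← map_pow, ← Algebra.smul_def, ← Algebra.smul_def, map_smul, map_smul, hk]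
      exact hc
  let e₁ : Localization.Away (algebraMap R Asub f) ≃ₐ[R] A₁ :=
    (Localization.algEquiv (Submonoid.powers (algebraMap R Asub f)) A₁).restrictScalars R
  have he₁ : ∀ a : Asub, e₁ (algebraMap Asub _ a) = (a : A' × A₁).2 := by
    intro a
    change (Localization.algEquiv (Submonoid.powers (algebraMap R Asub f)) A₁)
      (algebraMap Asub _ a) = _
    rw [AlgEquiv.commutes]
    rfl
  -- the comparison with `A'`
  let e'hom : R' ⊗[R] Asub →ₐ[R'] A' :=
    Algebra.TensorProduct.lift (Algebra.ofId R' A') pr₁ (fun _ _ => Commute.all _ _)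
  have he'hom : ∀ z, e'hom z = Groth.Agent.H10.Glue.glueMap β (e.toLinearMap.lTensor R' z) := by
    intro z
    induction z using TensorProduct.induction_on with
    | zero => simp
    | tmul x a =>
      rw [Algebra.TensorProduct.lift_tmul, LinearMap.lTensor_tmul,
        Groth.Agent.H10.Glue.glueMap_tmul, Algebra.ofId_apply, Algebra.smul_def]
      rfl
    | add a b ha hb => rw [map_add, map_add, map_add, ha, hb]
  have hbij : Function.Bijective e'hom := by
    have : (e'hom : R' ⊗[R] Asub → A') =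
        (Groth.Agent.H10.Glue.glueMap β) ∘ (e.lTensor R') := by
      funext z; exact he'hom z
    rw [this]
    exact Function.Bijective.comp ⟨Groth.Agent.H10.Glue.glueMap_injective hRR' β hf hβ1 hβ2,
      Groth.Agent.H10.Glue.glueMap_surjective hq β hβ2⟩ (e.lTensor R').bijective
  refine ⟨Asub, inferInstance, inferInstance, hglue, e₁, AlgEquiv.ofBijective e'hom hbij, ?_⟩
  intro a
  rw [he₁, AlgEquiv.coe_ofBijective, Algebra.TensorProduct.lift_tmul, map_one, one_mul, hpr₁, ← hβ₀]
  exact hmem a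

end Groth.Agent.S10727
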