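import Groth.Statements.S1073
import Groth.Agent.H28.TorAmpQCoh

set_option autoImplicit false
universe u
open CategoryTheory CategoryTheory.Limits AlgebraicGeometry Opposite
attribute [local instance] HasDerivedCategory.standard
open Perf

namespace Groth.Agent.S1073

/-- Let X be a quasi-separated scheme, E ∈ D(O_X) with quasi-coherent cohomology sheaves, and a ≤ b.
Then E has tor amplitude in [a, b] (Hⁱ(E ⊗^L F) = 0 outside [a, b] for every O_X-module F, whenever
the derived functor is available) if and only if the same vanishing holds for every quasi-coherent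
O_X-module F. -/
theorem result (X : Scheme.{u}) [QuasiSeparatedSpace ↥X] (E : DCoh.D X) (hE : DCoh.IsQCohD E)
    (a b : ℤ) (hab : a ≤ b) :
    DCoh.HasTorAmplitudeIn a b E ↔
      ∀ (F : X.Modules), Coh.IsQCoh F → ∀ [DCoh.HasLTensorMod F] (i : ℤ), (i < a ∨ b < i) →
        IsZero (DCoh.HD ((DCoh.LTensorMod F).obj E) i) := by
  constructor
  · intro h F _ _ i hi
    exact h F i hi
  · intro h
    obtain ⟨P, hP, ⟨eP⟩⟩ := Groth.Agent.H28.LpullLoc.exists_kflat_rep E
    have h1 : DCoh.HasFlatAmplitudeIn a b (DCoh.toD X P) :=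
      Groth.Agent.H28.TorAmpQCoh.hasFlatAmplitudeIn_of_qcoh_vanishing P hP a b
        (fun G hG i hi => by
          haveI := Groth.Agent.H28.TorAmpQCoh.hasLTensorMod G
          have h2 := h G hG i hi
          have h3 : IsZero (DCoh.HD ((DCoh.LTensorMod G).obj (DCoh.toD X P)) i) :=
            h2.of_iso ((DerivedCategory.homologyFunctor X.Modules i).mapIso
              ((DCoh.LTensorMod G).mapIso eP))
          exact (Groth.Agent.H40.TorAmp.HDLTensorIso G P hP i).isZero_iff.1 h3)
    apply Groth.Agent.H40.TorAmp.hasTorAmplitudeIn_of_hasFlatAmplitudeIn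
    obtain ⟨Φ, hv, hfl, ⟨e⟩⟩ := h1
    exact ⟨Φ, hv, hfl, ⟨e ≪≫ eP⟩⟩

end Groth.Agent.S1073
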