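import Groth.Statements.S10746
import Groth.Agent.H32.FP.PushBC
import Groth.Agent.H32.FP.Main2
import Groth.Agent.H32.WAFin.Chart
import Groth.Agent.H44.FPres_FINBC

set_option autoImplicit false
universe u
open CategoryTheory CategoryTheory.Limits AlgebraicGeometry Opposite
open AlgSp

namespace Groth.Agent.S10746

/-- Take a finite morphism f : X ⟶ Y of algebraic spaces over S whose target Y is locally Noetherian;
such a morphism is representable, and the representability is carried as a hypothesis. Let M be a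
coherent O_X-module on the small etale site of X (of finite presentation; X is locally Noetherian as
well). Then the O_Y-module f_* M is coherent (of finite presentation). (The vanishing of R^p f_* M
for p > 0, which holds for every integral morphism and every abelian sheaf, is not repeated here.) -/
theorem result {S : Scheme.{u}} {X Y : AlgSp.Space S} (f : X ⟶ Y)
    (hf : AlgSp.Representable f.hom) (hfin : AlgSp.IsFiniteMor f.hom) (hY : AlgSp.IsLocNoethSp Y.obj)
    (M : AlgSp.ModEt X.obj) [M.IsFinitePresentation] :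
    ((AlgSp.pushModEt hf).obj M).IsFinitePresentation := by
  have haff : AlgSp.IsAffineMor f.hom := fun Z hZ g => by
    obtain ⟨W, i, fst, sq, hW, -⟩ := hfin hZ g
    exact ⟨W, i, fst, sq, hW⟩
  refine Groth.Agent.H32.FP2.isFinitePresentation_of_forall_affine_finite Y.obj hY _
    (fun g hE hV => Groth.Agent.H32.FP.isBC_push hf haff M g hE hV) (fun E hE => ?_)
  obtain ⟨hbE, hfinR⟩ := Groth.Agent.H44.FPres_FINBC.finite_bc hf hfin E hE
  letI alg : Algebra ((AlgSp.OEt Y.obj).obj.obj (Opposite.op E))
      ((AlgSp.OEt X.obj).obj.obj (Opposite.op ((AlgSp.EtOver.bc hf).obj E))) :=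
    (Groth.Agent.H32.FP.bcR hf E).toAlgebra
  have hR : (Groth.Agent.H32.FP.bcR hf E).Finite := by
    have h0 : Groth.Agent.H32.FP.bcR hf E =
        (ULift.ringEquiv (R := Γ(((AlgSp.EtOver.bc hf).obj E).obj.left.left, ⊤))).symm.toRingHom.comp
          ((hf.snd E.obj.hom).left.appTop.hom.comp
            (ULift.ringEquiv (R := Γ(E.obj.left.left, ⊤))).toRingHom) := rfl
    rw [h0]
    exact RingHom.Finite.comp
      (RingHom.Finite.of_surjective _
        (ULift.ringEquiv (R := Γ(((AlgSp.EtOver.bc hf).obj E).obj.left.left, ⊤))).symm.surjective)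
      (RingHom.Finite.comp hfinR
        (RingHom.Finite.of_surjective _ (ULift.ringEquiv (R := Γ(E.obj.left.left, ⊤))).surjective))
  haveI : Module.Finite ((AlgSp.OEt Y.obj).obj.obj (Opposite.op E))
      ((AlgSp.OEt X.obj).obj.obj (Opposite.op ((AlgSp.EtOver.bc hf).obj E))) := hR
  haveI : Module.Finite ((AlgSp.OEt X.obj).obj.obj (Opposite.op ((AlgSp.EtOver.bc hf).obj E)))
      (M.val.obj (Opposite.op ((AlgSp.EtOver.bc hf).obj E))) :=
    Groth.Agent.H32.WAFin.finite_sectModEt X.obj M _ hbE
  letI mA : Module ((AlgSp.OEt Y.obj).obj.obj (Opposite.op E))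
      (M.val.obj (Opposite.op ((AlgSp.EtOver.bc hf).obj E))) :=
    (inferInstance : Module ((AlgSp.OEt Y.obj).obj.obj (Opposite.op E))
      (((AlgSp.pushModEt hf).obj M).val.obj (Opposite.op E)))
  haveI : IsScalarTower ((AlgSp.OEt Y.obj).obj.obj (Opposite.op E))
      ((AlgSp.OEt X.obj).obj.obj (Opposite.op ((AlgSp.EtOver.bc hf).obj E)))
      (M.val.obj (Opposite.op ((AlgSp.EtOver.bc hf).obj E))) :=
    IsScalarTower.of_algebraMap_smul (fun _ _ => rfl)
  exact Module.Finite.trans ((AlgSp.OEt X.obj).obj.obj (Opposite.op ((AlgSp.EtOver.bc hf).obj E)))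
    (M.val.obj (Opposite.op ((AlgSp.EtOver.bc hf).obj E)))

end Groth.Agent.S10746
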