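import Groth.Statements.S10747
import Groth.Agent.H32.FP.Chain
import Groth.Agent.H32.FP.QCCov
import Groth.Agent.H32.WAFin.Chart
import Groth.Agent.H96.FPres_Sub
import Groth.Agent.H37.WAFin_NOETH

set_option autoImplicit false
universe u
open CategoryTheory CategoryTheory.Limits AlgebraicGeometry Opposite
open AlgSp

namespace Groth.Agent.S10747

/-- Let X be a Noetherian algebraic space over S (quasi-compact, quasi-separated, locally Noetherian)
and M a coherent O_X-module on the small etale site of X (of finite presentation, X being locally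
Noetherian). Then every increasing sequence N₁ ≤ N₂ ≤ … of subobjects of M whose underlying modules
are quasi-coherent is eventually constant. -/
theorem result {S : Scheme.{u}} (X : AlgSp.Space S)
    (hqc : AlgSp.IsQuasiCompactSp X.obj) (hqs : AlgSp.IsQuasiSeparatedSp X.obj) (hN : AlgSp.IsLocNoethSp X.obj)
    (M : AlgSp.ModEt X.obj) [M.IsFinitePresentation] (N : ℕ →o Subobject M)
    (hq : ∀ n, (Subobject.underlying.obj (N n)).IsQuasicoherent) :
    ∃ n, ∀ m, n ≤ m → N m = N n := by
  obtain ⟨r, E, hE, hcov⟩ := Groth.Agent.H32.FP.exists_finite_affine_cover X.obj hqc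
  have hfinM : ∀ j, Module.Finite ((AlgSp.OEt X.obj).obj.obj (Opposite.op (E j)))
      (M.val.obj (Opposite.op (E j))) :=
    fun j => Groth.Agent.H32.WAFin.finite_sectModEt X.obj M (E j) (hE j)
  have hNoeth : ∀ j, IsNoetherianRing ((AlgSp.OEt X.obj).obj.obj (Opposite.op (E j))) := fun j => by
    haveI := hE j
    haveI := Groth.Agent.H37.WAFin_NOETH.isNoetherianRing_of_isLocNoethSp X.obj hN (E j)
    exact isNoetherianRing_of_ringEquiv Γ((E j).obj.left.left, ⊤)
      (ULift.ringEquiv (R := Γ((E j).obj.left.left, ⊤))).symm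
  haveI : ∀ j, IsNoetherian ((AlgSp.OEt X.obj).obj.obj (Opposite.op (E j)))
      (M.val.obj (Opposite.op (E j))) := fun j => by
    haveI := hfinM j
    haveI := hNoeth j
    exact isNoetherian_of_isNoetherianRing_of_finite _ _
  let arr : ∀ (n : ℕ) (j : Fin r),
      (Subobject.underlying.obj (N n)).val.obj (Opposite.op (E j))
        →ₗ[(AlgSp.OEt X.obj).obj.obj (Opposite.op (E j))] M.val.obj (Opposite.op (E j)) :=
    fun n j =>
      { toFun := fun a => ((N n).arrow.val.app (Opposite.op (E j))).hom a
        map_add' := fun x y => map_add ((N n).arrow.val.app (Opposite.op (E j))).hom x y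
        map_smul' := fun c a => map_smul ((N n).arrow.val.app (Opposite.op (E j))).hom c a }
  have harr : ∀ (n m : ℕ) (hnm : N n ≤ N m) (j : Fin r)
      (a : (Subobject.underlying.obj (N n)).val.obj (Opposite.op (E j))),
      arr m j (((Subobject.ofLE _ _ hnm).val.app (Opposite.op (E j))).hom a) = arr n j a := by
    intro n m hnm j a
    have h1 := congrArg (fun ψ : Subobject.underlying.obj (N n) ⟶ M =>
      (ψ.val.app (Opposite.op (E j))).hom a) (Subobject.ofLE_arrow hnm)
    exact h1
  let K : ∀ j : Fin r, ℕ →o Submodule ((AlgSp.OEt X.obj).obj.obj (Opposite.op (E j)))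
      (M.val.obj (Opposite.op (E j))) := fun j =>
    ⟨fun n => LinearMap.range (arr n j), fun n m hnm => by
      rintro _ ⟨a, rfl⟩
      exact ⟨_, harr n m (N.monotone hnm) j a⟩⟩
  have hstab : ∀ j, ∃ n, ∀ m, n ≤ m → K j n = K j m := fun j =>
    monotone_stabilizes_iff_noetherian.2 inferInstance (K j)
  choose nj hnj using hstab
  refine ⟨Finset.univ.sup nj, fun m hm => ?_⟩
  have hle : N (Finset.univ.sup nj) ≤ N m := N.monotone hm
  haveI := hq (Finset.univ.sup nj)
  haveI := hq m
  have hepi : Epi (Subobject.ofLE _ _ hle) := by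
    refine Groth.Agent.H32.FP.epi_of_surjective_on_cover X.obj (Subobject.ofLE _ _ hle) E hE hcov
      (fun j t => ?_)
    have h1 : K j (Finset.univ.sup nj) = K j m := by
      rw [← hnj j (Finset.univ.sup nj) (Finset.le_sup (Finset.mem_univ j)),
        ← hnj j m (le_trans (Finset.le_sup (Finset.mem_univ j)) hm)]
    have h2 : arr m j t ∈ K j (Finset.univ.sup nj) := by
      rw [h1]; exact ⟨t, rfl⟩
    obtain ⟨t', ht'⟩ := h2
    refine ⟨t', ?_⟩
    apply Groth.Agent.H96.FPres_Sub.injective_app X.obj (N m).arrow (E j)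
    exact (harr _ _ hle j t').trans ht'
  haveI : IsIso (Subobject.ofLE _ _ hle) := isIso_of_mono_of_epi _
  refine le_antisymm ?_ hle
  refine Subobject.le_of_comm (inv (Subobject.ofLE _ _ hle)) ?_
  rw [IsIso.inv_comp_eq, Subobject.ofLE_arrow]

end Groth.Agent.S10747
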