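import Groth.Statements.S1075
import Groth.Agent.H5.KInj.Products
import Mathlib.Algebra.Homology.HomologicalComplexLimits
import Mathlib.Algebra.Homology.Factorizations.CM5a

set_option autoImplicit false
universe w v u
open CategoryTheory CategoryTheory.Limits
open CohDer

namespace Groth.Agent.S1075

/-- In D(A), for A abelian with enough injectives and countable products, every sequence of
bounded-below objects has a product, so derived limits of such sequences exist. -/
theorem result {A : Type u} [Category.{v} A] [Abelian A] [HasDerivedCategory.{w} A]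
    [HasLimitsOfShape (Discrete ℕ) A] [EnoughInjectives A]
    (K : ℕ → DerivedCategory A) (hK : ∀ n, ∃ a : ℤ, (K n).IsGE a) : HasProduct K := by
  have hres : ∀ n, ∃ (I : CochainComplex A ℤ), I.IsKInjective ∧
      Nonempty (DerivedCategory.Q.obj I ≅ K n) := by
    intro n
    obtain ⟨a, ha⟩ := hK n
    obtain ⟨C, hC, ⟨e⟩⟩ := (K n).exists_iso_Q_obj_of_isGE a
    obtain ⟨L, i, hi, hL, hL'⟩ := CochainComplex.Plus.modelCategoryQuillen.exists_quasiIso_injective C a
    have : L.IsKInjective := CochainComplex.isKInjective_of_injective L a
    exact ⟨L, this, ⟨(asIso (DerivedCategory.Q.map i)).symm ≪≫ e.symm⟩⟩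
  choose I hI e using hres
  have := Groth.Agent.H5.KInj.hasProduct_Q_obj I hI
  exact hasLimit_of_iso (F := Discrete.functor (fun n => DerivedCategory.Q.obj (I n)))
    (Discrete.natIso (fun ⟨n⟩ => (e n).some))

end Groth.Agent.S1075
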