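import Groth.Statements.S10760
import Groth.Agent.H51.ClosedSub

set_option autoImplicit false
universe u
open CategoryTheory CategoryTheory.Limits AlgebraicGeometry
open AlgSp

namespace Groth.Agent.S10760

/-- Let f : X ⟶ Y be a morphism of algebraic spaces over S that is locally of finite type, and let i : Z
⟶ X, i' : Z' ⟶ X be closed subspaces (representable closed immersions) with the same image in |X|.
If the composite Z ⟶ Y is proper, then so is Z' ⟶ Y. (That properness of every closed subspace with
support T implies properness of the reduced one, and that this implies properness of some closed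
subspace with support T, is immediate.) -/
theorem result {S : Scheme.{u}} {X Y Z Z' : AlgSp.Space S}
    (f : X ⟶ Y) (hf : AlgSp.LocP @LocallyOfFiniteType f.hom)
    (i : Z ⟶ X) (i' : Z' ⟶ X)
    (hi : AlgSp.RepWith @IsClosedImmersion i.hom) (hi' : AlgSp.RepWith @IsClosedImmersion i'.hom)
    (heq : Set.range (AlgSp.Points.map i.hom) = Set.range (AlgSp.Points.map i'.hom))
    (hZ : AlgSp.IsProperMor (i ≫ f).hom) :
    AlgSp.IsProperMor (i' ≫ f).hom := by
  have hT : IsClosed (Set.range (Points.map i'.hom)) :=
    Groth.Agent.H51.isClosed_range_of_closedImmersion i' hi'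
  obtain ⟨R, r, hr1, hr2, hr3⟩ := Groth.Agent.S10192.result X _ hT
  obtain ⟨g, hg, hgt⟩ := Groth.Agent.H51.exists_thick_factor i hi r hr1 hr3 (hr2.trans heq.symm)
  obtain ⟨g', hg', hgt'⟩ := Groth.Agent.H51.exists_thick_factor i' hi' r hr1 hr3 hr2
  have hRY : IsProperMor (g ≫ (i ≫ f)).hom :=
    Groth.Agent.H51.isProperMor_comp g (i ≫ f)
      (Groth.Agent.S10277.result g (Groth.Agent.H51.repWith_isClosedImmersion_of_isThickMor hgt)) hZ
  have e : g ≫ (i ≫ f) = g' ≫ (i' ≫ f) := by
    rw [← Category.assoc, hg, ← Category.assoc, hg']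
  rw [e] at hRY
  refine Groth.Agent.H51.isProperMor_of_thick_source g' (i' ≫ f) hgt' ?_ hRY
  exact Groth.Agent.S9985.result _ (Or.inl rfl) i' f
    (Groth.Agent.H51.locP_lft_of_closedImmersion hi') hf

end Groth.Agent.S10760
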