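import Groth.Statements.S10763
import Groth.Agent.H51.SepSurj

set_option autoImplicit false
universe u
open CategoryTheory CategoryTheory.Limits AlgebraicGeometry
open AlgSp

namespace Groth.Agent.S10763

/-- Let B be an algebraic space over S, let a : X ⟶ B and b : Y ⟶ B be locally of finite type, and let f
: X ⟶ Y be a universally closed morphism over B. If i : Z ⟶ X is a closed subspace with Z ⟶ B
proper, then the image of |Z| under |f| is a closed subset of |Y| which underlies a closed subspace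
Z' ⟶ Y with Z' ⟶ B proper. -/
theorem result {S : Scheme.{u}} {X Y B Z : AlgSp.Space S}
    (a : X ⟶ B) (b : Y ⟶ B) (f : X ⟶ Y) (hcomm : f ≫ b = a)
    (ha : AlgSp.LocP @LocallyOfFiniteType a.hom) (hb : AlgSp.LocP @LocallyOfFiniteType b.hom)
    (hfc : AlgSp.IsUnivClosedMor f.hom)
    (i : Z ⟶ X) (hi : AlgSp.RepWith @IsClosedImmersion i.hom) (hZ : AlgSp.IsProperMor (i ≫ a).hom) :
    IsClosed (AlgSp.Points.map f.hom '' Set.range (AlgSp.Points.map i.hom)) ∧
      ∃ (Z' : AlgSp.Space S) (i' : Z' ⟶ Y), AlgSp.RepWith @IsClosedImmersion i'.hom ∧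
        Set.range (AlgSp.Points.map i'.hom) = AlgSp.Points.map f.hom '' Set.range (AlgSp.Points.map i.hom) ∧
        AlgSp.IsProperMor (i' ≫ b).hom := by
  have hic_uc : IsUnivClosedMor i.hom := (Groth.Agent.S10277.result i hi).2.2
  have hif : IsUnivClosedMor (i.hom ≫ f.hom) :=
    Groth.Agent.H51.isUnivClosedMor_comp X.property Y.property hic_uc hfc
  have hcl : IsClosedMap (Points.map (i.hom ≫ f.hom)) :=
    hif Y.property (𝟙 _) (𝟙 _) _ (IsPullback.of_horiz_isIso ⟨by simp⟩)
  have himg : Points.map f.hom '' Set.range (Points.map i.hom) =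
      Set.range (Points.map (i.hom ≫ f.hom)) := by
    rw [← Set.range_comp]
    congr 1
    funext x
    rw [Function.comp_apply, ← Points.map_comp]
  have hT : IsClosed (Points.map f.hom '' Set.range (Points.map i.hom)) := by
    rw [himg]
    exact hcl.isClosed_range
  refine ⟨hT, ?_⟩
  obtain ⟨Z', i', hi'1, hi'2, hi'3⟩ := Groth.Agent.S10192.result Y _ hT
  obtain ⟨R, r, hr1, hr2, hr3⟩ := Groth.Agent.S10192.result Z Set.univ isClosed_univ
  have hrs : IsSurjectiveMor r.hom := by
    intro z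
    have hz : z ∈ Set.range (Points.map r.hom) := by
      rw [hr2]
      trivial
    exact hz
  have hrange : Set.range (Points.map (r ≫ i ≫ f).hom) = Set.range (Points.map i'.hom) := by
    rw [hi'2, himg]
    have e2 : Points.map (r ≫ i ≫ f).hom = Points.map (i.hom ≫ f.hom) ∘ Points.map r.hom := by
      funext x
      rw [Function.comp_apply, ← Points.map_comp]
      rfl
    rw [e2, Set.range_comp, Set.range_eq_univ.2 hrs, Set.image_univ]
  obtain ⟨k, hk⟩ := (Groth.Agent.S10193.result i' hi'1 hr3 (r ≫ i ≫ f)).2 (hrange ▸ subset_rfl)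
  have hk0 : k.hom ≫ i'.hom = r.hom ≫ i.hom ≫ f.hom := congrArg (fun m => m.hom) hk
  have hks : IsSurjectiveMor k.hom := by
    intro z
    have hz : Points.map i'.hom z ∈ Set.range (Points.map (r ≫ i ≫ f).hom) := by
      rw [hrange]
      exact ⟨z, rfl⟩
    obtain ⟨x, hx⟩ := hz
    refine ⟨x, Groth.Agent.H51.injective_of_closedImmersion i' hi'1 ?_⟩
    rw [← Points.map_comp, hk0]
    exact hx
  have hmono : Mono i'.hom := Groth.Agent.H51.mono_of_closedImmersion hi'1
  have hk_uc : IsUnivClosedMor k.hom := by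
    have h1 : IsUnivClosedMor (k.hom ≫ i'.hom) := by
      rw [hk0]
      exact Groth.Agent.H51.isUnivClosedMor_comp Z.property Y.property
        (Groth.Agent.S10277.result r hr1).2.2 hif
    exact Groth.Agent.H51.univSp_of_isPullback _ (Groth.Agent.H51.isPullback_id_of_mono k.hom i'.hom) h1
  have hRB : IsProperMor (r ≫ (i ≫ a)).hom :=
    Groth.Agent.H51.isProperMor_comp r (i ≫ a) (Groth.Agent.S10277.result r hr1) hZ
  have e : r ≫ (i ≫ a) = k ≫ (i' ≫ b) := by
    rw [← Category.assoc k, hk, ← hcomm]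
    simp only [Category.assoc]
  rw [e] at hRB
  refine ⟨Z', i', hi'1, hi'2, ?_⟩
  refine ⟨Groth.Agent.H51.isSeparatedMor_of_surjective_univClosed k (i' ≫ b) hks hk_uc hRB.1,
    ⟨Groth.Agent.S9985.result _ (Or.inl rfl) i' b
      (Groth.Agent.H51.locP_lft_of_closedImmersion hi'1) hb,
     Groth.Agent.S9915.result k (k ≫ (i' ≫ b)) (i' ≫ b) rfl hks hRB.2.1.2⟩,
    Groth.Agent.S10279.result k (k ≫ (i' ≫ b)) (i' ≫ b) rfl hRB.2.2 hks⟩

end Groth.Agent.S10763
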