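import Groth.Statements.S10765
import Groth.Agent.H51.FiniteCover

set_option autoImplicit false
universe u
open CategoryTheory CategoryTheory.Limits AlgebraicGeometry
open AlgSp

namespace Groth.Agent.S10765

/-- Let f : X ⟶ Y be a morphism of algebraic spaces over S that is locally of finite type and let i_k :
Z_k ⟶ X, for k ranging over a finite index set, be closed subspaces with each Z_k ⟶ Y proper. Then
there is a closed subspace W ⟶ X whose image in |X| is the union of the images of the |Z_k| and with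
W ⟶ Y proper; that is, a finite union of closed subsets proper over Y is proper over Y. -/
theorem result {S : Scheme.{u}} {X Y : AlgSp.Space S}
    (f : X ⟶ Y) (hf : AlgSp.LocP @LocallyOfFiniteType f.hom)
    {n : ℕ} (Z : Fin n → AlgSp.Space S) (i : ∀ k, Z k ⟶ X)
    (hi : ∀ k, AlgSp.RepWith @IsClosedImmersion (i k).hom) (hZ : ∀ k, AlgSp.IsProperMor (i k ≫ f).hom) :
    ∃ (W : AlgSp.Space S) (j : W ⟶ X), AlgSp.RepWith @IsClosedImmersion j.hom ∧
      Set.range (AlgSp.Points.map j.hom) = ⋃ k, Set.range (AlgSp.Points.map (i k).hom) ∧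
      AlgSp.IsProperMor (j ≫ f).hom := by
  have inst1 := AlgSp.repWith_isStableUnderBaseChange (S := S) @IsClosedImmersion
  have inst2 := AlgSp.repWith_isMultiplicative (S := S) @IsClosedImmersion
  have hT : IsClosed (⋃ k, Set.range (Points.map (i k).hom)) :=
    isClosed_iUnion_of_finite fun k => Groth.Agent.H51.isClosed_range_of_closedImmersion (i k) (hi k)
  obtain ⟨W, j, hj1, hj2, hj3⟩ := Groth.Agent.S10192.result X _ hT
  refine ⟨W, j, hj1, hj2, ?_⟩
  have hred : ∀ k, ∃ (R : AlgSp.Space S) (r : R ⟶ Z k), IsRedInduced Set.univ r.hom :=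
    fun k => Groth.Agent.S10192.result (Z k) Set.univ isClosed_univ
  choose R r hr using hred
  have hrs : ∀ k, IsSurjectiveMor (r k).hom := by
    intro k z
    have hz : z ∈ Set.range (Points.map (r k).hom) := by
      rw [(hr k).2.1]
      trivial
    exact hz
  have hfac : ∀ k, ∃ g : R k ⟶ W, g ≫ j = r k ≫ i k := fun k =>
    (Groth.Agent.S10193.result j hj1 (hr k).2.2 (r k ≫ i k)).2 (by
      rw [hj2]
      rintro _ ⟨x, rfl⟩
      refine Set.mem_iUnion.2 ⟨k, Points.map (r k).hom x, ?_⟩
      rw [← Points.map_comp]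
      rfl)
  choose g hg using hfac
  have hmono : Mono j.hom := Groth.Agent.H51.mono_of_closedImmersion hj1
  have hg0 : ∀ k, (g k).hom ≫ j.hom = (r k).hom ≫ (i k).hom :=
    fun k => congrArg (fun m => m.hom) (hg k)
  have hgc : ∀ k, RepWith @IsClosedImmersion (g k).hom := fun k => by
    apply Groth.Agent.H51.repWith_of_comp_mono _ (g k).hom j.hom
    rw [hg0 k]
    exact (RepWith @IsClosedImmersion).comp_mem _ _ (hr k).1 (hi k)
  have hgs : ∀ w : Points W.obj, ∃ k, w ∈ Set.range (Points.map (g k).hom) := by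
    intro w
    have hw : Points.map j.hom w ∈ ⋃ k, Set.range (Points.map (i k).hom) := by
      rw [← hj2]
      exact ⟨w, rfl⟩
    obtain ⟨k, z, hz⟩ := Set.mem_iUnion.1 hw
    obtain ⟨x, rfl⟩ := hrs k z
    refine ⟨k, x, Groth.Agent.H51.injective_of_closedImmersion j hj1 ?_⟩
    rw [← Points.map_comp, hg0 k, Points.map_comp]
    exact hz
  have hRY : ∀ k, IsProperMor (g k ≫ (j ≫ f)).hom := fun k => by
    have h := Groth.Agent.H51.isProperMor_comp (r k) (i k ≫ f)
      (Groth.Agent.S10277.result (r k) (hr k).1) (hZ k)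
    have e : r k ≫ (i k ≫ f) = g k ≫ (j ≫ f) := by
      rw [← Category.assoc, ← hg k, Category.assoc]
    rw [e] at h
    exact h
  have hWW : IsAlgSpace (pullback (j ≫ f).hom (j ≫ f).hom) :=
    Groth.Agent.H52.isAlgSpace_of_isPullback (IsPullback.of_hasPullback _ _) Y.property.diag
      W.property W.property
  let C' : AlgSp.Space S := ⟨pullback (j ≫ f).hom (j ≫ f).hom, hWW⟩
  let d' : W ⟶ C' := ObjectProperty.homMk (pullback.diagonal (j ≫ f).hom)
  refine ⟨?_, ⟨Groth.Agent.S9985.result _ (Or.inl rfl) j f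
      (Groth.Agent.H51.locP_lft_of_closedImmersion hj1) hf,
    Groth.Agent.H51.isQuasiCompactMor_of_finite_cover W.property Y.property (fun k => (g k).hom)
      (j ≫ f).hom (fun k => (hRY k).2.1.2) hgs⟩,
    Groth.Agent.H51.isUnivClosedMor_of_finite_cover (fun k => (g k).hom) (j ≫ f).hom
      (fun k => (hRY k).2.2) hgs⟩
  apply (Groth.Agent.S10280.result (j ≫ f)).1.2
  apply Groth.Agent.H51.isUnivClosedMor_of_finite_cover (fun k => (g k).hom)
    (pullback.diagonal (j ≫ f).hom) _ hgs
  intro k
  have h2 : RepWith @IsClosedImmersion ((g k).hom ≫ pullback.diagonal (j ≫ f).hom) := by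
    rw [Groth.Agent.H51.comp_diagonal_eq]
    exact (RepWith @IsClosedImmersion).comp_mem _ _ (hRY k).1
      (MorphismProperty.pullbackMap (hgc k) (hgc k) rfl rfl)
  exact (Groth.Agent.S10277.result (g k ≫ d') h2).2.2

end Groth.Agent.S10765
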