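import Groth.Statements.S1077
import Groth.Agent.H6.SubobjectModular

set_option autoImplicit false
universe v u
open CategoryTheory CategoryTheory.Limits
open CohDer

namespace Groth.Agent.S1077

/-- An object X of an abelian category is Artinian and Noetherian if and only if there is a finite chain
of subobjects ⊥ = F₀ ≤ F₁ ≤ … ≤ Fₙ = ⊤ of X whose successive quotients Fᵢ₊₁/Fᵢ are simple. -/
theorem result {A : Type u} [Category.{v} A] [Abelian A] (X : A) :
    (IsArtinianObject X ∧ IsNoetherianObject X) ↔
      ∃ (n : ℕ) (F : Fin (n + 1) → Subobject X) (hF : Monotone F), F 0 = ⊥ ∧ F (Fin.last n) = ⊤ ∧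
        ∀ i : Fin n, Simple (cokernel (Subobject.ofLE (F (Fin.castSucc i)) (F (Fin.succ i)) (hF (Fin.castSucc_lt_succ (i := i)).le))) := by
  constructor
  · rintro ⟨hA, hN⟩
    have := hA
    have := hN
    obtain ⟨n, F, hF0, hFn, hF⟩ := Groth.Agent.H6.exists_covBy_chain (⊥ : Subobject X)
    have hmono : Monotone F := Fin.monotone_iff_le_succ.2 fun i => (hF i).le
    exact ⟨n, F, hmono, hF0, hFn, fun i => Groth.Agent.H6.simple_cokernel_of_covBy (hF i)⟩
  · rintro ⟨n, F, hF, hF0, hFn, hs⟩
    have hcov : ∀ i : Fin n, F i.castSucc ⩿ F i.succ :=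
      fun i => (Groth.Agent.H6.covBy_of_simple_cokernel _ (hs i)).wcovBy
    have key := Groth.Agent.H6.eventually_const_of_chain F hcov (Fin.last n)
    constructor
    · rw [isArtinianObject_iff_antitone_chain_condition]
      intro f
      obtain ⟨N, hN⟩ := key (fun i => OrderDual.ofDual (f i))
        (Or.inr fun a b hab => f.monotone hab) (fun i => by rw [hF0]; exact bot_le)
        (fun i => by rw [hFn]; exact le_top)
      exact ⟨N, fun m hm => (congrArg OrderDual.toDual (hN m hm)).symm⟩
    · rw [isNoetherianObject_iff_monotone_chain_condition]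
      intro f
      obtain ⟨N, hN⟩ := key (fun i => f i)
        (Or.inl fun a b hab => f.monotone hab) (fun i => by rw [hF0]; exact bot_le)
        (fun i => by rw [hFn]; exact le_top)
      exact ⟨N, fun m hm => (hN m hm).symm⟩

end Groth.Agent.S1077
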