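import Groth.Statements.S1078
import Groth.Agent.H6.SubobjectModular

set_option autoImplicit false
universe v u
open CategoryTheory CategoryTheory.Limits
open CohDer

namespace Groth.Agent.S1078

/-- changing the (equal) source subobject does not change the quotient -/
lemma nonempty_cokernel_iso_of_eq {A : Type u} [Category.{v} A] [Abelian A] {X : A}
    {a a' b : Subobject X} (e : a = a') (h : a ≤ b) (h' : a' ≤ b) :
    Nonempty (cokernel (Subobject.ofLE a b h) ≅ cokernel (Subobject.ofLE a' b h')) := by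
  subst e
  exact ⟨Iso.refl _⟩

/-- the relation on pairs used to transfer the abstract Jordan–Hölder equivalence -/
def quotRel {A : Type u} [Category.{v} A] [Abelian A] {X : A}
    (p q : Subobject X × Subobject X) : Prop :=
  Nonempty (cokernel (Subobject.ofLE (p.1 ⊓ p.2) p.2 inf_le_right) ≅
    cokernel (Subobject.ofLE (q.1 ⊓ q.2) q.2 inf_le_right))

lemma quotRel_of_iso {A : Type u} [Category.{v} A] [Abelian A] {X : A}
    {p q : Subobject X × Subobject X} (h : JordanHolderLattice.Iso p q) : quotRel p q := by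
  refine JordanHolderLattice.Iso.rel (X := Subobject X) quotRel ?_ ?_ ?_ ?_ h
  · intro x; exact ⟨Iso.refl _⟩
  · rintro x y ⟨e⟩; exact ⟨e.symm⟩
  · rintro x y z ⟨e⟩ ⟨e'⟩; exact ⟨e ≪≫ e'⟩
  · intro x y _
    obtain ⟨e₁⟩ := nonempty_cokernel_iso_of_eq (b := x ⊔ y)
      (show x ⊓ (x ⊔ y) = x from inf_sup_self) inf_le_right le_sup_left
    obtain ⟨e₂⟩ := Groth.Agent.H6.nonempty_cokernel_inf_iso_cokernel_sup x y
    obtain ⟨e₃⟩ := nonempty_cokernel_iso_of_eq (b := y)
      (show (x ⊓ y) ⊓ y = x ⊓ y from by rw [inf_assoc, inf_idem]) inf_le_right inf_le_right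
    exact ⟨e₁ ≪≫ e₂.symm ≪≫ e₃.symm⟩

/-- Let X be an object of an abelian category with two finite chains of subobjects ⊥ = F₀ ≤ … ≤ Fₙ = ⊤
and ⊥ = G₀ ≤ … ≤ Gₘ = ⊤ whose successive quotients are simple. Then n = m, and after transporting
along this equality there is a permutation σ of the indices with Fᵢ₊₁/Fᵢ ≅ G_{σ(i)+1}/G_{σ(i)} for
all i. -/
theorem result {A : Type u} [Category.{v} A] [Abelian A] (X : A)
    (n : ℕ) (F : Fin (n + 1) → Subobject X) (hF : Monotone F) (hF0 : F 0 = ⊥) (hFn : F (Fin.last n) = ⊤) (hFs : ∀ i : Fin n, Simple (cokernel (Subobject.ofLE (F (Fin.castSucc i)) (F (Fin.succ i)) (hF (Fin.castSucc_lt_succ (i := i)).le))))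
    (m : ℕ) (G : Fin (m + 1) → Subobject X) (hG : Monotone G) (hG0 : G 0 = ⊥) (hGm : G (Fin.last m) = ⊤) (hGs : ∀ j : Fin m, Simple (cokernel (Subobject.ofLE (G (Fin.castSucc j)) (G (Fin.succ j)) (hG (Fin.castSucc_lt_succ (i := j)).le)))) :
    ∃ (e : n = m) (σ : Equiv.Perm (Fin m)), ∀ i : Fin n,
      Nonempty (cokernel (Subobject.ofLE (F (Fin.castSucc i)) (F (Fin.succ i)) (hF (Fin.castSucc_lt_succ (i := i)).le)) ≅
        cokernel (Subobject.ofLE (G (Fin.castSucc (σ (Fin.cast e i)))) (G (Fin.succ (σ (Fin.cast e i)))) (hG (Fin.castSucc_lt_succ (i := σ (Fin.cast e i))).le))) := by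
  classical
  let s₁ : CompositionSeries (Subobject X) :=
    { length := n, toFun := F
      step := fun i => Groth.Agent.H6.covBy_of_simple_cokernel _ (hFs i) }
  let s₂ : CompositionSeries (Subobject X) :=
    { length := m, toFun := G
      step := fun j => Groth.Agent.H6.covBy_of_simple_cokernel _ (hGs j) }
  obtain ⟨f, hf⟩ := CompositionSeries.jordan_holder s₁ s₂
    (show F 0 = G 0 by rw [hF0, hG0]) (show F (Fin.last n) = G (Fin.last m) by rw [hFn, hGm])
  have e : n = m := by simpa using Fintype.card_congr f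
  subst e
  refine ⟨rfl, f, fun i => ?_⟩
  obtain ⟨e₀⟩ := quotRel_of_iso (hf i)
  obtain ⟨e₁⟩ := nonempty_cokernel_iso_of_eq (b := F (Fin.succ i))
    (inf_eq_left.2 (hF (Fin.castSucc_lt_succ (i := i)).le)) inf_le_right
    (hF (Fin.castSucc_lt_succ (i := i)).le)
  obtain ⟨e₂⟩ := nonempty_cokernel_iso_of_eq (b := G (Fin.succ (f i)))
    (inf_eq_left.2 (hG (Fin.castSucc_lt_succ (i := f i)).le)) inf_le_right
    (hG (Fin.castSucc_lt_succ (i := f i)).le)
  exact ⟨e₁.symm ≪≫ e₀ ≪≫ e₂⟩

end Groth.Agent.S1078
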