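import Groth.Statements.S10787
import Mathlib
import Groth.Agent.H88.ArtFin
import Groth.Agent.Lead.MatlisDecomp

set_option autoImplicit false
universe u
open CategoryTheory CategoryTheory.Limits
open CAlg

namespace Groth.Agent.S10787

/-- Let A be a Noetherian ring and J an injective A-module (an injective object of QCoh of the affine
scheme Spec A, through the equivalence with A-modules). Then J is a filtered colimit of A-modules
each of which is a finite module over some Artinian A-algebra B, the A-module structure being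
restricted from B; these are the modules underlying pushforwards to Spec A of coherent sheaves on
spectra of Artinian rings. -/
theorem result (A : Type u) [CommRing A] [IsNoetherianRing A]
    (J : Type u) [AddCommGroup J] [Module A J] [Module.Injective A J] :
    ∃ (ι : Type u) (_ : SmallCategory ι) (_ : IsFiltered ι) (D : ι ⥤ ModuleCat.{u} A)
      (c : Cocone D) (_ : IsColimit c), Nonempty (c.pt ≅ ModuleCat.of A J) ∧
      ∀ i : ι, ∃ (B : Type u) (_ : CommRing B) (_ : Algebra A B) (_ : IsArtinianRing B)
        (_ : Module B (D.obj i)) (_ : IsScalarTower A B (D.obj i)), Module.Finite B (D.obj i) := by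
  classical
  obtain ⟨S, hint, hS⟩ := Groth.Agent.Lead.MatlisDecomp.exists_isInternal (R := A) J
  have hint' := hint inferInstance
  have hind : iSupIndep (fun E : S => (E : Submodule A J)) := hint'.submodule_iSupIndep
  have htop : ⨆ E : S, (E : Submodule A J) = ⊤ := hint'.submodule_iSup_eq_top
  have hhull : ∀ E : S, ∃ (p : Ideal A) (_ : p.IsPrime)
      (f : (A ⧸ p) →ₗ[A] ↥(E : Submodule A J)), InjHull.IsInjectiveHull f :=
    fun E => Groth.Agent.H88.ArtFin.exists_hull_quot _ (hS E.1 E.2).1 (hS E.1 E.2).2
  choose p hp f hf using hhull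
  let Mn : ℕ → S → Submodule A J := fun n E =>
    (LocCoh.torsionBy ((p E) ^ n) ↥(E : Submodule A J)).map (E : Submodule A J).subtype
  have hMn_le : ∀ n E, Mn n E ≤ (E : Submodule A J) := by
    intro n E x hx
    obtain ⟨y, -, rfl⟩ := Submodule.mem_map.1 hx
    exact y.2
  have hMn_mono : ∀ (E : S) {n n' : ℕ}, n ≤ n' → Mn n E ≤ Mn n' E := by
    intro E n n' h
    apply Submodule.map_mono
    apply Submodule.torsionBySet_le_torsionBySet_of_subset
    exact fun a ha => Ideal.pow_le_pow_right h ha
  have hMn_art : ∀ n E, Groth.Agent.H88.ArtFin.ArtFin A ↥(Mn n E) := by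
    intro n E
    haveI := hp E
    exact Groth.Agent.H88.ArtFin.ArtFin.of_linearEquiv
      (Submodule.equivMapOfInjective _ (Submodule.injective_subtype _) _).symm
      (Groth.Agent.H88.ArtFin.artFin_torsion_hull (p E) (f E) (hf E) n)
  let N : Finset S × ℕ → Submodule A J := fun i => i.1.sup (Mn i.2)
  have hN_mono : ∀ {i j : Finset S × ℕ}, i ≤ j → N i ≤ N j := by
    intro i j hij
    exact Finset.sup_le (fun E hE =>
      le_trans (hMn_mono E hij.2) (Finset.le_sup (f := Mn j.2) (hij.1 hE)))
  have hN_art : ∀ i, Groth.Agent.H88.ArtFin.ArtFin A ↥(N i) := by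
    rintro ⟨F, n⟩
    show Groth.Agent.H88.ArtFin.ArtFin A ↥(F.sup (Mn n))
    induction F using Finset.induction_on with
    | empty =>
      rw [Finset.sup_empty]
      exact Groth.Agent.H88.ArtFin.ArtFin.of_subsingleton _
    | insert E F hEF ih =>
      rw [Finset.sup_insert]
      refine Groth.Agent.H88.ArtFin.ArtFin.sup _ _ ?_ (hMn_art n E) ih
      refine (hind E).mono (hMn_le n E) ?_
      exact Finset.sup_le (fun E' hE' => le_trans (hMn_le n E')
        (le_iSup₂_of_le E' (fun h => hEF (h ▸ hE')) le_rfl))
  have hcov : ∀ x : J, ∃ i, x ∈ N i := by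
    intro x
    have hx : x ∈ ⨆ E : S, (E : Submodule A J) := by
      rw [htop]
      trivial
    refine Submodule.iSup_induction (fun E : S => (E : Submodule A J))
      (motive := fun x => ∃ i, x ∈ N i) hx ?_ ?_ ?_
    · intro E y hy
      haveI := hp E
      obtain ⟨n, hn⟩ :=
        Groth.Agent.H88.ArtFin.exists_mem_torsion_hull (p E) (f E) (hf E) ⟨y, hy⟩
      refine ⟨({E}, n), ?_⟩
      have hyM : y ∈ Mn n E := Submodule.mem_map.2 ⟨⟨y, hy⟩, hn, rfl⟩
      exact Finset.le_sup (f := Mn n) (Finset.mem_singleton_self E) hyM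
    · exact ⟨(∅, 0), Submodule.zero_mem _⟩
    · rintro y z ⟨i, hi⟩ ⟨j, hj⟩
      exact ⟨i ⊔ j, Submodule.add_mem _ (hN_mono le_sup_left hi) (hN_mono le_sup_right hj)⟩
  let G : Finset S × ℕ → Type u := fun i => ↥(N i)
  let tr : ∀ i j : Finset S × ℕ, i ≤ j → G i →ₗ[A] G j :=
    fun i j h => Submodule.inclusion (hN_mono h)
  haveI hds : DirectedSystem G (fun i j h => tr i j h) :=
    ⟨fun i x => rfl, fun k j i hij hjk x => rfl⟩
  refine ⟨Finset S × ℕ, Preorder.smallCategory _, inferInstance, ModuleCat.directLimitDiagram G tr,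
    ModuleCat.directLimitCocone G tr, ModuleCat.directLimitIsColimit G tr, ⟨?_⟩, ?_⟩
  · let g : ∀ i, G i →ₗ[A] J := fun i => (N i).subtype
    have Hg : ∀ i j hij x, g j (tr i j hij x) = g i x := fun i j hij x => rfl
    have hinj : Function.Injective (Module.DirectLimit.lift A (Finset S × ℕ) G tr g Hg) :=
      Module.DirectLimit.lift_injective g Hg (fun i => Submodule.injective_subtype _)
    have hsurj : Function.Surjective (Module.DirectLimit.lift A (Finset S × ℕ) G tr g Hg) := by
      intro x
      obtain ⟨i, hi⟩ := hcov x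
      exact ⟨Module.DirectLimit.of A (Finset S × ℕ) G tr i ⟨x, hi⟩, by
        rw [Module.DirectLimit.lift_of]; rfl⟩
    exact (LinearEquiv.ofBijective _ ⟨hinj, hsurj⟩).toModuleIso
  · intro i
    exact hN_art i

end Groth.Agent.S10787
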