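import Groth.Statements.S1079
import Mathlib.CategoryTheory.Triangulated.Opposite.Pretriangulated
import Mathlib.CategoryTheory.Limits.Opposites

set_option autoImplicit false
universe v u
open CategoryTheory CategoryTheory.Limits
open CohDer

namespace Groth.Agent.S1079

section Helpers

open CategoryTheory.Limits CategoryTheory.Pretriangulated

variable {D : Type u} [Category.{v} D] [Preadditive D]

/-- the constant family -/
abbrev cF (X : D) : ℕ → D := fun _ => X

variable (X : D) (e : X ⟶ X) [HasCoproduct (cF X)]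

/-- the shift map of the constant system `X --e--> X --e--> ...` -/
noncomputable def sMap : ∐ cF X ⟶ ∐ cF X :=
  Sigma.desc (fun n => e ≫ Sigma.ι (cF X) (n + 1))

/-- a retraction of `1 - sMap` -/
noncomputable def rMap : ∐ cF X ⟶ ∐ cF X :=
  Sigma.desc (fun n => (𝟙 X - e) ≫ Sigma.ι (cF X) n -
    ∑ k ∈ Finset.range n, e ≫ Sigma.ι (cF X) k)

@[reassoc]
lemma ι_sMap (n : ℕ) : Sigma.ι (cF X) n ≫ sMap X e = e ≫ Sigma.ι (cF X) (n + 1) :=
  Sigma.ι_desc _ _

@[reassoc]
lemma ι_rMap (n : ℕ) : Sigma.ι (cF X) n ≫ rMap X e =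
    (𝟙 X - e) ≫ Sigma.ι (cF X) n - ∑ k ∈ Finset.range n, e ≫ Sigma.ι (cF X) k :=
  Sigma.ι_desc _ _

lemma one_sub_sMap_comp_rMap (he : e ≫ e = e) : (𝟙 (∐ cF X) - sMap X e) ≫ rMap X e = 𝟙 _ := by
  apply Sigma.hom_ext
  intro n
  have he' : ∀ {Z : D} (h : X ⟶ Z), e ≫ e ≫ h = e ≫ h := fun h => by
    rw [← Category.assoc, he]
  rw [Preadditive.sub_comp, Preadditive.comp_sub, Category.id_comp, Category.comp_id,
    ι_rMap, ι_sMap_assoc, ι_rMap, Preadditive.comp_sub, Preadditive.comp_sum,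
    Finset.sum_range_succ]
  simp only [Preadditive.sub_comp, Preadditive.comp_sub, Category.id_comp, he', sub_self]
  abel

variable [HasZeroObject D] [HasShift D ℤ] [∀ n : ℤ, (shiftFunctor D n).Additive]
  [Pretriangulated D]

lemma idempotents_split_of_coproducts (he : e ≫ e = e) :
    ∃ (Y : D) (i : Y ⟶ X) (p : X ⟶ Y), i ≫ p = 𝟙 Y ∧ p ≫ i = e := by
  obtain ⟨Y, p, c, hT⟩ := distinguished_cocone_triangle (𝟙 (∐ cF X) - sMap X e)
  have hr := one_sub_sMap_comp_rMap X e he
  have hc : c = 0 := by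
    have h31 : c ≫ (shiftFunctor D (1 : ℤ)).map (𝟙 (∐ cF X) - sMap X e) = 0 :=
      comp_distTriang_mor_zero₃₁ _ hT
    have h : c = c ≫ (shiftFunctor D (1 : ℤ)).map (𝟙 (∐ cF X) - sMap X e) ≫
        (shiftFunctor D (1 : ℤ)).map (rMap X e) := by
      rw [← CategoryTheory.Functor.map_comp, hr, CategoryTheory.Functor.map_id, Category.comp_id]
    rw [h, ← Category.assoc, h31, Limits.zero_comp]
  haveI : Epi p := Triangle.epi₂ _ hT hc
  have h0 : (𝟙 (∐ cF X) - sMap X e) ≫ Sigma.desc (fun _ : ℕ => e) = 0 := by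
    apply Sigma.hom_ext
    intro n
    rw [Preadditive.sub_comp, Preadditive.comp_sub, Category.id_comp, ι_sMap_assoc,
      Sigma.ι_desc, Sigma.ι_desc, he, sub_self, Limits.comp_zero]
  obtain ⟨(i : Y ⟶ X), hi⟩ := Triangle.yoneda_exact₂ _ hT _ h0
  replace hi : Sigma.desc (fun _ : ℕ => e) = p ≫ i := hi
  have hq : ∀ n, Sigma.ι (cF X) n ≫ p = e ≫ Sigma.ι (cF X) (n + 1) ≫ p := by
    intro n
    have h12 : (𝟙 (∐ cF X) - sMap X e) ≫ p = 0 := comp_distTriang_mor_zero₁₂ _ hT
    have h := congrArg (fun t => Sigma.ι (cF X) n ≫ t) h12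
    simp only [Preadditive.sub_comp, Preadditive.comp_sub, Category.id_comp, ι_sMap_assoc,
      Limits.comp_zero, sub_eq_zero] at h
    exact h
  have hq1 : ∀ n, e ≫ Sigma.ι (cF X) n ≫ p = Sigma.ι (cF X) n ≫ p := by
    intro n
    rw [hq n, ← Category.assoc e e, he]
  have hq2 : ∀ n, Sigma.ι (cF X) n ≫ p = Sigma.ι (cF X) 0 ≫ p := by
    intro n
    induction n with
    | zero => rfl
    | succ n ih => rw [← ih, hq n, hq1 (n + 1)]
  refine ⟨Y, i, Sigma.ι (cF X) 0 ≫ p, ?_, ?_⟩
  · rw [← cancel_epi p]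
    apply Sigma.hom_ext
    intro n
    rw [Category.comp_id, ← Category.assoc p i, ← hi, Sigma.ι_desc_assoc, hq1 0, hq2 n]
  · rw [Category.assoc, ← hi, Sigma.ι_desc]

end Helpers

/-- A pretriangulated category which has countable coproducts, or countable products, is Karoubian
(idempotent complete). -/
theorem result {D : Type u} [Category.{v} D] [Preadditive D] [Limits.HasZeroObject D] [HasShift D ℤ]
    [∀ n : ℤ, (shiftFunctor D n).Additive] [Pretriangulated D]
    (h : HasColimitsOfShape (Discrete ℕ) D ∨ HasLimitsOfShape (Discrete ℕ) D) : IsIdempotentComplete D := by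
  rcases h with h | h
  · exact ⟨fun X e he => idempotents_split_of_coproducts X e he⟩
  · rw [← Idempotents.isIdempotentComplete_iff_opposite]
    haveI : HasLimitsOfShape (Discrete ℕ)ᵒᵖ D :=
      hasLimitsOfShape_of_equivalence (Discrete.opposite ℕ).symm
    haveI : HasColimitsOfShape (Discrete ℕ) Dᵒᵖ := inferInstance
    open CategoryTheory.Pretriangulated.Opposite in
    exact ⟨fun X e he => idempotents_split_of_coproducts X e he⟩

end Groth.Agent.S1079
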