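import Groth.Statements.S10792
import Groth.Agent.H50.CartierDescent

set_option autoImplicit false
universe u
open CategoryTheory CategoryTheory.Limits AlgebraicGeometry Topology TopologicalSpace
open AlgSp

namespace Groth.Agent.S10792

/-- (2) ⇔ (4): let X be an algebraic space over a scheme S and D ⟶ X a closed subspace (representable by
closed immersions). Then D is an effective Cartier divisor in the one-chart sense if and only if for
every point x of |D| there are an affine scheme U over S, a representable etale h_U ⟶ X, a point u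
of U mapping to the image of x in |X|, and a nonzerodivisor f of the ring A of global functions of U
such that the inverse image of D in U is the closed subscheme Spec (A/(f)), that is, the closed
subscheme of the quasi-coherent ideal sheaf of U whose ideal of global sections is generated by f. -/
theorem result {S : Scheme.{u}} (X D : AlgSp.Space S) (i : D ⟶ X)
    (hi : AlgSp.RepWith @IsClosedImmersion i.hom) :
    AlgSp.IsEffCartierSub i.hom ↔
      ∀ x : AlgSp.Points D.obj,
        ∃ (U : Over S) (_ : IsAffine U.left) (a : (AlgSp.yon S).obj U ⟶ X.obj) (u : ↥U.left)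
          (f : Γ(U.left, ⊤)) (I : U.left.IdealSheafData)
          (fst : (AlgSp.yon S).obj (Over.mk (I.subschemeι ≫ U.hom)) ⟶ D.obj),
          AlgSp.RepWith @Etale a ∧ AlgSp.Points.ofPt a u = AlgSp.Points.map i.hom x ∧
            f ∈ nonZeroDivisors Γ(U.left, ⊤) ∧
            I.ideal ⟨⊤, isAffineOpen_top U.left⟩ = Ideal.span {f} ∧
            IsPullback fst ((AlgSp.yon S).map (Over.homMk I.subschemeι rfl : Over.mk (I.subschemeι ≫ U.hom) ⟶ U)) i.hom a := by
  constructor
  · intro hD x
    obtain ⟨-, V, φ, K, fstK, hφe, hφs, sqK, hK⟩ := hD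
    obtain ⟨v, hv⟩ := Groth.Agent.H52.surjective_ofPt_of_surjective φ hφs
      (AlgSp.Points.map i.hom x)
    obtain ⟨U₁, hvU₁, f, hf, hIf⟩ := hK v
    have hUa : IsAffine (Groth.Agent.H50.opOver V U₁.1).left := U₁.2
    obtain ⟨τ, hτ⟩ := Groth.Agent.H50.exists_isPullback_vOver_comap K
      (Groth.Agent.H50.opOverι V U₁.1)
    have sqτ := hτ.map (AlgSp.yon S)
    have big := sqτ.paste_horiz sqK
    refine ⟨Groth.Agent.H50.opOver V U₁.1, hUa,
      (AlgSp.yon S).map (Groth.Agent.H50.opOverι V U₁.1) ≫ φ, ⟨v, hvU₁⟩,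
      U₁.1.topIso.inv.hom f, K.comap U₁.1.ι, (AlgSp.yon S).map τ ≫ fstK,
      Groth.Agent.H50.repWith_etale_opOverι_comp φ hφe U₁.1, ?_, ?_, ?_, big⟩
    · rw [Groth.Agent.H52.ofPt_yon_map_comp]
      exact hv
    · exact Groth.Agent.H9.map_mem_nonZeroDivisors_of_flat _
        (RingHom.Flat.of_bijective (ConcreteCategory.bijective_of_isIso U₁.1.topIso.inv)) hf
    · have e : (⊤ : (U₁.1 : Scheme).Opens) ≤ U₁.1.ι ⁻¹ᵁ U₁.1 := by
        rw [Scheme.Opens.ι_preimage_self]
      rw [Groth.Agent.H9.comap_ideal U₁.1.ι K U₁ ⟨⊤, _⟩ e, hIf, Ideal.map_span,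
        Set.image_singleton, Groth.Agent.H50.opens_ι_appLE_top]
      rfl
  · intro Hx
    obtain ⟨V, φ, hφe, hφs⟩ := X.property.atlas
    have sqD := hi.1.isPullback φ
    haveI hcl : IsClosedImmersion (hi.1.snd φ).left := hi.2 _ _ _ sqD
    obtain ⟨K, hKdef⟩ : ∃ K, (hi.1.snd φ).left.ker = K := ⟨_, rfl⟩
    obtain ⟨fst', sq'⟩ := Groth.Agent.H50.exists_isPullback_vOver_of_ker_eq i.hom φ _ _ sqD K hKdef
    refine ⟨hi, V, φ, K, fst', hφe, hφs, sq', ?_⟩
    intro v
    by_cases hv : v ∈ K.support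
    · have hrange : (K.support : Set V.left) = Set.range (hi.1.snd φ).left := by
        rw [← hKdef, (hi.1.snd φ).left.support_ker]
        exact (hi.1.snd φ).left.isClosedEmbedding.isClosed_range.closure_eq
      obtain ⟨d, hd⟩ : v ∈ Set.range (hi.1.snd φ).left := by
        rw [← hrange]
        exact hv
      obtain ⟨U, hU, a, u, f, I, fstU, hae, hpt, hf, hIf, sqU⟩ :=
        Hx (AlgSp.Points.ofPt (hi.1.fst φ) d)
      have hpt' : AlgSp.Points.ofPt φ v = AlgSp.Points.ofPt a u := by
        rw [hpt, AlgSp.Points.map_ofPt, sqD.w, Groth.Agent.H52.ofPt_yon_map_comp, hd]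
      have hrep : AlgSp.Representable φ := hφe.1
      obtain ⟨pV, hpV⟩ := (AlgSp.yon S).map_surjective (hrep.fst a)
      have sqW : IsPullback ((AlgSp.yon S).map pV) ((AlgSp.yon S).map (hrep.snd a)) φ a := by
        rw [hpV]
        exact hrep.isPullback a
      obtain ⟨w, hw1, hw2⟩ := Groth.Agent.H52.exists_of_ofPt_eq_ofPt sqW v u hpt'
      haveI hpVe : Etale pV.left := hae.property φ _ _ sqW.flip
      haveI hpUe : Etale (hrep.snd a).left := hφe.property a _ _ sqW
      have hIc : BlowUp.IsEffCartierIdeal I :=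
        fun y => ⟨⟨⊤, @isAffineOpen_top U.left hU⟩, trivial, f, hf, hIf⟩
      have hc : BlowUp.IsEffCartierIdeal (K.comap pV.left) := by
        rw [← Groth.Agent.H50.comap_eq_comap_of_isPullback i.hom hi a φ (hrep.snd a) pV sqW.w
          I fstU sqU K fst' sq']
        exact Groth.Agent.H9.isEffCartierIdeal_comap_of_flat (hrep.snd a).left I hIc
      obtain ⟨U₁, hU₁, f₁, hf₁, hIf₁⟩ :=
        Groth.Agent.H50.exists_isPrincipalNZD_of_comap pV.left K hc w
      rw [hw1] at hU₁
      exact ⟨U₁, hU₁, f₁, hf₁, hIf₁⟩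
    · have hO : IsOpen ((K.support : Set V.left)ᶜ) := K.support.isClosed.isOpen_compl
      obtain ⟨O, hOdef⟩ : ∃ O : V.left.Opens, (O : Set V.left) = (K.support : Set V.left)ᶜ :=
        ⟨⟨_, hO⟩, rfl⟩
      have hc : BlowUp.IsEffCartierIdeal (K.comap O.ι) :=
        Groth.Agent.H9.isEffCartierIdeal_comap_of_disjoint K O.ι (fun y => by
          have hy : O.ι y ∈ Set.range O.ι := Set.mem_range_self y
          rw [Scheme.Opens.range_ι, hOdef] at hy
          exact hy)
      have hvO : v ∈ O := by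
        show v ∈ (O : Set V.left)
        rw [hOdef]
        exact hv
      obtain ⟨U₁, hU₁, f₁, hf₁, hIf₁⟩ :=
        Groth.Agent.H50.exists_isPrincipalNZD_of_comap O.ι K hc ⟨v, hvO⟩
      exact ⟨U₁, hU₁, f₁, hf₁, hIf₁⟩

end Groth.Agent.S10792
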