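import Groth.Statements.S10793
import Groth.Agent.H50.PrincipalDescent

set_option autoImplicit false
universe u
open CategoryTheory CategoryTheory.Limits AlgebraicGeometry Topology TopologicalSpace
open AlgSp

namespace Groth.Agent.S10793

/-- For an algebraic space X over a scheme S, an effective Cartier divisor D ⟶ X (in the one-chart
sense) and the open subspace U ⟶ X complementary to D, that is, a morphism representable by open
immersions whose image in |X| is the complement of the image of |D|: the inclusion of U in X is an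
affine morphism, and in the scheme-theoretic sense (one-chart form) U is dense in X. -/
theorem result {S : Scheme.{u}} (X D U : AlgSp.Space S)
    (i : D ⟶ X) (hD : AlgSp.IsEffCartierSub i.hom) (j : U ⟶ X) (hj : AlgSp.RepWith @IsOpenImmersion j.hom)
    (hU : Set.range (AlgSp.Points.map j.hom) = (Set.range (AlgSp.Points.map i.hom))ᶜ) :
    AlgSp.IsAffineMor j.hom ∧ AlgSp.IsSchDense j.hom := by
  have hZ : AlgSp.IsLocPrincipalSub i.hom := by
    obtain ⟨hcl, V, φ, IV, fstV, hφe, hφs, sqV, hIV⟩ := hD
    exact ⟨hcl, V, φ, IV, fstV, hφe, hφs, sqV,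
      Groth.Agent.H50.isLocPrincipal_of_isEffCartierIdeal hIV⟩
  refine ⟨Groth.Agent.H50.isAffineMor_compl_of_isLocPrincipalSub i.hom hZ j.hom hj hU, ?_⟩
  obtain ⟨hcl, V, φ, IV, fstV, hφe, hφs, sqV, hIV⟩ := hD
  obtain ⟨ZU, τ, top, sq⟩ : ∃ (ZU : Over S) (τ : ZU ⟶ V) (top : (AlgSp.yon S).obj ZU ⟶ U.obj),
      IsPullback top ((AlgSp.yon S).map τ) j.hom φ :=
    ⟨_, hj.1.snd φ, hj.1.fst φ, hj.1.isPullback φ⟩
  haveI : IsOpenImmersion τ.left := hj.2 _ _ _ sq
  have hrange : (τ.left.opensRange : Set ↥V.left) = (IV.support : Set ↥V.left)ᶜ :=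
    Groth.Agent.H50.range_left_eq_compl_support i.hom j.hom hU φ top τ sq IV fstV sqV
  have hd : CInt.IsSchematicallyDense τ.left.opensRange :=
    Groth.Agent.H50.isSchematicallyDense_compl_of_isEffCartierIdeal IV hIV _ hrange
  have hι : τ.left.isoOpensRange.inv ≫ τ.left = τ.left.opensRange.ι :=
    τ.left.isoOpensRange_inv_comp
  have hθw : τ.left.isoOpensRange.inv ≫ ZU.hom =
      (Groth.Agent.H50.opensOver V τ.left.opensRange).hom := by
    change _ = τ.left.opensRange.ι ≫ V.hom
    rw [← hι, Category.assoc, Over.w]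
  have hθ : (Over.isoMk τ.left.isoOpensRange.symm hθw :
      Groth.Agent.H50.opensOver V τ.left.opensRange ≅ ZU).hom ≫ τ =
      Groth.Agent.H50.opensOverι V τ.left.opensRange := by
    apply Over.OverMorphism.ext
    exact hι
  have sqW := Groth.Agent.H50.isPullback_of_over_iso sq _ _ hθ
  exact ⟨hj, V, φ, τ.left.opensRange, _, hφe, hφs, sqW, hd⟩

end Groth.Agent.S10793
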