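import Groth.Statements.S1686
import Groth.Agent.H9.EffCartier
import Mathlib.RingTheory.KrullDimension.NonZeroDivisors
import Mathlib.Topology.KrullDimension

set_option autoImplicit false
universe u
open CategoryTheory CategoryTheory.Limits AlgebraicGeometry TopologicalSpace
open SDiv

namespace Groth.Agent.S1686


theorem topologicalKrullDim_affineOpen {Y : Scheme.{u}} {W : Y.Opens} (hW : IsAffineOpen W) :
    topologicalKrullDim (W : Set Y) = ringKrullDim Γ(Y, W) := by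
  rw [← PrimeSpectrum.topologicalKrullDim_eq_ringKrullDim]
  exact IsHomeomorph.topologicalKrullDim_eq _ (Scheme.homeoOfIso hW.isoSpec).isHomeomorph

theorem lt_of_add_one_le {x n : WithBot ℕ∞} (h : x + 1 ≤ n) (hn : n ≠ ⊤) (hn' : n ≠ ⊥) :
    x < n := by
  induction n with
  | bot => exact absurd rfl hn'
  | coe m =>
    induction m with
    | top => exact absurd rfl hn
    | coe k =>
      exact ENat.WithBot.add_one_le_natCast_iff.1 h

/-- Let D be the closed subscheme of an effective Cartier divisor on a scheme S and d a point of D with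
image s in S. If the local dimension of S at s is finite, then the local dimension of D at d is
strictly smaller. -/
theorem result (S : Scheme.{u}) (𝓘 : S.IdealSheafData) (h𝓘 : BlowUp.IsEffCartierIdeal 𝓘) (d : ↥𝓘.subscheme)
    (hfin : FlatMor.localDim ↥S (𝓘.subschemeι d) ≠ ⊤) :
    FlatMor.localDim ↥𝓘.subscheme d < FlatMor.localDim ↥S (𝓘.subschemeι d) := by
  -- an open neighbourhood of `s` realizing the local dimension
  have hwf : WellFounded ((· < ·) : WithBot ℕ∞ → WithBot ℕ∞ → Prop) := wellFounded_lt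
  obtain ⟨_, ⟨U₀, rfl⟩, hmin⟩ := hwf.has_min
    (Set.range fun U : {U : TopologicalSpace.Opens ↥S // 𝓘.subschemeι d ∈ U} =>
      topologicalKrullDim (U.1 : Set ↥S)) ⟨_, ⟨⟨⊤, trivial⟩, rfl⟩⟩
  have hU₀ : FlatMor.localDim ↥S (𝓘.subschemeι d) = topologicalKrullDim (U₀.1 : Set ↥S) := by
    apply le_antisymm (iInf_le _ U₀)
    refine le_iInf (fun U => ?_)
    exact not_lt.1 (hmin _ ⟨U, rfl⟩)
  obtain ⟨U, hsU, hUU₀, t, ht, hI⟩ :=
    Groth.Agent.H9.exists_affine_isPrincipalNZD h𝓘 U₀.1 (𝓘.subschemeι d) U₀.2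
  have hUU₀' : (U.1 : Set ↥S) ⊆ (U₀.1 : Set ↥S) := hUU₀
  have hdimU : topologicalKrullDim (U.1.1 : Set ↥S) = FlatMor.localDim ↥S (𝓘.subschemeι d) := by
    apply le_antisymm
    · rw [hU₀]
      exact (Topology.IsEmbedding.inclusion hUU₀').isInducing.topologicalKrullDim_le
    · exact iInf_le _ (⟨U.1, hsU⟩ : {U : TopologicalSpace.Opens ↥S // 𝓘.subschemeι d ∈ U})
  have hdimB : ringKrullDim Γ(S, U.1) = FlatMor.localDim ↥S (𝓘.subschemeι d) := by
    rw [← hdimU]
    exact (topologicalKrullDim_affineOpen U.2).symm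
  -- the divisor
  have hW : IsAffineOpen (𝓘.subschemeι ⁻¹ᵁ U.1) := U.2.preimage 𝓘.subschemeι
  have hdW : d ∈ 𝓘.subschemeι ⁻¹ᵁ U.1 := hsU
  have h1 : FlatMor.localDim ↥𝓘.subscheme d ≤
      topologicalKrullDim ((𝓘.subschemeι ⁻¹ᵁ U.1 : 𝓘.subscheme.Opens) : Set ↥𝓘.subscheme) :=
    iInf_le _ (⟨𝓘.subschemeι ⁻¹ᵁ U.1, hdW⟩ :
      {V : TopologicalSpace.Opens ↥𝓘.subscheme // d ∈ V})
  have h2 : topologicalKrullDim ((𝓘.subschemeι ⁻¹ᵁ U.1 : 𝓘.subscheme.Opens) : Set ↥𝓘.subscheme) =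
      ringKrullDim (Γ(S, U.1) ⧸ Ideal.span {t}) := by
    rw [topologicalKrullDim_affineOpen hW, ← hI]
    exact ringKrullDim_eq_of_ringEquiv (𝓘.subschemeObjIso U).commRingCatIsoToRingEquiv
  have h3 : ringKrullDim (Γ(S, U.1) ⧸ Ideal.span {t}) + 1 ≤ ringKrullDim Γ(S, U.1) :=
    ringKrullDim_quotient_succ_le_of_nonZeroDivisor ht
  have hne : Nontrivial Γ(S, U.1) :=
    RingHom.domain_nontrivial (S.presheaf.germ U.1 (𝓘.subschemeι d) hsU).hom
  have hbot : ringKrullDim Γ(S, U.1) ≠ ⊥ := by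
    have := ringKrullDim_nonneg_of_nontrivial (R := Γ(S, U.1))
    intro h0
    rw [h0] at this
    exact absurd this (by simp)
  have h4 : ringKrullDim (Γ(S, U.1) ⧸ Ideal.span {t}) < ringKrullDim Γ(S, U.1) :=
    lt_of_add_one_le h3 (by rw [hdimB]; exact hfin) hbot
  calc FlatMor.localDim ↥𝓘.subscheme d ≤ _ := h1
    _ = ringKrullDim (Γ(S, U.1) ⧸ Ideal.span {t}) := h2
    _ < ringKrullDim Γ(S, U.1) := h4
    _ = _ := hdimB

end Groth.Agent.S1686
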