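import Groth.Statements.S10794
import Groth.Agent.H50.CartierDescent
import Groth.Agent.H52.Topology
import Groth.Agent.S1686

set_option autoImplicit false
universe u
open CategoryTheory CategoryTheory.Limits AlgebraicGeometry Topology TopologicalSpace
open AlgSp

namespace Groth.Agent.S10794

/-- Let X be an algebraic space over a scheme S, D ⟶ X an effective Cartier divisor (one-chart sense)
and x a point of |D|. If the dimension of X at the image of x is d, in the sense that some etale
scheme chart of X has local dimension d at a point over it, and d is finite, then the dimension of D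
at x is strictly smaller: some etale scheme chart of D has local dimension less than d at a point
over x. -/
theorem result {S : Scheme.{u}} (X D : AlgSp.Space S) (i : D ⟶ X)
    (hD : AlgSp.IsEffCartierSub i.hom) (x : AlgSp.Points D.obj) (d : WithBot ℕ∞)
    (hd : AlgSp.HasAt (fun U u => FlatMor.localDim ↥U u = d) X.obj (AlgSp.Points.map i.hom x)) (hfin : d ≠ ⊤) :
    AlgSp.HasAt (fun V v => FlatMor.localDim ↥V v < d) D.obj x := by
  obtain ⟨U, a, u, hae, hu, hdim⟩ := hd
  have hcl : AlgSp.RepWith @IsClosedImmersion i.hom := hD.1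
  haveI := AlgSp.repWith_isStableUnderBaseChange (S := S) @Etale
  have sqDU := hcl.1.isPullback a
  haveI : IsClosedImmersion (hcl.1.snd a).left := hcl.2 _ _ _ sqDU
  obtain ⟨IU, fstU, sqU⟩ : ∃ (IU : U.left.IdealSheafData)
      (fstU : (AlgSp.yon S).obj (Groth.Agent.H50.vOver U IU) ⟶ D.obj),
      IsPullback fstU ((AlgSp.yon S).map (Groth.Agent.H50.vOverι U IU)) i.hom a := by
    obtain ⟨fst', sq'⟩ := Groth.Agent.H50.exists_isPullback_vOver_of_ker_eq i.hom a _ _
      sqDU _ rfl
    exact ⟨_, fst', sq'⟩
  have hIU : BlowUp.IsEffCartierIdeal IU :=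
    Groth.Agent.H50.isEffCartierIdeal_of_isEffCartierSub hD a hae IU fstU sqU
  have hfe : AlgSp.RepWith @Etale fstU := MorphismProperty.of_isPullback sqU.flip hae
  -- a point of the chart of `D` over `x` and `u`
  have hxy : AlgSp.Points.map i.hom x = AlgSp.Points.map a (AlgSp.Points.ofScheme U u) := by
    rw [← AlgSp.Points.ofPt_eq_map_ofScheme, hu]
  obtain ⟨z, hz1, hz2⟩ := Groth.Agent.H52.exists_point_of_isPullback sqU x _ hxy
  obtain ⟨v, rfl⟩ := (AlgSp.Points.schemeEquiv (Groth.Agent.H50.vOver U IU)).surjective z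
  have hv1 : AlgSp.Points.ofPt fstU v = x := by
    rw [AlgSp.Points.ofPt_eq_map_ofScheme]
    exact hz1
  have hv2 : IU.subschemeι v = u := by
    have h2 : AlgSp.Points.map ((AlgSp.yon S).map (Groth.Agent.H50.vOverι U IU))
        (AlgSp.Points.ofScheme (Groth.Agent.H50.vOver U IU) v) = AlgSp.Points.ofScheme U u := hz2
    rw [Groth.Agent.H52.map_yon_map_ofScheme] at h2
    exact Groth.Agent.H52.ofScheme_injective U h2
  refine ⟨Groth.Agent.H50.vOver U IU, fstU, v, hfe, hv1, ?_⟩
  have hfin' : FlatMor.localDim ↥U.left (IU.subschemeι v) ≠ ⊤ := by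
    rw [hv2, hdim]
    exact hfin
  have h := Groth.Agent.S1686.result U.left IU hIU v hfin'
  rw [hv2, hdim] at h
  exact h

end Groth.Agent.S10794
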