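import Groth.Statements.S10795
import Groth.Agent.H50.CartierSp
import Groth.Agent.H52.FibProd

set_option autoImplicit false
universe u
open CategoryTheory CategoryTheory.Limits AlgebraicGeometry Topology TopologicalSpace
open AlgSp

namespace Groth.Agent.S10795

/-- For algebraic spaces X and Y over a scheme S, a flat morphism f : X ⟶ Y and an effective Cartier
divisor D ⟶ Y (one-chart sense), the inverse image of D under f is an effective Cartier divisor on
X: for every pullback square of D ⟶ Y along f, the projection to X is an effective Cartier divisor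
(one-chart sense). -/
theorem result {S : Scheme.{u}} (X Y D P : AlgSp.Space S) (f : X ⟶ Y)
    (hf : AlgSp.LocP @Flat f.hom) (i : D ⟶ Y) (hD : AlgSp.IsEffCartierSub i.hom)
    (fst : P ⟶ D) (snd : P ⟶ X) (hP : IsPullback fst.hom snd.hom i.hom f.hom) :
    AlgSp.IsEffCartierSub snd.hom := by
  obtain ⟨hcl, V, φ, K, fstD, hφe, hφs, sqD, hK⟩ := hD
  obtain ⟨U₀, p, hpe, hps⟩ := X.property.atlas
  have sqG := IsPullback.of_hasPullback f.hom φ
  obtain ⟨W, a, b, r, hr1, hr2, -, hr⟩ := Groth.Agent.H52.exists_chart_of_isPullback sqG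
    Y.property.diag p (𝟙 ((AlgSp.yon S).obj V))
  have hre : AlgSp.RepWith @Etale r := hr @Etale hpe (AlgSp.repWith_id @Etale V)
  have hrs : AlgSp.RepWith @Surjective r := hr @Surjective hps (AlgSp.repWith_id @Surjective V)
  have hg1e : AlgSp.RepWith @Etale (pullback.fst f.hom φ) :=
    Groth.Agent.H50.repWith_fst_of_isPullback sqG hφe
  have hg1s : AlgSp.RepWith @Surjective (pullback.fst f.hom φ) :=
    Groth.Agent.H50.repWith_fst_of_isPullback sqG hφs
  have hψe : AlgSp.RepWith @Etale (r ≫ pullback.fst f.hom φ) :=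
    (AlgSp.repWith_isMultiplicative (S := S) @Etale).comp_mem _ _ hre hg1e
  have hψs : AlgSp.RepWith @Surjective (r ≫ pullback.fst f.hom φ) :=
    (AlgSp.repWith_isMultiplicative (S := S) @Surjective).comp_mem _ _ hrs hg1s
  have hcomm : (r ≫ pullback.fst f.hom φ) ≫ f.hom = (AlgSp.yon S).map b ≫ φ := by
    rw [Category.assoc, pullback.condition, ← Category.assoc, hr2, Category.comp_id]
  have hbflat : Flat b.left := hf _ φ b hψe hφe hcomm
  haveI := hbflat
  obtain ⟨τ, hτ⟩ := Groth.Agent.H50.exists_isPullback_vOver_comap K b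
  have sqτ := hτ.map (AlgSp.yon S)
  have big := sqτ.paste_horiz sqD
  rw [← hcomm] at big
  have hw : ((AlgSp.yon S).map τ ≫ fstD) ≫ i.hom =
      ((AlgSp.yon S).map (Groth.Agent.H50.vOverι W (K.comap b.left)) ≫
        r ≫ pullback.fst f.hom φ) ≫ f.hom := by
    rw [big.w]
    simp only [Category.assoc]
  have hl1 : hP.lift _ _ hw ≫ fst.hom = (AlgSp.yon S).map τ ≫ fstD := hP.lift_fst _ _ _
  have hl2 : hP.lift _ _ hw ≫ snd.hom =
      (AlgSp.yon S).map (Groth.Agent.H50.vOverι W (K.comap b.left)) ≫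
        r ≫ pullback.fst f.hom φ := hP.lift_snd _ _ _
  have sqP : IsPullback (hP.lift _ _ hw)
      ((AlgSp.yon S).map (Groth.Agent.H50.vOverι W (K.comap b.left))) snd.hom
      (r ≫ pullback.fst f.hom φ) :=
    IsPullback.of_right (by rw [hl1]; exact big) hl2 hP
  exact ⟨Groth.Agent.H50.repWith_snd_of_isPullback hP hcl, W, r ≫ pullback.fst f.hom φ,
    K.comap b.left, hP.lift _ _ hw, hψe, hψs, sqP,
    Groth.Agent.H9.isEffCartierIdeal_comap_of_flat b.left K hK⟩

end Groth.Agent.S10795
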