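import Groth.Statements.S10796
import Groth.Agent.H50.CartierAvoid

set_option autoImplicit false
universe u
open CategoryTheory CategoryTheory.Limits AlgebraicGeometry Topology TopologicalSpace
open AlgSp

namespace Groth.Agent.S10796

/-- For algebraic spaces X and Y over a scheme S, a morphism f : X ⟶ Y and an effective Cartier divisor
D ⟶ Y (one-chart sense), assume that no weakly associated point of X (weakly associated point of the
structure sheaf O_X on the small etale site of X) is mapped into |D|. Then the inverse image of D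
under f is an effective Cartier divisor on X: for every pullback square of D ⟶ Y along f, the
projection to X is an effective Cartier divisor (one-chart sense). -/
theorem result {S : Scheme.{u}} (X Y D P : AlgSp.Space S) (f : X ⟶ Y)
    (i : D ⟶ Y) (hD : AlgSp.IsEffCartierSub i.hom) [(AlgSp.unitModEt X.obj).IsQuasicoherent]
    (h : ∀ x ∈ AlgSp.WeakAssEt (AlgSp.unitModEt X.obj),
      AlgSp.Points.map f.hom x ∉ Set.range (AlgSp.Points.map i.hom))
    (fst : P ⟶ D) (snd : P ⟶ X) (hP : IsPullback fst.hom snd.hom i.hom f.hom) :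
    AlgSp.IsEffCartierSub snd.hom := by
  obtain ⟨hcl, V, φ, K, fstK, hφe, hφs, sqK, hK⟩ := hD
  have hcl' : AlgSp.RepWith @IsClosedImmersion snd.hom :=
    Groth.Agent.H50.repWith_snd_of_isPullback hP hcl
  obtain ⟨U, a, hae, has⟩ := X.property.atlas
  have hrep : AlgSp.Representable φ := hφe.1
  obtain ⟨pV, hpV⟩ := (AlgSp.yon S).map_surjective (hrep.fst (a ≫ f.hom))
  have sqW : IsPullback ((AlgSp.yon S).map pV) ((AlgSp.yon S).map (hrep.snd (a ≫ f.hom))) φ
      (a ≫ f.hom) := by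
    rw [hpV]
    exact hrep.isPullback (a ≫ f.hom)
  have hpUe : Etale (hrep.snd (a ≫ f.hom)).left := hφe.property (a ≫ f.hom) _ _ sqW
  have hpUs : Surjective (hrep.snd (a ≫ f.hom)).left := hφs.property (a ≫ f.hom) _ _ sqW
  have := AlgSp.repWith_isMultiplicative (S := S) @Etale
  have := AlgSp.repWith_isMultiplicative (S := S) @Surjective
  have hψe : AlgSp.RepWith @Etale ((AlgSp.yon S).map (hrep.snd (a ≫ f.hom)) ≫ a) :=
    (AlgSp.RepWith @Etale).comp_mem _ _ ((AlgSp.repWith_yon_map_iff _ _).2 hpUe) hae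
  have hψs : AlgSp.RepWith @Surjective ((AlgSp.yon S).map (hrep.snd (a ≫ f.hom)) ≫ a) :=
    (AlgSp.RepWith @Surjective).comp_mem _ _ ((AlgSp.repWith_yon_map_iff _ _).2 hpUs) has
  have hcomm : ((AlgSp.yon S).map (hrep.snd (a ≫ f.hom)) ≫ a) ≫ f.hom =
      (AlgSp.yon S).map pV ≫ φ := by
    rw [Category.assoc, ← sqW.w]
  have sqR := hcl'.1.isPullback ((AlgSp.yon S).map (hrep.snd (a ≫ f.hom)) ≫ a)
  haveI hcR : IsClosedImmersion
      (hcl'.1.snd ((AlgSp.yon S).map (hrep.snd (a ≫ f.hom)) ≫ a)).left := hcl'.2 _ _ _ sqR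
  have sqR' : IsPullback
      (hcl'.1.fst ((AlgSp.yon S).map (hrep.snd (a ≫ f.hom)) ≫ a) ≫ fst.hom)
      ((AlgSp.yon S).map (hcl'.1.snd ((AlgSp.yon S).map (hrep.snd (a ≫ f.hom)) ≫ a)))
      i.hom ((AlgSp.yon S).map pV ≫ φ) := by
    rw [← hcomm]
    exact sqR.paste_horiz hP
  obtain ⟨l, hl⟩ := Groth.Agent.H50.exists_isPullback_of_pullbacks i.hom φ pV fstK
    (Groth.Agent.H50.vOverι V K) sqK _
    (hcl'.1.snd ((AlgSp.yon S).map (hrep.snd (a ≫ f.hom)) ≫ a)) sqR'
  haveI : IsClosedImmersion (Groth.Agent.H50.vOverι V K).left :=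
    inferInstanceAs (IsClosedImmersion K.subschemeι)
  have hker : (hcl'.1.snd ((AlgSp.yon S).map (hrep.snd (a ≫ f.hom)) ≫ a)).left.ker =
      K.comap pV.left := by
    rw [Groth.Agent.H50.ker_eq_comap_of_isClosedImmersion hl]
    show (K.subschemeι).ker.comap _ = _
    rw [Scheme.IdealSheafData.ker_subschemeι]
  obtain ⟨fst', sq'⟩ := Groth.Agent.H50.exists_isPullback_vOver_of_ker_eq snd.hom
    ((AlgSp.yon S).map (hrep.snd (a ≫ f.hom)) ≫ a) _ _ sqR (K.comap pV.left) hker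
  refine ⟨hcl', _, _, K.comap pV.left, fst', hψe, hψs, sq', ?_⟩
  apply Groth.Agent.H50.isEffCartierIdeal_comap_of_avoid pV.left K hK
  intro U' hU' a' r har hr
  let E : AlgSp.EtOver X.obj := AlgSp.EtOver.mk
    ((AlgSp.yon S).map (Groth.Agent.H50.opensOverι (hrep.pullback (a ≫ f.hom)) U') ≫
      ((AlgSp.yon S).map (hrep.snd (a ≫ f.hom)) ≫ a))
    (Groth.Agent.H50.repWith_etale_opens_ι_comp _ hψe U')
  haveI : IsAffine E.obj.left.left := hU'
  obtain ⟨u, hu1, hu2⟩ := Groth.Agent.H50.exists_weakAss_of_zeroDivisor E a' r har hr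
  refine ⟨u, hu1, ?_⟩
  intro hsupp
  apply h _ hu2
  have hsupp' : pV.left (U'.ι u) ∈ Set.range K.subschemeι := by
    rw [Scheme.IdealSheafData.range_subschemeι]; exact hsupp
  obtain ⟨z, hz⟩ := hsupp'
  refine ⟨AlgSp.Points.ofPt fstK z, ?_⟩
  rw [AlgSp.Points.map_ofPt, sqK.w, AlgSp.Points.map_ofPt]
  have e1 : E.obj.hom ≫ f.hom = (AlgSp.yon S).map
      (Groth.Agent.H50.opensOverι (hrep.pullback (a ≫ f.hom)) U' ≫ pV) ≫ φ := by
    show ((AlgSp.yon S).map (Groth.Agent.H50.opensOverι (hrep.pullback (a ≫ f.hom)) U') ≫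
      ((AlgSp.yon S).map (hrep.snd (a ≫ f.hom)) ≫ a)) ≫ f.hom = _
    rw [Category.assoc, hcomm, Functor.map_comp, Category.assoc]
  rw [e1, Groth.Agent.H52.ofPt_yon_map_comp, Groth.Agent.H52.ofPt_yon_map_comp]
  congr 1

end Groth.Agent.S10796
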