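import Groth.Statements.S10797
import Groth.Agent.H50.CartierDescent
import Groth.Agent.H52.FibProd
import Groth.Agent.S1662

set_option autoImplicit false
universe u
open CategoryTheory CategoryTheory.Limits AlgebraicGeometry Topology TopologicalSpace
open AlgSp

namespace Groth.Agent.S10797

/-- Let f : X ⟶ Y be a morphism of algebraic spaces over a scheme S and D ⟶ X an effective Cartier
divisor (one-chart sense) such that the composite D ⟶ Y is flat. Then for every morphism g : Y' ⟶ Y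
and every pullback square exhibiting X' as Y' ×_Y X with projection g' : X' ⟶ X, the inverse image
of D under g' (the projection to X' from any pullback of D ⟶ X along g') is an effective Cartier
divisor on X'. (The published statement takes g to be a morphism from a scheme Y'; this row allows
Y' to be an algebraic space, to which the same etale-local reduction to schemes applies.) -/
theorem result {S : Scheme.{u}} (X Y D Y' X' D' : AlgSp.Space S)
    (f : X ⟶ Y) (i : D ⟶ X) (hD : AlgSp.IsEffCartierSub i.hom) (hflat : AlgSp.LocP @Flat (i ≫ f).hom)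
    (g : Y' ⟶ Y) (g' : X' ⟶ X) (f' : X' ⟶ Y') (hX' : IsPullback g'.hom f'.hom f.hom g.hom)
    (k : D' ⟶ D) (i' : D' ⟶ X') (hD' : IsPullback k.hom i'.hom i.hom g'.hom) :
    AlgSp.IsEffCartierSub i'.hom := by
  have hcl : AlgSp.RepWith @IsClosedImmersion i.hom := hD.1
  haveI := AlgSp.repWith_isStableUnderBaseChange (S := S) @IsClosedImmersion
  haveI := AlgSp.repWith_isStableUnderBaseChange (S := S) @Etale
  haveI := AlgSp.repWith_isStableUnderBaseChange (S := S) @Surjective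
  haveI := AlgSp.repWith_isMultiplicative (S := S) @Etale
  haveI := AlgSp.repWith_isMultiplicative (S := S) @Surjective
  have hcl' : AlgSp.RepWith @IsClosedImmersion i'.hom := MorphismProperty.of_isPullback hD' hcl
  -- a chart of `Y`
  obtain ⟨V, v, hve, hvs⟩ := Y.property.atlas
  -- `X_V = X ×_Y V`
  obtain ⟨XV, pX, qX, sqXV⟩ : ∃ (XV : AlgSp.Sp S) (pX : XV ⟶ X.obj) (qX : XV ⟶ (AlgSp.yon S).obj V),
      IsPullback pX qX f.hom v := ⟨_, _, _, IsPullback.of_hasPullback f.hom v⟩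
  have hXV : AlgSp.IsAlgSpace XV := Groth.Agent.H52.isAlgSpace_of_isPullback sqXV Y.property.diag
    X.property (AlgSp.IsAlgSpace.yon_obj V)
  obtain ⟨U, p, hpe, hps⟩ := hXV.atlas
  -- `Y'_V = Y' ×_Y V`
  obtain ⟨YV, pY, qY, sqYV⟩ : ∃ (YV : AlgSp.Sp S) (pY : YV ⟶ Y'.obj) (qY : YV ⟶ (AlgSp.yon S).obj V),
      IsPullback pY qY g.hom v := ⟨_, _, _, IsPullback.of_hasPullback g.hom v⟩
  have hYV : AlgSp.IsAlgSpace YV := Groth.Agent.H52.isAlgSpace_of_isPullback sqYV Y.property.diag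
    Y'.property (AlgSp.IsAlgSpace.yon_obj V)
  obtain ⟨V', q, hqe, hqs⟩ := hYV.atlas
  -- `X'_V = X_V ×_V Y'_V`
  obtain ⟨XV', a, b, sqA⟩ : ∃ (XV' : AlgSp.Sp S) (a : XV' ⟶ XV) (b : XV' ⟶ YV),
      IsPullback a b qX qY := ⟨_, _, _, IsPullback.of_hasPullback qX qY⟩
  have hcomm : (a ≫ pX) ≫ f.hom = (b ≫ pY) ≫ g.hom := by
    calc (a ≫ pX) ≫ f.hom = a ≫ (pX ≫ f.hom) := Category.assoc _ _ _
      _ = a ≫ (qX ≫ v) := by rw [sqXV.w]
      _ = (a ≫ qX) ≫ v := (Category.assoc _ _ _).symm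
      _ = (b ≫ qY) ≫ v := by rw [sqA.w]
      _ = b ≫ (qY ≫ v) := Category.assoc _ _ _
      _ = b ≫ (pY ≫ g.hom) := by rw [sqYV.w]
      _ = (b ≫ pY) ≫ g.hom := (Category.assoc _ _ _).symm
  obtain ⟨c, hc1, hc2⟩ := hX'.exists_lift (a ≫ pX) (b ≫ pY) hcomm
  have big : IsPullback a (b ≫ pY) (pX ≫ f.hom) g.hom := by
    rw [sqXV.w]
    exact sqA.paste_vert sqYV.flip
  have sqC : IsPullback c a g'.hom pX :=
    IsPullback.of_right (by rw [hc2]; exact big.flip) hc1 hX'.flip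
  have hpXe : AlgSp.RepWith @Etale pX := MorphismProperty.of_isPullback sqXV.flip hve
  have hpXs : AlgSp.RepWith @Surjective pX := MorphismProperty.of_isPullback sqXV.flip hvs
  have hce : AlgSp.RepWith @Etale c := MorphismProperty.of_isPullback sqC.flip hpXe
  have hcs : AlgSp.RepWith @Surjective c := MorphismProperty.of_isPullback sqC.flip hpXs
  -- the chart `W = U ×_V V'` of `X'_V`, hence of `X'`
  obtain ⟨W, aW, bW, r, hr1, hr2, sqW, hr⟩ := Groth.Agent.H52.exists_chart_of_isPullback sqA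
    (AlgSp.IsAlgSpace.yon_obj V).diag p q
  have hre : AlgSp.RepWith @Etale r := hr @Etale hpe hqe
  have hrs : AlgSp.RepWith @Surjective r := hr @Surjective hps hqs
  have hφe : AlgSp.RepWith @Etale (r ≫ c) := (AlgSp.RepWith @Etale).comp_mem _ _ hre hce
  have hφs : AlgSp.RepWith @Surjective (r ≫ c) := (AlgSp.RepWith @Surjective).comp_mem _ _ hrs hcs
  obtain ⟨uV, huV⟩ := (AlgSp.yon S).map_surjective (p ≫ qX)
  obtain ⟨vV, hvV⟩ := (AlgSp.yon S).map_surjective (q ≫ qY)
  have sqW' : IsPullback ((AlgSp.yon S).map aW) ((AlgSp.yon S).map bW) ((AlgSp.yon S).map uV)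
      ((AlgSp.yon S).map vV) := by
    rw [huV, hvV]
    exact sqW
  have sqWO : IsPullback aW bW uV vV :=
    IsPullback.of_map (AlgSp.yon S) (by
      apply (AlgSp.yon S).map_injective
      rw [Functor.map_comp, Functor.map_comp]
      exact sqW'.w) sqW'
  have sqWS : IsPullback aW.left bW.left uV.left vV.left := sqWO.map (Over.forget S)
  -- the chart `U` of `X` and the ideal of `D` on it
  have hψe : AlgSp.RepWith @Etale (p ≫ pX) := (AlgSp.RepWith @Etale).comp_mem _ _ hpe hpXe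
  have sqDU := hcl.1.isPullback (p ≫ pX)
  haveI : IsClosedImmersion (hcl.1.snd (p ≫ pX)).left := hcl.2 _ _ _ sqDU
  obtain ⟨IU, fstU, sqU⟩ : ∃ (IU : U.left.IdealSheafData)
      (fstU : (AlgSp.yon S).obj (Groth.Agent.H50.vOver U IU) ⟶ D.obj),
      IsPullback fstU ((AlgSp.yon S).map (Groth.Agent.H50.vOverι U IU)) i.hom (p ≫ pX) := by
    obtain ⟨fst', sq'⟩ := Groth.Agent.H50.exists_isPullback_vOver_of_ker_eq i.hom (p ≫ pX) _ _
      sqDU _ rfl
    exact ⟨_, fst', sq'⟩
  have hIU : BlowUp.IsEffCartierIdeal IU :=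
    Groth.Agent.H50.isEffCartierIdeal_of_isEffCartierSub hD (p ≫ pX) hψe IU fstU sqU
  have hfstUe : AlgSp.RepWith @Etale fstU := MorphismProperty.of_isPullback sqU.flip hψe
  have hflatU : Flat (IU.subschemeι ≫ uV.left) := by
    have e1 : fstU ≫ i.hom = (AlgSp.yon S).map (Groth.Agent.H50.vOverι U IU) ≫ (p ≫ pX) := sqU.w
    have h1 : fstU ≫ (i ≫ f).hom =
        (AlgSp.yon S).map (Groth.Agent.H50.vOverι U IU ≫ uV) ≫ v := by
      calc fstU ≫ (i.hom ≫ f.hom) = (fstU ≫ i.hom) ≫ f.hom := (Category.assoc _ _ _).symm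
        _ = ((AlgSp.yon S).map (Groth.Agent.H50.vOverι U IU) ≫ (p ≫ pX)) ≫ f.hom := by rw [e1]
        _ = (AlgSp.yon S).map (Groth.Agent.H50.vOverι U IU) ≫ p ≫ (pX ≫ f.hom) := by
          simp only [Category.assoc]
        _ = (AlgSp.yon S).map (Groth.Agent.H50.vOverι U IU) ≫ p ≫ (qX ≫ v) := by rw [sqXV.w]
        _ = ((AlgSp.yon S).map (Groth.Agent.H50.vOverι U IU) ≫ (p ≫ qX)) ≫ v := by
          simp only [Category.assoc]
        _ = ((AlgSp.yon S).map (Groth.Agent.H50.vOverι U IU) ≫ (AlgSp.yon S).map uV) ≫ v := by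
          rw [huV]
        _ = (AlgSp.yon S).map (Groth.Agent.H50.vOverι U IU ≫ uV) ≫ v := by
          rw [Functor.map_comp]
    exact hflat fstU v (Groth.Agent.H50.vOverι U IU ≫ uV) hfstUe hve h1
  -- the scheme-level base change theorem
  have hpb : BlowUp.IsEffCartierIdeal (IU.comap (pullback.fst uV.left vV.left)) :=
    Groth.Agent.S1662.result uV.left IU hIU vV.left
  have haW : aW.left = sqWS.isoPullback.hom ≫ pullback.fst uV.left vV.left :=
    (sqWS.isoPullback_hom_fst).symm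
  have hIW : BlowUp.IsEffCartierIdeal (IU.comap aW.left) := by
    rw [haW, Scheme.IdealSheafData.comap_comp]
    exact Groth.Agent.H9.isEffCartierIdeal_comap_of_flat _ _ hpb
  -- the ideal of `D'` on the chart `W`
  have sqD' := hcl'.1.isPullback (r ≫ c)
  haveI : IsClosedImmersion (hcl'.1.snd (r ≫ c)).left := hcl'.2 _ _ _ sqD'
  obtain ⟨K, fstK, sqK⟩ : ∃ (K : W.left.IdealSheafData)
      (fstK : (AlgSp.yon S).obj (Groth.Agent.H50.vOver W K) ⟶ D'.obj),
      IsPullback fstK ((AlgSp.yon S).map (Groth.Agent.H50.vOverι W K)) i'.hom (r ≫ c) := by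
    obtain ⟨fst', sq'⟩ := Groth.Agent.H50.exists_isPullback_vOver_of_ker_eq i'.hom (r ≫ c) _ _
      sqD' _ rfl
    exact ⟨_, fst', sq'⟩
  have sqKi : IsPullback (fstK ≫ k.hom) ((AlgSp.yon S).map (Groth.Agent.H50.vOverι W K)) i.hom
      ((r ≫ c) ≫ g'.hom) := sqK.paste_horiz hD'
  have hw : (AlgSp.yon S).map (𝟙 W) ≫ ((r ≫ c) ≫ g'.hom) = (AlgSp.yon S).map aW ≫ (p ≫ pX) := by
    calc (AlgSp.yon S).map (𝟙 W) ≫ ((r ≫ c) ≫ g'.hom) = (r ≫ c) ≫ g'.hom := by
          rw [CategoryTheory.Functor.map_id, Category.id_comp]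
      _ = r ≫ (c ≫ g'.hom) := Category.assoc _ _ _
      _ = r ≫ (a ≫ pX) := by rw [hc1]
      _ = (r ≫ a) ≫ pX := (Category.assoc _ _ _).symm
      _ = ((AlgSp.yon S).map aW ≫ p) ≫ pX := by rw [hr1]
      _ = (AlgSp.yon S).map aW ≫ (p ≫ pX) := Category.assoc _ _ _
  have hKeq : IU.comap aW.left = K := by
    have h := Groth.Agent.H50.comap_eq_comap_of_isPullback i.hom hcl (p ≫ pX) ((r ≫ c) ≫ g'.hom)
      aW (𝟙 W) hw IU fstU sqU K (fstK ≫ k.hom) sqKi
    rw [h]
    exact Scheme.IdealSheafData.comap_id K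
  exact ⟨hcl', W, r ≫ c, K, fstK, hφe, hφs, sqK, hKeq ▸ hIW⟩

end Groth.Agent.S10797
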