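import Groth.Statements.S1685
import Groth.Agent.H9.EffCartier
import Groth.Agent.H9.SubschemeStalk
import Groth.Agent.H9.SkQuot
import Groth.Agent.H9.BlowUpPullback
import Mathlib.AlgebraicGeometry.Noetherian

set_option autoImplicit false
universe u
open CategoryTheory CategoryTheory.Limits AlgebraicGeometry TopologicalSpace
open SDiv

namespace Groth.Agent.S1685

/-- Let X be a locally Noetherian scheme all of whose local rings satisfy Serre's condition (S_k), and
let D be the closed subscheme of an effective Cartier divisor. Then all local rings of D satisfy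
(S_{k-1}). -/
theorem result (X : Scheme.{u}) [IsLocallyNoetherian X] (k : ℕ)
    (hX : ∀ x : ↥X, min (k : WithBot ℕ∞) (ringKrullDim (X.presheaf.stalk x)) ≤
      ((LocCoh.depth (X.presheaf.stalk x) (X.presheaf.stalk x) : ℕ∞) : WithBot ℕ∞))
    (𝓘 : X.IdealSheafData) (h𝓘 : BlowUp.IsEffCartierIdeal 𝓘) (d : ↥𝓘.subscheme) :
    min ((k - 1 : ℕ) : WithBot ℕ∞) (ringKrullDim (𝓘.subscheme.presheaf.stalk d)) ≤
      ((LocCoh.depth (𝓘.subscheme.presheaf.stalk d) (𝓘.subscheme.presheaf.stalk d) : ℕ∞) : WithBot ℕ∞) := by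
  obtain ⟨U, hxU, -, t, ht, hI⟩ :=
    Groth.Agent.H9.exists_affine_isPrincipalNZD h𝓘 ⊤ (𝓘.subschemeι d) trivial
  have hU : IsAffineOpen U.1 := U.2
  letI : Algebra (X.presheaf.stalk (𝓘.subschemeι d)) (𝓘.subscheme.presheaf.stalk d) :=
    (𝓘.subschemeι.stalkMap d).hom.toAlgebra
  haveI : IsLocalHom (algebraMap (X.presheaf.stalk (𝓘.subschemeι d))
      (𝓘.subscheme.presheaf.stalk d)) :=
    inferInstanceAs (IsLocalHom (𝓘.subschemeι.stalkMap d).hom)
  have hsurj : Function.Surjective (algebraMap (X.presheaf.stalk (𝓘.subschemeι d))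
      (𝓘.subscheme.presheaf.stalk d)) := Groth.Agent.H9.stalkMap_subschemeι_surjective 𝓘 d
  have hnzd : X.presheaf.germ U.1 (𝓘.subschemeι d) hxU t ∈
      nonZeroDivisors (X.presheaf.stalk (𝓘.subschemeι d)) :=
    Groth.Agent.H9.germ_mem_nonZeroDivisors hU ht _ hxU
  have hsupp : 𝓘.subschemeι d ∈ 𝓘.support := by
    rw [← SetLike.mem_coe, ← 𝓘.range_subschemeι]; exact ⟨d, rfl⟩
  have hmax : X.presheaf.germ U.1 (𝓘.subschemeι d) hxU t ∈
      IsLocalRing.maximalIdeal (X.presheaf.stalk (𝓘.subschemeι d)) := by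
    rw [IsLocalRing.mem_maximalIdeal, mem_nonunits_iff, ← Scheme.mem_basicOpen _ _ _ hxU]
    have h1 := (Scheme.IdealSheafData.mem_support_iff_of_mem (U := U) hxU).1 hsupp
    rw [Scheme.mem_zeroLocus_iff] at h1
    exact h1 t (hI ▸ Ideal.mem_span_singleton_self t)
  have hker : RingHom.ker (algebraMap (X.presheaf.stalk (𝓘.subschemeι d))
      (𝓘.subscheme.presheaf.stalk d)) =
      Ideal.span {X.presheaf.germ U.1 (𝓘.subschemeι d) hxU t} := by
    have h1 := Groth.Agent.H9.ker_stalkMap_subschemeι 𝓘 U d hxU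
    rw [hI, Ideal.map_span, Set.image_singleton] at h1
    exact h1
  exact Groth.Agent.H9.sk_quotient hsurj _ hnzd hmax hker k (hX (𝓘.subschemeι d))

end Groth.Agent.S1685
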