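import Groth.Statements.S10798
import Groth.Agent.H50.CartierDescent
import Groth.Agent.S1685

set_option autoImplicit false
universe u
open CategoryTheory CategoryTheory.Limits AlgebraicGeometry Topology TopologicalSpace
open AlgSp

namespace Groth.Agent.S10798

/-- Let X be a locally Noetherian algebraic space over a scheme S satisfying Serre's condition (S_k), in
the etale-local sense: some etale surjective chart of X from a locally Noetherian scheme all of
whose local rings O satisfy min(k, dim O) ≤ depth O. Let D ⟶ X be an effective Cartier divisor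
(one-chart sense). Then D is locally Noetherian and (S_{k-1}) in the same sense (with k - 1 read as
0 when k = 0). -/
theorem result {S : Scheme.{u}} (X D : AlgSp.Space S) (k : ℕ)
    (hX : AlgSp.EtaleLocally (fun U => IsLocallyNoetherian U ∧ ∀ x : ↥U,
        min ((k : ℕ) : WithBot ℕ∞) (ringKrullDim ↥(U.presheaf.stalk x)) ≤
          ((LocCoh.depth ↥(U.presheaf.stalk x) ↥(U.presheaf.stalk x) : ℕ∞) : WithBot ℕ∞)) X.obj)
    (i : D ⟶ X) (hD : AlgSp.IsEffCartierSub i.hom) :
    AlgSp.EtaleLocally (fun V => IsLocallyNoetherian V ∧ ∀ v : ↥V,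
        min ((k - 1 : ℕ) : WithBot ℕ∞) (ringKrullDim ↥(V.presheaf.stalk v)) ≤
          ((LocCoh.depth ↥(V.presheaf.stalk v) ↥(V.presheaf.stalk v) : ℕ∞) : WithBot ℕ∞)) D.obj := by
  obtain ⟨U, p, hpe, hps, hN, hSk⟩ := hX
  have hcl : AlgSp.RepWith @IsClosedImmersion i.hom := hD.1
  haveI := AlgSp.repWith_isStableUnderBaseChange (S := S) @Etale
  haveI := AlgSp.repWith_isStableUnderBaseChange (S := S) @Surjective
  have sqDU := hcl.1.isPullback p
  haveI : IsClosedImmersion (hcl.1.snd p).left := hcl.2 _ _ _ sqDU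
  obtain ⟨IU, fstU, sqU⟩ : ∃ (IU : U.left.IdealSheafData)
      (fstU : (AlgSp.yon S).obj (Groth.Agent.H50.vOver U IU) ⟶ D.obj),
      IsPullback fstU ((AlgSp.yon S).map (Groth.Agent.H50.vOverι U IU)) i.hom p := by
    obtain ⟨fst', sq'⟩ := Groth.Agent.H50.exists_isPullback_vOver_of_ker_eq i.hom p _ _
      sqDU _ rfl
    exact ⟨_, fst', sq'⟩
  have hIU : BlowUp.IsEffCartierIdeal IU :=
    Groth.Agent.H50.isEffCartierIdeal_of_isEffCartierSub hD p hpe IU fstU sqU
  have hfe : AlgSp.RepWith @Etale fstU := MorphismProperty.of_isPullback sqU.flip hpe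
  have hfs : AlgSp.RepWith @Surjective fstU := MorphismProperty.of_isPullback sqU.flip hps
  haveI : IsLocallyNoetherian U.left := hN
  refine ⟨Groth.Agent.H50.vOver U IU, fstU, hfe, hfs, ?_, ?_⟩
  · show IsLocallyNoetherian IU.subscheme
    exact LocallyOfFiniteType.isLocallyNoetherian IU.subschemeι
  · intro d
    exact Groth.Agent.S1685.result U.left k hSk IU hIU d

end Groth.Agent.S10798
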