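import Groth.Statements.S10799
import Groth.Agent.H50.CartierDescent
import Groth.Agent.S1685
import Groth.Agent.H15.SerreNormal

set_option autoImplicit false
universe u
open CategoryTheory CategoryTheory.Limits AlgebraicGeometry Topology TopologicalSpace
open AlgSp

namespace Groth.Agent.S10799

/-- A Noetherian local integrally closed domain satisfies `(S_2)` at its closed point. -/
theorem sk_two_of_normal (A : Type u) [CommRing A] [IsLocalRing A] [IsNoetherianRing A]
    [IsDomain A] [IsIntegrallyClosed A] :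
    min ((2 : ℕ) : WithBot ℕ∞) (ringKrullDim A) ≤ ((LocCoh.depth A A : ℕ∞) : WithBot ℕ∞) := by
  have tr : ∀ n : ℕ, Groth.Agent.H15.Depth.HasSeq (IsLocalRing.maximalIdeal A) A n →
      ((n : ℕ) : ℕ∞) ≤ LocCoh.depth A A := fun n hn =>
    Groth.Agent.H15.Depth.le_idealDepth_of_hasSeq hn
  rcases Groth.Agent.H15.SerreNormal.hasSeq_of_normal A with hbot | ⟨h1, h2 | hht⟩
  · have hfield : IsField A := (IsLocalRing.isField_iff_maximalIdeal_eq).mpr hbot
    have hdim := ringKrullDim_eq_zero_of_isField hfield
    refine le_trans (min_le_right _ _) ?_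
    rw [hdim]
    exact_mod_cast zero_le
  · refine le_trans (min_le_left _ _) ?_
    have h3 := tr 2 h2
    have e2 : ((2 : ℕ) : WithBot ℕ∞) = (((2 : ℕ) : ℕ∞) : WithBot ℕ∞) := rfl
    rw [e2]
    exact WithBot.coe_le_coe.mpr h3
  · refine le_trans (min_le_right _ _) ?_
    have h3 := tr 1 h1
    rw [← IsLocalRing.maximalIdeal_height_eq_ringKrullDim]
    exact WithBot.coe_le_coe.mpr (le_trans hht (by exact_mod_cast h3))

/-- Let X be an algebraic space over a scheme S which is locally Noetherian and normal in the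
etale-local sense: some etale surjective chart of X from a locally Noetherian scheme all of whose
local rings are integrally closed domains. Let D ⟶ X be an effective Cartier divisor (one-chart
sense). Then D is (S_1): some etale surjective chart of D from a locally Noetherian scheme all of
whose local rings O satisfy min(1, dim O) ≤ depth O. -/
theorem result {S : Scheme.{u}} (X D : AlgSp.Space S)
    (hX : AlgSp.EtaleLocally (fun U => IsLocallyNoetherian U ∧ Pi1.IsNormalScheme U) X.obj)
    (i : D ⟶ X) (hD : AlgSp.IsEffCartierSub i.hom) :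
    AlgSp.EtaleLocally (fun V => IsLocallyNoetherian V ∧ ∀ v : ↥V,
        min ((1 : ℕ) : WithBot ℕ∞) (ringKrullDim ↥(V.presheaf.stalk v)) ≤
          ((LocCoh.depth ↥(V.presheaf.stalk v) ↥(V.presheaf.stalk v) : ℕ∞) : WithBot ℕ∞)) D.obj := by
  obtain ⟨U, p, hpe, hps, hN, hNorm⟩ := hX
  have hcl : AlgSp.RepWith @IsClosedImmersion i.hom := hD.1
  haveI := AlgSp.repWith_isStableUnderBaseChange (S := S) @Etale
  haveI := AlgSp.repWith_isStableUnderBaseChange (S := S) @Surjective
  have sqDU := hcl.1.isPullback p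
  haveI : IsClosedImmersion (hcl.1.snd p).left := hcl.2 _ _ _ sqDU
  obtain ⟨IU, fstU, sqU⟩ : ∃ (IU : U.left.IdealSheafData)
      (fstU : (AlgSp.yon S).obj (Groth.Agent.H50.vOver U IU) ⟶ D.obj),
      IsPullback fstU ((AlgSp.yon S).map (Groth.Agent.H50.vOverι U IU)) i.hom p := by
    obtain ⟨fst', sq'⟩ := Groth.Agent.H50.exists_isPullback_vOver_of_ker_eq i.hom p _ _
      sqDU _ rfl
    exact ⟨_, fst', sq'⟩
  have hIU : BlowUp.IsEffCartierIdeal IU :=
    Groth.Agent.H50.isEffCartierIdeal_of_isEffCartierSub hD p hpe IU fstU sqU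
  have hfe : AlgSp.RepWith @Etale fstU := MorphismProperty.of_isPullback sqU.flip hpe
  have hfs : AlgSp.RepWith @Surjective fstU := MorphismProperty.of_isPullback sqU.flip hps
  haveI : IsLocallyNoetherian U.left := hN
  have hSk : ∀ x : ↥U.left, min ((2 : ℕ) : WithBot ℕ∞) (ringKrullDim (U.left.presheaf.stalk x)) ≤
      ((LocCoh.depth (U.left.presheaf.stalk x) (U.left.presheaf.stalk x) : ℕ∞) : WithBot ℕ∞) := by
    intro x
    obtain ⟨hdom, hic⟩ := hNorm x
    exact sk_two_of_normal _
  refine ⟨Groth.Agent.H50.vOver U IU, fstU, hfe, hfs, ?_, ?_⟩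
  · show IsLocallyNoetherian IU.subscheme
    exact LocallyOfFiniteType.isLocallyNoetherian IU.subschemeι
  · intro d
    exact Groth.Agent.S1685.result U.left 2 hSk IU hIU d

end Groth.Agent.S10799
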