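import Groth.Statements.S10809
import Groth.Agent.H32.QCBC.WeakAssChart
import Groth.Agent.H52.Topology
import Groth.Agent.H52.FQDecent

set_option autoImplicit false
universe u
open CategoryTheory CategoryTheory.Limits AlgebraicGeometry Topology TopologicalSpace
open AlgSp

namespace Groth.Agent.S10809

/-- (1) ⇔ (2): let X be an algebraic space over a scheme S, F a quasi-coherent O_X-module on the small
etale site of X and x a point of |X|. Then x is a weakly associated point of F (for SOME affine
scheme U etale over X and some point u of U over x, u is weakly associated to F restricted to U: the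
prime ideal of u is minimal over the annihilator of some section of F over U) if and only if for
EVERY affine scheme U etale over X and every point u of U over x, u is weakly associated to F
restricted to U. (The third equivalent condition, through the stalk at a geometric point, is not
part of this row; the every-chart side is stated for affine charts, to which the general case
reduces by passing to an affine open neighbourhood.) -/
theorem result {S : Scheme.{u}} (X : AlgSp.Space S)
    (M : AlgSp.ModEt X.obj) [M.IsQuasicoherent] (x : AlgSp.Points X.obj) :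
    x ∈ AlgSp.WeakAssEt M ↔
      ∀ (E : AlgSp.EtOver X.obj) [IsAffine E.obj.left.left] (u : ↥E.obj.left.left),
        AlgSp.Points.ofPt E.obj.hom u = x → AlgSp.IsWeakAssOn M E u := by
  constructor
  · rintro ⟨E₀, hE₀, u₀, hu₀, hw₀⟩ E hE u hu
    have hsq : IsPullback ((yon S).map (E.property.1.fst' E₀.obj.hom))
        ((yon S).map (E.property.1.snd E₀.obj.hom)) E.obj.hom E₀.obj.hom := by
      rw [Functor.relativelyRepresentable.map_fst']
      exact E.property.1.isPullback E₀.obj.hom
    obtain ⟨v, hv1, hv2⟩ := Groth.Agent.H52.exists_of_ofPt_eq_ofPt hsq u u₀ (hu.trans hu₀.symm)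
    let W := EtOver.prodObj E₀ E
    obtain ⟨V, hV, hvV⟩ : ∃ V : W.obj.left.left.Opens, IsAffineOpen V ∧ (v : W.obj.left.left) ∈ V := by
      obtain ⟨V, hV, hvV, -⟩ := exists_isAffineOpen_mem_and_subset (X := W.obj.left.left)
        (x := v) (U := ⊤) trivial
      exact ⟨V, hV, hvV⟩
    let W' := Groth.Agent.H32.QCBC.openObj W V
    haveI hW' : IsAffine W'.obj.left.left := hV
    let v' : W'.obj.left.left := (⟨v, hvV⟩ : V)
    have h1 := Groth.Agent.H32.QCBC.isWeakAssOn_iff_of_hom M
      (Groth.Agent.H32.QCBC.openObjι W V ≫ EtOver.prodFst E₀ E) v'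
    have h2 := Groth.Agent.H32.QCBC.isWeakAssOn_iff_of_hom M
      (Groth.Agent.H32.QCBC.openObjι W V ≫ EtOver.prodSnd E₀ E) v'
    have e1 : (Groth.Agent.H32.QCBC.openObjι W V ≫ EtOver.prodFst E₀ E).hom.left.left v' = u₀ := hv2
    have e2 : (Groth.Agent.H32.QCBC.openObjι W V ≫ EtOver.prodSnd E₀ E).hom.left.left v' = u := hv1
    rw [e1] at h1
    rw [e2] at h2
    exact h2.mp (h1.mpr hw₀)
  · intro h
    obtain ⟨U, a, u, hU, ha, hx⟩ := Groth.Agent.H52.exists_affine_chart_at X.property x
    exact ⟨EtOver.mk a ha, hU, u, hx, @h (EtOver.mk a ha) hU u hx⟩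

end Groth.Agent.S10809
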