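import Groth.Statements.S10811


set_option autoImplicit false
universe u
open CategoryTheory CategoryTheory.Limits AlgebraicGeometry Topology TopologicalSpace
open AlgSp

namespace Groth.Agent.S10811

theorem mem_iff {R R' : Type*} [CommRing R] [Ring R'] (φ : R →+* R') {M : Type*} [AddCommGroup M]
    [Module R' M] (m : M) (a : R) :
    a ∈ Ideal.comap φ (LinearMap.ker (LinearMap.toSpanSingleton R' M m)) ↔ φ a • m = 0 := Iff.rfl

theorem key {R R' : Type*} [CommRing R] [Ring R'] (φ : R →+* R')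
    {M' M M'' : Type*} [AddCommGroup M'] [Module R' M'] [AddCommGroup M] [Module R' M]
    [AddCommGroup M''] [Module R' M'']
    (f : M' →ₗ[R'] M) (g : M →ₗ[R'] M'') (hf : Function.Injective f) (hfg : Function.Exact f g)
    (p : Ideal R) (m : M)
    (hp : p ∈ (Ideal.comap φ (LinearMap.ker (LinearMap.toSpanSingleton R' M m))).minimalPrimes) :
    (∃ m' : M', p ∈ (Ideal.comap φ (LinearMap.ker (LinearMap.toSpanSingleton R' M' m'))).minimalPrimes) ∨
    (∃ m'' : M'', p ∈ (Ideal.comap φ (LinearMap.ker (LinearMap.toSpanSingleton R' M'' m''))).minimalPrimes) := by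
  classical
  rw [Ideal.minimalPrimes, Set.mem_setOf_eq] at hp
  obtain ⟨⟨hpp, hple⟩, hpmin⟩ := hp
  have hle_g : Ideal.comap φ (LinearMap.ker (LinearMap.toSpanSingleton R' M m)) ≤
      Ideal.comap φ (LinearMap.ker (LinearMap.toSpanSingleton R' M'' (g m))) := by
    intro a ha
    rw [mem_iff] at ha ⊢
    rw [← map_smul, ha, map_zero]
  by_cases hcase : Ideal.comap φ (LinearMap.ker (LinearMap.toSpanSingleton R' M'' (g m))) ≤ p
  · right
    refine ⟨g m, ?_⟩
    rw [Ideal.minimalPrimes, Set.mem_setOf_eq]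
    exact ⟨⟨hpp, hcase⟩, fun q hq hqp => hpmin ⟨hq.1, hle_g.trans hq.2⟩ hqp⟩
  · left
    obtain ⟨r, hr, hrp⟩ := SetLike.not_le_iff_exists.1 hcase
    rw [mem_iff] at hr
    have h0 : g (φ r • m) = 0 := by rw [map_smul, hr]
    obtain ⟨m', hm'⟩ := (hfg (φ r • m)).1 h0
    have hI1 : Ideal.comap φ (LinearMap.ker (LinearMap.toSpanSingleton R' M m)) ≤
        Ideal.comap φ (LinearMap.ker (LinearMap.toSpanSingleton R' M' m')) := by
      intro a ha
      rw [mem_iff] at ha ⊢
      apply hf
      rw [map_smul, hm', map_zero, smul_smul, ← map_mul, mul_comm, map_mul, ← smul_smul, ha, smul_zero]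
    refine ⟨m', ?_⟩
    rw [Ideal.minimalPrimes, Set.mem_setOf_eq]
    refine ⟨⟨hpp, ?_⟩, fun q hq hqp => hpmin ⟨hq.1, hI1.trans hq.2⟩ hqp⟩
    intro a ha
    rw [mem_iff] at ha
    have h2 : a * r ∈ p := by
      apply hple
      rw [mem_iff, map_mul, ← smul_smul, ← hm', ← map_smul, ha, map_zero]
    exact (hpp.mem_or_mem h2).resolve_right hrp

/-- Let X be an algebraic space over a scheme S and 0 ⟶ F₁ ⟶ F₂ ⟶ F₃ ⟶ 0 a short exact sequence of
quasi-coherent O_X-modules on the small etale site of X. Then the weakly associated points satisfy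
WeakAss(F₂) ⊆ WeakAss(F₁) ∪ WeakAss(F₃) and WeakAss(F₁) ⊆ WeakAss(F₂). -/
theorem result {S : Scheme.{u}} (X : AlgSp.Space S)
    (C : ShortComplex (AlgSp.ModEt X.obj)) (hC : C.ShortExact)
    [C.X₁.IsQuasicoherent] [C.X₂.IsQuasicoherent] [C.X₃.IsQuasicoherent] :
    AlgSp.WeakAssEt C.X₂ ⊆ AlgSp.WeakAssEt C.X₁ ∪ AlgSp.WeakAssEt C.X₃ ∧
      AlgSp.WeakAssEt C.X₁ ⊆ AlgSp.WeakAssEt C.X₂ := by
  have hmono := hC.mono_f
  have hex := hC.exact
  have key1 : ∀ E : AlgSp.EtOver X.obj,
      Function.Injective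
        ((SheafOfModules.evaluation (AlgSp.OEtRing X.obj) (Opposite.op E)).map C.f).hom ∧
      Function.Exact ((SheafOfModules.evaluation (AlgSp.OEtRing X.obj) (Opposite.op E)).map C.f).hom
        ((SheafOfModules.evaluation (AlgSp.OEtRing X.obj) (Opposite.op E)).map C.g).hom := by
    intro E
    have h1 : Mono ((SheafOfModules.evaluation (AlgSp.OEtRing X.obj) (Opposite.op E)).map C.f) :=
      inferInstance
    have h2 : (C.map (SheafOfModules.evaluation (AlgSp.OEtRing X.obj) (Opposite.op E))).Exact :=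
      hex.map_of_mono_of_preservesKernel _ hmono inferInstance
    exact ⟨(ModuleCat.mono_iff_injective _).1 h1,
      (ShortComplex.ShortExact.moduleCat_exact_iff_function_exact _).1 h2⟩
  constructor
  · rintro x ⟨E, hE, u, hux, s, hs⟩
    obtain ⟨hinj, hexact⟩ := key1 E
    rcases key (AlgSp.upΓ E) _ _ hinj hexact _ s hs with ⟨s', hs'⟩ | ⟨s'', hs''⟩
    · left; exact ⟨E, hE, u, hux, Exists.intro s' hs'⟩
    · right; exact ⟨E, hE, u, hux, Exists.intro s'' hs''⟩
  · rintro x ⟨E, hE, u, hux, s, hs⟩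
    obtain ⟨hinj, -⟩ := key1 E
    refine ⟨E, hE, u, hux,
      Exists.intro (((SheafOfModules.evaluation (AlgSp.OEtRing X.obj) (Opposite.op E)).map C.f).hom s) ?_⟩
    have hann : AlgSp.annSect (M := C.X₂) (E := E)
        (((SheafOfModules.evaluation (AlgSp.OEtRing X.obj) (Opposite.op E)).map C.f).hom s) =
        AlgSp.annSect (M := C.X₁) (E := E) s := by
      ext a
      rw [AlgSp.mem_annSect_iff, AlgSp.mem_annSect_iff]
      constructor
      · intro h
        apply hinj
        exact (LinearMap.map_smul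
          (((SheafOfModules.evaluation (AlgSp.OEtRing X.obj) (Opposite.op E)).map C.f).hom)
          (AlgSp.upΓ E a) s).trans (h.trans (map_zero _).symm)
      · intro h
        exact (LinearMap.map_smul
          (((SheafOfModules.evaluation (AlgSp.OEtRing X.obj) (Opposite.op E)).map C.f).hom)
          (AlgSp.upΓ E a) s).symm.trans ((congrArg _ h).trans (map_zero _))
    rw [hann]; exact hs

end Groth.Agent.S10811
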