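import Groth.Statements.S10812
import Groth.Agent.H32.WAFin.Chart
import Groth.Agent.S10809
import Groth.Agent.H52.Topology
import Groth.Agent.H52.FQDecent

set_option autoImplicit false
universe u
open CategoryTheory CategoryTheory.Limits AlgebraicGeometry Topology TopologicalSpace
open AlgSp

namespace Groth.Agent.S10812

/-- Let X be a locally Noetherian algebraic space over a scheme S and F a coherent O_X-module on the
small etale site of X (a quasi-coherent module of finite type; on a locally Noetherian space its
associated points are its weakly associated points). Then for every quasi-compact open subset W of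
|X| the set of associated points of F contained in W is finite. -/
theorem result {S : Scheme.{u}} (X : AlgSp.Space S)
    (hX : AlgSp.IsLocNoethSp X.obj) (M : AlgSp.ModEt X.obj) [M.IsQuasicoherent] [M.IsFiniteType]
    (W : Set (AlgSp.Points X.obj)) (hWo : IsOpen W) (hWc : IsCompact W) :
    (AlgSp.WeakAssEt M ∩ W).Finite := by
  have hchart := fun x : AlgSp.Points X.obj => Groth.Agent.H52.exists_affine_chart_at X.property x
  choose U a u hU ha hx using hchart
  have hopen : ∀ x, IsOpen (Set.range (AlgSp.Points.ofPt (a x))) := fun x =>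
    (Groth.Agent.H52.isOpenMap_ofPt_of_etale (a x) (ha x)).isOpen_range
  obtain ⟨t, ht⟩ := hWc.elim_finite_subcover (fun x => Set.range (AlgSp.Points.ofPt (a x))) hopen
    (fun x _ => Set.mem_iUnion.2 ⟨x, ⟨u x, hx x⟩⟩)
  have hfin : ∀ x, {v : ↥(EtOver.mk (a x) (ha x)).obj.left.left |
      @AlgSp.IsWeakAssOn S X.obj M (EtOver.mk (a x) (ha x)) (hU x) v}.Finite := fun x =>
    @Groth.Agent.H32.WAFin.finite_isWeakAssOn S X.obj M _ _ hX (EtOver.mk (a x) (ha x)) (hU x)
  refine Set.Finite.subset (Set.Finite.biUnion t.finite_toSet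
    (fun x _ => (hfin x).image (AlgSp.Points.ofPt (a x)))) ?_
  rintro y ⟨hy, hyW⟩
  have h1 := ht hyW
  rw [Set.mem_iUnion₂] at h1
  obtain ⟨x, hxt, v, hv⟩ := h1
  refine Set.mem_biUnion hxt ⟨v, ?_, hv⟩
  have h2 := (Groth.Agent.S10809.result X M y).mp hy
  exact @h2 (EtOver.mk (a x) (ha x)) (hU x) v hv

end Groth.Agent.S10812
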