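import Groth.Statements.S10813
import Groth.Agent.H50.CartierSp

set_option autoImplicit false
universe u
open CategoryTheory CategoryTheory.Limits AlgebraicGeometry Topology TopologicalSpace
open AlgSp

namespace Groth.Agent.S10813

/-- Let X be an algebraic space over a scheme S, let Z ⟶ X and Y ⟶ X be closed subspaces cut out by
quasi-coherent sheaves of ideals I and J, and let D ⟶ X be the closed subspace which the product I·J
cuts out. If D is an effective Cartier divisor (one-chart sense), then so are Z and Y, and D is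
their sum. -/
theorem result {S : Scheme.{u}} (X Z Y D : AlgSp.Space S)
    (iZ : Z ⟶ X) (iY : Y ⟶ X) (iD : D ⟶ X) (I J : AlgSp.IdealEt X.obj) (hI : I.IsQCoh) (hJ : J.IsQCoh)
    (hZ : AlgSp.IsCutOutBy I iZ.hom) (hY : AlgSp.IsCutOutBy J iY.hom) (hD : AlgSp.IsCutOutBy (I * J) iD.hom)
    (hDc : AlgSp.IsEffCartierSub iD.hom) :
    AlgSp.IsEffCartierSub iZ.hom ∧ AlgSp.IsEffCartierSub iY.hom := by
  obtain ⟨-, V, φ, K, fst, hφe, hφs, sq, hK⟩ := hDc
  have hK' : K = Groth.Agent.H50.chartIdeal I hI φ hφe * Groth.Agent.H50.chartIdeal J hJ φ hφe := by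
    have h := Groth.Agent.H50.ker_eq_chartIdeal_of_isCutOutBy (I * J)
      (Groth.Agent.H50.isQCoh_mul hI hJ) hD φ hφe fst (Groth.Agent.H50.vOverι V K) sq
    rw [show (Groth.Agent.H50.vOverι V K).left.ker = K from
      Scheme.IdealSheafData.ker_subschemeι K, Groth.Agent.H50.chartIdeal_mul I J hI hJ] at h
    exact h
  rw [hK'] at hK
  constructor
  · have hi : AlgSp.RepWith @IsClosedImmersion iZ.hom := hZ.1
    have sqD := hi.1.isPullback φ
    haveI : IsClosedImmersion (hi.1.snd φ).left := hi.2 _ _ _ sqD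
    have hker := Groth.Agent.H50.ker_eq_chartIdeal_of_isCutOutBy I hI hZ φ hφe _ _ sqD
    obtain ⟨fst', sq'⟩ := Groth.Agent.H50.exists_isPullback_vOver_of_ker_eq iZ.hom _ _ _ sqD _ hker
    exact ⟨hi, _, _, _, fst', hφe, hφs, sq', Groth.Agent.H9.isEffCartierIdeal_of_mul_left hK⟩
  · have hi : AlgSp.RepWith @IsClosedImmersion iY.hom := hY.1
    have sqD := hi.1.isPullback φ
    haveI : IsClosedImmersion (hi.1.snd φ).left := hi.2 _ _ _ sqD
    have hker := Groth.Agent.H50.ker_eq_chartIdeal_of_isCutOutBy J hJ hY φ hφe _ _ sqD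
    obtain ⟨fst', sq'⟩ := Groth.Agent.H50.exists_isPullback_vOver_of_ker_eq iY.hom _ _ _ sqD _ hker
    exact ⟨hi, _, _, _, fst', hφe, hφs, sq', Groth.Agent.H9.isEffCartierIdeal_of_mul_right hK⟩

end Groth.Agent.S10813
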