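import Groth.Statements.S10814
import Groth.Agent.H50.CartierSp

set_option autoImplicit false
universe u
open CategoryTheory CategoryTheory.Limits AlgebraicGeometry Topology TopologicalSpace
open AlgSp

namespace Groth.Agent.S10814

/-- Let X be an algebraic space over a scheme S and D₁, D₂ ⟶ X effective Cartier divisors (one-chart
sense) with quasi-coherent ideal sheaves I₁, I₂ on the small etale site. Then their sum, the closed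
subspace D ⟶ X cut out by the product ideal I₁·I₂, is an effective Cartier divisor. -/
theorem result {S : Scheme.{u}} (X D₁ D₂ D : AlgSp.Space S)
    (i₁ : D₁ ⟶ X) (i₂ : D₂ ⟶ X) (i : D ⟶ X) (I₁ I₂ : AlgSp.IdealEt X.obj) (hI₁ : I₁.IsQCoh) (hI₂ : I₂.IsQCoh)
    (h₁ : AlgSp.IsCutOutBy I₁ i₁.hom) (h₂ : AlgSp.IsCutOutBy I₂ i₂.hom) (hD : AlgSp.IsCutOutBy (I₁ * I₂) i.hom)
    (e₁ : AlgSp.IsEffCartierSub i₁.hom) (e₂ : AlgSp.IsEffCartierSub i₂.hom) :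
    AlgSp.IsEffCartierSub i.hom := by
  obtain ⟨-, V₁, φ₁, K₁, fst₁, hφ₁e, hφ₁s, sq₁, hK₁⟩ := e₁
  obtain ⟨-, V₂, φ₂, K₂, fst₂, hφ₂e, hφ₂s, sq₂, hK₂⟩ := e₂
  have hK₁' : K₁ = Groth.Agent.H50.chartIdeal I₁ hI₁ φ₁ hφ₁e := by
    have h := Groth.Agent.H50.ker_eq_chartIdeal_of_isCutOutBy I₁ hI₁ h₁ φ₁ hφ₁e fst₁
      (Groth.Agent.H50.vOverι V₁ K₁) sq₁
    rwa [show (Groth.Agent.H50.vOverι V₁ K₁).left.ker = K₁ from
      Scheme.IdealSheafData.ker_subschemeι K₁] at h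
  have hK₂' : K₂ = Groth.Agent.H50.chartIdeal I₂ hI₂ φ₂ hφ₂e := by
    have h := Groth.Agent.H50.ker_eq_chartIdeal_of_isCutOutBy I₂ hI₂ h₂ φ₂ hφ₂e fst₂
      (Groth.Agent.H50.vOverι V₂ K₂) sq₂
    rwa [show (Groth.Agent.H50.vOverι V₂ K₂).left.ker = K₂ from
      Scheme.IdealSheafData.ker_subschemeι K₂] at h
  have hrep : AlgSp.Representable φ₁ := hφ₁e.1
  obtain ⟨p₁, hp₁⟩ := (AlgSp.yon S).map_surjective (hrep.fst φ₂)
  have sqV : IsPullback ((AlgSp.yon S).map p₁) ((AlgSp.yon S).map (hrep.snd φ₂)) φ₁ φ₂ := by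
    rw [hp₁]
    exact hrep.isPullback φ₂
  have hp₂e : Etale (hrep.snd φ₂).left := hφ₁e.property φ₂ _ _ sqV
  have hp₂s : Surjective (hrep.snd φ₂).left := hφ₁s.property φ₂ _ _ sqV
  have hp₁e : Etale p₁.left := hφ₂e.property φ₁ _ _ sqV.flip
  have hφe : AlgSp.RepWith @Etale ((AlgSp.yon S).map (hrep.snd φ₂) ≫ φ₂) :=
    (AlgSp.repWith_isMultiplicative (S := S) @Etale).comp_mem _ _
      ((AlgSp.repWith_yon_map_iff _ _).2 hp₂e) hφ₂e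
  have hφs : AlgSp.RepWith @Surjective ((AlgSp.yon S).map (hrep.snd φ₂) ≫ φ₂) :=
    (AlgSp.repWith_isMultiplicative (S := S) @Surjective).comp_mem _ _
      ((AlgSp.repWith_yon_map_iff _ _).2 hp₂s) hφ₂s
  have hφe' : AlgSp.RepWith @Etale ((AlgSp.yon S).map p₁ ≫ φ₁) := by
    rw [sqV.w]
    exact hφe
  have hKeq : Groth.Agent.H50.chartIdeal (I₁ * I₂) (Groth.Agent.H50.isQCoh_mul hI₁ hI₂)
      ((AlgSp.yon S).map (hrep.snd φ₂) ≫ φ₂) hφe =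
      K₁.comap p₁.left * K₂.comap (hrep.snd φ₂).left := by
    rw [Groth.Agent.H50.chartIdeal_mul I₁ I₂ hI₁ hI₂, hK₁', hK₂',
      Groth.Agent.H50.comap_chartIdeal I₁ hI₁ φ₁ hφ₁e _ hφe' p₁ rfl,
      Groth.Agent.H50.comap_chartIdeal I₂ hI₂ φ₂ hφ₂e _ hφe (hrep.snd φ₂) rfl]
    congr 1
    exact Groth.Agent.H50.chartIdeal_congr I₁ hI₁ hφe hφe' sqV.w.symm
  have hKc : BlowUp.IsEffCartierIdeal (Groth.Agent.H50.chartIdeal (I₁ * I₂)
      (Groth.Agent.H50.isQCoh_mul hI₁ hI₂) ((AlgSp.yon S).map (hrep.snd φ₂) ≫ φ₂) hφe) := by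
    rw [hKeq]
    haveI := hp₁e
    haveI := hp₂e
    exact Groth.Agent.H9.isEffCartierIdeal_mul
      (Groth.Agent.H9.isEffCartierIdeal_comap_of_flat p₁.left K₁ hK₁)
      (Groth.Agent.H9.isEffCartierIdeal_comap_of_flat (hrep.snd φ₂).left K₂ hK₂)
  have hi : AlgSp.RepWith @IsClosedImmersion i.hom := hD.1
  have sqD := hi.1.isPullback ((AlgSp.yon S).map (hrep.snd φ₂) ≫ φ₂)
  haveI : IsClosedImmersion (hi.1.snd ((AlgSp.yon S).map (hrep.snd φ₂) ≫ φ₂)).left :=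
    hi.2 _ _ _ sqD
  have hker := Groth.Agent.H50.ker_eq_chartIdeal_of_isCutOutBy (I₁ * I₂)
    (Groth.Agent.H50.isQCoh_mul hI₁ hI₂) hD _ hφe _ _ sqD
  obtain ⟨fst', sq'⟩ := Groth.Agent.H50.exists_isPullback_vOver_of_ker_eq i.hom _ _ _ sqD _ hker
  exact ⟨hi, _, _, _, fst', hφe, hφs, sq', hKc⟩

end Groth.Agent.S10814
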