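import Groth.Statements.S10815
import Groth.Agent.H99.WeakAssFin
import Groth.Agent.S10809

set_option autoImplicit false
universe u
open CategoryTheory CategoryTheory.Limits AlgebraicGeometry Topology TopologicalSpace
open AlgSp

namespace Groth.Agent.S10815

/-- Let f : X ⟶ Y be a finite morphism of algebraic spaces over a scheme S (representable; the
representability is carried as a separate hypothesis) and F a quasi-coherent O_X-module on the small
etale site of X, with f_*F quasi-coherent. Then WeakAss(f_*F) = f(WeakAss(F)) as subsets of |Y|. -/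
theorem result {S : Scheme.{u}} (X Y : AlgSp.Space S) (f : X ⟶ Y)
    (hf : AlgSp.Representable f.hom) (hfin : AlgSp.IsFiniteMor f.hom)
    (M : AlgSp.ModEt X.obj) [M.IsQuasicoherent] [((AlgSp.pushModEt hf).obj M).IsQuasicoherent] :
    AlgSp.WeakAssEt ((AlgSp.pushModEt hf).obj M) = AlgSp.Points.map f.hom '' AlgSp.WeakAssEt M := by
  apply Set.Subset.antisymm
  · exact Groth.Agent.H25.WeakAssPush.weakAss_push_subset hf
      (Groth.Agent.H99.WeakAssFin.isAffineMor_of_isFiniteMor hfin) M
  · refine Groth.Agent.H99.WeakAssFin.image_weakAss_subset Y.property hf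
      (Groth.Agent.H99.WeakAssFin.isAffineMor_of_isFiniteMor hfin) M ?_ ?_
    · intro x hx E hE u hu
      exact (Groth.Agent.S10809.result X M x).1 hx E u hu
    · intro E hE s' q hq
      exact Groth.Agent.H99.WeakAssFin.ring_step_finite hf hfin M E hE s' q hq

end Groth.Agent.S10815
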