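import Groth.Statements.S10817
import Groth.Agent.H96.SecInj_Core

set_option autoImplicit false
universe u
open CategoryTheory CategoryTheory.Limits AlgebraicGeometry Topology TopologicalSpace
open AlgSp

namespace Groth.Agent.S10817

/-- Let X be an algebraic space over a scheme S and F a quasi-coherent O_X-module on the small etale
site of X. If U ⟶ X is an etale morphism from a scheme (an object of the small etale site) whose
image in |X| contains all weakly associated points of F, then the restriction map Γ(X, F) ⟶ Γ(U, F)
is injective; here Γ(X, F) is the type of compatible families of sections of F over all objects of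
the site, and the map is evaluation at U. -/
theorem result {S : Scheme.{u}} (X : AlgSp.Space S)
    (M : AlgSp.ModEt X.obj) [M.IsQuasicoherent] (E : AlgSp.EtOver X.obj)
    (hE : AlgSp.WeakAssEt M ⊆ Set.range (AlgSp.Points.ofPt E.obj.hom)) :
    Function.Injective (fun s : M.sections => PresheafOfModules.sections.eval s (Opposite.op E)) := by
  intro s s' hss'
  have key : ∀ E' : AlgSp.EtOver X.obj,
      PresheafOfModules.sections.eval s (Opposite.op E') -
        PresheafOfModules.sections.eval s' (Opposite.op E') = 0 := by
    let t : ∀ E' : AlgSp.EtOver X.obj, AlgSp.sectModEt M E' := fun E' =>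
      PresheafOfModules.sections.eval s (Opposite.op E') -
        PresheafOfModules.sections.eval s' (Opposite.op E')
    have ht : ∀ {E' E'' : AlgSp.EtOver X.obj} (g : E'' ⟶ E'), M.val.map g.op (t E') = t E'' := by
      intro E' E'' g
      show M.val.map g.op (PresheafOfModules.sections.eval s (Opposite.op E') -
        PresheafOfModules.sections.eval s' (Opposite.op E')) = _
      rw [map_sub, PresheafOfModules.sections_property, PresheafOfModules.sections_property]
      rfl
    have h0 : t E = 0 := sub_eq_zero.2 hss'
    intro E'
    refine Groth.Agent.H96.SecInj_Core.eq_zero_of_affineOpens M E' (t E') (fun O => ?_)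
    rw [ht]
    exact Groth.Agent.H96.SecInj_Core.affine_case M E hE t ht h0 _ O.2
  apply PresheafOfModules.sections_ext
  intro Y
  exact sub_eq_zero.1 (key Y.unop)

end Groth.Agent.S10817
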