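import Groth.Statements.S10821
import Mathlib
import Groth.Agent.H21.ProjHyper

set_option autoImplicit false
universe u
open AlgebraicGeometry Topology TopologicalSpace
open Variety

namespace Groth.Agent.S10821

open Groth.Agent.S10915 (irr mem_irr_iff irr_isMaximal le_irr_of_isHomogeneous)
open Groth.Agent.H21.ProjTop Groth.Agent.H21.ProjDim Groth.Agent.H21.ProjInter Groth.Agent.H21.ProjHyper

/-- For a field k and an irreducible closed subset Z of projective n-space over k, Z has codimension 1
(the longest chain of irreducible closed subsets strictly above Z has length 1) if and only if Z is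
the zero set V_+(f) of an irreducible homogeneous polynomial f in n + 1 variables. -/
theorem result (k : Type u) [Field k] (n : ℕ)
    (Z : TopologicalSpace.IrreducibleCloseds (ProjectiveSpectrum (CohB1.polyGrading n k))) :
    Order.coheight Z = 1 ↔
      ∃ (d : ℕ) (f : MvPolynomial (Fin (n + 1)) k), f.IsHomogeneous d ∧ Irreducible f ∧
        (Z : Set (ProjectiveSpectrum (CohB1.polyGrading n k))) =
          ProjectiveSpectrum.zeroLocus (CohB1.polyGrading n k) ({f} : Set (MvPolynomial (Fin (n + 1)) k)) := by
  classical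
  set x : ProjectiveSpectrum (CohB1.polyGrading n k) :=
    OrderDual.ofDual ((irreducibleClosedsOrderIso (𝒜 := CohB1.polyGrading n k)) Z) with hx
  have hZ : (Z : Set (ProjectiveSpectrum (CohB1.polyGrading n k))) = {y | x ≤ y} := by
    rw [← coe_irreducibleClosedsOrderIso_symm x, hx, OrderDual.toDual_ofDual,
      OrderIso.symm_apply_apply]
  have hco : Order.coheight Z = Order.height x :=
    (Order.coheight_orderIso (irreducibleClosedsOrderIso (𝒜 := CohB1.polyGrading n k)) Z).symm.trans
      (Order.coheight_toDual x)
  rw [hco, hZ]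
  haveI hpprime : x.asHomogeneousIdeal.toIdeal.IsPrime := x.isPrime
  constructor
  · intro h
    have hx0 : x.asHomogeneousIdeal.toIdeal ≠ ⊥ := by
      intro h0
      have hmin : IsMin x := fun y _ => (toIdeal_le_iff x y).mp (by rw [h0]; exact bot_le)
      have h1 := Order.height_eq_zero.mpr hmin
      rw [h] at h1
      exact one_ne_zero h1
    obtain ⟨i, g, hgp, hg0, hghom⟩ :=
      exists_homogeneous_mem_of_ne_bot x.asHomogeneousIdeal.isHomogeneous hx0
    obtain ⟨P', hP', hP'p⟩ := Ideal.exists_minimalPrimes_le
      (I := Ideal.span {g}) (J := x.asHomogeneousIdeal.toIdeal)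
      (Ideal.span_le.mpr (Set.singleton_subset_iff.mpr hgp))
    have hP'hom : P'.IsHomogeneous (CohB1.polyGrading n k) :=
      isHomogeneous_of_mem_minimalPrimes (span_singleton_isHomogeneous hghom) hP'
    have hP'ne : P' ≠ irr k n := by
      intro h'
      rw [h'] at hP'p
      exact not_le_of_gt (point_lt_irr x) hP'p
    have hgP' : g ∈ P' := hP'.1.2 (Ideal.mem_span_singleton_self g)
    have hy'x : mkPoint P' hP'.1.1 hP'hom hP'ne ≤ x := (toIdeal_le_iff _ _).mp hP'p
    have hy'eq : mkPoint P' hP'.1.1 hP'hom hP'ne = x := by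
      by_contra hne
      have hlt : mkPoint P' hP'.1.1 hP'hom hP'ne < x := lt_of_le_of_ne hy'x hne
      have h0 : botPoint k n < mkPoint P' hP'.1.1 hP'hom hP'ne := by
        apply botPoint_lt_of_ne_bot
        rw [mkPoint_toIdeal]
        intro hbot
        rw [hbot, Ideal.mem_bot] at hgP'
        exact hg0 hgP'
      have h1 : 1 < Order.height x := Order.one_lt_height_iff.mpr ⟨_, _, h0, hlt⟩
      rw [h] at h1
      exact lt_irrefl _ h1
    have hpP' : x.asHomogeneousIdeal.toIdeal = P' := by
      rw [← hy'eq, mkPoint_toIdeal]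
    have hht : x.asHomogeneousIdeal.toIdeal.height ≤ 1 := by
      rw [hpP']
      exact Ideal.height_le_one_of_isPrincipal_of_mem_minimalPrimes (Ideal.span {g}) P' hP'
    obtain ⟨π, hπ, hpπ⟩ := exists_prime_span_of_height_le_one hx0 hht
    have hπhom : π.IsHomogeneous π.totalDegree := by
      apply isHomogeneous_of_span_singleton_isHomogeneous
      rw [← hpπ]
      exact x.asHomogeneousIdeal.isHomogeneous
    refine ⟨π.totalDegree, π, hπhom, hπ.irreducible, ?_⟩
    rw [← zeroLocus_eq_Ici x, hpπ, ProjectiveSpectrum.zeroLocus_span]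
  · rintro ⟨d, f, hf, hirr, hZf⟩
    have hfx : f ∈ x.asHomogeneousIdeal.toIdeal := by
      have hmem : x ∈ ProjectiveSpectrum.zeroLocus (CohB1.polyGrading n k)
          ({f} : Set (MvPolynomial (Fin (n + 1)) k)) := by
        rw [← hZf]
        exact le_refl x
      rw [ProjectiveSpectrum.mem_zeroLocus, Set.singleton_subset_iff] at hmem
      exact hmem
    have hprime : Prime f := UniqueFactorizationMonoid.irreducible_iff_prime.mp hirr
    have hP₁prime : (Ideal.span {f}).IsPrime :=
      (Ideal.span_singleton_prime hprime.ne_zero).mpr hprime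
    have hP₁hom : (Ideal.span {f}).IsHomogeneous (CohB1.polyGrading n k) :=
      span_singleton_isHomogeneous hf
    have hP₁le : Ideal.span {f} ≤ x.asHomogeneousIdeal.toIdeal :=
      Ideal.span_le.mpr (Set.singleton_subset_iff.mpr hfx)
    have hP₁ne : Ideal.span {f} ≠ irr k n := by
      intro h'
      rw [h'] at hP₁le
      exact not_le_of_gt (point_lt_irr x) hP₁le
    have hy₁ : x ≤ mkPoint (Ideal.span {f}) hP₁prime hP₁hom hP₁ne := by
      have hmem : mkPoint (Ideal.span {f}) hP₁prime hP₁hom hP₁ne ∈
          ProjectiveSpectrum.zeroLocus (CohB1.polyGrading n k)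
            ({f} : Set (MvPolynomial (Fin (n + 1)) k)) := by
        rw [ProjectiveSpectrum.mem_zeroLocus, Set.singleton_subset_iff]
        exact Ideal.mem_span_singleton_self f
      rw [← hZf] at hmem
      exact hmem
    have hxy : x = mkPoint (Ideal.span {f}) hP₁prime hP₁hom hP₁ne :=
      le_antisymm hy₁ ((toIdeal_le_iff _ _).mp hP₁le)
    apply le_antisymm
    · refine le_trans (height_le_ideal_height x) ?_
      rw [hxy, mkPoint_toIdeal]
      refine Ideal.height_le_one_of_isPrincipal_of_mem_minimalPrimes (Ideal.span {f})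
        (Ideal.span {f}) ?_
      rw [Ideal.minimalPrimes_eq_subsingleton_self]
      rfl
    · rw [Order.one_le_iff_ne_zero, Order.height_ne_zero]
      intro hmin
      have hle : x ≤ botPoint k n := hmin (botPoint_le x)
      have hle' : x.asHomogeneousIdeal.toIdeal ≤ ⊥ := (toIdeal_le_iff _ _).mpr hle
      exact hprime.ne_zero ((Ideal.mem_bot).mp (hle' hfx))

end Groth.Agent.S10821
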