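import Groth.Statements.S10822
import Mathlib
import Groth.Agent.H21.ProjInter

set_option autoImplicit false
universe u
open AlgebraicGeometry Topology TopologicalSpace
open Variety

namespace Groth.Agent.S10822

open Groth.Agent.S10915 (irr mem_irr_iff irr_isMaximal le_irr_of_isHomogeneous)
open Groth.Agent.H21.ProjTop Groth.Agent.H21.ProjDim Groth.Agent.H21.ProjInter

/-- Let k be a field, X an irreducible closed subset of projective n-space over k of positive dimension,
and f a homogeneous polynomial in n + 1 variables whose zero set V_+(f) is nonempty and does not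
contain X. Then X meets V_+(f), and every irreducible component C of X ∩ V_+(f) has dim C + 1 = dim
X, i.e. codimension 1 in X (all maximal chains of irreducible closed subsets of X have length dim
X). -/
theorem result (k : Type u) [Field k] (n d : ℕ)
    (X : Set (ProjectiveSpectrum (CohB1.polyGrading n k))) (hXc : IsClosed X) (hXi : IsIrreducible X)
    (hXd : 0 < topologicalKrullDim ↥X)
    (f : MvPolynomial (Fin (n + 1)) k) (hf : f.IsHomogeneous d)
    (hV : (ProjectiveSpectrum.zeroLocus (CohB1.polyGrading n k)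
      ({f} : Set (MvPolynomial (Fin (n + 1)) k))).Nonempty)
    (hX : ¬ X ⊆ ProjectiveSpectrum.zeroLocus (CohB1.polyGrading n k)
      ({f} : Set (MvPolynomial (Fin (n + 1)) k))) :
    (X ∩ ProjectiveSpectrum.zeroLocus (CohB1.polyGrading n k)
        ({f} : Set (MvPolynomial (Fin (n + 1)) k))).Nonempty ∧
      ∀ C ∈ irreducibleComponents ↥(X ∩ ProjectiveSpectrum.zeroLocus (CohB1.polyGrading n k)
          ({f} : Set (MvPolynomial (Fin (n + 1)) k))),
        topologicalKrullDim ↥C + 1 = topologicalKrullDim ↥X := by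
  obtain ⟨x, rfl⟩ := exists_eq_Ici_of_isIrreducible hXc hXi
  haveI hpprime : x.asHomogeneousIdeal.toIdeal.IsPrime := x.isPrime
  obtain ⟨e, he, -, htop⟩ := exists_dim_Ici x
  rw [htop] at hXd ⊢
  have he1 : 1 ≤ e := by
    have h0 : ((0 : ℕ) : WithBot ℕ∞) < (e : WithBot ℕ∞) := by simpa using hXd
    have h0' : 0 < e := by exact_mod_cast h0
    omega
  have hfp : f ∉ x.asHomogeneousIdeal.toIdeal := by
    intro hfp
    apply hX
    intro y hy
    rw [ProjectiveSpectrum.mem_zeroLocus, Set.singleton_subset_iff]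
    exact (toIdeal_le_iff x y).mpr hy hfp
  have hIhom : (x.asHomogeneousIdeal.toIdeal ⊔ Ideal.span {f}).IsHomogeneous
      (CohB1.polyGrading n k) := by
    refine x.asHomogeneousIdeal.isHomogeneous.sup (Ideal.homogeneous_span _ _ ?_)
    rintro _ rfl
    exact ⟨d, hf⟩
  have hW := Ici_inter_zeroLocus x ({f} : Set (MvPolynomial (Fin (n + 1)) k))
  have hfirr : f ∈ irr k n := by
    obtain ⟨z, hz⟩ := hV
    rw [ProjectiveSpectrum.mem_zeroLocus, Set.singleton_subset_iff] at hz
    exact (point_lt_irr z).le hz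
  have hIle : x.asHomogeneousIdeal.toIdeal ⊔ Ideal.span {f} ≤ irr k n := by
    refine sup_le (point_lt_irr x).le (Ideal.span_le.mpr ?_)
    rintro _ rfl
    exact hfirr
  have hIne : x.asHomogeneousIdeal.toIdeal ⊔ Ideal.span {f} ≠ ⊤ := by
    intro h
    rw [h] at hIle
    exact (irr_isMaximal k n).ne_top (top_le_iff.mp hIle)
  have hK : ∀ q ∈ (x.asHomogeneousIdeal.toIdeal ⊔ Ideal.span {f}).minimalPrimes,
      ringKrullDim (MvPolynomial (Fin (n + 1)) k ⧸ q) = (e : WithBot ℕ∞) :=
    fun q hq => dim_of_mem_minimalPrimes_sup_singleton hfp hq e he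
  constructor
  · obtain ⟨⟨q, hq⟩⟩ := Ideal.nonempty_minimalPrimes hIne
    rw [hW]
    exact zeroLocus_nonempty_of_minimalPrime hIhom hq (ne_irr_of_dim (hK q hq) he1)
  · intro C hC
    obtain ⟨y, hy, hdimC⟩ := exists_minimalPrime_of_mem_irreducibleComponents hIhom _ hW C hC
    obtain ⟨e', he', hkd, -⟩ := exists_dim_Ici y
    have h1 := hK _ hy
    rw [he'] at h1
    have h2 : e' + 1 = e := by exact_mod_cast h1
    rw [hdimC, hkd, ← h2]
    push_cast
    rfl

end Groth.Agent.S10822
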