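import Groth.Statements.S10823
import Mathlib
import Groth.Agent.H21.ProjInter

set_option autoImplicit false
universe u
open AlgebraicGeometry Topology TopologicalSpace
open Variety

namespace Groth.Agent.S10823

open Groth.Agent.S10915 (irr mem_irr_iff irr_isMaximal le_irr_of_isHomogeneous)
open Groth.Agent.H21.ProjTop Groth.Agent.H21.ProjDim Groth.Agent.H21.ProjInter

/-- Let k be a field, X an irreducible closed subset of projective n-space over k, and f_1, …, f_r
nonzero homogeneous polynomials of positive degrees in n + 1 variables. Then every irreducible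
component C of X ∩ V_+(f_1, …, f_r) has codimension at most r in X, i.e. dim X ≤ dim C + r, and if
dim X ≥ r the intersection is nonempty. -/
theorem result (k : Type u) [Field k] (n r : ℕ)
    (X : Set (ProjectiveSpectrum (CohB1.polyGrading n k))) (hXc : IsClosed X) (hXi : IsIrreducible X)
    (f : Fin r → MvPolynomial (Fin (n + 1)) k) (d : Fin r → ℕ)
    (hf : ∀ i, (f i).IsHomogeneous (d i)) (hd : ∀ i, 0 < d i) (hf0 : ∀ i, f i ≠ 0) :
    (∀ C ∈ irreducibleComponents ↥(X ∩ ProjectiveSpectrum.zeroLocus (CohB1.polyGrading n k) (Set.range f)),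
        topologicalKrullDim ↥X ≤ topologicalKrullDim ↥C + (r : WithBot ℕ∞)) ∧
      ((r : WithBot ℕ∞) ≤ topologicalKrullDim ↥X →
        (X ∩ ProjectiveSpectrum.zeroLocus (CohB1.polyGrading n k) (Set.range f)).Nonempty) := by
  obtain ⟨x, rfl⟩ := exists_eq_Ici_of_isIrreducible hXc hXi
  haveI hpprime : x.asHomogeneousIdeal.toIdeal.IsPrime := x.isPrime
  obtain ⟨e, he, -, htop⟩ := exists_dim_Ici x
  rw [htop]
  have hIhom : (x.asHomogeneousIdeal.toIdeal ⊔ Ideal.span (Set.range f)).IsHomogeneous
      (CohB1.polyGrading n k) := by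
    refine x.asHomogeneousIdeal.isHomogeneous.sup (Ideal.homogeneous_span _ _ ?_)
    rintro _ ⟨i, rfl⟩
    exact ⟨d i, hf i⟩
  have hW := Ici_inter_zeroLocus x (Set.range f)
  have hIle : x.asHomogeneousIdeal.toIdeal ⊔ Ideal.span (Set.range f) ≤ irr k n := by
    refine sup_le (point_lt_irr x).le (Ideal.span_le.mpr ?_)
    rintro _ ⟨i, rfl⟩
    exact mem_irr_of_isHomogeneous (hf i) (hd i)
  have hIne : x.asHomogeneousIdeal.toIdeal ⊔ Ideal.span (Set.range f) ≠ ⊤ := by
    intro h
    rw [h] at hIle
    exact (irr_isMaximal k n).ne_top (top_le_iff.mp hIle)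
  constructor
  · intro C hC
    obtain ⟨y, hy, hdimC⟩ := exists_minimalPrime_of_mem_irreducibleComponents hIhom _ hW C hC
    obtain ⟨e', he', hkd, -⟩ := exists_dim_Ici y
    have h1 := dim_le_of_mem_minimalPrimes_sup_span f hy
    rw [he, he'] at h1
    have h2 : e + 1 ≤ e' + 1 + r := by exact_mod_cast h1
    rw [hdimC, hkd]
    exact_mod_cast (by omega : e ≤ e' + r)
  · intro hr
    have hr' : r ≤ e := by exact_mod_cast hr
    obtain ⟨⟨q, hq⟩⟩ := Ideal.nonempty_minimalPrimes hIne
    haveI hqprime : q.IsPrime := hq.1.1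
    obtain ⟨dq, hdq, -⟩ := exists_nat_dim k n q hqprime.ne_top
    have h1 := dim_le_of_mem_minimalPrimes_sup_span f hq
    rw [he, hdq] at h1
    have h2 : e + 1 ≤ dq + r := by exact_mod_cast h1
    rw [hW]
    exact zeroLocus_nonempty_of_minimalPrime hIhom hq (ne_irr_of_dim hdq (by omega))

end Groth.Agent.S10823
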