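import Groth.Statements.S10824
import Mathlib
import Groth.Agent.S12915

set_option autoImplicit false
universe u
open Variety

namespace Groth.Agent.S10824

attribute [local instance] MvPolynomial.gradedAlgebra

theorem two_mul_choose_two (t : ℕ) : 2 * Nat.choose (t + 2) 2 = (t + 2) * (t + 1) := by
  induction t with
  | zero => rfl
  | succ t ih =>
    have h : Nat.choose (t + 1 + 2) 2 = Nat.choose (t + 2) 1 + Nat.choose (t + 2) 2 :=
      Nat.choose_succ_succ (t + 2) 1
    rw [h, Nat.choose_one_right, mul_add, ih]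
    ring


/-- Let k be a field, S the polynomial ring in three variables over k with degree-d part S_d, and f, g
nonzero homogeneous polynomials of positive degrees n and m with no common non-unit factor. Then for
every d ≥ n + m the degree-d part of S/(f, g), namely S_d modulo its intersection with the ideal (f,
g), has dimension n·m over k. -/
theorem result (k : Type u) [Field k] (n m d : ℕ)
    (f g : MvPolynomial (Fin 3) k) (hf : f.IsHomogeneous n) (hg : g.IsHomogeneous m)
    (hn : 0 < n) (hm : 0 < m) (hf0 : f ≠ 0) (hg0 : g ≠ 0) (hfg : IsRelPrime f g) (hd : n + m ≤ d) :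
    Module.finrank k
        (↥(MvPolynomial.homogeneousSubmodule (Fin 3) k d) ⧸
          Submodule.comap (MvPolynomial.homogeneousSubmodule (Fin 3) k d).subtype
            ((Ideal.span ({f, g} : Set (MvPolynomial (Fin 3) k))).restrictScalars k)) = n * m := by
  classical
  obtain ⟨e, rfl⟩ := Nat.exists_eq_add_of_le hd
  obtain ⟨Sd, hSd⟩ : ∃ S, S = MvPolynomial.homogeneousSubmodule (Fin 3) k (n + m + e) := ⟨_, rfl⟩
  obtain ⟨Sa, hSa⟩ : ∃ S, S = MvPolynomial.homogeneousSubmodule (Fin 3) k (m + e) := ⟨_, rfl⟩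
  obtain ⟨Sb, hSb⟩ : ∃ S, S = MvPolynomial.homogeneousSubmodule (Fin 3) k (n + e) := ⟨_, rfl⟩
  obtain ⟨Sc, hSc⟩ : ∃ S, S = MvPolynomial.homogeneousSubmodule (Fin 3) k e := ⟨_, rfl⟩
  rw [← hSd]
  obtain ⟨J, hJ⟩ : ∃ J : Submodule k (MvPolynomial (Fin 3) k),
      J = (Ideal.span ({f, g} : Set (MvPolynomial (Fin 3) k))).restrictScalars k := ⟨_, rfl⟩
  rw [← hJ]
  have hJmem : ∀ q : MvPolynomial (Fin 3) k, q ∈ J ↔ ∃ a b, a * f + b * g = q := by
    intro q
    rw [hJ, Submodule.restrictScalars_mem, Ideal.mem_span_pair]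
  haveI : Module.Finite k Sd := by
    rw [hSd]
    exact Module.Finite.iff_fg.mpr (MvPolynomial.homogeneousSubmodule_fg (Fin 3) k _)
  haveI : Module.Finite k Sa := by
    rw [hSa]
    exact Module.Finite.iff_fg.mpr (MvPolynomial.homogeneousSubmodule_fg (Fin 3) k _)
  haveI : Module.Finite k Sb := by
    rw [hSb]
    exact Module.Finite.iff_fg.mpr (MvPolynomial.homogeneousSubmodule_fg (Fin 3) k _)
  haveI : Module.Finite k Sc := by
    rw [hSc]
    exact Module.Finite.iff_fg.mpr (MvPolynomial.homogeneousSubmodule_fg (Fin 3) k _)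
  have hfSd : Module.finrank k Sd = Nat.choose (n + m + e + 2) 2 := by
    rw [hSd]; exact Groth.Agent.S12915.finrank_homog' k 2 (n + m + e)
  have hfSa : Module.finrank k Sa = Nat.choose (m + e + 2) 2 := by
    rw [hSa]; exact Groth.Agent.S12915.finrank_homog' k 2 (m + e)
  have hfSb : Module.finrank k Sb = Nat.choose (n + e + 2) 2 := by
    rw [hSb]; exact Groth.Agent.S12915.finrank_homog' k 2 (n + e)
  have hfSc : Module.finrank k Sc = Nat.choose (e + 2) 2 := by
    rw [hSc]; exact Groth.Agent.S12915.finrank_homog' k 2 e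
  -- membership facts
  have hfa : ∀ a : MvPolynomial (Fin 3) k, a ∈ Sa → f * a ∈ Sd := by
    intro a ha
    rw [hSa] at ha
    have h := hf.mul ha
    rw [← Nat.add_assoc] at h
    rw [hSd]
    exact h
  have hgb : ∀ b : MvPolynomial (Fin 3) k, b ∈ Sb → g * b ∈ Sd := by
    intro b hb
    rw [hSb] at hb
    have h := hg.mul hb
    have e1 : m + (n + e) = n + m + e := by omega
    rw [e1] at h
    rw [hSd]
    exact h
  have hgc : ∀ c : MvPolynomial (Fin 3) k, c ∈ Sc → g * c ∈ Sa := by
    intro c hc
    rw [hSc] at hc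
    have h := hg.mul hc
    rw [hSa]
    exact h
  have hfc : ∀ c : MvPolynomial (Fin 3) k, c ∈ Sc → f * c ∈ Sb := by
    intro c hc
    rw [hSc] at hc
    have h := hf.mul hc
    rw [hSb]
    exact h
  -- the map φ
  obtain ⟨φ, hφ⟩ : ∃ φ : (Sa × Sb) →ₗ[k] Sd, ∀ p : Sa × Sb,
      ((φ p : Sd) : MvPolynomial (Fin 3) k) =
        f * (p.1 : MvPolynomial (Fin 3) k) + g * (p.2 : MvPolynomial (Fin 3) k) := by
    refine ⟨LinearMap.codRestrict Sd
      (((LinearMap.mulLeft k f).comp Sa.subtype).coprod ((LinearMap.mulLeft k g).comp Sb.subtype))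
      ?_, fun p => ?_⟩
    · intro p
      rw [LinearMap.coprod_apply]
      exact Sd.add_mem (hfa _ p.1.2) (hgb _ p.2.2)
    · rw [LinearMap.codRestrict_apply, LinearMap.coprod_apply]
      rfl
  -- the map κ
  obtain ⟨κ, hκ1, hκ2⟩ : ∃ κ : Sc →ₗ[k] (Sa × Sb),
      (∀ c : Sc, (((κ c).1 : Sa) : MvPolynomial (Fin 3) k) = g * (c : MvPolynomial (Fin 3) k)) ∧
      (∀ c : Sc, (((κ c).2 : Sb) : MvPolynomial (Fin 3) k) = -(f * (c : MvPolynomial (Fin 3) k))) := by
    refine ⟨LinearMap.prod
      (LinearMap.codRestrict Sa ((LinearMap.mulLeft k g).comp Sc.subtype) (fun c => hgc _ c.2))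
      (LinearMap.codRestrict Sb (-((LinearMap.mulLeft k f).comp Sc.subtype)) (fun c => ?_)),
      fun c => rfl, fun c => rfl⟩
    show -(f * (c : MvPolynomial (Fin 3) k)) ∈ Sb
    exact Sb.neg_mem (hfc _ c.2)
  have hκinj : Function.Injective κ := by
    intro c c' h
    have h5 : (((κ c).1 : Sa) : MvPolynomial (Fin 3) k) = (((κ c').1 : Sa) : MvPolynomial (Fin 3) k) := by
      rw [h]
    rw [hκ1, hκ1] at h5
    exact Subtype.ext (mul_left_cancel₀ hg0 h5)
  have hfm : f ∈ MvPolynomial.homogeneousSubmodule (Fin 3) k n := hf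
  have hgm : g ∈ MvPolynomial.homogeneousSubmodule (Fin 3) k m := hg
  have hker : LinearMap.ker φ = LinearMap.range κ := by
    ext p
    rw [LinearMap.mem_ker, LinearMap.mem_range]
    constructor
    · intro hp
      have h0 : f * (p.1 : MvPolynomial (Fin 3) k) + g * (p.2 : MvPolynomial (Fin 3) k) = 0 := by
        rw [← hφ, hp]
        rfl
      have hdvd : g ∣ f * (p.1 : MvPolynomial (Fin 3) k) := by
        refine ⟨-(p.2 : MvPolynomial (Fin 3) k), ?_⟩
        linear_combination h0
      obtain ⟨c0, hc0⟩ := hfg.symm.dvd_of_dvd_mul_left hdvd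
      have key := DirectSum.coe_decompose_mul_of_left_mem_of_le
        (MvPolynomial.homogeneousSubmodule (Fin 3) k) (b := c0) hgm (Nat.le_add_right m e)
      have hp1m : (p.1 : MvPolynomial (Fin 3) k) ∈
          MvPolynomial.homogeneousSubmodule (Fin 3) k (m + e) := by
        rw [← hSa]
        exact p.1.2
      rw [← hc0, DirectSum.decompose_of_mem_same _ hp1m, Nat.add_sub_cancel_left] at key
      have hcm : ((DirectSum.decompose (MvPolynomial.homogeneousSubmodule (Fin 3) k) c0 e :
          MvPolynomial.homogeneousSubmodule (Fin 3) k e) : MvPolynomial (Fin 3) k) ∈ Sc := by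
        rw [hSc]
        exact SetLike.coe_mem _
      obtain ⟨c, hc⟩ : ∃ c : MvPolynomial (Fin 3) k, c =
          ((DirectSum.decompose (MvPolynomial.homogeneousSubmodule (Fin 3) k) c0 e :
          MvPolynomial.homogeneousSubmodule (Fin 3) k e) : MvPolynomial (Fin 3) k) := ⟨_, rfl⟩
      rw [← hc] at key hcm
      have hp2 : (p.2 : MvPolynomial (Fin 3) k) = -(f * c) := by
        have h1 : g * (f * c + (p.2 : MvPolynomial (Fin 3) k)) = 0 := by
          rw [key] at h0
          linear_combination h0
        rcases mul_eq_zero.mp h1 with h2 | h2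
        · exact (hg0 h2).elim
        · linear_combination h2
      refine ⟨⟨c, hcm⟩, ?_⟩
      apply Prod.ext
      · apply Subtype.ext
        rw [hκ1]
        exact key.symm
      · apply Subtype.ext
        rw [hκ2]
        exact hp2.symm
    · rintro ⟨c, rfl⟩
      apply Subtype.ext
      rw [hφ, hκ1, hκ2]
      show f * (g * (c : MvPolynomial (Fin 3) k)) + g * -(f * (c : MvPolynomial (Fin 3) k)) = 0
      ring
  have hrange : LinearMap.range φ = Submodule.comap Sd.subtype J := by
    ext q
    rw [LinearMap.mem_range, Submodule.mem_comap, hJmem]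
    constructor
    · rintro ⟨p, rfl⟩
      refine ⟨(p.1 : MvPolynomial (Fin 3) k), (p.2 : MvPolynomial (Fin 3) k), ?_⟩
      show _ = ((φ p : Sd) : MvPolynomial (Fin 3) k)
      rw [hφ]
      ring
    · rintro ⟨a, b, hab⟩
      have hq : (q : MvPolynomial (Fin 3) k) ∈
          MvPolynomial.homogeneousSubmodule (Fin 3) k (n + m + e) := by
        rw [← hSd]
        exact q.2
      have k1 := DirectSum.coe_decompose_mul_of_right_mem_of_le
        (MvPolynomial.homogeneousSubmodule (Fin 3) k) (a := a) hfm
        (show n ≤ n + m + e by omega)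
      have k2 := DirectSum.coe_decompose_mul_of_right_mem_of_le
        (MvPolynomial.homogeneousSubmodule (Fin 3) k) (a := b) hgm
        (show m ≤ n + m + e by omega)
      have e1 : n + m + e - n = m + e := by omega
      have e2 : n + m + e - m = n + e := by omega
      rw [e1] at k1
      rw [e2] at k2
      have k3 : ((DirectSum.decompose (MvPolynomial.homogeneousSubmodule (Fin 3) k)
          (a * f + b * g) (n + m + e) :
          MvPolynomial.homogeneousSubmodule (Fin 3) k (n + m + e)) : MvPolynomial (Fin 3) k)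
          = (q : MvPolynomial (Fin 3) k) := by
        rw [hab]
        exact DirectSum.decompose_of_mem_same _ hq
      rw [DirectSum.decompose_add, DirectSum.add_apply, Submodule.coe_add, k1, k2] at k3
      have ha' : ((DirectSum.decompose (MvPolynomial.homogeneousSubmodule (Fin 3) k) a (m + e) :
          MvPolynomial.homogeneousSubmodule (Fin 3) k (m + e)) : MvPolynomial (Fin 3) k) ∈ Sa := by
        rw [hSa]
        exact SetLike.coe_mem _
      have hb' : ((DirectSum.decompose (MvPolynomial.homogeneousSubmodule (Fin 3) k) b (n + e) :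
          MvPolynomial.homogeneousSubmodule (Fin 3) k (n + e)) : MvPolynomial (Fin 3) k) ∈ Sb := by
        rw [hSb]
        exact SetLike.coe_mem _
      refine ⟨(⟨_, ha'⟩, ⟨_, hb'⟩), ?_⟩
      apply Subtype.ext
      rw [hφ, ← k3]
      ring
  have hq := Submodule.finrank_quotient_add_finrank (Submodule.comap Sd.subtype J)
  rw [← hrange] at hq
  have hrn := LinearMap.finrank_range_add_finrank_ker φ
  rw [hker, LinearMap.finrank_range_of_inj hκinj, Module.finrank_prod, hfSa, hfSb, hfSc] at hrn
  rw [hfSd] at hq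
  have hD2 := two_mul_choose_two (n + m + e)
  have hA2 := two_mul_choose_two (m + e)
  have hB2 := two_mul_choose_two (n + e)
  have hC2 := two_mul_choose_two e
  have hid : (n + m + e + 2) * (n + m + e + 1) + (e + 2) * (e + 1)
      = (m + e + 2) * (m + e + 1) + (n + e + 2) * (n + e + 1) + 2 * (n * m) := by ring
  rw [← hrange]
  omega

end Groth.Agent.S10824
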