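import Groth.Statements.S10827
import Mathlib
import Groth.Agent.S10824

set_option autoImplicit false
universe u
open Variety

namespace Groth.Agent.S10827

open MvPolynomial

/-- the substitution `T ↦ 1` -/
noncomputable def v1 (k : Type u) [Field k] : Fin 3 → MvPolynomial (Fin 2) k :=
  Fin.cons (X 0) (Fin.cons (X 1) (Fin.cons 1 Fin.elim0))

/-- the substitution `T ↦ 0` -/
noncomputable def v0 (k : Type u) [Field k] : Fin 3 → MvPolynomial (Fin 2) k :=
  Fin.cons (X 0) (Fin.cons (X 1) (Fin.cons 0 Fin.elim0))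

section
variable {k : Type u} [Field k]

theorem v1_0 : v1 k 0 = X 0 := rfl
theorem v1_1 : v1 k 1 = X 1 := rfl
theorem v1_2 : v1 k 2 = 1 := rfl
theorem v0_2 : v0 k 2 = 0 := rfl

theorem v1_castSucc (i : Fin 2) : v1 k (Fin.castSucc i) = X i := by
  fin_cases i <;> rfl

theorem v0_castSucc (i : Fin 2) : v0 k (Fin.castSucc i) = X i := by
  fin_cases i <;> rfl

theorem rho_iota (q : MvPolynomial (Fin 2) k) :
    aeval (v0 k) (rename Fin.castSucc q) = q := by
  rw [aeval_rename]
  have h : (v0 k) ∘ Fin.castSucc = (X : Fin 2 → MvPolynomial (Fin 2) k) := funext v0_castSucc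
  rw [h, aeval_X_left_apply]

theorem v0_homog (i : Fin 3) : (v0 k i).IsHomogeneous 1 := by
  fin_cases i
  · exact isHomogeneous_X k (0 : Fin 2)
  · exact isHomogeneous_X k (1 : Fin 2)
  · exact isHomogeneous_zero (Fin 2) k 1

theorem v0_cases (i : Fin 3) :
    (rename Fin.castSucc (v0 k i) = (X i : MvPolynomial (Fin 3) k)) ∨ (i = 2 ∧ v0 k i = 0) := by
  fin_cases i
  · left
    show rename Fin.castSucc (X (0 : Fin 2) : MvPolynomial (Fin 2) k) =
      (X 0 : MvPolynomial (Fin 3) k)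
    rw [rename_X]
    rfl
  · left
    show rename Fin.castSucc (X (1 : Fin 2) : MvPolynomial (Fin 2) k) =
      (X 1 : MvPolynomial (Fin 3) k)
    rw [rename_X]
    rfl
  · right
    exact ⟨rfl, rfl⟩

theorem T_dvd_sub (P : MvPolynomial (Fin 3) k) :
    (X 2 : MvPolynomial (Fin 3) k) ∣ P - rename Fin.castSucc (aeval (v0 k) P) := by
  refine MvPolynomial.induction_on (motive := fun P =>
    (X 2 : MvPolynomial (Fin 3) k) ∣ P - rename Fin.castSucc (aeval (v0 k) P)) P ?_ ?_ ?_
  · intro a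
    show (X 2 : MvPolynomial (Fin 3) k) ∣ C a - rename Fin.castSucc (aeval (v0 k) (C a))
    rw [aeval_C, algebraMap_eq, rename_C, sub_self]
    exact dvd_zero _
  · intro p q hp hq
    show (X 2 : MvPolynomial (Fin 3) k) ∣
      (p + q) - rename Fin.castSucc (aeval (v0 k) (p + q))
    have hp' : (X 2 : MvPolynomial (Fin 3) k) ∣ p - rename Fin.castSucc (aeval (v0 k) p) := hp
    have hq' : (X 2 : MvPolynomial (Fin 3) k) ∣ q - rename Fin.castSucc (aeval (v0 k) q) := hq
    have e : p + q - rename Fin.castSucc (aeval (v0 k) (p + q)) =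
        (p - rename Fin.castSucc (aeval (v0 k) p)) +
          (q - rename Fin.castSucc (aeval (v0 k) q)) := by
      rw [map_add, map_add]
      ring
    rw [e]
    exact dvd_add hp' hq'
  · intro p i hp
    show (X 2 : MvPolynomial (Fin 3) k) ∣
      p * X i - rename Fin.castSucc (aeval (v0 k) (p * X i))
    have hp' : (X 2 : MvPolynomial (Fin 3) k) ∣ p - rename Fin.castSucc (aeval (v0 k) p) := hp
    rw [map_mul, map_mul, aeval_X]
    rcases v0_cases (k := k) i with h | ⟨h2, h0⟩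
    · rw [h]
      have e : p * X i - rename Fin.castSucc (aeval (v0 k) p) * X i =
          (p - rename Fin.castSucc (aeval (v0 k) p)) * X i := by ring
      rw [e]
      exact Dvd.dvd.mul_right hp' _
    · rw [h0, map_zero, mul_zero, sub_zero, h2]
      exact Dvd.intro_left p rfl

theorem T_regular (f g : MvPolynomial (Fin 3) k) (m : ℕ) (hg : g.IsHomogeneous m) (hm : 0 < m)
    (hT : IsRelPrime (aeval (v0 k) f) (aeval (v0 k) g)) (P : MvPolynomial (Fin 3) k)
    (hP : X 2 * P ∈ Ideal.span ({f, g} : Set (MvPolynomial (Fin 3) k))) :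
    P ∈ Ideal.span ({f, g} : Set (MvPolynomial (Fin 3) k)) := by
  obtain ⟨f₀, hf₀⟩ : ∃ f₀, f₀ = aeval (v0 k) f := ⟨_, rfl⟩
  obtain ⟨g₀, hg₀⟩ : ∃ g₀, g₀ = aeval (v0 k) g := ⟨_, rfl⟩
  rw [← hf₀, ← hg₀] at hT
  have hf₀ne : f₀ ≠ 0 := by
    intro h
    rw [h, isRelPrime_zero_left] at hT
    have hg₀h : g₀.IsHomogeneous (1 * m) := by
      rw [hg₀]
      exact hg.aeval (v0 k) v0_homog
    have hc : coeff 0 g₀ = 0 := by
      apply hg₀h.coeff_eq_zero
      rw [map_zero]
      omega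
    have hu : IsUnit (constantCoeff g₀) := hT.map constantCoeff
    rw [constantCoeff_eq, hc] at hu
    exact not_isUnit_zero hu
  obtain ⟨A, B, hAB⟩ := Ideal.mem_span_pair.mp hP
  have h0 : aeval (v0 k) A * f₀ + aeval (v0 k) B * g₀ = 0 := by
    have h := congrArg (aeval (v0 k)) hAB
    rw [map_add, map_mul, map_mul, map_mul, aeval_X, v0_2, zero_mul, ← hf₀, ← hg₀] at h
    exact h
  have hdvd : f₀ ∣ aeval (v0 k) B * g₀ := ⟨-(aeval (v0 k) A), by linear_combination h0⟩
  obtain ⟨C₀, hC⟩ := hT.dvd_of_dvd_mul_right hdvd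
  have hA : aeval (v0 k) A + C₀ * g₀ = 0 := by
    have h1 : f₀ * (aeval (v0 k) A + C₀ * g₀) = 0 := by
      rw [hC] at h0
      linear_combination h0
    rcases mul_eq_zero.mp h1 with h | h
    · exact (hf₀ne h).elim
    · exact h
  obtain ⟨ιC, hιC⟩ : ∃ ιC : MvPolynomial (Fin 3) k, ιC = rename Fin.castSucc C₀ := ⟨_, rfl⟩
  have hριC : aeval (v0 k) ιC = C₀ := by
    rw [hιC]
    exact rho_iota C₀
  obtain ⟨A'', hA''⟩ : (X 2 : MvPolynomial (Fin 3) k) ∣ A + ιC * g := by
    have h := T_dvd_sub (A + ιC * g)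
    rw [map_add, map_mul, hριC, ← hg₀, hA, map_zero, sub_zero] at h
    exact h
  obtain ⟨B'', hB''⟩ : (X 2 : MvPolynomial (Fin 3) k) ∣ B - ιC * f := by
    have h := T_dvd_sub (B - ιC * f)
    rw [map_sub, map_mul, hριC, ← hf₀, hC] at h
    have e : f₀ * C₀ - C₀ * f₀ = 0 := by ring
    rw [e, map_zero, sub_zero] at h
    exact h
  have hfin : X 2 * P = X 2 * (A'' * f + B'' * g) := by
    rw [← hAB]
    have e1 : A * f + B * g = (A + ιC * g) * f + (B - ιC * f) * g := by ring
    rw [e1, hA'', hB'']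
    ring
  have hP' : P = A'' * f + B'' * g := mul_left_cancel₀ (X_ne_zero 2) hfin
  rw [hP']
  exact Ideal.mem_span_pair.mpr ⟨A'', B'', rfl⟩

theorem T_pow_regular (I : Ideal (MvPolynomial (Fin 3) k))
    (hreg : ∀ P : MvPolynomial (Fin 3) k, X 2 * P ∈ I → P ∈ I) (r : ℕ)
    (P : MvPolynomial (Fin 3) k) (h : X 2 ^ r * P ∈ I) : P ∈ I := by
  induction r with
  | zero =>
    rw [pow_zero, one_mul] at h
    exact h
  | succ r ih =>
    apply ih
    apply hreg
    have e : X 2 * (X 2 ^ r * P) = X 2 ^ (r + 1) * P := by ring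
    rw [e]
    exact h

theorem lemmaB (h : MvPolynomial (Fin 2) k) : ∃ N₀ : ℕ, ∀ N, N₀ ≤ N →
    ∃ H : MvPolynomial (Fin 3) k, H.IsHomogeneous N ∧ aeval (v1 k) H = h := by
  refine MvPolynomial.induction_on (motive := fun h => ∃ N₀ : ℕ, ∀ N, N₀ ≤ N →
    ∃ H : MvPolynomial (Fin 3) k, H.IsHomogeneous N ∧ aeval (v1 k) H = h) h ?_ ?_ ?_
  · intro a
    refine ⟨0, fun N _ => ⟨C a * X 2 ^ N, ?_, ?_⟩⟩
    · have h1 := (isHomogeneous_C (Fin 3) a).mul (isHomogeneous_X_pow (R := k) (2 : Fin 3) N)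
      rw [zero_add] at h1
      exact h1
    · rw [map_mul, map_pow, aeval_X, v1_2, one_pow, mul_one, aeval_C, algebraMap_eq]
  · intro p q hp hq
    obtain ⟨Np, hNp⟩ := hp
    obtain ⟨Nq, hNq⟩ := hq
    refine ⟨max Np Nq, fun N hN => ?_⟩
    obtain ⟨Hp, hHp, hφp⟩ := hNp N (le_trans (le_max_left _ _) hN)
    obtain ⟨Hq, hHq, hφq⟩ := hNq N (le_trans (le_max_right _ _) hN)
    exact ⟨Hp + Hq, hHp.add hHq, by rw [map_add, hφp, hφq]⟩
  · intro p i hp
    obtain ⟨Np, hNp⟩ := hp
    refine ⟨Np + 1, fun N hN => ?_⟩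
    obtain ⟨Hp, hHp, hφp⟩ := hNp (N - 1) (by omega)
    refine ⟨Hp * X (Fin.castSucc i), ?_, ?_⟩
    · have h1 := hHp.mul (isHomogeneous_X k (Fin.castSucc i))
      have e1 : N - 1 + 1 = N := by omega
      rw [e1] at h1
      exact h1
    · rw [map_mul, hφp, aeval_X, v1_castSucc]

/-- truncation of exponent vectors -/
noncomputable def tr (d : Fin 3 →₀ ℕ) : Fin 2 →₀ ℕ :=
  Finsupp.single 0 (d 0) + Finsupp.single 1 (d 1)

theorem tr_zero (d : Fin 3 →₀ ℕ) : tr d 0 = d 0 := by
  simp [tr]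

theorem tr_one (d : Fin 3 →₀ ℕ) : tr d 1 = d 1 := by
  simp [tr]

theorem phi_monomial (d : Fin 3 →₀ ℕ) (c : k) :
    aeval (v1 k) (monomial d c) = monomial (tr d) c := by
  rw [aeval_monomial, Finsupp.prod_fintype _ _ (fun i => pow_zero _)]
  simp only [Fin.prod_univ_three, v1_0, v1_1, v1_2, one_pow, mul_one, algebraMap_eq]
  rw [tr, monomial_add_single, ← C_mul_X_pow_eq_monomial]
  ring

theorem lemmaC (M : ℕ) (P : MvPolynomial (Fin 3) k) (hP : P.IsHomogeneous M)
    (h0 : aeval (v1 k) P = 0) : P = 0 := by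
  classical
  by_contra hne
  have hnon : P.support.Nonempty :=
    Finset.nonempty_of_ne_empty (fun h => hne (support_eq_empty.mp h))
  obtain ⟨d₀, hd₀⟩ := hnon
  have hsum : aeval (v1 k) P = ∑ d ∈ P.support, monomial (tr d) (coeff d P) := by
    conv_lhs => rw [← support_sum_monomial_coeff P]
    rw [map_sum]
    exact Finset.sum_congr rfl (fun d _ => phi_monomial d _)
  have hdeg : ∀ d ∈ P.support, d 0 + d 1 + d 2 = M := by
    intro d hd
    have h1 : Finsupp.degree d = M := by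
      by_contra hdeg
      exact (mem_support_iff.mp hd) (hP.coeff_eq_zero hdeg)
    rw [Finsupp.degree_eq_sum, Fin.sum_univ_three] at h1
    exact h1
  have hcoef : coeff (tr d₀) (aeval (v1 k) P) = coeff d₀ P := by
    rw [hsum, coeff_sum, Finset.sum_eq_single d₀]
    · rw [coeff_monomial, if_pos rfl]
    · intro d hd hdne
      rw [coeff_monomial, if_neg]
      intro htr
      apply hdne
      have e0 : d 0 = d₀ 0 := by
        have h1 := DFunLike.congr_fun htr 0
        rw [tr_zero, tr_zero] at h1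
        exact h1
      have e1 : d 1 = d₀ 1 := by
        have h1 := DFunLike.congr_fun htr 1
        rw [tr_one, tr_one] at h1
        exact h1
      have e2 : d 2 = d₀ 2 := by
        have h1 := hdeg d hd
        have h2 := hdeg d₀ hd₀
        omega
      ext i
      fin_cases i
      · exact e0
      · exact e1
      · exact e2
    · intro hnot
      exact (hnot hd₀).elim
  rw [h0, coeff_zero] at hcoef
  exact (mem_support_iff.mp hd₀) hcoef.symm

theorem lemmaK (f g : MvPolynomial (Fin 3) k) (n m : ℕ) (hf : f.IsHomogeneous n)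
    (hg : g.IsHomogeneous m) (N : ℕ) (H : MvPolynomial (Fin 3) k) (hH : H.IsHomogeneous N)
    (hφ : aeval (v1 k) H ∈ Ideal.span
      ({aeval (v1 k) f, aeval (v1 k) g} : Set (MvPolynomial (Fin 2) k))) :
    ∃ r : ℕ, X 2 ^ r * H ∈ Ideal.span ({f, g} : Set (MvPolynomial (Fin 3) k)) := by
  obtain ⟨b, c, hbc⟩ := Ideal.mem_span_pair.mp hφ
  obtain ⟨Nb, hNb⟩ := lemmaB b
  obtain ⟨Nc, hNc⟩ := lemmaB c
  obtain ⟨M, hM⟩ : ∃ M, M = N + Nb + Nc + n + m := ⟨_, rfl⟩
  obtain ⟨B', hB', hφB⟩ := hNb (M - n) (by omega)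
  obtain ⟨C', hC', hφC⟩ := hNc (M - m) (by omega)
  refine ⟨M - N, ?_⟩
  have hP : (X 2 ^ (M - N) * H - B' * f - C' * g).IsHomogeneous M := by
    have h1 : (X 2 ^ (M - N) * H).IsHomogeneous M := by
      have h4 := (isHomogeneous_X_pow (R := k) (2 : Fin 3) (M - N)).mul hH
      have e : M - N + N = M := by omega
      rw [e] at h4
      exact h4
    have h2 : (B' * f).IsHomogeneous M := by
      have h4 := hB'.mul hf
      have e : M - n + n = M := by omega
      rw [e] at h4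
      exact h4
    have h3 : (C' * g).IsHomogeneous M := by
      have h4 := hC'.mul hg
      have e : M - m + m = M := by omega
      rw [e] at h4
      exact h4
    exact (h1.sub h2).sub h3
  have hφP : aeval (v1 k) (X 2 ^ (M - N) * H - B' * f - C' * g) = 0 := by
    rw [map_sub, map_sub, map_mul, map_mul, map_mul, map_pow, aeval_X, v1_2, one_pow, one_mul,
      hφB, hφC, ← hbc]
    ring
  have hzero := lemmaC M _ hP hφP
  have e : X 2 ^ (M - N) * H = B' * f + C' * g := by linear_combination hzero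
  rw [e]
  exact Ideal.mem_span_pair.mpr ⟨B', C', rfl⟩

theorem stepE (f g : MvPolynomial (Fin 3) k) (c : ℕ)
    (hTreg : ∀ P : MvPolynomial (Fin 3) k,
      X 2 * P ∈ Ideal.span ({f, g} : Set (MvPolynomial (Fin 3) k)) →
      P ∈ Ideal.span ({f, g} : Set (MvPolynomial (Fin 3) k)))
    (e : ℕ)
    (hDe : Module.finrank k (↥(homogeneousSubmodule (Fin 3) k e) ⧸
      Submodule.comap (homogeneousSubmodule (Fin 3) k e).subtype
        ((Ideal.span ({f, g} : Set (MvPolynomial (Fin 3) k))).restrictScalars k)) = c)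
    (hDe1 : Module.finrank k (↥(homogeneousSubmodule (Fin 3) k (e + 1)) ⧸
      Submodule.comap (homogeneousSubmodule (Fin 3) k (e + 1)).subtype
        ((Ideal.span ({f, g} : Set (MvPolynomial (Fin 3) k))).restrictScalars k)) = c)
    (H : MvPolynomial (Fin 3) k) (hH : H.IsHomogeneous (e + 1)) :
    ∃ H' : MvPolynomial (Fin 3) k, H'.IsHomogeneous e ∧
      H - X 2 * H' ∈ Ideal.span ({f, g} : Set (MvPolynomial (Fin 3) k)) := by
  classical
  obtain ⟨J, hJ⟩ : ∃ J : Submodule k (MvPolynomial (Fin 3) k),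
      J = (Ideal.span ({f, g} : Set (MvPolynomial (Fin 3) k))).restrictScalars k := ⟨_, rfl⟩
  have hJmem : ∀ q : MvPolynomial (Fin 3) k,
      q ∈ J ↔ q ∈ Ideal.span ({f, g} : Set (MvPolynomial (Fin 3) k)) := by
    intro q
    rw [hJ]
    exact Submodule.restrictScalars_mem k _ q
  obtain ⟨Se, hSe⟩ : ∃ Se, Se = homogeneousSubmodule (Fin 3) k e := ⟨_, rfl⟩
  obtain ⟨Se1, hSe1⟩ : ∃ Se1, Se1 = homogeneousSubmodule (Fin 3) k (e + 1) := ⟨_, rfl⟩
  rw [← hJ, ← hSe] at hDe
  rw [← hJ, ← hSe1] at hDe1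
  have : Module.Finite k Se := by
    rw [hSe]
    exact Module.Finite.iff_fg.mpr (homogeneousSubmodule_fg (Fin 3) k _)
  have : Module.Finite k Se1 := by
    rw [hSe1]
    exact Module.Finite.iff_fg.mpr (homogeneousSubmodule_fg (Fin 3) k _)
  have hmulmem : ∀ x : Se, (LinearMap.mulLeft k (X 2 : MvPolynomial (Fin 3) k)).comp Se.subtype x ∈ Se1 := by
    intro x
    have hx : (x : MvPolynomial (Fin 3) k).IsHomogeneous e := by
      show (x : MvPolynomial (Fin 3) k) ∈ homogeneousSubmodule (Fin 3) k e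
      rw [← hSe]
      exact x.2
    have h2 := (isHomogeneous_X k (2 : Fin 3)).mul hx
    rw [add_comm] at h2
    rw [hSe1]
    exact h2
  obtain ⟨μ, hμ⟩ : ∃ μ : Se →ₗ[k] Se1, ∀ x : Se,
      ((μ x : Se1) : MvPolynomial (Fin 3) k) = X 2 * (x : MvPolynomial (Fin 3) k) :=
    ⟨LinearMap.codRestrict Se1 ((LinearMap.mulLeft k (X 2 : MvPolynomial (Fin 3) k)).comp Se.subtype)
      hmulmem, fun x => rfl⟩
  obtain ⟨Je, hJe⟩ : ∃ Je : Submodule k Se, Je = Submodule.comap Se.subtype J := ⟨_, rfl⟩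
  obtain ⟨Je1, hJe1⟩ : ∃ Je1 : Submodule k Se1, Je1 = Submodule.comap Se1.subtype J := ⟨_, rfl⟩
  rw [← hJe] at hDe
  rw [← hJe1] at hDe1
  obtain ⟨lam, hlam⟩ : ∃ lam : Se →ₗ[k] (Se1 ⧸ Je1), lam = (Submodule.mkQ Je1).comp μ := ⟨_, rfl⟩
  have hker : LinearMap.ker lam = Je := by
    ext x
    have h1 : lam x = 0 ↔ (μ x) ∈ Je1 := by
      rw [hlam, LinearMap.comp_apply, Submodule.mkQ_apply]
      exact Submodule.Quotient.mk_eq_zero Je1
    have h2 : (μ x) ∈ Je1 ↔
        X 2 * (x : MvPolynomial (Fin 3) k) ∈ Ideal.span ({f, g} : Set (MvPolynomial (Fin 3) k)) := by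
      rw [hJe1, Submodule.mem_comap, Submodule.subtype_apply, hμ, hJmem]
    have h3 : x ∈ Je ↔
        (x : MvPolynomial (Fin 3) k) ∈ Ideal.span ({f, g} : Set (MvPolynomial (Fin 3) k)) := by
      rw [hJe, Submodule.mem_comap, Submodule.subtype_apply, hJmem]
    rw [LinearMap.mem_ker, h1, h2, h3]
    exact ⟨hTreg _, fun h => Ideal.mul_mem_left _ _ h⟩
  have hq1 := Submodule.finrank_quotient_add_finrank Je
  have hrn := LinearMap.finrank_range_add_finrank_ker lam
  rw [hker] at hrn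
  have hrange : LinearMap.range lam = ⊤ := by
    apply Submodule.eq_top_of_finrank_eq
    omega
  have hHmem : H ∈ Se1 := by
    rw [hSe1]
    exact hH
  have hin : Submodule.mkQ Je1 ⟨H, hHmem⟩ ∈ LinearMap.range lam := by
    rw [hrange]
    exact Submodule.mem_top
  obtain ⟨x, hx⟩ := hin
  refine ⟨(x : MvPolynomial (Fin 3) k), ?_, ?_⟩
  · show (x : MvPolynomial (Fin 3) k) ∈ homogeneousSubmodule (Fin 3) k e
    rw [← hSe]
    exact x.2
  · have h4 : μ x - ⟨H, hHmem⟩ ∈ Je1 := by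
      rw [← Submodule.Quotient.eq]
      rw [hlam, LinearMap.comp_apply, Submodule.mkQ_apply, Submodule.mkQ_apply] at hx
      exact hx
    rw [hJe1, Submodule.mem_comap, hJmem] at h4
    have h5 : Se1.subtype (μ x - ⟨H, hHmem⟩) = X 2 * (x : MvPolynomial (Fin 3) k) - H := by
      rw [map_sub, Submodule.subtype_apply, Submodule.subtype_apply, hμ]
    rw [h5] at h4
    have e2 : H - X 2 * (x : MvPolynomial (Fin 3) k) =
        -(X 2 * (x : MvPolynomial (Fin 3) k) - H) := by ring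
    rw [e2]
    exact (Ideal.neg_mem_iff _).mpr h4

end


/-- Let k be a field and f, g nonzero homogeneous polynomials of positive degrees n and m in three
variables X, Y, T without common non-unit factor, and assume that f(X, Y, 0) and g(X, Y, 0) are also
without common non-unit factor in k[X, Y] (no common point of the two curves lies on the line T =
0). Then the quotient of k[X, Y] by the ideal generated by f(X, Y, 1) and g(X, Y, 1) has dimension
n·m over k. (The published statement is that two plane curves without common component have total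
intersection number equal to the product of their degrees; its argument moves a line off the
finitely many common points and then proves exactly this affine count, which is what this row
states, over an arbitrary field.) -/
theorem result (k : Type u) [Field k] (n m : ℕ)
    (f g : MvPolynomial (Fin 3) k) (hf : f.IsHomogeneous n) (hg : g.IsHomogeneous m)
    (hn : 0 < n) (hm : 0 < m) (hf0 : f ≠ 0) (hg0 : g ≠ 0) (hfg : IsRelPrime f g)
    (hT : IsRelPrime
      (MvPolynomial.aeval (Fin.cons (MvPolynomial.X 0) (Fin.cons (MvPolynomial.X 1)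
        (Fin.cons 0 Fin.elim0)) : Fin 3 → MvPolynomial (Fin 2) k) f)
      (MvPolynomial.aeval (Fin.cons (MvPolynomial.X 0) (Fin.cons (MvPolynomial.X 1)
        (Fin.cons 0 Fin.elim0)) : Fin 3 → MvPolynomial (Fin 2) k) g)) :
    Module.finrank k (MvPolynomial (Fin 2) k ⧸ Ideal.span
      ({MvPolynomial.aeval (Fin.cons (MvPolynomial.X 0) (Fin.cons (MvPolynomial.X 1)
          (Fin.cons 1 Fin.elim0)) : Fin 3 → MvPolynomial (Fin 2) k) f,
        MvPolynomial.aeval (Fin.cons (MvPolynomial.X 0) (Fin.cons (MvPolynomial.X 1)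
          (Fin.cons 1 Fin.elim0)) : Fin 3 → MvPolynomial (Fin 2) k) g} :
        Set (MvPolynomial (Fin 2) k))) = n * m := by
  classical
  have hT' : IsRelPrime (MvPolynomial.aeval (v0 k) f) (MvPolynomial.aeval (v0 k) g) := hT
  show Module.finrank k (MvPolynomial (Fin 2) k ⧸ Ideal.span
    ({MvPolynomial.aeval (v1 k) f, MvPolynomial.aeval (v1 k) g} :
      Set (MvPolynomial (Fin 2) k))) = n * m
  obtain ⟨I₁, hI₁⟩ : ∃ I₁ : Ideal (MvPolynomial (Fin 2) k), I₁ = Ideal.span
    ({MvPolynomial.aeval (v1 k) f, MvPolynomial.aeval (v1 k) g} :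
      Set (MvPolynomial (Fin 2) k)) := ⟨_, rfl⟩
  rw [← hI₁]
  have hTreg := T_regular f g m hg hm hT'
  have hTreg' := T_pow_regular (Ideal.span ({f, g} : Set (MvPolynomial (Fin 3) k))) hTreg
  have hD : ∀ e, n + m ≤ e →
      Module.finrank k (↥(MvPolynomial.homogeneousSubmodule (Fin 3) k e) ⧸
        Submodule.comap (MvPolynomial.homogeneousSubmodule (Fin 3) k e).subtype
          ((Ideal.span ({f, g} : Set (MvPolynomial (Fin 3) k))).restrictScalars k)) = n * m :=
    fun e he => Groth.Agent.S10824.result k n m e f g hf hg hn hm hf0 hg0 hfg he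
  have hEiter : ∀ (r : ℕ) (H : MvPolynomial (Fin 3) k), H.IsHomogeneous (n + m + r) →
      ∃ H' : MvPolynomial (Fin 3) k, H'.IsHomogeneous (n + m) ∧
        H - MvPolynomial.X 2 ^ r * H' ∈ Ideal.span ({f, g} : Set (MvPolynomial (Fin 3) k)) := by
    intro r
    induction r with
    | zero =>
      intro H hH
      refine ⟨H, hH, ?_⟩
      rw [pow_zero, one_mul, sub_self]
      exact Ideal.zero_mem _
    | succ r ih =>
      intro H hH
      obtain ⟨H₁, hH₁, hHH₁⟩ := stepE f g (n * m) hTreg (n + m + r)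
        (hD _ (by omega)) (hD _ (by omega)) H hH
      obtain ⟨H', hH', hH₁H'⟩ := ih H₁ hH₁
      refine ⟨H', hH', ?_⟩
      have e : H - MvPolynomial.X 2 ^ (r + 1) * H' =
          (H - MvPolynomial.X 2 * H₁) + MvPolynomial.X 2 * (H₁ - MvPolynomial.X 2 ^ r * H') := by
        ring
      rw [e]
      exact Ideal.add_mem _ hHH₁ (Ideal.mul_mem_left _ _ hH₁H')
  have hφI : ∀ q ∈ Ideal.span ({f, g} : Set (MvPolynomial (Fin 3) k)),
      MvPolynomial.aeval (v1 k) q ∈ I₁ := by
    intro q hq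
    obtain ⟨a, b, rfl⟩ := Ideal.mem_span_pair.mp hq
    rw [map_add, map_mul, map_mul, hI₁]
    exact Ideal.mem_span_pair.mpr ⟨_, _, rfl⟩
  obtain ⟨J, hJ⟩ : ∃ J : Submodule k (MvPolynomial (Fin 3) k),
      J = (Ideal.span ({f, g} : Set (MvPolynomial (Fin 3) k))).restrictScalars k := ⟨_, rfl⟩
  have hJmem : ∀ q : MvPolynomial (Fin 3) k,
      q ∈ J ↔ q ∈ Ideal.span ({f, g} : Set (MvPolynomial (Fin 3) k)) := by
    intro q
    rw [hJ]
    exact Submodule.restrictScalars_mem k _ q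
  obtain ⟨Sd, hSd⟩ : ∃ Sd, Sd = MvPolynomial.homogeneousSubmodule (Fin 3) k (n + m) := ⟨_, rfl⟩
  obtain ⟨Jd, hJd⟩ : ∃ Jd : Submodule k Sd, Jd = Submodule.comap Sd.subtype J := ⟨_, rfl⟩
  obtain ⟨Ψ, hΨ⟩ : ∃ Ψ : Sd →ₗ[k] (MvPolynomial (Fin 2) k ⧸ I₁), ∀ x : Sd,
      Ψ x = Ideal.Quotient.mk I₁ (MvPolynomial.aeval (v1 k) (x : MvPolynomial (Fin 3) k)) :=
    ⟨((Ideal.Quotient.mkₐ k I₁).toLinearMap.comp (MvPolynomial.aeval (v1 k)).toLinearMap).comp
      Sd.subtype, fun x => rfl⟩
  have hkerΨ : LinearMap.ker Ψ = Jd := by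
    ext x
    rw [LinearMap.mem_ker, hΨ, Ideal.Quotient.eq_zero_iff_mem, hJd, Submodule.mem_comap,
      Submodule.subtype_apply, hJmem]
    constructor
    · intro hx
      have hxh : (x : MvPolynomial (Fin 3) k).IsHomogeneous (n + m) := by
        show (x : MvPolynomial (Fin 3) k) ∈ MvPolynomial.homogeneousSubmodule (Fin 3) k (n + m)
        rw [← hSd]
        exact x.2
      rw [hI₁] at hx
      obtain ⟨r, hr⟩ := lemmaK f g n m hf hg (n + m) (x : MvPolynomial (Fin 3) k) hxh hx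
      exact hTreg' r _ hr
    · exact hφI _
  have hsurj : Function.Surjective Ψ := by
    intro y
    obtain ⟨h, rfl⟩ := Ideal.Quotient.mk_surjective y
    obtain ⟨N₀, hN₀⟩ := lemmaB h
    obtain ⟨H, hH, hHφ⟩ := hN₀ (n + m + N₀) (by omega)
    obtain ⟨H', hH', hHH'⟩ := hEiter N₀ H hH
    have hmem : H' ∈ Sd := by
      rw [hSd]
      exact hH'
    refine ⟨⟨H', hmem⟩, ?_⟩
    rw [hΨ, Ideal.Quotient.eq]
    have h6 := hφI _ hHH'
    rw [map_sub, map_mul, map_pow, MvPolynomial.aeval_X, v1_2, one_pow, one_mul, hHφ] at h6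
    have e : MvPolynomial.aeval (v1 k) H' - h = -(h - MvPolynomial.aeval (v1 k) H') := by ring
    show MvPolynomial.aeval (v1 k) H' - h ∈ I₁
    rw [e]
    exact (Ideal.neg_mem_iff _).mpr h6
  have E := LinearMap.quotKerEquivOfSurjective Ψ hsurj
  rw [← LinearEquiv.finrank_eq E, hkerΨ]
  have hfinal := hD (n + m) le_rfl
  rw [← hJ, ← hSd, ← hJd] at hfinal
  exact hfinal

end Groth.Agent.S10827
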