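import Groth.Statements.S10828
import Mathlib

set_option autoImplicit false
set_option linter.style.haveILetI false
set_option linter.unusedSectionVars false
set_option linter.unusedVariables false
universe u
open CategoryTheory AlgebraicGeometry
open Variety

namespace Groth.Agent.S10828

section Helpers
open AlgebraicGeometry CategoryTheory Limits IsLocalRing

variable {k K : Type u} [Field k] [Field K] [Algebra k K]

/-- the structure map `k → κ(x)` of the residue field of a point of a `k`-scheme. -/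
noncomputable def phi {X : Scheme.{u}} (f : X ⟶ Spec (CommRingCat.of k)) (x : X) :
    CommRingCat.of k ⟶ X.residueField x :=
  Spec.preimage (X.fromSpecResidueField x ≫ f)

theorem map_phi {X : Scheme.{u}} (f : X ⟶ Spec (CommRingCat.of k)) (x : X) :
    Spec.map (phi f x) = X.fromSpecResidueField x ≫ f := Spec.map_preimage _

theorem cond_iff {X : Scheme.{u}} (f : X ⟶ Spec (CommRingCat.of k)) (x : X)
    (α : X.residueField x ⟶ CommRingCat.of K) :
    (Spec.map α ≫ X.fromSpecResidueField x) ≫ f =
        Spec.map (CommRingCat.ofHom (algebraMap k K)) ↔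
      phi f x ≫ α = CommRingCat.ofHom (algebraMap k K) := by
  rw [Category.assoc, ← map_phi, ← Spec.map_comp]
  exact Spec.map_injective.eq_iff

theorem exists_sigma [IsAlgClosure k K] {X : Scheme.{u}} (f : X ⟶ Spec (CommRingCat.of k))
    (x : X) (α β : X.residueField x ⟶ CommRingCat.of K)
    (hα : phi f x ≫ α = CommRingCat.ofHom (algebraMap k K))
    (hβ : phi f x ≫ β = CommRingCat.ofHom (algebraMap k K)) :
    ∃ σ : K ≃ₐ[k] K, β = α ≫ CommRingCat.ofHom σ.toRingHom := by
  letI : Algebra k (X.residueField x) := (phi f x).hom.toAlgebra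
  obtain ⟨α', hα'⟩ : ∃ α' : X.residueField x →ₐ[k] K, ∀ e, α' e = α.hom e :=
    ⟨{ α.hom with
        commutes' := fun c => by
          show α.hom ((phi f x).hom c) = algebraMap k K c
          exact congrArg (fun g => g.hom c) hα }, fun e => rfl⟩
  obtain ⟨β', hβ'⟩ : ∃ β' : X.residueField x →ₐ[k] K, ∀ e, β' e = β.hom e :=
    ⟨{ β.hom with
        commutes' := fun c => by
          show β.hom ((phi f x).hom c) = algebraMap k K c
          exact congrArg (fun g => g.hom c) hβ }, fun e => rfl⟩
  haveI : Normal k K := IsAlgClosure.normal k K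
  obtain ⟨χ, hχ⟩ : ∃ χ : α'.fieldRange ≃ₐ[k] β'.fieldRange,
      ∀ e, χ (α'.equivFieldRange e) = β'.equivFieldRange e :=
    ⟨α'.equivFieldRange.symm.trans β'.equivFieldRange, fun e => by simp⟩
  refine ⟨χ.liftNormal K, ?_⟩
  ext e
  show β.hom e = (χ.liftNormal K) (α.hom e)
  have h1 : algebraMap α'.fieldRange K (α'.equivFieldRange e) = α.hom e := by
    rw [← hα' e]
    rfl
  have h2 : algebraMap β'.fieldRange K (β'.equivFieldRange e) = β.hom e := by
    rw [← hβ' e]
    rfl
  rw [← h1, AlgEquiv.liftNormal_commutes, hχ, h2]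

theorem exists_point_of_isClosed [IsAlgClosure k K] {X : Scheme.{u}}
    (f : X ⟶ Spec (CommRingCat.of k)) [LocallyOfFiniteType f] (x : X)
    (hx : IsClosed ({x} : Set X)) :
    ∃ p : Spec (CommRingCat.of K) ⟶ X,
      p ≫ f = Spec.map (CommRingCat.ofHom (algebraMap k K)) ∧
        p.base (IsLocalRing.closedPoint K) = x := by
  haveI := isClosed_singleton_iff_isClosedImmersion.mp hx
  haveI : IsFinite (X.fromSpecResidueField x ≫ f) :=
    (isFinite_iff_locallyOfFiniteType_of_jacobsonSpace).mpr inferInstance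
  have hint : (phi f x).hom.IsIntegral := by
    rw [← IsIntegralHom.SpecMap_iff, map_phi]
    infer_instance
  letI : Algebra k (X.residueField x) := (phi f x).hom.toAlgebra
  haveI : Algebra.IsIntegral k (X.residueField x) := ⟨hint⟩
  haveI : IsAlgClosed K := IsAlgClosure.isAlgClosed k
  obtain ⟨l⟩ : Nonempty (X.residueField x →ₐ[k] K) := ⟨IsAlgClosed.lift⟩
  refine ⟨Spec.map (CommRingCat.ofHom l.toRingHom) ≫ X.fromSpecResidueField x, ?_, ?_⟩
  · rw [cond_iff]
    ext c
    exact l.commutes c
  · exact Scheme.fromSpecResidueField_apply x _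

theorem isClosed_of_point [IsAlgClosure k K] {X : Scheme.{u}}
    (f : X ⟶ Spec (CommRingCat.of k)) [LocallyOfFiniteType f] (x : X)
    (α : X.residueField x ⟶ CommRingCat.of K)
    (hα : phi f x ≫ α = CommRingCat.ofHom (algebraMap k K)) : IsClosed ({x} : Set X) := by
  haveI : JacobsonSpace X := LocallyOfFiniteType.jacobsonSpace f
  apply isClosed_singleton_of_isLocallyClosed_singleton
  obtain ⟨_, ⟨V, hV, rfl⟩, hxV, -⟩ :=
    X.isBasis_affineOpens.exists_subset_of_mem_open (Set.mem_univ x) isOpen_univ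
  have hV' : IsAffineOpen V := hV
  obtain ⟨𝔭, h𝔭⟩ : ∃ 𝔭 : Spec Γ(X, V), hV'.fromSpec 𝔭 = x :=
    ⟨hV'.primeIdealOf ⟨x, hxV⟩, hV'.fromSpec_primeIdealOf ⟨x, hxV⟩⟩
  suffices hmax : 𝔭.asIdeal.IsMaximal by
    have hcl : IsClosed ({𝔭} : Set (Spec Γ(X, V))) :=
      (PrimeSpectrum.isClosed_singleton_iff_isMaximal 𝔭).mpr hmax
    have himg : ({x} : Set X) = hV'.fromSpec '' {𝔭} := by
      rw [Set.image_singleton, h𝔭]
    rw [himg]
    exact hcl.isLocallyClosed.image hV'.fromSpec.isOpenEmbedding.isInducing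
      hV'.fromSpec.isOpenEmbedding.isOpen_range.isLocallyClosed
  obtain ⟨φV, hφV⟩ : ∃ φ : CommRingCat.of k ⟶ Γ(X, V), Spec.map φ = hV'.fromSpec ≫ f :=
    ⟨Spec.preimage _, Spec.map_preimage _⟩
  have hfact : Spec.map (X.evaluation V x hxV) ≫ hV'.fromSpec = X.fromSpecResidueField x := by
    rw [Scheme.fromSpecResidueField, ← hV'.fromSpecStalk_eq_fromSpecStalk hxV,
      IsAffineOpen.fromSpecStalk, ← Category.assoc, ← Spec.map_comp]
    rfl
  have hcompat : φV ≫ X.evaluation V x hxV = phi f x := by
    apply Spec.map_injective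
    rw [Spec.map_comp, hφV, map_phi, ← Category.assoc, hfact]
  obtain ⟨ψ, hψ⟩ : ∃ ψ : Γ(X, V) →+* K, ψ = (X.evaluation V x hxV ≫ α).hom := ⟨_, rfl⟩
  have hψk : ∀ c : k, ψ (φV.hom c) = algebraMap k K c := by
    intro c
    rw [hψ]
    have h0 : (phi f x ≫ α).hom c = algebraMap k K c := congrArg (fun g => g.hom c) hα
    rw [← hcompat] at h0
    exact h0
  have hker : RingHom.ker ψ = 𝔭.asIdeal := by
    ext a
    rw [RingHom.mem_ker, hψ]
    show α.hom ((X.evaluation V x hxV).hom a) = 0 ↔ a ∈ 𝔭.asIdeal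
    rw [map_eq_zero_iff α.hom α.hom.injective]
    have hev : (X.evaluation V x hxV).hom a = 0 ↔ x ∉ X.basicOpen a :=
      Scheme.evaluation_eq_zero_iff_notMem_basicOpen X x hxV a
    rw [hev]
    have hb : x ∈ X.basicOpen a ↔ 𝔭 ∈ (PrimeSpectrum.basicOpen a) := by
      rw [← hV'.fromSpec_preimage_basicOpen, ← h𝔭]
      rfl
    rw [hb]
    exact (not_congr (PrimeSpectrum.mem_basicOpen a 𝔭)).trans not_not
  letI : Algebra k Γ(X, V) := φV.hom.toAlgebra
  haveI := 𝔭.isPrime
  obtain ⟨ψ', hψ'inj⟩ : ∃ ψ' : (Γ(X, V) ⧸ 𝔭.asIdeal) →ₐ[k] K, Function.Injective ψ' := by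
    refine ⟨{ Ideal.Quotient.lift 𝔭.asIdeal ψ
        (fun a ha => by rw [← RingHom.mem_ker, hker]; exact ha) with
      commutes' := fun c => hψk c }, ?_⟩
    exact RingHom.lift_injective_of_ker_le_ideal 𝔭.asIdeal _ hker.le
  haveI : Algebra.IsAlgebraic k (Γ(X, V) ⧸ 𝔭.asIdeal) :=
    Algebra.IsAlgebraic.of_injective ψ' hψ'inj
  haveI : Algebra.IsIntegral k (Γ(X, V) ⧸ 𝔭.asIdeal) := Algebra.IsAlgebraic.isIntegral
  have hfield : IsField (Γ(X, V) ⧸ 𝔭.asIdeal) :=
    isField_of_isIntegral_of_isField' (Field.toIsField k)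
  exact Ideal.Quotient.maximal_of_isField _ hfield

theorem aux [IsAlgClosure k K] {X : Scheme.{u}} (f : X ⟶ Spec (CommRingCat.of k)) (x y : X)
    (hxy : x = y) (α : X.residueField x ⟶ CommRingCat.of K)
    (β : X.residueField y ⟶ CommRingCat.of K)
    (hα : (Spec.map α ≫ X.fromSpecResidueField x) ≫ f =
      Spec.map (CommRingCat.ofHom (algebraMap k K)))
    (hβ : (Spec.map β ≫ X.fromSpecResidueField y) ≫ f =
      Spec.map (CommRingCat.ofHom (algebraMap k K))) :
    ∃ σ : K ≃ₐ[k] K, Spec.map β ≫ X.fromSpecResidueField y =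
      Spec.map (CommRingCat.ofHom σ.toRingHom) ≫ Spec.map α ≫ X.fromSpecResidueField x := by
  subst hxy
  rw [cond_iff] at hα hβ
  obtain ⟨σ, hσ⟩ := exists_sigma f x α β hα hβ
  refine ⟨σ, ?_⟩
  rw [hσ, Spec.map_comp, Category.assoc]

end Helpers


/-- Let k be a field, K an algebraic closure of k with its group G of k-automorphisms, and X a k-scheme
locally of finite type. The map sending a K-valued point of X over k to its image point identifies
the closed points of X with the G-orbits in X(K): a point is closed if and only if it is the image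
of some K-valued point, and two K-valued points have the same image if and only if one is obtained
from the other by composing with Spec of a k-automorphism of K. -/
theorem result (k K : Type u) [Field k] [Field K]
    [Algebra k K] [IsAlgClosure k K] {X : Scheme.{u}} (f : X ⟶ Spec (CommRingCat.of k))
    [LocallyOfFiniteType f] :
    (∀ x : X, IsClosed ({x} : Set X) ↔
        ∃ p : Spec (CommRingCat.of K) ⟶ X, p ≫ f = Spec.map (CommRingCat.ofHom (algebraMap k K)) ∧
          p.base (IsLocalRing.closedPoint K) = x) ∧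
      ∀ p q : Spec (CommRingCat.of K) ⟶ X,
        p ≫ f = Spec.map (CommRingCat.ofHom (algebraMap k K)) →
        q ≫ f = Spec.map (CommRingCat.ofHom (algebraMap k K)) →
          (p.base (IsLocalRing.closedPoint K) = q.base (IsLocalRing.closedPoint K) ↔
            ∃ σ : K ≃ₐ[k] K, q = Spec.map (CommRingCat.ofHom σ.toRingHom) ≫ p) := by
  refine ⟨fun x => ⟨fun hx => exists_point_of_isClosed f x hx, ?_⟩, ?_⟩
  · rintro ⟨p, hp, rfl⟩
    have hfac := Scheme.descResidueField_stalkClosedPointTo_fromSpecResidueField K X p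
    refine isClosed_of_point (K := K) f _
      (Scheme.descResidueField (Scheme.stalkClosedPointTo p)) ?_
    rw [← cond_iff, hfac]
    exact hp
  · intro p q hp hq
    have hfp := Scheme.descResidueField_stalkClosedPointTo_fromSpecResidueField K X p
    have hfq := Scheme.descResidueField_stalkClosedPointTo_fromSpecResidueField K X q
    constructor
    · intro hpq
      obtain ⟨σ, hσ⟩ := aux f _ _ hpq
        (Scheme.descResidueField (Scheme.stalkClosedPointTo p))
        (Scheme.descResidueField (Scheme.stalkClosedPointTo q))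
        (by rw [hfp]; exact hp) (by rw [hfq]; exact hq)
      refine ⟨σ, ?_⟩
      rw [hfp, hfq] at hσ
      exact hσ
    · rintro ⟨σ, rfl⟩
      show p.base (IsLocalRing.closedPoint K) =
        p.base ((Spec.map (CommRingCat.ofHom σ.toRingHom)).base (IsLocalRing.closedPoint K))
      exact congrArg p.base (Subsingleton.elim _ _)

end Groth.Agent.S10828
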