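import Groth.Statements.S10829
import Mathlib
import Groth.Agent.H21.ProjDim

set_option autoImplicit false
universe u
open AlgebraicGeometry
open Variety

namespace Groth.Agent.S10829

/-- For a field k and a natural number n, projective n-space over k (Proj of the polynomial ring in n +
1 variables graded by degree) has Krull dimension n as a topological space. (The published statement
also gives affine n-space dimension n; that half is the Krull dimension of a polynomial ring and is
not restated here.) -/
theorem result (k : Type u) [Field k] (n : ℕ) :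
    topologicalKrullDim ↥(CohB1.ProjSpace n k) = (n : WithBot ℕ∞) := by
  classical
  have hbot_ne : (⊥ : Ideal (MvPolynomial (Fin (n + 1)) k)) ≠ Groth.Agent.S10915.irr k n := by
    intro h
    have hX : (MvPolynomial.X 0 : MvPolynomial (Fin (n + 1)) k) ∈ Groth.Agent.S10915.irr k n :=
      Ideal.subset_span ⟨0, rfl⟩
    rw [← h, Ideal.mem_bot] at hX
    exact MvPolynomial.X_ne_zero (0 : Fin (n + 1)) hX
  let x₀ : ProjectiveSpectrum (CohB1.polyGrading n k) :=
    Groth.Agent.H21.ProjDim.mkPoint ⊥ Ideal.isPrime_bot (Ideal.IsHomogeneous.bot _) hbot_ne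
  obtain ⟨e, he, -, htop⟩ := Groth.Agent.H21.ProjDim.exists_dim_Ici x₀
  have hdim : ringKrullDim (MvPolynomial (Fin (n + 1)) k ⧸
      (⊥ : Ideal (MvPolynomial (Fin (n + 1)) k))) = ((n + 1 : ℕ) : WithBot ℕ∞) := by
    rw [ringKrullDim_eq_of_ringEquiv (RingEquiv.quotientBot (MvPolynomial (Fin (n + 1)) k))]
    exact Groth.Agent.H21.ProjDim.ringKrullDim_poly k n
  have he' : ((e + 1 : ℕ) : WithBot ℕ∞) = ((n + 1 : ℕ) : WithBot ℕ∞) := by
    rw [← he, ← hdim]
    rfl
  have hen : e = n := by
    have : e + 1 = n + 1 := by exact_mod_cast he'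
    omega
  have huniv : {y : ProjectiveSpectrum (CohB1.polyGrading n k) | x₀ ≤ y} = Set.univ := by
    ext y
    simp only [Set.mem_setOf_eq, Set.mem_univ, iff_true]
    exact (Groth.Agent.H21.ProjTop.toIdeal_le_iff x₀ y).mp bot_le
  rw [huniv, hen] at htop
  have h2 : topologicalKrullDim ↥(Set.univ : Set (ProjectiveSpectrum (CohB1.polyGrading n k))) =
      topologicalKrullDim (ProjectiveSpectrum (CohB1.polyGrading n k)) :=
    IsHomeomorph.topologicalKrullDim_eq _
      (Homeomorph.Set.univ (ProjectiveSpectrum (CohB1.polyGrading n k))).isHomeomorph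
  rw [h2] at htop
  exact htop

end Groth.Agent.S10829
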