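import Groth.Statements.S10830
-- import your own Groth.Agent.* helpers here

set_option autoImplicit false
universe u
open Topology TopologicalSpace
open TopDim

namespace Groth.Agent.S10830

/-- In an irreducible topological space X of finite Krull dimension, every proper closed subset Y has
strictly smaller Krull dimension than X. -/
theorem result (X : Type u) [TopologicalSpace X]
    [IrreducibleSpace X] (hfin : topologicalKrullDim X ≠ ⊤) (Y : Set X) (hY : IsClosed Y) (hYX : Y ≠ Set.univ) :
    topologicalKrullDim ↥Y < topologicalKrullDim X := by
  classical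
  have hg := IrreducibleCloseds.map_strictMono_of_isInducing (IsInducing.subtypeVal (t := Y))
  set T : IrreducibleCloseds X := ⟨Set.univ, IrreducibleSpace.isIrreducible_univ X, isClosed_univ⟩
    with hT
  have key : ∀ p : LTSeries (IrreducibleCloseds Y),
      ((p.length + 1 : ℕ) : WithBot ℕ∞) ≤ topologicalKrullDim X := by
    intro p
    have hlast : (p.map _ hg).last < T := by
      refine lt_of_le_of_ne (fun x _ => Set.mem_univ x) ?_
      intro h
      apply hYX
      have h1 : ((p.map _ hg).last : Set X) ⊆ Y := by
        rw [LTSeries.last_map, IrreducibleCloseds.coe_map]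
        exact closure_minimal (by rintro _ ⟨y, _, rfl⟩; exact y.2) hY
      have h2 : ((p.map _ hg).last : Set X) = Set.univ := by rw [h]; rfl
      rw [h2] at h1
      exact Set.eq_univ_of_univ_subset h1
    exact Order.LTSeries.length_le_krullDim ((p.map _ hg).snoc T hlast)
  haveI : Nonempty (IrreducibleCloseds X) := ⟨T⟩
  have hnn : 0 ≤ topologicalKrullDim X := Order.krullDim_nonneg
  obtain ⟨m, hm⟩ : ∃ m : ℕ, topologicalKrullDim X = m := by
    cases h : topologicalKrullDim X with
    | bot => rw [h] at hnn; simp at hnn
    | coe a =>
      cases a with
      | top => exact absurd h hfin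
      | coe m => exact ⟨m, rfl⟩
  rw [hm]
  unfold topologicalKrullDim
  rw [Order.krullDim_lt_coe_iff]
  intro l
  have := key l
  rw [hm] at this
  have h3 : l.length + 1 ≤ m := by exact_mod_cast this
  omega

end Groth.Agent.S10830
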