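import Groth.Statements.S10832
import Groth.Agent.H54.FiniteDiscrete
import Mathlib.Tactic.TFAE

set_option autoImplicit false
universe u
open CategoryTheory AlgebraicGeometry Topology
open Variety

namespace Groth.Agent.S10832

/-- For a nonempty scheme X of finite type over a field k the following are equivalent: X has Krull
dimension 0; X is affine with ring of global sections finite over k and equal to the product of all
its local rings via the germ maps; the underlying space of X is discrete; the underlying space of X
is finite. -/
theorem result (k : Type u) [Field k] {X : Scheme.{u}} [Nonempty X]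
    (f : X ⟶ Spec (CommRingCat.of k)) [LocallyOfFiniteType f] [QuasiCompact f] :
    [topologicalKrullDim ↥X = 0,
      IsAffine X ∧ f.appTop.hom.Finite ∧
        Function.Bijective (fun s : Γ(X, ⊤) => fun x : X => X.presheaf.germ ⊤ x trivial s),
      DiscreteTopology ↥X,
      Finite ↥X].TFAE := by
  haveI : IsLocallyNoetherian X := LocallyOfFiniteType.isLocallyNoetherian f
  haveI : CompactSpace X := QuasiCompact.compactSpace_of_compactSpace f
  haveI : JacobsonSpace X := LocallyOfFiniteType.jacobsonSpace f
  tfae_have 1 → 3 := by
    intro h
    haveI : IsLocallyArtinian X := .of_topologicalKrullDim_le_zero h.le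
    infer_instance
  tfae_have 3 → 4 := by
    intro h
    exact finite_of_compact_of_discrete
  tfae_have 4 → 2 := by
    intro h
    haveI : DiscreteTopology X := inferInstance
    exact ⟨inferInstance, Groth.Agent.H54.finite_appTop_of_discrete k f,
      Groth.Agent.H54.germ_pi_bijective X⟩
  tfae_have 2 → 1 := by
    rintro ⟨haff, hfin, -⟩
    algebraize [f.appTop.hom]
    haveI : Module.Finite Γ(Spec (CommRingCat.of k), ⊤) Γ(X, ⊤) := hfin
    haveI : IsArtinianRing Γ(Spec (CommRingCat.of k), ⊤) :=
      (Scheme.ΓSpecIso (CommRingCat.of k)).commRingCatIsoToRingEquiv.symm.isArtinianRing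
    haveI : IsArtinianRing Γ(X, ⊤) :=
      IsArtinianRing.of_finite Γ(Spec (CommRingCat.of k), ⊤) Γ(X, ⊤)
    haveI : IsLocallyArtinian (Spec Γ(X, ⊤)) :=
      Scheme.isLocallyArtinianScheme_Spec.mpr inferInstance
    haveI : IsLocallyArtinian X := .of_isImmersion X.isoSpec.hom
    haveI : DiscreteTopology X := IsLocallyArtinian.discreteTopology
    apply le_antisymm (topologicalKrullDim_zero_of_discreteTopology X)
    obtain ⟨x⟩ := ‹Nonempty X›
    haveI : Nonempty (TopologicalSpace.IrreducibleCloseds X) :=
      ⟨⟨closure {x}, isIrreducible_singleton.closure, isClosed_closure⟩⟩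
    exact Order.krullDim_nonneg
  tfae_finish

end Groth.Agent.S10832
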