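import Groth.Statements.S10833
import Groth.Agent.H54.AffineDim

set_option autoImplicit false
universe u
open Variety

namespace Groth.Agent.S10833

/-- Let k be a field and A a k-algebra of finite type that is an integral domain. Then every chain of
prime ideals of A admitting no refinement — it starts at the zero ideal, ends at a maximal ideal,
and no prime ideal lies strictly between two consecutive members — has length equal to the Krull
dimension of A. -/
theorem result (k A : Type u) [Field k] [CommRing A]
    [IsDomain A] [Algebra k A] [Algebra.FiniteType k A] (c : LTSeries (PrimeSpectrum A))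
    (h0 : c.head.asIdeal = ⊥) (hmax : c.last.asIdeal.IsMaximal)
    (hsat : ∀ i : Fin c.length, c i.castSucc ⋖ c i.succ) :
    (c.length : WithBot ℕ∞) = ringKrullDim A := by
  have key : ∀ i : Fin (c.length + 1),
      ringKrullDim (A ⧸ (c i).asIdeal) = ((c.length - (i : ℕ) : ℕ) : WithBot ℕ∞) := by
    intro i
    induction i using Fin.reverseInduction with
    | last =>
      haveI : (c (Fin.last _)).asIdeal.IsMaximal := hmax
      letI := Ideal.Quotient.field (c (Fin.last _)).asIdeal
      rw [ringKrullDim_eq_zero_of_field]
      simp
    | cast i ih =>
      have h := Groth.Agent.H54.ringKrullDim_quotient_add_one_of_covBy k A _ _ (hsat i)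
      rw [← h, ih]
      have h2 : c.length - (i.castSucc : ℕ) = (c.length - (i.succ : ℕ)) + 1 := by
        have := i.isLt
        simp only [Fin.val_castSucc, Fin.val_succ]
        omega
      rw [h2]
      push_cast
      rfl
  have hk0 := key 0
  have h1 : (c 0).asIdeal = ⊥ := h0
  rw [h1] at hk0
  rw [← ringKrullDim_eq_of_ringEquiv (RingEquiv.quotientBot A), hk0]
  simp

end Groth.Agent.S10833
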