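import Groth.Statements.S10834
import Groth.Agent.H15.RegCM
import Groth.Agent.H15.NorOpen
import Groth.Agent.S2659

set_option autoImplicit false
universe u
open CAlg

namespace Groth.Agent.S10834

/-- Let A be a Noetherian ring whose localizations at all prime ideals are regular local rings, and f an
element of A generating a prime ideal, so that A/(f) is an integral domain (an integral hypersurface
in the regular affine scheme Spec A). Then A/(f) is normal (integrally closed in its fraction field)
if and only if it is regular in codimension 1, i.e. its localization at every prime at which the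
local ring has dimension 1 is a regular local ring. -/
theorem result (A : Type u) [CommRing A]
    [IsNoetherianRing A] (hreg : ∀ (p : Ideal A) (_ : p.IsPrime), IsRegularLocalRing (Localization.AtPrime p))
    (f : A) (hf : (Ideal.span ({f} : Set A)).IsPrime) :
    IsIntegrallyClosed (A ⧸ Ideal.span ({f} : Set A)) ↔
      ∀ q : PrimeSpectrum (A ⧸ Ideal.span ({f} : Set A)),
        ringKrullDim (Localization.AtPrime q.asIdeal) = 1 →
          IsRegularLocalRing (Localization.AtPrime q.asIdeal) := by
  haveI := hf
  constructor
  · intro hic q hdim
    haveI := q.isPrime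
    haveI : IsDomain (Localization.AtPrime q.asIdeal) :=
      IsLocalization.isDomain_localization (Ideal.primeCompl_le_nonZeroDivisors q.asIdeal)
    haveI : IsIntegrallyClosed (Localization.AtPrime q.asIdeal) :=
      isIntegrallyClosed_of_isLocalization (Localization.AtPrime q.asIdeal) q.asIdeal.primeCompl
        (Ideal.primeCompl_le_nonZeroDivisors _)
    haveI : IsPrincipalIdealRing (Localization.AtPrime q.asIdeal) :=
      Groth.Agent.H15.NormalAscent.isPrincipalIdealRing_of_normal_of_dim_le_one _ hdim.le
    infer_instance
  · intro hR1
    have hRk : LocCoh.HasRk 1 (A ⧸ Ideal.span ({f} : Set A)) := by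
      intro p hp hht
      by_cases h1 : p.height = 1
      · apply hR1 ⟨p, hp⟩
        rw [IsLocalization.AtPrime.ringKrullDim_eq_height p (Localization.AtPrime p), h1]
        rfl
      · have h0 : p.height = 0 := by
          have hlt : p.height < 1 := lt_of_le_of_ne (by exact_mod_cast hht) h1
          exact ENat.lt_one_iff_eq_zero.mp hlt
        have hmin : p ∈ minimalPrimes (A ⧸ Ideal.span ({f} : Set A)) :=
          Ideal.height_eq_zero_iff.mp h0
        haveI : IsDomain (Localization.AtPrime p) :=
          IsLocalization.isDomain_localization (Ideal.primeCompl_le_nonZeroDivisors p)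
        have hfield := Groth.Agent.H15.NorOpen.isField_of_minimal_of_isDomain p hmin
        let _ := hfield.toField
        infer_instance
    have hSk : LocCoh.HasSk 2 (A ⧸ Ideal.span ({f} : Set A)) (A ⧸ Ideal.span ({f} : Set A)) := by
      rw [Groth.Agent.S2659.hasSk_self_iff]
      intro q hq
      obtain ⟨n₀, hn₀⟩ := ENat.ne_top_iff_exists.mp (ne_top_of_le_ne_top (ENat.natCast_ne_top 2)
        (min_le_left ((2 : ℕ) : ℕ∞) q.height))
      rw [← hn₀, Groth.Agent.H15.NormalAscent.le_depth_iff_hasSeq]
      apply Groth.Agent.H15.RegCM.hasSeq_hypersurface f q (hreg _ inferInstance) n₀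
      rw [hn₀]
      exact min_le_right _ _
    apply IsIntegrallyClosed.of_localization_maximal
    intro p _ hpmax
    exact (Groth.Agent.H15.SerreNormal.normal_of_hasRk_hasSk hRk hSk p).2

end Groth.Agent.S10834
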