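import Groth.Statements.S10836
import Mathlib.RingTheory.LocalRing.Module
import Mathlib.RingTheory.Localization.Free
import Mathlib.RingTheory.Spectrum.Prime.FreeLocus
import Mathlib.RingTheory.Ideal.Operations
import Mathlib.RingTheory.LocalProperties.Projective
import Mathlib.RingTheory.Localization.Ideal

set_option autoImplicit false
universe u
open Coh

namespace Groth.Agent.S10836

/-- The submonoid of elements outside all primes in `Z`. -/
def avoid {A : Type u} [CommRing A] (Z : Set (PrimeSpectrum A)) : Submonoid A :=
  ⨅ p ∈ Z, p.asIdeal.primeCompl

theorem mem_avoid {A : Type u} [CommRing A] {Z : Set (PrimeSpectrum A)} {a : A} :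
    a ∈ avoid Z ↔ ∀ p ∈ Z, a ∉ p.asIdeal := by
  simp only [avoid, Submonoid.mem_iInf]
  rfl

theorem finite_maximalSpectrum {A : Type u} [CommRing A] (Z : Set (PrimeSpectrum A))
    (hZ : Z.Finite) : Finite (MaximalSpectrum (Localization (avoid Z))) := by
  classical
  set S := avoid Z with hS
  set B := Localization S with hB
  have hsub : {m : Ideal B | m.IsMaximal} ⊆
      (fun p : PrimeSpectrum A => Ideal.map (algebraMap A B) p.asIdeal) '' Z := by
    intro m hm
    have hm' : m.IsMaximal := hm
    have hpd := (IsLocalization.isPrime_iff_isPrime_disjoint S B m).mp hm'.isPrime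
    have hprime : (m.comap (algebraMap A B)).IsPrime := hpd.1
    have hdisj : Disjoint (S : Set A) (m.comap (algebraMap A B) : Ideal A) := hpd.2
    have hsubset : ((m.comap (algebraMap A B) : Ideal A) : Set A) ⊆
        ⋃ p ∈ (hZ.toFinset : Set (PrimeSpectrum A)), (p.asIdeal : Set A) := by
      intro a ha
      by_contra hcon
      have haS : a ∈ S := by
        rw [hS, mem_avoid]
        intro p hp hap
        apply hcon
        simp only [Set.mem_iUnion]
        exact ⟨p, by simpa using hp, hap⟩
      exact Set.disjoint_left.mp hdisj haS ha
    obtain ⟨p, hp, hle⟩ := (Ideal.subset_union_prime (f := fun p : PrimeSpectrum A => p.asIdeal)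
      (⟨_, hprime⟩ : PrimeSpectrum A) ⟨_, hprime⟩
      (fun i _ _ _ => i.isPrime)).mp hsubset
    have hpZ : p ∈ Z := by simpa using hp
    refine ⟨p, hpZ, ?_⟩
    have hne : Ideal.map (algebraMap A B) p.asIdeal ≠ ⊤ := by
      rw [IsLocalization.map_algebraMap_ne_top_iff_disjoint S B]
      rw [Set.disjoint_left]
      intro a haS hap
      exact (mem_avoid.mp haS) p hpZ hap
    have hle' : m ≤ Ideal.map (algebraMap A B) p.asIdeal := by
      rw [← IsLocalization.map_under S B m]
      exact Ideal.map_mono hle
    exact (hm'.eq_of_le hne hle').symm
  have hfin : Set.Finite {m : Ideal B | m.IsMaximal} := (hZ.image _).subset hsub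
  haveI := hfin.to_subtype
  exact Finite.of_injective
    (fun m : MaximalSpectrum B => (⟨m.asIdeal, m.isMaximal⟩ : {m : Ideal B | m.IsMaximal}))
    (fun m m' h => MaximalSpectrum.ext (by simpa using congrArg Subtype.val h))

/-- Let A be a commutative ring, M a finitely generated projective A-module whose rank at every prime is
r, and Z a finite set of prime ideals of A. Then there is an element s of A outside every prime of Z
such that the localized module M_s has a basis of r elements over A_s. (The published statement is
for a finite locally free module of constant rank r on a scheme and a finite set of points inside an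
affine open Spec A, and produces a basic open D(s) containing the points on which the module is free
of rank r; its argument begins by replacing the scheme with Spec A, and this row states that case.) -/
theorem result (A : Type u) [CommRing A]
    (M : Type u) [AddCommGroup M] [Module A M] [Module.Finite A M] [Module.Projective A M] (r : ℕ)
    (hr : ∀ p : PrimeSpectrum A, Module.rankAtStalk M p = r)
    (Z : Set (PrimeSpectrum A)) (hZ : Z.Finite) :
    ∃ s : A, (∀ p ∈ Z, s ∉ p.asIdeal) ∧
      Nonempty (Module.Basis (Fin r) (Localization.Away s) (LocalizedModule (Submonoid.powers s) M)) := by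
  classical
  let S : Submonoid A := avoid Z
  let B := Localization S
  let M' := LocalizedModule S M
  haveI : Finite (MaximalSpectrum B) := finite_maximalSpectrum Z hZ
  haveI : Module.Finite B M' :=
    Module.Finite.of_isLocalizedModule S (LocalizedModule.mkLinearMap S M)
  haveI : Module.Projective B M' :=
    Module.projective_of_isLocalizedModule S (LocalizedModule.mkLinearMap S M)
  haveI : Module.Flat B M' := inferInstance
  have hrk : ∀ q : PrimeSpectrum B, Module.rankAtStalk M' q = r := by
    intro q
    rw [Module.rankAtStalk_isBaseChange
      (IsLocalizedModule.isBaseChange S B (LocalizedModule.mkLinearMap S M)) q]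
    exact hr _
  have rk : ∀ P : MaximalSpectrum B,
      Module.finrank (B ⧸ P.1) (TensorProduct B (B ⧸ P.1) M') = r := by
    intro P
    haveI := P.2
    letI := Ideal.Quotient.field P.1
    have h1 := Module.rankAtStalk_eq (M := M') ⟨P.1, P.2.isPrime⟩
    rw [hrk] at h1
    let e := TensorProduct.AlgebraTensorModule.cancelBaseChange B (B ⧸ P.1)
      P.1.ResidueField P.1.ResidueField M'
    calc Module.finrank (B ⧸ P.1) (TensorProduct B (B ⧸ P.1) M')
        = Module.finrank P.1.ResidueField (TensorProduct (B ⧸ P.1) P.1.ResidueField
            (TensorProduct B (B ⧸ P.1) M')) :=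
          (Module.finrank_baseChange (R := P.1.ResidueField) (S := B ⧸ P.1)
            (M' := TensorProduct B (B ⧸ P.1) M')).symm
      _ = Module.finrank P.1.ResidueField (TensorProduct B P.1.ResidueField M') := e.finrank_eq
      _ = r := h1.symm
  obtain ⟨b⟩ := Module.nonempty_basis_of_flat_of_finrank_eq B M' r rk
  haveI : Module.FinitePresentation A M := Module.finitePresentation_of_projective A M
  obtain ⟨s, hs, b', -⟩ := Module.FinitePresentation.exists_basis_localizedModule_powers S
    (LocalizedModule.mkLinearMap S M) B b
  exact ⟨s, fun p hp => (mem_avoid.mp hs) p hp, ⟨b'⟩⟩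

end Groth.Agent.S10836
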