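import Groth.Statements.S10840
import Mathlib
import Groth.Agent.H21.ProjChain

set_option autoImplicit false
universe u
open AlgebraicGeometry Topology
open Variety

namespace Groth.Agent.S10840

open Groth.Agent.S10915 (irr mem_irr_iff irr_isMaximal le_irr_of_isHomogeneous)
open Groth.Agent.H21.ProjTop Groth.Agent.H21.ProjDim Groth.Agent.H21.ProjInter Groth.Agent.H21.ProjHyper Groth.Agent.H21.ProjChain

/-- For a field k and nonzero homogeneous polynomials f, g of positive degrees in three variables, the
common zero set V_+(f, g) in the projective plane over k is zero-dimensional as a topological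
subspace exactly when f and g are coprime, i.e. their only common divisors are the non-zero
constants. -/
theorem result (k : Type u) [Field k] (n m : ℕ)
    (f g : MvPolynomial (Fin 3) k) (hf : f.IsHomogeneous n) (hg : g.IsHomogeneous m)
    (hn : 0 < n) (hm : 0 < m) (hf0 : f ≠ 0) (hg0 : g ≠ 0) :
    topologicalKrullDim ↥(ProjectiveSpectrum.zeroLocus (CohB1.polyGrading 2 k)
        ({f, g} : Set (MvPolynomial (Fin 3) k))) = 0 ↔ IsRelPrime f g := by
  classical
  have hWcl : IsClosed (ProjectiveSpectrum.zeroLocus (CohB1.polyGrading 2 k)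
      ({f, g} : Set (MvPolynomial (Fin 3) k))) := ProjectiveSpectrum.isClosed_zeroLocus _ _
  rw [topologicalKrullDim_subtype _ hWcl]
  have hmemW : ∀ z : ProjectiveSpectrum (CohB1.polyGrading 2 k),
      z ∈ ProjectiveSpectrum.zeroLocus (CohB1.polyGrading 2 k)
        ({f, g} : Set (MvPolynomial (Fin 3) k)) ↔
      f ∈ z.asHomogeneousIdeal.toIdeal ∧ g ∈ z.asHomogeneousIdeal.toIdeal := by
    intro z
    rw [ProjectiveSpectrum.mem_zeroLocus, Set.insert_subset_iff, Set.singleton_subset_iff]
    exact Iff.rfl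
  constructor
  · intro hdim d hdf hdg
    by_contra hdu
    have hd0 : d ≠ 0 := by
      rintro rfl
      exact hf0 (zero_dvd_iff.mp hdf)
    obtain ⟨π, hπirr, hπd⟩ := WfDvdMonoid.exists_irreducible_factor hdu hd0
    have hπ : Prime π := UniqueFactorizationMonoid.irreducible_iff_prime.mp hπirr
    have hPprime : (Ideal.span {π}).IsPrime := (Ideal.span_singleton_prime hπ.ne_zero).mpr hπ
    have hfP : f ∈ Ideal.span {π} := Ideal.mem_span_singleton.mpr (hπd.trans hdf)
    have hgP : g ∈ Ideal.span {π} := Ideal.mem_span_singleton.mpr (hπd.trans hdg)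
    have hPcprime : (Ideal.homogeneousCore (CohB1.polyGrading 2 k) (Ideal.span {π})).toIdeal.IsPrime :=
      Ideal.IsPrime.homogeneousCore hPprime
    have hPcle : (Ideal.homogeneousCore (CohB1.polyGrading 2 k) (Ideal.span {π})).toIdeal ≤
        Ideal.span {π} := Ideal.toIdeal_homogeneousCore_le _ _
    have hfPc : f ∈ (Ideal.homogeneousCore (CohB1.polyGrading 2 k) (Ideal.span {π})).toIdeal :=
      Ideal.mem_homogeneousCore_of_homogeneous_of_mem ⟨n, hf⟩ hfP
    have hgPc : g ∈ (Ideal.homogeneousCore (CohB1.polyGrading 2 k) (Ideal.span {π})).toIdeal :=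
      Ideal.mem_homogeneousCore_of_homogeneous_of_mem ⟨m, hg⟩ hgP
    have hht : (Ideal.homogeneousCore (CohB1.polyGrading 2 k) (Ideal.span {π})).toIdeal.height ≤
        ((1 : ℕ) : ℕ∞) := by
      refine le_trans (Ideal.height_mono hPcle) ?_
      have h1 := Ideal.height_le_one_of_isPrincipal_of_mem_minimalPrimes (Ideal.span {π})
        (Ideal.span {π}) (by rw [Ideal.minimalPrimes_eq_subsingleton_self]; rfl)
      exact_mod_cast h1
    haveI := hPcprime
    obtain ⟨e, he, hne⟩ := dim_ge_of_height_le (n := 2) hht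
    have hPcne : (Ideal.homogeneousCore (CohB1.polyGrading 2 k) (Ideal.span {π})).toIdeal ≠
        irr k 2 := ne_irr_of_dim he (by omega)
    obtain ⟨e', he', hkd, -⟩ := exists_dim_Ici (mkPoint _ hPcprime
      (Ideal.homogeneousCore (CohB1.polyGrading 2 k) (Ideal.span {π})).isHomogeneous hPcne)
    rw [mkPoint_toIdeal, he] at he'
    have he'' : e = e' + 1 := by exact_mod_cast he'
    have hsub : {y' : ProjectiveSpectrum (CohB1.polyGrading 2 k) | mkPoint _ hPcprime
        (Ideal.homogeneousCore (CohB1.polyGrading 2 k) (Ideal.span {π})).isHomogeneous hPcne ≤ y'} ⊆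
        ProjectiveSpectrum.zeroLocus (CohB1.polyGrading 2 k)
          ({f, g} : Set (MvPolynomial (Fin 3) k)) := by
      intro y' hy'
      rw [hmemW]
      have hle := (toIdeal_le_iff _ _).mpr hy'
      rw [mkPoint_toIdeal] at hle
      exact ⟨hle hfPc, hle hgPc⟩
    have hmono := krullDim_subtype_mono hsub
    rw [hkd, hdim] at hmono
    have hle0 : e' ≤ 0 := by exact_mod_cast hmono
    omega
  · intro hrel
    have hne : (ProjectiveSpectrum.zeroLocus (CohB1.polyGrading 2 k)
        ({f, g} : Set (MvPolynomial (Fin 3) k))).Nonempty := by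
      have hIhom : (Ideal.span ({f, g} : Set (MvPolynomial (Fin 3) k))).IsHomogeneous
          (CohB1.polyGrading 2 k) := by
        refine Ideal.homogeneous_span _ _ ?_
        rintro a (rfl | rfl)
        · exact ⟨n, hf⟩
        · exact ⟨m, hg⟩
      have hIle : Ideal.span ({f, g} : Set (MvPolynomial (Fin 3) k)) ≤ irr k 2 := by
        refine Ideal.span_le.mpr ?_
        rintro a (rfl | rfl)
        · exact mem_irr_of_isHomogeneous (n := 2) hf hn
        · exact mem_irr_of_isHomogeneous (n := 2) hg hm
      have hIne : Ideal.span ({f, g} : Set (MvPolynomial (Fin 3) k)) ≠ ⊤ := by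
        intro h'
        rw [h'] at hIle
        exact (irr_isMaximal k 2).ne_top (top_le_iff.mp hIle)
      obtain ⟨⟨Q, hQ⟩⟩ := Ideal.nonempty_minimalPrimes hIne
      haveI hQprime : Q.IsPrime := hQ.1.1
      have hhtQ : Q.height ≤ ((2 : ℕ) : ℕ∞) := by
        have h1 := Ideal.height_le_card_of_mem_minimalPrimes_span_finset
          (s := ({f, g} : Finset (MvPolynomial (Fin 3) k))) (p := Q) (by
            rw [Finset.coe_pair]
            exact hQ)
        refine le_trans h1 ?_
        exact_mod_cast Finset.card_le_two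
      obtain ⟨eQ, heQ, hQle⟩ := dim_ge_of_height_le (n := 2) hhtQ
      have hQne : Q ≠ irr k 2 := ne_irr_of_dim heQ (by omega)
      have hz := zeroLocus_nonempty_of_minimalPrime (n := 2) hIhom hQ hQne
      rw [ProjectiveSpectrum.zeroLocus_span] at hz
      exact hz
    apply krullDim_subtype_eq_zero hne
    intro z₁ hz₁ z₂ hz₂ hlt
    rw [hmemW] at hz₁
    haveI h1prime : z₁.asHomogeneousIdeal.toIdeal.IsPrime := z₁.isPrime
    obtain ⟨e₁, he₁, h2⟩ := dim_ge_two_of_lt hlt
    have hht : z₁.asHomogeneousIdeal.toIdeal.height ≤ ((1 : ℕ) : ℕ∞) :=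
      height_le_of_dim_ge (n := 2) he₁ (by omega)
    have hP0 : z₁.asHomogeneousIdeal.toIdeal ≠ ⊥ := by
      intro h'
      have := hz₁.1
      rw [h', Ideal.mem_bot] at this
      exact hf0 this
    obtain ⟨π, hπ, hPπ⟩ := exists_prime_span_of_height_le_one hP0 (by exact_mod_cast hht)
    have hπf : π ∣ f := Ideal.mem_span_singleton.mp (hPπ ▸ hz₁.1)
    have hπg : π ∣ g := Ideal.mem_span_singleton.mp (hPπ ▸ hz₁.2)
    exact hπ.not_unit (hrel hπf hπg)

end Groth.Agent.S10840
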