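import Groth.Statements.S10841
import Groth.Agent.H54.SchemeDim

set_option autoImplicit false
universe u
open CategoryTheory AlgebraicGeometry Topology
open Variety

namespace Groth.Agent.S10841

/-- Let k be a field, X an irreducible scheme of finite type over k, and f : Y → X a morphism over k
from a scheme Y of finite type over k whose image contains the generic point of X. Then dim Y ≥ dim
X. -/
theorem result (k : Type u) [Field k] {X Y : Scheme.{u}}
    (p : X ⟶ Spec (CommRingCat.of k)) (q : Y ⟶ Spec (CommRingCat.of k))
    [LocallyOfFiniteType p] [QuasiCompact p] [LocallyOfFiniteType q] [QuasiCompact q]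
    [IrreducibleSpace ↥X] (f : Y ⟶ X) (hf : f ≫ p = q)
    (hη : genericPoint ↥X ∈ Set.range f.base) :
    topologicalKrullDim ↥X ≤ topologicalKrullDim ↥Y := by
  classical
  obtain ⟨y, hy⟩ := hη
  have h1 : H54.tdeg p (genericPoint X) ≤ H54.tdeg q y := by
    have h := H54.tdeg_le_of_hom p q f hf y
    have hy' : f y = genericPoint X := hy
    rwa [hy'] at h
  have h2 : topologicalKrullDim X ≤ (H54.tdeg p (genericPoint X) : ℕ) :=
    H54.topologicalKrullDim_le_of_forall_tdeg_le p _
      (fun x => H54.tdeg_le_of_specializes _ ((genericPoint_spec X).specializes trivial))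
  have h3 : ((H54.tdeg q y : ℕ) : WithBot ℕ∞) ≤ topologicalKrullDim Y :=
    (H54.tdeg_le_topologicalKrullDim q y ⊤ trivial).trans (topologicalKrullDim_subspace_le _ _)
  refine h2.trans (le_trans ?_ h3)
  exact_mod_cast h1

end Groth.Agent.S10841
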