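import Groth.Statements.S10842
-- import your own Groth.Agent.* helpers here

set_option autoImplicit false
universe u
open CategoryTheory AlgebraicGeometry
open Variety

namespace Groth.Agent.S10842

/-- A quasi-compact scheme whose local rings at all closed points are integrally closed domains is
normal, i.e. all of its local rings are integrally closed domains. -/
theorem result (X : Scheme.{u}) [CompactSpace ↥X]
    (h : ∀ x : X, IsClosed ({x} : Set X) →
      IsDomain (X.presheaf.stalk x) ∧ IsIntegrallyClosed (X.presheaf.stalk x)) :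
    Pi1.IsNormalScheme X := by
  intro x
  obtain ⟨y, hy, hyc⟩ := (isClosed_closure (s := ({x} : Set X))).exists_closed_singleton
    ⟨x, subset_closure rfl⟩
  have hxy : x ⤳ y := specializes_iff_mem_closure.mpr hy
  obtain ⟨hdom, hic⟩ := h y hyc
  obtain ⟨U, hU, hyU, -⟩ := exists_isAffineOpen_mem_and_subset (X := X) (x := y) (U := ⊤) trivial
  have hxU : x ∈ U := hxy.mem_open U.isOpen hyU
  let algx : Algebra Γ(X, U) (X.presheaf.stalk x) :=
    TopCat.Presheaf.algebra_section_stalk X.presheaf (⟨x, hxU⟩ : U)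
  let algy : Algebra Γ(X, U) (X.presheaf.stalk y) :=
    TopCat.Presheaf.algebra_section_stalk X.presheaf (⟨y, hyU⟩ : U)
  let algxy : Algebra (X.presheaf.stalk y) (X.presheaf.stalk x) :=
    (X.presheaf.stalkSpecializes hxy).hom.toAlgebra
  have : IsScalarTower Γ(X, U) (X.presheaf.stalk y) (X.presheaf.stalk x) := by
    refine IsScalarTower.of_algebraMap_eq' ?_
    change (X.presheaf.germ U x hxU).hom =
      (X.presheaf.stalkSpecializes hxy).hom.comp (X.presheaf.germ U y hyU).hom
    rw [← CommRingCat.hom_comp, TopCat.Presheaf.germ_stalkSpecializes]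
  have locx : IsLocalization.AtPrime (X.presheaf.stalk x) (hU.primeIdealOf ⟨x, hxU⟩).asIdeal :=
    hU.isLocalization_stalk ⟨x, hxU⟩
  have locy : IsLocalization.AtPrime (X.presheaf.stalk y) (hU.primeIdealOf ⟨y, hyU⟩).asIdeal :=
    hU.isLocalization_stalk ⟨y, hyU⟩
  have hle : (hU.primeIdealOf ⟨y, hyU⟩).asIdeal.primeCompl ≤
      (hU.primeIdealOf ⟨x, hxU⟩).asIdeal.primeCompl := by
    intro r hr
    have h1 : IsUnit (algebraMap Γ(X, U) (X.presheaf.stalk y) r) :=
      IsLocalization.map_units (X.presheaf.stalk y) ⟨r, hr⟩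
    have h2 : IsUnit (algebraMap Γ(X, U) (X.presheaf.stalk x) r) := by
      rw [IsScalarTower.algebraMap_apply Γ(X, U) (X.presheaf.stalk y) (X.presheaf.stalk x)]
      exact h1.map _
    exact (IsLocalization.AtPrime.isUnit_to_map_iff (X.presheaf.stalk x)
      (hU.primeIdealOf ⟨x, hxU⟩).asIdeal r).mp h2
  have := IsLocalization.isLocalization_of_submonoid_le (X.presheaf.stalk y) (X.presheaf.stalk x)
    _ _ hle
  have hN : (hU.primeIdealOf ⟨x, hxU⟩).asIdeal.primeCompl.map
      (algebraMap Γ(X, U) (X.presheaf.stalk y)) ≤ nonZeroDivisors (X.presheaf.stalk y) := by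
    rintro _ ⟨r, hr, rfl⟩
    apply mem_nonZeroDivisors_of_ne_zero
    intro h0
    have h3 : algebraMap Γ(X, U) (X.presheaf.stalk x) r = 0 := by
      rw [IsScalarTower.algebraMap_apply Γ(X, U) (X.presheaf.stalk y) (X.presheaf.stalk x)]
      erw [h0]
      exact map_zero _
    have hu : IsUnit (algebraMap Γ(X, U) (X.presheaf.stalk x) r) :=
      IsLocalization.map_units (X.presheaf.stalk x) ⟨r, hr⟩
    rw [h3] at hu
    exact not_isUnit_zero hu
  exact ⟨IsLocalization.isDomain_of_le_nonZeroDivisors (X.presheaf.stalk x) hN,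
    isIntegrallyClosed_of_isLocalization (X.presheaf.stalk x) _ hN⟩

end Groth.Agent.S10842
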