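import Groth.Statements.S10843
import Groth.Agent.H54.IntegralDim
import Mathlib.RingTheory.NoetherNormalization

set_option autoImplicit false
universe u
open CAlg

namespace Groth.Agent.S10843

/-- For a field k, a nonzero finitely generated k-algebra A and a natural number d, the algebra A has
Krull dimension d exactly when some injective k-algebra map from the polynomial ring in d variables
over k to A makes A a finite module over that polynomial ring. -/
theorem result (k A : Type u) [Field k]
    [CommRing A] [Nontrivial A] [Algebra k A] [Algebra.FiniteType k A] (d : ℕ) :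
    ringKrullDim A = (d : WithBot ℕ∞) ↔
      ∃ φ : MvPolynomial (Fin d) k →ₐ[k] A, φ.toRingHom.Finite ∧ Function.Injective φ := by
  constructor
  · intro hd
    obtain ⟨s, g, hinj, hfin⟩ := exists_finite_inj_algHom_of_fg k A
    have h1 : ringKrullDim A = ringKrullDim (MvPolynomial (Fin s) k) :=
      Groth.Agent.H54.ringKrullDim_eq_of_ringHom_isIntegral_of_injective g.toRingHom
        hfin.to_isIntegral hinj
    rw [Groth.Agent.H54.ringKrullDim_mvPolynomial_field, hd] at h1
    have h2 : d = s := by exact_mod_cast h1
    subst h2
    exact ⟨g, hfin, hinj⟩
  · rintro ⟨φ, hfin, hinj⟩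
    have h1 : ringKrullDim A = ringKrullDim (MvPolynomial (Fin d) k) :=
      Groth.Agent.H54.ringKrullDim_eq_of_ringHom_isIntegral_of_injective φ.toRingHom
        hfin.to_isIntegral hinj
    rw [h1, Groth.Agent.H54.ringKrullDim_mvPolynomial_field]

end Groth.Agent.S10843
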