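import Groth.Statements.S10844
import Groth.Agent.H8.SuppClosed
import Groth.Agent.H8.ZeroStalk
import Groth.Agent.H8.PullbackStalk
import Groth.Agent.H8.Coh
import Groth.Agent.H8.CohKerCoker
import Groth.Agent.H45.LocalTensorZero

set_option autoImplicit false
set_option linter.style.haveILetI false
universe u
open RepF

namespace Groth.Agent.S10844

open AlgebraicGeometry CategoryTheory in
/-- For a quasi-coherent module `Q` of finite type, `f^* Q = 0` iff the image of `f` misses the
support of `Q` (Nakayama). -/
theorem aux {S : Scheme.{u}} (Q : S.Modules) [Q.IsQuasicoherent]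
    [SheafOfModules.IsFiniteType (R := S.ringCatSheaf) Q] {T : Scheme.{u}} (f : T ⟶ S) :
    Set.range f.base ⊆ {x | ¬ Subsingleton ↑(Q.presheaf.stalk x)}ᶜ ↔
      Limits.IsZero ((Scheme.Modules.pullback f).obj Q) := by
  constructor
  · intro hsub
    apply Groth.Agent.H8.isZero_of_subsingleton_stalk
    intro t
    obtain ⟨eq⟩ := Groth.Agent.H8.nonempty_stalk_pullback_equiv f Q t
    have hft : Subsingleton ↑(Q.presheaf.stalk (f t)) := by
      have h1 := hsub ⟨t, rfl⟩
      exact not_not.mp h1
    letI := (f.stalkMap t).hom.toAlgebra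
    exact eq.toEquiv.subsingleton
  · intro hz x hx
    obtain ⟨t, rfl⟩ := hx
    have hsub := Groth.Agent.H8.subsingleton_stalk_of_isZero _ hz t
    obtain ⟨eq⟩ := Groth.Agent.H8.nonempty_stalk_pullback_equiv f Q t
    letI := (f.stalkMap t).hom.toAlgebra
    haveI : IsLocalHom (algebraMap (S.presheaf.stalk (f t)) (T.presheaf.stalk t)) :=
      inferInstanceAs (IsLocalHom (f.stalkMap t).hom)
    haveI := Groth.Agent.H8.finite_stalk_of_isCoh Q ⟨inferInstance, inferInstance⟩ (f t)
    have hten : Subsingleton (TensorProduct (S.presheaf.stalk (f t)) (T.presheaf.stalk t)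
        (Q.presheaf.stalk (f t))) := eq.symm.toEquiv.subsingleton
    have hM := Groth.Agent.H45.LocalTensorZero.subsingleton_of_subsingleton_tensor _ hten
    exact not_not.mpr hM

open AlgebraicGeometry CategoryTheory in
/-- For a scheme S and a homomorphism v : E → F of quasi-coherent O_S-modules with F of finite type,
there is an open subscheme U of S such that a morphism of schemes f : T → S factors through U (its
image lies in U) if and only if the pulled-back homomorphism f^*v : f^*E → f^*F is an epimorphism. -/
theorem result {S : Scheme.{u}} {E F : S.Modules}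
    [Coh.IsQCoh E] [Coh.IsQCoh F] (hF : CohB1.IsFT F) (v : E ⟶ F) :
    ∃ U : S.Opens, ∀ (T : Scheme.{u}) (f : T ⟶ S),
      Set.range f.base ⊆ (U : Set S) ↔ Epi ((Scheme.Modules.pullback f).map v) := by
  haveI : E.IsQuasicoherent := ‹Coh.IsQCoh E›
  haveI : F.IsQuasicoherent := ‹Coh.IsQCoh F›
  haveI : SheafOfModules.IsFiniteType (R := S.ringCatSheaf) F := hF
  have hQq : (Limits.cokernel v).IsQuasicoherent := Groth.Agent.H8.isQuasicoherent_cokernel v
  have hepi : Epi (Limits.cokernel.π v) := Limits.coequalizer.π_epi
  have hQf : SheafOfModules.IsFiniteType (R := S.ringCatSheaf) (Limits.cokernel v) :=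
    @Groth.Agent.H8.isFiniteType_of_epi _ _ _ (Limits.cokernel.π v) hepi _
  have hcl := @Groth.Agent.H8.isClosed_support_of_isFiniteType _ (Limits.cokernel v) hQf
  refine ⟨⟨{x | ¬ Subsingleton ↑((Limits.cokernel v).presheaf.stalk x)}ᶜ, hcl.isOpen_compl⟩,
    fun T f => ?_⟩
  have key : Epi ((Scheme.Modules.pullback f).map v) ↔
      Limits.IsZero ((Scheme.Modules.pullback f).obj (Limits.cokernel v)) := by
    haveI : Limits.PreservesColimitsOfSize.{0, 0} (Scheme.Modules.pullback f) :=
      (Scheme.Modules.pullbackPushforwardAdjunction f).leftAdjoint_preservesColimits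
    let e := Limits.PreservesCokernel.iso (Scheme.Modules.pullback f) v
    constructor
    · intro h
      exact (Limits.isZero_cokernel_of_epi _).of_iso e
    · intro h
      exact Preadditive.epi_of_isZero_cokernel _ (h.of_iso e.symm)
  rw [key]
  exact @aux _ (Limits.cokernel v) hQq hQf _ f

end Groth.Agent.S10844
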