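import Groth.Statements.S8872
import Groth.Agent.H17.FittSheaf
import Groth.Agent.H8.PullbackStalk
import Groth.Agent.H8.PullbackSections
import Groth.Agent.H9.ComapIdeal

set_option autoImplicit false
universe u
open CategoryTheory CategoryTheory.Limits AlgebraicGeometry TopologicalSpace
open SDiv

namespace Groth.Agent.S8872

open Groth.Agent.H8 Groth.Agent.H34.Fit Groth.Agent.H17.FittSheaf TensorProduct

set_option linter.style.haveILetI false

/-- Let f : T ⟶ S be a morphism of schemes and F a quasi-coherent O_S-module of finite type. Then for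
every i the inverse image ideal sheaf on T of the i-th Fitting ideal of F is the i-th Fitting ideal
of f^*F. -/
theorem result {T S : Scheme.{u}} (f : T ⟶ S) (F : S.Modules) (hF : Coh.IsQCoh F) (hft : CohB1.IsFT F)
    (i : ℕ) : (Fitt.sheafIdeal F i).comap f = Fitt.sheafIdeal ((Scheme.Modules.pullback f).obj F) i := by
  classical
  haveI : F.IsQuasicoherent := hF
  haveI : SheafOfModules.IsFiniteType (R := S.ringCatSheaf) F := hft
  haveI := isQuasicoherent_pullback f F
  obtain ⟨G, hG⟩ : ∃ G : T.Modules, G = (Scheme.Modules.pullback f).obj F := ⟨_, rfl⟩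
  rw [← hG]
  haveI : G.IsQuasicoherent := hG ▸ isQuasicoherent_pullback f F
  let ι := {V : T.affineOpens // ∃ U : S.affineOpens, (V : T.Opens) ≤ f ⁻¹ᵁ (U : S.Opens)}
  have hcov : ⨆ i : ι, ((i.1 : T.affineOpens) : T.Opens) = ⊤ := by
    apply le_antisymm le_top
    intro x' _
    obtain ⟨U, hU, hxU, -⟩ := exists_isAffineOpen_mem_and_subset (x := f x')
      (U := (⊤ : S.Opens)) trivial
    obtain ⟨U', hU', hxU', hU'le⟩ := exists_isAffineOpen_mem_and_subset (x := x')
      (U := f ⁻¹ᵁ U) hxU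
    exact TopologicalSpace.Opens.mem_iSup.mpr ⟨⟨⟨U', hU'⟩, ⟨⟨U, hU⟩, hU'le⟩⟩, hxU'⟩
  have hE : ∀ (V : T.affineOpens) (U : S.affineOpens) (e : (V : T.Opens) ≤ f ⁻¹ᵁ (U : S.Opens)),
      letI := (f.appLE U.1 V.1 e).hom.toAlgebra
      Nonempty (Γ(G, V.1) ≃ₗ[Γ(T, V.1)] Γ(T, V.1) ⊗[Γ(S, U.1)] Γ(F, U.1)) := by
    intro V U e
    subst hG
    exact ⟨sectionsPullbackEquiv f F U.2 V.2 e⟩
  have hfinV : ∀ i : ι, Module.Finite Γ(T, i.1.1) Γ(G, i.1.1) := by
    rintro ⟨V, U, e⟩
    letI := (f.appLE U.1 V.1 e).hom.toAlgebra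
    haveI := finite_sections_of_isAffineOpen F U.2
    obtain ⟨E⟩ := hE V U e
    exact Module.Finite.equiv E.symm
  have hfin : ∀ W : T.affineOpens, Module.Finite Γ(T, W.1) Γ(G, W.1) := by
    intro W
    refine of_affine_open_cover
      (P := fun V : T.affineOpens => Module.Finite Γ(T, V.1) Γ(G, V.1))
      (fun i : ι => i.1) hcov W ?_ ?_ ?_
    · intro V a h
      exact finite_basicOpen G V.2 a h
    · intro V s hs h
      exact finite_of_span G V.2 s hs h
    · exact hfinV
  refine Scheme.IdealSheafData.ext_of_iSup_eq_top (fun i : ι => i.1) hcov ?_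
  rintro ⟨V, U, e⟩
  rw [Groth.Agent.H9.comap_ideal f _ U V e, sheafIdeal_ideal, sheafIdeal_ideal' G hfin]
  letI := (f.appLE U.1 V.1 e).hom.toAlgebra
  haveI := finite_sections_of_isAffineOpen F U.2
  obtain ⟨E⟩ := hE V U e
  have hbc := fittIdeal_baseChange (R := Γ(S, U.1)) (M := Γ(F, U.1)) Γ(T, V.1) i
  have hmap : (Fitt.ideal Γ(S, U.1) Γ(F, U.1) i).map (f.appLE U.1 V.1 e).hom =
      Fitt.ideal Γ(T, V.1) (Γ(T, V.1) ⊗[Γ(S, U.1)] Γ(F, U.1)) i := hbc.symm
  rw [hmap]
  apply le_antisymm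
  · exact fittIdeal_le_of_surjective E.symm.toLinearMap E.symm.surjective i
  · exact fittIdeal_le_of_surjective E.toLinearMap E.surjective i

end Groth.Agent.S8872
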