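import Groth.Statements.S8875
import Groth.Agent.H17.FittSheaf
import Groth.Agent.H8.FreeMod
import Groth.Agent.H8.LocFree
import Groth.Agent.H8.QCohStalk

set_option autoImplicit false
universe u
open CategoryTheory CategoryTheory.Limits AlgebraicGeometry TopologicalSpace
open SDiv

namespace Groth.Agent.S8875

open Groth.Agent.H8 Groth.Agent.H34.Fit Groth.Agent.H17.FittSheaf

set_option linter.style.haveILetI false

/-- (1) ⇔ (3): let S be a scheme, F a quasi-coherent O_S-module of finite type and r ≥ 0. Then F is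
finite locally free of rank r if and only if Fit_k(F) = 0 for every k < r and Fit_k(F) = O_S for
every k ≥ r. -/
theorem result (S : Scheme.{u}) (F : S.Modules) (hF : Coh.IsQCoh F) (hft : CohB1.IsFT F)
    (r : ℕ) :
    FlatMod.IsFinLocFreeOfRank r F ↔
      (∀ k : ℕ, k < r → Fitt.sheafIdeal F k = ⊥) ∧ (∀ k : ℕ, r ≤ k → Fitt.sheafIdeal F k = ⊤) := by
  classical
  haveI : F.IsQuasicoherent := hF
  haveI : SheafOfModules.IsFiniteType (R := S.ringCatSheaf) F := hft
  constructor
  · intro h
    have hW : ∀ x : S, ∃ W : S.affineOpens, x ∈ W.1 ∧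
        Nonempty (Γ(F, W.1) ≃ₗ[Γ(S, W.1)] (Fin r → Γ(S, W.1))) := by
      intro x
      obtain ⟨U, hxU, ⟨e⟩⟩ := h x
      obtain ⟨_, ⟨W, hW, rfl⟩, hxW, hWU⟩ :=
        S.isBasis_affineOpens.exists_subset_of_mem_open hxU U.2
      exact ⟨⟨W, hW⟩, hxW, nonempty_sections_equiv_of_le F e hWU⟩
    choose W hxW hWe using hW
    have hcov : ⨆ x, (W x).1 = ⊤ := by
      rw [eq_top_iff]
      intro x _
      exact TopologicalSpace.Opens.mem_iSup.mpr ⟨x, hxW x⟩
    constructor
    · intro k hk
      refine Scheme.IdealSheafData.ext_of_iSup_eq_top W hcov (fun x => ?_)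
      rw [sheafIdeal_ideal]
      obtain ⟨e⟩ := hWe x
      rw [fittIdeal_eq_bot_of_basis (Module.Basis.ofEquivFun e) hk]
      rfl
    · intro k hk
      refine Scheme.IdealSheafData.ext_of_iSup_eq_top W hcov (fun x => ?_)
      rw [sheafIdeal_ideal]
      obtain ⟨e⟩ := hWe x
      haveI := finite_sections_of_isAffineOpen F (W x).2
      have h1 : Fitt.ideal Γ(S, (W x).1) Γ(F, (W x).1) r = ⊤ :=
        fittIdeal_eq_top_of_span (Module.Basis.ofEquivFun e) (Module.Basis.ofEquivFun e).span_eq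
      have h2 : Fitt.ideal Γ(S, (W x).1) Γ(F, (W x).1) r ≤
          Fitt.ideal Γ(S, (W x).1) Γ(F, (W x).1) k := fittIdeal_mono hk
      rw [h1] at h2
      exact top_le_iff.mp h2
  · rintro ⟨h1, h2⟩ x
    obtain ⟨_, ⟨U, hU, rfl⟩, hxU, -⟩ := S.isBasis_affineOpens.exists_subset_of_mem_open
      (Set.mem_univ x) isOpen_univ
    replace hU : IsAffineOpen U := hU
    haveI := finite_sections_of_isAffineOpen F hU
    have hloc := (locallyFree_iff_fittIdeal (R := Γ(S, U)) (M := Γ(F, U)) r).mpr
      ⟨fun k hk => by rw [← sheafIdeal_ideal F k ⟨U, hU⟩, h1 k hk]; rfl,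
       fun k hk => by rw [← sheafIdeal_ideal F k ⟨U, hU⟩, h2 k hk]; rfl⟩
    obtain ⟨f, hf, hfree, hrank⟩ := hloc (hU.primeIdealOf ⟨x, hxU⟩).asIdeal
    haveI := nontrivial_away_of_notMem _ f hf
    haveI := hfree
    let b := Module.finBasisOfFinrankEq (Localization.Away f)
      (LocalizedModule (Submonoid.powers f) Γ(F, U)) hrank
    refine ⟨S.basicOpen f, (mem_basicOpen_iff_notMem_primeIdealOf hU x hxU f).mpr hf, ?_⟩
    letI := moduleSectionBasicOpen F f
    haveI : IsScalarTower Γ(S, U) Γ(S, S.basicOpen f) Γ(F, S.basicOpen f) :=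
      IsScalarTower.of_algebraMap_smul fun _ _ => rfl
    haveI := isLocalizedModule_resBasicOpenₗ hU F f
    haveI : IsLocalization (Submonoid.powers f) Γ(S, S.basicOpen f) :=
      hU.isLocalization_basicOpen f
    exact nonempty_restrict_iso_freeMod (hU.basicOpen f) F r
      (linearEquivOfIsLocalizedModule (Submonoid.powers f)
        (LocalizedModule.mkLinearMap (Submonoid.powers f) Γ(F, U)) (resBasicOpenₗ F f) b.equivFun)

end Groth.Agent.S8875
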