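import Groth.Statements.S10847
-- import your own Groth.Agent.* helpers here
import Groth.Agent.S8872
import Groth.Agent.S8875
import Groth.Agent.H8.PullbackFinType

set_option autoImplicit false
universe u
open FlatMod

namespace Groth.Agent.S10847

open AlgebraicGeometry CategoryTheory in
/-- Let X be a scheme, F a finite-type quasi-coherent O_X-module and r a natural number. Then there is
an immersion i : Z → X (a subscheme of X) such that a morphism of schemes f : T → X factors through
i if and only if the pullback f^*F is finite locally free of rank r. -/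
theorem result {X : Scheme.{u}} (F : X.Modules)
    [Coh.IsQCoh F] (hF : CohB1.IsFT F) (r : ℕ) :
    ∃ (Z : Scheme.{u}) (i : Z ⟶ X), IsImmersion i ∧ ∀ (T : Scheme.{u}) (f : T ⟶ X),
      (∃ g : T ⟶ Z, g ≫ i = f) ↔ FlatMod.IsFinLocFreeOfRank r ((Scheme.Modules.pullback f).obj F) := by
  classical
  have hmono : ∀ {T : Scheme.{u}} (G : T.Modules) {a b : ℕ}, a ≤ b →
      Fitt.sheafIdeal G a ≤ Fitt.sheafIdeal G b := by
    intro T G a b hab
    refine Scheme.IdealSheafData.ofIdeals_mono ?_
    intro U
    refine Ideal.span_mono ?_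
    rintro d ⟨n, x, A, hx, hrel, hd⟩
    exact ⟨n, x, A, hx, fun i hi => hrel i (by omega), hd⟩
  -- the closed subscheme cut out by the Fitting ideals of index < r
  let I : X.IdealSheafData := ⨆ k : Fin r, Fitt.sheafIdeal F (k : ℕ)
  let U : X.Opens := ⟨((Fitt.sheafIdeal F r).support : Set X)ᶜ, (Fitt.sheafIdeal F r).support.isClosed.isOpen_compl⟩
  let V : I.subscheme.Opens := I.subschemeι ⁻¹ᵁ U
  refine ⟨V, V.ι ≫ I.subschemeι, inferInstance, ?_⟩
  intro T f
  haveI : F.IsQuasicoherent := ‹Coh.IsQCoh F›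
  haveI : SheafOfModules.IsFiniteType (R := X.ringCatSheaf) F := hF
  have hq : Coh.IsQCoh ((Scheme.Modules.pullback f).obj F) :=
    Groth.Agent.H8.isQuasicoherent_pullback f F
  have hft : CohB1.IsFT ((Scheme.Modules.pullback f).obj F) :=
    Groth.Agent.H8.isFiniteType_pullback f F
  rw [Groth.Agent.S8875.result T _ hq hft r]
  have hcomap : ∀ k, Fitt.sheafIdeal ((Scheme.Modules.pullback f).obj F) k =
      (Fitt.sheafIdeal F k).comap f := fun k =>
    (Groth.Agent.S8872.result f F ‹Coh.IsQCoh F› hF k).symm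
  have hbot : ∀ k, (Fitt.sheafIdeal F k).comap f = ⊥ ↔ Fitt.sheafIdeal F k ≤ f.ker := by
    intro k
    rw [← Scheme.IdealSheafData.map_bot, Scheme.IdealSheafData.le_map_iff_comap_le, le_bot_iff]
  have htop : ∀ k, (Fitt.sheafIdeal F k).comap f = ⊤ ↔
      ∀ t : T, f t ∉ ((Fitt.sheafIdeal F k).support : Set X) := by
    intro k
    rw [← Scheme.IdealSheafData.support_eq_bot_iff, Scheme.IdealSheafData.support_comap,
      SetLike.ext'_iff]
    simp only [TopologicalSpace.Closeds.coe_preimage, TopologicalSpace.Closeds.coe_bot,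
      Set.eq_empty_iff_forall_notMem, Set.mem_preimage]
  constructor
  · rintro ⟨g, rfl⟩
    refine ⟨fun k hk => ?_, fun k hk => ?_⟩
    · rw [hcomap, hbot]
      have h1 : Fitt.sheafIdeal F k ≤ I := le_iSup (fun k : Fin r => Fitt.sheafIdeal F (k : ℕ)) ⟨k, hk⟩
      have h2 : I ≤ (g ≫ V.ι ≫ I.subschemeι).ker := by
        have := Scheme.Hom.le_ker_comp (g ≫ V.ι) I.subschemeι
        rwa [I.ker_subschemeι, Category.assoc] at this
      exact h1.trans h2
    · rw [hcomap, htop]
      intro t ht
      have h1 : ((Fitt.sheafIdeal F k).support : Set X) ⊆ ((Fitt.sheafIdeal F r).support : Set X) :=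
        Scheme.IdealSheafData.support_antitone (hmono F hk)
      have h2 : (V.ι (g t)) ∈ V := (g t).2
      exact h2 (h1 ht)
  · rintro ⟨h1, h2⟩
    have hI : I.subschemeι.ker ≤ f.ker := by
      rw [I.ker_subschemeι]
      refine iSup_le fun k => ?_
      rw [← hbot, ← hcomap]
      exact h1 k k.2
    let g₁ : T ⟶ I.subscheme := IsClosedImmersion.lift I.subschemeι f hI
    have hg₁ : g₁ ≫ I.subschemeι = f := IsClosedImmersion.lift_fac _ _ _
    have hr := (htop r).mp (by rw [← hcomap]; exact h2 r le_rfl)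
    have hrange : Set.range g₁.base ⊆ Set.range V.ι.base := by
      rw [Scheme.Opens.range_ι]
      rintro _ ⟨t, rfl⟩
      show I.subschemeι (g₁ t) ∈ U
      have : I.subschemeι (g₁ t) = f t := by
        rw [← hg₁]; rfl
      rw [this]
      exact hr t
    refine ⟨IsOpenImmersion.lift V.ι g₁ hrange, ?_⟩
    rw [← Category.assoc, IsOpenImmersion.lift_fac, hg₁]

end Groth.Agent.S10847
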