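import Groth.Statements.S1085
import Mathlib
import Groth.Agent.H90.FilDBasic

set_option autoImplicit false
universe v u
open CategoryTheory CategoryTheory.Limits Opposite
open FilD

namespace Groth.Agent.S1085

/-- Let A be an abelian category and S = (X ⟶ Y ⟶ Z) a short complex (composite zero) of finite filtered
objects such that grᵖ X ⟶ grᵖ Y ⟶ grᵖ Z is exact for every p. Then for every p the sequence of p-th
filtration steps Fᵖ X ⟶ Fᵖ Y ⟶ Fᵖ Z is exact, and both morphisms of S are strict. -/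
theorem result {A : Type u} [Category.{v} A] [Abelian A] (S : ShortComplex (FilD.FilF A))
    (hS : ∀ p : ℤ, (S.map (FilD.grF A p)).Exact) :
    (∀ p : ℤ, (S.map ((FilD.IsFinFil A).ι ⋙ (evaluation ℤᵒᵖ A).obj (op p))).Exact) ∧
      FilD.IsStrict S.f ∧ FilD.IsStrict S.g := by
  have w : S.f.hom ≫ S.g.hom = 0 := congrArg (fun φ => φ.hom) S.zero
  have hH : ∀ p, Mono (S.X₃.obj.map (FilD.stepHom p)) := fun p => S.X₃.property.1 _
  have hH' : ∀ (p q : ℤ) (h : p ≤ q), Mono (H90.FilDLib.tr S.X₃.obj h) :=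
    fun p q h => S.X₃.property.1 _
  have hgr : ∀ p, H90.FilDLib.GrExact S.f.hom S.g.hom p :=
    fun p T y hy => (hS p).exact_up_to_refinements y hy
  obtain ⟨b, hb⟩ := S.X₂.property.2.1
  have hlev : ∀ p, H90.FilDLib.LevExact S.f.hom S.g.hom p :=
    H90.FilDLib.levExact_all w hH hgr b hb
  refine ⟨fun p => ?_,
    H90.FilDLib.isStrict_of_strictLift (H90.FilDLib.strictLift_f_of_levExact w hH' hlev),
    H90.FilDLib.isStrict_of_strictLift (H90.FilDLib.strictLift_g w hH hgr)⟩
  rw [ShortComplex.exact_iff_exact_up_to_refinements]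
  intro T y hy
  exact hlev p y hy

end Groth.Agent.S1085
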