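import Groth.Statements.S10851
import Groth.Agent.H95.MeroDepth
import Groth.Agent.H29.CM

set_option autoImplicit false
universe u
open Mero

namespace Groth.Agent.S10851

open AlgebraicGeometry in
/-- Let X be a locally Noetherian scheme and D a divisor on X (a global section of K_X^×/O_X^×). Then
the support of D has codimension at least 1 in X: for every point z at which the germ of D is
non-trivial, the local ring O_{X,z} has Krull dimension at least 1. -/
theorem result {X : Scheme.{u}} [IsLocallyNoetherian X]
    (D : Mero.Divisor X) (z : X) (hz : z ∈ Mero.supp D) :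
    (1 : WithBot ℕ∞) ≤ ringKrullDim (X.presheaf.stalk z) := by
  obtain ⟨z', hz'z, hd⟩ := Groth.Agent.H95.MeroDepth.exists_depth_one_of_mem_supp D z hz
  have h1 : ((LocCoh.depth (X.presheaf.stalk z') (X.presheaf.stalk z') : ℕ∞) : WithBot ℕ∞) ≤
      Module.supportDim (X.presheaf.stalk z') (X.presheaf.stalk z') :=
    Groth.Agent.H29.CM.depth_le_supportDim
  have h2 := Module.supportDim_le_ringKrullDim (X.presheaf.stalk z') (X.presheaf.stalk z')
  rw [hd] at h1
  have h3 : ringKrullDim (X.presheaf.stalk z') ≤ ringKrullDim (X.presheaf.stalk z) := by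
    rw [ringKrullDim_stalk_eq_coheight, ringKrullDim_stalk_eq_coheight]
    have hle : z ≤ z' := hz'z
    exact_mod_cast Order.coheight_anti hle
  refine le_trans ?_ (le_trans (le_trans h1 h2) h3)
  exact le_refl _

end Groth.Agent.S10851
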