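import Groth.Statements.S1086
import Mathlib
import Groth.Agent.H90.FilDBasic

set_option autoImplicit false
universe v u
open CategoryTheory CategoryTheory.Limits Opposite
open FilD

namespace Groth.Agent.S1086

/-- Let φ : X ⟶ Y be a morphism of finite filtered objects of an abelian category and let Ker φ carry
the induced filtration (the kernel computed levelwise). Then φ is strict if and only if for every p
the sequence grᵖ(Ker φ) ⟶ grᵖ X ⟶ grᵖ Y is exact. -/
theorem result {A : Type u} [Category.{v} A] [Abelian A] {X Y : FilD.FilF A} (φ : X ⟶ Y) :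
    FilD.IsStrict φ ↔
      ∀ p : ℤ, ((ShortComplex.mk (kernel.ι φ.hom) φ.hom (kernel.condition φ.hom)).map (FilD.gr A p)).Exact := by
  have wκ : kernel.ι φ.hom ≫ φ.hom = 0 := kernel.condition φ.hom
  have hG : ∀ p, Mono (Y.obj.map (FilD.stepHom p)) := fun p => Y.property.1 _
  have hK : ∀ (p : ℤ) ⦃T : A⦄ (x : T ⟶ X.obj.obj (op p)), x ≫ φ.hom.app (op p) = 0 →
      ∃ k : T ⟶ (kernel φ.hom).obj (op p), k ≫ (kernel.ι φ.hom).app (op p) = x := by
    intro p T x hx
    let c := KernelFork.ofι (kernel.ι φ.hom) (kernel.condition φ.hom)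
    have hc : IsLimit c := kernelIsKernel φ.hom
    have hc' := KernelFork.mapIsLimit c hc ((evaluation ℤᵒᵖ A).obj (op p))
    refine ⟨hc'.lift (KernelFork.ofι (f := φ.hom.app (op p)) x hx), ?_⟩
    exact hc'.fac (KernelFork.ofι (f := φ.hom.app (op p)) x hx) WalkingParallelPair.zero
  constructor
  · intro hφ p
    rw [ShortComplex.exact_iff_exact_up_to_refinements]
    exact H90.FilDLib.grExact_of_strictLift wκ hK (H90.FilDLib.strictLift_of_isStrict hφ) p
  · intro h
    apply H90.FilDLib.isStrict_of_strictLift
    apply H90.FilDLib.strictLift_of_grExact wκ hG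
    intro p
    have := h p
    rw [ShortComplex.exact_iff_exact_up_to_refinements] at this
    exact this

end Groth.Agent.S1086
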