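import Groth.Statements.S10863
import Groth.Agent.S2257
import Mathlib

set_option autoImplicit false
universe u
open CAlg

namespace Groth.Agent.S10863

theorem step1 (k A : Type u) [Field k] [CommRing A] [Algebra k A] [IsLocalRing A] :
    Field.finSepDegree k (IsLocalRing.ResidueField A) =
    Field.finSepDegree k (IsLocalRing.ResidueField
      (Localization.AtPrime (IsLocalRing.maximalIdeal A))) := by
  have hb := Ideal.bijective_algebraMap_quotient_residueField (IsLocalRing.maximalIdeal A)
  let e0 : (A ⧸ IsLocalRing.maximalIdeal A) ≃+* (IsLocalRing.maximalIdeal A).ResidueField :=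
    RingEquiv.ofBijective _ hb
  let e : IsLocalRing.ResidueField A ≃ₐ[k] (IsLocalRing.maximalIdeal A).ResidueField :=
    AlgEquiv.ofRingEquiv (f := e0) (by
      intro r
      show algebraMap (A ⧸ IsLocalRing.maximalIdeal A) (IsLocalRing.maximalIdeal A).ResidueField
        (algebraMap k (A ⧸ IsLocalRing.maximalIdeal A) r) = _
      rw [IsScalarTower.algebraMap_apply k A (A ⧸ IsLocalRing.maximalIdeal A),
        ← IsScalarTower.algebraMap_apply A (A ⧸ IsLocalRing.maximalIdeal A)
          (IsLocalRing.maximalIdeal A).ResidueField,
        ← IsScalarTower.algebraMap_apply k A (IsLocalRing.maximalIdeal A).ResidueField])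
  exact Field.finSepDegree_eq_of_equiv k _ _ e

open TensorProduct in
/-- Let k be a field, A a finite-dimensional local k-algebra with residue field κ, and k' a field
extension of k. Then the separable degree of κ over k equals the sum over the maximal ideals m' of
k' ⊗_k A (the points of the base-changed finite scheme lying over the given point) of the separable
degrees over k' of their residue fields. -/
theorem result (k A k' : Type u) [Field k] [CommRing A] [Algebra k A]
    [Module.Finite k A] [IsLocalRing A] [Field k'] [Algebra k k'] :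
    Field.finSepDegree k (IsLocalRing.ResidueField A) =
      ∑ᶠ m : MaximalSpectrum (k' ⊗[k] A),
        Field.finSepDegree k' (IsLocalRing.ResidueField (Localization.AtPrime m.asIdeal)) := by
  classical
  let Ω := AlgebraicClosure k'
  haveI hArt : IsArtinianRing A := IsArtinianRing.of_finite k A
  letI : Unique (PrimeSpectrum A) := ⟨⟨IsLocalRing.closedPoint A⟩, fun p => by
    have := IsArtinianRing.isMaximal_of_isPrime p.asIdeal
    exact PrimeSpectrum.ext (IsLocalRing.eq_maximalIdeal this)⟩
  have h1 : Nat.card (A →ₐ[k] Ω) = Field.finSepDegree k (IsLocalRing.ResidueField A) := by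
    rw [S2257.card_algHom k A Ω, finsum_unique, step1 k A]
    rfl
  have h2 : Nat.card (k' ⊗[k] A →ₐ[k'] Ω) = Nat.card (A →ₐ[k] Ω) :=
    Nat.card_congr (AlgHom.liftEquiv k k' A Ω).symm
  haveI : IsArtinianRing (k' ⊗[k] A) := IsArtinianRing.of_finite k' _
  rw [← h1, ← h2, S2257.card_algHom k' (k' ⊗[k] A) Ω]
  exact finsum_comp_equiv (IsArtinianRing.primeSpectrumEquivMaximalSpectrum (R := k' ⊗[k] A))
    (f := fun m : MaximalSpectrum (k' ⊗[k] A) => Field.finSepDegree k'
      (IsLocalRing.ResidueField (Localization.AtPrime m.asIdeal)))

end Groth.Agent.S10863
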