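import Groth.Statements.S10866
-- import your own Groth.Agent.* helpers here
import Groth.Agent.S10865
import Groth.Agent.S0046

set_option autoImplicit false
universe u
open Coherent

namespace Groth.Agent.S10866

set_option linter.style.haveILetI false
open AlgebraicGeometry CategoryTheory CategoryTheory.Limits TopologicalSpace
open scoped ZeroObject


open CategoryTheory AlgebraicGeometry in
/-- Let f : X → Y be a morphism of Noetherian schemes such that for every integral closed subscheme i :
Z → X there is a coherent O_Z-module with nonzero stalk at the generic point of Z whose direct image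
under i followed by f is coherent on Y. Then the direct image f_*F of every coherent O_X-module F is
coherent. -/
theorem result {X Y : Scheme.{u}} [IsNoetherian X] [IsNoetherian Y]
    (f : X ⟶ Y)
    (hgen : ∀ (Z : Scheme.{u}) (i : Z ⟶ X) [IsClosedImmersion i] [IsIntegral Z],
      ∃ H : Z.Modules, Coh.IsCoh H ∧ Nontrivial (H.presheaf.stalk (genericPoint Z)) ∧
        Coh.IsCoh ((Scheme.Modules.pushforward (i ≫ f)).obj H))
    (F : X.Modules) (hF : Coh.IsCoh F) : Coh.IsCoh ((Scheme.Modules.pushforward f).obj F) := by
  by_cases hne : Nonempty X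
  swap
  · have hz : IsZero F := by
      rw [Groth.Agent.H8.isZero_iff_support_eq_empty]
      ext x
      exact (hne ⟨x⟩).elim
    exact Groth.Agent.H90.QH.isCoh_of_isZero ((Scheme.Modules.pushforward f).map_isZero hz)
  let K : ObjectProperty X.Modules := fun N => Coh.IsCoh ((Scheme.Modules.pushforward f).obj N)
  haveI : K.IsClosedUnderIsomorphisms :=
    ⟨fun e h => Groth.Agent.H90.QH.isCoh_of_iso ((Scheme.Modules.pushforward f).mapIso e) h⟩
  have hq : ∀ N : X.Modules, Coh.IsCoh N →
      ((Scheme.Modules.pushforward f).obj N).IsQuasicoherent := by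
    intro N hN
    haveI : N.IsQuasicoherent := hN.1
    exact Groth.Agent.H8.isQuasicoherent_pushforward f N
  refine Groth.Agent.S10865.result X K ?_ ?_ ?_ F hF
  · -- exactness
    intro S hS c1 c2 c3
    haveI := hS.mono_f
    haveI : Mono ((Scheme.Modules.pushforward f).map S.f) := inferInstance
    refine ⟨fun k2 _ => ?_, fun k1 k3 => ?_⟩
    · exact Groth.Agent.S0046.result Y _ _ ((Scheme.Modules.pushforward f).map S.f) k2 (hq _ c1)
    · haveI := hq _ c2
      refine ⟨hq _ c2, ?_⟩
      apply Groth.Agent.H8.isFiniteType_of_forall_affine_finite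
      intro V
      haveI : IsNoetherianRing Γ(Y, (V : Y.Opens)) := IsLocallyNoetherian.component_noetherian V
      haveI : Module.Finite Γ(Y, (V : Y.Opens))
          Γ((Scheme.Modules.pushforward f).obj S.X₁, (V : Y.Opens)) :=
        Groth.Agent.H8.finite_sections_of_isCoh _ k1 V.2
      haveI : Module.Finite Γ(Y, (V : Y.Opens))
          Γ((Scheme.Modules.pushforward f).obj S.X₃, (V : Y.Opens)) :=
        Groth.Agent.H8.finite_sections_of_isCoh _ k3 V.2
      haveI : IsNoetherian Γ(Y, (V : Y.Opens))
          Γ((Scheme.Modules.pushforward f).obj S.X₁, (V : Y.Opens)) :=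
        isNoetherian_of_isNoetherianRing_of_finite _ _
      haveI : IsNoetherian Γ(Y, (V : Y.Opens))
          Γ((Scheme.Modules.pushforward f).obj S.X₃, (V : Y.Opens)) :=
        isNoetherian_of_isNoetherianRing_of_finite _ _
      let S' : ShortComplex Y.Modules := S.map (Scheme.Modules.pushforward f)
      have hS' : S'.Exact :=
        hS.exact.map_of_mono_of_preservesKernel (Scheme.Modules.pushforward f) inferInstance
          inferInstance
      haveI : Mono S'.f := inferInstanceAs (Mono ((Scheme.Modules.pushforward f).map S.f))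
      haveI n1 : IsNoetherian Γ(Y, (V : Y.Opens)) Γ(S'.X₁, (V : Y.Opens)) :=
        inferInstanceAs (IsNoetherian Γ(Y, (V : Y.Opens))
          Γ((Scheme.Modules.pushforward f).obj S.X₁, (V : Y.Opens)))
      haveI n3 : IsNoetherian Γ(Y, (V : Y.Opens)) Γ(S'.X₃, (V : Y.Opens)) :=
        inferInstanceAs (IsNoetherian Γ(Y, (V : Y.Opens))
          Γ((Scheme.Modules.pushforward f).obj S.X₃, (V : Y.Opens)))
      haveI : IsNoetherian Γ(Y, (V : Y.Opens)) Γ(S'.X₂, (V : Y.Opens)) := by
        refine isNoetherian_of_range_eq_ker (Groth.Agent.H8.appₗ S'.f (V : Y.Opens))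
          (Groth.Agent.H8.appₗ S'.g (V : Y.Opens)) ?_
        ext t
        constructor
        · rintro ⟨s, rfl⟩
          exact Groth.Agent.H8.app_comp_eq_zero S' (V : Y.Opens) s
        · intro ht
          exact Groth.Agent.H8.exists_app_eq_of_exact S' hS' (V : Y.Opens) t ht
      exact inferInstanceAs (Module.Finite Γ(Y, (V : Y.Opens)) Γ(S'.X₂, (V : Y.Opens)))
  · -- roots of powers
    intro N d hd hN hK
    have hd0 : d ≠ 0 := Nat.one_le_iff_ne_zero.mp hd
    let j : Fin d := ⟨0, Nat.pos_of_ne_zero hd0⟩
    let ι : N ⟶ ∐ fun _ : Fin d => N := Sigma.ι (fun _ : Fin d => N) j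
    let r : (∐ fun _ : Fin d => N) ⟶ N := Sigma.desc (fun _ => 𝟙 N)
    have hιr : ι ≫ r = 𝟙 N := by simp [ι, r]
    haveI : Mono ι := mono_of_mono_fac hιr
    haveI : Mono ((Scheme.Modules.pushforward f).map ι) := inferInstance
    exact Groth.Agent.S0046.result Y _ _ ((Scheme.Modules.pushforward f).map ι) hK (hq _ hN)
  · intro Z i _ _
    obtain ⟨H, hH, hne', hc⟩ := hgen Z i
    refine ⟨H, hH, hne', ?_⟩
    exact Groth.Agent.H90.QH.isCoh_of_iso
      ((Scheme.Modules.pushforwardComp i f).app H).symm hc

end Groth.Agent.S10866
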