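import Groth.Statements.S10868
-- import your own Groth.Agent.* helpers here

set_option autoImplicit false
universe u
open Mor

namespace Groth.Agent.S10868

open CategoryTheory AlgebraicGeometry in
theorem isAffine_of_isProper_of_isQuasiAffine {X Y : Scheme.{u}} (f : X ⟶ Y) [IsProper f]
    [IsAffine Y] [X.IsQuasiAffine] : IsAffine X := by
  have h1 : IsProper (X.toSpecΓ ≫ Spec.map f.appTop) := by
    rwa [← Scheme.toSpecΓ_naturality,
      MorphismProperty.cancel_right_of_respectsIso (P := @IsProper)]
  have h2 : IsProper X.toSpecΓ := .of_comp _ (Spec.map f.appTop)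
  have h3 : IsClosedImmersion X.toSpecΓ :=
    .of_isPreimmersion _ (X.toSpecΓ.isClosedMap.isClosed_range)
  exact isAffine_of_isAffineHom X.toSpecΓ

open CategoryTheory AlgebraicGeometry in
/-- f : X → Y is a finite morphism exactly when it is proper and quasi-affine (quasi-compact, with the
inverse image of every affine open subscheme of Y a quasi-affine scheme). -/
theorem result {X Y : Scheme.{u}} (f : X ⟶ Y) :
    IsFinite f ↔ IsProper f ∧ Mor2.IsQuasiAffine f := by
  constructor
  · intro hf
    refine ⟨inferInstance, inferInstance, ?_⟩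
    intro V hV
    have : IsAffine (f ⁻¹ᵁ V : Scheme.{u}) := hV.preimage f
    infer_instance
  · rintro ⟨hp, hqc, hqa⟩
    refine IsFinite.iff_isProper_and_isAffineHom.mpr ⟨hp, ⟨?_⟩⟩
    intro V hV
    have : IsAffine (V : Scheme.{u}) := hV
    have := hqa V hV
    exact isAffine_of_isProper_of_isQuasiAffine (f ∣_ V)

end Groth.Agent.S10868
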