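import Groth.Statements.S10869
import Groth.Agent.H41.CounitGG

set_option autoImplicit false
universe u
open Coh

namespace Groth.Agent.S10869

open CategoryTheory AlgebraicGeometry in
/-- For f : X → S quasi-compact and quasi-separated and F a quasi-coherent O_X-module, the counit
f^*f_*F → F is an epimorphism iff F is a quotient of f^*G for some quasi-coherent O_S-module G, iff
the restriction of F to the inverse image of every affine open of S is globally generated. -/
theorem result {X S : Scheme.{u}} (f : X ⟶ S) [QuasiCompact f] [QuasiSeparated f]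
    (F : X.Modules) (hF : Coh.IsQCoh F) :
    (Epi ((Scheme.Modules.pullbackPushforwardAdjunction f).counit.app F) ↔
      ∃ G : S.Modules, Coh.IsQCoh G ∧ ∃ φ : (Scheme.Modules.pullback f).obj G ⟶ F, Epi φ) ∧
    (Epi ((Scheme.Modules.pullbackPushforwardAdjunction f).counit.app F) ↔
      ∀ U : S.Opens, IsAffineOpen U → Curv2.IsGloballyGenerated (F.restrict (f ⁻¹ᵁ U).ι)) := by
  have hFq : F.IsQuasicoherent := hF
  refine ⟨⟨fun h => ⟨(Scheme.Modules.pushforward f).obj F,
    Groth.Agent.H8.isQuasicoherent_pushforward f F, _, h⟩, ?_⟩, ⟨fun h U hU =>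
      Groth.Agent.H41.CounitGG.isGloballyGenerated_restrict_of_epi f F h U hU, ?_⟩⟩
  · rintro ⟨G, -, φ, hφ⟩
    have e : (Scheme.Modules.pullback f).map
        ((Scheme.Modules.pullbackPushforwardAdjunction f).homEquiv G F φ) ≫
        (Scheme.Modules.pullbackPushforwardAdjunction f).counit.app F = φ :=
      ((Scheme.Modules.pullbackPushforwardAdjunction f).homEquiv G F).symm_apply_apply φ
    have h2 : Epi ((Scheme.Modules.pullback f).map
        ((Scheme.Modules.pullbackPushforwardAdjunction f).homEquiv G F φ) ≫
        (Scheme.Modules.pullbackPushforwardAdjunction f).counit.app F) := by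
      rw [e]
      exact hφ
    exact @epi_of_epi _ _ _ _ _ _ _ h2
  · intro h
    apply Groth.Agent.H22.RelTwistGG.epi_counit_of_cover
    intro x
    obtain ⟨V, hV, hxV, -⟩ := (TopologicalSpace.Opens.isBasis_iff_nbhd.mp S.isBasis_affineOpens)
      (show f x ∈ (⊤ : S.Opens) from trivial)
    exact ⟨V, hxV, h V hV⟩

end Groth.Agent.S10869
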