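import Groth.Statements.S10871
import Mathlib.RingTheory.DedekindDomain.Ideal.Basic
import Mathlib.AlgebraicGeometry.Morphisms.Affine

set_option autoImplicit false
universe u
open AlgebraicGeometry
open Curves

namespace Groth.Agent.S10871

open scoped nonZeroDivisors in
theorem exists_locally_principal (A : Type u) [CommRing A] [IsDedekindDomain A] (I : Ideal A)
    (hI : I ≠ ⊥) (p : Ideal A) [hp : p.IsPrime] :
    ∃ f x : A, f ∉ p ∧ x ∈ I ∧ ∀ y ∈ I, f * y ∈ Ideal.span {x} := by
  by_contra hcon
  push Not at hcon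
  let K := FractionRing A
  set J : FractionalIdeal A⁰ K := (I : FractionalIdeal A⁰ K) with hJdef
  have hJ : J ≠ 0 := FractionalIdeal.coeIdeal_ne_zero.mpr hI
  have hmul : J * J⁻¹ = 1 := mul_inv_cancel₀ hJ
  have hle : J * J⁻¹ ≤ (p : FractionalIdeal A⁰ K) := by
    rw [FractionalIdeal.mul_le]
    intro i hi j hj
    obtain ⟨x, hxI, rfl⟩ := (FractionalIdeal.mem_coeIdeal A⁰).mp hi
    rw [FractionalIdeal.mem_inv_iff hJ] at hj
    obtain ⟨f, hf⟩ := (FractionalIdeal.mem_one_iff A⁰).mp (hj _ hi)
    have hfp : f ∈ p := by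
      by_contra hfp
      obtain ⟨y, hyI, hy⟩ := hcon f x hfp hxI
      apply hy
      obtain ⟨c, hc⟩ := (FractionalIdeal.mem_one_iff A⁰).mp
        (hj _ (FractionalIdeal.mem_coeIdeal_of_mem A⁰ hyI))
      rw [Ideal.mem_span_singleton']
      refine ⟨c, ?_⟩
      apply IsFractionRing.injective A K
      rw [map_mul, map_mul, hc, hf]
      ring
    rw [mul_comm, ← hf]
    exact FractionalIdeal.mem_coeIdeal_of_mem A⁰ hfp
  rw [hmul] at hle
  have h1 : (1 : K) ∈ (p : FractionalIdeal A⁰ K) := hle (FractionalIdeal.one_mem_one A⁰)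
  obtain ⟨z, hz, hz1⟩ := (FractionalIdeal.mem_coeIdeal A⁰).mp h1
  have : z = 1 := IsFractionRing.injective A K (by rw [hz1, map_one])
  rw [this] at hz
  exact hp.ne_top ((Ideal.eq_top_iff_one _).mpr hz)

/-- Every open subscheme of the spectrum of a Dedekind domain is affine. -/
theorem result (A : Type u) [CommRing A] [IsDedekindDomain A]
    (U : (Spec (CommRingCat.of A)).Opens) : IsAffineOpen U := by
  let S : Set (PrimeSpectrum A) := U.carrier
  have hSo : IsOpen S := U.isOpen
  set I : Ideal A := PrimeSpectrum.vanishingIdeal Sᶜ with hIdef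
  have hUc : IsClosed Sᶜ := hSo.isClosed_compl
  have hzero : PrimeSpectrum.zeroLocus (I : Set A) = Sᶜ := by
    rw [hIdef, PrimeSpectrum.zeroLocus_vanishingIdeal_eq_closure, hUc.closure_eq]
  have hmem : ∀ q : PrimeSpectrum A, q ∈ U ↔ ¬ I ≤ q.asIdeal := by
    intro q
    have : q ∈ Sᶜ ↔ I ≤ q.asIdeal := by
      rw [← hzero, PrimeSpectrum.mem_zeroLocus]; rfl
    rw [← this, Set.mem_compl_iff, not_not]
    rfl
  by_cases hI : I = ⊥
  · have : U = ⊥ := by
      rw [eq_bot_iff]
      intro q hq
      have h1 := (hmem q).mp hq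
      rw [hI] at h1
      exact absurd bot_le h1
    rw [this]
    exact isAffineOpen_bot _
  have haff : IsAffineHom U.ι := by
    apply isAffineHom_of_forall_exists_isAffineOpen
    intro p
    obtain ⟨f, x, hfp, hxI, hfx⟩ := exists_locally_principal A I hI p.asIdeal
    refine ⟨PrimeSpectrum.basicOpen f, hfp, IsAffineOpen.Spec_basicOpen (R := CommRingCat.of A) f, ?_⟩
    rw [← U.ι.isAffineOpen_iff_of_isOpenImmersion, Scheme.Hom.image_preimage_eq_opensRange_inf,
      Scheme.Opens.opensRange_ι]
    have heq : U ⊓ PrimeSpectrum.basicOpen f = PrimeSpectrum.basicOpen (f * x) := by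
      refine TopologicalSpace.Opens.ext (Set.ext fun (q : PrimeSpectrum A) => ?_)
      show q ∈ U ∧ f ∉ q.asIdeal ↔ f * x ∉ q.asIdeal
      rw [hmem q]
      constructor
      · rintro ⟨hq, hfq⟩ hfxq
        apply hq
        intro y hy
        have h1 : f * y ∈ q.asIdeal := by
          have := hfx y hy
          rw [Ideal.mem_span_singleton'] at this
          obtain ⟨c, hc⟩ := this
          rw [← hc]
          rcases q.isPrime.mem_or_mem hfxq with h | h
          · exact absurd h hfq
          · exact Ideal.mul_mem_left _ _ h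
        rcases q.isPrime.mem_or_mem h1 with h | h
        · exact absurd h hfq
        · exact h
      · intro hfxq
        refine ⟨fun hle => hfxq (Ideal.mul_mem_left _ _ (hle hxI)), fun hfq => hfxq ?_⟩
        exact Ideal.mul_mem_right _ _ hfq
    rw [heq]
    exact IsAffineOpen.Spec_basicOpen (R := CommRingCat.of A) (f * x)
  exact isAffine_of_isAffineHom U.ι

end Groth.Agent.S10871
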