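import Groth.Statements.S10876
import Groth.Agent.Lead.FlatDescentLocal

set_option autoImplicit false
universe u
open TensorProduct
open CAlg

namespace Groth.Agent.S10876

/-- Descent of flatness along finite injective maps: let A → B be a local homomorphism of Noetherian
local rings and A → A' an injective ring homomorphism making A' a finite A-module. Then B is A-flat
if and only if the base change A' ⊗_A B is A'-flat. -/
theorem result (A B A' : Type u) [CommRing A] [CommRing B]
    [CommRing A'] [IsNoetherianRing A] [IsLocalRing A] [IsNoetherianRing B] [IsLocalRing B]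
    [Algebra A B] [IsLocalHom (algebraMap A B)] [Algebra A A'] [Module.Finite A A']
    (hinj : Function.Injective (algebraMap A A')) :
    Module.Flat A B ↔ Module.Flat A' (A' ⊗[A] B) := by
  constructor
  · intro h
    infer_instance
  · intro h
    refine Groth.Agent.Lead.flat_of_baseChange_of_cofinal (A' := A') (fun k => ?_)
    set N : Submodule A A' := LinearMap.range (Algebra.linearMap A A') with hNdef
    obtain ⟨c, hc⟩ := Ideal.exists_pow_inf_eq_pow_smul (IsLocalRing.maximalIdeal A) N
    refine ⟨(IsLocalRing.maximalIdeal A ^ (c + k)).map (algebraMap A A'),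
      ⟨c + k, Ideal.le_comap_map⟩, ?_⟩
    have hc' := hc (c + k) (Nat.le_add_right c k)
    rw [Nat.add_sub_cancel_left] at hc'
    intro a ha
    have ha' : algebraMap A A' a ∈ (IsLocalRing.maximalIdeal A ^ (c + k)).map (algebraMap A A') := ha
    have h1 : algebraMap A A' a ∈
        ((IsLocalRing.maximalIdeal A ^ (c + k) • ⊤ ⊓ N : Submodule A A')) := by
      refine ⟨?_, ⟨a, rfl⟩⟩
      rw [Ideal.smul_top_eq_map]
      exact ha'
    rw [hc'] at h1
    have h2 : algebraMap A A' a ∈ (IsLocalRing.maximalIdeal A ^ k • N : Submodule A A') :=
      Submodule.smul_mono le_rfl inf_le_right h1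
    have h3 : (IsLocalRing.maximalIdeal A ^ k • N : Submodule A A') =
        Submodule.map (Algebra.linearMap A A') (IsLocalRing.maximalIdeal A ^ k) := by
      rw [hNdef, LinearMap.range_eq_map, ← Submodule.map_smul'']
      congr 1
      simp
    rw [h3] at h2
    obtain ⟨b, hb, hba⟩ := h2
    have : b = a := hinj hba
    rwa [← this]

end Groth.Agent.S10876
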