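import Groth.Statements.S10877
import Mathlib.AlgebraicGeometry.Morphisms.LocalIso
import Mathlib.AlgebraicGeometry.Morphisms.UniversallyOpen

set_option autoImplicit false
universe u
open CategoryTheory AlgebraicGeometry
open FlatMor

namespace Groth.Agent.S10877


open AlgebraicGeometry CategoryTheory Limits in
/-- Two morphisms into a separated `Z`-scheme which agree on a dominant `W` agree on points. -/
theorem eq_on_points_of_isDominant_of_isSeparated {W X Y Z : Scheme.{u}} {f g : X ⟶ Y}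
    (s : Y ⟶ Z) [IsSeparated s] (h : f ≫ s = g ≫ s)
    (ι : W ⟶ X) [IsDominant ι] (hU : ι ≫ f = ι ≫ g) (x : X) : f x = g x := by
  let X' : Over Z := Over.mk (f ≫ s)
  let Y' : Over Z := Over.mk s
  let U' : Over Z := Over.mk (ι ≫ f ≫ s)
  let f' : X' ⟶ Y' := Over.homMk f
  let g' : X' ⟶ Y' := Over.homMk g
  let ι' : U' ⟶ X' := Over.homMk ι
  have : IsSeparated Y'.hom := ‹_›
  have : IsDominant (equalizer.ι f' g').left := by
    apply +allowSynthFailures IsDominant.of_comp (equalizer.lift ι' ?_).left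
    · rwa [← Over.comp_left, equalizer.lift_ι]
    · ext1; exact hU
  have : Surjective (equalizer.ι f' g').left :=
    surjective_of_isDominant_of_isClosed_range _ (Scheme.Hom.isClosedEmbedding _).isClosed_range
  obtain ⟨e, rfl⟩ := (equalizer.ι f' g').left.surjective x
  have hc : (equalizer.ι f' g').left ≫ f = (equalizer.ι f' g').left ≫ g :=
    congr($(equalizer.condition f' g').left)
  rw [← Scheme.Hom.comp_apply, ← Scheme.Hom.comp_apply, hc]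

open AlgebraicGeometry CategoryTheory Limits in
theorem injective_aux {X Y : Scheme.{u}} (f : X ⟶ Y) [IsSeparated f] (U₁ U₂ : X.Opens)
    (hd₂ : Dense (U₂ : Set X))
    [IsOpenImmersion (U₁.ι ≫ f)] [IsOpenImmersion (U₂.ι ≫ f)]
    (x₁ x₂ : X) (h₁ : x₁ ∈ U₁) (h₂ : x₂ ∈ U₂) (h12 : f x₁ = f x₂) : x₁ = x₂ := by
  -- the two local sections
  have hr₁ : Set.range ((U₁.ι ≫ f).opensRange ⊓ (U₂.ι ≫ f).opensRange).ι ⊆
      Set.range (U₁.ι ≫ f) := by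
    rw [Scheme.Opens.range_ι]; exact fun y hy => hy.1
  have hr₂ : Set.range ((U₁.ι ≫ f).opensRange ⊓ (U₂.ι ≫ f).opensRange).ι ⊆
      Set.range (U₂.ι ≫ f) := by
    rw [Scheme.Opens.range_ι]; exact fun y hy => hy.2
  have hl₁ := IsOpenImmersion.lift_fac (U₁.ι ≫ f) _ hr₁
  have hl₂ := IsOpenImmersion.lift_fac (U₂.ι ≫ f) _ hr₂
  generalize IsOpenImmersion.lift (U₁.ι ≫ f) _ hr₁ = l₁ at hl₁
  generalize IsOpenImmersion.lift (U₂.ι ≫ f) _ hr₂ = l₂ at hl₂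
  -- the dominant open
  have hr₃ : Set.range ((U₁ ⊓ U₂).ι ≫ f) ⊆
      Set.range ((U₁.ι ≫ f).opensRange ⊓ (U₂.ι ≫ f).opensRange).ι := by
    rw [Scheme.Opens.range_ι]
    rintro _ ⟨w, rfl⟩
    exact ⟨⟨⟨w.1, w.2.1⟩, rfl⟩, ⟨⟨w.1, w.2.2⟩, rfl⟩⟩
  have hl₃ := IsOpenImmersion.lift_fac
    ((U₁.ι ≫ f).opensRange ⊓ (U₂.ι ≫ f).opensRange).ι ((U₁ ⊓ U₂).ι ≫ f) hr₃
  generalize IsOpenImmersion.lift
    ((U₁.ι ≫ f).opensRange ⊓ (U₂.ι ≫ f).opensRange).ι ((U₁ ⊓ U₂).ι ≫ f) hr₃ = l₃ at hl₃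
  have e₁ : l₃ ≫ l₁ ≫ U₁.ι = (U₁ ⊓ U₂).ι := by
    have : l₃ ≫ l₁ = X.homOfLE (inf_le_left : U₁ ⊓ U₂ ≤ U₁) := by
      rw [← cancel_mono (U₁.ι ≫ f), Category.assoc, hl₁, hl₃, ← Category.assoc, X.homOfLE_ι]
    rw [← Category.assoc, this, X.homOfLE_ι]
  have e₂ : l₃ ≫ l₂ ≫ U₂.ι = (U₁ ⊓ U₂).ι := by
    have : l₃ ≫ l₂ = X.homOfLE (inf_le_right : U₁ ⊓ U₂ ≤ U₂) := by
      rw [← cancel_mono (U₂.ι ≫ f), Category.assoc, hl₂, hl₃, ← Category.assoc, X.homOfLE_ι]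
    rw [← Category.assoc, this, X.homOfLE_ι]
  haveI : IsDominant l₃ := by
    refine ⟨fun v => ?_⟩
    rw [mem_closure_iff]
    intro O hO hvO
    -- the point of U₁ over v
    obtain ⟨u, hu⟩ := v.2.1
    have hOY : IsOpen (((U₁.ι ≫ f).opensRange ⊓ (U₂.ι ≫ f).opensRange).ι '' O) :=
      ((U₁.ι ≫ f).opensRange ⊓ (U₂.ι ≫ f).opensRange).ι.isOpenEmbedding.isOpenMap O hO
    have hopen : IsOpen ((U₁ : Set X) ∩ f ⁻¹'
        (((U₁.ι ≫ f).opensRange ⊓ (U₂.ι ≫ f).opensRange).ι '' O)) :=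
      U₁.2.inter (hOY.preimage f.continuous)
    obtain ⟨w, ⟨hwU₁, hwO⟩, hwU₂⟩ := hd₂.inter_open_nonempty _ hopen
      ⟨u.1, u.2, ⟨v, hvO, hu.symm⟩⟩
    obtain ⟨v', hv'O, hv'⟩ := hwO
    refine ⟨v', hv'O, ⟨⟨w, hwU₁, hwU₂⟩, ?_⟩⟩
    apply ((U₁.ι ≫ f).opensRange ⊓ (U₂.ι ≫ f).opensRange).ι.isOpenEmbedding.injective
    rw [← Scheme.Hom.comp_apply, hl₃, hv']
    rfl
  have key := eq_on_points_of_isDominant_of_isSeparated (f := l₁ ≫ U₁.ι) (g := l₂ ≫ U₂.ι) f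
    (by rw [Category.assoc, Category.assoc, hl₁, hl₂]) l₃ (by rw [e₁, e₂])
    ⟨f x₁, ⟨⟨⟨x₁, h₁⟩, rfl⟩, ⟨⟨x₂, h₂⟩, h12.symm⟩⟩⟩
  have k₁ : (l₁ ≫ U₁.ι) ⟨f x₁, ⟨⟨⟨x₁, h₁⟩, rfl⟩, ⟨⟨x₂, h₂⟩, h12.symm⟩⟩⟩ = x₁ := by
    have : l₁ ⟨f x₁, ⟨⟨⟨x₁, h₁⟩, rfl⟩, ⟨⟨x₂, h₂⟩, h12.symm⟩⟩⟩ = ⟨x₁, h₁⟩ := by
      apply (U₁.ι ≫ f).isOpenEmbedding.injective
      rw [← Scheme.Hom.comp_apply, hl₁]
      rfl
    rw [Scheme.Hom.comp_apply, this]
    rfl
  have k₂ : (l₂ ≫ U₂.ι) ⟨f x₁, ⟨⟨⟨x₁, h₁⟩, rfl⟩, ⟨⟨x₂, h₂⟩, h12.symm⟩⟩⟩ = x₂ := by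
    have : l₂ ⟨f x₁, ⟨⟨⟨x₁, h₁⟩, rfl⟩, ⟨⟨x₂, h₂⟩, h12.symm⟩⟩⟩ = ⟨x₂, h₂⟩ := by
      apply (U₂.ι ≫ f).isOpenEmbedding.injective
      rw [← Scheme.Hom.comp_apply, hl₂]
      exact h12
    rw [Scheme.Hom.comp_apply, this]
    rfl
  exact k₁.symm.trans (key.trans k₂)


/-- A separated morphism f : X → Y, with X having finitely many irreducible components, which restricts
to an open immersion on each member of a cover of X by dense open subsets, is an open immersion. -/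
theorem result {X Y : Scheme.{u}} (f : X ⟶ Y) [IsSeparated f]
    (hfin : (irreducibleComponents (X : Type u)).Finite) {ι : Type u} (U : ι → X.Opens)
    (hU : ⨆ i, U i = ⊤) (hd : ∀ i, Dense (U i : Set X)) (h : ∀ i, IsOpenImmersion ((U i).ι ≫ f)) :
    IsOpenImmersion f := by

  have hloc : IsLocalIso f := by
    refine ⟨fun x => ?_⟩
    have hx : x ∈ ⨆ i, U i := by rw [hU]; trivial
    obtain ⟨i, hi⟩ := TopologicalSpace.Opens.mem_iSup.mp hx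
    exact ⟨U i, hi, h i⟩
  haveI hst : ∀ x, IsIso (f.stalkMap x) := fun x => by
    obtain ⟨V, hxV, hV⟩ := hloc.exists_isOpenImmersion x
    haveI := hV
    have h1 : IsIso ((V.ι ≫ f).stalkMap (⟨x, hxV⟩ : (V : Scheme.{u}))) := inferInstance
    rw [Scheme.Hom.stalkMap_comp] at h1
    exact @IsIso.of_isIso_comp_right _ _ _ _ _ (f.stalkMap (V.ι ⟨x, hxV⟩))
      (V.ι.stalkMap ⟨x, hxV⟩) inferInstance h1
  have hinj : Function.Injective f := by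
    intro x₁ x₂ h12
    have hx₁ : x₁ ∈ ⨆ i, U i := by rw [hU]; trivial
    have hx₂ : x₂ ∈ ⨆ i, U i := by rw [hU]; trivial
    obtain ⟨i, hi⟩ := TopologicalSpace.Opens.mem_iSup.mp hx₁
    obtain ⟨j, hj⟩ := TopologicalSpace.Opens.mem_iSup.mp hx₂
    haveI := h i
    haveI := h j
    exact injective_aux f (U i) (U j) (hd j) x₁ x₂ hi hj h12
  haveI : UniversallyOpen f := IsLocalIso.le_of_isZariskiLocalAtSource @UniversallyOpen _ _ f hloc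
  exact IsOpenImmersion.of_isIso_stalkMap f
    (.of_continuous_injective_isOpenMap f.continuous hinj f.isOpenMap)

end Groth.Agent.S10877
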