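import Groth.Statements.S10878
import Groth.Agent.H49.NearFibre

set_option autoImplicit false
universe u
open CategoryTheory AlgebraicGeometry
open FlatMor

namespace Groth.Agent.S10878

theorem key {X Y : Scheme.{u}} (f : X ⟶ Y) [IsSeparated f] (U : X.Opens)
    (hd : Dense (U : Set X)) [IsImmersion (U.ι ≫ f)] :
    (U ≤ f ⁻¹ᵁ (U.ι ≫ f).coborderRange) ∧
      IsClosedImmersion (f ∣_ (U.ι ≫ f).coborderRange) := by
  have hA : U ≤ f ⁻¹ᵁ (U.ι ≫ f).coborderRange := by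
    intro x hx
    show f x ∈ coborder (Set.range (U.ι ≫ f))
    apply subset_coborder
    exact ⟨⟨x, hx⟩, rfl⟩
  refine ⟨hA, ?_⟩
  let j := X.homOfLE hA
  have hj : j ≫ (f ⁻¹ᵁ (U.ι ≫ f).coborderRange).ι = U.ι := X.homOfLE_ι hA
  have hB : j ≫ f ∣_ (U.ι ≫ f).coborderRange = (U.ι ≫ f).liftCoborder := by
    rw [← cancel_mono (U.ι ≫ f).coborderRange.ι, Category.assoc, morphismRestrict_ι,
      ← Category.assoc, hj, (U.ι ≫ f).liftCoborder_ι]
  haveI : IsClosedImmersion (j ≫ f ∣_ (U.ι ≫ f).coborderRange) := by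
    rw [hB]; infer_instance
  haveI : IsClosedImmersion j := IsClosedImmersion.of_comp j (f ∣_ (U.ι ≫ f).coborderRange)
  haveI : IsIso j := by
    rw [isIso_iff_isOpenImmersion_and_surjective]
    refine ⟨inferInstance, ⟨?_⟩⟩
    rw [← Set.range_eq_univ, ← j.isClosedEmbedding.isClosed_range.closure_eq]
    have hr : (f ⁻¹ᵁ (U.ι ≫ f).coborderRange).ι '' Set.range j = (U : Set X) := by
      rw [← Set.range_comp, ← TopCat.coe_comp, ← Scheme.Hom.comp_base, hj, Scheme.Opens.range_ι]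
    have hr' : Set.range j = (f ⁻¹ᵁ (U.ι ≫ f).coborderRange).ι ⁻¹' (U : Set X) := by
      rw [← hr, Set.preimage_image_eq _
        (f ⁻¹ᵁ (U.ι ≫ f).coborderRange).ι.isOpenEmbedding.injective]
    rw [hr']
    exact (hd.preimage (f ⁻¹ᵁ (U.ι ≫ f).coborderRange).ι.isOpenEmbedding.isOpenMap).closure_eq
  have : f ∣_ (U.ι ≫ f).coborderRange = inv j ≫ (U.ι ≫ f).liftCoborder := by
    rw [← hB, IsIso.inv_hom_id_assoc]
  rw [this]
  infer_instance


/-- A separated morphism f : X → Y, with X having finitely many irreducible components, which restricts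
to an immersion on each member of a cover of X by dense open subsets, is an immersion. -/
theorem result {X Y : Scheme.{u}} (f : X ⟶ Y) [IsSeparated f]
    (hfin : (irreducibleComponents (X : Type u)).Finite) {ι : Type u} (U : ι → X.Opens)
    (hU : ⨆ i, U i = ⊤) (hd : ∀ i, Dense (U i : Set X)) (h : ∀ i, IsImmersion ((U i).ι ≫ f)) :
    IsImmersion f := by
  let Oi : ι → Y.Opens := fun i => @Scheme.Hom.coborderRange _ _ ((U i).ι ≫ f) (h i)
  have hkey : ∀ i, (U i ≤ f ⁻¹ᵁ Oi i) ∧ IsClosedImmersion (f ∣_ Oi i) := fun i =>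
    @key _ _ f _ (U i) (hd i) (h i)
  have hcl : IsClosedImmersion (f ∣_ (⨆ i, Oi i)) := by
    apply Groth.Agent.H49.NearFibre.morphismRestrict_of_forall_exists @IsClosedImmersion
    intro y hy
    obtain ⟨i, hi⟩ := TopologicalSpace.Opens.mem_iSup.mp hy
    exact ⟨Oi i, hi, (hkey i).2⟩
  have htop : f ⁻¹ᵁ (⨆ i, Oi i) = ⊤ := by
    refine eq_top_iff.mpr fun x _ => ?_
    have hx : x ∈ ⨆ i, U i := by rw [hU]; trivial
    obtain ⟨i, hi⟩ := TopologicalSpace.Opens.mem_iSup.mp hx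
    show f x ∈ ⨆ i, Oi i
    exact TopologicalSpace.Opens.mem_iSup.mpr ⟨i, (hkey i).1 hi⟩
  haveI : IsIso (f ⁻¹ᵁ (⨆ i, Oi i)).ι := by
    rw [isIso_iff_isOpenImmersion_and_surjective]
    refine ⟨inferInstance, ⟨fun x => ?_⟩⟩
    have : x ∈ Set.range (f ⁻¹ᵁ (⨆ i, Oi i)).ι := by
      rw [Scheme.Opens.range_ι, htop]; trivial
    exact this
  haveI := hcl
  have : f = inv (f ⁻¹ᵁ (⨆ i, Oi i)).ι ≫ (f ∣_ (⨆ i, Oi i) ≫ (⨆ i, Oi i).ι) := by
    rw [morphismRestrict_ι, IsIso.inv_hom_id_assoc]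
  rw [this]
  infer_instance

end Groth.Agent.S10878
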