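import Groth.Statements.S10879
import Mathlib

set_option autoImplicit false
set_option maxHeartbeats 400000
universe u
open CategoryTheory AlgebraicGeometry
open FlatMor

namespace Groth.Agent.S10879

open CategoryTheory CategoryTheory.Limits AlgebraicGeometry

set_option backward.isDefEq.respectTransparency.types false in
theorem flat_fromSpecStalk (X : Scheme.{u}) (x : X) : Flat (X.fromSpecStalk x) := by
  let U : X.Opens := (X.affineCover.f (X.affineCover.idx x)).opensRange
  have hU : IsAffineOpen U := isAffineOpen_opensRange _
  have hxU : x ∈ U := X.affineCover.covers x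
  rw [← hU.fromSpecStalk_eq_fromSpecStalk hxU]
  unfold IsAffineOpen.fromSpecStalk
  letI := X.presheaf.algebra_section_stalk ⟨x, hxU⟩
  haveI := hU.isLocalization_stalk ⟨x, hxU⟩
  haveI : Flat (Spec.map (X.presheaf.germ U x hxU)) := by
    rw [Flat.SpecMap_iff]
    have hfl : Module.Flat Γ(X, U) (X.presheaf.stalk x) :=
      IsLocalization.flat _ (hU.primeIdealOf ⟨x, hxU⟩).asIdeal.primeCompl
    exact (RingHom.flat_algebraMap_iff).mpr hfl
  infer_instance

theorem eq_generic_of_map_eq {X' X : Scheme.{u}} [IsIntegral X'] (f : X' ⟶ X)
    (hK : IsIso (f.stalkMap (genericPoint X'))) (x' : X') (hx : f x' = f (genericPoint X')) :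
    x' = genericPoint X' := by
  have hsp : genericPoint X' ⤳ x' := (genericPoint_spec X').specializes trivial
  have hnat := Scheme.Hom.stalkSpecializes_stalkMap f (genericPoint X') x' hsp
  haveI : IsIso (X.presheaf.stalkSpecializes (f.base.hom.map_specializes hsp)) := by
    change IsIso (X.presheaf.stalkCongr (Inseparable.of_eq hx)).hom
    infer_instance
  haveI := hK
  have hiso : IsIso (f.stalkMap x' ≫ X'.presheaf.stalkSpecializes hsp) := by
    rw [← hnat]; infer_instance
  have hsurj : Function.Surjective (X'.presheaf.stalkSpecializes hsp).hom := by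
    have h2 := (ConcreteCategory.bijective_of_isIso
      (f.stalkMap x' ≫ X'.presheaf.stalkSpecializes hsp)).2
    intro y
    obtain ⟨z, hz⟩ := h2 y
    exact ⟨(f.stalkMap x').hom z, by simpa using hz⟩
  have hinj : Function.Injective (X'.presheaf.stalkSpecializes hsp).hom :=
    IsFractionRing.injective (X'.presheaf.stalk x') X'.functionField
  let e : X'.presheaf.stalk x' ≃+* X'.functionField :=
    RingEquiv.ofBijective (X'.presheaf.stalkSpecializes hsp).hom ⟨hinj, hsurj⟩
  haveI : Subsingleton (PrimeSpectrum (X'.presheaf.stalk x')) :=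
    (PrimeSpectrum.comapEquiv e).toEquiv.subsingleton
  haveI : Subsingleton ↥(Spec (X'.presheaf.stalk x')) :=
    inferInstanceAs (Subsingleton (PrimeSpectrum (X'.presheaf.stalk x')))
  have h1 : genericPoint X' ∈ Set.range (X'.fromSpecStalk x') := by
    rw [Scheme.range_fromSpecStalk]; exact hsp
  obtain ⟨b, hb⟩ := h1
  have h2 := Scheme.fromSpecStalk_closedPoint (X := X') (x := x')
  rw [← h2, ← hb]
  congr 1
  exact Subsingleton.elim _ _

set_option backward.isDefEq.respectTransparency.types false in
theorem isIso_snd_of_isPullback {X' X G : Scheme.{u}} [IsIntegral X'] (f : X' ⟶ X)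
    (hK : IsIso (f.stalkMap (genericPoint X')))
    (r : G ⟶ X') (q : G ⟶ Spec (X'.presheaf.stalk (genericPoint X')))
    (h : IsPullback r q f (X'.fromSpecStalk (genericPoint X') ≫ f)) : IsIso q := by
  letI : Field (X'.presheaf.stalk (genericPoint X')) := inferInstanceAs (Field X'.functionField)
  haveI : Subsingleton ↥(Spec (X'.presheaf.stalk (genericPoint X'))) :=
    inferInstanceAs (Subsingleton (PrimeSpectrum (X'.presheaf.stalk (genericPoint X'))))
  haveI := hK
  have hm : X'.fromSpecStalk (genericPoint X') ≫ f =
      Spec.map (f.stalkMap (genericPoint X')) ≫ X.fromSpecStalk (f (genericPoint X')) :=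
    (Scheme.SpecMap_stalkMap_fromSpecStalk f).symm
  haveI : IsPreimmersion (X'.fromSpecStalk (genericPoint X') ≫ f) := by
    rw [hm]; infer_instance
  haveI hr : IsPreimmersion r :=
    MorphismProperty.of_isPullback (P := @IsPreimmersion) h.flip inferInstance
  have hpt : ∀ z : ↥(Spec (X'.presheaf.stalk (genericPoint X'))),
      X'.fromSpecStalk (genericPoint X') z = genericPoint X' := by
    intro z
    rw [Subsingleton.elim z (IsLocalRing.closedPoint _)]
    exact Scheme.fromSpecStalk_closedPoint
  obtain ⟨t, htr, htq⟩ : ∃ t : Spec (X'.presheaf.stalk (genericPoint X')) ⟶ G,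
      t ≫ r = X'.fromSpecStalk (genericPoint X') ∧ t ≫ q = 𝟙 _ :=
    ⟨h.lift (X'.fromSpecStalk (genericPoint X')) (𝟙 _) (by simp), h.lift_fst _ _ _,
      h.lift_snd _ _ _⟩
  haveI : Surjective t := by
    refine ⟨fun g => ?_⟩
    have h1 : (r ≫ f) g = (q ≫ X'.fromSpecStalk (genericPoint X') ≫ f) g := by rw [h.w]
    simp only [Scheme.Hom.comp_apply] at h1
    rw [hpt] at h1
    have h2 := eq_generic_of_map_eq f hK (r g) h1
    refine ⟨IsLocalRing.closedPoint _, ?_⟩
    apply r.isEmbedding.injective
    rw [← Scheme.Hom.comp_apply, htr, h2]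
    exact hpt _
  haveI : Mono t :=
    mono_of_mono_fac htq
  haveI : Flat (X'.fromSpecStalk (genericPoint X')) := flat_fromSpecStalk X' _
  haveI : Flat t := by
    have hpb : IsPullback (𝟙 _) t
        (X'.fromSpecStalk (genericPoint X')) r := by
      refine ⟨⟨by rw [htr, Category.id_comp]⟩, ⟨PullbackCone.IsLimit.mk _ (fun s => s.fst)
        (fun s => by simp) (fun s => ?_) (fun s c h1 h2 => by simpa using h1)⟩⟩
      rw [← cancel_mono r, Category.assoc, htr]
      exact s.condition
    exact MorphismProperty.of_isPullback (P := @Flat) hpb inferInstance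
  haveI : QuasiCompact t :=
    ⟨fun U _ _ => (Set.toFinite _).isCompact⟩
  haveI : IsIso t :=
    Flat.isIso_of_surjective_of_mono _
  have hq : q = inv t := by
    rw [← cancel_epi t, htq,
      IsIso.hom_inv_id]
  rw [hq]; infer_instance

set_option backward.isDefEq.respectTransparency.types false in
theorem mono_of_flat_birational {X' X : Scheme.{u}} [IsIntegral X'] (f : X' ⟶ X) [Flat f]
    [IsSeparated f] (hK : IsIso (f.stalkMap (genericPoint X'))) : Mono f := by
  letI : Field (X'.presheaf.stalk (genericPoint X')) := inferInstanceAs (Field X'.functionField)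
  haveI : Subsingleton ↥(Spec (X'.presheaf.stalk (genericPoint X'))) :=
    inferInstanceAs (Subsingleton (PrimeSpectrum (X'.presheaf.stalk (genericPoint X'))))
  rw [← pullback.isIso_diagonal_iff]
  haveI : QuasiCompact (X'.fromSpecStalk (genericPoint X')) :=
    ⟨fun U _ _ => (Set.toFinite _).isCompact⟩
  haveI : IsDominant (X'.fromSpecStalk (genericPoint X')) := by
    rw [isDominant_iff]
    have hd : Dense ({genericPoint X'} : Set X') :=
      dense_iff_closure_eq.mpr (genericPoint_spec X').def
    refine hd.mono ?_
    rw [Set.singleton_subset_iff]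
    exact ⟨IsLocalRing.closedPoint _, Scheme.fromSpecStalk_closedPoint⟩
  haveI : IsSchemeTheoreticallyDominant (X'.fromSpecStalk (genericPoint X')) :=
    IsSchemeTheoreticallyDominant.of_isDominant _
  haveI : Flat (pullback.fst f f) := inferInstance
  haveI hu : IsSchemeTheoreticallyDominant
      (pullback.fst (pullback.fst f f) (X'.fromSpecStalk (genericPoint X'))) := inferInstance
  have hbig : IsPullback
      (pullback.fst (pullback.fst f f) (X'.fromSpecStalk (genericPoint X')) ≫ pullback.snd f f)
      (pullback.snd (pullback.fst f f) (X'.fromSpecStalk (genericPoint X'))) f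
      (X'.fromSpecStalk (genericPoint X') ≫ f) :=
    ((IsPullback.of_hasPullback (pullback.fst f f)
      (X'.fromSpecStalk (genericPoint X'))).flip.paste_vert (IsPullback.of_hasPullback f f)).flip
  haveI hv : IsIso (pullback.snd (pullback.fst f f) (X'.fromSpecStalk (genericPoint X'))) :=
    isIso_snd_of_isPullback f hK _ _ hbig
  have hcond : (X'.fromSpecStalk (genericPoint X') ≫ pullback.diagonal f) ≫ pullback.fst f f =
      𝟙 _ ≫ X'.fromSpecStalk (genericPoint X') := by simp
  have hsu : pullback.lift (X'.fromSpecStalk (genericPoint X') ≫ pullback.diagonal f) (𝟙 _) hcond ≫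
      pullback.fst (pullback.fst f f) (X'.fromSpecStalk (genericPoint X')) =
      X'.fromSpecStalk (genericPoint X') ≫ pullback.diagonal f := pullback.lift_fst _ _ _
  have hsv : pullback.lift (X'.fromSpecStalk (genericPoint X') ≫ pullback.diagonal f) (𝟙 _) hcond ≫
      pullback.snd (pullback.fst f f) (X'.fromSpecStalk (genericPoint X')) = 𝟙 _ :=
    pullback.lift_snd _ _ _
  have hvs : pullback.snd (pullback.fst f f) (X'.fromSpecStalk (genericPoint X')) ≫
      pullback.lift (X'.fromSpecStalk (genericPoint X') ≫ pullback.diagonal f) (𝟙 _) hcond =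
      𝟙 _ := by
    rw [← cancel_mono (pullback.snd (pullback.fst f f) (X'.fromSpecStalk (genericPoint X'))),
      Category.assoc, hsv, Category.comp_id, Category.id_comp]
  have hfac : pullback.fst (pullback.fst f f) (X'.fromSpecStalk (genericPoint X')) =
      (pullback.snd (pullback.fst f f) (X'.fromSpecStalk (genericPoint X')) ≫
        X'.fromSpecStalk (genericPoint X')) ≫ pullback.diagonal f := by
    rw [Category.assoc, ← hsu, ← Category.assoc, hvs, Category.id_comp]
  rw [IsClosedImmersion.isIso_iff_ker_eq_bot]
  have hle := Scheme.Hom.le_ker_comp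
    (pullback.snd (pullback.fst f f) (X'.fromSpecStalk (genericPoint X')) ≫
        X'.fromSpecStalk (genericPoint X')) (pullback.diagonal f)
  rw [← hfac, Scheme.Hom.ker_eq_bot
    (pullback.fst (pullback.fst f f) (X'.fromSpecStalk (genericPoint X')))] at hle
  exact le_bot_iff.mp hle

set_option backward.isDefEq.respectTransparency.types false in

/-- Take integral schemes X' and X and a separated surjective morphism f : X' → X which is birational in
the sense that the induced map of function fields (the stalk map of f at the generic point of X') is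
an isomorphism, and suppose f is affine (e.g. a normalization) or locally of finite presentation
(e.g. a blow-up of a Noetherian integral scheme). Then f is flat exactly when it is an isomorphism. -/
theorem result {X' X : Scheme.{u}} [IsIntegral X'] [IsIntegral X]
    (f : X' ⟶ X) [Surjective f] [IsSeparated f] (hK : IsIso (f.stalkMap (genericPoint X')))
    (h : IsAffineHom f ∨ LocallyOfFinitePresentation f) :
    Flat f ↔ IsIso f := by
  constructor
  · intro hflat
    haveI := hflat
    haveI : Mono f := mono_of_flat_birational f hK
    rcases h with h | h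
    · haveI := h
      exact Flat.isIso_of_surjective_of_mono f
    · haveI := h
      haveI : IsOpenImmersion f := IsOpenImmersion.of_flat_of_mono f
      exact (isIso_iff_isOpenImmersion_and_surjective f).mpr ⟨inferInstance, inferInstance⟩
  · intro h
    infer_instance

end Groth.Agent.S10879
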