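import Groth.Statements.S10880
import Groth.Agent.H57.RedFibSch
import Mathlib.AlgebraicGeometry.FunctionField
import Mathlib.AlgebraicGeometry.Morphisms.QuasiCompact
import Mathlib.RingTheory.DiscreteValuationRing.Basic
import Mathlib.RingTheory.RingHom.Flat

set_option autoImplicit false
universe u
open CategoryTheory AlgebraicGeometry
open FlatMor

namespace Groth.Agent.S10880

open CategoryTheory AlgebraicGeometry in
/-- membership in the prime of a point of an affine open, via basic opens. -/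
theorem mem_primeIdealOf_iff {X : Scheme.{u}} {U : X.Opens} (hU : IsAffineOpen U) (x : U)
    (a : Γ(X, U)) : a ∈ (hU.primeIdealOf x).asIdeal ↔ (x : X) ∉ X.basicOpen a := by
  rw [hU.primeIdealOf_eq_map_closedPoint, Scheme.mem_basicOpen _ _ _ x.2]
  change a ∈ Ideal.comap (X.presheaf.germ U x x.2).hom (IsLocalRing.maximalIdeal _) ↔ _
  rw [Ideal.mem_comap, IsLocalRing.mem_maximalIdeal, mem_nonunits_iff]

/-- torsion-freeness over a DVR from two elementwise conditions. -/
theorem flat_of_dvr {R : Type u} [CommRing R] [IsDomain R] [IsDiscreteValuationRing R]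
    {B : Type u} [CommRing B] [IsNoetherianRing B] [Algebra R B] (ϖ : R) (hϖ : Irreducible ϖ)
    (H1 : ∀ (b : B) (r : R), r ≠ 0 → r • b = 0 → IsNilpotent b)
    (H2 : ∀ x : B, IsNilpotent x → ∃ c, x = algebraMap R B ϖ * c) : Module.Flat R B := by
  have hmono : Monotone (fun k : ℕ =>
      LinearMap.ker (LinearMap.mulLeft B (algebraMap R B ϖ ^ k))) := by
    apply monotone_nat_of_le_succ
    intro k b hb
    rw [LinearMap.mem_ker, LinearMap.mulLeft_apply] at hb ⊢
    rw [pow_succ', mul_assoc, hb, mul_zero]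
  obtain ⟨N, hN⟩ := monotone_stabilizes_iff_noetherian.mpr
    (inferInstance : IsNoetherian B B) ⟨_, hmono⟩
  have hP : ∀ k : ℕ, ∀ b : B, algebraMap R B ϖ * b = 0 →
      ∃ c, b = algebraMap R B ϖ ^ k * c ∧ algebraMap R B ϖ ^ (k + 1) * c = 0 := by
    intro k
    induction k with
    | zero => intro b hb; exact ⟨b, by simp, by simpa using hb⟩
    | succ k ih =>
      intro b hb
      obtain ⟨c, hc1, hc2⟩ := ih b hb
      have hnil : IsNilpotent c := H1 c (ϖ ^ (k + 1)) (pow_ne_zero _ hϖ.ne_zero) (by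
        rw [Algebra.smul_def, map_pow]; exact hc2)
      obtain ⟨c', rfl⟩ := H2 c hnil
      refine ⟨c', ?_, ?_⟩
      · rw [hc1, pow_succ, mul_assoc]
      · rw [pow_succ, mul_assoc]; exact hc2
  have hreg : ∀ b : B, algebraMap R B ϖ * b = 0 → b = 0 := by
    intro b hb
    obtain ⟨c, hc1, hc2⟩ := hP N b hb
    have h1 : c ∈ LinearMap.ker (LinearMap.mulLeft B (algebraMap R B ϖ ^ (N + 1))) := by
      rw [LinearMap.mem_ker, LinearMap.mulLeft_apply]; exact hc2
    have h2 : c ∈ LinearMap.ker (LinearMap.mulLeft B (algebraMap R B ϖ ^ N)) := by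
      have := hN (N + 1) (Nat.le_succ N)
      simp only [OrderHom.coe_mk] at this
      rw [this]; exact h1
    rw [LinearMap.mem_ker, LinearMap.mulLeft_apply] at h2
    rw [hc1, h2]
  have hregpow : ∀ n : ℕ, ∀ b : B, algebraMap R B ϖ ^ n * b = 0 → b = 0 := by
    intro n
    induction n with
    | zero => intro b hb; simpa using hb
    | succ n ih =>
      intro b hb
      apply ih
      apply hreg
      rw [← mul_assoc, ← pow_succ']; exact hb
  rw [IsDedekindDomain.flat_iff_torsion_eq_bot, Submodule.eq_bot_iff]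
  intro b hb
  rw [Submodule.mem_torsion_iff] at hb
  obtain ⟨r, hr⟩ := hb
  obtain ⟨n, u, hu⟩ := IsDiscreteValuationRing.eq_unit_mul_pow_irreducible
    (nonZeroDivisors.coe_ne_zero r) hϖ
  apply hregpow n
  have h1 : (r : R) • b = 0 := hr
  rw [hu, mul_smul, Algebra.smul_def (ϖ ^ n) b, map_pow] at h1
  have h2 := congrArg (fun y => ((u⁻¹ : Rˣ) : R) • y) h1
  simp only [smul_zero] at h2
  rwa [smul_smul, Units.inv_mul, one_smul] at h2


/-- Let R be a discrete valuation ring and X a locally Noetherian scheme over Spec R whose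
scheme-theoretic special fibre is reduced and such that every maximal point of the special fibre
lies in the closure of the generic fibre, i.e. the generic fibre is dense in X. Then X is flat over
R. -/
theorem result (R : Type u) [CommRing R] [IsDomain R]
    [IsDiscreteValuationRing R] {X : Scheme.{u}} (f : X ⟶ Spec (CommRingCat.of R)) [IsLocallyNoetherian X]
    (hred : IsReduced (f.fiber (IsLocalRing.closedPoint R)))
    (hdense : Dense (f.base ⁻¹' {genericPoint (Spec (CommRingCat.of R))})) : Flat f := by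
  refine HasRingHomProperty.of_iSup_eq_top (P := @Flat) (fun V : X.affineOpens => V)
    (iSup_affineOpens_eq_top X) ?_
  intro V
  have hA : IsAffineOpen (⊤ : (Spec (CommRingCat.of R)).Opens) := isAffineOpen_top _
  let ι : R ≃+* Γ(Spec (CommRingCat.of R), ⊤) :=
    (Scheme.ΓSpecIso (CommRingCat.of R)).commRingCatIsoToRingEquiv.symm
  have key : RingHom.Flat ((f.appLE ⊤ V.1 le_top).hom.comp ι.toRingHom) := by
    letI algB : Algebra R Γ(X, V.1) := ((f.appLE ⊤ V.1 le_top).hom.comp ι.toRingHom).toAlgebra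
    haveI : IsNoetherianRing Γ(X, V.1) := IsLocallyNoetherian.component_noetherian V
    obtain ⟨ϖ, hϖ⟩ := IsDiscreteValuationRing.exists_irreducible R
    have hmem : ∀ (x : Spec (CommRingCat.of R)) (r : R),
        ι r ∈ (hA.primeIdealOf ⟨x, trivial⟩).asIdeal ↔ r ∈ x.asIdeal := by
      intro x r
      rw [mem_primeIdealOf_iff]
      change x ∉ (Spec (CommRingCat.of R)).basicOpen
        ((Scheme.ΓSpecIso (CommRingCat.of R)).inv r) ↔ _
      rw [basicOpen_eq_of_affine]
      change ¬ (r ∉ x.asIdeal) ↔ r ∈ x.asIdeal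
      exact not_not
    show Module.Flat R Γ(X, V.1)
    refine flat_of_dvr ϖ hϖ ?_ ?_
    · intro b r hr hrb
      rw [Scheme.isNilpotent_iff_basicOpen_eq_bot_of_isCompact V.2.isCompact b]
      by_contra hne
      have hne' : ((X.basicOpen b : X.Opens) : Set X).Nonempty :=
        (TopologicalSpace.Opens.ne_bot_iff_nonempty _).mp hne
      obtain ⟨z, hzη, hzb⟩ := hdense.exists_mem_open (X.basicOpen b).isOpen hne'
      have hzV : z ∈ V.1 := X.basicOpen_le b hzb
      have h1 : b ∉ (V.2.primeIdealOf ⟨z, hzV⟩).asIdeal := by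
        rw [mem_primeIdealOf_iff]; exact not_not.mpr hzb
      have h2 : (f.appLE ⊤ V.1 le_top).hom (ι r) ∉ (V.2.primeIdealOf ⟨z, hzV⟩).asIdeal := by
        intro hmem'
        have h3 : ι r ∈ ((V.2.primeIdealOf ⟨z, hzV⟩).comap (f.appLE ⊤ V.1 le_top).hom).asIdeal :=
          hmem'
        rw [IsAffineOpen.comap_primeIdealOf_appLE ⊤ hA V.1 V.2 le_top hzV, hmem] at h3
        have h4 : f z = genericPoint (Spec (CommRingCat.of R)) := hzη
        rw [h4, genericPoint_eq_bot_of_affine] at h3
        exact hr ((Submodule.mem_bot R).mp h3)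
      have h4 : (f.appLE ⊤ V.1 le_top).hom (ι r) * b ∈ (V.2.primeIdealOf ⟨z, hzV⟩).asIdeal := by
        have h5 : (f.appLE ⊤ V.1 le_top).hom (ι r) * b = r • b := (Algebra.smul_def r b).symm
        rw [h5, hrb]; exact zero_mem _
      rcases (V.2.primeIdealOf ⟨z, hzV⟩).isPrime.mem_or_mem h4 with h | h
      · exact h2 h
      · exact h1 h
    · intro x hx
      have hFR : ∀ x : Γ(X, V.1), IsNilpotent x → ∃ a : Γ(Spec (CommRingCat.of R), ⊤),
          a ∉ (hA.primeIdealOf ⟨IsLocalRing.closedPoint R, trivial⟩).asIdeal ∧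
          (f.appLE ⊤ V.1 le_top).hom a * x ∈
            (hA.primeIdealOf ⟨IsLocalRing.closedPoint R, trivial⟩).asIdeal.map
              (f.appLE ⊤ V.1 le_top).hom :=
        Groth.Agent.H57.fibreRed_of_isReduced_fiber f (IsLocalRing.closedPoint R) hred hA trivial
          V.2 le_top
      obtain ⟨a, ha, hax⟩ := hFR x hx
      obtain ⟨s, rfl⟩ := ι.surjective a
      have hs : s ∉ IsLocalRing.maximalIdeal R := fun h => ha ((hmem _ s).mpr h)
      have hsu : IsUnit s := by
        rwa [IsLocalRing.mem_maximalIdeal, mem_nonunits_iff, not_not] at hs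
      have hx1 : x ∈ (hA.primeIdealOf ⟨IsLocalRing.closedPoint R, trivial⟩).asIdeal.map
          (f.appLE ⊤ V.1 le_top).hom := by
        have hu : IsUnit ((f.appLE ⊤ V.1 le_top).hom (ι s)) := (hsu.map ι).map _
        obtain ⟨v, hv⟩ := hu.exists_left_inv
        have h6 := Ideal.mul_mem_left _ v hax
        rwa [← mul_assoc, hv, one_mul] at h6
      have hle : (hA.primeIdealOf ⟨IsLocalRing.closedPoint R, trivial⟩).asIdeal.map
          (f.appLE ⊤ V.1 le_top).hom ≤ Ideal.span {(f.appLE ⊤ V.1 le_top).hom (ι ϖ)} := by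
        rw [Ideal.map_le_iff_le_comap]
        intro a ha
        obtain ⟨r, rfl⟩ := ι.surjective a
        have hr : r ∈ IsLocalRing.maximalIdeal R := (hmem _ r).mp ha
        rw [hϖ.maximalIdeal_eq, Ideal.mem_span_singleton'] at hr
        obtain ⟨r', rfl⟩ := hr
        rw [Ideal.mem_comap, map_mul, map_mul]
        exact Ideal.mul_mem_left _ _ (Ideal.subset_span rfl)
      obtain ⟨c, hc⟩ := Ideal.mem_span_singleton'.mp (hle hx1)
      exact ⟨c, by rw [← hc, mul_comm]; rfl⟩
  have h7 := RingHom.Flat.respectsIso.2 ((f.appLE ⊤ V.1 le_top).hom.comp ι.toRingHom) ι.symm key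
  have h8 : ((f.appLE ⊤ V.1 le_top).hom.comp ι.toRingHom).comp ι.symm.toRingHom =
      (f.appLE ⊤ V.1 le_top).hom := by
    ext a
    simp
  rw [h8] at h7
  exact h7

end Groth.Agent.S10880
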