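import Groth.Statements.S10881
import Mathlib
import Groth.Agent.S2082
import Groth.Agent.S9829
import Groth.Agent.H23.RegularLocal
import Groth.Agent.H54.IntegralDim
import Groth.Agent.H79.RegCM
import Groth.Agent.H72.RegLoc

set_option autoImplicit false
set_option linter.style.haveILetI false
set_option linter.unusedSectionVars false
set_option linter.unusedVariables false
universe u
open CategoryTheory AlgebraicGeometry
open FlatMor

namespace Groth.Agent.S10881

section Helpers

open IsLocalRing

/-- Local miracle flatness: `R` regular local, `S` a domain finite and injective over `R`,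
`T` the localization of `S` at a maximal ideal, Cohen–Macaulay. Then `T` is flat over `R`. -/
theorem flat_loc (R S T : Type u) [CommRing R] [CommRing S] [CommRing T]
    [IsRegularLocalRing R] [IsDomain S] [Algebra R S] [Module.Finite R S]
    (hinj : Function.Injective (algebraMap R S))
    (q : Ideal S) [hq : q.IsMaximal] [Algebra S T] [IsLocalization.AtPrime T q]
    [Algebra R T] [IsScalarTower R S T]
    [hCM : LocCoh.IsCohenMacaulayLocalRing T] : Module.Flat R T := by
  classical
  haveI : IsDomain R := Groth.Agent.H23.isDomain_of_isRegularLocalRing R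
  haveI : IsIntegrallyClosed R := Groth.Agent.S9829.result R
  haveI : FaithfulSMul R S := (faithfulSMul_iff_algebraMap_injective R S).mpr hinj
  haveI : Algebra.IsIntegral R S := Algebra.IsIntegral.of_finite R S
  haveI : IsNoetherianRing S := Algebra.FiniteType.isNoetherianRing R S
  have hdimS : ringKrullDim S = ringKrullDim R :=
    Groth.Agent.H54.ringKrullDim_eq_of_isIntegral_of_injective hinj
  have hcomap : q.comap (algebraMap R S) = IsLocalRing.maximalIdeal R := by
    haveI : (q.comap (algebraMap R S)).IsMaximal :=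
      Ideal.isMaximal_comap_of_isIntegral_of_isMaximal (R := R) q
    exact IsLocalRing.eq_maximalIdeal inferInstance
  haveI : q.LiesOver (IsLocalRing.maximalIdeal R) := ⟨hcomap.symm⟩
  have hmapmem : ∀ r ∈ IsLocalRing.maximalIdeal R,
      algebraMap R T r ∈ IsLocalRing.maximalIdeal T := by
    intro r hr
    have hrq : algebraMap R S r ∈ q := by
      rw [← hcomap] at hr
      exact hr
    rw [IsScalarTower.algebraMap_apply R S T]
    exact (IsLocalization.AtPrime.to_map_mem_maximal_iff T q _).mpr hrq
  haveI : IsLocalHom (algebraMap R T) := by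
    constructor
    intro r hr
    by_contra hnu
    exact hmapmem r ((IsLocalRing.mem_maximalIdeal r).mpr hnu) hr
  refine Groth.Agent.S2082.result ?_
  have h1 : ringKrullDim T = q.height :=
    IsLocalization.AtPrime.ringKrullDim_eq_height q _
  have h2 : (IsLocalRing.maximalIdeal R).height ≤ q.height := by
    rw [Ideal.height_eq_height_add_of_liesOver_of_hasGoingDown (IsLocalRing.maximalIdeal R) q]
    exact le_self_add
  have h3 : (q.height : WithBot ℕ∞) ≤ ringKrullDim S :=
    Ideal.height_le_ringKrullDim_of_ne_top hq.ne_top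
  have h4 : ((IsLocalRing.maximalIdeal R).height : WithBot ℕ∞) = ringKrullDim R :=
    IsLocalRing.maximalIdeal_height_eq_ringKrullDim
  have h5 : ringKrullDim T = ringKrullDim R := by
    refine le_antisymm (h1 ▸ h3.trans hdimS.le) ?_
    rw [h1, ← h4]
    exact_mod_cast h2
  have hI1 : (IsLocalRing.maximalIdeal R).map (algebraMap R T) ≤
      IsLocalRing.maximalIdeal T := by
    rw [Ideal.map_le_iff_le_comap]
    intro r hr
    exact hmapmem r hr
  have hI2 : IsLocalRing.maximalIdeal T ≤
      ((IsLocalRing.maximalIdeal R).map (algebraMap R T)).radical := by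
    rw [Ideal.radical_eq_sInf]
    refine le_sInf ?_
    rintro P' ⟨hP'I, hP'⟩
    have hPq : P'.comap (algebraMap S T) ≤ q :=
      (Ideal.comap_mono (IsLocalRing.le_maximalIdeal hP'.ne_top)).trans
        (le_of_eq (IsLocalization.AtPrime.under_maximalIdeal T q))
    haveI hPprime : (P'.comap (algebraMap S T)).IsPrime := hP'.comap _
    have hmle : IsLocalRing.maximalIdeal R ≤
        (P'.comap (algebraMap S T)).comap (algebraMap R S) := by
      intro r hr
      rw [Ideal.mem_comap, Ideal.mem_comap, ← IsScalarTower.algebraMap_apply]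
      exact hP'I (Ideal.mem_map_of_mem _ hr)
    have hceq : (P'.comap (algebraMap S T)).comap (algebraMap R S) =
        IsLocalRing.maximalIdeal R :=
      ((IsLocalRing.maximalIdeal.isMaximal R).eq_of_le
        (Ideal.comap_ne_top _ hPprime.ne_top) hmle).symm
    haveI : ((P'.comap (algebraMap S T)).comap (algebraMap R S)).IsMaximal :=
      hceq ▸ IsLocalRing.maximalIdeal.isMaximal R
    have hPmax : (P'.comap (algebraMap S T)).IsMaximal :=
      Ideal.isMaximal_of_isIntegral_of_isMaximal_comap (R := R) _ inferInstance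
    have hPeq : P'.comap (algebraMap S T) = q :=
      hPmax.eq_of_le hq.ne_top hPq
    have hm : IsLocalRing.maximalIdeal T = Ideal.map (algebraMap S T) q :=
      (IsLocalization.AtPrime.map_eq_maximalIdeal q T).symm
    rw [hm]
    exact (Ideal.map_mono (le_of_eq hPeq.symm)).trans Ideal.map_comap_le
  have h6 := Groth.Agent.H79.RegCM.ringKrullDim_quotient_eq_zero hI1 hI2
  rw [h5, h6, add_zero]

/-- Ring-level core: `B` finite over `A`, `T = B_q` regular local, `R` regular local receiving `A`,
`R → T` local and injective, compatible. Then `T` is flat over `R`. -/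
theorem flat_of_localization_finite_regular
    (A B R T : Type u) [CommRing A] [CommRing B] [CommRing R] [CommRing T]
    [Algebra A B] [Module.Finite A B]
    [Algebra A R] [Algebra B T] [Algebra R T] [Algebra A T]
    [IsScalarTower A R T] [IsScalarTower A B T]
    (q : Ideal B) [q.IsPrime] [IsLocalization.AtPrime T q]
    [IsRegularLocalRing R] [IsRegularLocalRing T] [IsLocalHom (algebraMap R T)]
    (hinj : Function.Injective (algebraMap R T)) :
    Module.Flat R T := by
  classical
  haveI : IsDomain T := Groth.Agent.H23.isDomain_of_isRegularLocalRing T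
  haveI hCM : LocCoh.IsCohenMacaulayLocalRing T :=
    ⟨Groth.Agent.H72.RegLoc.isCM_of_isRegularLocalRing T⟩
  obtain ⟨G, hG⟩ := (Module.Finite.fg_top : (⊤ : Submodule A B).FG)
  have hsfin : ((algebraMap B T) '' (G : Set B)).Finite := (Finset.finite_toSet G).image _
  haveI : Algebra.IsIntegral A B := Algebra.IsIntegral.of_finite A B
  have hint : ∀ t ∈ (algebraMap B T) '' (G : Set B), IsIntegral R t := by
    rintro _ ⟨b, -, rfl⟩
    have hb : IsIntegral A b := Algebra.IsIntegral.isIntegral b
    have hb' : IsIntegral A (algebraMap B T b) := hb.map (IsScalarTower.toAlgHom A B T)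
    exact hb'.tower_top
  obtain ⟨S', hS'⟩ : ∃ S' : Subalgebra R T, S' = Algebra.adjoin R ((algebraMap B T) '' (G : Set B)) :=
    ⟨_, rfl⟩
  haveI : Module.Finite R S' := by
    rw [hS']
    exact Algebra.finite_adjoin_of_finite_of_isIntegral hsfin hint
  have hB : ∀ b : B, algebraMap B T b ∈ S' := by
    intro b
    have hb : b ∈ Submodule.span A (G : Set B) := by rw [hG]; trivial
    induction hb using Submodule.span_induction with
    | mem x hx => rw [hS']; exact Algebra.subset_adjoin ⟨x, hx, rfl⟩
    | zero => rw [map_zero]; exact S'.zero_mem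
    | add x y _ _ hx hy => rw [map_add]; exact S'.add_mem hx hy
    | smul a x _ hx =>
      rw [Algebra.smul_def, map_mul, ← IsScalarTower.algebraMap_apply A B T,
        IsScalarTower.algebraMap_apply A R T]
      exact S'.mul_mem (S'.algebraMap_mem _) hx
  have hinj' : Function.Injective (algebraMap R S') := by
    intro a b hab
    apply hinj
    have := congrArg (fun s : S' => (s : T)) hab
    exact this
  have hmapST : ∀ s : S', algebraMap S' T s = (s : T) := fun s => rfl
  obtain ⟨n', hn'⟩ : ∃ n' : Ideal S', n' = (IsLocalRing.maximalIdeal T).comap (algebraMap S' T) :=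
    ⟨_, rfl⟩
  haveI hn'prime : n'.IsPrime := by rw [hn']; infer_instance
  have hcomapR : n'.comap (algebraMap R S') = IsLocalRing.maximalIdeal R := by
    have h : (IsLocalRing.maximalIdeal T).comap (algebraMap R T) = IsLocalRing.maximalIdeal R :=
      ((IsLocalRing.local_hom_TFAE (algebraMap R T)).out 0 4 rfl rfl).mp ‹IsLocalHom (algebraMap R T)›
    rw [← h, hn', Ideal.comap_comap, ← IsScalarTower.algebraMap_eq R S' T]
  haveI : Algebra.IsIntegral R S' := Algebra.IsIntegral.of_finite R S'
  haveI : (n'.comap (algebraMap R S')).IsMaximal :=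
    hcomapR ▸ IsLocalRing.maximalIdeal.isMaximal R
  haveI hn'max : n'.IsMaximal :=
    Ideal.isMaximal_of_isIntegral_of_isMaximal_comap (R := R) n' inferInstance
  haveI hloc : IsLocalization.AtPrime T n' := by
    refine (isLocalization_iff (M := n'.primeCompl) (S := T)).mpr ⟨?_, ?_, ?_⟩
    · rintro ⟨s, hs⟩
      have hs' : algebraMap S' T s ∉ IsLocalRing.maximalIdeal T := by
        intro hmem
        apply hs
        rw [hn']
        exact hmem
      by_contra hnu
      exact hs' ((IsLocalRing.mem_maximalIdeal _).mpr hnu)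
    · intro t
      obtain ⟨⟨b, u⟩, h⟩ := IsLocalization.surj q.primeCompl t
      have hu : IsUnit (algebraMap B T (u : B)) := IsLocalization.map_units T u
      have hun : (⟨algebraMap B T (u : B), hB u⟩ : S') ∈ n'.primeCompl := by
        intro hmem
        rw [hn'] at hmem
        exact (IsLocalRing.mem_maximalIdeal _).mp hmem hu
      exact ⟨(⟨algebraMap B T b, hB b⟩, ⟨⟨algebraMap B T (u : B), hB u⟩, hun⟩), h⟩
    · intro a b hab
      refine ⟨1, ?_⟩
      have : a = b := Subtype.ext hab
      rw [this]
  exact flat_loc R S' T hinj' n'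

/-- The image of the generic point of `Spec O_{X,x}` has closure an irreducible component. -/
theorem closure_generic_mem_irreducibleComponents (X : Scheme.{u}) (x : X)
    [IsDomain (X.presheaf.stalk x)] :
    closure {(X.fromSpecStalk x).base ⟨⊥, Ideal.isPrime_bot⟩} ∈
      irreducibleComponents (X : Type u) := by
  obtain ⟨P0, hP0⟩ : ∃ P0 : PrimeSpectrum (X.presheaf.stalk x), P0 = ⟨⊥, Ideal.isPrime_bot⟩ :=
    ⟨_, rfl⟩
  rw [← hP0]
  obtain ⟨ξ, hξ⟩ : ∃ ξ : X, ξ = (X.fromSpecStalk x).base P0 := ⟨_, rfl⟩
  rw [← hξ]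
  refine ⟨isIrreducible_singleton.closure, fun Z' hZ' hle => ?_⟩
  obtain ⟨g, hg⟩ := QuasiSober.sober hZ'.closure isClosed_closure
  have hξZ : ξ ∈ closure Z' := subset_closure (hle (subset_closure (Set.mem_singleton ξ)))
  have hgξ : g ⤳ ξ := hg.specializes hξZ
  have hξx : ξ ⤳ x := by
    have : ξ ∈ Set.range (X.fromSpecStalk x) := ⟨P0, hξ.symm⟩
    rw [Scheme.range_fromSpecStalk] at this
    exact this
  have hgx : g ∈ Set.range (X.fromSpecStalk x) := by
    rw [Scheme.range_fromSpecStalk]
    exact hgξ.trans hξx
  obtain ⟨(P : PrimeSpectrum (X.presheaf.stalk x)), hP⟩ := hgx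
  have hemb : Topology.IsEmbedding (X.fromSpecStalk x) := (X.fromSpecStalk x).isEmbedding
  have hsp : (X.fromSpecStalk x).base P ⤳ (X.fromSpecStalk x).base P0 := by
    rw [hP, ← hξ]
    exact hgξ
  have hPP0 : @Specializes (PrimeSpectrum (X.presheaf.stalk x)) _ P P0 :=
    (hemb.isInducing.specializes_iff (x := P) (y := P0)).mp hsp
  have hle' : P ≤ P0 := (PrimeSpectrum.le_iff_specializes P P0).mpr hPP0
  have hPeq : P = P0 := by
    apply PrimeSpectrum.ext
    have h1 : P.asIdeal ≤ P0.asIdeal := hle'
    rw [hP0] at h1 ⊢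
    exact le_bot_iff.mp h1
  have hgeq : g = ξ := by rw [← hP, hPeq, hξ]
  intro z hz
  have hz' : z ∈ closure Z' := subset_closure hz
  rw [← hg.def, hgeq] at hz'
  exact hz'

/-- Under component-wise dominance, the stalk maps between domain stalks are injective. -/
theorem stalkMap_injective_of_dom {X Y : Scheme.{u}} (f : X ⟶ Y)
    (hX : ∀ x : X, IsDomain (X.presheaf.stalk x)) (hY : ∀ y : Y, IsDomain (Y.presheaf.stalk y))
    (hdom : ∀ Z ∈ irreducibleComponents (X : Type u),
      closure (f.base '' Z) ∈ irreducibleComponents (Y : Type u))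
    (x : X) : Function.Injective (f.stalkMap x).hom := by
  haveI := hX x
  haveI := hY (f.base x)
  rw [RingHom.injective_iff_ker_eq_bot]
  obtain ⟨P0, hP0⟩ : ∃ P0 : PrimeSpectrum (X.presheaf.stalk x), P0 = ⟨⊥, Ideal.isPrime_bot⟩ :=
    ⟨_, rfl⟩
  obtain ⟨Q0, hQ0⟩ : ∃ Q0 : PrimeSpectrum (Y.presheaf.stalk (f.base x)),
    Q0 = ⟨⊥, Ideal.isPrime_bot⟩ := ⟨_, rfl⟩
  obtain ⟨PK, hPK⟩ : ∃ PK : PrimeSpectrum (Y.presheaf.stalk (f.base x)),
    PK = (Spec.map (f.stalkMap x)).base P0 := ⟨_, rfl⟩
  have hPKideal : PK.asIdeal = RingHom.ker (f.stalkMap x).hom := by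
    rw [hPK, hP0]
    rfl
  obtain ⟨ξ, hξ⟩ : ∃ ξ : X, ξ = (X.fromSpecStalk x).base P0 := ⟨_, rfl⟩
  obtain ⟨η, hη⟩ : ∃ η : Y, η = (Y.fromSpecStalk (f.base x)).base Q0 := ⟨_, rfl⟩
  have h1 : f.base ξ = (Y.fromSpecStalk (f.base x)).base PK := by
    have := congrArg (fun g => g.base P0) (Scheme.SpecMap_stalkMap_fromSpecStalk (f := f) (x := x))
    rw [hξ, hPK]
    exact this.symm
  have h2 : closure {ξ} ∈ irreducibleComponents (X : Type u) := by
    rw [hξ, hP0]
    exact closure_generic_mem_irreducibleComponents X x
  have h3 : closure {f.base ξ} ∈ irreducibleComponents (Y : Type u) := by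
    have := hdom _ h2
    have e : closure (f.base '' closure {ξ}) = closure {f.base ξ} :=
      ((isGenericPoint_closure (x := ξ)).image f.continuous).def.symm
    rwa [e] at this
  have h4 : η ⤳ f.base ξ := by
    rw [h1, hη]
    have hle : Q0 ≤ PK := by
      have : Q0.asIdeal ≤ PK.asIdeal := by rw [hQ0]; exact bot_le
      exact this
    have : Q0 ⤳ PK := (PrimeSpectrum.le_iff_specializes Q0 PK).mp hle
    exact this.map (Y.fromSpecStalk (f.base x)).continuous
  have h5 : f.base ξ ⤳ η := by
    have hsub : closure {f.base ξ} ⊆ closure {η} := by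
      rw [← specializes_iff_closure_subset]; exact h4
    have := h3.2 isIrreducible_singleton.closure hsub
    rw [specializes_iff_closure_subset]; exact this
  have h6 : η = f.base ξ := (h4.antisymm h5).eq
  have h7 : Q0 = PK := by
    apply (Y.fromSpecStalk (f.base x)).isEmbedding.injective
    rw [← h1, ← hη]; exact h6
  rw [← hPKideal, ← h7, hQ0]

end Helpers


/-- A finite morphism f : X → Y between regular schemes (locally Noetherian with regular local rings)
under which each irreducible component of X dominates some irreducible component of Y is flat, hence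
finite locally free. (The published statement asks only that f be dominant; for X the disjoint union
of the affine line and a point, mapped to the affine line Y by the identity and the inclusion of a
closed point, f is finite and dominant between regular schemes but not flat, and the published
argument uses injectivity of the local ring maps, which holds exactly under the component-wise
dominance assumed here.) -/
theorem result {X Y : Scheme.{u}} (f : X ⟶ Y) [IsFinite f]
    [IsLocallyNoetherian X] [IsLocallyNoetherian Y]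
    (hX : ∀ x : X, IsRegularLocalRing (X.presheaf.stalk x))
    (hY : ∀ y : Y, IsRegularLocalRing (Y.presheaf.stalk y))
    (hdom : ∀ Z ∈ irreducibleComponents (X : Type u), closure (f.base '' Z) ∈ irreducibleComponents (Y : Type u)) :
    Flat f := by
  have hXd : ∀ x : X, IsDomain (X.presheaf.stalk x) := fun x => by
    haveI := hX x
    exact Groth.Agent.H23.isDomain_of_isRegularLocalRing _
  have hYd : ∀ y : Y, IsDomain (Y.presheaf.stalk y) := fun y => by
    haveI := hY y
    exact Groth.Agent.H23.isDomain_of_isRegularLocalRing _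
  rw [Flat.iff_flat_stalkMap]
  intro x
  obtain ⟨_, ⟨V, hV, rfl⟩, hyV, -⟩ := Y.isBasis_affineOpens.exists_subset_of_mem_open
    (Set.mem_univ (f.base x)) isOpen_univ
  have hU : IsAffineOpen (f ⁻¹ᵁ V) := hV.preimage f
  have hxU : x ∈ f ⁻¹ᵁ V := hyV
  letI algAB : Algebra Γ(Y, V) Γ(X, f ⁻¹ᵁ V) := (f.app V).hom.toAlgebra
  letI algAR : Algebra Γ(Y, V) (Y.presheaf.stalk (f.base x)) :=
    Y.presheaf.algebra_section_stalk ⟨f.base x, hyV⟩
  letI algBT : Algebra Γ(X, f ⁻¹ᵁ V) (X.presheaf.stalk x) :=
    X.presheaf.algebra_section_stalk ⟨x, hxU⟩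
  letI algRT : Algebra (Y.presheaf.stalk (f.base x)) (X.presheaf.stalk x) :=
    (f.stalkMap x).hom.toAlgebra
  letI algAT : Algebra Γ(Y, V) (X.presheaf.stalk x) :=
    ((f.stalkMap x).hom.comp (Y.presheaf.germ V (f.base x) hyV).hom).toAlgebra
  haveI : IsScalarTower Γ(Y, V) (Y.presheaf.stalk (f.base x)) (X.presheaf.stalk x) :=
    IsScalarTower.of_algebraMap_eq (fun a => rfl)
  haveI : IsScalarTower Γ(Y, V) Γ(X, f ⁻¹ᵁ V) (X.presheaf.stalk x) :=
    IsScalarTower.of_algebraMap_eq (fun a => Scheme.Hom.germ_stalkMap_apply f V x hyV a)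
  haveI : Module.Finite Γ(Y, V) Γ(X, f ⁻¹ᵁ V) := IsFinite.finite_app f V hV
  haveI := hU.isLocalization_stalk ⟨x, hxU⟩
  haveI := hX x
  haveI := hY (f.base x)
  haveI : IsLocalHom (algebraMap (Y.presheaf.stalk (f.base x)) (X.presheaf.stalk x)) :=
    inferInstanceAs (IsLocalHom (f.stalkMap x).hom)
  exact flat_of_localization_finite_regular Γ(Y, V) Γ(X, f ⁻¹ᵁ V)
    (Y.presheaf.stalk (f.base x)) (X.presheaf.stalk x) (hU.primeIdealOf ⟨x, hxU⟩).asIdeal
    (stalkMap_injective_of_dom f hXd hYd hdom x)

end Groth.Agent.S10881
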