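import Groth.Statements.S10884
import Groth.Agent.H38.DimFibreSum

set_option autoImplicit false
universe u
open CategoryTheory AlgebraicGeometry
open Variety

namespace Groth.Agent.S10884

/-- Let Y be a scheme of finite type over a field k and f : X → Y a dominant morphism of finite type all
of whose non-empty fibres have dimension r. Then dim X = r + dim Y. -/
theorem result (k : Type u) [Field k] {X Y : Scheme.{u}}
    (q : Y ⟶ Spec (CommRingCat.of k)) [LocallyOfFiniteType q] [QuasiCompact q]
    (f : X ⟶ Y) [LocallyOfFiniteType f] [QuasiCompact f] (hdom : DenseRange f.base) (r : ℕ)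
    (hfib : ∀ y : Y, (f.base ⁻¹' {y}).Nonempty → topologicalKrullDim (f.base ⁻¹' {y}) = r) :
    topologicalKrullDim X = (r : WithBot ℕ∞) + topologicalKrullDim Y := by
  apply le_antisymm
  · apply Groth.Agent.H38.DimFibreSum.dim_le_add q f r
    intro x
    exact (hfib (f.base x) ⟨x, rfl⟩).le
  · apply Groth.Agent.H38.DimFibreSum.add_dim_le q f r
    intro η hη
    obtain ⟨x, hx⟩ := Groth.Agent.H54.exists_eq_generic_of_denseRange f hdom η hη
    exact (hfib η ⟨x, hx⟩).ge

end Groth.Agent.S10884
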