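import Groth.Statements.S10886
import Mathlib.Topology.Constructible
import Mathlib.Topology.NoetherianSpace
import Mathlib.Topology.KrullDimension
import Mathlib.AlgebraicGeometry.Noetherian
import Mathlib.AlgebraicGeometry.Properties

set_option autoImplicit false
universe u
open CategoryTheory AlgebraicGeometry
open Curves

namespace Groth.Agent.S10886

/-- A finite set of closed points. -/
def P {X : Type*} [TopologicalSpace X] (s : Set X) : Prop :=
  s.Finite ∧ ∀ x ∈ s, IsClosed ({x} : Set X)

theorem P_mono {X : Type*} [TopologicalSpace X] {s t : Set X} (h : s ⊆ t) (ht : P t) : P s :=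
  ⟨ht.1.subset h, fun x hx => ht.2 x (h hx)⟩

theorem P_union {X : Type*} [TopologicalSpace X] {s t : Set X} (hs : P s) (ht : P t) :
    P (s ∪ t) :=
  ⟨hs.1.union ht.1, fun x hx => hx.elim (hs.2 x) (ht.2 x)⟩

theorem P_of_isClosed {X : Type*} [TopologicalSpace X] [TopologicalSpace.NoetherianSpace X]
    [T0Space X] [IrreducibleSpace X] (hX : topologicalKrullDim X = 1) {Z : Set X}
    (hZ : IsClosed Z) (hne : Z ≠ Set.univ) : P Z := by
  obtain ⟨S, hSf, hSc, hSi, rfl⟩ :=
    TopologicalSpace.NoetherianSpace.exists_finite_set_isClosed_irreducible hZ
  have hdim : Order.krullDim (TopologicalSpace.IrreducibleCloseds X) ≤ 1 := hX.le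
  rw [Order.krullDim_le_one_iff] at hdim
  have key : ∀ T ∈ S, ∀ z ∈ T, T = {z} := by
    intro T hT z hz
    have hTne : T ≠ Set.univ := by
      rintro rfl
      exact hne (Set.eq_univ_of_univ_subset (Set.subset_sUnion_of_mem hT))
    have hmin : ∀ w ∈ T, T ⊆ closure {w} := by
      intro w hw
      let a : TopologicalSpace.IrreducibleCloseds X :=
        ⟨closure {w}, isIrreducible_singleton.closure, isClosed_closure⟩
      let b : TopologicalSpace.IrreducibleCloseds X := ⟨T, hSi T hT, hSc T hT⟩
      let c : TopologicalSpace.IrreducibleCloseds X :=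
        ⟨Set.univ, IrreducibleSpace.isIrreducible_univ X, isClosed_univ⟩
      rcases hdim b with hb | hb
      · have hab : a ≤ b := fun x hx =>
          ((hSc T hT).closure_subset_iff.mpr (Set.singleton_subset_iff.mpr hw)) hx
        exact fun x hx => hb hab hx
      · have hbc : b ≤ c := fun x _ => Set.mem_univ x
        have hcb : c ≤ b := hb hbc
        exact absurd (Set.eq_univ_of_univ_subset (fun x hx => hcb hx)) hTne
    refine Set.eq_singleton_iff_unique_mem.mpr ⟨hz, ?_⟩
    intro w hw
    have h1 : closure {w} = closure {z} := by
      apply subset_antisymm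
      · exact isClosed_closure.closure_subset_iff.mpr
          (Set.singleton_subset_iff.mpr (hmin z hz hw))
      · exact isClosed_closure.closure_subset_iff.mpr
          (Set.singleton_subset_iff.mpr (hmin w hw hz))
    exact (inseparable_iff_closure_eq.mpr h1).eq
  refine ⟨hSf.sUnion ?_, ?_⟩
  · intro T hT
    rcases (hSi T hT).nonempty with ⟨z, hz⟩
    rw [key T hT z hz]
    exact Set.finite_singleton z
  · rintro x ⟨T, hT, hx⟩
    have h := key T hT x hx
    rw [← h]
    exact hSc T hT

/-- In an irreducible Noetherian scheme of dimension one every constructible subset is either a finite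
set of closed points or the complement of such a set; in particular it is open or closed. -/
theorem result {X : Scheme.{u}} [IsNoetherian X]
    [IrreducibleSpace X] (hX : topologicalKrullDim X = 1) (s : Set X) (hs : Topology.IsConstructible s) :
    (s.Finite ∧ (∀ x ∈ s, IsClosed ({x} : Set X))) ∨ (sᶜ.Finite ∧ ∀ x ∈ sᶜ, IsClosed ({x} : Set X)) := by
  haveI : TopologicalSpace.NoetherianSpace X := inferInstance
  change P s ∨ P sᶜ
  induction hs using Topology.IsConstructible.empty_union_induction with
  | open_retrocompact U hU _ =>
    by_cases hUe : U = ∅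
    · left
      subst hUe
      exact ⟨Set.finite_empty, fun x hx => hx.elim⟩
    · right
      apply P_of_isClosed hX hU.isClosed_compl
      intro h
      exact hUe (Set.compl_univ_iff.mp h)
  | union s hs t ht hs' ht' =>
    rcases hs' with hs' | hs'
    · rcases ht' with ht' | ht'
      · left
        exact P_union hs' ht'
      · right
        exact P_mono (by rw [Set.compl_union]; exact Set.inter_subset_right) ht'
    · right
      exact P_mono (by rw [Set.compl_union]; exact Set.inter_subset_left) hs'
  | compl s hs hs' =>
    rcases hs' with h | h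
    · right
      rwa [compl_compl]
    · left
      exact h

end Groth.Agent.S10886
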