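import Groth.Statements.S10887
import Groth.Agent.H7.DedekindOpen
import Groth.Agent.H9.SchemeDimStalk

set_option autoImplicit false
universe u
open CategoryTheory AlgebraicGeometry
open FlatMor

namespace Groth.Agent.S10887

open TopologicalSpace Topology

/-- A point with no proper generization has a local ring with a single prime. -/
theorem subsingleton_spec_stalk {X : Scheme.{u}} (ξ : X) (h : ∀ ξ' : X, ξ' ⤳ ξ → ξ' = ξ) :
    Subsingleton (PrimeSpectrum (X.presheaf.stalk ξ)) := by
  refine ⟨fun p q => ?_⟩
  apply (X.fromSpecStalk ξ).isEmbedding.injective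
  have hp : X.fromSpecStalk ξ p ⤳ ξ := by
    have : X.fromSpecStalk ξ p ∈ Set.range (X.fromSpecStalk ξ) := ⟨p, rfl⟩
    rwa [Scheme.range_fromSpecStalk] at this
  have hq : X.fromSpecStalk ξ q ⤳ ξ := by
    have : X.fromSpecStalk ξ q ∈ Set.range (X.fromSpecStalk ξ) := ⟨q, rfl⟩
    rwa [Scheme.range_fromSpecStalk] at this
  rw [h _ hp, h _ hq]

/-- The generic point of an irreducible component has no proper generization. -/
theorem eq_of_specializes_of_isGenericPoint {X : Type*} [TopologicalSpace X] [T0Space X]
    {Z : Set X} (hZ : Z ∈ irreducibleComponents X) {ξ : X} (hξ : IsGenericPoint ξ Z)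
    {ξ' : X} (h : ξ' ⤳ ξ) : ξ' = ξ := by
  have hZ' : Maximal IsIrreducible Z := hZ
  have h1 : closure {ξ} ⊆ closure {ξ'} := specializes_iff_closure_subset.mp h
  have h2 : IsIrreducible (closure {ξ'}) := isIrreducible_singleton.closure
  have h3 : closure {ξ'} ⊆ Z := hZ'.2 h2 (by rw [← hξ.def]; exact h1)
  have h4 : ξ ⤳ ξ' := by
    rw [specializes_iff_mem_closure, hξ.def]
    exact h3 (subset_closure rfl)
  exact (h.antisymm h4).eq

/-- The closure of a point with no proper generization is an irreducible component. -/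
theorem closure_mem_irreducibleComponents {X : Type*} [TopologicalSpace X] [QuasiSober X]
    (ξ : X) (h : ∀ ξ' : X, ξ' ⤳ ξ → ξ' = ξ) : closure {ξ} ∈ irreducibleComponents X := by
  refine ⟨isIrreducible_singleton.closure, fun Z' hZ' hle => ?_⟩
  obtain ⟨ξ', hξ'⟩ := QuasiSober.sober hZ'.closure isClosed_closure
  have h1 : ξ ∈ closure {ξ'} := by
    rw [hξ'.def]
    exact subset_closure (hle (subset_closure rfl))
  have h2 : ξ' ⤳ ξ := specializes_iff_mem_closure.mpr h1
  rw [h _ h2] at hξ'
  show Z' ⊆ closure {ξ}
  rw [hξ'.def]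
  exact subset_closure

/-- (i) ⇔ (iii): let Y be a Dedekind scheme — an integral Noetherian scheme of dimension at most one all
of whose local rings are regular — and f : X → Y a morphism of schemes with X reduced. Then f is
flat if and only if every irreducible component of X dominates Y. (Without reducedness only the
forward implication holds.) -/
theorem result {X Y : Scheme.{u}} [IsIntegral Y]
    [IsNoetherian Y] (hreg : ∀ y : Y, IsRegularLocalRing (Y.presheaf.stalk y)) (hdim : topologicalKrullDim Y ≤ 1)
    (f : X ⟶ Y) [IsReduced X] :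
    Flat f ↔ ∀ Z ∈ irreducibleComponents (X : Type u), Dense (f.base '' Z) := by
  have hη : IsGenericPoint (genericPoint Y) (Set.univ : Set Y) := genericPoint_spec Y
  constructor
  · intro hflat Z hZ
    have hZ' : Maximal IsIrreducible Z := hZ
    obtain ⟨ξ, hξ⟩ := QuasiSober.sober hZ'.1 (isClosed_of_mem_irreducibleComponents Z hZ)
    have hmax : ∀ ξ' : X, ξ' ⤳ ξ → ξ' = ξ :=
      fun ξ' h => eq_of_specializes_of_isGenericPoint hZ hξ h
    haveI := subsingleton_spec_stalk ξ hmax
    have hfl : (f.stalkMap ξ).hom.Flat := (Flat.iff_flat_stalkMap f).mp hflat ξ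
    have hbot : IsLocalRing.maximalIdeal (Y.presheaf.stalk (f ξ)) = ⊥ := by
      letI : Algebra (Y.presheaf.stalk (f ξ)) (X.presheaf.stalk ξ) :=
        (f.stalkMap ξ).hom.toAlgebra
      haveI : Module.Flat (Y.presheaf.stalk (f ξ)) (X.presheaf.stalk ξ) := hfl
      haveI : IsLocalHom (algebraMap (Y.presheaf.stalk (f ξ)) (X.presheaf.stalk ξ)) :=
        inferInstanceAs (IsLocalHom (f.stalkMap ξ).hom)
      haveI : Module.FaithfullyFlat (Y.presheaf.stalk (f ξ)) (X.presheaf.stalk ξ) :=
        Module.FaithfullyFlat.of_flat_of_isLocalHom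
      obtain ⟨P, hP, hPo⟩ := Ideal.exists_isPrime_liesOver_of_faithfullyFlat
        (B := X.presheaf.stalk ξ) (⊥ : Ideal (Y.presheaf.stalk (f ξ)))
      have hPm : P = IsLocalRing.maximalIdeal (X.presheaf.stalk ξ) := by
        have := Subsingleton.elim (⟨P, hP⟩ : PrimeSpectrum (X.presheaf.stalk ξ))
          (IsLocalRing.closedPoint _)
        exact congrArg PrimeSpectrum.asIdeal this
      have hcm := (inferInstance : (IsLocalRing.maximalIdeal (X.presheaf.stalk ξ)).LiesOver
        (IsLocalRing.maximalIdeal (Y.presheaf.stalk (f ξ)))).over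
      rw [hcm, ← hPm]
      exact hPo.over.symm
    have hfξ : f ξ = genericPoint Y := by
      have h1 := Groth.Agent.H7.fromSpecStalk_bot_eq (f ξ) (genericPoint Y) hη
      have h2 : (⟨⊥, Ideal.isPrime_bot⟩ : PrimeSpectrum (Y.presheaf.stalk (f ξ))) =
          IsLocalRing.closedPoint _ := by
        apply PrimeSpectrum.ext
        exact hbot.symm
      rw [h2, Scheme.fromSpecStalk_closedPoint] at h1
      exact h1
    have hsub : ({genericPoint Y} : Set Y) ⊆ f.base '' Z := by
      rintro _ rfl
      exact ⟨ξ, hξ.mem, hfξ⟩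
    exact Dense.mono hsub (dense_iff_closure_eq.mpr hη)
  · intro hdom
    rw [Flat.iff_flat_stalkMap]
    intro x
    haveI := hreg (f x)
    obtain ⟨hdomA, hpid⟩ :=
      Groth.Agent.H7.isDomain_isPrincipalIdealRing_of_regular_dim_le_one (Y.presheaf.stalk (f x))
        ((Groth.Agent.H9.FibDim.ringKrullDim_stalk_le Y (f x)).trans hdim)
    have hcomap : ∀ P ∈ minimalPrimes (X.presheaf.stalk x),
        Ideal.comap (f.stalkMap x).hom P = ⊥ := by
      intro P hP
      haveI hPprime : P.IsPrime := hP.1.1
      have hξx : X.fromSpecStalk x (⟨P, hPprime⟩ : PrimeSpectrum (X.presheaf.stalk x)) ⤳ x := by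
        have : X.fromSpecStalk x (⟨P, hPprime⟩ : PrimeSpectrum (X.presheaf.stalk x)) ∈
            Set.range (X.fromSpecStalk x) := ⟨_, rfl⟩
        rwa [Scheme.range_fromSpecStalk] at this
      have hmax : ∀ ξ' : X,
          ξ' ⤳ X.fromSpecStalk x (⟨P, hPprime⟩ : PrimeSpectrum (X.presheaf.stalk x)) →
          ξ' = X.fromSpecStalk x (⟨P, hPprime⟩ : PrimeSpectrum (X.presheaf.stalk x)) := by
        intro ξ' h
        have h' : ξ' ∈ Set.range (X.fromSpecStalk x) := by
          rw [Scheme.range_fromSpecStalk]
          exact h.trans hξx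
        obtain ⟨p', hp'⟩ := h'
        have h2 : p' ⤳ (⟨P, hPprime⟩ : PrimeSpectrum (X.presheaf.stalk x)) := by
          rw [← (X.fromSpecStalk x).isEmbedding.isInducing.specializes_iff, hp']
          exact h
        have h3 : p'.asIdeal ≤ P := (PrimeSpectrum.le_iff_specializes p' ⟨P, hPprime⟩).mpr h2
        have h4 : P ≤ p'.asIdeal := hP.2 ⟨p'.isPrime, bot_le⟩ h3
        have h5 : p' = ⟨P, hPprime⟩ := PrimeSpectrum.ext (le_antisymm h3 h4)
        rw [← hp', h5]
      have hcomp := closure_mem_irreducibleComponents _ hmax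
      have hd := hdom _ hcomp
      have hgen : IsGenericPoint
          (f (X.fromSpecStalk x (⟨P, hPprime⟩ : PrimeSpectrum (X.presheaf.stalk x))))
          (Set.univ : Set Y) := by
        have h1 : f.base '' closure
            {X.fromSpecStalk x (⟨P, hPprime⟩ : PrimeSpectrum (X.presheaf.stalk x))} ⊆
            closure {f (X.fromSpecStalk x (⟨P, hPprime⟩ : PrimeSpectrum (X.presheaf.stalk x)))} := by
          have := image_closure_subset_closure_image
            (s := ({X.fromSpecStalk x (⟨P, hPprime⟩ : PrimeSpectrum (X.presheaf.stalk x))} : Set X))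
            f.continuous
          rw [Set.image_singleton] at this
          exact this
        have h2 := closure_minimal h1 isClosed_closure
        have h3 : Set.univ ⊆
            closure {f (X.fromSpecStalk x (⟨P, hPprime⟩ : PrimeSpectrum (X.presheaf.stalk x)))} := by
          rw [← hd.closure_eq]
          exact h2
        exact Set.eq_univ_of_univ_subset h3
      haveI : IsDomain (Y.presheaf.stalk (f x)) := hdomA
      have hb := Groth.Agent.H7.fromSpecStalk_bot_eq (f x) _ hgen
      have hcomm := congrArg (fun ψ : Spec (X.presheaf.stalk x) ⟶ Y =>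
        ψ (⟨P, hPprime⟩ : PrimeSpectrum (X.presheaf.stalk x)))
        (Scheme.SpecMap_stalkMap_fromSpecStalk (f := f) (x := x))
      simp only [Scheme.Hom.comp_apply] at hcomm
      have h3 := (Y.fromSpecStalk (f x)).isEmbedding.injective (hcomm.trans hb.symm)
      exact congrArg PrimeSpectrum.asIdeal h3
    letI : Algebra (Y.presheaf.stalk (f x)) (X.presheaf.stalk x) := (f.stalkMap x).hom.toAlgebra
    show Module.Flat (Y.presheaf.stalk (f x)) (X.presheaf.stalk x)
    haveI : IsDomain (Y.presheaf.stalk (f x)) := hdomA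
    haveI : IsPrincipalIdealRing (Y.presheaf.stalk (f x)) := hpid
    haveI : Module.IsTorsionFree (Y.presheaf.stalk (f x)) (X.presheaf.stalk x) := by
      refine ⟨fun a ha b b' hbb' => ?_⟩
      have ha0 : a ≠ 0 := ha.ne_zero
      have h1 : (f.stalkMap x).hom a * (b - b') = 0 := by
        have : a • b = a • b' := hbb'
        rw [Algebra.smul_def, Algebra.smul_def, RingHom.algebraMap_toAlgebra] at this
        rw [mul_sub, this, sub_self]
      have hmem : b - b' ∈ sInf (minimalPrimes (X.presheaf.stalk x)) := by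
        rw [Ideal.mem_sInf]
        intro P hP
        haveI : P.IsPrime := hP.1.1
        have h3 : (f.stalkMap x).hom a * (b - b') ∈ P := by
          rw [h1]
          exact P.zero_mem
        rcases Ideal.IsPrime.mem_or_mem ‹P.IsPrime› h3 with h4 | h4
        · exfalso
          have h5 : a ∈ Ideal.comap (f.stalkMap x).hom P := h4
          rw [hcomap P hP] at h5
          exact ha0 (Ideal.mem_bot.mp h5)
        · exact h4
      have hnil : sInf (minimalPrimes (X.presheaf.stalk x)) = ⊥ := by
        show sInf (⊥ : Ideal (X.presheaf.stalk x)).minimalPrimes = ⊥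
        rw [Ideal.sInf_minimalPrimes, ← Ideal.zero_eq_bot]
        exact nilradical_eq_zero _
      rw [hnil, Ideal.mem_bot] at hmem
      exact sub_eq_zero.mp hmem
    infer_instance

end Groth.Agent.S10887
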