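import Groth.Statements.S10889
import Mathlib
import Groth.Agent.S0450

set_option autoImplicit false
universe u
open CategoryTheory AlgebraicGeometry
open FlatMor

namespace Groth.Agent.S10889


open AlgebraicGeometry CategoryTheory Limits Topology

theorem nonneg_dim_iff (X : Type*) [TopologicalSpace X] :
    0 ≤ topologicalKrullDim X ↔ Nonempty X := by
  unfold topologicalKrullDim
  rw [Order.krullDim_nonneg_iff]
  constructor
  · rintro ⟨Z⟩
    obtain ⟨x, _⟩ := Z.isIrreducible'.nonempty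
    exact ⟨x⟩
  · rintro ⟨x⟩
    exact ⟨⟨closure {x}, isIrreducible_singleton.closure, isClosed_closure⟩⟩

theorem mem_V_iff {X Y : Scheme.{u}} (f : X ⟶ Y) [LocallyOfFiniteType f] [QuasiCompact f] (y : Y) :
    topologicalKrullDim (f.base ⁻¹' {y}) = 0 ↔ (f ⁻¹' {y}).Finite ∧ y ∈ Set.range f := by
  have hd : topologicalKrullDim ↥(f.fiber y) = topologicalKrullDim (f.base ⁻¹' {y}) :=
    IsHomeomorph.topologicalKrullDim_eq _ (f.fiberHomeo y).isHomeomorph
  rw [← hd, Groth.Agent.S0450.finite_fibre_iff_dim f y]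
  constructor
  · intro h
    refine ⟨h.le, ?_⟩
    have h0 : 0 ≤ topologicalKrullDim ↥(f.fiber y) := h.ge
    obtain ⟨z⟩ := (nonneg_dim_iff _).mp h0
    exact ⟨(f.fiberHomeo y z).1, Set.mem_singleton_iff.mp (f.fiberHomeo y z).2⟩
  · rintro ⟨h1, ⟨x, hx⟩⟩
    refine le_antisymm h1 ((nonneg_dim_iff _).mpr ?_)
    subst hx
    exact ⟨f.asFiber x⟩

theorem finite_fibre_of_mem {X S : Scheme.{u}} (f : X ⟶ S) (U : S.Opens) [IsFinite (f ∣_ U)]
    (s : S) (hs : s ∈ U) : (f ⁻¹' {s}).Finite := by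
  obtain ⟨u, hu⟩ : s ∈ Set.range U.ι := by
    rw [Scheme.Opens.range_ι]
    exact hs
  have h1 := (f ∣_ U).finite_preimage_singleton u
  refine (h1.image (f ⁻¹ᵁ U).ι).subset ?_
  intro x hx
  have hx' : f x = s := Set.mem_singleton_iff.mp hx
  have hxU : x ∈ f ⁻¹ᵁ U := by
    show f x ∈ U
    rw [hx']
    exact hs
  obtain ⟨x', hx'x⟩ : x ∈ Set.range (f ⁻¹ᵁ U).ι := by
    rw [Scheme.Opens.range_ι]
    exact hxU
  refine ⟨x', Set.mem_singleton_iff.mpr ?_, hx'x⟩
  apply U.ι.isOpenEmbedding.injective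
  rw [← Scheme.Hom.comp_apply, morphismRestrict_ι, Scheme.Hom.comp_apply, hx'x, hx', hu]

theorem isOpen_finite_locus {X Y : Scheme.{u}} (f : X ⟶ Y) [IsProper f] :
    IsOpen {y : Y | (f ⁻¹' {y}).Finite} := by
  rw [isOpen_iff_forall_mem_open]
  intro y hy
  obtain ⟨V, hyV, hV⟩ := exists_isFinite_morphismRestrict_of_finite_preimage_singleton f y hy
  haveI := hV
  exact ⟨V, fun s hs => finite_fibre_of_mem f V s hs, V.isOpen, hyV⟩

theorem isLocallyConstructible_finite_locus {X S : Scheme.{u}} (f : X ⟶ S)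
    [LocallyOfFinitePresentation f] [QuasiCompact f] [QuasiSeparated f] :
    IsLocallyConstructible {s : S | (f ⁻¹' {s}).Finite} := by
  have h0 := Groth.Agent.S1333.result f 0
  have hb := Groth.Agent.S1333.result f ⊥
  have heq : {s : S | (f ⁻¹' {s}).Finite} =
      {y : S | topologicalKrullDim ↥(f.fiber y) = ⊥} ∪
        {y : S | topologicalKrullDim ↥(f.fiber y) = 0} := by
    ext s
    simp only [Set.mem_ofPred_eq, Set.mem_union]
    rw [Groth.Agent.S0450.finite_fibre_iff_dim, Groth.Agent.S0450.withBot_enat_le_zero_iff]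
  rw [heq]
  exact hb.union h0

theorem isClosed_finite_locus {X Y : Scheme.{u}} (f : X ⟶ Y) [IsProper f] [Flat f]
    [LocallyOfFinitePresentation f] : IsClosed {y : Y | (f ⁻¹' {y}).Finite} := by
  rw [← isOpen_compl_iff, isOpen_iff_forall_mem_open]
  intro s hs
  obtain ⟨_, ⟨W, hW, rfl⟩, hsW, -⟩ := Y.isBasis_affineOpens.exists_subset_of_mem_open
    (Set.mem_univ s) isOpen_univ
  haveI := hW.isOpenImmersion_fromSpec
  have hj : IsOpenEmbedding hW.fromSpec := hW.fromSpec.isOpenEmbedding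
  have hLC := isLocallyConstructible_finite_locus f
  have hspec : StableUnderSpecialization {s : Y | (f ⁻¹' {s}).Finite} := by
    intro s₁ s hs hs₁
    exact Groth.Agent.S0450.finite_fibre_of_specializes f hs hs₁
  have hcons : IsConstructible (hW.fromSpec ⁻¹' {s : Y | (f ⁻¹' {s}).Finite}) :=
    (hLC.preimage_of_isOpenEmbedding hj).isConstructible
  have hst : StableUnderSpecialization (hW.fromSpec ⁻¹' {s : Y | (f ⁻¹' {s}).Finite}) :=
    hspec.preimage hW.fromSpec.continuous
  have hcl : IsClosed (hW.fromSpec ⁻¹' {s : Y | (f ⁻¹' {s}).Finite}) :=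
    PrimeSpectrum.isClosed_of_stableUnderSpecialization_of_isConstructible hst hcons
  refine ⟨hW.fromSpec '' (hW.fromSpec ⁻¹' {s : Y | (f ⁻¹' {s}).Finite})ᶜ, ?_,
    hj.isOpenMap _ hcl.isOpen_compl, ?_⟩
  · rintro _ ⟨x, hx, rfl⟩
    exact hx
  · obtain ⟨x, hx⟩ : s ∈ Set.range hW.fromSpec := by
      rw [hW.range_fromSpec]
      exact hsW
    refine ⟨x, ?_, hx⟩
    rw [Set.mem_compl_iff, Set.mem_preimage, hx]
    exact hs



/-- Let f : X → Y be proper, flat and of finite presentation, and let V be the set of points of Y whose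
fibre is (non-empty and) zero-dimensional. Then V is a clopen subset of Y, and over every open
subset of V the restriction of f is finite, hence finite locally free. -/
theorem result {X Y : Scheme.{u}} (f : X ⟶ Y) [IsProper f] [Flat f]
    [LocallyOfFinitePresentation f] :
    IsClopen {y : Y | topologicalKrullDim (f.base ⁻¹' {y}) = 0} ∧
      ∀ U : Y.Opens, (U : Set Y) ⊆ {y : Y | topologicalKrullDim (f.base ⁻¹' {y}) = 0} → IsFinite (f ∣_ U) := by
  have hV : {y : Y | topologicalKrullDim (f.base ⁻¹' {y}) = 0} =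
      {y : Y | (f ⁻¹' {y}).Finite} ∩ Set.range f := by
    ext y
    exact mem_V_iff f y
  refine ⟨?_, ?_⟩
  · rw [hV]
    exact ⟨(isClosed_finite_locus f).inter f.isClosedMap.isClosed_range,
      (isOpen_finite_locus f).inter f.isOpenMap.isOpen_range⟩
  · intro U hU
    haveI : LocallyQuasiFinite (f ∣_ U) := by
      rw [locallyQuasiFinite_iff_finite_preimage_singleton]
      intro u
      have hu : U.ι u ∈ (U : Set Y) := by
        have : U.ι u ∈ Set.range U.ι := ⟨u, rfl⟩
        rwa [Scheme.Opens.range_ι] at this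
      have h1 : (f ⁻¹' {U.ι u}).Finite := ((mem_V_iff f _).mp (hU hu)).1
      refine Set.Finite.of_finite_image (f := (f ⁻¹ᵁ U).ι) (h1.subset ?_)
        (f ⁻¹ᵁ U).ι.isOpenEmbedding.injective.injOn
      rintro _ ⟨x, hx, rfl⟩
      have hx' : (f ∣_ U) x = u := Set.mem_singleton_iff.mp hx
      refine Set.mem_singleton_iff.mpr ?_
      rw [← Scheme.Hom.comp_apply, ← morphismRestrict_ι, Scheme.Hom.comp_apply, hx']
    exact IsFinite.of_isProper_of_locallyQuasiFinite _

end Groth.Agent.S10889
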