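import Groth.Statements.S10890
import Mathlib
import Groth.Agent.S6297

set_option autoImplicit false
universe u
open CAlgX

namespace Groth.Agent.S10890


open Matrix in
theorem det_mul_eq_zero_of_lt {R : Type*} [CommRing R] {a b : ℕ} (hab : b < a)
    (B : Matrix (Fin a) (Fin b) R) (A : Matrix (Fin b) (Fin a) R) : (B * A).det = 0 := by
  rw [Groth.Agent.S6297.det_mul_expand]
  refine Finset.sum_eq_zero fun κ _ => ?_
  obtain ⟨i, j, hij, hκ⟩ := Fintype.exists_ne_map_eq_of_card_lt κ (by simpa using hab)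
  rw [Matrix.det_zero_of_row_eq hij (by funext l; simp [Matrix.submatrix_apply, hκ]), mul_zero]

open Matrix in
theorem forward (R : Type*) [CommRing R] [IsLocalRing R] (n m r : ℕ)
    (A : Matrix (Fin n) (Fin m) R) (N' : Submodule R (Fin n → R))
    (hc : IsCompl (LinearMap.range (Matrix.mulVecLin A)) N')
    (hrk : Module.finrank R (LinearMap.range (Matrix.mulVecLin A)) = r) :
    CAlgX.minorIdeal A (r + 1) = ⊥ ∧ CAlgX.minorIdeal A r = ⊤ := by
  obtain ⟨M, hM⟩ : ∃ M : Submodule R (Fin n → R), M = LinearMap.range (Matrix.mulVecLin A) :=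
    ⟨_, rfl⟩
  rw [← hM] at hc hrk
  obtain ⟨p, hp⟩ : ∃ p : (Fin n → R) →ₗ[R] M, ∀ x : M, p x = x :=
    ⟨Submodule.projectionOnto M N' hc, fun x => Submodule.projectionOnto_apply_left hc x⟩
  have hproj : Module.Projective R M :=
    Module.Projective.of_split M.subtype p (LinearMap.ext fun x => hp x)
  have hfin : Module.Finite R M := by rw [hM]; infer_instance
  have hfree : Module.Free R M := Module.free_of_flat_of_isLocalRing
  obtain ⟨u⟩ : Nonempty (Module.Basis (Fin r) R M) := ⟨Module.finBasisOfFinrankEq R M hrk⟩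
  obtain ⟨Ul, hUl⟩ : ∃ Ul : (Fin r → R) →ₗ[R] (Fin n → R),
      ∀ x, Ul x = ((u.equivFun.symm x : M) : Fin n → R) :=
    ⟨M.subtype ∘ₗ u.equivFun.symm.toLinearMap, fun x => rfl⟩
  obtain ⟨Vl, hVl⟩ : ∃ Vl : (Fin n → R) →ₗ[R] (Fin r → R), ∀ x, Vl x = u.equivFun (p x) :=
    ⟨u.equivFun.toLinearMap ∘ₗ p, fun x => rfl⟩
  have hVU : Vl ∘ₗ Ul = LinearMap.id := by
    refine LinearMap.ext fun x => ?_
    rw [LinearMap.comp_apply, hVl, hUl, hp, LinearEquiv.apply_symm_apply, LinearMap.id_apply]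
  have hUVA : Ul ∘ₗ (Vl ∘ₗ Matrix.toLin' A) = Matrix.toLin' A := by
    refine LinearMap.ext fun x => ?_
    have hmem : Matrix.toLin' A x ∈ M := by
      rw [hM, Matrix.toLin'_apply']; exact LinearMap.mem_range_self _ x
    rw [LinearMap.comp_apply, LinearMap.comp_apply, hVl, hUl]
    have h2 := hp ⟨_, hmem⟩
    simp only at h2
    rw [h2, LinearEquiv.symm_apply_apply]
  have hd : ∀ k : Fin r, ∃ d : Fin m → R, Matrix.toLin' A d = Ul (Pi.single k 1) := by
    intro k
    have hmem : Ul (Pi.single k 1) ∈ M := by rw [hUl]; exact Submodule.coe_mem _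
    rw [hM, ← Matrix.toLin'_apply'] at hmem
    exact hmem
  choose d hd' using hd
  obtain ⟨Dl, hDl⟩ : ∃ Dl : (Fin r → R) →ₗ[R] (Fin m → R),
      Matrix.toLin' A ∘ₗ Dl = Ul := by
    refine ⟨(Pi.basisFun R (Fin r)).constr R d, ?_⟩
    refine (Pi.basisFun R (Fin r)).ext fun k => ?_
    rw [LinearMap.comp_apply, Module.Basis.constr_basis, hd', Pi.basisFun_apply]
  obtain ⟨U, hU⟩ : ∃ U : Matrix (Fin n) (Fin r) R, U = LinearMap.toMatrix' Ul := ⟨_, rfl⟩
  obtain ⟨V, hV⟩ : ∃ V : Matrix (Fin r) (Fin n) R, V = LinearMap.toMatrix' Vl := ⟨_, rfl⟩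
  obtain ⟨D, hD⟩ : ∃ D : Matrix (Fin m) (Fin r) R, D = LinearMap.toMatrix' Dl := ⟨_, rfl⟩
  have hVU' : V * U = 1 := by
    rw [hU, hV, ← LinearMap.toMatrix'_comp, hVU, LinearMap.toMatrix'_id]
  have hA : A = U * (V * A) := by
    conv_lhs => rw [← LinearMap.toMatrix'_toLin' A, ← hUVA]
    rw [LinearMap.toMatrix'_comp, LinearMap.toMatrix'_comp, LinearMap.toMatrix'_toLin', hU, hV]
  have hAD : (V * A) * D = 1 := by
    have h1 : Vl ∘ₗ (Matrix.toLin' A ∘ₗ Dl) = LinearMap.id := by rw [hDl, hVU]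
    rw [Matrix.mul_assoc, hV, hD]
    conv_lhs => rw [← LinearMap.toMatrix'_toLin' A]
    rw [← LinearMap.toMatrix'_comp, ← LinearMap.toMatrix'_comp, h1, LinearMap.toMatrix'_id]
  obtain ⟨A', hA'⟩ : ∃ A' : Matrix (Fin r) (Fin m) R, A' = V * A := ⟨_, rfl⟩
  rw [← hA'] at hA hAD
  have hsub : ∀ {s : ℕ} (f : Fin s → Fin n) (g : Fin s → Fin m),
      A.submatrix f g = U.submatrix f id * A'.submatrix id g := by
    intro s f g
    conv_lhs => rw [hA]
    exact Matrix.submatrix_mul U A' f id g Function.bijective_id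
  constructor
  · rw [eq_bot_iff]
    refine Ideal.span_le.mpr ?_
    rintro _ ⟨⟨f, g⟩, rfl⟩
    simp only [SetLike.mem_coe, Ideal.mem_bot]
    rw [hsub f g]
    exact det_mul_eq_zero_of_lt (Nat.lt_succ_self r) _ _
  · rw [Ideal.eq_top_iff_one]
    have h1 : (1 : R) = ∑ κ : Fin r → Fin n, (∏ i, V i (κ i)) * (U.submatrix κ id).det := by
      rw [← Groth.Agent.S6297.det_mul_expand, hVU', Matrix.det_one]
    have h2 : (1 : R) = ∑ κ : Fin r → Fin m, (∏ i, Dᵀ i (κ i)) * (A'.submatrix id κ).det := by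
      have h3 : (Dᵀ * A'ᵀ).det = 1 := by
        rw [← Matrix.transpose_mul, Matrix.det_transpose, hAD, Matrix.det_one]
      rw [← h3, Groth.Agent.S6297.det_mul_expand]
      refine Finset.sum_congr rfl fun κ _ => ?_
      congr 1
      rw [← Matrix.det_transpose]
      rfl
    have h4 : (1 : R) = 1 * 1 := (one_mul 1).symm
    rw [h4]
    nth_rewrite 1 [h1]
    nth_rewrite 1 [h2]
    rw [Finset.sum_mul_sum]
    refine Ideal.sum_mem _ fun κ _ => Ideal.sum_mem _ fun κ' _ => ?_
    have h5 : (∏ i, V i (κ i)) * (U.submatrix κ id).det *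
        ((∏ i, Dᵀ i (κ' i)) * (A'.submatrix id κ').det) =
        ((∏ i, V i (κ i)) * (∏ i, Dᵀ i (κ' i))) * (A.submatrix κ κ').det := by
      rw [hsub κ κ', Matrix.det_mul]; ring
    rw [h5]
    exact Ideal.mul_mem_left _ _ (Ideal.subset_span ⟨(κ, κ'), rfl⟩)

theorem exists_isUnit_of_span_eq_top {R : Type*} [CommRing R] [IsLocalRing R] (S : Set R)
    (h : Ideal.span S = ⊤) : ∃ s ∈ S, IsUnit s := by
  by_contra hno
  push Not at hno
  have hle : Ideal.span S ≤ IsLocalRing.maximalIdeal R := by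
    refine Ideal.span_le.mpr fun s hs => ?_
    exact (IsLocalRing.mem_maximalIdeal s).mpr (hno s hs)
  rw [h] at hle
  exact (IsLocalRing.maximalIdeal.isMaximal R).ne_top (top_le_iff.mp hle)

open Matrix in
theorem backward (R : Type*) [CommRing R] [IsLocalRing R] (n m r : ℕ)
    (A : Matrix (Fin n) (Fin m) R)
    (h0 : CAlgX.minorIdeal A (r + 1) = ⊥) (h1 : CAlgX.minorIdeal A r = ⊤) :
    ∃ N' : Submodule R (Fin n → R), IsCompl (LinearMap.range (Matrix.mulVecLin A)) N' ∧
        Module.finrank R (LinearMap.range (Matrix.mulVecLin A)) = r := by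
  obtain ⟨_, ⟨⟨f, g⟩, rfl⟩, hunit⟩ := exists_isUnit_of_span_eq_top _ h1
  simp only at hunit
  obtain ⟨B, hB⟩ : ∃ B : Matrix (Fin r) (Fin r) R, B = A.submatrix f g := ⟨_, rfl⟩
  rw [← hB] at hunit
  have hBinv : Invertible B := ((Matrix.isUnit_iff_isUnit_det B).mpr hunit).invertible
  -- the key identity from vanishing minors
  have hkey : ∀ (i : Fin n) (j : Fin m),
      A i j = ((Matrix.of fun (_ : Fin 1) k => A i (g k)) * ⅟B *
        (Matrix.of fun k (_ : Fin 1) => A (f k) j)) 0 0 := by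
    intro i j
    have hz : (A.submatrix (Sum.elim f (fun _ : Fin 1 => i) ∘ finSumFinEquiv.symm)
        (Sum.elim g (fun _ : Fin 1 => j) ∘ finSumFinEquiv.symm)).det = 0 := by
      have hmem : (A.submatrix (Sum.elim f (fun _ : Fin 1 => i) ∘ finSumFinEquiv.symm)
          (Sum.elim g (fun _ : Fin 1 => j) ∘ finSumFinEquiv.symm)).det ∈
          CAlgX.minorIdeal A (r + 1) := Ideal.subset_span ⟨(_, _), rfl⟩
      rw [h0] at hmem
      exact hmem
    have hblocks : A.submatrix (Sum.elim f (fun _ : Fin 1 => i) ∘ finSumFinEquiv.symm)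
        (Sum.elim g (fun _ : Fin 1 => j) ∘ finSumFinEquiv.symm) =
        (Matrix.fromBlocks B (Matrix.of fun k (_ : Fin 1) => A (f k) j)
          (Matrix.of fun (_ : Fin 1) k => A i (g k))
          (Matrix.of fun (_ : Fin 1) (_ : Fin 1) => A i j)).submatrix
          finSumFinEquiv.symm finSumFinEquiv.symm := by
      ext x y
      simp only [Matrix.submatrix_apply, Function.comp_apply, hB]
      rcases finSumFinEquiv.symm x with k | k <;> rcases finSumFinEquiv.symm y with l | l <;> rfl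
    rw [hblocks, Matrix.det_submatrix_equiv_self, Matrix.det_fromBlocks₁₁] at hz
    have hz2 := (hunit.mul_right_eq_zero).mp hz
    rw [Matrix.det_unique] at hz2
    simp only [Matrix.sub_apply, Matrix.of_apply] at hz2
    have hz3 := sub_eq_zero.mp hz2
    rw [hz3]
    rfl
  obtain ⟨C, hC⟩ : ∃ C : Matrix (Fin n) (Fin r) R, C = A.submatrix id g := ⟨_, rfl⟩
  obtain ⟨X, hX⟩ : ∃ X : Matrix (Fin r) (Fin m) R, X = ⅟B * A.submatrix f id := ⟨_, rfl⟩
  have hACX : A = C * X := by
    ext i j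
    rw [hkey i j, Matrix.mul_assoc, Matrix.mul_apply, hC, hX, Matrix.mul_apply]
    refine Finset.sum_congr rfl fun k _ => ?_
    simp only [Matrix.of_apply, Matrix.submatrix_apply, id, Matrix.mul_apply]
  have hCA : C = A * (1 : Matrix (Fin m) (Fin m) R).submatrix id g := by
    have h := Matrix.submatrix_mul A (1 : Matrix (Fin m) (Fin m) R) (id : Fin n → Fin n) id g
      Function.bijective_id
    rw [Matrix.mul_one, Matrix.submatrix_id_id] at h
    rw [hC, h]
  have hrange : LinearMap.range (Matrix.mulVecLin A) = LinearMap.range (Matrix.mulVecLin C) := by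
    apply le_antisymm
    · conv_lhs => rw [hACX, Matrix.mulVecLin_mul]
      exact LinearMap.range_comp_le_range _ _
    · conv_lhs => rw [hCA, Matrix.mulVecLin_mul]
      exact LinearMap.range_comp_le_range _ _
  have hpC : ∀ x : Fin r → R, LinearMap.funLeft R R f (C *ᵥ x) = B *ᵥ x := by
    intro x
    funext k
    rw [LinearMap.funLeft_apply, hC, hB]
    rfl
  have hinv : ∀ x : Fin r → R, ⅟B *ᵥ (B *ᵥ x) = x := by
    intro x
    rw [Matrix.mulVec_mulVec, invOf_mul_self, Matrix.one_mulVec]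
  have hinv' : ∀ y : Fin r → R, B *ᵥ (⅟B *ᵥ y) = y := by
    intro y
    rw [Matrix.mulVec_mulVec, mul_invOf_self, Matrix.one_mulVec]
  have hCinj : Function.Injective (Matrix.mulVecLin C) := by
    intro x y hxy
    simp only [Matrix.mulVecLin_apply] at hxy
    have h2 : B *ᵥ x = B *ᵥ y := by rw [← hpC, ← hpC, hxy]
    rw [← hinv x, ← hinv y, h2]
  refine ⟨LinearMap.ker (LinearMap.funLeft R R f), ?_, ?_⟩
  · rw [hrange]
    constructor
    · rw [Submodule.disjoint_def]
      rintro _ ⟨x, rfl⟩ hx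
      rw [LinearMap.mem_ker, Matrix.mulVecLin_apply, hpC] at hx
      have hx0 : x = 0 := by rw [← hinv x, hx, Matrix.mulVec_zero]
      rw [hx0, map_zero]
    · rw [codisjoint_iff, Submodule.eq_top_iff']
      intro v
      rw [Submodule.mem_sup]
      refine ⟨C *ᵥ (⅟B *ᵥ (LinearMap.funLeft R R f v)), ⟨_, rfl⟩,
        v - C *ᵥ (⅟B *ᵥ (LinearMap.funLeft R R f v)), ?_, by abel⟩
      rw [LinearMap.mem_ker, map_sub, hpC, hinv', sub_self]
  · rw [hrange, ← (LinearEquiv.ofInjective (Matrix.mulVecLin C) hCinj).finrank_eq,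
      Module.finrank_fin_fun]

/-- (i) ⇔ (ii): let R be a local ring, A an n × m matrix over R regarded as a linear map R^m → R^n, and
1 ≤ r ≤ n. Then the image of A is a direct summand of R^n of rank r if and only if every (r+1) ×
(r+1) minor of A is zero and the r × r minors of A generate the unit ideal. (The printed statement
is over an arbitrary ring with 'direct summand of rank r'; its proof localises at once, and this row
states the local case, where a direct summand of R^n is free and its rank is its finrank.) -/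
theorem result (R : Type u) [CommRing R] [IsLocalRing R] (n m r : ℕ)
    (hr : 1 ≤ r) (hrn : r ≤ n) (A : Matrix (Fin n) (Fin m) R) :
    (∃ N' : Submodule R (Fin n → R), IsCompl (LinearMap.range (Matrix.mulVecLin A)) N' ∧
        Module.finrank R (LinearMap.range (Matrix.mulVecLin A)) = r) ↔
      (CAlgX.minorIdeal A (r + 1) = ⊥ ∧ CAlgX.minorIdeal A r = ⊤) := by
  constructor
  · rintro ⟨N', hc, hrk⟩
    exact forward R n m r A N' hc hrk
  · rintro ⟨h0, h1⟩
    exact backward R n m r A h0 h1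

end Groth.Agent.S10890
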