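import Groth.Statements.S10891
import Mathlib.Algebra.MvPolynomial.Eval
import Mathlib.RingTheory.RootsOfUnity.PrimitiveRoots
import Mathlib.Algebra.Algebra.Subalgebra.Basic
import Mathlib.Tactic.FinCases
import Mathlib.Tactic.Ring

set_option autoImplicit false
universe u
open CAlg

namespace Groth.Agent.S10891

open MvPolynomial in
/-- The rescaling endomorphism. -/
noncomputable def sig {k : Type u} [Field k] (w : Fin 2 → k) :
    MvPolynomial (Fin 2) k →ₐ[k] MvPolynomial (Fin 2) k :=
  aeval (fun i => C (w i) * X i)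

open MvPolynomial in
theorem sig_monomial {k : Type u} [Field k] (w : Fin 2 → k) (s : Fin 2 →₀ ℕ) (c : k) :
    sig w (monomial s c) = monomial s (c * (w 0 ^ s 0 * w 1 ^ s 1)) := by
  unfold sig
  rw [aeval_monomial, monomial_eq (s := s) (a := c * _),
    Finsupp.prod_fintype _ _ (fun i => pow_zero _),
    Finsupp.prod_fintype _ _ (fun i => pow_zero _), Fin.prod_univ_two, Fin.prod_univ_two]
  simp only [mul_pow, ← C_pow, C_mul, algebraMap_eq]
  ring

open MvPolynomial in
theorem coeff_sig {k : Type u} [Field k] (w : Fin 2 → k) (p : MvPolynomial (Fin 2) k)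
    (m : Fin 2 →₀ ℕ) :
    coeff m (sig w p) = coeff m p * (w 0 ^ m 0 * w 1 ^ m 1) := by
  induction p using MvPolynomial.induction_on' with
  | monomial s c =>
    rw [sig_monomial, coeff_monomial, coeff_monomial]
    split_ifs with h
    · subst h; rfl
    · simp
  | add p q hp hq => rw [map_add, coeff_add, coeff_add, hp, hq, add_mul]

/-- Let k be a field containing a primitive r-th root of unity ζ and 0 < a < r. The cyclic group of r-th
roots of unity acts on k[X, Y] through the generator X ↦ ζ⁻¹ X, Y ↦ ζ^(−a) Y, and the ring of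
invariants of this action is generated as a k-algebra by the monomials X^i Y^j with 0 ≤ i, j ≤ r,
(i, j) ≠ (r, r) and i + a·j ≡ 0 (mod r). (The printed statement writes n for the order of the group,
which the surrounding section calls r.) -/
theorem result (k : Type u) [Field k] (r a : ℕ) (ha : 0 < a) (har : a < r)
    (ζ : k) (hζ : IsPrimitiveRoot ζ r) (p : MvPolynomial (Fin 2) k) :
    MvPolynomial.aeval (fun i : Fin 2 => if i = 0 then MvPolynomial.C ζ⁻¹ * MvPolynomial.X 0
        else MvPolynomial.C (ζ⁻¹ ^ a) * (MvPolynomial.X 1 : MvPolynomial (Fin 2) k)) p = p ↔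
      p ∈ Algebra.adjoin k {q : MvPolynomial (Fin 2) k | ∃ i j : ℕ, i ≤ r ∧ j ≤ r ∧ ¬ (i = r ∧ j = r) ∧
        r ∣ i + a * j ∧ q = MvPolynomial.X 0 ^ i * MvPolynomial.X 1 ^ j} := by
  classical
  set w : Fin 2 → k := fun i => if i = 0 then ζ⁻¹ else ζ⁻¹ ^ a with hw
  have hσ : ∀ q : MvPolynomial (Fin 2) k,
      MvPolynomial.aeval (fun i : Fin 2 => if i = 0 then MvPolynomial.C ζ⁻¹ * MvPolynomial.X 0
        else MvPolynomial.C (ζ⁻¹ ^ a) * (MvPolynomial.X 1 : MvPolynomial (Fin 2) k)) q
        = sig w q := by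
    intro q
    unfold sig
    congr 2
    funext i
    fin_cases i <;> simp [hw]
  rw [hσ]
  have hζ' : IsPrimitiveRoot ζ⁻¹ r := hζ.inv
  have hχ : ∀ i j : ℕ, w 0 ^ i * w 1 ^ j = 1 ↔ r ∣ i + a * j := by
    intro i j
    have h1 : w 0 ^ i * w 1 ^ j = ζ⁻¹ ^ (i + a * j) := by
      simp [hw, pow_add, pow_mul]
    rw [h1, hζ'.pow_eq_one_iff_dvd]
  have hr : 0 < r := by omega
  constructor
  · intro h
    have hsupp : ∀ m ∈ p.support, r ∣ m 0 + a * m 1 := by
      intro m hm
      rw [← hχ]
      have h1 := coeff_sig w p m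
      rw [h] at h1
      have hne : MvPolynomial.coeff m p ≠ 0 := MvPolynomial.mem_support_iff.mp hm
      have h2 : MvPolynomial.coeff m p * 1 = MvPolynomial.coeff m p * (w 0 ^ m 0 * w 1 ^ m 1) := by
        rw [mul_one]; exact h1
      exact (mul_left_cancel₀ hne h2).symm
    rw [p.as_sum]
    apply Subalgebra.sum_mem
    intro m hm
    have hd := hsupp m hm
    have hmon : MvPolynomial.monomial m (MvPolynomial.coeff m p) =
        MvPolynomial.C (MvPolynomial.coeff m p) *
          (((MvPolynomial.X 0 : MvPolynomial (Fin 2) k) ^ r) ^ (m 0 / r) *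
            ((MvPolynomial.X 1) ^ r) ^ (m 1 / r) *
            (MvPolynomial.X 0 ^ (m 0 % r) * MvPolynomial.X 1 ^ (m 1 % r))) := by
      rw [MvPolynomial.monomial_eq, Finsupp.prod_fintype _ _ (fun i => pow_zero _),
        Fin.prod_univ_two]
      congr 1
      conv_lhs => rw [← Nat.div_add_mod (m 0) r, ← Nat.div_add_mod (m 1) r]
      ring
    rw [hmon]
    apply Subalgebra.mul_mem _ (Subalgebra.algebraMap_mem _ _)
    apply Subalgebra.mul_mem
    apply Subalgebra.mul_mem
    · apply Subalgebra.pow_mem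
      apply Algebra.subset_adjoin
      exact ⟨r, 0, le_rfl, Nat.zero_le _, by omega, by simp, by simp⟩
    · apply Subalgebra.pow_mem
      apply Algebra.subset_adjoin
      exact ⟨0, r, Nat.zero_le _, le_rfl, by omega, by simp, by simp⟩
    · apply Algebra.subset_adjoin
      refine ⟨m 0 % r, m 1 % r, (Nat.mod_lt _ hr).le, (Nat.mod_lt _ hr).le, ?_, ?_, rfl⟩
      · have := Nat.mod_lt (m 0) hr
        omega
      · have e : m 0 + a * m 1 =
            (m 0 % r + a * (m 1 % r)) + r * (m 0 / r + a * (m 1 / r)) := by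
          conv_lhs => rw [← Nat.div_add_mod (m 0) r, ← Nat.div_add_mod (m 1) r]
          ring
        rw [e] at hd
        exact (Nat.dvd_add_left (Dvd.intro _ rfl)).mp hd
  · intro h
    have hle : Algebra.adjoin k {q : MvPolynomial (Fin 2) k | ∃ i j : ℕ, i ≤ r ∧ j ≤ r ∧
        ¬ (i = r ∧ j = r) ∧ r ∣ i + a * j ∧ q = MvPolynomial.X 0 ^ i * MvPolynomial.X 1 ^ j} ≤
        AlgHom.equalizer (sig w) (AlgHom.id k _) := by
      apply Algebra.adjoin_le
      rintro q ⟨i, j, -, -, -, hd, rfl⟩
      rw [SetLike.mem_coe, AlgHom.mem_equalizer]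
      have hd' := (hχ i j).mpr hd
      unfold sig
      rw [map_mul, map_pow, map_pow, MvPolynomial.aeval_X, MvPolynomial.aeval_X, mul_pow, mul_pow,
        ← MvPolynomial.C_pow, ← MvPolynomial.C_pow]
      calc MvPolynomial.C (w 0 ^ i) * MvPolynomial.X 0 ^ i *
            (MvPolynomial.C (w 1 ^ j) * MvPolynomial.X 1 ^ j)
          = MvPolynomial.C (w 0 ^ i * w 1 ^ j) *
            ((MvPolynomial.X 0 : MvPolynomial (Fin 2) k) ^ i * MvPolynomial.X 1 ^ j) := by
            rw [MvPolynomial.C_mul]; ring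
        _ = _ := by rw [hd', MvPolynomial.C_1, one_mul]; rfl
    exact hle h

end Groth.Agent.S10891
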