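import Groth.Statements.S10894
import Groth.Agent.H95.AbsCurve

set_option autoImplicit false
universe u
open CategoryTheory AlgebraicGeometry
open Curves

namespace Groth.Agent.S10894

open Groth.Agent.H95.AbsCurve

/-- On an absolute curve C (Noetherian, local rings at closed points one-dimensional) every divisor D is
a difference of two effective divisors each supported inside the support of D (divisors are written
multiplicatively, so the difference is D₁ · D₂⁻¹). -/
theorem result {C : Scheme.{u}} [IsNoetherian C]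
    (hC : ∀ x : C, IsClosed ({x} : Set C) → ringKrullDim (C.presheaf.stalk x) = 1) (D : Mero.Divisor C) :
    ∃ D₁ D₂ : Mero.Divisor C, Mero.IsEffective D₁ ∧ Mero.IsEffective D₂ ∧ D = D₁ * D₂⁻¹ ∧
      Mero.supp D₁ ⊆ Mero.supp D ∧ Mero.supp D₂ ⊆ Mero.supp D := by
  classical
  have hchoice : ∀ x : C, ∃ (u : (Mero.KStalk C x)ˣ) (α β : Mero.regStalk C x),
      (QuotientGroup.mk u : Mero.Germ C x) = D.1 x ∧
      (u : Mero.KStalk C x) *
          algebraMap (C.presheaf.stalk x) (Mero.KStalk C x) (β : C.presheaf.stalk x) =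
        algebraMap (C.presheaf.stalk x) (Mero.KStalk C x) (α : C.presheaf.stalk x) := by
    intro x
    obtain ⟨u, hu⟩ := QuotientGroup.mk_surjective (D.1 x)
    obtain ⟨α, β, h⟩ := exists_regStalk_frac x u
    exact ⟨u, α, β, hu, h⟩
  choose u α β hu hαβ using hchoice
  have hsuppfin : {x : C | D.1 x ≠ 1}.Finite := finite_support hC D.1 D.2
  have hnc : ∀ x : C, ¬ IsClosed ({x} : Set C) → D.1 x = 1 :=
    fun x hx => germ_eq_one_of_not_isClosed hC x hx _
  obtain ⟨g₁, hg₁⟩ : ∃ g₁ : ∀ x : C, Mero.Germ C x, ∀ x, g₁ x = if D.1 x = 1 then 1 else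
      QuotientGroup.mk (IsLocalization.map_units (Mero.KStalk C x) (α x)).unit :=
    ⟨_, fun x => rfl⟩
  obtain ⟨g₂, hg₂⟩ : ∃ g₂ : ∀ x : C, Mero.Germ C x, ∀ x, g₂ x = if D.1 x = 1 then 1 else
      QuotientGroup.mk (IsLocalization.map_units (Mero.KStalk C x) (β x)).unit :=
    ⟨_, fun x => rfl⟩
  have hg₁one : ∀ x, D.1 x = 1 → g₁ x = 1 := fun x h => by rw [hg₁ x, if_pos h]
  have hg₂one : ∀ x, D.1 x = 1 → g₂ x = 1 := fun x h => by rw [hg₂ x, if_pos h]
  have hg₁mem : g₁ ∈ Mero.divisorGroup C :=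
    mem_divisorGroup_of_finite hC g₁ (hsuppfin.subset (fun x hx h => hx (hg₁one x h)))
      (fun x hx => hg₁one x (hnc x hx))
  have hg₂mem : g₂ ∈ Mero.divisorGroup C :=
    mem_divisorGroup_of_finite hC g₂ (hsuppfin.subset (fun x hx h => hx (hg₂one x h)))
      (fun x hx => hg₂one x (hnc x hx))
  have hone : ∀ x : C, (1 : Mero.Germ C x) =
      QuotientGroup.mk (IsLocalization.map_units (Mero.KStalk C x)
        (1 : Mero.regStalk C x)).unit := by
    intro x
    symm
    rw [QuotientGroup.eq_one_iff]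
    have h1 : (IsLocalization.map_units (Mero.KStalk C x) (1 : Mero.regStalk C x)).unit = 1 := by
      apply Units.ext
      show algebraMap (C.presheaf.stalk x) (Mero.KStalk C x)
        ((1 : Mero.regStalk C x) : C.presheaf.stalk x) = 1
      rw [OneMemClass.coe_one, map_one]
    rw [h1]
    exact Subgroup.one_mem _
  refine ⟨⟨g₁, hg₁mem⟩, ⟨g₂, hg₂mem⟩, ?_, ?_, ?_, ?_, ?_⟩
  · intro x
    by_cases h : D.1 x = 1
    · refine ⟨1, ?_⟩
      show g₁ x = _
      rw [hg₁one x h]
      exact hone x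
    · refine ⟨α x, ?_⟩
      show g₁ x = _
      rw [hg₁ x, if_neg h]
  · intro x
    by_cases h : D.1 x = 1
    · refine ⟨1, ?_⟩
      show g₂ x = _
      rw [hg₂one x h]
      exact hone x
    · refine ⟨β x, ?_⟩
      show g₂ x = _
      rw [hg₂ x, if_neg h]
  · apply Subtype.ext
    funext x
    show D.1 x = g₁ x * (g₂ x)⁻¹
    by_cases h : D.1 x = 1
    · rw [hg₁one x h, hg₂one x h, h]
      exact (mul_one (1 : Mero.Germ C x)).symm
    · rw [hg₁ x, hg₂ x, if_neg h, if_neg h, ← hu x, ← QuotientGroup.mk_inv,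
        ← QuotientGroup.mk_mul]
      congr 1
      rw [eq_mul_inv_iff_mul_eq]
      apply Units.ext
      exact hαβ x
  · intro x hx
    have hx' : g₁ x ≠ 1 := hx
    show D.1 x ≠ 1
    exact fun h => hx' (hg₁one x h)
  · intro x hx
    have hx' : g₂ x ≠ 1 := hx
    show D.1 x ≠ 1
    exact fun h => hx' (hg₂one x h)

end Groth.Agent.S10894
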