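import Groth.Statements.S10895
import Mathlib.RingTheory.Ideal.Pure
import Mathlib.RingTheory.LocalRing.Basic
import Mathlib.AlgebraicGeometry.Morphisms.Affine

set_option autoImplicit false
universe u
open CategoryTheory AlgebraicGeometry
open FlatMor

namespace Groth.Agent.S10895

theorem injective_of_flat_of_surjective_of_isLocalRing {S T : Type*} [CommRing S] [CommRing T]
    [IsLocalRing S] [Nontrivial T]
    (g : S →+* T) (hg : Function.Surjective g) (hflat : g.Flat) : Function.Injective g := by
  algebraize [g]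
  have hflat' : Module.Flat S T := hflat
  set J : Ideal S := RingHom.ker (algebraMap S T) with hJ
  let e : (S ⧸ J) ≃ₐ[S] T := Ideal.quotientKerAlgEquivOfSurjective (f := Algebra.ofId S T) hg
  have : J.Pure := Module.Flat.of_linearEquiv e.toLinearEquiv
  rw [injective_iff_map_eq_zero]
  intro x hx
  have hxJ : x ∈ J := hx
  obtain ⟨y, hyJ, hxy⟩ := Ideal.exists_eq_mul_of_pure hxJ
  have hJne : J ≠ ⊤ := RingHom.ker_ne_top _
  have hym : y ∈ IsLocalRing.maximalIdeal S := IsLocalRing.le_maximalIdeal hJne hyJ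
  have hu : IsUnit (1 - y) := IsLocalRing.isUnit_one_sub_self_of_mem_nonunits y hym
  have h0 : x * (1 - y) = 0 := by rw [mul_sub, mul_one, ← hxy, sub_self]
  exact (hu.mul_left_eq_zero).mp h0

/-- A closed immersion of finite presentation which is flat at a point x is an isomorphism over some
open neighbourhood of the image of x. -/
theorem result {X Y : Scheme.{u}} (f : X ⟶ Y) [IsClosedImmersion f]
    [LocallyOfFinitePresentation f] (x : X) (hflat : (f.stalkMap x).hom.Flat) :
    ∃ V : Y.Opens, f.base x ∈ V ∧ IsIso (f ∣_ V) := by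
  obtain ⟨W, hW, hyW, -⟩ :=
    exists_isAffineOpen_mem_and_subset (X := Y) (x := f.base x) (U := ⊤) trivial
  have hWX : IsAffineOpen (f ⁻¹ᵁ W) := hW.preimage f
  have hsurj : Function.Surjective (f.app W) := f.app_surjective W hW
  have hfp : (f.app W).hom.FinitePresentation := by
    rw [Scheme.Hom.app_eq_appLE]; exact f.finitePresentation_appLE hW hWX le_rfl
  have hI : (RingHom.ker (f.app W).hom).FG := by
    algebraize [(f.app W).hom]
    have : Algebra.FinitePresentation Γ(Y, W) Γ(X, f ⁻¹ᵁ W) := hfp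
    exact Algebra.FinitePresentation.ker_fG_of_surjective (Algebra.ofId _ _) hsurj
  have hstalk : Function.Injective (f.stalkMap x).hom :=
    injective_of_flat_of_surjective_of_isLocalRing _ (f.stalkMap_surjective x) hflat
  have hgerm : ∀ a ∈ RingHom.ker (f.app W).hom, Y.presheaf.germ W (f.base x) hyW a = 0 := by
    intro a ha
    apply hstalk
    rw [map_zero]
    have h1 := Scheme.Hom.germ_stalkMap_apply f W x hyW a
    rw [RingHom.mem_ker.mp ha, map_zero] at h1
    exact h1
  let alg : Algebra Γ(Y, W) (Y.presheaf.stalk (f.base x)) :=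
    TopCat.Presheaf.algebra_section_stalk Y.presheaf (⟨f.base x, hyW⟩ : W)
  have hloc : IsLocalization.AtPrime (Y.presheaf.stalk (f.base x))
      (hW.primeIdealOf ⟨f.base x, hyW⟩).asIdeal := hW.isLocalization_stalk ⟨f.base x, hyW⟩
  have hann : ∀ a ∈ RingHom.ker (f.app W).hom,
      ∃ m : Γ(Y, W), f.base x ∈ Y.basicOpen m ∧ m * a = 0 := by
    intro a ha
    have h0 := hgerm a ha
    obtain ⟨⟨m, hm⟩, hma⟩ := (IsLocalization.map_eq_zero_iff
      (hW.primeIdealOf ⟨_, hyW⟩).asIdeal.primeCompl (Y.presheaf.stalk (f.base x)) a).mp h0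
    refine ⟨m, ?_, hma⟩
    rw [Scheme.mem_basicOpen _ _ _ hyW]
    exact IsLocalization.map_units (Y.presheaf.stalk (f.base x)) ⟨m, hm⟩
  obtain ⟨s, hys, hs⟩ : ∃ s : Γ(Y, W), f.base x ∈ Y.basicOpen s ∧
      ∀ a ∈ RingHom.ker (f.app W).hom, s * a = 0 := by
    obtain ⟨t, ht⟩ := hI
    choose! m hm1 hm2 using hann
    have htI : ∀ a ∈ t, a ∈ RingHom.ker (f.app W).hom := fun a ha =>
      ht ▸ Ideal.subset_span ha
    refine ⟨∏ a ∈ t, m a, ?_, ?_⟩
    · rw [Scheme.mem_basicOpen _ _ _ hyW, map_prod]
      exact Finset.prod_induction _ IsUnit (fun _ _ => IsUnit.mul) isUnit_one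
        (fun a ha => (Scheme.mem_basicOpen _ _ _ hyW).mp (hm1 a (htI a ha)))
    · intro a ha
      rw [← ht] at ha
      induction ha using Submodule.span_induction with
      | mem a ha =>
        obtain ⟨c, hc⟩ := Finset.dvd_prod_of_mem m ha
        rw [hc, mul_comm (m a) c, mul_assoc, hm2 a (htI a ha), mul_zero]
      | zero => simp
      | add a b _ _ ha hb => rw [mul_add, ha, hb, add_zero]
      | smul r a _ ha => rw [smul_eq_mul, mul_left_comm, ha, mul_zero]
  refine ⟨Y.basicOpen s, hys, ?_⟩
  have hD : IsAffineOpen (Y.basicOpen s) := hW.basicOpen s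
  have h1 := (isIso_morphismRestrict_iff_isIso_app (f := f) hD)
  have h2 : Function.Surjective (f.app (Y.basicOpen s)).hom := f.app_surjective _ hD
  have h3 : Function.Injective (f.app (Y.basicOpen s)).hom := by
    rw [hW.app_basicOpen_eq_away_map f hWX s]
    rw [CommRingCat.hom_comp, RingHom.coe_comp]
    apply Function.Injective.comp
    · exact (ConcreteCategory.bijective_of_isIso _).1
    · rw [CommRingCat.hom_ofHom, IsLocalization.Away.map_injective_iff]
      intro a ha
      exact ⟨1, by simpa using hs a ha⟩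
  apply h1.mpr
  exact (ConcreteCategory.isIso_iff_bijective _).mpr ⟨h3, h2⟩

end Groth.Agent.S10895
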