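import Groth.Statements.S10897
import Groth.Agent.H91.CubicK

set_option autoImplicit false
universe u
open Cubic

namespace Groth.Agent.S10897

open MvPolynomial Groth.Agent.H91.CubicK


/-- Over an algebraically closed field of characteristic zero, through a point s of a smooth cubic
surface S = V_+(f) ⊂ P^3 there pass at most three lines contained in S, and these lines are
coplanar. With s given by a nonzero vector v with f(v) = 0, the lines through s on S are the
2-dimensional subspaces of k^4 containing v on which f vanishes; there are at most three of them and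
one 3-dimensional subspace contains them all. -/
theorem result (k : Type u) [Field k] [IsAlgClosed k] [CharZero k]
    (f : MvPolynomial (Fin 4) k) (hf : f.IsHomogeneous 3) (hf0 : f ≠ 0)
    (hsm : ∀ v : Fin 4 → k, v ≠ 0 → MvPolynomial.eval v f = 0 →
      ∃ i : Fin 4, MvPolynomial.eval v (MvPolynomial.pderiv i f) ≠ 0)
    (v : Fin 4 → k) (hv : v ≠ 0) (hfv : MvPolynomial.eval v f = 0) :
    {U : Submodule k (Fin 4 → k) | v ∈ U ∧ (Module.finrank k ↥U = 2 ∧ ∀ u ∈ U, MvPolynomial.eval u f = 0)}.Finite ∧
      {U : Submodule k (Fin 4 → k) | v ∈ U ∧ (Module.finrank k ↥U = 2 ∧ ∀ u ∈ U, MvPolynomial.eval u f = 0)}.ncard ≤ 3 ∧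
      ∃ H : Submodule k (Fin 4 → k), Module.finrank k ↥H = 3 ∧
        ∀ U : Submodule k (Fin 4 → k), v ∈ U → (Module.finrank k ↥U = 2 ∧ ∀ u ∈ U, MvPolynomial.eval u f = 0) → U ≤ H := by
  classical
  have hfinV : Module.finrank k (Fin 4 → k) = 4 := by simp
  -- the tangent functional
  let a : Module.Dual k (Fin 4 → k) :=
    { toFun := fun x => T f v v x
      map_add' := fun x y => T_add_right f v v x y
      map_smul' := fun c x => by simp [T_smul_right] }
  have ha_apply : ∀ x, a x = T f v v x := fun x => rfl
  have ha0 : a ≠ 0 := by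
    intro h0
    exact no_sing hf hsm v hv (fun x => by rw [← ha_apply, h0]; rfl)
  have hH3 : Module.finrank k (LinearMap.ker a) = 3 := by
    have := Module.Dual.finrank_ker_add_one_of_ne_zero ha0
    rw [hfinV] at this
    omega
  have hcop : ∀ U : Submodule k (Fin 4 → k), v ∈ U →
      (Module.finrank k ↥U = 2 ∧ ∀ u ∈ U, MvPolynomial.eval u f = 0) → U ≤ LinearMap.ker a := by
    intro U hvU hU u hu
    rw [LinearMap.mem_ker, ha_apply]
    exact (line_cond hf U hU.2 hvU hu).1
  have key : ∀ g : Fin 4 → Submodule k (Fin 4 → k),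
      (∀ i, v ∈ g i ∧ (Module.finrank k ↥(g i) = 2 ∧ ∀ u ∈ g i, MvPolynomial.eval u f = 0)) →
      Function.Injective g → False := by
    intro g hg hinj
    have hex : ∀ i, ∃ u ∈ g i, u ∉ Submodule.span k {v} := by
      intro i
      by_contra hcon
      push Not at hcon
      have hle : g i ≤ Submodule.span k {v} := fun u hu => hcon u hu
      have h1 := Submodule.finrank_mono hle
      rw [(hg i).2.1, finrank_span_singleton hv] at h1
      omega
    choose u hu hunot using hex
    have hli2 : ∀ i, LinearIndependent k ![v, u i] := by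
      intro i
      rw [LinearIndependent.pair_iff' hv]
      intro c hc
      exact hunot i (Submodule.mem_span_singleton.mpr ⟨c, hc⟩)
    have hspan : ∀ i, g i = Submodule.span k (Set.range ![v, u i]) := by
      intro i
      symm
      apply Submodule.eq_of_le_of_finrank_le
      · rw [Submodule.span_le]
        rintro x ⟨j, rfl⟩
        fin_cases j
        exacts [(hg i).1, hu i]
      · rw [(hg i).2.1, finrank_span_eq_card (hli2 i)]
        simp
    have hP : ∀ i j, i ≠ j → u j ∉ g i := by
      intro i j hij hmem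
      apply hij
      apply hinj
      have hle : g j ≤ g i := by
        rw [hspan j, Submodule.span_le]
        rintro x ⟨l, rfl⟩
        fin_cases l
        exacts [(hg i).1, hmem]
      exact (Submodule.eq_of_le_of_finrank_le hle (by rw [(hg i).2.1, (hg j).2.1])).symm
    have hli3 : LinearIndependent k ![u 1, v, u 0] := by
      refine LinearIndependent.finCons (hli2 0) ?_
      rw [← hspan 0]
      exact hP 0 1 (by decide)
    have hmemH : ∀ i, u i ∈ LinearMap.ker a := fun i => hcop _ (hg i).1 (hg i).2 (hu i)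
    have hvH : v ∈ LinearMap.ker a := hcop _ (hg 0).1 (hg 0).2 (hg 0).1
    have hHspan : LinearMap.ker a = Submodule.span k (Set.range ![u 1, v, u 0]) := by
      symm
      apply Submodule.eq_of_le_of_finrank_le
      · rw [Submodule.span_le]
        rintro x ⟨j, rfl⟩
        fin_cases j
        exacts [hmemH 1, hvH, hmemH 0]
      · rw [hH3, finrank_span_eq_card hli3]
        simp
    have hdecH : ∀ x ∈ LinearMap.ker a, ∃ c0 c1 c2 : k, x = c0 • u 1 + c1 • v + c2 • u 0 := by
      intro x hx
      rw [hHspan, Submodule.mem_span_range_iff_exists_fun] at hx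
      obtain ⟨c, hc⟩ := hx
      rw [Fin.sum_univ_three] at hc
      exact ⟨c 0, c 1, c 2, by rw [← hc]; simp⟩
    -- decompositions of u 2 and u 3
    obtain ⟨β, e, α, h2⟩ := hdecH _ (hmemH 2)
    obtain ⟨δ, e', γ, h3⟩ := hdecH _ (hmemH 3)
    have hw2 : β • u 1 + α • u 0 ∈ g 2 := by
      have : β • u 1 + α • u 0 = u 2 - e • v := by rw [h2]; abel
      rw [this]
      exact (g 2).sub_mem (hu 2) ((g 2).smul_mem e (hg 2).1)
    have hw3 : δ • u 1 + γ • u 0 ∈ g 3 := by
      have : δ • u 1 + γ • u 0 = u 3 - e' • v := by rw [h3]; abel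
      rw [this]
      exact (g 3).sub_mem (hu 3) ((g 3).smul_mem e' (hg 3).1)
    have hα : α ≠ 0 := by
      intro h0
      apply hP 1 2 (by decide)
      rw [h2, h0, zero_smul, add_zero]
      exact (g 1).add_mem ((g 1).smul_mem β (hu 1)) ((g 1).smul_mem e (hg 1).1)
    have hβ : β ≠ 0 := by
      intro h0
      apply hP 0 2 (by decide)
      rw [h2, h0, zero_smul, zero_add]
      exact (g 0).add_mem ((g 0).smul_mem e (hg 0).1) ((g 0).smul_mem α (hu 0))
    have hγ : γ ≠ 0 := by
      intro h0
      apply hP 1 3 (by decide)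
      rw [h3, h0, zero_smul, add_zero]
      exact (g 1).add_mem ((g 1).smul_mem δ (hu 1)) ((g 1).smul_mem e' (hg 1).1)
    have hδ : δ ≠ 0 := by
      intro h0
      apply hP 0 3 (by decide)
      rw [h3, h0, zero_smul, zero_add]
      exact (g 0).add_mem ((g 0).smul_mem e' (hg 0).1) ((g 0).smul_mem γ (hu 0))
    have hdet : α * δ - β * γ ≠ 0 := by
      intro hd
      apply hP 2 3 (by decide)
      have hw : δ • u 1 + γ • u 0 = (γ / α) • (β • u 1 + α • u 0) := by
        rw [smul_add, smul_smul, smul_smul]
        have e1 : γ / α * β = δ := by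
          field_simp
          linear_combination -hd
        have e2 : γ / α * α = γ := div_mul_cancel₀ γ hα
        rw [e1, e2]
      have : u 3 = (γ / α) • (β • u 1 + α • u 0) + e' • v := by
        rw [← hw, h3]; abel
      rw [this]
      exact (g 2).add_mem ((g 2).smul_mem _ hw2) ((g 2).smul_mem e' (hg 2).1)
    -- values of the trilinear form
    have B00 : T f v (u 0) (u 0) = 0 := (line_cond hf (g 0) (hg 0).2.2 (hg 0).1 (hu 0)).2
    have B11 : T f v (u 1) (u 1) = 0 := (line_cond hf (g 1) (hg 1).2.2 (hg 1).1 (hu 1)).2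
    have F0 : eval (u 0) f = 0 := (hg 0).2.2 _ (hu 0)
    have F1 : eval (u 1) f = 0 := (hg 1).2.2 _ (hu 1)
    have two_ne : (2 : k) ≠ 0 := two_ne_zero
    have three_ne : (3 : k) ≠ 0 := three_ne_zero
    have B10 : T f v (u 1) (u 0) = 0 := by
      have h := (line_cond hf (g 2) (hg 2).2.2 (hg 2).1 hw2).2
      rw [quad_expand, B00, B11] at h
      have h' : (2 * β * α) * T f v (u 1) (u 0) = 0 := by linear_combination h
      exact (mul_eq_zero.mp h').resolve_left (by simp [two_ne, hα, hβ])
    have E2 : β * T f (u 1) (u 1) (u 0) + α * T f (u 1) (u 0) (u 0) = 0 := by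
      have h := (hg 2).2.2 _ hw2
      rw [cube_expand hf, F0, F1] at h
      have h' : (3 * β * α) * (β * T f (u 1) (u 1) (u 0) + α * T f (u 1) (u 0) (u 0)) = 0 := by
        linear_combination h
      exact (mul_eq_zero.mp h').resolve_left (by simp [three_ne, hα, hβ])
    have E3 : δ * T f (u 1) (u 1) (u 0) + γ * T f (u 1) (u 0) (u 0) = 0 := by
      have h := (hg 3).2.2 _ hw3
      rw [cube_expand hf, F0, F1] at h
      have h' : (3 * δ * γ) * (δ * T f (u 1) (u 1) (u 0) + γ * T f (u 1) (u 0) (u 0)) = 0 := by
        linear_combination h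
      exact (mul_eq_zero.mp h').resolve_left (by simp [three_ne, hγ, hδ])
    have C110 : T f (u 1) (u 1) (u 0) = 0 := by
      have h' : (α * δ - β * γ) * T f (u 1) (u 1) (u 0) = 0 := by
        linear_combination α * E3 - γ * E2
      exact (mul_eq_zero.mp h').resolve_left hdet
    have C100 : T f (u 1) (u 0) (u 0) = 0 := by
      have h' : (α * δ - β * γ) * T f (u 1) (u 0) (u 0) = 0 := by
        linear_combination δ * E2 - β * E3
      exact (mul_eq_zero.mp h').resolve_left hdet
    -- f vanishes on the tangent plane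
    have hfH : ∀ x ∈ LinearMap.ker a, eval x f = 0 := by
      intro x hx
      obtain ⟨c0, c1, c2, rfl⟩ := hdecH x hx
      have hy : c0 • u 1 + c2 • u 0 ∈ LinearMap.ker a :=
        (LinearMap.ker a).add_mem ((LinearMap.ker a).smul_mem _ (hmemH 1))
          ((LinearMap.ker a).smul_mem _ (hmemH 0))
      have hy' : T f v v (c0 • u 1 + c2 • u 0) = 0 := by
        rw [← ha_apply]; exact hy
      have : c0 • u 1 + c1 • v + c2 • u 0 = c1 • v + (c0 • u 1 + c2 • u 0) := by abel
      rw [this, eval_expand hf, hfv, hy', quad_expand, B00, B11, B10, cube_expand hf, F0, F1,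
        C110, C100]
      ring
    have hTH : ∀ h ∈ LinearMap.ker a, ∀ h' ∈ LinearMap.ker a, T f h h h' = 0 :=
      fun h hh h' hh' => (line_cond hf (LinearMap.ker a) hfH hh hh').1
    -- a direction outside the plane
    obtain ⟨n, hn⟩ : ∃ n, a n ≠ 0 := by
      by_contra hcon
      push Not at hcon
      exact ha0 (LinearMap.ext hcon)
    obtain ⟨s, t, hst, hq⟩ := quad_zero (T f n (u 1) (u 1)) (T f n (u 1) (u 0)) (T f n (u 0) (u 0))
    have hh0H : s • u 1 + t • u 0 ∈ LinearMap.ker a :=
      (LinearMap.ker a).add_mem ((LinearMap.ker a).smul_mem _ (hmemH 1))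
        ((LinearMap.ker a).smul_mem _ (hmemH 0))
    have hh0 : s • u 1 + t • u 0 ≠ 0 := by
      intro h0
      have := Fintype.linearIndependent_iff.mp hli3 ![s, 0, t] (by
        rw [Fin.sum_univ_three]; simpa using h0)
      have hs := this 0
      have ht := this 2
      simp at hs ht
      rcases hst with h | h
      · exact h hs
      · exact h ht
    have hn0 : T f (s • u 1 + t • u 0) (s • u 1 + t • u 0) n = 0 := by
      rw [T_comm23, T_comm12, quad_expand]
      exact hq
    apply no_sing hf hsm _ hh0
    intro x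
    have hx' : x - (a x / a n) • n ∈ LinearMap.ker a := by
      rw [LinearMap.mem_ker, map_sub, map_smul, smul_eq_mul, div_mul_cancel₀ _ hn, sub_self]
    have : x = (x - (a x / a n) • n) + (a x / a n) • n := by abel
    rw [this, T_add_right, T_smul_right, hn0, hTH _ hh0H _ hx']
    ring
  -- from a finset of four lines to a contradiction
  have key' : ∀ t : Finset (Submodule k (Fin 4 → k)),
      (↑t : Set (Submodule k (Fin 4 → k))) ⊆ {U : Submodule k (Fin 4 → k) | v ∈ U ∧
        (Module.finrank k ↥U = 2 ∧ ∀ u ∈ U, MvPolynomial.eval u f = 0)} → t.card = 4 → False := by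
    intro t ht hcard
    let e := (Finset.equivFinOfCardEq hcard).symm
    exact key (fun i => ((e i : t) : Submodule k (Fin 4 → k))) (fun i => ht (e i).2)
      (fun i j hij => e.injective (Subtype.ext hij))
  have hfin : {U : Submodule k (Fin 4 → k) | v ∈ U ∧
      (Module.finrank k ↥U = 2 ∧ ∀ u ∈ U, MvPolynomial.eval u f = 0)}.Finite := by
    by_contra hinf
    obtain ⟨t, ht, hcard⟩ := Set.Infinite.exists_subset_card_eq hinf 4
    exact key' t ht hcard
  refine ⟨hfin, ?_, LinearMap.ker a, hH3, fun U hvU hU => hcop U hvU hU⟩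
  by_contra hlt
  push Not at hlt
  rw [Set.ncard_eq_toFinset_card _ hfin] at hlt
  obtain ⟨t, ht, hcard⟩ := Finset.exists_subset_card_eq (show 4 ≤ hfin.toFinset.card by omega)
  refine key' t (fun U hU => ?_) hcard
  exact (Set.Finite.mem_toFinset hfin).mp (ht hU)

end Groth.Agent.S10897
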