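import Groth.Statements.S10898
-- import your own Groth.Agent.* helpers here

set_option autoImplicit false
universe u
open Polynomial
open WDiv

namespace Groth.Agent.S10898

/-- Let A be a Noetherian integral domain and P a prime ideal of height 1 of the polynomial ring A[X].
Then either P meets A in 0 only, or its contraction p = P ∩ A is a prime of height 1 of A and P is
the extension p·A[X]. (The published lemma also assumes A regular in codimension 1; that hypothesis
is not used for this assertion.) -/
theorem result (A : Type u) [CommRing A] [IsDomain A]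
    [IsNoetherianRing A] (P : Ideal A[X]) [P.IsPrime] (hP : P.height = 1) :
    P.comap (C : A →+* A[X]) = ⊥ ∨
      ((P.comap (C : A →+* A[X])).height = 1 ∧ P = (P.comap (C : A →+* A[X])).map C) := by
  set p := P.comap (C : A →+* A[X]) with hp
  by_cases hp0 : p = ⊥
  · left; exact hp0
  right
  haveI hpp : p.IsPrime := Ideal.comap_isPrime _ _
  have hne_of : ∀ q : Ideal A, q ≠ ⊥ → q.map (C : A →+* A[X]) ≠ ⊥ := by
    intro q hq h
    apply hq
    rw [eq_bot_iff]
    intro a ha
    have : C a ∈ q.map (C : A →+* A[X]) := Ideal.mem_map_of_mem _ ha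
    rw [h] at this
    simpa using this
  have hQP : p.map (C : A →+* A[X]) ≤ P := Ideal.map_comap_le
  have hheight_pos : ∀ Q : Ideal A[X], Q ≠ ⊥ → 1 ≤ Q.height := by
    intro Q hQ
    rw [ENat.one_le_iff_ne_zero, Ne, Ideal.height_eq_zero_iff_eq_bot]
    exact hQ
  have hkey : ∀ Q : Ideal A[X], Q.IsPrime → Q ≠ ⊥ → Q ≤ P → Q = P := by
    intro Q hQp hQ0 hQP
    by_contra hne
    have hlt : Q < P := lt_of_le_of_ne hQP hne
    have h1 := Ideal.height_add_one_le_of_lt_of_isPrime hlt
    rw [hP] at h1
    have h2 := hheight_pos Q hQ0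
    have h3 : (1 : ℕ∞) + 1 ≤ 1 := le_trans (add_le_add_left h2 1) h1
    exact absurd h3 (by decide)
  have hQeq : p.map (C : A →+* A[X]) = P :=
    hkey _ Ideal.isPrime_map_C_of_isPrime (hne_of p hp0) hQP
  refine ⟨?_, hQeq.symm⟩
  apply le_antisymm
  · have : p.height ≤ ((1 : ℕ) : ℕ∞) := by
      rw [Ideal.height_le_iff]
      intro q hq hqp
      have hq0 : q = ⊥ := by
        by_contra hq0
        haveI := hq
        have hle : q.map (C : A →+* A[X]) ≤ P := (Ideal.map_mono hqp.le).trans hQP
        have heq := hkey _ Ideal.isPrime_map_C_of_isPrime (hne_of q hq0) hle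
        apply not_le_of_gt hqp
        intro a ha
        have h1 : C a ∈ p.map (C : A →+* A[X]) := Ideal.mem_map_of_mem _ ha
        rw [hQeq, ← heq, Ideal.mem_map_C_iff] at h1
        simpa using h1 0
      rw [hq0]
      simp
    simpa using this
  · rw [ENat.one_le_iff_ne_zero, Ne, Ideal.height_eq_zero_iff_eq_bot]
    exact hp0

end Groth.Agent.S10898
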