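import Groth.Statements.S10899
import Groth.Agent.S10898
import Mathlib.RingTheory.DiscreteValuationRing.TFAE
import Mathlib.RingTheory.Localization.AtPrime.Basic
import Mathlib.RingTheory.Localization.Submodule

set_option autoImplicit false
universe u
open Polynomial
open WDiv

namespace Groth.Agent.S10899

open Polynomial in
theorem pseudo_div {A : Type u} [CommRing A] (f : A[X]) :
    ∀ (n : ℕ) (g : A[X]), g.natDegree = n →
      ∃ (N : ℕ) (q r : A[X]), C (f.leadingCoeff ^ N) * g = q * f + r ∧
        (r = 0 ∨ r.natDegree < f.natDegree) := by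
  intro n
  induction n using Nat.strong_induction_on with
  | _ n ih =>
    intro g hgn
    by_cases hg : g = 0 ∨ g.natDegree < f.natDegree
    · exact ⟨0, 0, g, by simp, hg⟩
    · push_neg at hg
      obtain ⟨hg0, hdeg⟩ := hg
      obtain ⟨k, hk⟩ : ∃ k, g.natDegree = f.natDegree + k := ⟨g.natDegree - f.natDegree, by omega⟩
      set g' := C f.leadingCoeff * g - C g.leadingCoeff * (X ^ k * f) with hg'
      have hdeg' : g'.natDegree ≤ g.natDegree := by
        refine (natDegree_sub_le _ _).trans (max_le ?_ ?_)
        · exact natDegree_C_mul_le _ _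
        · calc (C g.leadingCoeff * (X ^ k * f)).natDegree
              ≤ (X ^ k * f).natDegree := natDegree_C_mul_le _ _
            _ ≤ (X ^ k : A[X]).natDegree + f.natDegree := natDegree_mul_le
            _ ≤ k + f.natDegree := by
                gcongr
                exact natDegree_X_pow_le k
            _ = g.natDegree := by omega
      have hcoeff : g'.coeff g.natDegree = 0 := by
        rw [hg', coeff_sub, coeff_C_mul, coeff_C_mul]
        conv_lhs => rw [hk, coeff_X_pow_mul, ← hk]
        rw [coeff_natDegree, coeff_natDegree]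
        ring
      have hlt : g' = 0 ∨ g'.natDegree < g.natDegree := by
        by_cases h0 : g' = 0
        · exact Or.inl h0
        · right
          refine lt_of_le_of_ne hdeg' ?_
          intro heq
          apply h0
          rw [← leadingCoeff_eq_zero, leadingCoeff, heq, hcoeff]
      have hexp : C f.leadingCoeff * g = g' + C g.leadingCoeff * (X ^ k * f) := by
        rw [hg']; ring
      rcases hlt with h0 | hlt
      · refine ⟨1, C g.leadingCoeff * X ^ k, 0, ?_, Or.inl rfl⟩
        rw [pow_one, hexp, h0]
        ring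
      · obtain ⟨N, q, r, hqr, hr⟩ := ih g'.natDegree (hgn ▸ hlt) g' rfl
        refine ⟨N + 1, q + C (f.leadingCoeff ^ N) * (C g.leadingCoeff * X ^ k), r, ?_, hr⟩
        rw [pow_succ, C_mul, mul_assoc, hexp, mul_add, hqr]
        ring

open Polynomial in
/-- The key divisibility statement. -/
theorem exists_generator (A : Type u) [CommRing A] [IsDomain A] [IsNoetherianRing A]
    (hR1 : ∀ (p : Ideal A) [p.IsPrime], p.height = 1 →
      IsDiscreteValuationRing (Localization.AtPrime p))
    (P : Ideal A[X]) [P.IsPrime] (hP : P.height = 1) :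
    ∃ t ∈ P, ∀ g ∈ P, ∃ s ∉ P, ∃ g' : A[X], s * g = t * g' := by
  classical
  have hP0 : P ≠ ⊥ := by
    intro h
    rw [h, Ideal.height_bot] at hP
    exact zero_ne_one hP
  rcases Groth.Agent.S10898.result A P hP with h0 | ⟨hp1, hPp⟩
  · -- horizontal case
    have hex : ∃ n : ℕ, ∃ f ∈ P, f ≠ 0 ∧ f.natDegree = n := by
      obtain ⟨f, hf, hf0⟩ := Submodule.exists_mem_ne_zero_of_ne_bot hP0
      exact ⟨_, f, hf, hf0, rfl⟩
    obtain ⟨f, hfP, hf0, hfn⟩ := Nat.find_spec hex
    have hmin : ∀ r ∈ P, r ≠ 0 → ¬ r.natDegree < f.natDegree := by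
      intro r hr hr0 hlt
      rw [hfn] at hlt
      exact Nat.find_min hex hlt ⟨r, hr, hr0, rfl⟩
    have hCmem : ∀ a : A, C a ∈ P → a = 0 := by
      intro a ha
      have : a ∈ P.comap (C : A →+* A[X]) := ha
      rw [h0] at this
      simpa using this
    refine ⟨f, hfP, ?_⟩
    intro g hg
    obtain ⟨N, q, r, hqr, hr⟩ := pseudo_div f g.natDegree g rfl
    have hrP : r ∈ P := by
      have : r = C (f.leadingCoeff ^ N) * g - q * f := by rw [hqr]; ring
      rw [this]
      exact P.sub_mem (P.mul_mem_left _ hg) (P.mul_mem_left _ hfP)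
    have hr0 : r = 0 := by
      by_contra hr0
      rcases hr with h | h
      · exact hr0 h
      · exact hmin r hrP hr0 h
    refine ⟨C (f.leadingCoeff ^ N), ?_, q, ?_⟩
    · intro hmem
      have := hCmem _ hmem
      exact pow_ne_zero N (leadingCoeff_ne_zero.mpr hf0) this
    · rw [hqr, hr0, add_zero, mul_comm]
  · -- vertical case
    set p := P.comap (C : A →+* A[X]) with hp
    haveI hpp : p.IsPrime := Ideal.comap_isPrime _ _
    haveI := hR1 p hp1
    obtain ⟨π, hπ⟩ := (IsDiscreteValuationRing.exists_irreducible (Localization.AtPrime p))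
    have hmax : IsLocalRing.maximalIdeal (Localization.AtPrime p) = Ideal.span {π} :=
      (hπ.maximalIdeal_eq)
    obtain ⟨⟨x, s⟩, hxs⟩ := IsLocalization.surj p.primeCompl π
    have hxs' : π * algebraMap A (Localization.AtPrime p) s = algebraMap A _ x := hxs
    have hsunit : IsUnit (algebraMap A (Localization.AtPrime p) s) :=
      IsLocalization.map_units _ s
    have hxp : x ∈ p := by
      rw [← IsLocalization.AtPrime.to_map_mem_maximal_iff (Localization.AtPrime p) p x, ← hxs',
        hmax]
      exact Ideal.mul_mem_right _ _ (Ideal.mem_span_singleton_self π)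
    have hmax' : IsLocalRing.maximalIdeal (Localization.AtPrime p) =
        Ideal.span {algebraMap A (Localization.AtPrime p) x} := by
      rw [hmax, ← hxs', Ideal.span_singleton_mul_right_unit hsunit]
    have hcoef : ∀ c ∈ p, ∃ u ∉ p, ∃ c' : A, u * c = x * c' := by
      intro c hc
      have hcm : algebraMap A (Localization.AtPrime p) c ∈
          IsLocalRing.maximalIdeal (Localization.AtPrime p) :=
        (IsLocalization.AtPrime.to_map_mem_maximal_iff (Localization.AtPrime p) p c).mpr hc
      rw [hmax', Ideal.mem_span_singleton'] at hcm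
      obtain ⟨y, hy⟩ := hcm
      obtain ⟨⟨y₁, s₁⟩, hys⟩ := IsLocalization.surj p.primeCompl y
      have hys' : y * algebraMap A (Localization.AtPrime p) s₁ = algebraMap A _ y₁ := hys
      have heq : algebraMap A (Localization.AtPrime p) (s₁ * c) =
          algebraMap A (Localization.AtPrime p) (x * y₁) := by
        rw [map_mul, map_mul, ← hy, ← hys']
        ring
      obtain ⟨u, hu⟩ := (IsLocalization.eq_iff_exists p.primeCompl _).mp heq
      refine ⟨u * s₁, ?_, u * y₁, ?_⟩
      · exact (p.primeCompl.mul_mem u.2 s₁.2)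
      · calc (↑u * ↑s₁) * c = ↑u * (↑s₁ * c) := by ring
          _ = ↑u * (x * y₁) := hu
          _ = x * (↑u * y₁) := by ring
    have hCs : ∀ u : A, u ∉ p → C u ∉ P := fun u hu hmem => hu hmem
    refine ⟨C x, hxp, ?_⟩
    intro g hg
    rw [hPp, Ideal.map] at hg
    induction hg using Submodule.span_induction with
    | mem g hg =>
      obtain ⟨c, hc, rfl⟩ := hg
      obtain ⟨u, hu, c', huc⟩ := hcoef c hc
      exact ⟨C u, hCs u hu, C c', by rw [← C_mul, ← C_mul, huc]⟩
    | zero =>
      exact ⟨1, fun h => (Ideal.IsPrime.ne_top inferInstance) ((Ideal.eq_top_iff_one P).mpr h), 0,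
        by simp⟩
    | add g₁ g₂ _ _ h₁ h₂ =>
      obtain ⟨s₁, hs₁, g₁', e₁⟩ := h₁
      obtain ⟨s₂, hs₂, g₂', e₂⟩ := h₂
      refine ⟨s₁ * s₂, fun h => (Ideal.IsPrime.mem_or_mem inferInstance h).elim hs₁ hs₂,
        s₂ * g₁' + s₁ * g₂', ?_⟩
      calc s₁ * s₂ * (g₁ + g₂) = s₂ * (s₁ * g₁) + s₁ * (s₂ * g₂) := by ring
        _ = s₂ * (C x * g₁') + s₁ * (C x * g₂') := by rw [e₁, e₂]
        _ = C x * (s₂ * g₁' + s₁ * g₂') := by ring
    | smul h g _ hg =>
      obtain ⟨s, hs, g', e⟩ := hg
      refine ⟨s, hs, h * g', ?_⟩
      rw [smul_eq_mul]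
      calc s * (h * g) = h * (s * g) := by ring
        _ = h * (C x * g') := by rw [e]
        _ = C x * (h * g') := by ring

/-- Let A be a Noetherian integral domain which is regular in codimension 1, i.e. whose localization at
every prime ideal of height 1 is a discrete valuation ring. Then the polynomial ring A[X] is regular
in codimension 1 as well: its localization at every prime ideal of height 1 is a discrete valuation
ring. -/
theorem result (A : Type u) [CommRing A]
    [IsDomain A] [IsNoetherianRing A]
    (hR1 : ∀ (p : Ideal A) [p.IsPrime], p.height = 1 → IsDiscreteValuationRing (Localization.AtPrime p))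
    (P : Ideal A[X]) [P.IsPrime] (hP : P.height = 1) :
    IsDiscreteValuationRing (Localization.AtPrime P) := by
  obtain ⟨t, htP, ht⟩ := exists_generator A hR1 P hP
  have hP0 : P ≠ ⊥ := by
    intro h
    rw [h, Ideal.height_bot] at hP
    exact zero_ne_one hP
  haveI : IsNoetherianRing (Localization.AtPrime P) :=
    IsLocalization.isNoetherianRing P.primeCompl (Localization.AtPrime P) inferInstance
  have hmaxeq : IsLocalRing.maximalIdeal (Localization.AtPrime P) =
      Ideal.span {algebraMap A[X] (Localization.AtPrime P) t} := by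
    rw [← Localization.AtPrime.map_eq_maximalIdeal]
    apply le_antisymm
    · rw [Ideal.map_le_iff_le_comap]
      intro g hg
      obtain ⟨s, hs, g', e⟩ := ht g hg
      rw [Ideal.mem_comap, Ideal.mem_span_singleton']
      have hsu : IsUnit (algebraMap A[X] (Localization.AtPrime P) s) :=
        IsLocalization.map_units (Localization.AtPrime P) (⟨s, hs⟩ : P.primeCompl)
      obtain ⟨v, hv⟩ := hsu.exists_left_inv
      refine ⟨v * algebraMap A[X] (Localization.AtPrime P) g', ?_⟩
      calc v * algebraMap A[X] (Localization.AtPrime P) g' *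
            algebraMap A[X] (Localization.AtPrime P) t
          = v * algebraMap A[X] (Localization.AtPrime P) (t * g') := by rw [map_mul]; ring
        _ = v * algebraMap A[X] (Localization.AtPrime P) (s * g) := by rw [e]
        _ = (v * algebraMap A[X] (Localization.AtPrime P) s) *
            algebraMap A[X] (Localization.AtPrime P) g := by rw [map_mul]; ring
        _ = algebraMap A[X] (Localization.AtPrime P) g := by rw [hv, one_mul]
    · rw [Ideal.span_le, Set.singleton_subset_iff]
      exact Ideal.mem_map_of_mem _ htP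
  have hnf : ¬ IsField (Localization.AtPrime P) := by
    rw [IsLocalRing.isField_iff_maximalIdeal_eq]
    intro h
    obtain ⟨f, hf, hf0⟩ := Submodule.exists_mem_ne_zero_of_ne_bot hP0
    have h1 : algebraMap A[X] (Localization.AtPrime P) f ∈
        IsLocalRing.maximalIdeal (Localization.AtPrime P) := by
      rw [← Localization.AtPrime.map_eq_maximalIdeal]
      exact Ideal.mem_map_of_mem _ hf
    rw [h] at h1
    have h2 : algebraMap A[X] (Localization.AtPrime P) f = 0 := h1
    exact hf0 ((map_eq_zero_iff _ (IsLocalization.injective (Localization.AtPrime P)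
      P.primeCompl_le_nonZeroDivisors)).mp h2)
  have hprin : (IsLocalRing.maximalIdeal (Localization.AtPrime P)).IsPrincipal :=
    ⟨⟨_, hmaxeq⟩⟩
  exact ((IsDiscreteValuationRing.TFAE (Localization.AtPrime P) hnf).out 0 4).mpr hprin

end Groth.Agent.S10899
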