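import Groth.Statements.S10900
import Groth.Agent.H95.AffSpaceOrd
import Groth.Agent.H97.OrdOpen

set_option autoImplicit false
universe u
open CategoryTheory CategoryTheory.Limits AlgebraicGeometry TopologicalSpace
open WDiv

namespace Groth.Agent.S10900


open Groth.Agent.H95.FFMap Groth.Agent.H95.AffSpaceOrd Groth.Agent.H97.OrdOpen
open Order

section Helpers

variable {X : Scheme.{u}} [IsIntegral X] (ι : Type u) [Finite ι]

lemma over_generic : (𝔸(ι; X) ↘ X) (genericPoint 𝔸(ι; X)) = genericPoint X := by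
  apply ((genericPoint_spec X).eq _).symm
  have h1 := (genericPoint_spec 𝔸(ι; X)).image (𝔸(ι; X) ↘ X).continuous
  have h2 : closure ((𝔸(ι; X) ↘ X) '' (Set.univ : Set 𝔸(ι; X))) = Set.univ := by
    rw [Set.image_univ, (𝔸(ι; X) ↘ X).surjective.range_eq, closure_univ]
  rw [h2] at h1
  exact h1

lemma over_specializes : (𝔸(ι; X) ↘ X) (genericPoint 𝔸(ι; X)) ⤳ genericPoint X :=
  specializes_of_eq (over_generic ι)

/-- The chart `Spec Γ(X, U)[t] ⟶ 𝔸ⁿ_X` attached to an affine open `U`. -/
noncomputable def chart {U : X.Opens} (hU : IsAffineOpen U) :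
    Spec (SS Γ(X, U) ι) ⟶ 𝔸(ι; X) :=
  (AffineSpace.SpecIso ι Γ(X, U)).inv ≫ AffineSpace.map ι hU.fromSpec

instance isOpenImmersion_map {S T : Scheme.{u}} (f : S ⟶ T) [IsOpenImmersion f] :
    IsOpenImmersion (AffineSpace.map ι f) :=
  MorphismProperty.of_isPullback (P := @IsOpenImmersion) (AffineSpace.isPullback_map f).flip
    inferInstance

instance {U : X.Opens} (hU : IsAffineOpen U) : IsOpenImmersion (chart ι hU) := by
  unfold chart
  infer_instance

lemma chart_over {U : X.Opens} (hU : IsAffineOpen U) :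
    chart ι hU ≫ (𝔸(ι; X) ↘ X) = qq Γ(X, U) ι ≫ hU.fromSpec := by
  unfold chart
  rw [Category.assoc, AffineSpace.map_over, ← Category.assoc, AffineSpace.SpecIso_inv_over]

lemma chart_apply {U : X.Opens} (hU : IsAffineOpen U) (v : Spec (SS Γ(X, U) ι)) :
    (𝔸(ι; X) ↘ X) ((chart ι hU) v) = hU.fromSpec ((qq Γ(X, U) ι) v) := by
  rw [← Scheme.Hom.comp_apply, ← Scheme.Hom.comp_apply, chart_over]

variable {U : X.Opens} (hU : IsAffineOpen U) [IsDomain Γ(X, U)] [IsNoetherianRing Γ(X, U)]

/-- Compatibility of the function field maps along a chart. -/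
lemma chart_ffMap (f : X.functionField) :
    ffMap (chart ι hU) (spec_generic (chart ι hU)) (ffMap (𝔸(ι; X) ↘ X) (over_specializes ι) f) =
      φφ Γ(X, U) ι (ffMap hU.fromSpec (spec_generic hU.fromSpec) f) := by
  rw [← ffMap_comp, ← ffMap_comp]
  exact congrArg (fun φ : X.functionField ⟶ (Spec (SS Γ(X, U) ι)).functionField => φ.hom f)
    (ffMap_congr (chart_over ι hU) _ _)

end Helpers

section Main

variable (ι : Type u) [Finite ι]

theorem main (X : Scheme.{u}) [IsIntegral X] [IsNoetherian X]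
    [IsLocallyNoetherian 𝔸(ι; X)]
    (hR1 : ∀ x : ↥X, Order.coheight x = 1 → IsDiscreteValuationRing ↑(X.presheaf.stalk x))
    (D : ↥X → ℤ) (hD : ∀ x, Order.coheight x ≠ 1 → D x = 0)
    (g : ↑(𝔸(ι; X)).functionField) (hg : g ≠ 0)
    (h : ∀ y : ↥(𝔸(ι; X)), Order.coheight y = 1 →
      Scheme.ord g y = D ((𝔸(ι; X) ↘ X) y)) :
    ∃ f : ↑X.functionField, f ≠ 0 ∧ ∀ x : ↥X, Order.coheight x = 1 → Scheme.ord f x = D x := by
  classical
  have hDη : D (genericPoint X) = 0 := by
    apply hD
    have h0 : coheight (genericPoint X) = 0 := Order.coheight_top X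
    rw [h0]
    exact zero_ne_one
  -- Step 1: a preimage of `g`
  obtain ⟨f, hf⟩ : ∃ f : X.functionField,
      ffMap (𝔸(ι; X) ↘ X) (over_specializes ι) f = g := by
    obtain ⟨x₀⟩ : Nonempty X := inferInstance
    obtain ⟨U, hU, hx₀, -⟩ :=
      Opens.isBasis_iff_nbhd.mp X.isBasis_affineOpens (Opens.mem_top x₀)
    haveI : Nonempty U := ⟨⟨x₀, hx₀⟩⟩
    haveI : IsDomain Γ(X, U) := IsIntegral.component_integral U
    haveI : IsNoetherianRing Γ(X, U) := IsLocallyNoetherian.component_noetherian ⟨U, hU⟩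
    have hcinj : Function.Injective (ffMap (chart ι hU) (spec_generic (chart ι hU))).hom :=
      (ffMap (chart ι hU) (spec_generic (chart ι hU))).hom.injective
    have hg' : ffMap (chart ι hU) (spec_generic (chart ι hU)) g ≠ 0 :=
      fun h0 => hg (hcinj (h0.trans (map_zero _).symm))
    obtain ⟨f', hf'⟩ := exists_preimage Γ(X, U) ι
      (ffMap (chart ι hU) (spec_generic (chart ι hU)) g) hg' (by
        intro v hv hqv
        have h1 : Scheme.ord (ffMap (chart ι hU) (spec_generic (chart ι hU)) g) v =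
            Scheme.ord g ((chart ι hU) v) := ord_ffEquiv (chart ι hU) g v
        have h2 : coheight ((chart ι hU) v) = 1 :=
          (coheight_eq_of_isOpenImmersion (chart ι hU)).trans hv
        rw [h1, h _ h2, chart_apply, hqv, genericPoint_eq_of_isOpenImmersion hU.fromSpec, hDη])
    refine ⟨(ffEquiv hU.fromSpec).symm f', ?_⟩
    apply hcinj
    show ffMap (chart ι hU) (spec_generic (chart ι hU)) (ffMap (𝔸(ι; X) ↘ X) (over_specializes ι)
      ((ffEquiv hU.fromSpec).symm f')) = _
    rw [chart_ffMap]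
    have h3 : ffMap hU.fromSpec (spec_generic hU.fromSpec) ((ffEquiv hU.fromSpec).symm f') = f' :=
      (ffEquiv hU.fromSpec).apply_symm_apply f'
    rw [h3]
    exact hf'
  have hf0 : f ≠ 0 := by
    rintro rfl
    rw [map_zero] at hf
    exact hg hf.symm
  refine ⟨f, hf0, ?_⟩
  -- Step 2: orders at codimension one points
  intro x hx
  obtain ⟨U, hU, hxU, -⟩ :=
    Opens.isBasis_iff_nbhd.mp X.isBasis_affineOpens (Opens.mem_top x)
  haveI : Nonempty U := ⟨⟨x, hxU⟩⟩
  haveI : IsDomain Γ(X, U) := IsIntegral.component_integral U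
  haveI : IsNoetherianRing Γ(X, U) := IsLocallyNoetherian.component_noetherian ⟨U, hU⟩
  obtain ⟨u, hu⟩ : ∃ u : Spec Γ(X, U), hU.fromSpec u = x := by
    have : x ∈ Set.range hU.fromSpec := by
      rw [hU.range_fromSpec]
      exact hxU
    exact this
  have hcou : coheight u = 1 := by
    rw [← coheight_eq_of_isOpenImmersion hU.fromSpec, hu]
    exact hx
  have hcou' : coheight (hU.fromSpec u) = 1 := by rw [hu]; exact hx
  haveI hDVRx : IsDiscreteValuationRing (X.presheaf.stalk (hU.fromSpec u)) := hR1 _ hcou'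
  have hDVRu : IsDiscreteValuationRing ((Spec Γ(X, U)).presheaf.stalk u) :=
    IsDiscreteValuationRing.RingEquivClass.isDiscreteValuationRing (stalkEquiv hU.fromSpec u)
  haveI hPprime : (PrimeSpectrum.asIdeal u).IsPrime := PrimeSpectrum.isPrime u
  haveI hQprime := map_C_isPrime Γ(X, U) ι (PrimeSpectrum.asIdeal u)
  obtain ⟨v, hvdef⟩ : ∃ v : Spec (SS Γ(X, U) ι), PrimeSpectrum.asIdeal v =
      (PrimeSpectrum.asIdeal u).map (MvPolynomial.C : Γ(X, U) →+* MvPolynomial ι Γ(X, U)) :=
    ⟨(⟨_, hQprime⟩ : PrimeSpectrum (MvPolynomial ι Γ(X, U))), rfl⟩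
  have hqv : (qq Γ(X, U) ι) v = u := by
    apply PrimeSpectrum.ext
    rw [qq_asIdeal, hvdef, comap_map_C]
  obtain ⟨hv1, hord⟩ := ord_vertical Γ(X, U) ι v (by rw [hqv]; exact hvdef)
    (by rw [hqv]; exact hcou) (by rw [hqv]; exact hDVRu)
  have hfi0 : ffMap hU.fromSpec (spec_generic hU.fromSpec) f ≠ 0 := by
    intro h0
    exact hf0 ((ffMap hU.fromSpec (spec_generic hU.fromSpec)).hom.injective
      (h0.trans (map_zero _).symm))
  have e1 : Scheme.ord f x = Scheme.ord (ffMap hU.fromSpec (spec_generic hU.fromSpec) f) u := by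
    rw [← hu]
    exact (ord_ffEquiv hU.fromSpec f u).symm
  have e2 := hord _ hfi0
  rw [hqv] at e2
  have e3 : Scheme.ord (ffMap (chart ι hU) (spec_generic (chart ι hU)) g) v =
      Scheme.ord g ((chart ι hU) v) := ord_ffEquiv (chart ι hU) g v
  have hcv1 : coheight ((chart ι hU) v) = 1 :=
    (coheight_eq_of_isOpenImmersion (chart ι hU)).trans hv1
  rw [e1, ← e2, ← chart_ffMap, hf, e3, h _ hcv1, chart_apply, hqv, hu]

end Main

/-- Let X be an integral Noetherian separated scheme which is regular in codimension 1 (the local ring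
at every point of codimension 1, i.e. of coheight 1 in the specialization order, is a discrete
valuation ring), and let p : A^m_X → X be the affine m-space over X. Pulling back Weil divisors
along p (a divisor D, viewed as an integer-valued function on the codimension-1 points of X with
finite support, goes to y ↦ D(p(y)) on the codimension-1 points of A^m_X) induces an injective map
on divisor class groups: if the pulled-back divisor is the divisor of a nonzero rational function on
A^m_X, then D is the divisor of a nonzero rational function on X. -/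
theorem result (m : ℕ) (X : Scheme.{u}) [IsIntegral X]
    [IsNoetherian X] [X.IsSeparated] [IsLocallyNoetherian 𝔸(ULift.{u} (Fin m); X)]
    (hR1 : ∀ x : ↥X, Order.coheight x = 1 → IsDiscreteValuationRing ↑(X.presheaf.stalk x))
    (D : ↥X → ℤ) (hD : ∀ x, Order.coheight x ≠ 1 → D x = 0) (hfin : {x | D x ≠ 0}.Finite)
    (g : ↑(𝔸(ULift.{u} (Fin m); X)).functionField) (hg : g ≠ 0)
    (h : ∀ y : ↥(𝔸(ULift.{u} (Fin m); X)), Order.coheight y = 1 →
      Scheme.ord g y = D ((𝔸(ULift.{u} (Fin m); X) ↘ X) y)) :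
    ∃ f : ↑X.functionField, f ≠ 0 ∧ ∀ x : ↥X, Order.coheight x = 1 → Scheme.ord f x = D x := by
  exact main (ULift.{u} (Fin m)) X hR1 D hD g hg h

end Groth.Agent.S10900
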