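import Groth.Statements.S10902
import Mathlib
import Groth.Agent.H44.Cartier
import Groth.Agent.H54.AffineTrdeg

set_option autoImplicit false
universe u
open TensorProduct
open SmVar

namespace Groth.Agent.S10902

/-- Upper semicontinuity of the fibre dimension of a finite module along specialisation. -/
theorem finrank_residueField_tensor_le {A : Type u} [CommRing A] (M : Type u) [AddCommGroup M]
    [Module A M] [Module.Finite A M] (q P : Ideal A) [q.IsPrime] [P.IsPrime] (hqP : q ≤ P) :
    Module.finrank q.ResidueField (q.ResidueField ⊗[A] M) ≤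
      Module.finrank P.ResidueField (P.ResidueField ⊗[A] M) := by
  classical
  have hspan : Submodule.span P.ResidueField
      (Set.range fun m : M => (1 : P.ResidueField) ⊗ₜ[A] m) = ⊤ := by
    have key : ∀ z : P.ResidueField ⊗[A] M, z ∈ Submodule.span P.ResidueField
        (Set.range fun m : M => (1 : P.ResidueField) ⊗ₜ[A] m) := by
      intro z
      induction z using TensorProduct.induction_on with
      | zero => exact Submodule.zero_mem _
      | tmul a m =>
        have h1 : a ⊗ₜ[A] m = a • ((1 : P.ResidueField) ⊗ₜ[A] m) := by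
          rw [TensorProduct.smul_tmul', smul_eq_mul, mul_one]
        rw [h1]
        exact Submodule.smul_mem _ _ (Submodule.subset_span ⟨m, rfl⟩)
      | add x y hx hy => exact Submodule.add_mem _ hx hy
    rw [eq_top_iff]
    exact fun z _ => key z
  let b := Module.Basis.ofSpan hspan.ge
  haveI hfin : Finite ((linearIndepOn_empty P.ResidueField id).extend
      (Set.empty_subset (Set.range fun m : M => (1 : P.ResidueField) ⊗ₜ[A] m))) :=
    Module.Finite.finite_basis b
  letI := Fintype.ofFinite ((linearIndepOn_empty P.ResidueField id).extend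
      (Set.empty_subset (Set.range fun m : M => (1 : P.ResidueField) ⊗ₜ[A] m)))
  have hb : ∀ i, ∃ m : M, (1 : P.ResidueField) ⊗ₜ[A] m = b i :=
    fun i => Module.Basis.ofSpan_subset hspan.ge ⟨i, rfl⟩
  choose m hm using hb
  set N : Submodule A M := Submodule.span A (Set.range m) with hN
  -- κ_P ⊗ (M/N) = 0
  have hg : LinearMap.baseChange P.ResidueField N.mkQ = 0 := by
    apply b.ext
    intro i
    rw [← hm i, LinearMap.baseChange_tmul, LinearMap.zero_apply]
    have : N.mkQ (m i) = 0 := by
      rw [Submodule.mkQ_apply, Submodule.Quotient.mk_eq_zero]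
      exact Submodule.subset_span ⟨i, rfl⟩
    rw [this, TensorProduct.tmul_zero]
  have hgs : Function.Surjective (LinearMap.baseChange P.ResidueField N.mkQ) := by
    rw [LinearMap.baseChange_eq_ltensor]
    exact LinearMap.lTensor_surjective _ N.mkQ_surjective
  have hQP : Subsingleton (P.ResidueField ⊗[A] (M ⧸ N)) := by
    refine ⟨fun x y => ?_⟩
    obtain ⟨x', rfl⟩ := hgs x
    obtain ⟨y', rfl⟩ := hgs y
    rw [hg, LinearMap.zero_apply, LinearMap.zero_apply]
  have h1 : (⟨P, inferInstance⟩ : PrimeSpectrum A) ∉ Module.support A (M ⧸ N) := by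
    intro h
    have := (Module.mem_support_iff_nontrivial_residueField_tensorProduct
      (⟨P, inferInstance⟩ : PrimeSpectrum A)).mp h
    exact not_nontrivial_iff_subsingleton.mpr hQP this
  have h2 : (⟨q, inferInstance⟩ : PrimeSpectrum A) ∉ Module.support A (M ⧸ N) := by
    intro h
    apply h1
    rw [Module.mem_support_iff_of_finite] at h ⊢
    exact h.trans hqP
  have hQq : Subsingleton (q.ResidueField ⊗[A] (M ⧸ N)) := by
    rw [← not_nontrivial_iff_subsingleton]
    intro h
    exact h2 ((Module.mem_support_iff_nontrivial_residueField_tensorProduct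
      (⟨q, inferInstance⟩ : PrimeSpectrum A)).mpr h)
  -- κ_q ⊗ M is spanned by the `1 ⊗ m i`
  have hexact := lTensor_exact q.ResidueField (LinearMap.exact_subtype_mkQ N) N.mkQ_surjective
  have hmem : ∀ n ∈ N, ∀ a : q.ResidueField, a ⊗ₜ[A] n ∈
      Submodule.span q.ResidueField (Set.range fun i => (1 : q.ResidueField) ⊗ₜ[A] m i) := by
    intro n hn
    induction hn using Submodule.span_induction with
    | mem x hx =>
      obtain ⟨i, rfl⟩ := hx
      intro a
      have h3 : a ⊗ₜ[A] m i = a • ((1 : q.ResidueField) ⊗ₜ[A] m i) := by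
        rw [TensorProduct.smul_tmul', smul_eq_mul, mul_one]
      rw [h3]
      exact Submodule.smul_mem _ _ (Submodule.subset_span ⟨i, rfl⟩)
    | zero =>
      intro a
      rw [TensorProduct.tmul_zero]
      exact Submodule.zero_mem _
    | add x y _ _ hx hy =>
      intro a
      rw [TensorProduct.tmul_add]
      exact Submodule.add_mem _ (hx a) (hy a)
    | smul r x _ hx =>
      intro a
      rw [← TensorProduct.smul_tmul]
      exact hx (r • a)
  have htop : Submodule.span q.ResidueField
      (Set.range fun i => (1 : q.ResidueField) ⊗ₜ[A] m i) = ⊤ := by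
    have key2 : ∀ w : q.ResidueField ⊗[A] N, LinearMap.lTensor q.ResidueField N.subtype w ∈
        Submodule.span q.ResidueField (Set.range fun i => (1 : q.ResidueField) ⊗ₜ[A] m i) := by
      intro w
      induction w using TensorProduct.induction_on with
      | zero => rw [map_zero]; exact Submodule.zero_mem _
      | tmul a n =>
        rw [LinearMap.lTensor_tmul]
        exact hmem n.1 n.2 a
      | add x y hx hy => rw [map_add]; exact Submodule.add_mem _ hx hy
    rw [eq_top_iff]
    intro z _
    have hz : LinearMap.lTensor q.ResidueField N.mkQ z = 0 := Subsingleton.elim _ _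
    obtain ⟨w, rfl⟩ := (hexact z).mp hz
    exact key2 w
  calc Module.finrank q.ResidueField (q.ResidueField ⊗[A] M)
      ≤ Fintype.card ((linearIndepOn_empty P.ResidueField id).extend
          (Set.empty_subset (Set.range fun m : M => (1 : P.ResidueField) ⊗ₜ[A] m))) :=
        finrank_le_of_span_eq_top htop
    _ = Module.finrank P.ResidueField (P.ResidueField ⊗[A] M) :=
        (Module.finrank_eq_card_basis b).symm


/-- Let k be a field and A a k-algebra of finite type (X = Spec A a k-scheme of finite type), P a prime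
ideal of A, and suppose P contains a prime q with dim A/q ≥ n, i.e. the point P lies on an
irreducible component of X of dimension at least n. Then the fibre at P of the sheaf of
differentials of X over k has dimension at least n over the residue field: dim_{κ(P)} (κ(P) ⊗_A
Ω_{A/k}) ≥ n. (The published statement asks every irreducible component of X to have dimension ≥ n
and concludes this at every point.) -/
theorem result (k : Type u) [Field k]
    (A : Type u) [CommRing A] [Algebra k A] [Algebra.FiniteType k A] (n : ℕ)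
    (P : Ideal A) [P.IsPrime] (q : Ideal A) [q.IsPrime] (hqP : q ≤ P)
    (hq : (n : WithBot ℕ∞) ≤ ringKrullDim (A ⧸ q)) :
    n ≤ Module.finrank P.ResidueField (P.ResidueField ⊗[A] (Ω[A⁄k])) := by
  haveI : Algebra.FiniteType k (A ⧸ q) :=
    Algebra.FiniteType.of_surjective (Ideal.Quotient.mkₐ k q) (Ideal.Quotient.mkₐ_surjective k q)
  obtain ⟨n', hn'1, hn'2⟩ := Groth.Agent.H54.exists_ringKrullDim_eq_trdeg k (A ⧸ q)
  have hnn' : n ≤ n' := by
    rw [hn'2] at hq
    exact_mod_cast hq
  have htr : Algebra.trdeg k q.ResidueField = Algebra.trdeg k (A ⧸ q) :=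
    Groth.Agent.H54.trdeg_eq_trdeg_of_isFractionRing k (A ⧸ q) q.ResidueField
  haveI : Algebra.EssFiniteType k q.ResidueField :=
    Algebra.EssFiniteType.comp k A q.ResidueField
  obtain ⟨hfinΩ, hfinH, hcart⟩ := Groth.Agent.H44.Cartier.cartier k q.ResidueField
  have hK : n' ≤ Module.finrank q.ResidueField Ω[q.ResidueField⁄k] := by
    rw [htr, hn'1, Cardinal.toNat_natCast] at hcart
    have h0 : (0 : ℤ) ≤ Module.finrank q.ResidueField (Algebra.H1Cotangent k q.ResidueField) :=
      Int.natCast_nonneg _
    omega
  haveI : Module.Finite A Ω[(A ⧸ q)⁄k] := Module.Finite.trans (A ⧸ q) _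
  -- surjection `κ(q) ⊗[A] Ω[(A/q)/k] → Ω[κ(q)/k]`
  let g : Ω[(A ⧸ q)⁄k] →ₗ[A] Ω[q.ResidueField⁄k] :=
    (KaehlerDifferential.map k k (A ⧸ q) q.ResidueField).restrictScalars A
  let ψ : q.ResidueField ⊗[A] Ω[(A ⧸ q)⁄k] →ₗ[q.ResidueField] Ω[q.ResidueField⁄k] :=
    LinearMap.liftBaseChange q.ResidueField g
  have hψ : Function.Surjective ψ := by
    rw [← LinearMap.range_eq_top, eq_top_iff,
      ← KaehlerDifferential.span_range_map_derivation_of_isLocalization k (A ⧸ q) q.ResidueField
        (nonZeroDivisors (A ⧸ q)), Submodule.span_le]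
    rintro _ ⟨a, rfl⟩
    refine ⟨(1 : q.ResidueField) ⊗ₜ[A] KaehlerDifferential.D k (A ⧸ q) a, ?_⟩
    rw [LinearMap.liftBaseChange_tmul, one_smul]
    rfl
  have h4 : Module.finrank q.ResidueField Ω[q.ResidueField⁄k] ≤
      Module.finrank q.ResidueField (q.ResidueField ⊗[A] Ω[(A ⧸ q)⁄k]) :=
    LinearMap.finrank_le_finrank_of_surjective hψ
  have h3 := finrank_residueField_tensor_le Ω[(A ⧸ q)⁄k] q P hqP
  -- surjection `κ(P) ⊗ Ω[A/k] → κ(P) ⊗ Ω[(A/q)/k]`
  have hf : Function.Surjective (KaehlerDifferential.map k k A (A ⧸ q)) :=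
    KaehlerDifferential.map_surjective_of_surjective k k A (A ⧸ q) Ideal.Quotient.mk_surjective
  have hfs : Function.Surjective
      (LinearMap.baseChange P.ResidueField (KaehlerDifferential.map k k A (A ⧸ q))) := by
    rw [LinearMap.baseChange_eq_ltensor]
    exact LinearMap.lTensor_surjective _ hf
  have h2 : Module.finrank P.ResidueField (P.ResidueField ⊗[A] Ω[(A ⧸ q)⁄k]) ≤
      Module.finrank P.ResidueField (P.ResidueField ⊗[A] Ω[A⁄k]) :=
    LinearMap.finrank_le_finrank_of_surjective hfs
  omega

end Groth.Agent.S10902
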