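import Groth.Statements.S10903
import Groth.Agent.H21.LocalReg

set_option autoImplicit false
universe u
open CInt

namespace Groth.Agent.S10903

open Groth.Agent.S10915 (irr mem_irr_iff irr_isMaximal)
open Groth.Agent.H21.HilbertCI Groth.Agent.H21.LocalReg


/-- Let k be a field, S = k[x_0, …, x_n], and f_1, …, f_r with r ≤ n homogeneous polynomials of positive
degrees whose ideal J = (f_1, …, f_r) has height r — the subscheme of P^n_k cut out by the
hypersurfaces f_i = 0 has codimension r, an ideal-theoretic complete intersection. Then J is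
saturated with respect to the irrelevant ideal (x_0, …, x_n): an element g of S such that, for each
i, x_i^m g ∈ J for some m, already lies in J. Hence J is the full homogeneous ideal of that
subscheme (a global complete intersection). -/
theorem result (k : Type u) [Field k] (n r : ℕ)
    (hr : r ≤ n) (f : Fin r → MvPolynomial (Fin (n + 1)) k) (d : Fin r → ℕ)
    (hf : ∀ i, (f i).IsHomogeneous (d i)) (hd : ∀ i, 0 < d i)
    (hJ : (Ideal.span (Set.range f)).height = r) (g : MvPolynomial (Fin (n + 1)) k)
    (hg : ∀ i : Fin (n + 1), ∃ m : ℕ, MvPolynomial.X i ^ m * g ∈ Ideal.span (Set.range f)) :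
    g ∈ Ideal.span (Set.range f) := by
  classical
  obtain ⟨J, hJdef⟩ : ∃ J : Ideal (MvPolynomial (Fin (n + 1)) k),
      J = Ideal.span (Set.range f) := ⟨_, rfl⟩
  rw [← hJdef] at hJ hg ⊢
  have hJhom : J.IsHomogeneous (CohB1.polyGrading n k) := by
    rw [hJdef]
    apply Ideal.homogeneous_span
    rintro _ ⟨i, rfl⟩
    exact ⟨d i, hf i⟩
  -- local Cohen–Macaulay data
  obtain ⟨l, hl⟩ : ∃ l : List (MvPolynomial (Fin (n + 1)) k), l = List.ofFn f := ⟨_, rfl⟩
  have hofl : Ideal.ofList l = J := by
    rw [hl, hJdef]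
    exact ofList_ofFn' f
  have hlirr : ∀ y ∈ l, y ∈ irr k n := by
    intro y hy
    rw [hl] at hy
    obtain ⟨i, rfl⟩ := List.mem_ofFn.mp hy
    rw [mem_irr_iff]
    apply (hf i).coeff_eq_zero
    have := hd i
    simp only [map_zero]
    omega
  have hlen : l.length + (n + 1 - r) = n + 1 := by
    rw [hl, List.length_ofFn]
    omega
  have hdimS : ringKrullDim (MvPolynomial (Fin (n + 1)) k) = ((n + 1 : ℕ) : WithBot ℕ∞) := by
    rw [MvPolynomial.ringKrullDim_of_isNoetherianRing, ringKrullDim_eq_zero_of_field, zero_add,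
      Nat.card_eq_fintype_card, Fintype.card_fin]
  have hdimQ : ringKrullDim (MvPolynomial (Fin (n + 1)) k ⧸ Ideal.ofList l) ≤
      ((n + 1 - r : ℕ) : WithBot ℕ∞) := by
    rw [hofl]
    exact ringKrullDim_quotient_le_of_le_height J (n + 1) r (n + 1 - r) hdimS.le
      (by rw [hJ]) (by omega)
  obtain ⟨-, hCM, hsd⟩ := local_weaklyRegular k n l hlirr (n + 1 - r) hlen hdimQ
  rw [hofl] at hCM hsd
  have h0 : ringKrullDim (Localization.AtPrime (irr k n) ⧸
      IsLocalRing.maximalIdeal (Localization.AtPrime (irr k n))) = 0 :=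
    ringKrullDim_eq_zero_of_isField
      ((Ideal.Quotient.maximal_ideal_iff_isField_quotient _).mp
        (IsLocalRing.maximalIdeal.isMaximal (Localization.AtPrime (irr k n))))
  have hlt : ringKrullDim (Localization.AtPrime (irr k n) ⧸
      IsLocalRing.maximalIdeal (Localization.AtPrime (irr k n))) <
      Module.supportDim (Localization.AtPrime (irr k n))
        (Localization.AtPrime (irr k n) ⧸ J.map
          (algebraMap (MvPolynomial (Fin (n + 1)) k) (Localization.AtPrime (irr k n)))) := by
    rw [h0, hsd]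
    have hpos : 0 < n + 1 - r := by omega
    exact_mod_cast hpos
  obtain ⟨x, hxm, hxreg⟩ := Groth.Agent.H29.CM.exists_regular_mem_of_dim_lt hCM hlt
  -- the homogeneous case
  have key : ∀ (e : ℕ) (g' : MvPolynomial (Fin (n + 1)) k), g' ∈ CohB1.polyGrading n k e →
      (∀ i : Fin (n + 1), ∃ m : ℕ, MvPolynomial.X i ^ m * g' ∈ J) → g' ∈ J := by
    intro e g' hg' hXg
    apply mem_of_map_mem k n J hJhom e g' hg'
    obtain ⟨K, hK⟩ : ∃ K : Ideal (MvPolynomial (Fin (n + 1)) k), ∀ s, s ∈ K ↔ g' * s ∈ J :=
      ⟨Submodule.comap (LinearMap.mulLeft (MvPolynomial (Fin (n + 1)) k) g') J,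
        fun s => Iff.rfl⟩
    have hirrK : irr k n ≤ K.radical := by
      rw [Ideal.span_le]
      rintro _ ⟨i, rfl⟩
      obtain ⟨m, hm⟩ := hXg i
      exact Ideal.mem_radical_iff.mpr ⟨m, (hK _).mpr (by rw [mul_comm]; exact hm)⟩
    obtain ⟨N, hN⟩ := Ideal.exists_pow_le_of_le_radical_of_fg hirrK (IsNoetherian.noetherian _)
    have hxN : x ^ N ∈ (irr k n ^ N).map
        (algebraMap (MvPolynomial (Fin (n + 1)) k) (Localization.AtPrime (irr k n))) := by
      rw [Ideal.map_pow, IsLocalization.AtPrime.map_eq_maximalIdeal (irr k n)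
        (Localization.AtPrime (irr k n))]
      exact Ideal.pow_mem_pow hxm N
    have hcolon : ∀ y ∈ (irr k n ^ N).map
        (algebraMap (MvPolynomial (Fin (n + 1)) k) (Localization.AtPrime (irr k n))),
        algebraMap (MvPolynomial (Fin (n + 1)) k) (Localization.AtPrime (irr k n)) g' * y ∈
          J.map (algebraMap (MvPolynomial (Fin (n + 1)) k)
            (Localization.AtPrime (irr k n))) := by
      intro y hy
      refine Submodule.span_induction ?_ ?_ ?_ ?_ hy
      · rintro _ ⟨s, hs, rfl⟩
        rw [← map_mul]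
        exact Ideal.mem_map_of_mem _ ((hK s).mp (hN hs))
      · rw [mul_zero]
        exact Ideal.zero_mem _
      · intro a b _ _ ha hb
        rw [mul_add]
        exact Ideal.add_mem _ ha hb
      · intro a b _ hb
        rw [smul_eq_mul, mul_left_comm]
        exact Ideal.mul_mem_left _ a hb
    have h1 : x ^ N • algebraMap (MvPolynomial (Fin (n + 1)) k)
        (Localization.AtPrime (irr k n)) g' ∈ J.map
          (algebraMap (MvPolynomial (Fin (n + 1)) k) (Localization.AtPrime (irr k n))) := by
      rw [smul_eq_mul, mul_comm]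
      exact hcolon _ hxN
    have hregN : IsSMulRegular (Localization.AtPrime (irr k n) ⧸ J.map
        (algebraMap (MvPolynomial (Fin (n + 1)) k) (Localization.AtPrime (irr k n))))
        (x ^ N) := hxreg.pow N
    exact (isSMulRegular_quotient_iff_mem_of_smul_mem _ _).mp hregN _ h1
  -- reduce to homogeneous components
  have hsum := DirectSum.sum_support_decompose (CohB1.polyGrading n k) g
  rw [← hsum]
  apply Ideal.sum_mem
  intro e _
  apply key e _ (SetLike.coe_mem _)
  intro i
  obtain ⟨m, hm⟩ := hg i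
  refine ⟨m, ?_⟩
  have hXm : (MvPolynomial.X i ^ m : MvPolynomial (Fin (n + 1)) k) ∈ CohB1.polyGrading n k m :=
    MvPolynomial.isHomogeneous_X_pow i m
  have h := hJhom (m + e) hm
  rwa [DirectSum.coe_decompose_mul_add_of_left_mem (CohB1.polyGrading n k) hXm] at h

end Groth.Agent.S10903
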