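import Groth.Statements.S10906
import Groth.Agent.H21.HilbFilt

set_option autoImplicit false
universe u
open Polynomial
open ProjDeg

namespace Groth.Agent.S10906

open Groth.Agent.H21.HilbFilt Groth.Agent.H21.ProjDim

set_option linter.style.haveILetI false

/-- Regrouping a sum over a list according to a finite family of labels. -/
theorem regroup {α : Type*} {r : ℕ} (F : α → ℚ) (F' : Fin r → ℚ) (lab : α → Fin r → Prop)
    [∀ x i, Decidable (lab x i)] (L : List α) :
    ∀ L₀ : List α, (∀ x ∈ L₀, x ∈ L) →
      (∀ x ∈ L, F x = ∑ i : Fin r, if lab x i then F' i else 0) →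
      (L₀.map F).sum = ∑ i : Fin r, F' i * ((L₀.countP (fun x => decide (lab x i)) : ℕ) : ℚ) := by
  intro L₀
  induction L₀ with
  | nil =>
    intro _ _
    simp
  | cons x L₀ ih =>
    intro hsub hF
    rw [List.map_cons, List.sum_cons, ih (fun y hy => hsub y (List.mem_cons_of_mem _ hy)) hF,
      hF x (hsub x List.mem_cons_self), ← Finset.sum_add_distrib]
    refine Finset.sum_congr rfl fun i _ => ?_
    rw [List.countP_cons]
    by_cases h : lab x i
    · simp only [h, decide_true, if_true]
      push_cast
      ring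
    · simp only [h, decide_false, Bool.false_eq_true, if_false, add_zero, zero_add]


/-- Let k be a field, R = k[X_0, …, X_n] graded by degree, I a homogeneous ideal with Hilbert polynomial
P (a rational polynomial with P(m) = dim_k R_m − dim_k (I ∩ R_m) for all large m), and p_1, …, p_r
the minimal prime ideals over I, listed without repetition, with Hilbert polynomials Q_i; put t =
deg P. Defining the degree of V(J) as (degree of its Hilbert polynomial)! times the leading
coefficient and the multiplicity of the component V(p_i) in Y = V(I) as the length of (R/I)_{p_i}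
over R_{p_i}, the degree of Y is the sum, over the components of top dimension (those i with deg Q_i
= t), of multiplicity times degree: deg Y = Σ_{deg Q_i = t} i(Y_i; Y) · deg V(p_i). -/
theorem result (k : Type u) [Field k] (n : ℕ)
    (I : Ideal (MvPolynomial (Fin (n + 1)) k)) (hIh : I.IsHomogeneous (CohB1.polyGrading n k))
    (P : ℚ[X])
    (hP : ∃ m₀ : ℕ, ∀ m : ℕ, m₀ ≤ m → P.eval (m : ℚ) =
      (Module.finrank k ↥(CohB1.polyGrading n k m) : ℚ) -
        Module.finrank k ↥(Submodule.restrictScalars k I ⊓ CohB1.polyGrading n k m))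
    (r : ℕ) (p : Fin r → Ideal (MvPolynomial (Fin (n + 1)) k)) [hp : ∀ i, (p i).IsPrime] (hpinj : Function.Injective p)
    (hpmin : ∀ q : Ideal (MvPolynomial (Fin (n + 1)) k), q ∈ I.minimalPrimes ↔ ∃ i, q = p i)
    (Qp : Fin r → ℚ[X])
    (hQp : ∀ i, ∃ m₀ : ℕ, ∀ m : ℕ, m₀ ≤ m → (Qp i).eval (m : ℚ) =
      (Module.finrank k ↥(CohB1.polyGrading n k m) : ℚ) -
        Module.finrank k ↥(Submodule.restrictScalars k (p i) ⊓ CohB1.polyGrading n k m)) :
    (P.natDegree.factorial : ℚ) * P.leadingCoeff =
      ∑ i : Fin r, if (Qp i).natDegree = P.natDegree then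
        ((Qp i).natDegree.factorial : ℚ) * (Qp i).leadingCoeff *
          (Module.length (Localization.AtPrime (p i))
            (LocalizedModule (p i).primeCompl (MvPolynomial (Fin (n + 1)) k ⧸ I))).toNat
      else 0 := by
  classical
  have hP' : IsHP (hf k n I) P := hP
  obtain ⟨L, hL, hdata, hpos, hS⟩ := exists_filt_data I hIh
  have hPS := hP'.unique hS
  obtain ⟨hm1, -, -, -, hm5⟩ := sumSh_main _ hpos
  rw [← hPS] at hm1 hm5
  rw [hm5, List.map_map]
  -- the summand attached to an element of the filtration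
  obtain ⟨F', hF'⟩ : ∃ F' : Fin r → ℚ, F' = fun i => if (Qp i).natDegree = P.natDegree then
      ((Qp i).natDegree.factorial : ℚ) * (Qp i).leadingCoeff else 0 := ⟨_, rfl⟩
  have hmin : ∀ i, p i ∈ I.minimalPrimes := fun i => (hpmin (p i)).mpr ⟨i, rfl⟩
  have hF : ∀ x ∈ L, ((fun y : ℚ[X] × ℕ => if y.1.natDegree = P.natDegree then
        (y.1.natDegree.factorial : ℚ) * y.1.leadingCoeff else 0) ∘
        fun x : Ideal (MvPolynomial (Fin (n + 1)) k) × ℕ => (hpoly k n x.1, x.2)) x =
      ∑ i : Fin r, if x.1 = p i then F' i else 0 := by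
    intro x hxL
    show (if (hpoly k n x.1).natDegree = P.natDegree then
        ((hpoly k n x.1).natDegree.factorial : ℚ) * (hpoly k n x.1).leadingCoeff else 0) = _
    obtain ⟨hxp, hxh, hxI⟩ := hL.mem_props x hxL
    haveI := hxp
    by_cases hxmin : x.1 ∈ I.minimalPrimes
    · obtain ⟨i₀, hi₀⟩ := (hpmin x.1).mp hxmin
      rw [Finset.sum_eq_single i₀]
      · rw [if_pos hi₀, hF']
        have h1 : hpoly k n x.1 = Qp i₀ := by
          rw [hi₀]
          exact hpoly_eq (hQp i₀)
        rw [h1]
      · intro i _ hne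
        rw [if_neg]
        intro h
        exact hne (hpinj (h.symm.trans hi₀))
      · intro h
        exact absurd (Finset.mem_univ i₀) h
    · have hzero : ∀ i : Fin r, (if x.1 = p i then F' i else 0) = 0 := by
        intro i
        rw [if_neg]
        intro h
        exact hxmin (h ▸ hmin i)
      rw [Finset.sum_congr rfl (fun i _ => hzero i), Finset.sum_const_zero]
      obtain ⟨δ, hδ, -, h0, h1⟩ := hdata x hxL
      rcases Nat.eq_zero_or_pos δ with hδ0 | hδpos
      · rw [h0 hδ0, leadingCoeff_zero, mul_zero, ite_self]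
      · rw [if_neg]
        obtain ⟨q, hqmin, hqx⟩ := Ideal.exists_minimalPrimes_le hxI
        haveI : q.IsPrime := hqmin.1.1
        have hlt : q < x.1 := lt_of_le_of_ne hqx (fun h => hxmin (h ▸ hqmin))
        obtain ⟨x', hx'L, hx'⟩ := hL.mem_of_mem_minimalPrimes hqmin
        obtain ⟨δ', hδ', -, h0', h1'⟩ := hdata x' hx'L
        have h2 := dim_succ_le_of_lt k n hlt
        rw [hδ, ← hx', hδ'] at h2
        have h3 : δ + 1 ≤ δ' := by exact_mod_cast h2
        obtain ⟨h4, h5⟩ := h1' (by omega)
        have h6 : hpoly k n x'.1 ≠ 0 := by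
          intro h
          rw [h, leadingCoeff_zero] at h5
          exact lt_irrefl _ h5
        have h7 : (hpoly k n x'.1).natDegree ≤ P.natDegree :=
          hm1 _ (List.mem_map.mpr ⟨x', hx'L, rfl⟩) h6
        have h8 := (h1 hδpos).1
        omega
  rw [regroup _ F' (fun x i => x.1 = p i) L L (fun x hx => hx) hF]
  refine Finset.sum_congr rfl fun i _ => ?_
  have hlen := length_localized_filt hL (p i)
    (fun x hx hle => le_antisymm hle ((hmin i).2 ⟨(hL.mem_props x hx).1, (hL.mem_props x hx).2.2⟩ hle))
  rw [hlen, ENat.toNat_natCast, hF']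
  show (if (Qp i).natDegree = P.natDegree then
      ((Qp i).natDegree.factorial : ℚ) * (Qp i).leadingCoeff else 0) * _ = _
  split_ifs with h
  · rfl
  · rw [zero_mul]

end Groth.Agent.S10906
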