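import Groth.Statements.S10905
import Groth.Agent.H21.HilbFilt
import Groth.Agent.S10906
import Groth.Agent.S10904

set_option autoImplicit false
universe u
open Polynomial
open ProjDeg

namespace Groth.Agent.S10905

open Groth.Agent.H21.HilbFilt Groth.Agent.H21.ProjDim

set_option linter.style.haveILetI false


/-- Let k be a field, R = k[X_0, …, X_n] graded by degree, I a homogeneous prime ideal whose Hilbert
polynomial P (a rational polynomial with P(m) = dim_k R_m − dim_k (I ∩ R_m) for all large m) has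
degree ≥ 1, so that Y = V(I) is a projective variety of dimension ≥ 1; let f ∉ I be homogeneous of
degree d ≥ 1, I' = I + (f), and p_1, …, p_r the minimal prime ideals over I' (listed without
repetition), with Hilbert polynomials Q_i. Define the degree of V(J) as (degree of its Hilbert
polynomial)! times the leading coefficient, and the intersection multiplicity of I and (f) at p_i as
the length of (R/I')_{p_i} over R_{p_i}. Then d · deg Y = Σ_i deg V(p_i) · i(I, (f); p_i). (The
published statement has no dimension hypothesis; for Y a single point the only minimal prime over I'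
is the irrelevant ideal, whose Hilbert polynomial is 0, so the right side vanishes while the left
side does not.) -/
theorem result (k : Type u) [Field k] (n : ℕ)
    (I : Ideal (MvPolynomial (Fin (n + 1)) k)) (hIh : I.IsHomogeneous (CohB1.polyGrading n k)) [I.IsPrime]
    (f : MvPolynomial (Fin (n + 1)) k) (d : ℕ) (hd : 0 < d) (hf : f.IsHomogeneous d) (hfI : f ∉ I)
    (P : ℚ[X])
    (hP : ∃ m₀ : ℕ, ∀ m : ℕ, m₀ ≤ m → P.eval (m : ℚ) =
      (Module.finrank k ↥(CohB1.polyGrading n k m) : ℚ) -
        Module.finrank k ↥(Submodule.restrictScalars k I ⊓ CohB1.polyGrading n k m))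
    (hdim : 1 ≤ P.natDegree)
    (r : ℕ) (p : Fin r → Ideal (MvPolynomial (Fin (n + 1)) k)) [hp : ∀ i, (p i).IsPrime] (hpinj : Function.Injective p)
    (hpmin : ∀ q : Ideal (MvPolynomial (Fin (n + 1)) k), q ∈ (I ⊔ Ideal.span {f}).minimalPrimes ↔ ∃ i, q = p i)
    (Qp : Fin r → ℚ[X])
    (hQp : ∀ i, ∃ m₀ : ℕ, ∀ m : ℕ, m₀ ≤ m → (Qp i).eval (m : ℚ) =
      (Module.finrank k ↥(CohB1.polyGrading n k m) : ℚ) -
        Module.finrank k ↥(Submodule.restrictScalars k (p i) ⊓ CohB1.polyGrading n k m)) :
    (d : ℚ) * ((P.natDegree.factorial : ℚ) * P.leadingCoeff) =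
      ∑ i : Fin r, ((Qp i).natDegree.factorial : ℚ) * (Qp i).leadingCoeff *
        (Module.length (Localization.AtPrime (p i))
          (LocalizedModule (p i).primeCompl (MvPolynomial (Fin (n + 1)) k ⧸ (I ⊔ Ideal.span {f})))).toNat := by
  classical
  have hP' : IsHP (Groth.Agent.H21.HilbFilt.hf k n I) P := hP
  have hP0 : P ≠ 0 := by
    rintro rfl
    rw [natDegree_zero] at hdim
    omega
  have hf0mem : f ∈ CohB1.polyGrading n k d := hf
  have hI'h : (I ⊔ Ideal.span {f}).IsHomogeneous (CohB1.polyGrading n k) := by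
    apply hIh.sup
    apply Ideal.homogeneous_span
    rintro x rfl
    exact ⟨d, hf0mem⟩
  obtain ⟨L, hL, hdata, hpos, hS⟩ := exists_filt_data (I ⊔ Ideal.span {f}) hI'h
  obtain ⟨Q, hQdef⟩ : ∃ Q : ℚ[X], Q = sumSh (L.map fun x => (hpoly k n x.1, x.2)) := ⟨_, rfl⟩
  rw [← hQdef] at hS
  obtain ⟨h1, h2⟩ := Groth.Agent.S10904.result k n I hIh f d hd hf hfI P Q hP hS hdim
  have h3 := Groth.Agent.S10906.result k n (I ⊔ Ideal.span {f}) hI'h Q hS r p hpinj hpmin Qp hQp
  rw [← h2, h3]
  refine Finset.sum_congr rfl fun i _ => ?_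
  rw [if_pos]
  -- every minimal prime over `I + (f)` has dimension `dim R/I - 1`
  have hmin : p i ∈ (I ⊔ Ideal.span {f}).minimalPrimes := (hpmin (p i)).mpr ⟨i, rfl⟩
  have hph : (p i).IsHomogeneous (CohB1.polyGrading n k) :=
    Groth.Agent.H21.ProjTop.isHomogeneous_of_mem_minimalPrimes hI'h hmin
  have hfp : f ∈ p i := hmin.1.2 (Ideal.mem_sup_right (Ideal.mem_span_singleton_self f))
  have hlt : I < p i :=
    SetLike.lt_iff_le_and_exists.mpr ⟨le_trans le_sup_left hmin.1.2, f, hfp, hfI⟩
  have hdimI := ringKrullDim_eq_natDegree_add_one I hIh P hP0 hP'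
  obtain ⟨δ, hδ, -⟩ := exists_nat_dim k n (p i) (hp i).ne_top
  have hδP : δ + 1 = P.natDegree + 1 := by
    have h4 : ((p i).map (Ideal.Quotient.mk I)).height ≤ 1 := by
      have h5 := height_map_le_of_mem_minimalPrimes (k := k) (n := n) (r := 1) I
        (fun _ => f) (q := p i) (by rw [Set.range_const]; exact hmin)
      exact_mod_cast h5
    have h6 := one_le_height_map_of_lt k n hlt
    have h7 : ((p i).map (Ideal.Quotient.mk I)).height = 1 := le_antisymm h4 h6
    have h8 := height_map_add_dim k n hlt.le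
    rw [h7, hδ, hdimI] at h8
    have h10 : 1 + δ = P.natDegree + 1 := by exact_mod_cast h8
    omega
  obtain ⟨Q', hQ'1, -, hQ'3⟩ := exists_hp_prime δ (p i) hph hδ
  have hQp' : IsHP (Groth.Agent.H21.HilbFilt.hf k n (p i)) (Qp i) := hQp i
  have hQQ : Qp i = Q' := hQp'.unique hQ'1
  have h11 := (hQ'3 (by omega)).1
  rw [hQQ]
  omega

end Groth.Agent.S10905
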