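import Groth.Statements.S2063
import Groth.Agent.H14.JacCrit

set_option autoImplicit false
universe u
open CAlg

namespace Groth.Agent.S2063

open TensorProduct in
/-- Let `S` be of finite type over a field `k` and `𝔮` a prime of `S`. Smoothness of `S` over `k` at `𝔮`
holds exactly when the `κ(𝔮)`-dimension of `Ω_{S/k} ⊗ κ(𝔮)` is at most the local dimension of `Spec
S` at `𝔮`. -/
theorem result {k S : Type u} [Field k] [CommRing S] [Algebra k S]
    [Algebra.FiniteType k S] (q : Ideal S) [q.IsPrime] :
    Algebra.IsSmoothAt k q ↔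
      ((Module.finrank q.ResidueField (q.ResidueField ⊗[S] Ω[S⁄k]) : ℕ∞) : WithBot ℕ∞) ≤
        FlatMor.localDim (PrimeSpectrum S) ⟨q, inferInstance⟩ := by
  haveI : IsNoetherianRing S := Algebra.FiniteType.isNoetherianRing k S
  rw [(Groth.Agent.H14.JacCrit.fibreEquiv k S q).finrank_eq]
  constructor
  · intro h
    haveI : Algebra.IsSmoothAt k q := h
    rw [← Groth.Agent.H14.JacCrit.finrank_eq_localDim_of_isSmoothAt k S q]
    exact le_rfl
  · intro h
    obtain ⟨t, ht⟩ := Groth.Agent.H14.EtaleDim.exists_trdeg_eq k S q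
    have h2 := Groth.Agent.S2141.result q t ht
    have hC_top : ringKrullDim (Localization.AtPrime q) ≠ ⊤ := ringKrullDim_ne_top
    have hC_bot : ringKrullDim (Localization.AtPrime q) ≠ ⊥ := ringKrullDim_ne_bot
    obtain ⟨c, hc⟩ : ∃ c : ℕ, ringKrullDim (Localization.AtPrime q) = c := by
      obtain ⟨d', hd'⟩ := WithBot.ne_bot_iff_exists.mp hC_bot
      have : d' ≠ ⊤ := by
        rintro rfl
        exact hC_top hd'.symm
      exact ⟨d'.toNat, by rw [← hd']; exact_mod_cast (ENat.natCast_toNat this).symm⟩
    rw [hc] at h2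
    have h3 : FlatMor.localDim (PrimeSpectrum S) ⟨q, inferInstance⟩ = ((c + t : ℕ) : WithBot ℕ∞) := by
      rw [h2]; push_cast; rfl
    rw [h3] at h
    have hrank : Module.finrank q.ResidueField
        (TensorProduct (Localization.AtPrime q) q.ResidueField
          (Ω[Localization.AtPrime q⁄k])) ≤ c + t := by
      exact_mod_cast h
    exact Groth.Agent.H14.JacCrit.isSmoothAt_of_finrank_le k S q (c + t) h3.ge hrank

end Groth.Agent.S2063
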