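import Groth.Statements.S2116
import Mathlib
import Groth.Agent.H79.SmoothReg
import Groth.Agent.H44.MacLaneAll

set_option autoImplicit false
universe u
open CAlg

namespace Groth.Agent.S2116

/-- Let `k` be algebraically closed, `S` of finite type over `k` and `𝔪` a maximal ideal of `S`. Then
the local ring `S_𝔪` is regular if and only if `S` is smooth over `k` at `𝔪`. -/
theorem result {k S : Type u} [Field k] [IsAlgClosed k] [CommRing S] [Algebra k S]
    [Algebra.FiniteType k S] (m : Ideal S) [m.IsMaximal] :
    IsRegularLocalRing (Localization.AtPrime m) ↔ Algebra.IsSmoothAt k m := by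
  haveI : Algebra.EssFiniteType S (Localization.AtPrime m) :=
    Algebra.EssFiniteType.of_isLocalization _ m.primeCompl
  haveI : Algebra.EssFiniteType k (Localization.AtPrime m) :=
    Algebra.EssFiniteType.comp k S (Localization.AtPrime m)
  haveI : Algebra.IsGeometricallyReduced k (IsLocalRing.ResidueField (Localization.AtPrime m)) :=
    Groth.Agent.H44.MacLane.isGeometricallyReduced_of_perfectField
  have hκ : Algebra.FormallySmooth k (IsLocalRing.ResidueField (Localization.AtPrime m)) :=
    Groth.Agent.H44.MacLane.formallySmooth_iff_isGeometricallyReduced.mpr inferInstance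
  exact (Groth.Agent.H79.SmoothReg.formallySmooth_iff_isRegularLocalRing k
    (Localization.AtPrime m) hκ).symm

end Groth.Agent.S2116
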