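import Groth.Statements.S10909
import Groth.Agent.S2063
import Groth.Agent.S2116
import Groth.Agent.H14.JacCrit

set_option autoImplicit false
universe u
open TensorProduct
open SmVar

namespace Groth.Agent.S10909

theorem dim_quot_nil (A : Type*) [CommRing A] :
    ringKrullDim (A ⧸ nilradical A) = ringKrullDim A := by
  rw [ringKrullDim_quotient, nilradical, PrimeSpectrum.zeroLocus_radical]
  have : PrimeSpectrum.zeroLocus ((0 : Ideal A) : Set A) = Set.univ := by
    simp
  rw [this]
  exact Order.krullDim_eq_of_orderIso (OrderIso.Set.univ)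

theorem localDim_eq_of_nilradical_isPrime (k : Type u) [Field k] (A : Type u) [CommRing A]
    [Algebra k A] [Algebra.FiniteType k A] (hirr : (nilradical A).IsPrime) (n : ℕ)
    (hn : ringKrullDim A = n) (P : Ideal A) [P.IsPrime] :
    FlatMor.localDim (PrimeSpectrum A) ⟨P, inferInstance⟩ = n := by
  rw [Groth.Agent.H9.LocalDimField.localDim_eq_iSup k A]
  apply le_antisymm
  · apply iSup_le
    rintro ⟨q0, hq0, -⟩
    have hle : q0.asIdeal ≤ nilradical A := hq0.2 ⟨hirr, bot_le⟩ (nilradical_le_prime _)
    have heq : q0.asIdeal = nilradical A := le_antisymm hle (nilradical_le_prime _)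
    show ringKrullDim (A ⧸ q0.asIdeal) ≤ n
    rw [heq, dim_quot_nil, hn]
  · have hmin : nilradical A ∈ minimalPrimes A :=
      ⟨⟨hirr, bot_le⟩, fun q hq _ => by haveI := hq.1; exact nilradical_le_prime q⟩
    have h1 : ringKrullDim (A ⧸ nilradical A) = n := by rw [dim_quot_nil, hn]
    rw [← h1]
    exact le_iSup (fun q0 : {q0 : PrimeSpectrum A // q0.asIdeal ∈ minimalPrimes A ∧
      q0 ≤ ⟨P, inferInstance⟩} => ringKrullDim (A ⧸ q0.1.asIdeal))
      ⟨⟨nilradical A, hirr⟩, hmin, nilradical_le_prime P⟩


/-- Let k be an algebraically closed field and A a k-algebra of finite type with irreducible spectrum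
(the nilradical of A is prime) and Krull dimension n; X = Spec A is then an irreducible separated
k-scheme of finite type of dimension n. Then X is a nonsingular variety — A is reduced and every
localization of A at a prime is a regular local ring — if and only if the module of Kähler
differentials Ω_{A/k} is locally free of rank n: projective, with fibre κ(P) ⊗_A Ω_{A/k} of
dimension n at every prime P. -/
theorem result (k : Type u) [Field k]
    [IsAlgClosed k] (A : Type u) [CommRing A] [Algebra k A] [Algebra.FiniteType k A]
    (hirr : (nilradical A).IsPrime) (n : ℕ) (hn : ringKrullDim A = n) :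
    (IsReduced A ∧ IsRegularRing A) ↔
      (Module.Projective A (Ω[A⁄k]) ∧
        ∀ (P : Ideal A) [P.IsPrime],
          Module.finrank P.ResidueField (P.ResidueField ⊗[A] Ω[A⁄k]) = n) := by
  haveI : IsNoetherianRing A := Algebra.FiniteType.isNoetherianRing k A
  haveI : Algebra.FinitePresentation k A := Algebra.FinitePresentation.of_finiteType.mp inferInstance
  constructor
  · rintro ⟨-, hreg⟩
    -- smooth at every prime
    have hsm : ∀ P : PrimeSpectrum A, P ∈ Algebra.smoothLocus k A := by
      intro P
      by_contra hP
      obtain ⟨m, hm, hPm⟩ := Ideal.exists_le_maximal P.asIdeal P.2.ne_top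
      haveI := hm
      have hclosed : IsClosed (Algebra.smoothLocus k A)ᶜ := Algebra.isOpen_smoothLocus.isClosed_compl
      have hspec : P ⤳ (⟨m, hm.isPrime⟩ : PrimeSpectrum A) :=
        (PrimeSpectrum.le_iff_specializes _ _).mp hPm
      have hmem : (⟨m, hm.isPrime⟩ : PrimeSpectrum A) ∈ (Algebra.smoothLocus k A)ᶜ :=
        hspec.mem_closed hclosed hP
      exact hmem ((Groth.Agent.S2116.result (k := k) m).mp inferInstance)
    haveI : Algebra.FormallySmooth k A :=
      Algebra.smoothLocus_eq_univ_iff.mp (Set.eq_univ_iff_forall.mpr hsm)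
    refine ⟨inferInstance, fun P _ => ?_⟩
    haveI : Algebra.IsSmoothAt k P := hsm ⟨P, inferInstance⟩
    have h1 := Groth.Agent.H14.JacCrit.finrank_eq_localDim_of_isSmoothAt k A P
    rw [localDim_eq_of_nilradical_isPrime k A hirr n hn P] at h1
    rw [(Groth.Agent.H14.JacCrit.fibreEquiv k A P).finrank_eq]
    exact_mod_cast h1
  · rintro ⟨-, hrank⟩
    have hsm : ∀ (P : Ideal A) [P.IsPrime], Algebra.IsSmoothAt k P := by
      intro P _
      rw [Groth.Agent.S2063.result P, hrank P, localDim_eq_of_nilradical_isPrime k A hirr n hn P]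
      exact le_rfl
    have hreg : ∀ (P : Ideal A) [P.IsPrime], IsRegularLocalRing (Localization.AtPrime P) := by
      intro P _
      haveI : Algebra.FormallySmooth k (Localization.AtPrime P) := hsm P
      exact Groth.Agent.H14.LocalKaehler.isRegularLocalRing_of_formallySmooth k _
    refine ⟨?_, isRegularRing_iff.mpr hreg⟩
    apply isReduced_ofLocalizationMaximal A
    intro m hm
    haveI := hm
    haveI := hreg m
    haveI : IsDomain (Localization.AtPrime m) := Groth.Agent.S0558.result _
    infer_instance

end Groth.Agent.S10909
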