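import Groth.Statements.S10911
import Mathlib
import Groth.Agent.H97.OrdOpen

set_option autoImplicit false
set_option linter.style.haveILetI false
set_option linter.unusedSectionVars false
set_option linter.unusedVariables false
universe u
open CategoryTheory CategoryTheory.Limits AlgebraicGeometry TopologicalSpace
open WDiv

namespace Groth.Agent.S10911

section Helpers

open Groth.Agent.H97.OrdOpen

theorem main11 (X : Scheme.{u}) [IsIntegral X] [IsNoetherian X]
    (z : ↥X) (hz : Order.coheight z = 1) (U : X.Opens) (hU : (U : Set ↥X) = (closure {z})ᶜ)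
    [Nonempty U] (D : ↥X → ℤ)
    (g : ↑(U : Scheme.{u}).functionField) (hg : g ≠ 0)
    (h : ∀ u : ↥(U : Scheme.{u}), Order.coheight u = 1 → Scheme.ord g u = D u.1) :
    ∃ (m : ℤ) (f : ↑X.functionField), f ≠ 0 ∧ Scheme.ord f z = D z - m ∧
      ∀ x : ↥X, x ≠ z → Order.coheight x = 1 → Scheme.ord f x = D x := by
  refine ⟨D z - Scheme.ord ((ffEquiv U.ι).symm g) z, (ffEquiv U.ι).symm g,
    (EmbeddingLike.map_ne_zero_iff (f := (ffEquiv U.ι).symm)).mpr hg, by ring, ?_⟩
  intro x hxz hx
  have hxU : x ∈ U := by
    have hmem' : x ∈ (U : Set ↥X) := by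
      rw [hU, Set.mem_compl_iff]
      intro hmem
      have hspec : z ⤳ x := specializes_iff_mem_closure.mpr hmem
      have hlt : x < z := by
        refine lt_of_le_not_ge (Scheme.le_iff_specializes.mpr hspec) ?_
        intro hle
        have h2 : x ⤳ z := Scheme.le_iff_specializes.mp hle
        exact hxz ((h2.antisymm hspec).eq)
      have h3 := Order.coheight_add_one_le hlt
      rw [hz, hx] at h3
      exact absurd h3 (by norm_num)
    exact hmem'
  have hu :=
    (@coheight_eq_of_isOpenImmersion (U : Scheme.{u}) X ⟨x, hxU⟩ U.ι _).symm.trans hx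
  have h1 := ord_ffEquiv U.ι ((ffEquiv U.ι).symm g) ⟨x, hxU⟩
  rw [RingEquiv.apply_symm_apply] at h1
  exact h1.symm.trans (h ⟨x, hxU⟩ hu)

end Helpers


/-- Let X be an integral Noetherian separated scheme which is regular in codimension 1 (local rings at
points of coheight 1 are discrete valuation rings), z a point of coheight 1 (generic point of a
prime divisor Z), and U the open subscheme complementary to the closure of z. Let D be a Weil
divisor on X, an integer-valued function on its points with finite support inside the points of
coheight 1. If the restriction of D to U is the divisor of a nonzero rational function on U, then D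
differs from an integer multiple of Z by a principal divisor on X: there are an integer m and a
nonzero rational function f on X with ord_z(f) = D(z) − m and ord_x(f) = D(x) for every other point
x of coheight 1. In other words, the sequence ℤ → Cl X → Cl(X − Z), whose first map sends m to the
class of m·Z and whose second map is restriction, is exact at Cl X. -/
theorem result (X : Scheme.{u}) [IsIntegral X]
    [IsNoetherian X] [X.IsSeparated]
    (hR1 : ∀ x : ↥X, Order.coheight x = 1 → IsDiscreteValuationRing ↑(X.presheaf.stalk x))
    (z : ↥X) (hz : Order.coheight z = 1) (U : X.Opens) (hU : (U : Set ↥X) = (closure {z})ᶜ)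
    [Nonempty U]
    (D : ↥X → ℤ) (hD : ∀ x, Order.coheight x ≠ 1 → D x = 0) (hfin : {x | D x ≠ 0}.Finite)
    (g : ↑(U : Scheme.{u}).functionField) (hg : g ≠ 0)
    (h : ∀ u : ↥(U : Scheme.{u}), Order.coheight u = 1 → Scheme.ord g u = D u.1) :
    ∃ (m : ℤ) (f : ↑X.functionField), f ≠ 0 ∧ Scheme.ord f z = D z - m ∧
      ∀ x : ↥X, x ≠ z → Order.coheight x = 1 → Scheme.ord f x = D x := by
  exact main11 X z hz U hU D g hg h

end Groth.Agent.S10911
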