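import Groth.Statements.S10912
import Mathlib
import Groth.Agent.H97.OrdOpen

set_option autoImplicit false
set_option linter.style.haveILetI false
set_option linter.unusedSectionVars false
set_option linter.unusedVariables false
universe u
open CategoryTheory CategoryTheory.Limits AlgebraicGeometry TopologicalSpace
open WDiv

namespace Groth.Agent.S10912

section Helpers

open Groth.Agent.H97.OrdOpen

theorem main12 (X : Scheme.{u}) [IsIntegral X] [IsNoetherian X]
    (U : X.Opens) [Nonempty U] (hcod : ∀ x : ↥X, x ∉ U → 2 ≤ Order.coheight x)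
    (D : ↥X → ℤ) :
    (∃ f : ↑X.functionField, f ≠ 0 ∧ ∀ x : ↥X, Order.coheight x = 1 → Scheme.ord f x = D x) ↔
      ∃ g : ↑(U : Scheme.{u}).functionField, g ≠ 0 ∧
        ∀ u : ↥(U : Scheme.{u}), Order.coheight u = 1 → Scheme.ord g u = D u.1 := by
  constructor
  · rintro ⟨f, hf, h⟩
    refine ⟨ffEquiv U.ι f, (EmbeddingLike.map_ne_zero_iff (f := ffEquiv U.ι)).mpr hf, ?_⟩
    intro u hu
    rw [ord_ffEquiv U.ι f u]
    exact h (U.ι u) ((coheight_eq_of_isOpenImmersion U.ι).trans hu)
  · rintro ⟨g, hg, h⟩
    refine ⟨(ffEquiv U.ι).symm g,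
      (EmbeddingLike.map_ne_zero_iff (f := (ffEquiv U.ι).symm)).mpr hg, ?_⟩
    intro x hx
    have hxU : x ∈ U := by
      by_contra hxU
      have := hcod x hxU
      rw [hx] at this
      exact absurd this (by norm_num)
    have hu :=
      (@coheight_eq_of_isOpenImmersion (U : Scheme.{u}) X ⟨x, hxU⟩ U.ι _).symm.trans hx
    have h1 := ord_ffEquiv U.ι ((ffEquiv U.ι).symm g) ⟨x, hxU⟩
    rw [RingEquiv.apply_symm_apply] at h1
    exact h1.symm.trans (h ⟨x, hxU⟩ hu)

end Helpers


/-- Let X be an integral Noetherian separated scheme which is regular in codimension 1, and U a nonempty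
open subscheme whose complement has codimension at least 2: every point not in U has coheight ≥ 2 in
the specialization order. Then restriction identifies the divisor class groups of X and U;
concretely, since all points of coheight 1 lie in U, a Weil divisor D on X (integer-valued function
with finite support inside the coheight-1 points) is the divisor of a nonzero rational function on X
if and only if its restriction to U is the divisor of a nonzero rational function on U. -/
theorem result (X : Scheme.{u}) [IsIntegral X]
    [IsNoetherian X] [X.IsSeparated]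
    (hR1 : ∀ x : ↥X, Order.coheight x = 1 → IsDiscreteValuationRing ↑(X.presheaf.stalk x))
    (U : X.Opens) [Nonempty U] (hcod : ∀ x : ↥X, x ∉ U → 2 ≤ Order.coheight x)
    (D : ↥X → ℤ) (hD : ∀ x, Order.coheight x ≠ 1 → D x = 0) (hfin : {x | D x ≠ 0}.Finite) :
    (∃ f : ↑X.functionField, f ≠ 0 ∧ ∀ x : ↥X, Order.coheight x = 1 → Scheme.ord f x = D x) ↔
      ∃ g : ↑(U : Scheme.{u}).functionField, g ≠ 0 ∧
        ∀ u : ↥(U : Scheme.{u}), Order.coheight u = 1 → Scheme.ord g u = D u.1 := by
  exact main12 X U hcod D

end Groth.Agent.S10912
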