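import Groth.Statements.S10914
import Groth.Agent.H54.IrredFibres

set_option autoImplicit false
universe u
open CategoryTheory CategoryTheory.Limits AlgebraicGeometry TopologicalSpace
open ProjDeg

namespace Groth.Agent.S10914


open Groth.Agent


/-- Let k be a field, X and Y reduced schemes proper over k and f : X → Y a k-morphism with (i) f
surjective, (ii) every fibre X_y over a closed point y irreducible, (iii) all these fibres of the
same dimension m, and (iv) Y irreducible. Then X is irreducible and dim X = dim Y + m. (The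
published statement takes X, Y projective over k and f projective; its proof uses only that f is a
closed map and upper semicontinuity of fibre dimension, i.e. properness.) -/
theorem result (k : Type u) [Field k] {X Y : Scheme.{u}}
    (pX : X ⟶ Spec (CommRingCat.of k)) (pY : Y ⟶ Spec (CommRingCat.of k)) [IsProper pX] [IsProper pY]
    [IsReduced X] [IsReduced Y] (f : X ⟶ Y) (hf : f ≫ pY = pX) (hsurj : Function.Surjective f)
    [IrreducibleSpace ↥Y] (m : ℕ)
    (hirr : ∀ y : ↥Y, IsClosed ({y} : Set ↥Y) → IrreducibleSpace ↥(f.fiber y))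
    (hdim : ∀ y : ↥Y, IsClosed ({y} : Set ↥Y) → topologicalKrullDim ↥(f.fiber y) = m) :
    IrreducibleSpace ↥X ∧ topologicalKrullDim ↥X = topologicalKrullDim ↥Y + m := by
  classical
  haveI : IsProper (f ≫ pY) := by rw [hf]; infer_instance
  haveI : IsProper f := IsProper.of_comp f pY
  have hcl : IsClosedMap f.base := f.isClosedMap
  have hirr' : ∀ y : ↥Y, IsClosed ({y} : Set ↥Y) → IsIrreducible (f.base ⁻¹' {y}) := by
    intro y hy
    haveI := hirr y hy
    have h1 : IsIrreducible (Set.univ : Set ↥(f.fiber y)) := IrreducibleSpace.isIrreducible_univ _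
    have h2 := h1.image (f.fiberι y).base (f.fiberι y).continuous.continuousOn
    rwa [Set.image_univ, f.range_fiberι y] at h2
  have hdim' : ∀ y : ↥Y, IsClosed ({y} : Set ↥Y) →
      topologicalKrullDim ↥(f.base ⁻¹' {y}) = m := by
    intro y hy
    rw [← hdim y hy]
    exact ((f.fiberHomeo y).isHomeomorph.topologicalKrullDim_eq _).symm
  have hη : ∀ y : ↥Y, genericPoint ↥Y ⤳ y := fun y => (genericPoint_spec ↥Y).specializes trivial
  obtain ⟨ξ₀, hξ₀, hfξ₀⟩ := H54.exists_dominant_generic pX pY f hirr' (genericPoint ↥Y) hη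
  have hdenseη : Dense ({genericPoint ↥Y} : Set ↥Y) := by
    rw [dense_iff_closure_eq]
    exact Set.eq_univ_of_forall fun y => specializes_iff_mem_closure.mp (hη y)
  haveI : JacobsonSpace ↥X := LocallyOfFiniteType.jacobsonSpace pX
  have himg : f.base '' closure ({ξ₀} : Set ↥X) = Set.univ := by
    have hclosed : IsClosed (f.base '' closure ({ξ₀} : Set ↥X)) := hcl _ isClosed_closure
    have hdense : Dense (f.base '' closure ({ξ₀} : Set ↥X)) :=
      hdenseη.mono (Set.singleton_subset_iff.mpr ⟨ξ₀, subset_closure rfl, hfξ₀⟩)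
    rw [← hclosed.closure_eq]; exact hdense.closure_eq
  have hall : ∀ x : ↥X, ξ₀ ⤳ x := by
    have hsub : closedPoints ↥X ⊆ closure ({ξ₀} : Set ↥X) := by
      intro x hx
      have hxcl : IsClosed ({x} : Set ↥X) := hx
      have hy := H54.isClosed_image_of_isClosed pX pY f hf x hxcl
      obtain ⟨x', hx'Z, hfx'⟩ : f.base x ∈ f.base '' closure ({ξ₀} : Set ↥X) := by
        rw [himg]; trivial
      exact H54.fibre_subset_of_meets pX pY f hf m hirr' hdim' ξ₀ hξ₀ (f.base x) hy x' hfx'
        (specializes_iff_mem_closure.mpr hx'Z) rfl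
    intro x
    have h1 : closure (closedPoints ↥X) ⊆ closure ({ξ₀} : Set ↥X) :=
      closure_minimal hsub isClosed_closure
    rw [closure_closedPoints] at h1
    exact specializes_iff_mem_closure.mpr (h1 (Set.mem_univ x))
  refine ⟨?_, ?_⟩
  · have huniv : closure ({ξ₀} : Set ↥X) = Set.univ :=
      Set.eq_univ_of_forall fun x => specializes_iff_mem_closure.mp (hall x)
    have hI : IsIrreducible (Set.univ : Set ↥X) := huniv ▸ isIrreducible_singleton.closure
    exact { isPreirreducible_univ := hI.2, toNonempty := ⟨ξ₀⟩ }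
  · rw [H54.topologicalKrullDim_eq_tdeg_of_generic pX ξ₀ hall,
      H54.topologicalKrullDim_eq_tdeg_of_generic pY (genericPoint ↥Y) hη,
      H54.tdeg_generic_eq pX pY f hf m hirr' hdim' ξ₀ hξ₀, hfξ₀, Nat.cast_add]

end Groth.Agent.S10914
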