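import Groth.Statements.S10917
import Groth.Agent.H95.ProjSpaceChart

set_option autoImplicit false
universe u
open CategoryTheory CategoryTheory.Limits AlgebraicGeometry TopologicalSpace
open WDiv

namespace Groth.Agent.S10917

open CategoryTheory CategoryTheory.Limits AlgebraicGeometry TopologicalSpace Opposite
open Groth.Agent.H95.FFMap Groth.Agent.H95.AffSpaceOrd Groth.Agent.H97.OrdOpen
open Groth.Agent.H95.ProjSpaceChart
open Order

/-- Let A be a Noetherian integral domain regular in codimension 1, P = P^n_A with structure morphism q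
: P → Spec A, and H the point of P whose homogeneous prime ideal is generated by X_0 (so n ≥ 1). If
for an integer d and a Weil divisor D on Spec A (integer-valued function with finite support inside
the coheight-1 points) the divisor d·H + q^*D is principal on P — there is a nonzero rational
function g on P with ord_H(g) = d + D(q H) and ord_y(g) = D(q y) for every point y ≠ H of coheight 1
— then d = 0 and D is itself the divisor of a nonzero element of the fraction field of A: ord_x(f) =
D(x) at every coheight-1 point x of Spec A. -/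
theorem result (A : Type u) [CommRing A] [IsDomain A]
    [IsNoetherianRing A] (n : ℕ) (hn : 1 ≤ n) [IsIntegral (CohB1.ProjSpace n A)] [IsLocallyNoetherian (CohB1.ProjSpace n A)]
    [IsIntegral (Spec (CommRingCat.of A))]
    (hR1 : ∀ x : ↥(Spec (CommRingCat.of A)), Order.coheight x = 1 →
      IsDiscreteValuationRing ↑((Spec (CommRingCat.of A)).presheaf.stalk x))
    (H : ↥(CohB1.ProjSpace n A))
    (hH : H.asHomogeneousIdeal.toIdeal = Ideal.span {(MvPolynomial.X 0 : MvPolynomial (Fin (n + 1)) A)})
    (d : ℤ) (D : ↥(Spec (CommRingCat.of A)) → ℤ) (hD : ∀ x, Order.coheight x ≠ 1 → D x = 0) (hfin : {x | D x ≠ 0}.Finite)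
    (g : ↑(CohB1.ProjSpace n A).functionField) (hg : g ≠ 0)
    (hH' : Scheme.ord g H = d + D (CohB1.ProjSpace.toSpec n A H))
    (h : ∀ y, y ≠ H → Order.coheight y = 1 → Scheme.ord g y = D (CohB1.ProjSpace.toSpec n A y)) :
    d = 0 ∧ ∃ f : ↑(Spec (CommRingCat.of A)).functionField, f ≠ 0 ∧
      ∀ x : ↥(Spec (CommRingCat.of A)), Order.coheight x = 1 → Scheme.ord f x = D x := by
  classical
  haveI : IsDomain (CommRingCat.of A) := ‹IsDomain A›
  haveI : IsNoetherianRing (CommRingCat.of A) := ‹IsNoetherianRing A›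
  have hcη : coheight (genericPoint (Spec (CommRingCat.of A))) ≠ 1 := by
    have h0 : coheight (genericPoint (Spec (CommRingCat.of A))) = 0 :=
      Order.coheight_top (Spec (CommRingCat.of A))
    rw [h0]
    exact zero_ne_one
  have hDη : D (genericPoint (Spec (CommRingCat.of A))) = 0 := hD _ hcη
  have hX0H := X0_mem_of_hH H hH
  have hqH : (CohB1.ProjSpace.toSpec n A) H = genericPoint (Spec (CommRingCat.of A)) :=
    toSpec_eq_generic hn H hH
  have hcinj : Function.Injective (ffMap (c0 n A) (spec_generic (c0 n A))).hom :=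
    (ffMap (c0 n A) (spec_generic (c0 n A))).hom.injective
  have hg' : ffMap (c0 n A) (spec_generic (c0 n A)) g ≠ 0 :=
    fun h0 => hg (hcinj (h0.trans (map_zero _).symm))
  have hcne : ∀ v, (c0 n A) v ≠ H := fun v hv => c0_notMem n A v (hv ▸ hX0H)
  have hordc : ∀ v : Spec (SS (CommRingCat.of A) (I0 n)), coheight v = 1 →
      Scheme.ord (ffMap (c0 n A) (spec_generic (c0 n A)) g) v =
        D ((qq (CommRingCat.of A) (I0 n)) v) := by
    intro v hv
    have h1 : Scheme.ord (ffMap (c0 n A) (spec_generic (c0 n A)) g) v =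
        Scheme.ord g ((c0 n A) v) := ord_ffEquiv (c0 n A) g v
    have h2 : coheight ((c0 n A) v) = 1 := (coheight_eq_of_isOpenImmersion (c0 n A)).trans hv
    rw [h1, h _ (hcne v) h2, c0_apply]
  obtain ⟨f, hf⟩ := exists_preimage (CommRingCat.of A) (I0 n)
    (ffMap (c0 n A) (spec_generic (c0 n A)) g) hg'
    (fun v hv hqv => by rw [hordc v hv, hqv, hDη])
  have hf0 : f ≠ 0 := by
    rintro rfl
    rw [map_zero] at hf
    exact hg' hf.symm
  have hq : (CohB1.ProjSpace.toSpec n A) (genericPoint (CohB1.ProjSpace n A)) ⤳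
      genericPoint (Spec (CommRingCat.of A)) := by
    rw [← genericPoint_eq_of_isOpenImmersion (c0 n A), c0_apply, qq_generic]
  have hgf : ffMap (CohB1.ProjSpace.toSpec n A) hq f = g := by
    apply hcinj
    show ffMap (c0 n A) (spec_generic (c0 n A)) (ffMap (CohB1.ProjSpace.toSpec n A) hq f) =
      ffMap (c0 n A) (spec_generic (c0 n A)) g
    rw [← ffMap_comp, ← hf]
    exact congrArg (fun φ : (Spec (CommRingCat.of A)).functionField ⟶
      (Spec (SS (CommRingCat.of A) (I0 n))).functionField => φ.hom f)
      (ffMap_congr (c0_toSpec n A) _ _)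
  refine ⟨?_, f, hf0, ?_⟩
  · have h0 : Scheme.ord g H = 0 := by
      rw [← hgf]
      exact ord_ffMap_of_generic _ hq H hqH f hf0
    rw [h0, hqH, hDη] at hH'
    omega
  · intro x hx
    haveI hPprime : (PrimeSpectrum.asIdeal x).IsPrime := PrimeSpectrum.isPrime x
    haveI hQprime := map_C_isPrime (CommRingCat.of A) (I0 n) (PrimeSpectrum.asIdeal x)
    obtain ⟨v, hvdef⟩ : ∃ v : Spec (SS (CommRingCat.of A) (I0 n)), PrimeSpectrum.asIdeal v =
        (PrimeSpectrum.asIdeal x).map
          (MvPolynomial.C : (CommRingCat.of A) →+* MvPolynomial (I0 n) (CommRingCat.of A)) :=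
      ⟨(⟨_, hQprime⟩ : PrimeSpectrum (MvPolynomial (I0 n) (CommRingCat.of A))), rfl⟩
    have hqv : (qq (CommRingCat.of A) (I0 n)) v = x := by
      apply PrimeSpectrum.ext
      rw [qq_asIdeal, hvdef, comap_map_C]
    obtain ⟨hv1, hord⟩ := ord_vertical (CommRingCat.of A) (I0 n) v (by rw [hqv]; exact hvdef)
      (by rw [hqv]; exact hx) (by rw [hqv]; exact hR1 x hx)
    have e2 := hord f hf0
    rw [hqv] at e2
    rw [← e2, hf, hordc v hv1, hqv]

end Groth.Agent.S10917
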