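import Groth.Statements.S10916
import Groth.Agent.H95.ProjSpaceChart
import Groth.Agent.S10901
import Groth.Agent.S10917

set_option autoImplicit false
universe u
open CategoryTheory CategoryTheory.Limits AlgebraicGeometry TopologicalSpace
open WDiv

namespace Groth.Agent.S10916

open CategoryTheory CategoryTheory.Limits AlgebraicGeometry TopologicalSpace Opposite
open Groth.Agent.H95.FFMap Groth.Agent.H95.AffSpaceOrd Groth.Agent.H97.OrdOpen
open Groth.Agent.H95.ProjSpaceChart
open Order

/-- Let A be a Noetherian integral domain regular in codimension 1 (the local ring of Spec A at every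
point of coheight 1 is a discrete valuation ring), P = P^n_A with structure morphism q : P → Spec A,
and H the point of P whose homogeneous prime ideal is generated by X_0 (so n ≥ 1; H is the generic
point of the hyperplane X_0 = 0). Weil divisors are integer-valued functions on points with finite
support inside the points of coheight 1. Then Cl(P^n_A) ≅ ℤ ⊕ Cl(A) in the following sense: for
every Weil divisor D' on P there is exactly one integer d for which D' is linearly equivalent to d·H
plus the pullback of a Weil divisor D on Spec A, i.e. for some such D and some nonzero rational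
function g on P one has D'(H) = d + D(q H) + ord_H(g) and D'(y) = D(q y) + ord_y(g) at every point y
≠ H of coheight 1. -/
theorem result (A : Type u) [CommRing A] [IsDomain A]
    [IsNoetherianRing A] (n : ℕ) (hn : 1 ≤ n) [IsIntegral (CohB1.ProjSpace n A)] [IsLocallyNoetherian (CohB1.ProjSpace n A)]
    [IsIntegral (Spec (CommRingCat.of A))]
    (hR1 : ∀ x : ↥(Spec (CommRingCat.of A)), Order.coheight x = 1 →
      IsDiscreteValuationRing ↑((Spec (CommRingCat.of A)).presheaf.stalk x))
    (H : ↥(CohB1.ProjSpace n A))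
    (hH : H.asHomogeneousIdeal.toIdeal = Ideal.span {(MvPolynomial.X 0 : MvPolynomial (Fin (n + 1)) A)})
    (D' : ↥(CohB1.ProjSpace n A) → ℤ) (hD' : ∀ y, Order.coheight y ≠ 1 → D' y = 0)
    (hfin : {y | D' y ≠ 0}.Finite) :
    ∃! d : ℤ, ∃ (D : ↥(Spec (CommRingCat.of A)) → ℤ) (g : ↑(CohB1.ProjSpace n A).functionField),
      (∀ x, Order.coheight x ≠ 1 → D x = 0) ∧ {x | D x ≠ 0}.Finite ∧ g ≠ 0 ∧
      D' H = d + D (CohB1.ProjSpace.toSpec n A H) + Scheme.ord g H ∧
      ∀ y, y ≠ H → Order.coheight y = 1 →
        D' y = D (CohB1.ProjSpace.toSpec n A y) + Scheme.ord g y := by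
  classical
  haveI : IsDomain (CommRingCat.of A) := ‹IsDomain A›
  haveI : IsNoetherianRing (CommRingCat.of A) := ‹IsNoetherianRing A›
  haveI : IsLocallyNoetherian 𝔸(I0 n; Spec (CommRingCat.of A)) :=
    isLocallyNoetherian_of_isOpenImmersion (c0' n A)
  have hinj : Function.Injective (c0' n A) := (c0' n A).isOpenEmbedding.injective
  obtain ⟨D, g₀, hD, hDfin, hg₀, hy⟩ := Groth.Agent.S10901.main (I0 n) (Spec (CommRingCat.of A))
    (fun w => D' ((c0' n A) w)) (hfin.preimage hinj.injOn)
  obtain ⟨g, hgdef⟩ : ∃ g : (CohB1.ProjSpace n A).functionField,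
      ffMap (c0' n A) (spec_generic (c0' n A)) g = g₀ :=
    ⟨(ffEquiv (c0' n A)).symm g₀, (ffEquiv (c0' n A)).apply_symm_apply g₀⟩
  have hg0 : g ≠ 0 := by
    rintro rfl
    rw [map_zero] at hgdef
    exact hg₀ hgdef.symm
  have hmain : ∀ y, y ≠ H → coheight y = 1 →
      D' y = D (CohB1.ProjSpace.toSpec n A y) + Scheme.ord g y := by
    intro y hne hy1
    obtain ⟨w, rfl⟩ := exists_c0'_of_coheight H y hH hne hy1
    have hw1 : coheight w = 1 := (coheight_eq_of_isOpenImmersion (c0' n A)).symm.trans hy1
    have e3 : Scheme.ord (ffMap (c0' n A) (spec_generic (c0' n A)) g) w =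
        Scheme.ord g ((c0' n A) w) := ord_ffEquiv (c0' n A) g w
    rw [c0'_apply, ← e3, hgdef]
    exact hy w hw1
  refine ⟨D' H - D (CohB1.ProjSpace.toSpec n A H) - Scheme.ord g H,
    ⟨D, g, hD, hDfin, hg0, by ring, hmain⟩, ?_⟩
  rintro d₂ ⟨D₂, g₂, hD₂, hD₂fin, hg₂0, hH₂, hy₂⟩
  have key := Groth.Agent.S10917.result A n hn hR1 H hH
    (d₂ - (D' H - D (CohB1.ProjSpace.toSpec n A H) - Scheme.ord g H)) (fun x => D₂ x - D x)
    (fun x hx => by
      show D₂ x - D x = 0
      rw [hD₂ x hx, hD x hx, sub_zero])
    ((hD₂fin.union hDfin).subset (fun x hx => by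
      by_contra hcon
      rw [Set.mem_union, not_or] at hcon
      have h1 : D₂ x = 0 := by
        by_contra h0
        exact hcon.1 h0
      have h2 : D x = 0 := by
        by_contra h0
        exact hcon.2 h0
      apply hx
      show D₂ x - D x = 0
      rw [h1, h2, sub_zero]))
    (g / g₂) (div_ne_zero hg0 hg₂0)
    (by
      rw [ord_div' H hg0 hg₂0]
      show _ = _ + (D₂ _ - D _)
      linarith)
    (fun y hne hy1 => by
      rw [ord_div' y hg0 hg₂0]
      show _ = D₂ _ - D _
      have h1 := hmain y hne hy1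
      have h2 := hy₂ y hne hy1
      linarith)
  exact sub_eq_zero.mp key.1

end Groth.Agent.S10916
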