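import Groth.Statements.S10927
import Groth.Agent.H63.ActionTranslate
import Groth.Agent.H63.GenericSmooth2

set_option autoImplicit false
universe u
open CategoryTheory CategoryTheory.Limits MonoidalCategory CartesianMonoidalCategory MonObj GrpObj AlgebraicGeometry
open Variety

namespace Groth.Agent.S10927

/-- Let k be an algebraically closed field of characteristic zero, G a group variety over k (an
integral, separated k-group scheme of finite type) and X a homogeneous space for G: a k-variety
(integral, separated, of finite type over k) with an action of G such that G(k) acts transitively on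
X(k). Then for every k-point x of X the orbit map G → X, g ↦ g · x, is smooth. -/
theorem result (k : Type u) [Field k] [IsAlgClosed k] [CharZero k]
    (G X : Over (Spec (CommRingCat.of k))) [GrpObj G] (a : AlgGrp.Action G X)
    [IsIntegral G.left] [IsSeparated G.hom] [LocallyOfFiniteType G.hom] [QuasiCompact G.hom]
    [IsIntegral X.left] [IsSeparated X.hom] [LocallyOfFiniteType X.hom] [QuasiCompact X.hom]
    (htrans : ∀ x x' : 𝟙_ (Over (Spec (CommRingCat.of k))) ⟶ X,
      ∃ σ : 𝟙_ (Over (Spec (CommRingCat.of k))) ⟶ G, CartesianMonoidalCategory.lift σ x ≫ a.act = x')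
    (x : 𝟙_ (Over (Spec (CommRingCat.of k))) ⟶ X) :
    Smooth (a.orbitMap x).left := by
  have hw : (a.orbitMap x).left ≫ X.hom = G.hom := Over.w (a.orbitMap x)
  haveI : LocallyOfFiniteType ((a.orbitMap x).left ≫ X.hom) := by rw [hw]; infer_instance
  haveI : LocallyOfFiniteType (a.orbitMap x).left := locallyOfFiniteType_of_comp _ X.hom
  haveI : IsLocallyNoetherian X.left := LocallyOfFiniteType.isLocallyNoetherian X.hom
  haveI : LocallyOfFinitePresentation (a.orbitMap x).left := inferInstance
  haveI : CharZero X.left.functionField :=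
    Groth.Agent.H63.GenericSmooth2.charZero_functionField k X.hom
  haveI : PerfectField X.left.functionField := PerfectField.ofCharZero
  haveI : JacobsonSpace G.left := LocallyOfFiniteType.jacobsonSpace G.hom
  haveI : JacobsonSpace X.left := LocallyOfFiniteType.jacobsonSpace X.hom
  haveI : IsDominant (a.orbitMap x).left := by
    refine ⟨?_⟩
    have hsub : closedPoints X.left ⊆ Set.range (a.orbitMap x).left := by
      intro p hp
      obtain ⟨x₁, rfl⟩ := Groth.Agent.H63.ActionTranslate.exists_section_of_isClosed X p hp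
      obtain ⟨σ, hσ⟩ := htrans x x₁
      refine ⟨σ.left (IsLocalRing.closedPoint k), ?_⟩
      have h1 := Groth.Agent.H63.ActionTranslate.point_comp_orbitMap a x σ
      rw [hσ] at h1
      have h2 := congrArg (fun m => m.left (IsLocalRing.closedPoint k)) h1
      exact h2
    exact Dense.mono hsub (dense_iff_closure_eq.mpr closure_closedPoints)
  have hgen := Groth.Agent.H63.GenericSmooth2.genericPoint_mem_smoothLocus_of_perfectField
    G.left X.left (a.orbitMap x).left
  obtain ⟨g₀, hg₀, hg₀c⟩ := nonempty_inter_closedPoints ⟨_, hgen⟩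
    (a.orbitMap x).left.smoothLocus.2.isLocallyClosed
  rw [← Scheme.Hom.smoothLocus_eq_top_iff, ← TopologicalSpace.Opens.coe_eq_univ, ← not_ne_iff,
    ← Set.nonempty_compl]
  intro H
  obtain ⟨g, hg, hgc⟩ := nonempty_inter_closedPoints H
    (a.orbitMap x).left.smoothLocus.2.isClosed_compl.isLocallyClosed
  apply hg
  obtain ⟨σ, rfl⟩ := Groth.Agent.H63.ActionTranslate.exists_section_of_isClosed G g hgc
  obtain ⟨σ₀, rfl⟩ := Groth.Agent.H63.ActionTranslate.exists_section_of_isClosed G g₀ hg₀c
  have h3 : σ₀ ≫ Groth.Agent.H63.ActionTranslate.L (σ * σ₀⁻¹) = σ := by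
    rw [Groth.Agent.H63.ActionTranslate.point_comp_L, _root_.mul_assoc, _root_.inv_mul_cancel,
      _root_.mul_one]
  have h4 : (Groth.Agent.H63.ActionTranslate.L (σ * σ₀⁻¹)).left
      (σ₀.left (IsLocalRing.closedPoint k)) = σ.left (IsLocalRing.closedPoint k) := by
    have h5 := congrArg (fun m => m.left (IsLocalRing.closedPoint k)) h3
    exact h5
  haveI : IsIso (Groth.Agent.H63.ActionTranslate.L (σ * σ₀⁻¹)).left :=
    (inferInstance : IsIso ((Over.forget _).mapIso
      (Groth.Agent.H63.ActionTranslate.Liso (σ * σ₀⁻¹))).hom)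
  haveI : IsIso (Groth.Agent.H63.ActionTranslate.A a (σ * σ₀⁻¹)).left :=
    (inferInstance : IsIso ((Over.forget _).mapIso
      (Groth.Agent.H63.ActionTranslate.Aiso a (σ * σ₀⁻¹))).hom)
  have h6 : (Groth.Agent.H63.ActionTranslate.L (σ * σ₀⁻¹)).left ≫ (a.orbitMap x).left =
      (a.orbitMap x).left ≫ (Groth.Agent.H63.ActionTranslate.A a (σ * σ₀⁻¹)).left := by
    rw [← Over.comp_left, ← Over.comp_left,
      Groth.Agent.H63.ActionTranslate.L_comp_orbitMap]
  have h7 := Groth.Agent.H63.ActionTranslate.mem_smoothLocus_of_iso_comm (a.orbitMap x).left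
    _ _ h6 _ hg₀
  rw [h4] at h7
  exact h7

end Groth.Agent.S10927
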