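import Groth.Statements.S5789
import Mathlib

set_option autoImplicit false
universe u
open CategoryTheory
open EGA41

namespace Groth.Agent.S5789

open Abelian

variable {A : Type u} [CommRing A]

/-- `Ext` into a zero object vanishes. -/
theorem ext_eq_zero_of_isZero {X Y : ModuleCat.{u} A} (hY : Limits.IsZero Y) {m : ℕ}
    (z : Ext X Y m) : z = 0 := by
  rw [← Ext.comp_mk₀_id z, hY.eq_of_src (𝟙 Y) 0, Ext.mk₀_zero, Ext.comp_zero]

/-- Transport of `Ext`-vanishing along an isomorphism of the target. -/
theorem ext_eq_zero_of_iso {X Y Y' : ModuleCat.{u} A} (e : Y ≅ Y') {m : ℕ}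
    (h : ∀ z : Ext X Y m, z = 0) (z : Ext X Y' m) : z = 0 := by
  have h1 : (z.comp (Ext.mk₀ e.inv) (add_zero m)).comp (Ext.mk₀ e.hom) (add_zero m) = z := by
    rw [Ext.comp_assoc z (Ext.mk₀ e.inv) (Ext.mk₀ e.hom) (add_zero m) (zero_add 0)
      (by omega : m + 0 + 0 = m), Ext.mk₀_comp_mk₀, e.inv_hom_id, Ext.comp_mk₀_id]
  rw [← h1, h (z.comp (Ext.mk₀ e.inv) (add_zero m)), Ext.zero_comp]

/-- Vanishing of `Ext(X, -)` on cyclic modules implies vanishing on finitely generated modules. -/
theorem fg_vanish (X : ModuleCat.{u} A) (m : ℕ)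
    (h : ∀ I : Ideal A, ∀ z : Ext X (ModuleCat.of A (A ⧸ I)) m, z = 0) :
    ∀ (k : ℕ) (N : Type u) [AddCommGroup N] [Module A N] (s : Fin k → N),
      Submodule.span A (Set.range s) = ⊤ → ∀ z : Ext X (ModuleCat.of A N) m, z = 0 := by
  intro k
  induction k with
  | zero =>
    intro N _ _ s hs z
    have h0 : ∀ x : N, x = 0 := fun x => by
      have hx : x ∈ Submodule.span A (Set.range s) := hs ▸ Submodule.mem_top
      rwa [Set.range_eq_empty, Submodule.span_empty, Submodule.mem_bot] at hx
    haveI : Subsingleton N := ⟨fun a b => by rw [h0 a, h0 b]⟩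
    exact ext_eq_zero_of_isZero (ModuleCat.isZero_of_subsingleton _) z
  | succ k ih =>
    intro N _ _ s hs z
    let f : A →ₗ[A] N := LinearMap.toSpanSingleton A N (s 0)
    let N' : Submodule A N := LinearMap.range f
    have hs0 : s 0 ∈ N' := ⟨1, by simp [f]⟩
    let S : ShortComplex (ModuleCat.{u} A) :=
      ModuleCat.shortComplexOfCompEqZero N'.subtype N'.mkQ
        (LinearMap.exact_subtype_mkQ N').linearMap_comp_eq_zero
    have hS : S.ShortExact := ModuleCat.shortComplex_shortExact S
      (LinearMap.exact_subtype_mkQ N') (Submodule.injective_subtype N')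
      (Submodule.mkQ_surjective N')
    have hquot : ∀ z : Ext X S.X₃ m, z = 0 := by
      apply ih (N ⧸ N') (fun i => N'.mkQ (s i.succ))
      have htop : (⊤ : Submodule A (N ⧸ N')) =
          Submodule.map N'.mkQ (Submodule.span A (Set.range s)) := by
        rw [hs, Submodule.map_top, Submodule.range_mkQ]
      rw [eq_top_iff, htop, Submodule.map_span, Submodule.span_le]
      rintro _ ⟨_, ⟨i, rfl⟩, rfl⟩
      induction i using Fin.cases with
      | zero =>
        rw [show N'.mkQ (s 0) = 0 from (Submodule.Quotient.mk_eq_zero _).mpr hs0]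
        exact Submodule.zero_mem _
      | succ j => exact Submodule.subset_span ⟨j, rfl⟩
    have hcyc : ∀ z : Ext X S.X₁ m, z = 0 := by
      have e : (A ⧸ LinearMap.ker f) ≃ₗ[A] N' := f.quotKerEquivRange
      exact ext_eq_zero_of_iso e.toModuleIso (h (LinearMap.ker f))
    obtain ⟨x₁, rfl⟩ := Ext.covariant_sequence_exact₂ _ hS z (hquot _)
    rw [hcyc x₁, Ext.zero_comp]

theorem key [IsNoetherianRing A] (n : ℕ) :
    ∀ (M : Type u) [AddCommGroup M] [Module A M] [Module.Finite A M],
    (∀ I : Ideal A, ∀ z : Ext (ModuleCat.of A M) (ModuleCat.of A (A ⧸ I)) (n + 1), z = 0) →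
    HasProjectiveDimensionLT (ModuleCat.of A M) (n + 1) := by
  induction n with
  | zero =>
    intro M _ _ _ h
    obtain ⟨k, f, hf⟩ := Module.Finite.exists_fin' A M
    have hS : f.shortComplexKer.ShortExact := LinearMap.shortExact_shortComplexKer hf
    obtain ⟨k', s, hs⟩ := Module.Finite.exists_fin (R := A) (M := LinearMap.ker f)
    have hK : ∀ z : Ext (ModuleCat.of A M) (ModuleCat.of A (LinearMap.ker f)) 1, z = 0 :=
      fg_vanish (ModuleCat.of A M) 1 h k' (LinearMap.ker f) s hs
    obtain ⟨x₂, hx₂⟩ := Ext.contravariant_sequence_exact₁ hS (ModuleCat.of A (LinearMap.ker f))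
      (Ext.mk₀ (𝟙 _)) (n₁ := 1) (by norm_num) (hK _)
    obtain ⟨r, rfl⟩ := (Ext.mk₀_bijective _ _).2 x₂
    rw [Ext.mk₀_comp_mk₀] at hx₂
    have hr : f.shortComplexKer.f ≫ r = 𝟙 _ := (Ext.mk₀_bijective _ _).1 hx₂
    let σ := ShortComplex.Splitting.ofExactOfRetraction _ hS.exact r hr hS.epi_g
    haveI hP : Projective (f.shortComplexKer.X₂) :=
      (IsProjective.iff_projective (R := A) (Fin k → A)).mp inferInstance
    have hret : Retract (ModuleCat.of A M) f.shortComplexKer.X₂ :=
      ⟨σ.s, f.shortComplexKer.g, σ.s_g⟩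
    exact hret.hasProjectiveDimensionLT 1
  | succ n ih =>
    intro M _ _ _ h
    obtain ⟨k, f, hf⟩ := Module.Finite.exists_fin' A M
    have hS : f.shortComplexKer.ShortExact := LinearMap.shortExact_shortComplexKer hf
    haveI hP : Projective (f.shortComplexKer.X₂) :=
      (IsProjective.iff_projective (R := A) (Fin k → A)).mp inferInstance
    have hK : HasProjectiveDimensionLT (ModuleCat.of A (LinearMap.ker f)) (n + 1) := by
      apply ih (LinearMap.ker f)
      intro I z
      obtain ⟨x₂, rfl⟩ := Ext.contravariant_sequence_exact₁ hS _ z (n₁ := n + 1 + 1)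
        (by omega) (h I _)
      rw [Ext.eq_zero_of_projective x₂, Ext.comp_zero]
    exact (hS.hasProjectiveDimensionLT_X₃_iff n hP).mpr hK

/-- Let A be a Noetherian ring, M a finitely generated A-module and n ≥ 0. Then M has projective
dimension at most n if and only if Ext^(n+1)_A(M, N) = 0 for every monogenous A-module N, i.e. every
N = A/I with I an ideal. -/
theorem result (A : Type u) [CommRing A] [IsNoetherianRing A]
    (M : Type u) [AddCommGroup M] [Module A M] [Module.Finite A M] (n : ℕ) :
    HasProjectiveDimensionLT (ModuleCat.of A M) (n + 1) ↔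
      ∀ I : Ideal A, Subsingleton (Abelian.Ext (ModuleCat.of A M) (ModuleCat.of A (A ⧸ I)) (n + 1)) := by
  constructor
  · intro h I
    exact HasProjectiveDimensionLT.subsingleton (ModuleCat.of A M) (n + 1) (n + 1) le_rfl _
  · intro h
    exact key n M (fun I z => (h I).elim z 0)

end Groth.Agent.S5789
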