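import Groth.Statements.S10932
import Mathlib
import Groth.Agent.S0563
import Groth.Agent.S5789

set_option autoImplicit false
universe u
open CategoryTheory
open CAlg

namespace Groth.Agent.S10932

open Abelian

/-- Over a Noetherian ring: if a finitely generated module `M` has projective dimension `≤ m + 1`
and `Ext^{m+1}(M, A) = 0`, then `M` has projective dimension `≤ m`. -/
theorem pd_drop (A : Type u) [CommRing A] [IsNoetherianRing A]
    (M : Type u) [AddCommGroup M] [Module A M] [Module.Finite A M] (m : ℕ)
    (hpd : HasProjectiveDimensionLT (ModuleCat.of A M) (m + 2))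
    (hext : ∀ z : Ext (ModuleCat.of A M) (ModuleCat.of A A) (m + 1), z = 0) :
    HasProjectiveDimensionLT (ModuleCat.of A M) (m + 1) := by
  apply Groth.Agent.S5789.key m M
  intro I z
  let S : ShortComplex (ModuleCat.{u} A) :=
    ModuleCat.shortComplexOfCompEqZero I.subtype I.mkQ
      (LinearMap.exact_subtype_mkQ I).linearMap_comp_eq_zero
  have hS : S.ShortExact := ModuleCat.shortComplex_shortExact S
    (LinearMap.exact_subtype_mkQ I) (Submodule.injective_subtype I) (Submodule.mkQ_surjective I)
  obtain ⟨x₂, rfl⟩ := Ext.covariant_sequence_exact₃ (ModuleCat.of A M) hS z (n₁ := m + 1 + 1) rfl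
    (Ext.eq_zero_of_hasProjectiveDimensionLT _ (m + 2) le_rfl)
  rw [hext x₂, Ext.zero_comp]

/-- Let A be a (Noetherian) regular local ring of Krull dimension n and M a finitely generated A-module
such that Ext^j_A(M, A) = 0 for every j with 1 ≤ j ≤ n. Then M is projective, hence a free A-module. -/
theorem result (A : Type u) [CommRing A] [IsRegularLocalRing A]
    (n : ℕ) (hn : ringKrullDim A = n) (M : Type u) [AddCommGroup M] [Module A M] [Module.Finite A M]
    (h : ∀ j : ℕ, 1 ≤ j → j ≤ n →
      Subsingleton (Abelian.Ext (ModuleCat.of A M) (ModuleCat.of A A) j)) :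
    Module.Free A M := by
  have hP : ∀ k : ℕ, k ≤ n → HasProjectiveDimensionLT (ModuleCat.of A M) (n - k + 1) := by
    intro k
    induction k with
    | zero =>
      intro _
      exact Groth.Agent.S0563.result A n hn M
    | succ k ih =>
      intro hk
      have h1 := ih (by omega)
      obtain ⟨m, hm⟩ : ∃ m, n - k = m + 1 := ⟨n - k - 1, by omega⟩
      have hm' : n - (k + 1) = m := by omega
      rw [hm] at h1
      rw [hm']
      have hsub := h (m + 1) (by omega) (by omega)
      exact pd_drop A M m h1 (fun z => hsub.elim z 0)
  have h0 := hP n le_rfl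
  rw [Nat.sub_self, zero_add, ← projective_iff_hasProjectiveDimensionLT_one] at h0
  haveI : Module.Projective A M := (IsProjective.iff_projective (R := A) M).mpr h0
  exact Module.free_of_flat_of_isLocalRing

end Groth.Agent.S10932
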