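import Groth.Statements.S10933
import Groth.Agent.H72.PdExt

set_option autoImplicit false
universe u
open CategoryTheory
open CAlg

namespace Groth.Agent.S10933

open Groth.Agent.H72.PdLocal Groth.Agent.H72.PdExt

/-- Let A be a (Noetherian) regular local ring, M a finitely generated A-module and d a natural number.
Then the projective dimension of M equals d if and only if Ext^j_A(M, A) = 0 for every j > d and
Ext^d_A(M, A) ≠ 0. (Projective dimension valued in WithBot ℕ∞, the zero module having projective
dimension ⊥.) -/
theorem result (A : Type u) [CommRing A] [IsRegularLocalRing A]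
    (M : Type u) [AddCommGroup M] [Module A M] [Module.Finite A M] (d : ℕ) :
    projectiveDimension (ModuleCat.of A M) = (d : WithBot ℕ∞) ↔
      ((∀ j : ℕ, d < j → Subsingleton (Abelian.Ext (ModuleCat.of A M) (ModuleCat.of A A) j)) ∧
        Nontrivial (Abelian.Ext (ModuleCat.of A M) (ModuleCat.of A A) d)) := by
  constructor
  · intro hpd
    have hle : HasProjectiveDimensionLT (ModuleCat.of A M) (d + 1) :=
      (projectiveDimension_le_iff _ d).mp hpd.le
    have hnlt : ¬ HasProjectiveDimensionLT (ModuleCat.of A M) d :=
      (projectiveDimension_ge_iff _ d).mp hpd.ge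
    refine ⟨fun j hj => subsingleton_of_forall_eq_zero fun e =>
      Abelian.Ext.eq_zero_of_hasProjectiveDimensionLT e (d + 1) hj, ?_⟩
    by_contra hnt
    rw [not_nontrivial_iff_subsingleton] at hnt
    exact hnlt (pdLT_of_ext_ring M d hle hnt)
  · rintro ⟨hvan, hnt⟩
    have hle : HasProjectiveDimensionLT (ModuleCat.of A M) (d + 1) :=
      pdLT_of_forall_ext_ring M d _ (pdLT_of_isRegularLocalRing A M) hvan
    have hnlt : ¬ HasProjectiveDimensionLT (ModuleCat.of A M) d := by
      intro hlt
      have hsub : Subsingleton (Abelian.Ext (ModuleCat.of A M) (ModuleCat.of A A) d) :=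
        subsingleton_of_forall_eq_zero fun e =>
          Abelian.Ext.eq_zero_of_hasProjectiveDimensionLT e d le_rfl
      exact not_subsingleton _ hsub
    exact le_antisymm ((projectiveDimension_le_iff _ d).mpr hle)
      ((projectiveDimension_ge_iff _ d).mpr hnlt)

end Groth.Agent.S10933
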