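import Groth.Statements.S10935
import Groth.Agent.H7.DedekindOpen
import Groth.Agent.H9.SchemeDimStalk
import Groth.Agent.H25.NoEmbAffine

set_option autoImplicit false
universe u
open CategoryTheory CategoryTheory.Limits AlgebraicGeometry
open FlatMor

namespace Groth.Agent.S10935

/-- Generizations of a point of a locally Noetherian scheme that are associated points
correspond to the associated primes of the local ring. -/
theorem isAssPoint_fromSpecStalk_iff {X : Scheme.{u}} [IsLocallyNoetherian X] (x : X)
    (P : PrimeSpectrum (X.presheaf.stalk x)) :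
    Curv2.IsAssPoint (Coh.structureModule X) (X.fromSpecStalk x P) ↔
      P.asIdeal ∈ associatedPrimes (X.presheaf.stalk x) (X.presheaf.stalk x) := by
  obtain ⟨U, hU, hxU, -⟩ := exists_isAffineOpen_mem_and_subset (U := ⊤) (x := x) (by simp)
  haveI : IsNoetherianRing Γ(X, U) := IsLocallyNoetherian.component_noetherian ⟨U, hU⟩
  have hsp : X.fromSpecStalk x P ⤳ x := by
    have : X.fromSpecStalk x P ∈ Set.range (X.fromSpecStalk x) := ⟨P, rfl⟩
    rwa [Scheme.range_fromSpecStalk] at this
  have hx'U : X.fromSpecStalk x P ∈ U := hsp.mem_open U.2 hxU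
  rw [Groth.Agent.H25.NoEmbAffine.isAssPoint_structureModule_iff hU _ hx'U]
  letI : Algebra Γ(X, U) (X.presheaf.stalk x) := (X.presheaf.germ U x hxU).hom.toAlgebra
  haveI : IsLocalization.AtPrime (X.presheaf.stalk x) (hU.primeIdealOf ⟨x, hxU⟩).asIdeal :=
    hU.isLocalization_stalk ⟨x, hxU⟩
  have hprime : hU.primeIdealOf ⟨X.fromSpecStalk x P, hx'U⟩ =
      Spec.map (X.presheaf.germ U x hxU) P := by
    apply hU.fromSpec.isOpenEmbedding.injective
    refine (hU.fromSpec_primeIdealOf _).trans ?_
    have h := congrArg (fun ψ : Spec (X.presheaf.stalk x) ⟶ X => ψ P)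
      (hU.fromSpecStalk_eq_fromSpecStalk hxU)
    simp only [IsAffineOpen.fromSpecStalk, Scheme.Hom.comp_apply] at h
    exact h.symm
  rw [hprime]
  rw [← Module.associatedPrimes.preimage_comap_associatedPrimes_eq_associatedPrimes_of_isLocalizedModule
    (hU.primeIdealOf ⟨x, hxU⟩).asIdeal.primeCompl (X.presheaf.stalk x)
    (Algebra.linearMap Γ(X, U) (X.presheaf.stalk x))]
  rfl

/-- Let Y be an integral, regular (every local ring a regular local ring), one-dimensional scheme with
generic point η, X a Noetherian scheme and f : X → Y a morphism. Then f is flat if and only if every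
associated point x of X — a point such that the maximal ideal of O_{X,x} is an associated prime of
O_{X,x} — satisfies f(x) = η. -/
theorem result {X Y : Scheme.{u}} (f : X ⟶ Y)
    [IsIntegral Y] (hreg : ∀ y : Y, IsRegularLocalRing (Y.presheaf.stalk y))
    (hY : topologicalKrullDim ↥Y = 1) [IsNoetherian X] :
    Flat f ↔ ∀ x : X, Curv2.IsAssPoint (Coh.structureModule X) x → f.base x = genericPoint ↥Y := by
  have hη : IsGenericPoint (genericPoint Y) (Set.univ : Set Y) := genericPoint_spec Y
  constructor
  · intro hflat x hx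
    have hm : IsLocalRing.maximalIdeal (X.presheaf.stalk x) ∈
        associatedPrimes (X.presheaf.stalk x) (X.presheaf.stalk x) := by
      have h := (isAssPoint_fromSpecStalk_iff x (IsLocalRing.closedPoint _)).mp
        (by rw [Scheme.fromSpecStalk_closedPoint]; exact hx)
      exact h
    by_contra hne
    have hfl : (f.stalkMap x).hom.Flat := (Flat.iff_flat_stalkMap f).mp hflat x
    have hbot : IsLocalRing.maximalIdeal (Y.presheaf.stalk (f x)) ≠ ⊥ := by
      intro hbot
      apply hne
      have h1 := Groth.Agent.H7.fromSpecStalk_bot_eq (f x) (genericPoint Y) hη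
      have h2 : (⟨⊥, Ideal.isPrime_bot⟩ : PrimeSpectrum (Y.presheaf.stalk (f x))) =
          IsLocalRing.closedPoint _ := by
        apply PrimeSpectrum.ext
        exact hbot.symm
      rw [h2, Scheme.fromSpecStalk_closedPoint] at h1
      exact h1
    obtain ⟨π, hπm, hπ0⟩ := Submodule.exists_mem_ne_zero_of_ne_bot hbot
    letI : Algebra (Y.presheaf.stalk (f x)) (X.presheaf.stalk x) := (f.stalkMap x).hom.toAlgebra
    haveI : Module.Flat (Y.presheaf.stalk (f x)) (X.presheaf.stalk x) := hfl
    have hφπ : (f.stalkMap x).hom π ∈ IsLocalRing.maximalIdeal (X.presheaf.stalk x) := by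
      rw [IsLocalRing.mem_maximalIdeal, mem_nonunits_iff] at hπm ⊢
      exact fun h => hπm (isUnit_of_map_unit (f.stalkMap x).hom π h)
    obtain ⟨hprime, b, hb⟩ := hm
    rw [hb] at hφπ
    obtain ⟨n, hn⟩ := Ideal.mem_radical_iff.mp hφπ
    rw [Submodule.mem_colon_singleton, Submodule.mem_bot] at hn
    have hn' : (π ^ n) • b = 0 := by
      rw [Algebra.smul_def, RingHom.algebraMap_toAlgebra, map_pow]
      exact hn
    have hreg' : IsSMulRegular (X.presheaf.stalk x) (π ^ n) :=
      Module.IsTorsionFree.isSMulRegular (IsRegular.of_ne_zero (pow_ne_zero n hπ0))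
    have hb0 : b = 0 := hreg' (hn'.trans (smul_zero _).symm)
    apply hprime.ne_top
    rw [hb, hb0, Ideal.eq_top_iff_one]
    refine Ideal.le_radical ?_
    rw [Submodule.mem_colon_singleton, smul_zero]
    exact Submodule.zero_mem _
  · intro hass
    rw [Flat.iff_flat_stalkMap]
    intro x
    haveI := hreg (f x)
    obtain ⟨hdomA, hpid⟩ :=
      Groth.Agent.H7.isDomain_isPrincipalIdealRing_of_regular_dim_le_one (Y.presheaf.stalk (f x))
        ((Groth.Agent.H9.FibDim.ringKrullDim_stalk_le Y (f x)).trans hY.le)
    letI : Algebra (Y.presheaf.stalk (f x)) (X.presheaf.stalk x) := (f.stalkMap x).hom.toAlgebra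
    show Module.Flat (Y.presheaf.stalk (f x)) (X.presheaf.stalk x)
    haveI : IsDomain (Y.presheaf.stalk (f x)) := hdomA
    haveI : IsPrincipalIdealRing (Y.presheaf.stalk (f x)) := hpid
    haveI : Module.IsTorsionFree (Y.presheaf.stalk (f x)) (X.presheaf.stalk x) := by
      refine ⟨fun a ha b b' hbb' => ?_⟩
      have ha0 : a ≠ 0 := ha.ne_zero
      have h1 : (f.stalkMap x).hom a * (b - b') = 0 := by
        have : a • b = a • b' := hbb'
        rw [Algebra.smul_def, Algebra.smul_def, RingHom.algebraMap_toAlgebra] at this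
        rw [mul_sub, this, sub_self]
      by_contra hne
      have hc : b - b' ≠ 0 := fun h => hne (sub_eq_zero.mp h)
      obtain ⟨P, hP, hle⟩ :=
        exists_le_isAssociatedPrime_of_isNoetherianRing (X.presheaf.stalk x) (b - b') hc
      haveI hPprime : P.IsPrime := hP.isPrime
      have haP : (f.stalkMap x).hom a ∈ P := by
        apply hle
        rw [Submodule.mem_colon_singleton, Submodule.mem_bot]
        exact h1
      have hx' : Curv2.IsAssPoint (Coh.structureModule X)
          (X.fromSpecStalk x (⟨P, hPprime⟩ : PrimeSpectrum (X.presheaf.stalk x))) :=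
        (isAssPoint_fromSpecStalk_iff x ⟨P, hPprime⟩).mpr hP
      have hfx' : f (X.fromSpecStalk x (⟨P, hPprime⟩ : PrimeSpectrum (X.presheaf.stalk x))) =
          genericPoint Y := hass _ hx'
      have hgen : IsGenericPoint
          (f (X.fromSpecStalk x (⟨P, hPprime⟩ : PrimeSpectrum (X.presheaf.stalk x))))
          (Set.univ : Set Y) := by
        rw [hfx']
        exact hη
      have hb := Groth.Agent.H7.fromSpecStalk_bot_eq (f x) _ hgen
      have hcomm := congrArg (fun ψ : Spec (X.presheaf.stalk x) ⟶ Y =>
        ψ (⟨P, hPprime⟩ : PrimeSpectrum (X.presheaf.stalk x)))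
        (Scheme.SpecMap_stalkMap_fromSpecStalk (f := f) (x := x))
      simp only [Scheme.Hom.comp_apply] at hcomm
      have h3 := (Y.fromSpecStalk (f x)).isEmbedding.injective (hcomm.trans hb.symm)
      have h4 : Ideal.comap (f.stalkMap x).hom P = ⊥ := congrArg PrimeSpectrum.asIdeal h3
      have h5 : a ∈ Ideal.comap (f.stalkMap x).hom P := haP
      rw [h4] at h5
      exact ha0 (Ideal.mem_bot.mp h5)
    infer_instance

end Groth.Agent.S10935
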