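import Groth.Statements.S5022
import Mathlib
import Groth.Agent.H70.FibreJac
import Groth.Agent.H70.SmoothLocusChart
import Groth.Agent.H70.SmoothDiff
import Groth.Agent.H70.SmoothCharts
import Groth.Agent.H8.FreeMod
import Groth.Agent.H39.DerFin
import Groth.Agent.H49.SmoothFibre

set_option autoImplicit false
universe u
open CategoryTheory CategoryTheory.Limits AlgebraicGeometry TopologicalSpace
open Unram17

namespace Groth.Agent.S5022



/-- Let f : X ⟶ Y be locally of finite presentation, (Ω', d) a sheaf of differentials of X over Y (d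
universal) and x a point of X. Then f is smooth at x if and only if the stalk map at x is flat and
there are an open neighbourhood U of x and an integer n with Ω' free of rank n on U and n equal to
the local dimension at x of the fibre of f through x. -/
theorem result {X Y : Scheme.{u}} (f : X ⟶ Y)
    [LocallyOfFinitePresentation f] (Ω' : X.Modules) (d : OmegaSh.Der f Ω') (hd : OmegaSh.IsUniversal d) (x : ↥X) :
    x ∈ f.smoothLocus ↔
      (f.stalkMap x).hom.Flat ∧
        ∃ (U : X.Opens) (n : ℕ), x ∈ U ∧ Nonempty (Ω'.restrict U.ι ≅ FlatMod.freeMod (↑U) n) ∧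
          FlatMor.fibreDimAt f x = (n : WithBot ℕ∞) := by
  haveI := Groth.Agent.H39.DerFin.isQuasicoherent_of_isUniversal f hd
  constructor
  · intro hx
    refine ⟨Groth.Agent.H49.SmoothFibre.flat_stalkMap_of_mem_smoothLocus f x hx, ?_⟩
    obtain ⟨U, hU, V, hV, hxV, e, n, hn⟩ :=
      Groth.Agent.H70.SmoothLocusChart.exists_chart_of_mem_smoothLocus f x hx
    refine ⟨V, n, hxV, ?_, ?_⟩
    · letI : Algebra Γ(Y, U) Γ(X, V) := (f.appLE U V e).hom.toAlgebra
      haveI : Algebra.IsStandardSmoothOfRelativeDimension n Γ(Y, U) Γ(X, V) := hn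
      obtain ⟨ψ⟩ := Groth.Agent.H39.DerFin.nonempty_sections_linearEquiv_kaehler f hd hU hV e
      obtain ⟨φ⟩ := Groth.Agent.H70.SmoothDiff.nonempty_kaehler_equiv
        (R := Γ(Y, U)) (S := Γ(X, V)) n
      exact Groth.Agent.H8.nonempty_restrict_iso_freeMod hV Ω' n (ψ ≪≫ₗ φ)
    · exact Groth.Agent.H70.SmoothCharts.fibreDimAt_of_chart f hU hV e n hn x hxV
  · rintro ⟨hflat, U, n, hxU, ⟨eΩ⟩, hdim⟩
    haveI : LocallyOfFinitePresentation (f.fiberToSpecResidueField (f x)) :=
      MorphismProperty.pullback_snd (P := @LocallyOfFinitePresentation) _ _ inferInstance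
    rw [Groth.Agent.H49.SmoothFibre.mem_smoothLocus_iff_flat_and_fiber f x (f x) rfl
      (f.asFiber x) (f.fiberι_asFiber x)]
    refine ⟨hflat, ?_⟩
    -- affine charts
    obtain ⟨_, ⟨T, hT, rfl⟩, hsT, -⟩ :=
      Y.isBasis_affineOpens.exists_subset_of_mem_open (Set.mem_univ (f x)) isOpen_univ
    obtain ⟨_, ⟨W, hW, rfl⟩, hxW, hWsub⟩ :=
      X.isBasis_affineOpens.exists_subset_of_mem_open
        (show x ∈ ((f ⁻¹ᵁ T) ⊓ U : X.Opens) from ⟨hsT, hxU⟩) ((f ⁻¹ᵁ T) ⊓ U).2
    have hWT : W ≤ f ⁻¹ᵁ T := fun w hw => (hWsub hw).1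
    have hWU : W ≤ U := fun w hw => (hWsub hw).2
    obtain ⟨φ⟩ := Groth.Agent.H8.nonempty_sections_equiv_of_le Ω' eΩ hWU
    obtain ⟨ψ⟩ := Groth.Agent.H39.DerFin.nonempty_sections_linearEquiv_kaehler f hd hT hW hWT
    exact Groth.Agent.H70.FibreJac.asFiber_mem_smoothLocus f x T hT W hW hWT hxW n
      ⟨ψ.symm ≪≫ₗ φ⟩ (le_of_eq hdim.symm)

end Groth.Agent.S5022
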