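import Groth.Statements.S12422
import Mathlib
import Groth.Agent.S5022
import Groth.Agent.H70.RegBaseFlat
import Groth.Agent.H70.RelDimPointwise
import Groth.Agent.H70.LocalDimEtale
import Groth.Agent.H79.SmoothReg2
import Groth.Agent.H37.GrpdCalc3

set_option autoImplicit false
universe u
open CategoryTheory CategoryTheory.Limits AlgebraicGeometry
open NonsingVar

namespace Groth.Agent.S12422

open TopologicalSpace in
/-- For a scheme over a field, the fibre dimension at `x` is the local dimension of `X` at `x`. -/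
theorem fibreDimAt_eq_localDim (k : Type u) [Field k] {X : Scheme.{u}}
    (f : X ⟶ Spec (CommRingCat.of k)) (x : X) :
    FlatMor.fibreDimAt f x = FlatMor.localDim X x := by
  unfold FlatMor.fibreDimAt
  haveI := Groth.Agent.H37.isIso_fromSpecResidueField_spec_field k (f x)
  haveI : IsIso (f.fiberι (f x)) := by
    show IsIso (pullback.fst f ((Spec (CommRingCat.of k)).fromSpecResidueField (f x)))
    exact pullback_fst_iso_of_right_iso _ _
  rw [Groth.Agent.H70.LocalDimEtale.localDim_eq_of_etale (f.fiberι (f x)) (f.asFiber x)]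
  rw [Scheme.Hom.fiberι_asFiber]

/-- An irreducible scheme locally of finite type over a field has local dimension `dim X`
everywhere. -/
theorem localDim_eq_of_irreducible (k : Type u) [Field k] {X : Scheme.{u}}
    (f : X ⟶ Spec (CommRingCat.of k)) [LocallyOfFiniteType f] [IrreducibleSpace X] (n : ℕ)
    (hn : topologicalKrullDim X = (n : WithBot ℕ∞)) (x : X) :
    FlatMor.localDim X x = n := by
  refine (Groth.Agent.H70.RelDimPointwise.equidim_iff f n).mp ?_ x
  intro Z hZ
  rw [irreducibleComponents_eq_singleton, Set.mem_singleton_iff] at hZ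
  subst hZ
  rw [← hn]
  exact (Homeomorph.Set.univ X).isHomeomorph.topologicalKrullDim_eq
/-- Over a perfect field, a point with regular local ring is in the smooth locus. -/
theorem smooth_of_regular (k : Type u) [Field k] [PerfectField k] {X : Scheme.{u}}
    (f : X ⟶ Spec (CommRingCat.of k)) [LocallyOfFiniteType f] [LocallyOfFinitePresentation f]
    (x : X) (hreg : IsRegularLocalRing (X.presheaf.stalk x)) : x ∈ f.smoothLocus := by
  obtain ⟨_, ⟨V, hV, rfl⟩, hxV, -⟩ :=
    X.isBasis_affineOpens.exists_subset_of_mem_open (Set.mem_univ x) isOpen_univ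
  have hU : IsAffineOpen (⊤ : (Spec (CommRingCat.of k)).Opens) := isAffineOpen_top _
  have hVU : V ≤ f ⁻¹ᵁ ⊤ := le_top
  rw [Scheme.Hom.mem_smoothLocus, formallySmooth_stalkMap_iff ⊤ hU V hV hVU hxV]
  have hft := f.finiteType_appLE hU hV hVU
  letI algS : Algebra Γ(Spec (CommRingCat.of k), ⊤) Γ(X, V) := (f.appLE ⊤ V hVU).hom.toAlgebra
  let e : k ≃+* Γ(Spec (CommRingCat.of k), ⊤) :=
    (Scheme.ΓSpecIso (CommRingCat.of k)).commRingCatIsoToRingEquiv.symm
  letI algR : Algebra k Γ(Spec (CommRingCat.of k), ⊤) := e.toRingHom.toAlgebra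
  letI algkS : Algebra k Γ(X, V) :=
    ((algebraMap Γ(Spec (CommRingCat.of k), ⊤) Γ(X, V)).comp e.toRingHom).toAlgebra
  haveI : IsScalarTower k Γ(Spec (CommRingCat.of k), ⊤) Γ(X, V) :=
    .of_algebraMap_eq fun _ => rfl
  haveI h1 : Algebra.FiniteType Γ(Spec (CommRingCat.of k), ⊤) Γ(X, V) := hft
  haveI h2 : Algebra.FiniteType k Γ(Spec (CommRingCat.of k), ⊤) :=
    Algebra.FiniteType.of_surjective (Algebra.ofId k _) e.surjective
  haveI h3 : Algebra.FiniteType k Γ(X, V) := Algebra.FiniteType.trans h2 h1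
  set q := (hV.primeIdealOf ⟨x, hxV⟩).asIdeal with hq
  letI : Algebra Γ(X, V) (X.presheaf.stalk x) := X.presheaf.algebra_section_stalk ⟨x, hxV⟩
  haveI : IsLocalization.AtPrime (X.presheaf.stalk x) q := hV.isLocalization_stalk ⟨x, hxV⟩
  haveI : IsRegularLocalRing (Localization.AtPrime q) := IsRegularLocalRing.of_ringEquiv
    (IsLocalization.algEquiv q.primeCompl (Localization.AtPrime q)
      (X.presheaf.stalk x)).toRingEquiv.symm
  haveI : Algebra.FormallySmooth k (Localization.AtPrime q) :=
    (Groth.Agent.H79.SmoothReg.formallySmooth_localization_iff k Γ(X, V) q).mpr inferInstance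
  haveI : Algebra.FormallyUnramified k Γ(Spec (CommRingCat.of k), ⊤) :=
    Algebra.FormallyUnramified.of_surjective (Algebra.ofId k _) e.surjective
  show Algebra.FormallySmooth Γ(Spec (CommRingCat.of k), ⊤) (Localization.AtPrime q)
  exact Algebra.FormallySmooth.of_restrictScalars k _ _

theorem main (k : Type u) [Field k] [IsAlgClosed k] (n : ℕ)
    (X : Scheme.{u}) (f : X ⟶ Spec (CommRingCat.of k)) [IrreducibleSpace ↥X]
    [LocallyOfFiniteType f]
    (hn : topologicalKrullDim ↥X = (n : WithBot ℕ∞))
    (Ω : X.Modules) (d : OmegaSh.Der f Ω) (hd : OmegaSh.IsUniversal d) :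
    FlatMod.IsFinLocFreeOfRank n Ω ↔ ∀ x : ↥X, IsRegularLocalRing ↑(X.presheaf.stalk x) := by
  haveI : LocallyOfFinitePresentation f :=
    LocallyOfFinitePresentation.iff_locallyOfFiniteType.mpr inferInstance
  have hfd : ∀ x : X, FlatMor.fibreDimAt f x = (n : WithBot ℕ∞) := fun x => by
    rw [fibreDimAt_eq_localDim k f x]
    exact localDim_eq_of_irreducible k f n hn x
  constructor
  · intro hΩ x
    obtain ⟨U, hxU, ⟨e⟩⟩ := hΩ x
    have hx : x ∈ f.smoothLocus :=
      (Groth.Agent.S5022.result f Ω d hd x).mpr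
        ⟨Flat.stalkMap f x, U, n, hxU, ⟨e⟩, hfd x⟩
    exact Groth.Agent.H70.RegBaseFlat.regular_stalk_of_mem_smoothLocus k f x hx
  · intro hreg x
    have hx : x ∈ f.smoothLocus := smooth_of_regular k f x (hreg x)
    obtain ⟨-, U, n', hxU, ⟨e⟩, hn'⟩ := (Groth.Agent.S5022.result f Ω d hd x).mp hx
    have : n' = n := by
      have := hn'.symm.trans (hfd x)
      exact_mod_cast this
    subst this
    exact ⟨U, hxU, ⟨e⟩⟩


/-- Let k be an algebraically closed field, X an irreducible scheme which is separated and of finite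
type over k, n = dim X, and (Ω, d) a sheaf of relative differentials of X over k, i.e. d : O_X → Ω a
universal k-derivation. Then Ω is locally free of rank n if and only if every local ring of X is
regular (X is a nonsingular variety over k). -/
theorem result (k : Type u) [Field k] [IsAlgClosed k] (n : ℕ)
    (X : Scheme.{u}) [X.Over (Spec (CommRingCat.of k))] [IrreducibleSpace ↥X]
    [IsSeparated (X ↘ (Spec (CommRingCat.of k)))] [LocallyOfFiniteType (X ↘ (Spec (CommRingCat.of k)))]
    [QuasiCompact (X ↘ (Spec (CommRingCat.of k)))]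
    (hn : topologicalKrullDim ↥X = (n : WithBot ℕ∞))
    (Ω : X.Modules) (d : OmegaSh.Der (X ↘ (Spec (CommRingCat.of k))) Ω) (hd : OmegaSh.IsUniversal d) :
    FlatMod.IsFinLocFreeOfRank n Ω ↔ ∀ x : ↥X, IsRegularLocalRing ↑(X.presheaf.stalk x) := by
  exact main k n X (X ↘ (Spec (CommRingCat.of k))) hn Ω d hd

end Groth.Agent.S12422
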