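import Groth.Statements.S3700
import Mathlib
import Groth.Agent.H70.RegImmSmooth
import Groth.Agent.H70.RegImmSmooth2
import Groth.Agent.H70.RegBaseFlat
import Groth.Agent.H49.SmoothFibre
import Groth.Agent.H29.FiberStalkAt
import Groth.Agent.H9.SubschemeStalk

set_option autoImplicit false
universe u
open SGA1

namespace Groth.Agent.S3700

open AlgebraicGeometry CategoryTheory CategoryTheory.Limits IsLocalRing in
/-- At a smooth point the local ring of the fibre is regular. -/
theorem regular_fibre_of_mem_smoothLocus {X S : Scheme.{u}} (f : X ⟶ S)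
    [LocallyOfFinitePresentation f] (x : X) (hx : x ∈ f.smoothLocus) :
    IsRegularLocalRing (X.presheaf.stalk x ⧸ Ideal.map (f.stalkMap x).hom
      (maximalIdeal (S.presheaf.stalk (f.base x)))) := by
  haveI : LocallyOfFinitePresentation (f.fiberToSpecResidueField (f x)) :=
    MorphismProperty.pullback_snd _ _ inferInstance
  have hz := ((Groth.Agent.H49.SmoothFibre.mem_smoothLocus_iff_flat_and_fiber f x (f x) rfl
    (f.asFiber x) (f.fiberι_asFiber x)).mp hx).2
  have hreg := Groth.Agent.H70.RegBaseFlat.regular_stalk_of_mem_smoothLocus (S.residueField (f x))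
    (f.fiberToSpecResidueField (f x)) (f.asFiber x) hz
  obtain ⟨e⟩ := Groth.Agent.H29.FiberStalkAt.nonempty_fiberStalkEquiv f x
  exact IsRegularLocalRing.of_ringEquiv e.symm

open IsLocalRing in
/-- Ring-level forward direction. -/
theorem ring_forward {R C D : Type u} [CommRing R] [CommRing C] [CommRing D] [IsLocalRing R]
    [IsLocalRing C] [IsNoetherianRing C] (φ : R →+* C) [IsLocalHom φ] (ψ : C →+* D)
    (hψ : Function.Surjective ψ) (flatC : φ.Flat) (flatD : (ψ.comp φ).Flat)
    (regC : IsRegularLocalRing (C ⧸ Ideal.map φ (maximalIdeal R)))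
    (regD : IsRegularLocalRing (D ⧸ Ideal.map (ψ.comp φ) (maximalIdeal R))) :
    CInt.IsRegularIdeal (RingHom.ker ψ) := by
  letI : Algebra R C := φ.toAlgebra
  haveI : IsLocalHom (algebraMap R C) := ‹IsLocalHom φ›
  haveI : Module.Flat R C := flatC
  set J := RingHom.ker ψ
  let e : (C ⧸ J) ≃+* D := RingHom.quotientKerEquivOfSurjective hψ
  have he : ∀ c : C, e (Ideal.Quotient.mk J c) = ψ c := fun c => rfl
  letI : Algebra R D := (ψ.comp φ).toAlgebra
  haveI : Module.Flat R D := flatD
  let eA : (C ⧸ J) ≃ₐ[R] D := AlgEquiv.ofRingEquiv (f := e) (fun r => by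
    rw [IsScalarTower.algebraMap_apply R C (C ⧸ J), Ideal.Quotient.algebraMap_eq, he]
    rfl)
  haveI : Module.Flat R (C ⧸ J) := Module.Flat.of_linearEquiv eA.toLinearEquiv
  have hmapeq : Ideal.map (ψ.comp φ) (maximalIdeal R) =
      ((maximalIdeal R).map (algebraMap R (C ⧸ J))).map (e : (C ⧸ J) →+* D) := by
    rw [Ideal.map_map]
    congr 1
  have regD' : IsRegularLocalRing ((C ⧸ J) ⧸ (maximalIdeal R).map (algebraMap R (C ⧸ J))) :=
    haveI := regD
    IsRegularLocalRing.of_ringEquiv (Ideal.quotientEquiv _ _ e hmapeq).symm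
  exact Groth.Agent.H70.RegImmSmooth2.exists_isRegular_of_flat_of_regular_fibres R C J regC regD'


/-- Ring-level backward direction. -/
theorem ring_backward {A B R C D : Type u} [CommRing A] [CommRing B] [CommRing R] [CommRing C]
    [CommRing D] [IsLocalRing C] [Algebra A B] [Algebra.FinitePresentation A B]
    [Algebra A R] (p : Ideal A) [p.IsPrime] [IsLocalization.AtPrime R p]
    [Algebra B C] (q : Ideal B) [q.IsPrime] [IsLocalization.AtPrime C q]
    (φ : R →+* C) (ψ : C →+* D) (hψ : Function.Surjective ψ)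
    (hcomm : ∀ a : A, algebraMap B C (algebraMap A B a) = φ (algebraMap A R a))
    (hD : (ψ.comp φ).FormallySmooth) (h : CInt.IsRegularIdeal (RingHom.ker ψ)) :
    φ.FormallySmooth := by
  obtain ⟨rs, hrs, hJrs⟩ := h
  letI : Algebra R C := φ.toAlgebra
  letI : Algebra A C := (φ.comp (algebraMap A R)).toAlgebra
  haveI : IsScalarTower A R C := IsScalarTower.of_algebraMap_eq' rfl
  haveI : IsScalarTower A B C := IsScalarTower.of_algebraMap_eq (fun a => (hcomm a).symm)
  letI : Algebra R D := (ψ.comp φ).toAlgebra
  letI : Algebra A D := ((ψ.comp φ).comp (algebraMap A R)).toAlgebra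
  haveI : IsScalarTower A R D := IsScalarTower.of_algebraMap_eq' rfl
  haveI : Algebra.FormallySmooth R D := hD
  haveI : Algebra.FormallySmooth A R := Algebra.FormallySmooth.of_isLocalization p.primeCompl
  haveI : Algebra.FormallySmooth A D := Algebra.FormallySmooth.comp A R D
  let e : (C ⧸ RingHom.ker ψ) ≃+* D := RingHom.quotientKerEquivOfSurjective hψ
  have he : ∀ c : C, e (Ideal.Quotient.mk _ c) = ψ c := fun c => rfl
  let eA : (C ⧸ RingHom.ker ψ) ≃ₐ[A] D := AlgEquiv.ofRingEquiv (f := e) (fun a => by
    rw [IsScalarTower.algebraMap_apply A C (C ⧸ RingHom.ker ψ), Ideal.Quotient.algebraMap_eq, he]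
    rfl)
  haveI : Algebra.FormallySmooth A (C ⧸ RingHom.ker ψ) := Algebra.FormallySmooth.of_equiv eA.symm
  haveI : Algebra.FormallySmooth A (C ⧸ Ideal.ofList rs) := hJrs ▸ this
  haveI := Groth.Agent.H70.RegImmSmooth.formallySmooth_of_regular A B C q.primeCompl rs hrs
  haveI : Algebra.FormallyUnramified A R := Algebra.FormallyUnramified.of_isLocalization p.primeCompl
  exact Algebra.FormallySmooth.of_restrictScalars (R := A) (A := R) (B := C)


open AlgebraicGeometry CategoryTheory CategoryTheory.Limits in
/-- Let S be locally Noetherian, f : X -> S locally of finite type, Y the closed subscheme of X defined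
by a quasi-coherent ideal, and x a point of Y at which Y is smooth over S. Then X is smooth over S
at x if and only if the closed immersion of Y in X is regular at x, that is, the kernel of O_{X,x}
-> O_{Y,x} is generated by a regular sequence. (Smoothness at a point is membership in Mathlib's
smooth locus, the set of points where the map of local rings is formally smooth.) -/
theorem result {X S : Scheme.{u}} [IsLocallyNoetherian S] (f : X ⟶ S)
    [LocallyOfFiniteType f] [LocallyOfFinitePresentation f] (I : X.IdealSheafData)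
    [LocallyOfFinitePresentation (I.subschemeι ≫ f)] (x : ↥I.subscheme) (hY : x ∈ (I.subschemeι ≫ f).smoothLocus) :
    I.subschemeι.base x ∈ f.smoothLocus ↔ CInt.IsRegularIdeal (RingHom.ker (I.subschemeι.stalkMap x).hom) := by
  classical
  haveI : IsLocallyNoetherian X := LocallyOfFiniteType.isLocallyNoetherian f
  have hψ : Function.Surjective (I.subschemeι.stalkMap x).hom :=
    Groth.Agent.H9.stalkMap_subschemeι_surjective I x
  have hcomp : ((I.subschemeι ≫ f).stalkMap x).hom =
      (I.subschemeι.stalkMap x).hom.comp (f.stalkMap (I.subschemeι.base x)).hom :=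
    Groth.Agent.H29.FiberStalkAt.stalkMap_comp_hom I.subschemeι f x
  constructor
  · intro hX
    have flatC := Groth.Agent.H49.SmoothFibre.flat_stalkMap_of_mem_smoothLocus f _ hX
    have flatD := Groth.Agent.H49.SmoothFibre.flat_stalkMap_of_mem_smoothLocus _ x hY
    have regC := regular_fibre_of_mem_smoothLocus f _ hX
    have regD := regular_fibre_of_mem_smoothLocus _ x hY
    rw [hcomp] at flatD regD
    exact ring_forward _ _ hψ flatC flatD regC regD
  · intro h
    rw [Scheme.Hom.mem_smoothLocus] at hY ⊢
    rw [hcomp] at hY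
    obtain ⟨T, hT, hsT, -⟩ := exists_isAffineOpen_mem_and_subset
      (x := f (I.subschemeι.base x)) (U := (⊤ : S.Opens)) trivial
    obtain ⟨W, hW, hxW, hWT⟩ := exists_isAffineOpen_mem_and_subset
      (x := I.subschemeι.base x) (U := f ⁻¹ᵁ T) hsT
    letI : Algebra Γ(S, T) Γ(X, W) := (f.appLE T W hWT).hom.toAlgebra
    haveI : Algebra.FinitePresentation Γ(S, T) Γ(X, W) := f.finitePresentation_appLE hT hW hWT
    letI : Algebra Γ(X, W) (X.presheaf.stalk (I.subschemeι.base x)) :=
      X.presheaf.algebra_section_stalk ⟨I.subschemeι.base x, hxW⟩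
    haveI := hW.isLocalization_stalk ⟨I.subschemeι.base x, hxW⟩
    letI : Algebra Γ(S, T) (S.presheaf.stalk (f (I.subschemeι.base x))) :=
      S.presheaf.algebra_section_stalk ⟨f (I.subschemeι.base x), hsT⟩
    haveI := hT.isLocalization_stalk ⟨f (I.subschemeι.base x), hsT⟩
    refine ring_backward (A := Γ(S, T)) (B := Γ(X, W))
      (hT.primeIdealOf ⟨f (I.subschemeι.base x), hsT⟩).asIdeal
      (hW.primeIdealOf ⟨I.subschemeι.base x, hxW⟩).asIdeal _ _ hψ ?_ hY h
    intro a
    simp only [RingHom.algebraMap_toAlgebra]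
    erw [Scheme.Hom.germ_stalkMap_apply]
    simp only [Scheme.Hom.appLE, CommRingCat.comp_apply]
    exact TopCat.Presheaf.germ_res_apply _ _ _ _ _

end Groth.Agent.S3700
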