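import Groth.Statements.S10936
import Mathlib
import Groth.Agent.S3700
import Groth.Agent.S12422
import Groth.Agent.H70.CotangentInj
import Groth.Agent.H70.ClosedPtAlgClosed
import Groth.Agent.H70.StalkDimComp
import Groth.Agent.H70.RegBaseFlat
import Groth.Agent.H70.SmoothCharts
import Groth.Agent.H70.SmoothLocusChart

set_option autoImplicit false
universe u
open CategoryTheory CategoryTheory.Limits AlgebraicGeometry
open Variety

namespace Groth.Agent.S10936

open IsLocalRing

theorem stalkMapAt_rfl {X Y : Scheme.{u}} (f : X ⟶ Y) (x : X) :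
    FixPt.stalkMapAt f x (f x) rfl = (f.stalkMap x).hom := by
  unfold FixPt.stalkMapAt
  have : (Y.presheaf.stalkCongr (Inseparable.of_eq (rfl : f x = f x))).inv = 𝟙 _ := by
    simp [TopCat.Presheaf.stalkCongr]
  rw [this, Category.id_comp]

theorem injective_congr {R B : Type u} [CommRing R] [CommRing B] [IsLocalRing R] [IsLocalRing B]
    (φ ψ : R →+* B) (e : φ = ψ)
    (hφ : maximalIdeal R ≤ (maximalIdeal B).comap φ.toIntAlgHom)
    (hψ : maximalIdeal R ≤ (maximalIdeal B).comap ψ.toIntAlgHom) :
    Function.Injective (Ideal.mapCotangent (maximalIdeal R) (maximalIdeal B) φ.toIntAlgHom hφ) ↔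
      Function.Injective (Ideal.mapCotangent (maximalIdeal R) (maximalIdeal B) ψ.toIntAlgHom hψ) := by
  subst e
  rfl

theorem hle {X Y : Scheme.{u}} (f : X ⟶ Y) (x : X) :
    maximalIdeal (Y.presheaf.stalk (f x)) ≤
      (maximalIdeal (X.presheaf.stalk x)).comap (f.stalkMap x).hom.toIntAlgHom := by
  intro a ha
  rw [Ideal.mem_comap, mem_maximalIdeal, mem_nonunits_iff]
  rw [mem_maximalIdeal, mem_nonunits_iff] at ha
  exact fun hu => ha (IsLocalHom.map_nonunit (f := (f.stalkMap x).hom) a hu)

theorem cotangentMapAt_injective_iff {X Y : Scheme.{u}} (f : X ⟶ Y) (x : X) :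
    Function.Injective (FixPt.cotangentMapAt f x (f x) rfl) ↔
      Function.Injective (Ideal.mapCotangent (maximalIdeal (Y.presheaf.stalk (f x)))
        (maximalIdeal (X.presheaf.stalk x)) (f.stalkMap x).hom.toIntAlgHom (hle f x)) := by
  unfold FixPt.cotangentMapAt
  exact injective_congr _ _ (stalkMapAt_rfl f x) _ _

set_option maxHeartbeats 1600000 in
theorem main (k : Type u) [Field k] [IsAlgClosed k]
    {X Y : Scheme.{u}} (qX : X ⟶ Spec (CommRingCat.of k)) (qY : Y ⟶ Spec (CommRingCat.of k))
    [IsIntegral X] [LocallyOfFiniteType qX] [Smooth qX]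
    [IsIntegral Y] [LocallyOfFiniteType qY] [Smooth qY]
    (f : X ⟶ Y) (hf : f ≫ qY = qX) (n dY : ℕ) (hY : topologicalKrullDim ↥Y = dY)
    (hX : topologicalKrullDim ↥X = ((dY + n : ℕ) : WithBot ℕ∞)) :
    SmoothOfRelativeDimension n f ↔
      ∀ x : X, IsClosed ({x} : Set ↥X) →
        Function.Injective (FixPt.cotangentMapAt f x (f.base x) rfl) := by
  haveI hlftc : LocallyOfFiniteType (f ≫ qY) := by rw [hf]; infer_instance
  haveI hsmc : Smooth (f ≫ qY) := by rw [hf]; infer_instance
  haveI : LocallyOfFiniteType f := locallyOfFiniteType_of_comp f qY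
  haveI : IsLocallyNoetherian Y := LocallyOfFiniteType.isLocallyNoetherian qY
  haveI : LocallyOfFinitePresentation f := inferInstance
  have hregY : ∀ y : Y, IsRegularLocalRing (Y.presheaf.stalk y) := fun y =>
    Groth.Agent.H70.RegBaseFlat.regular_stalk_of_mem_smoothLocus k qY y
      (by rw [qY.smoothLocus_eq_top]; trivial)
  have hregX : ∀ x : X, IsRegularLocalRing (X.presheaf.stalk x) := fun x =>
    Groth.Agent.H70.RegBaseFlat.regular_stalk_of_mem_smoothLocus k (f ≫ qY) x
      (by rw [(f ≫ qY).smoothLocus_eq_top]; trivial)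
  have hXx : ∀ x : X, FlatMor.fibreDimAt (f ≫ qY) x = ((dY + n : ℕ) : WithBot ℕ∞) := by
    intro x
    rw [Groth.Agent.S12422.fibreDimAt_eq_localDim k (f ≫ qY) x]
    haveI : IrreducibleSpace X := inferInstance
    exact Groth.Agent.S12422.localDim_eq_of_irreducible k (f ≫ qY) (dY + n) hX x
  have hYy : ∀ y : Y, FlatMor.fibreDimAt qY y = ((dY : ℕ) : WithBot ℕ∞) := by
    intro y
    rw [Groth.Agent.S12422.fibreDimAt_eq_localDim k qY y]
    haveI : IrreducibleSpace Y := inferInstance
    exact Groth.Agent.S12422.localDim_eq_of_irreducible k qY dY hY y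
  constructor
  · intro hsm x _
    haveI := hsm
    haveI : Smooth f := SmoothOfRelativeDimension.smooth n f
    rw [cotangentMapAt_injective_iff f x]
    have hxs : x ∈ f.smoothLocus := by rw [f.smoothLocus_eq_top]; trivial
    haveI := hregY (f x)
    haveI := hregX x
    haveI hfibreg := Groth.Agent.S3700.regular_fibre_of_mem_smoothLocus f x hxs
    have hflat := Groth.Agent.H49.SmoothFibre.flat_stalkMap_of_mem_smoothLocus f x hxs
    have hadd0 := (Groth.Agent.H70.FibDimComp.fibreDimAt_comp f qY x).2 hflat
    have hadd := Groth.Agent.H70.StalkDimComp.stalkDim_add_of_fibreDimAt_eq f qY x hadd0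
    rw [Groth.Agent.H70.StalkDimComp.fiberStalkDim_eq_of_field k (f ≫ qY) x,
      Groth.Agent.H70.StalkDimComp.fiberStalkDim_eq_of_field k qY (f x)] at hadd
    obtain ⟨e⟩ := Groth.Agent.H29.FiberStalkAt.nonempty_fiberStalkEquiv f x
    rw [← ringKrullDim_eq_of_ringEquiv e] at hadd
    exact Groth.Agent.H70.CotangentInj.injective_of_regular_fibre (f.stalkMap x).hom (hle f x) hadd
  · intro hinj
    have key : ∀ x : X, IsClosed ({x} : Set X) → x ∈ f.smoothLocus := by
      intro x hx
      have hinjx := (cotangentMapAt_injective_iff f x).mp (hinj x hx)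
      haveI := hregY (f x)
      haveI := hregX x
      obtain ⟨e⟩ := Groth.Agent.H29.FiberStalkAt.nonempty_fiberStalkEquiv f x
      haveI : IsLocalRing (X.presheaf.stalk x ⧸ Ideal.map (f.stalkMap x).hom
          (maximalIdeal (Y.presheaf.stalk (f.base x)))) := RingEquiv.isLocalRing e.symm
      have hres : Function.Surjective (ResidueField.map (f.stalkMap x).hom) :=
        (Groth.Agent.H70.ClosedPtAlgClosed.residueFieldMap_bijective (f ≫ qY) qY f rfl x hx).2
      obtain ⟨hreg, hdim⟩ := Groth.Agent.H70.CotangentInj.regular_fibre_of_injective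
        (f.stalkMap x).hom (hle f x) hres hinjx
      haveI := hreg
      have hfib : IsRegularLocalRing ((f.fiber (f x)).presheaf.stalk (f.asFiber x)) :=
        IsRegularLocalRing.of_ringEquiv e
      rw [ringKrullDim_eq_of_ringEquiv e] at hdim
      have hflat := Groth.Agent.H70.RegBaseFlat.flat_stalkMap_of_regular f x (hregY (f x)) hfib hdim
      have hy := Groth.Agent.H70.ClosedPtAlgClosed.isClosed_singleton_image (f ≫ qY) qY f rfl x hx
      haveI : IsAlgClosed (Y.residueField (f x)) :=
        Groth.Agent.H70.ClosedPtAlgClosed.isAlgClosed_residueField qY (f x) hy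
      haveI : LocallyOfFinitePresentation (f.fiberToSpecResidueField (f x)) :=
        MorphismProperty.pullback_snd (P := @LocallyOfFinitePresentation) _ _ inferInstance
      haveI : LocallyOfFiniteType (f.fiberToSpecResidueField (f x)) := inferInstance
      have hz := Groth.Agent.S12422.smooth_of_regular (Y.residueField (f x))
        (f.fiberToSpecResidueField (f x)) (f.asFiber x) hfib
      exact (Groth.Agent.H49.SmoothFibre.mem_smoothLocus_iff_flat_and_fiber f x (f x) rfl
        (f.asFiber x) (f.fiberι_asFiber x)).mpr ⟨hflat, hz⟩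
    haveI : JacobsonSpace X := LocallyOfFiniteType.jacobsonSpace (f ≫ qY)
    have htop : f.smoothLocus = ⊤ := by
      by_contra hne
      have hZ : ((f.smoothLocus : Set X)ᶜ).Nonempty := by
        rw [Set.nonempty_compl]
        intro h
        exact hne (TopologicalSpace.Opens.ext h)
      obtain ⟨x, hxZ, hxc⟩ := nonempty_inter_closedPoints hZ
        f.smoothLocus.isOpen.isClosed_compl.isLocallyClosed
      exact hxZ (key x hxc)
    haveI : Smooth f := Scheme.Hom.smoothLocus_eq_top_iff.mp htop
    refine ⟨fun x => ?_⟩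
    have hxs : x ∈ f.smoothLocus := by rw [htop]; trivial
    obtain ⟨U, hU, V, hV, hxV, e, m, hm⟩ :=
      Groth.Agent.H70.SmoothLocusChart.exists_chart_of_mem_smoothLocus f x hxs
    have h1 := Groth.Agent.H70.SmoothCharts.fibreDimAt_of_chart f hU hV e m hm x hxV
    have hflat := Groth.Agent.H49.SmoothFibre.flat_stalkMap_of_mem_smoothLocus f x hxs
    have hadd0 := (Groth.Agent.H70.FibDimComp.fibreDimAt_comp f qY x).2 hflat
    rw [hXx x, hYy (f x), h1] at hadd0
    have h2 : dY + n = m + dY := by exact_mod_cast hadd0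
    have hmn : n = m := by omega
    subst hmn
    exact ⟨U, hU, V, hV, hxV, e, hm⟩


/-- (a)⇔(c): let k be an algebraically closed field, X and Y nonsingular varieties over k (integral,
separated, of finite type and smooth over k) with dim Y = dY and dim X = dY + n, and f : X → Y a
k-morphism. Then f is smooth of relative dimension n if and only if for every closed point x of X
the tangent map T_x f : T_x X → T_{f(x)} Y is surjective — equivalently, the cotangent map
m_{f(x)}/m_{f(x)}^2 → m_x/m_x^2 of the local rings is injective. -/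
theorem result (k : Type u) [Field k] [IsAlgClosed k]
    {X Y : Scheme.{u}} (qX : X ⟶ Spec (CommRingCat.of k)) (qY : Y ⟶ Spec (CommRingCat.of k))
    [IsIntegral X] [IsSeparated qX] [LocallyOfFiniteType qX] [QuasiCompact qX] [Smooth qX]
    [IsIntegral Y] [IsSeparated qY] [LocallyOfFiniteType qY] [QuasiCompact qY] [Smooth qY]
    (f : X ⟶ Y) (hf : f ≫ qY = qX) (n dY : ℕ) (hY : topologicalKrullDim ↥Y = dY)
    (hX : topologicalKrullDim ↥X = ((dY + n : ℕ) : WithBot ℕ∞)) :
    SmoothOfRelativeDimension n f ↔
      ∀ x : X, IsClosed ({x} : Set ↥X) → Function.Injective (FixPt.cotangentMapAt f x (f.base x) rfl) := by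
  subst hf
  exact main k (f ≫ qY) qY f rfl n dY hY hX

end Groth.Agent.S10936
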