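import Groth.Statements.S10937
import Mathlib
import Groth.Agent.S5022
import Groth.Agent.S12422
import Groth.Agent.H70.FibreJac2
import Groth.Agent.H70.StalkDimComp
import Groth.Agent.H70.RegBaseFlat
import Groth.Agent.H70.SmoothFibreDim
import Groth.Agent.H8.OmegaUniv

set_option autoImplicit false
universe u
open CategoryTheory CategoryTheory.Limits AlgebraicGeometry
open Variety

namespace Groth.Agent.S10937

set_option maxHeartbeats 1600000 in
theorem main (k : Type u) [Field k]
    {X Y : Scheme.{u}} (qX : X ⟶ Spec (CommRingCat.of k)) (qY : Y ⟶ Spec (CommRingCat.of k))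
    [IsIntegral X] [IsSeparated qX] [LocallyOfFiniteType qX]
    [IsIntegral Y] [LocallyOfFiniteType qY] [Smooth qY]
    (f : X ⟶ Y) (hf : f ≫ qY = qX) (n dY : ℕ) (hY : topologicalKrullDim ↥Y = dY)
    (hX : topologicalKrullDim ↥X = ((dY + n : ℕ) : WithBot ℕ∞)) :
    SmoothOfRelativeDimension n f ↔ FlatMod.IsFinLocFreeOfRank n (Omega.sheaf f) := by
  haveI hlftc : LocallyOfFiniteType (f ≫ qY) := by rw [hf]; infer_instance
  haveI hsepc : IsSeparated (f ≫ qY) := by rw [hf]; infer_instance
  haveI : LocallyOfFiniteType f := locallyOfFiniteType_of_comp f qY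
  haveI : IsLocallyNoetherian Y := LocallyOfFiniteType.isLocallyNoetherian qY
  haveI : LocallyOfFinitePresentation f := inferInstance
  haveI : IsSeparated f := IsSeparated.of_comp f qY
  haveI : QuasiSeparated f := inferInstance
  have hd := Groth.Agent.H8.OmegaUniv.isUniversal_dOmega f
  constructor
  · intro hsm x
    haveI := hsm
    haveI : Smooth f := SmoothOfRelativeDimension.smooth n f
    have hx : x ∈ f.smoothLocus := by rw [f.smoothLocus_eq_top]; trivial
    obtain ⟨-, U, m, hxU, hfree, hdim⟩ :=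
      (Groth.Agent.S5022.result f (Omega.sheaf f) (OmegaSh.dOmega f) hd x).mp hx
    rw [Groth.Agent.H70.SmoothFibreDim.fibreDimAt_eq n f x] at hdim
    have hmn : n = m := by exact_mod_cast hdim
    subst hmn
    exact ⟨U, hxU, hfree⟩
  · intro hfree
    have key : ∀ x : X, x ∈ f.smoothLocus ∧ FlatMor.fibreDimAt f x = (n : WithBot ℕ∞) := by
      intro x
      obtain ⟨U, hxU, ⟨eΩ⟩⟩ := hfree x
      haveI : LocallyOfFinitePresentation (f.fiberToSpecResidueField (f x)) :=
        MorphismProperty.pullback_snd (P := @LocallyOfFinitePresentation) _ _ inferInstance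
      haveI := Groth.Agent.H39.DerFin.isQuasicoherent_of_isUniversal f hd
      obtain ⟨_, ⟨T, hT, rfl⟩, hsT, -⟩ :=
        Y.isBasis_affineOpens.exists_subset_of_mem_open (Set.mem_univ (f x)) isOpen_univ
      obtain ⟨_, ⟨W, hW, rfl⟩, hxW, hWsub⟩ :=
        X.isBasis_affineOpens.exists_subset_of_mem_open
          (show x ∈ ((f ⁻¹ᵁ T) ⊓ U : X.Opens) from ⟨hsT, hxU⟩) ((f ⁻¹ᵁ T) ⊓ U).2
      have hWT : W ≤ f ⁻¹ᵁ T := fun w hw => (hWsub hw).1
      have hWU : W ≤ U := fun w hw => (hWsub hw).2
      obtain ⟨φ⟩ := Groth.Agent.H8.nonempty_sections_equiv_of_le (Omega.sheaf f) eΩ hWU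
      obtain ⟨ψ⟩ := Groth.Agent.H39.DerFin.nonempty_sections_linearEquiv_kaehler f hd hT hW hWT
      have hXx : FlatMor.fibreDimAt (f ≫ qY) x = ((dY + n : ℕ) : WithBot ℕ∞) := by
        rw [Groth.Agent.S12422.fibreDimAt_eq_localDim k (f ≫ qY) x]
        haveI : IrreducibleSpace X := inferInstance
        exact Groth.Agent.S12422.localDim_eq_of_irreducible k (f ≫ qY) (dY + n) hX x
      have hYy : FlatMor.fibreDimAt qY (f x) = ((dY : ℕ) : WithBot ℕ∞) := by
        rw [Groth.Agent.S12422.fibreDimAt_eq_localDim k qY (f x)]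
        haveI : IrreducibleSpace Y := inferInstance
        exact Groth.Agent.S12422.localDim_eq_of_irreducible k qY dY hY (f x)
      have hcomp := (Groth.Agent.H70.FibDimComp.fibreDimAt_comp f qY x).1
      rw [hXx, hYy] at hcomp
      have hle : (n : WithBot ℕ∞) ≤ FlatMor.fibreDimAt f x := by
        obtain ⟨n1, b1, -, -, h3⟩ := Groth.Agent.H9.FibreFormula.fibre_formula f x
        rw [h3] at hcomp ⊢
        have h4 : dY + n ≤ (n1 + b1) + dY := by exact_mod_cast hcomp
        have h5 : n ≤ n1 + b1 := by omega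
        exact_mod_cast h5
      obtain ⟨hz, hdim⟩ := Groth.Agent.H70.FibreJac2.asFiber_mem_smoothLocus_and_dim f x T hT W hW
        hWT hxW n ⟨ψ.symm ≪≫ₗ φ⟩ hle
      refine ⟨?_, hdim⟩
      rw [Groth.Agent.H49.SmoothFibre.mem_smoothLocus_iff_flat_and_fiber f x (f x) rfl
        (f.asFiber x) (f.fiberι_asFiber x)]
      refine ⟨?_, hz⟩
      have hregY : IsRegularLocalRing (Y.presheaf.stalk (f x)) :=
        Groth.Agent.H70.RegBaseFlat.regular_stalk_of_mem_smoothLocus k qY (f x)
          (by rw [qY.smoothLocus_eq_top]; trivial)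
      have hregF := Groth.Agent.H70.RegBaseFlat.regular_stalk_of_mem_smoothLocus
        (Y.residueField (f x)) (f.fiberToSpecResidueField (f x)) (f.asFiber x) hz
      have hadd := Groth.Agent.H70.StalkDimComp.stalkDim_add_of_fibreDimAt_eq f qY x (by
        rw [hXx, hYy, hdim]
        have : dY + n = n + dY := by omega
        rw [this]; push_cast; rfl)
      rw [Groth.Agent.H70.StalkDimComp.fiberStalkDim_eq_of_field k (f ≫ qY) x,
        Groth.Agent.H70.StalkDimComp.fiberStalkDim_eq_of_field k qY (f x)] at hadd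
      exact Groth.Agent.H70.RegBaseFlat.flat_stalkMap_of_regular f x hregY hregF hadd
    haveI : Smooth f := by
      rw [← Scheme.Hom.smoothLocus_eq_top_iff]
      exact top_le_iff.mp fun x _ => (key x).1
    refine ⟨fun x => ?_⟩
    obtain ⟨U, hU, V, hV, hxV, e, m, hm⟩ :=
      Groth.Agent.H70.SmoothLocusChart.exists_chart_of_mem_smoothLocus f x (key x).1
    have h1 := Groth.Agent.H70.SmoothCharts.fibreDimAt_of_chart f hU hV e m hm x hxV
    rw [(key x).2] at h1
    have hmn : n = m := by exact_mod_cast h1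
    subst hmn
    exact ⟨U, hU, V, hV, hxV, e, hm⟩


/-- (a)⇔(b): let k be an algebraically closed field, X and Y nonsingular varieties over k (integral,
separated, of finite type and smooth over k) with dim Y = dY and dim X = dY + n, and f : X → Y a
k-morphism. Then f is smooth of relative dimension n if and only if Ω_{X/Y} (the conormal sheaf of
the diagonal of f) is locally free of rank n. -/
theorem result (k : Type u) [Field k] [IsAlgClosed k]
    {X Y : Scheme.{u}} (qX : X ⟶ Spec (CommRingCat.of k)) (qY : Y ⟶ Spec (CommRingCat.of k))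
    [IsIntegral X] [IsSeparated qX] [LocallyOfFiniteType qX] [QuasiCompact qX] [Smooth qX]
    [IsIntegral Y] [IsSeparated qY] [LocallyOfFiniteType qY] [QuasiCompact qY] [Smooth qY]
    (f : X ⟶ Y) (hf : f ≫ qY = qX) (n dY : ℕ) (hY : topologicalKrullDim ↥Y = dY)
    (hX : topologicalKrullDim ↥X = ((dY + n : ℕ) : WithBot ℕ∞)) :
    SmoothOfRelativeDimension n f ↔ FlatMod.IsFinLocFreeOfRank n (Omega.sheaf f) := by
  exact main k qX qY f hf n dY hY hX

end Groth.Agent.S10937
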