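import Groth.Statements.S10938
import Mathlib
import Groth.Agent.H54.SchemeDim2
import Groth.Agent.H58.SardCV
import Groth.Agent.H58.SardPUSH
import Groth.Agent.H70.SardTop
import Groth.Agent.H70.SardDim
import Groth.Agent.H70.SardCore

set_option autoImplicit false
universe u
open CategoryTheory CategoryTheory.Limits AlgebraicGeometry
open Variety

set_option linter.style.haveILetI false

namespace Groth.Agent.S10938

open IsLocalRing AlgebraicGeometry CategoryTheory
open Groth.Agent.H58.SardCV Groth.Agent.H58.SardPUSH Groth.Agent.H70.SardTop Groth.Agent.H70.SardDim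
  Groth.Agent.H70.SardCore

theorem stalkMapAt_rfl {X Y : Scheme.{u}} (f : X ⟶ Y) (x : X) :
    FixPt.stalkMapAt f x (f x) rfl = (f.stalkMap x).hom := by
  unfold FixPt.stalkMapAt
  have : (Y.presheaf.stalkCongr (Inseparable.of_eq (rfl : f x = f x))).inv = 𝟙 _ := by
    simp [TopCat.Presheaf.stalkCongr]
  rw [this, Category.id_comp]

lemma mem_basicOpen_iff_notMem_primeIdealOf {X : Scheme.{u}} {U : X.Opens} (hU : IsAffineOpen U)
    (x : X) (hx : x ∈ U) (r : Γ(X, U)) :
    x ∈ X.basicOpen r ↔ r ∉ (hU.primeIdealOf ⟨x, hx⟩).asIdeal := by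
  have h1 : hU.fromSpec (hU.primeIdealOf ⟨x, hx⟩) = x := hU.fromSpec_primeIdealOf ⟨x, hx⟩
  have h2 := hU.fromSpec_preimage_basicOpen r
  constructor
  · intro h
    have h3 : hU.primeIdealOf ⟨x, hx⟩ ∈ hU.fromSpec ⁻¹ᵁ X.basicOpen r := by
      show hU.fromSpec (hU.primeIdealOf ⟨x, hx⟩) ∈ X.basicOpen r
      rw [h1]; exact h
    rw [h2] at h3
    exact h3
  · intro h
    have h3 : hU.primeIdealOf ⟨x, hx⟩ ∈ hU.fromSpec ⁻¹ᵁ X.basicOpen r := by
      rw [h2]; exact h
    rw [← h1]
    exact h3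

/-- The elementwise rank condition at a point, for the stalk map. -/
theorem elementwise_of_mem {X Y : Scheme.{u}} (f : X ⟶ Y) (r : ℕ) (x : X)
    (hx : ∃ S : Finset (IsLocalRing.CotangentSpace (X.presheaf.stalk x)), S.card ≤ r ∧
        (LinearMap.range (FixPt.cotangentMapAt f x (f.base x) rfl) : Set (IsLocalRing.CotangentSpace (X.presheaf.stalk x))) ⊆
          (Submodule.span (IsLocalRing.ResidueField (X.presheaf.stalk x))
            (S : Set (IsLocalRing.CotangentSpace (X.presheaf.stalk x))) : Set (IsLocalRing.CotangentSpace (X.presheaf.stalk x)))) :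
    ∃ s : Fin r → X.presheaf.stalk x, (∀ i, s i ∈ maximalIdeal (X.presheaf.stalk x)) ∧
      ∀ a ∈ maximalIdeal (Y.presheaf.stalk (f x)),
        (f.stalkMap x).hom a ∈ Ideal.span (Set.range s) ⊔ (maximalIdeal (X.presheaf.stalk x)) ^ 2 := by
  have := exists_elementwise_of_cotangent (FixPt.stalkMapAt f x (f x) rfl)
    (FixPt.maximalIdeal_le_comap_stalkMapAt f x (f x) rfl) r hx
  rwa [stalkMapAt_rfl] at this

/-- The elementwise rank condition transported to the localizations of an affine chart. -/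
theorem elementwise_localRingHom {X Y : Scheme.{u}} (f : X ⟶ Y) (r : ℕ) (x : X)
    (V : Y.Opens) (hV : IsAffineOpen V) (U : X.Opens) (hU : IsAffineOpen U) (hUV : U ≤ f ⁻¹ᵁ V)
    (hxU : x ∈ U)
    (H : ∃ s : Fin r → X.presheaf.stalk x, (∀ i, s i ∈ maximalIdeal (X.presheaf.stalk x)) ∧
      ∀ a ∈ maximalIdeal (Y.presheaf.stalk (f x)),
        (f.stalkMap x).hom a ∈ Ideal.span (Set.range s) ⊔ (maximalIdeal (X.presheaf.stalk x)) ^ 2) :
    ∃ s : Fin r → Localization.AtPrime (hU.primeIdealOf ⟨x, hxU⟩).asIdeal,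
      (∀ i, s i ∈ maximalIdeal (Localization.AtPrime (hU.primeIdealOf ⟨x, hxU⟩).asIdeal)) ∧
      ∀ a ∈ maximalIdeal (Localization.AtPrime (hV.primeIdealOf ⟨f x, hUV hxU⟩).asIdeal),
        Localization.localRingHom _ _ (f.appLE V U hUV).hom
          (congr($(IsAffineOpen.comap_primeIdealOf_appLE V hV U hU hUV hxU).1).symm) a ∈
          Ideal.span (Set.range s) ⊔
            (maximalIdeal (Localization.AtPrime (hU.primeIdealOf ⟨x, hxU⟩).asIdeal)) ^ 2 := by
  let e := IsAffineOpen.arrowStalkMapIso f V hV U hU hUV hxU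
  let e₁ : Y.presheaf.stalk (f x) ≃+*
      Localization.AtPrime (hV.primeIdealOf ⟨f x, hUV hxU⟩).asIdeal :=
    (Arrow.leftFunc.mapIso e).commRingCatIsoToRingEquiv
  let e₂ : X.presheaf.stalk x ≃+* Localization.AtPrime (hU.primeIdealOf ⟨x, hxU⟩).asIdeal :=
    (Arrow.rightFunc.mapIso e).commRingCatIsoToRingEquiv
  have hcomm : (Localization.localRingHom _ _ (f.appLE V U hUV).hom
      (congr($(IsAffineOpen.comap_primeIdealOf_appLE V hV U hU hUV hxU).1).symm)).comp
        e₁.toRingHom = e₂.toRingHom.comp (f.stalkMap x).hom := by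
    have hw := e.hom.w
    have := congrArg (fun h => h.hom) hw
    exact this
  haveI : IsLocalHom e₂.toRingHom := ⟨fun a ha => (isLocalHom_equiv e₂).map_nonunit a ha⟩
  exact push_elementwise _ _ e₁.toRingHom e₂.toRingHom e₁.surjective hcomm r H

set_option maxHeartbeats 1000000 in
theorem main (k : Type u) [Field k] [IsAlgClosed k] [CharZero k]
    {X Y : Scheme.{u}} (qX : X ⟶ Spec (CommRingCat.of k)) (qY : Y ⟶ Spec (CommRingCat.of k))
    [LocallyOfFiniteType qX] [QuasiCompact qX] [LocallyOfFiniteType qY] [QuasiCompact qY]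
    (f : X ⟶ Y) (hf : f ≫ qY = qX) (r : ℕ) :
    topologicalKrullDim ↥(closure (f.base '' {x : ↥X | IsClosed ({x} : Set ↥X) ∧
      ∃ S : Finset (IsLocalRing.CotangentSpace (X.presheaf.stalk x)), S.card ≤ r ∧
        (LinearMap.range (FixPt.cotangentMapAt f x (f.base x) rfl) : Set (IsLocalRing.CotangentSpace (X.presheaf.stalk x))) ⊆
          (Submodule.span (IsLocalRing.ResidueField (X.presheaf.stalk x))
            (S : Set (IsLocalRing.CotangentSpace (X.presheaf.stalk x))) : Set (IsLocalRing.CotangentSpace (X.presheaf.stalk x)))})) ≤ r := by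
  classical
  set Xr : Set X := {x : ↥X | IsClosed ({x} : Set ↥X) ∧
      ∃ S : Finset (IsLocalRing.CotangentSpace (X.presheaf.stalk x)), S.card ≤ r ∧
        (LinearMap.range (FixPt.cotangentMapAt f x (f.base x) rfl) : Set (IsLocalRing.CotangentSpace (X.presheaf.stalk x))) ⊆
          (Submodule.span (IsLocalRing.ResidueField (X.presheaf.stalk x))
            (S : Set (IsLocalRing.CotangentSpace (X.presheaf.stalk x))) : Set (IsLocalRing.CotangentSpace (X.presheaf.stalk x)))} with hXr
  haveI : LocallyOfFiniteType (f ≫ qY) := hf ▸ inferInstance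
  haveI : LocallyOfFiniteType f := locallyOfFiniteType_of_comp f qY
  haveI : IsLocallyNoetherian X := LocallyOfFiniteType.isLocallyNoetherian qX
  haveI : CompactSpace X := QuasiCompact.compactSpace_of_compactSpace qX
  haveI : IsNoetherian X := ⟨⟩
  apply topologicalKrullDim_closed_le_of_forall_tdeg_le qY _ isClosed_closure r
  intro y hy
  obtain ⟨ξ, hξ, hyξ⟩ := exists_generic_dense f.base f.continuous Xr y hy
  refine (Groth.Agent.H54.tdeg_le_of_specializes qY (specializes_iff_mem_closure.mpr hyξ)).trans ?_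
  -- charts
  obtain ⟨V, hV, hfξV, -⟩ := exists_isAffineOpen_mem_and_subset (x := f ξ) (U := ⊤) trivial
  obtain ⟨U, hU, hξU, hUV⟩ := exists_isAffineOpen_mem_and_subset (x := ξ) (U := f ⁻¹ᵁ V) hfξV
  have hUV' : U ≤ f ⁻¹ᵁ V := hUV
  let ψV : CommRingCat.of k ⟶ Γ(Y, V) := Spec.preimage (hV.fromSpec ≫ qY)
  have hψV : Spec.map ψV = hV.fromSpec ≫ qY := Spec.map_preimage _
  have hft : ψV.hom.FiniteType := by
    have h : LocallyOfFiniteType (Spec.map ψV) := by
      rw [hψV]; infer_instance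
    exact (HasRingHomProperty.Spec_iff (P := @LocallyOfFiniteType)).mp h
  letI algA : Algebra k Γ(Y, V) := ψV.hom.toAlgebra
  haveI ftA : Algebra.FiniteType k Γ(Y, V) := hft
  have hφ : (f.appLE V U hUV').hom.FiniteType :=
    HasRingHomProperty.appLE (P := @LocallyOfFiniteType) f inferInstance ⟨V, hV⟩ ⟨U, hU⟩ hUV'
  set P : Ideal Γ(X, U) := (hU.primeIdealOf ⟨ξ, hξU⟩).asIdeal with hP
  have hQ : P.comap (f.appLE V U hUV').hom = (hV.primeIdealOf ⟨f ξ, hUV' hξU⟩).asIdeal :=
    congr($(IsAffineOpen.comap_primeIdealOf_appLE V hV U hU hUV' hξU).1)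
  have htdeg : ringKrullDim (Γ(Y, V) ⧸ P.comap (f.appLE V U hUV').hom) =
      (Groth.Agent.H54.tdeg qY (f ξ) : WithBot ℕ∞) := by
    rw [hQ]
    have h1 := Groth.Agent.H54.ringKrullDim_quotient_chart qY hV.fromSpec ψV hψV hft
      (hV.primeIdealOf ⟨f ξ, hUV' hξU⟩)
    rw [hV.fromSpec_primeIdealOf ⟨f ξ, hUV' hξU⟩] at h1
    exact h1
  obtain ⟨b, hbP, hcore⟩ := core (k := k) (f.appLE V U hUV').hom hφ P
  -- the point
  have hξb : ξ ∈ X.basicOpen b := (mem_basicOpen_iff_notMem_primeIdealOf hU ξ hξU b).mpr hbP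
  obtain ⟨x, hxb, hxXr, hxξ⟩ := mem_closure_iff.mp hξ (X.basicOpen b) (X.basicOpen b).isOpen hξb
  have hxU : x ∈ U := X.basicOpen_le b hxb
  obtain ⟨hxcl, hxS⟩ := hxXr
  set m : Ideal Γ(X, U) := (hU.primeIdealOf ⟨x, hxU⟩).asIdeal with hm
  have hbm : b ∉ m := (mem_basicOpen_iff_notMem_primeIdealOf hU x hxU b).mp hxb
  have hPm : P ≤ m := by
    have hsp : ξ ⤳ x := specializes_iff_mem_closure.mpr hxξ
    have hspU : (⟨ξ, hξU⟩ : U) ⤳ ⟨x, hxU⟩ :=
      Topology.IsInducing.subtypeVal.specializes_iff.mp hsp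
    have hsp' : hU.primeIdealOf ⟨ξ, hξU⟩ ⤳ hU.primeIdealOf ⟨x, hxU⟩ :=
      hspU.map hU.isoSpec.hom.continuous
    exact (PrimeSpectrum.le_iff_specializes _ _).mpr hsp'
  haveI hmmax : m.IsMaximal := by
    rw [hm, ← PrimeSpectrum.isClosed_singleton_iff_isMaximal]
    have heq : ({hU.primeIdealOf ⟨x, hxU⟩} : Set (PrimeSpectrum Γ(X, U))) =
        hU.fromSpec ⁻¹' {x} := by
      ext p
      simp only [Set.mem_singleton_iff, Set.mem_preimage]
      constructor
      · rintro rfl
        exact hU.fromSpec_primeIdealOf ⟨x, hxU⟩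
      · intro hp
        apply hU.fromSpec.isOpenEmbedding.injective
        rw [hp]
        exact (hU.fromSpec_primeIdealOf ⟨x, hxU⟩).symm
    rw [heq]
    exact hxcl.preimage hU.fromSpec.continuous
  have hn : (hV.primeIdealOf ⟨f x, hUV' hxU⟩).asIdeal = m.comap (f.appLE V U hUV').hom :=
    (congr($(IsAffineOpen.comap_primeIdealOf_appLE V hV U hU hUV' hxU).1)).symm
  have H1 := elementwise_of_mem f r x hxS
  have H2 := elementwise_localRingHom f r x V hV U hU hUV' hxU H1
  have hfinal := hcore m (hV.primeIdealOf ⟨f x, hUV' hxU⟩).asIdeal hn hPm hbm r H2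
  rw [htdeg] at hfinal
  exact_mod_cast hfinal


/-- Let k be an algebraically closed field of characteristic zero, X and Y schemes of finite type over
k, f : X → Y a k-morphism and r a natural number. Let X_r be the set of closed points x of X such
that the tangent map T_x f : T_x X → T_{f(x)} Y has rank at most r — equivalently, the image of the
cotangent map m_{f(x)}/m_{f(x)}^2 → m_x/m_x^2 is contained in the span of at most r vectors over the
residue field. Then the closure of f(X_r) in Y has (topological Krull) dimension at most r. -/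
theorem result (k : Type u) [Field k] [IsAlgClosed k] [CharZero k]
    {X Y : Scheme.{u}} (qX : X ⟶ Spec (CommRingCat.of k)) (qY : Y ⟶ Spec (CommRingCat.of k))
    [LocallyOfFiniteType qX] [QuasiCompact qX] [LocallyOfFiniteType qY] [QuasiCompact qY]
    (f : X ⟶ Y) (hf : f ≫ qY = qX) (r : ℕ) :
    topologicalKrullDim ↥(closure (f.base '' {x : ↥X | IsClosed ({x} : Set ↥X) ∧
      ∃ S : Finset (IsLocalRing.CotangentSpace (X.presheaf.stalk x)), S.card ≤ r ∧
        (LinearMap.range (FixPt.cotangentMapAt f x (f.base x) rfl) : Set (IsLocalRing.CotangentSpace (X.presheaf.stalk x))) ⊆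
          (Submodule.span (IsLocalRing.ResidueField (X.presheaf.stalk x))
            (S : Set (IsLocalRing.CotangentSpace (X.presheaf.stalk x))) : Set (IsLocalRing.CotangentSpace (X.presheaf.stalk x)))})) ≤ r := by
  exact main k qX qY f hf r

end Groth.Agent.S10938
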