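import Groth.Statements.S10939
import Mathlib
import Groth.Agent.H21.ProjAvoid

set_option autoImplicit false
universe u
open CategoryTheory CategoryTheory.Limits AlgebraicGeometry
open Variety

namespace Groth.Agent.S10939

/-- Let k be a field, P = P^n_k = Proj k[x_0, …, x_n], and i_X : X → P, i_Y : Y → P closed immersions
with X of dimension r. Then there are homogeneous polynomials h_1, …, h_{r+1} of positive degree,
with basic opens D_j = D_+(h_j) and hypersurfaces H_j = P ∖ D_j, such that every H_j contains Y and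
X ∖ Y = ⋃_j (X ∖ H_j), i.e. every point of X outside Y lies in some D_j; moreover each X ∖ H_j = X ∩
D_j is affine. (The published statement takes X and Y reduced; the assertion only concerns the
underlying closed sets.) -/
theorem result (k : Type u) [Field k] (n r : ℕ)
    {X Y : Scheme.{u}} (iX : X ⟶ CohB1.ProjSpace n k) (iY : Y ⟶ CohB1.ProjSpace n k)
    [IsClosedImmersion iX] [IsClosedImmersion iY] (hX : topologicalKrullDim ↥X = r) :
    ∃ (h : Fin (r + 1) → MvPolynomial (Fin (n + 1)) k) (D : Fin (r + 1) → (CohB1.ProjSpace n k).Opens),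
      (∀ j, D j = Proj.basicOpen (CohB1.polyGrading n k) (h j)) ∧
      (∀ j, ∃ d : ℕ, 0 < d ∧ (h j).IsHomogeneous d) ∧
      (∀ j, Set.range iY.base ⊆ (D j : Set ↥(CohB1.ProjSpace n k))ᶜ) ∧
      (Set.range iX.base \ Set.range iY.base ⊆ ⋃ j, (D j : Set ↥(CohB1.ProjSpace n k))) ∧
      ∀ j, IsAffineOpen (iX ⁻¹ᵁ (D j)) := by
  classical
  have hXemb : Topology.IsClosedEmbedding iX.base := iX.isClosedEmbedding
  have hYemb : Topology.IsClosedEmbedding iY.base := iY.isClosedEmbedding
  have hXcl : IsClosed
      (Set.range iX.base : Set (ProjectiveSpectrum (CohB1.polyGrading n k))) :=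
    hXemb.isClosed_range
  have hYcl : IsClosed
      (Set.range iY.base : Set (ProjectiveSpectrum (CohB1.polyGrading n k))) :=
    hYemb.isClosed_range
  have hdim : Order.krullDim
      ↥(Set.range iX.base : Set (ProjectiveSpectrum (CohB1.polyGrading n k))) = r := by
    rw [← Groth.Agent.H21.ProjTop.topologicalKrullDim_subtype _ hXcl, ← hX]
    exact (IsHomeomorph.topologicalKrullDim_eq _
      hXemb.isEmbedding.toHomeomorph.isHomeomorph).symm
  obtain ⟨h, hhom, hY', hcut⟩ := Groth.Agent.H21.ProjAvoid.exists_homogeneous_cutting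
    (Set.range iX.base : Set (ProjectiveSpectrum (CohB1.polyGrading n k)))
    (Set.range iY.base : Set (ProjectiveSpectrum (CohB1.polyGrading n k)))
    hXcl hYcl r (le_of_eq hdim)
  refine ⟨h, fun j => Proj.basicOpen (CohB1.polyGrading n k) (h j), fun j => rfl, ?_, ?_, ?_, ?_⟩
  · intro j
    obtain ⟨d, hd, hmem⟩ := hhom j
    exact ⟨d, hd, (MvPolynomial.mem_homogeneousSubmodule _ _).mp hmem⟩
  · intro j y hy hmem
    exact hmem (hY' j y hy)
  · rintro x ⟨hxX, hxY⟩
    obtain ⟨i, hi⟩ := hcut x hxX hxY
    exact Set.mem_iUnion.mpr ⟨i, hi⟩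
  · intro j
    obtain ⟨d, hd, hmem⟩ := hhom j
    have hU : @IsAffineOpen (CohB1.ProjSpace n k)
        (Proj.basicOpen (CohB1.polyGrading n k) (h j)) :=
      Proj.isAffineOpen_basicOpen _ (h j) hmem hd
    exact hU.preimage iX

end Groth.Agent.S10939
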