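import Groth.Statements.S10940
import Mathlib
import Groth.Agent.H21.ProjCut

set_option autoImplicit false
universe u
open CategoryTheory CategoryTheory.Limits AlgebraicGeometry
open Variety

namespace Groth.Agent.S10940

/-- Let k be a field and X a quasi-projective variety over k of dimension r: an integral scheme with an
immersion j : X → P^n_k. Then X admits a cover by r + 1 affine open subschemes. (Consequently the
cohomology of every quasi-coherent O_X-module vanishes above degree r; that consequence is the
general vanishing above the number of affines in a cover and is not restated here. The published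
statement is for varieties over an algebraically closed field; the argument, r + 1 hypersurfaces
through the boundary of the closure of X, works over any field, so k is an arbitrary field here.) -/
theorem result (k : Type u) [Field k] (n r : ℕ)
    {X : Scheme.{u}} (j : X ⟶ CohB1.ProjSpace n k) [IsImmersion j] [IsIntegral X]
    (hX : topologicalKrullDim ↥X = r) :
    ∃ U : Fin (r + 1) → X.Opens, (∀ i, IsAffineOpen (U i)) ∧ ⨆ i, U i = ⊤ := by
  classical
  have hemb : Topology.IsEmbedding j := j.isEmbedding
  have hlc : IsLocallyClosed (Set.range j) := j.isLocallyClosed_range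
  obtain ⟨Xs, hXs⟩ : ∃ Xs : Set (ProjectiveSpectrum (CohB1.polyGrading n k)),
      Xs = Set.range j := ⟨_, rfl⟩
  obtain ⟨Y, hYdef⟩ : ∃ Y : Set (ProjectiveSpectrum (CohB1.polyGrading n k)),
      Y = (coborder Xs)ᶜ := ⟨_, rfl⟩
  have hYcl : IsClosed Y := by
    rw [hYdef, hXs]
    exact hlc.isOpen_coborder.isClosed_compl
  have hXY : ∀ x ∈ closure Xs, x ∉ Y → x ∈ Xs := by
    intro x hx hxY
    have h1 : x ∈ coborder Xs := by
      rw [hYdef] at hxY
      exact not_not.mp hxY
    by_contra hxs
    rw [coborder, Set.mem_compl_iff] at h1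
    exact h1 ⟨hx, hxs⟩
  have hdim : Order.krullDim ↥Xs ≤ (r : WithBot ℕ∞) := by
    rw [← hX]
    refine le_trans (Groth.Agent.H21.ProjCut.krullDim_le_topologicalKrullDim Xs) (le_of_eq ?_)
    rw [hXs]
    exact (IsHomeomorph.topologicalKrullDim_eq _ hemb.toHomeomorph.isHomeomorph).symm
  obtain ⟨h, hhom, hY', hcut⟩ :=
    Groth.Agent.H21.ProjCut.exists_homogeneous_cutting' Xs Y hXY hYcl r hdim
  refine ⟨fun i => j ⁻¹ᵁ (Proj.basicOpen (CohB1.polyGrading n k) (h i)), ?_, ?_⟩
  · intro i
    obtain ⟨d, hd, hmem⟩ := hhom i
    have hU : @IsAffineOpen (CohB1.ProjSpace n k)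
        (Proj.basicOpen (CohB1.polyGrading n k) (h i)) :=
      Proj.isAffineOpen_basicOpen _ (h i) hmem hd
    obtain ⟨D, hD⟩ : ∃ D : (CohB1.ProjSpace n k).Opens,
        D = Proj.basicOpen (CohB1.polyGrading n k) (h i) := ⟨_, rfl⟩
    rw [← hD] at hU
    show IsAffineOpen (j ⁻¹ᵁ Proj.basicOpen (CohB1.polyGrading n k) (h i))
    rw [← hD]
    haveI : IsAffine D.toScheme := hU
    have hDmem : ∀ z : ProjectiveSpectrum (CohB1.polyGrading n k),
        (z : CohB1.ProjSpace n k) ∈ D → h i ∉ z.asHomogeneousIdeal.toIdeal := by
      intro z hz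
      rw [hD] at hz
      exact hz
    have hrange : IsClosed (Set.range (j ∣_ D)) := by
      have h1 : Set.range (j ∣_ D) =
          (Subtype.val ⁻¹' closure (Set.range j) : Set ↥D) := by
        ext y
        constructor
        · rintro ⟨x, rfl⟩
          apply subset_closure
          exact ⟨x.1, (morphismRestrict_base_coe j D x).symm⟩
        · intro hy
          have h2 := hXY y.1 (by rw [hXs]; exact hy) (fun hyY => hDmem y.1 y.2 (hY' i y.1 hyY))
          rw [hXs] at h2
          obtain ⟨x, hx⟩ := h2
          have hxD : x ∈ j ⁻¹ᵁ D := by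
            show j x ∈ D
            rw [hx]
            exact y.2
          refine ⟨⟨x, hxD⟩, Subtype.ext ?_⟩
          rw [morphismRestrict_base_coe]
          exact hx
      rw [h1]
      exact isClosed_closure.preimage continuous_subtype_val
    haveI : IsClosedImmersion (j ∣_ D) := IsClosedImmersion.of_isPreimmersion _ hrange
    exact isAffine_of_isAffineHom (j ∣_ D)
  · rw [eq_top_iff]
    intro x _
    have hxX : j x ∈ Xs := by
      rw [hXs]
      exact ⟨x, rfl⟩
    have hxY : j x ∉ Y := by
      rw [hYdef]
      intro hy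
      exact hy (subset_coborder hxX)
    obtain ⟨i, hi⟩ := hcut _ hxX hxY
    exact TopologicalSpace.Opens.mem_iSup.mpr ⟨i, hi⟩

end Groth.Agent.S10940
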