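import Groth.Statements.S10944
import Mathlib.AlgebraicGeometry.Morphisms.UniversallyOpen

set_option autoImplicit false
universe u
open CategoryTheory AlgebraicGeometry
open FlatMor

namespace Groth.Agent.S10944

/-- Let f : X → Y be a flat morphism of Noetherian schemes and Y' an irreducible component of Y. Then
f⁻¹(Y') is the union of the irreducible components Z of X with f(Z) ⊆ Y'. -/
theorem result {X Y : Scheme.{u}}
    [IsNoetherian X] [IsNoetherian Y] (f : X ⟶ Y) [Flat f]
    (Y' : Set ↥Y) (hY' : Y' ∈ irreducibleComponents ↥Y) :
    f.base ⁻¹' Y' = ⋃₀ {Z : Set ↥X | Z ∈ irreducibleComponents ↥X ∧ f.base '' Z ⊆ Y'} := by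
  ext x
  simp only [Set.mem_preimage, Set.mem_sUnion, Set.mem_ofPred_eq]
  constructor
  · intro hx
    have hirr : IsIrreducible Y' := hY'.1
    have hcl : IsClosed Y' := isClosed_of_mem_irreducibleComponents Y' hY'
    have hη : IsGenericPoint hirr.genericPoint Y' := hirr.isGenericPoint_genericPoint hcl
    have hspec : hirr.genericPoint ⤳ f.base x := hη.specializes hx
    obtain ⟨x', hx'x, hfx'⟩ := Flat.generalizingMap f hspec
    refine ⟨irreducibleComponent x', ⟨irreducibleComponent_mem_irreducibleComponents x', ?_⟩, ?_⟩
    · have hZirr : IsIrreducible (irreducibleComponent x') := isIrreducible_irreducibleComponent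
      have himg : IsIrreducible (closure (f.base '' irreducibleComponent x')) :=
        (hZirr.image f.base f.continuous.continuousOn).closure
      have hle : Y' ⊆ closure (f.base '' irreducibleComponent x') := by
        rw [← hη.def]
        apply closure_minimal _ isClosed_closure
        rw [Set.singleton_subset_iff]
        exact subset_closure ⟨x', mem_irreducibleComponent, hfx'⟩
      exact subset_closure.trans (hY'.2 himg hle)
    · exact hx'x.mem_closed isClosed_irreducibleComponent mem_irreducibleComponent
  · rintro ⟨Z, ⟨hZ, hfZ⟩, hxZ⟩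
    exact hfZ ⟨x, hxZ, rfl⟩

end Groth.Agent.S10944
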