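import Groth.Statements.S10945

set_option autoImplicit false
open CategoryTheory CategoryTheory.Limits AlgebraicGeometry Opposite
universe u
open Coherent

namespace Groth.Agent.S10945

/-- The section of a sheaf of modules on a scheme given by a section over the whole space. -/
noncomputable def secOfTop {X : Scheme.{u}} (M : SheafOfModules.{u} X.ringCatSheaf)
    (t : M.val.obj (op ⊤)) : M.sections :=
  PresheafOfModules.sectionsMk
    (fun U => M.val.map (homOfLE (le_top : U.unop ≤ ⊤)).op t) (by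
      intro U V f
      rw [← PresheafOfModules.map_comp_apply]
      rfl)

lemma secOfTop_eval_top {X : Scheme.{u}} (M : SheafOfModules.{u} X.ringCatSheaf)
    (t : M.val.obj (op ⊤)) : (secOfTop M t).eval (op ⊤) = t := by
  change M.val.map (homOfLE (le_top : (⊤ : X.Opens) ≤ ⊤)).op t = t
  have : (homOfLE (le_top : (⊤ : X.Opens) ≤ ⊤)).op = 𝟙 (op ⊤) := Subsingleton.elim _ _
  rw [this, PresheafOfModules.map_id]
  rfl

lemma sections_eq_of_top {X : Scheme.{u}} (M : SheafOfModules.{u} X.ringCatSheaf)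
    (s s' : M.sections) (h : s.eval (op ⊤) = s'.eval (op ⊤)) : s = s' := by
  apply PresheafOfModules.sections_ext
  intro U
  have h1 := PresheafOfModules.sections_property s (homOfLE (le_top : U.unop ≤ ⊤)).op
  have h2 := PresheafOfModules.sections_property s' (homOfLE (le_top : U.unop ≤ ⊤)).op
  rw [← h1, ← h2]
  exact congrArg _ h

lemma epi_of_shortExact {C : Type*} [Category C] [Abelian C] (S : ShortComplex C) (hS : S.ShortExact)
    {A B : C} (a : A ⟶ S.X₁) [Epi a] (b : B ⟶ S.X₂) [Epi (b ≫ S.g)] :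
    Epi (coprod.desc (a ≫ S.f) b) := by
  rw [Preadditive.epi_iff_cancel_zero]
  intro T h hh
  have h1 : (a ≫ S.f) ≫ h = 0 := by
    have := congrArg (fun z => coprod.inl ≫ z) hh
    simp only [coprod.inl_desc_assoc, comp_zero] at this
    exact this
  have h2 : b ≫ h = 0 := by
    have := congrArg (fun z => coprod.inr ≫ z) hh
    simp only [coprod.inr_desc_assoc, comp_zero] at this
    exact this
  have h3 : S.f ≫ h = 0 := by
    rw [Category.assoc] at h1
    exact (cancel_epi a).mp (by rw [h1, comp_zero])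
  have : Epi S.g := hS.epi_g
  obtain ⟨h', rfl⟩ : ∃ h' : S.X₃ ⟶ T, S.g ≫ h' = h :=
    ⟨hS.exact.desc h h3, hS.exact.g_desc h h3⟩
  have h4 : (b ≫ S.g) ≫ h' = 0 := by rw [Category.assoc]; exact h2
  have h5 : h' = 0 := (cancel_epi (b ≫ S.g)).mp (by rw [h4, comp_zero])
  rw [h5, comp_zero]

/-- Let X be a scheme and 0 → F' → F → F'' → 0 a short exact sequence of O_X-modules whose map on global
sections Γ(X, F) → Γ(X, F'') is surjective. If F' and F'' are generated by global sections (each is
a quotient of a free O_X-module), then F is generated by global sections. -/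
theorem result (X : Scheme.{u})
    (S : ShortComplex X.Modules) (hS : S.ShortExact)
    (hsurj : Function.Surjective (S.g.val.app (op ⊤)).hom)
    (h1 : Curv2.IsGloballyGenerated S.X₁) (h3 : Curv2.IsGloballyGenerated S.X₃) :
    Curv2.IsGloballyGenerated S.X₂ := by
  obtain ⟨ι₁, p₁, hp₁⟩ := h1
  obtain ⟨ι₃, p₃, hp₃⟩ := h3
  -- lift the generating sections of `S.X₃`
  let s₃ : ι₃ → (S.X₃ : SheafOfModules.{u} X.ringCatSheaf).sections :=
    SheafOfModules.freeHomEquiv _ p₃
  choose t₂ ht₂ using fun i => hsurj ((s₃ i).eval (op ⊤))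
  let s₂ : ι₃ → (S.X₂ : SheafOfModules.{u} X.ringCatSheaf).sections := fun i => secOfTop _ (t₂ i)
  let q : (SheafOfModules.free ι₃ : X.Modules) ⟶ S.X₂ := (SheafOfModules.freeHomEquiv _).symm s₂
  have hq : q ≫ S.g = p₃ := by
    apply (SheafOfModules.freeHomEquiv _).injective
    funext i
    change SheafOfModules.freeHomEquiv _ (q ≫ S.g) i = s₃ i
    rw [SheafOfModules.freeHomEquiv_comp_apply]
    apply sections_eq_of_top
    have : SheafOfModules.freeHomEquiv _ q i = s₂ i := by
      simp only [q, Equiv.apply_symm_apply]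
    rw [this]
    change (S.g.val.app (op ⊤)).hom ((s₂ i).eval (op ⊤)) = _
    rw [secOfTop_eval_top]
    exact ht₂ i
  have hqg : Epi (q ≫ S.g) := hq ▸ hp₃
  have hepi := @epi_of_shortExact _ _ _ S hS _ _ p₁ hp₁ q hqg
  refine ⟨ι₁ ⊕ ι₃, (SheafOfModules.freeSumIso (R := X.ringCatSheaf) ι₁ ι₃).inv ≫
    coprod.desc (p₁ ≫ S.f) q, ?_⟩
  exact @epi_comp _ _ _ _ _ _ inferInstance _ hepi

end Groth.Agent.S10945
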