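import Groth.Statements.S10947
import Groth.Agent.H22.SerreH1
import Groth.Agent.H22.PullAmple
import Groth.Agent.H22.ResPropAmple
import Groth.Agent.H22.VeryAmpleConv
import Groth.Agent.H82.ProjFinite
import Groth.Agent.H8.CohKerCoker
import Groth.Agent.H90.QCohHom
import Groth.Agent.S0010
-- import your own Groth.Agent.* helpers here

set_option autoImplicit false
universe u
open CategoryTheory AlgebraicGeometry
open Coherent

namespace Groth.Agent.S10947


open Groth.Agent.H22.SerreH1 in
/-- `H^i` of the last term of a short exact sequence vanishes if `H^i` of the middle term and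
`H^(i+1)` of the first term do. -/
lemma subsingleton_HH_X₃ {X : Scheme.{u}} (S : ShortComplex X.Modules)
    (hS : S.ShortExact) (i : ℕ)
    (h₂ : Subsingleton (Coh.HH X S.X₂ i)) (h₁ : Subsingleton (Coh.HH X S.X₁ (i + 1))) :
    Subsingleton (Coh.HH X S.X₃ i) := by
  have hS' : (S.map (toAbF X)).ShortExact := hS.map_of_exact _
  have key : ∀ x : Abelian.Ext (constZ X) (S.map (toAbF X)).X₃ i, x = 0 := by
    intro x
    have : Subsingleton (Abelian.Ext (constZ X) (S.map (toAbF X)).X₂ i) := h₂
    have : Subsingleton (Abelian.Ext (constZ X) (S.map (toAbF X)).X₁ (i + 1)) := h₁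
    obtain ⟨x₂, hx₂⟩ := Abelian.Ext.covariant_sequence_exact₃ (constZ X) hS' x rfl
      (Subsingleton.elim _ _)
    rw [← hx₂, Subsingleton.elim x₂ 0, Abelian.Ext.zero_comp]
  exact ⟨fun a b => (key a).trans (key b).symm⟩

/-- A compact scheme has a finite affine cover indexed by `Fin t`. -/
lemma exists_fin_affine_cover (X : Scheme.{u}) [CompactSpace X] :
    ∃ (t : ℕ) (U : Fin t → X.Opens), (∀ i, IsAffineOpen (U i)) ∧ ⨆ i, U i = ⊤ := by
  classical
  obtain ⟨s, hs, e⟩ := (isCompact_iff_finite_and_eq_biUnion_affineOpens (X := X)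
    (U := (⊤ : X.Opens))).mp (by simpa using isCompact_univ)
  let e' := hs.toFinset.equivFin
  refine ⟨hs.toFinset.card, fun i => ((e'.symm i).1 : X.affineOpens).1,
    fun i => ((e'.symm i).1 : X.affineOpens).2, ?_⟩
  rw [eq_top_iff, e]
  refine iSup₂_le fun V hV => ?_
  refine le_iSup_of_le (e' ⟨V, hs.mem_toFinset.mpr hV⟩) ?_
  simp



/-- Let k be a field and X a quasi-projective scheme over k, given with an immersion ι : X → P^N_k into
a projective space. If n is a natural number with H^i(X, E) = 0 for all finite locally free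
O_X-modules E and all i > n, then H^i(X, F) = 0 for all coherent O_X-modules F (quasi-coherent of
finite type) and all i > n. -/
theorem result
    (k : Type u) [Field k] (N : ℕ) {X : Scheme.{u}} (ι : X ⟶ CohB1.ProjSpace N k) [IsImmersion ι]
    (n : ℕ) (h : ∀ E : X.Modules, FlatMod.IsFinLocFree E → ∀ i : ℕ, n < i → Subsingleton (Coh.HH X E i))
    (F : X.Modules) (hF : Coh.IsCoh F) (i : ℕ) (hi : n < i) :
    Subsingleton (Coh.HH X F i) := by
  classical
  haveI : IsLocallyNoetherian (CohB1.ProjSpace N k) :=
    Groth.Agent.H82.ProjFinite.isLocallyNoetherian N k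
  haveI : IsLocallyNoetherian X := LocallyOfFiniteType.isLocallyNoetherian ι
  have hampleP := Groth.Agent.H22.VeryAmpleConv.isAmple_N1 N k
  haveI : CompactSpace (CohB1.ProjSpace N k) := hampleP.2.1
  haveI : IsNoetherian (CohB1.ProjSpace N k) := {}
  haveI : TopologicalSpace.NoetherianSpace X := ι.isEmbedding.isInducing.noetherianSpace
  haveI : CompactSpace X := inferInstance
  have hL : CohB1.IsAmple ((Scheme.Modules.pullback ι).obj (Groth.Agent.H18.ProjUPData.N1 N k)) :=
    Groth.Agent.H22.PullAmple.isAmple_pullback_of_isEmbedding ι ι.isEmbedding hampleP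
  have hres : PerfAux.HasResolutionProperty X :=
    Groth.Agent.H22.ResPropAmple.hasResolutionProperty_of_isAmple hL
  haveI : Scheme.IsSeparated (CohB1.ProjSpace N k) :=
    inferInstanceAs (Scheme.IsSeparated (Proj (CohB1.polyGrading N k)))
  haveI : X.IsSeparated := ⟨by
    rw [show Limits.terminal.from X = ι ≫ Limits.terminal.from (CohB1.ProjSpace N k) from
      Limits.terminal.hom_ext _ _]
    infer_instance⟩
  obtain ⟨t, U, hU, hcov⟩ := exists_fin_affine_cover X
  have hhigh : ∀ (M : X.Modules), Coh.IsQCoh M → ∀ m, t ≤ m → Subsingleton (Coh.HH X M m) := by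
    intro M hM m hm
    haveI := hM
    exact Groth.Agent.S0010.result X t U hU hcov (fun V W hV hW => hV.inf hW) M m hm
  have key : ∀ d : ℕ, ∀ i : ℕ, n < i → t ≤ i + d → ∀ F : X.Modules, Coh.IsCoh F →
      Subsingleton (Coh.HH X F i) := by
    intro d
    induction d with
    | zero =>
      intro i _ hti F hF
      exact hhigh F hF.1 i (by simpa using hti)
    | succ d ih =>
      intro i hi hti F hF
      obtain ⟨E, π, hE, hπ⟩ := hres F hF.1 hF.2
      haveI := hπ
      have hK : Coh.IsCoh (Limits.kernel π) :=
        Groth.Agent.H8.isCoh_kernel (Groth.Agent.H90.QH.isCoh_of_isFinLocFree hE) hF π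
      have hS : (ShortComplex.mk (Limits.kernel.ι π) π (Limits.kernel.condition π)).ShortExact :=
        ShortComplex.ShortExact.mk'
          (ShortComplex.exact_of_f_is_kernel _ (Limits.kernelIsKernel π))
          (inferInstanceAs (Mono (Limits.kernel.ι π))) hπ
      have h1 : Subsingleton (Coh.HH X (Limits.kernel π) (i + 1)) :=
        ih (i + 1) (by omega) (by omega) _ hK
      have h2 : Subsingleton (Coh.HH X E i) := h E hE i hi
      exact subsingleton_HH_X₃ _ hS i h2 h1
  exact key t i hi (by omega) F hF

end Groth.Agent.S10947
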