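import Groth.Statements.S10949
-- import your own Groth.Agent.* helpers here
import Groth.Agent.H8.DevMain4
import Groth.Agent.S9523
import Groth.Agent.S10865
import Groth.Agent.H8.StructureCoh
import Groth.Agent.H17.ReflSheaf

set_option autoImplicit false
universe u
open CategoryTheory CategoryTheory.Limits AlgebraicGeometry
open Coherent

namespace Groth.Agent.S10949

set_option linter.style.haveILetI false
open Groth.Agent.H8.Dev TopologicalSpace AlgebraicGeometry.Scheme.Modules Groth.Agent.H17.StalkSeq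
open Groth.Agent.H31.Dev_B
open scoped ZeroObject

/-- additive functors between module categories commute with `pw`. -/
noncomputable def mapPw' {X Y : Scheme.{u}} (Φ : X.Modules ⥤ Y.Modules) [Φ.Additive] (G : X.Modules) :
    ∀ n : ℕ, Φ.obj (pw G n) ≅ pw (Φ.obj G) n
  | 0 => Φ.mapZeroObject
  | (n + 1) =>
    haveI : PreservesBinaryBiproducts Φ := preservesBinaryBiproducts_of_preservesBiproducts Φ
    Φ.mapBiprod G (pw G n) ≪≫ biprod.mapIso (Iso.refl _) (mapPw' Φ G n)

theorem nontrivial_stalk_push_structure {X Y : Scheme.{u}} [IsIntegral X] (f : X ⟶ Y) [Surjective f]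
    (y : Y) :
    ¬ Subsingleton ↑(((Scheme.Modules.pushforward f).obj (Coh.structureModule X)).presheaf.stalk y) := by
  intro hsub
  obtain ⟨x, hx⟩ := f.surjective y
  let s : Γ((Scheme.Modules.pushforward f).obj (Coh.structureModule X), ⊤) :=
    (show Γ(Coh.structureModule X, f ⁻¹ᵁ ⊤) from (1 : Γ(X, f ⁻¹ᵁ ⊤)))
  have h0 : ((Scheme.Modules.pushforward f).obj (Coh.structureModule X)).presheaf.germ ⊤ y trivial s = 0 :=
    Subsingleton.elim _ _
  obtain ⟨V, hVle, hyV, hres⟩ := Groth.Agent.H8.exists_res_eq_zero_of_germ_eq_zero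
    ((Scheme.Modules.pushforward f).obj (Coh.structureModule X)) (x := y) (U := ⊤) trivial s h0
  haveI : Nonempty ↥(f ⁻¹ᵁ V) := ⟨⟨x, by show f x ∈ V; rw [hx]; exact hyV⟩⟩
  have h1 : (X.presheaf.map (homOfLE (show f ⁻¹ᵁ V ≤ f ⁻¹ᵁ ⊤ from fun _ _ => trivial)).op).hom
      (1 : Γ(X, f ⁻¹ᵁ ⊤)) = 0 := hres
  rw [map_one] at h1
  exact one_ne_zero h1


/-- Let f : X → Y be a finite surjective morphism of integral Noetherian schemes and F a coherent
O_Y-module (quasi-coherent of finite type). Then there are an integer r ≥ 1, a coherent O_X-module G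
and a morphism of O_Y-modules β : f_*G → F^r (the coproduct of r copies of F) such that the map
induced by β on stalks of the underlying abelian sheaves at the generic point of Y is an
isomorphism. -/
theorem result
    {X Y : Scheme.{u}} [IsIntegral X] [IsNoetherian X] [IsIntegral Y] [IsNoetherian Y]
    (f : X ⟶ Y) [IsFinite f] [Surjective f] (F : Y.Modules) (hF : Coh.IsCoh F) :
    ∃ (r : ℕ) (G : X.Modules) (β : (Scheme.Modules.pushforward f).obj G ⟶ ∐ fun _ : ULift.{u} (Fin r) => F),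
      0 < r ∧ Coh.IsCoh G ∧
      IsIso ((TopCat.Presheaf.stalkFunctor AddCommGrpCat.{u} (genericPoint ↥Y)).map
        ((SheafOfModules.toSheaf Y.ringCatSheaf).map β).hom) := by
  set y := genericPoint ↥Y with hy
  letI : Field (Y.presheaf.stalk y) := inferInstanceAs (Field Y.functionField)
  have hkill : ∀ (M : Y.Modules), ∀ a ∈ IsLocalRing.maximalIdeal (Y.presheaf.stalk y),
      ∀ t : ↑(M.presheaf.stalk y), a • t = 0 := by
    intro M a ha t
    have ha0 : a = 0 := by
      by_contra hne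
      exact ha (IsUnit.mk0 a hne)
    rw [ha0, zero_smul]
  have cO : Coh.IsCoh (Coh.structureModule X) := Groth.Agent.H8.isCoh_structureModule X
  set N := (Scheme.Modules.pushforward f).obj (Coh.structureModule X) with hN
  have cN : Coh.IsCoh N := isCoh_pushforward_of_isFinite f _ cO
  haveI := Groth.Agent.H8.finite_stalk_of_isCoh _ hF y
  have hfinF : Module.length (Y.presheaf.stalk y) ↑(F.presheaf.stalk y) ≠ ⊤ := R1b _ _ (hkill F)
  obtain ⟨m, hm⟩ := ENat.ne_top_iff_exists.mp hfinF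
  haveI := Groth.Agent.H8.finite_stalk_of_isCoh _ cN y
  have hfinN : Module.length (Y.presheaf.stalk y) ↑(N.presheaf.stalk y) ≠ ⊤ := R1b _ _ (hkill N)
  obtain ⟨q, hq⟩ := ENat.ne_top_iff_exists.mp hfinN
  have hq1 : 1 ≤ q := by
    by_contra h
    have hq0 : q = 0 := by omega
    rw [hq0] at hq
    exact nontrivial_stalk_push_structure f y (Module.length_eq_zero_iff.mp hq.symm)
  have cNm := isCoh_pw cN m
  have cFq := isCoh_pw hF q
  haveI := Groth.Agent.H8.finite_stalk_of_isCoh _ cNm y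
  haveI := Groth.Agent.H8.finite_stalk_of_isCoh _ cFq y
  obtain ⟨ψ⟩ := Groth.Agent.H60.Dev.R1 (Y.presheaf.stalk y) ↑((pw N m).presheaf.stalk y)
    ↑((pw F q).presheaf.stalk y) (hkill _) (hkill _)
    (by rw [length_pw, length_pw, ← hq, ← hm, mul_comm])
  obtain ⟨Γ', p1, p2, hΓ, -, hb1, hb2⟩ := CL (pw N m) (pw F q) cNm cFq y ψ
  obtain ⟨I, n, β₀, hyI, hβ₀, hβ₀b⟩ := DL hΓ cNm p1 y hb1
  let g := β₀ ≫ p2
  have hgb : Function.Bijective (Groth.Agent.H8.stalkMap g y) := by
    have h2 : (Groth.Agent.H8.stalkMap g y : _ → _) =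
        (Groth.Agent.H8.stalkMap p2 y) ∘ (Groth.Agent.H8.stalkMap β₀ y) :=
      funext (stalkMap_comp β₀ p2 y)
    rw [h2]
    exact hb2.comp hβ₀b
  -- identify the source with a pushforward
  have cOm : Coh.IsCoh (pw (Coh.structureModule X) m) := isCoh_pw cO m
  obtain ⟨e, -⟩ := Groth.Agent.S9523.result f (pw (Coh.structureModule X) m) cOm.1 (I ^ n)
  let e1 : (Scheme.Modules.pushforward f).obj (pw (Coh.structureModule X) m) ≅ pw N m :=
    mapPw' (Scheme.Modules.pushforward f) (Coh.structureModule X) m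
  let e2 : (Dual3.idealMul (I ^ n)).obj ((Scheme.Modules.pushforward f).obj
      (pw (Coh.structureModule X) m)) ≅ (Dual3.idealMul (I ^ n)).obj (pw N m) :=
    (Dual3.idealMul (I ^ n)).mapIso e1
  obtain ⟨e3⟩ := Groth.Agent.S10865.PW F (pw F) (isZero_zero _) (fun k => ⟨Iso.refl _⟩) q
  let e4 : (∐ fun _ : Fin q => F) ≅ ∐ fun _ : ULift.{u} (Fin q) => F :=
    (Sigma.reindex Equiv.ulift (fun _ : Fin q => F)).symm
  let G := (Dual3.idealMul ((I ^ n).comap f)).obj (pw (Coh.structureModule X) m)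
  have cG : Coh.IsCoh G := isCoh_idealMul _ _ cOm
  let β : (Scheme.Modules.pushforward f).obj G ⟶ ∐ fun _ : ULift.{u} (Fin q) => F :=
    (e.symm ≪≫ e2).hom ≫ g ≫ (e3 ≪≫ e4).hom
  refine ⟨q, G, β, hq1, cG, ?_⟩
  have hβb : Function.Bijective (Groth.Agent.H8.stalkMap β y) := by
    have h2 : (Groth.Agent.H8.stalkMap β y : _ → _) =
        (Groth.Agent.H8.stalkMap (e3 ≪≫ e4).hom y) ∘ (Groth.Agent.H8.stalkMap g y) ∘
          (Groth.Agent.H8.stalkMap (e.symm ≪≫ e2).hom y) := by
      funext t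
      show Groth.Agent.H8.stalkMap ((e.symm ≪≫ e2).hom ≫ g ≫ (e3 ≪≫ e4).hom) y t = _
      rw [stalkMap_comp, stalkMap_comp]
      rfl
    rw [h2]
    exact (Groth.Agent.H17.ReflSheaf.stalkMap_bijective_of_isIso _ y).comp
      (hgb.comp (Groth.Agent.H17.ReflSheaf.stalkMap_bijective_of_isIso _ y))
  exact (ConcreteCategory.isIso_iff_bijective (Groth.Agent.H8.stalkMap β y)).mpr hβb

end Groth.Agent.S10949
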