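import Groth.Statements.S10953

set_option autoImplicit false
universe u
open RedSep

namespace Groth.Agent.S10953

open AlgebraicGeometry CategoryTheory CategoryTheory.Limits Scheme Pullback

/-- The cover of a scheme by all of its affine open subschemes. -/
noncomputable def affCover (X : Scheme.{u}) : Scheme.OpenCover.{u} X :=
  X.openCoverOfIsOpenCover (fun U : X.affineOpens => (U : X.Opens)) (by
    rw [TopologicalSpace.IsOpenCover, ← top_le_iff]
    intro x _
    obtain ⟨W, hW, hxW, -⟩ := exists_isAffineOpen_mem_and_subset (X := X) (x := x) (U := ⊤) trivial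
    exact TopologicalSpace.Opens.mem_iSup.mpr ⟨⟨W, hW⟩, hxW⟩)

set_option backward.defeqAttrib.useBackward true in
set_option backward.isDefEq.respectTransparency false in
open AlgebraicGeometry CategoryTheory in
/-- For a morphism of schemes f : X → S to an affine scheme S such that any two points of X with the
same image in S lie in one common affine open subset of X, the morphism f is separated. -/
theorem result {X S : Scheme.{u}} [IsAffine S] (f : X ⟶ S)
    (h : ∀ x y : X, f x = f y → ∃ U : X.Opens, IsAffineOpen U ∧ x ∈ U ∧ y ∈ U) :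
    IsSeparated f := by
  constructor
  let 𝒰 : Scheme.OpenCover.{u} S := Scheme.coverOfIsIso (𝟙 S)
  have hiso : ∀ i, IsIso (𝒰.f i) := fun i => inferInstanceAs (IsIso (𝟙 S))
  have hiso' : ∀ i, IsIso (pullback.fst f (𝒰.f i)) := fun i => inferInstance
  let e (i : 𝒰.I₀) : (𝒰.pullback₁ f).X i ≅ X := @asIso _ _ _ _ (pullback.fst f (𝒰.f i)) (hiso' i)
  let 𝒱 (i : 𝒰.I₀) : Scheme.OpenCover.{u} ((𝒰.pullback₁ f).X i) :=
    (affCover X).pushforwardIso (e i).inv
  have hU : ∀ i, IsAffine (𝒰.X i) := fun i => inferInstanceAs (IsAffine S)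
  have hV : ∀ i j, IsAffine ((𝒱 i).X j) := by
    intro i j
    dsimp [𝒱, affCover] at j ⊢
    exact j.2
  refine IsZariskiLocalAtTarget.of_iSup_eq_top (fun i : PUnit.{0} ↦ ⊤) (by simp) fun _ ↦ ?_
  have key : diagonalCoverDiagonalRange f 𝒰 𝒱 = ⊤ := by
    rw [← top_le_iff]
    rintro z -
    have H : f (pullback.fst f f z) = f (pullback.snd f f z) := by
      rw [← Scheme.Hom.comp_apply, ← Scheme.Hom.comp_apply, pullback.condition]
    obtain ⟨U, hUaff, hx, hy⟩ := h _ _ H
    simp only [diagonalCoverDiagonalRange, TopologicalSpace.Opens.mem_iSup]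
    let j : (𝒱 PUnit.unit).I₀ := (⟨U, hUaff⟩ : X.affineOpens)
    refine ⟨⟨PUnit.unit, j⟩, ?_⟩
    rw [Scheme.Hom.mem_opensRange, diagonalCover_map]
    change z ∈ Set.range _
    dsimp only
    have e1 : (𝒱 PUnit.unit).f j ≫ pullback.fst f (𝒰.f PUnit.unit) = U.ι := by
      simp [𝒱, affCover, e, j]
    refine (Set.ext_iff.mp (range_map _ _ _ _ _ _ _ _ _) z).mpr ⟨?_, ?_⟩
    · rw [Set.mem_preimage, e1]; exact ⟨⟨_, hx⟩, rfl⟩
    · rw [Set.mem_preimage, e1]; exact ⟨⟨_, hy⟩, rfl⟩
  rw [← key]
  exact isClosedImmersion_diagonal_restrict_diagonalCoverDiagonalRange f 𝒰 𝒱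

end Groth.Agent.S10953
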