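import Groth.Statements.S10954
import Mathlib
import Groth.Agent.H22.SerreAffine

set_option autoImplicit false
universe u
open Coherent

namespace Groth.Agent.S10954

open Groth.Agent.H22.SerreAffine

open AlgebraicGeometry CategoryTheory CategoryTheory.Limits Opposite in
/-- Let X be a quasi-compact scheme such that, for every short exact sequence 0 → F' → F → F'' → 0 of
quasi-coherent O_X-modules whose first term F' admits a monomorphism into a finite direct sum of
copies of O_X, taking global sections gives a surjection F(X) → F''(X). Then X is affine. (The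
published statement is an equivalence of three conditions on a quasi-compact scheme; this row states
the implication from exactness of global sections on such sequences to affineness.) -/
theorem result (X : Scheme.{u}) [CompactSpace X]
    (h : ∀ (S : ShortComplex X.Modules) (n : ℕ)
      (j : S.X₁ ⟶ ∏ᶜ (fun _ : Fin n => Coh.structureModule X)),
      S.ShortExact → Mono j → Coh.IsQCoh S.X₁ → Coh.IsQCoh S.X₂ → Coh.IsQCoh S.X₃ →
        Function.Surjective (S.g.val.app (op ⊤)).hom) :
    IsAffine X := by
  classical
  have hgen : ∀ (n : ℕ) (J K : X.Modules)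
      (i : J ⟶ ∏ᶜ (fun _ : Fin n => Coh.structureModule X)) (p : J ⟶ K), Mono i → Epi p →
      J.IsQuasicoherent → K.IsQuasicoherent → Function.Surjective (p.app ⊤) := by
    intro n J K i p hi hp hJ hK
    haveI := hi
    haveI := hp
    haveI := hJ
    haveI := hK
    have hS : (ShortComplex.mk (kernel.ι p) p (kernel.condition p)).ShortExact :=
      { exact := ShortComplex.exact_of_f_is_kernel _ (kernelIsKernel p)
        mono_f := by dsimp; infer_instance
        epi_g := by dsimp; infer_instance }
    exact h (ShortComplex.mk (kernel.ι p) p (kernel.condition p)) n (kernel.ι p ≫ i) hS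
      (mono_comp _ _) (Groth.Agent.H22.QCohLimits.isQuasicoherent_kernel p) hJ hK
  have h1 : H1 X := by
    intro J K i p hi hp hJ hK
    haveI := hi
    have hm : Mono (i ≫ Pi.lift (fun _ : Fin 1 => 𝟙 (Coh.structureModule X))) := by
      haveI : Mono (Pi.lift (fun _ : Fin 1 => 𝟙 (Coh.structureModule X))) :=
        mono_of_mono_fac (Pi.lift_π (fun _ : Fin 1 => 𝟙 (Coh.structureModule X)) 0)
      exact mono_comp _ _
    exact hgen 1 J K (i ≫ Pi.lift (fun _ : Fin 1 => 𝟙 (Coh.structureModule X))) p hm hp hJ hK
  obtain ⟨n, f, hf, hcov⟩ := exists_finite_cover h1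
  apply isAffine_of_isAffineOpen_basicOpen (Set.range f)
  · rw [Ideal.eq_top_iff_one]
    haveI := epi_psi' f hcov
    obtain ⟨u, hu⟩ := hgen n (∏ᶜ (fun _ : Fin n => Coh.structureModule X))
      (Coh.structureModule X) (𝟙 _) (psi' f)
      inferInstance inferInstance (isQuasicoherent_piMod n)
      (Groth.Agent.H8.isQuasicoherent_structureModule' X)
      (show Γ(Coh.structureModule X, ⊤) from (1 : Γ(X, ⊤)))
    have h2 := psi'_app_mem f u
    have h3 : (show Γ(X, ⊤) from (psi' f).app ⊤ u) = 1 := hu
    rw [h3] at h2
    exact h2
  · rintro _ ⟨k, rfl⟩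
    exact hf k

end Groth.Agent.S10954
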