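import Groth.Statements.S10955
import Mathlib
-- import your own Groth.Agent.* helpers here

set_option autoImplicit false
set_option linter.style.haveILetI false
set_option linter.unusedSectionVars false
universe u
open scoped TensorProduct
open Unram

namespace Groth.Agent.S10955

/-- Injectivity of the base change to a field, in terms of extension of functionals. -/
theorem lTensor_injective_iff_extend {R : Type u} [CommRing R] {κ : Type u} [Field κ] [Algebra R κ]
    {M N : Type u} [AddCommGroup M] [AddCommGroup N] [Module R M] [Module R N] (f : M →ₗ[R] N) :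
    Function.Injective (f.lTensor κ) ↔
      ∀ ψ : M →ₗ[R] κ, ∃ Λ : N →ₗ[R] κ, ∀ m, Λ (f m) = ψ m := by
  constructor
  · intro hinj ψ
    have hinj' : Function.Injective (f.baseChange κ) := hinj
    obtain ⟨g, hg⟩ := LinearMap.exists_leftInverse_of_injective (f.baseChange κ)
      (LinearMap.ker_eq_bot.mpr hinj')
    refine ⟨((ψ.liftBaseChange κ ∘ₗ g).restrictScalars R) ∘ₗ (TensorProduct.mk R κ N 1),
      fun m => ?_⟩
    show (ψ.liftBaseChange κ) (g ((1 : κ) ⊗ₜ[R] f m)) = ψ m
    have h1 : g ((1 : κ) ⊗ₜ[R] f m) = (1 : κ) ⊗ₜ[R] m := by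
      have h2 := LinearMap.congr_fun hg ((1 : κ) ⊗ₜ[R] m)
      rwa [LinearMap.comp_apply, LinearMap.baseChange_tmul, LinearMap.id_apply] at h2
    rw [h1, LinearMap.liftBaseChange_tmul, one_smul]
  · intro h
    rw [injective_iff_map_eq_zero]
    intro x hx
    refine (Module.forall_dual_apply_eq_zero_iff κ x).mp ?_
    intro φ
    obtain ⟨Λ, hΛ⟩ := h ((φ.restrictScalars R) ∘ₗ (TensorProduct.mk R κ M 1))
    have key : ∀ z : κ ⊗[R] M, φ z = (Λ.liftBaseChange κ) (f.lTensor κ z) := by
      intro z
      induction z using TensorProduct.induction_on with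
      | zero => rw [map_zero, map_zero, map_zero]
      | tmul a m =>
        rw [LinearMap.lTensor_tmul, LinearMap.liftBaseChange_tmul, hΛ]
        show φ (a ⊗ₜ m) = a • φ ((1 : κ) ⊗ₜ m)
        rw [← map_smul, TensorProduct.smul_tmul', smul_eq_mul, mul_one]
      | add z₁ z₂ h₁ h₂ => rw [map_add, map_add, map_add, h₁, h₂]
    rw [key x, hx, map_zero]

/-- Injectivity of the fibre of the map on differentials, in terms of extension of derivations. -/
theorem lTensor_mapBaseChange_injective_iff (A B T κ : Type u) [CommRing A] [CommRing B]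
    [CommRing T] [Algebra A B] [Algebra B T] [Algebra A T] [IsScalarTower A B T]
    [Field κ] [Algebra A κ] [Algebra B κ] [Algebra T κ] [IsScalarTower A B κ]
    [IsScalarTower A T κ] [IsScalarTower B T κ] :
    Function.Injective ((KaehlerDifferential.mapBaseChange A B T).lTensor κ) ↔
      ∀ δ : Derivation A B κ, ∃ d : Derivation A T κ, ∀ b, d (algebraMap B T b) = δ b := by
  rw [lTensor_injective_iff_extend]
  constructor
  · intro h δ
    obtain ⟨Λ, hΛ⟩ := h (δ.liftKaehlerDifferential.liftBaseChange T)
    refine ⟨Λ.compDer (KaehlerDifferential.D A T), fun b => ?_⟩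
    show Λ (KaehlerDifferential.D A T (algebraMap B T b)) = δ b
    have h1 := hΛ ((1 : T) ⊗ₜ[B] KaehlerDifferential.D A B b)
    rw [KaehlerDifferential.mapBaseChange_tmul, one_smul, KaehlerDifferential.map_D,
      LinearMap.liftBaseChange_tmul, one_smul, Derivation.liftKaehlerDifferential_comp_D] at h1
    exact h1
  · intro h ψ
    let ψ₂ : Ω[B⁄A] →ₗ[B] κ :=
      { toFun := fun ω => ψ ((1 : T) ⊗ₜ[B] ω)
        map_add' := fun x y => by rw [TensorProduct.tmul_add, map_add]
        map_smul' := fun b x => by
          rw [RingHom.id_apply, TensorProduct.tmul_smul,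
            ← algebraMap_smul T b ((1 : T) ⊗ₜ[B] x), map_smul, algebraMap_smul] }
    obtain ⟨d, hd⟩ := h (ψ₂.compDer (KaehlerDifferential.D A B))
    have key : ∀ ω : Ω[B⁄A],
        d.liftKaehlerDifferential (KaehlerDifferential.mapBaseChange A B T ((1 : T) ⊗ₜ[B] ω)) =
          ψ ((1 : T) ⊗ₜ[B] ω) := by
      intro ω
      have hω : ω ∈ Submodule.span B (Set.range (KaehlerDifferential.D A B)) := by
        rw [KaehlerDifferential.span_range_derivation]
        trivial
      refine Submodule.span_induction ?_ ?_ ?_ ?_ hω
      · rintro _ ⟨b, rfl⟩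
        rw [KaehlerDifferential.mapBaseChange_tmul, one_smul, KaehlerDifferential.map_D,
          Derivation.liftKaehlerDifferential_comp_D, hd]
        rfl
      · rw [TensorProduct.tmul_zero, map_zero, map_zero, map_zero]
      · intro x y _ _ hx hy
        rw [TensorProduct.tmul_add, map_add, map_add, map_add, hx, hy]
      · intro b x _ hx
        rw [TensorProduct.tmul_smul, ← algebraMap_smul T b ((1 : T) ⊗ₜ[B] x), map_smul,
          map_smul, map_smul, hx]
    refine ⟨d.liftKaehlerDifferential, fun m => ?_⟩
    induction m using TensorProduct.induction_on with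
    | zero => rw [map_zero, map_zero, map_zero]
    | tmul s ω =>
      have hs : s ⊗ₜ[B] ω = s • ((1 : T) ⊗ₜ[B] ω) := by
        rw [TensorProduct.smul_tmul', smul_eq_mul, mul_one]
      rw [hs, map_smul, map_smul, map_smul, key]
    | add x y hx hy => rw [map_add, map_add, map_add, hx, hy]

/-- Derivations extend along formally étale maps. -/
theorem exists_lift_kaehler (A B S K : Type u) [CommRing A] [CommRing B] [CommRing S]
    [Algebra A B] [Algebra A S] [Algebra B S] [IsScalarTower A B S] [Algebra.FormallyEtale B S]
    [CommRing K] [Algebra A K] [Algebra B K] [Algebra S K] [IsScalarTower A B K]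
    [IsScalarTower B S K] (d : Derivation A B K) :
    ∃ Λ : Ω[S⁄A] →ₗ[S] K, ∀ r : B, Λ (KaehlerDifferential.D A S (algebraMap B S r)) = d r := by
  refine ⟨(KaehlerDifferential.isBaseChange_of_formallyEtale A B S).lift d.liftKaehlerDifferential,
    fun r => ?_⟩
  rw [← KaehlerDifferential.map_D A A B S, IsBaseChange.lift_eq,
    Derivation.liftKaehlerDifferential_comp_D]

/-- Extension of derivations to `C` or to a formally étale `C`-algebra are equivalent problems. -/
theorem extend_iff_of_formallyEtale (A B C S κ : Type u) [CommRing A] [CommRing B] [CommRing C]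
    [CommRing S] [Algebra A B] [Algebra A C] [Algebra B C] [IsScalarTower A B C]
    [Algebra A S] [Algebra B S] [Algebra C S] [IsScalarTower A C S] [IsScalarTower B C S]
    [Algebra.FormallyEtale C S]
    [Field κ] [Algebra A κ] [Algebra B κ] [Algebra C κ] [Algebra S κ] [IsScalarTower A C κ]
    [IsScalarTower A S κ] [IsScalarTower C S κ] :
    (∀ δ : Derivation A B κ, ∃ d : Derivation A C κ, ∀ b, d (algebraMap B C b) = δ b) ↔
      ∀ δ : Derivation A B κ, ∃ d : Derivation A S κ, ∀ b, d (algebraMap B S b) = δ b := by
  constructor
  · intro h δ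
    obtain ⟨d, hd⟩ := h δ
    obtain ⟨Λ, hΛ⟩ := exists_lift_kaehler A C S κ d
    refine ⟨Λ.compDer (KaehlerDifferential.D A S), fun b => ?_⟩
    show Λ (KaehlerDifferential.D A S (algebraMap B S b)) = δ b
    rw [IsScalarTower.algebraMap_apply B C S, hΛ, hd]
  · intro h δ
    obtain ⟨d, hd⟩ := h δ
    refine ⟨d.compAlgebraMap C, fun b => ?_⟩
    show d (algebraMap C S (algebraMap B C b)) = δ b
    rw [← IsScalarTower.algebraMap_apply B C S, hd]

/-- Relative smoothness in a tower with smooth total space, as a splitting condition. -/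
theorem smooth_iff_split (A B S : Type u) [CommRing A] [CommRing B] [CommRing S] [Algebra A B]
    [Algebra B S] [Algebra A S] [IsScalarTower A B S] [Algebra.FormallySmooth A S] :
    Algebra.FormallySmooth B S ↔
      ∃ l', l' ∘ₗ KaehlerDifferential.mapBaseChange A B S = LinearMap.id := by
  have hex := KaehlerDifferential.exact_mapBaseChange_map A B S
  have hsurj : Function.Surjective (KaehlerDifferential.map A B S S) :=
    KaehlerDifferential.map_surjective A B S
  have hinj_of : Subsingleton (Algebra.H1Cotangent B S) →
      Function.Injective (KaehlerDifferential.mapBaseChange A B S) := by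
    intro hsub
    rw [injective_iff_map_eq_zero]
    intro x hx
    obtain ⟨z, rfl⟩ := (Algebra.H1Cotangent.exact_δ_mapBaseChange A B S x).mp hx
    rw [Subsingleton.elim z 0, map_zero]
  have hsub_of : Function.Injective (KaehlerDifferential.mapBaseChange A B S) →
      Subsingleton (Algebra.H1Cotangent B S) := by
    intro hinj
    refine ⟨fun x y => ?_⟩
    suffices h : ∀ z : Algebra.H1Cotangent B S, z = 0 by rw [h x, h y]
    intro z
    have h1 : Algebra.H1Cotangent.δ A B S z = 0 := by
      apply hinj
      rw [map_zero]
      exact (Algebra.H1Cotangent.exact_δ_mapBaseChange A B S _).mpr ⟨z, rfl⟩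
    obtain ⟨w, rfl⟩ := (Algebra.H1Cotangent.exact_map_δ A B S z).mp h1
    rw [Subsingleton.elim w 0, map_zero]
  have hiff : (Function.Injective (KaehlerDifferential.mapBaseChange A B S) ∧
      ∃ l, KaehlerDifferential.map A B S S ∘ₗ l = LinearMap.id) ↔
      (Function.Surjective (KaehlerDifferential.map A B S S) ∧
      ∃ l, l ∘ₗ KaehlerDifferential.mapBaseChange A B S = LinearMap.id) :=
    hex.split_tfae'.out 0 1
  constructor
  · intro hsm
    obtain ⟨l, hl⟩ := Module.projective_lifting_property (KaehlerDifferential.map A B S S)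
      LinearMap.id hsurj
    exact (hiff.mp ⟨hinj_of inferInstance, l, hl⟩).2
  · rintro ⟨l', hl'⟩
    obtain ⟨hinj, l, hl⟩ := hiff.mpr ⟨hsurj, l', hl'⟩
    exact ⟨Module.Projective.of_split l (KaehlerDifferential.map A B S S) hl, hsub_of hinj⟩

/-- Let A → B → C be ring homomorphisms with B and C finitely presented over A, let q be a prime ideal
of C and p its inverse image in B, and assume that C is smooth over A at q and that B is smooth over
A at p. Then C is smooth over B at q if and only if the map obtained from the canonical map C ⊗_B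
Ω_{B/A} → Ω_{C/A} by tensoring over C with the residue field k(q) is injective. -/
theorem result (A B C : Type u) [CommRing A] [CommRing B]
    [CommRing C] [Algebra A B] [Algebra B C] [Algebra A C] [IsScalarTower A B C]
    [Algebra.FinitePresentation A B] [Algebra.FinitePresentation A C] (q : Ideal C) [q.IsPrime]
    (hC : Algebra.IsSmoothAt A q) (hB : Algebra.IsSmoothAt A (q.under B)) :
    Algebra.IsSmoothAt B q ↔
      Function.Injective ((KaehlerDifferential.mapBaseChange A B C).lTensor q.ResidueField) := by
  haveI : Algebra.FormallySmooth A (Localization.AtPrime q) := hC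
  haveI : Algebra.EssFiniteType C (Localization.AtPrime q) := .of_isLocalization _ q.primeCompl
  haveI : Algebra.EssFiniteType A (Localization.AtPrime q) := .comp _ C _
  haveI : Module.Finite (Localization.AtPrime q) Ω[Localization.AtPrime q⁄A] := inferInstance
  haveI : Module.Free (Localization.AtPrime q) Ω[Localization.AtPrime q⁄A] :=
    Module.free_of_flat_of_isLocalRing
  haveI : Module.Finite B Ω[B⁄A] := inferInstance
  haveI : Module.Finite (Localization.AtPrime q) ((Localization.AtPrime q) ⊗[B] Ω[B⁄A]) :=
    inferInstance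
  haveI : Algebra.FormallyEtale C (Localization.AtPrime q) :=
    Algebra.FormallyEtale.of_isLocalization q.primeCompl
  show Algebra.FormallySmooth B (Localization.AtPrime q) ↔ _
  rw [lTensor_mapBaseChange_injective_iff A B C q.ResidueField,
    extend_iff_of_formallyEtale A B C (Localization.AtPrime q) q.ResidueField,
    ← lTensor_mapBaseChange_injective_iff A B (Localization.AtPrime q) q.ResidueField,
    ← IsLocalRing.split_injective_iff_lTensor_residueField_injective]
  exact smooth_iff_split A B (Localization.AtPrime q)

end Groth.Agent.S10955
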