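import Groth.Statements.S10956
import Mathlib.RingTheory.Kaehler.TensorProduct

set_option autoImplicit false
universe u
open CAlg
open scoped TensorProduct

namespace Groth.Agent.S10956

open KaehlerDifferential

attribute [local instance] Algebra.TensorProduct.rightAlgebra in
/-- Let R be a commutative ring, A and B commutative R-algebras and T = A ⊗_R B, an A-algebra through
the left factor. There is a T-linear map r from Ω_{T/R} to T ⊗_A Ω_{A/R} sending d(a ⊗ b) to (1 ⊗ b)
⊗ da for all a in A and b in B, and together with the canonical map Ω_{T/R} → Ω_{T/A} it identifies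
Ω_{T/R} with the product (T ⊗_A Ω_{A/R}) × Ω_{T/A}. (The published statement is the isomorphism of
(Ω_{A/R} ⊗_R B) ⊕ (A ⊗_R Ω_{B/R}) with Ω_{T/R} matching the exterior differentials; it is stated
here through the canonical identifications T ⊗_A Ω_{A/R} = Ω_{A/R} ⊗_R B and Ω_{T/A} = A ⊗_R
Ω_{B/R}.) -/
theorem result (R A B : Type u) [CommRing R] [CommRing A] [CommRing B]
    [Algebra R A] [Algebra R B] :
    ∃ r : Ω[(A ⊗[R] B)⁄R] →ₗ[A ⊗[R] B] ((A ⊗[R] B) ⊗[A] Ω[A⁄R]),
      (∀ (a : A) (b : B), r (KaehlerDifferential.D R (A ⊗[R] B) (a ⊗ₜ[R] b)) =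
          ((1 : A) ⊗ₜ[R] b) ⊗ₜ[A] KaehlerDifferential.D R A a) ∧
        Function.Bijective (fun ω : Ω[(A ⊗[R] B)⁄R] =>
          (r ω, KaehlerDifferential.map R A (A ⊗[R] B) (A ⊗[R] B) ω)) := by
  let r : Ω[(A ⊗[R] B)⁄R] →ₗ[A ⊗[R] B] ((A ⊗[R] B) ⊗[A] Ω[A⁄R]) :=
    (tensorKaehlerEquiv R B A (A ⊗[R] B)).symm.toLinearMap ∘ₗ
      KaehlerDifferential.map R B (A ⊗[R] B) (A ⊗[R] B)
  have hr : ∀ (a : A) (b : B), r (KaehlerDifferential.D R (A ⊗[R] B) (a ⊗ₜ[R] b)) =
      ((1 : A) ⊗ₜ[R] b) ⊗ₜ[A] KaehlerDifferential.D R A a := by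
    intro a b
    simp only [r, LinearMap.comp_apply, LinearEquiv.coe_coe, KaehlerDifferential.map_D]
    simp only [Algebra.algebraMap_self, RingHom.id_apply]
    rw [tensorKaehlerEquiv_symm_D_tmul']
    rfl
  have hretr : ∀ x, r (mapBaseChange R A (A ⊗[R] B) x) = x := by
    intro x
    induction x with
    | zero => simp
    | add x y hx hy => rw [map_add, map_add, hx, hy]
    | tmul t w =>
      rw [mapBaseChange_tmul, map_smul]
      obtain ⟨w, rfl⟩ := KaehlerDifferential.linearCombination_surjective R A w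
      induction w using Finsupp.induction_linear with
      | zero => simp
      | add f g hf hg => simp only [map_add, smul_add, TensorProduct.tmul_add, hf, hg]
      | single a c =>
        simp only [Finsupp.linearCombination_single, map_smul, KaehlerDifferential.map_D]
        have : algebraMap A (A ⊗[R] B) a = a ⊗ₜ[R] (1 : B) := rfl
        rw [this, ← algebraMap_smul (A ⊗[R] B) c, map_smul, hr a 1, ← Algebra.TensorProduct.one_def,
          TensorProduct.smul_tmul', TensorProduct.smul_tmul', smul_eq_mul, smul_eq_mul, mul_one,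
          ← TensorProduct.smul_tmul, Algebra.smul_def, mul_comm]
  refine ⟨r, hr, ?_, ?_⟩
  · intro ω₁ ω₂ h
    have h1 : r (ω₁ - ω₂) = 0 := by
      rw [map_sub, sub_eq_zero]; exact congrArg Prod.fst h
    have h2 : KaehlerDifferential.map R A (A ⊗[R] B) (A ⊗[R] B) (ω₁ - ω₂) = 0 := by
      rw [map_sub, sub_eq_zero]; exact congrArg Prod.snd h
    obtain ⟨x, hx⟩ := (exact_mapBaseChange_map R A (A ⊗[R] B) (ω₁ - ω₂)).mp h2
    have : x = 0 := by rw [← hretr x, hx, h1]
    rw [this, map_zero] at hx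
    exact sub_eq_zero.mp hx.symm
  · rintro ⟨x, y⟩
    obtain ⟨ω₀, hω₀⟩ := KaehlerDifferential.map_surjective R A (A ⊗[R] B) y
    refine ⟨ω₀ + mapBaseChange R A (A ⊗[R] B) (x - r ω₀), ?_⟩
    have h0 : KaehlerDifferential.map R A (A ⊗[R] B) (A ⊗[R] B)
        (mapBaseChange R A (A ⊗[R] B) (x - r ω₀)) = 0 :=
      (exact_mapBaseChange_map R A (A ⊗[R] B) _).mpr ⟨_, rfl⟩
    simp only [map_add, hretr, h0, hω₀, add_zero]
    congr 1
    abel

end Groth.Agent.S10956
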