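import Groth.Statements.S10959
import Groth.Agent.H93.GrpAff

set_option autoImplicit false
universe u
open CategoryTheory MonoidalCategory CartesianMonoidalCategory MonObj GrpObj AlgebraicGeometry
open AbVar

namespace Groth.Agent.S10959

/-- Let K be an algebraically closed field and A an abelian variety over K (a group scheme over Spec K
with proper smooth structure morphism and irreducible underlying space). Let Z be a closed subset of
A which is not all of A, and z a K-valued point of A. Then there is a K-valued point x of A such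
that the point underlying z lies neither in the translate of Z by x nor in the translate of Z by the
inverse of x; here the translation by x is the morphism A → A given on points by a ↦ a·x, the
product of the identity and the constant map x in the group of morphisms into A. (The published
statement takes Z to be the support of an effective divisor; this row allows any closed subset other
than A.) -/
theorem result
    (K : Type u) [Field K] [IsAlgClosed K] (A : Over (Spec (CommRingCat.of K)))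
    [GrpObj A] [IsProper A.hom] [Smooth A.hom] [IrreducibleSpace A.left]
    (Z : Set A.left) (hZ : IsClosed Z) (hZne : Z ≠ Set.univ)
    (z : 𝟙_ (Over (Spec (CommRingCat.of K))) ⟶ A) :
    ∃ x : 𝟙_ (Over (Spec (CommRingCat.of K))) ⟶ A,
      Disjoint (Set.range z.left.base)
        ((𝟙 A * (toUnit A ≫ x)).left.base '' Z ∪ (𝟙 A * (toUnit A ≫ x)⁻¹).left.base '' Z) := by
  classical
  haveI : LocallyOfFiniteType A.hom := inferInstance
  haveI hJ : JacobsonSpace A.left := LocallyOfFiniteType.jacobsonSpace A.hom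
  have hinv : ∀ (φ : A ≅ A) (c : A.left), φ.inv.left.base (φ.hom.left.base c) = c := fun φ c =>
    congrArg (fun m : A ⟶ A => m.left.base c) φ.hom_inv_id
  have hsurj : ∀ (φ : A ≅ A) (c : A.left), φ.hom.left.base (φ.inv.left.base c) = c := fun φ c =>
    congrArg (fun m : A ⟶ A => m.left.base c) φ.inv_hom_id
  have hinj : ∀ φ : A ≅ A, Function.Injective φ.hom.left.base := by
    intro φ a b hab
    rw [← hinv φ a, ← hinv φ b, hab]
  obtain ⟨u, hu⟩ : ∃ u, u ∉ Z := by
    by_contra h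
    push Not at h
    exact hZne (Set.eq_univ_of_forall h)
  obtain ⟨ψ₂, hψ₂⟩ : ∃ ψ₂ : A ≅ A, ψ₂ = Groth.Agent.H93.GrpAff.mulLeftIso A z := ⟨_, rfl⟩
  obtain ⟨ψ₁, hψ₁⟩ : ∃ ψ₁ : A ≅ A,
      ψ₁ = Groth.Agent.H93.GrpAff.invIso A ≪≫ Groth.Agent.H93.GrpAff.mulLeftIso A z := ⟨_, rfl⟩
  have hV₁o : IsOpen (ψ₁.hom.left.base ⁻¹' Zᶜ) :=
    hZ.isOpen_compl.preimage ψ₁.hom.left.continuous
  have hV₂o : IsOpen (ψ₂.hom.left.base ⁻¹' Zᶜ) :=
    hZ.isOpen_compl.preimage ψ₂.hom.left.continuous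
  have hV₁ne : (ψ₁.hom.left.base ⁻¹' Zᶜ).Nonempty := by
    refine ⟨ψ₁.inv.left.base u, ?_⟩
    show ψ₁.hom.left.base (ψ₁.inv.left.base u) ∉ Z
    rw [hsurj ψ₁ u]; exact hu
  have hV₂ne : (ψ₂.hom.left.base ⁻¹' Zᶜ).Nonempty := by
    refine ⟨ψ₂.inv.left.base u, ?_⟩
    show ψ₂.hom.left.base (ψ₂.inv.left.base u) ∉ Z
    rw [hsurj ψ₂ u]; exact hu
  obtain ⟨w, hw⟩ := nonempty_preirreducible_inter hV₁o hV₂o hV₁ne hV₂ne
  obtain ⟨x₀, hx₀V, hx₀cl⟩ :=
    nonempty_inter_closedPoints ⟨w, hw⟩ (hV₁o.inter hV₂o).isLocallyClosed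
  obtain ⟨x, hx⟩ := Groth.Agent.H93.GrpAff.exists_rational A x₀ hx₀cl
  refine ⟨x, ?_⟩
  have h1 : Groth.Agent.H93.GrpAff.pt A (z * x⁻¹) ∉ Z := by
    have h0 : ψ₁.hom.left.base x₀ ∉ Z := hx₀V.1
    rw [← hx] at h0
    have e : ψ₁.hom.left (Groth.Agent.H93.GrpAff.pt A x) =
        Groth.Agent.H93.GrpAff.pt A (x ≫ ψ₁.hom) := Groth.Agent.H93.GrpAff.iso_pt A ψ₁.hom x
    have e2 : x ≫ ψ₁.hom = z * x⁻¹ := by
      rw [hψ₁, Iso.trans_hom, ← Category.assoc, Groth.Agent.H93.GrpAff.comp_mulLeftIso]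
      rfl
    rw [e2] at e
    rw [← e]
    exact h0
  have h2 : Groth.Agent.H93.GrpAff.pt A (z * x) ∉ Z := by
    have h0 : ψ₂.hom.left.base x₀ ∉ Z := hx₀V.2
    rw [← hx] at h0
    have e : ψ₂.hom.left (Groth.Agent.H93.GrpAff.pt A x) =
        Groth.Agent.H93.GrpAff.pt A (x ≫ ψ₂.hom) := Groth.Agent.H93.GrpAff.iso_pt A ψ₂.hom x
    have e2 : x ≫ ψ₂.hom = z * x := by
      rw [hψ₂, Groth.Agent.H93.GrpAff.comp_mulLeftIso]
    rw [e2] at e
    rw [← e]
    exact h0
  haveI : Subsingleton ↥(𝟙_ (Over (Spec (CommRingCat.of K)))).left :=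
    inferInstanceAs (Subsingleton (PrimeSpectrum K))
  rw [Set.disjoint_left]
  rintro a ⟨p, rfl⟩ ha
  have hp : z.left.base p = Groth.Agent.H93.GrpAff.pt A z := by
    have : p = IsLocalRing.closedPoint K := Subsingleton.elim _ _
    rw [this]; rfl
  rw [hp] at ha
  rcases ha with ⟨w', hwZ, hwe⟩ | ⟨w', hwZ, hwe⟩
  · have e : (GrpObj.mulRight x).hom.left (Groth.Agent.H93.GrpAff.pt A (z * x⁻¹)) =
        Groth.Agent.H93.GrpAff.pt A ((z * x⁻¹) ≫ (GrpObj.mulRight x).hom) :=
      Groth.Agent.H93.GrpAff.iso_pt A _ _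
    rw [Groth.Agent.H93.GrpAff.comp_mulRight, _root_.inv_mul_cancel_right] at e
    have e' : (GrpObj.mulRight x).hom.left.base w' =
        (GrpObj.mulRight x).hom.left.base (Groth.Agent.H93.GrpAff.pt A (z * x⁻¹)) :=
      hwe.trans e.symm
    have hw' : w' = Groth.Agent.H93.GrpAff.pt A (z * x⁻¹) := hinj (GrpObj.mulRight x) e'
    exact h1 (hw' ▸ hwZ)
  · have hmr : (𝟙 A * (toUnit A ≫ x)⁻¹) = (GrpObj.mulRight x⁻¹).hom := by
      have h3 : (toUnit A ≫ x)⁻¹ = toUnit A ≫ x⁻¹ := by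
        rw [Hom.inv_def, Hom.inv_def, Category.assoc]
      rw [h3]; rfl
    rw [hmr] at hwe
    have e : (GrpObj.mulRight x⁻¹).hom.left (Groth.Agent.H93.GrpAff.pt A (z * x)) =
        Groth.Agent.H93.GrpAff.pt A ((z * x) ≫ (GrpObj.mulRight x⁻¹).hom) :=
      Groth.Agent.H93.GrpAff.iso_pt A _ _
    rw [Groth.Agent.H93.GrpAff.comp_mulRight, _root_.mul_inv_cancel_right] at e
    have e' : (GrpObj.mulRight x⁻¹).hom.left.base w' =
        (GrpObj.mulRight x⁻¹).hom.left.base (Groth.Agent.H93.GrpAff.pt A (z * x)) :=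
      hwe.trans e.symm
    have hw' : w' = Groth.Agent.H93.GrpAff.pt A (z * x) := hinj (GrpObj.mulRight x⁻¹) e'
    exact h2 (hw' ▸ hwZ)

end Groth.Agent.S10959
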