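import Groth.Statements.S10962
import Groth.Agent.S0844
import Groth.Agent.H18.AmpleTwistGG
import Groth.Agent.H18.GlobGenConv
import Groth.Agent.H18.TwistAmple
import Groth.Agent.H18.ProjSpaceGlobal
import Groth.Agent.H18.ProjSpaceSection

set_option autoImplicit false
universe u
open CategoryTheory CategoryTheory.Limits AlgebraicGeometry TopologicalSpace
open SDiv

namespace Groth.Agent.S10962

/-- Let R be a nonzero ring and n ≥ 1, and let X be projective n-space over R. For an integer d, the
Serre twist O_X(d) is ample if and only if d > 0. (Ample is taken in the sense that X is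
quasi-compact and covered by the affine open non-vanishing loci X_s of global sections s of positive
tensor powers; for the quasi-compact separated scheme X this agrees with the definition through
finitely many generating sections with quasi-affine non-vanishing loci. The published remark also
asserts that O_X(d) is very ample relative to R for d > 0; that clause is not part of this row.) -/
theorem result (R : Type u) [CommRing R] [Nontrivial R] (n : ℕ) (hn : 1 ≤ n) (d : ℤ) :
    CohB1.IsAmple (Twist.twistProjSpace n R d) ↔ 0 < d := by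
  classical
  have hcov1 : ∀ y : ProjectiveSpectrum (CohB1.polyGrading n R),
      ∃ g ∈ CohB1.polyGrading n R 1, g ∉ y.asHomogeneousIdeal := by
    intro y
    by_contra hcon
    push Not at hcon
    apply y.not_irrelevant_le
    intro a ha
    have h1 := Groth.Agent.H18.ProjSpaceGlobal.irrelevant_le_span n R ha
    have hle : Ideal.span (Set.range
        (MvPolynomial.X : Fin (n + 1) → MvPolynomial (Fin (n + 1)) R)) ≤
        y.asHomogeneousIdeal.toIdeal := by
      rw [Ideal.span_le]
      rintro _ ⟨i, rfl⟩
      exact hcon _ (Groth.Agent.H18.ProjSpaceGlobal.Xmem n R i)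
    exact hle h1
  have hc : CompactSpace (Proj (CohB1.polyGrading n R)) := by
    refine Groth.Agent.H18.TwistAmple.compactSpace_of_finite_cover (CohB1.polyGrading n R)
      (fun i : Fin (n + 1) => (MvPolynomial.X i : MvPolynomial (Fin (n + 1)) R))
      (fun _ => 1) (fun _ => Nat.one_pos) (fun i => Groth.Agent.H18.ProjSpaceGlobal.Xmem n R i) (fun y => ?_)
    by_contra hcon
    push Not at hcon
    apply y.not_irrelevant_le
    intro a ha
    have h1 := Groth.Agent.H18.ProjSpaceGlobal.irrelevant_le_span n R ha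
    have hle : Ideal.span (Set.range
        (MvPolynomial.X : Fin (n + 1) → MvPolynomial (Fin (n + 1)) R)) ≤
        y.asHomogeneousIdeal.toIdeal := by
      rw [Ideal.span_le]
      rintro _ ⟨i, rfl⟩
      exact hcon i
    exact hle h1
  obtain ⟨hinvk, htens, -⟩ := Groth.Agent.H18.TwistTensor.twist_package (CohB1.polyGrading n R) hcov1
  have hUFk : ∀ k : ℤ, Groth.Agent.H18.TwistTensor.HasUnitFrac (CohB1.polyGrading n R) k := by
    intro k
    have h := Groth.Agent.H18.TwistTensor.hasUnitFrac_of_cover (CohB1.polyGrading n R) 1 k hcov1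
    rwa [Nat.cast_one, mul_one] at h
  constructor
  · intro hL
    by_contra hd
    push Not at hd
    haveI := hc
    haveI : QuasiSeparatedSpace (Proj (CohB1.polyGrading n R)) := inferInstance
    have hL' : CohB1.IsAmple (Twist.twist (CohB1.polyGrading n R) d) := hL
    obtain ⟨n₀, hn₀, h⟩ := Groth.Agent.H18.AmpleTwistGG.main hL' (hinvk (-1))
    obtain ⟨-, hgg⟩ := h n₀ le_rfl
    have hpow : ∀ k : ℕ, Nonempty (CohB1.tensorPow (Twist.twist (CohB1.polyGrading n R) d) k ≅
        Twist.twist (CohB1.polyGrading n R) ((k : ℤ) * d)) := by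
      intro k
      induction k with
      | zero =>
        obtain ⟨e0⟩ := Groth.Agent.H18.TwistTensor.nonempty_twist_zero_iso (CohB1.polyGrading n R)
        have h0 : ((0 : ℕ) : ℤ) * d = 0 := by simp
        rw [h0]
        exact ⟨e0.symm⟩
      | succ k ih =>
        obtain ⟨e⟩ := ih
        obtain ⟨e1⟩ := htens ((k : ℤ) * d) d
        obtain ⟨e2⟩ := Groth.Agent.H18.TensorModIso.nonempty_tensorMod_congr e
          (Iso.refl (Twist.twist (CohB1.polyGrading n R) d))
        have hk : ((k + 1 : ℕ) : ℤ) * d = (k : ℤ) * d + d := by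
          push_cast; ring
        rw [hk]
        exact ⟨e2 ≪≫ e1⟩
    obtain ⟨e⟩ := hpow n₀
    obtain ⟨e1⟩ := htens ((n₀ : ℤ) * d) (-1)
    obtain ⟨e2⟩ := Groth.Agent.H18.TensorModIso.nonempty_tensorMod_congr e
      (Iso.refl (Twist.twist (CohB1.polyGrading n R) (-1)))
    obtain ⟨k, hkdef⟩ : ∃ k : ℤ, k = (n₀ : ℤ) * d + (-1) := ⟨_, rfl⟩
    rw [← hkdef] at e1
    have hkneg : k < 0 := by
      have : (n₀ : ℤ) * d ≤ 0 := mul_nonpos_of_nonneg_of_nonpos (Int.natCast_nonneg _) hd
      omega
    -- `O(k)` is globally generated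
    have hgg' : Curv2.IsGloballyGenerated (Twist.twist (CohB1.polyGrading n R) k) := by
      obtain ⟨ι, p, hp⟩ := hgg
      have hepi : Epi (e2 ≪≫ e1).hom := ⟨fun g h w => by
        have := congrArg (fun z => (e2 ≪≫ e1).inv ≫ z) w
        simpa using this⟩
      exact ⟨ι, p ≫ (e2 ≪≫ e1).hom, @epi_comp _ _ _ _ _ p hp (e2 ≪≫ e1).hom hepi⟩
    -- but it has no global sections
    have hH : Subsingleton (Coh.HH (CohB1.ProjSpace n R) (Twist.twistProjSpace n R k) 0) :=
      Groth.Agent.S0844.result R n k 0 (fun h => by omega) (fun h => by omega)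
    have hΓ : Subsingleton (Γ(Twist.twist (CohB1.polyGrading n R) k, ⊤)) := by
      have e := Sheaf.H.equiv₀ (Coh.toAb (Twist.twistProjSpace n R k))
        (T := (⊤ : TopologicalSpace.Opens (CohB1.ProjSpace n R))) CategoryTheory.Limits.isTerminalTop
      exact ⟨fun a b => e.symm.injective (Subsingleton.elim _ _)⟩
    -- a point
    obtain ⟨s, -⟩ := Groth.Agent.H18.exists_section_projSpace_toSpec n R
    obtain ⟨x₀⟩ : Nonempty (Spec (CommRingCat.of R)) := inferInstance
    obtain ⟨x, hx⟩ : ∃ x : Proj (CohB1.polyGrading n R), x = s.base x₀ := ⟨_, rfl⟩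
    obtain ⟨V, τ, hxV, hτ⟩ := Groth.Agent.H18.TensorGen.exists_isGen (hinvk k) x
    obtain ⟨V', hV', hxV', hmem⟩ :=
      Groth.Agent.H18.GlobGenConv.ggAt_of_isGloballyGenerated _ hgg' x V τ hxV
    have hzero : (Twist.twist (CohB1.polyGrading n R) k).presheaf.map (homOfLE hV').op τ = 0 := by
      have hspan : Submodule.span Γ(Proj (CohB1.polyGrading n R), V')
          (Set.range fun g : Γ(Twist.twist (CohB1.polyGrading n R) k, ⊤) =>
            (Twist.twist (CohB1.polyGrading n R) k).presheaf.map
              (homOfLE (le_top : V' ≤ ⊤)).op g) = ⊥ := by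
        rw [Submodule.span_eq_bot]
        rintro _ ⟨g, rfl⟩
        have hg0 : g = 0 := Subsingleton.elim _ _
        subst hg0
        exact map_zero _
      rw [hspan] at hmem
      exact (Submodule.mem_bot _).mp hmem
    have hb := (hτ.res hV') V' le_rfl
    haveI : Nonempty V' := ⟨⟨x, hxV'⟩⟩
    obtain ⟨a, b, hab⟩ := exists_pair_ne Γ(Proj (CohB1.polyGrading n R), V')
    apply hab
    apply hb.1
    show a • _ = b • _
    rw [hzero, map_zero, smul_zero, smul_zero]
  · intro hd
    obtain ⟨N, hN⟩ : ∃ N : ℕ, (N : ℤ) = d := ⟨d.toNat, Int.toNat_of_nonneg hd.le⟩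
    have hNpos : 0 < N := by omega
    show CohB1.IsAmple (Twist.twist (CohB1.polyGrading n R) d)
    rw [← hN]
    refine Groth.Agent.H18.TwistAmple.isAmple_twist (CohB1.polyGrading n R) hNpos (hinvk _) hc
      (hUFk _) (fun y => ?_)
    obtain ⟨g, hg, hgy⟩ := hcov1 y
    have hgn : g ^ N ∈ CohB1.polyGrading n R N := by
      have := SetLike.pow_mem_graded N hg
      rwa [smul_eq_mul, mul_one] at this
    exact ⟨g ^ N, hgn, fun h => hgy (y.isPrime.mem_of_pow_mem _ h)⟩

end Groth.Agent.S10962
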