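import Groth.Statements.S10963
import Groth.Agent.H18.TensorGen
import Groth.Prelude.Def_MeroSh

set_option autoImplicit false
universe u
open CategoryTheory AlgebraicGeometry TopologicalSpace Opposite
open PicF

namespace Groth.Agent.S10963

open CategoryTheory AlgebraicGeometry TopologicalSpace Opposite

section Helpers

variable {X : Scheme.{u}} {ι : Type u} (U : ι → X.Opens) (η : ∀ i j : ι, (Γ(X, U i ⊓ U j))ˣ)

/-- The germ of `η i j` at `y`. -/
noncomputable def eg (i j : ι) (y : X) (hi : y ∈ U i) (hj : y ∈ U j) : X.presheaf.stalk y :=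
  X.presheaf.germ (U i ⊓ U j) y (Opens.mem_inf.mpr ⟨hi, hj⟩) (η i j : Γ(X, U i ⊓ U j))

/-- The cocycle condition. -/
def Cocycle : Prop := ∀ i j k : ι,
  X.presheaf.map (homOfLE (inf_le_inf_right (U k) inf_le_left : U i ⊓ U j ⊓ U k ≤ U i ⊓ U k)).op
      (η i k : Γ(X, U i ⊓ U k)) =
    X.presheaf.map (homOfLE (inf_le_left : U i ⊓ U j ⊓ U k ≤ U i ⊓ U j)).op
        (η i j : Γ(X, U i ⊓ U j)) *
      X.presheaf.map
        (homOfLE (inf_le_inf_right (U k) inf_le_right : U i ⊓ U j ⊓ U k ≤ U j ⊓ U k)).op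
        (η j k : Γ(X, U j ⊓ U k))

variable {U η}

lemma eg_cocycle (hη : Cocycle U η) (i j k : ι) (y : X) (hi : y ∈ U i) (hj : y ∈ U j)
    (hk : y ∈ U k) : eg U η i k y hi hk = eg U η i j y hi hj * eg U η j k y hj hk := by
  have hy : y ∈ U i ⊓ U j ⊓ U k := Opens.mem_inf.mpr ⟨Opens.mem_inf.mpr ⟨hi, hj⟩, hk⟩
  have h := congrArg (fun q => X.presheaf.germ (U i ⊓ U j ⊓ U k) y hy q) (hη i j k)
  simp only [map_mul] at h
  rw [TopCat.Presheaf.germ_res_apply, TopCat.Presheaf.germ_res_apply,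
    TopCat.Presheaf.germ_res_apply] at h
  exact h

lemma eg_isUnit (i j : ι) (y : X) (hi : y ∈ U i) (hj : y ∈ U j) : IsUnit (eg U η i j y hi hj) :=
  (η i j).isUnit.map (X.presheaf.germ (U i ⊓ U j) y (Opens.mem_inf.mpr ⟨hi, hj⟩)).hom

lemma eg_self (hη : Cocycle U η) (i : ι) (y : X) (hi : y ∈ U i) : eg U η i i y hi hi = 1 := by
  have h := eg_cocycle hη i i i y hi hi hi
  have hu := eg_isUnit (U := U) (η := η) i i y hi hi
  exact (hu.mul_left_cancel (show eg U η i i y hi hi * 1 = eg U η i i y hi hi * eg U η i i y hi hi by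
    rw [mul_one]
    exact h)).symm

lemma eg_mul_symm (hη : Cocycle U η) (i j : ι) (y : X) (hi : y ∈ U i) (hj : y ∈ U j) :
    eg U η i j y hi hj * eg U η j i y hj hi = 1 := by
  rw [← eg_cocycle hη i j i y hi hj hi, eg_self hη i y hi]

variable (U η) (c : X → ι) (hc : ∀ x, x ∈ U (c x))

/-- Families of germs which are, in the coordinate of index `i`, given by one function. -/
def Q : TopCat.PrelocalPredicate (fun x : X => (X.presheaf.stalk x : Type u)) where
  pred {W} f := ∃ (i : ι) (hW : W ≤ U i) (r : Γ(X, W)), ∀ y : W,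
    f y = X.presheaf.germ W y.1 y.2 r * eg U η i (c y.1) y.1 (hW y.2) (hc y.1)
  res {V W} k f := by
    rintro ⟨i, hW, r, h⟩
    refine ⟨i, k.le.trans hW, X.presheaf.map k.op r, fun y => ?_⟩
    rw [TopCat.Presheaf.germ_res_apply]
    exact h (k y)

variable {U η}

theorem isModPred (hη : Cocycle U η) : Mero.IsModPred (Q U η c hc).sheafify where
  zero W := fun x => ⟨W ⊓ U (c x.1), Opens.mem_inf.mpr ⟨x.2, hc x.1⟩, homOfLE inf_le_left,
    c x.1, inf_le_right, 0, fun y => by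
      show (0 : X.presheaf.stalk y.1) = _
      rw [map_zero, zero_mul]⟩
  add W f g hf hg := fun x => by
    obtain ⟨V₁, hx₁, k₁, j₁, hV₁, r₁, h₁⟩ := hf x
    obtain ⟨V₂, hx₂, k₂, j₂, hV₂, r₂, h₂⟩ := hg x
    have hle : V₁ ⊓ V₂ ≤ U j₂ ⊓ U j₁ := le_inf (inf_le_right.trans hV₂) (inf_le_left.trans hV₁)
    refine ⟨V₁ ⊓ V₂, Opens.mem_inf.mpr ⟨hx₁, hx₂⟩, homOfLE inf_le_left ≫ k₁, j₁,
      inf_le_left.trans hV₁,
      X.presheaf.map (homOfLE (inf_le_left : V₁ ⊓ V₂ ≤ V₁)).op r₁ +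
        X.presheaf.map (homOfLE (inf_le_right : V₁ ⊓ V₂ ≤ V₂)).op r₂ *
          X.presheaf.map (homOfLE hle).op (η j₂ j₁ : Γ(X, U j₂ ⊓ U j₁)), fun y => ?_⟩
    have hy₁ : y.1 ∈ V₁ := (Opens.mem_inf.mp y.2).1
    have hy₂ : y.1 ∈ V₂ := (Opens.mem_inf.mp y.2).2
    have e₁ : f (k₁ ⟨y.1, hy₁⟩) = X.presheaf.germ V₁ y.1 hy₁ r₁ *
        eg U η j₁ (c y.1) y.1 (hV₁ hy₁) (hc y.1) := h₁ ⟨y.1, hy₁⟩
    have e₂ : g (k₂ ⟨y.1, hy₂⟩) = X.presheaf.germ V₂ y.1 hy₂ r₂ *
        eg U η j₂ (c y.1) y.1 (hV₂ hy₂) (hc y.1) := h₂ ⟨y.1, hy₂⟩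
    have e₃ : X.presheaf.germ (V₁ ⊓ V₂) y.1 y.2
        (X.presheaf.map (homOfLE hle).op (η j₂ j₁ : Γ(X, U j₂ ⊓ U j₁))) =
        eg U η j₂ j₁ y.1 (hV₂ hy₂) (hV₁ hy₁) :=
      TopCat.Presheaf.germ_res_apply X.presheaf (homOfLE hle) y.1 y.2 _
    have e₄ := eg_cocycle hη j₂ j₁ (c y.1) y.1 (hV₂ hy₂) (hV₁ hy₁) (hc y.1)
    show f (k₁ ⟨y.1, hy₁⟩) + g (k₂ ⟨y.1, hy₂⟩) = _
    rw [e₁, e₂, map_add, map_mul, e₃,
      TopCat.Presheaf.germ_res_apply X.presheaf (homOfLE (inf_le_left : V₁ ⊓ V₂ ≤ V₁)) y.1 y.2 r₁,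
      TopCat.Presheaf.germ_res_apply X.presheaf (homOfLE (inf_le_right : V₁ ⊓ V₂ ≤ V₂)) y.1 y.2 r₂,
      e₄]
    ring
  smul W r f hf := fun x => by
    obtain ⟨V, hx, k, j, hV, r', h⟩ := hf x
    refine ⟨V, hx, k, j, hV, X.presheaf.map k.op r * r', fun y => ?_⟩
    have hy' : f (k y) = X.presheaf.germ V y.1 y.2 r' *
        eg U η j (c y.1) y.1 (hV y.2) (hc y.1) := h y
    show X.presheaf.germ W y.1 (k.le y.2) r • f (k y) = _
    rw [hy', map_mul, TopCat.Presheaf.germ_res_apply, smul_eq_mul, mul_assoc]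

end Helpers

/-- Let X be a scheme, (U_i)_{i ∈ ι} an open cover of X and, for all i, j, a unit η_ij of the ring of
functions on U_i ∩ U_j, such that on every triple intersection U_i ∩ U_j ∩ U_k the cocycle identity
η_ik = η_ij · η_jk holds. Then there exist an invertible O_X-module L and sections s_i of L over U_i
such that each s_i generates L over U_i — for every open V ⊆ U_i the map r ↦ r · s_i|_V from
functions on V to sections of L over V is bijective — and s_i|_{U_i ∩ U_j} = η_ij · s_j|_{U_i ∩ U_j}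
for all i, j. (This is the surjectivity of the map from invertible modules trivialised by the cover
to Čech 1-cohomology classes of the cover with values in the sheaf of units.) -/
theorem result (X : Scheme.{u}) {ι : Type u} (U : ι → X.Opens)
    (hU : iSup U = ⊤) (η : ∀ i j : ι, (Γ(X, U i ⊓ U j))ˣ)
    (hη : ∀ i j k : ι,
      X.presheaf.map (homOfLE (inf_le_inf_right (U k) inf_le_left : U i ⊓ U j ⊓ U k ≤ U i ⊓ U k)).op
          (η i k : Γ(X, U i ⊓ U k)) =
        X.presheaf.map (homOfLE (inf_le_left : U i ⊓ U j ⊓ U k ≤ U i ⊓ U j)).op (η i j : Γ(X, U i ⊓ U j)) *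
          X.presheaf.map (homOfLE (inf_le_inf_right (U k) inf_le_right : U i ⊓ U j ⊓ U k ≤ U j ⊓ U k)).op
            (η j k : Γ(X, U j ⊓ U k))) :
    ∃ (L : X.Modules) (s : ∀ i : ι, Γ(L, U i)),
      PicF.IsInvertible L ∧
      (∀ (i : ι) (V : X.Opens) (h : V ≤ U i),
        Function.Bijective (fun r : Γ(X, V) => r • L.presheaf.map (homOfLE h).op (s i))) ∧
      ∀ i j : ι, L.presheaf.map (homOfLE (inf_le_left : U i ⊓ U j ≤ U i)).op (s i) =
        (η i j : Γ(X, U i ⊓ U j)) • L.presheaf.map (homOfLE (inf_le_right : U i ⊓ U j ≤ U j)).op (s j) := by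
  classical
  have hcov : ∀ x : X, ∃ i, x ∈ U i := fun x => by
    have hx : x ∈ iSup U := by
      rw [hU]
      trivial
    exact Opens.mem_iSup.mp hx
  choose c hc using hcov
  have hη' : Cocycle U η := hη
  haveI inst : Mero.IsModPred (Q U η c hc).sheafify := isModPred c hc hη'
  obtain ⟨s, hs⟩ : ∃ s : ∀ i : ι, Γ(Mero.modOf (Q U η c hc).sheafify, U i),
      ∀ (i : ι) (y : U i), (s i).1 y = eg U η i (c y.1) y.1 y.2 (hc y.1) :=
    ⟨fun i => ⟨fun y => eg U η i (c y.1) y.1 y.2 (hc y.1),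
      fun x => ⟨U i, x.2, 𝟙 _, i, le_rfl, 1, fun y => by
        rw [map_one, one_mul]
        rfl⟩⟩, fun _ _ => rfl⟩
  have hval : ∀ (i : ι) (V : X.Opens) (h : V ≤ U i) (r : Γ(X, V)) (y : V),
      (r • (Mero.modOf (Q U η c hc).sheafify).presheaf.map (homOfLE h).op (s i)).1 y =
        X.presheaf.germ V y.1 y.2 r * eg U η i (c y.1) y.1 (h y.2) (hc y.1) := by
    intro i V h r y
    have h1 : (r • (Mero.modOf (Q U η c hc).sheafify).presheaf.map (homOfLE h).op (s i)).1 y =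
        X.presheaf.germ V y.1 y.2 r • (s i).1 ⟨y.1, h y.2⟩ := rfl
    rw [h1, hs i ⟨y.1, h y.2⟩, smul_eq_mul]
  have hgen : ∀ (i : ι) (V : X.Opens) (h : V ≤ U i),
      Function.Bijective (fun r : Γ(X, V) =>
        r • (Mero.modOf (Q U η c hc).sheafify).presheaf.map (homOfLE h).op (s i)) := by
    intro i V h
    constructor
    · intro r r' hrr
      have hrr' : r • (Mero.modOf (Q U η c hc).sheafify).presheaf.map (homOfLE h).op (s i) =
          r' • (Mero.modOf (Q U η c hc).sheafify).presheaf.map (homOfLE h).op (s i) := hrr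
      refine TopCat.Presheaf.section_ext X.sheaf V r r' (fun y hy => ?_)
      show X.presheaf.germ V y hy r = X.presheaf.germ V y hy r'
      have h1 := congrArg
        (fun t : Γ(Mero.modOf (Q U η c hc).sheafify, V) => t.1 ⟨y, hy⟩) hrr'
      simp only [] at h1
      rw [hval i V h r ⟨y, hy⟩, hval i V h r' ⟨y, hy⟩] at h1
      exact (eg_isUnit i (c y) y (h hy) (hc y)).mul_left_inj.mp h1
    · intro t
      have hloc : ∀ x : V, ∃ (W : X.Opens) (_ : W ≤ V) (_ : x.1 ∈ W) (ρ : Γ(X, W)),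
          ∀ (y : X) (hy : y ∈ W) (hyV : y ∈ V), t.1 ⟨y, hyV⟩ =
            X.presheaf.germ W y hy ρ * eg U η i (c y) y (h hyV) (hc y) := by
        intro x
        obtain ⟨W, hxW, k, j, hW, r, hr⟩ := t.2 x
        have hle : W ≤ U j ⊓ U i := le_inf hW (k.le.trans h)
        refine ⟨W, k.le, hxW, r * X.presheaf.map (homOfLE hle).op (η j i : Γ(X, U j ⊓ U i)),
          fun y hy hyV => ?_⟩
        have e1 : t.1 ⟨y, hyV⟩ = X.presheaf.germ W y hy r *
            eg U η j (c y) y (hW hy) (hc y) := hr ⟨y, hy⟩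
        have e2 : X.presheaf.germ W y hy
            (X.presheaf.map (homOfLE hle).op (η j i : Γ(X, U j ⊓ U i))) =
            eg U η j i y (hW hy) (h hyV) :=
          TopCat.Presheaf.germ_res_apply X.presheaf (homOfLE hle) y hy _
        rw [e1, map_mul, e2, eg_cocycle hη' j i (c y) y (hW hy) (h hyV) (hc y), mul_assoc]
      choose W hWV hxW ρ hρ using hloc
      have hcompat : TopCat.Presheaf.IsCompatible X.presheaf W ρ := by
        intro x x'
        change X.presheaf.map (homOfLE (inf_le_left : W x ⊓ W x' ≤ W x)).op (ρ x) =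
          X.presheaf.map (homOfLE (inf_le_right : W x ⊓ W x' ≤ W x')).op (ρ x')
        refine TopCat.Presheaf.section_ext X.sheaf _ _ _ (fun z hz => ?_)
        show X.presheaf.germ (W x ⊓ W x') z hz _ = X.presheaf.germ (W x ⊓ W x') z hz _
        rw [TopCat.Presheaf.germ_res_apply, TopCat.Presheaf.germ_res_apply]
        have hz1 : z ∈ W x := (Opens.mem_inf.mp hz).1
        have hz2 : z ∈ W x' := (Opens.mem_inf.mp hz).2
        have a1 := hρ x z hz1 (hWV x hz1)
        have a2 := hρ x' z hz2 (hWV x hz1)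
        exact (eg_isUnit i (c z) z (h (hWV x hz1)) (hc z)).mul_left_inj.mp (a1.symm.trans a2)
      have hcover : V ≤ iSup W := fun y hy => Opens.mem_iSup.mpr ⟨⟨y, hy⟩, hxW ⟨y, hy⟩⟩
      obtain ⟨σ', hσ', -⟩ := TopCat.Sheaf.existsUnique_gluing' (F := X.sheaf) W V
        (fun y => homOfLE (hWV y)) hcover ρ hcompat
      obtain ⟨σ, hσd⟩ : ∃ σ : Γ(X, V), σ = σ' := ⟨σ', rfl⟩
      have hσ : ∀ z : V, X.presheaf.map (homOfLE (hWV z)).op σ = ρ z := fun z => by
        rw [hσd]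
        exact hσ' z
      refine ⟨σ, ?_⟩
      show σ • (Mero.modOf (Q U η c hc).sheafify).presheaf.map (homOfLE h).op (s i) = t
      refine Subtype.ext (funext fun z => ?_)
      rw [hval i V h σ z]
      have h1 : X.presheaf.map (homOfLE (hWV z)).op σ = ρ z := hσ z
      have a1 := hρ z z.1 (hxW z) z.2
      rw [a1, ← h1, TopCat.Presheaf.germ_res_apply]
  refine ⟨Mero.modOf (Q U η c hc).sheafify, s, ?_, hgen, ?_⟩
  · exact Groth.Agent.H18.TensorGen.isInvertible_of_isGen _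
      (fun x => ⟨U (c x), s (c x), hc x, hgen (c x)⟩)
  · intro i j
    refine Subtype.ext (funext fun y => ?_)
    have hyi : y.1 ∈ U i := (Opens.mem_inf.mp y.2).1
    have hyj : y.1 ∈ U j := (Opens.mem_inf.mp y.2).2
    rw [hval j (U i ⊓ U j) inf_le_right (η i j : Γ(X, U i ⊓ U j)) y]
    show (s i).1 ⟨y.1, hyi⟩ = _
    rw [hs i ⟨y.1, hyi⟩]
    exact eg_cocycle hη' i j (c y.1) y.1 hyi hyj (hc y.1)

end Groth.Agent.S10963
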