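import Groth.Statements.S10964
import Groth.Agent.H95.GenIso
import Groth.Agent.H8.IsoCover

set_option autoImplicit false
universe u
open CategoryTheory AlgebraicGeometry TopologicalSpace Opposite
open PicF

namespace Groth.Agent.S10964

open CategoryTheory AlgebraicGeometry TopologicalSpace Opposite
open Groth.Agent.H8 (res_res res_smul ringRes_res app_res)
open Groth.Agent.H18.TensorGen (IsGen)
open Groth.Agent.H95.GenIso

/-- Let X be a scheme with an open cover (U_i)_{i ∈ ι}. Let L and L' be O_X-modules with sections s_i of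
L and s'_i of L' over U_i that generate there (for every open V ⊆ U_i, r ↦ r · s_i|_V is a bijection
from functions on V onto sections of L over V, and likewise for s'_i), and let η_ij, η'_ij be the
functions on U_i ∩ U_j with s_i = η_ij · s_j and s'_i = η'_ij · s'_j there. Then L and L' are
isomorphic as O_X-modules if and only if there is a family of units u_i of the rings of functions on
the U_i with η'_ij · u_i|_{U_i ∩ U_j} = u_j|_{U_i ∩ U_j} · η_ij for all i, j. (So two invertible
modules trivialised by the cover are isomorphic exactly when their transition cocycles define the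
same Čech cohomology class.) -/
theorem result (X : Scheme.{u}) {ι : Type u} (U : ι → X.Opens)
    (hU : iSup U = ⊤) (L L' : X.Modules) (s : ∀ i : ι, Γ(L, U i)) (s' : ∀ i : ι, Γ(L', U i))
    (hs : ∀ (i : ι) (V : X.Opens) (h : V ≤ U i),
        Function.Bijective (fun r : Γ(X, V) => r • L.presheaf.map (homOfLE h).op (s i)))
    (hs' : ∀ (i : ι) (V : X.Opens) (h : V ≤ U i),
        Function.Bijective (fun r : Γ(X, V) => r • L'.presheaf.map (homOfLE h).op (s' i)))
    (η η' : ∀ i j : ι, Γ(X, U i ⊓ U j))
    (hη : ∀ i j : ι, L.presheaf.map (homOfLE (inf_le_left : U i ⊓ U j ≤ U i)).op (s i) =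
        η i j • L.presheaf.map (homOfLE (inf_le_right : U i ⊓ U j ≤ U j)).op (s j))
    (hη' : ∀ i j : ι, L'.presheaf.map (homOfLE (inf_le_left : U i ⊓ U j ≤ U i)).op (s' i) =
        η' i j • L'.presheaf.map (homOfLE (inf_le_right : U i ⊓ U j ≤ U j)).op (s' j)) :
    Nonempty (L ≅ L') ↔ ∃ u : ∀ i : ι, (Γ(X, U i))ˣ, ∀ i j : ι,
      η' i j * X.presheaf.map (homOfLE (inf_le_left : U i ⊓ U j ≤ U i)).op (u i : Γ(X, U i)) =
        X.presheaf.map (homOfLE (inf_le_right : U i ⊓ U j ≤ U j)).op (u j : Γ(X, U j)) * η i j := by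
  have hcov : ∀ x : X, ∃ i, x ∈ U i := fun x => by
    have hx : x ∈ iSup U := by
      rw [hU]
      trivial
    exact Opens.mem_iSup.mp hx
  have hgs : ∀ i, IsGen L (U i) (s i) := fun i => hs i
  have hgs' : ∀ i, IsGen L' (U i) (s' i) := fun i => hs' i
  constructor
  · rintro ⟨e⟩
    have hex : ∀ i, ∃ a : Γ(X, U i), a • s' i = e.hom.app (U i) (s i) := fun i => by
      obtain ⟨a, ha⟩ := (hgs' i).self.2 (e.hom.app (U i) (s i))
      exact ⟨a, ha⟩
    have hex' : ∀ i, ∃ b : Γ(X, U i), b • s i = e.inv.app (U i) (s' i) := fun i => by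
      obtain ⟨b, hb⟩ := (hgs i).self.2 (e.inv.app (U i) (s' i))
      exact ⟨b, hb⟩
    choose a ha using hex
    choose b hb using hex'
    have hinv : ∀ (W' : X.Opens) (g : Γ(L', W')), e.hom.app W' (e.inv.app W' g) = g := by
      intro W' g
      have h := congrArg (fun φ : L' ⟶ L' => φ.app W' g) e.inv_hom_id
      exact h
    have hab : ∀ i, a i * b i = 1 := by
      intro i
      apply (hgs' i).self.1
      show (a i * b i) • s' i = (1 : Γ(X, U i)) • s' i
      rw [one_smul, mul_comm, mul_smul, ha i, ← Scheme.Modules.Hom.app_smul, hb i, hinv]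
    refine ⟨fun i => Units.mkOfMulEqOne (a i) (b i) (hab i), fun i j => ?_⟩
    show η' i j * X.presheaf.map (homOfLE (inf_le_left : U i ⊓ U j ≤ U i)).op (a i) =
      X.presheaf.map (homOfLE (inf_le_right : U i ⊓ U j ≤ U j)).op (a j) * η i j
    apply (hs' j (U i ⊓ U j) inf_le_right).1
    show (η' i j * X.presheaf.map (homOfLE (inf_le_left : U i ⊓ U j ≤ U i)).op (a i)) •
        L'.presheaf.map (homOfLE (inf_le_right : U i ⊓ U j ≤ U j)).op (s' j) =
      (X.presheaf.map (homOfLE (inf_le_right : U i ⊓ U j ≤ U j)).op (a j) * η i j) •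
        L'.presheaf.map (homOfLE (inf_le_right : U i ⊓ U j ≤ U j)).op (s' j)
    have k1 : L'.presheaf.map (homOfLE (inf_le_left : U i ⊓ U j ≤ U i)).op
        (e.hom.app (U i) (s i)) =
        X.presheaf.map (homOfLE (inf_le_left : U i ⊓ U j ≤ U i)).op (a i) •
          L'.presheaf.map (homOfLE (inf_le_left : U i ⊓ U j ≤ U i)).op (s' i) := by
      rw [← ha i, res_smul L']
    have k2 : L'.presheaf.map (homOfLE (inf_le_right : U i ⊓ U j ≤ U j)).op
        (e.hom.app (U j) (s j)) =
        X.presheaf.map (homOfLE (inf_le_right : U i ⊓ U j ≤ U j)).op (a j) •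
          L'.presheaf.map (homOfLE (inf_le_right : U i ⊓ U j ≤ U j)).op (s' j) := by
      rw [← ha j, res_smul L']
    have k3 : L'.presheaf.map (homOfLE (inf_le_left : U i ⊓ U j ≤ U i)).op
        (e.hom.app (U i) (s i)) =
        η i j • L'.presheaf.map (homOfLE (inf_le_right : U i ⊓ U j ≤ U j)).op
          (e.hom.app (U j) (s j)) := by
      rw [← app_res e.hom inf_le_left (s i), hη i j, Scheme.Modules.Hom.app_smul,
        app_res e.hom inf_le_right (s j)]
    rw [mul_comm (η' i j), mul_smul, ← hη' i j, ← k1, k3, k2, smul_smul, mul_comm (η i j)]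
  · rintro ⟨u, hu⟩
    have hν : ∀ i, IsGen L' (U i) ((u i : Γ(X, U i)) • s' i) := by
      intro i V h
      have hb := hs' i V h
      obtain ⟨w, hw⟩ : IsUnit (X.presheaf.map (homOfLE h).op (u i : Γ(X, U i))) :=
        (u i).isUnit.map (X.presheaf.map (homOfLE h).op).hom
      have he : (fun r : Γ(X, V) =>
          r • L'.presheaf.map (homOfLE h).op ((u i : Γ(X, U i)) • s' i)) =
          (fun r : Γ(X, V) => r • L'.presheaf.map (homOfLE h).op (s' i)) ∘
            (fun r : Γ(X, V) => r * (w : Γ(X, V))) := by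
        funext r
        show r • L'.presheaf.map (homOfLE h).op ((u i : Γ(X, U i)) • s' i) =
          (r * (w : Γ(X, V))) • L'.presheaf.map (homOfLE h).op (s' i)
        rw [res_smul L', mul_smul, hw]
      rw [he]
      exact hb.comp (Units.mulRight w).bijective
    refine nonempty_iso_of_gens (ν := fun i => (u i : Γ(X, U i)) • s' i) hcov hgs hν ?_
    intro i j W hi hj w hw
    have hW : W ≤ U j ⊓ U i := le_inf hj hi
    have e1 := congrArg (fun q => L.presheaf.map (homOfLE hW).op q) (hη j i)
    have e2 := congrArg (fun q => L'.presheaf.map (homOfLE hW).op q) (hη' j i)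
    simp only [] at e1 e2
    rw [res_res L, res_smul L, res_res L] at e1
    rw [res_res L', res_smul L', res_res L'] at e2
    have hw' : w = X.presheaf.map (homOfLE hW).op (η j i) := (hs i W hi).1 (hw.symm.trans e1)
    have e3 := congrArg (fun q => X.presheaf.map (homOfLE hW).op q) (hu j i)
    simp only [map_mul] at e3
    rw [ringRes_res, ringRes_res] at e3
    show L'.presheaf.map (homOfLE hj).op ((u j : Γ(X, U j)) • s' j) =
      w • L'.presheaf.map (homOfLE hi).op ((u i : Γ(X, U i)) • s' i)
    rw [res_smul L', res_smul L', e2, hw', smul_smul, smul_smul]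
    congr 1
    rw [mul_comm, e3, mul_comm]

end Groth.Agent.S10964
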