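import Groth.Statements.S10967
import Mathlib.AlgebraicGeometry.Morphisms.QuasiSeparated

set_option autoImplicit false
open CategoryTheory CategoryTheory.Limits AlgebraicGeometry Opposite
universe u
open MoreMor

namespace Groth.Agent.S10967

open TopologicalSpace in
/-- Quasi-affine over an affine base: call a morphism f : X → Y quasi-affine when Y has a cover by
affine opens V_i whose preimages f⁻¹(V_i) are quasi-affine schemes (quasi-compact open subschemes of
affine schemes; equivalently quasi-compact with X → Spec Γ(X, O_X) an immersion). If Y is affine and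
f is quasi-affine in this sense, then X is a quasi-affine scheme. -/
theorem result {X Y : Scheme.{u}} [IsAffine Y]
    (f : X ⟶ Y) {ι : Type u} (V : ι → Y.Opens) (hV : iSup V = ⊤) (hVa : ∀ i, IsAffineOpen (V i))
    (hq : ∀ i, Scheme.IsQuasiAffine (↑(f ⁻¹ᵁ V i) : Scheme.{u})) :
    X.IsQuasiAffine := by
  have hqc : QuasiCompact f := by
    refine IsZariskiLocalAtTarget.of_iSup_eq_top (P := @QuasiCompact) V hV fun i => ?_
    have := hq i
    have : IsAffine (V i).toScheme := hVa i
    exact (quasiCompact_iff_compactSpace (f ∣_ V i)).mpr inferInstance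
  have hqs : QuasiSeparated f := by
    refine IsZariskiLocalAtTarget.of_iSup_eq_top (P := @QuasiSeparated) V hV fun i => ?_
    have := hq i
    have : IsAffine (V i).toScheme := hVa i
    exact (quasiSeparated_iff_quasiSeparatedSpace (f ∣_ V i)).mpr inferInstance
  have hc : CompactSpace X := QuasiCompact.compactSpace_of_compactSpace f
  have hs : QuasiSeparatedSpace X := quasiSeparatedSpace_of_quasiSeparated f
  refine Scheme.IsQuasiAffine.of_forall_exists_mem_basicOpen X fun x => ?_
  -- the index `i` with `f x ∈ V i`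
  obtain ⟨i, hi⟩ : ∃ i, f x ∈ V i := by
    have : f x ∈ iSup V := hV ▸ (trivial : f x ∈ (⊤ : Y.Opens))
    exact Opens.mem_iSup.mp this
  -- a basic open of `Y` around `f x` inside `V i`
  obtain ⟨_, ⟨_, ⟨s, rfl⟩, rfl⟩, hxs, hsV⟩ :=
    (isBasis_basicOpen Y).exists_subset_of_mem_open hi (V i).2
  have := hq i
  set W : X.Opens := f ⁻¹ᵁ V i with hW
  have hxW : x ∈ W := hi
  -- an affine basic open of the quasi-affine scheme `W` around `x`
  obtain ⟨_, ⟨_, ⟨t, ht, rfl⟩, rfl⟩, hxt, -⟩ := (Scheme.IsQuasiAffine.isBasis_basicOpen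
    W.toScheme).exists_subset_of_mem_open (Set.mem_univ (⟨x, hxW⟩ : W.toScheme)) isOpen_univ
  have hB : IsAffineOpen (X.basicOpen t) := by
    rw [← Scheme.Opens.ι_image_basicOpen]
    exact ht.image_of_isOpenImmersion W.ι
  have hxB : x ∈ X.basicOpen t := by
    rw [← Scheme.Opens.ι_image_basicOpen]
    exact ⟨⟨x, hxW⟩, hxt, rfl⟩
  set s' : Γ(X, ⊤) := f.appTop s with hs'
  have hs'eq : X.basicOpen s' = f ⁻¹ᵁ Y.basicOpen s := (Scheme.preimage_basicOpen_top f s).symm
  have hxs' : x ∈ X.basicOpen s' := by rw [hs'eq]; exact hxs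
  have hs'W : X.basicOpen s' ≤ W.ι ''ᵁ ⊤ := by
    rw [hs'eq, Scheme.Opens.ι_image_top]
    exact fun z hz => hsV hz
  obtain ⟨n, y, hy⟩ := exists_eq_pow_mul_of_isCompact_of_isQuasiSeparated X ⊤
    isCompact_univ isQuasiSeparated_univ s' (X.presheaf.map (homOfLE hs'W).op t)
  have key : X.basicOpen (s' * y) = X.basicOpen s' ⊓ X.basicOpen t := by
    rw [Scheme.basicOpen_mul]
    dsimp only [TopCat.Presheaf.restrictOpenCommRingCat_apply] at hy
    have h1 := congrArg X.basicOpen hy
    rw [Scheme.basicOpen_res, Scheme.basicOpen_mul, Scheme.basicOpen_res] at h1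
    have hu : IsUnit ((X.presheaf.map (homOfLE (X.basicOpen_le s')).op s') ^ n) :=
      (RingedSpace.isUnit_res_basicOpen X.toRingedSpace s').pow n
    rw [Scheme.basicOpen_of_isUnit _ hu] at h1
    rw [h1, ← inf_assoc, inf_idem]
    rfl
  refine ⟨s' * y, ?_, ?_⟩
  · rw [key, inf_comm, ← Scheme.basicOpen_res X s' (homOfLE (le_top : X.basicOpen t ≤ ⊤)).op]
    exact hB.basicOpen _
  · rw [key]
    exact ⟨hxs', hxB⟩

end Groth.Agent.S10967
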