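import Groth.Statements.S10973
import Groth.Agent.H55.FFExist

set_option autoImplicit false
open FunFld

namespace Groth.Agent.S10973

/-- Two nonzero elements of a function field of one variable with the same principal divisor differ by a
constant multiple. -/
theorem result (k K : Type*) [Field k] [Field K] [Algebra k K]
    (hK : FunFld.IsFunctionField k K) (x y : K) (hx : x ≠ 0) (hy : y ≠ 0)
    (h : ∀ P : FunFld.Place k K, P.ord x = P.ord y) : ∃ c : k, x = c • y := by
  by_cases hz : x / y ∈ Set.range (algebraMap k K)
  · obtain ⟨c, hc⟩ := hz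
    refine ⟨c, ?_⟩
    rw [Algebra.smul_def, hc]
    field_simp
  · exfalso
    have hzt : Transcendental k (x / y) := (Groth.Agent.H55.ff_transcendental_iff hK).mpr hz
    have hz0 : x / y ≠ 0 := div_ne_zero hx hy
    obtain ⟨P, hP⟩ := Groth.Agent.H55.exists_zero hK (x / y) hzt
    have h1 := (Groth.Agent.H55.pl_val_lt_one_iff P hz0).mp hP
    rw [Groth.Agent.H55.pl_ord_div P hx hy, h P] at h1
    omega

end Groth.Agent.S10973
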