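import Groth.Statements.S10975

set_option autoImplicit false
open FunFld

namespace Groth.Agent.S10975

/-- `A(D₁ ⊔ D₂) = A(D₁) + A(D₂)` for divisors of a function field of one variable. -/
theorem result (k K : Type*) [Field k] [Field K] [Algebra k K] (D₁ D₂ : FunFld.Divisor k K) :
    FunFld.AD (D₁ ⊔ D₂) = FunFld.AD D₁ ⊔ FunFld.AD D₂ := by
  classical
  have mono : ∀ {D D' : FunFld.Divisor k K}, D ≤ D' → FunFld.AD D ≤ FunFld.AD D' := by
    intro D D' h a ha P
    exact (ha P).trans (WithZero.exp_le_exp.mpr (h P))
  apply le_antisymm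
  · intro a ha
    let b : FunFld.Place k K → K := fun P => if P.1 (a P) ≤ WithZero.exp (D₁ P) then a P else 0
    have hb : b ∈ FunFld.AD D₁ := by
      intro P
      by_cases h : P.1 (a P) ≤ WithZero.exp (D₁ P)
      · simp only [b, if_pos h]; exact h
      · simp only [b, if_neg h]; simp
    have hc : a - b ∈ FunFld.AD D₂ := by
      intro P
      by_cases h : P.1 (a P) ≤ WithZero.exp (D₁ P)
      · simp only [b, Pi.sub_apply, if_pos h]; simp
      · simp only [b, Pi.sub_apply, if_neg h, sub_zero]
        have h1 := ha P
        rw [Finsupp.sup_apply] at h1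
        rcases le_total (D₁ P) (D₂ P) with h2 | h2
        · rwa [sup_eq_right.mpr h2] at h1
        · rw [sup_eq_left.mpr h2] at h1
          exact absurd h1 h
    have : a = b + (a - b) := by abel
    rw [this]
    exact Submodule.add_mem_sup hb hc
  · exact sup_le (mono le_sup_left) (mono le_sup_right)

end Groth.Agent.S10975
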