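import Groth.Statements.S10986

set_option autoImplicit false
open FunFld

namespace Groth.Agent.S10986

/-- `L(D) · W(C) ⊆ W(C - D)`: if `x ∈ L(D)` and `ω` vanishes on `A(C) + K` then `xω` vanishes on `A(C -
D) + K`. -/
theorem result (k K : Type*) [Field k] [Field K] [Algebra k K]
    (C D : FunFld.Divisor k K) (x : K) (hxD : x ∈ FunFld.L D)
    (hx : ∀ a ∈ FunFld.adele k K, x • a ∈ FunFld.adele k K)
    (ω : Module.Dual k (FunFld.adele k K)) (hω : ω ∈ FunFld.WD C) :
    FunFld.mulW x hx ω ∈ FunFld.WD (C - D) := by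
  rw [FunFld.WD, Submodule.mem_dualAnnihilator] at hω ⊢
  intro a ha
  have key : (⟨x • a.1, hx a.1 a.2⟩ : FunFld.adele k K) ∈ FunFld.ADK C := by
    rw [FunFld.ADK, Submodule.mem_comap] at ha ⊢
    obtain ⟨b, hb, c, hc, hbc⟩ := Submodule.mem_sup.mp ha
    obtain ⟨y, rfl⟩ := hc
    have e : x • a.1 = x • b + x • (FunFld.diag k K) y := by
      change x • ((FunFld.adele k K).subtype a) = _
      rw [← hbc, smul_add]
    change x • a.1 ∈ _
    rw [e]
    refine Submodule.add_mem_sup ?_ ⟨x * y, ?_⟩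
    · intro P
      have h1 := hxD P
      have h2 := hb P
      rw [Pi.smul_apply, smul_eq_mul, map_mul]
      calc P.1 x * P.1 (b P) ≤ WithZero.exp (D P) * WithZero.exp ((C - D) P) := mul_le_mul' h1 h2
        _ = WithZero.exp (C P) := by
          rw [← WithZero.exp_add, Finsupp.sub_apply]; congr 1; ring
    · funext P
      simp [FunFld.diag]
  have := hω _ key
  exact this

end Groth.Agent.S10986
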