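import Groth.Statements.S10987
import Groth.Agent.H55.FFWeil

set_option autoImplicit false
open FunFld

namespace Groth.Agent.S10987

/-- `[xω] = [x] + [ω]` for `x ≠ 0` and a Weil differential `ω` with a divisor, in a function field of
one variable. -/
theorem result (k K : Type*) [Field k] [Field K] [Algebra k K]
    (hK : FunFld.IsFunctionField k K) (x : K) (h0 : x ≠ 0) (hx : ∀ a ∈ FunFld.adele k K, x • a ∈ FunFld.adele k K)
    (ω : Module.Dual k (FunFld.adele k K)) (C : FunFld.Divisor k K) (hω : FunFld.IsDivOf ω C) :
    FunFld.IsDivOf (FunFld.mulW x hx ω) (C + FunFld.div k x) := by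
  exact Groth.Agent.H55.isDivOf_mulW hK h0 hx hω

end Groth.Agent.S10987
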