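import Groth.Statements.S10989
import Groth.Agent.H55.FFRR

set_option autoImplicit false
open FunFld

namespace Groth.Agent.S10989

/-- Any two canonical divisors of a function field of one variable are linearly equivalent. -/
theorem result (k K : Type*) [Field k] [Field K] [Algebra k K]
    (hK : FunFld.IsFunctionField k K) (C₁ C₂ : FunFld.Divisor k K) (h₁ : FunFld.IsCanonical k K C₁) (h₂ : FunFld.IsCanonical k K C₂) :
    ∃ x : K, x ≠ 0 ∧ C₂ = C₁ + FunFld.div k x := by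
  obtain ⟨ω₁, hω₁, hd₁⟩ := h₁
  obtain ⟨ω₂, hω₂, hd₂⟩ := h₂
  obtain ⟨x, hx⟩ := Groth.Agent.H55.exists_mulWL_eq hK ω₁ ω₂
    (Groth.Agent.H55.isWeil_of_isDivOf hd₁) hω₁ (Groth.Agent.H55.isWeil_of_isDivOf hd₂)
  have hx0 : x ≠ 0 := by
    rintro rfl
    rw [map_zero] at hx
    exact hω₂ hx.symm
  refine ⟨x, hx0, ?_⟩
  have h3 : FunFld.IsDivOf ω₂ (C₁ + FunFld.div k x) := by
    rw [← hx]
    exact Groth.Agent.H55.isDivOf_mulW hK hx0 (Groth.Agent.H55.smul_mem_adele hK x) hd₁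
  exact Groth.Agent.H55.isDivOf_unique hd₂ h3

end Groth.Agent.S10989
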