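import Groth.Statements.S1100
import Groth.Agent.H28.RelFlatBC
import Groth.Agent.H28.LpullLoc3

set_option autoImplicit false
universe u
open CategoryTheory CategoryTheory.Limits AlgebraicGeometry Opposite
attribute [local instance] HasDerivedCategory.standard
open Perf

namespace Groth.Agent.S1100

/-- Let f : X ⟶ S be flat and locally of finite presentation, g : S' ⟶ S any morphism, X' = X ×_S S'
with projections g' : X' ⟶ X and f' : X' ⟶ S'. Assume L(g')^* exists. If K ∈ D(O_X) is S-perfect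
(pseudo-coherent and locally of finite tor dimension as a complex of f⁻¹O_S-modules, the latter in
the form: locally represented by bounded complexes of S-flat modules), then L(g')^*K is S'-perfect. -/
theorem result {X S S' : Scheme.{u}} (f : X ⟶ S) [Flat f] [LocallyOfFinitePresentation f] (g : S' ⟶ S)
    [DCoh.HasLpull (pullback.fst f g)] (K : DCoh.D X) (hK : ((∀ m : ℤ, DCoh.IsPseudoCoherentD m K) ∧ DCoh.LocHasFiniteRelTorDim f K)) :
    ((∀ m : ℤ, DCoh.IsPseudoCoherentD m ((DCoh.Lpull (pullback.fst f g)).obj K)) ∧ DCoh.LocHasFiniteRelTorDim (pullback.snd f g) ((DCoh.Lpull (pullback.fst f g)).obj K)) := by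
  obtain ⟨hpc, htor⟩ := hK
  refine ⟨fun m => Groth.Agent.H28.LpullLoc.isPseudoCoherentD_Lpull (pullback.fst f g) m K (hpc m), ?_⟩
  intro x'
  obtain ⟨V, a, b, hxV, hV⟩ := htor ((pullback.fst f g).base x')
  refine ⟨(pullback.fst f g) ⁻¹ᵁ V, a, b, hxV, ?_⟩
  rintro G ⟨eG⟩
  obtain ⟨F, hF, ⟨eF⟩⟩ := Groth.Agent.H28.LpullLoc.exists_kflat_rep K
  obtain ⟨E, hv, hfl, ⟨eE⟩⟩ := hV F ⟨eF⟩
  haveI : DCoh.HasLpull (pullback.fst f g ∣_ V) := Groth.Agent.H31.Stalk.hasLpull _
  have hpb : IsPullback (pullback.fst f g ∣_ V) (((pullback.fst f g) ⁻¹ᵁ V).ι ≫ pullback.snd f g)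
      (V.ι ≫ f) g :=
    (isPullback_morphismRestrict (pullback.fst f g) V).paste_vert
      (IsPullback.of_hasPullback f g)
  obtain ⟨h1, ⟨e2⟩⟩ := Groth.Agent.H28.RelFlatBC.gen hpb E a b hv hfl
  refine ⟨((Scheme.Modules.pullback (pullback.fst f g ∣_ V)).mapHomologicalComplex
    (ComplexShape.up ℤ)).obj E, fun i hi => Functor.map_isZero _ (hv i hi), h1, ⟨?_⟩⟩
  exact e2.symm ≪≫ (DCoh.Lpull (pullback.fst f g ∣_ V)).mapIso eE ≪≫
    (Groth.Agent.H28.LpullLoc.restrictLpullIso (pullback.fst f g) V F hF G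
      (eG ≪≫ (DCoh.Lpull (pullback.fst f g)).mapIso eF.symm)).symm

end Groth.Agent.S1100
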