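import Groth.Statements.S11008
import Groth.Agent.H81.AbsIrr
import Groth.Agent.H55.FFGeom
import Groth.Agent.H55.FFBasic

set_option autoImplicit false
universe u v
open FunFld

namespace Groth.Agent.S11008

/-- `K/k` is a geometric function field of one variable iff `K = k(x, y)` where the relation ideal of
`(x, y)` in `k[X, Y]` is generated by an absolutely irreducible polynomial `f`. -/
theorem result (k : Type u) (K : Type v) [Field k] [Field K] [Algebra k K] :
    (FunFld.IsFunctionField k K ∧ FunFld.IsGeometric k K) ↔
      ∃ (x y : K) (f : MvPolynomial (Fin 2) k),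
        IntermediateField.adjoin k ({x, y} : Set K) = ⊤ ∧
        (∀ (k' : Type u) [Field k'] [Algebra k k'], FiniteDimensional k k' →
          Irreducible (MvPolynomial.map (algebraMap k k') f)) ∧
        RingHom.ker (MvPolynomial.aeval ![x, y] : MvPolynomial (Fin 2) k →ₐ[k] K) = Ideal.span {f} := by
  constructor
  · rintro ⟨hK, hg⟩
    obtain ⟨t, ht, hsep⟩ := H55.exists_separating hK hg
    haveI := H55.ff_finite hK ht
    haveI := hsep
    obtain ⟨s, hs⟩ := Field.exists_primitive_element (IntermediateField.adjoin k ({t} : Set K)) K
    have hxy : IntermediateField.adjoin k ({s, t} : Set K) = ⊤ := by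
      rw [Set.pair_comm, ← IntermediateField.adjoin_simple_adjoin_simple, hs,
        IntermediateField.restrictScalars_top]
    obtain ⟨F, hF, hFst⟩ := H81.PlaneHom.exists_irreducible_relation hK s t
    have hker := H81.AbsIrr.ker_eq_span_of_transcendental ht F hF hFst
    refine ⟨s, t, F, hxy, ?_, hker⟩
    intro k' _ _ hfd
    have hT : IsField (TensorProduct k k' K) := hg k' hfd
    haveI : IsDomain (TensorProduct k k' K) := hT.isDomain
    have hprime : (RingHom.ker (MvPolynomial.aeval
        (fun i => TensorProduct.tmul k (1 : k') (![s, t] i)) :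
        MvPolynomial (Fin 2) k' →ₐ[k'] TensorProduct k k' K)).IsPrime := RingHom.ker_isPrime _
    rw [H81.AbsIrr.ker_baseChange, hker, Ideal.map_span, Set.image_singleton] at hprime
    have hne : MvPolynomial.map (algebraMap k k') F ≠ 0 :=
      (map_ne_zero_iff _ (MvPolynomial.map_injective _ (algebraMap k k').injective)).mpr hF.ne_zero
    exact ((Ideal.span_singleton_prime hne).mp hprime).irreducible
  · rintro ⟨x, y, f, hxy, habs, hker⟩
    have hfirr : Irreducible f := by
      have h1 := habs k inferInstance
      rwa [Algebra.algebraMap_self, MvPolynomial.map_id] at h1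
    have hfrac := H81.PlaneLocal.exists_frac_range (k := k) x y hxy
    have hgeo : ∀ (k' : Type u) [Field k'] [Algebra k k'], FiniteDimensional k k' →
        IsField (TensorProduct k k' K) := by
      intro k' _ _ hfd
      have hirr := habs k' hfd
      have hprime : (RingHom.ker (MvPolynomial.aeval
          (fun i => TensorProduct.tmul k (1 : k') (![x, y] i)) :
          MvPolynomial (Fin 2) k' →ₐ[k'] TensorProduct k k' K)).IsPrime := by
        rw [H81.AbsIrr.ker_baseChange, hker, Ideal.map_span, Set.image_singleton,
          Ideal.span_singleton_prime hirr.ne_zero]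
        exact hirr.prime
      exact H81.AbsIrr.isField_tensor (H81.AbsIrr.tensor_noZeroDiv ![x, y] hfrac hprime)
    have hconst := H81.AbsIrr.mem_range_of_isAlgebraic hgeo
    exact ⟨H81.AbsIrr.isFunctionField_of_plane hconst x y hxy f hfirr hker, hgeo⟩

end Groth.Agent.S11008
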