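import Groth.Statements.S11011
import Groth.Agent.H55.FFInsepPlace
open Groth.Agent.H55

set_option autoImplicit false
universe u v
open FunFld

namespace Groth.Agent.S11011

/-- For a place `P` of a geometric function field of one variable `K/k` and a finite extension `k'/k`
with either `k'/k` or `F_P/k` purely inseparable, `P` has exactly one place of `k' ⊗_k K` above it. -/
theorem result (k k' : Type u) (K K' : Type v) [Field k] [Field k'] [Field K] [Field K']
    [Algebra k k'] [FiniteDimensional k k'] [Algebra k K] [Algebra K K'] [Algebra k' K'] [Algebra k K']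
    [IsScalarTower k k' K'] [IsScalarTower k K K']
    (h : Function.Bijective (Algebra.TensorProduct.productMap
      (IsScalarTower.toAlgHom k k' K') (IsScalarTower.toAlgHom k K K')))
    (hK : FunFld.IsFunctionField k K) (hg : FunFld.IsGeometric k K) (P : FunFld.Place k K)
    (hpi : IsPurelyInseparable k k' ∨ IsPurelyInseparable k (IsLocalRing.ResidueField P.O)) :
    ∃! Q : FunFld.Place k K', FunFld.IsOver Q P := by
  classical
  haveI : FiniteDimensional K K' := by
    let f : TensorProduct k K k' →ₐ[K] K' :=
      Algebra.TensorProduct.productLeftAlgHom (Algebra.ofId K K') (IsScalarTower.toAlgHom k k' K')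
    refine Module.Finite.of_surjective f.toLinearMap ?_
    intro z
    obtain ⟨s, rfl⟩ := h.2 z
    induction s using TensorProduct.induction_on with
    | zero => exact ⟨0, by simp⟩
    | tmul c a =>
      refine ⟨TensorProduct.tmul k a c, ?_⟩
      simp [f, mul_comm]
    | add x y hx hy =>
      obtain ⟨x', hx'⟩ := hx
      obtain ⟨y', hy'⟩ := hy
      exact ⟨x' + y', by rw [map_add, hx', hy', map_add]⟩
  have hK1 : G.IsFF1 k K := G.isFF1_of_isFunctionField hK
  obtain ⟨Q, hQ⟩ := exists_place_over (K' := K') hK1 P
  refine ⟨Q, hQ, fun Q' hQ' => ?_⟩
  haveI : Algebra.IsAlgebraic k k' := Algebra.IsAlgebraic.of_finite k k'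
  haveI : IsPurelyInseparable (separableClosure k k') k' := separableClosure.isPurelyInseparable k k'
  have hpi' : IsPurelyInseparable k (separableClosure k k') ∨
      IsPurelyInseparable k (IsLocalRing.ResidueField P.O) := by
    rcases hpi with hpi | hpi
    · left
      haveI := hpi
      exact IsPurelyInseparable.tower_bot k (separableClosure k k') k'
    · right; exact hpi
  exact InsepPlace.unique_place_over (separableClosure k k') h.2 P hpi' Q' Q hQ' hQ

end Groth.Agent.S11011
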