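import Groth.Statements.S11017

set_option autoImplicit false
open FunFld

namespace Groth.Agent.S11017

/-- For a Weil differential `ω` with divisor `C`, `ord_P [ω] ≥ e` iff `ω` kills every repartition
concentrated at `P` with `P`-component of order at least `-e`. -/
theorem result (k K : Type*) [Field k] [Field K] [Algebra k K] (ω : Module.Dual k (FunFld.adele k K)) (C : FunFld.Divisor k K) (hω : FunFld.IsDivOf ω C)
    (P : FunFld.Place k K) (e : ℤ) :
    e ≤ C P ↔ ∀ (a : FunFld.Place k K → K) (ha : a ∈ FunFld.adele k K),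
      (∀ Q, Q ≠ P → a Q = 0) → P.1 (a P) ≤ WithZero.exp e → ω ⟨a, ha⟩ = 0 := by
  classical
  constructor
  · intro he a ha h0 hP
    have hC : ω ∈ FunFld.WD C := (hω C).mpr le_rfl
    rw [FunFld.WD, Submodule.mem_dualAnnihilator] at hC
    apply hC
    rw [FunFld.ADK, Submodule.mem_comap]
    refine Submodule.mem_sup_left ?_
    intro Q
    by_cases hQ : Q = P
    · subst hQ
      exact hP.trans (WithZero.exp_le_exp.mpr he)
    · change Q.1 (a Q) ≤ _
      rw [h0 Q hQ]; simp
  · intro h
    by_contra hlt
    rw [not_le] at hlt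
    let E : FunFld.Divisor k K := C + Finsupp.single P (e - C P)
    have hEP : E P = e := by simp [E]
    have hEQ : ∀ Q, Q ≠ P → E Q = C Q := by
      intro Q hQ
      simp [E, Finsupp.single_apply, Ne.symm hQ]
    have hE : ω ∈ FunFld.WD E := by
      rw [FunFld.WD, Submodule.mem_dualAnnihilator]
      intro a ha
      rw [FunFld.ADK, Submodule.mem_comap] at ha
      obtain ⟨b, hb, c, hc, hbc⟩ := Submodule.mem_sup.mp ha
      let b' : FunFld.Place k K → K := Pi.single P (b P)
      have hb'Q : ∀ Q, Q ≠ P → b' Q = 0 := fun Q hQ => by simp [b', Pi.single_apply, hQ]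
      have hb'P : b' P = b P := by simp [b']
      have hb'ad : b' ∈ FunFld.adele k K := by
        change ∀ᶠ Q : FunFld.Place k K in Filter.cofinite, Q.1 (b' Q) ≤ 1
        rw [Filter.eventually_cofinite]
        refine (Set.finite_singleton P).subset ?_
        intro Q hQ
        by_contra hne
        apply hQ
        rw [hb'Q Q hne]; simp
      have h1 : ω ⟨b', hb'ad⟩ = 0 := by
        apply h b' hb'ad hb'Q
        rw [hb'P, ← hEP]
        exact hb P
      have hC : ω ∈ FunFld.WD C := (hω C).mpr le_rfl
      rw [FunFld.WD, Submodule.mem_dualAnnihilator] at hC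
      have h2 : ω (a - ⟨b', hb'ad⟩) = 0 := by
        apply hC
        rw [FunFld.ADK, Submodule.mem_comap]
        have e1 : (FunFld.adele k K).subtype (a - ⟨b', hb'ad⟩) = (b - b') + c := by
          rw [map_sub, ← hbc]
          change b + c - b' = _
          abel
        rw [e1]
        refine Submodule.add_mem_sup ?_ hc
        intro Q
        by_cases hQ : Q = P
        · subst hQ
          simp [hb'P]
        · rw [Pi.sub_apply, hb'Q Q hQ, sub_zero, ← hEQ Q hQ]
          exact hb Q
      have : a = ⟨b', hb'ad⟩ + (a - ⟨b', hb'ad⟩) := by abel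
      rw [this, map_add, h1, h2, add_zero]
    have hle := (hω E).mp hE P
    rw [hEP] at hle
    omega

end Groth.Agent.S11017
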