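import Groth.Statements.S11026
import Groth.Agent.H55.FFGeom2
open Groth.Agent.H55

set_option autoImplicit false
universe u v
open FunFld

namespace Groth.Agent.S11026

/-- A weakly separable finite extension `K'/k'` of a geometric function field `K/k` (the map `Ω_{K/k} →
Ω_{K'/k'}` injective) is separable over the compositum `k'K`. -/
theorem result (k k' : Type u) (K K' : Type v) [Field k] [Field k'] [Field K] [Field K']
    [Algebra k k'] [Algebra k K] [Algebra K K'] [Algebra k' K'] [Algebra k K']
    [IsScalarTower k k' K'] [IsScalarTower k K K'] [FiniteDimensional K K']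
    (hK : FunFld.IsFunctionField k K) (hg : FunFld.IsGeometric k K)
    (hK' : FunFld.IsFunctionField k' K') (hg' : FunFld.IsGeometric k' K')
    (hw : Function.Injective (KaehlerDifferential.map k k' K K')) :
    Algebra.IsSeparable (IntermediateField.adjoin K (Set.range (algebraMap k' K'))) K' := by
  classical
  obtain ⟨F, hF⟩ : ∃ F : IntermediateField K K',
      F = IntermediateField.adjoin K (Set.range (algebraMap k' K')) := ⟨_, rfl⟩
  rw [← hF]
  obtain hz | ⟨p, hp, hpK⟩ := CharP.exists' K
  · haveI : CharZero F := charZero_of_injective_algebraMap (algebraMap K F).injective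
    exact Algebra.IsAlgebraic.isSeparable_of_perfectField
  · haveI := hp
    haveI : CharP K' p := (RingHom.charP_iff (algebraMap K K') (algebraMap K K').injective p).mp hpK
    obtain ⟨s, hs, hsep⟩ := exists_separating hK hg
    haveI := hsep
    obtain ⟨e, he⟩ := kaehler_equiv_of_separating s hs
    have hDs : KaehlerDifferential.D k K s ≠ 0 := by
      intro h0
      rw [h0, map_zero] at he
      exact zero_ne_one he
    have hDs' : KaehlerDifferential.D k' K' (algebraMap K K' s) ≠ 0 := by
      rw [← KaehlerDifferential.map_D k k' K K']
      intro h0
      exact hDs (hw (h0.trans (map_zero _).symm))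
    have hsep' : Algebra.IsSeparable (IntermediateField.adjoin k' ({algebraMap K K' s} : Set K')) K' := by
      by_contra hns
      have hmem := (mem_adjoin_pow_iff hK' hg' p (algebraMap K K' s)).2.mpr hns
      exact hDs' ((mem_adjoin_pow_iff hK' hg' p _).1.mp hmem)
    have hle : ∀ z : K', z ∈ IntermediateField.adjoin k' ({algebraMap K K' s} : Set K') → z ∈ F := by
      have hmem : ∀ c : k', algebraMap k' K' c ∈ F.toSubfield := fun c => by
        show algebraMap k' K' c ∈ F
        rw [hF]
        exact IntermediateField.subset_adjoin _ _ ⟨c, rfl⟩
      have h1 : IntermediateField.adjoin k' ({algebraMap K K' s} : Set K') ≤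
          F.toSubfield.toIntermediateField hmem := by
        rw [IntermediateField.adjoin_simple_le_iff]
        exact F.algebraMap_mem s
      exact fun z hz => h1 hz
    let ι : IntermediateField.adjoin k' ({algebraMap K K' s} : Set K') →+* F :=
      { toFun := fun z => ⟨z.1, hle z.1 z.2⟩
        map_one' := rfl
        map_mul' := fun _ _ => rfl
        map_zero' := rfl
        map_add' := fun _ _ => rfl }
    letI : Algebra (IntermediateField.adjoin k' ({algebraMap K K' s} : Set K')) F := ι.toAlgebra
    haveI : IsScalarTower (IntermediateField.adjoin k' ({algebraMap K K' s} : Set K')) F K' :=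
      IsScalarTower.of_algebraMap_eq (fun z => rfl)
    exact Algebra.isSeparable_tower_top_of_isSeparable
      (IntermediateField.adjoin k' ({algebraMap K K' s} : Set K')) F K'

end Groth.Agent.S11026
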