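import Groth.Statements.S11037
import Groth.Agent.H55.FFZeta
open Groth.Agent.H55

set_option autoImplicit false
open FunFld

namespace Groth.Agent.S11037

/-- Over a finite constant field with `q` elements the degree-zero divisor classes modulo principal
divisors form a finite group, of order `h`; and for `n ≥ 2g - 1` the number `a(n)` of effective
divisors of degree `n` is `h (q^(n-g+1) - 1)/(q - 1)` when `n` is the degree of some divisor, and
`0` otherwise. -/
theorem result
    (k K : Type*) [Field k] [Finite k] [Field K] [Algebra k K]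
    (hK : FunFld.IsFunctionField k K) :
    Finite ((FunFld.degHom k K).ker ⧸ (FunFld.prinDivs k K).addSubgroupOf (FunFld.degHom k K).ker) ∧
    ∀ n : ℕ, 2 * FunFld.genus k K ≤ n + 1 →
      ((∃ D : FunFld.Divisor k K, D.deg = n) →
        ((Nat.card k : ℤ) - 1) * (FunFld.effDivCount k K n : ℤ) =
          (FunFld.classNum k K : ℤ) * ((Nat.card k : ℤ) ^ (n + 1 - FunFld.genus k K) - 1)) ∧
      ((¬ ∃ D : FunFld.Divisor k K, D.deg = n) → FunFld.effDivCount k K n = 0) := by
  classical
  obtain ⟨x, hx, -⟩ := hK.1
  obtain ⟨P, -⟩ := exists_pole hK x hx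
  have hdP := deg_pos hK P
  have hfin := (class_count hK (2 * FunFld.genus k K * P.deg) (by nlinarith)
    ((2 * FunFld.genus k K) • (Finsupp.single P 1 : FunFld.Divisor k K))
    (by rw [deg_nsmul, deg_single]; push_cast; ring)).1
  refine ⟨hfin, fun n hn => ⟨?_, ?_⟩⟩
  · rintro ⟨D₁, hD₁⟩
    obtain ⟨-, h⟩ := class_count hK n hn D₁ hD₁
    unfold FunFld.effDivCount FunFld.classNum
    have hu : (Nat.card kˣ : ℤ) = (Nat.card k : ℤ) - 1 := by
      rw [Nat.card_units]
      have := Nat.card_pos (α := k)
      omega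
    have h' := congrArg (fun m : ℕ => (m : ℤ)) h
    simp only [Nat.cast_add, Nat.cast_mul, Nat.cast_pow] at h'
    rw [hu] at h'
    linear_combination h'
  · intro hno
    unfold FunFld.effDivCount
    haveI : IsEmpty {D : FunFld.Divisor k K // 0 ≤ D ∧ D.deg = n} := ⟨fun D => hno ⟨D.1, D.2.2⟩⟩
    exact Nat.card_of_isEmpty

end Groth.Agent.S11037
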