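import Groth.Statements.S11044
import Groth.Agent.H55.FFCons3

set_option autoImplicit false
open FunFld

namespace Groth.Agent.S11044

/-- Over an algebraically closed constant field, if the genus `g` is positive and `D` has degree at
least `2g` or is canonical, then `ℓ(D - P) < ℓ(D)` for every place `P`; that is, `D` is the divisor
of the projective map given by `L(D)`. -/
theorem result
    (k K : Type*) [Field k] [IsAlgClosed k] [Field K] [Algebra k K]
    (hK : FunFld.IsFunctionField k K) (hg : 0 < FunFld.genus k K)
    (D : FunFld.Divisor k K)
    (hD : 2 * (FunFld.genus k K : ℤ) ≤ D.deg ∨ FunFld.IsCanonical k K D) (P : FunFld.Place k K) :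
    FunFld.ell (D - Finsupp.single P 1) < FunFld.ell D := by
  exact Groth.Agent.H55.ell_sub_single_lt P hK
    (Groth.Agent.H55.deg_eq_one_of_isAlgClosed hK P) hg D hD

end Groth.Agent.S11044
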