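import Groth.Statements.S11049
import Mathlib.RingTheory.Finiteness.Basic
import Mathlib.RingTheory.Finiteness.Finsupp
import Mathlib.LinearAlgebra.Dimension.RankNullity
import Mathlib.LinearAlgebra.Dimension.DivisionRing
import Mathlib.LinearAlgebra.FiniteDimensional.Basic
import Mathlib.LinearAlgebra.Isomorphisms
import Mathlib.RingTheory.Ideal.Span

set_option autoImplicit false
open CAlg

namespace Groth.Agent.S11049

/-- For `k`-algebras `S ⊆ R` with `R` an integral domain and a nonzero `x ∈ S`, if `R/S` and `R/Rx` are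
finite-dimensional over `k` then `dim_k R/Rx = dim_k S/Sx`. (The published statement allows `x = 0`;
then `R` is a field finite over `k` and the two sides are `dim_k R` and `dim_k S`, which differ for
`S = k ⊊ R`; the published proof multiplies by `x` as an injection, so `x ≠ 0` is assumed here.) -/
theorem result
    (k R : Type*) [Field k] [CommRing R]
    [IsDomain R] [Algebra k R] (S : Subalgebra k R) (x : S) (hx : (x : R) ≠ 0)
    [Module.Finite k (R ⧸ Subalgebra.toSubmodule S)]
    [Module.Finite k (R ⧸ Ideal.span {(x : R)})] :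
    Module.finrank k (R ⧸ Ideal.span {(x : R)}) = Module.finrank k (S ⧸ Ideal.span {x}) := by
  classical
  set A : Submodule k R := Subalgebra.toSubmodule S with hA
  set μ : R →ₗ[k] R := LinearMap.mulLeft k (x : R) with hμdef
  have hμ : ∀ r, μ r = (x : R) * r := fun r => rfl
  have hμinj : Function.Injective μ := fun a b h => mul_left_cancel₀ hx h
  set Q : Submodule k R := (Ideal.span {(x : R)}).restrictScalars k with hQ
  set P : Submodule k R := A.map μ with hP
  have memA : ∀ y, y ∈ A ↔ y ∈ S := fun y => Subalgebra.mem_toSubmodule S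
  have memQ : ∀ y, y ∈ Q ↔ ∃ r, μ r = y := by
    intro y
    rw [hQ, Submodule.restrictScalars_mem, Ideal.mem_span_singleton']
    constructor
    · rintro ⟨a, rfl⟩
      exact ⟨a, mul_comm _ _⟩
    · rintro ⟨r, rfl⟩
      exact ⟨r, mul_comm _ _⟩
  have memP : ∀ y, y ∈ P ↔ ∃ a ∈ S, (x : R) * a = y := by
    intro y
    rw [hP, Submodule.mem_map]
    constructor
    · rintro ⟨a, ha, rfl⟩
      exact ⟨a, (memA a).mp ha, rfl⟩
    · rintro ⟨a, ha, rfl⟩
      exact ⟨a, (memA a).mpr ha, rfl⟩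
  have hPQ : P ≤ Q := by
    intro y hy
    obtain ⟨a, _, rfl⟩ := (memP y).mp hy
    exact (memQ _).mpr ⟨a, rfl⟩
  have hPA : P ≤ A := by
    intro y hy
    obtain ⟨a, ha, rfl⟩ := (memP y).mp hy
    exact (memA _).mpr (S.mul_mem x.2 ha)
  -- the map R/A → R/P, multiplication by x
  let Φ : (R ⧸ A) →ₗ[k] (R ⧸ P) := A.mapQ P μ (Submodule.le_comap_map μ A)
  have hΦ : ∀ r, Φ (A.mkQ r) = P.mkQ (μ r) := fun r => rfl
  have hΦinj : Function.Injective Φ := by
    rw [injective_iff_map_eq_zero]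
    intro w hw
    obtain ⟨r, rfl⟩ := A.mkQ_surjective w
    rw [hΦ, Submodule.mkQ_apply, Submodule.Quotient.mk_eq_zero] at hw
    obtain ⟨a, ha, hax⟩ := (memP _).mp hw
    have har : a = r := hμinj hax
    rw [Submodule.mkQ_apply, Submodule.Quotient.mk_eq_zero, ← har]
    exact (memA a).mpr ha
  have hΦrange : LinearMap.range Φ = Q.map P.mkQ := by
    ext y
    constructor
    · rintro ⟨w, rfl⟩
      obtain ⟨r, rfl⟩ := A.mkQ_surjective w
      exact ⟨μ r, (memQ _).mpr ⟨r, rfl⟩, rfl⟩
    · rintro ⟨q, hq, rfl⟩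
      obtain ⟨r, rfl⟩ := (memQ q).mp hq
      exact ⟨A.mkQ r, rfl⟩
  have hfinQ : Module.Finite k (R ⧸ Q) :=
    Module.Finite.equiv (Submodule.Quotient.restrictScalarsEquiv k (Ideal.span {(x : R)})).symm
  have hfin1 : Module.Finite k (Q.map P.mkQ) := by
    rw [← hΦrange]
    exact Module.Finite.range Φ
  have hfin2 : Module.Finite k ((R ⧸ P) ⧸ Q.map P.mkQ) :=
    Module.Finite.equiv (Submodule.quotientQuotientEquivQuotient P Q hPQ).symm
  have hfinP : Module.Finite k (R ⧸ P) := Module.Finite.of_submodule_quotient (Q.map P.mkQ)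
  have h1 : Module.finrank k (R ⧸ P) =
      Module.finrank k (R ⧸ Q) + Module.finrank k (R ⧸ A) := by
    have e1 := Submodule.finrank_quotient_add_finrank (Q.map P.mkQ)
    have e2 : Module.finrank k ((R ⧸ P) ⧸ Q.map P.mkQ) = Module.finrank k (R ⧸ Q) :=
      LinearEquiv.finrank_eq (Submodule.quotientQuotientEquivQuotient P Q hPQ)
    have e3 : Module.finrank k (Q.map P.mkQ) = Module.finrank k (R ⧸ A) := by
      rw [← hΦrange]
      exact LinearMap.finrank_range_of_inj hΦinj
    omega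
  -- the map S/xS → R/P
  let ψ₀ : S →ₗ[k] (R ⧸ P) := P.mkQ ∘ₗ S.val.toLinearMap
  have hψ₀ : ∀ s : S, ψ₀ s = P.mkQ (s : R) := fun s => rfl
  have hψ₀ker : (Ideal.span {x}).restrictScalars k ≤ LinearMap.ker ψ₀ := by
    intro s hs
    rw [Submodule.restrictScalars_mem, Ideal.mem_span_singleton'] at hs
    obtain ⟨t, rfl⟩ := hs
    rw [LinearMap.mem_ker, hψ₀, Submodule.mkQ_apply, Submodule.Quotient.mk_eq_zero]
    refine (memP _).mpr ⟨t, t.2, ?_⟩
    rw [Subalgebra.coe_mul, mul_comm]
  have hψ₀ker' : LinearMap.ker ψ₀ ≤ (Ideal.span {x}).restrictScalars k := by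
    intro s hs
    rw [LinearMap.mem_ker, hψ₀, Submodule.mkQ_apply, Submodule.Quotient.mk_eq_zero] at hs
    obtain ⟨a, ha, hax⟩ := (memP _).mp hs
    rw [Submodule.restrictScalars_mem, Ideal.mem_span_singleton']
    refine ⟨⟨a, ha⟩, ?_⟩
    apply Subtype.ext
    rw [Subalgebra.coe_mul, mul_comm]
    exact hax
  let Ψ₁ : (S ⧸ (Ideal.span {x}).restrictScalars k) →ₗ[k] (R ⧸ P) :=
    Submodule.liftQ ((Ideal.span {x}).restrictScalars k) ψ₀ hψ₀ker
  have hΨ₁inj : Function.Injective Ψ₁ :=
    LinearMap.ker_eq_bot.mp (Submodule.ker_liftQ_eq_bot _ ψ₀ hψ₀ker hψ₀ker')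
  have hΨ₁range : LinearMap.range Ψ₁ = A.map P.mkQ := by
    rw [Submodule.range_liftQ]
    ext y
    constructor
    · rintro ⟨s, rfl⟩
      exact ⟨(s : R), (memA _).mpr s.2, rfl⟩
    · rintro ⟨a, ha, rfl⟩
      exact ⟨⟨a, (memA a).mp ha⟩, rfl⟩
  have h2 : Module.finrank k (R ⧸ P) =
      Module.finrank k (R ⧸ A) + Module.finrank k (S ⧸ Ideal.span {x}) := by
    have e1 := Submodule.finrank_quotient_add_finrank (A.map P.mkQ)
    have e2 : Module.finrank k ((R ⧸ P) ⧸ A.map P.mkQ) = Module.finrank k (R ⧸ A) :=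
      LinearEquiv.finrank_eq (Submodule.quotientQuotientEquivQuotient P A hPA)
    have e3 : Module.finrank k (A.map P.mkQ) =
        Module.finrank k (S ⧸ (Ideal.span {x}).restrictScalars k) := by
      rw [← hΨ₁range]
      exact LinearMap.finrank_range_of_inj hΨ₁inj
    have e4 : Module.finrank k (S ⧸ (Ideal.span {x}).restrictScalars k) =
        Module.finrank k (S ⧸ Ideal.span {x}) :=
      LinearEquiv.finrank_eq (Submodule.Quotient.restrictScalarsEquiv k (Ideal.span {x}))
    omega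
  have h3 : Module.finrank k (R ⧸ Q) = Module.finrank k (R ⧸ Ideal.span {(x : R)}) :=
    LinearEquiv.finrank_eq (Submodule.Quotient.restrictScalarsEquiv k (Ideal.span {(x : R)}))
  omega

end Groth.Agent.S11049
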