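import Groth.Statements.S11051
import Groth.Agent.H27.Generic

set_option autoImplicit false
open FunFld

namespace Groth.Agent.S11051

open WithZero IntermediateField Groth.Agent.H55 Groth.Agent.H27.Expn Groth.Agent.H27.Generic


/-- Over an algebraically closed constant field, for every separating variable `x` of a function field
`K` of one variable (`K` separable over `k(x)`) there is `y` with `K = k(x, y)` such that the span
of `1, x, y` contains a local parameter at every place. (The published statement takes any `x`; this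
row takes `x` separating, which is what the published proof uses, since it works with the finitely
many places ramified over `k(x)`: for a constant `x` the conclusion fails for every `K`, and in
characteristic `p` it fails for `K = k(t)`, `x = t^p`, where every place is ramified over `k(x)` and
no element of the span has order one at the place at infinity or, if `y` is not a polynomial in `t`,
at a pole of `y`.) -/
theorem result
    (k K : Type*) [Field k] [IsAlgClosed k] [Field K] [Algebra k K]
    (hK : FunFld.IsFunctionField k K) (x : K)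
    (hsep : Algebra.IsSeparable (IntermediateField.adjoin k ({x} : Set K)) K) :
    ∃ y : K, IntermediateField.adjoin k ({x, y} : Set K) = ⊤ ∧
      ∀ P : FunFld.Place k K, ∃ f ∈ Submodule.span k ({1, x, y} : Set K),
        P.1 f = WithZero.exp (-1) := by
  classical
  haveI := hsep
  have hxtr : Transcendental k x := by
    intro halg
    obtain ⟨⟨t, ht, -⟩, -⟩ := hK
    haveI : Algebra.IsAlgebraic k k⟮x⟯ := isAlgebraic_adjoin_simple halg.isIntegral
    haveI : Algebra.IsAlgebraic k⟮x⟯ K := Algebra.IsSeparable.isAlgebraic _ _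
    haveI : Algebra.IsAlgebraic k K := Algebra.IsAlgebraic.trans k k⟮x⟯ K
    exact ht (Algebra.IsAlgebraic.isAlgebraic t)
  haveI := ff_finite hK hxtr
  have hg := Groth.Agent.S11000.result k K hK
  have hFF1 : G.IsFF1 k k⟮x⟯ := G.isFF1_of_isFunctionField
    (Groth.Agent.S11005.result k K hK hg k⟮x⟯ ⟨x, mem_adjoin_simple_self k x, hxtr⟩).1
  have h1 := finite_ramified (k := k) (K := k⟮x⟯) (K' := K) hFF1
  have h2 := poles_finite hK x
  have hbad : {Q : Place k K | ¬ (Q.1 x ≤ 1 ∧
      Q.1 (x - algebraMap k K (cst Q x)) = exp (-1 : ℤ))}.Finite := by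
    refine (h1.union h2).subset ?_
    intro Q hQ
    by_contra hcon
    simp only [Set.mem_union, Set.mem_setOf_eq, not_or, not_not, not_lt] at hcon
    exact hQ ⟨hcon.2, val_sub_eq_of_unramified Q hxtr (cst_spec Q hK hcon.2) hcon.1⟩
  set S : Finset (Place k K) := hbad.toFinset with hS
  obtain ⟨z, hz⟩ := Field.exists_primitive_element k⟮x⟯ K
  obtain ⟨y₀, hy₀ne, hy₀⟩ : ∃ y₀ : K, y₀ ≠ 0 ∧ ∀ P ∈ S, P.1 y₀ = exp (-1 : ℤ) := by
    obtain ⟨y, hy⟩ := weak_approx S (fun _ => (0 : K)) (fun _ => (-1 : ℤ))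
    by_cases h0 : y = 0
    · refine ⟨1, one_ne_zero, fun P hP => ?_⟩
      have := hy P hP
      rw [h0, sub_zero, map_zero] at this
      exact absurd this.symm exp_ne_zero
    · exact ⟨y, h0, fun P hP => by simpa using hy P hP⟩
  set N : ℕ := S.sup (fun P => (log (P.1 z)).toNat) with hN
  set w : K := y₀ ^ (N + 2) * z with hw
  have hwS : ∀ P ∈ S, P.1 w ≤ exp (-2 : ℤ) := by
    intro P hP
    rw [hw, map_mul, map_pow, hy₀ P hP]
    by_cases hz0 : P.1 z = 0
    · rw [hz0, mul_zero]
      exact zero_le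
    · have hle : (log (P.1 z)).toNat ≤ N :=
        Finset.le_sup (f := fun P : Place k K => (log (P.1 z)).toNat) hP
      rw [← exp_log hz0, ← exp_nsmul, ← exp_add, exp_le_exp]
      have := Int.self_le_toNat (log (P.1 z))
      simp only [nsmul_eq_mul]
      push_cast
      omega
  haveI : Finite (IntermediateField k⟮x⟯ K) :=
    Field.finite_intermediateField_of_exists_primitive_element k⟮x⟯ K ⟨z, hz⟩
  obtain ⟨c₁, c₂, hc, hL⟩ :=
    Finite.exists_ne_map_eq_of_infinite (fun c : k => k⟮x⟯⟮y₀ + c • w⟯)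
  replace hL : k⟮x⟯⟮y₀ + c₁ • w⟯ = k⟮x⟯⟮y₀ + c₂ • w⟯ := hL
  set y : K := y₀ + c₁ • w with hy
  have hkL : ∀ (L : IntermediateField k⟮x⟯ K) (c : k) (v : K), v ∈ L → c • v ∈ L := by
    intro L c v hv
    rw [← IsScalarTower.algebraMap_smul k⟮x⟯ c v]
    exact L.smul_mem hv
  have hytop : k⟮x⟯⟮y⟯ = ⊤ := by
    have hyL : y ∈ k⟮x⟯⟮y⟯ := mem_adjoin_simple_self _ _
    have hyL2 : y₀ + c₂ • w ∈ k⟮x⟯⟮y⟯ := by
      rw [hL]
      exact mem_adjoin_simple_self _ _
    have hdiff : (c₁ - c₂) • w ∈ k⟮x⟯⟮y⟯ := by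
      have e : (c₁ - c₂) • w = y - (y₀ + c₂ • w) := by
        rw [hy, sub_smul]
        ring
      rw [e]
      exact sub_mem hyL hyL2
    have hwL : w ∈ k⟮x⟯⟮y⟯ := by
      have e : w = (c₁ - c₂)⁻¹ • ((c₁ - c₂) • w) := by
        rw [smul_smul, inv_mul_cancel₀ (sub_ne_zero.2 hc), one_smul]
      rw [e]
      exact hkL _ _ _ hdiff
    have hy₀L : y₀ ∈ k⟮x⟯⟮y⟯ := by
      have e : y₀ = y - c₁ • w := by
        rw [hy]
        ring
      rw [e]
      exact sub_mem hyL (hkL _ _ _ hwL)
    have hzL : z ∈ k⟮x⟯⟮y⟯ := by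
      have e : z = (y₀ ^ (N + 2))⁻¹ * w := by
        rw [hw, ← mul_assoc, inv_mul_cancel₀ (pow_ne_zero _ hy₀ne), one_mul]
      rw [e]
      exact mul_mem (inv_mem (pow_mem hy₀L _)) hwL
    rw [eq_top_iff, ← hz]
    exact adjoin_simple_le_iff.2 hzL
  refine ⟨y, ?_, ?_⟩
  · rw [← adjoin_simple_adjoin_simple, hytop, restrictScalars_top]
  · intro P
    by_cases hP : P ∈ S
    · refine ⟨y, Submodule.subset_span (by simp), ?_⟩
      have h1 : P.1 (c₁ • w) < P.1 y₀ := by
        rw [hy₀ P hP]
        exact lt_of_le_of_lt ((pl_val_smul_le P c₁ w).trans (hwS P hP))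
          (by rw [exp_lt_exp]; norm_num)
      rw [hy, Valuation.map_add_eq_of_lt_left _ h1]
      exact hy₀ P hP
    · have hP' : P.1 x ≤ 1 ∧ P.1 (x - algebraMap k K (cst P x)) = exp (-1 : ℤ) := by
        by_contra h
        exact hP (hbad.mem_toFinset.2 h)
      refine ⟨x - cst P x • (1 : K), ?_, ?_⟩
      · exact Submodule.sub_mem _ (Submodule.subset_span (by simp))
          (Submodule.smul_mem _ _ (Submodule.subset_span (by simp)))
      · rw [← Algebra.algebraMap_eq_smul_one]
        exact hP'.2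

end Groth.Agent.S11051
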