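import Groth.Statements.S11053
import Groth.Agent.H81.StrongFix

set_option autoImplicit false
open FunFld

namespace Groth.Agent.S11053

/-- Over an algebraically closed constant field, let `τ` be a `k`-embedding of the function field `K` of
genus `g` into itself, of degree `deg τ = [K : τ(K)]`. A place is a strong fixed point of `τ` when
`τ` maps its maximal ideal into the square of that ideal. For every integer `n > g` there are at
most `1 + deg τ + (n + deg τ / n) g + 2g²(g-1)/n` strong fixed points. -/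
theorem result
    (k K : Type*) [Field k] [IsAlgClosed k] [Field K] [Algebra k K]
    (hK : FunFld.IsFunctionField k K) (τ : K →ₐ[k] K) (n : ℕ)
    (hn : FunFld.genus k K < n) :
    {P : FunFld.Place k K | ∀ x : K, P.1 x < 1 → P.1 (τ x) ≤ WithZero.exp (-2)}.Finite ∧
    (Set.ncard {P : FunFld.Place k K | ∀ x : K, P.1 x < 1 → P.1 (τ x) ≤ WithZero.exp (-2)} : ℝ) ≤
      1 + Module.finrank τ.fieldRange K +
        (n + (Module.finrank τ.fieldRange K : ℝ) / n) * FunFld.genus k K +
        2 * (FunFld.genus k K : ℝ) ^ 2 * (FunFld.genus k K - 1) / n := by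
  obtain ⟨hfin, hb⟩ := Groth.Agent.H81.StrongFix.strong_bound_int hK τ n hn
  refine ⟨hfin, ?_⟩
  have hn0 : (0 : ℝ) < (n : ℝ) := by
    have : 0 < n := by omega
    exact_mod_cast this
  have hbR : (n : ℝ) * (Set.ncard {P : FunFld.Place k K | FunFld.IsStrongFixedPt τ P} : ℝ) ≤
      (FunFld.genus k K : ℝ) * (n : ℝ) ^ 2 + n + (Module.finrank τ.fieldRange K : ℝ) * n
        + (Module.finrank τ.fieldRange K : ℝ) * FunFld.genus k K
        + 2 * (FunFld.genus k K : ℝ) ^ 2 * ((FunFld.genus k K : ℝ) - 1) := by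
    exact_mod_cast hb
  have hN : (Set.ncard {P : FunFld.Place k K | ∀ x : K, P.1 x < 1 → P.1 (τ x) ≤ WithZero.exp (-2)} : ℝ)
      = (Set.ncard {P : FunFld.Place k K | FunFld.IsStrongFixedPt τ P} : ℝ) := rfl
  rw [hN]
  have key : (1 + (Module.finrank τ.fieldRange K : ℝ) +
        ((n : ℝ) + (Module.finrank τ.fieldRange K : ℝ) / n) * FunFld.genus k K +
        2 * (FunFld.genus k K : ℝ) ^ 2 * ((FunFld.genus k K : ℝ) - 1) / n) * n
      = (FunFld.genus k K : ℝ) * (n : ℝ) ^ 2 + n + (Module.finrank τ.fieldRange K : ℝ) * n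
        + (Module.finrank τ.fieldRange K : ℝ) * FunFld.genus k K
        + 2 * (FunFld.genus k K : ℝ) ^ 2 * ((FunFld.genus k K : ℝ) - 1) := by
    field_simp
    ring
  rw [← key] at hbR
  refine le_of_mul_le_mul_right ?_ hn0
  rw [mul_comm]
  exact hbR

end Groth.Agent.S11053
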