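import Groth.Statements.S11066
import Groth.Agent.H55.FFProj
open Groth.Agent.H55

set_option autoImplicit false
open FunFld

namespace Groth.Agent.S11066

/-- Over an algebraically closed constant field, for an effective projective map `φ` normalized at the
place `P` (`1` in the span of the entries, all entries integral at `P`), the local ring of `φ` at
`P` has an element of order one at `P` (a local parameter) exactly when the span of the entries has
one. The local ring consists of the quotients of polynomials over `k` in the ratios `φᵢ/φⱼ`, `φⱼ` of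
least order at `P`, with denominator a unit at `P`. -/
theorem result
    (k K : Type*) [Field k] [IsAlgClosed k] [Field K] [Algebra k K]
    (hK : FunFld.IsFunctionField k K) {n : ℕ} (φ : Fin (n + 1) → K)
    (P : FunFld.Place k K) (heff : (1 : K) ∈ Submodule.span k (Set.range φ))
    (hnorm : ∀ i, P.1 (φ i) ≤ 1) :
    (∃ t : K, FunFld.InLocRing φ P t ∧ P.1 t = WithZero.exp (-1)) ↔
      ∃ t ∈ Submodule.span k (Set.range φ), P.1 t = WithZero.exp (-1) := by
  classical
  obtain ⟨a, ha⟩ := (Submodule.mem_span_range_iff_exists_fun k).mp heff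
  have hex : ∃ i, P.1 (φ i) = 1 := by
    by_contra hne
    push_neg at hne
    have hlt : ∀ i, P.1 (φ i) < 1 := fun i => lt_of_le_of_ne (hnorm i) (hne i)
    have : P.1 (∑ i, a i • φ i) < 1 := P.1.map_sum_lt one_ne_zero
      (fun i _ => (pl_val_smul_le P (a i) (φ i)).trans_lt (hlt i))
    rw [ha, map_one] at this
    exact lt_irrefl _ this
  have hunit : ∀ j, (∀ i, P.1 (φ i) ≤ P.1 (φ j)) → P.1 (φ j) = 1 := by
    intro j hj
    obtain ⟨i, hi⟩ := hex
    exact le_antisymm (hnorm j) (hi.ge.trans (hj i))
  constructor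
  · rintro ⟨t, ⟨j, hj0, hj, u, hu, w, hw, hPw, htw⟩, ht⟩
    have hPj := hunit j hj
    have hPr : ∀ i, P.1 (φ i / φ j) ≤ 1 := fun i => by
      rw [map_div₀, hPj, div_one]
      exact hnorm i
    choose c hc using fun i => exists_const_sub_lt_one hK P (hPr i)
    by_cases hcase : ∃ i, P.1 (φ i / φ j - algebraMap k K (c i)) = WithZero.exp (-1)
    · obtain ⟨i, hi⟩ := hcase
      refine ⟨φ i - c i • φ j, ?_, ?_⟩
      · exact sub_mem (Submodule.subset_span ⟨i, rfl⟩)
          (Submodule.smul_mem _ _ (Submodule.subset_span ⟨j, rfl⟩))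
      · have e : φ i - c i • φ j = (φ i / φ j - algebraMap k K (c i)) * φ j := by
          rw [Algebra.smul_def]
          field_simp
        rw [e, map_mul, hi, hPj, mul_one]
    · exfalso
      push_neg at hcase
      have h2 : ∀ i, P.1 (φ i / φ j - algebraMap k K (c i)) ≤ WithZero.exp (-((2 : ℕ) : ℤ)) := by
        intro i
        have h1 := (zm0_lt_one_iff _).mp (hc i)
        have h1' := lt_of_le_of_ne h1 (hcase i)
        have := (zm0_lt_exp_iff _ (-1)).mp h1'
        have e2 : ((-1 : ℤ) - 1) = -((2 : ℕ) : ℤ) := by norm_num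
        rwa [e2] at this
      obtain ⟨d, hd⟩ := adjoin_const_mod (fun _ : Unit => P) (fun _ => 2) _ c
        (fun i _ => h2 i) hu
      have hd := hd ()
      have hPu : P.1 u = WithZero.exp (-1) := by rw [← htw, map_mul, hPw, mul_one, ht]
      have hlt : P.1 (u - algebraMap k K d) < 1 := by
        refine lt_of_le_of_lt hd ?_
        have : WithZero.exp (-((2 : ℕ) : ℤ)) < WithZero.exp (0 : ℤ) :=
          WithZero.exp_lt_exp.mpr (by norm_num)
        simpa using this
      have hd0 : d = 0 := (val_lt_one_iff_const_eq_zero P hlt).mp (by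
        rw [hPu]
        exact (zm0_lt_one_iff _).mpr le_rfl)
      subst hd0
      rw [map_zero, sub_zero, hPu] at hd
      have := WithZero.exp_le_exp.mp hd
      norm_num at this
  · rintro ⟨t, htW, ht⟩
    obtain ⟨b, hb⟩ := (Submodule.mem_span_range_iff_exists_fun k).mp htW
    obtain ⟨j, -, hj⟩ := Finset.exists_max_image Finset.univ (fun i => P.1 (φ i))
      ⟨0, Finset.mem_univ _⟩
    have hj' : ∀ i, P.1 (φ i) ≤ P.1 (φ j) := fun i => hj i (Finset.mem_univ _)
    have hPj := hunit j hj'
    have hj0 : φ j ≠ 0 := by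
      intro h
      rw [h, map_zero] at hPj
      exact zero_ne_one hPj
    have hρ : (φ j)⁻¹ = ∑ i, a i • (φ i / φ j) := by
      rw [← one_div, ← ha, Finset.sum_div]
      simp_rw [smul_div_assoc]
    have hρmem : (φ j)⁻¹ ∈ Algebra.adjoin k (Set.range fun i => φ i / φ j) := by
      rw [hρ]
      exact Subalgebra.sum_mem _ (fun i _ =>
        Subalgebra.smul_mem _ (Algebra.subset_adjoin
          (Set.mem_range_self (f := fun i => φ i / φ j) i)) _)
    have htρ : t * (φ j)⁻¹ ∈ Algebra.adjoin k (Set.range fun i => φ i / φ j) := by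
      rw [← hb, Finset.sum_mul]
      refine Subalgebra.sum_mem _ (fun i _ => ?_)
      rw [smul_mul_assoc, ← div_eq_mul_inv]
      exact Subalgebra.smul_mem _ (Algebra.subset_adjoin
        (Set.mem_range_self (f := fun i => φ i / φ j) i)) _
    exact ⟨t, ⟨j, hj0, hj', t * (φ j)⁻¹, htρ, (φ j)⁻¹, hρmem,
      by rw [map_inv₀, hPj, inv_one], rfl⟩, ht⟩

end Groth.Agent.S11066
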