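import Groth.Statements.S11078
import Groth.Agent.H55.FFProj
open Groth.Agent.H55

set_option autoImplicit false
open FunFld

namespace Groth.Agent.S11078

/-- Over an algebraically closed constant field, for a projective map `φ = (φ₀, …, φₙ)`, `n ≥ 1`, and a
point `a = φ(P)` with local ring `O_a`, the fibre `φ⁻¹(a)` consists of the places `Q` with `O_a ⊆
O_Q` and `m_Q ∩ O_a` equal to the maximal ideal of `O_a` (which is `m_P ∩ O_a`). Here `O_a` consists
of the quotients of polynomials over `k` in the ratios `φᵢ/φⱼ`, `φⱼ` of least order at `P`, with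
denominator a unit at `P`; and `Q` has the same image point as `P` when some entry has least order
at both places and the ratios are congruent to common constants modulo both maximal ideals. -/
theorem result
    (k K : Type*) [Field k] [IsAlgClosed k] [Field K] [Algebra k K]
    (hK : FunFld.IsFunctionField k K) {n : ℕ} (hn : 1 ≤ n) (φ : Fin (n + 1) → K)
    (hφ : LinearIndependent k φ) (P Q : FunFld.Place k K) :
    FunFld.SameImage φ P Q ↔
      ∀ z : K, FunFld.InLocRing φ P z → (Q.1 z ≤ 1 ∧ (Q.1 z < 1 ↔ P.1 z < 1)) := by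
  constructor
  · rintro ⟨j, hj0, hPj, hQj, hc⟩ z ⟨j', hj'0, hPj', u, hu, w, hw, hPw, hzw⟩
    choose c hcP hcQ using hc
    have hPb : P.1 (φ j' / φ j) = 1 := by
      rw [map_div₀, le_antisymm (hPj j') (hPj' j)]
      exact div_self ((Valuation.ne_zero_iff _).mpr hj0)
    have hcj' : c j' ≠ 0 := by
      intro h0
      have := (val_lt_one_iff_const_eq_zero P (hcP j')).mpr h0
      rw [hPb] at this
      exact lt_irrefl _ this
    have e : ∀ i, φ i / φ j / (φ j' / φ j) = φ i / φ j' := by
      intro i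
      field_simp
    have hP' : ∀ i, P.1 (φ i / φ j' - algebraMap k K (c i / c j')) < 1 := by
      intro i
      have := val_div_sub_lt_one P (hcP i) (hcP j') hcj'
      rwa [e] at this
    have hQ' : ∀ i, Q.1 (φ i / φ j' - algebraMap k K (c i / c j')) < 1 := by
      intro i
      have := val_div_sub_lt_one Q (hcQ i) (hcQ j') hcj'
      rwa [e] at this
    obtain ⟨du, hduP, hduQ⟩ := adjoin_const_two P Q _ _ hP' hQ' hu
    obtain ⟨dw, hdwP, hdwQ⟩ := adjoin_const_two P Q _ _ hP' hQ' hw
    have hdw : dw ≠ 0 := by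
      intro h0
      have := (val_lt_one_iff_const_eq_zero P hdwP).mpr h0
      rw [hPw] at this
      exact lt_irrefl _ this
    have hQw : Q.1 w = 1 := val_eq_one_of_sub_const Q hdwQ hdw
    have hQz : Q.1 z = Q.1 u := by rw [← hzw, map_mul, hQw, mul_one]
    have hPz : P.1 z = P.1 u := by rw [← hzw, map_mul, hPw, mul_one]
    rw [hQz, hPz]
    refine ⟨val_le_one_of_sub_const Q hduQ.le, ?_⟩
    rw [val_lt_one_iff_const_eq_zero Q hduQ, val_lt_one_iff_const_eq_zero P hduP]
  · intro H
    obtain ⟨j, -, hj⟩ := Finset.exists_max_image Finset.univ (fun i => P.1 (φ i))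
      ⟨0, Finset.mem_univ _⟩
    have hj' : ∀ i, P.1 (φ i) ≤ P.1 (φ j) := fun i => hj i (Finset.mem_univ _)
    have hj0 : φ j ≠ 0 := hφ.ne_zero j
    have hin : ∀ u ∈ Algebra.adjoin k (Set.range fun i => φ i / φ j), FunFld.InLocRing φ P u :=
      fun u hu => ⟨j, hj0, hj', u, hu, 1, one_mem _, map_one _, mul_one u⟩
    have hPr : ∀ i, P.1 (φ i / φ j) ≤ 1 := fun i => by
      rw [map_div₀]
      exact div_le_one_of_le₀ (hj' i) zero_le'
    have hQr : ∀ i, Q.1 (φ i / φ j) ≤ 1 := fun i =>
      (H _ (hin _ (Algebra.subset_adjoin ⟨i, rfl⟩))).1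
    refine ⟨j, hj0, hj', fun i => ?_, fun i => ?_⟩
    · have := hQr i
      rwa [map_div₀, div_le_one₀ (zero_lt_iff.mpr ((Valuation.ne_zero_iff _).mpr hj0))] at this
    · obtain ⟨c, hc⟩ := exists_const_sub_lt_one hK P (hPr i)
      refine ⟨c, hc, ?_⟩
      exact ((H _ (hin _ (sub_mem (Algebra.subset_adjoin ⟨i, rfl⟩)
        (Subalgebra.algebraMap_mem _ c)))).2).mpr hc

end Groth.Agent.S11078
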