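import Groth.Statements.S11055
import Groth.Agent.H55.FFSing
import Groth.Agent.S11066
import Groth.Agent.S11078
open Groth.Agent.H55

set_option autoImplicit false
open FunFld

namespace Groth.Agent.S11055

/-- Over an algebraically closed constant field, a projective map `φ = (φ₀, …, φₙ)`, `n ≥ 1`, with span
`W` and divisor `[φ]` is nonsingular at the place `P` if and only if `W ∩ L([φ] - P - Q)` has
codimension `2` in `W` for every place `Q`. Here a projective map is nonsingular at a place when its
local ring there (quotients of polynomials over `k` in the ratios `φᵢ/φⱼ`, `φⱼ` of least order at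
the place, with denominator a unit there) is the whole valuation ring. (The published statement is
for any projective map; the published proof uses the finiteness property of the local ring that is
established for birational maps, so `φ` is taken birational here: the ratios `φᵢ/φ₀` generate `K`
over `k`.) -/
theorem result
    (k K : Type*) [Field k] [IsAlgClosed k] [Field K] [Algebra k K]
    (hK : FunFld.IsFunctionField k K) {n : ℕ} (hn : 1 ≤ n)
    (φ : Fin (n + 1) → K) (hφ : LinearIndependent k φ)
    (hbir : IntermediateField.adjoin k (Set.range fun i => φ i / φ 0) = ⊤) (P : FunFld.Place k K) :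
    FunFld.IsNonsingularAt φ P ↔ ∀ Q : FunFld.Place k K,
      Module.finrank k ↥(Submodule.span k (Set.range φ) ⊓
          FunFld.L (FunFld.mapDiv k φ - Finsupp.single P 1 - Finsupp.single Q 1)) + 2 =
        Module.finrank k ↥(Submodule.span k (Set.range φ)) := by
  classical
  have hφ0 : ∀ i, φ i ≠ 0 := fun i => hφ.ne_zero i
  haveI : FiniteDimensional k ↥(Submodule.span k (Set.range φ)) :=
    FiniteDimensional.span_of_finite k (Set.finite_range φ)
  obtain ⟨j, -, hj⟩ := Finset.exists_max_image Finset.univ (fun i => P.1 (φ i))
    ⟨0, Finset.mem_univ _⟩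
  have hj' : ∀ i, P.1 (φ i) ≤ P.1 (φ j) := fun i => hj i (Finset.mem_univ _)
  have hPj : P.1 (φ j) = WithZero.exp (FunFld.mapDiv k φ P) :=
    val_eq_exp_mapDiv hK φ hφ0 P j hj'
  have hWL : Submodule.span k (Set.range φ) ≤ FunFld.L (FunFld.mapDiv k φ) := by
    rw [Submodule.span_le]
    rintro _ ⟨i, rfl⟩
    exact mem_L_mapDiv hK φ hφ0 i
  have hWinf : Submodule.span k (Set.range φ) ⊓ FunFld.L (FunFld.mapDiv k φ) =
      Submodule.span k (Set.range φ) := inf_eq_left.mpr hWL
  have hr_le : ∀ i, P.1 (φ i / φ j) ≤ 1 := fun i => by
    rw [map_div₀]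
    exact div_le_one_of_le₀ (hj' i) zero_le'
  have hratio : ∀ f ∈ Submodule.span k (Set.range φ),
      f / φ j ∈ Acoord k (fun i => φ i / φ j) := by
    intro f hfs
    obtain ⟨c, hc⟩ := (Submodule.mem_span_range_iff_exists_fun k).mp hfs
    have e : f / φ j = ∑ i, c i • (φ i / φ j) := by
      rw [← hc, Finset.sum_div]
      simp_rw [smul_div_assoc]
    rw [e]
    exact Subalgebra.sum_mem _ (fun i _ => Subalgebra.smul_mem _
      (Algebra.subset_adjoin (Set.mem_range_self (f := fun i => φ i / φ j) i)) _)
  have hC1 := finrank_inf_L_le hK (Submodule.span k (Set.range φ))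
  constructor
  · intro hns Q
    have h1 := hC1 (FunFld.mapDiv k φ) P
    rw [hWinf] at h1
    have h2 := hC1 (FunFld.mapDiv k φ - Finsupp.single P 1) Q
    have hs1 : Submodule.span k (Set.range φ) ⊓
        FunFld.L (FunFld.mapDiv k φ - Finsupp.single P 1) < Submodule.span k (Set.range φ) := by
      refine lt_of_le_of_ne inf_le_left (fun heq => ?_)
      have h3 : φ j ∈ Submodule.span k (Set.range φ) ⊓
          FunFld.L (FunFld.mapDiv k φ - Finsupp.single P 1) := by
        rw [heq]
        exact Submodule.subset_span ⟨j, rfl⟩
      have h4 := h3.2 P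
      rw [hPj, Finsupp.sub_apply, Finsupp.single_eq_same] at h4
      have := WithZero.exp_le_exp.mp h4
      omega
    have hs2 : Submodule.span k (Set.range φ) ⊓
        FunFld.L (FunFld.mapDiv k φ - Finsupp.single P 1 - Finsupp.single Q 1) <
        Submodule.span k (Set.range φ) ⊓
          FunFld.L (FunFld.mapDiv k φ - Finsupp.single P 1) := by
      refine lt_of_le_of_ne (inf_le_inf_left _ (L_mono (sub_le_self _ (single_one_nonneg Q))))
        (fun heq => ?_)
      by_cases hQP : Q = P
      · rw [hQP] at heq
        obtain ⟨t₀, -, ht₀⟩ := pl_exists_val_eq_exp P (-1)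
        have hin : FunFld.InLocRing φ P t₀ :=
          hns t₀ (by rw [ht₀]; exact ((zm0_lt_one_iff _).mpr le_rfl).le)
        obtain ⟨r, hr⟩ : ∃ r : Fin (n + 1) → K, r = fun i => φ i / φ j := ⟨_, rfl⟩
        have hri : ∀ i, r i = φ i / φ j := fun i => by rw [hr]
        have hrj : r j = 1 := by rw [hri]; exact div_self (hφ0 j)
        have hr_le' : ∀ i, P.1 (r i) ≤ 1 := fun i => by rw [hri]; exact hr_le i
        have hr_least : ∀ i, P.1 (r i) ≤ P.1 (r j) := by
          intro i
          rw [hrj, map_one]
          exact hr_le' i
        have hin_r : FunFld.InLocRing r P t₀ := by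
          rw [inLocRing_iff r P j (by rw [hrj]; exact one_ne_zero) hr_least]
          have e : (fun i => r i / r j) = fun i => φ i / φ j := by
            funext i
            rw [hrj, div_one, hri]
          rw [e]
          exact (inLocRing_iff φ P j (hφ0 j) hj' t₀).mp hin
        have heff : (1 : K) ∈ Submodule.span k (Set.range r) := by
          rw [← hrj]
          exact Submodule.subset_span ⟨j, rfl⟩
        obtain ⟨t, htW, htP⟩ := (Groth.Agent.S11066.result k K hK r P heff
          hr_le').mp ⟨t₀, hin_r, ht₀⟩
        obtain ⟨c, hc⟩ := (Submodule.mem_span_range_iff_exists_fun k).mp htW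
        have hfW : t * φ j ∈ Submodule.span k (Set.range φ) := by
          rw [← hc, Finset.sum_mul]
          refine Submodule.sum_mem _ (fun i _ => ?_)
          rw [smul_mul_assoc]
          have e : r i * φ j = φ i := by rw [hri]; exact div_mul_cancel₀ _ (hφ0 j)
          rw [e]
          exact Submodule.smul_mem _ _ (Submodule.subset_span ⟨i, rfl⟩)
        have hfP : P.1 (t * φ j) = WithZero.exp (FunFld.mapDiv k φ P - 1) := by
          rw [map_mul, htP, hPj, ← WithZero.exp_add]
          congr 1
          ring
        have hf1 : t * φ j ∈ Submodule.span k (Set.range φ) ⊓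
            FunFld.L (FunFld.mapDiv k φ - Finsupp.single P 1) := by
          refine ⟨hfW, fun Q' => ?_⟩
          by_cases hQ' : Q' = P
          · rw [hQ', Finsupp.sub_apply, Finsupp.single_eq_same]
            exact hfP.le
          · rw [Finsupp.sub_apply, Finsupp.single_apply, if_neg (Ne.symm hQ'), sub_zero]
            exact hWL hfW Q'
        rw [← heq] at hf1
        have h3 := hf1.2 P
        rw [hfP, Finsupp.sub_apply, Finsupp.sub_apply, Finsupp.single_eq_same] at h3
        have := WithZero.exp_le_exp.mp h3
        omega
      · have hall : ∀ f ∈ Submodule.span k (Set.range φ),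
            P.1 f ≤ WithZero.exp (FunFld.mapDiv k φ P - 1) →
            Q.1 f ≤ WithZero.exp (FunFld.mapDiv k φ Q - 1) := by
          intro f hfW hfP
          have hf1 : f ∈ Submodule.span k (Set.range φ) ⊓
              FunFld.L (FunFld.mapDiv k φ - Finsupp.single P 1) := by
            refine ⟨hfW, fun Q' => ?_⟩
            by_cases hQ' : Q' = P
            · rw [hQ', Finsupp.sub_apply, Finsupp.single_eq_same]
              exact hfP
            · rw [Finsupp.sub_apply, Finsupp.single_apply, if_neg (Ne.symm hQ'), sub_zero]
              exact hWL hfW Q'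
          rw [← heq] at hf1
          have h3 := hf1.2 Q
          rw [Finsupp.sub_apply, Finsupp.sub_apply, Finsupp.single_apply,
            if_neg (Ne.symm hQP), sub_zero, Finsupp.single_eq_same] at h3
          exact h3
        choose c hc using fun i => exists_const_sub_lt_one hK P (hr_le i)
        have hfi : ∀ i, Q.1 (φ i - c i • φ j) ≤ WithZero.exp (FunFld.mapDiv k φ Q - 1) := by
          intro i
          apply hall _ (Submodule.sub_mem _ (Submodule.subset_span ⟨i, rfl⟩)
            (Submodule.smul_mem _ _ (Submodule.subset_span ⟨j, rfl⟩)))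
          have e : φ i - c i • φ j = (φ i / φ j - algebraMap k K (c i)) * φ j := by
            rw [Algebra.smul_def]
            have := hφ0 j
            field_simp
          rw [e, map_mul, hPj]
          calc P.1 (φ i / φ j - algebraMap k K (c i)) * WithZero.exp (FunFld.mapDiv k φ P)
              ≤ WithZero.exp (-1 : ℤ) * WithZero.exp (FunFld.mapDiv k φ P) :=
                mul_le_mul' ((zm0_lt_one_iff _).mp (hc i)) le_rfl
            _ = WithZero.exp (FunFld.mapDiv k φ P - 1) := by
                rw [← WithZero.exp_add]
                congr 1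
                ring
        obtain ⟨jQ, -, hjQ⟩ := Finset.exists_max_image Finset.univ (fun i => Q.1 (φ i))
          ⟨0, Finset.mem_univ _⟩
        have hQjQ : Q.1 (φ jQ) = WithZero.exp (FunFld.mapDiv k φ Q) :=
          val_eq_exp_mapDiv hK φ hφ0 Q jQ (fun i => hjQ i (Finset.mem_univ _))
        have hQj : Q.1 (φ j) = WithZero.exp (FunFld.mapDiv k φ Q) := by
          have h3 := hfi jQ
          have hlt : Q.1 (φ jQ - c jQ • φ j) < Q.1 (φ jQ) := by
            rw [hQjQ]
            exact lt_of_le_of_lt h3 (WithZero.exp_lt_exp.mpr (by omega))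
          have h4 : Q.1 (c jQ • φ j) = Q.1 (φ jQ) := by
            have e : c jQ • φ j = φ jQ - (φ jQ - c jQ • φ j) := by ring
            rw [e]
            exact Valuation.map_sub_eq_of_lt_left _ hlt
          have h5 := pl_val_smul_le Q (c jQ) (φ j)
          have h6 : Q.1 (φ j) ≤ WithZero.exp (FunFld.mapDiv k φ Q) :=
            hWL (Submodule.subset_span ⟨j, rfl⟩) Q
          refine le_antisymm h6 ?_
          rw [← hQjQ, ← h4]
          exact h5
        have hQleast : ∀ i, Q.1 (φ i) ≤ Q.1 (φ j) := fun i => by
          rw [hQj]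
          exact hWL (Submodule.subset_span ⟨i, rfl⟩) Q
        have hsame : FunFld.SameImage φ P Q := by
          refine ⟨j, hφ0 j, hj', hQleast, fun i => ⟨c i, hc i, ?_⟩⟩
          have e : φ i / φ j - algebraMap k K (c i) = (φ i - c i • φ j) / φ j := by
            rw [Algebra.smul_def]
            have := hφ0 j
            field_simp
          rw [e, map_div₀, hQj]
          refine lt_of_le_of_lt (div_le_div_of_nonneg_right (hfi i) zero_le') ?_
          rw [← WithZero.exp_sub]
          have h7 : (WithZero.exp (FunFld.mapDiv k φ Q - 1 - FunFld.mapDiv k φ Q) :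
              WithZero (Multiplicative ℤ)) < WithZero.exp (0 : ℤ) :=
            WithZero.exp_lt_exp.mpr (by omega)
          simpa using h7
        have h78 := (Groth.Agent.S11078.result k K hK hn φ hφ P Q).mp hsame
        have hPQ : P = Q := pl_eq_of_le (fun x hx => (h78 x (hns x hx)).1)
        exact hQP hPQ.symm
    have h3 := Submodule.finrank_lt_finrank_of_lt hs1
    have h4 := Submodule.finrank_lt_finrank_of_lt hs2
    omega
  · intro hcodim
    refine isNonsingularAt_of_sep_of_unif hK φ 0 hφ0 hbir P j hj' ?_ ?_
    · intro Q hQP hQfin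
      have hQj : ∀ i, Q.1 (φ i) ≤ Q.1 (φ j) := by
        intro i
        have h1 := hQfin i
        change Q.1 (φ i / φ j) ≤ 1 at h1
        rwa [map_div₀,
          div_le_one₀ (zero_lt_iff.mpr ((Valuation.ne_zero_iff _).mpr (hφ0 j)))] at h1
      have hQval := val_eq_exp_mapDiv hK φ hφ0 Q j hQj
      have h0 := hcodim Q
      have h1 := hC1 (FunFld.mapDiv k φ) Q
      rw [hWinf] at h1
      have h2 := hC1 (FunFld.mapDiv k φ - Finsupp.single Q 1) P
      rw [sub_right_comm (FunFld.mapDiv k φ) (Finsupp.single Q 1) (Finsupp.single P 1)] at h2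
      have hlt : Module.finrank k ↥(Submodule.span k (Set.range φ) ⊓
          FunFld.L (FunFld.mapDiv k φ - Finsupp.single Q 1 - Finsupp.single P 1)) <
          Module.finrank k ↥(Submodule.span k (Set.range φ) ⊓
            FunFld.L (FunFld.mapDiv k φ - Finsupp.single Q 1)) := by
        rw [sub_right_comm (FunFld.mapDiv k φ) (Finsupp.single Q 1) (Finsupp.single P 1)]
        omega
      obtain ⟨f, hfW, hf0, hford⟩ := exists_mem_inf_L_ord_eq _ _ P hlt
      refine ⟨f / φ j, hratio f hfW.1, ?_, ?_⟩
      · rw [map_div₀, hPj, pl_val_eq_exp_neg_ord P hf0, hford, Finsupp.sub_apply,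
          Finsupp.single_apply, if_neg hQP, sub_zero, neg_neg]
        exact div_self WithZero.exp_ne_zero
      · rw [map_div₀, hQval]
        have h3 := hfW.2 Q
        rw [Finsupp.sub_apply, Finsupp.single_eq_same] at h3
        refine lt_of_le_of_lt (div_le_div_of_nonneg_right h3 zero_le') ?_
        rw [← WithZero.exp_sub]
        have h7 : (WithZero.exp (FunFld.mapDiv k φ Q - 1 - FunFld.mapDiv k φ Q) :
            WithZero (Multiplicative ℤ)) < WithZero.exp (0 : ℤ) :=
          WithZero.exp_lt_exp.mpr (by omega)
        simpa using h7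
    · have h0 := hcodim P
      have h1 := hC1 (FunFld.mapDiv k φ) P
      rw [hWinf] at h1
      have h2 := hC1 (FunFld.mapDiv k φ - Finsupp.single P 1) P
      have hlt : Module.finrank k ↥(Submodule.span k (Set.range φ) ⊓
          FunFld.L (FunFld.mapDiv k φ - Finsupp.single P 1 - Finsupp.single P 1)) <
          Module.finrank k ↥(Submodule.span k (Set.range φ) ⊓
            FunFld.L (FunFld.mapDiv k φ - Finsupp.single P 1)) := by
        omega
      obtain ⟨f, hfW, hf0, hford⟩ := exists_mem_inf_L_ord_eq _ _ P hlt
      refine ⟨f / φ j, hratio f hfW.1, ?_⟩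
      rw [map_div₀, hPj, pl_val_eq_exp_neg_ord P hf0, hford, Finsupp.sub_apply,
        Finsupp.single_eq_same, neg_neg, ← WithZero.exp_sub]
      congr 1
      ring

end Groth.Agent.S11055
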