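import Groth.Statements.S11056
import Groth.Agent.H55.FFEmb
open Groth.Agent.H55

set_option autoImplicit false
open FunFld

namespace Groth.Agent.S11056

/-- Over an algebraically closed constant field, if `deg D ≥ 2g + 1` then the projective map given by a
basis of `L(D)` is an embedding, i.e. nonsingular at every place. Here a projective map is
nonsingular at a place when its local ring there (quotients of polynomials over `k` in the ratios
`φᵢ/φⱼ`, `φⱼ` of least order at the place, with denominator a unit there) is the whole valuation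
ring. -/
theorem result
    (k K : Type*) [Field k] [IsAlgClosed k] [Field K] [Algebra k K]
    (hK : FunFld.IsFunctionField k K) (D : FunFld.Divisor k K)
    (hD : 2 * (FunFld.genus k K : ℤ) + 1 ≤ D.deg) {n : ℕ} (φ : Fin (n + 1) → K)
    (hφ : LinearIndependent k φ) (hspan : Submodule.span k (Set.range φ) = FunFld.L D)
    (P : FunFld.Place k K) : FunFld.IsNonsingularAt φ P := by
  classical
  have hφ0 : φ 0 ≠ 0 := hφ.ne_zero 0
  have hdrop_gen : ∀ D' : FunFld.Divisor k K, 2 * (FunFld.genus k K : ℤ) ≤ D'.deg →
      ∀ Q : FunFld.Place k K, FunFld.ell (D' - Finsupp.single Q 1) < FunFld.ell D' :=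
    fun D' h Q => ell_sub_single_lt_of_deg_ge hK D' Q h
  have hdeg1 : ∀ Q : FunFld.Place k K,
      FunFld.Divisor.deg (Finsupp.single Q 1 : FunFld.Divisor k K) = 1 := fun Q => by
    rw [deg_single, deg_eq_one_of_isAlgClosed hK Q]
    norm_num
  have hbir : IntermediateField.adjoin k (Set.range fun i => φ i / φ 0) = ⊤ := by
    obtain ⟨x₁, hx₁, hx₁t, hx₁f⟩ := exists_ratio_finrank hK D φ hspan hφ0
      (2 * FunFld.genus k K + 1) (by omega) (by push_cast; omega)
      (fun F hF0 hFd Q => hdrop_gen (D - F) (by rw [deg_sub, hFd]; push_cast; omega) Q)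
    by_cases hg0 : FunFld.genus k K = 0
    · have h1 : Module.finrank (IntermediateField.adjoin k ({x₁} : Set K)) K = 1 := by
        rw [hx₁f, hg0]
      have h2 := IntermediateField.finrank_eq_one_iff_eq_top.mp h1
      rw [eq_top_iff, ← h2]
      exact IntermediateField.adjoin_simple_le_iff.mpr hx₁
    · obtain ⟨x₂, hx₂, hx₂t, hx₂f⟩ := exists_ratio_finrank hK D φ hspan hφ0
        (2 * FunFld.genus k K) (by omega) (by push_cast; omega)
        (fun F hF0 hFd Q => hdrop_gen (D - F) (by rw [deg_sub, hFd]; push_cast; omega) Q)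
      refine adjoin_eq_top_of_coprime _ hx₁ hx₂ ?_
      rw [hx₁f, hx₂f]
      exact coprime_succ_self' _
  exact isNonsingularAt_complete hK D φ hφ hspan hbir (fun Q => hdrop_gen D (by omega) Q) P
    (hdrop_gen (D - Finsupp.single P 1) (by rw [deg_sub, hdeg1]; omega) P)
    (fun Q _ => hdrop_gen (D - Finsupp.single Q 1) (by rw [deg_sub, hdeg1]; omega) P)

end Groth.Agent.S11056
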