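import Groth.Statements.S11057
import Groth.Agent.H55.FFEmb
open Groth.Agent.H55

set_option autoImplicit false
open FunFld

namespace Groth.Agent.S11057

/-- Over an algebraically closed constant field, if `K` has degree at least `3` over every subfield
`k(x)` generated by a nonconstant element, then the canonical map (given by a basis of `L(D)` for a
canonical divisor `D`) is an embedding, i.e. nonsingular at every place. Here a projective map is
nonsingular at a place when its local ring there (quotients of polynomials over `k` in the ratios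
`φᵢ/φⱼ`, `φⱼ` of least order at the place, with denominator a unit there) is the whole valuation
ring. -/
theorem result
    (k K : Type*) [Field k] [IsAlgClosed k] [Field K] [Algebra k K]
    (hK : FunFld.IsFunctionField k K)
    (h2 : ∀ x : K, Transcendental k x →
      2 < Module.finrank (IntermediateField.adjoin k ({x} : Set K)) K)
    (D : FunFld.Divisor k K) (hD : FunFld.IsCanonical k K D) {n : ℕ} (φ : Fin (n + 1) → K)
    (hφ : LinearIndependent k φ) (hspan : Submodule.span k (Set.range φ) = FunFld.L D)
    (P : FunFld.Place k K) : FunFld.IsNonsingularAt φ P := by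
  classical
  obtain ⟨hellD, hdegD⟩ := ell_canonical hK hD
  have hφ0 : φ 0 ≠ 0 := hφ.ne_zero 0
  have hdeg1 : ∀ Q : FunFld.Place k K,
      FunFld.Divisor.deg (Finsupp.single Q 1 : FunFld.Divisor k K) = 1 := fun Q => by
    rw [deg_single, deg_eq_one_of_isAlgClosed hK Q]
    norm_num
  -- effective divisors of degree at most two have only constant sections
  have hsmall : ∀ E : FunFld.Divisor k K, 0 ≤ E → E.deg ≤ 2 → FunFld.ell E = 1 := by
    intro E hE0 hEd
    have h1 : 1 ≤ FunFld.ell E := by
      have h := ell_mono hK hE0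
      have h0 : FunFld.ell (0 : FunFld.Divisor k K) = 1 := (L_zero_finite hK).2
      omega
    by_contra hne
    have h2' : 2 ≤ FunFld.ell E := by omega
    obtain ⟨x, hxE, hxt⟩ := exists_transcendental_mem_L hK hE0 h2'
    have hx0 : x ≠ 0 := by
      rintro rfl
      exact hxt isAlgebraic_zero
    have hpole : poleDiv k x ≤ E := by
      intro Q
      rw [poleDiv_apply hK]
      have h3 := hxE Q
      rw [pl_val_le_exp_iff Q hx0] at h3
      have h4 := hE0 Q
      simp only [Finsupp.coe_zero, Pi.zero_apply] at h4
      exact max_le (by omega) h4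
    have h3 := deg_poleDiv hK x hxt
    have h4 := deg_mono hpole
    have h5 := h2 x hxt
    have h6 : (Module.finrank (IntermediateField.adjoin k ({x} : Set K)) K : ℤ) ≤ 2 := by
      rw [← h3]
      exact h4.trans hEd
    have h7 : Module.finrank (IntermediateField.adjoin k ({x} : Set K)) K ≤ 2 := by
      exact_mod_cast h6
    omega
  have hRR : ∀ E : FunFld.Divisor k K, 0 ≤ E → E.deg ≤ 2 →
      (FunFld.ell (D - E) : ℤ) = FunFld.genus k K - E.deg := by
    intro E hE0 hEd
    have h1 := riemann_roch hK hD (D - E)
    rw [sub_sub_cancel, hsmall E hE0 hEd, deg_sub, hdegD] at h1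
    rw [h1]
    push_cast
    ring
  have hg2 : 2 ≤ FunFld.genus k K := by
    have hP2 : (0 : FunFld.Divisor k K) ≤ Finsupp.single P 1 + Finsupp.single P 1 :=
      add_nonneg (single_one_nonneg P) (single_one_nonneg P)
    have h1 := hsmall (Finsupp.single P 1 + Finsupp.single P 1) hP2
      (by rw [deg_add, hdeg1]; norm_num)
    have h3 := delta_le_genus hK (Finsupp.single P 1 + Finsupp.single P 1)
    unfold delta at h3
    rw [h1, deg_add, hdeg1] at h3
    push_cast at h3
    omega
  have hdropE : ∀ E : FunFld.Divisor k K, 0 ≤ E → E.deg ≤ 1 → ∀ Q : FunFld.Place k K,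
      FunFld.ell (D - E - Finsupp.single Q 1) < FunFld.ell (D - E) := by
    intro E hE0 hEd Q
    have h1 := hRR E hE0 (by omega)
    have h3 := hRR (E + Finsupp.single Q 1) (add_nonneg hE0 (single_one_nonneg Q))
      (by rw [deg_add, hdeg1]; omega)
    rw [deg_add, hdeg1] at h3
    rw [sub_sub]
    have h4 : (FunFld.ell (D - (E + Finsupp.single Q 1)) : ℤ) < FunFld.ell (D - E) := by
      rw [h1, h3]
      omega
    exact_mod_cast h4
  obtain ⟨g', hg'⟩ : ∃ g' : ℕ, FunFld.genus k K = g' + 2 := ⟨FunFld.genus k K - 2, by omega⟩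
  have hdegD' : D.deg = 2 * (g' : ℤ) + 2 := by
    rw [hdegD, hg']
    push_cast
    ring
  have hbir : IntermediateField.adjoin k (Set.range fun i => φ i / φ 0) = ⊤ := by
    obtain ⟨x₁, hx₁, hx₁t, hx₁f⟩ := exists_ratio_finrank hK D φ hspan hφ0
      (2 * g' + 1 + 1) (by omega) (by rw [hdegD']; push_cast; omega)
      (fun F hF0 hFd Q => hdropE F hF0 (by rw [hFd, hdegD']; push_cast; omega) Q)
    obtain ⟨x₂, hx₂, hx₂t, hx₂f⟩ := exists_ratio_finrank hK D φ hspan hφ0
      (2 * g' + 1) (by omega) (by rw [hdegD']; push_cast; omega)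
      (fun F hF0 hFd Q => hdropE F hF0 (by rw [hFd, hdegD']; push_cast; omega) Q)
    refine adjoin_eq_top_of_coprime _ hx₁ hx₂ ?_
    rw [hx₁f, hx₂f]
    exact coprime_succ_self' _
  have hb : ∀ Q : FunFld.Place k K, FunFld.ell (D - Finsupp.single Q 1) < FunFld.ell D := by
    intro Q
    have h := hdropE 0 le_rfl (by rw [deg_zero]; norm_num) Q
    rwa [sub_zero] at h
  exact isNonsingularAt_complete hK D φ hφ hspan hbir hb P
    (hdropE (Finsupp.single P 1) (single_one_nonneg P) (by rw [hdeg1]) P)
    (fun Q _ => hdropE (Finsupp.single Q 1) (single_one_nonneg Q) (by rw [hdeg1]) P)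

end Groth.Agent.S11057
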