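import Groth.Statements.S11065
import Groth.Agent.H55.FFLoc2
open Groth.Agent.H55

set_option autoImplicit false
open FunFld

namespace Groth.Agent.S11065

/-- Over an algebraically closed constant field, a projective map `φ = (φ₀, …, φₙ)`, `n ≥ 1`, is
nonsingular at the place `P` if and only if its local ring at `P` lies in the valuation ring of no
place other than `P` and contains a local parameter at `P`. Here the local ring of a projective map
at a place consists of the quotients of polynomials over `k` in the ratios `φᵢ/φⱼ`, `φⱼ` of least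
order at the place, with denominator a unit there; the map is nonsingular at the place when this
ring is the whole valuation ring. (The published statement is for any projective map; the published
proof uses the finiteness property of the local ring that is established for birational maps, so `φ`
is taken birational here: the ratios `φᵢ/φ₀` generate `K` over `k`.) -/
theorem result
    (k K : Type*) [Field k] [IsAlgClosed k] [Field K] [Algebra k K]
    (hK : FunFld.IsFunctionField k K) {n : ℕ} (hn : 1 ≤ n)
    (φ : Fin (n + 1) → K) (hφ : LinearIndependent k φ)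
    (hbir : IntermediateField.adjoin k (Set.range fun i => φ i / φ 0) = ⊤) (P : FunFld.Place k K) :
    FunFld.IsNonsingularAt φ P ↔
      (∀ Q : FunFld.Place k K, (∀ z : K, FunFld.InLocRing φ P z → Q.1 z ≤ 1) → Q = P) ∧
        ∃ t : K, FunFld.InLocRing φ P t ∧ P.1 t = WithZero.exp (-1) := by
  constructor
  · intro h
    refine ⟨fun Q hQ => ?_, ?_⟩
    · exact (pl_eq_of_le (fun x hx => hQ x (h x hx))).symm
    · obtain ⟨t, -, ht⟩ := pl_exists_val_eq_exp P (-1)
      exact ⟨t, h t (by rw [ht]; exact ((zm0_lt_one_iff _).mpr le_rfl).le), ht⟩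
  · rintro ⟨h1, t, htL, htP⟩
    obtain ⟨j, -, hj⟩ := Finset.exists_max_image Finset.univ (fun i => P.1 (φ i))
      ⟨0, Finset.mem_univ _⟩
    have hj' : ∀ i, P.1 (φ i) ≤ P.1 (φ j) := fun i => hj i (Finset.mem_univ _)
    have hφ0 : ∀ i, φ i ≠ 0 := fun i => hφ.ne_zero i
    refine isNonsingularAt_of_sep_of_unif hK φ 0 hφ0 hbir P j hj' ?_ ?_
    · intro Q hQP hQfin
      by_contra hcon
      push_neg at hcon
      apply hQP
      apply h1
      intro z hz
      rw [inLocRing_iff φ P j (hφ0 j) hj'] at hz
      obtain ⟨u, hu, w, hw, hPw, hzw⟩ := hz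
      have hQw1 : Q.1 w ≤ 1 := Acoord_val_le _ Q hQfin hw
      have hQw : Q.1 w = 1 := le_antisymm hQw1 (hcon w hw hPw)
      have hzu : Q.1 z = Q.1 u := by rw [← hzw, map_mul, hQw, mul_one]
      rw [hzu]
      exact Acoord_val_le _ Q hQfin hu
    · rw [inLocRing_iff φ P j (hφ0 j) hj'] at htL
      obtain ⟨u, hu, w, hw, hPw, hzw⟩ := htL
      exact ⟨u, hu, by rw [← hzw, map_mul, hPw, mul_one, htP]⟩

end Groth.Agent.S11065
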