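import Groth.Statements.S11067
import Groth.Agent.H81.RatPlace

set_option autoImplicit false
open FunFld

namespace Groth.Agent.S11067

/-- Over an algebraically closed constant field, for a plane curve with natural map `(1 : x : y)` (so `K
= k(x, y)`) and `y` integral over `k[x]`, the ring `k[x, y]` is the intersection of the rings
`O_P[y]` over the places `P` of `k(x)` at which `x` is integral. -/
theorem result
    (k K : Type*) [Field k] [IsAlgClosed k] [Field K] [Algebra k K]
    (hK : FunFld.IsFunctionField k K) (x y : K) (hx : Transcendental k x)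
    (hxy : IntermediateField.adjoin k ({x, y} : Set K) = ⊤)
    (hy : IsIntegral (Algebra.adjoin k ({x} : Set K)) y) :
    (Algebra.adjoin k ({x, y} : Set K) : Set K) =
      ⋂ (P : FunFld.Place k (IntermediateField.adjoin k ({x} : Set K)))
        (_ : P.1 ⟨x, IntermediateField.mem_adjoin_simple_self k x⟩ ≤ 1),
        (Subring.closure
          ((algebraMap (IntermediateField.adjoin k ({x} : Set K)) K '' (P.O : Set _)) ∪ {y}) :
          Set K) := by
  classical
  apply Set.Subset.antisymm
  · -- `k[x, y] ⊆ O_P[y]`
    intro z hz
    simp only [Set.mem_iInter]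
    intro P hP
    have hz' : z ∈ Algebra.adjoin k ({x, y} : Set K) := hz
    clear hz
    change z ∈ Subring.closure _
    induction hz' using Algebra.adjoin_induction with
    | mem w hw =>
      rcases hw with rfl | rfl
      · apply Subring.subset_closure
        left
        exact ⟨⟨w, IntermediateField.mem_adjoin_simple_self k w⟩,
          (P.1.mem_valuationSubring_iff _).mpr hP, rfl⟩
      · apply Subring.subset_closure
        right
        rfl
    | algebraMap c =>
      apply Subring.subset_closure
      left
      exact ⟨algebraMap k _ c, (P.1.mem_valuationSubring_iff _).mpr (P.2.1 c), rfl⟩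
    | add a b _ _ ha hb => exact Subring.add_mem _ ha hb
    | mul a b _ _ ha hb => exact Subring.mul_mem _ ha hb
  · -- the reverse inclusion
    intro z hz
    simp only [Set.mem_iInter] at hz
    set B : Subalgebra k K := Algebra.adjoin k ({x, y} : Set K) with hB
    have hxB : ∀ p : Polynomial k, Polynomial.aeval x p ∈ B := by
      intro p
      have h1 : Polynomial.aeval x p ∈ Algebra.adjoin k ({x} : Set K) :=
        Polynomial.aeval_mem_adjoin_singleton _ _
      exact Algebra.adjoin_mono (by intro w hw; rw [Set.mem_singleton_iff] at hw; subst hw; simp) h1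
    have hyB : y ∈ B := Algebra.subset_adjoin (by simp)
    -- the ideal of denominators
    let I : Ideal (Polynomial k) :=
      { carrier := {p | Polynomial.aeval x p * z ∈ B}
        zero_mem' := by simp
        add_mem' := by
          intro p q hp hq
          simp only [Set.mem_setOf_eq] at hp hq ⊢
          rw [map_add, add_mul]
          exact B.add_mem hp hq
        smul_mem' := by
          intro q p hp
          simp only [Set.mem_setOf_eq] at hp ⊢
          rw [smul_eq_mul, map_mul, mul_assoc]
          exact B.mul_mem (hxB q) hp }
    have hI : ∀ p, p ∈ I ↔ Polynomial.aeval x p * z ∈ B := fun p => Iff.rfl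
    by_cases h1 : (1 : Polynomial k) ∈ I
    · rw [hI] at h1
      simpa using h1
    exfalso
    -- a common zero of the denominators
    obtain ⟨c, hc⟩ : ∃ c : k, ∀ p ∈ I, p.eval c = 0 := by
      have hspan : Ideal.span {Submodule.IsPrincipal.generator I} = I :=
        Ideal.span_singleton_generator I
      set g := Submodule.IsPrincipal.generator I with hg
      by_cases hg0 : g = 0
      · refine ⟨0, fun p hp => ?_⟩
        rw [← hspan, hg0, Ideal.mem_span_singleton, zero_dvd_iff] at hp
        rw [hp]; simp
      · have hdeg : g.degree ≠ 0 := by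
          intro hd
          apply h1
          rw [← hspan]
          have hu : IsUnit g := Polynomial.isUnit_iff_degree_eq_zero.mpr hd
          rw [Ideal.span_singleton_eq_top.mpr hu]
          trivial
        obtain ⟨c, hc⟩ := IsAlgClosed.exists_root g hdeg
        refine ⟨c, fun p hp => ?_⟩
        rw [← hspan, Ideal.mem_span_singleton] at hp
        obtain ⟨q, rfl⟩ := hp
        rw [Polynomial.eval_mul, hc, zero_mul]
    -- the place of `k(x)` at `c`
    have hFF := Groth.Agent.H81.RatPlace.isFF1_adjoin_simple (k := k) hx
    set t := Groth.Agent.H81.RatPlace.gen (k := k) x with ht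
    have httr : Transcendental k (t - algebraMap k _ c) := by
      intro halg
      apply Groth.Agent.H81.RatPlace.transcendental_gen (k := k) hx
      have : t = (t - algebraMap k _ c) + algebraMap k _ c := by ring
      have h2 := halg.add (isAlgebraic_algebraMap (A := IntermediateField.adjoin k ({x} : Set K)) c)
      rw [← this] at h2
      exact h2
    obtain ⟨P, hP⟩ := Groth.Agent.H55.G.exists_zero hFF _ httr
    have hPt : P.1 t ≤ 1 := Groth.Agent.H81.RatPlace.val_sub_const_le P c hP
    have hzP := hz P hPt
    -- every element of `O_P[y]` has a denominator not vanishing at `c`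
    have key : ∀ w ∈ Subring.closure
        ((algebraMap (IntermediateField.adjoin k ({x} : Set K)) K '' (P.O : Set _)) ∪ {y}),
        ∃ v : Polynomial k, v.eval c ≠ 0 ∧ Polynomial.aeval x v * w ∈ B := by
      intro w hw
      induction hw using Subring.closure_induction with
      | mem w hw =>
        rcases hw with ⟨b, hb, rfl⟩ | hw
        · have hb' : P.1 b ≤ 1 := (P.1.mem_valuationSubring_iff _).mp hb
          obtain ⟨r, s, hrs⟩ := Groth.Agent.H81.RatPlace.exists_frac (k := k) x b
          by_cases hs : Polynomial.aeval t s = 0
          · refine ⟨1, by simp, ?_⟩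
            rw [hrs, hs, div_zero]
            simp
          · rw [hrs] at hb'
            obtain ⟨u, v, hv, huv⟩ :=
              Groth.Agent.H81.RatPlace.exists_denominator P c hP _ r s rfl hs hb'
            refine ⟨v, hv, ?_⟩
            rw [← hrs] at huv
            have := congrArg (algebraMap (IntermediateField.adjoin k ({x} : Set K)) K) huv
            rw [map_mul, Groth.Agent.H81.RatPlace.algebraMap_aeval_gen,
              Groth.Agent.H81.RatPlace.algebraMap_aeval_gen] at this
            rw [this]
            exact hxB u
        · rw [Set.mem_singleton_iff] at hw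
          subst hw
          exact ⟨1, by simp, by simpa using hyB⟩
      | zero => exact ⟨1, by simp, by simp⟩
      | one => exact ⟨1, by simp, by simpa using B.one_mem⟩
      | add a b _ _ ha hb =>
        obtain ⟨v₁, hv₁, h₁⟩ := ha
        obtain ⟨v₂, hv₂, h₂⟩ := hb
        refine ⟨v₁ * v₂, by rw [Polynomial.eval_mul]; exact mul_ne_zero hv₁ hv₂, ?_⟩
        have : Polynomial.aeval x (v₁ * v₂) * (a + b) =
            Polynomial.aeval x v₂ * (Polynomial.aeval x v₁ * a) +
              Polynomial.aeval x v₁ * (Polynomial.aeval x v₂ * b) := by
          rw [map_mul]; ring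
        rw [this]
        exact B.add_mem (B.mul_mem (hxB _) h₁) (B.mul_mem (hxB _) h₂)
      | mul a b _ _ ha hb =>
        obtain ⟨v₁, hv₁, h₁⟩ := ha
        obtain ⟨v₂, hv₂, h₂⟩ := hb
        refine ⟨v₁ * v₂, by rw [Polynomial.eval_mul]; exact mul_ne_zero hv₁ hv₂, ?_⟩
        have : Polynomial.aeval x (v₁ * v₂) * (a * b) =
            (Polynomial.aeval x v₁ * a) * (Polynomial.aeval x v₂ * b) := by
          rw [map_mul]; ring
        rw [this]
        exact B.mul_mem h₁ h₂
      | neg a _ ha =>
        obtain ⟨v₁, hv₁, h₁⟩ := ha
        refine ⟨v₁, hv₁, ?_⟩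
        rw [mul_neg]
        exact B.neg_mem h₁
    obtain ⟨v, hv, hvz⟩ := key z hzP
    exact hv (hc v ((hI v).mpr hvz))

end Groth.Agent.S11067
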