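import Groth.Statements.S11071
import Groth.Agent.H81.JacN
import Groth.Agent.H55.FFLoc2
import Groth.Agent.H55.FFSing2
import Groth.Agent.H55.FFIndep

set_option autoImplicit false
open FunFld

namespace Groth.Agent.S11071

/-- Over an algebraically closed constant field, let `φ = (φ₀, …, φₙ)`, `n ≥ 1`, be a birational
projective map, `f₁, …, f_r` homogeneous generators of its ideal of homogeneous relations (the ideal
of the image curve), and `P` a place at which all `φᵢ/φ₀` are integral, with image point `a`. Then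
`φ` is nonsingular at `P` if and only if the matrix `(∂fᵢ/∂Xⱼ(a))`, `1 ≤ j ≤ n`, has rank `n - 1`
(entries read in the residue field of `P`). Here the local ring of `φ` at `P` consists of the
quotients of polynomials over `k` in the ratios `φᵢ/φ₀` with denominator a unit at `P`; `φ` is
nonsingular at `P` when this ring is the whole valuation ring. -/
theorem result (k K : Type*) [Field k] [IsAlgClosed k] [Field K] [Algebra k K]
    (hK : FunFld.IsFunctionField k K) {n : ℕ} (hn : 1 ≤ n)
    (φ : Fin (n + 1) → K) (hφ : LinearIndependent k φ)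
    (hbir : IntermediateField.adjoin k (Set.range fun i => φ i / φ 0) = ⊤)
    (P : FunFld.Place k K) (hP : ∀ i, P.1 (φ i) ≤ P.1 (φ 0)) {r : ℕ}
    (f : Fin r → MvPolynomial (Fin (n + 1)) k)
    (hhom : ∀ i, (f i).IsHomogeneous (f i).totalDegree)
    (hgen : Ideal.span (Set.range f) =
      RingHom.ker (MvPolynomial.aeval fun i => Polynomial.C (φ i) * Polynomial.X))
    (M : Matrix (Fin r) (Fin n) P.O)
    (hM : ∀ i j, ((M i j : P.O) : K) =
      MvPolynomial.aeval (fun l => φ l / φ 0) (MvPolynomial.pderiv j.succ (f i))) :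
    FunFld.IsNonsingularAt φ P ↔ (M.map (IsLocalRing.residue P.O)).rank = n - 1 := by
  classical
  have hφ0 : ∀ i, φ i ≠ 0 := fun i => hφ.ne_zero i
  have h00 := hφ0 0
  obtain ⟨ψ, hψ⟩ : ∃ ψ : Fin (n + 1) → K, ψ = fun i => φ i / φ 0 := ⟨_, rfl⟩
  have hψ0 : ψ 0 = 1 := by rw [hψ]; exact div_self h00
  have hPψ : ∀ i, P.1 (ψ i) ≤ 1 := by
    intro i
    rw [hψ]
    show P.1 (φ i / φ 0) ≤ 1
    rw [map_div₀]
    exact div_le_one_of_le₀ (hP i) zero_le'
  obtain ⟨ys, hys⟩ : ∃ ys : Fin n → K, ys = fun i => φ i.succ / φ 0 := ⟨_, rfl⟩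
  have hys' : ∀ i, ys i = φ i.succ / φ 0 := fun i => by rw [hys]
  have hins : H81.Dehom.ins 0 (1 : K) ys = ψ := by
    funext i
    rcases Fin.eq_self_or_eq_succAbove 0 i with h | ⟨i', h⟩
    · rw [h, H81.Dehom.ins_same, hψ0]
    · rw [h, H81.Dehom.ins_succAbove, hys, hψ, Fin.succAbove_zero]
  have hcex : ∀ i : Fin n, ∃ ci : k, P.1 (ys i - algebraMap k K ci) < 1 := by
    intro i
    apply H55.exists_const_sub_lt_one hK P
    have h1 := hPψ i.succ
    rw [hψ] at h1
    rw [hys]
    exact h1
  choose c hc using hcex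
  obtain ⟨c', hc'⟩ : ∃ c' : Fin (n + 1) → k, c' = H81.Dehom.ins 0 (1 : k) c := ⟨_, rfl⟩
  have hψc : ∀ l, P.1 (ψ l - algebraMap k K (c' l)) < 1 := by
    intro l
    rcases Fin.eq_self_or_eq_succAbove 0 l with h | ⟨l', h⟩
    · rw [h, hψ0, hc', H81.Dehom.ins_same, map_one, sub_self, map_zero]
      exact zero_lt_one
    · rw [h, hc', H81.Dehom.ins_succAbove, ← hins, H81.Dehom.ins_succAbove]
      exact hc l'
  obtain ⟨g, hg⟩ : ∃ g : Fin r → MvPolynomial (Fin n) k, g = fun a => H81.Dehom.D 0 (f a) :=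
    ⟨_, rfl⟩
  have hI : RingHom.ker (MvPolynomial.aeval ys : MvPolynomial (Fin n) k →ₐ[k] K) =
      Ideal.span (Set.range g) := by
    rw [hg]
    exact H81.JacN.ker_eq_span_D φ h00 f hhom hgen ys hys'
  obtain ⟨J, hJ⟩ : ∃ J : Matrix (Fin r) (Fin n) k,
      J = Matrix.of fun a i => MvPolynomial.eval c (MvPolynomial.pderiv i (g a)) := ⟨_, rfl⟩
  have hJa : ∀ a i, J a i = MvPolynomial.eval c (MvPolynomial.pderiv i (g a)) := by
    intro a i
    rw [hJ]
    rfl
  have hJ' : ∀ a i, J a i = MvPolynomial.eval c' (MvPolynomial.pderiv i.succ (f a)) := by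
    intro a i
    rw [hJa, hg]
    show MvPolynomial.eval c (MvPolynomial.pderiv i (H81.Dehom.D 0 (f a))) = _
    rw [H81.Dehom.pderiv_D, H81.Dehom.eval_D, hc', Fin.succAbove_zero]
  have hbij : Function.Bijective (algebraMap k (IsLocalRing.ResidueField P.O)) := by
    have h1 : @Module.Finite k (IsLocalRing.ResidueField P.O) _ _ (Place.algRes P).toModule :=
      H55.residue_finiteDimensional hK P
    have hint : @Algebra.IsIntegral k (IsLocalRing.ResidueField P.O) _ _ (Place.algRes P) :=
      @Algebra.IsIntegral.of_finite k (IsLocalRing.ResidueField P.O) _ _ (Place.algRes P) h1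
    exact @IsAlgClosed.algebraMap_bijective_of_isIntegral k (IsLocalRing.ResidueField P.O)
      _ _ _ _ (Place.algRes P) hint
  have hMres : M.map (IsLocalRing.residue P.O) =
      J.map (algebraMap k (IsLocalRing.ResidueField P.O)) := by
    ext a i
    rw [Matrix.map_apply, Matrix.map_apply, hJ' a i]
    have hlt : P.1 ((M a i : K) - algebraMap k K
        (MvPolynomial.eval c' (MvPolynomial.pderiv i.succ (f a)))) < 1 := by
      rw [hM a i]
      have h2 := H81.LocalN.val_sub_lt P ψ c' hψc (MvPolynomial.pderiv i.succ (f a))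
      rw [hψ] at h2
      exact h2
    have hmem : M a i - algebraMap k P.O
        (MvPolynomial.eval c' (MvPolynomial.pderiv i.succ (f a))) ∈
        IsLocalRing.maximalIdeal P.O := by
      rw [H55.mem_maximalIdeal_iff]
      exact hlt
    have h4 := (IsLocalRing.residue_eq_zero_iff _).mpr hmem
    rw [map_sub, sub_eq_zero] at h4
    rw [h4]
    rfl
  rw [hMres, H81.LocalN.rank_map_of_bijective hbij J]
  have hrange : H55.Acoord k (fun i => φ i / φ 0) =
      (MvPolynomial.aeval ys : MvPolynomial (Fin n) k →ₐ[k] K).range := by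
    show Algebra.adjoin k (Set.range fun i => φ i / φ 0) = _
    rw [Algebra.adjoin_range_eq_range_aeval]
    have hψ' : (fun i => φ i / φ 0) = ψ := hψ.symm
    rw [hψ']
    apply le_antisymm
    · intro z hz
      obtain ⟨p, rfl⟩ := (AlgHom.mem_range _).mp hz
      refine (AlgHom.mem_range _).mpr ⟨H81.Dehom.D 0 p, ?_⟩
      rw [H81.Dehom.aeval_D, hins]
    · intro z hz
      obtain ⟨G, rfl⟩ := (AlgHom.mem_range _).mp hz
      refine (AlgHom.mem_range _).mpr ⟨H81.Dehom.incl 0 G, ?_⟩
      rw [H81.Dehom.aeval_incl, ← hins, H81.Dehom.ins_comp_succAbove]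
  have hNS : IsNonsingularAt φ P ↔ ∀ z : K, P.1 z ≤ 1 →
      ∃ u ∈ (MvPolynomial.aeval ys : MvPolynomial (Fin n) k →ₐ[k] K).range,
        ∃ w ∈ (MvPolynomial.aeval ys : MvPolynomial (Fin n) k →ₐ[k] K).range,
          P.1 w = 1 ∧ z * w = u := by
    unfold IsNonsingularAt
    constructor
    · intro h z hz
      have h1 := (H55.inLocRing_iff φ P 0 h00 hP z).mp (h z hz)
      rw [hrange] at h1
      exact h1
    · intro h z hz
      rw [H55.inLocRing_iff φ P 0 h00 hP z, hrange]
      exact h z hz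
  have hfrac : ∀ z : K,
      ∃ b1 ∈ (MvPolynomial.aeval ys : MvPolynomial (Fin n) k →ₐ[k] K).range,
        ∃ b2 ∈ (MvPolynomial.aeval ys : MvPolynomial (Fin n) k →ₐ[k] K).range,
          b2 ≠ 0 ∧ z * b2 = b1 := by
    intro z
    have h1 := H55.exists_frac (k := k) (fun i => φ i / φ 0) hbir z
    rw [hrange] at h1
    exact h1
  rw [hNS]
  constructor
  · intro hns
    apply H81.JacN.rank_of_rowspan J
    · have h1 := H81.JacN.not_rowspan_top P ys c hc g hI hns
      simp only [hJa]
      exact h1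
    · have h1 := H81.JacN.exists_alpha hK P ys c hc g hI hns
      simp only [hJa]
      exact h1
  · intro hrank
    obtain ⟨l, α, β, hβ⟩ := H81.JacN.exists_of_rank hn J hrank
    exact H81.JacN.nonsing_of_rowspan P ys c hc g hI hfrac l α β
      (by intro i j; rw [hβ i j]; simp only [hJa])

end Groth.Agent.S11071
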