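import Groth.Statements.S11072
import Groth.Agent.H81.PlaneLocal
import Groth.Agent.H81.Dehom
import Groth.Agent.H55.FFLoc2
import Groth.Agent.H55.FFProj
import Groth.Agent.H55.FFIndep

set_option autoImplicit false
open FunFld

namespace Groth.Agent.S11072

/-- Over an algebraically closed constant field, a plane curve with defining irreducible homogeneous
polynomial `f` and birational natural map `φ = (φ₀ : φ₁ : φ₂)` is singular at the point `a = φ(P)`
(coordinates `(φᵢ/φⱼ)(P)` for an entry `φⱼ` of least order at `P`, read in the residue field) if and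
only if `∂f/∂Xᵢ(a) = 0` for `i = 0, 1, 2`. Here `φ` is nonsingular at `P` when its local ring there
(quotients of polynomials over `k` in the `φᵢ/φⱼ` with denominator a unit at `P`) is the whole
valuation ring. -/
theorem result (k K : Type*) [Field k] [IsAlgClosed k] [Field K] [Algebra k K]
    (hK : FunFld.IsFunctionField k K) (φ : Fin 3 → K)
    (hφ : LinearIndependent k φ)
    (hbir : IntermediateField.adjoin k (Set.range fun i => φ i / φ 0) = ⊤)
    (f : MvPolynomial (Fin 3) k) (hf : Irreducible f) (hhom : f.IsHomogeneous f.totalDegree)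
    (hfφ : MvPolynomial.aeval φ f = 0) (P : FunFld.Place k K) (j : Fin 3)
    (hj : ∀ i, P.1 (φ i) ≤ P.1 (φ j)) (a : Fin 3 → P.O) (ha : ∀ i, ((a i : P.O) : K) = φ i / φ j) :
    ¬ FunFld.IsNonsingularAt φ P ↔
      ∀ l : Fin 3, MvPolynomial.aeval (fun i => IsLocalRing.residue P.O (a i))
        (MvPolynomial.pderiv l f) = 0 := by
  classical
  have hφ0 : ∀ i, φ i ≠ 0 := fun i => hφ.ne_zero i
  have hj0 := hφ0 j
  obtain ⟨ψ, hψ⟩ : ∃ ψ : Fin 3 → K, ψ = fun i => φ i / φ j := ⟨_, rfl⟩
  have hψj : ψ j = 1 := by rw [hψ]; exact div_self hj0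
  have hPψ : ∀ i, P.1 (ψ i) ≤ 1 := by
    intro i
    rw [hψ]
    show P.1 (φ i / φ j) ≤ 1
    rw [map_div₀]
    exact div_le_one_of_le₀ (hj i) zero_le'
  obtain ⟨xs, hxs⟩ : ∃ xs : Fin 2 → K, xs = ψ ∘ j.succAbove := ⟨_, rfl⟩
  have hxs2 : ![xs 0, xs 1] = xs := by
    funext i
    fin_cases i <;> rfl
  have hins : H81.Dehom.ins j (1 : K) xs = ψ := by
    rw [hxs, ← hψj]
    exact H81.Dehom.ins_eq j ψ
  have hfψ : MvPolynomial.aeval ψ f = 0 := by
    have h1 : ψ = fun i => (φ j)⁻¹ * φ i := by
      rw [hψ]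
      funext i
      rw [div_eq_inv_mul]
    rw [h1, H55.aeval_mul_of_isHomogeneous hhom, hfφ, mul_zero]
  obtain ⟨F, hFdef⟩ : ∃ F, F = H81.Dehom.D j f := ⟨_, rfl⟩
  have hFxy : MvPolynomial.aeval ![xs 0, xs 1] F = 0 := by
    rw [hxs2, hFdef, H81.Dehom.aeval_D, hins, hfψ]
  have hFnu : ¬ IsUnit F := by
    intro hu
    have h1 := hu.map (MvPolynomial.aeval ![xs 0, xs 1] : MvPolynomial (Fin 2) k →ₐ[k] K)
    rw [hFxy] at h1
    exact not_isUnit_zero h1
  have hFirr : Irreducible F := by
    rw [hFdef] at hFnu ⊢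
    exact H81.Dehom.irreducible_D j hf hhom hFnu
  have hxy : IntermediateField.adjoin k ({xs 0, xs 1} : Set K) = ⊤ := by
    rw [eq_top_iff, ← hbir, IntermediateField.adjoin_le_iff]
    have hmem : ∀ i, ψ i ∈ IntermediateField.adjoin k ({xs 0, xs 1} : Set K) := by
      intro i
      rcases Fin.eq_self_or_eq_succAbove j i with h | ⟨i', h⟩
      · rw [h, hψj]
        exact one_mem _
      · rw [h]
        have h2 : ψ (j.succAbove i') = xs i' := by rw [hxs]; rfl
        rw [h2]
        apply IntermediateField.subset_adjoin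
        fin_cases i'
        · exact Set.mem_insert _ _
        · exact Set.mem_insert_of_mem _ (Set.mem_singleton _)
    rintro _ ⟨i, rfl⟩
    have e : φ i / φ 0 = ψ i / ψ 0 := by
      rw [hψ]
      have := hφ0 0
      field_simp
    show φ i / φ 0 ∈ IntermediateField.adjoin k ({xs 0, xs 1} : Set K)
    rw [e]
    exact div_mem (hmem i) (hmem 0)
  have hc : ∀ i : Fin 2, ∃ ci : k, P.1 (xs i - algebraMap k K ci) < 1 := by
    intro i
    apply H55.exists_const_sub_lt_one hK P
    rw [hxs]
    exact hPψ _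
  choose c hc using hc
  have hAJ := H81.PlaneLocal.affine_jacobian hK (xs 0) (xs 1) hxy F hFirr hFxy P c (hc 0) (hc 1)
  have hNS : IsNonsingularAt φ P ↔ ∀ z : K, P.1 z ≤ 1 →
      ∃ u ∈ (MvPolynomial.aeval ![xs 0, xs 1] : MvPolynomial (Fin 2) k →ₐ[k] K).range,
        ∃ w ∈ (MvPolynomial.aeval ![xs 0, xs 1] : MvPolynomial (Fin 2) k →ₐ[k] K).range,
          P.1 w = 1 ∧ z * w = u := by
    have hrange : H55.Acoord k (fun i => φ i / φ j) =
        (MvPolynomial.aeval ![xs 0, xs 1] : MvPolynomial (Fin 2) k →ₐ[k] K).range := by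
      show Algebra.adjoin k (Set.range fun i => φ i / φ j) = _
      rw [Algebra.adjoin_range_eq_range_aeval, hxs2]
      have hψ' : (fun i => φ i / φ j) = ψ := hψ.symm
      rw [hψ']
      apply le_antisymm
      · intro z hz
        obtain ⟨p, rfl⟩ := (AlgHom.mem_range _).mp hz
        refine (AlgHom.mem_range _).mpr ⟨H81.Dehom.D j p, ?_⟩
        rw [H81.Dehom.aeval_D, hins]
      · intro z hz
        obtain ⟨G, rfl⟩ := (AlgHom.mem_range _).mp hz
        refine (AlgHom.mem_range _).mpr ⟨H81.Dehom.incl j G, ?_⟩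
        rw [H81.Dehom.aeval_incl, hxs]
    unfold IsNonsingularAt
    constructor
    · intro h z hz
      have h1 := (H55.inLocRing_iff φ P j hj0 hj z).mp (h z hz)
      rw [hrange] at h1
      exact h1
    · intro h z hz
      rw [H55.inLocRing_iff φ P j hj0 hj z, hrange]
      exact h z hz
  obtain ⟨c', hc'⟩ : ∃ c' : Fin 3 → k, c' = H81.Dehom.ins j (1 : k) c := ⟨_, rfl⟩
  have hpd : ∀ i : Fin 2, MvPolynomial.eval c (MvPolynomial.pderiv i F) =
      MvPolynomial.eval c' (MvPolynomial.pderiv (j.succAbove i) f) := by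
    intro i
    rw [hFdef, H81.Dehom.pderiv_D, H81.Dehom.eval_D, hc']
  have hfc' : MvPolynomial.eval c' f = 0 := by
    rw [hc', ← H81.Dehom.eval_D, ← hFdef]
    exact H81.PlaneLocal.eval_eq_zero_of_val_lt P c (hc 0) (hc 1) F
      (by rw [hFxy, map_zero]; exact zero_lt_one)
  have hEuler : ∑ l, c' l * MvPolynomial.eval c' (MvPolynomial.pderiv l f) = 0 := by
    have h1 := congrArg (MvPolynomial.eval c') hhom.sum_X_mul_pderiv
    rw [map_sum] at h1
    simp only [map_mul, MvPolynomial.eval_X, map_nsmul, hfc', smul_zero] at h1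
    exact h1
  have hall : (∀ l, MvPolynomial.eval c' (MvPolynomial.pderiv l f) = 0) ↔
      (MvPolynomial.eval c (MvPolynomial.pderiv 0 F) = 0 ∧
        MvPolynomial.eval c (MvPolynomial.pderiv 1 F) = 0) := by
    rw [hpd 0, hpd 1]
    constructor
    · intro h
      exact ⟨h _, h _⟩
    · rintro ⟨h0, h1⟩ l
      have hsa : ∀ i : Fin 2,
          MvPolynomial.eval c' (MvPolynomial.pderiv (j.succAbove i) f) = 0 := by
        intro i
        fin_cases i
        · exact h0
        · exact h1
      rcases Fin.eq_self_or_eq_succAbove j l with h | ⟨l', h⟩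
      · rw [h]
        rw [Fin.sum_univ_succAbove _ j] at hEuler
        have hcj : c' j = 1 := by rw [hc', H81.Dehom.ins_same]
        simp only [hsa, mul_zero, Finset.sum_const_zero, add_zero, hcj, one_mul] at hEuler
        exact hEuler
      · rw [h]
        exact hsa l'
  have hres : ∀ i, IsLocalRing.residue P.O (a i) =
      algebraMap k (IsLocalRing.ResidueField P.O) (c' i) := by
    intro i
    have hlt : P.1 ((a i : K) - algebraMap k K (c' i)) < 1 := by
      rw [ha i]
      rcases Fin.eq_self_or_eq_succAbove j i with h | ⟨i', h⟩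
      · rw [h, hc', H81.Dehom.ins_same, div_self hj0, map_one, sub_self, map_zero]
        exact zero_lt_one
      · rw [h, hc', H81.Dehom.ins_succAbove]
        have h3 := hc i'
        rw [hxs, hψ] at h3
        exact h3
    have hmem : a i - algebraMap k P.O (c' i) ∈ IsLocalRing.maximalIdeal P.O := by
      rw [H55.mem_maximalIdeal_iff]
      exact hlt
    have h4 := (IsLocalRing.residue_eq_zero_iff _).mpr hmem
    rw [map_sub, sub_eq_zero] at h4
    rw [h4]
    rfl
  have hRHS : ∀ l, MvPolynomial.aeval (fun i => IsLocalRing.residue P.O (a i))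
      (MvPolynomial.pderiv l f) = 0 ↔ MvPolynomial.eval c' (MvPolynomial.pderiv l f) = 0 := by
    intro l
    have h1 : (fun i => IsLocalRing.residue P.O (a i)) =
        fun i => algebraMap k (IsLocalRing.ResidueField P.O) (c' i) := funext hres
    rw [h1]
    have h2 : ∀ p : MvPolynomial (Fin 3) k,
        MvPolynomial.aeval (fun i => algebraMap k (IsLocalRing.ResidueField P.O) (c' i)) p =
          algebraMap k (IsLocalRing.ResidueField P.O) (MvPolynomial.eval c' p) := by
      intro p
      induction p using MvPolynomial.induction_on with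
      | C a => rw [MvPolynomial.aeval_C, MvPolynomial.eval_C]
      | add p q hp hq => rw [map_add, map_add, map_add, hp, hq]
      | mul_X p i hp =>
        rw [map_mul, map_mul, map_mul, hp, MvPolynomial.aeval_X, MvPolynomial.eval_X]
    rw [h2]
    exact map_eq_zero_iff _ (algebraMap k (IsLocalRing.ResidueField P.O)).injective
  exact ((not_congr (hNS.trans hAJ)).trans not_not).trans
    (hall.symm.trans (forall_congr' fun l => (hRHS l).symm))

end Groth.Agent.S11072
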