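import Groth.Statements.S11073
import Groth.Agent.H81.PlaneHom

set_option autoImplicit false
open FunFld

namespace Groth.Agent.S11073

/-- Over an algebraically closed constant field, the ideal of a projective plane curve — here the curve
with function field `K = k(x, y)`, whose ideal is the kernel of `X₀ ↦ T, X₁ ↦ xT, X₂ ↦ yT` into
`K[T]` — is principal, with an irreducible homogeneous generator. -/
theorem result
    (k K : Type*) [Field k] [IsAlgClosed k] [Field K] [Algebra k K]
    (hK : FunFld.IsFunctionField k K) (x y : K)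
    (hxy : IntermediateField.adjoin k ({x, y} : Set K) = ⊤) :
    ∃ f : MvPolynomial (Fin 3) k, Irreducible f ∧ f.IsHomogeneous f.totalDegree ∧
      RingHom.ker (MvPolynomial.aeval fun i => Polynomial.C (![(1 : K), x, y] i) * Polynomial.X) =
        Ideal.span {f} := by
  obtain ⟨F, hF, hFxy⟩ := H81.PlaneHom.exists_irreducible_relation hK x y
  have hker := H81.PlaneHom.ker_graded_eq_span hK x y hxy F hF hFxy
  have hf0 : H81.PlaneHom.hom (0 : Fin 3) F ≠ 0 := H81.PlaneHom.hom_ne_zero 0 F hF.ne_zero
  have hhom := H81.PlaneHom.hom_isHomogeneous (0 : Fin 3) F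
  refine ⟨H81.PlaneHom.hom (0 : Fin 3) F, ?_, ?_, hker⟩
  · have hprime : (RingHom.ker (MvPolynomial.aeval (R := k)
        fun i => Polynomial.C (![(1 : K), x, y] i) * Polynomial.X)).IsPrime :=
      RingHom.ker_isPrime _
    rw [hker] at hprime
    exact ((Ideal.span_singleton_prime hf0).mp hprime).irreducible
  · rw [hhom.totalDegree hf0]
    exact hhom

end Groth.Agent.S11073
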