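import Groth.Statements.S11074
import Groth.Agent.H27.LocDet

set_option autoImplicit false
open FunFld

namespace Groth.Agent.S11074

open MvPolynomial WithZero FunFld Groth.Agent.H55 Groth.Agent.H27.Expn

theorem aeval_smul_of_homogeneous {k K : Type*} [Field k] [Field K] [Algebra k K] {σ : Type*}
    [Fintype σ] {f : MvPolynomial σ k} {n : ℕ} (hf : f.IsHomogeneous n) (c : K) (x : σ → K) :
    aeval (fun i => c * x i) f = c ^ n * aeval x f := by
  rw [aeval_def, aeval_def, eval₂_eq', eval₂_eq', Finset.mul_sum]
  refine Finset.sum_congr rfl (fun d hd => ?_)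
  have hd' : ∑ i, d i = n := by
    have := hf (mem_support_iff.mp hd)
    rw [← Finsupp.degree_eq_sum]
    rw [← this]
    simp [Finsupp.weight, Finsupp.degree, Finsupp.linearCombination_apply, Finsupp.sum] <;> rfl
  simp_rw [mul_pow]
  rw [Finset.prod_mul_distrib, Finset.prod_pow_eq_pow_sum, hd']
  ring

section Taylor

variable {k K : Type*} [Field k] [Field K] [Algebra k K] {σ : Type*} [Fintype σ] [DecidableEq σ]

/-- The first-order term. -/
noncomputable def S1 (u : σ → K) (α : σ → k) (p : MvPolynomial σ k) : K :=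
  ∑ i, algebraMap k K (eval α (pderiv i p)) * (u i - algebraMap k K (α i))

/-- The second-order remainder. -/
noncomputable def R2 (u : σ → K) (α : σ → k) (p : MvPolynomial σ k) : K :=
  aeval u p - algebraMap k K (eval α p) - S1 u α p

theorem S1_mul_X (u : σ → K) (α : σ → k) (p : MvPolynomial σ k) (l : σ) :
    S1 u α (p * X l) = algebraMap k K (α l) * S1 u α p +
      algebraMap k K (eval α p) * (u l - algebraMap k K (α l)) := by
  unfold S1
  have h : ∀ i, algebraMap k K (eval α (pderiv i (p * X l))) * (u i - algebraMap k K (α i)) =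
      algebraMap k K (α l) * (algebraMap k K (eval α (pderiv i p)) * (u i - algebraMap k K (α i))) +
        (if i = l then algebraMap k K (eval α p) * (u i - algebraMap k K (α i)) else 0) := by
    intro i
    rw [pderiv_mul, pderiv_X, map_add, map_mul, map_mul, eval_X]
    by_cases h : i = l
    · subst h
      rw [Pi.single_eq_same, if_pos rfl, map_one, mul_one, map_add, map_mul]
      ring
    · rw [Pi.single_eq_of_ne (Ne.symm h), if_neg h, map_zero, mul_zero, add_zero, map_mul]
      ring
  simp_rw [h]
  rw [Finset.sum_add_distrib, ← Finset.mul_sum, Finset.sum_ite_eq' Finset.univ l,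
    if_pos (Finset.mem_univ l)]

theorem R2_mul_X (u : σ → K) (α : σ → k) (p : MvPolynomial σ k) (l : σ) :
    R2 u α (p * X l) = algebraMap k K (α l) * R2 u α p +
      (R2 u α p + S1 u α p) * (u l - algebraMap k K (α l)) := by
  unfold R2
  rw [S1_mul_X, map_mul, aeval_X, map_mul, eval_X, map_mul]
  ring

theorem val_S1 (P : Place k K) (u : σ → K) (α : σ → k)
    (ht : ∀ i, P.1 (u i - algebraMap k K (α i)) ≤ exp (-1 : ℤ)) (p : MvPolynomial σ k) :
    P.1 (S1 u α p) ≤ exp (-1 : ℤ) := by
  unfold S1
  refine Valuation.map_sum_le _ (fun i _ => ?_)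
  rw [map_mul]
  calc P.1 (algebraMap k K (eval α (pderiv i p))) * P.1 (u i - algebraMap k K (α i))
      ≤ 1 * exp (-1 : ℤ) := mul_le_mul' (P.2.1 _) (ht i)
    _ = exp (-1 : ℤ) := one_mul _

theorem val_R2 (P : Place k K) (u : σ → K) (α : σ → k)
    (ht : ∀ i, P.1 (u i - algebraMap k K (α i)) ≤ exp (-1 : ℤ)) (p : MvPolynomial σ k) :
    P.1 (R2 u α p) ≤ exp (-2 : ℤ) := by
  induction p using MvPolynomial.induction_on with
  | C c =>
    have : R2 u α (C c) = 0 := by
      unfold R2 S1
      simp
    rw [this, map_zero]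
    exact zero_le'
  | add p q hp hq =>
    have : R2 u α (p + q) = R2 u α p + R2 u α q := by
      unfold R2 S1
      simp only [map_add, add_mul, Finset.sum_add_distrib]
      ring
    rw [this]
    exact Valuation.map_add_le _ hp hq
  | mul_X p l hp =>
    rw [R2_mul_X]
    refine Valuation.map_add_le _ ?_ ?_
    · rw [map_mul]
      calc P.1 (algebraMap k K (α l)) * P.1 (R2 u α p) ≤ 1 * exp (-2 : ℤ) :=
            mul_le_mul' (P.2.1 _) hp
        _ = exp (-2 : ℤ) := one_mul _
    · rw [map_mul]
      have h1 : P.1 (R2 u α p + S1 u α p) ≤ exp (-1 : ℤ) :=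
        Valuation.map_add_le _ (hp.trans (by rw [exp_le_exp]; norm_num)) (val_S1 P u α ht p)
      calc P.1 (R2 u α p + S1 u α p) * P.1 (u l - algebraMap k K (α l))
          ≤ exp (-1 : ℤ) * exp (-1 : ℤ) := mul_le_mul' h1 (ht l)
        _ = exp (-2 : ℤ) := by rw [← exp_add]; norm_num

end Taylor


/-- Over an algebraically closed constant field, at a nonsingular point `a = φ(P)` of a plane curve
`V(f)` with birational natural map `φ = (φ₀ : φ₁ : φ₂)`, the tangent line is `(∂f/∂X₀(a) : ∂f/∂X₁(a)
: ∂f/∂X₂(a))`: the corresponding linear form, pulled back along `φ` normalized at `P`, vanishes to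
order at least `2` at `P` (the tangent line being the one line whose pullback vanishes to order `≥
2`). Nonsingular at `P` means that the local ring of `φ` at `P` (quotients of polynomials over `k`
in the `φᵢ/φⱼ`, `φⱼ` of least order at `P`, denominator a unit at `P`) is the whole valuation ring. -/
theorem result
    (k K : Type*) [Field k] [IsAlgClosed k] [Field K] [Algebra k K]
    (hK : FunFld.IsFunctionField k K) (φ : Fin 3 → K) (hφ : LinearIndependent k φ)
    (hbir : IntermediateField.adjoin k (Set.range fun i => φ i / φ 0) = ⊤)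
    (f : MvPolynomial (Fin 3) k) (hf : Irreducible f) (hhom : f.IsHomogeneous f.totalDegree)
    (hfφ : MvPolynomial.aeval φ f = 0) (P : FunFld.Place k K) (j : Fin 3)
    (hj : ∀ i, P.1 (φ i) ≤ P.1 (φ j)) (hns : FunFld.IsNonsingularAt φ P) (a : Fin 3 → P.O)
    (ha : ∀ i, ((a i : P.O) : K) = φ i / φ j) (c : Fin 3 → k)
    (hc : ∀ i, algebraMap k (IsLocalRing.ResidueField P.O) (c i) =
      MvPolynomial.aeval (fun l => IsLocalRing.residue P.O (a l)) (MvPolynomial.pderiv i f)) :
    P.1 (∑ i, c i • (φ i / φ j)) ≤ WithZero.exp (-2) := by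
  classical
  have hφ0 : ∀ i, φ i ≠ 0 := fun i => hφ.ne_zero i
  set u : Fin 3 → K := fun i => φ i / φ j with hu_def
  have hu : ∀ i, P.1 (u i) ≤ 1 := by
    intro i
    have hui : u i = ((a i : P.O) : K) := (ha i).symm
    rw [hui]
    exact (Valuation.mem_valuationSubring_iff _ _).1 (a i).2
  have hfu : MvPolynomial.aeval u f = 0 := by
    have h1 : u = fun i => (φ j)⁻¹ * φ i := by
      funext i
      rw [hu_def]
      field_simp
    rw [h1, aeval_smul_of_homogeneous hhom, hfφ, mul_zero]
  set α : Fin 3 → k := fun i => Groth.Agent.H27.Expn.cst P (u i) with hα_def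
  have hα : ∀ i, P.1 (u i - algebraMap k K (α i)) ≤ WithZero.exp (-1 : ℤ) := fun i =>
    (Groth.Agent.H55.zm0_lt_one_iff _).1 (Groth.Agent.H27.Expn.cst_spec P hK (hu i))
  have hR := val_R2 P u α hα f
  have hS := val_S1 P u α hα f
  -- f(α) = 0
  have hfα : MvPolynomial.eval α f = 0 := by
    by_contra hne
    have h1 : P.1 (algebraMap k K (MvPolynomial.eval α f)) = 1 := Groth.Agent.H55.pl_val_const P hne
    have h2 : algebraMap k K (MvPolynomial.eval α f) = -(R2 u α f + S1 u α f) := by
      unfold R2
      rw [hfu]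
      ring
    rw [h2, Valuation.map_neg] at h1
    have h3 : P.1 (R2 u α f + S1 u α f) ≤ WithZero.exp (-1 : ℤ) :=
      Valuation.map_add_le _ (hR.trans (by rw [WithZero.exp_le_exp]; norm_num)) hS
    rw [h1, ← WithZero.exp_zero, WithZero.exp_le_exp] at h3
    norm_num at h3
  have hS2 : P.1 (S1 u α f) ≤ WithZero.exp (-2 : ℤ) := by
    have h2 : S1 u α f = -(R2 u α f) := by
      unfold R2
      rw [hfu, hfα, map_zero]
      ring
    rw [h2, Valuation.map_neg]
    exact hR
  -- Euler at α
  have hEuler : ∑ i, α i * MvPolynomial.eval α (MvPolynomial.pderiv i f) = 0 := by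
    have h1 := congrArg (MvPolynomial.eval α) hhom.sum_X_mul_pderiv
    rw [map_sum] at h1
    simp only [map_mul, MvPolynomial.eval_X, map_nsmul, hfα, smul_zero] at h1
    exact h1
  -- identify c
  have hres : ∀ l, IsLocalRing.residue P.O (a l) =
      algebraMap k (IsLocalRing.ResidueField P.O) (α l) := by
    intro l
    show IsLocalRing.residue P.O (a l) = IsLocalRing.residue P.O (algebraMap k P.O (α l))
    rw [← sub_eq_zero, ← map_sub, IsLocalRing.residue_eq_zero_iff, Groth.Agent.H55.mem_maximalIdeal_iff]
    have : ((a l - algebraMap k P.O (α l) : P.O) : K) = u l - algebraMap k K (α l) := by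
      have hul : u l = ((a l : P.O) : K) := (ha l).symm
      rw [hul]
      rfl
    rw [this]
    exact Groth.Agent.H27.Expn.cst_spec P hK (hu l)
  have hc' : ∀ i, c i = MvPolynomial.eval α (MvPolynomial.pderiv i f) := by
    intro i
    apply (algebraMap k (IsLocalRing.ResidueField P.O)).injective
    rw [hc i]
    have h1 : (fun l => IsLocalRing.residue P.O (a l)) =
        fun l => algebraMap k (IsLocalRing.ResidueField P.O) (α l) := funext hres
    rw [h1]
    change MvPolynomial.eval₂ (algebraMap k (IsLocalRing.ResidueField P.O))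
      ((algebraMap k (IsLocalRing.ResidueField P.O)) ∘ α) _ =
      (algebraMap k (IsLocalRing.ResidueField P.O)) (MvPolynomial.eval₂ (RingHom.id k) α _)
    rw [MvPolynomial.eval₂_comp_left, RingHom.comp_id]
  have hfinal : ∑ i, c i • (φ i / φ j) = S1 u α f := by
    unfold S1
    have h1 : ∀ i, c i • (φ i / φ j) =
        algebraMap k K (MvPolynomial.eval α (MvPolynomial.pderiv i f)) * (u i - algebraMap k K (α i)) +
          algebraMap k K (α i * MvPolynomial.eval α (MvPolynomial.pderiv i f)) := by
      intro i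
      rw [hc' i, Algebra.smul_def, map_mul]
      ring
    simp_rw [h1]
    rw [Finset.sum_add_distrib, ← map_sum, hEuler, map_zero, add_zero]
  rw [hfinal]
  exact hS2

end Groth.Agent.S11074
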