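import Groth.Statements.S11075
import Groth.Agent.H55.FFProj
open Groth.Agent.H55

set_option autoImplicit false
open FunFld

namespace Groth.Agent.S11075

/-- Over an algebraically closed constant field, let `φ = (φ₀, …, φₙ)`, `n ≥ 1`, be a projective map
onto the curve `V`. (a) A homogeneous `g` not vanishing identically on `V` vanishes at the image
point of only finitely many places (so a closed set not containing `V` meets `V` in a finite set);
(b) each fibre of `φ` is finite. Here `g` vanishes at `φ(P)` when `g(φ₀/φⱼ, …, φₙ/φⱼ)` lies in the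
maximal ideal of `P` for an entry `φⱼ` of least order at `P`. Two places have the same image point
when some entry `φⱼ` has least order at both and each `φᵢ/φⱼ` is congruent to one constant modulo
both maximal ideals. -/
theorem result (k K : Type*) [Field k] [IsAlgClosed k] [Field K] [Algebra k K]
    (hK : FunFld.IsFunctionField k K) {n : ℕ} (hn : 1 ≤ n)
    (φ : Fin (n + 1) → K) (hφ : LinearIndependent k φ) :
    (∀ g : MvPolynomial (Fin (n + 1)) k, g.IsHomogeneous g.totalDegree →
      MvPolynomial.aeval φ g ≠ 0 →
        {P : FunFld.Place k K | ∃ j, φ j ≠ 0 ∧ (∀ i, P.1 (φ i) ≤ P.1 (φ j)) ∧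
          P.1 (MvPolynomial.aeval (fun i => φ i / φ j) g) < 1}.Finite) ∧
    ∀ P : FunFld.Place k K, {Q : FunFld.Place k K | FunFld.SameImage φ P Q}.Finite := by
  classical
  constructor
  · intro g hg hG
    have hfin : ((Function.support fun P : FunFld.Place k K => P.ord (MvPolynomial.aeval φ g)) ∪
        ⋃ i, Function.support fun P : FunFld.Place k K => P.ord (φ i)).Finite :=
      (ord_support_finite hK _).union (Set.finite_iUnion fun i => ord_support_finite hK (φ i))
    refine hfin.subset ?_
    rintro P ⟨j, hj0, hj, hlt⟩
    by_contra hnot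
    simp only [Set.mem_union, Set.mem_iUnion, Function.mem_support, not_or, not_exists,
      not_not] at hnot
    obtain ⟨hG0, hφ0⟩ := hnot
    have h1 : P.1 (MvPolynomial.aeval φ g) = 1 := (pl_val_eq_one_iff P hG).mpr hG0
    have h2 : P.1 (φ j) = 1 := (pl_val_eq_one_iff P hj0).mpr (hφ0 j)
    have h3 : (fun i => φ i / φ j) = fun i => (φ j)⁻¹ * φ i := by
      funext i
      rw [div_eq_inv_mul]
    rw [h3, aeval_mul_of_isHomogeneous hg, map_mul, map_pow, map_inv₀, h2, h1] at hlt
    simp at hlt
  · intro P
    haveI : Nontrivial (Fin (n + 1)) := Fin.nontrivial_iff_two_le.mpr (by omega)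
    choose ι hι using fun j : Fin (n + 1) => exists_ne j
    let T : Fin (n + 1) → Set (FunFld.Place k K) := fun j =>
      {Q | ∃ c : k, P.1 (φ (ι j) / φ j - algebraMap k K c) < 1 ∧
        Q.1 (φ (ι j) / φ j - algebraMap k K c) < 1}
    have hT : ∀ j, (T j).Finite := by
      intro j
      by_cases hex : ∃ c₀ : k, P.1 (φ (ι j) / φ j - algebraMap k K c₀) < 1
      · obtain ⟨c₀, hc₀⟩ := hex
        have hne : φ (ι j) / φ j - algebraMap k K c₀ ≠ 0 := by
          intro h0
          have hj0 := hφ.ne_zero j
          have h1 : φ (ι j) - c₀ • φ j = 0 := by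
            have h2 : φ (ι j) / φ j = algebraMap k K c₀ := sub_eq_zero.mp h0
            rw [Algebra.smul_def, ← h2]
            field_simp
            ring
          have hli := Fintype.linearIndependent_iff.mp hφ (Pi.single (ι j) 1 - Pi.single j c₀)
            (by simpa [sub_smul, Finset.sum_sub_distrib, Pi.single_apply, ite_smul] using h1) (ι j)
          simp [Pi.single_apply, hι j] at hli
        refine (zeros_finite hK _ hne).subset ?_
        rintro Q ⟨c, hcP, hcQ⟩
        have hcc : c = c₀ := by
          by_contra hcc
          have h1 : P.1 (algebraMap k K (c - c₀)) < 1 := by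
            have e : algebraMap k K (c - c₀) = (φ (ι j) / φ j - algebraMap k K c₀) -
                (φ (ι j) / φ j - algebraMap k K c) := by
              rw [map_sub]; ring
            rw [e]
            exact P.1.map_sub_lt hc₀ hcP
          rw [pl_val_const P (sub_ne_zero.mpr hcc)] at h1
          exact lt_irrefl _ h1
        subst hcc
        exact hcQ
      · refine Set.Finite.subset Set.finite_empty ?_
        rintro Q ⟨c, hcP, -⟩
        exact (hex ⟨c, hcP⟩).elim
    refine (Set.finite_iUnion hT).subset ?_
    rintro Q ⟨j, hj0, hPj, hQj, hc⟩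
    exact Set.mem_iUnion.mpr ⟨j, hc (ι j)⟩

end Groth.Agent.S11075
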