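import Groth.Statements.S11076
import Groth.Agent.S11075
import Groth.Agent.S11078
import Groth.Agent.S11055
open Groth.Agent.H55

set_option autoImplicit false
open FunFld

namespace Groth.Agent.S11076

/-- Over an algebraically closed constant field, a projective curve (given by a birational projective
map `φ = (φ₀, …, φₙ)`, `n ≥ 1`) is nonsingular at the point `a = φ(P)` if and only if some
hyperplane `∑ cᵢ Xᵢ` has intersection multiplicity `1` with it at `a`: the sum over the places `Q`
of the fibre of `a` of `[φ](Q) + ord_Q(∑ cᵢ φᵢ)` is `1`. Nonsingular at `P` means that the local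
ring of `φ` at `P` (quotients of polynomials over `k` in the `φᵢ/φⱼ`, `φⱼ` of least order at `P`,
denominator a unit at `P`) is the whole valuation ring. Two places have the same image point when
some entry `φⱼ` has least order at both and each `φᵢ/φⱼ` is congruent to one constant modulo both
maximal ideals. -/
theorem result (k K : Type*) [Field k] [IsAlgClosed k] [Field K] [Algebra k K]
    (hK : FunFld.IsFunctionField k K) {n : ℕ} (hn : 1 ≤ n)
    (φ : Fin (n + 1) → K) (hφ : LinearIndependent k φ)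
    (hbir : IntermediateField.adjoin k (Set.range fun i => φ i / φ 0) = ⊤)
    (P : FunFld.Place k K) :
    FunFld.IsNonsingularAt φ P ↔ ∃ c : Fin (n + 1) → k, ∑ i, c i • φ i ≠ 0 ∧
      ∑ᶠ Q ∈ {Q : FunFld.Place k K | FunFld.SameImage φ P Q},
        ((FunFld.mapDiv k φ) Q + Q.ord (∑ i, c i • φ i)) = 1 := by
  classical
  have hφ0 : ∀ i, φ i ≠ 0 := fun i => hφ.ne_zero i
  obtain ⟨j, -, hj⟩ := Finset.exists_max_image Finset.univ (fun i => P.1 (φ i))
    ⟨0, Finset.mem_univ _⟩
  have hj' : ∀ i, P.1 (φ i) ≤ P.1 (φ j) := fun i => hj i (Finset.mem_univ _)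
  have hWL : Submodule.span k (Set.range φ) ≤ FunFld.L (FunFld.mapDiv k φ) := by
    rw [Submodule.span_le]
    rintro _ ⟨i, rfl⟩
    exact mem_L_mapDiv hK φ hφ0 i
  have hr_le : ∀ i, P.1 (φ i / φ j) ≤ 1 := fun i => by
    rw [map_div₀]
    exact div_le_one_of_le₀ (hj' i) zero_le'
  have hPP : FunFld.SameImage φ P P := by
    refine ⟨j, hφ0 j, hj', hj', fun i => ?_⟩
    obtain ⟨c, hc⟩ := exists_const_sub_lt_one hK P (hr_le i)
    exact ⟨c, hc, hc⟩
  have hfinF : {Q : FunFld.Place k K | FunFld.SameImage φ P Q}.Finite :=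
    (Groth.Agent.S11075.result k K hK hn φ hφ).2 P
  have hratio : ∀ (j' : Fin (n + 1)), ∀ f ∈ Submodule.span k (Set.range φ),
      f / φ j' ∈ Acoord k (fun i => φ i / φ j') := by
    intro j' f hfs
    obtain ⟨c, hc⟩ := (Submodule.mem_span_range_iff_exists_fun k).mp hfs
    have e : f / φ j' = ∑ i, c i • (φ i / φ j') := by
      rw [← hc, Finset.sum_div]
      simp_rw [smul_div_assoc]
    rw [e]
    exact Subalgebra.sum_mem _ (fun i _ => Subalgebra.smul_mem _
      (Algebra.subset_adjoin (Set.mem_range_self (f := fun i => φ i / φ j') i)) _)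
  constructor
  · intro hns
    have hF : {Q : FunFld.Place k K | FunFld.SameImage φ P Q} = {P} := by
      rw [Set.eq_singleton_iff_unique_mem]
      refine ⟨hPP, fun Q hQ => ?_⟩
      have h78 := (Groth.Agent.S11078.result k K hK hn φ hφ P Q).mp hQ
      exact (pl_eq_of_le (fun x hx => (h78 x (hns x hx)).1)).symm
    haveI : FiniteDimensional k ↥(Submodule.span k (Set.range φ)) :=
      FiniteDimensional.span_of_finite k (Set.finite_range φ)
    have hcod := (Groth.Agent.S11055.result k K hK hn φ hφ hbir P).mp hns P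
    have hC1 := finrank_inf_L_le hK (Submodule.span k (Set.range φ))
    have h1 := hC1 (FunFld.mapDiv k φ) P
    rw [inf_eq_left.mpr hWL] at h1
    have h2 := hC1 (FunFld.mapDiv k φ - Finsupp.single P 1) P
    have hlt : Module.finrank k ↥(Submodule.span k (Set.range φ) ⊓
          FunFld.L (FunFld.mapDiv k φ - Finsupp.single P 1 - Finsupp.single P 1)) <
          Module.finrank k ↥(Submodule.span k (Set.range φ) ⊓
            FunFld.L (FunFld.mapDiv k φ - Finsupp.single P 1)) := by
      omega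
    obtain ⟨f, hfW, hf0, hford⟩ := exists_mem_inf_L_ord_eq _ _ P hlt
    obtain ⟨c, hc⟩ := (Submodule.mem_span_range_iff_exists_fun k).mp hfW.1
    refine ⟨c, by rw [hc]; exact hf0, ?_⟩
    rw [hF, finsum_mem_singleton, hc, hford, Finsupp.sub_apply, Finsupp.single_eq_same]
    ring
  · rintro ⟨c, hℓ0, hsum⟩
    obtain ⟨ℓ, hℓ⟩ : ∃ ℓ : K, ℓ = ∑ i, c i • φ i := ⟨_, rfl⟩
    rw [← hℓ] at hℓ0 hsum
    have hℓW : ℓ ∈ Submodule.span k (Set.range φ) := by
      rw [hℓ]
      exact Submodule.sum_mem _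
        (fun i _ => Submodule.smul_mem _ _ (Submodule.subset_span ⟨i, rfl⟩))
    have hnonneg : ∀ Q : FunFld.Place k K, 0 ≤ FunFld.mapDiv k φ Q + Q.ord ℓ := by
      intro Q
      have h1 := hWL hℓW Q
      rw [pl_val_le_exp_iff Q hℓ0] at h1
      omega
    have hval : ∀ (Q : FunFld.Place k K) (j' : Fin (n + 1)), (∀ i, Q.1 (φ i) ≤ Q.1 (φ j')) →
        Q.1 (ℓ / φ j') = WithZero.exp (-(FunFld.mapDiv k φ Q + Q.ord ℓ)) := by
      intro Q j' hQj'
      rw [map_div₀, pl_val_eq_exp_neg_ord Q hℓ0, val_eq_exp_mapDiv hK φ hφ0 Q j' hQj',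
        ← WithZero.exp_sub]
      congr 1
      ring
    have e : ∀ m : ℤ, (WithZero.exp (-m) : WithZero (Multiplicative ℤ)) < 1 ↔ 1 ≤ m := by
      intro m
      rw [zm0_lt_one_iff, WithZero.exp_le_exp]
      omega
    have hiff : ∀ Q : FunFld.Place k K, FunFld.SameImage φ P Q →
        (1 ≤ FunFld.mapDiv k φ Q + Q.ord ℓ ↔ 1 ≤ FunFld.mapDiv k φ P + P.ord ℓ) := by
      intro Q hQ
      have h78 := (Groth.Agent.S11078.result k K hK hn φ hφ P Q).mp hQ
      obtain ⟨j', hj'0, hPj', hQj', -⟩ := hQ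
      have hin : FunFld.InLocRing φ P (ℓ / φ j') :=
        ⟨j', hj'0, hPj', ℓ / φ j', hratio j' ℓ hℓW, 1, one_mem _, map_one _, mul_one _⟩
      have h1 := (h78 _ hin).2
      rw [hval Q j' hQj', hval P j' hPj', e, e] at h1
      exact h1
    rw [finsum_mem_eq_finite_toFinset_sum _ hfinF] at hsum
    have hPmem : P ∈ hfinF.toFinset := hfinF.mem_toFinset.mpr hPP
    have hnn : ∀ Q ∈ hfinF.toFinset, 0 ≤ FunFld.mapDiv k φ Q + Q.ord ℓ :=
      fun Q _ => hnonneg Q
    have hmP1 : 1 ≤ FunFld.mapDiv k φ P + P.ord ℓ := by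
      by_contra hcon
      have hz : ∑ Q ∈ hfinF.toFinset, (FunFld.mapDiv k φ Q + Q.ord ℓ) = 0 := by
        refine Finset.sum_eq_zero (fun Q hQ => ?_)
        have hQ' : FunFld.SameImage φ P Q := hfinF.mem_toFinset.mp hQ
        have h1 := hiff Q hQ'
        have h2 := hnonneg Q
        by_contra hne
        exact hcon (h1.mp (by omega))
      rw [hz] at hsum
      exact zero_ne_one hsum
    have hmP : FunFld.mapDiv k φ P + P.ord ℓ = 1 := by
      have h1 := Finset.single_le_sum hnn hPmem
      rw [hsum] at h1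
      omega
    have hFsub : ∀ Q : FunFld.Place k K, FunFld.SameImage φ P Q → Q = P := by
      intro Q hQ
      by_contra hne
      have hQmem : Q ∈ hfinF.toFinset := hfinF.mem_toFinset.mpr hQ
      have hsub : ({P, Q} : Finset (FunFld.Place k K)) ⊆ hfinF.toFinset := by
        intro R hR
        rcases Finset.mem_insert.mp hR with rfl | hR
        · exact hPmem
        · rw [Finset.mem_singleton.mp hR]
          exact hQmem
      have h1 : ∑ R ∈ ({P, Q} : Finset (FunFld.Place k K)), (FunFld.mapDiv k φ R + R.ord ℓ) ≤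
          ∑ R ∈ hfinF.toFinset, (FunFld.mapDiv k φ R + R.ord ℓ) :=
        Finset.sum_le_sum_of_subset_of_nonneg hsub (fun R hR _ => hnn R hR)
      rw [Finset.sum_pair (Ne.symm hne), hsum] at h1
      have h2 := (hiff Q hQ).mpr hmP1
      omega
    have hPval : P.1 (ℓ / φ j) = WithZero.exp (-1 : ℤ) := by
      rw [hval P j hj', hmP]
    refine isNonsingularAt_of_sep_of_unif hK φ 0 hφ0 hbir P j hj' ?_
      ⟨ℓ / φ j, hratio j ℓ hℓW, hPval⟩
    intro Q hQP hQfin
    have hQj : ∀ i, Q.1 (φ i) ≤ Q.1 (φ j) := by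
      intro i
      have h1 := hQfin i
      change Q.1 (φ i / φ j) ≤ 1 at h1
      rwa [map_div₀,
        div_le_one₀ (zero_lt_iff.mpr ((Valuation.ne_zero_iff _).mpr (hφ0 j)))] at h1
    have hQr_le : ∀ i, Q.1 (φ i / φ j) ≤ 1 := fun i => hQfin i
    choose cP hcP using fun i => exists_const_sub_lt_one hK P (hr_le i)
    choose cQ hcQ using fun i => exists_const_sub_lt_one hK Q (hQr_le i)
    have hex : ∃ i, cP i ≠ cQ i := by
      by_contra hcon
      push_neg at hcon
      apply hQP
      apply hFsub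
      refine ⟨j, hφ0 j, hj', hQj, fun i => ⟨cP i, hcP i, ?_⟩⟩
      rw [hcon i]
      exact hcQ i
    obtain ⟨i, hi⟩ := hex
    refine ⟨φ i / φ j - algebraMap k K (cQ i), ?_, ?_, hcQ i⟩
    · exact Subalgebra.sub_mem _
        (Algebra.subset_adjoin (Set.mem_range_self (f := fun i => φ i / φ j) i))
        (Subalgebra.algebraMap_mem _ _)
    · have h1 : P.1 ((φ i / φ j - algebraMap k K (cQ i)) - algebraMap k K (cP i - cQ i)) < 1 := by
        have e' : (φ i / φ j - algebraMap k K (cQ i)) - algebraMap k K (cP i - cQ i) =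
            φ i / φ j - algebraMap k K (cP i) := by
          rw [map_sub]
          ring
        rw [e']
        exact hcP i
      exact val_eq_one_of_sub_const P h1 (sub_ne_zero.mpr hi)

end Groth.Agent.S11076
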