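import Groth.Statements.S11079
import Groth.Agent.H66.GLnH90

set_option autoImplicit false
universe u
open CAlg

namespace Groth.Agent.S11079

/-- Let L/K be a finite Galois extension of fields, n a natural number, and B a map from the Galois
group of L over K to the invertible n × n matrices over L such that B(σ) · σ(B(τ)) = B(στ) for all
σ, τ, where σ acts on matrices entrywise and στ is the automorphism applying τ first. Then there is
an invertible matrix A over L with B(σ) = A⁻¹ · σ(A) for every σ; that is, every 1-cocycle of the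
Galois group with values in GL_n(L) is a coboundary. -/
theorem result (K L : Type u) [Field K] [Field L]
    [Algebra K L] [FiniteDimensional K L] [IsGalois K L] (n : ℕ)
    (B : (L ≃ₐ[K] L) → GL (Fin n) L)
    (hB : ∀ σ τ : L ≃ₐ[K] L,
      (B σ : Matrix (Fin n) (Fin n) L) * (B τ : Matrix (Fin n) (Fin n) L).map σ = (B (σ * τ) : Matrix (Fin n) (Fin n) L)) :
    ∃ A : GL (Fin n) L, ∀ σ : L ≃ₐ[K] L,
      (B σ : Matrix (Fin n) (Fin n) L) = ((A⁻¹ : GL (Fin n) L) : Matrix (Fin n) (Fin n) L) * (A : Matrix (Fin n) (Fin n) L).map σ := by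
  classical
  let mapGL : (L ≃ₐ[K] L) → (GL (Fin n) L →* GL (Fin n) L) := fun σ =>
    Units.map ((σ : L →+* L).mapMatrix : Matrix (Fin n) (Fin n) L →+* Matrix (Fin n) (Fin n) L).toMonoidHom
  have hmapGL : ∀ (σ : L ≃ₐ[K] L) (u : GL (Fin n) L),
      ((mapGL σ u : GL (Fin n) L) : Matrix (Fin n) (Fin n) L) = (u : Matrix (Fin n) (Fin n) L).map σ :=
    fun σ u => rfl
  have hB1 : B 1 = 1 := by
    have h := hB 1 1
    have h1 : ((B 1 : GL (Fin n) L) : Matrix (Fin n) (Fin n) L).map (1 : L ≃ₐ[K] L) = B 1 := by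
      ext i j; rfl
    rw [h1, mul_one, ← Units.val_mul] at h
    have h2 : B 1 * B 1 = B 1 := Units.ext h
    exact mul_eq_left.mp h2
  obtain ⟨P, hPu, hP⟩ := Groth.Agent.H66.exists_isUnit_twisted_invariant (K := K) (L := L)
    (fun σ => ((B σ : GL (Fin n) L) : Matrix (Fin n) (Fin n) L))
    (by show ((B 1 : GL (Fin n) L) : Matrix (Fin n) (Fin n) L) = 1; rw [hB1]; rfl) hB
  set A₀ : GL (Fin n) L := hPu.unit⁻¹ with hA₀
  have hBA : ∀ σ, B σ = A₀⁻¹ * mapGL σ A₀ := by
    intro σ
    have h1 : B σ * mapGL σ hPu.unit = hPu.unit := by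
      apply Units.ext
      rw [Units.val_mul, hmapGL]
      exact hP σ
    rw [hA₀, inv_inv, map_inv]
    exact eq_mul_inv_of_mul_eq h1
  refine ⟨A₀, fun σ => ?_⟩
  rw [hBA σ, Units.val_mul, hmapGL]

end Groth.Agent.S11079
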