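import Groth.Statements.S11080
-- import your own Groth.Agent.* helpers here
import Mathlib

set_option autoImplicit false
universe u
open CAlg

namespace Groth.Agent.S11080

open IsDedekindDomain IsDedekindDomain.HeightOneSpectrum in
/-- Valuation rings over a curve: let A be a Dedekind domain with fraction field K. A valuation subring
O of K contains A and is different from K if and only if O is the valuation ring of the v-adic
valuation of K at some nonzero prime v of A (equivalently O is the local ring of A at a maximal
ideal, a discrete valuation ring). (The published statement takes A to be the coordinate ring of a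
nonsingular affine curve over an algebraically closed field, which is such a Dedekind domain; its
proof uses only that the local rings of A at nonzero primes are discrete valuation rings and that
nonzero primes are maximal.) -/
theorem result (A K : Type u) [CommRing A]
    [IsDedekindDomain A] [Field K] [Algebra A K] [IsFractionRing A K] (O : ValuationSubring K) :
    ((algebraMap A K).range ≤ O.toSubring ∧ O ≠ ⊤) ↔
      ∃ v : IsDedekindDomain.HeightOneSpectrum A, O = (v.valuation K).valuationSubring := by
  constructor
  · rintro ⟨hA, hO⟩
    have hAO : ∀ a : A, algebraMap A K a ∈ O := fun a => hA ⟨a, rfl⟩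
    have hw : ∀ a : A, O.valuation (algebraMap A K a) ≤ 1 := fun a =>
      (O.valuation_le_one_iff _).2 (hAO a)
    let f : A →+* O := (algebraMap A K).codRestrict O.toSubring hAO
    let p : Ideal A := Ideal.comap f (IsLocalRing.maximalIdeal O)
    have hp : p.IsPrime := Ideal.comap_isPrime f _
    have hmem : ∀ a : A, a ∈ p ↔ O.valuation (algebraMap A K a) < 1 := by
      intro a
      show f a ∈ IsLocalRing.maximalIdeal O ↔ _
      rw [ValuationSubring.valuation_lt_one_iff]
      rfl
    have hp0 : p ≠ ⊥ := by
      obtain ⟨x, hx⟩ : ∃ x : K, x ∉ O := by
        by_contra h
        push Not at h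
        exact hO (eq_top_iff.2 (fun x _ => h x))
      obtain ⟨a, b, hb, rfl⟩ := IsFractionRing.div_surjective (A := A) x
      have hb0 : b ≠ 0 := nonZeroDivisors.ne_zero hb
      have hbp : b ∈ p := by
        rw [hmem]
        by_contra hlt
        have h1 : O.valuation (algebraMap A K b) = 1 := le_antisymm (hw b) (not_lt.1 hlt)
        apply hx
        rw [← O.valuation_le_one_iff, map_div₀, h1, div_one]
        exact hw a
      intro hbot
      rw [hbot, Ideal.mem_bot] at hbp
      exact hb0 hbp
    let v : HeightOneSpectrum A := ⟨p, hp, hp0⟩
    refine ⟨v, ?_⟩
    have hle : valuationSubringAtPrime K v ≤ O := by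
      rw [valuationSubringAtPrime_eq_valuationSubring]
      intro x hx
      rw [Valuation.mem_valuationSubring_iff] at hx
      obtain ⟨n, d, hnd⟩ := v.exists_primeCompl_mul_eq_of_integer x hx
      have hd : (d : A) ∉ p := d.2
      have h1 : O.valuation (algebraMap A K (d : A)) = 1 := by
        rw [hmem] at hd
        exact le_antisymm (hw _) (not_lt.1 hd)
      rw [← O.valuation_le_one_iff]
      have h2 : O.valuation x = O.valuation (algebraMap A K n) := by
        rw [← hnd, map_mul, h1, mul_one]
      rw [h2]
      exact hw n
    rw [← valuationSubringAtPrime_eq_valuationSubring]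
    exact (ValuationSubring.eq_of_le_of_ne_top _ hle hO).symm
  · rintro ⟨v, rfl⟩
    constructor
    · rintro _ ⟨a, rfl⟩
      rw [ValuationSubring.mem_toSubring, Valuation.mem_valuationSubring_iff]
      exact v.valuation_le_one a
    · simp only [ne_eq, Valuation.valuationSubring_eq_top_iff, not_not]
      infer_instance

end Groth.Agent.S11080
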