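import Groth.Statements.S11083
import Mathlib

set_option autoImplicit false
universe u v
open CAlg

namespace Groth.Agent.S11083

open scoped IntermediateField.algebraAdjoinAdjoin in
/-- A field which is separable algebraic over the purely transcendental subfield generated by an
algebraically independent family `v` is formally étale over the polynomial ring on `v`. -/
theorem formallyEtale_mvPolynomial {k : Type u} {F : Type v} [Field k] [Field F] [Algebra k F]
    {ι : Type v} (v : ι → F) (hv : AlgebraicIndependent k v)
    [Algebra.IsSeparable (IntermediateField.adjoin k (Set.range v)) F] :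
    @Algebra.FormallyEtale (MvPolynomial ι k) F _ _ (MvPolynomial.aeval v).toRingHom.toAlgebra := by
  let _ : Algebra (MvPolynomial ι k) F := (MvPolynomial.aeval v).toRingHom.toAlgebra
  let _ : Algebra (MvPolynomial ι k) (Algebra.adjoin k (Set.range v)) :=
    hv.aevalEquiv.toAlgHom.toRingHom.toAlgebra
  have t1 : IsScalarTower (MvPolynomial ι k) (Algebra.adjoin k (Set.range v)) F :=
    .of_algebraMap_eq (fun x => rfl)
  have e1 : Algebra.FormallyEtale (MvPolynomial ι k) (Algebra.adjoin k (Set.range v)) :=
    Algebra.FormallyEtale.of_equiv
      (AlgEquiv.ofRingEquiv (f := hv.aevalEquiv.toRingEquiv) (fun x => rfl) :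
        MvPolynomial ι k ≃ₐ[MvPolynomial ι k] Algebra.adjoin k (Set.range v))
  have e2 : Algebra.FormallyEtale (Algebra.adjoin k (Set.range v))
      (IntermediateField.adjoin k (Set.range v)) :=
    Algebra.FormallyEtale.of_isLocalization (nonZeroDivisors _)
  have e3 : Algebra.FormallyEtale (IntermediateField.adjoin k (Set.range v)) F :=
    Algebra.FormallyEtale.of_isSeparable _ F
  have e4 : Algebra.FormallyEtale (Algebra.adjoin k (Set.range v)) F :=
    Algebra.FormallyEtale.comp _ (IntermediateField.adjoin k (Set.range v)) _
  exact Algebra.FormallyEtale.comp _ (Algebra.adjoin k (Set.range v)) _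

theorem rank_kaehler {k : Type u} {F : Type v} [Field k] [Field F] [Algebra k F]
    {ι : Type v} (v : ι → F) (hv : AlgebraicIndependent k v)
    [Algebra.IsSeparable (IntermediateField.adjoin k (Set.range v)) F] :
    Module.rank F (Ω[F⁄k]) = Cardinal.mk ι := by
  let _ : Algebra (MvPolynomial ι k) F := (MvPolynomial.aeval v).toRingHom.toAlgebra
  have t : IsScalarTower k (MvPolynomial ι k) F :=
    .of_algebraMap_eq (fun r => ((MvPolynomial.aeval v).commutes r).symm)
  have e : Algebra.FormallyEtale (MvPolynomial ι k) F := formallyEtale_mvPolynomial v hv
  let b : Module.Basis ι F (Ω[F⁄k]) :=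
    ((KaehlerDifferential.mvPolynomialBasis k ι).baseChange F).map
      (KaehlerDifferential.tensorKaehlerEquivOfFormallyEtale k (MvPolynomial ι k) F)
  exact b.mk_eq_rank''.symm

/-- Let k be an algebraically closed field, F a field extension of k which is finitely generated as a
field, and x a transcendence basis of F over k indexed by Fin d. Then the F-vector space of Kähler
differentials of F over k has F-rank exactly d: it is finite-dimensional of dimension the
transcendence degree. -/
theorem result (k : Type u) (F : Type v)
    [Field k] [IsAlgClosed k] [Field F] [Algebra k F] (hF : (⊤ : IntermediateField k F).FG)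
    (d : ℕ) (x : Fin d → F) (hx : IsTranscendenceBasis k x) :
    Module.rank F (Ω[F⁄k]) = d := by
  have : Algebra.EssFiniteType k F := IntermediateField.fg_top_iff.mp hF
  obtain ⟨s, hs, H⟩ := exists_isTranscendenceBasis_and_isSeparable_of_perfectField k F
  have : Algebra.IsSeparable (IntermediateField.adjoin k (Set.range ((↑) : s → F))) F := by
    convert! H <;> simp
  rw [rank_kaehler ((↑) : s → F) hs.1]
  have h := hs.lift_cardinalMk_eq hx
  simpa using h

end Groth.Agent.S11083
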