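import Groth.Statements.S11082
import Groth.Agent.S11083

set_option autoImplicit false
universe u v
open CAlg

namespace Groth.Agent.S11082

theorem exists_basis {k : Type u} {F : Type v} [Field k] [Field F] [Algebra k F]
    {ι : Type v} (v : ι → F) (hv : AlgebraicIndependent k v)
    [Algebra.IsSeparable (IntermediateField.adjoin k (Set.range v)) F] :
    ∃ b : Module.Basis ι F (Ω[F⁄k]), ∀ i, b i = KaehlerDifferential.D k F (v i) := by
  let _ : Algebra (MvPolynomial ι k) F := (MvPolynomial.aeval v).toRingHom.toAlgebra
  have t : IsScalarTower k (MvPolynomial ι k) F :=
    .of_algebraMap_eq (fun r => ((MvPolynomial.aeval v).commutes r).symm)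
  have e : Algebra.FormallyEtale (MvPolynomial ι k) F :=
    Groth.Agent.S11083.formallyEtale_mvPolynomial v hv
  refine ⟨((KaehlerDifferential.mvPolynomialBasis k ι).baseChange F).map
      (KaehlerDifferential.tensorKaehlerEquivOfFormallyEtale k (MvPolynomial ι k) F),
    fun i => ?_⟩
  rw [Module.Basis.map_apply, Module.Basis.baseChange_apply,
    KaehlerDifferential.mvPolynomialBasis_apply,
    KaehlerDifferential.tensorKaehlerEquivOfFormallyEtale_apply,
    KaehlerDifferential.mapBaseChange_tmul, one_smul, KaehlerDifferential.map_D]
  congr 1
  exact MvPolynomial.aeval_X v i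

/-- Let k be an algebraically closed field, F a field extension of k which is finitely generated as a
field, and x a transcendence basis of F over k indexed by a type ι. Then F is a separable algebraic
extension of the subfield k(x) generated by the family (x is a separating transcendence basis) if
and only if the differentials d(x i) form a basis of the F-vector space of Kähler differentials of F
over k, i.e. they are linearly independent over F and span it. -/
theorem result (k : Type u) (F : Type v)
    [Field k] [IsAlgClosed k] [Field F] [Algebra k F] (hF : (⊤ : IntermediateField k F).FG)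
    {ι : Type v} (x : ι → F) (hx : IsTranscendenceBasis k x) :
    Algebra.IsSeparable (IntermediateField.adjoin k (Set.range x)) F ↔
      (LinearIndependent F (fun i : ι => KaehlerDifferential.D k F (x i)) ∧
        Submodule.span F (Set.range fun i : ι => KaehlerDifferential.D k F (x i)) = ⊤) := by
  constructor
  · intro hsep
    obtain ⟨b, hb⟩ := exists_basis x hx.1
    have h : (fun i : ι => KaehlerDifferential.D k F (x i)) = b := funext (fun i => (hb i).symm)
    rw [h]
    exact ⟨b.linearIndependent, b.span_eq⟩
  · rintro ⟨-, hspan⟩
    have h1 : Algebra.EssFiniteType k F := IntermediateField.fg_top_iff.mp hF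
    have h2 : Algebra.EssFiniteType (IntermediateField.adjoin k (Set.range x)) F :=
      Algebra.EssFiniteType.of_comp k _ F
    have hker : LinearMap.ker (KaehlerDifferential.map k
        (IntermediateField.adjoin k (Set.range x)) F F) = ⊤ := by
      rw [eq_top_iff, ← hspan, Submodule.span_le]
      rintro _ ⟨i, rfl⟩
      have hi : x i ∈ IntermediateField.adjoin k (Set.range x) :=
        IntermediateField.subset_adjoin _ _ ⟨i, rfl⟩
      have h3 : KaehlerDifferential.D (IntermediateField.adjoin k (Set.range x)) F (x i) = 0 :=
        Derivation.map_algebraMap _ (⟨x i, hi⟩ : IntermediateField.adjoin k (Set.range x))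
      simp only [SetLike.mem_coe, LinearMap.mem_ker, KaehlerDifferential.map_D]
      exact h3
    have h3 : Algebra.FormallyUnramified (IntermediateField.adjoin k (Set.range x)) F := by
      refine ⟨⟨fun a b => ?_⟩⟩
      obtain ⟨a', rfl⟩ := KaehlerDifferential.map_surjective k
        (IntermediateField.adjoin k (Set.range x)) F a
      obtain ⟨b', rfl⟩ := KaehlerDifferential.map_surjective k
        (IntermediateField.adjoin k (Set.range x)) F b
      have ha : a' ∈ LinearMap.ker (KaehlerDifferential.map k
        (IntermediateField.adjoin k (Set.range x)) F F) := by rw [hker]; trivial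
      have hb : b' ∈ LinearMap.ker (KaehlerDifferential.map k
        (IntermediateField.adjoin k (Set.range x)) F F) := by rw [hker]; trivial
      rw [LinearMap.mem_ker.mp ha, LinearMap.mem_ker.mp hb]
    exact Algebra.FormallyUnramified.isSeparable _ F

end Groth.Agent.S11082
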