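import Groth.Statements.S11084
-- import your own Groth.Agent.* helpers here
import Groth.Agent.S11080
import Mathlib

set_option autoImplicit false
universe u
open CAlg

namespace Groth.Agent.S11084

/-- Let k be a field and O a valuation subring of the field of rational functions k(x). Then O contains
the constants k and is different from k(x) if and only if O is the valuation ring of the P-adic
valuation at a nonzero prime P of the polynomial ring k[x], or O is the valuation ring of the
valuation at infinity (given by the degree). (The published statement has k algebraically closed, so
that these valuation rings correspond to the points of the projective line; the published proof does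
not use that k is algebraically closed. The published statement also asserts that distinct points
give distinct valuation rings, which this row does not state, and counts k(x) itself among the
valuation rings containing k; this row excludes it.) -/
theorem result (k : Type u) [Field k] [DecidableEq (RatFunc k)]
    (O : ValuationSubring (RatFunc k)) :
    ((algebraMap k (RatFunc k)).range ≤ O.toSubring ∧ O ≠ ⊤) ↔
      ((∃ v : IsDedekindDomain.HeightOneSpectrum (Polynomial k), O = (v.valuation (RatFunc k)).valuationSubring) ∨
        O = (RatFunc.inftyValuation k).valuationSubring) := by
  constructor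
  · rintro ⟨hk, hO⟩
    have hkO : ∀ a : k, algebraMap k (RatFunc k) a ∈ O := fun a => hk ⟨a, rfl⟩
    by_cases hX : (RatFunc.X : RatFunc k) ∈ O
    · left
      have hpoly : (algebraMap (Polynomial k) (RatFunc k)).range ≤ O.toSubring := by
        rintro _ ⟨p, rfl⟩
        rw [ValuationSubring.mem_toSubring]
        induction p using Polynomial.induction_on' with
        | add p q hp hq => rw [map_add]; exact O.add_mem _ _ hp hq
        | monomial n a =>
          rw [← Polynomial.C_mul_X_pow_eq_monomial, map_mul, map_pow, RatFunc.algebraMap_X,
            RatFunc.algebraMap_C, ← RatFunc.algebraMap_eq_C]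
          exact O.mul_mem _ _ (hkO a) (pow_mem hX n)
      exact (Groth.Agent.S11080.result (Polynomial k) (RatFunc k) O).1 ⟨hpoly, hO⟩
    · right
      have hlt : 1 < O.valuation RatFunc.X := by
        rw [← not_le, O.valuation_le_one_iff]
        exact hX
      have htriv : O.valuation.IsTrivialOn k := by
        refine ⟨fun a ha => ?_⟩
        have hu : IsUnit (⟨algebraMap k (RatFunc k) a, hkO a⟩ : O) := by
          refine IsUnit.of_mul_eq_one (⟨algebraMap k (RatFunc k) a⁻¹, hkO a⁻¹⟩ : O) ?_
          apply Subtype.ext
          show algebraMap k (RatFunc k) a * algebraMap k (RatFunc k) a⁻¹ = 1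
          rw [← map_mul, mul_inv_cancel₀ ha, map_one]
        exact (O.valuation_eq_one_iff _).1 hu
      have heq := RatFunc.valuation_isEquiv_inftyValuation_of_one_lt_valuation_X
        (v := O.valuation) hlt
      rw [Valuation.isEquiv_iff_valuationSubring, ValuationSubring.valuationSubring_valuation] at heq
      exact heq
  · rintro (⟨v, rfl⟩ | rfl)
    · obtain ⟨h1, h2⟩ := (Groth.Agent.S11080.result (Polynomial k) (RatFunc k) _).2 ⟨v, rfl⟩
      refine ⟨?_, h2⟩
      rintro _ ⟨a, rfl⟩
      refine h1 ⟨Polynomial.C a, ?_⟩
      rw [RatFunc.algebraMap_C, RatFunc.algebraMap_eq_C]
    · constructor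
      · rintro _ ⟨a, rfl⟩
        rw [ValuationSubring.mem_toSubring, Valuation.mem_valuationSubring_iff]
        by_cases ha : a = 0
        · simp [ha]
        · rw [RatFunc.algebraMap_eq_C, RatFunc.inftyValuation.C k ha]
      · simp only [ne_eq, Valuation.valuationSubring_eq_top_iff, not_not]
        infer_instance

end Groth.Agent.S11084
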