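import Mathlib
import Groth.Statements.S11086

set_option autoImplicit false
universe u
attribute [local instance] FractionRing.liftAlgebra
open CAlg

namespace Groth.Agent.S11086

lemma trace_algebraMap_mul {K L : Type*} [Field K] [Field L] [Algebra K L] (k : K) (w : L) :
    Algebra.trace K L (algebraMap K L k * w) = k * Algebra.trace K L w := by
  rw [← Algebra.smul_def, map_smul, smul_eq_mul]

section AKLB
open nonZeroDivisors

variable (A K : Type u) {L : Type u} (B : Type u) [CommRing A] [Field K] [CommRing B] [Field L]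
  [Algebra A K] [Algebra B L] [Algebra A B] [Algebra K L] [Algebra A L]
  [IsScalarTower A K L] [IsScalarTower A B L] [IsDomain A] [IsFractionRing A K]
  [FiniteDimensional K L] [Algebra.IsSeparable K L] [IsIntegralClosure B A L]
  [IsIntegrallyClosed A] [IsDedekindDomain B] [Module.IsTorsionFree A B] [IsFractionRing B L]

lemma mem_traceDual_one_iff (y : L) :
    y ∈ Submodule.traceDual A K (1 : Submodule B L) ↔
      ∀ b : B, Algebra.trace K L (y * algebraMap B L b) ∈ (algebraMap A K).range := by
  rw [Submodule.mem_traceDual]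
  constructor
  · intro h b
    have h' := h (algebraMap B L b) (Submodule.mem_one.mpr ⟨b, rfl⟩)
    rwa [Algebra.traceForm_apply] at h'
  · intro h a ha
    obtain ⟨b, rfl⟩ := Submodule.mem_one.mp ha
    rw [Algebra.traceForm_apply]
    exact h b

lemma mem_differentIdeal_iff (x : B) :
    x ∈ differentIdeal A B ↔ ∀ y ∈ Submodule.traceDual A K (1 : Submodule B L),
      ∃ c : B, algebraMap B L c = algebraMap B L x * y := by
  have hinj : Function.Injective (algebraMap B L) := IsFractionRing.injective B L
  have h1 : x ∈ differentIdeal A B ↔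
      algebraMap B L x ∈ IsLocalization.coeSubmodule L (differentIdeal A B) := by
    rw [IsLocalization.mem_coeSubmodule]
    constructor
    · intro h; exact ⟨x, h, rfl⟩
    · rintro ⟨x', hx', h⟩
      rwa [← hinj h]
  rw [h1, coeSubmodule_differentIdeal A K B, Submodule.mem_div_iff_forall_mul_mem]
  refine forall₂_congr fun y _ => ?_
  rw [Submodule.mem_one]

lemma one_mem_mul :
    (1 : L) ∈ IsLocalization.coeSubmodule L (differentIdeal A B) *
      Submodule.traceDual A K (1 : Submodule B L) := by
  have h1 : ((differentIdeal A B : Ideal B) : FractionalIdeal B⁰ L) *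
      FractionalIdeal.dual A K 1 = 1 := by
    rw [coeIdeal_differentIdeal A K L B]
    exact inv_mul_cancel₀ (FractionalIdeal.dual_ne_zero A K one_ne_zero)
  have h2 := congrArg (fun I : FractionalIdeal B⁰ L => (I : Submodule B L)) h1
  simp only [FractionalIdeal.coe_mul, FractionalIdeal.coe_coeIdeal, FractionalIdeal.coe_dual_one,
    FractionalIdeal.coe_one] at h2
  rw [h2]
  exact Submodule.mem_one.mpr ⟨1, map_one _⟩

end AKLB

theorem core (A B : Type u) [CommRing A] [CommRing B] [Algebra A B]
    (S : Submonoid A)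
    (Aₛ Bₛ : Type u) [CommRing Aₛ] [CommRing Bₛ] [Algebra A Aₛ] [Algebra B Bₛ] [Algebra Aₛ Bₛ]
    [Algebra A Bₛ] [IsScalarTower A Aₛ Bₛ] [IsScalarTower A B Bₛ]
    [IsLocalization S Aₛ] [IsLocalization (Algebra.algebraMapSubmonoid B S) Bₛ]
    (K L : Type u) [Field K] [Field L]
    [Algebra A K] [Algebra B L] [Algebra K L] [Algebra A L] [IsScalarTower A K L]
    [IsScalarTower A B L]
    [Algebra Aₛ K] [Algebra Bₛ L] [Algebra Aₛ L] [IsScalarTower Aₛ K L] [IsScalarTower Aₛ Bₛ L]
    [IsScalarTower A Aₛ K] [IsScalarTower B Bₛ L]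
    [IsDomain A] [IsFractionRing A K] [FiniteDimensional K L] [Algebra.IsSeparable K L]
    [IsIntegralClosure B A L] [IsIntegrallyClosed A] [IsDedekindDomain B]
    [Module.IsTorsionFree A B] [IsFractionRing B L]
    [IsDomain Aₛ] [IsFractionRing Aₛ K] [IsIntegralClosure Bₛ Aₛ L] [IsIntegrallyClosed Aₛ]
    [IsDedekindDomain Bₛ] [Module.IsTorsionFree Aₛ Bₛ] [IsFractionRing Bₛ L]
    [Module.Finite A B] (hS : S ≤ nonZeroDivisors A) :
    Ideal.map (algebraMap B Bₛ) (differentIdeal A B) = differentIdeal Aₛ Bₛ := by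
  classical
  have hAK : Function.Injective (algebraMap A K) := IsFractionRing.injective A K
  have hκ : ∀ s ∈ S, algebraMap A K s ≠ 0 := fun s hs =>
    (map_ne_zero_iff _ hAK).mpr (nonZeroDivisors.ne_zero (hS hs))
  have hσ : ∀ s ∈ S, algebraMap A L s ≠ 0 := fun s hs => by
    rw [IsScalarTower.algebraMap_apply A K L]
    exact (map_ne_zero_iff _ (algebraMap K L).injective).mpr (hκ s hs)
  have hBL : ∀ b : B, algebraMap Bₛ L (algebraMap B Bₛ b) = algebraMap B L b := fun b =>
    (IsScalarTower.algebraMap_apply B Bₛ L b).symm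
  have hABL : ∀ a : A, algebraMap B L (algebraMap A B a) = algebraMap A L a := fun a =>
    (IsScalarTower.algebraMap_apply A B L a).symm
  have hAKL : ∀ a : A, algebraMap K L (algebraMap A K a) = algebraMap A L a := fun a =>
    (IsScalarTower.algebraMap_apply A K L a).symm
  have hAAK : ∀ a : A, algebraMap Aₛ K (algebraMap A Aₛ a) = algebraMap A K a := fun a =>
    (IsScalarTower.algebraMap_apply A Aₛ K a).symm
  have R1 : ∀ b' : Bₛ, ∃ b : B, ∃ s ∈ S,
      algebraMap Bₛ L b' * algebraMap A L s = algebraMap B L b := by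
    intro b'
    obtain ⟨b, ⟨_, s, hs, rfl⟩, rfl⟩ :=
      IsLocalization.exists_mk'_eq (Algebra.algebraMapSubmonoid B S) b'
    refine ⟨b, s, hs, ?_⟩
    rw [← hABL, ← hBL (algebraMap A B s), ← map_mul (algebraMap Bₛ L), ← hBL b]
    congr 1
    exact IsLocalization.mk'_spec Bₛ b _
  apply le_antisymm
  · rw [Ideal.map_le_iff_le_comap]
    intro x hx
    rw [Ideal.mem_comap, mem_differentIdeal_iff (L := L) Aₛ K Bₛ]
    intro y hy
    rw [mem_traceDual_one_iff] at hy
    obtain ⟨T, hT⟩ := (Module.Finite.fg_top : (⊤ : Submodule A B).FG)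
    choose a' ha' using fun b : B => RingHom.mem_range.mp (hy (algebraMap B Bₛ b))
    obtain ⟨s, hs⟩ := IsLocalization.exist_integer_multiples S T a'
    have hz : algebraMap A L (s : A) * y ∈ Submodule.traceDual A K (1 : Submodule B L) := by
      rw [mem_traceDual_one_iff]
      intro b
      have hb : b ∈ Submodule.span A (T : Set B) := hT ▸ Submodule.mem_top
      refine Submodule.span_induction
        (p := fun b _ => Algebra.trace K L (algebraMap A L (s : A) * y * algebraMap B L b) ∈
          (algebraMap A K).range) ?_ ?_ ?_ ?_ hb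
      · intro t ht
        obtain ⟨a, ha⟩ := hs t ht
        refine ⟨a, ?_⟩
        rw [← hAKL, mul_assoc, trace_algebraMap_mul, ← hBL t, ← ha' t, ← hAAK (s : A), ← map_mul (algebraMap Aₛ K),
          ← Algebra.smul_def, ← ha, hAAK]
      · rw [map_zero, mul_zero, map_zero]
        exact Subring.zero_mem _
      · intro b₁ b₂ _ _ h₁ h₂
        rw [map_add, mul_add, map_add]
        exact Subring.add_mem _ h₁ h₂
      · intro a b _ h
        rw [Algebra.smul_def, map_mul (algebraMap B L), hABL, ← hAKL a, mul_left_comm, trace_algebraMap_mul]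
        exact Subring.mul_mem _ ⟨a, rfl⟩ h
    obtain ⟨c, hc⟩ := (mem_differentIdeal_iff (L := L) A K B x).mp hx _ hz
    refine ⟨IsLocalization.mk' Bₛ c
      ⟨algebraMap A B (s : A), Algebra.mem_algebraMapSubmonoid_of_mem s⟩, ?_⟩
    apply mul_right_cancel₀ (hσ (s : A) s.2)
    have e1 : algebraMap Bₛ L (IsLocalization.mk' Bₛ c
        ⟨algebraMap A B (s : A), Algebra.mem_algebraMapSubmonoid_of_mem s⟩) *
        algebraMap A L (s : A) = algebraMap B L c := by
      rw [← hABL, ← hBL (algebraMap A B (s : A)), ← map_mul (algebraMap Bₛ L), ← hBL c]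
      congr 1
      exact IsLocalization.mk'_spec Bₛ c _
    rw [e1, hc, hBL]
    ring
  · intro x' hx'
    have key : ∀ z ∈ IsLocalization.coeSubmodule L (differentIdeal A B) *
        Submodule.traceDual A K (1 : Submodule B L),
        ∃ w ∈ Ideal.map (algebraMap B Bₛ) (differentIdeal A B),
          algebraMap Bₛ L w = algebraMap Bₛ L x' * z := by
      intro z hz
      refine Submodule.mul_induction_on hz ?_ ?_
      · intro d hd y hy
        rw [IsLocalization.mem_coeSubmodule] at hd
        obtain ⟨d₀, hd₀, rfl⟩ := hd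
        have hy' : y ∈ Submodule.traceDual Aₛ K (1 : Submodule Bₛ L) := by
          rw [mem_traceDual_one_iff] at hy ⊢
          intro b'
          obtain ⟨b, s, hs, hbs⟩ := R1 b'
          obtain ⟨a, ha⟩ := hy b
          refine ⟨IsLocalization.mk' Aₛ a ⟨s, hs⟩, ?_⟩
          apply mul_right_cancel₀ (hκ s hs)
          have e2 : algebraMap Aₛ K (IsLocalization.mk' Aₛ a ⟨s, hs⟩) * algebraMap A K s =
              algebraMap A K a := by
            rw [← hAAK s, ← map_mul (algebraMap Aₛ K), ← hAAK a]
            congr 1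
            exact IsLocalization.mk'_spec Aₛ a _
          rw [e2, ha, mul_comm _ (algebraMap A K s), ← trace_algebraMap_mul, hAKL, ← hbs]
          congr 1
          ring
        obtain ⟨w₀, hw₀⟩ := (mem_differentIdeal_iff (L := L) Aₛ K Bₛ x').mp hx' y hy'
        refine ⟨w₀ * algebraMap B Bₛ d₀,
          Ideal.mul_mem_left _ _ (Ideal.mem_map_of_mem _ hd₀), ?_⟩
        rw [map_mul (algebraMap Bₛ L), hw₀, hBL]
        ring
      · rintro z₁ z₂ ⟨w₁, hw₁, e₁⟩ ⟨w₂, hw₂, e₂⟩
        exact ⟨w₁ + w₂, Ideal.add_mem _ hw₁ hw₂, by rw [map_add, e₁, e₂, mul_add]⟩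
    obtain ⟨w, hw, e⟩ := key 1 (one_mem_mul (L := L) A K B)
    rw [mul_one] at e
    have hwx : w = x' := IsFractionRing.injective Bₛ L e
    rwa [← hwx]

/-- Let A be a Dedekind domain, B a Dedekind domain which is a finitely generated torsion-free A-algebra
with fraction field separable over that of A (the integral closure of A in a finite separable
extension), and S a submonoid of A consisting of non-zero-divisors. Let A_S and B_S be localizations
of A at S and of B at the image of S, with B_S an algebra over A_S compatibly with A and B (so A_S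
is integrally closed and B_S is a Dedekind domain, torsion-free over A_S). Then the ideal of B_S
generated by the different of B over A is the different of B_S over A_S. -/
theorem result (A B : Type u) [CommRing A] [CommRing B]
    [IsDedekindDomain A] [IsDedekindDomain B] [Algebra A B] [Module.Finite A B] [Module.IsTorsionFree A B]
    [Algebra.IsSeparable (FractionRing A) (FractionRing B)]
    (S : Submonoid A) (hS : S ≤ nonZeroDivisors A)
    (Aₛ Bₛ : Type u) [CommRing Aₛ] [CommRing Bₛ] [Algebra A Aₛ] [Algebra B Bₛ] [Algebra Aₛ Bₛ]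
    [Algebra A Bₛ] [IsScalarTower A Aₛ Bₛ] [IsScalarTower A B Bₛ]
    [IsLocalization S Aₛ] [IsLocalization (Algebra.algebraMapSubmonoid B S) Bₛ]
    [IsDomain Aₛ] [IsIntegrallyClosed Aₛ] [IsDedekindDomain Bₛ] [Module.IsTorsionFree Aₛ Bₛ] :
    Ideal.map (algebraMap B Bₛ) (differentIdeal A B) = differentIdeal Aₛ Bₛ := by
  classical
  have hAK : Function.Injective (algebraMap A (FractionRing A)) := IsFractionRing.injective A _
  have hAL : Function.Injective (algebraMap A (FractionRing B)) :=
    FaithfulSMul.algebraMap_injective A _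
  have hSK : ∀ s : S, IsUnit (algebraMap A (FractionRing A) s) := fun s =>
    IsUnit.mk0 _ ((map_ne_zero_iff _ hAK).mpr (nonZeroDivisors.ne_zero (hS s.2)))
  letI algAₛK : Algebra Aₛ (FractionRing A) := (IsLocalization.lift (M := S) hSK).toAlgebra
  haveI towAAₛK : IsScalarTower A Aₛ (FractionRing A) :=
    IsScalarTower.of_algebraMap_eq fun a => (IsLocalization.lift_eq (M := S) hSK a).symm
  haveI fracAₛ : IsFractionRing Aₛ (FractionRing A) :=
    IsFractionRing.isFractionRing_of_isDomain_of_isLocalization S Aₛ (FractionRing A)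
  have hTL : ∀ t : Algebra.algebraMapSubmonoid B S,
      IsUnit (algebraMap B (FractionRing B) t) := by
    rintro ⟨_, s, hs, rfl⟩
    refine IsUnit.mk0 _ ?_
    show algebraMap B (FractionRing B) (algebraMap A B s) ≠ 0
    rw [← IsScalarTower.algebraMap_apply A B (FractionRing B)]
    exact (map_ne_zero_iff _ hAL).mpr (nonZeroDivisors.ne_zero (hS hs))
  letI algBₛL : Algebra Bₛ (FractionRing B) :=
    (IsLocalization.lift (M := Algebra.algebraMapSubmonoid B S) hTL).toAlgebra
  haveI towBBₛL : IsScalarTower B Bₛ (FractionRing B) :=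
    IsScalarTower.of_algebraMap_eq fun b =>
      (IsLocalization.lift_eq (M := Algebra.algebraMapSubmonoid B S) hTL b).symm
  haveI fracBₛ : IsFractionRing Bₛ (FractionRing B) :=
    IsFractionRing.isFractionRing_of_isDomain_of_isLocalization
      (Algebra.algebraMapSubmonoid B S) Bₛ (FractionRing B)
  letI algAₛL : Algebra Aₛ (FractionRing B) :=
    ((algebraMap (FractionRing A) (FractionRing B)).comp
      (algebraMap Aₛ (FractionRing A))).toAlgebra
  haveI tow1 : IsScalarTower Aₛ (FractionRing A) (FractionRing B) :=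
    IsScalarTower.of_algebraMap_eq fun _ => rfl
  haveI tow2 : IsScalarTower Aₛ Bₛ (FractionRing B) := by
    refine IsScalarTower.of_algebraMap_eq' (IsLocalization.ringHom_ext S ?_)
    ext a
    show algebraMap (FractionRing A) (FractionRing B)
        (algebraMap Aₛ (FractionRing A) (algebraMap A Aₛ a)) =
      algebraMap Bₛ (FractionRing B) (algebraMap Aₛ Bₛ (algebraMap A Aₛ a))
    rw [← IsScalarTower.algebraMap_apply A Aₛ (FractionRing A),
      ← IsScalarTower.algebraMap_apply A Aₛ Bₛ,
      IsScalarTower.algebraMap_apply A B Bₛ,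
      ← IsScalarTower.algebraMap_apply B Bₛ (FractionRing B),
      ← IsScalarTower.algebraMap_apply A (FractionRing A) (FractionRing B),
      ← IsScalarTower.algebraMap_apply A B (FractionRing B)]
  haveI finAₛBₛ : Module.Finite Aₛ Bₛ := Module.Finite.of_isLocalization A B S
  exact core A B S Aₛ Bₛ (FractionRing A) (FractionRing B) hS

end Groth.Agent.S11086
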