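import Groth.Statements.S11092
import Groth.Agent.S11083

set_option autoImplicit false
universe u v
open CAlg

namespace Groth.Agent.S11092

open TensorProduct

theorem rank_unit {k : Type u} {F : Type v} [Field k] [PerfectField k] [Field F] [Algebra k F]
    [Algebra.EssFiniteType k F] (x : F) (hx : IsTranscendenceBasis k (fun _ : Unit => x)) :
    Module.rank F (Ω[F⁄k]) = 1 := by
  obtain ⟨s, hs, H⟩ := exists_isTranscendenceBasis_and_isSeparable_of_perfectField k F
  have : Algebra.IsSeparable (IntermediateField.adjoin k (Set.range ((↑) : s → F))) F := by
    convert! H <;> simp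
  rw [Groth.Agent.S11083.rank_kaehler ((↑) : s → F) hs.1]
  have h := hs.lift_cardinalMk_eq hx
  simpa using h

/-- Let k be an algebraically closed field, K a field finitely generated over k admitting a one-element
transcendence basis over k (a function field of dimension one), and L a finite extension field of K
with the compatible k-algebra structure. Then the K-linear map from the Kähler differentials of K
over k to those of L over k induced by the inclusion is either the zero map or injective, and it is
injective if and only if L is separable over K. (The published statement takes K ⊆ L to be the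
function fields of two elliptic curves related by a nonzero homomorphism; its proof uses only that
they are function fields of dimension one over k.) -/
theorem result (k : Type u) (K L : Type v)
    [Field k] [IsAlgClosed k] [Field K] [Field L] [Algebra k K] [Algebra k L] [Algebra K L]
    [IsScalarTower k K L] (hK : (⊤ : IntermediateField k K).FG)
    (hx : ∃ x : K, IsTranscendenceBasis k (fun _ : Unit => x)) [FiniteDimensional K L] :
    (KaehlerDifferential.map k k K L = 0 ∨ Function.Injective (KaehlerDifferential.map k k K L)) ∧
      (Function.Injective (KaehlerDifferential.map k k K L) ↔ Algebra.IsSeparable K L) := by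
  have hK' : Algebra.EssFiniteType k K := IntermediateField.fg_top_iff.mp hK
  obtain ⟨x, hx⟩ := hx
  have hL' : Algebra.EssFiniteType k L := Algebra.EssFiniteType.comp k K L
  have hxL : IsTranscendenceBasis k (fun _ : Unit => algebraMap K L x) :=
    hx.algebraMap_comp (A := L)
  have rK := rank_unit x hx
  have rL := rank_unit (algebraMap K L x) hxL
  obtain ⟨v₀, hv₀, hv⟩ := rank_eq_one_iff.mp rK
  obtain ⟨w₀, hw₀, hw⟩ := rank_eq_one_iff.mp rL
  have hinj_iff : Function.Injective (KaehlerDifferential.map k k K L) ↔
      KaehlerDifferential.map k k K L v₀ ≠ 0 := by
    constructor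
    · intro h h0
      exact hv₀ (h (by rw [h0, map_zero]))
    · intro h
      rw [injective_iff_map_eq_zero]
      intro v hv0
      obtain ⟨c, rfl⟩ := hv v
      rw [map_smul] at hv0
      by_cases hc : c = 0
      · rw [hc, zero_smul]
      · exfalso
        apply h
        calc KaehlerDifferential.map k k K L v₀
            = c⁻¹ • (c • KaehlerDifferential.map k k K L v₀) := by
              rw [smul_smul, inv_mul_cancel₀ hc, one_smul]
          _ = 0 := by rw [hv0, smul_zero]
  refine ⟨?_, ?_⟩
  · by_cases h0 : KaehlerDifferential.map k k K L v₀ = 0
    · left
      apply LinearMap.ext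
      intro v
      obtain ⟨c, rfl⟩ := hv v
      rw [map_smul, h0, smul_zero, LinearMap.zero_apply]
    · right
      exact hinj_iff.mpr h0
  · constructor
    · intro hinj
      have h0 : KaehlerDifferential.map k k K L v₀ ≠ 0 := hinj_iff.mp hinj
      obtain ⟨c₀, hc₀⟩ := hw (KaehlerDifferential.map k k K L v₀)
      have hc₀0 : c₀ ≠ 0 := by
        rintro rfl
        rw [zero_smul] at hc₀
        exact h0 hc₀.symm
      have hfv : KaehlerDifferential.map k k K L v₀ ∈
          LinearMap.ker (KaehlerDifferential.map k K L L) := by
        rw [← KaehlerDifferential.range_mapBaseChange]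
        exact ⟨1 ⊗ₜ v₀, by rw [KaehlerDifferential.mapBaseChange_tmul, one_smul]⟩
      have hker : ∀ z : Ω[L⁄k], KaehlerDifferential.map k K L L z = 0 := by
        intro z
        obtain ⟨c, rfl⟩ := hw z
        have e : c • w₀ = (c * c₀⁻¹) • KaehlerDifferential.map k k K L v₀ := by
          rw [← hc₀, smul_smul, mul_assoc, inv_mul_cancel₀ hc₀0, mul_one]
        rw [e, map_smul, LinearMap.mem_ker.mp hfv, smul_zero]
      have hU : Algebra.FormallyUnramified K L := by
        refine ⟨⟨fun a b => ?_⟩⟩
        obtain ⟨a', rfl⟩ := KaehlerDifferential.map_surjective k K L a
        obtain ⟨b', rfl⟩ := KaehlerDifferential.map_surjective k K L b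
        rw [hker a', hker b']
      exact Algebra.FormallyUnramified.isSeparable K L
    · intro hsep
      have hE : Algebra.FormallyEtale K L := Algebra.FormallyEtale.of_isSeparable K L
      have h1 : Function.Injective (TensorProduct.mk K L (Ω[K⁄k]) 1) :=
        Module.Flat.tensorProduct_mk_injective (R := K) (S := L) (M := Ω[K⁄k])
      have h2 : ∀ y, KaehlerDifferential.map k k K L y =
          KaehlerDifferential.tensorKaehlerEquivOfFormallyEtale k K L
            (TensorProduct.mk K L _ 1 y) := by
        intro y
        rw [TensorProduct.mk_apply, KaehlerDifferential.tensorKaehlerEquivOfFormallyEtale_apply,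
          KaehlerDifferential.mapBaseChange_tmul, one_smul]
      intro a b hab
      rw [h2, h2] at hab
      exact h1 ((KaehlerDifferential.tensorKaehlerEquivOfFormallyEtale k K L).injective hab)

end Groth.Agent.S11092
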