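import Groth.Statements.S11093
import Groth.Agent.H55.ASRes
import Groth.Agent.H76.ASHensel
import Groth.Agent.H55.ASGen
-- import your own Groth.Agent.* helpers here

set_option autoImplicit false
universe u
attribute [local instance] FractionRing.liftAlgebra
open CAlg

namespace Groth.Agent.S11093


set_option linter.style.haveILetI false


theorem no_pole (p : ℕ) [Fact p.Prime] (K : Type u) [Field K] [CharP K p]
    (B : Type u) [CommRing B] [IsDedekindDomain B]
    [Algebra (PowerSeries K) B] [Module.Finite (PowerSeries K) B]
    [Module.IsTorsionFree (PowerSeries K) B]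
    (F E : Type u) [Field F] [Field E] [Algebra (PowerSeries K) F]
    [IsFractionRing (PowerSeries K) F] [Algebra B E] [IsFractionRing B E] [Algebra F E]
    [Algebra (PowerSeries K) E] [IsScalarTower (PowerSeries K) F E]
    [IsScalarTower (PowerSeries K) B E]
    (hdeg : Module.finrank F E = p) (M : Ideal B) [M.IsMaximal]
    (hram : M.ramificationIdx (PowerSeries K) = p)
    (x : E) (hx : x ∉ Set.range (algebraMap F E)) (a : PowerSeries K)
    (heq : x ^ p - x + algebraMap (PowerSeries K) E a = 0) : False := by
  have hp : p.Prime := Fact.out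
  haveI : CharP (PowerSeries K) p :=
    charP_of_injective_ringHom (PowerSeries.C_injective (R := K)) p
  have hAF : Function.Injective (algebraMap (PowerSeries K) F) := IsFractionRing.injective _ _
  haveI : CharP F p := charP_of_injective_algebraMap hAF p
  haveI : CharP E p := charP_of_injective_algebraMap (algebraMap F E).injective p
  -- integrality
  have hint : IsIntegral (PowerSeries K) x := by
    refine ⟨Polynomial.X ^ p + (Polynomial.C a - Polynomial.X), Polynomial.monic_X_pow_add ?_, ?_⟩
    · calc (Polynomial.C a - Polynomial.X : Polynomial (PowerSeries K)).degree ≤ 1 := by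
            refine (Polynomial.degree_sub_le _ _).trans (max_le ?_ ?_)
            · exact Polynomial.degree_C_le.trans zero_le_one
            · exact Polynomial.degree_X_le
        _ < p := by exact_mod_cast hp.one_lt
    · rw [Polynomial.eval₂_add, Polynomial.eval₂_sub, Polynomial.eval₂_X_pow, Polynomial.eval₂_C,
        Polynomial.eval₂_X]
      linear_combination heq
  obtain ⟨b, hb⟩ := IsIntegrallyClosed.isIntegral_iff.mp (hint.tower_top (A := B))
  have hBE : Function.Injective (algebraMap B E) := IsFractionRing.injective B E
  have hfr : Module.finrank (PowerSeries K) B = p := by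
    rw [← IsFractionRing.finrank_eq (PowerSeries K) F B E, hdeg]
  obtain ⟨c, hc⟩ := Groth.Agent.H55.ASRes.exists_sub_mem_of_ramificationIdx_eq_finrank (PowerSeries K) B M
    (hram.trans hfr.symm) b
  have heq' : (x - algebraMap (PowerSeries K) E c) ^ p - (x - algebraMap (PowerSeries K) E c)
      + (algebraMap (PowerSeries K) E a + (algebraMap (PowerSeries K) E c) ^ p
        - algebraMap (PowerSeries K) E c) = 0 := by
    rw [sub_pow_char]
    linear_combination heq
  have t1 : ∀ z : PowerSeries K,
      algebraMap B E (algebraMap (PowerSeries K) B z) = algebraMap (PowerSeries K) E z :=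
    fun z => (IsScalarTower.algebraMap_apply (PowerSeries K) B E z).symm
  have hmem : algebraMap (PowerSeries K) B (a + c ^ p - c) ∈ M := by
    have h1 : algebraMap (PowerSeries K) B (a + c ^ p - c)
        = (b - algebraMap (PowerSeries K) B c) - (b - algebraMap (PowerSeries K) B c) ^ p := by
      apply hBE
      simp only [map_sub, map_pow, map_add, hb, t1]
      linear_combination heq'
    rw [h1]
    exact M.sub_mem hc (M.pow_mem_of_mem hc p hp.pos)
  have hconst : PowerSeries.constantCoeff (a + c ^ p - c) = 0 := by
    have hP : M.comap (algebraMap (PowerSeries K) B) ≠ ⊤ :=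
      Ideal.comap_ne_top _ (Ideal.IsMaximal.ne_top inferInstance)
    have h2 : (a + c ^ p - c) ∈ IsLocalRing.maximalIdeal (PowerSeries K) :=
      IsLocalRing.le_maximalIdeal hP (Ideal.mem_comap.mpr hmem)
    rw [PowerSeries.maximalIdeal_eq_span_X, Ideal.mem_span_singleton] at h2
    exact PowerSeries.X_dvd_iff.mp h2
  obtain ⟨y, hy⟩ := Groth.Agent.H76.ASHensel.exists_root_artinSchreier p K (a + c ^ p - c) hconst
  have hz : ((x - algebraMap (PowerSeries K) E c) - algebraMap (PowerSeries K) E y) ^ p
      = (x - algebraMap (PowerSeries K) E c) - algebraMap (PowerSeries K) E y := by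
    have h3 : algebraMap (PowerSeries K) E (y ^ p - y + (a + c ^ p - c)) = 0 := by
      rw [hy, map_zero]
    simp only [map_add, map_sub, map_pow] at h3
    rw [sub_pow_char]
    linear_combination heq' - h3
  have hz2 : ((x - algebraMap (PowerSeries K) E c) - algebraMap (PowerSeries K) E y)
      ∈ (⊥ : Subfield E) := (Subfield.mem_bot_iff_pow_eq_self E p).mpr hz
  have hz3 : ((x - algebraMap (PowerSeries K) E c) - algebraMap (PowerSeries K) E y)
      ∈ (algebraMap F E).fieldRange := (bot_le : (⊥ : Subfield E) ≤ _) hz2
  obtain ⟨w, hw⟩ := RingHom.mem_fieldRange.mp hz3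
  apply hx
  refine ⟨w + algebraMap (PowerSeries K) F (y + c), ?_⟩
  rw [map_add, hw, ← IsScalarTower.algebraMap_apply, map_add]
  ring

set_option maxHeartbeats 1600000 in
theorem reduce (p : ℕ) [Fact p.Prime] (K : Type u) [Field K] [CharP K p] [PerfectField K]
    (B : Type u) [CommRing B] [IsDedekindDomain B]
    [Algebra (PowerSeries K) B] [Module.Finite (PowerSeries K) B]
    [Module.IsTorsionFree (PowerSeries K) B]
    (F E : Type u) [Field F] [Field E] [Algebra (PowerSeries K) F]
    [IsFractionRing (PowerSeries K) F] [Algebra B E] [IsFractionRing B E] [Algebra F E]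
    [Algebra (PowerSeries K) E] [IsScalarTower (PowerSeries K) F E]
    [IsScalarTower (PowerSeries K) B E]
    (hdeg : Module.finrank F E = p) (M : Ideal B) [M.IsMaximal]
    (hram : M.ramificationIdx (PowerSeries K) = p) :
    ∀ (N : ℕ) (x : E) (a : PowerSeries K), x ∉ Set.range (algebraMap F E) →
      x ^ p - x + algebraMap F E (algebraMap (PowerSeries K) F a /
        algebraMap (PowerSeries K) F (PowerSeries.X ^ N)) = 0 →
      ∃ x : E, ∃ m : ℕ, ∃ a : PowerSeries K,
        IntermediateField.adjoin F {x} = ⊤ ∧ 0 < m ∧ ¬ p ∣ m ∧
        PowerSeries.constantCoeff a ≠ 0 ∧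
        x ^ p - x + algebraMap F E (algebraMap (PowerSeries K) F a /
          algebraMap (PowerSeries K) F (PowerSeries.X ^ m)) = 0 := by
  have hp : p.Prime := Fact.out
  haveI : ExpChar K p := ExpChar.prime hp
  haveI : CharP (PowerSeries K) p :=
    charP_of_injective_ringHom (PowerSeries.C_injective (R := K)) p
  have hAF : Function.Injective (algebraMap (PowerSeries K) F) := IsFractionRing.injective _ _
  haveI : CharP F p := charP_of_injective_algebraMap hAF p
  haveI : CharP E p := charP_of_injective_algebraMap (algebraMap F E).injective p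
  obtain ⟨T, hT⟩ : ∃ T : F, T = algebraMap (PowerSeries K) F PowerSeries.X := ⟨_, rfl⟩
  have hT0 : T ≠ 0 := by
    rw [hT]; exact (map_ne_zero_iff _ hAF).mpr PowerSeries.X_ne_zero
  have hTpow : ∀ n : ℕ, algebraMap (PowerSeries K) F (PowerSeries.X ^ n) = T ^ n := by
    intro n; rw [map_pow, hT]
  intro N
  induction N with
  | zero =>
    intro x a hx heq
    exfalso
    rw [pow_zero, map_one, div_one, ← IsScalarTower.algebraMap_apply] at heq
    exact no_pole p K B F E hdeg M hram x hx a heq
  | succ k ih =>
    intro x a hx heq
    by_cases ha0 : PowerSeries.constantCoeff a = 0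
    · obtain ⟨a1, rfl⟩ := PowerSeries.X_dvd_iff.mpr ha0
      have e : algebraMap (PowerSeries K) F (PowerSeries.X * a1) /
          algebraMap (PowerSeries K) F (PowerSeries.X ^ (k + 1))
          = algebraMap (PowerSeries K) F a1 / algebraMap (PowerSeries K) F (PowerSeries.X ^ k) := by
        rw [hTpow, hTpow, map_mul, ← hT, pow_succ, mul_comm T, mul_div_mul_right _ _ hT0]
      rw [e] at heq
      exact ih x a1 hx heq
    · by_cases hdiv : p ∣ k + 1
      · obtain ⟨j, hj⟩ := hdiv
        have hj1 : 1 ≤ j := by
          rcases Nat.eq_zero_or_pos j with h | h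
          · subst h; simp at hj
          · exact h
        have hq : 1 ≤ p - 1 := by have := hp.two_le; omega
        obtain ⟨r, hr⟩ : ∃ r : ℕ, r = (p - 1) * j := ⟨_, rfl⟩
        have hrj : r + j = k + 1 := by
          rw [hj, hr, ← Nat.succ_mul, Nat.succ_eq_add_one, Nat.sub_add_cancel hp.one_le]
        have hr1 : 1 ≤ r := by rw [hr]; exact Nat.mul_pos hq hj1
        obtain ⟨b0, hb0⟩ := surjective_frobenius K p (PowerSeries.constantCoeff a)
        rw [frobenius_def] at hb0
        have ha2 : PowerSeries.constantCoeff
            (a - PowerSeries.C (b0 ^ p) + PowerSeries.C b0 * PowerSeries.X ^ r) = 0 := by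
          obtain ⟨r', rfl⟩ : ∃ r', r = r' + 1 := ⟨r - 1, by omega⟩
          rw [map_add, map_sub, map_mul, PowerSeries.constantCoeff_C, pow_succ, map_mul,
            PowerSeries.constantCoeff_X, mul_zero, mul_zero, add_zero, hb0, sub_self]
        obtain ⟨a3, ha3⟩ := PowerSeries.X_dvd_iff.mpr ha2
        obtain ⟨bb, hbb⟩ : ∃ bb : F, bb = algebraMap (PowerSeries K) F (PowerSeries.C b0) :=
          ⟨_, rfl⟩
        have hF : T * algebraMap (PowerSeries K) F a3
            = algebraMap (PowerSeries K) F a - bb ^ p + bb * T ^ r := by
          have := congrArg (algebraMap (PowerSeries K) F) ha3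
          simp only [map_add, map_sub, map_mul, map_pow] at this
          rw [← hT, ← hbb] at this
          exact this.symm
        have e1 : T ^ (k + 1) = T ^ k * T := pow_succ T k
        have e2 : (T ^ j) ^ p = T ^ (k + 1) := by rw [← pow_mul, mul_comm j p, ← hj]
        have e3 : T ^ j * T ^ r = T ^ (k + 1) := by rw [← pow_add, add_comm, hrj]
        have key : algebraMap (PowerSeries K) F a3 / T ^ k
            = algebraMap (PowerSeries K) F a / T ^ (k + 1) - bb ^ p / T ^ (k + 1)
              + bb / T ^ j := by
          have h1 : algebraMap (PowerSeries K) F a3 / T ^ k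
              = (T * algebraMap (PowerSeries K) F a3) / T ^ (k + 1) := by
            rw [e1, mul_comm T, mul_div_mul_right _ _ hT0]
          have h2 : bb / T ^ j = (bb * T ^ r) / T ^ (k + 1) := by
            rw [← e3, mul_div_mul_right _ _ (pow_ne_zero r hT0)]
          rw [h1, h2, hF, add_div, sub_div]
        have hx' : x + algebraMap F E (bb / T ^ j) ∉ Set.range (algebraMap F E) := by
          rintro ⟨w, hw⟩
          exact hx ⟨w - bb / T ^ j, by rw [map_sub, hw]; ring⟩
        have hg : (algebraMap F E (bb / T ^ j)) ^ p = algebraMap F E (bb ^ p / T ^ (k + 1)) := by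
          rw [← map_pow, div_pow, e2]
        rw [hTpow] at heq
        refine ih (x + algebraMap F E (bb / T ^ j)) a3 hx' ?_
        rw [hTpow, key, add_pow_char, hg, map_add, map_sub]
        linear_combination heq
      · refine ⟨x, k + 1, a, ?_, Nat.succ_pos k, hdiv, ha0, heq⟩
        haveI : IsSimpleOrder (IntermediateField F E) :=
          IntermediateField.isSimpleOrder_of_finrank_prime F E (by rw [hdeg]; exact hp)
        rcases eq_bot_or_eq_top (IntermediateField.adjoin F {x}) with h | h
        · exact absurd (IntermediateField.mem_bot.mp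
            (IntermediateField.adjoin_simple_eq_bot_iff.mp h)) hx
        · exact h

theorem core (p : ℕ) [Fact p.Prime] (K : Type u) [Field K] [CharP K p] [PerfectField K]
    (B : Type u) [CommRing B] [IsDedekindDomain B]
    [Algebra (PowerSeries K) B] [Module.Finite (PowerSeries K) B]
    [Module.IsTorsionFree (PowerSeries K) B]
    (F E : Type u) [Field F] [Field E] [Algebra (PowerSeries K) F]
    [IsFractionRing (PowerSeries K) F] [Algebra B E] [IsFractionRing B E] [Algebra F E]
    [Algebra (PowerSeries K) E] [IsScalarTower (PowerSeries K) F E]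
    [IsScalarTower (PowerSeries K) B E] [IsGalois F E]
    (hdeg : Module.finrank F E = p) (M : Ideal B) [M.IsMaximal]
    (hram : M.ramificationIdx (PowerSeries K) = p) :
    ∃ x : E, ∃ m : ℕ, ∃ a : PowerSeries K,
      IntermediateField.adjoin F {x} = ⊤ ∧ 0 < m ∧ ¬ p ∣ m ∧
      PowerSeries.constantCoeff a ≠ 0 ∧
      x ^ p - x + algebraMap F E (algebraMap (PowerSeries K) F a /
        algebraMap (PowerSeries K) F (PowerSeries.X ^ m)) = 0 := by
  have hAF : Function.Injective (algebraMap (PowerSeries K) F) := IsFractionRing.injective _ _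
  haveI : CharP (PowerSeries K) p :=
    charP_of_injective_ringHom (PowerSeries.C_injective (R := K)) p
  haveI : CharP F p := charP_of_injective_algebraMap hAF p
  obtain ⟨x0, hx0, β, hβ⟩ := Groth.Agent.H55.ASGen.exists_artinSchreier_gen p F E hdeg
  obtain ⟨n0, d0, hd0, hnd⟩ := IsFractionRing.div_surjective (A := PowerSeries K) (-β)
  have hd0' : d0 ≠ 0 := nonZeroDivisors.ne_zero hd0
  obtain ⟨N, u, hu⟩ := IsDiscreteValuationRing.eq_unit_mul_pow_irreducible hd0'
    (PowerSeries.X_irreducible (R := K))
  refine reduce p K B F E hdeg M hram N x0 (n0 * ↑u⁻¹) hx0 ?_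
  have hu1 : algebraMap (PowerSeries K) F ↑u * algebraMap (PowerSeries K) F ↑u⁻¹ = 1 := by
    rw [← map_mul, Units.mul_inv, map_one]
  have hu0 : algebraMap (PowerSeries K) F ↑u ≠ 0 := left_ne_zero_of_mul_eq_one hu1
  have hX0 : algebraMap (PowerSeries K) F (PowerSeries.X ^ N) ≠ 0 :=
    (map_ne_zero_iff _ hAF).mpr (pow_ne_zero N PowerSeries.X_ne_zero)
  have h1 : algebraMap (PowerSeries K) F (n0 * ↑u⁻¹) /
      algebraMap (PowerSeries K) F (PowerSeries.X ^ N) = -β := by
    rw [← hnd, hu, map_mul, map_mul, div_eq_div_iff hX0 (mul_ne_zero hu0 hX0)]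
    linear_combination (algebraMap (PowerSeries K) F n0 *
      algebraMap (PowerSeries K) F (PowerSeries.X ^ N)) * hu1
  rw [h1, map_neg, hβ]
  ring


/-- Second assertion: (Artin–Schreier normal form): let K be a perfect field of characteristic p > 0, A
= K[[t]] the power series ring with fraction field F, and B a Dedekind domain which is a finite
torsion-free A-algebra whose fraction field E is Galois of degree p over F and totally ramified:
some maximal ideal of B has ramification index p over A. Then there are x in E generating E over F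
and α in F with x^p − x + α = 0, where α = a / t^m for a power series a with nonzero constant term
and a positive integer m not divisible by p. -/
theorem result (p : ℕ) [Fact p.Prime] (K : Type u) [Field K]
    [CharP K p] [PerfectField K] (B : Type u) [CommRing B] [IsDedekindDomain B]
    [Algebra (PowerSeries K) B] [Module.Finite (PowerSeries K) B] [Module.IsTorsionFree (PowerSeries K) B]
    [IsGalois (FractionRing (PowerSeries K)) (FractionRing B)]
    (hdeg : Module.finrank (FractionRing (PowerSeries K)) (FractionRing B) = p)
    (M : Ideal B) [M.IsMaximal] (hram : M.ramificationIdx (PowerSeries K) = p) :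
    ∃ x : FractionRing B, ∃ m : ℕ, ∃ a : PowerSeries K,
      IntermediateField.adjoin (FractionRing (PowerSeries K)) {x} = ⊤ ∧ 0 < m ∧ ¬ p ∣ m ∧
      PowerSeries.constantCoeff a ≠ 0 ∧
      x ^ p - x + algebraMap (FractionRing (PowerSeries K)) (FractionRing B)
        (algebraMap (PowerSeries K) (FractionRing (PowerSeries K)) a /
          algebraMap (PowerSeries K) (FractionRing (PowerSeries K)) (PowerSeries.X ^ m)) = 0 := by
  exact core p K B (FractionRing (PowerSeries K)) (FractionRing B) hdeg M hram

end Groth.Agent.S11093
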