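import Groth.Statements.S11095
import Groth.Agent.H55.GeomField
open Groth.Agent.H55

set_option autoImplicit false
universe u
open CAlg

namespace Groth.Agent.S11095

/-- Let K₀ be a perfect field, K an algebraic extension of K₀ and F₀ a field extension of K₀ such that
K₀ is algebraically closed in F₀. Then the K₀-algebra F₀ ⊗ K is a field; consequently F₀ and K,
embedded in it by x ↦ x ⊗ 1 and y ↦ 1 ⊗ y, are linearly disjoint over K₀. -/
theorem result (K₀ F₀ K : Type u)
    [Field K₀] [PerfectField K₀] [Field F₀] [Algebra K₀ F₀] [Field K] [Algebra K₀ K]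
    [Algebra.IsAlgebraic K₀ K] (h : algebraicClosure K₀ F₀ = ⊥) :
    IsField (TensorProduct K₀ F₀ K) := by
  classical
  have hcl : ∀ y : F₀, IsIntegral K₀ y → y ∈ Set.range (algebraMap K₀ F₀) := by
    intro y hy
    have hmem : y ∈ algebraicClosure K₀ F₀ := mem_algebraicClosure_iff'.mpr hy
    rw [h] at hmem
    exact IntermediateField.mem_bot.mp hmem
  haveI : Nontrivial (TensorProduct K₀ F₀ K) :=
    Algebra.TensorProduct.nontrivial_of_algebraMap_injective_of_isDomain K₀ F₀ K
      (algebraMap K₀ F₀).injective (algebraMap K₀ K).injective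
  have hcomp : ∀ (L L' : IntermediateField K₀ K) (hLL : L ≤ L') (z' : TensorProduct K₀ F₀ L),
      Algebra.TensorProduct.map (AlgHom.id K₀ F₀) L'.val
        (Algebra.TensorProduct.map (AlgHom.id K₀ F₀) (IntermediateField.inclusion hLL) z') =
      Algebra.TensorProduct.map (AlgHom.id K₀ F₀) L.val z' := by
    intro L L' hLL z'
    induction z' using TensorProduct.induction_on with
    | zero => simp
    | tmul f y => simp
    | add a b ha hb => rw [map_add, map_add, map_add, ha, hb]
  have key : ∀ z : TensorProduct K₀ F₀ K, ∃ (L : IntermediateField K₀ K)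
      (_ : FiniteDimensional K₀ L) (z' : TensorProduct K₀ F₀ L),
      Algebra.TensorProduct.map (AlgHom.id K₀ F₀) L.val z' = z := by
    intro z
    induction z using TensorProduct.induction_on with
    | zero => exact ⟨⊥, inferInstance, 0, map_zero _⟩
    | tmul f y =>
      haveI : FiniteDimensional K₀ (IntermediateField.adjoin K₀ ({y} : Set K)) :=
        IntermediateField.adjoin.finiteDimensional (Algebra.IsIntegral.isIntegral y)
      exact ⟨IntermediateField.adjoin K₀ ({y} : Set K), inferInstance,
        f ⊗ₜ ⟨y, IntermediateField.mem_adjoin_simple_self K₀ y⟩, by simp⟩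
    | add z₁ z₂ h₁ h₂ =>
      obtain ⟨L₁, hL₁, z₁', hz₁⟩ := h₁
      obtain ⟨L₂, hL₂, z₂', hz₂⟩ := h₂
      haveI := hL₁
      haveI := hL₂
      refine ⟨L₁ ⊔ L₂, IntermediateField.finiteDimensional_sup L₁ L₂,
        Algebra.TensorProduct.map (AlgHom.id K₀ F₀) (IntermediateField.inclusion le_sup_left) z₁' +
        Algebra.TensorProduct.map (AlgHom.id K₀ F₀) (IntermediateField.inclusion le_sup_right) z₂',
        ?_⟩
      rw [map_add, hcomp, hcomp, hz₁, hz₂]
  refine ⟨exists_pair_ne _, mul_comm, ?_⟩
  intro z hz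
  obtain ⟨L, hL, z', rfl⟩ := key z
  haveI := hL
  haveI : Algebra.IsSeparable K₀ L := inferInstance
  obtain ⟨β, hβ⟩ := Field.exists_primitive_element K₀ L
  have hF : IsField (TensorProduct K₀ F₀ L) :=
    isField_tensor_of_simple hcl β (Algebra.IsIntegral.isIntegral β) hβ
  have hz' : z' ≠ 0 := by
    rintro rfl
    exact hz (map_zero _)
  obtain ⟨w', hw'⟩ := hF.mul_inv_cancel hz'
  exact ⟨Algebra.TensorProduct.map (AlgHom.id K₀ F₀) L.val w', by rw [← map_mul, hw', map_one]⟩

end Groth.Agent.S11095
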