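import Groth.Statements.S11096

set_option autoImplicit false
universe u
open Neron

namespace Groth.Agent.S11096

/-- Let a Weierstrass equation have coefficients in a commutative ring R and let I be an ideal with a₃,
a₄, a₆ ∈ I. If the discriminant Δ does not lie in I ^ 2, then a₆ does not lie in I ^ 2 and b₂ does
not lie in I. (For a discrete valuation ring with maximal ideal (π): if π divides a₃, a₄, a₆ and
v(Δ) = 1, then v(a₆) = 1 and π does not divide b₂.) -/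
theorem result {R : Type u} [CommRing R] (W : WeierstrassCurve R)
    (I : Ideal R) (h3 : W.a₃ ∈ I) (h4 : W.a₄ ∈ I) (h6 : W.a₆ ∈ I) (hΔ : W.Δ ∉ I ^ 2) :
    W.a₆ ∉ I ^ 2 ∧ W.b₂ ∉ I := by
  have hb4 : W.b₄ ∈ I := by
    simp only [WeierstrassCurve.b₄]
    exact I.add_mem (I.mul_mem_left _ h4) (I.mul_mem_left _ h3)
  have hb6 : W.b₆ ∈ I := by
    simp only [WeierstrassCurve.b₆]
    exact I.add_mem (I.pow_mem_of_mem h3 2 (by norm_num)) (I.mul_mem_left _ h6)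
  have hmm : ∀ {x y : R}, x ∈ I → y ∈ I → x * y ∈ I ^ 2 := by
    intro x y hx hy
    rw [pow_two]
    exact Ideal.mul_mem_mul hx hy
  -- the part of Δ other than `-b₂² b₈` lies in `I²`
  have hrest : - 8 * W.b₄ ^ 3 - 27 * W.b₆ ^ 2 + 9 * W.b₂ * W.b₄ * W.b₆ ∈ I ^ 2 := by
    have e : - 8 * W.b₄ ^ 3 - 27 * W.b₆ ^ 2 + 9 * W.b₂ * W.b₄ * W.b₆ =
        (-8 * W.b₄) * (W.b₄ * W.b₄) + (-27) * (W.b₆ * W.b₆) + (9 * W.b₂) * (W.b₄ * W.b₆) := by ring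
    rw [e]
    exact (I ^ 2).add_mem ((I ^ 2).add_mem ((I ^ 2).mul_mem_left _ (hmm hb4 hb4))
      ((I ^ 2).mul_mem_left _ (hmm hb6 hb6))) ((I ^ 2).mul_mem_left _ (hmm hb4 hb6))
  have hΔ' : W.Δ = -W.b₂ ^ 2 * W.b₈ + (- 8 * W.b₄ ^ 3 - 27 * W.b₆ ^ 2 + 9 * W.b₂ * W.b₄ * W.b₆) := by
    simp only [WeierstrassCurve.Δ]; ring
  have hb8 : W.b₈ ∈ I := by
    simp only [WeierstrassCurve.b₈]
    refine I.sub_mem (I.add_mem (I.sub_mem (I.add_mem (I.mul_mem_left _ h6) (I.mul_mem_left _ h6))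
      (I.mul_mem_left _ h4)) (I.mul_mem_left _ (I.pow_mem_of_mem h3 2 (by norm_num))))
      (I.pow_mem_of_mem h4 2 (by norm_num))
  refine ⟨fun h6' => hΔ ?_, fun hb2 => hΔ ?_⟩
  · rw [hΔ']
    refine (I ^ 2).add_mem ((I ^ 2).mul_mem_left _ ?_) hrest
    have e : W.b₈ = (W.a₁ ^ 2 + 4 * W.a₂) * W.a₆ + (- W.a₁) * (W.a₃ * W.a₄) + W.a₂ * (W.a₃ * W.a₃)
        + (-1) * (W.a₄ * W.a₄) := by
      simp only [WeierstrassCurve.b₈]; ring
    rw [e]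
    exact (I ^ 2).add_mem ((I ^ 2).add_mem ((I ^ 2).add_mem ((I ^ 2).mul_mem_left _ h6')
      ((I ^ 2).mul_mem_left _ (hmm h3 h4))) ((I ^ 2).mul_mem_left _ (hmm h3 h3)))
      ((I ^ 2).mul_mem_left _ (hmm h4 h4))
  · rw [hΔ']
    refine (I ^ 2).add_mem ?_ hrest
    have e : -W.b₂ ^ 2 * W.b₈ = (-W.b₂) * (W.b₂ * W.b₈) := by ring
    rw [e]
    exact (I ^ 2).mul_mem_left _ (hmm hb2 hb8)

end Groth.Agent.S11096
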