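import Groth.Statements.S11098

set_option autoImplicit false
open CategoryTheory CategoryTheory.Limits AlgebraicGeometry
universe u
open Neron

namespace Groth.Agent.S11098

/-- Take a Dedekind domain R, write K for its fraction field, and suppose N₁, N₂ are Néron models over
Spec R of the same K-scheme A, through identifications e₁, e₂ of their generic fibres with A. Then
there is a unique R-morphism N₁ → N₂ whose restriction to generic fibres is compatible with e₁ and
e₂, and any such morphism is an isomorphism: the Néron model is unique up to unique isomorphism.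
(The published statement concerns Néron models of an elliptic curve, with the mapping property asked
for rational maps; this row allows any K-scheme A and uses the mapping property for morphisms from
smooth R-schemes.) -/
theorem result (R : Type u) [CommRing R] [IsDedekindDomain R]
    (A : Over (Spec (CommRingCat.of (FractionRing R))))
    (N₁ N₂ : Over (Spec (CommRingCat.of R)))
    (e₁ : (Neron.genericFibre R).obj N₁ ≅ A) (e₂ : (Neron.genericFibre R).obj N₂ ≅ A)
    (h₁ : Neron.IsNeronModelOf R N₁ A e₁) (h₂ : Neron.IsNeronModelOf R N₂ A e₂) :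
    (∃! ψ : N₁ ⟶ N₂, (Neron.genericFibre R).map ψ ≫ e₂.hom = e₁.hom) ∧
      ∀ ψ : N₁ ⟶ N₂, (Neron.genericFibre R).map ψ ≫ e₂.hom = e₁.hom → IsIso ψ := by
  obtain ⟨s₁, -, -, -, m₁⟩ := h₁
  obtain ⟨s₂, -, -, -, m₂⟩ := h₂
  refine ⟨(m₂ N₁ s₁).existsUnique e₁.hom, ?_⟩
  intro ψ hψ
  obtain ⟨φ, hφ⟩ := (m₁ N₂ s₂).surjective e₂.hom
  have hφ' : (Neron.genericFibre R).map φ ≫ e₁.hom = e₂.hom := hφ
  refine ⟨φ, ?_, ?_⟩
  · apply (m₁ N₁ s₁).injective
    change (Neron.genericFibre R).map (ψ ≫ φ) ≫ e₁.hom = (Neron.genericFibre R).map (𝟙 N₁) ≫ e₁.hom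
    rw [CategoryTheory.Functor.map_comp, Category.assoc, hφ', hψ, CategoryTheory.Functor.map_id, Category.id_comp]
  · apply (m₂ N₂ s₂).injective
    change (Neron.genericFibre R).map (φ ≫ ψ) ≫ e₂.hom = (Neron.genericFibre R).map (𝟙 N₂) ≫ e₂.hom
    rw [CategoryTheory.Functor.map_comp, Category.assoc, hψ, hφ', CategoryTheory.Functor.map_id, Category.id_comp]

end Groth.Agent.S11098
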