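import Groth.Statements.S11100
import Mathlib
import Groth.Agent.H79.SecSmooth

set_option autoImplicit false
universe u
open CategoryTheory AlgebraicGeometry
open Neron

namespace Groth.Agent.S11100


open AlgebraicGeometry CategoryTheory

theorem isIso_stalkMap_of_isOpenImmersion {Y Z : Scheme.{u}} (f : Y ⟶ Z) [IsOpenImmersion f] (y : Y) :
    IsIso (f.stalkMap y) := inferInstance

theorem isPrincipalIdealRing_of_local_dedekind (D : Type*) [CommRing D] [IsDedekindDomain D]
    [IsLocalRing D] : IsPrincipalIdealRing D := by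
  by_cases h : IsField D
  · exact h.isPrincipalIdealRing
  · have h02 := (IsDiscreteValuationRing.TFAE D h).out 0 2
    haveI : IsDiscreteValuationRing D := h02.mpr inferInstance
    infer_instance

/-- Let R be a Dedekind domain and p : X → Spec R flat and locally of finite presentation with X regular
(all local rings regular). Then every section s of p factors through the smooth locus of p: for
every point t of Spec R, p is smooth at s(t). (The published statement is for regular arithmetic
surfaces over a Dedekind domain with perfect residue fields; this row assumes only that X is flat,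
locally of finite presentation and regular.) -/
theorem result {R : Type u} [CommRing R] [IsDedekindDomain R]
    {X : Scheme.{u}} (p : X ⟶ Spec (CommRingCat.of R)) [Flat p] [LocallyOfFinitePresentation p]
    (hreg : ∀ x : X, IsRegularLocalRing (X.presheaf.stalk x))
    (s : Spec (CommRingCat.of R) ⟶ X) (hs : s ≫ p = 𝟙 _) (t : Spec (CommRingCat.of R)) :
    s.base t ∈ p.smoothLocus := by
  rw [Scheme.Hom.mem_smoothLocus]
  let U : (Spec (CommRingCat.of R)).Opens := ⊤
  have hU : IsAffineOpen U := isAffineOpen_top _
  obtain ⟨_, ⟨V, hV, rfl⟩, hxV, -⟩ :=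
    X.isBasis_affineOpens.exists_subset_of_mem_open (Set.mem_univ (s.base t)) isOpen_univ
  have hVU : V ≤ p ⁻¹ᵁ U := fun _ _ => trivial
  have hfp := p.finitePresentation_appLE hU hV hVU
  have hfl : (p.appLE U V hVU).hom.Flat :=
    HasRingHomProperty.appLE (P := @Flat) p inferInstance ⟨U, hU⟩ ⟨V, hV⟩ hVU
  letI : Algebra Γ(Spec (CommRingCat.of R), U) Γ(X, V) := (p.appLE U V hVU).hom.toAlgebra
  haveI : Algebra.FinitePresentation Γ(Spec (CommRingCat.of R), U) Γ(X, V) := hfp
  haveI : Module.Flat Γ(Spec (CommRingCat.of R), U) Γ(X, V) := hfl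
  let pp := (hU.primeIdealOf ⟨p (s.base t), hVU hxV⟩).asIdeal
  let q := (hV.primeIdealOf ⟨s.base t, hxV⟩).asIdeal
  have hlies : q.LiesOver pp :=
    ⟨congr($(IsAffineOpen.comap_primeIdealOf_appLE U hU V hV hVU hxV).1).symm⟩
  let := Localization.AtPrime.algebraOfLiesOver pp q
  let eArr := IsAffineOpen.arrowStalkMapIso p U hU V hV hVU hxV
  let eL : (Spec (CommRingCat.of R)).presheaf.stalk (p (s.base t)) ≅
      CommRingCat.of (Localization.AtPrime pp) := Arrow.leftFunc.mapIso eArr
  let eR : X.presheaf.stalk (s.base t) ≅ CommRingCat.of (Localization.AtPrime q) :=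
    Arrow.rightFunc.mapIso eArr
  -- base ring
  let e0 : R ≃+* Γ(Spec (CommRingCat.of R), U) :=
    (Scheme.ΓSpecIso (CommRingCat.of R)).symm.commRingCatIsoToRingEquiv
  let eA : Localization.AtPrime (pp.comap (e0 : R →+* Γ(Spec (CommRingCat.of R), U))) ≃+*
      Localization.AtPrime pp := Localization.localRingEquiv _ pp e0 rfl
  haveI := isPrincipalIdealRing_of_local_dedekind
    (Localization.AtPrime (pp.comap (e0 : R →+* Γ(Spec (CommRingCat.of R), U))))
  haveI : IsPrincipalIdealRing (Localization.AtPrime pp) :=
    IsPrincipalIdealRing.of_surjective eA.toRingHom eA.surjective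
  haveI : IsDomain (Localization.AtPrime pp) := eA.symm.toMulEquiv.isDomain _
  -- regular
  haveI := hreg (s.base t)
  haveI : IsRegularLocalRing (Localization.AtPrime q) :=
    IsRegularLocalRing.of_ringEquiv eR.commRingCatIsoToRingEquiv
  have hflat : Module.Flat Γ(Spec (CommRingCat.of R), U) (Localization.AtPrime q) :=
    Module.Flat.trans _ Γ(X, V) _
  -- the retraction
  have hw : eL.hom ≫ CommRingCat.ofHom (algebraMap (Localization.AtPrime pp)
      (Localization.AtPrime q)) = p.stalkMap (s.base t) ≫ eR.hom := eArr.hom.w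
  have htx : p (s.base t) = t := by
    have := congrArg (fun f : Spec (CommRingCat.of R) ⟶ Spec (CommRingCat.of R) => f.base t) hs
    simpa using this
  let iso2 : (Spec (CommRingCat.of R)).presheaf.stalk t ⟶
      (Spec (CommRingCat.of R)).presheaf.stalk (p (s.base t)) := eqToHom (by rw [htx])
  let ρc : CommRingCat.of (Localization.AtPrime q) ⟶ CommRingCat.of (Localization.AtPrime pp) :=
    eR.inv ≫ s.stalkMap t ≫ iso2 ≫ eL.hom
  have hcomp : p.stalkMap (s.base t) ≫ s.stalkMap t = (s ≫ p).stalkMap t :=
    (Scheme.Hom.stalkMap_comp s p t).symm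
  haveI : IsOpenImmersion (s ≫ p) := by rw [hs]; infer_instance
  haveI : IsIso (p.stalkMap (s.base t) ≫ s.stalkMap t) := by
    rw [hcomp]
    exact isIso_stalkMap_of_isOpenImmersion (s ≫ p) t
  have h1 : CommRingCat.ofHom (algebraMap (Localization.AtPrime pp) (Localization.AtPrime q)) ≫
      eR.inv = eL.inv ≫ p.stalkMap (s.base t) := by
    rw [Iso.comp_inv_eq, Category.assoc, ← hw, Iso.inv_hom_id_assoc]
  have heq : CommRingCat.ofHom (algebraMap (Localization.AtPrime pp) (Localization.AtPrime q)) ≫
      ρc = eL.inv ≫ (p.stalkMap (s.base t) ≫ s.stalkMap t) ≫ iso2 ≫ eL.hom := by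
    simp only [ρc]
    rw [← Category.assoc, h1]
    simp only [Category.assoc]
  haveI : IsIso (CommRingCat.ofHom (algebraMap (Localization.AtPrime pp)
      (Localization.AtPrime q)) ≫ ρc) := by rw [heq]; infer_instance
  have hρ : Function.Bijective (ρc.hom.comp (Localization.localRingHom pp q
      (algebraMap Γ(Spec (CommRingCat.of R), U) Γ(X, V)) Ideal.LiesOver.over)) :=
    (ConcreteCategory.isIso_iff_bijective (CommRingCat.ofHom (algebraMap (Localization.AtPrime pp)
      (Localization.AtPrime q)) ≫ ρc)).mp inferInstance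
  have key := Groth.Agent.H79.SecSmooth.formallySmooth_localization_of_retraction pp q hflat
    ρc.hom hρ
  refine (RingHom.FormallySmooth.respectsIso.arrow_mk_iso_iff eArr).mpr ?_
  show (algebraMap (Localization.AtPrime pp) (Localization.AtPrime q)).FormallySmooth
  rw [RingHom.formallySmooth_algebraMap]
  exact key


end Groth.Agent.S11100
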