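import Groth.Statements.S11103
import Groth.Agent.H40.NeronFinEt

set_option autoImplicit false
universe u
open CategoryTheory CategoryTheory.Limits AlgebraicGeometry
open Neron

namespace Groth.Agent.S11103

/-- Let R be a Dedekind domain with fraction field K, let R' be a Dedekind domain finite étale over R
(the integral closure of R in a finite unramified extension K' of K), and let N be a Néron model
over Spec R of its generic fibre N_K. Then the base change N' = N ×_R R' is a Néron model over Spec
R' of its generic fibre N'_{K'}: it is smooth, separated and of finite type over Spec R', and every
K'-morphism from the generic fibre of a smooth R'-scheme to N'_{K'} extends uniquely to an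
R'-morphism into N'. (The published statement concerns the Néron model of an elliptic curve with the
mapping property for rational maps; this row allows any N and tests the mapping property on
morphisms from smooth schemes. The property generally fails for ramified extensions.) -/
theorem result (R R' : Type u) [CommRing R] [IsDedekindDomain R]
    [CommRing R'] [IsDedekindDomain R'] [Algebra R R'] [Module.Finite R R'] [Algebra.Etale R R']
    (N : Over (Spec (CommRingCat.of R)))
    (hN : Neron.IsNeronModelOf R N ((Neron.genericFibre R).obj N) (Iso.refl _)) :
    Neron.IsNeronModelOf R'
      ((Over.pullback (Spec.map (CommRingCat.ofHom (algebraMap R R')))).obj N)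
      ((Neron.genericFibre R').obj ((Over.pullback (Spec.map (CommRingCat.ofHom (algebraMap R R')))).obj N))
      (Iso.refl _) := by
  open Groth.Agent.H40.NeronFinEt in
  obtain ⟨hsm, hsep, hlft, hqc, hnmp⟩ := hN
  have hflat : Module.Flat R R' := inferInstance
  have hint : Algebra.IsIntegral R R' := inferInstance
  obtain ⟨γ, hsq⟩ := exists_isPullback_genPt R R'
  have hget : Etale (Spec.map (CommRingCat.ofHom (algebraMap R R'))) := by
    rw [HasRingHomProperty.Spec_iff (P := @Etale)]
    exact RingHom.etale_algebraMap.mpr inferInstance
  have hgsm : Smooth (Spec.map (CommRingCat.ofHom (algebraMap R R'))) := inferInstance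
  refine ⟨?_, ?_, ?_, ?_, ?_⟩
  · change Smooth (pullback.snd N.hom _)
    infer_instance
  · change IsSeparated (pullback.snd N.hom _)
    infer_instance
  · change LocallyOfFiniteType (pullback.snd N.hom _)
    infer_instance
  · change QuasiCompact (pullback.snd N.hom _)
    infer_instance
  · intro Y' hY'
    have hN' : ∀ Y : Over (Spec (CommRingCat.of R)), Smooth Y.hom →
        Function.Bijective (fun u : Y ⟶ N => (Over.pullback (Neron.genPt R)).map u) := by
      intro Y hY
      have := hnmp Y hY
      simpa only [Iso.refl_hom, Category.comp_id] using this
    have := nmp_baseChange _ (Neron.genPt R) (Neron.genPt R') γ hsq N hN' Y'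
    simpa only [Iso.refl_hom, Category.comp_id] using this
end Groth.Agent.S11103
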