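import Groth.Statements.S11106
import Mathlib
import Groth.Agent.H78.DecompHensel
set_option synthInstance.maxHeartbeats 400000

set_option autoImplicit false
set_option maxHeartbeats 400000
universe u
open Hensel

namespace Groth.Agent.S11106

/-- Let R be a discrete valuation ring with fraction field K, K^s a separable closure of K, R^s the
integral closure of R in K^s and P^s a maximal ideal of R^s. Let I be the inertia group of P^s — the
automorphisms σ of K^s over K with σ(x) − x ∈ P^s for every x ∈ R^s — and L its fixed field. Then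
the integral closure of R in L, localized at the prime Q = P^s ∩ L, is a Henselian local ring (this
ring is the strict Henselization of R; the statement that its residue field is an algebraic closure
of that of R is not included). -/
theorem result (R K Ks : Type u) [CommRing R] [IsDomain R]
    [IsDiscreteValuationRing R] [Field K] [Algebra R K] [IsFractionRing R K]
    [Field Ks] [Algebra K Ks] [IsSepClosure K Ks] [Algebra R Ks] [IsScalarTower R K Ks]
    (Ps : Ideal (integralClosure R Ks)) [Ps.IsMaximal]
    (L : IntermediateField K Ks)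
    (hL : L = IntermediateField.fixedField
      (Subgroup.closure {σ : Ks ≃ₐ[K] Ks | ∀ x : integralClosure R Ks,
        ∃ h : σ (x : Ks) ∈ integralClosure R Ks, (⟨σ (x : Ks), h⟩ : integralClosure R Ks) - x ∈ Ps}))
    (Q : Ideal (integralClosure R L)) [Q.IsPrime]
    (hQ : ∀ y : integralClosure R L, y ∈ Q ↔
      ∃ x : integralClosure R Ks, x ∈ Ps ∧ (x : Ks) = ((y : L) : Ks)) :
    HenselianLocalRing (Localization.AtPrime Q) := by
  classical
  have hmemL : ∀ a : Ks, a ∈ L ↔ ∀ f ∈ Subgroup.closure {σ : Ks ≃ₐ[K] Ks |
      ∀ x : integralClosure R Ks,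
        ∃ h : σ (x : Ks) ∈ integralClosure R Ks, (⟨σ (x : Ks), h⟩ : integralClosure R Ks) - x ∈ Ps},
      f a = a := by
    intro a
    rw [hL]
    exact IntermediateField.mem_fixedField_iff _ _
  haveI : IsSepClosed Ks := IsSepClosure.sep_closed K
  haveI hsep : Algebra.IsSeparable K Ks := IsSepClosure.separable
  haveI hPsp : Ps.IsPrime := Ideal.IsMaximal.isPrime inferInstance
  haveI hKalg : Algebra.IsAlgebraic K Ks := inferInstance
  haveI hLalg : Algebra.IsAlgebraic K L :=
    Algebra.IsAlgebraic.of_injective L.val Subtype.val_injective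
  haveI hRLalg : Algebra.IsAlgebraic R L := IsFractionRing.comap_isAlgebraic_iff.mpr hLalg
  have hinjRL : Function.Injective (algebraMap R L) := by
    rw [IsScalarTower.algebraMap_eq R K L]
    exact (algebraMap K L).injective.comp (IsFractionRing.injective R K)
  haveI hfracC : IsFractionRing (integralClosure R L) L :=
    integralClosure.isFractionRing_of_algebraic (fun x hx => hinjRL (by rw [hx, map_zero]))
  haveI hCic : IsIntegrallyClosed (integralClosure R L) :=
    (isIntegrallyClosed_iff_isIntegrallyClosedIn L).mpr inferInstance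
  have hunits : ∀ y : Q.primeCompl, IsUnit (algebraMap (integralClosure R L) L y) := by
    intro y
    apply IsUnit.mk0
    intro h0
    have h1 : (y : integralClosure R L) = 0 :=
      (IsFractionRing.injective (integralClosure R L) L) (by rw [h0, map_zero])
    exact y.2 (h1 ▸ Q.zero_mem)
  have hM : Q.primeCompl ≤ nonZeroDivisors (integralClosure R L) := by
    intro y hy
    rw [mem_nonZeroDivisors_iff_ne_zero]
    rintro rfl
    exact hy Q.zero_mem
  letI algOL : Algebra (Localization.AtPrime Q) L :=
    (IsLocalization.lift (S := Localization.AtPrime Q) hunits).toAlgebra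
  haveI : IsScalarTower (integralClosure R L) (Localization.AtPrime Q) L :=
    IsScalarTower.of_algebraMap_eq (fun c => (IsLocalization.lift_eq hunits c).symm)
  haveI : IsDomain (Localization.AtPrime Q) :=
    IsLocalization.isDomain_of_le_nonZeroDivisors _ hM
  haveI : IsFractionRing (Localization.AtPrime Q) L :=
    IsFractionRing.isFractionRing_of_isDomain_of_isLocalization Q.primeCompl
      (Localization.AtPrime Q) L
  haveI : IsIntegrallyClosed (Localization.AtPrime Q) :=
    isIntegrallyClosed_of_isLocalization (Localization.AtPrime Q) Q.primeCompl hM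
  letI algOK : Algebra (Localization.AtPrime Q) Ks :=
    ((algebraMap L Ks).comp (algebraMap (Localization.AtPrime Q) L)).toAlgebra
  haveI : IsScalarTower (Localization.AtPrime Q) L Ks :=
    IsScalarTower.of_algebraMap_eq (fun _ => rfl)
  haveI : IsScalarTower R L Ks := IsScalarTower.of_algebraMap_eq (fun _ => rfl)
  let G : Set (Ks ≃ₐ[K] Ks) := {σ : Ks ≃ₐ[K] Ks | ∀ x : integralClosure R Ks,
        ∃ h : σ (x : Ks) ∈ integralClosure R Ks, (⟨σ (x : Ks), h⟩ : integralClosure R Ks) - x ∈ Ps}
  refine Groth.Agent.H78.DecompHensel.henselian (R := R) (L := L) (Ks := Ks) Ps Q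
    (Localization.AtPrime Q) hQ
    {σ' : Ks →+* Ks | ∃ σ ∈ G, σ' = ((σ : Ks ≃ₐ[K] Ks) : Ks →+* Ks)} ?_ ?_ ?_
  · rintro σ' ⟨σ, hσ, rfl⟩ x hx
    obtain ⟨h, hx'⟩ := hσ x
    refine ⟨h, ?_⟩
    have := Ps.add_mem hx' hx
    rwa [sub_add_cancel] at this
  · rintro σ' ⟨σ, hσ, rfl⟩ l
    exact (hmemL l).mp l.2 σ (Subgroup.subset_closure hσ)
  · intro α hα
    have hαL : α ∈ L := by
      rw [hmemL]
      intro f hf
      induction hf using Subgroup.closure_induction with
      | mem σ hσ => exact hα _ ⟨σ, hσ, rfl⟩
      | one => rfl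
      | mul f g _ _ hf hg =>
        rw [AlgEquiv.mul_apply, hg, hf]
      | inv f _ hf =>
        have : f⁻¹ (f α) = α := f.symm_apply_apply α
        rw [hf] at this
        exact this
    exact ⟨⟨α, hαL⟩, rfl⟩

end Groth.Agent.S11106
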