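import Groth.Statements.S11107
import Mathlib
import Groth.Agent.H54.CodimOne
import Groth.Agent.H25.SmoothStalk

set_option autoImplicit false
universe u
open CategoryTheory AlgebraicGeometry
open Neron

namespace Groth.Agent.S11107


section Helpers
open AlgebraicGeometry CategoryTheory CategoryTheory.Limits TopologicalSpace Topology

lemma regular_stalk_spec (R : Type u) [CommRing R] [IsDedekindDomain R]
    (y : Spec (CommRingCat.of R)) :
    IsRegularLocalRing ((Spec (CommRingCat.of R)).presheaf.stalk y) := by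
  haveI hdom : IsDomain ((Spec (CommRingCat.of R)).presheaf.stalk y) := inferInstance
  letI : Algebra R ((Spec (CommRingCat.of R)).presheaf.stalk y) := StructureSheaf.stalkAlgebra R y
  haveI : IsLocalization.AtPrime ((Spec (CommRingCat.of R)).presheaf.stalk y) (PrimeSpectrum.asIdeal y) :=
    StructureSheaf.IsLocalization.to_stalk R y
  haveI hded : IsDedekindDomain ((Spec (CommRingCat.of R)).presheaf.stalk y) :=
    IsLocalization.isDedekindDomain (A := R) (M := (PrimeSpectrum.asIdeal y).primeCompl)
      (Ideal.primeCompl_le_nonZeroDivisors _) ((Spec (CommRingCat.of R)).presheaf.stalk y)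
  have h20 : IsDedekindDomain ((Spec (CommRingCat.of R)).presheaf.stalk y) ↔
      IsPrincipalIdealRing ((Spec (CommRingCat.of R)).presheaf.stalk y) :=
    (tfae_of_isNoetherianRing_of_isLocalRing_of_isDomain
      ((Spec (CommRingCat.of R)).presheaf.stalk y)).out 2 0
  haveI := h20.mp hded
  infer_instance

lemma le_one_of_not_two_le (d : WithBot ℕ∞) (h : ¬ (2 : WithBot ℕ∞) ≤ d) : d ≤ 1 := by
  induction d using WithBot.recBotCoe with
  | bot => exact bot_le
  | coe n =>
    induction n using ENat.recTopCoe with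
    | top => exact absurd le_top h
    | coe m =>
      have h' : ¬ 2 ≤ m := fun h2 => h (by
        show ((2 : ℕ∞) : WithBot ℕ∞) ≤ ((m : ℕ∞) : WithBot ℕ∞)
        exact WithBot.coe_le_coe.mpr (by exact_mod_cast h2))
      have h3 : m ≤ 1 := by omega
      show ((m : ℕ∞) : WithBot ℕ∞) ≤ ((1 : ℕ∞) : WithBot ℕ∞)
      exact WithBot.coe_le_coe.mpr (by exact_mod_cast h3)

theorem main {R : Type u} [CommRing R] [IsDedekindDomain R]
    {X Y : Scheme.{u}} (pX : X ⟶ Spec (CommRingCat.of R)) (pY : Y ⟶ Spec (CommRingCat.of R))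
    [Smooth pX] [IsProper pY] (U : X.Opens) (hU : Dense (U : Set X))
    (f : (U : Scheme.{u}) ⟶ Y) (hf : f ≫ pY = U.ι ≫ pX) :
    ∃ (V : X.Opens) (hUV : U ≤ V) (g : (V : Scheme.{u}) ⟶ Y),
      g ≫ pY = V.ι ≫ pX ∧ X.homOfLE hUV ≫ g = f ∧
      ∀ x : X, x ∉ V → (2 : WithBot ℕ∞) ≤ ringKrullDim (X.presheaf.stalk x) := by
  haveI : IsNoetherianRing ↑(CommRingCat.of R) := (inferInstance : IsNoetherianRing R)
  haveI : IsLocallyNoetherian (Spec (CommRingCat.of R)) := inferInstance
  haveI : IsLocallyNoetherian X := LocallyOfFiniteType.isLocallyNoetherian pX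
  have hregall : ∀ x : X, IsRegularLocalRing (X.presheaf.stalk x) := fun x =>
    (Groth.Agent.H25.SmoothStalk.regular_iff_of_smooth_nhd pX x ⟨⊤, trivial, inferInstance⟩).mpr
      (regular_stalk_spec R (pX x))
  haveI : IsReduced X := by
    haveI : ∀ x : X, _root_.IsReduced (X.presheaf.stalk x) := fun x => by
      have hx : x ∈ pX.smoothLocus :=
        Groth.Agent.H25.SmoothStalk.mem_smoothLocus_of_smooth_nhd pX x ⟨⊤, trivial, inferInstance⟩
      exact ((Groth.Agent.H25.SmoothStalk.reduced_normal_iff_of_smoothAt pX x hx).1).mpr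
        inferInstance
    exact isReduced_of_isReduced_stalk X
  obtain ⟨V, hUV, g, hg1, hg2, hg3⟩ :=
    Groth.Agent.H54.exists_extension_codim_one pY pX (fun x _ => hregall x) U hU f hf
  refine ⟨V, hUV, g, hg1, hg2, ?_⟩
  intro x hx
  by_contra hlt
  exact hx (hg3 x (le_one_of_not_two_le _ hlt))

end Helpers


/-- Let R be a Dedekind domain, X → Spec R a smooth morphism, Y → Spec R a proper morphism, U ⊆ X a
dense open subscheme and f : U → Y a morphism over Spec R (a rational map X ⇢ Y over R). Then f
extends, over Spec R, to an open subscheme V ⊇ U of X such that every point of X outside V has a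
local ring of Krull dimension at least 2: the locus where the rational map is undefined has
codimension at least two. (The published statement assumes the rational map dominant; this row does
not.) -/
theorem result {R : Type u} [CommRing R] [IsDedekindDomain R]
    {X Y : Scheme.{u}} (pX : X ⟶ Spec (CommRingCat.of R)) (pY : Y ⟶ Spec (CommRingCat.of R))
    [Smooth pX] [IsProper pY] (U : X.Opens) (hU : Dense (U : Set X))
    (f : (U : Scheme.{u}) ⟶ Y) (hf : f ≫ pY = U.ι ≫ pX) :
    ∃ (V : X.Opens) (hUV : U ≤ V) (g : (V : Scheme.{u}) ⟶ Y),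
      g ≫ pY = V.ι ≫ pX ∧ X.homOfLE hUV ≫ g = f ∧
      ∀ x : X, x ∉ V → (2 : WithBot ℕ∞) ≤ ringKrullDim (X.presheaf.stalk x) := by
  exact main pX pY U hU f hf
end Groth.Agent.S11107
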