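import Groth.Statements.S18416
-- import your own Groth.Agent.* helpers here
import Groth.Agent.H44.SmoothSection

set_option autoImplicit false
universe u v w
open CAlg

namespace Groth.Agent.S18416

/-- Let R → C and C → B be smooth ring homomorphisms, J an ideal of B and K the preimage of J in C, and
suppose that C surjects onto A = B/J (so that C/K = B/J = A). Then for every prime x of A there
exist f ∈ B whose image in A does not lie in x and an ideal J₀ of B_f contained in J B_f such that
the composite C → B_f → B_f/J₀ is étale. -/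
theorem result (R : Type u) (C : Type v) (B : Type w)
    [CommRing R] [CommRing C] [CommRing B] [Algebra R C] [Algebra C B] [Algebra R B] [IsScalarTower R C B]
    [Algebra.Smooth R C] [Algebra.Smooth C B] (J : Ideal B)
    (hsurj : Function.Surjective ((Ideal.Quotient.mk J).comp (algebraMap C B)))
    (x : PrimeSpectrum (B ⧸ J)) :
    ∃ f : B, Ideal.Quotient.mk J f ∉ x.asIdeal ∧
      ∃ J₀ : Ideal (Localization.Away f), J₀ ≤ J.map (algebraMap B (Localization.Away f)) ∧
        ((Ideal.Quotient.mk J₀).comp ((algebraMap B (Localization.Away f)).comp (algebraMap C B))).Etale := by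
  classical
  set q : Ideal B := x.asIdeal.comap (Ideal.Quotient.mk J) with hq
  haveI : q.IsPrime := Ideal.comap_isPrime _ _
  obtain ⟨f₁, hf₁q, hstd⟩ := Algebra.IsSmoothAt.exists_notMem_isStandardSmooth C q
  obtain ⟨e, he⟩ := hsurj (Ideal.Quotient.mk J f₁)
  have he' : Ideal.Quotient.mk J (algebraMap C B e) = Ideal.Quotient.mk J f₁ := he
  have hf₁x : Ideal.Quotient.mk J f₁ ∉ x.asIdeal := hf₁q
  refine ⟨f₁ * algebraMap C B e, ?_, ?_⟩
  · rw [map_mul, he']
    exact fun h => (x.isPrime.mem_or_mem h).elim hf₁x hf₁x
  · haveI := hstd
    obtain ⟨J₀', hle, hEt⟩ := Groth.Agent.H44.SmoothSection.main_aux J hsurj f₁ e he'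
    exact Groth.Agent.H44.SmoothSection.transport
      (IsLocalization.algEquiv (Submonoid.powers (f₁ * algebraMap C B e))
        (Localization.Away (algebraMap B (Localization.Away f₁) (algebraMap C B e)))
        (Localization.Away (f₁ * algebraMap C B e))) J J₀' hle hEt

end Groth.Agent.S18416
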