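import Groth.Statements.S14069
import Mathlib
import Groth.Agent.S18416

set_option autoImplicit false
universe u
open CategoryTheory AlgebraicGeometry
open FamCyc

namespace Groth.Agent.S14069

theorem ring_core {C₁ B₁ A₁ : Type u} [CommRing C₁] [CommRing B₁] [CommRing A₁]
    (φ : C₁ →+* B₁) (hφ : φ.Smooth) (ψ : B₁ →+* A₁)
    (hκ : Function.Surjective (ψ.comp φ)) (𝔭 : PrimeSpectrum A₁) :
    ∃ (C' : Type u) (_ : CommRing C') (γ : B₁ →+* C') (f : B₁)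
      (ρ' : C' →+* Localization.Away (ψ f)),
      ψ f ∉ 𝔭.asIdeal ∧ (γ.comp φ).Etale ∧ Function.Surjective ρ' ∧
      ρ'.comp γ = (algebraMap A₁ (Localization.Away (ψ f))).comp ψ := by
  classical
  letI : Algebra C₁ B₁ := φ.toAlgebra
  haveI : Algebra.Smooth C₁ B₁ := hφ
  haveI : Algebra.Smooth C₁ C₁ := ⟨inferInstance, inferInstance⟩
  set J : Ideal B₁ := RingHom.ker ψ with hJ
  have hψ : Function.Surjective ψ := fun a => by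
    obtain ⟨c, hc⟩ := hκ a; exact ⟨φ c, hc⟩
  have hsurj : Function.Surjective ((Ideal.Quotient.mk J).comp (algebraMap C₁ B₁)) := by
    intro y
    obtain ⟨b, rfl⟩ := Ideal.Quotient.mk_surjective y
    obtain ⟨c, hc⟩ := hκ (ψ b)
    refine ⟨c, ?_⟩
    rw [RingHom.comp_apply, Ideal.Quotient.eq, hJ, RingHom.mem_ker, map_sub]
    have : ψ (algebraMap C₁ B₁ c) = ψ b := hc
    rw [this, sub_self]
  let ψb : B₁ ⧸ J →+* A₁ := RingHom.kerLift ψ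
  let x : PrimeSpectrum (B₁ ⧸ J) := ⟨𝔭.asIdeal.comap ψb, inferInstance⟩
  obtain ⟨f, hf, J₀, hJ₀, hEt⟩ := Groth.Agent.S18416.result C₁ C₁ B₁ J hsurj x
  have hf' : ψ f ∉ 𝔭.asIdeal := fun h => hf (by
    show Ideal.Quotient.mk J f ∈ 𝔭.asIdeal.comap ψb
    rw [Ideal.mem_comap]; exact h)
  have hu : IsUnit (((algebraMap A₁ (Localization.Away (ψ f))).comp ψ) f) :=
    IsLocalization.Away.algebraMap_isUnit (ψ f)
  let ρ : Localization.Away f →+* Localization.Away (ψ f) := IsLocalization.Away.lift f hu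
  have hρ : ∀ b, ρ (algebraMap B₁ (Localization.Away f) b) =
      algebraMap A₁ (Localization.Away (ψ f)) (ψ b) := fun b => IsLocalization.Away.lift_eq f hu b
  have hρJ : ∀ a ∈ J₀, ρ a = 0 := by
    intro a ha
    have h1 : J.map (algebraMap B₁ (Localization.Away f)) ≤ RingHom.ker ρ := by
      rw [Ideal.map_le_iff_le_comap]
      intro b hb
      rw [Ideal.mem_comap, RingHom.mem_ker, hρ, (RingHom.mem_ker.mp hb), map_zero]
    exact RingHom.mem_ker.mp (h1 (hJ₀ ha))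
  refine ⟨Localization.Away f ⧸ J₀, inferInstance,
    (Ideal.Quotient.mk J₀).comp (algebraMap B₁ (Localization.Away f)), f,
    Ideal.Quotient.lift J₀ ρ hρJ, hf', ?_, ?_, ?_⟩
  · exact hEt
  · intro l
    obtain ⟨a, s, rfl⟩ := IsLocalization.exists_mk'_eq (Submonoid.powers (ψ f)) l
    obtain ⟨b, rfl⟩ := hψ a
    obtain ⟨_, n, rfl⟩ := s
    refine ⟨Ideal.Quotient.mk J₀ (IsLocalization.mk' (Localization.Away f) b
      (⟨f ^ n, n, rfl⟩ : Submonoid.powers f)), ?_⟩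
    rw [Ideal.Quotient.lift_mk, IsLocalization.eq_mk'_iff_mul_eq]
    simp only
    rw [← map_pow, ← hρ, ← hρ, ← map_mul]
    congr 1
    exact IsLocalization.mk'_spec _ _ _
  · ext b
    simp only [RingHom.comp_apply, Ideal.Quotient.lift_mk, hρ]

open Limits in
theorem globalize {X X₀ Z U₁ D : Scheme.{u}} (ι₀ : X₀ ⟶ X) [IsClosedImmersion ι₀] (π : Z ⟶ X)
    (σ₀ : X₀ ⟶ Z) (hσ : σ₀ ≫ π = ι₀)
    (e₁ : U₁ ⟶ X) [Etale e₁] (g₁ : U₁ ⟶ Z) (hg₁ : g₁ ≫ π = e₁)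
    (d : D ⟶ X₀) [IsOpenImmersion d] (δ : D ⟶ U₁) [IsClosedImmersion δ]
    (h2 : δ ≫ g₁ = d ≫ σ₀) (x₀ : X₀) (hx₀ : x₀ ∈ Set.range d.base) :
    ∃ (U : Scheme.{u}) (e : U ⟶ X) (g : U ⟶ Z), Etale e ∧ g ≫ π = e ∧
      IsOpenImmersion (pullback.snd e ι₀) ∧ x₀ ∈ Set.range (pullback.snd e ι₀).base ∧
      pullback.snd e ι₀ ≫ σ₀ = pullback.fst e ι₀ ≫ g := by
  have h1 : δ ≫ e₁ = d ≫ ι₀ := by
    rw [← hg₁, ← Category.assoc, h2, Category.assoc, hσ]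
  -- the section `σ : D ⟶ E`
  let σ : D ⟶ pullback e₁ ι₀ := pullback.lift δ d h1
  have hσ1 : σ ≫ pullback.fst e₁ ι₀ = δ := pullback.lift_fst _ _ _
  have hσ2 : σ ≫ pullback.snd e₁ ι₀ = d := pullback.lift_snd _ _ _
  haveI : Etale (σ ≫ pullback.snd e₁ ι₀) := by rw [hσ2]; infer_instance
  haveI : Etale σ := Etale.of_comp σ (pullback.snd e₁ ι₀)
  haveI : Mono σ := mono_of_mono_fac hσ2
  haveI : IsOpenImmersion σ := IsOpenImmersion.of_flat_of_mono σ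
  haveI : IsClosedImmersion (σ ≫ pullback.fst e₁ ι₀) := by rw [hσ1]; infer_instance
  haveI : IsClosedImmersion σ :=
    IsClosedImmersion.of_comp_isClosedImmersion σ (pullback.fst e₁ ι₀)
  -- the bad closed set
  have hW : IsClosed ((pullback.fst e₁ ι₀).base '' (Set.range σ.base)ᶜ) :=
    (pullback.fst e₁ ι₀).isClosedEmbedding.isClosedMap _
      (σ.isOpenEmbedding.isOpen_range.isClosed_compl)
  let Uo : U₁.Opens := ⟨((pullback.fst e₁ ι₀).base '' (Set.range σ.base)ᶜ)ᶜ, hW.isOpen_compl⟩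
  have hinj : Function.Injective (pullback.fst e₁ ι₀).base :=
    (pullback.fst e₁ ι₀).isClosedEmbedding.injective
  refine ⟨Uo.toScheme, Uo.ι ≫ e₁, Uo.ι ≫ g₁, inferInstance, by rw [Category.assoc, hg₁], ?_⟩
  -- the comparison map
  let β : pullback (Uo.ι ≫ e₁) ι₀ ⟶ pullback e₁ ι₀ :=
    pullback.lift (pullback.fst (Uo.ι ≫ e₁) ι₀ ≫ Uo.ι) (pullback.snd (Uo.ι ≫ e₁) ι₀)
      (by rw [Category.assoc, pullback.condition])
  have hβ1 : β ≫ pullback.fst e₁ ι₀ = pullback.fst (Uo.ι ≫ e₁) ι₀ ≫ Uo.ι :=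
    pullback.lift_fst _ _ _
  have hβ2 : β ≫ pullback.snd e₁ ι₀ = pullback.snd (Uo.ι ≫ e₁) ι₀ := pullback.lift_snd _ _ _
  have hrange : Set.range β.base ⊆ Set.range σ.base := by
    rintro _ ⟨z, rfl⟩
    by_contra hz
    have hmem : (pullback.fst e₁ ι₀).base (β.base z) ∈
        (pullback.fst e₁ ι₀).base '' (Set.range σ.base)ᶜ := ⟨_, hz, rfl⟩
    have hz2 : (pullback.fst e₁ ι₀).base (β.base z) =
        Uo.ι.base ((pullback.fst (Uo.ι ≫ e₁) ι₀).base z) := by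
      rw [← Scheme.Hom.comp_apply, hβ1, Scheme.Hom.comp_apply]
    rw [hz2] at hmem
    exact ((pullback.fst (Uo.ι ≫ e₁) ι₀).base z).2 hmem
  let β' : pullback (Uo.ι ≫ e₁) ι₀ ⟶ D := IsOpenImmersion.lift σ β hrange
  have hβ' : β' ≫ σ = β := IsOpenImmersion.lift_fac _ _ _
  have hsnd : pullback.snd (Uo.ι ≫ e₁) ι₀ = β' ≫ d := by
    rw [← hβ2, ← hβ', Category.assoc, hσ2]
  haveI : Mono (pullback.snd (Uo.ι ≫ e₁) ι₀) := by
    constructor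
    intro T a b hab
    have h3 : a ≫ β' = b ≫ β' := by
      rw [← cancel_mono d, Category.assoc, Category.assoc, ← hsnd, hab]
    refine pullback.hom_ext ?_ hab
    rw [← cancel_mono Uo.ι, Category.assoc, Category.assoc, ← hβ1, ← hβ', ← Category.assoc,
      ← Category.assoc, ← Category.assoc, ← Category.assoc, h3]
  refine ⟨IsOpenImmersion.of_flat_of_mono _, ?_, ?_⟩
  · obtain ⟨d₀, rfl⟩ := hx₀
    have hu : δ.base d₀ ∈ Uo := by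
      rintro ⟨w, hw, hw2⟩
      apply hw
      have : (pullback.fst e₁ ι₀).base w = (pullback.fst e₁ ι₀).base (σ.base d₀) := by
        rw [hw2, ← Scheme.Hom.comp_apply, hσ1]
      exact ⟨d₀, (hinj this).symm⟩
    have he : (Uo.ι ≫ e₁).base ⟨δ.base d₀, hu⟩ = ι₀.base (d.base d₀) := by
      rw [← Scheme.Hom.comp_apply, ← h1, Scheme.Hom.comp_apply, Scheme.Hom.comp_apply]
      rfl
    obtain ⟨z, -, hz⟩ := Scheme.Pullback.exists_preimage_pullback (f := Uo.ι ≫ e₁) (g := ι₀)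
      ⟨δ.base d₀, hu⟩ (d.base d₀) he
    exact ⟨z, hz⟩
  · rw [hsnd, Category.assoc, ← h2, ← hσ1, ← Category.assoc, ← Category.assoc, hβ', hβ1,
      Category.assoc]

theorem local_affine {X X₀ Z : Scheme.{u}} (π : Z ⟶ X) [Smooth π] (σ₀ : X₀ ⟶ Z)
    [IsClosedImmersion (σ₀ ≫ π)]
    (X'' : X.Opens) (hX'' : IsAffineOpen X'') (Z'' : Z.Opens) (hZ'' : IsAffineOpen Z'')
    (e1 : Z'' ≤ π ⁻¹ᵁ X'') (e2 : (σ₀ ≫ π) ⁻¹ᵁ X'' ≤ σ₀ ⁻¹ᵁ Z'') (x₀ : X₀)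
    (hx₀ : x₀ ∈ (σ₀ ≫ π) ⁻¹ᵁ X'') :
    ∃ (U₁ D : Scheme.{u}) (e₁ : U₁ ⟶ X) (g₁ : U₁ ⟶ Z) (d : D ⟶ X₀) (δ : D ⟶ U₁),
      Etale e₁ ∧ g₁ ≫ π = e₁ ∧ IsOpenImmersion d ∧ IsClosedImmersion δ ∧ δ ≫ g₁ = d ≫ σ₀ ∧
      x₀ ∈ Set.range d.base := by
  have hD : IsAffineOpen ((σ₀ ≫ π) ⁻¹ᵁ X'') := hX''.preimage (σ₀ ≫ π)
  have hφ : (π.appLE X'' Z'' e1).hom.Smooth := π.smooth_appLE hX'' hZ'' e1
  have hκ : Function.Surjective
      ((σ₀.appLE Z'' ((σ₀ ≫ π) ⁻¹ᵁ X'') e2).hom.comp (π.appLE X'' Z'' e1).hom) := by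
    have h1 : π.appLE X'' Z'' e1 ≫ σ₀.appLE Z'' ((σ₀ ≫ π) ⁻¹ᵁ X'') e2 = (σ₀ ≫ π).app X'' := by
      rw [Scheme.Hom.appLE_comp_appLE, Scheme.Hom.app_eq_appLE]
    have hs : Function.Surjective ((σ₀ ≫ π).app X'').hom :=
      Scheme.Hom.app_surjective (σ₀ ≫ π) X'' hX''
    rw [← h1] at hs
    exact hs
  obtain ⟨C', _, γ, f, ρ', hf, hEt, hρ', hcomp⟩ :=
    ring_core _ hφ _ hκ (hD.primeIdealOf ⟨x₀, hx₀⟩)
  refine ⟨Spec (.of C'),
    Spec (.of (Localization.Away ((σ₀.appLE Z'' ((σ₀ ≫ π) ⁻¹ᵁ X'') e2).hom f))),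
    Spec.map (CommRingCat.ofHom (γ.comp (π.appLE X'' Z'' e1).hom)) ≫ hX''.fromSpec,
    Spec.map (CommRingCat.ofHom γ) ≫ hZ''.fromSpec,
    Spec.map (CommRingCat.ofHom (algebraMap _ _)) ≫ hD.fromSpec,
    Spec.map (CommRingCat.ofHom ρ'), ?_, ?_, ?_, ?_, ?_, ?_⟩
  · haveI : Etale (Spec.map (CommRingCat.ofHom (γ.comp (π.appLE X'' Z'' e1).hom))) :=
      (HasRingHomProperty.Spec_iff (P := @Etale)).mpr hEt
    infer_instance
  · rw [Category.assoc, ← IsAffineOpen.SpecMap_appLE_fromSpec π hX'' hZ'' e1, ← Category.assoc,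
      ← Spec.map_comp]
    rfl
  · haveI : IsOpenImmersion (Spec.map (CommRingCat.ofHom (algebraMap Γ(X₀, (σ₀ ≫ π) ⁻¹ᵁ X'')
        (Localization.Away ((σ₀.appLE Z'' ((σ₀ ≫ π) ⁻¹ᵁ X'') e2).hom f))))) :=
      IsOpenImmersion.of_isLocalization ((σ₀.appLE Z'' ((σ₀ ≫ π) ⁻¹ᵁ X'') e2).hom f)
    infer_instance
  · exact IsClosedImmersion.spec_of_surjective _ hρ'
  · rw [Category.assoc, ← IsAffineOpen.SpecMap_appLE_fromSpec σ₀ hZ'' hD e2, ← Category.assoc,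
      ← Category.assoc, ← Spec.map_comp, ← Spec.map_comp]
    congr 2
    ext b
    exact congrArg (fun h => h b) hcomp
  · have hp : hD.primeIdealOf ⟨x₀, hx₀⟩ ∈ Set.range (Spec.map (CommRingCat.ofHom
        (algebraMap Γ(X₀, (σ₀ ≫ π) ⁻¹ᵁ X'')
        (Localization.Away ((σ₀.appLE Z'' ((σ₀ ≫ π) ⁻¹ᵁ X'') e2).hom f))))).base := by
      have := PrimeSpectrum.localization_away_comap_range
        (Localization.Away ((σ₀.appLE Z'' ((σ₀ ≫ π) ⁻¹ᵁ X'') e2).hom f))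
        ((σ₀.appLE Z'' ((σ₀ ≫ π) ⁻¹ᵁ X'') e2).hom f)
      have hmem : hD.primeIdealOf ⟨x₀, hx₀⟩ ∈
          PrimeSpectrum.basicOpen ((σ₀.appLE Z'' ((σ₀ ≫ π) ⁻¹ᵁ X'') e2).hom f) := hf
      rw [← SetLike.mem_coe, ← this] at hmem
      exact hmem
    obtain ⟨y, hy⟩ := hp
    refine ⟨y, ?_⟩
    rw [Scheme.Hom.comp_apply, hy, IsAffineOpen.fromSpec_primeIdealOf]

open Limits in
theorem core {X X₀ Z : Scheme.{u}} (ι₀ : X₀ ⟶ X) [IsClosedImmersion ι₀] (π : Z ⟶ X) [Smooth π]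
    (σ₀ : X₀ ⟶ Z) (hσ : σ₀ ≫ π = ι₀) (x₀ : X₀) :
    ∃ (U : Scheme.{u}) (e : U ⟶ X) (g : U ⟶ Z), Etale e ∧ g ≫ π = e ∧
      IsOpenImmersion (pullback.snd e ι₀) ∧ x₀ ∈ Set.range (pullback.snd e ι₀).base ∧
      pullback.snd e ι₀ ≫ σ₀ = pullback.fst e ι₀ ≫ g := by
  subst hσ
  obtain ⟨X', hX', hxX', -⟩ :=
    exists_isAffineOpen_mem_and_subset (x := (σ₀ ≫ π).base x₀) (U := ⊤) trivial
  have hz : σ₀.base x₀ ∈ π ⁻¹ᵁ X' := by
    show π.base (σ₀.base x₀) ∈ X'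
    rw [← Scheme.Hom.comp_apply]
    exact hxX'
  obtain ⟨Z', hZ', hzZ', hZ'le⟩ := exists_isAffineOpen_mem_and_subset hz
  have hX₀' : IsAffineOpen ((σ₀ ≫ π) ⁻¹ᵁ X') := hX'.preimage _
  have hxV₀ : x₀ ∈ (σ₀ ≫ π) ⁻¹ᵁ X' ⊓ σ₀ ⁻¹ᵁ Z' := ⟨hxX', hzZ'⟩
  obtain ⟨ā, hāle, hāx⟩ := hX₀'.exists_basicOpen_le ⟨x₀, hxV₀⟩ hxX'
  obtain ⟨c, hc⟩ := Scheme.Hom.app_surjective (σ₀ ≫ π) X' hX' ā
  have hX'' : IsAffineOpen (X.basicOpen c) := hX'.basicOpen c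
  have hZ'' : IsAffineOpen (Z.basicOpen ((π.appLE X' Z' hZ'le) c)) := hZ'.basicOpen _
  have hpre : (σ₀ ≫ π) ⁻¹ᵁ (X.basicOpen c) = X₀.basicOpen ā := by
    rw [Scheme.preimage_basicOpen, hc]
  have hZ''eq : Z.basicOpen ((π.appLE X' Z' hZ'le) c) = Z' ⊓ π ⁻¹ᵁ (X.basicOpen c) :=
    Scheme.basicOpen_appLE π Z' X' hZ'le c
  have e1 : Z.basicOpen ((π.appLE X' Z' hZ'le) c) ≤ π ⁻¹ᵁ (X.basicOpen c) := by
    rw [hZ''eq]; exact inf_le_right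
  have e2 : (σ₀ ≫ π) ⁻¹ᵁ (X.basicOpen c) ≤ σ₀ ⁻¹ᵁ (Z.basicOpen ((π.appLE X' Z' hZ'le) c)) := by
    intro y hy
    have hy' : y ∈ X₀.basicOpen ā := hpre ▸ hy
    have hyV : y ∈ (σ₀ ≫ π) ⁻¹ᵁ X' ⊓ σ₀ ⁻¹ᵁ Z' := hāle hy'
    show σ₀.base y ∈ Z.basicOpen ((π.appLE X' Z' hZ'le) c)
    rw [hZ''eq]
    refine ⟨hyV.2, ?_⟩
    show π.base (σ₀.base y) ∈ X.basicOpen c
    rw [← Scheme.Hom.comp_apply]
    exact hy
  have hx₀ : x₀ ∈ (σ₀ ≫ π) ⁻¹ᵁ (X.basicOpen c) := by rw [hpre]; exact hāx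
  obtain ⟨U₁, D, e₁, g₁, d, δ, hE, hg₁, hd, hδ, h2, hxd⟩ :=
    local_affine π σ₀ _ hX'' _ hZ'' e1 e2 x₀ hx₀
  exact globalize (σ₀ ≫ π) π σ₀ rfl e₁ g₁ hg₁ d δ h2 x₀ hxd


/-- Let i : S₀ ⟶ S be a closed immersion, p : X ⟶ S a scheme over S, q : Y ⟶ S a smooth morphism, X₀ = X
×_S S₀, x₀ a point of X₀ and f₀ : X₀ ⟶ Y a morphism over S. Then there are a scheme U, an étale
morphism e : U ⟶ X whose base change U ×_X X₀ ⟶ X₀ is an open immersion whose image contains x₀, and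
a morphism f : U ⟶ Y over S whose restriction to U ×_X X₀ equals the restriction of f₀. -/
theorem result {S S₀ X Y : Scheme.{u}} (i : S₀ ⟶ S) [IsClosedImmersion i]
    (p : X ⟶ S) (q : Y ⟶ S) [Smooth q] (f₀ : Limits.pullback p i ⟶ Y)
    (hf₀ : f₀ ≫ q = Limits.pullback.fst p i ≫ p) (x₀ : ↥(Limits.pullback p i)) :
    ∃ (U : Scheme.{u}) (e : U ⟶ X) (f : U ⟶ Y), Etale e ∧ f ≫ q = e ≫ p ∧
      IsOpenImmersion (Limits.pullback.snd e (Limits.pullback.fst p i)) ∧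
      x₀ ∈ Set.range (Limits.pullback.snd e (Limits.pullback.fst p i)).base ∧
      Limits.pullback.snd e (Limits.pullback.fst p i) ≫ f₀ =
        Limits.pullback.fst e (Limits.pullback.fst p i) ≫ f := by
  have hlift : Limits.pullback.lift f₀ (Limits.pullback.fst p i) hf₀ ≫ Limits.pullback.snd q p =
      Limits.pullback.fst p i := Limits.pullback.lift_snd _ _ _
  obtain ⟨U, e, g, hE, hg, hO, hx, heq⟩ := core (Limits.pullback.fst p i) (Limits.pullback.snd q p)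
    (Limits.pullback.lift f₀ (Limits.pullback.fst p i) hf₀) hlift x₀
  refine ⟨U, e, g ≫ Limits.pullback.fst q p, hE, ?_, hO, hx, ?_⟩
  · rw [Category.assoc, Limits.pullback.condition, ← Category.assoc, hg]
  · rw [← Category.assoc, ← heq, Category.assoc, Limits.pullback.lift_fst]

end Groth.Agent.S14069
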