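import Groth.Statements.S11108
import Mathlib
import Groth.Agent.S14069
import Groth.Agent.H4.StrictHensSection
import Groth.Agent.H65.AlgClosedPt

set_option autoImplicit false
universe u
open CategoryTheory AlgebraicGeometry
open Neron

namespace Groth.Agent.S11108

open CategoryTheory CategoryTheory.Limits AlgebraicGeometry


/-- Let R be a strictly Henselian discrete valuation ring — Henselian with algebraically closed residue
field — and p : X → Spec R a smooth morphism. Then the image of the reduction map from R-valued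
points of X to the special fibre is dense in the special fibre: every point of X over the closed
point of Spec R lies in the closure of the set of points s(𝔪), s a section of p and 𝔪 the closed
point. -/
theorem result (R : Type u) [CommRing R] [IsDomain R]
    [IsDiscreteValuationRing R] [HenselianLocalRing R] [IsAlgClosed (IsLocalRing.ResidueField R)]
    {X : Scheme.{u}} (p : X ⟶ Spec (CommRingCat.of R)) [Smooth p]
    (x : X) (hx : p.base x = IsLocalRing.closedPoint R) :
    x ∈ closure {y : X | ∃ s : Spec (CommRingCat.of R) ⟶ X, s ≫ p = 𝟙 _ ∧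
      s.base (IsLocalRing.closedPoint R) = y} := by
  classical
  let ι₀ : Spec (CommRingCat.of (IsLocalRing.ResidueField R)) ⟶ Spec (CommRingCat.of R) :=
    Spec.map (CommRingCat.ofHom (IsLocalRing.residue R))
  haveI : IsClosedImmersion ι₀ :=
    IsClosedImmersion.spec_of_surjective _ IsLocalRing.residue_surjective
  have hcp : ι₀.base default = IsLocalRing.closedPoint R := by
    have h1 : (default : Spec (CommRingCat.of (IsLocalRing.ResidueField R))) =
        IsLocalRing.closedPoint (IsLocalRing.ResidueField R) := Subsingleton.elim _ _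
    rw [h1]
    exact IsLocalRing.comap_closedPoint (IsLocalRing.residue R)
  rw [mem_closure_iff]
  intro V hV hxV
  let V' : X.Opens := ⟨V, hV⟩
  obtain ⟨z, hz1, hz2⟩ := Scheme.Pullback.exists_preimage_pullback (f := p) (g := ι₀) x default
    (hx.trans hcp.symm)
  let W₀ : (pullback p ι₀).Opens := (pullback.fst p ι₀) ⁻¹ᵁ V'
  have hzW : z ∈ W₀ := by
    show (pullback.fst p ι₀).base z ∈ V
    rw [hz1]
    exact hxV
  haveI : Smooth (pullback.snd p ι₀) := MorphismProperty.pullback_snd _ _ inferInstance
  let g : (W₀ : Scheme) ⟶ Spec (CommRingCat.of (IsLocalRing.ResidueField R)) :=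
    W₀.ι ≫ pullback.snd p ι₀
  haveI : LocallyOfFiniteType g := inferInstance
  obtain ⟨σ, hσ⟩ := Groth.Agent.H65.AlgClosedPt.exists_section_of_lft g ⟨z, hzW⟩
  let y0 : Spec (CommRingCat.of (IsLocalRing.ResidueField R)) ⟶ X :=
    σ ≫ W₀.ι ≫ pullback.fst p ι₀
  have hy0 : y0 ≫ p = ι₀ := by
    have h1 : y0 ≫ p = (σ ≫ g) ≫ ι₀ := by
      simp only [y0, g, Category.assoc, pullback.condition]
    rw [h1, hσ, Category.id_comp]
  have hy0V : y0.base default ∈ V := by
    have h1 : (W₀.ι).base (σ.base default) ∈ W₀ := (σ.base default).2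
    exact h1
  obtain ⟨U, e, gU, hE, hg, hO, hx₀, heq⟩ := Groth.Agent.S14069.core ι₀ p y0 hy0 default
  haveI := hE
  haveI := hO
  haveI : IsIso (pullback.snd e ι₀) := by
    haveI : Epi (pullback.snd e ι₀).base := by
      rw [TopCat.epi_iff_surjective]
      intro a
      rw [Subsingleton.elim a default]
      exact hx₀
    exact IsOpenImmersion.isIso _
  let y : Spec (CommRingCat.of (IsLocalRing.ResidueField R)) ⟶ U :=
    inv (pullback.snd e ι₀) ≫ pullback.fst e ι₀
  have hy : y ≫ e = ι₀ := by
    simp only [y, Category.assoc, pullback.condition, IsIso.inv_hom_id_assoc]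
  have hyg : y ≫ gU = y0 := by
    simp only [y, Category.assoc]
    rw [← heq, IsIso.inv_hom_id_assoc]
  obtain ⟨s, hs1, hs2⟩ := Groth.Agent.H4.exists_section_of_etale R U e y hy
  refine ⟨y0.base default, hy0V, s ≫ gU, ?_, ?_⟩
  · rw [Category.assoc, hg, hs1]
  · rw [← hcp, ← Scheme.Hom.comp_apply]
    show (ι₀ ≫ s ≫ gU).base default = _
    rw [← Category.assoc]
    show ((Spec.map (CommRingCat.ofHom (IsLocalRing.residue R)) ≫ s) ≫ gU).base default = _
    rw [hs2, hyg]

end Groth.Agent.S11108
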