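import Groth.Statements.S11114
import Mathlib
import Groth.Agent.H6.GammaPush
import Groth.Agent.H6.LerayBdd
import Groth.Agent.S0476
import Groth.Agent.H92.AffGlue

set_option autoImplicit false
universe u
open CategoryTheory CategoryTheory.Limits AlgebraicGeometry
attribute [local instance] HasDerivedCategory.standard
open DCoh

namespace Groth.Agent.S11114

open DerivedCategory Groth.Agent.H31.MV Groth.Agent.H31.RpushRestrict

theorem exists_KInj_rep {Y : Scheme.{u}} (G : DCoh.D Y) :
    ∃ (I : CochainComplex Y.Modules ℤ), I.IsKInjective ∧ Nonempty (G ≅ Q.obj I) := by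
  obtain ⟨I, s, hI, hs, -, -⟩ := Groth.Agent.S0476.result (Q.objPreimage G)
  exact ⟨I, hI, ⟨(Q.objObjPreimageIso G).symm ≪≫ asIso (Q.map s)⟩⟩

theorem exists_Q_map_eq {Y : Scheme.{u}} (I₁ I₂ : CochainComplex Y.Modules ℤ) [I₂.IsKInjective]
    (ψ : (Q.obj I₁ : DCoh.D Y) ⟶ Q.obj I₂) : ∃ f : I₁ ⟶ I₂, Q.map f = ψ := by
  obtain ⟨g, hg⟩ := (CochainComplex.IsKInjective.Qh_map_bijective
    ((HomotopyCategory.quotient _ _).obj I₁) I₂).surjective
    ((quotientCompQhIso _).hom.app I₁ ≫ ψ ≫ (quotientCompQhIso _).inv.app I₂)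
  obtain ⟨f, rfl⟩ := (HomotopyCategory.quotient _ _).map_surjective g
  refine ⟨f, ?_⟩
  have nat := (quotientCompQhIso Y.Modules).hom.naturality f
  simp only [Functor.comp_map] at nat
  rw [← cancel_epi ((quotientCompQhIso Y.Modules).hom.app I₁), ← nat, hg]
  simp

theorem quasiIso_of_acyclic_cone {B : Type*} [Category B] [Abelian B]
    {K L : CochainComplex B ℤ} (f : K ⟶ L)
    (h : (CochainComplex.mappingCone f).Acyclic) : QuasiIso f := by
  have hFf : HomotopyCategory.quasiIso B (ComplexShape.up ℤ)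
      ((HomotopyCategory.quotient B (ComplexShape.up ℤ)).map f) := by
    rw [HomotopyCategory.quasiIso_eq_trW_subcategoryAcyclic]
    exact ⟨_, _, _, HomotopyCategory.mappingCone_triangleh_distinguished f,
      (HomotopyCategory.quotient_obj_mem_subcategoryAcyclic_iff_exactAt _).2 h⟩
  rw [HomotopyCategory.quotient_map_mem_quasiIso_iff, HomologicalComplex.mem_quasiIso_iff] at hFf
  exact hFf

/-- Let Y be a quasi-compact quasi-separated scheme and assume the unbounded derived functor of global
sections RΓ(U, -) exists for every open U of Y (existence binder). A morphism φ : G₁ ⟶ G₂ in D(O_Y)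
is an isomorphism if and only if for every affine open U of Y the morphism RΓ(U, φ|_U) of D(Ab),
obtained from φ through restriction to U and derived global sections, is an isomorphism. -/
theorem result {Y : Scheme.{u}} [CompactSpace Y] [QuasiSeparatedSpace Y]
    [hR : ∀ U : Y.Opens, DCoh.HasRΓ (U : Scheme.{u})] {G₁ G₂ : DCoh.D Y} (φ : G₁ ⟶ G₂) :
    IsIso φ ↔ ∀ U : Y.Opens, IsAffineOpen U →
      IsIso ((DCoh.RΓ (U : Scheme.{u})).map ((DCoh.restrictD U.ι).map φ)) := by

  constructor
  · intro h U _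
    infer_instance
  · intro h
    obtain ⟨I₁, hI₁, ⟨e₁⟩⟩ := exists_KInj_rep G₁
    obtain ⟨I₂, hI₂, ⟨e₂⟩⟩ := exists_KInj_rep G₂
    obtain ⟨f, hf⟩ := exists_Q_map_eq I₁ I₂ (e₁.inv ≫ φ ≫ e₂.hom)
    have hφ : φ = e₁.hom ≫ Q.map f ≫ e₂.inv := by
      rw [hf]; simp
    suffices hq : QuasiIso f by
      rw [hφ]
      infer_instance
    apply quasiIso_of_acyclic_cone
    apply Groth.Agent.H92.AffGlue.acyclic_of_forall_affine
    intro U hU
    have := h U hU
    let F := Scheme.Modules.restrictFunctor U.ι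
    let g := (DCoh.restrictCx U).map f
    have hJ₁ := isKInjective_restrict U I₁
    have hJ₂ := isKInjective_restrict U I₂
    -- step 1: RΓ_U (res (Q f)) iso
    have i1 : IsIso ((DCoh.RΓ (U : Scheme.{u})).map ((DCoh.restrictD U.ι).map (Q.map f))) := by
      have : Q.map f = e₁.inv ≫ φ ≫ e₂.hom := hf
      rw [this]
      simp only [Functor.map_comp]
      infer_instance
    -- step 2: RΓ_U (Q (res f)) iso
    have i2 : IsIso ((DCoh.RΓ (U : Scheme.{u})).map (Q.map g)) := by
      have := (NatIso.isIso_map_iff (Functor.isoWhiskerRight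
        (F.mapDerivedCategoryFactors) (DCoh.RΓ (U : Scheme.{u}))) f).1 i1
      exact this
    -- step 3: Q (Γ_U (res f)) iso
    have i3 : IsIso (Q.map (((DCoh.gammaAb (U : Scheme.{u})).mapHomologicalComplex
        (ComplexShape.up ℤ)).map g)) := by
      have := isIso_uΓ_app (U : Scheme.{u}) ((DCoh.restrictCx U).obj I₁)
      have := isIso_uΓ_app (U : Scheme.{u}) ((DCoh.restrictCx U).obj I₂)
      have nat := (uΓ (U : Scheme.{u})).naturality g
      simp only [Functor.comp_map] at nat
      have e : Q.map (((DCoh.gammaAb (U : Scheme.{u})).mapHomologicalComplex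
          (ComplexShape.up ℤ)).map g) =
          (uΓ (U : Scheme.{u})).app _ ≫ (DCoh.RΓ (U : Scheme.{u})).map (Q.map g) ≫
            inv ((uΓ (U : Scheme.{u})).app _) := by
        rw [← Category.assoc, ← nat, Category.assoc, IsIso.hom_inv_id, Category.comp_id]
      rw [e]
      infer_instance
    have i4 : QuasiIso (((DCoh.gammaAb (U : Scheme.{u})).mapHomologicalComplex
        (ComplexShape.up ℤ)).map g) := (DerivedCategory.isIso_Q_map_iff_quasiIso _ _).1 i3
    have hc := Groth.Agent.H6.LerayBdd.acyclic_mappingCone_of_quasiIso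
      (((DCoh.gammaAb (U : Scheme.{u})).mapHomologicalComplex (ComplexShape.up ℤ)).map g)
    refine Groth.Agent.H6.LerayBdd.acyclic_of_iso ?_ hc
    exact (CochainComplex.mappingCone.mapHomologicalComplexIso g
        (DCoh.gammaAb (U : Scheme.{u}))).symm ≪≫
      (((DCoh.gammaAb (U : Scheme.{u})).mapHomologicalComplex (ComplexShape.up ℤ)).mapIso
        (CochainComplex.mappingCone.mapHomologicalComplexIso f F)).symm

end Groth.Agent.S11114
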