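import Groth.Statements.S1112
import Groth.Agent.H28.FinitePC

set_option autoImplicit false
universe u
open CategoryTheory CategoryTheory.Limits AlgebraicGeometry
attribute [local instance] HasDerivedCategory.standard
open Perf

namespace Groth.Agent.S1112

open Groth.Agent.H31 Groth.Agent.H31.Stalk Groth.Agent.H28.LpullLoc Groth.Agent.H90.SPerf Groth.Agent.H90.TPC Groth.Agent.H6.LpullQCoh Groth.Agent.H28.PCDescentSch Groth.Agent.H28.FinitePC

/-- For a finite morphism f : X ⟶ Y whose direct image of the structure sheaf is a pseudo-coherent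
O_Y-module, and E ∈ D(O_X) with quasi-coherent cohomology (Rf_* assumed to exist), E is
m-pseudo-coherent exactly when Rf_*E is. -/
theorem result {X Y : Scheme.{u}} (f : X ⟶ Y) [IsFinite f] [DCoh.HasRpush f]
    (hO : ∀ m : ℤ, DCoh.IsPseudoCoherentD m (DCoh.inD Y ((Scheme.Modules.pushforward f).obj (Coh.structureModule X))))
    (E : DCoh.D X) (hE : DCoh.IsQCohD E) (m : ℤ) :
    DCoh.IsPseudoCoherentD m E ↔ DCoh.IsPseudoCoherentD m ((DCoh.Rpush f).obj E) := by
  have key : ∀ {V : Y.Opens} (hV : IsAffineOpen V),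
      DCoh.IsPseudoCoherentD m ((DCoh.restrictD (hV.preimage f).fromSpec).obj E) ↔
        DCoh.IsPseudoCoherentD m
          ((DCoh.restrictD hV.fromSpec).obj ((DCoh.Rpush f).obj E)) := by
    intro V hV
    letI : Algebra Γ(Y, V) Γ(X, f ⁻¹ᵁ V) := (f.app V).hom.toAlgebra
    haveI : DCoh.HasRpush (Spec.map (f.app V)) := Groth.Agent.H31.RpushSupport.hasRpush _
    haveI : DCoh.HasLpull (hV.preimage f).fromSpec := hasLpull _
    have hB := isPseudoCoherentModule'_of_hO f hV rfl hO
    obtain ⟨e⟩ := nonempty_restrict_Rpush_iso f hV E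
    have hq : DCoh.IsQCohD ((DCoh.restrictD (hV.preimage f).fromSpec).obj E) := fun i => by
      haveI : ((DerivedCategory.homologyFunctor _ i).obj
          ((DCoh.Lpull (hV.preimage f).fromSpec).obj E)).IsQuasicoherent :=
        isQCohD_Lpull (hV.preimage f).fromSpec E hE i
      exact Groth.Agent.H22.QCohLimits.isQuasicoherent_of_iso
        ((DerivedCategory.homologyFunctor _ i).mapIso
          (nonempty_Lpull_iso_restrictD (hV.preimage f).fromSpec E).some)
    rw [affine_iff (f.app V) rfl hB _ hq m]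
    exact ⟨isPC_of_iso e.symm, isPC_of_iso e⟩
  constructor
  · intro h
    rw [isPC_iff]
    intro y
    obtain ⟨V, hV, hyV, -⟩ := exists_isAffineOpen_mem_and_subset (x := y) (U := ⊤) trivial
    have hy : y ∈ Set.range hV.fromSpec := by rw [hV.range_fromSpec]; exact hyV
    obtain ⟨y', rfl⟩ := hy
    haveI : DCoh.HasLpull (hV.preimage f).fromSpec := hasLpull _
    have h1 : DCoh.IsPseudoCoherentD m ((DCoh.restrictD (hV.preimage f).fromSpec).obj E) :=
      isPC_of_iso (nonempty_Lpull_iso_restrictD _ E).some (isPseudoCoherentD_Lpull _ m E h)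
    exact Groth.Agent.H90.LR.locPC_of_restrict hV.fromSpec
      ((isPC_iff m _).1 ((key hV).1 h1) y')
  · intro h
    rw [isPC_iff]
    intro x
    obtain ⟨V, hV, hyV, -⟩ := exists_isAffineOpen_mem_and_subset (x := f x) (U := ⊤) trivial
    have hx : x ∈ Set.range (hV.preimage f).fromSpec := by
      rw [(hV.preimage f).range_fromSpec]; exact hyV
    obtain ⟨x', rfl⟩ := hx
    haveI : DCoh.HasLpull hV.fromSpec := hasLpull _
    have h1 : DCoh.IsPseudoCoherentD m
        ((DCoh.restrictD hV.fromSpec).obj ((DCoh.Rpush f).obj E)) :=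
      isPC_of_iso (nonempty_Lpull_iso_restrictD _ _).some (isPseudoCoherentD_Lpull _ m _ h)
    exact Groth.Agent.H90.LR.locPC_of_restrict (hV.preimage f).fromSpec
      ((isPC_iff m _).1 ((key hV).2 h1) x')

end Groth.Agent.S1112
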