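import Groth.Statements.S11122
import Mathlib
import Groth.Agent.H6.RpushQC
import Groth.Agent.H90.QCohHom
import Groth.Agent.H90.PCohSummand
import Groth.Agent.H5.KInj.Triang

set_option autoImplicit false
universe u
open CategoryTheory CategoryTheory.Limits AlgebraicGeometry
attribute [local instance] HasDerivedCategory.standard
open Perf

namespace Groth.Agent.S11122

open Groth.Agent.H90.QH Groth.Agent.H90.SPerf Groth.Agent.H90.LR AlgebraicGeometry
  CategoryTheory.Limits AlgebraicGeometry.Scheme.Modules in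
/-- A pseudo-coherent object on a quasi-compact scheme is bounded above. -/
theorem exists_isLE_of_isPC (X : Scheme.{u}) [CompactSpace ↥X] (E : DCoh.D X) (m : ℤ)
    (hE : DCoh.IsPseudoCoherentD m E) : ∃ b : ℤ, E.IsLE b := by
  rw [isPC_iff] at hE
  choose V hxV P π hP hiso hepi using fun x => exists_homology_map_of_locPC (hE x)
  choose a b hab using fun x => (hP x).1
  obtain ⟨t, ht⟩ := isCompact_univ.elim_finite_subcover
    (fun x => ((V x : X.Opens) : Set X))
    (fun x => (V x).isOpen) (fun y _ => Set.mem_iUnion.2 ⟨y, hxV y⟩)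
  let N : ℕ := t.sup (fun x => (b x).natAbs)
  have hN : ∀ x ∈ t, b x ≤ N := fun x hx => by
    have h1 : (b x).natAbs ≤ N := Finset.le_sup (f := fun x => (b x).natAbs) hx
    omega
  refine ⟨max (N : ℤ) m, (DerivedCategory.isLE_iff E _).2 (fun i hi => ?_)⟩
  refine isZero_of_locally _ (fun y => ?_)
  have hy := ht (Set.mem_univ y)
  obtain ⟨x, hx⟩ := Set.mem_iUnion.1 hy
  obtain ⟨hxt, hyx⟩ := Set.mem_iUnion.1 hx
  have := hN x hxt
  have h0 : IsZero ((P x).X i) := hab x i (Or.inr (by omega))
  haveI := hiso x i (by omega)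
  exact ⟨V x, hyx, IsZero.of_iso (ShortComplex.isZero_homology_of_isZero_X₂ _ h0)
    (asIso (π x i)).symm⟩

open Groth.Agent.H90.QH Groth.Agent.H90.SPerf Groth.Agent.H90.LR AlgebraicGeometry
  CategoryTheory.Limits AlgebraicGeometry.Scheme.Modules in
/-- An object of `D^{≤ c}` is `n`-pseudo-coherent for every `n > c`. -/
theorem isPC_of_isLE {X : Scheme.{u}} (K : DCoh.D X) (c n : ℤ) (hK : K.IsLE c) (hn : c < n) :
    DCoh.IsPseudoCoherentD n K := by
  rw [isPC_iff]
  intro x
  refine locPC_of_bounded (V := ⊤) trivial n (fun i hi => ?_)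
  have e2 : (DerivedCategory.homologyFunctor _ i).obj
      ((DCoh.restrictD (⊤ : X.Opens).ι).obj K) ≅
      (restrictFunctor (⊤ : X.Opens).ι).obj (DCoh.HD K i) :=
    (homologyCommIso (restrictFunctor (⊤ : X.Opens).ι) i).app K
  have hz : IsZero (DCoh.HD K i) := K.isZero_of_isLE c i (by omega)
  exact IsZero.of_iso (Functor.map_isZero (restrictFunctor (⊤ : X.Opens).ι) hz) e2

/-- Let f : X ⟶ Y be a quasi-compact quasi-separated morphism of schemes with Y quasi-compact, and
assume the unbounded derived direct image Rf_* exists. Suppose there is an integer k such that for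
every integer n and every object F of D(O_X) with bounded cohomology that is n-pseudo-coherent, Rf_*
F is (n + k)-pseudo-coherent. Then for every object F of D(O_X) that is n-pseudo-coherent for all n
(no boundedness assumed), Rf_* F is n-pseudo-coherent for all n. (The published statement obtains
the bound for proper pseudo-coherent f from a cited finiteness theorem; this row assumes the bound.) -/
theorem result {X Y : Scheme.{u}} (f : X ⟶ Y) [QuasiCompact f]
    [QuasiSeparated f] [CompactSpace Y] [DCoh.HasRpush f] (k : ℤ)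
    (hK : ∀ (F : DCoh.D X) (n a b : ℤ), F.IsGE a → F.IsLE b → DCoh.IsPseudoCoherentD n F →
      DCoh.IsPseudoCoherentD (n + k) ((DCoh.Rpush f).obj F))
    (F : DCoh.D X) (hF : ∀ m : ℤ, DCoh.IsPseudoCoherentD m F) (m : ℤ) :
    DCoh.IsPseudoCoherentD m ((DCoh.Rpush f).obj F) := by

  have : IsGrothendieckAbelian.{u} X.Modules :=
    Groth.Agent.H31.GrothAb.isGrothendieckAbelian (Opens.grothendieckTopology X) X.ringCatSheaf
  haveI : CompactSpace X := QuasiCompact.compactSpace_of_compactSpace f
  have hFq : DCoh.IsQCohD F := fun i =>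
    (Groth.Agent.H90.QH.isQCoh_HD_of_isPC (i - 1) F (hF (i - 1))).1 i (by omega)
  obtain ⟨b, hb⟩ := exists_isLE_of_isPC X F 0 (hF 0)
  obtain ⟨N, hN⟩ := Groth.Agent.H6.RpushQC.exists_bound f
  obtain ⟨a, ha1, ha2⟩ : ∃ a : ℤ, a ≤ m - k + 1 ∧ a ≤ m - N :=
    ⟨min (m - k + 1) (m - N), min_le_left _ _, min_le_right _ _⟩
  have hT := (Groth.Agent.H6.RFBound.tD X.Modules).triangleLTGE_distinguished a F
  -- the truncation `A = τ_{<a} F`
  have hAq := Groth.Agent.H6.RpushQC.isQCohD_truncLT F hFq a
  have hAle : (((Groth.Agent.H6.RFBound.tD X.Modules).truncLT a).obj F).IsLE (a - 1) :=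
    inferInstance
  -- the truncation `B = τ_{≥a} F`
  have hBge : (((Groth.Agent.H6.RFBound.tD X.Modules).truncGE a).obj F).IsGE a := inferInstance
  have hBle : (((Groth.Agent.H6.RFBound.tD X.Modules).truncGE a).obj F).IsLE b := by
    refine (DerivedCategory.isLE_iff _ b).2 (fun i hi => ?_)
    by_cases hia : a ≤ i
    · have := Groth.Agent.H6.RFBound.isIso_H_truncGEπ a i hia F
      exact IsZero.of_iso (F.isZero_of_isLE b i hi)
        (asIso ((DerivedCategory.homologyFunctor X.Modules i).map
          (((Groth.Agent.H6.RFBound.tD X.Modules).truncGEπ a).app F))).symm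
    · exact DerivedCategory.isZero_of_isGE _ a i (by omega)
  have hBpc : DCoh.IsPseudoCoherentD (m - k)
      (((Groth.Agent.H6.RFBound.tD X.Modules).truncGE a).obj F) :=
    (Groth.Agent.H90.SPerf.isPC_triangle (m - k) _ hT).1
      (isPC_of_isLE _ (a - 1) (m - k + 1) hAle (by omega)) (hF (m - k))
  have hRB := hK _ (m - k) a b hBge hBle hBpc
  rw [show m - k + k = m by ring] at hRB
  -- the image triangle
  obtain ⟨a', c', hT'⟩ := Groth.Agent.H5.KInjDer.exists_distinguished_map (DCoh.pushKh f)
    (DCoh.Rpush f) ((DCoh.pushKh f).totalRightDerivedUnit DerivedCategory.Qh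
      (HomotopyCategory.quasiIso X.Modules (ComplexShape.up ℤ))) _ _ _ hT
  have hRAle : ((DCoh.Rpush f).obj
      (((Groth.Agent.H6.RFBound.tD X.Modules).truncLT a).obj F)).IsLE (a - 1 + N) :=
    (DerivedCategory.isLE_iff _ _).2 (fun i hi =>
      Groth.Agent.H6.RpushQC.isZero_HD_Rpush_of_isLE f N hN _ hAq (a - 1) hAle i (by omega))
  exact (Groth.Agent.H90.SPerf.isPC_triangle m _ hT').2.1
    (isPC_of_isLE _ (a - 1 + N) m hRAle (by omega)) hRB

end Groth.Agent.S11122
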