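import Groth.Statements.S11126
import Mathlib
import Groth.Agent.H6.FaithfulAdj

set_option autoImplicit false
universe w u₁ u₂
open CategoryTheory CategoryTheory.Limits
open CohDer

namespace Groth.Agent.S11126

open Groth.Agent.H6.FaithfulAdj

/-- Let A and B be abelian categories with small hom-sets and all small colimits, B having exact
filtered colimits and a small family of noetherian objects which is separating. Let F : A ⥤ B be
faithful and exact with a right adjoint G preserving filtered colimits. Then A has exact filtered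
colimits and admits a small separating family of noetherian objects. -/
theorem result
    {A : Type u₁} [Category.{w} A] [Abelian A] [HasColimitsOfSize.{w, w} A]
    {B : Type u₂} [Category.{w} B] [Abelian B] [HasColimitsOfSize.{w, w} B] [AB5OfSize.{w, w} B]
    {ι : Type w} (s : ι → B) (hsN : ∀ i, IsNoetherianObject (s i))
    (hsep : ∀ ⦃X Y : B⦄ (f g : X ⟶ Y), (∀ (i : ι) (h : s i ⟶ X), h ≫ f = h ≫ g) → f = g)
    (F : A ⥤ B) (G : B ⥤ A) (adj : F ⊣ G) [F.Additive] [F.Faithful]
    [PreservesFiniteLimits F] [PreservesFiniteColimits F] [PreservesFilteredColimitsOfSize.{w, w} G] :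
    AB5OfSize.{w, w} A ∧
      ∃ (κ : Type w) (t : κ → A), (∀ k, IsNoetherianObject (t k)) ∧
        ∀ ⦃X Y : A⦄ (f g : X ⟶ Y), (∀ (k : κ) (h : t k ⟶ X), h ≫ f = h ≫ g) → f = g := by
  classical
  haveI hGr := isGrothendieckAbelian_of_sep hsep
  haveI : WellPowered.{w} B := inferInstance
  haveI : WellPowered.{w} A := wellPowered F
  refine ⟨ab5OfSize adj, ?_⟩
  haveI : Small.{w} (Idx₀ G s) := small_Idx₀ G s
  refine ⟨Shrink.{w} {x : Idx₀ G s // IsNoetherianObject (t₀ G s x)},
    fun k => t₀ G s ((equivShrink {x : Idx₀ G s // IsNoetherianObject (t₀ G s x)}).symm k).1,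
    fun k => ((equivShrink {x : Idx₀ G s // IsNoetherianObject (t₀ G s x)}).symm k).2, ?_⟩
  intro X Y f g H
  have key : ∀ y : {x : Idx₀ G s // IsNoetherianObject (t₀ G s x)},
      ∀ h' : t₀ G s y.1 ⟶ X, h' ≫ f = h' ≫ g := by
    intro y
    obtain ⟨k, rfl⟩ := (equivShrink {x : Idx₀ G s // IsNoetherianObject (t₀ G s x)}).symm.surjective y
    exact H k
  by_contra hfg
  have hq : f - g ≠ 0 := sub_ne_zero.mpr hfg
  obtain ⟨x, h, m, hne, hm⟩ := exists_sep adj hsep (f - g) hq
  have hx : IsNoetherianObject (t₀ G s x) := by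
    haveI : IsNoetherianObject (cop₀ G s x) :=
      isNoetherianObject_sigma_fin _ _ (fun y => hsN _)
    haveI : IsNoetherianObject (quot₀ G s x) :=
      Groth.Agent.H16.isNoetherianObject_of_epi (quotπ G s x)
    haveI : IsNoetherianObject (F.obj (t₀ G s x)) := isNoetherianObject_of_mono m
    exact isNoetherianObject_of_map F _
  apply hne
  rw [Preadditive.comp_sub, key ⟨x, hx⟩ h, sub_self]

end Groth.Agent.S11126
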