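import Groth.Statements.S11127
import Mathlib
import Groth.Agent.H6.FaithfulAdj

set_option autoImplicit false
universe w u₁ u₂
open CategoryTheory CategoryTheory.Limits
open CohDer

namespace Groth.Agent.S11127


open Groth.Agent.H6.FaithfulAdj

theorem noeth_map
    {A : Type u₁} [Category.{w} A] [Abelian A] [HasColimitsOfSize.{w, w} A]
    {B : Type u₂} [Category.{w} B] [Abelian B] [HasColimitsOfSize.{w, w} B] [AB5OfSize.{w, w} B]
    {ι : Type w} (s : ι → B) (hsN : ∀ i, IsNoetherianObject (s i))
    (hsep : ∀ ⦃X Y : B⦄ (f g : X ⟶ Y), (∀ (i : ι) (h : s i ⟶ X), h ≫ f = h ≫ g) → f = g)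
    (F : A ⥤ B) (G : B ⥤ A) (adj : F ⊣ G) [F.Additive] [F.Faithful]
    [PreservesFiniteLimits F] [PreservesFiniteColimits F] [PreservesFilteredColimitsOfSize.{w, w} G]
    (a : A) [IsNoetherianObject a] : IsNoetherianObject (F.obj a) := by
  classical
  haveI := isGrothendieckAbelian_of_sep hsep
  haveI : AB5OfSize.{w, w} A := ab5OfSize adj
  have hc := isColimit_diagCocone (F.obj a) hsep
  obtain ⟨P, i, hnat, himono, hjoint, hfac⟩ := star adj (diagCocone s (F.obj a)) hc
    (fun S => inferInstance) (X := a) (adj.unit.app a)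
  let m : Finset (Σ i, s i ⟶ F.obj a) → Subobject a :=
    fun S => @Subobject.mk _ _ _ _ (i S) (himono S)
  have hm_mono : ∀ S S', S ≤ S' → m S ≤ m S' := by
    intro S S' h
    exact @Subobject.mk_le_mk_of_comm _ _ _ _ _ (i S) (i S') (himono S) (himono S')
      (P.map (homOfLE h)) (hnat S S' (homOfLE h))
  obtain ⟨m₀, ⟨S₀, rfl⟩, hmax⟩ :=
    (wellFounded_gt (α := Subobject a)).has_min (Set.range m) ⟨m ∅, ∅, rfl⟩
  have hle : ∀ S, m S ≤ m S₀ := by
    intro S
    have h1 : m S₀ ≤ m (S ∪ S₀) := hm_mono _ _ Finset.subset_union_right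
    have h2 : m S ≤ m (S ∪ S₀) := hm_mono _ _ Finset.subset_union_left
    have h3 : ¬ m S₀ < m (S ∪ S₀) := hmax _ ⟨_, rfl⟩
    have h4 : m (S ∪ S₀) = m S₀ := (eq_of_le_of_not_lt h1 h3).symm
    rw [← h4]
    exact h2
  haveI : Mono (i S₀) := himono S₀
  have hq0 : cokernel.π (i S₀) = 0 := by
    apply hjoint
    intro S
    haveI : Mono (i S) := himono S
    have := Subobject.ofMkLEMk_comp (hle S)
    rw [← this, Category.assoc, cokernel.condition, comp_zero]
  haveI : Epi (i S₀) := Abelian.epi_of_cokernel_π_eq_zero _ hq0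
  haveI : IsIso (i S₀) := isIso_of_mono_of_epi _
  obtain ⟨u, hu⟩ := hfac S₀
  have h1 : (adj.homEquiv (P.obj S₀) (F.obj a)).symm (i S₀ ≫ adj.unit.app a) = F.map (i S₀) := by
    rw [adj.homEquiv_counit, F.map_comp, Category.assoc, adj.left_triangle_components,
      Category.comp_id]
  have hv : (adj.homEquiv _ _).symm u ≫ (diagCocone s (F.obj a)).ι.app S₀ = F.map (i S₀) := by
    rw [← adj.homEquiv_naturality_right_symm, ← hu]
    exact h1
  have hE : Epi (F.map (i S₀)) := inferInstance
  haveI : Epi ((diagCocone s (F.obj a)).ι.app S₀) := @epi_of_epi_fac B _ _ _ _ _ _ _ hE hv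
  have hI : IsIso ((diagCocone s (F.obj a)).ι.app S₀) := isIso_of_mono_of_epi _
  haveI := isNoetherianObject_diag_obj hsN (F.obj a) S₀
  let e := @asIso _ _ _ _ ((diagCocone s (F.obj a)).ι.app S₀) hI
  exact isNoetherianObject_of_mono e.inv

/-- Let A and B be abelian categories with small hom-sets and all small colimits, B having exact
filtered colimits and a small separating family of noetherian objects. Let F : A ⥤ B be faithful and
exact with a right adjoint G preserving filtered colimits. Then an object a of A is noetherian if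
and only if F a is noetherian in B. -/
theorem result
    {A : Type u₁} [Category.{w} A] [Abelian A] [HasColimitsOfSize.{w, w} A]
    {B : Type u₂} [Category.{w} B] [Abelian B] [HasColimitsOfSize.{w, w} B] [AB5OfSize.{w, w} B]
    {ι : Type w} (s : ι → B) (hsN : ∀ i, IsNoetherianObject (s i))
    (hsep : ∀ ⦃X Y : B⦄ (f g : X ⟶ Y), (∀ (i : ι) (h : s i ⟶ X), h ≫ f = h ≫ g) → f = g)
    (F : A ⥤ B) (G : B ⥤ A) (adj : F ⊣ G) [F.Additive] [F.Faithful]
    [PreservesFiniteLimits F] [PreservesFiniteColimits F] [PreservesFilteredColimitsOfSize.{w, w} G]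
    (a : A) : IsNoetherianObject a ↔ IsNoetherianObject (F.obj a) := by
  constructor
  · intro ha
    exact noeth_map s hsN hsep F G adj a
  · intro h
    exact isNoetherianObject_of_map F a

end Groth.Agent.S11127
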