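import Groth.Statements.S11128
import Mathlib
import Groth.Agent.H6.FaithfulAdj

set_option autoImplicit false
universe w u₁ u₂
open CategoryTheory CategoryTheory.Limits
open CohDer

namespace Groth.Agent.S11128

open Groth.Agent.H6.FaithfulAdj

/-- Suppose A is an abelian category that has small hom-sets and all small colimits, B is a Grothendieck
abelian category, and F : A ⥤ B is a faithful exact functor with a right adjoint G preserving
filtered colimits. Then A is a Grothendieck abelian category. -/
theorem result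
    {A : Type u₁} [Category.{w} A] [Abelian A] [HasColimitsOfSize.{w, w} A]
    {B : Type u₂} [Category.{w} B] [Abelian B] [IsGrothendieckAbelian.{w} B]
    (F : A ⥤ B) (G : B ⥤ A) (adj : F ⊣ G) [F.Additive] [F.Faithful]
    [PreservesFiniteLimits F] [PreservesFiniteColimits F] [PreservesFilteredColimitsOfSize.{w, w} G] :
    IsGrothendieckAbelian.{w} A := by
  classical
  obtain ⟨U, hU⟩ := HasSeparator.hasSeparator (C := B)
  let s : PUnit.{w + 1} → B := fun _ => U
  have hsep : ∀ ⦃X Y : B⦄ (f g : X ⟶ Y),
      (∀ (i : PUnit.{w + 1}) (h : s i ⟶ X), h ≫ f = h ≫ g) → f = g := by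
    intro X Y f g h
    exact (isSeparator_def U).1 hU f g (fun k => h PUnit.unit k)
  haveI : WellPowered.{w} A := wellPowered F
  haveI : Small.{w} (Idx₀ G s) := small_Idx₀ G s
  have key : ∀ ⦃X Y : A⦄ (f g : X ⟶ Y),
      (∀ (y : Idx₀ G s) (h : t₀ G s y ⟶ X), h ≫ f = h ≫ g) → f = g := by
    intro X Y f g H
    by_contra hfg
    have hq : f - g ≠ 0 := sub_ne_zero.mpr hfg
    obtain ⟨x, h, m, hne, hm⟩ := exists_sep adj hsep (f - g) hq
    apply hne
    rw [Preadditive.comp_sub, H x h, sub_self]
  let t : Shrink.{w} (Idx₀ G s) → A := fun k => t₀ G s ((equivShrink (Idx₀ G s)).symm k)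
  have hsepA : IsSeparator (∐ t) := by
    rw [isSeparator_sigma]
    intro X Y f g H
    apply key
    intro y
    obtain ⟨k, rfl⟩ := (equivShrink (Idx₀ G s)).symm.surjective y
    exact H _ ⟨k⟩
  exact
    { ab5OfSize := ab5OfSize adj
      hasSeparator := ⟨⟨∐ t, hsepA⟩⟩ }

end Groth.Agent.S11128
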