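import Groth.Statements.S1113
import Groth.Agent.H56.DerCat3
-- import your own Groth.Agent.* helpers here

set_option autoImplicit false
universe w v u
open CategoryTheory CategoryTheory.Limits
open CohDer

namespace Groth.Agent.S1113

/-- Let K : ℕᵒᵖ ⥤ CochainComplex A ℤ be a sequence of cochain maps … → K₂ → K₁ → K₀ in an abelian
category with Hⁱ(K₀) = 0 for i < 0 and such that for every j < n the map Hʲ(Kⱼ₊₁) → Hʲ(Kⱼ) is zero.
Then in the derived category the composite Kₙ → K₀ factors through the canonical truncation Kₙ →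
τ_{≥ n}Kₙ. -/
theorem result {A : Type u} [Category.{v} A] [Abelian A] [HasDerivedCategory.{w} A]
    (K : ℕᵒᵖ ⥤ CochainComplex A ℤ) (n : ℕ)
    (h0 : ∀ i : ℤ, i < 0 → IsZero ((K.obj (Opposite.op 0)).homology i))
    (hz : ∀ j : ℕ, j < n → HomologicalComplex.homologyMap (K.map (homOfLE (Nat.le_succ j)).op) (j : ℤ) = 0) :
    ∃ φ : DerivedCategory.Q.obj ((K.obj (Opposite.op n)).truncGE (n : ℤ)) ⟶ DerivedCategory.Q.obj (K.obj (Opposite.op 0)),
      DerivedCategory.Q.map ((K.obj (Opposite.op n)).πTruncGE (n : ℤ)) ≫ φ = DerivedCategory.Q.map (K.map (homOfLE (Nat.zero_le n)).op) := by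
  suffices H : ∀ m : ℕ, m ≤ n →
      ∃ φ : DerivedCategory.Q.obj ((K.obj (Opposite.op m)).truncGE (m : ℤ)) ⟶
        DerivedCategory.Q.obj (K.obj (Opposite.op 0)),
      DerivedCategory.Q.map ((K.obj (Opposite.op m)).πTruncGE (m : ℤ)) ≫ φ =
        DerivedCategory.Q.map (K.map (homOfLE (Nat.zero_le m)).op) from H n le_rfl
  intro m
  induction m with
  | zero =>
    intro _
    have hGE : (K.obj (Opposite.op 0)).IsGE ((0 : ℕ) : ℤ) := by
      rw [CochainComplex.isGE_iff]
      intro i hi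
      rw [HomologicalComplex.exactAt_iff_isZero_homology]
      exact h0 i (by simpa using hi)
    have hq : QuasiIso ((K.obj (Opposite.op 0)).πTruncGE ((0 : ℕ) : ℤ)) :=
      (CochainComplex.quasiIso_πTruncGE_iff _ _).mpr hGE
    refine ⟨inv (DerivedCategory.Q.map ((K.obj (Opposite.op 0)).πTruncGE ((0 : ℕ) : ℤ))), ?_⟩
    have h1 : K.map (homOfLE (Nat.zero_le 0)).op = 𝟙 _ := by
      rw [← K.map_id]
      congr 1
    rw [h1, IsIso.hom_inv_id, CategoryTheory.Functor.map_id]
  | succ m ih =>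
    intro hm
    obtain ⟨φ, hφ⟩ := ih (by omega)
    have hcomp : K.map (homOfLE (Nat.zero_le (m + 1))).op =
        K.map (homOfLE (Nat.le_succ m)).op ≫ K.map (homOfLE (Nat.zero_le m)).op := by
      rw [← K.map_comp]
      congr 1
    apply Groth.Agent.H56.exists_desc_truncGE _ (m : ℤ) ((m + 1 : ℕ) : ℤ) (by push_cast; rfl)
    rw [hcomp, Functor.map_comp, ← hφ]
    have hGE : (DerivedCategory.Q.obj ((K.obj (Opposite.op m)).truncGE (m : ℤ))).IsGE (m : ℤ) :=
      inferInstance
    have hLE : (DerivedCategory.Q.obj ((K.obj (Opposite.op (m + 1))).truncLE (m : ℤ))).IsLE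
        (m : ℤ) := inferInstance
    have hz' : DerivedCategory.Q.map ((K.obj (Opposite.op (m + 1))).ιTruncLE (m : ℤ)) ≫
        DerivedCategory.Q.map (K.map (homOfLE (Nat.le_succ m)).op) ≫
        DerivedCategory.Q.map ((K.obj (Opposite.op m)).πTruncGE (m : ℤ)) = 0 := by
      apply Groth.Agent.H56.hom_eq_zero_of_homologyMap_eq_zero (m : ℤ)
      rw [Functor.map_comp, Functor.map_comp,
        Groth.Agent.H56.homologyMap_Q_map_eq_zero _ _ (hz m (by omega)), zero_comp, comp_zero]
    rw [← Category.assoc, ← Category.assoc, Category.assoc (DerivedCategory.Q.map _), hz',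
      zero_comp]

end Groth.Agent.S1113
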