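import Groth.Statements.S11136
import Mathlib

set_option autoImplicit false
set_option maxHeartbeats 400000
universe u v
open InvTh

namespace Groth.Agent.S11136

theorem isOpen_cc {X : Type*} [TopologicalSpace X] [TopologicalSpace.NoetherianSpace X] (x : X) :
    IsOpen (connectedComponent x) := by
  rw [← isClosed_compl_iff]
  have hfin := TopologicalSpace.NoetherianSpace.finite_irreducibleComponents (α := X)
  have : (connectedComponent x)ᶜ =
      ⋃₀ {Z | Z ∈ irreducibleComponents X ∧ ¬ Z ⊆ connectedComponent x} := by
    ext y
    simp only [Set.mem_compl_iff, Set.mem_sUnion, Set.mem_setOf_eq]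
    constructor
    · intro hy
      exact ⟨irreducibleComponent y, ⟨irreducibleComponent_mem_irreducibleComponents y,
        fun h => hy (h mem_irreducibleComponent)⟩, mem_irreducibleComponent⟩
    · rintro ⟨Z, ⟨hZ, hZn⟩, hyZ⟩ hy
      apply hZn
      have hZc : IsPreconnected Z := hZ.1.isPreirreducible.isPreconnected
      have h1 := hZc.subset_connectedComponent hyZ
      rwa [← connectedComponent_eq hy] at h1
  rw [this, Set.sUnion_eq_biUnion]
  have hfin' : {Z | Z ∈ irreducibleComponents X ∧ ¬ Z ⊆ connectedComponent x}.Finite :=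
    hfin.subset (fun Z hZ => hZ.1)
  exact hfin'.isClosed_biUnion
    (fun Z hZ => isClosed_of_mem_irreducibleComponents Z hZ.1)

open scoped Pointwise in
theorem orbit (A : Type u) (R : Type v) [CommRing A] [CommRing R] [Algebra A R]
    (G : Type u) [Group G] [Finite G] [MulSemiringAction G R] [SMulCommClass G A R]
    [Algebra.IsInvariant A R G] (P Q : PrimeSpectrum R)
    (h : PrimeSpectrum.comap (algebraMap A R) P = PrimeSpectrum.comap (algebraMap A R) Q) :
    ∃ g : G, Q = PrimeSpectrum.comap (MulSemiringAction.toRingHom G R g) P := by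
  have h' : P.asIdeal.under A = Q.asIdeal.under A := congrArg PrimeSpectrum.asIdeal h
  obtain ⟨g, hg⟩ := Algebra.IsInvariant.exists_smul_of_under_eq A R G P.asIdeal Q.asIdeal h'
  refine ⟨g⁻¹, ?_⟩
  apply PrimeSpectrum.ext
  ext r
  rw [hg, PrimeSpectrum.comap_asIdeal, Ideal.mem_comap, Ideal.mem_pointwise_smul_iff_inv_smul_mem]
  rfl


/-- Let a finite group G act on a Noetherian commutative ring R by ring automorphisms, with ring of
invariants A (A → R injective with image the fixed elements). When the prime spectrum of A is
connected, any two connected components of Spec R are exchanged by some element of G: for all points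
x, y of Spec R there is g in G whose induced self-map of Spec R carries the connected component of x
onto the connected component of y. -/
theorem result
    (A : Type u) (R : Type v) [CommRing A] [CommRing R] [Algebra A R] [IsNoetherianRing R]
    (G : Type u) [Group G] [Finite G] [MulSemiringAction G R] [SMulCommClass G A R]
    [Algebra.IsInvariant A R G] [FaithfulSMul A R]
    [ConnectedSpace (PrimeSpectrum A)] (x y : PrimeSpectrum R) :
    ∃ g : G, PrimeSpectrum.comap (MulSemiringAction.toRingHom G R g) '' connectedComponent x =
      connectedComponent y := by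
  classical
  haveI : Algebra.IsIntegral A R := Algebra.IsInvariant.isIntegral A R G
  set π := PrimeSpectrum.comap (algebraMap A R) with hπ
  have hπc : IsClosedMap π :=
    PrimeSpectrum.isClosedMap_comap_of_isIntegral (algebraMap A R)
      (algebraMap_isIntegral_iff.mpr inferInstance)
  have hπs : Function.Surjective π := by
    intro q
    obtain ⟨Q, -, hQp, hQ⟩ := Ideal.exists_ideal_over_prime_of_isIntegral q.asIdeal (⊥ : Ideal R) (by
      rw [Ideal.comap_bot_of_injective _ (FaithfulSMul.algebraMap_injective A R)]; exact bot_le)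
    exact ⟨⟨Q, hQp⟩, PrimeSpectrum.ext hQ⟩
  let h : G → PrimeSpectrum R → PrimeSpectrum R :=
    fun g => PrimeSpectrum.comap (MulSemiringAction.toRingHom G R g)
  have hcont : ∀ g, Continuous (h g) := fun g => PrimeSpectrum.continuous_comap _
  have hinv : ∀ (g : G) (p : PrimeSpectrum R), h g (h g⁻¹ p) = p := by
    intro g p
    apply PrimeSpectrum.ext
    ext r
    simp only [h, PrimeSpectrum.comap_asIdeal, Ideal.mem_comap, MulSemiringAction.toRingHom_apply,
      inv_smul_smul]
  have hinv' : ∀ (g : G) (p : PrimeSpectrum R), h g⁻¹ (h g p) = p := by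
    intro g p
    simpa using hinv g⁻¹ p
  have hπh : ∀ (g : G) (p : PrimeSpectrum R), π (h g p) = π p := by
    intro g p
    apply PrimeSpectrum.ext
    ext a
    simp only [π, h, PrimeSpectrum.comap_asIdeal, Ideal.mem_comap,
      MulSemiringAction.toRingHom_apply, smul_algebraMap]
  set C := connectedComponent x with hC
  have hCo : IsOpen C := isOpen_cc x
  have hCc : IsClosed C := isClosed_connectedComponent
  set U : Set (PrimeSpectrum R) := ⋃ g : G, (h g) ⁻¹' C with hU
  have hUo : IsOpen U := isOpen_iUnion fun g => hCo.preimage (hcont g)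
  have hUeq : π ⁻¹' (π '' C) = U := by
    ext p
    simp only [Set.mem_preimage, Set.mem_image, hU, Set.mem_iUnion]
    constructor
    · rintro ⟨c, hc, hcp⟩
      obtain ⟨g, hg⟩ := orbit A R G p c hcp.symm
      have hgc : h g p = c := hg.symm
      exact ⟨g, by rw [hgc]; exact hc⟩
    · rintro ⟨g, hg⟩
      exact ⟨h g p, hg, hπh g p⟩
  have himg : IsClopen (π '' C) := by
    refine ⟨hπc _ hCc, ?_⟩
    rw [← isClosed_compl_iff]
    have : (π '' C)ᶜ = π '' Uᶜ := by
      ext q
      obtain ⟨p, rfl⟩ := hπs q
      constructor
      · intro hq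
        refine ⟨p, ?_, rfl⟩
        rw [← hUeq]
        exact hq
      · rintro ⟨p', hp', hpp'⟩ hq
        apply hp'
        rw [← hUeq]
        show π p' ∈ π '' C
        rw [hpp']; exact hq
    rw [this]
    exact hπc _ hUo.isClosed_compl
  have huniv : π '' C = Set.univ := himg.eq_univ ⟨π x, x, mem_connectedComponent, rfl⟩
  have hy : y ∈ U := by
    rw [← hUeq]
    show π y ∈ π '' C
    rw [huniv]; trivial
  obtain ⟨g, hg⟩ := Set.mem_iUnion.mp hy
  refine ⟨g⁻¹, ?_⟩
  show h g⁻¹ '' C = connectedComponent y
  apply Set.Subset.antisymm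
  · have hyim : y ∈ h g⁻¹ '' C := ⟨h g y, hg, hinv' g y⟩
    exact (isConnected_connectedComponent.image _
      (hcont g⁻¹).continuousOn).isPreconnected.subset_connectedComponent hyim
  · intro z hz
    refine ⟨h g z, ?_, hinv' g z⟩
    have h1 : h g '' connectedComponent y ⊆ connectedComponent (h g y) :=
      (hcont g).image_connectedComponent_subset y
    have h2 : connectedComponent (h g y) = C := (connectedComponent_eq hg).symm
    rw [← h2]
    exact h1 ⟨z, hz, rfl⟩

end Groth.Agent.S11136
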