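import Groth.Statements.S1114
import Groth.Agent.H56.PerfDual
import Groth.Agent.S6515
import Groth.Agent.H90.QCohHom
import Groth.Agent.H31.LocalD
-- import your own Groth.Agent.* helpers here

set_option autoImplicit false
universe u
open CategoryTheory CategoryTheory.Limits AlgebraicGeometry Opposite
attribute [local instance] HasDerivedCategory.standard
open Perf

namespace Groth.Agent.S1114

/-- Let X be a scheme, K a cochain complex of O_X-modules whose image in D(O_X) is perfect, and L ∈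
D(O_X) with quasi-coherent cohomology sheaves. Assuming - ⊗^L K and its right adjoint RHom(K, -)
exist on D(O_X), RHom(K, L) has quasi-coherent cohomology sheaves. -/
theorem result (X : Scheme.{u}) (K : CochainComplex X.Modules ℤ) (hK : DCoh.IsPerfect (DCoh.toD X K)) [DCoh.HasLTensorCx K] [DCoh.HasRSheafHom K]
    (L : DCoh.D X) (hL : DCoh.IsQCohD L) : DCoh.IsQCohD ((DCoh.RSheafHom K).obj L) := by
  intro i
  refine Groth.Agent.H90.QH.isQCoh_of_locally _ (fun x => ?_)
  obtain ⟨W, hxW, hW⟩ := Groth.Agent.H28.LpullLoc.exists_free_presentation (DCoh.toD X K) hK x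
  obtain ⟨P, a, b, hPab, hPfree, ⟨eP⟩⟩ := hW K ⟨Iso.refl _⟩
  refine ⟨W, hxW, ?_⟩
  haveI : PreservesFiniteLimits (Scheme.Modules.restrictFunctor W.ι) := inferInstance
  let KW := (DCoh.restrictCx W).obj K
  haveI iKW : DCoh.HasLTensorCx KW := Groth.Agent.H6.TensorQCoh.hasLTensorCx KW
  haveI iP : DCoh.HasLTensorCx P := Groth.Agent.H6.TensorQCoh.hasLTensorCx P
  obtain ⟨D, iD, hDsp, ⟨adjP⟩⟩ := Groth.Agent.H56.PerfDual.exists_derived_dual P a b hPab hPfree
  obtain ⟨φ⟩ := Groth.Agent.H6.TensorQCoh.nonempty_LTensorCx_iso KW P eP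
  let adjKW : DCoh.LTensorCx KW ⊣ DCoh.LTensorCx D := adjP.ofNatIsoLeft φ.symm
  haveI : DCoh.HasRSheafHom KW := ⟨⟨DCoh.LTensorCx D, ⟨adjKW⟩⟩⟩
  obtain ⟨r⟩ := Groth.Agent.S6515.result W K L
  let u : DCoh.RSheafHom KW ≅ DCoh.LTensorCx D := (DCoh.RSheafHomAdj KW).rightAdjointUniq adjKW
  have hLW : DCoh.IsQCohD ((DCoh.restrictD W.ι).obj L) := by
    intro j
    haveI h1 : (DCoh.HD L j).IsQuasicoherent := hL j
    have h2 : ((Scheme.Modules.restrictFunctor W.ι).obj (DCoh.HD L j)).IsQuasicoherent :=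
      Scheme.Modules.isQuasicoherent_restrictFunctor W.ι (DCoh.HD L j)
    exact Groth.Agent.H6.LpullQCoh.qc_of_iso
      (Groth.Agent.H31.LocalD.HDRestrictIso W L j).symm h2
  have hDq : DCoh.IsQCohD (DCoh.toD (W : Scheme.{u}) D) :=
    (Groth.Agent.H6.TensorQCoh.qc_iff D).1
      (fun j => Groth.Agent.H90.QH.isQCoh_homology_of_isStrictlyPerfect hDsp j)
  have hq : DCoh.IsQCohD ((DCoh.LTensorCx D).obj ((DCoh.restrictD W.ι).obj L)) :=
    Groth.Agent.H6.TensorQCoh.isQCohD_LTensorCx D hDq _ hLW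
  have h3 : (DCoh.HD ((DCoh.restrictD W.ι).obj ((DCoh.RSheafHom K).obj L)) i).IsQuasicoherent :=
    Groth.Agent.H6.LpullQCoh.qc_of_iso
      ((DerivedCategory.homologyFunctor _ i).mapIso (r ≪≫ u.app _).symm) (hq i)
  exact Groth.Agent.H6.LpullQCoh.qc_of_iso
    (Groth.Agent.H31.LocalD.HDRestrictIso W ((DCoh.RSheafHom K).obj L) i) h3

end Groth.Agent.S1114
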