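import Groth.Statements.S11141
import Groth.Agent.H62.ProdNormal
import Groth.Agent.H62.Shear

set_option autoImplicit false
universe u
open TensorProduct
open InvTh

namespace Groth.Agent.S11141

/-- Let k be a field, H a finitely generated commutative Hopf algebra over k (the coordinate ring of a
group scheme affine and of finite type over k), and S a commutative k-algebra which is
ring-isomorphic to a finite product of normal (integrally closed) domains and carries an H-comodule
structure whose coaction S → S ⊗ H is multiplicative and unital. Then the k-subalgebra of invariants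
of S, the elements s whose coaction is s ⊗ 1, is again ring-isomorphic to a finite product of normal
domains. -/
theorem result (k : Type u) [Field k]
    (H : Type u) [CommRing H] [HopfAlgebra k H] [Algebra.FiniteType k H]
    (S : Type u) [CommRing S] [Algebra k S] [HopfRep.Comod k H S]
    (hmul : ∀ x y : S, HopfRep.Comod.coact (k := k) (A := H) (x * y) =
        HopfRep.Comod.coact (k := k) (A := H) x * HopfRep.Comod.coact (k := k) (A := H) y)
    (hone : HopfRep.Comod.coact (k := k) (A := H) (1 : S) = 1)
    {ι : Type u} [Fintype ι] (D : ι → Type u) [∀ i, CommRing (D i)] [∀ i, IsDomain (D i)]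
    [∀ i, IsIntegrallyClosed (D i)] (e : S ≃+* Π i, D i)
    (A : Subalgebra k S)
    (hA : ∀ a : S, a ∈ A ↔ HopfRep.Comod.coact (k := k) (A := H) a = a ⊗ₜ[k] (1 : H)) :
    ∃ (κ : Type u) (_ : Fintype κ) (E : κ → Type u) (_ : ∀ j, CommRing (E j)) (_ : ∀ j, IsDomain (E j))
      (_ : ∀ j, IsIntegrallyClosed (E j)), Nonempty (A ≃+* Π j, E j) := by
  classical
  let ρR : S →+* S ⊗[k] H := (Groth.Agent.H62.Shear.coactAlg hmul hone).toRingHom
  let ιR : S →+* S ⊗[k] H := (Algebra.TensorProduct.includeLeft : S →ₐ[k] S ⊗[k] H).toRingHom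
  let F : Set ((Π i, D i) →+* S ⊗[k] H) := {ρR.comp e.symm.toRingHom, ιR.comp e.symm.toRingHom}
  let A' : Subring (Π i, D i) := A.toSubring.comap e.symm.toRingHom
  have hA' : ∀ a, a ∈ A' ↔ ∀ f ∈ F, ∀ f' ∈ F, f a = f' a := by
    intro a
    have hmem : a ∈ A' ↔ HopfRep.Comod.coact (k := k) (A := H) (e.symm a) =
        (e.symm a) ⊗ₜ[k] (1 : H) := by
      rw [← hA]; rfl
    rw [hmem]
    constructor
    · intro h f hf f' hf'
      simp only [F, Set.mem_insert_iff, Set.mem_singleton_iff] at hf hf'
      rcases hf with rfl | rfl <;> rcases hf' with rfl | rfl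
      · rfl
      · exact h
      · exact h.symm
      · rfl
    · intro h
      exact h _ (Set.mem_insert _ _) _ (Set.mem_insert_of_mem _ rfl)
  have hF : ∀ f ∈ F, ∀ s ∈ nonZeroDivisors (Π i, D i), f s ∈ nonZeroDivisors (S ⊗[k] H) := by
    intro f hf s hs
    have hs' : e.symm s ∈ nonZeroDivisors S := by
      apply mem_nonZeroDivisors_of_injective (f := e) e.injective
      rw [RingEquiv.apply_symm_apply]; exact hs
    simp only [F, Set.mem_insert_iff, Set.mem_singleton_iff] at hf
    rcases hf with rfl | rfl
    · exact Groth.Agent.H62.Shear.coact_mem_nonZeroDivisors hmul hone hs'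
    · exact Groth.Agent.H62.Shear.tmul_one_mem_nonZeroDivisors hs'
  obtain ⟨κ, hκ, E, hE1, hE2, hE3, ⟨φ⟩⟩ := Groth.Agent.H62.ProdNormal.main F A' hF hA'
  have eA : A ≃+* A' :=
    { toFun := fun x => ⟨e x, by
        show e.symm (e x) ∈ A
        rw [RingEquiv.symm_apply_apply]; exact x.2⟩
      invFun := fun y => ⟨e.symm y, y.2⟩
      left_inv := fun x => Subtype.ext (e.symm_apply_apply _)
      right_inv := fun y => Subtype.ext (e.apply_symm_apply _)
      map_mul' := fun x y => Subtype.ext (map_mul e _ _)
      map_add' := fun x y => Subtype.ext (map_add e _ _) }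
  exact ⟨κ, hκ, E, hE1, hE2, hE3, ⟨eA.trans φ⟩⟩

end Groth.Agent.S11141
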