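import Groth.Statements.S11142
import Mathlib.AlgebraicGeometry.Morphisms.UniversallyOpen

set_option autoImplicit false
universe u
open CategoryTheory AlgebraicGeometry
open FlatMor

namespace Groth.Agent.S11142

open TopologicalSpace in
/-- In a quasi-sober space in which every point has a Noetherian open neighbourhood, every point has
a generalization lying in a given dense open subset. -/
lemma exists_specializes_mem_of_dense {Y : Type*} [TopologicalSpace Y] [QuasiSober Y]
    (hY : ∀ y : Y, ∃ W : Set Y, IsOpen W ∧ y ∈ W ∧ NoetherianSpace W)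
    (U : Set Y) (hUo : IsOpen U) (hU : Dense U) (y : Y) : ∃ η : Y, η ⤳ y ∧ η ∈ U := by
  obtain ⟨W, hWo, hyW, hW⟩ := hY y
  let y₀ : W := ⟨y, hyW⟩
  obtain ⟨o, ho, hone, hoZ⟩ :=
    NoetherianSpace.exists_isOpen_nonempty_subset_irreducibleComponent
      (irreducibleComponent y₀) (irreducibleComponent_mem_irreducibleComponents y₀)
  have ho' : IsOpen (Subtype.val '' o : Set Y) := hWo.isOpenMap_subtype_val o ho
  obtain ⟨z, hzo, hzU⟩ := hU.inter_open_nonempty _ ho' (hone.image _)
  obtain ⟨y', hy'o, rfl⟩ := hzo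
  have hirr : IsIrreducible (Subtype.val '' irreducibleComponent y₀ : Set Y) :=
    isIrreducible_irreducibleComponent.image _ continuous_subtype_val.continuousOn
  have hgen := hirr.isGenericPoint_genericPoint_closure
  refine ⟨hirr.genericPoint, ?_, ?_⟩
  · exact hgen.specializes (subset_closure ⟨y₀, mem_irreducibleComponent, rfl⟩)
  · have : hirr.genericPoint ⤳ (y' : Y) :=
      hgen.specializes (subset_closure ⟨y', hoZ hy'o, rfl⟩)
    exact this.mem_open hUo hzU

/-- For a flat morphism f : X → Y between locally Noetherian schemes, the preimage under f of any dense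
open subset of Y is dense in X. -/
theorem result (X Y : Scheme.{u}) [IsLocallyNoetherian X]
    [IsLocallyNoetherian Y] (f : X ⟶ Y) [Flat f] (U : Y.Opens) (hU : Dense (U : Set Y)) :
    Dense ((f ⁻¹ᵁ U : X.Opens) : Set X) := by
  rw [dense_iff_inter_open]
  intro V hVo ⟨x, hxV⟩
  have hY : ∀ y : Y, ∃ W : Set Y, IsOpen W ∧ y ∈ W ∧ TopologicalSpace.NoetherianSpace W := by
    intro y
    obtain ⟨W, hW, hyW, -⟩ := exists_isAffineOpen_mem_and_subset (X := Y) (x := y) (U := ⊤) trivial
    have := IsLocallyNoetherian.component_noetherian (X := Y) ⟨W, hW⟩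
    exact ⟨W, W.isOpen, hyW, noetherianSpace_of_isAffineOpen W hW⟩
  obtain ⟨η, hη, hηU⟩ := exists_specializes_mem_of_dense hY U U.isOpen hU (f.base x)
  obtain ⟨x', hx'x, hfx'⟩ := Flat.generalizingMap f hη
  exact ⟨x', hx'x.mem_open hVo hxV, by
    change f.base x' ∈ U
    rw [hfx']; exact hηU⟩

end Groth.Agent.S11142
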