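import Groth.Statements.S11147
import Mathlib
import Groth.Agent.S16001

set_option autoImplicit false
universe u
open FrobAlg
open TensorProduct

namespace Groth.Agent.S11147

/-- Let p be a prime and k ⊆ K fields of characteristic p such that K is finitely generated over k as a
field. Then the relative Frobenius ring homomorphism K ⊗_{k,Frob} k → K, b ⊗ a ↦ b^p a (the
Radu–André homomorphism of k → K), is bijective exactly when K is algebraic over k and every element
of K is separable over k. -/
theorem result (p : ℕ) [Fact p.Prime] (k K : Type u) [Field k]
    [Field K] [Algebra k K] [CharP k p] [CharP K p] (hfg : (⊤ : IntermediateField k K).FG) :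
    Function.Bijective (FrobAlg.relFrob p k K) ↔ Algebra.IsSeparable k K := by
  have : Algebra.EssFiniteType k K := IntermediateField.fg_top_iff.mp hfg
  constructor
  · intro h
    have : Algebra.FormallyEtale k K := Groth.Agent.S16001.result p k K h
    have : Algebra.FormallyUnramified k K := inferInstance
    exact Algebra.FormallyUnramified.isSeparable k K
  · intro hsep
    have := hsep
    have : ExpChar k p := ExpChar.prime (Fact.out : p.Prime)
    let b : Module.Basis (Module.Free.ChooseBasisIndex k K) k K := Module.Free.chooseBasis k K
    let b' := b.mapPowExpCharPowOfIsSeparable p 1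
    have hb' : ∀ i, b' i = b i ^ p := by
      intro i
      simp [b', Module.Basis.mapPowExpCharPowOfIsSeparable]
    let e : K ⊗[k] FrobAlg.Twist p k ≃ₗ[k] (Module.Free.ChooseBasisIndex k K →₀ FrobAlg.Twist p k) :=
      (TensorProduct.congr b.repr (LinearEquiv.refl k (FrobAlg.Twist p k))) ≪≫ₗ
        TensorProduct.finsuppScalarLeft k (FrobAlg.Twist p k) _
    let m : (Module.Free.ChooseBasisIndex k K →₀ FrobAlg.Twist p k) ≃+
        (Module.Free.ChooseBasisIndex k K →₀ k) :=
      Finsupp.mapRange.addEquiv ((FrobAlg.toTwist p k).symm : FrobAlg.Twist p k ≃+ k)
    have key : ∀ z, FrobAlg.relFrob p k K z = b'.repr.symm (m (e z)) := by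
      intro z
      induction z using TensorProduct.induction_on with
      | zero => simp
      | add x y hx hy => rw [map_add, map_add, map_add, map_add, hx, hy]
      | tmul x t =>
        rw [Groth.Agent.S16001.relFrob_tmul]
        have he : e (x ⊗ₜ[k] t) = (b.repr x).sum fun i c => Finsupp.single i (c • t) := by
          simp only [e, LinearEquiv.trans_apply, TensorProduct.congr_tmul, LinearEquiv.refl_apply]
          exact TensorProduct.finsuppScalarLeft_apply_tmul _ _
        rw [he, Finsupp.sum, map_sum, map_sum]
        have hx : x = ∑ i ∈ (b.repr x).support, (b.repr x i) • b i := by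
          conv_lhs => rw [← b.linearCombination_repr x, Finsupp.linearCombination_apply,
            Finsupp.sum]
        conv_lhs => rw [hx, sum_pow_char p, Finset.sum_mul]
        refine Finset.sum_congr rfl fun i _ => ?_
        have h1 : m (Finsupp.single i ((b.repr x i) • t)) =
            Finsupp.single i ((b.repr x i) ^ p * (FrobAlg.toTwist p k).symm t) := by
          simp only [m, Finsupp.mapRange.addEquiv_apply, Finsupp.mapRange_single]
          congr 1
        rw [h1, Module.Basis.repr_symm_single, hb', Algebra.smul_def, Algebra.smul_def, map_mul,
          map_pow, mul_pow]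
        ring
    have hbij : Function.Bijective fun z => b'.repr.symm (m (e z)) :=
      (b'.repr.symm.bijective.comp m.bijective).comp e.bijective
    have : (FrobAlg.relFrob p k K : K ⊗[k] FrobAlg.Twist p k → K) =
        fun z => b'.repr.symm (m (e z)) := funext key
    rw [this]
    exact hbij

end Groth.Agent.S11147
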