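import Groth.Statements.S11153
import Groth.Agent.H56.InjAmp
-- import your own Groth.Agent.* helpers here

set_option autoImplicit false
universe w v u
open CategoryTheory CategoryTheory.Limits
open CohDer

namespace Groth.Agent.S11153

/-- (i) ⇔ (iii): let A be an abelian category with enough injectives and K a bounded below cochain
complex of objects of A. Then K admits a quasi-isomorphism into a bounded complex of injective
objects of A if and only if there is an integer n₀ such that Hom_{D(A)}(Y[0], K[i]) = 0 for every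
object Y of A and every i > n₀. -/
theorem result {A : Type u} [Category.{v} A] [Abelian A]
    [HasDerivedCategory.{w} A] [EnoughInjectives A]
    (K : CochainComplex A ℤ) (a : ℤ) [K.IsStrictlyGE a] :
    (∃ (I : CochainComplex A ℤ) (b c : ℤ) (f : K ⟶ I), I.IsStrictlyGE b ∧ I.IsStrictlyLE c ∧
        (∀ n : ℤ, Injective (I.X n)) ∧ QuasiIso f) ↔
      ∃ n₀ : ℤ, ∀ (Y : A) (i : ℤ), n₀ < i →
        ∀ φ : (DerivedCategory.singleFunctor A 0).obj Y ⟶ (DerivedCategory.Q.obj K)⟦i⟧, φ = 0 := by
  constructor
  · rintro ⟨I, b, c, f, hIb, hIc, hinj, hf⟩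
    refine ⟨c, fun Y i hi => ?_⟩
    rw [Groth.Agent.H56.single_hom_shift_vanishing_iff]
    intro ψ
    haveI := hinj
    have : I.IsKInjective := CochainComplex.isKInjective_of_injective I b
    have : IsIso (DerivedCategory.Q.map f) := by
      rw [DerivedCategory.isIso_Q_map_iff_quasiIso]; exact hf
    have h0 := Groth.Agent.H56.single_hom_Q_eq_zero_of_isZero I Y i
      (I.isZero_of_isStrictlyLE c i hi) (ψ ≫ DerivedCategory.Q.map f)
    rw [← cancel_mono (DerivedCategory.Q.map f), h0, zero_comp]
  · rintro ⟨n₀, h⟩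
    have hv : ∀ (Y : A) (i : ℤ), n₀ < i →
        ∀ ψ : (DerivedCategory.singleFunctor A i).obj Y ⟶ DerivedCategory.Q.obj K, ψ = 0 :=
      fun Y i hi => (Groth.Agent.H56.single_hom_shift_vanishing_iff Y _ i).1 (h Y i hi)
    obtain ⟨I, f, h1, h2, h3, h4⟩ := Groth.Agent.H56.exists_quasiIso_bounded_injective K a n₀ hv
    exact ⟨I, a, n₀, f, h1, h2, h3, h4⟩

end Groth.Agent.S11153
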