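import Groth.Statements.S11159
import Groth.Agent.H56.InjAmp
-- import your own Groth.Agent.* helpers here

set_option autoImplicit false
universe w v u
open CategoryTheory CategoryTheory.Limits CategoryTheory.Pretriangulated
open CohDer

namespace Groth.Agent.S11159

/-- Let A be an abelian category with enough injectives and X ⟶ Y ⟶ Z ⟶ X⟦1⟧ a distinguished triangle in
D(A). If X and Z are each isomorphic in D(A) to a bounded complex of injective objects of A, then so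
is Y. -/
theorem result {A : Type u} [Category.{v} A] [Abelian A]
    [HasDerivedCategory.{w} A] [EnoughInjectives A]
    (T : Triangle (DerivedCategory A)) (hT : T ∈ distTriang (DerivedCategory A))
    (h₁ : (∃ (I : CochainComplex A ℤ) (b c : ℤ), I.IsStrictlyGE b ∧ I.IsStrictlyLE c ∧
        (∀ n : ℤ, Injective (I.X n)) ∧ Nonempty (T.obj₁ ≅ DerivedCategory.Q.obj I)))
    (h₃ : (∃ (I : CochainComplex A ℤ) (b c : ℤ), I.IsStrictlyGE b ∧ I.IsStrictlyLE c ∧
        (∀ n : ℤ, Injective (I.X n)) ∧ Nonempty (T.obj₃ ≅ DerivedCategory.Q.obj I))) :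
    (∃ (I : CochainComplex A ℤ) (b c : ℤ), I.IsStrictlyGE b ∧ I.IsStrictlyLE c ∧
        (∀ n : ℤ, Injective (I.X n)) ∧ Nonempty (T.obj₂ ≅ DerivedCategory.Q.obj I)) := by
  obtain ⟨I₁, b₁, c₁, hb₁, hc₁, hinj₁, ⟨e₁⟩⟩ := h₁
  obtain ⟨I₃, b₃, c₃, hb₃, hc₃, hinj₃, ⟨e₃⟩⟩ := h₃
  haveI := hinj₁
  haveI := hinj₃
  have k₁ : I₁.IsKInjective := CochainComplex.isKInjective_of_injective I₁ b₁
  have k₃ : I₃.IsKInjective := CochainComplex.isKInjective_of_injective I₃ b₃
  have g₁ : DerivedCategory.TStructure.t.IsGE T.obj₁ (min b₁ b₃) := by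
    have h0 : DerivedCategory.TStructure.t.IsGE (DerivedCategory.Q.obj I₁) b₁ :=
      inferInstanceAs ((DerivedCategory.Q.obj I₁).IsGE b₁)
    have h1 : DerivedCategory.TStructure.t.IsGE T.obj₁ b₁ :=
      DerivedCategory.TStructure.t.isGE_of_iso e₁.symm b₁
    exact DerivedCategory.TStructure.t.isGE_of_ge _ (min b₁ b₃) b₁ (min_le_left _ _)
  have g₃ : DerivedCategory.TStructure.t.IsGE T.obj₃ (min b₁ b₃) := by
    have h0 : DerivedCategory.TStructure.t.IsGE (DerivedCategory.Q.obj I₃) b₃ :=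
      inferInstanceAs ((DerivedCategory.Q.obj I₃).IsGE b₃)
    have h1 : DerivedCategory.TStructure.t.IsGE T.obj₃ b₃ :=
      DerivedCategory.TStructure.t.isGE_of_iso e₃.symm b₃
    exact DerivedCategory.TStructure.t.isGE_of_ge _ (min b₁ b₃) b₃ (min_le_right _ _)
  have g₂ : T.obj₂.IsGE (min b₁ b₃) := DerivedCategory.TStructure.t.isGE₂ T hT _ g₁ g₃
  obtain ⟨K, hK, ⟨e⟩⟩ := T.obj₂.exists_iso_Q_obj_of_isGE (min b₁ b₃)
  have hv : ∀ (Y : A) (i : ℤ), max c₁ c₃ < i →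
      ∀ ψ : (DerivedCategory.singleFunctor A i).obj Y ⟶ DerivedCategory.Q.obj K, ψ = 0 := by
    intro Y i hi ψ
    have hi₁ : c₁ < i := lt_of_le_of_lt (le_max_left _ _) hi
    have hi₃ : c₃ < i := lt_of_le_of_lt (le_max_right _ _) hi
    have h3 : (ψ ≫ e.inv) ≫ T.mor₂ = 0 := by
      have h0 := Groth.Agent.H56.single_hom_Q_eq_zero_of_isZero I₃ Y i
        (I₃.isZero_of_isStrictlyLE c₃ i hi₃) (((ψ ≫ e.inv) ≫ T.mor₂) ≫ e₃.hom)
      rw [← cancel_mono e₃.hom, zero_comp]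
      exact h0
    obtain ⟨φ, hφ⟩ := Triangle.coyoneda_exact₂ T hT (ψ ≫ e.inv) h3
    have h1 : φ = 0 := by
      have h0 := Groth.Agent.H56.single_hom_Q_eq_zero_of_isZero I₁ Y i
        (I₁.isZero_of_isStrictlyLE c₁ i hi₁) (φ ≫ e₁.hom)
      rw [← cancel_mono e₁.hom, zero_comp]
      exact h0
    rw [h1, zero_comp] at hφ
    rw [← cancel_mono e.inv, zero_comp]
    exact hφ
  obtain ⟨I, f, i1, i2, i3, i4⟩ :=
    Groth.Agent.H56.exists_quasiIso_bounded_injective K (min b₁ b₃) (max c₁ c₃) hv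
  have : IsIso (DerivedCategory.Q.map f) := by
    rw [DerivedCategory.isIso_Q_map_iff_quasiIso]; exact i4
  exact ⟨I, min b₁ b₃, max c₁ c₃, i1, i2, i3, ⟨e ≪≫ asIso (DerivedCategory.Q.map f)⟩⟩

end Groth.Agent.S11159
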