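import Groth.Statements.S1116
import Groth.Agent.H56.PCohRHomCoh
-- import your own Groth.Agent.* helpers here

set_option autoImplicit false
universe u
open CategoryTheory CategoryTheory.Limits AlgebraicGeometry Opposite
attribute [local instance] HasDerivedCategory.standard
open Perf

namespace Groth.Agent.S1116

/-- Let X be a locally Noetherian scheme, K a cochain complex of O_X-modules whose image in D(O_X) is
bounded above with coherent cohomology sheaves, and L ∈ D(O_X) bounded below with coherent
cohomology sheaves. Assuming - ⊗^L K and RHom(K, -) exist, RHom(K, L) is bounded below with coherent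
cohomology sheaves. -/
theorem result (X : Scheme.{u}) [IsLocallyNoetherian X] (K : CochainComplex X.Modules ℤ) (b : ℤ) [(DCoh.toD X K).IsLE b]
    (hK : DCoh.IsCohD (DCoh.toD X K)) [DCoh.HasLTensorCx K] [DCoh.HasRSheafHom K] (L : DCoh.D X) (a : ℤ) [L.IsGE a] (hL : DCoh.IsCohD L) :
    DCoh.IsCohD ((DCoh.RSheafHom K).obj L) ∧ ∃ a' : ℤ, ((DCoh.RSheafHom K).obj L).IsGE a' := by
  constructor
  · intro i
    have hpc := Groth.Agent.PC.isPseudoCoherentD_of_isCohD (DCoh.toD X K) b hK (a - i - 2)
    exact Groth.Agent.H56.PCohRHom.isCoh_HD_RSheafHom K (a - i - 2) hpc L hL a (a - i - 2)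
      (fun Z C _ N k hC hN => Groth.Agent.H56.PCohRHom.bound_lossy (a - i - 2) Z C N k hC hN)
      i (by omega)
  · exact ⟨a - b - 1, Groth.Agent.H56.PCohRHom.isGE_RSheafHom K b L a⟩

end Groth.Agent.S1116
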