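import Groth.Statements.S11160
import Mathlib.Algebra.Homology.DerivedCategory.KInjective
import Mathlib.Algebra.Homology.Factorizations.CM5a
import Mathlib.Algebra.Homology.DerivedCategory.TStructure
import Mathlib.Algebra.Homology.DerivedCategory.ExactFunctor
import Mathlib.Algebra.Homology.Embedding.CochainComplex
-- import your own Groth.Agent.* helpers here

set_option autoImplicit false
universe w w' v v' u u'
open CategoryTheory CategoryTheory.Limits
open CohDer

namespace Groth.Agent.S11160


section helpers
variable {C : Type*} {D : Type*} [Category C] [Category D]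

lemma map_bijective_of_iso (F : C ⥤ D) {X X' Y Y' : C} (eX : X ≅ X') (eY : Y ≅ Y')
    (h : Function.Bijective (fun f : X ⟶ Y => F.map f)) :
    Function.Bijective (fun f : X' ⟶ Y' => F.map f) := by
  have : (fun f : X' ⟶ Y' => F.map f) =
      (fun g => F.map eX.inv ≫ g ≫ F.map eY.hom) ∘ (fun f : X ⟶ Y => F.map f) ∘
        (fun f => eX.hom ≫ f ≫ eY.inv) := by
    funext f
    dsimp only [Function.comp]
    rw [← F.map_comp, ← F.map_comp]
    congr 1
    simp
  rw [this]
  refine Function.Bijective.comp ?_ (Function.Bijective.comp h ?_)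
  · exact (Iso.homCongr (F.mapIso eX) (F.mapIso eY)).bijective
  · exact (Iso.homCongr eX.symm eY.symm).bijective

lemma map_bijective_of_natIso {F G : C ⥤ D} (e : F ≅ G) {X Y : C}
    (h : Function.Bijective (fun f : X ⟶ Y => F.map f)) :
    Function.Bijective (fun f : X ⟶ Y => G.map f) := by
  have : (fun f : X ⟶ Y => G.map f) =
      (fun g => e.inv.app X ≫ g ≫ e.hom.app Y) ∘ (fun f : X ⟶ Y => F.map f) := by
    funext f
    simp
  rw [this]
  exact Function.Bijective.comp (Iso.homCongr (e.app X) (e.app Y)).bijective h

end helpers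

/-- Let ι : A' ⥤ A be an exact fully faithful functor of abelian categories whose essential image is
closed under extensions (a thick abelian subcategory), and suppose every object of A' admits a
monomorphism into an object of A' whose image in A is injective (A' has enough A-injectives). Then
the induced triangulated functor D(A') ⥤ D(A) is fully faithful on cohomologically bounded below
objects. -/
theorem result {A' : Type u'} [Category.{v'} A'] [Abelian A'] [HasDerivedCategory.{w'} A']
    {A : Type u} [Category.{v} A] [Abelian A] [HasDerivedCategory.{w} A]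
    (ι : A' ⥤ A) [ι.Additive] [PreservesFiniteLimits ι] [PreservesFiniteColimits ι] [ι.Full] [ι.Faithful]
    (hext : ∀ S : ShortComplex A, S.ShortExact → ι.essImage S.X₁ → ι.essImage S.X₃ → ι.essImage S.X₂)
    (hinj : ∀ X' : A', ∃ (Y' : A') (i : X' ⟶ Y'), Mono i ∧ Injective (ι.obj Y'))
    (X Y : DerivedCategory A') (a b : ℤ) [X.IsGE a] [Y.IsGE b] :
    Function.Bijective (fun f : X ⟶ Y => ι.mapDerivedCategory.map f) := by
  have hInj' : ∀ Y' : A', Injective (ι.obj Y') → Injective Y' :=
    fun Y' h => ι.injective_of_map_injective h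
  have : EnoughInjectives A' := ⟨fun X' => by
    obtain ⟨Y', i, hi, hY'⟩ := hinj X'
    exact ⟨{ J := Y', injective := hInj' Y' hY', f := i, mono := hi }⟩⟩
  have hInj : ∀ J : A', Injective J → Injective (ι.obj J) := by
    intro J hJ
    obtain ⟨Y', i, hi, hY'⟩ := hinj J
    have r : Retract (ι.obj J) (ι.obj Y') :=
      { i := ι.map i
        r := ι.map (Injective.factorThru (𝟙 J) i)
        retract := by rw [← ι.map_comp, Injective.comp_factorThru, ι.map_id] }
    exact r.injective
  obtain ⟨K, hK, ⟨eY⟩⟩ := Y.exists_iso_Q_obj_of_isGE b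
  obtain ⟨I, f, hf, hI, hIb⟩ := CochainComplex.Plus.modelCategoryQuillen.exists_quasiIso_injective K b
  have : I.IsKInjective := CochainComplex.isKInjective_of_injective I b
  have : CochainComplex.IsStrictlyGE ((ι.mapHomologicalComplex (ComplexShape.up ℤ)).obj I) b :=
    (CochainComplex.isStrictlyGE_mapHomologicalComplex_obj_iff I ι b).mpr hIb
  have : ∀ n : ℤ, Injective (((ι.mapHomologicalComplex (ComplexShape.up ℤ)).obj I).X n) :=
    fun n => hInj _ (hI n)
  have : CochainComplex.IsKInjective ((ι.mapHomologicalComplex (ComplexShape.up ℤ)).obj I) :=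
    CochainComplex.isKInjective_of_injective _ b
  have eY' : Y ≅ DerivedCategory.Qh.obj ((HomotopyCategory.quotient _ _).obj I) :=
    eY ≪≫ asIso (DerivedCategory.Q.map f) ≪≫ ((DerivedCategory.quotientCompQhIso A').app I).symm
  have eX : DerivedCategory.Qh.obj (DerivedCategory.Qh.objPreimage X) ≅ X :=
    DerivedCategory.Qh.objObjPreimageIso X
  refine map_bijective_of_iso ι.mapDerivedCategory eX eY'.symm ?_
  have h1 : Function.Bijective (fun g : DerivedCategory.Qh.objPreimage X ⟶
      (HomotopyCategory.quotient _ _).obj I => DerivedCategory.Qh.map g) :=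
    CochainComplex.IsKInjective.Qh_map_bijective _ I
  have h2 : Function.Bijective (fun g : DerivedCategory.Qh.objPreimage X ⟶
      (HomotopyCategory.quotient _ _).obj I =>
        (ι.mapHomotopyCategory (ComplexShape.up ℤ)).map g) :=
    ⟨(ι.mapHomotopyCategory (ComplexShape.up ℤ)).map_injective,
      (ι.mapHomotopyCategory (ComplexShape.up ℤ)).map_surjective⟩
  have h3 : Function.Bijective (fun g :
      (ι.mapHomotopyCategory (ComplexShape.up ℤ)).obj (DerivedCategory.Qh.objPreimage X) ⟶
      (ι.mapHomotopyCategory (ComplexShape.up ℤ)).obj ((HomotopyCategory.quotient _ _).obj I) =>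
        DerivedCategory.Qh.map g) :=
    map_bijective_of_iso DerivedCategory.Qh (Iso.refl _)
      ((ι.mapHomotopyCategoryFactors (ComplexShape.up ℤ)).app I).symm
      (CochainComplex.IsKInjective.Qh_map_bijective _
        ((ι.mapHomologicalComplex (ComplexShape.up ℤ)).obj I))
  have h4 : Function.Bijective (fun g : DerivedCategory.Qh.objPreimage X ⟶
      (HomotopyCategory.quotient _ _).obj I =>
        (ι.mapHomotopyCategory (ComplexShape.up ℤ) ⋙ DerivedCategory.Qh).map g) :=
    by
      have := Function.Bijective.comp h3 h2
      exact this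
  have h5 : Function.Bijective (fun g : DerivedCategory.Qh.objPreimage X ⟶
      (HomotopyCategory.quotient _ _).obj I =>
        (DerivedCategory.Qh ⋙ ι.mapDerivedCategory).map g) :=
    map_bijective_of_natIso ι.mapDerivedCategoryFactorsh.symm h4
  exact (Function.Bijective.of_comp_iff _ h1).mp h5

end Groth.Agent.S11160
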