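import Groth.Statements.S11161
import Mathlib
-- import your own Groth.Agent.* helpers here

set_option autoImplicit false
universe w w' v v' u u'
open CategoryTheory CategoryTheory.Limits
open CohDer
open ZeroObject

namespace Groth.Agent.S11161

/-! ### A pushout package in an abelian category -/

section PO

variable {A : Type u} [Category.{v} A] [Abelian A]

lemma pushout_pkg {C X C' H Y : A} (c : C ⟶ X) (p : X ⟶ C') (h : H ⟶ C) (γ : C ⟶ Y)
    (hcp : c ≫ p = 0) (hex : (ShortComplex.mk c p hcp).Exact)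
    (hhc : h ≫ c = 0) (hexh : (ShortComplex.mk h c hhc).Exact) :
    ∃ (P : A) (i₁ : Y ⟶ P) (i₂ : X ⟶ P) (r : P ⟶ C'),
      γ ≫ i₁ = c ≫ i₂ ∧ i₁ ≫ r = 0 ∧ i₂ ≫ r = p ∧
      (∀ {T : A} (d : T ⟶ Y), d ≫ i₁ = 0 →
        ∃ (T' : A) (π : T' ⟶ T) (_ : Epi π) (k' : T' ⟶ H), π ≫ d = k' ≫ h ≫ γ) ∧
      (∀ {T : A} (x : T ⟶ P), x ≫ r = 0 →
        ∃ (T' : A) (π : T' ⟶ T) (_ : Epi π) (d : T' ⟶ Y), π ≫ x = d ≫ i₁) := by
  let b : C ⟶ Y ⊞ X := biprod.lift γ (-c)
  have hbfst : b ≫ (biprod.fst : Y ⊞ X ⟶ Y) = γ := biprod.lift_fst _ _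
  have hbsnd : b ≫ (biprod.snd : Y ⊞ X ⟶ X) = -c := biprod.lift_snd _ _
  have hb_desc : b ≫ biprod.desc (0 : Y ⟶ C') p = 0 := by
    show biprod.lift γ (-c) ≫ biprod.desc (0 : Y ⟶ C') p = 0
    rw [biprod.lift_desc, comp_zero, Preadditive.neg_comp, hcp, neg_zero, add_zero]
  have hπr : cokernel.π b ≫ cokernel.desc b (biprod.desc 0 p) hb_desc = biprod.desc 0 p :=
    cokernel.π_desc _ _ _
  have hsq : γ ≫ (biprod.inl ≫ cokernel.π b) = c ≫ (biprod.inr ≫ cokernel.π b) := by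
    have h0 : (γ ≫ biprod.inl + (-c) ≫ biprod.inr) ≫ cokernel.π b = 0 := by
      rw [← biprod.lift_eq]; exact cokernel.condition b
    rw [Preadditive.add_comp, Category.assoc, Category.assoc, Preadditive.neg_comp,
      ← sub_eq_add_neg, sub_eq_zero] at h0
    exact h0
  refine ⟨cokernel b, biprod.inl ≫ cokernel.π b, biprod.inr ≫ cokernel.π b,
    cokernel.desc b (biprod.desc 0 p) hb_desc, hsq, ?_, ?_, ?_, ?_⟩
  · rw [Category.assoc, hπr, biprod.inl_desc]
  · rw [Category.assoc, hπr, biprod.inr_desc]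
  · intro T d hd
    have hd' : (d ≫ biprod.inl) ≫ cokernel.π b = 0 := (Category.assoc _ _ _).trans hd
    obtain ⟨T₁, π₁, hπ₁, k, hk⟩ :=
      (ShortComplex.exact_cokernel b).exact_up_to_refinements (d ≫ biprod.inl) hd'
    have hk' : π₁ ≫ d ≫ biprod.inl = k ≫ b := hk
    have hk1 : π₁ ≫ d = k ≫ γ := by
      have h1 : (π₁ ≫ d ≫ biprod.inl) ≫ (biprod.fst : Y ⊞ X ⟶ Y) = (k ≫ b) ≫ biprod.fst := by
        rw [hk']
      rw [Category.assoc, Category.assoc, biprod.inl_fst, Category.comp_id, Category.assoc,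
        hbfst] at h1
      exact h1
    have hk2 : k ≫ c = 0 := by
      have h2 : (π₁ ≫ d ≫ biprod.inl) ≫ (biprod.snd : Y ⊞ X ⟶ X) = (k ≫ b) ≫ biprod.snd := by
        rw [hk']
      rw [Category.assoc, Category.assoc, biprod.inl_snd, comp_zero, comp_zero, Category.assoc,
        hbsnd, Preadditive.comp_neg] at h2
      exact neg_eq_zero.mp h2.symm
    obtain ⟨T₂, π₂, hπ₂, k', hk''⟩ := hexh.exact_up_to_refinements k hk2
    have hk3 : π₂ ≫ k = k' ≫ h := hk''
    refine ⟨T₂, π₂ ≫ π₁, inferInstance, k', ?_⟩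
    rw [Category.assoc, hk1, reassoc_of% hk3]
  · intro T x hx
    obtain ⟨T₁, π₁, hπ₁, y, hy⟩ := surjective_up_to_refinements_of_epi (cokernel.π b) x
    have h4 : biprod.desc (0 : Y ⟶ C') p = biprod.snd ≫ p := by
      ext
      · simp
      · simp
    have hy2 : (y ≫ biprod.snd) ≫ p = 0 := by
      have h5 : y ≫ cokernel.π b ≫ cokernel.desc b (biprod.desc 0 p) hb_desc = 0 := by
        rw [← Category.assoc, ← hy, Category.assoc, hx, comp_zero]
      rw [hπr, h4] at h5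
      rw [Category.assoc]; exact h5
    obtain ⟨T₂, π₂, hπ₂, k, hk⟩ := hex.exact_up_to_refinements (y ≫ biprod.snd) hy2
    have hk' : π₂ ≫ y ≫ biprod.snd = k ≫ c := hk
    refine ⟨T₂, π₂ ≫ π₁, inferInstance, π₂ ≫ y ≫ biprod.fst + k ≫ γ, ?_⟩
    have hdec : π₂ ≫ y = (π₂ ≫ y ≫ biprod.fst) ≫ biprod.inl + (k ≫ c) ≫ biprod.inr := by
      rw [← hk']
      simp only [Category.assoc]
      rw [← Preadditive.comp_add, ← Preadditive.comp_add, biprod.total, Category.comp_id]
    have e1 : (π₂ ≫ π₁) ≫ x = (π₂ ≫ y) ≫ cokernel.π b := by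
      rw [Category.assoc, hy, Category.assoc]
    have e2 : ((π₂ ≫ y ≫ biprod.fst) ≫ biprod.inl) ≫ cokernel.π b =
        (π₂ ≫ y ≫ biprod.fst) ≫ (biprod.inl ≫ cokernel.π b) := Category.assoc _ _ _
    have e3 : ((k ≫ c) ≫ biprod.inr) ≫ cokernel.π b = (k ≫ γ) ≫ (biprod.inl ≫ cokernel.π b) := by
      rw [Category.assoc, Category.assoc, Category.assoc, hsq]
    rw [e1, hdec, Preadditive.add_comp, Preadditive.add_comp, e2, e3]

end PO

/-! ### The abstract inductive step -/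

section Abs

variable {A' : Type u'} [Category.{v'} A'] [Abelian A']
  {A : Type u} [Category.{v} A] [Abelian A]
  (ι : A' ⥤ A) [ι.Additive] [PreservesFiniteLimits ι] [PreservesFiniteColimits ι]
  [ι.Full] [ι.Faithful]

lemma essImage_cokernel {X Y : A} (f : X ⟶ Y) (hX : ι.essImage X) (hY : ι.essImage Y) :
    ι.essImage (cokernel f) := by
  obtain ⟨X₀, ⟨eX⟩⟩ := hX
  obtain ⟨Y₀, ⟨eY⟩⟩ := hY
  have hf₀ : ι.map (ι.preimage (eX.hom ≫ f ≫ eY.inv)) = eX.hom ≫ f ≫ eY.inv :=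
    ι.map_preimage _
  refine Functor.essImage.ofIso (PreservesCokernel.iso ι (ι.preimage (eX.hom ≫ f ≫ eY.inv)) ≪≫
    cokernel.mapIso _ f eX eY ?_) (ι.obj_mem_essImage _)
  rw [hf₀]; simp

theorem step_abs
    (hext : ∀ S : ShortComplex A, S.ShortExact → ι.essImage S.X₁ → ι.essImage S.X₃ →
      ι.essImage S.X₂)
    (hinj : ∀ X' : A', ∃ (Y' : A') (i : X' ⟶ Y'), Mono i ∧ Injective (ι.obj Y'))
    {C X C' H H' : A} (c : C ⟶ X) (p : X ⟶ C') (h : H ⟶ C) (h' : H' ⟶ C')
    (hcp : c ≫ p = 0) (hex : (ShortComplex.mk c p hcp).Exact) (hp : Epi p)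
    (hhc : h ≫ c = 0) (hexh : (ShortComplex.mk h c hhc).Exact)
    (hh' : Mono h') (hH : ι.essImage H) (hH' : ι.essImage H')
    (D : A') (γ : C ⟶ ι.obj D) :
    ∃ (J : A') (u : D ⟶ J) (φ : X ⟶ ι.obj J) (D' : A') (q : J ⟶ D') (γ' : C' ⟶ ι.obj D'),
      Injective (ι.obj J) ∧ Epi q ∧ (∃ w : u ≫ q = 0, (ShortComplex.mk u q w).Exact) ∧
      c ≫ φ = γ ≫ ι.map u ∧ p ≫ γ' = φ ≫ ι.map q ∧
      (∃ z : (h ≫ γ) ≫ ι.map u = 0, (ShortComplex.mk (h ≫ γ) (ι.map u) z).Exact) ∧
      Mono (h' ≫ γ') := by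
  have := hp
  have := hh'
  obtain ⟨P, i₁, i₂, r, hsq, hi₁r, hi₂r, PO1, PO2⟩ := pushout_pkg c p h γ hcp hex hhc hexh
  haveI : Epi r := epi_of_epi_fac hi₂r
  let j : pullback r h' ⟶ P := pullback.fst r h'
  let r' : pullback r h' ⟶ H' := pullback.snd r h'
  have hjr : j ≫ r = r' ≫ h' := pullback.condition
  haveI hj : Mono j := inferInstanceAs (Mono (pullback.fst r h'))
  haveI hr' : Epi r' := inferInstanceAs (Epi (pullback.snd r h'))
  let i₁' : ι.obj D ⟶ pullback r h' := pullback.lift i₁ 0 (by rw [hi₁r, zero_comp])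
  have hi₁'j : i₁' ≫ j = i₁ := pullback.lift_fst _ _ _
  have hi₁'r' : i₁' ≫ r' = 0 := pullback.lift_snd _ _ _
  have hE0 : (h ≫ γ) ≫ i₁' = 0 := by
    rw [← cancel_mono j]
    simp only [Category.assoc, zero_comp]
    rw [hi₁'j, hsq, reassoc_of% hhc, zero_comp]
  let e : cokernel (h ≫ γ) ⟶ pullback r h' := cokernel.desc (h ≫ γ) i₁' hE0
  have hπe : cokernel.π (h ≫ γ) ≫ e = i₁' := cokernel.π_desc _ _ _
  have hcok0 : h ≫ γ ≫ cokernel.π (h ≫ γ) = 0 := by
    rw [← Category.assoc]; exact cokernel.condition _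
  have her' : e ≫ r' = 0 := by
    rw [← cancel_epi (cokernel.π (h ≫ γ)), ← Category.assoc, hπe, hi₁'r', comp_zero]
  have hme : Mono e := by
    rw [Preadditive.mono_iff_cancel_zero]
    intro T x hx
    obtain ⟨T₁, π₁, hπ₁, d, hd⟩ :=
      surjective_up_to_refinements_of_epi (cokernel.π (h ≫ γ)) x
    have hd1 : d ≫ i₁ = 0 := by
      have hd0 : d ≫ i₁' = 0 := by
        rw [← hπe, ← Category.assoc, ← hd, Category.assoc, hx, comp_zero]
      rw [← hi₁'j, ← Category.assoc, hd0, zero_comp]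
    obtain ⟨T₂, π₂, hπ₂, k', hk'⟩ := PO1 d hd1
    have h0 : (π₂ ≫ π₁) ≫ x = 0 := by
      rw [Category.assoc, hd, reassoc_of% hk', hcok0, comp_zero]
    exact (cancel_epi (π₂ ≫ π₁)).mp (h0.trans comp_zero.symm)
  have hEx : (ShortComplex.mk e r' her').Exact := by
    rw [ShortComplex.exact_iff_exact_up_to_refinements]
    intro T x hx
    have hx' : x ≫ r' = 0 := hx
    have hxr : (x ≫ j) ≫ r = 0 := by
      rw [Category.assoc, hjr, reassoc_of% hx', zero_comp]
    obtain ⟨T₁, π₁, hπ₁, d, hd⟩ := PO2 (x ≫ j) hxr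
    refine ⟨T₁, π₁, hπ₁, d ≫ cokernel.π (h ≫ γ), ?_⟩
    show π₁ ≫ x = (d ≫ cokernel.π (h ≫ γ)) ≫ e
    rw [Category.assoc, hπe, ← cancel_mono j, Category.assoc, Category.assoc, hi₁'j, hd]
  have hSE : (ShortComplex.mk e r' her').ShortExact :=
    { exact := hEx, mono_f := hme, epi_g := hr' }
  have hE : ι.essImage (cokernel (h ≫ γ)) :=
    essImage_cokernel ι (h ≫ γ) hH (ι.obj_mem_essImage D)
  have hP' : ι.essImage (pullback r h') := hext _ hSE hE hH'
  obtain ⟨P₀, ⟨eP⟩⟩ := hP'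
  obtain ⟨J, m₀, hm₀, hJ⟩ := hinj P₀
  have := hm₀
  have := hJ
  let m' : pullback r h' ⟶ ι.obj J := eP.inv ≫ ι.map m₀
  haveI hm' : Mono m' := inferInstanceAs (Mono (eP.inv ≫ ι.map m₀))
  let m : P ⟶ ι.obj J := Injective.factorThru m' j
  have hjm : j ≫ m = m' := Injective.comp_factorThru m' j
  let u : D ⟶ J := ι.preimage (i₁ ≫ m)
  have hu : ι.map u = i₁ ≫ m := ι.map_preimage _
  have hcφ : c ≫ (i₂ ≫ m) = γ ≫ ι.map u := by
    rw [hu, reassoc_of% hsq]
  have huq : u ≫ cokernel.π u = 0 := cokernel.condition u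
  have hexq : (ShortComplex.mk u (cokernel.π u) huq).Exact := ShortComplex.exact_cokernel u
  have hιq0 : ι.map u ≫ ι.map (cokernel.π u) = 0 := by
    rw [← ι.map_comp, huq, ι.map_zero]
  have hιexq : (ShortComplex.mk (ι.map u) (ι.map (cokernel.π u)) hιq0).Exact := hexq.map ι
  have hcφq : c ≫ ((i₂ ≫ m) ≫ ι.map (cokernel.π u)) = 0 := by
    rw [← Category.assoc, hcφ, Category.assoc, hιq0, comp_zero]
  let γ' : C' ⟶ ι.obj (cokernel u) := hex.desc ((i₂ ≫ m) ≫ ι.map (cokernel.π u)) hcφq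
  have hpγ' : p ≫ γ' = (i₂ ≫ m) ≫ ι.map (cokernel.π u) := hex.g_desc _ _
  have hz : (h ≫ γ) ≫ ι.map u = 0 := by
    rw [Category.assoc, ← hcφ, reassoc_of% hhc, zero_comp]
  have hexz : (ShortComplex.mk (h ≫ γ) (ι.map u) hz).Exact := by
    rw [ShortComplex.exact_iff_exact_up_to_refinements]
    intro T x hx
    have hx' : x ≫ ι.map u = 0 := hx
    have hx1 : x ≫ i₁ = 0 := by
      have h1 : (x ≫ i₁') ≫ m' = 0 := by
        rw [← hjm, Category.assoc, ← Category.assoc i₁', hi₁'j, ← hu, hx']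
      have h2 : x ≫ i₁' = 0 := (cancel_mono m').mp (h1.trans zero_comp.symm)
      rw [← hi₁'j, ← Category.assoc, h2, zero_comp]
    obtain ⟨T₁, π₁, hπ₁, k', hk'⟩ := PO1 x hx1
    exact ⟨T₁, π₁, hπ₁, k', hk'⟩
  have hmono : Mono (h' ≫ γ') := by
    rw [Preadditive.mono_iff_cancel_zero]
    intro T y hy
    obtain ⟨T₁, π₁, hπ₁, x, hx⟩ := surjective_up_to_refinements_of_epi p (y ≫ h')
    let z : T₁ ⟶ pullback r h' := pullback.lift (x ≫ i₂) (π₁ ≫ y) (by
      rw [Category.assoc, hi₂r, ← hx, Category.assoc])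
    have hzj : z ≫ j = x ≫ i₂ := pullback.lift_fst _ _ _
    have hzr' : z ≫ r' = π₁ ≫ y := pullback.lift_snd _ _ _
    have hxφq : (x ≫ i₂ ≫ m) ≫ ι.map (cokernel.π u) = 0 := by
      rw [Category.assoc, ← hpγ', ← Category.assoc, ← hx, Category.assoc, Category.assoc, hy,
        comp_zero]
    obtain ⟨T₂, π₂, hπ₂, d, hd'⟩ : ∃ (T₂ : A) (π₂ : T₂ ⟶ T₁) (_ : Epi π₂) (d : T₂ ⟶ ι.obj D),
        π₂ ≫ x ≫ i₂ ≫ m = d ≫ ι.map u := hιexq.exact_up_to_refinements (x ≫ i₂ ≫ m) hxφq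
    have hzd : π₂ ≫ z = d ≫ i₁' := by
      rw [← cancel_mono m', Category.assoc, Category.assoc, ← hjm, ← Category.assoc z, hzj,
        ← Category.assoc i₁', hi₁'j, Category.assoc, hd', hu]
    have h0 : (π₂ ≫ π₁) ≫ y = 0 := by
      rw [Category.assoc, ← hzr', ← Category.assoc, hzd, Category.assoc, hi₁'r', comp_zero]
    exact (cancel_epi (π₂ ≫ π₁)).mp (h0.trans comp_zero.symm)
  exact ⟨J, u, i₂ ≫ m, cokernel u, cokernel.π u, γ', hJ, inferInstance, ⟨huq, hexq⟩, hcφ, hpγ',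
    ⟨hz, hexz⟩, hmono⟩

end Abs

/-! ### Stages of the construction over an `ℕ`-indexed complex -/

section Cx

variable {A' : Type u'} [Category.{v'} A'] [Abelian A']
  {A : Type u} [Category.{v} A] [Abelian A]
  (ι : A' ⥤ A) [ι.Additive] [PreservesFiniteLimits ι] [PreservesFiniteColimits ι]
  [ι.Full] [ι.Faithful] (K : CochainComplex A ℕ)

/-- The data constructed in degree `k`. -/
structure Stg (k : ℕ) where
  J : A'
  D : A'
  q : J ⟶ D
  φ : K.X k ⟶ ι.obj J
  γ : K.opcycles k ⟶ ι.obj D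
  epi_q : Epi q
  comm : K.pOpcycles k ≫ γ = φ ≫ ι.map q
  mono : Mono (K.homologyι k ≫ γ)
  inj : Injective (ι.obj J)
  iso0 : k = 0 → IsIso q

/-- The link between the data in degree `k` and in degree `k + 1`. -/
structure Lnk {k : ℕ} (s : Stg ι K k) (t : Stg ι K (k + 1)) where
  u : s.D ⟶ t.J
  w : u ≫ t.q = 0
  exact_q : (ShortComplex.mk u t.q w).Exact
  comm : K.fromOpcycles k (k + 1) ≫ t.φ = s.γ ≫ ι.map u
  zero : (K.homologyι k ≫ s.γ) ≫ ι.map u = 0
  exact_h : (ShortComplex.mk (K.homologyι k ≫ s.γ) (ι.map u) zero).Exact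

lemma fromOpcycles_p (k : ℕ) : K.fromOpcycles k (k + 1) ≫ K.pOpcycles (k + 1) = 0 := by
  rw [← cancel_epi (K.pOpcycles k), comp_zero, K.p_fromOpcycles_assoc, K.d_pOpcycles]

lemma exact_homologyι_fromOpcycles (k : ℕ) :
    (ShortComplex.mk (K.homologyι k) (K.fromOpcycles k (k + 1))
      (K.homologyι_comp_fromOpcycles k (k + 1))).Exact :=
  ShortComplex.exact_of_f_is_kernel _ (K.homologyIsKernel k (k + 1) (by simp))

lemma exact_fromOpcycles_pOpcycles (k : ℕ) :
    (ShortComplex.mk (K.fromOpcycles k (k + 1)) (K.pOpcycles (k + 1))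
      (fromOpcycles_p K k)).Exact := by
  rw [ShortComplex.exact_iff_exact_up_to_refinements]
  intro T x hx
  have hx' : x ≫ K.pOpcycles (k + 1) = 0 := hx
  have hE : (ShortComplex.mk (K.d k (k + 1)) (K.pOpcycles (k + 1))
      (K.d_pOpcycles k (k + 1))).Exact :=
    ShortComplex.exact_of_g_is_cokernel _ (K.opcyclesIsCokernel k (k + 1) (by simp))
  obtain ⟨T₁, π₁, hπ₁, y, hy⟩ := hE.exact_up_to_refinements x hx'
  have hy' : π₁ ≫ x = y ≫ K.d k (k + 1) := hy
  refine ⟨T₁, π₁, hπ₁, y ≫ K.pOpcycles k, ?_⟩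
  show π₁ ≫ x = (y ≫ K.pOpcycles k) ≫ K.fromOpcycles k (k + 1)
  rw [Category.assoc, K.p_fromOpcycles, hy']

lemma exists_stg0
    (hext : ∀ S : ShortComplex A, S.ShortExact → ι.essImage S.X₁ → ι.essImage S.X₃ →
      ι.essImage S.X₂)
    (hinj : ∀ X' : A', ∃ (Y' : A') (i : X' ⟶ Y'), Mono i ∧ Injective (ι.obj Y'))
    (hK : ∀ k, ι.essImage (K.homology k)) : Nonempty (Stg ι K 0) := by
  have hcp : (0 : (0 : A) ⟶ K.X 0) ≫ K.pOpcycles 0 = 0 := zero_comp
  have hex : (ShortComplex.mk (0 : (0 : A) ⟶ K.X 0) (K.pOpcycles 0) hcp).Exact :=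
    (ShortComplex.exact_iff_mono _ rfl).mpr (inferInstanceAs (Mono (K.pOpcycles 0)))
  have hhc : (0 : (0 : A) ⟶ (0 : A)) ≫ (0 : (0 : A) ⟶ K.X 0) = 0 := zero_comp
  have hexh : (ShortComplex.mk (0 : (0 : A) ⟶ (0 : A)) (0 : (0 : A) ⟶ K.X 0) hhc).Exact :=
    ShortComplex.exact_of_isZero_X₂ _ (isZero_zero A)
  obtain ⟨J, u, φ, D', q, γ', hJ, hq, ⟨w, hexq⟩, -, hpγ', -, hmono⟩ :=
    step_abs ι hext hinj (0 : (0 : A) ⟶ K.X 0) (K.pOpcycles 0) (0 : (0 : A) ⟶ (0 : A))
      (K.homologyι 0) hcp hex inferInstance hhc hexh inferInstance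
      (Functor.essImage.ofIso ι.mapZeroObject (ι.obj_mem_essImage 0)) (hK 0)
      (0 : A') (0 : (0 : A) ⟶ ι.obj (0 : A'))
  have hu0 : u = 0 := (isZero_zero A').eq_of_src _ _
  have := hq
  haveI : Mono q := (ShortComplex.exact_iff_mono _ hu0).mp hexq
  exact ⟨{ J := J, D := D', q := q, φ := φ, γ := γ', epi_q := hq, comm := hpγ', mono := hmono,
           inj := hJ, iso0 := fun _ => isIso_of_mono_of_epi q }⟩

lemma exists_step
    (hext : ∀ S : ShortComplex A, S.ShortExact → ι.essImage S.X₁ → ι.essImage S.X₃ →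
      ι.essImage S.X₂)
    (hinj : ∀ X' : A', ∃ (Y' : A') (i : X' ⟶ Y'), Mono i ∧ Injective (ι.obj Y'))
    (hK : ∀ k, ι.essImage (K.homology k)) {k : ℕ} (s : Stg ι K k) :
    ∃ t : Stg ι K (k + 1), Nonempty (Lnk ι K s t) := by
  obtain ⟨J, u, φ, D', q, γ', hJ, hq, ⟨w, hexq⟩, hcφ, hpγ', ⟨z, hexz⟩, hmono⟩ :=
    step_abs ι hext hinj (K.fromOpcycles k (k + 1)) (K.pOpcycles (k + 1)) (K.homologyι k)
      (K.homologyι (k + 1)) (fromOpcycles_p K k) (exact_fromOpcycles_pOpcycles K k) inferInstance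
      (K.homologyι_comp_fromOpcycles k (k + 1)) (exact_homologyι_fromOpcycles K k) inferInstance
      (hK k) (hK (k + 1)) s.D s.γ
  exact ⟨{ J := J, D := D', q := q, φ := φ, γ := γ', epi_q := hq, comm := hpγ', mono := hmono,
           inj := hJ, iso0 := fun h => absurd h (Nat.succ_ne_zero k) },
    ⟨{ u := u, w := w, exact_q := hexq, comm := hcφ, zero := z, exact_h := hexz }⟩⟩

lemma exists_seq
    (hext : ∀ S : ShortComplex A, S.ShortExact → ι.essImage S.X₁ → ι.essImage S.X₃ →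
      ι.essImage S.X₂)
    (hinj : ∀ X' : A', ∃ (Y' : A') (i : X' ⟶ Y'), Mono i ∧ Injective (ι.obj Y'))
    (hK : ∀ k, ι.essImage (K.homology k)) :
    ∃ (stg : ∀ k, Stg ι K k), ∀ k, Nonempty (Lnk ι K (stg k) (stg (k + 1))) := by
  obtain ⟨s0⟩ := exists_stg0 ι K hext hinj hK
  have step := fun (k : ℕ) (s : Stg ι K k) => exists_step ι K hext hinj hK s
  let stg : ∀ k, Stg ι K k := fun k =>
    Nat.rec (motive := fun k => Stg ι K k) s0 (fun k s => (step k s).choose) k
  exact ⟨stg, fun k => (step k (stg k)).choose_spec⟩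

/-! ### Assembling the complex -/

section Assemble

variable (stg : ∀ k, Stg ι K k) (tr : ∀ k, Lnk ι K (stg k) (stg (k + 1)))

/-- The resolving complex. -/
noncomputable abbrev Ic : CochainComplex A' ℕ :=
  CochainComplex.of (fun k => (stg k).J) (fun k => (stg k).q ≫ (tr k).u) (fun k => by
    rw [Category.assoc, reassoc_of% (tr k).w, zero_comp, comp_zero])

lemma Ic_d (k : ℕ) : (Ic ι K stg tr).d k (k + 1) = (stg k).q ≫ (tr k).u := by
  unfold Ic
  exact CochainComplex.of_d (V := A') (fun k => (stg k).J) (fun k => (stg k).q ≫ (tr k).u) k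

/-- The image of the resolving complex. -/
noncomputable abbrev Lc : CochainComplex A ℕ :=
  (ι.mapHomologicalComplex (ComplexShape.up ℕ)).obj (Ic ι K stg tr)

/-- typed wrapper -/
noncomputable def qL (k : ℕ) : (Lc ι K stg tr).X k ⟶ ι.obj (stg k).D := ι.map (stg k).q

/-- typed wrapper -/
noncomputable def uL (k : ℕ) : ι.obj (stg k).D ⟶ (Lc ι K stg tr).X (k + 1) := ι.map (tr k).u

/-- typed wrapper -/
noncomputable def φL (k : ℕ) : K.X k ⟶ (Lc ι K stg tr).X k := (stg k).φ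

lemma Lc_d (k : ℕ) : (Lc ι K stg tr).d k (k + 1) = qL ι K stg tr k ≫ uL ι K stg tr k :=
  (congrArg (fun t => ι.map t) (Ic_d ι K stg tr k)).trans (ι.map_comp _ _)

lemma uL_qL (k : ℕ) : uL ι K stg tr k ≫ qL ι K stg tr (k + 1) = 0 := by
  have h := congrArg (fun t => ι.map t) (tr k).w
  exact ((ι.map_comp _ _).symm.trans h).trans (ι.map_zero _ _)

lemma exact_uq (k : ℕ) :
    (ShortComplex.mk (uL ι K stg tr k) (qL ι K stg tr (k + 1)) (uL_qL ι K stg tr k)).Exact :=
  (tr k).exact_q.map ι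

lemma epi_qL (k : ℕ) : Epi (qL ι K stg tr k) := by
  have := (stg k).epi_q
  exact inferInstanceAs (Epi (ι.map (stg k).q))

lemma isIso_qL_zero : IsIso (qL ι K stg tr 0) := by
  have := (stg 0).iso0 rfl
  exact inferInstanceAs (IsIso (ι.map (stg 0).q))

lemma comm_φ (k : ℕ) :
    K.pOpcycles k ≫ (stg k).γ = φL ι K stg tr k ≫ qL ι K stg tr k := (stg k).comm

lemma comm_u (k : ℕ) :
    K.fromOpcycles k (k + 1) ≫ φL ι K stg tr (k + 1) = (stg k).γ ≫ uL ι K stg tr k :=
  (tr k).comm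

lemma hγ_uL (k : ℕ) : (K.homologyι k ≫ (stg k).γ) ≫ uL ι K stg tr k = 0 := (tr k).zero

lemma exact_hγ (k : ℕ) :
    (ShortComplex.mk (K.homologyι k ≫ (stg k).γ) (uL ι K stg tr k)
      (hγ_uL ι K stg tr k)).Exact := (tr k).exact_h

/-- The comparison map. -/
noncomputable def fc : K ⟶ Lc ι K stg tr where
  f k := φL ι K stg tr k
  comm' i j hij := by
    obtain rfl : i + 1 = j := hij
    rw [Lc_d, ← K.p_fromOpcycles i (i + 1), Category.assoc, comm_u ι K stg tr i,
      reassoc_of% (comm_φ ι K stg tr i)]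

lemma fc_f (k : ℕ) : (fc ι K stg tr).f k = φL ι K stg tr k := rfl

lemma d_q (k : ℕ) :
    (Lc ι K stg tr).d ((ComplexShape.up ℕ).prev k) k ≫ qL ι K stg tr k = 0 := by
  cases k with
  | zero => rw [(Lc ι K stg tr).shape _ _ (by simp), zero_comp]
  | succ k =>
    rw [CochainComplex.prev_nat_succ, Lc_d, Category.assoc, uL_qL, comp_zero]

/-- The identification of the opcycles of the image complex. -/
noncomputable def eOp (k : ℕ) : (Lc ι K stg tr).opcycles k ⟶ ι.obj (stg k).D :=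
  (Lc ι K stg tr).descOpcycles (qL ι K stg tr k) _ rfl (d_q ι K stg tr k)

lemma p_eOp (k : ℕ) : (Lc ι K stg tr).pOpcycles k ≫ eOp ι K stg tr k = qL ι K stg tr k :=
  (Lc ι K stg tr).p_descOpcycles _ _ _ _

lemma eOp_u (k : ℕ) :
    eOp ι K stg tr k ≫ uL ι K stg tr k = (Lc ι K stg tr).fromOpcycles k (k + 1) := by
  rw [← cancel_epi ((Lc ι K stg tr).pOpcycles k), ← Category.assoc, p_eOp,
    HomologicalComplex.p_fromOpcycles, Lc_d]

lemma opcyclesMap_eOp (k : ℕ) :
    HomologicalComplex.opcyclesMap (fc ι K stg tr) k ≫ eOp ι K stg tr k = (stg k).γ := by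
  rw [← cancel_epi (K.pOpcycles k), ← Category.assoc, HomologicalComplex.p_opcyclesMap,
    Category.assoc, p_eOp, fc_f, comm_φ]

lemma mono_eOp (k : ℕ) : Mono (eOp ι K stg tr k) := by
  rw [Preadditive.mono_iff_cancel_zero]
  intro T x hx
  obtain ⟨T₁, π₁, hπ₁, y, hy⟩ :=
    surjective_up_to_refinements_of_epi ((Lc ι K stg tr).pOpcycles k) x
  have hy0 : y ≫ qL ι K stg tr k = 0 := by
    rw [← p_eOp ι K stg tr k, ← Category.assoc, ← hy, Category.assoc, hx, comp_zero]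
  have hyp : y ≫ (Lc ι K stg tr).pOpcycles k = 0 := by
    cases k with
    | zero =>
      have := isIso_qL_zero ι K stg tr
      have hy1 : y = 0 := by
        rw [← cancel_mono (qL ι K stg tr 0), hy0, zero_comp]
      rw [hy1, zero_comp]
    | succ k =>
      obtain ⟨T₂, π₂, hπ₂, z, hz'⟩ : ∃ (T₂ : A) (π₂ : T₂ ⟶ T₁) (_ : Epi π₂)
          (z : T₂ ⟶ ι.obj (stg k).D), π₂ ≫ y = z ≫ uL ι K stg tr k :=
        (exact_uq ι K stg tr k).exact_up_to_refinements y hy0
      have := epi_qL ι K stg tr k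
      obtain ⟨T₃, π₃, hπ₃, z', hz''⟩ :=
        surjective_up_to_refinements_of_epi (qL ι K stg tr k) z
      have e1 : (π₃ ≫ π₂) ≫ y = z' ≫ (Lc ι K stg tr).d k (k + 1) := by
        rw [Lc_d, Category.assoc, hz', reassoc_of% hz'']
      have h0 : (π₃ ≫ π₂) ≫ y ≫ (Lc ι K stg tr).pOpcycles (k + 1) = 0 := by
        rw [← Category.assoc, e1, Category.assoc, HomologicalComplex.d_pOpcycles, comp_zero]
      exact (cancel_epi (π₃ ≫ π₂)).mp (h0.trans comp_zero.symm)
  rw [← cancel_epi π₁, hy, hyp, comp_zero]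

lemma quasiIso_fc : QuasiIso (fc ι K stg tr) := by
  rw [quasiIso_iff]
  intro k
  rw [quasiIsoAt_iff_isIso_homologyMap]
  have := mono_eOp ι K stg tr k
  have hnat : HomologicalComplex.homologyMap (fc ι K stg tr) k ≫
      (Lc ι K stg tr).homologyι k ≫ eOp ι K stg tr k = K.homologyι k ≫ (stg k).γ := by
    rw [← Category.assoc, HomologicalComplex.homologyι_naturality, Category.assoc,
      opcyclesMap_eOp]
  have hm1 : Mono (HomologicalComplex.homologyMap (fc ι K stg tr) k) := by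
    have := (stg k).mono
    have : Mono (HomologicalComplex.homologyMap (fc ι K stg tr) k ≫
        (Lc ι K stg tr).homologyι k ≫ eOp ι K stg tr k) := by
      rw [hnat]; infer_instance
    exact mono_of_mono _ ((Lc ι K stg tr).homologyι k ≫ eOp ι K stg tr k)
  have he1 : Epi (HomologicalComplex.homologyMap (fc ι K stg tr) k) := by
    rw [epi_iff_surjective_up_to_refinements]
    intro T x
    have hx0 : (x ≫ (Lc ι K stg tr).homologyι k ≫ eOp ι K stg tr k) ≫ uL ι K stg tr k = 0 := by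
      rw [Category.assoc, Category.assoc, eOp_u, HomologicalComplex.homologyι_comp_fromOpcycles,
        comp_zero]
    obtain ⟨T₁, π₁, hπ₁, y, hy'⟩ : ∃ (T₁ : A) (π₁ : T₁ ⟶ T) (_ : Epi π₁)
        (y : T₁ ⟶ K.homology k), π₁ ≫ x ≫ (Lc ι K stg tr).homologyι k ≫ eOp ι K stg tr k =
        y ≫ K.homologyι k ≫ (stg k).γ := (exact_hγ ι K stg tr k).exact_up_to_refinements _ hx0
    refine ⟨T₁, π₁, hπ₁, y, ?_⟩
    rw [← cancel_mono ((Lc ι K stg tr).homologyι k ≫ eOp ι K stg tr k), Category.assoc,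
      Category.assoc, hnat, hy']
  exact isIso_of_mono_of_epi _

end Assemble

theorem exists_resolution_nat
    (hext : ∀ S : ShortComplex A, S.ShortExact → ι.essImage S.X₁ → ι.essImage S.X₃ →
      ι.essImage S.X₂)
    (hinj : ∀ X' : A', ∃ (Y' : A') (i : X' ⟶ Y'), Mono i ∧ Injective (ι.obj Y'))
    (hK : ∀ k, ι.essImage (K.homology k)) :
    ∃ (I : CochainComplex A' ℕ) (_ : ∀ k, Injective (ι.obj (I.X k)))
      (f : K ⟶ (ι.mapHomologicalComplex (ComplexShape.up ℕ)).obj I), QuasiIso f := by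
  obtain ⟨stg, htr⟩ := exists_seq ι K hext hinj hK
  have tr : ∀ k, Lnk ι K (stg k) (stg (k + 1)) := fun k => (htr k).some
  exact ⟨Ic ι K stg tr, fun k => (stg k).inj, fc ι K stg tr, quasiIso_fc ι K stg tr⟩

end Cx

/-! ### Transfer along an embedding of complex shapes -/

section Transfer

variable {C : Type*} [Category C] [HasZeroMorphisms C] [HasZeroObject C]
  {ι₁ ι₂ : Type*} {c : ComplexShape ι₁} {c' : ComplexShape ι₂} (e : c.Embedding c') [e.IsRelIff]

lemma hasLift_of_strict (M : HomologicalComplex C c') [M.IsStrictlySupported e]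
    (N : HomologicalComplex C c) (φ : M.restriction e ⟶ N) : e.HasLift φ := by
  intro j hj i' hi'
  have hz : IsZero (M.X i') := M.isZero_X_of_isStrictlySupported e i' (hj.notMem hi')
  show M.d i' (e.f j) ≫ φ.f j = 0
  rw [hz.eq_of_src (M.d i' (e.f j)) 0]
  exact zero_comp

lemma isIso_liftExtend_of_strict (M : HomologicalComplex C c') [M.IsStrictlySupported e]
    (N : HomologicalComplex C c) (φ : M.restriction e ⟶ N) [IsIso φ] :
    IsIso (e.liftExtend φ (hasLift_of_strict e M N φ)) := by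
  haveI : ∀ i', IsIso ((e.liftExtend φ (hasLift_of_strict e M N φ)).f i') := by
    intro i'
    by_cases h : ∃ i, e.f i = i'
    · obtain ⟨i, hi⟩ := h
      rw [e.isIso_liftExtend_f_iff φ _ hi]
      exact inferInstanceAs (IsIso ((HomologicalComplex.eval C c i).map φ))
    · have h1 : IsZero (M.X i') :=
        M.isZero_X_of_isStrictlySupported e i' (fun i hi => h ⟨i, hi⟩)
      have h2 : IsZero ((N.extend e).X i') :=
        N.isZero_extend_X e i' (fun i hi => h ⟨i, hi⟩)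
      exact ⟨⟨0, h1.eq_of_src _ _, h2.eq_of_src _ _⟩⟩
  exact HomologicalComplex.Hom.isIso_of_components _

end Transfer

/-- Let ι : A' ⥤ A be an exact fully faithful functor of abelian categories whose essential image is
closed under extensions, and suppose every object of A' admits a monomorphism into an object of A'
whose image in A is injective. Then every object Z of D(A) with H^i(Z) = 0 for i < a and all
cohomology objects in the essential image of ι is isomorphic to the image under D(A') ⥤ D(A) of a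
complex I of objects of A', zero in degrees < a, whose terms are injective in A. -/
theorem result {A' : Type u'} [Category.{v'} A'] [Abelian A'] [HasDerivedCategory.{w'} A']
    {A : Type u} [Category.{v} A] [Abelian A] [HasDerivedCategory.{w} A]
    (ι : A' ⥤ A) [ι.Additive] [PreservesFiniteLimits ι] [PreservesFiniteColimits ι] [ι.Full] [ι.Faithful]
    (hext : ∀ S : ShortComplex A, S.ShortExact → ι.essImage S.X₁ → ι.essImage S.X₃ → ι.essImage S.X₂)
    (hinj : ∀ X' : A', ∃ (Y' : A') (i : X' ⟶ Y'), Mono i ∧ Injective (ι.obj Y'))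
    (Z : DerivedCategory A) (a : ℤ) [Z.IsGE a]
    (hZ : ∀ i : ℤ, ι.essImage ((DerivedCategory.homologyFunctor A i).obj Z)) :
    ∃ (I : CochainComplex A' ℤ), I.IsStrictlyGE a ∧ (∀ n : ℤ, Injective (ι.obj (I.X n))) ∧
      Nonempty (ι.mapDerivedCategory.obj (DerivedCategory.Q.obj I) ≅ Z) := by
  classical
  obtain ⟨K, hK, ⟨eZ⟩⟩ := Z.exists_iso_Q_obj_of_isGE a
  let e := ComplexShape.embeddingUpIntGE a
  haveI : K.IsStrictlySupported e := hK
  let θK : K ⟶ (K.restriction e).extend e :=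
    e.liftExtend (𝟙 (K.restriction e)) (hasLift_of_strict e K _ _)
  haveI : IsIso θK := isIso_liftExtend_of_strict e K _ (𝟙 _)
  have hK₀ : ∀ k, ι.essImage ((K.restriction e).homology k) := by
    intro k
    have i1 : (DerivedCategory.homologyFunctor A (e.f k)).obj Z ≅ K.homology (e.f k) :=
      (DerivedCategory.homologyFunctor A (e.f k)).mapIso eZ ≪≫
        (DerivedCategory.homologyFunctorFactors A (e.f k)).app K
    have i2 : K.homology (e.f k) ≅ ((K.restriction e).extend e).homology (e.f k) :=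
      (HomologicalComplex.homologyFunctor A (ComplexShape.up ℤ) (e.f k)).mapIso (asIso θK)
    have i3 : ((K.restriction e).extend e).homology (e.f k) ≅ (K.restriction e).homology k :=
      (K.restriction e).extendHomologyIso e rfl
    exact Functor.essImage.ofIso (i1 ≪≫ i2 ≪≫ i3) (hZ (e.f k))
  obtain ⟨I, hI, f, hf⟩ := exists_resolution_nat ι (K.restriction e) hext hinj hK₀
  have := hf
  let M := (ι.mapHomologicalComplex (ComplexShape.up ℤ)).obj (I.extend e)
  let N := (ι.mapHomologicalComplex (ComplexShape.up ℕ)).obj I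
  let φ : M.restriction e ≅ N :=
    HomologicalComplex.Hom.isoOfComponents (fun k => ι.mapIso (I.extendXIso e rfl)) (by
      intro i j hij
      show ι.map (I.extendXIso e rfl).hom ≫ ι.map (I.d i j) =
        ι.map ((I.extend e).d (e.f i) (e.f j)) ≫ ι.map (I.extendXIso e rfl).hom
      rw [← ι.map_comp, ← ι.map_comp, I.extend_d_eq e rfl rfl]
      simp)
  let θI : M ⟶ N.extend e := e.liftExtend φ.hom (hasLift_of_strict e M N φ.hom)
  haveI : IsIso θI := isIso_liftExtend_of_strict e M N φ.hom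
  refine ⟨I.extend e, inferInstance, ?_, ⟨?_⟩⟩
  · intro n
    by_cases h : ∃ k, e.f k = n
    · obtain ⟨k, hk⟩ := h
      exact Injective.of_iso (ι.mapIso (I.extendXIso e hk)).symm (hI k)
    · exact (ι.map_isZero (I.isZero_extend_X e n (fun k hk => h ⟨k, hk⟩))).injective
  · haveI : QuasiIso (HomologicalComplex.extendMap f e) := inferInstance
    haveI : IsIso (DerivedCategory.Q.map (HomologicalComplex.extendMap f e)) :=
      (DerivedCategory.isIso_Q_map_iff_quasiIso (C := A) (HomologicalComplex.extendMap f e)).mpr inferInstance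
    exact (ι.mapDerivedCategoryFactors.app (I.extend e)) ≪≫ DerivedCategory.Q.mapIso (asIso θI) ≪≫
      (asIso (DerivedCategory.Q.map (HomologicalComplex.extendMap f e))).symm ≪≫
      (DerivedCategory.Q.mapIso (asIso θK)).symm ≪≫ eZ.symm

end Groth.Agent.S11161
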