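import Groth.Statements.S11165
import Groth.Agent.H67.SiteCmpB
import Groth.Agent.H30.RpushQcoh
import Groth.Agent.S0028
import Groth.Agent.S11319
import Groth.Agent.H42.CmpLib

set_option autoImplicit false
universe u
open CategoryTheory CategoryTheory.Limits AlgebraicGeometry
open Coherent

namespace Groth.Agent.S11165

/-- Let f : X ⟶ Y be a separated morphism of schemes, U an open of X on which f restricts to an affine
morphism, i : U ⟶ X the inclusion and F a quasi-coherent O_X-module. Then i_*(F|_U) is acyclic for
f_*: its higher direct images R^j f_* vanish for j > 0. (The binder asserting injective resolutions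
of O_X-modules always holds.) -/
theorem result {X Y : Scheme.{u}} (f : X ⟶ Y) [IsSeparated f]
    (U : X.Opens) [IsAffineHom (U.ι ≫ f)] (F : X.Modules) (hF : Coh.IsQCoh F)
    [HasInjectiveResolutions X.Modules] (j : ℕ) (hj : 0 < j) :
    IsZero ((Coh.Rpush f j).obj ((Scheme.Modules.pushforward U.ι).obj ((Scheme.Modules.restrictFunctor U.ι).obj F))) := by
  haveI : IsAffineHom U.ι := IsAffineHom.of_comp U.ι f
  haveI : F.IsQuasicoherent := hF
  haveI hG : ((Scheme.Modules.restrictFunctor U.ι).obj F).IsQuasicoherent := inferInstance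
  haveI hG' : Coh.IsQCoh ((Scheme.Modules.restrictFunctor U.ι).obj F) := hG
  -- vanishing of higher direct images along an affine morphism (module level)
  have hvan : ∀ {A B : Scheme.{u}} (g : A ⟶ B) [IsAffineHom g] [HasInjectiveResolutions A.Modules]
      (N : A.Modules) [Coh.IsQCoh N] (q : ℕ), 0 < q →
      IsZero (((Scheme.Modules.pushforward g).rightDerived q).obj N) := by
    intro A B g _ _ N _ q hq
    obtain ⟨e⟩ := Groth.Agent.S11319.result g N q
    exact Groth.Agent.H30.RpushQcoh.isZero_of_isZero_toAb _
      ((Groth.Agent.S0028.result g N q hq).of_iso e)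
  have hinj : ∀ I : (U : Scheme.{u}).Modules, Injective I →
      Injective ((Scheme.Modules.pushforward U.ι).obj I) := by
    intro I hI
    haveI : PreservesFiniteLimits (Scheme.Modules.restrictFunctor U.ι) :=
      Groth.Agent.H42.CmpLib.preservesFiniteLimits_restrictFunctor U.ι
    haveI : (Scheme.Modules.restrictFunctor U.ι).PreservesMonomorphisms := inferInstance
    exact Injective.injective_of_adjoint (Scheme.Modules.restrictAdjunction U.ι) I
  obtain ⟨e⟩ := Groth.Agent.H67.SiteCmpB.gs (Scheme.Modules.pushforward U.ι)
    (Scheme.Modules.pushforward f) hinj j ((Scheme.Modules.restrictFunctor U.ι).obj F)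
    (fun q hq _ => hvan U.ι _ q hq) j le_rfl
  refine IsZero.of_iso ?_ e.symm
  have e2 := (Groth.Agent.H67.DerivedNat.rightDerivedNatIso
    (Scheme.Modules.pushforwardComp U.ι f) j).app ((Scheme.Modules.restrictFunctor U.ι).obj F)
  refine IsZero.of_iso ?_ e2
  exact hvan (U.ι ≫ f) _ j hj

end Groth.Agent.S11165
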