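import Mathlib
import Groth.Statements.S11167
import Groth.Agent.H8.StructureCoh
import Groth.Agent.H8.QCohStalk
import Groth.Agent.H8.QCohQcqs
import Groth.Agent.H8.SectionsExact
import Groth.Agent.H22.QCohLimits

set_option autoImplicit false
set_option linter.style.haveILetI false
universe u
open CategoryTheory CategoryTheory.Limits AlgebraicGeometry TopologicalSpace Opposite

namespace Groth.Agent.S11167

open Groth.Agent.H8 Groth.Agent.H22.QCohLimits

section aux

variable {X : Scheme.{u}} (G : X.Modules)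

/-- Germs at `x` of the members of the family `T` that are defined near `x`. -/
def genSet (T : Set (Σ U : X.Opens, Γ(G, U))) (x : X) : Set (G.presheaf.stalk x) :=
  {g | ∃ p ∈ T, ∃ h : x ∈ p.1, G.presheaf.germ p.1 x h p.2 = g}

/-- The family `T` generates the stalk of `G` at `x`. -/
def Gen (T : Set (Σ U : X.Opens, Γ(G, U))) (x : X) : Prop :=
  Submodule.span (X.presheaf.stalk x) (genSet G T x) = ⊤

lemma genSet_mono {T T' : Set (Σ U : X.Opens, Γ(G, U))} (h : T ⊆ T') (x : X) :
    genSet G T x ⊆ genSet G T' x := by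
  rintro g ⟨p, hp, hx, rfl⟩
  exact ⟨p, h hp, hx, rfl⟩

lemma Gen.mono {T T' : Set (Σ U : X.Opens, Γ(G, U))} (h : T ⊆ T') {x : X} (hx : Gen G T x) :
    Gen G T' x := by
  unfold Gen at hx ⊢
  rw [eq_top_iff, ← hx]
  exact Submodule.span_mono (genSet_mono G h x)

/-- The local statement: near `ξ`, finitely many sections generate the stalks at all
specialisations of `ξ`. -/
theorem core [IsNoetherian X] (ι : G ⟶ Coh.structureModule X) [Mono ι] (ξ : X) :
    ∃ N : X.Opens, ξ ∈ N ∧ ∃ T : Set (Σ U : X.Opens, Γ(G, U)), T.Finite ∧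
      ∀ y ∈ N, ξ ⤳ y → Gen G T y := by
  classical
  haveI : (Coh.structureModule X).IsQuasicoherent := isQuasicoherent_structureModule' X
  obtain ⟨_, ⟨U, hU, rfl⟩, hξU, -⟩ := X.isBasis_affineOpens.exists_subset_of_mem_open
      (Set.mem_univ ξ) isOpen_univ
  haveI : IsNoetherianRing Γ(X, U) := IsLocallyNoetherian.component_noetherian ⟨U, hU⟩
  haveI : IsNoetherian Γ(X, U) Γ(Coh.structureModule X, U) :=
    (inferInstance : IsNoetherianRing Γ(X, U))
  -- the family of submodules whose elements come from `G` near `ξ`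
  let 𝓘 : Set (Submodule Γ(X, U) Γ(Coh.structureModule X, U)) := {I | ∃ f : Γ(X, U),
    ξ ∈ X.basicOpen f ∧ ∀ a ∈ I, ∃ t : Γ(G, X.basicOpen f),
      ι.app _ t = (Coh.structureModule X).presheaf.map (homOfLE (X.basicOpen_le f)).op a}
  have hne : 𝓘.Nonempty := by
    obtain ⟨f, -, hξf⟩ := hU.exists_basicOpen_le (V := U) ⟨ξ, hξU⟩ hξU
    refine ⟨⊥, f, hξf, ?_⟩
    intro a ha
    rw [Submodule.mem_bot] at ha
    subst ha
    exact ⟨0, by rw [map_zero, map_zero]⟩
  obtain ⟨I, ⟨f, hξf, hI⟩, hmax⟩ :=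
    (set_has_maximal_iff_noetherian.mpr inferInstance) 𝓘 hne
  obtain ⟨S, hS⟩ := (IsNoetherian.noetherian I : I.FG)
  have hSI : ∀ a ∈ S, a ∈ I := fun a ha => hS ▸ Submodule.subset_span ha
  choose t ht using hI
  let T : Set (Σ V : X.Opens, Γ(G, V)) :=
    Set.range (fun a : (S : Set Γ(Coh.structureModule X, U)) =>
      (⟨X.basicOpen f, t a.1 (hSI a.1 a.2)⟩ : Σ V : X.Opens, Γ(G, V)))
  haveI : Finite (S : Set Γ(Coh.structureModule X, U)) := S.finite_toSet.to_subtype
  refine ⟨X.basicOpen f, hξf, T, Set.finite_range _, ?_⟩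
  intro y hyf hspec
  have hyU : y ∈ U := X.basicOpen_le f hyf
  obtain ⟨W, hW⟩ : ∃ W : Submodule (X.presheaf.stalk y) (G.presheaf.stalk y),
    W = Submodule.span (X.presheaf.stalk y) (genSet G T y) := ⟨_, rfl⟩
  have hinj : ∀ V : X.Opens, Function.Injective (ι.app V) := fun V => app_injective_of_mono ι V
  -- Step A: sections over `D(f)` mapping into `I` have germ in `W`
  have hA : ∀ a ∈ I, ∀ s : Γ(G, X.basicOpen f),
      ι.app _ s = (Coh.structureModule X).presheaf.map (homOfLE (X.basicOpen_le f)).op a →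
      G.presheaf.germ (X.basicOpen f) y hyf s ∈ W := by
    intro a ha
    rw [← hS] at ha
    induction ha using Submodule.span_induction with
    | mem a ha =>
      intro s hs
      have hst : s = t a (hSI a ha) := hinj _ (hs.trans (ht a _).symm)
      rw [hst, hW]
      exact Submodule.subset_span ⟨⟨_, t a (hSI a ha)⟩, ⟨⟨a, ha⟩, rfl⟩, hyf, rfl⟩
    | zero =>
      intro s hs
      have hst : s = 0 := hinj _ (by rw [hs, map_zero, map_zero])
      rw [hst, map_zero]
      exact W.zero_mem
    | add a b ha hb iha ihb =>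
      intro s hs
      have haI : a ∈ I := hS ▸ ha
      have hbI : b ∈ I := hS ▸ hb
      have hst : s = t a haI + t b hbI := by
        apply hinj
        rw [hs]
        calc (Coh.structureModule X).presheaf.map (homOfLE (X.basicOpen_le f)).op (a + b)
            = (Coh.structureModule X).presheaf.map (homOfLE (X.basicOpen_le f)).op a +
              (Coh.structureModule X).presheaf.map (homOfLE (X.basicOpen_le f)).op b :=
              map_add _ _ _
          _ = ι.app _ (t a haI) + ι.app _ (t b hbI) := by rw [ht a haI, ht b hbI]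
          _ = ι.app _ (t a haI + t b hbI) := (map_add _ _ _).symm
      rw [hst, map_add]
      exact W.add_mem (iha _ (ht a haI)) (ihb _ (ht b hbI))
    | smul r a ha iha =>
      intro s hs
      have haI : a ∈ I := hS ▸ ha
      have hst : s = X.presheaf.map (homOfLE (X.basicOpen_le f)).op r • t a haI := by
        apply hinj
        rw [hs, Scheme.Modules.Hom.app_smul, ht a haI, res_smul]
      rw [hst, germ_smul]
      exact W.smul_mem _ (iha _ (ht a haI))
  -- Step B
  unfold Gen
  rw [← hW, eq_top_iff]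
  intro g _
  obtain ⟨N', hyN', γ, rfl⟩ := TopCat.Presheaf.exists_germ_eq G.presheaf g
  obtain ⟨h, hhle, hyh⟩ := hU.exists_basicOpen_le (V := N' ⊓ X.basicOpen f)
    ⟨y, ⟨hyN', hyf⟩⟩ hyU
  have hh1 : X.basicOpen h ≤ N' := hhle.trans inf_le_left
  have hh2 : X.basicOpen h ≤ X.basicOpen f := hhle.trans inf_le_right
  have hξh : ξ ∈ X.basicOpen h := hspec.mem_open (X.basicOpen h).2 hyh
  obtain ⟨γ', hγ'⟩ : ∃ γ' : Γ(G, X.basicOpen h), γ' = G.presheaf.map (homOfLE hh1).op γ :=
    ⟨_, rfl⟩
  obtain ⟨n, a, ha⟩ := exists_smul_eq_res hU (Coh.structureModule X) h (ι.app _ γ')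
  obtain ⟨hr, hhr⟩ : ∃ hr : Γ(X, X.basicOpen h),
    hr = X.presheaf.map (homOfLE (X.basicOpen_le h)).op h := ⟨_, rfl⟩
  rw [← hhr] at ha
  have haI : a ∈ I := by
    have hI' : I ⊔ Submodule.span Γ(X, U) {a} ∈ 𝓘 := by
      refine ⟨h, hξh, ?_⟩
      intro b hb
      obtain ⟨i, hi, c, hc, rfl⟩ := Submodule.mem_sup.mp hb
      obtain ⟨r, rfl⟩ := Submodule.mem_span_singleton.mp hc
      refine ⟨G.presheaf.map (homOfLE hh2).op (t i hi) +
        X.presheaf.map (homOfLE (X.basicOpen_le h)).op r • (hr ^ n • γ'), ?_⟩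
      have e1 : ι.app _ (G.presheaf.map (homOfLE hh2).op (t i hi)) =
          (Coh.structureModule X).presheaf.map (homOfLE (X.basicOpen_le h)).op i := by
        rw [app_res, ht i hi, res_res]
      have e2 : ι.app _ (X.presheaf.map (homOfLE (X.basicOpen_le h)).op r • (hr ^ n • γ')) =
          (Coh.structureModule X).presheaf.map (homOfLE (X.basicOpen_le h)).op (r • a) := by
        rw [Scheme.Modules.Hom.app_smul, Scheme.Modules.Hom.app_smul, ha, res_smul]
      calc ι.app _ (G.presheaf.map (homOfLE hh2).op (t i hi) +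
            X.presheaf.map (homOfLE (X.basicOpen_le h)).op r • (hr ^ n • γ'))
          = ι.app _ (G.presheaf.map (homOfLE hh2).op (t i hi)) +
            ι.app _ (X.presheaf.map (homOfLE (X.basicOpen_le h)).op r • (hr ^ n • γ')) :=
            map_add _ _ _
        _ = (Coh.structureModule X).presheaf.map (homOfLE (X.basicOpen_le h)).op i +
            (Coh.structureModule X).presheaf.map (homOfLE (X.basicOpen_le h)).op (r • a) := by
            rw [e1, e2]
        _ = (Coh.structureModule X).presheaf.map (homOfLE (X.basicOpen_le h)).op (i + r • a) :=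
            (map_add _ _ _).symm
    have hle : I ≤ I ⊔ Submodule.span Γ(X, U) {a} := le_sup_left
    have heq : I = I ⊔ Submodule.span Γ(X, U) {a} := eq_of_le_of_not_lt hle (hmax _ hI')
    rw [heq]
    exact Submodule.mem_sup_right (Submodule.mem_span_singleton_self a)
  have hres : G.presheaf.map (homOfLE hh2).op (t a haI) = hr ^ n • γ' := by
    apply hinj
    rw [app_res, ht a haI, res_res, Scheme.Modules.Hom.app_smul, ha]
  have hgerm : G.presheaf.germ (X.basicOpen f) y hyf (t a haI) ∈ W := hA a haI _ (ht a haI)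
  have h1 : G.presheaf.germ (X.basicOpen f) y hyf (t a haI) =
      (X.presheaf.germ (X.basicOpen h) y hyh hr) ^ n • G.presheaf.germ N' y hyN' γ := by
    have h2 := TopCat.Presheaf.germ_res_apply G.presheaf (homOfLE hh2) y hyh (t a haI)
    rw [← h2, hres, germ_smul, map_pow, hγ', TopCat.Presheaf.germ_res_apply]
  have hunit : IsUnit (X.presheaf.germ (X.basicOpen h) y hyh hr) := by
    rw [hhr, TopCat.Presheaf.germ_res_apply]
    exact (Scheme.mem_basicOpen _ _ _ hyU).mp hyh
  obtain ⟨u, hu⟩ := hunit.pow n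
  have h3 : G.presheaf.germ N' y hyN' γ =
      ((u⁻¹ : (X.presheaf.stalk y)ˣ) : X.presheaf.stalk y) •
        G.presheaf.germ (X.basicOpen f) y hyf (t a haI) := by
    rw [h1, ← hu, smul_smul, Units.inv_mul, one_smul]
  rw [h3]
  exact W.smul_mem _ hgerm

/-- Noetherian induction on closed subsets. -/
theorem main [IsNoetherian X] (ι : G ⟶ Coh.structureModule X) [Mono ι] (s : Closeds X) :
    ∃ T : Set (Σ U : X.Opens, Γ(G, U)), T.Finite ∧ ∀ x ∈ (s : Set X), Gen G T x := by
  apply wellFounded_lt.induction s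
  clear s
  intro s H
  rcases eq_or_ne s ⊥ with rfl | h₀
  · exact ⟨∅, Set.finite_empty, fun x hx => (Set.notMem_empty x hx).elim⟩
  · by_cases h₁ : IsPreirreducible (s : Set X)
    · have hirr : IsIrreducible (s : Set X) := ⟨Closeds.coe_nonempty.2 h₀, h₁⟩
      obtain ⟨ξ, hξ⟩ : ∃ ξ : X, closure ({ξ} : Set X) = (s : Set X) :=
        ⟨hirr.genericPoint, hirr.closure_genericPoint s.isClosed⟩
      obtain ⟨N, hξN, T₁, hT₁, hN⟩ := core G ι ξ
      let s' : Closeds X := s ⊓ ⟨(N : Set X)ᶜ, N.2.isClosed_compl⟩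
      have hξs : ξ ∈ (s : Set X) := by
        rw [← hξ]
        exact subset_closure rfl
      have hlt : s' < s := by
        refine lt_of_le_of_ne inf_le_left ?_
        intro heq
        have hmem : ξ ∈ (s' : Set X) := by
          rw [heq]
          exact hξs
        exact hmem.2 hξN
      obtain ⟨T₂, hT₂, hs'⟩ := H s' hlt
      refine ⟨T₁ ∪ T₂, hT₁.union hT₂, fun x hx => ?_⟩
      by_cases hxN : x ∈ N
      · refine (hN x hxN ?_).mono G Set.subset_union_left
        rw [specializes_iff_mem_closure, hξ]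
        exact hx
      · exact (hs' x ⟨hx, hxN⟩).mono G Set.subset_union_right
    · simp only [isPreirreducible_iff_isClosed_union_isClosed, not_forall, not_or] at h₁
      obtain ⟨z₁, z₂, hz₁, hz₂, h, hz₁', hz₂'⟩ := h₁
      lift z₁ to Closeds X using hz₁
      lift z₂ to Closeds X using hz₂
      obtain ⟨T₁, hT₁, h₁⟩ := H (s ⊓ z₁) (inf_lt_left.2 hz₁')
      obtain ⟨T₂, hT₂, h₂⟩ := H (s ⊓ z₂) (inf_lt_left.2 hz₂')
      refine ⟨T₁ ∪ T₂, hT₁.union hT₂, fun x hx => ?_⟩
      rcases h hx with hx1 | hx2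
      · exact (h₁ x ⟨hx, hx1⟩).mono G Set.subset_union_left
      · exact (h₂ x ⟨hx, hx2⟩).mono G Set.subset_union_right

end aux

open Coherent in
/-- Let X be a Noetherian scheme and G ⟶ O_X a sub-O_X-module of the structure sheaf (a sheaf of ideals,
not necessarily quasi-coherent). Then there are finitely many opens U_i of X and finitely many
sections s_{ij} ∈ G(U_i) such that for every point x of X the germs at x of those s_{ij} with x ∈
U_i generate the stalk G_x as an O_{X,x}-module. -/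
theorem result {X : Scheme.{u}} [IsNoetherian X]
    (G : X.Modules) (ι : G ⟶ Coh.structureModule X) [Mono ι] :
    ∃ (m : ℕ) (U : Fin m → X.Opens) (k : Fin m → ℕ)
      (s : (i : Fin m) → Fin (k i) → (G.presheaf.obj (Opposite.op (U i)) : Type u)),
      ∀ x : X, Submodule.span (X.presheaf.stalk x)
          (Set.range (fun p : (Σ i : {i : Fin m // x ∈ U i}, Fin (k i.1)) =>
            (G.presheaf.germ (U p.1.1) x p.1.2) (s p.1.1 p.2))) = ⊤ := by
  obtain ⟨T, hT, hgen⟩ := main G ι ⊤
  haveI : Finite T := hT.to_subtype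
  let e : T ≃ Fin (Nat.card T) := Finite.equivFin T
  refine ⟨Nat.card T, fun i => (e.symm i).1.1, fun _ => 1, fun i _ => (e.symm i).1.2,
    fun x => ?_⟩
  have hx : Gen G T x := hgen x (Set.mem_univ x)
  unfold Gen at hx
  rw [eq_top_iff, ← hx]
  refine Submodule.span_mono ?_
  rintro g ⟨p, hp, hxp, rfl⟩
  have key : ∀ (q : T) (_ : q = ⟨p, hp⟩) (hxq : x ∈ q.1.1),
      G.presheaf.germ q.1.1 x hxq q.1.2 = G.presheaf.germ p.1 x hxp p.2 := by
    rintro q rfl hxq
    rfl
  have hi : e.symm (e ⟨p, hp⟩) = ⟨p, hp⟩ := e.symm_apply_apply _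
  have hxi : x ∈ (e.symm (e ⟨p, hp⟩)).1.1 := by
    rw [hi]
    exact hxp
  exact ⟨⟨⟨e ⟨p, hp⟩, hxi⟩, 0⟩, key _ hi hxi⟩

end Groth.Agent.S11167
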