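import Groth.Statements.S11180
import Groth.Agent.Lead.CompleteNoetherian
import Mathlib.RingTheory.AdicCompletion.AsTensorProduct
import Mathlib.RingTheory.Flat.Localization

set_option autoImplicit false
universe u
open scoped TensorProduct
open CAlg

namespace Groth.Agent.S11180

/-- Let A be a Noetherian ring and M an A-module. If an element m of M is such that 1 ⊗ m = 0 in B ⊗_A M
for every A-algebra B which is a complete Noetherian local ring, flat over A, then m = 0.
(Equivalently the natural map from M to the limit of the modules B ⊗_A M over all such B is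
injective.) -/
theorem result (A : Type u) [CommRing A] [IsNoetherianRing A] (M : Type u) [AddCommGroup M] [Module A M] (m : M) (h : ∀ (B : Type u) [CommRing B] [Algebra A B] [IsNoetherianRing B] [IsLocalRing B], IsAdicComplete (IsLocalRing.maximalIdeal B) B → Module.Flat A B → (1 : B) ⊗ₜ[A] m = 0) : m = 0 := by
  classical
  by_contra hm
  set f : A →ₗ[A] M := LinearMap.toSpanSingleton A M m with hf
  set 𝔞 : Ideal A := LinearMap.ker f with h𝔞def
  have h𝔞 : 𝔞 ≠ ⊤ := by
    intro htop
    have h1 : (1 : A) ∈ 𝔞 := by rw [htop]; trivial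
    rw [h𝔞def, LinearMap.mem_ker, hf, LinearMap.toSpanSingleton_apply, one_smul] at h1
    exact hm h1
  obtain ⟨𝔪, h𝔪max, hle⟩ := Ideal.exists_le_maximal 𝔞 h𝔞
  have := h𝔪max
  let R := Localization.AtPrime 𝔪
  let B := AdicCompletion (IsLocalRing.maximalIdeal R) R
  have : IsNoetherianRing R := IsLocalization.isNoetherianRing 𝔪.primeCompl R inferInstance
  have : IsNoetherianRing B :=
    Groth.Agent.Lead.isNoetherianRing_adicCompletion _
      (IsLocalRing.maximalIdeal R).fg_of_isNoetherianRing
  have hcomp : IsAdicComplete (IsLocalRing.maximalIdeal B) B :=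
    AdicCompletion.isAdicComplete_of_fg (IsLocalRing.maximalIdeal R).fg_of_isNoetherianRing
  have : Module.Flat A R := IsLocalization.flat R 𝔪.primeCompl
  have : Module.Flat A B := Module.Flat.trans A R B
  have h0 := h B hcomp inferInstance
  let ι : (A ⧸ 𝔞) →ₗ[A] M := Submodule.liftQ 𝔞 f le_rfl
  have hι : Function.Injective ι :=
    LinearMap.ker_eq_bot.mp (Submodule.ker_liftQ_eq_bot _ _ _ le_rfl)
  have hinj := Module.Flat.lTensor_preserves_injective_linearMap (M := B) ι hι
  have h1 : (1 : B) ⊗ₜ[A] (Submodule.Quotient.mk (1 : A) : A ⧸ 𝔞) = 0 := by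
    apply hinj
    rw [LinearMap.lTensor_tmul, map_zero]
    have h2 : ι (Submodule.Quotient.mk 1) = m := by
      show f 1 = m
      rw [hf, LinearMap.toSpanSingleton_apply, one_smul]
    rw [h2]
    exact h0
  have h2 : (1 : B) ∈ 𝔞 • (⊤ : Submodule A B) := by
    rw [← LinearMap.ker_tensorProductMk, LinearMap.mem_ker]
    have h3 := congrArg (TensorProduct.comm A B (A ⧸ 𝔞)) h1
    rw [TensorProduct.comm_tmul, map_zero] at h3
    exact h3
  have h3 : 𝔞 • (⊤ : Submodule A B) ≤ (IsLocalRing.maximalIdeal B).restrictScalars A := by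
    rw [Submodule.smul_le]
    intro a ha b _
    rw [Submodule.restrictScalars_mem, Algebra.smul_def]
    apply Ideal.mul_mem_right
    have ha' : algebraMap A R a ∈ IsLocalRing.maximalIdeal R :=
      (IsLocalization.AtPrime.to_map_mem_maximal_iff R 𝔪 a).mpr (hle ha)
    rw [IsScalarTower.algebraMap_apply A R B]
    exact map_nonunit (algebraMap R B) _ ha'
  have h4 := h3 h2
  rw [Submodule.restrictScalars_mem] at h4
  exact (Ideal.ne_top_iff_one _).mp (IsLocalRing.maximalIdeal.isMaximal B).ne_top h4

end Groth.Agent.S11180
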