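import Groth.Statements.S11181
import Mathlib
import Groth.Agent.S11180
import Groth.Agent.H87.ComplIso
import Groth.Agent.Lead.CompleteNoetherian

set_option autoImplicit false
universe u
open scoped TensorProduct
open CAlg

namespace Groth.Agent.S11181

/-- an object of the index category: a complete Noetherian local flat `A`-algebra. -/
structure Obj (A : Type u) [CommRing A] where
  B : Type u
  [cr : CommRing B]
  [alg : Algebra A B]
  [noeth : IsNoetherianRing B]
  [loc : IsLocalRing B]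
  comp : IsAdicComplete (IsLocalRing.maximalIdeal B) B
  flat : Module.Flat A B

attribute [instance] Obj.cr Obj.alg Obj.noeth Obj.loc

section
variable {A : Type u} [CommRing A]

/-- compatibility of a family -/
def Compat {M : Type u} [AddCommGroup M] [Module A M] (x : ∀ O : Obj A, O.B ⊗[A] M) : Prop :=
  ∀ (O O' : Obj A) (g : O.B →ₐ[A] O'.B), LinearMap.rTensor M g.toLinearMap (x O) = x O'

/-- the property: every compatible family is constant -/
def P (A : Type u) [CommRing A] (M : Type u) [AddCommGroup M] [Module A M] : Prop :=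
  ∀ x : (∀ O : Obj A, O.B ⊗[A] M), Compat x → ∃ m : M, ∀ O : Obj A, x O = (1 : O.B) ⊗ₜ[A] m

theorem P_of_subsingleton (M : Type u) [AddCommGroup M] [Module A M] [Subsingleton M] : P A M := by
  intro x _
  refine ⟨0, fun O => ?_⟩
  rw [TensorProduct.tmul_zero]
  induction x O using TensorProduct.induction_on with
  | zero => rfl
  | tmul b m => rw [Subsingleton.elim m 0, TensorProduct.tmul_zero]
  | add a b ha hb => rw [ha, hb, add_zero]

theorem P_of_exact {N₁ N₂ N₃ : Type u} [AddCommGroup N₁] [Module A N₁] [AddCommGroup N₂]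
    [Module A N₂] [AddCommGroup N₃] [Module A N₃]
    (f : N₁ →ₗ[A] N₂) (g : N₂ →ₗ[A] N₃) (hf : Function.Injective f) (hg : Function.Surjective g)
    (hfg : Function.Exact f g) (h₁ : P A N₁) (h₃ : P A N₃) : P A N₂ := by
  intro x hx
  obtain ⟨n₃, hn₃⟩ := h₃ (fun O => LinearMap.lTensor O.B g (x O)) (by
    intro O O' φ
    show LinearMap.rTensor N₃ φ.toLinearMap (LinearMap.lTensor O.B g (x O)) =
      LinearMap.lTensor O'.B g (x O')
    rw [← hx O O' φ, ← LinearMap.comp_apply, ← LinearMap.comp_apply,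
      LinearMap.rTensor_comp_lTensor, LinearMap.lTensor_comp_rTensor])
  obtain ⟨n₂, rfl⟩ := hg n₃
  have hex : ∀ O : Obj A, ∃ u : O.B ⊗[A] N₁,
      LinearMap.lTensor O.B f u = x O - (1 : O.B) ⊗ₜ[A] n₂ := by
    intro O
    have hE : Function.Exact (LinearMap.lTensor O.B f) (LinearMap.lTensor O.B g) :=
      lTensor_exact O.B hfg hg
    apply (hE _).mp
    rw [map_sub, hn₃ O, LinearMap.lTensor_tmul, sub_self]
  choose u hu using hex
  have hinj : ∀ O : Obj A, Function.Injective (LinearMap.lTensor O.B f) := fun O =>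
    haveI := O.flat
    Module.Flat.lTensor_preserves_injective_linearMap f hf
  obtain ⟨n₁, hn₁⟩ := h₁ u (by
    intro O O' φ
    apply hinj O'
    rw [hu O', ← hx O O' φ, ← LinearMap.comp_apply, LinearMap.lTensor_comp_rTensor,
      ← LinearMap.rTensor_comp_lTensor, LinearMap.comp_apply, hu O, map_sub,
      LinearMap.rTensor_tmul, AlgHom.toLinearMap_apply, map_one])
  refine ⟨f n₁ + n₂, fun O => ?_⟩
  have h := hu O
  rw [hn₁ O, LinearMap.lTensor_tmul] at h
  rw [TensorProduct.tmul_add, h]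
  abel

/-! ### tensoring with a quotient of `A` -/

theorem tmul_one_eq_zero_iff {B : Type u} [CommRing B] [Algebra A B] (I : Ideal A) (b : B) :
    b ⊗ₜ[A] (1 : A ⧸ I) = 0 ↔ b ∈ I • (⊤ : Submodule A B) := by
  rw [← LinearMap.ker_tensorProductMk, LinearMap.mem_ker, TensorProduct.mk_apply]
  constructor
  · intro h
    have h3 := congrArg (TensorProduct.comm A B (A ⧸ I)) h
    rw [TensorProduct.comm_tmul, map_zero] at h3
    exact h3
  · intro h
    have h3 := congrArg (TensorProduct.comm A (A ⧸ I) B) h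
    rw [TensorProduct.comm_tmul, map_zero] at h3
    exact h3

theorem smul_one_quot (I : Ideal A) (a : A) : a • (1 : A ⧸ I) = Ideal.Quotient.mk I a := by
  rw [Algebra.smul_def, mul_one, Ideal.Quotient.algebraMap_eq]

theorem exists_tmul_one {B : Type u} [CommRing B] [Algebra A B] (I : Ideal A)
    (t : B ⊗[A] (A ⧸ I)) : ∃ b : B, t = b ⊗ₜ[A] (1 : A ⧸ I) := by
  induction t using TensorProduct.induction_on with
  | zero => exact ⟨0, (TensorProduct.zero_tmul _ _).symm⟩
  | tmul b q =>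
    obtain ⟨a, rfl⟩ := Ideal.Quotient.mk_surjective q
    refine ⟨a • b, ?_⟩
    rw [TensorProduct.smul_tmul, smul_one_quot]
  | add s t hs ht =>
    obtain ⟨b, rfl⟩ := hs
    obtain ⟨c, rfl⟩ := ht
    exact ⟨b + c, (TensorProduct.add_tmul _ _ _).symm⟩

theorem smul_eq_zero_of_mem {B : Type u} [CommRing B] [Algebra A B] (I : Ideal A) (p : A)
    (hp : p ∈ I) (t : B ⊗[A] (A ⧸ I)) : p • t = 0 := by
  induction t using TensorProduct.induction_on with
  | zero => exact smul_zero _
  | tmul b q =>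
    rw [← TensorProduct.tmul_smul, Algebra.smul_def, Ideal.Quotient.algebraMap_eq,
      Ideal.Quotient.eq_zero_iff_mem.mpr hp, zero_mul, TensorProduct.tmul_zero]
  | add s t hs ht => rw [smul_add, hs, ht, add_zero]

theorem smul_tmul_injective {B : Type u} [CommRing B] [Algebra A B] [Module.Flat A B]
    (𝔭 : Ideal A) [𝔭.IsPrime] (s : A) (hs : s ∉ 𝔭) (t : B ⊗[A] (A ⧸ 𝔭)) (h : s • t = 0) :
    t = 0 := by
  have hinj : Function.Injective (s • (LinearMap.id : (A ⧸ 𝔭) →ₗ[A] (A ⧸ 𝔭))) := by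
    intro q q' hq
    rw [LinearMap.smul_apply, LinearMap.smul_apply, LinearMap.id_apply, LinearMap.id_apply,
      Algebra.smul_def, Algebra.smul_def] at hq
    refine mul_left_cancel₀ ?_ hq
    rw [Ideal.Quotient.algebraMap_eq, Ne, Ideal.Quotient.eq_zero_iff_mem]
    exact hs
  have hI := Module.Flat.lTensor_preserves_injective_linearMap (M := B) _ hinj
  apply hI
  rw [map_zero, LinearMap.lTensor_smul, LinearMap.lTensor_id, LinearMap.smul_apply,
    LinearMap.id_apply, h]

/-! ### the completed localisations -/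

instance instNoethLoc (B : Type u) [CommRing B] [IsNoetherianRing B] (𝔯 : Ideal B) [𝔯.IsPrime] :
    IsNoetherianRing (Localization.AtPrime 𝔯) :=
  IsLocalization.isNoetherianRing 𝔯.primeCompl _ inferInstance

instance instNoethCompl (R : Type u) [CommRing R] [IsNoetherianRing R] [IsLocalRing R] :
    IsNoetherianRing (AdicCompletion (IsLocalRing.maximalIdeal R) R) :=
  Groth.Agent.Lead.isNoetherianRing_adicCompletion _
    (IsLocalRing.maximalIdeal R).fg_of_isNoetherianRing

/-- the completion of the localisation of `B` at `𝔯` -/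
abbrev Cpl (B : Type u) [CommRing B] (𝔯 : Ideal B) [𝔯.IsPrime] : Type u :=
  AdicCompletion (IsLocalRing.maximalIdeal (Localization.AtPrime 𝔯)) (Localization.AtPrime 𝔯)

theorem flat_cpl (B : Type u) [CommRing B] [Algebra A B] [IsNoetherianRing B] [Module.Flat A B]
    (𝔯 : Ideal B) [𝔯.IsPrime] : Module.Flat A (Cpl B 𝔯) := by
  haveI : Module.Flat B (Localization.AtPrime 𝔯) := IsLocalization.flat _ 𝔯.primeCompl
  haveI : Module.Flat A (Localization.AtPrime 𝔯) := Module.Flat.trans A B _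
  exact Module.Flat.trans A (Localization.AtPrime 𝔯) _

/-- the object attached to a prime of a Noetherian flat `A`-algebra -/
@[reducible] noncomputable def locObj (B : Type u) [CommRing B] [Algebra A B] [IsNoetherianRing B]
    [Module.Flat A B] (𝔯 : Ideal B) [𝔯.IsPrime] : Obj A where
  B := Cpl B 𝔯
  comp := AdicCompletion.isAdicComplete_of_fg
    (IsLocalRing.maximalIdeal (Localization.AtPrime 𝔯)).fg_of_isNoetherianRing
  flat := flat_cpl B 𝔯

theorem tower (B : Type u) [CommRing B] [Algebra A B] (𝔯 : Ideal B) [𝔯.IsPrime] :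
    IsScalarTower A B (Cpl B 𝔯) :=
  IsScalarTower.of_algebraMap_eq (fun a => by
    rw [AdicCompletion.algebraMap_apply, AdicCompletion.algebraMap_apply,
      IsScalarTower.algebraMap_apply A B (Localization.AtPrime 𝔯)])

theorem exists_sub_mem (R : Type u) [CommRing R] [IsNoetherianRing R] [IsLocalRing R]
    (b : AdicCompletion (IsLocalRing.maximalIdeal R) R) :
    ∃ z : R, algebraMap R (AdicCompletion (IsLocalRing.maximalIdeal R) R) z - b ∈
      (IsLocalRing.maximalIdeal R) •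
        (⊤ : Submodule R (AdicCompletion (IsLocalRing.maximalIdeal R) R)) := by
  have fg := (IsLocalRing.maximalIdeal R).fg_of_isNoetherianRing
  rcases Ideal.Quotient.mk_surjective (b.1 1) with ⟨z, hz⟩
  refine ⟨z, ?_⟩
  have : (algebraMap R (AdicCompletion (IsLocalRing.maximalIdeal R) R)) z - b ∈
      (IsLocalRing.maximalIdeal R) ^ 1 •
        (⊤ : Submodule R (AdicCompletion (IsLocalRing.maximalIdeal R) R)) := by
    rw [AdicCompletion.algebraMap_apply, AdicCompletion.pow_smul_top_eq_ker_eval fg]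
    simpa [AdicCompletion.eval, sub_eq_zero] using hz
  simpa using this

theorem max_smul_top_le (𝔭 : Ideal A) [𝔭.IsPrime] (C : Type u) [AddCommGroup C] [Module A C]
    [Module (Localization.AtPrime 𝔭) C] [IsScalarTower A (Localization.AtPrime 𝔭) C] (c : C)
    (hc : c ∈ (IsLocalRing.maximalIdeal (Localization.AtPrime 𝔭)) •
      (⊤ : Submodule (Localization.AtPrime 𝔭) C)) : c ∈ 𝔭 • (⊤ : Submodule A C) := by
  refine Submodule.smul_induction_on hc ?_ ?_
  · intro r hr c _
    obtain ⟨p, s, rfl⟩ := IsLocalization.exists_mk'_eq 𝔭.primeCompl r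
    have hp : p ∈ 𝔭 := (IsLocalization.AtPrime.mk'_mem_maximal_iff _ 𝔭 p s).mp hr
    rw [IsLocalization.mk'_eq_mul_mk'_one, mul_smul, algebraMap_smul]
    exact Submodule.smul_mem_smul hp Submodule.mem_top
  · intro x y hx hy
    exact add_mem hx hy

theorem exists_smul_eq [IsNoetherianRing A] (𝔭 : Ideal A) [𝔭.IsPrime]
    (y : (Cpl A 𝔭) ⊗[A] (A ⧸ 𝔭)) :
    ∃ a s : A, s ∉ 𝔭 ∧ s • y = (1 : Cpl A 𝔭) ⊗ₜ[A] (Ideal.Quotient.mk 𝔭 a) := by
  obtain ⟨b, rfl⟩ := exists_tmul_one 𝔭 y
  obtain ⟨z, hz⟩ := exists_sub_mem (Localization.AtPrime 𝔭) b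
  obtain ⟨a, s, rfl⟩ := IsLocalization.exists_mk'_eq 𝔭.primeCompl z
  refine ⟨a, s, s.2, ?_⟩
  have h1 := max_smul_top_le 𝔭 (Cpl A 𝔭) _ hz
  have h2 : (s : A) • b - a • (1 : Cpl A 𝔭) ∈ 𝔭 • (⊤ : Submodule A (Cpl A 𝔭)) := by
    have h3 : (s : A) • b - a • (1 : Cpl A 𝔭) =
        - ((s : A) • (algebraMap (Localization.AtPrime 𝔭) (Cpl A 𝔭)
          (IsLocalization.mk' (Localization.AtPrime 𝔭) a s) - b)) := by
      have h4 : (s : A) • algebraMap (Localization.AtPrime 𝔭) (Cpl A 𝔭)
          (IsLocalization.mk' (Localization.AtPrime 𝔭) a s) = a • (1 : Cpl A 𝔭) := by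
        rw [Algebra.smul_def (s : A),
          IsScalarTower.algebraMap_apply A (Localization.AtPrime 𝔭) (Cpl A 𝔭), ← map_mul,
          IsLocalization.mk'_spec', ← IsScalarTower.algebraMap_apply,
          Algebra.algebraMap_eq_smul_one]
      rw [smul_sub, h4]
      abel
    rw [h3]
    exact neg_mem (Submodule.smul_mem _ _ h1)
  have h5 := (tmul_one_eq_zero_iff 𝔭 _).mpr h2
  rw [TensorProduct.sub_tmul, sub_eq_zero, TensorProduct.smul_tmul a, smul_one_quot] at h5
  rw [TensorProduct.smul_tmul', h5]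

/-! ### the flatness argument -/

theorem one_tmul_ne_zero (B : Type u) [CommRing B] [IsNoetherianRing B] (W : Type u)
    [AddCommGroup W] [Module B W] (w : W) (𝔯 : Ideal B) [𝔯.IsPrime]
    (hle : LinearMap.ker (LinearMap.toSpanSingleton B W w) ≤ 𝔯) :
    (1 : Cpl B 𝔯) ⊗ₜ[B] w ≠ 0 := by
  intro h0
  set f : B →ₗ[B] W := LinearMap.toSpanSingleton B W w with hf
  set 𝔞 : Ideal B := LinearMap.ker f with h𝔞def
  let R := Localization.AtPrime 𝔯
  let B' := Cpl B 𝔯
  have : Module.Flat B R := IsLocalization.flat R 𝔯.primeCompl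
  have : Module.Flat B B' := Module.Flat.trans B R B'
  let ι : (B ⧸ 𝔞) →ₗ[B] W := Submodule.liftQ 𝔞 f le_rfl
  have hι : Function.Injective ι :=
    LinearMap.ker_eq_bot.mp (Submodule.ker_liftQ_eq_bot _ _ _ le_rfl)
  have hinj := Module.Flat.lTensor_preserves_injective_linearMap (M := B') ι hι
  have h1 : (1 : B') ⊗ₜ[B] (Submodule.Quotient.mk (1 : B) : B ⧸ 𝔞) = 0 := by
    apply hinj
    rw [LinearMap.lTensor_tmul, map_zero]
    have h2 : ι (Submodule.Quotient.mk 1) = w := by
      show f 1 = w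
      rw [hf, LinearMap.toSpanSingleton_apply, one_smul]
    rw [h2]
    exact h0
  have h2 : (1 : B') ∈ 𝔞 • (⊤ : Submodule B B') := by
    rw [← LinearMap.ker_tensorProductMk, LinearMap.mem_ker]
    have h3 := congrArg (TensorProduct.comm B B' (B ⧸ 𝔞)) h1
    rw [TensorProduct.comm_tmul, map_zero] at h3
    exact h3
  have h3 : 𝔞 • (⊤ : Submodule B B') ≤ (IsLocalRing.maximalIdeal B').restrictScalars B := by
    rw [Submodule.smul_le]
    intro a ha b _
    rw [Submodule.restrictScalars_mem, Algebra.smul_def]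
    apply Ideal.mul_mem_right
    have ha' : algebraMap B R a ∈ IsLocalRing.maximalIdeal R :=
      (IsLocalization.AtPrime.to_map_mem_maximal_iff R 𝔯 a).mpr (hle ha)
    rw [IsScalarTower.algebraMap_apply B R B']
    exact map_nonunit (algebraMap R B') _ ha'
  have h4 := h3 h2
  rw [Submodule.restrictScalars_mem] at h4
  exact (Ideal.ne_top_iff_one _).mp (IsLocalRing.maximalIdeal.isMaximal B').ne_top h4

theorem cancel_one_tmul (B B' : Type u) [CommRing B] [CommRing B'] [Algebra A B] [Algebra A B']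
    [Algebra B B'] [IsScalarTower A B B'] (M : Type u) [AddCommGroup M] [Module A M]
    (w : B ⊗[A] M) :
    TensorProduct.AlgebraTensorModule.cancelBaseChange A B B' B' M ((1 : B') ⊗ₜ[B] w) =
      LinearMap.rTensor M (IsScalarTower.toAlgHom A B B').toLinearMap w := by
  induction w using TensorProduct.induction_on with
  | zero => simp
  | tmul b m =>
    rw [TensorProduct.AlgebraTensorModule.cancelBaseChange_tmul, LinearMap.rTensor_tmul]
    congr 1
    rw [Algebra.smul_def, mul_one]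
    rfl
  | add x y hx hy => rw [TensorProduct.tmul_add, map_add, map_add, hx, hy]

/-- the comparison map from the completion of `A_𝔭` -/
theorem exists_hom (𝔭 : Ideal A) [𝔭.IsPrime] (B : Type u) [CommRing B] [Algebra A B]
    (𝔯 : Ideal B) [𝔯.IsPrime] (h𝔭𝔯 : ∀ p ∈ 𝔭, algebraMap A B p ∈ 𝔯)
    (hS𝔯 : ∀ s, s ∉ 𝔭 → algebraMap A B s ∉ 𝔯) : Nonempty (Cpl A 𝔭 →ₐ[A] Cpl B 𝔯) := by
  have hf : ∀ y : 𝔭.primeCompl, IsUnit (Algebra.ofId A (Localization.AtPrime 𝔯) y) := by
    intro y
    rw [Algebra.ofId_apply, IsScalarTower.algebraMap_apply A B (Localization.AtPrime 𝔯)]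
    exact IsLocalization.map_units (Localization.AtPrime 𝔯)
      (⟨algebraMap A B y, hS𝔯 y y.2⟩ : 𝔯.primeCompl)
  let φ : Localization.AtPrime 𝔭 →ₐ[A] Localization.AtPrime 𝔯 :=
    IsLocalization.liftAlgHom (M := 𝔭.primeCompl) hf
  have hφ : IsLocalRing.maximalIdeal (Localization.AtPrime 𝔭) ≤
      (IsLocalRing.maximalIdeal (Localization.AtPrime 𝔯)).comap φ := by
    rw [← IsLocalization.AtPrime.map_eq_maximalIdeal 𝔭 (Localization.AtPrime 𝔭),
      Ideal.map_le_iff_le_comap]
    intro p hp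
    rw [Ideal.mem_comap, Ideal.mem_comap, AlgHom.commutes,
      IsScalarTower.algebraMap_apply A B (Localization.AtPrime 𝔯)]
    exact (IsLocalization.AtPrime.to_map_mem_maximal_iff _ 𝔯 _).mpr (h𝔭𝔯 p hp)
  exact ⟨Groth.Agent.H87.ComplIso.hatMap _ _ φ hφ⟩

theorem key [IsNoetherianRing A] (𝔭 : Ideal A) [𝔭.IsPrime]
    (z : ∀ O : Obj A, O.B ⊗[A] (A ⧸ 𝔭)) (hz : Compat z) (h0 : z (locObj A 𝔭) = 0) (O : Obj A) :
    z O = 0 := by
  by_contra hw
  haveI := O.flat
  let f : O.B →ₗ[O.B] (O.B ⊗[A] (A ⧸ 𝔭)) := LinearMap.toSpanSingleton O.B _ (z O)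
  let I : Ideal O.B := LinearMap.ker f
  have hmemI : ∀ b : O.B, b ∈ I ↔ b • z O = 0 := by
    intro b
    rw [LinearMap.mem_ker, LinearMap.toSpanSingleton_apply]
  have hsm : ∀ (a : A) (t : O.B ⊗[A] (A ⧸ 𝔭)), (algebraMap A O.B a) • t = a • t :=
    fun a t => algebraMap_smul O.B a t
  have hdisj : Disjoint (I : Set O.B)
      (Submonoid.map (algebraMap A O.B) 𝔭.primeCompl : Submonoid O.B) := by
    rw [Set.disjoint_left]
    rintro _ hI ⟨s, hs, rfl⟩
    have h1 := (hmemI _).mp hI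
    rw [hsm] at h1
    exact hw (smul_tmul_injective 𝔭 s hs _ h1)
  obtain ⟨𝔯, h𝔯prime, hI𝔯, h𝔯disj⟩ := Ideal.exists_le_prime_disjoint I _ hdisj
  haveI := h𝔯prime
  have h𝔭𝔯 : ∀ p ∈ 𝔭, algebraMap A O.B p ∈ 𝔯 := by
    intro p hp
    apply hI𝔯
    rw [hmemI, hsm]
    exact smul_eq_zero_of_mem 𝔭 p hp _
  have hS𝔯 : ∀ s, s ∉ 𝔭 → algebraMap A O.B s ∉ 𝔯 := by
    intro s hs hmem
    exact Set.disjoint_left.mp h𝔯disj hmem ⟨s, hs, rfl⟩
  haveI := tower (A := A) O.B 𝔯
  have hg := hz O (locObj O.B 𝔯) (IsScalarTower.toAlgHom A O.B (Cpl O.B 𝔯))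
  obtain ⟨h⟩ := exists_hom 𝔭 O.B 𝔯 h𝔭𝔯 hS𝔯
  have hh := hz (locObj A 𝔭) (locObj O.B 𝔯) h
  rw [h0, map_zero] at hh
  rw [← hh] at hg
  have h1 : (1 : Cpl O.B 𝔯) ⊗ₜ[O.B] (z O) = 0 := by
    apply (TensorProduct.AlgebraTensorModule.cancelBaseChange A O.B (Cpl O.B 𝔯) (Cpl O.B 𝔯)
      (A ⧸ 𝔭)).injective
    rw [cancel_one_tmul, map_zero]
    exact hg
  exact one_tmul_ne_zero O.B _ (z O) 𝔯 hI𝔯 h1

theorem P_quot [IsNoetherianRing A] (𝔭 : Ideal A) [𝔭.IsPrime] : P A (A ⧸ 𝔭) := by
  intro x hx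
  obtain ⟨a, s, hs, hy⟩ := exists_smul_eq 𝔭 (x (locObj A 𝔭))
  have hz0 : ∀ O : Obj A, s • x O - (1 : O.B) ⊗ₜ[A] (Ideal.Quotient.mk 𝔭 a) = 0 := by
    apply key 𝔭 (fun O => s • x O - (1 : O.B) ⊗ₜ[A] (Ideal.Quotient.mk 𝔭 a))
    · intro O O' g
      show LinearMap.rTensor (A ⧸ 𝔭) g.toLinearMap
        (s • x O - (1 : O.B) ⊗ₜ[A] (Ideal.Quotient.mk 𝔭 a)) =
        s • x O' - (1 : O'.B) ⊗ₜ[A] (Ideal.Quotient.mk 𝔭 a)
      rw [map_sub, map_smul, LinearMap.rTensor_tmul, AlgHom.toLinearMap_apply, map_one,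
        hx O O' g]
    · show s • x (locObj A 𝔭) - _ = 0
      rw [hy, sub_self]
  -- `a ∈ 𝔭 + (s)`
  have haJ : Ideal.Quotient.mk (𝔭 ⊔ Ideal.span {s}) a = 0 := by
    apply Groth.Agent.S11180.result A (A ⧸ (𝔭 ⊔ Ideal.span {s}))
    intro B _ _ _ _ hB hBf
    let O : Obj A := ⟨B, hB, hBf⟩
    have h1 := hz0 O
    obtain ⟨b, hb⟩ := exists_tmul_one 𝔭 (x O)
    change x O = (b : B) ⊗ₜ[A] (1 : A ⧸ 𝔭) at hb
    change s • x O - (1 : B) ⊗ₜ[A] (Ideal.Quotient.mk 𝔭 a) = 0 at h1
    rw [hb, ← smul_one_quot, ← TensorProduct.smul_tmul a, TensorProduct.smul_tmul',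
      ← TensorProduct.sub_tmul, tmul_one_eq_zero_iff] at h1
    rw [← smul_one_quot, ← TensorProduct.smul_tmul a, tmul_one_eq_zero_iff]
    have h2 : a • (1 : B) = s • b - (s • b - a • (1 : B)) := by abel
    rw [h2]
    refine sub_mem (Submodule.smul_mem_smul ?_ Submodule.mem_top)
      (Submodule.smul_mono_left le_sup_left h1)
    exact Ideal.mem_sup_right (Ideal.subset_span rfl)
  rw [Ideal.Quotient.eq_zero_iff_mem, Submodule.mem_sup] at haJ
  obtain ⟨p, hp, q, hq, hpq⟩ := haJ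
  obtain ⟨d, rfl⟩ := Ideal.mem_span_singleton'.mp hq
  refine ⟨Ideal.Quotient.mk 𝔭 d, fun O => ?_⟩
  haveI := O.flat
  rw [← sub_eq_zero]
  apply smul_tmul_injective 𝔭 s hs
  rw [smul_sub, ← TensorProduct.tmul_smul, Algebra.smul_def, Ideal.Quotient.algebraMap_eq,
    ← map_mul]
  have h3 := hz0 O
  rw [sub_eq_zero] at h3
  rw [h3, ← TensorProduct.tmul_sub, ← map_sub, ← hpq]
  have h4 : p + d * s - s * d = p := by ring
  rw [h4, Ideal.Quotient.eq_zero_iff_mem.mpr hp, TensorProduct.tmul_zero]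

theorem main [IsNoetherianRing A] (M : Type u) [AddCommGroup M] [Module A M]
    [hM : Module.Finite A M] : P A M := by
  induction hM using IsNoetherianRing.induction_on_isQuotientEquivQuotientPrime A with
  | subsingleton N => exact P_of_subsingleton N
  | quotient N p e =>
    haveI := p.2
    have h := P_quot p.1
    exact P_of_exact (e.symm : (A ⧸ p.1) →ₗ[A] N) (0 : N →ₗ[A] PUnit.{u+1}) e.symm.injective
      (Function.surjective_to_subsingleton _)
      ((LinearMap.exact_zero_iff_surjective _ _).2 e.symm.surjective) h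
      (P_of_subsingleton PUnit)
  | exact N₁ N₂ N₃ f g hf hg hfg h₁ h₃ => exact P_of_exact f g hf hg hfg h₁ h₃

end

/-- Bijectivity for a finite module: let A be a Noetherian ring and M a finite A-module. Consider the
A-algebras B which are complete Noetherian local rings flat over A, with all A-algebra homomorphisms
between them. Then every family of elements x_B ∈ B ⊗_A M, one for each such B, compatible under the
maps B ⊗_A M → B' ⊗_A M induced by A-algebra homomorphisms B → B', comes from a unique element m of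
M: x_B = 1 ⊗ m for every such B. (The natural map from M to the limit of the B ⊗_A M is bijective.) -/
theorem result (A : Type u) [CommRing A] [IsNoetherianRing A] (M : Type u) [AddCommGroup M] [Module A M] [Module.Finite A M] (x : ∀ (B : Type u) [CommRing B] [Algebra A B] [IsNoetherianRing B] [IsLocalRing B], IsAdicComplete (IsLocalRing.maximalIdeal B) B → Module.Flat A B → TensorProduct A B M) (hx : ∀ (B : Type u) [CommRing B] [Algebra A B] [IsNoetherianRing B] [IsLocalRing B] (hB : IsAdicComplete (IsLocalRing.maximalIdeal B) B) (hBf : Module.Flat A B) (B' : Type u) [CommRing B'] [Algebra A B'] [IsNoetherianRing B'] [IsLocalRing B'] (hB' : IsAdicComplete (IsLocalRing.maximalIdeal B') B') (hB'f : Module.Flat A B') (g : B →ₐ[A] B'), LinearMap.rTensor M g.toLinearMap (x B hB hBf) = x B' hB' hB'f) : ∃! m : M, ∀ (B : Type u) [CommRing B] [Algebra A B] [IsNoetherianRing B] [IsLocalRing B] (hB : IsAdicComplete (IsLocalRing.maximalIdeal B) B) (hBf : Module.Flat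 A B), x B hB hBf = (1 : B) ⊗ₜ[A] m := by
  obtain ⟨m, hm⟩ := main M (fun O => x O.B O.comp O.flat)
    (fun O O' g => hx O.B O.comp O.flat O'.B O'.comp O'.flat g)
  refine ⟨m, fun B _ _ _ _ hB hBf => hm ⟨B, hB, hBf⟩, fun m' hm' => ?_⟩
  rw [← sub_eq_zero]
  apply Groth.Agent.S11180.result A M
  intro B _ _ _ _ hB hBf
  have h1 := hm ⟨B, hB, hBf⟩
  change x B hB hBf = (1 : B) ⊗ₜ[A] m at h1
  rw [TensorProduct.tmul_sub, ← hm' B hB hBf, ← h1, sub_self]

end Groth.Agent.S11181
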