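import Groth.Statements.S11182
import Groth.Agent.H35.InvCx
import Groth.Agent.H35.LTensorCxPerf

set_option autoImplicit false
universe u
open CategoryTheory
attribute [local instance] HasDerivedCategory.standard
open Dual

namespace Groth.Agent.S11182

/-- Let A be a Noetherian local ring, L an object of D(A) and E a cochain complex of A-modules, each
with finite cohomology modules which vanish in all sufficiently large degrees (bounded above), and
assume the total left derived functor − ⊗^L_A E exists on D(A). If L ⊗^L_A E is isomorphic in D(A)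
to A placed in degree zero, then there is an integer n with L ≅ A[n] and E ≅ A[−n] in D(A). (The
published statement is for a connected locally Noetherian scheme, concluding that L is a shifted
invertible sheaf; this row is the local case to which its proof reduces.) -/
theorem result (A : Type u) [CommRing A] [IsLocalRing A] [IsNoetherianRing A] (L : Dual.D A) (E : DRing.Cx A) [DRing.HasLTensorCx A E] (hLfin : ∀ i : ℤ, Module.Finite A (Dual.HD A L i)) (hLbdd : ∃ b : ℤ, ∀ i : ℤ, b < i → Subsingleton (Dual.HD A L i)) (hEfin : ∀ i : ℤ, Module.Finite A (Dual.HD A (DRing.toD E) i)) (hEbdd : ∃ b : ℤ, ∀ i : ℤ, b < i → Subsingleton (Dual.HD A (DRing.toD E) i)) (h : Nonempty ((DRing.LTensorCx A E).obj L ≅ Dual.inD A A)) : ∃ n : ℤ, Nonempty (L ≅ (Dual.inD A A)⟦n⟧) ∧ Nonempty (DRing.toD E ≅ (Dual.inD A A)⟦(-n)⟧) := by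
  classical
  obtain ⟨h⟩ := h
  obtain ⟨a₀, ha₀⟩ := hLbdd
  obtain ⟨b₀, hb₀⟩ := hEbdd
  have hLz : ∀ i, a₀ < i → Limits.IsZero (Groth.Agent.H35.InvCx.H i L) := fun i hi => by
    have := ha₀ i hi
    exact ModuleCat.isZero_of_subsingleton _
  have hEz : ∀ i, b₀ < i → Limits.IsZero (Groth.Agent.H35.InvCx.H i (DRing.toD E)) := fun i hi => by
    have := hb₀ i hi
    exact ModuleCat.isZero_of_subsingleton _
  have hLle : L.IsLE a₀ := (DerivedCategory.isLE_iff L a₀).2 hLz
  have hA : Groth.Agent.H35.InvCx.H 0 (Dual.inD A A) ≅ ModuleCat.of A A :=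
    (DerivedCategory.singleFunctorCompHomologyFunctorIso (ModuleCat.{u} A) 0).app _
  -- `E` is nonzero
  have hE0 : ¬ Limits.IsZero (DRing.toD E) := by
    intro hz
    have hEle : (DRing.toD E).IsLE (-a₀ - 1) := (DerivedCategory.isLE_iff _ _).2
      (fun i _ => (DerivedCategory.homologyFunctor (ModuleCat.{u} A) i).map_isZero hz)
    obtain ⟨Q, hQv, hQfree, ⟨eQ⟩⟩ :=
      Groth.Agent.H35.TorAmp.exists_free_model_of_isLE (DRing.toD E) (-a₀ - 1)
    have hQK : DRing.IsKFlat A Q := Groth.Agent.H31.KFlatRing.isKFlat_of_bounded_above_flat Q _ hQv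
      (Groth.Agent.H35.TorAmp.free_flat Q hQfree)
    have := Groth.Agent.H53.LTensorCxObj.hasLTensorCx Q
    obtain ⟨i1⟩ := Groth.Agent.H35.LTC.nonempty_LTensorCx_iso (K := Q) (E := E) eQ L
    have hle := Groth.Agent.H35.LTensorCxDT.isLE_obj Q hQK (-a₀ - 1) hQv L a₀
    have hz0 : Limits.IsZero (Groth.Agent.H35.InvCx.H 0 ((DRing.LTensorCx A Q).obj L)) :=
      DerivedCategory.isZero_of_isLE _ (a₀ + (-a₀ - 1)) 0 (by omega)
    have h2 : Limits.IsZero (ModuleCat.of A A) := hz0.of_iso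
      (((DerivedCategory.homologyFunctor (ModuleCat.{u} A) 0).mapIso (i1 ≪≫ h) ≪≫ hA).symm)
    have h3 : Subsingleton A := ModuleCat.subsingleton_of_isZero h2
    exact not_subsingleton A h3
  -- the top degree of `E` and a free model
  obtain ⟨b, hbE, hbE'⟩ := Groth.Agent.H35.InvCx.exists_top (DRing.toD E) hE0 b₀ hEz
  have hEle : (DRing.toD E).IsLE b := (DerivedCategory.isLE_iff _ b).2 hbE'
  obtain ⟨Q, hQv, hQfree, ⟨eQ⟩⟩ := Groth.Agent.H35.TorAmp.exists_free_model_of_isLE (DRing.toD E) b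
  have hQK : DRing.IsKFlat A Q := Groth.Agent.H31.KFlatRing.isKFlat_of_bounded_above_flat Q _ hQv
    (Groth.Agent.H35.TorAmp.free_flat Q hQfree)
  have := Groth.Agent.H53.LTensorCxObj.hasLTensorCx Q
  obtain ⟨i1⟩ := Groth.Agent.H35.LTC.nonempty_LTensorCx_iso (K := Q) (E := E) eQ L
  have hQtop : ¬ Limits.IsZero (Groth.Agent.H35.InvCx.H b (DRing.toD Q)) := fun hz =>
    hbE (hz.of_iso ((DerivedCategory.homologyFunctor (ModuleCat.{u} A) b).mapIso eQ.symm))
  have hQfin : Module.Finite A (Groth.Agent.H35.InvCx.H b (DRing.toD Q)) := by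
    have := hEfin b
    exact Module.Finite.equiv
      ((DerivedCategory.homologyFunctor (ModuleCat.{u} A) b).mapIso eQ).toLinearEquiv.symm
  obtain ⟨eL⟩ := Groth.Agent.H35.InvCx.half Q hQK b hQv hQtop hQfin L hLfin a₀ hLz (i1 ≪≫ h)
  -- a free model of `L`
  have hLle' : L.IsLE (-b) := DerivedCategory.TStructure.t.isLE_of_iso eL.symm (-b)
  obtain ⟨P, hPv, hPfree, ⟨eP⟩⟩ := Groth.Agent.H35.TorAmp.exists_free_model_of_isLE L (-b)
  have hPK : DRing.IsKFlat A P := Groth.Agent.H31.KFlatRing.isKFlat_of_bounded_above_flat P _ hPv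
    (Groth.Agent.H35.TorAmp.free_flat P hPfree)
  have := Groth.Agent.H53.LTensorCxObj.hasLTensorCx P
  have i2 : (DRing.LTensorCx A P).obj (DRing.toD E) ≅ Dual.inD A A :=
    (DRing.LTensorCx A P).mapIso eQ.symm ≪≫
      Groth.Agent.H35.LTensorCxDT.θ P hPK (Iso.refl (DRing.toD Q)) ≪≫
      DerivedCategory.Q.mapIso (Groth.Agent.H35.LTC.braidCx Q P) ≪≫
      (Groth.Agent.H35.LTensorCxDT.θ Q hQK eP.symm).symm ≪≫ i1 ≪≫ h
  have eHP : Groth.Agent.H35.InvCx.H (-b) (DRing.toD P) ≅ ModuleCat.of A A :=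
    (DerivedCategory.homologyFunctor (ModuleCat.{u} A) (-b)).mapIso (eP ≪≫ eL) ≪≫
      (DerivedCategory.singleFunctorCompHomologyFunctorIso (ModuleCat.{u} A) (-b)).app _
  have hPtop : ¬ Limits.IsZero (Groth.Agent.H35.InvCx.H (-b) (DRing.toD P)) := fun hz => by
    have h2 : Limits.IsZero (ModuleCat.of A A) := hz.of_iso eHP.symm
    have h3 : Subsingleton A := ModuleCat.subsingleton_of_isZero h2
    exact not_subsingleton A h3
  have hPfin : Module.Finite A (Groth.Agent.H35.InvCx.H (-b) (DRing.toD P)) :=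
    Module.Finite.equiv eHP.toLinearEquiv.symm
  obtain ⟨eE⟩ := Groth.Agent.H35.InvCx.half P hPK (-b) hPv hPtop hPfin (DRing.toD E) hEfin b₀ hEz i2
  exact ⟨b,
    ⟨eL ≪≫ (((DerivedCategory.singleFunctors (ModuleCat.{u} A)).shiftIso b (-b) 0
      (by omega)).app (ModuleCat.of A A)).symm⟩,
    ⟨eE ≪≫ (((DerivedCategory.singleFunctors (ModuleCat.{u} A)).shiftIso (-b) (-(-b)) 0
      (by omega)).app (ModuleCat.of A A)).symm⟩⟩

end Groth.Agent.S11182
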