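import Groth.Statements.S11217
import Mathlib
-- import your own Groth.Agent.* helpers here

set_option autoImplicit false
universe u
open CategoryTheory MonoidalCategory CartesianMonoidalCategory MonObj GrpObj AlgebraicGeometry
open scoped TensorProduct
open AGF

namespace Groth.Agent.S11217

section aux
open MvPolynomial

theorem coeff_pderiv' {k : Type u} [Field k] (i : Fin 7) (f : MvPolynomial (Fin 7) k)
    (mu : Fin 7 →₀ ℕ) :
    coeff mu (pderiv i f) = coeff (mu + Finsupp.single i 1) f * ((mu i : k) + 1) := by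
  have h := MvPowerSeries.coeff_pderiv (R := k) (i := i) (f : MvPowerSeries (Fin 7) k) mu
  rw [MvPowerSeries.pderiv_coe, MvPolynomial.coeff_coe, MvPolynomial.coeff_coe] at h
  exact h

theorem coeff_term {k : Type u} [Field k] (s : Fin 7 →₀ ℕ) (i : Fin 7)
    (f : MvPolynomial (Fin 7) k) (mu : Fin 7 →₀ ℕ) :
    coeff mu (monomial s (1 : k) * pderiv i f) =
      if s ≤ mu then coeff (mu - s + Finsupp.single i 1) f * (((mu - s) i : k) + 1) else 0 := by
  classical
  rw [coeff_monomial_mul', _root_.one_mul, coeff_pderiv']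

theorem der_formula (k : Type u) [Field k] (a b c e f : MvPolynomial (Fin 7) k) :
    mkDerivation k (![0, 0, 0, a, b, c, e] : Fin 7 → MvPolynomial (Fin 7) k) f =
      a * pderiv 3 f + b * pderiv 4 f + c * pderiv 5 f + e * pderiv 6 f := by
  classical
  have h : mkDerivation k (![0, 0, 0, a, b, c, e] : Fin 7 → MvPolynomial (Fin 7) k) =
      a • (pderiv 3 : Derivation k (MvPolynomial (Fin 7) k) (MvPolynomial (Fin 7) k))
        + b • pderiv 4 + c • pderiv 5 + e • pderiv 6 := by
    apply derivation_ext
    intro j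
    fin_cases j <;> simp [pderiv_X, Pi.single_apply]
  rw [h]
  rfl

end aux


/-- Let k be a field of characteristic zero and m ≥ 2; in the polynomial ring k[x, y, z, s, t, u, v]
(variables 0, …, 6) let δ be the k-derivation with δ(x) = δ(y) = δ(z) = 0, δ(s) = x^(m+1), δ(t) =
y^(m+1), δ(u) = z^(m+1), δ(v) = (xyz)^m, and grade by total degree in s, t, u, v. If f is
homogeneous of degree n ≥ 1 for this grading and δ(f) = 0, then every coefficient of f, as a
polynomial in s, t, u, v over k[x, y, z], lies in the ideal (x, y, z): every monomial of f has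
positive degree in x, y, z. (The published statement allows n = 0, where the constant 1 is a
counterexample; this row assumes n ≥ 1. The published definition of the derivation gives δ(v) =
(xyz)^(m+1), for which the assertion fails: v − (yz)^(m+1)·s is killed by δ and has the monomial v
with coefficient 1; this row uses δ(v) = (xyz)^m, the exponent of the published action formula and
of the published examples of invariants.) -/
theorem result (k : Type u) [Field k] [CharZero k] (m : ℕ) (hm : 2 ≤ m) (n : ℕ) (hn : 1 ≤ n)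
    (f : MvPolynomial (Fin 7) k)
    (hf : MvPolynomial.IsWeightedHomogeneous (![0, 0, 0, 1, 1, 1, 1] : Fin 7 → ℕ) f n)
    (hδ : MvPolynomial.mkDerivation k
      (![0, 0, 0, MvPolynomial.X 0 ^ (m + 1), MvPolynomial.X 1 ^ (m + 1), MvPolynomial.X 2 ^ (m + 1),
        (MvPolynomial.X 0 * MvPolynomial.X 1 * MvPolynomial.X 2) ^ m] : Fin 7 → MvPolynomial (Fin 7) k) f = 0) :
    ∀ d ∈ f.support, 0 < d 0 + d 1 + d 2 := by
  classical
  intro d hd
  by_contra hcon
  have h0 : d 0 = 0 := by omega
  have h1 : d 1 = 0 := by omega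
  have h2 : d 2 = 0 := by omega
  have hcd : MvPolynomial.coeff d f ≠ 0 := MvPolynomial.mem_support_iff.mp hd
  have hne : ∀ x : ℕ, ((x : k) + 1) ≠ 0 := fun x => by exact_mod_cast Nat.succ_ne_zero x
  rw [der_formula] at hδ
  have e0 : (MvPolynomial.X 0 : MvPolynomial (Fin 7) k) ^ (m + 1) =
      MvPolynomial.monomial (Finsupp.single 0 (m + 1)) 1 := MvPolynomial.X_pow_eq_monomial
  have e1 : (MvPolynomial.X 1 : MvPolynomial (Fin 7) k) ^ (m + 1) =
      MvPolynomial.monomial (Finsupp.single 1 (m + 1)) 1 := MvPolynomial.X_pow_eq_monomial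
  have e2 : (MvPolynomial.X 2 : MvPolynomial (Fin 7) k) ^ (m + 1) =
      MvPolynomial.monomial (Finsupp.single 2 (m + 1)) 1 := MvPolynomial.X_pow_eq_monomial
  have e6 : ((MvPolynomial.X 0 : MvPolynomial (Fin 7) k) * MvPolynomial.X 1 *
      MvPolynomial.X 2) ^ m = MvPolynomial.monomial
        (Finsupp.single 0 m + Finsupp.single 1 m + Finsupp.single 2 m) 1 := by
    rw [mul_pow, mul_pow, MvPolynomial.X_pow_eq_monomial, MvPolynomial.X_pow_eq_monomial,
      MvPolynomial.X_pow_eq_monomial, MvPolynomial.monomial_mul, MvPolynomial.monomial_mul,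
      _root_.one_mul, _root_.one_mul]
  have hE : ∀ mu : Fin 7 →₀ ℕ,
      (if Finsupp.single 0 (m + 1) ≤ mu then
        MvPolynomial.coeff (mu - Finsupp.single 0 (m + 1) + Finsupp.single 3 1) f *
          ((((mu - Finsupp.single 0 (m + 1) : Fin 7 →₀ ℕ) 3 : ℕ) : k) + 1) else 0) +
      (if Finsupp.single 1 (m + 1) ≤ mu then
        MvPolynomial.coeff (mu - Finsupp.single 1 (m + 1) + Finsupp.single 4 1) f *
          ((((mu - Finsupp.single 1 (m + 1) : Fin 7 →₀ ℕ) 4 : ℕ) : k) + 1) else 0) +
      (if Finsupp.single 2 (m + 1) ≤ mu then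
        MvPolynomial.coeff (mu - Finsupp.single 2 (m + 1) + Finsupp.single 5 1) f *
          ((((mu - Finsupp.single 2 (m + 1) : Fin 7 →₀ ℕ) 5 : ℕ) : k) + 1) else 0) +
      (if Finsupp.single 0 m + Finsupp.single 1 m + Finsupp.single 2 m ≤ mu then
        MvPolynomial.coeff (mu - (Finsupp.single 0 m + Finsupp.single 1 m + Finsupp.single 2 m)
          + Finsupp.single 6 1) f *
          ((((mu - (Finsupp.single 0 m + Finsupp.single 1 m + Finsupp.single 2 m) : Fin 7 →₀ ℕ) 6 : ℕ) : k) + 1)
        else 0) = 0 := by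
    intro mu
    have h3 := congrArg (MvPolynomial.coeff mu) hδ
    rw [MvPolynomial.coeff_add, MvPolynomial.coeff_add, MvPolynomial.coeff_add, e0, e1, e2, e6,
      coeff_term, coeff_term, coeff_term, coeff_term, MvPolynomial.coeff_zero] at h3
    exact h3
  -- d 3 = 0
  have hd3 : d 3 = 0 := by
    by_contra h3
    have hle : Finsupp.single (3 : Fin 7) 1 ≤ d :=
      Finsupp.single_le_iff.mpr (Nat.one_le_iff_ne_zero.mpr h3)
    have hmu := hE (d - Finsupp.single 3 1 + Finsupp.single 0 (m + 1))
    have c0 : Finsupp.single (0 : Fin 7) (m + 1) ≤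
        d - Finsupp.single 3 1 + Finsupp.single 0 (m + 1) := le_add_self
    have c1 : ¬ Finsupp.single (1 : Fin 7) (m + 1) ≤
        d - Finsupp.single 3 1 + Finsupp.single 0 (m + 1) := by
      rw [Finsupp.single_le_iff]; simp [Finsupp.single_apply, h1]
    have c2 : ¬ Finsupp.single (2 : Fin 7) (m + 1) ≤
        d - Finsupp.single 3 1 + Finsupp.single 0 (m + 1) := by
      rw [Finsupp.single_le_iff]; simp [Finsupp.single_apply, h2]
    have c6 : ¬ Finsupp.single (0 : Fin 7) m + Finsupp.single 1 m + Finsupp.single 2 m ≤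
        d - Finsupp.single 3 1 + Finsupp.single 0 (m + 1) := by
      intro hle6
      have h4 := hle6 1
      simp [Finsupp.single_apply, h1] at h4
      omega
    rw [if_pos c0, if_neg c1, if_neg c2, if_neg c6, add_tsub_cancel_right,
      tsub_add_cancel_of_le hle] at hmu
    simp only [add_zero, zero_add] at hmu
    rcases mul_eq_zero.mp hmu with h | h
    · exact hcd h
    · exact hne _ h
  have hd4 : d 4 = 0 := by
    by_contra h3
    have hle : Finsupp.single (4 : Fin 7) 1 ≤ d :=
      Finsupp.single_le_iff.mpr (Nat.one_le_iff_ne_zero.mpr h3)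
    have hmu := hE (d - Finsupp.single 4 1 + Finsupp.single 1 (m + 1))
    have c1 : Finsupp.single (1 : Fin 7) (m + 1) ≤
        d - Finsupp.single 4 1 + Finsupp.single 1 (m + 1) := le_add_self
    have c0 : ¬ Finsupp.single (0 : Fin 7) (m + 1) ≤
        d - Finsupp.single 4 1 + Finsupp.single 1 (m + 1) := by
      rw [Finsupp.single_le_iff]; simp [Finsupp.single_apply, h0]
    have c2 : ¬ Finsupp.single (2 : Fin 7) (m + 1) ≤
        d - Finsupp.single 4 1 + Finsupp.single 1 (m + 1) := by
      rw [Finsupp.single_le_iff]; simp [Finsupp.single_apply, h2]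
    have c6 : ¬ Finsupp.single (0 : Fin 7) m + Finsupp.single 1 m + Finsupp.single 2 m ≤
        d - Finsupp.single 4 1 + Finsupp.single 1 (m + 1) := by
      intro hle6
      have h4 := hle6 0
      simp [Finsupp.single_apply, h0] at h4
      omega
    rw [if_neg c0, if_pos c1, if_neg c2, if_neg c6, add_tsub_cancel_right,
      tsub_add_cancel_of_le hle] at hmu
    simp only [add_zero, zero_add] at hmu
    rcases mul_eq_zero.mp hmu with h | h
    · exact hcd h
    · exact hne _ h
  have hd5 : d 5 = 0 := by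
    by_contra h3
    have hle : Finsupp.single (5 : Fin 7) 1 ≤ d :=
      Finsupp.single_le_iff.mpr (Nat.one_le_iff_ne_zero.mpr h3)
    have hmu := hE (d - Finsupp.single 5 1 + Finsupp.single 2 (m + 1))
    have c2 : Finsupp.single (2 : Fin 7) (m + 1) ≤
        d - Finsupp.single 5 1 + Finsupp.single 2 (m + 1) := le_add_self
    have c0 : ¬ Finsupp.single (0 : Fin 7) (m + 1) ≤
        d - Finsupp.single 5 1 + Finsupp.single 2 (m + 1) := by
      rw [Finsupp.single_le_iff]; simp [Finsupp.single_apply, h0]
    have c1 : ¬ Finsupp.single (1 : Fin 7) (m + 1) ≤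
        d - Finsupp.single 5 1 + Finsupp.single 2 (m + 1) := by
      rw [Finsupp.single_le_iff]; simp [Finsupp.single_apply, h1]
    have c6 : ¬ Finsupp.single (0 : Fin 7) m + Finsupp.single 1 m + Finsupp.single 2 m ≤
        d - Finsupp.single 5 1 + Finsupp.single 2 (m + 1) := by
      intro hle6
      have h4 := hle6 0
      simp [Finsupp.single_apply, h0] at h4
      omega
    rw [if_neg c0, if_neg c1, if_pos c2, if_neg c6, add_tsub_cancel_right,
      tsub_add_cancel_of_le hle] at hmu
    simp only [add_zero, zero_add] at hmu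
    rcases mul_eq_zero.mp hmu with h | h
    · exact hcd h
    · exact hne _ h
  -- weight
  have hw : Finsupp.weight (![0, 0, 0, 1, 1, 1, 1] : Fin 7 → ℕ) d = n := hf hcd
  have hd6n : d 6 = n := by
    have hsum : (d.sum fun i c => c • (![0, 0, 0, 1, 1, 1, 1] : Fin 7 → ℕ) i) =
        ∑ i, d i • (![0, 0, 0, 1, 1, 1, 1] : Fin 7 → ℕ) i :=
      Finsupp.sum_fintype _ _ (fun i => zero_smul _ _)
    rw [Finsupp.weight_apply, hsum, Fin.sum_univ_seven] at hw
    simp at hw
    omega
  have hd6 : d = Finsupp.single 6 n := by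
    ext i
    fin_cases i <;> simp [Finsupp.single_apply, h0, h1, h2, hd3, hd4, hd5, hd6n]
  -- final
  have hmu := hE (Finsupp.single 6 (n - 1) +
    (Finsupp.single 0 m + Finsupp.single 1 m + Finsupp.single 2 m))
  have c6 : Finsupp.single (0 : Fin 7) m + Finsupp.single 1 m + Finsupp.single 2 m ≤
      Finsupp.single 6 (n - 1) +
        (Finsupp.single 0 m + Finsupp.single 1 m + Finsupp.single 2 m) := le_add_self
  have c0 : ¬ Finsupp.single (0 : Fin 7) (m + 1) ≤ Finsupp.single 6 (n - 1) +
        (Finsupp.single 0 m + Finsupp.single 1 m + Finsupp.single 2 m) := by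
    rw [Finsupp.single_le_iff]; simp [Finsupp.single_apply]
  have c1 : ¬ Finsupp.single (1 : Fin 7) (m + 1) ≤ Finsupp.single 6 (n - 1) +
        (Finsupp.single 0 m + Finsupp.single 1 m + Finsupp.single 2 m) := by
    rw [Finsupp.single_le_iff]; simp [Finsupp.single_apply]
  have c2 : ¬ Finsupp.single (2 : Fin 7) (m + 1) ≤ Finsupp.single 6 (n - 1) +
        (Finsupp.single 0 m + Finsupp.single 1 m + Finsupp.single 2 m) := by
    rw [Finsupp.single_le_iff]; simp [Finsupp.single_apply]
  rw [if_neg c0, if_neg c1, if_neg c2, if_pos c6, add_tsub_cancel_right,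
    ← Finsupp.single_add, Nat.sub_add_cancel hn, ← hd6] at hmu
  simp only [add_zero, zero_add] at hmu
  rcases mul_eq_zero.mp hmu with h | h
  · exact hcd h
  · exact hne _ h

end Groth.Agent.S11217
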