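import Groth.Statements.S11221
import Mathlib.RingTheory.Ideal.AssociatedPrime.Localization
import Mathlib.RingTheory.Ideal.Height
import Mathlib.RingTheory.Ideal.Colon
-- import your own Groth.Agent.* helpers here

set_option autoImplicit false
universe u
open CategoryTheory MonoidalCategory CartesianMonoidalCategory MonObj GrpObj AlgebraicGeometry
open scoped TensorProduct
open AGF

namespace Groth.Agent.S11221

/-- Let R be a Noetherian integrally closed domain with fraction field K and let p be a prime ideal of R
of height one. Then there is f ∈ K which is not in R but lies in the local ring R_q ⊆ K of every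
height-one prime q ≠ p (f = a/b with b ∉ q): a rational function on Spec R with a pole along V(p)
only. (The published statement is for the coordinate ring of a normal affine variety; this row is
for any Noetherian integrally closed domain, which is all the argument uses.) -/
theorem result (R : Type u) [CommRing R] [IsDomain R] [IsNoetherianRing R] [IsIntegrallyClosed R]
    (p : Ideal R) [p.IsPrime] (hp : p.height = 1) :
    ∃ f : FractionRing R, f ∉ Set.range ⇑(algebraMap R (FractionRing R)) ∧
      ∀ q : Ideal R, q.IsPrime → q.height = 1 → q ≠ p →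
        ∃ a b : R, b ∉ q ∧ f * algebraMap R (FractionRing R) b = algebraMap R (FractionRing R) a := by
  classical
  have hpbot : p ≠ ⊥ := Ideal.ne_bot_of_height_eq_one hp
  obtain ⟨a, hap, ha0⟩ := Submodule.exists_mem_ne_zero_of_ne_bot hpbot
  haveI : p.FiniteHeight := ⟨Or.inr (by rw [hp]; exact ENat.one_ne_top)⟩
  have hmin : p ∈ (Ideal.span {a}).minimalPrimes := by
    have hle : Ideal.span {a} ≤ p := (Ideal.span_singleton_le_iff_mem _).mpr hap
    apply Ideal.mem_minimalPrimes_of_height_le hle
    rw [hp]
    apply Ideal.one_le_height_span_singleton_of_mem_nonZeroDivisors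
    exact mem_nonZeroDivisors_of_ne_zero ha0
  have hass : p ∈ associatedPrimes R (R ⧸ Ideal.span {a}) := by
    apply Module.associatedPrimes.minimalPrimes_annihilator_subset_associatedPrimes
    rw [Ideal.annihilator_quotient]
    exact hmin
  rw [AssociatedPrimes.mem_iff, isAssociatedPrime_iff] at hass
  obtain ⟨_, x, hx⟩ := hass
  obtain ⟨b, rfl⟩ := Ideal.Quotient.mk_surjective x
  have hmem : ∀ r, r ∈ p ↔ a ∣ r * b := by
    intro r
    rw [hx, Submodule.mem_colon_singleton, Submodule.mem_bot, ← Ideal.mem_span_singleton,
      ← Ideal.Quotient.eq_zero_iff_mem]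
    rfl
  have hb : ¬ a ∣ b := by
    intro h
    have h1 : (1 : R) ∈ p := (hmem 1).mpr (by simpa using h)
    exact (Ideal.IsPrime.ne_top ‹_›) ((Ideal.eq_top_iff_one _).mpr h1)
  have ha' : algebraMap R (FractionRing R) a ≠ 0 :=
    (map_ne_zero_iff _ (IsFractionRing.injective R (FractionRing R))).mpr ha0
  refine ⟨algebraMap R (FractionRing R) b / algebraMap R (FractionRing R) a, ?_, ?_⟩
  · rintro ⟨c, hc⟩
    apply hb
    rw [eq_div_iff ha', ← map_mul] at hc
    have := IsFractionRing.injective R (FractionRing R) hc
    exact ⟨c, by rw [← this, mul_comm]⟩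
  · intro q hq hq1 hqp
    have hnle : ¬ p ≤ q := by
      intro hle
      exact hqp (Ideal.eq_of_le_of_height_le (I := p) (J := q) hle (by rw [hp, hq1])).symm
    obtain ⟨s, hsp, hsq⟩ := Set.not_subset.mp hnle
    obtain ⟨c, hc⟩ := (hmem s).mp hsp
    refine ⟨c, s, hsq, ?_⟩
    rw [div_mul_eq_mul_div, div_eq_iff ha', ← map_mul, ← map_mul, mul_comm b s, hc, mul_comm]

end Groth.Agent.S11221
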