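import Groth.Statements.S11223
import Mathlib

set_option autoImplicit false
universe u
open CAlg

namespace Groth.Agent.S11223

open MvPolynomial

attribute [local instance] MvPolynomial.gradedAlgebra


/-- Let k be a field, let z_1, ..., z_m be homogeneous polynomials of positive degree in the polynomial
ring k[x_1, ..., x_n], and suppose the radical of the ideal (z_1, ..., z_m) is the ideal (x_1, ...,
x_n) generated by the variables. Then the polynomial ring is integral over the subalgebra generated
by z_1, ..., z_m. (The published statement is over an algebraically closed field; this row takes any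
field, which its proof allows.) -/
theorem result (k : Type u) [Field k] (n m : ℕ)
    (z : Fin m → MvPolynomial (Fin n) k) (d : Fin m → ℕ) (hd : ∀ i, 0 < d i)
    (hz : ∀ i, (z i).IsHomogeneous (d i))
    (hrad : (Ideal.span (Set.range z)).radical =
      Ideal.span (Set.range (MvPolynomial.X : Fin n → MvPolynomial (Fin n) k))) :
    Algebra.IsIntegral (Algebra.adjoin k (Set.range z)) (MvPolynomial (Fin n) k) := by
  classical
  set Z := Algebra.adjoin k (Set.range z) with hZ
  have hmfg : (Ideal.span (Set.range (MvPolynomial.X : Fin n → MvPolynomial (Fin n) k))).FG :=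
    Submodule.fg_span (Set.finite_range _)
  obtain ⟨N, hN⟩ := Ideal.exists_pow_le_of_le_radical_of_fg (le_of_eq hrad.symm) hmfg
  have hJ : ∀ e, N ≤ e → ∀ f : MvPolynomial (Fin n) k, f.IsHomogeneous e →
      f ∈ Ideal.span (Set.range z) := by
    intro e he f hf
    apply hN
    apply Ideal.pow_le_pow_right he
    rw [Ideal.mem_span_pow_iff_exists_isHomogeneous]
    refine ⟨MvPolynomial.map (MvPolynomial.C) f, hf.map _, ?_⟩
    rw [MvPolynomial.eval_map, MvPolynomial.eval₂_eta]
  have hVfg : (⨆ e ∈ Finset.range N, homogeneousSubmodule (Fin n) k e).FG :=
    Submodule.fg_biSup _ _ (fun e _ => homogeneousSubmodule_fg (σ := Fin n) (R := k) e)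
  obtain ⟨T, hT⟩ := hVfg
  have hmain : ∀ e, ∀ f : MvPolynomial (Fin n) k, f.IsHomogeneous e →
      f ∈ Submodule.span Z (T : Set (MvPolynomial (Fin n) k)) := by
    intro e
    induction e using Nat.strong_induction_on with
    | _ e ih =>
      intro f hf
      by_cases he : e < N
      · have h1 : f ∈ ⨆ e ∈ Finset.range N, homogeneousSubmodule (Fin n) k e := by
          refine Submodule.mem_iSup_of_mem e
            (Submodule.mem_iSup_of_mem (Finset.mem_range.mpr he) ?_)
          exact (mem_homogeneousSubmodule _ _).mpr hf
        rw [← hT] at h1
        exact Submodule.span_le_restrictScalars k Z _ h1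
      · push Not at he
        have hfJ := hJ e he f hf
        rw [Ideal.mem_span_range_iff_exists_fun] at hfJ
        obtain ⟨c, hc⟩ := hfJ
        have hproj : f = ∑ i, GradedRing.proj (homogeneousSubmodule (Fin n) k) e (c i * z i) := by
          have h1 : GradedRing.proj (homogeneousSubmodule (Fin n) k) e f = f := by
            rw [GradedRing.proj_apply]
            exact DirectSum.decompose_of_mem_same _ ((mem_homogeneousSubmodule _ _).mpr hf)
          rw [← h1]
          conv_lhs => rw [← hc]
          rw [map_sum]
        rw [hproj]
        refine Submodule.sum_mem _ (fun i _ => ?_)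
        rw [GradedRing.proj_apply]
        have hzi : z i ∈ homogeneousSubmodule (Fin n) k (d i) :=
          (mem_homogeneousSubmodule _ _).mpr (hz i)
        by_cases hdi : d i ≤ e
        · rw [DirectSum.coe_decompose_mul_of_right_mem_of_le (homogeneousSubmodule (Fin n) k)
            hzi hdi]
          have hlt : e - d i < e := by
            have := hd i
            omega
          have hcomp := ih (e - d i) hlt _
            ((mem_homogeneousSubmodule _ _).mp
              (DirectSum.decompose (homogeneousSubmodule (Fin n) k) (c i) (e - d i)).2)
          have hzZ : z i ∈ Z := Algebra.subset_adjoin (Set.mem_range_self i)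
          have h2 := Submodule.smul_mem _ (⟨z i, hzZ⟩ : Z) hcomp
          rw [mul_comm]
          exact h2
        · rw [DirectSum.coe_decompose_mul_of_right_mem_of_not_le (homogeneousSubmodule (Fin n) k)
            hzi hdi]
          exact zero_mem _
  have htop : (⊤ : Submodule Z (MvPolynomial (Fin n) k)) =
      Submodule.span Z (T : Set (MvPolynomial (Fin n) k)) := by
    refine le_antisymm (fun f _ => ?_) le_top
    rw [← MvPolynomial.sum_homogeneousComponent f]
    exact Submodule.sum_mem _ (fun e _ => hmain e _ (homogeneousComponent_isHomogeneous e f))
  have hfin : Module.Finite Z (MvPolynomial (Fin n) k) := ⟨⟨T, htop.symm⟩⟩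
  exact Algebra.IsIntegral.of_finite _ _

end Groth.Agent.S11223
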