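import Groth.Statements.S1123
import Groth.Agent.H33.RightRes
import Mathlib.Algebra.Homology.HomologySequenceLemmas
import Mathlib.Algebra.Homology.HomologicalComplexAbelian

set_option autoImplicit false
universe v u
open CategoryTheory CategoryTheory.Limits
open CohDer

namespace Groth.Agent.S1123

section Helpers

variable {A : Type u} [Category.{v} A] [Abelian A]

/-- pushing out a short exact sequence `0 → X → I → coker → 0` along `f : X ⟶ Y` -/
lemma pushout_shortExact {𝒞 : Type*} [Category 𝒞] [Abelian 𝒞] {X Y I : 𝒞} (f : X ⟶ Y)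
    (α : X ⟶ I) [Mono α] :
    (ShortComplex.mk (pushout.inl f α)
      (pushout.desc (0 : Y ⟶ cokernel α) (cokernel.π α)
        (by rw [comp_zero, cokernel.condition])) (pushout.inl_desc _ _ _)).ShortExact := by
  refine ShortComplex.ShortExact.mk' ?_ (by dsimp; infer_instance) ?_
  · apply ShortComplex.exact_of_g_is_cokernel
    refine CokernelCofork.IsColimit.ofπ _ _
      (fun {W} t ht => cokernel.desc α (pushout.inr f α ≫ t) (by
        rw [← pushout.condition_assoc, ht, comp_zero])) ?_ ?_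
    · intro W t ht
      dsimp
      apply pushout.hom_ext
      · rw [pushout.inl_desc_assoc, zero_comp, ht]
      · rw [pushout.inr_desc_assoc, cokernel.π_desc]
    · intro W t ht m hm
      dsimp at hm ⊢
      rw [← cancel_epi (cokernel.π α), cokernel.π_desc, ← hm, pushout.inr_desc_assoc]
  · dsimp
    exact epi_of_epi_fac (pushout.inr_desc _ _ _)

lemma quasiIso_f_of_acyclic {S : ShortComplex (CochainComplex A ℤ)} (hS : S.ShortExact)
    (h : S.X₃.Acyclic) : QuasiIso S.f := by
  rw [quasiIso_iff]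
  intro i
  rw [quasiIsoAt_iff_isIso_homologyMap]
  have hz : ∀ j, IsZero (S.X₃.homology j) := fun j => (h j).isZero_homology
  have : Epi (HomologicalComplex.homologyMap S.f i) :=
    (hS.homology_exact₂ i).epi_f ((hz i).eq_of_tgt _ _)
  have : Mono (HomologicalComplex.homologyMap S.f i) :=
    (hS.homology_exact₁ (i - 1) i (by simp)).mono_g ((hz (i - 1)).eq_of_src _ _)
  exact isIso_of_mono_of_epi _

lemma isStrictlyGE_of_epi {K L : CochainComplex A ℤ} (p : K ⟶ L) [Epi p] (n : ℤ)
    [K.IsStrictlyGE n] : L.IsStrictlyGE n := by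
  rw [CochainComplex.isStrictlyGE_iff]
  intro i hi
  rw [IsZero.iff_id_eq_zero, ← cancel_epi (p.f i)]
  exact (K.isZero_of_isStrictlyGE n i hi).eq_of_src _ _

lemma isStrictlyGE_pushout {X Y I : CochainComplex A ℤ} (f : X ⟶ Y) (α : X ⟶ I) (n : ℤ)
    [Y.IsStrictlyGE n] [I.IsStrictlyGE n] : (pushout f α).IsStrictlyGE n := by
  rw [CochainComplex.isStrictlyGE_iff]
  intro i hi
  have sq := (IsPushout.of_hasPushout f α).map (HomologicalComplex.eval A (ComplexShape.up ℤ) i)
  rw [IsZero.iff_id_eq_zero]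
  apply sq.hom_ext
  · exact (Y.isZero_of_isStrictlyGE n i hi).eq_of_src _ _
  · exact (I.isZero_of_isStrictlyGE n i hi).eq_of_src _ _

lemma injective_X₃ {T : ShortComplex (CochainComplex A ℤ)} (hT : T.ShortExact) (k : ℤ)
    (h₁ : Injective (T.X₁.X k)) (h₂ : Injective (T.X₂.X k)) : Injective (T.X₃.X k) := by
  have hk : (T.map (HomologicalComplex.eval A (ComplexShape.up ℤ) k)).ShortExact :=
    hT.map_of_exact _
  have : Injective (T.map (HomologicalComplex.eval A (ComplexShape.up ℤ) k)).X₁ := h₁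
  have : Injective (T.X₂.X k) := h₂
  exact Retract.injective (Y := T.X₂.X k)
    { i := _, r := _, retract := hk.splittingOfInjective.s_g }

end Helpers


/-- Let A be an abelian category with enough injectives and S : 0 → A• → B• → C• → 0 a short exact
sequence of cochain complexes all vanishing below degree n. Then there are a short exact sequence T
: 0 → I₁ → I₂ → I₃ → 0 of complexes of injective objects vanishing below degree n and a morphism of
short exact sequences S ⟶ T whose three components are quasi-isomorphisms. -/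
theorem result {A : Type u} [Category.{v} A] [Abelian A] [EnoughInjectives A]
    (S : ShortComplex (CochainComplex A ℤ)) (hS : S.ShortExact) (n : ℤ)
    [S.X₁.IsStrictlyGE n] [S.X₂.IsStrictlyGE n] [S.X₃.IsStrictlyGE n] :
    ∃ (T : ShortComplex (CochainComplex A ℤ)) (φ : S ⟶ T), T.ShortExact ∧
      T.X₁.IsStrictlyGE n ∧ T.X₂.IsStrictlyGE n ∧ T.X₃.IsStrictlyGE n ∧
      (∀ k : ℤ, Injective (T.X₁.X k) ∧ Injective (T.X₂.X k) ∧ Injective (T.X₃.X k)) ∧
      QuasiIso φ.τ₁ ∧ QuasiIso φ.τ₂ ∧ QuasiIso φ.τ₃ := by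
  have hI : ∀ X : A, ∃ (Y : A) (ι : X ⟶ Y), Injective Y ∧ Mono ι := fun X =>
    ⟨Injective.under X, Injective.ι X, inferInstance, inferInstance⟩
  have hI0 : ∃ Z : A, IsZero Z ∧ Injective Z := by
    obtain ⟨Z, hZ⟩ := HasZeroObject.zero (C := A)
    exact ⟨Z, hZ, ⟨fun g f _ => ⟨0, hZ.eq_of_tgt _ _⟩⟩⟩
  have := hS.mono_f
  have := hS.epi_g
  obtain ⟨I₁, α, hI₁ge, hI₁inj, hαmono, hαq⟩ :=
    H33.RightRes.exists_resolution_int (I := fun X => Injective X) hI hI0 S.X₁ n
  have : Mono α := HomologicalComplex.mono_of_mono_f α hαmono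
  have : (pushout S.f α).IsStrictlyGE n := isStrictlyGE_pushout S.f α n
  obtain ⟨I₂, β, hI₂ge, hI₂inj, hβmono, hβq⟩ :=
    H33.RightRes.exists_resolution_int (I := fun X => Injective X) hI hI0 (pushout S.f α) n
  have : Mono β := HomologicalComplex.mono_of_mono_f β hβmono
  have hinl : QuasiIso (pushout.inl S.f α) := by
    have h1 := pushout_shortExact S.f α
    have h2 : (cokernel α).Acyclic := by
      have h3 : (ShortComplex.mk α (cokernel.π α) (cokernel.condition α)).ShortExact :=
        ShortComplex.ShortExact.mk'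
          (ShortComplex.exact_of_g_is_cokernel _ (cokernelIsCokernel α))
          (by dsimp; infer_instance) (by dsimp; infer_instance)
      exact h3.acyclic_X₃ hαq
    exact quasiIso_f_of_acyclic h1 h2
  obtain ⟨ι, hι⟩ : ∃ ι : I₁ ⟶ I₂, ι = pushout.inr S.f α ≫ β := ⟨_, rfl⟩
  have : Mono ι := by rw [hι]; exact mono_comp _ _
  have hT : (ShortComplex.mk ι (cokernel.π ι) (cokernel.condition ι)).ShortExact :=
    ShortComplex.ShortExact.mk'
      (ShortComplex.exact_of_g_is_cokernel _ (cokernelIsCokernel ι))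
      (by dsimp; infer_instance) (by dsimp; infer_instance)
  have hτ : S.f ≫ (pushout.inl S.f α ≫ β ≫ cokernel.π ι) = 0 := by
    have h0 : pushout.inr S.f α ≫ β ≫ cokernel.π ι = 0 := by
      rw [← Category.assoc, ← hι]
      exact cokernel.condition ι
    rw [pushout.condition_assoc, h0, comp_zero]
  obtain ⟨τ₃, hτ₃⟩ : ∃ τ₃ : S.X₃ ⟶ cokernel ι,
      S.g ≫ τ₃ = pushout.inl S.f α ≫ β ≫ cokernel.π ι :=
    ⟨hS.gIsCokernel.desc (CokernelCofork.ofπ _ hτ),
      hS.gIsCokernel.fac (CokernelCofork.ofπ _ hτ) WalkingParallelPair.one⟩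
  let φ : S ⟶ ShortComplex.mk ι (cokernel.π ι) (cokernel.condition ι) :=
    { τ₁ := α
      τ₂ := pushout.inl S.f α ≫ β
      τ₃ := τ₃
      comm₁₂ := by
        dsimp
        rw [hι, pushout.condition_assoc]
      comm₂₃ := by
        dsimp
        rw [hτ₃, Category.assoc] }
  have hq₂ : QuasiIso φ.τ₂ := quasiIso_comp (hφ := hinl) (hφ' := hβq) _ _
  refine ⟨_, φ, hT, hI₁ge, hI₂ge, ?_, ?_, hαq, hq₂, ?_⟩
  · exact isStrictlyGE_of_epi (cokernel.π ι) n
  · intro k
    exact ⟨hI₁inj k, hI₂inj k, injective_X₃ hT k (hI₁inj k) (hI₂inj k)⟩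
  · exact HomologicalComplex.HomologySequence.quasiIso_τ₃ φ hS hT hαq hq₂

end Groth.Agent.S1123
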