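import Groth.Statements.S11231
import Mathlib

set_option autoImplicit false
set_option maxHeartbeats 400000
universe u
open CategoryTheory MonoidalCategory CartesianMonoidalCategory MonObj GrpObj AlgebraicGeometry
open scoped TensorProduct
open AGF

namespace Groth.Agent.S11231

/-- A subalgebra of an integrally closed domain which is closed under exact division is
integrally closed. -/
theorem isIntegrallyClosed_of_div_mem {k S : Type u} [Field k] [CommRing S] [IsDomain S]
    [Algebra k S] [IsIntegrallyClosed S] (R : Subalgebra k S)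
    (hR : ∀ a b c : S, a ∈ R → b ∈ R → b ≠ 0 → c * b = a → c ∈ R) :
    IsIntegrallyClosed R := by
  classical
  rw [isIntegrallyClosed_iff (FractionRing R)]
  intro x hx
  have hinj : Function.Injective ((algebraMap S (FractionRing S)).comp R.val.toRingHom) :=
    (IsFractionRing.injective S (FractionRing S)).comp Subtype.val_injective
  let ψ : FractionRing R →+* FractionRing S := IsFractionRing.lift hinj
  have hψ : ∀ r : R, ψ (algebraMap R (FractionRing R) r) = algebraMap S (FractionRing S) (r : S) :=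
    fun r => IsFractionRing.lift_algebraMap hinj r
  have hint : IsIntegral S (ψ x) := by
    obtain ⟨p, hp, hpx⟩ := hx
    refine ⟨p.map R.val.toRingHom, hp.map _, ?_⟩
    rw [Polynomial.eval₂_map]
    have hcomp : (algebraMap S (FractionRing S)).comp R.val.toRingHom =
        ψ.comp (algebraMap R (FractionRing R)) := by
      ext r; exact (hψ r).symm
    rw [hcomp, ← Polynomial.hom_eval₂, hpx, map_zero]
  obtain ⟨c, hc⟩ := (isIntegrallyClosed_iff (FractionRing S)).mp inferInstance hint
  obtain ⟨⟨a, b⟩, rfl⟩ := IsLocalization.mk'_surjective (nonZeroDivisors R) x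
  have hb0 : ((b : R) : S) ≠ 0 := by
    intro h0
    have : (b : R) = 0 := Subtype.ext h0
    exact nonZeroDivisors.coe_ne_zero b this
  have hmul : c * ((b : R) : S) = (a : S) := by
    apply IsFractionRing.injective S (FractionRing S)
    rw [map_mul, hc, ← hψ, ← hψ, ← map_mul, IsLocalization.mk'_spec]
  have hcR : c ∈ R := hR a (b : R) c a.2 (b : R).2 hb0 hmul
  refine ⟨⟨c, hcR⟩, ?_⟩
  rw [IsLocalization.eq_mk'_iff_mul_eq, ← map_mul]
  congr 1
  exact Subtype.ext hmul

theorem tmul_one_mul_cancel {k : Type u} [Field k] (A B : Type u) [CommRing A] [IsDomain A]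
    [Algebra k A] [CommRing B] [Algebra k B] (b : A) (hb : b ≠ 0) (x y : B ⊗[k] A)
    (h : x * ((1 : B) ⊗ₜ[k] b) = y * ((1 : B) ⊗ₜ[k] b)) : x = y := by
  have hinj : Function.Injective (LinearMap.mulRight k b) := by
    intro u v huv
    simp only [LinearMap.mulRight_apply] at huv
    exact mul_right_cancel₀ hb huv
  have hinj2 : Function.Injective ((LinearMap.mulRight k b).lTensor B) :=
    Module.Flat.lTensor_preserves_injective_linearMap _ hinj
  have hform : ∀ z : B ⊗[k] A, (LinearMap.mulRight k b).lTensor B z = z * ((1 : B) ⊗ₜ[k] b) := by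
    intro z
    induction z using TensorProduct.induction_on with
    | zero => simp
    | tmul u v =>
      rw [LinearMap.lTensor_tmul, LinearMap.mulRight_apply, Algebra.TensorProduct.tmul_mul_tmul,
        _root_.mul_one]
    | add z₁ z₂ h₁ h₂ => rw [map_add, h₁, h₂, add_mul]
  apply hinj2
  rw [hform, hform, h]

/-- Let k an algebraically closed field, G a connected reductive linear algebraic group over k, B a
Borel subgroup of G with unipotent radical U (a maximal unipotent subgroup), and let A be a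
commutative k-algebra with a rational action of G by algebra automorphisms. If A is an integrally
closed domain then so is A^U. (The published statement is for A normal; its proof reduces to the
case of a domain, which is the case stated here.) -/
theorem result (k : Type u) [Field k] [IsAlgClosed k]
    (G : Over (Spec (CommRingCat.of k))) [GrpObj G] (hG : Red.IsReductiveOver k G)
    (Bo : Over (Spec (CommRingCat.of k))) [GrpObj Bo] (iB : Bo ⟶ G) (hB : Red.IsBorelOver k iB)
    (U : Over (Spec (CommRingCat.of k))) [GrpObj U] (u : U ⟶ Bo) (hU : Par.IsUnipotentRadical u)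
    (A : Type u) [CommRing A] [IsDomain A] [Algebra k A] [IsIntegrallyClosed A]
    (ρ : VecGrp.GMod G A) (hρ : ρ.IsMult) :
    IsIntegrallyClosed ↥(ρ.fixedSubalgebra hρ (u ≫ iB)) := by
  classical
  refine isIntegrallyClosed_of_div_mem _ ?_
  intro a b c ha hb hb0 hcb
  intro B _ _ h
  have ha' := ha B h
  have hb' := hb B h
  have hmult := (hρ B (h ≫ (u ≫ iB))).1
  have e : ((1 : B) ⊗ₜ[k] a : VecGrp.W k A B) = ((1 : B) ⊗ₜ[k] c) * ((1 : B) ⊗ₜ[k] b) := by
    rw [Algebra.TensorProduct.tmul_mul_tmul, _root_.one_mul, hcb]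
  have h1 : ρ.ρ B (h ≫ (u ≫ iB)) ((1 : B) ⊗ₜ[k] c) * ((1 : B) ⊗ₜ[k] b) =
      ((1 : B) ⊗ₜ[k] c) * ((1 : B) ⊗ₜ[k] b) := by
    calc ρ.ρ B (h ≫ (u ≫ iB)) ((1 : B) ⊗ₜ[k] c) * ((1 : B) ⊗ₜ[k] b)
        = ρ.ρ B (h ≫ (u ≫ iB)) ((1 : B) ⊗ₜ[k] c) * ρ.ρ B (h ≫ (u ≫ iB)) ((1 : B) ⊗ₜ[k] b) := by
          rw [hb']
      _ = ρ.ρ B (h ≫ (u ≫ iB)) (((1 : B) ⊗ₜ[k] c) * ((1 : B) ⊗ₜ[k] b)) := (hmult _ _).symm
      _ = ρ.ρ B (h ≫ (u ≫ iB)) ((1 : B) ⊗ₜ[k] a) := by rw [← e]
      _ = (1 : B) ⊗ₜ[k] a := ha'
      _ = ((1 : B) ⊗ₜ[k] c) * ((1 : B) ⊗ₜ[k] b) := e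
  exact tmul_one_mul_cancel A B b hb0 _ _ h1

end Groth.Agent.S11231
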