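import Groth.Statements.S11233
import Mathlib.Algebra.MvPolynomial.Funext
import Mathlib.Algebra.MvPolynomial.Eval
-- import your own Groth.Agent.* helpers here

set_option autoImplicit false
universe u
open CAlg

namespace Groth.Agent.S11233

/-- Let k be an algebraically closed field, A an integral domain which is a k-algebra, T an m by m
matrix over A with invertible determinant, and let the additive group k^m act on the polynomial ring
A[y_1, ..., y_m] by the A-algebra maps y_s ↦ y_s + Σ_r h_r T_rs. Then the only invariant polynomials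
are the constants: a polynomial fixed by all these substitutions lies in A. -/
theorem result (k : Type u) [Field k] [IsAlgClosed k]
    (A : Type u) [CommRing A] [IsDomain A] [Algebra k A] (m : ℕ) (T : Matrix (Fin m) (Fin m) A)
    (hT : IsUnit T.det) (f : MvPolynomial (Fin m) A)
    (hf : ∀ h : Fin m → k, MvPolynomial.aeval
      (fun s : Fin m => MvPolynomial.X s + MvPolynomial.C (∑ r : Fin m, algebraMap k A (h r) * T r s)) f = f) :
    ∃ a : A, f = MvPolynomial.C a := by
  classical
  let g : Fin m → MvPolynomial (Fin m) (MvPolynomial (Fin m) A) := fun s =>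
    MvPolynomial.C (MvPolynomial.X s) + ∑ r : Fin m, MvPolynomial.X r * MvPolynomial.C (MvPolynomial.C (T r s))
  let H : MvPolynomial (Fin m) (MvPolynomial (Fin m) A) := MvPolynomial.aeval (R := A) g f - MvPolynomial.C f
  have hev : ∀ w : Fin m → MvPolynomial (Fin m) A, MvPolynomial.eval w H =
      MvPolynomial.aeval (R := A) (fun s => MvPolynomial.X s + ∑ r : Fin m, w r * MvPolynomial.C (T r s)) f - f := by
    intro w
    simp only [H, map_sub, MvPolynomial.eval_C]
    congr 1
    rw [MvPolynomial.map_aeval]
    have e1 : (MvPolynomial.eval w).comp (algebraMap A (MvPolynomial (Fin m) (MvPolynomial (Fin m) A))) =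
        algebraMap A (MvPolynomial (Fin m) A) := by
      ext a
      rw [RingHom.comp_apply, IsScalarTower.algebraMap_apply A (MvPolynomial (Fin m) A)
        (MvPolynomial (Fin m) (MvPolynomial (Fin m) A)), MvPolynomial.algebraMap_eq (R := MvPolynomial (Fin m) A),
        MvPolynomial.eval_C]
    rw [e1]
    have e2 : (fun i => MvPolynomial.eval w (g i)) =
        fun s => MvPolynomial.X s + ∑ r : Fin m, w r * MvPolynomial.C (T r s) := by
      funext s
      simp [g]
    rw [e2]
    rfl
  have hkinj : Function.Injective (algebraMap k (MvPolynomial (Fin m) A)) :=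
    (algebraMap k (MvPolynomial (Fin m) A)).injective
  have hH : H = 0 := by
    apply MvPolynomial.funext_set (fun _ : Fin m => Set.range (algebraMap k (MvPolynomial (Fin m) A)))
      (fun _ => Set.infinite_range_of_injective hkinj)
    intro x hx
    have hx' : ∀ i, ∃ c : k, algebraMap k (MvPolynomial (Fin m) A) c = x i := fun i => hx i (Set.mem_univ i)
    choose h hh using hx'
    rw [hev, map_zero, sub_eq_zero]
    have := hf h
    convert this using 3
    funext s
    congr 1
    rw [map_sum]
    apply Finset.sum_congr rfl
    intro r _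
    rw [map_mul, ← hh r]
    rfl
  have hTT : T⁻¹ * T = 1 := Matrix.nonsing_inv_mul T hT
  have hw := hev (fun r => - ∑ s' : Fin m, MvPolynomial.X s' * MvPolynomial.C (T⁻¹ s' r))
  rw [hH, map_zero] at hw
  have hzero : (fun s : Fin m => (MvPolynomial.X s : MvPolynomial (Fin m) A) +
      ∑ r : Fin m, (- ∑ s' : Fin m, MvPolynomial.X s' * MvPolynomial.C (T⁻¹ s' r)) * MvPolynomial.C (T r s)) =
      fun _ => 0 := by
    funext s
    simp only [neg_mul, Finset.sum_neg_distrib, Finset.sum_mul]
    rw [Finset.sum_comm]
    have : ∀ s' : Fin m, ∑ r : Fin m, (MvPolynomial.X s' : MvPolynomial (Fin m) A) *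
        MvPolynomial.C (T⁻¹ s' r) * MvPolynomial.C (T r s) =
        MvPolynomial.X s' * MvPolynomial.C ((1 : Matrix (Fin m) (Fin m) A) s' s) := by
      intro s'
      rw [← hTT, Matrix.mul_apply, map_sum, Finset.mul_sum]
      apply Finset.sum_congr rfl
      intro r _
      rw [map_mul, mul_assoc]
    simp only [this, Matrix.one_apply]
    simp
  rw [hzero, MvPolynomial.aeval_zero'] at hw
  refine ⟨MvPolynomial.constantCoeff f, ?_⟩
  rw [← sub_eq_zero, ← neg_eq_zero, neg_sub]
  rw [hw]
  rfl

end Groth.Agent.S11233
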