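import Groth.Statements.S11234
import Groth.Agent.H62.GrossF

set_option autoImplicit false
universe u
open CategoryTheory MonoidalCategory CartesianMonoidalCategory MonObj GrpObj AlgebraicGeometry
open scoped TensorProduct
open AGF

namespace Groth.Agent.S11234

/-- Let k be an algebraically closed field, G a linear algebraic group over k (affine, smooth) and H a
smooth closed subgroup of G. The following are equivalent: (b) every global function on G invariant
under right translation by H is a constant; (c) for every rational G-module E, the H-invariants of E
coincide with the G-invariants; (e) two homomorphisms from G to a linear algebraic group which agree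
on H are equal. (The published list also contains the statement that H is epimorphic in the sense of
its hull under the stabilizer correspondence, and the statement that complementary H-stable
subspaces of a rational G-module are G-stable; this row states the other three.) -/
theorem result (k : Type u) [Field k] [IsAlgClosed k]
    (G : Over (Spec (CommRingCat.of k))) [GrpObj G] [IsAffine G.left] [Smooth G.hom]
    (H : Over (Spec (CommRingCat.of k))) [GrpObj H] [Smooth H.hom] (i : H ⟶ G) [IsMonHom i]
    [IsClosedImmersion i.left] :
    List.TFAE [
      ∀ f : Γ(G.left, ⊤), ((G ◁ i) ≫ μ[G]).left.appTop f = (fst G H).left.appTop f →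
        ∃ c : k, f = G.hom.appTop ((Scheme.ΓSpecIso (CommRingCat.of k)).inv c),
      ∀ (E : Type u) [AddCommGroup E] [Module k E] (ρ : VecGrp.GMod G E),
        ρ.fixedUnder i = ρ.fixedUnder (𝟙 G),
      ∀ (G' : Over (Spec (CommRingCat.of k))) [GrpObj G'] [IsAffine G'.left] [Smooth G'.hom]
        (r s : G ⟶ G') [IsMonHom r] [IsMonHom s], i ≫ r = i ≫ s → r = s] := by
  haveI : IsAffine H.left := isAffine_of_isAffineHom i.left
  tfae_have 1 → 2 := by
    intro hb E _ _ ρ
    exact Groth.Agent.H62.GrossE.fixed_eq_of_const i (fun f hf => hb f hf) ρ
  tfae_have 2 → 1 := by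
    intro hc f hf
    exact Groth.Agent.H62.GrossE.const_of_fixed i f hf (fun ρ => (hc _ ρ).le)
  tfae_have 1 → 3 := by
    intro hb G' _ _ _ r s _ _ hrs
    exact Groth.Agent.H62.GrossE.hom_eq_of_const i (fun f hf => hb f hf) G' r s hrs
  tfae_have 3 → 1 := by
    intro he f hf
    exact Groth.Agent.H62.GrossF.const_of_epi i (fun m r s hr hs hrs => by
      haveI := hr
      haveI := hs
      haveI : Smooth (Groth.Agent.H62.GLkDef.GLk k m).hom :=
        Groth.Agent.H62.GLkSmooth.smooth_GLk m k
      exact he (Groth.Agent.H62.GLkDef.GLk k m) r s hrs) f hf
  tfae_finish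

end Groth.Agent.S11234
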