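import Groth.Statements.S11235
import Mathlib.Algebra.Polynomial.Roots
import Mathlib.RingTheory.Ideal.Quotient.Operations
import Mathlib.RingTheory.Ideal.Quotient.Basic
-- import your own Groth.Agent.* helpers here

set_option autoImplicit false
universe u
open CAlg

namespace Groth.Agent.S11235

/-- Let k be an algebraically closed field, A a commutative k-algebra, α ∈ k, and M a maximal ideal of
the polynomial ring A[x] containing x - α. Let I ⊆ M be an ideal whose zero set in Spec A[x] is
invariant under the automorphisms x ↦ c·x, c ∈ k nonzero (equivalently: the image of I under each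
such A-algebra automorphism has the same radical as I). Then there is a maximal ideal of A[x]
containing I and x. -/
theorem result (k : Type u) [Field k] [IsAlgClosed k]
    (A : Type u) [CommRing A] [Algebra k A] (α : k)
    (M : Ideal (Polynomial A)) (hM : M.IsMaximal)
    (hα : Polynomial.X - Polynomial.C (algebraMap k A α) ∈ M)
    (I : Ideal (Polynomial A)) (hIM : I ≤ M)
    (hI : ∀ c : kˣ, (I.map (Polynomial.aeval (R := A)
      (algebraMap k A (c : k) • (Polynomial.X : Polynomial A)))).radical = I.radical) :
    ∃ N : Ideal (Polynomial A), N.IsMaximal ∧ I ≤ N ∧ Polynomial.X ∈ N := by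
  classical
  haveI := hM
  letI : Field (Polynomial A ⧸ M) := Ideal.Quotient.field M
  let ψ : Polynomial A →+* (Polynomial A ⧸ M) := Ideal.Quotient.mk M
  let φ : A →+* (Polynomial A ⧸ M) := ψ.comp Polynomial.C
  set αb : (Polynomial A ⧸ M) := φ (algebraMap k A α) with hαb
  have hX : ψ Polynomial.X = αb := by
    have := Ideal.Quotient.eq_zero_iff_mem.mpr hα
    rw [map_sub, sub_eq_zero] at this
    exact this
  have hψ : ∀ (g q : Polynomial A), ψ (Polynomial.eval₂ Polynomial.C q g) =
      Polynomial.eval₂ φ (ψ q) g := by
    intro g q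
    rw [Polynomial.hom_eval₂]
  have hψ' : ∀ g : Polynomial A, ψ g = Polynomial.eval₂ φ αb g := by
    intro g
    conv_lhs => rw [← Polynomial.eval₂_C_X (p := g)]
    rw [hψ, hX]
  have hφsurj : Function.Surjective φ := by
    intro y
    obtain ⟨g, rfl⟩ := Ideal.Quotient.mk_surjective y
    refine ⟨g.eval (algebraMap k A α), ?_⟩
    change φ _ = ψ g
    rw [hψ' g, Polynomial.eval, Polynomial.hom_eval₂]
    simp [hαb]
  let ev0 : Polynomial A →+* (Polynomial A ⧸ M) := φ.comp Polynomial.constantCoeff
  have hev0surj : Function.Surjective ev0 := by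
    intro y
    obtain ⟨a, rfl⟩ := hφsurj y
    exact ⟨Polynomial.C a, by simp [ev0]⟩
  refine ⟨RingHom.ker ev0, RingHom.ker_isMaximal_of_surjective ev0 hev0surj, ?_,
    by simp [RingHom.mem_ker, ev0]⟩
  intro g hg
  rw [RingHom.mem_ker]
  change φ (Polynomial.constantCoeff g) = 0
  have hrad : I.radical ≤ M := by
    rw [← hM.isPrime.radical]
    exact Ideal.radical_mono hIM
  have key : ∀ c : kˣ, Polynomial.eval₂ φ (φ (algebraMap k A (c : k)) * αb) g = 0 := by
    intro c
    have h1 : Polynomial.aeval (R := A)
        (algebraMap k A (c : k) • (Polynomial.X : Polynomial A)) g ∈ M := by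
      have h0 : Polynomial.aeval (R := A)
          (algebraMap k A (c : k) • (Polynomial.X : Polynomial A)) g ∈
          (I.map (Polynomial.aeval (R := A)
            (algebraMap k A (c : k) • (Polynomial.X : Polynomial A)))).radical :=
        Ideal.le_radical (Ideal.mem_map_of_mem _ hg)
      rw [hI c] at h0
      exact hrad h0
    have h2 : ψ (Polynomial.aeval (R := A)
        (algebraMap k A (c : k) • (Polynomial.X : Polynomial A)) g) = 0 :=
      Ideal.Quotient.eq_zero_iff_mem.mpr h1
    rw [Polynomial.aeval_def, Polynomial.algebraMap_eq, hψ] at h2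
    rw [Polynomial.smul_eq_C_mul, map_mul, hX] at h2
    exact h2
  by_cases hα0 : αb = 0
  · have := key 1
    rw [hα0, mul_zero, Polynomial.eval₂_at_zero] at this
    exact this
  · have hzero : g.map φ = 0 := by
      apply Polynomial.eq_zero_of_infinite_isRoot
      have hinf : ({0}ᶜ : Set k).Infinite := (Set.finite_singleton (0 : k)).infinite_compl
      have hinj : Function.Injective (fun c : k => φ (algebraMap k A c) * αb) := by
        intro c c' hcc
        have h3 : φ (algebraMap k A c) = φ (algebraMap k A c') := mul_right_cancel₀ hα0 hcc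
        exact (φ.comp (algebraMap k A)).injective h3
      refine Set.Infinite.mono ?_ (hinf.image hinj.injOn)
      rintro _ ⟨c, hc, rfl⟩
      have hc0 : c ≠ 0 := hc
      have := key (Units.mk0 c hc0)
      simp only [Set.mem_setOf_eq, Polynomial.IsRoot.def, Polynomial.eval_map]
      exact this
    have h4 : Polynomial.eval₂ φ 0 g = 0 := by
      rw [← Polynomial.eval_map, hzero, Polynomial.eval_zero]
    rw [Polynomial.eval₂_at_zero] at h4
    exact h4

end Groth.Agent.S11235
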