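import Groth.Statements.S11239
import Mathlib.LinearAlgebra.Matrix.Block
-- import your own Groth.Agent.* helpers here

set_option autoImplicit false
universe u
open AGF

namespace Groth.Agent.S11239

/-- Let X be an m × n matrix over a commutative ring, u an upper triangular n × n matrix with ones on
the diagonal, t a diagonal n × n matrix and p ≤ n. For any choice of p rows, the minor of X·t·u
formed with these rows and the first p columns equals (t_11 ⋯ t_pp) times the corresponding minor of
X: the minors on the first p columns are semi-invariant of weight ω_p under right multiplication by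
the upper triangular group. (The published statement is for the generic matrix over an algebraically
closed field; this row states the identity over any commutative ring.) -/
theorem result (R : Type u) [CommRing R] (m n p : ℕ) (hp : p ≤ n)
    (X : Matrix (Fin m) (Fin n) R) (d : Fin n → R) (u : Matrix (Fin n) (Fin n) R)
    (hu1 : ∀ i, u i i = 1) (hu0 : ∀ i j, j < i → u i j = 0) (I : Fin p → Fin m) :
    ((X * Matrix.diagonal d * u).submatrix I (Fin.castLE hp)).det =
      (∏ i : Fin p, d (Fin.castLE hp i)) * (X.submatrix I (Fin.castLE hp)).det := by
  set c : Fin p → Fin n := Fin.castLE hp with hc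
  have hcinj : Function.Injective c := Fin.castLE_injective hp
  set W : Matrix (Fin n) (Fin n) R := Matrix.diagonal d * u with hW
  have hWe : ∀ i j, W i j = d i * u i j := fun i j => by rw [hW, Matrix.diagonal_mul]
  have hrange : ∀ k : Fin n, k ∉ Set.range c → ∀ b : Fin p, W k (c b) = 0 := by
    intro k hk b
    rw [hWe, hu0 k (c b), mul_zero]
    by_contra hlt
    apply hk
    have hkb : k ≤ c b := not_lt.mp hlt
    have : (k : ℕ) < p := lt_of_le_of_lt (Fin.le_def.mp hkb) (by simp [hc])
    exact ⟨⟨k, this⟩, by ext; simp [hc]⟩
  have key : (X * Matrix.diagonal d * u).submatrix I c = X.submatrix I c * W.submatrix c c := by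
    rw [Matrix.mul_assoc, ← hW]
    ext a b
    simp only [Matrix.submatrix_apply, Matrix.mul_apply]
    symm
    apply Fintype.sum_of_injective c hcinj
    · intro k hk
      rw [hrange k hk b, mul_zero]
    · intro k
      rfl
  rw [key, Matrix.det_mul, mul_comm]
  congr 1
  rw [Matrix.det_of_upperTriangular]
  · apply Finset.prod_congr rfl
    intro i _
    rw [Matrix.submatrix_apply, hWe, hu1, mul_one]
  · intro i j hij
    rw [Matrix.submatrix_apply, hWe, hu0, mul_zero]
    exact (Fin.castLE_lt_castLE_iff hp).mpr hij

end Groth.Agent.S11239
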