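import Groth.Statements.S4667
import Mathlib.AlgebraicGeometry.Morphisms.SchemeTheoreticallyDominant
import Mathlib.AlgebraicGeometry.IdealSheaf.Functorial

set_option autoImplicit false
open CategoryTheory AlgebraicGeometry
universe u
open FDesc

namespace Groth.Agent.S4667

section aux
open AlgebraicGeometry CategoryTheory CategoryTheory.Limits TopologicalSpace

/-- The morphism to the scheme-theoretic image of a quasi-compact morphism is
scheme-theoretically dominant. -/
lemma dominant_toImage {X Y : Scheme.{u}} (f : X ⟶ Y) [QuasiCompact f] :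
    IsSchemeTheoreticallyDominant f.toImage := by
  rw [isSchemeTheoreticallyDominant_iff]
  refine Scheme.IdealSheafData.ext_of_iSup_eq_top
    (fun U : Y.affineOpens ↦ ⟨f.imageι ⁻¹ᵁ U.1, U.2.preimage f.imageι⟩) ?_ ?_
  · rw [eq_top_iff]
    rintro z -
    obtain ⟨U, hU, hz, -⟩ := Opens.isBasis_iff_nbhd.mp Y.isBasis_affineOpens
      (Opens.mem_top (f.imageι z))
    exact Opens.mem_iSup.mpr ⟨⟨U, hU⟩, hz⟩
  · intro U
    rw [Scheme.Hom.ker_apply]
    simp only [Scheme.IdealSheafData.ideal_bot, Pi.bot_apply]
    exact (RingHom.injective_iff_ker_eq_bot _).mp (f.toImage_app_injective U)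

lemma main {X Y Y' : Scheme.{u}} (f : X ⟶ Y) (g : Y' ⟶ Y) [QuasiCompact f] [Flat g] :
    (pullback.snd f g).ker = f.ker.comap g := by
  have hdom := dominant_toImage f
  have hcond : pullback.snd f g ≫ g = (pullback.fst f g ≫ f.toImage) ≫ f.imageι := by
    rw [Category.assoc, Scheme.Hom.toImage_imageι, pullback.condition]
  obtain ⟨k, hk1, hk2⟩ : ∃ k : pullback f g ⟶ pullback g f.imageι,
      k ≫ pullback.fst g f.imageι = pullback.snd f g ∧
      k ≫ pullback.snd g f.imageι = pullback.fst f g ≫ f.toImage :=
    ⟨pullback.lift _ _ hcond, pullback.lift_fst _ _ _, pullback.lift_snd _ _ _⟩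
  have big : IsPullback (k ≫ pullback.fst g f.imageι) (pullback.fst f g) g
      (f.toImage ≫ f.imageι) := by
    rw [hk1, Scheme.Hom.toImage_imageι]
    exact (IsPullback.of_hasPullback f g).flip
  have sq : IsPullback k (pullback.fst f g) (pullback.snd g f.imageι) f.toImage :=
    IsPullback.of_right big hk2 (IsPullback.of_hasPullback g f.imageι)
  have hkdom : IsSchemeTheoreticallyDominant k :=
    IsSchemeTheoreticallyDominant.of_isPullback sq.flip
  rw [← hk1, Scheme.Hom.ker_comp, k.ker_eq_bot, Scheme.IdealSheafData.map_bot]
  rfl

end aux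

open CategoryTheory.Limits in
/-- Let f : X → Y be a quasi-compact morphism of schemes and g : Y' → Y a flat morphism, and let f' : X
×_Y Y' → Y' be the base change of f. Then the scheme-theoretic image of f' is the inverse image
under g of the scheme-theoretic image of f: the quasi-coherent ideal sheaf cutting out the former is
the pull-back along g of the one cutting out the latter. (One published statement is phrased for a
quasi-compact and quasi-separated S-morphism f and a flat base change S′ → S, which reduces to this
case; quasi-compactness of f suffices.) -/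
theorem result {X Y Y' : Scheme.{u}} (f : X ⟶ Y) (g : Y' ⟶ Y)
    [QuasiCompact f] [Flat g] :
    (pullback.snd f g).ker = f.ker.comap g := by
  exact main f g

end Groth.Agent.S4667
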