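import Groth.Statements.S1124
import Groth.Agent.S4667
import Mathlib.AlgebraicGeometry.Morphisms.FlatDescent
import Mathlib.AlgebraicGeometry.Morphisms.Immersion

set_option autoImplicit false
open CategoryTheory CategoryTheory.Limits AlgebraicGeometry Opposite
universe u
open Desc

namespace Groth.Agent.S1124

section aux
open TopologicalSpace MorphismProperty

lemma quasiCompact_of_isPullback {A X' Y X : Scheme.{u}} {fst : A ⟶ X'} {snd : A ⟶ Y}
    {f : X' ⟶ X} {g : Y ⟶ X} (sq : IsPullback fst snd f g) [Surjective f] [QuasiCompact f]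
    [QuasiCompact fst] : QuasiCompact g := by
  have hsnd : Surjective snd := MorphismProperty.of_isPullback (P := @Surjective) sq inferInstance
  constructor
  intro U hU hUc
  have h1 : IsCompact (fst ⁻¹' (f ⁻¹' U)) :=
    QuasiCompact.isCompact_preimage (f := fst) _ (hU.preimage f.continuous)
      (QuasiCompact.isCompact_preimage (f := f) _ hU hUc)
  have h2 : snd '' (fst ⁻¹' (f ⁻¹' U)) = g ⁻¹' U := by
    have : fst ⁻¹' (f ⁻¹' U) = snd ⁻¹' (g ⁻¹' U) := by
      ext a
      simp only [Set.mem_preimage]
      rw [← Scheme.Hom.comp_apply, ← Scheme.Hom.comp_apply, sq.w]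
    rw [this, Set.image_preimage_eq _ hsnd.surj]
  rw [← h2]
  exact h1.image snd.continuous

lemma range_fst_eq {A X' Y X : Scheme.{u}} {fst : A ⟶ X'} {snd : A ⟶ Y} {f : X' ⟶ X}
    {g : Y ⟶ X} (sq : IsPullback fst snd f g) : Set.range fst = f ⁻¹' Set.range g := by
  ext x
  constructor
  · rintro ⟨a, rfl⟩
    refine ⟨snd a, ?_⟩
    rw [← Scheme.Hom.comp_apply, ← Scheme.Hom.comp_apply, sq.w]
  · rintro ⟨y, hy⟩
    obtain ⟨a, ha, -⟩ := Scheme.exists_preimage_of_isPullback sq x y hy.symm
    exact ⟨a, ha⟩

lemma main :
    MorphismProperty.DescendsAlong (@IsImmersion ⊓ @QuasiCompact : MorphismProperty Scheme.{u})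
      (@Surjective ⊓ @Flat ⊓ @QuasiCompact : MorphismProperty Scheme.{u}) := by
  constructor
  intro A X' Y X fst snd f g sq hf hfst
  obtain ⟨⟨hsurj, hflat⟩, hqc⟩ := hf
  obtain ⟨himm, hfqc⟩ := hfst
  have hsurj' : Surjective f := hsurj
  have hflat' : Flat f := hflat
  have hqc' : QuasiCompact f := hqc
  have himm' : IsImmersion fst := himm
  have hfqc' : QuasiCompact fst := hfqc
  have hgqc : QuasiCompact g := quasiCompact_of_isPullback sq
  have hdom := Groth.Agent.S4667.dominant_toImage g
  have hcond : fst ≫ f = (snd ≫ g.toImage) ≫ g.imageι := by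
    rw [Category.assoc, Scheme.Hom.toImage_imageι, sq.w]
  obtain ⟨k, hk1, hk2⟩ : ∃ k : A ⟶ pullback f g.imageι,
      k ≫ pullback.fst f g.imageι = fst ∧ k ≫ pullback.snd f g.imageι = snd ≫ g.toImage :=
    ⟨pullback.lift _ _ hcond, pullback.lift_fst _ _ _, pullback.lift_snd _ _ _⟩
  have big : IsPullback (k ≫ pullback.fst f g.imageι) snd f (g.toImage ≫ g.imageι) := by
    rw [hk1, Scheme.Hom.toImage_imageι]; exact sq
  have sqk : IsPullback k snd (pullback.snd f g.imageι) g.toImage :=
    IsPullback.of_right big hk2 (IsPullback.of_hasPullback f g.imageι)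
  have hp2 : (@Surjective ⊓ @Flat ⊓ @QuasiCompact : MorphismProperty Scheme.{u})
      (pullback.snd f g.imageι) := ⟨⟨inferInstance, inferInstance⟩, inferInstance⟩
  have hp2flat : Flat (pullback.snd f g.imageι) := inferInstance
  have hkdom : IsSchemeTheoreticallyDominant k :=
    IsSchemeTheoreticallyDominant.of_isPullback sqk.flip
  have hkimm : IsImmersion k := by
    have : IsImmersion (k ≫ pullback.fst f g.imageι) := by rw [hk1]; exact himm'
    exact IsImmersion.of_comp k (pullback.fst f g.imageι)
  have hkqc : QuasiCompact k :=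
    MorphismProperty.of_isPullback (P := @QuasiCompact) sqk.flip inferInstance
  have hkopen : IsOpenImmersion k := by
    have h1 : IsIso k.imageι :=
      (Scheme.isIso_subschemeι_iff_eq_bot k.ker).mpr k.ker_eq_bot
    have h2 : IsOpenImmersion k.toImage := inferInstance
    rw [← k.toImage_imageι]
    infer_instance
  have htopen : IsOpenImmersion g.toImage :=
    MorphismProperty.of_isPullback_of_descendsAlong (P := @IsOpenImmersion)
      (Q := (@Surjective ⊓ @Flat ⊓ @QuasiCompact : MorphismProperty Scheme.{u})) sqk hp2 hkopen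
  refine ⟨?_, hgqc⟩
  show IsImmersion g
  rw [← g.toImage_imageι]
  infer_instance

end aux

/-- If the base change of a morphism of schemes along a quasi-compact, flat, surjective morphism is a
quasi-compact immersion, then the morphism itself is a quasi-compact immersion. (Stated for a single
quasi-compact flat surjective base change; together with Zariski-locality on the target this is fpqc
descent for quasi-compact immersions.) -/
theorem result :
    MorphismProperty.DescendsAlong (@IsImmersion ⊓ @QuasiCompact : MorphismProperty Scheme.{u})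
      (@Surjective ⊓ @Flat ⊓ @QuasiCompact : MorphismProperty Scheme.{u}) := by
  exact main

end Groth.Agent.S1124
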