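import Groth.Statements.S11240
import Mathlib.LinearAlgebra.Matrix.Determinant.Basic
-- import your own Groth.Agent.* helpers here

set_option autoImplicit false
universe u
open AGF

namespace Groth.Agent.S11240

/-- For a single root subgroup: let k be an algebraically closed field and X = (x_ab) the generic n × m
matrix over the polynomial ring k[x_ab]. Let i ≠ j be row indices and let I (rows) and J (columns)
be strictly increasing sequences of length p. The minor of X with rows I and columns J is invariant
under replacing X by (1 + b·E_ij)·X for every b ∈ k (the one-parameter unipotent group adding b
times row j to row i) if and only if j occurs in I whenever i does. (The published statement gives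
the criterion for the group generated by several such root subgroups, which is the conjunction of
these.) -/
theorem result (k : Type u) [Field k] [IsAlgClosed k] (n m p : ℕ)
    (i j : Fin n) (hij : i ≠ j) (I : Fin p ↪o Fin n) (J : Fin p ↪o Fin m) :
    (∀ b : k, ((Matrix.transvection i j (MvPolynomial.C b) *
        (Matrix.of fun a c => (MvPolynomial.X (a, c) : MvPolynomial (Fin n × Fin m) k))).submatrix I J).det =
        ((Matrix.of fun a c => (MvPolynomial.X (a, c) : MvPolynomial (Fin n × Fin m) k)).submatrix I J).det) ↔
      (i ∈ Set.range I → j ∈ Set.range I) := by
  classical
  set X : Matrix (Fin n) (Fin m) (MvPolynomial (Fin n × Fin m) k) :=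
    Matrix.of fun a c => (MvPolynomial.X (a, c) : MvPolynomial (Fin n × Fin m) k) with hX
  by_cases hi : i ∈ Set.range I
  · obtain ⟨a, rfl⟩ := hi
    -- description of the transformed submatrix
    have hB : ∀ b : k, (Matrix.transvection (I a) j (MvPolynomial.C b) * X).submatrix I J =
        Matrix.updateRow (X.submatrix I J) a
          ((X.submatrix I J) a + (MvPolynomial.C b : MvPolynomial (Fin n × Fin m) k) • (fun c => X j (J c))) := by
      intro b
      ext a' c
      by_cases ha : a' = a
      · subst ha
        simp [Matrix.updateRow_self]
      · have hne : I a' ≠ I a := fun h => ha (I.injective h)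
        rw [Matrix.updateRow_ne ha]
        simp [Matrix.transvection_mul_apply_of_ne _ _ _ _ hne]
    have hdet : ∀ b : k, ((Matrix.transvection (I a) j (MvPolynomial.C b) * X).submatrix I J).det =
        (X.submatrix I J).det + MvPolynomial.C b *
          (Matrix.updateRow (X.submatrix I J) a (fun c => X j (J c))).det := by
      intro b
      rw [hB, Matrix.det_updateRow_add, Matrix.det_updateRow_smul, Matrix.updateRow_eq_self]
    constructor
    · intro h _
      by_contra hj
      have h1 := h 1
      rw [hdet 1, map_one, one_mul] at h1
      have hD : (Matrix.updateRow (X.submatrix I J) a (fun c => X j (J c))).det = 0 := by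
        simpa using h1
      -- evaluation
      let I' : Fin p → Fin n := Function.update I a j
      have hI'inj : Function.Injective I' := by
        intro x y hxy
        by_cases hx : x = a
        · by_cases hy : y = a
          · rw [hx, hy]
          · exfalso
            simp only [I', hx, Function.update_self, Function.update_of_ne hy] at hxy
            exact hj ⟨y, hxy.symm⟩
        · by_cases hy : y = a
          · exfalso
            simp only [I', hy, Function.update_self, Function.update_of_ne hx] at hxy
            exact hj ⟨x, hxy⟩
          · simp only [I', Function.update_of_ne hx, Function.update_of_ne hy] at hxy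
            exact I.injective hxy
      have hupd : Matrix.updateRow (X.submatrix I J) a (fun c => X j (J c)) = X.submatrix I' J := by
        ext a' c
        by_cases ha : a' = a
        · subst ha
          simp [I', Matrix.updateRow_self]
        · rw [Matrix.updateRow_ne ha]
          simp [I', Function.update_of_ne ha]
      let ev : (Fin n × Fin m) → k := fun q => if ∃ a'', I' a'' = q.1 ∧ J a'' = q.2 then 1 else 0
      have hone : (MvPolynomial.eval ev).mapMatrix (X.submatrix I' J) = 1 := by
        ext a' c
        simp only [RingHom.mapMatrix_apply, Matrix.map_apply, Matrix.submatrix_apply, hX,
          Matrix.of_apply, MvPolynomial.eval_X, ev, Matrix.one_apply]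
        by_cases hac : a' = c
        · subst hac
          rw [if_pos ⟨a', rfl, rfl⟩, if_pos rfl]
        · rw [if_neg hac, if_neg]
          rintro ⟨a'', h1, h2⟩
          exact hac ((hI'inj h1).symm.trans (J.injective h2))
      have := congrArg (MvPolynomial.eval ev) hD
      rw [hupd, RingHom.map_det, hone, Matrix.det_one, map_zero] at this
      exact one_ne_zero this
    · intro h b
      obtain ⟨a', ha'⟩ := h ⟨a, rfl⟩
      have hne : a ≠ a' := by
        rintro rfl
        exact hij ha'
      rw [hB]
      have : (fun c => X j (J c)) = (X.submatrix I J) a' := by
        funext c
        simp [← ha']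
      rw [this]
      exact Matrix.det_updateRow_add_smul_self _ hne _
  · constructor
    · intro _ h
      exact absurd h hi
    · intro _ b
      congr 1
      ext a c
      have hne : I a ≠ i := fun h => hi ⟨a, h⟩
      simp [Matrix.transvection_mul_apply_of_ne _ _ _ _ hne]

end Groth.Agent.S11240
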