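import Groth.Statements.S11243
import Mathlib

set_option autoImplicit false
universe u v w
open RootD

namespace Groth.Agent.S11243

/-- (b), for a connected group, as a statement about its root datum: let P be a finite reduced
crystallographic root pairing over ℤ with weight lattice M, and b a base of P (simple roots,
determining the positive roots). Then there is an additive map h : M → ℤ which is positive on every
positive root (so that h strictly increases along the dominance order) and non-negative on every
dominant weight, i.e. on every ω ∈ M pairing non-negatively with all simple coroots. (Part (c),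
invariance under the component group of a disconnected group, is not stated.) -/
theorem result {ι : Type u} {M : Type v} {N : Type w}
    [Fintype ι] [AddCommGroup M] [AddCommGroup N]
    (P : RootPairing ι ℤ M N) [P.IsReduced] [P.IsCrystallographic] (b : P.Base) :
    ∃ h : M →+ ℤ, (∀ i : ι, b.IsPos i → 0 < h (P.root i)) ∧
      ∀ ω : M, (∀ j ∈ b.support, 0 ≤ P.toLinearMap ω (P.coroot j)) → 0 ≤ h ω := by
  classical
  let Pos : Finset ι := Finset.univ.filter (fun i => b.IsPos i)
  let hl : M →ₗ[ℤ] ℤ := ∑ γ ∈ Pos, P.toLinearMap.flip (P.coroot γ)
  have hval : ∀ ω : M, hl ω = ∑ γ ∈ Pos, P.toLinearMap ω (P.coroot γ) := by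
    intro ω
    simp [hl, LinearMap.sum_apply, LinearMap.flip_apply]
  have hs : ∀ j ∈ b.support, 0 < hl (P.root j) := by
    intro j hj
    have hjpos : j ∈ Pos := by
      simp only [Pos, Finset.mem_filter, Finset.mem_univ, true_and]
      exact RootPairing.Base.isPos_of_mem_support hj
    rw [hval, ← Finset.add_sum_erase Pos _ hjpos]
    have h0 : ∑ γ ∈ Pos.erase j, P.toLinearMap (P.root j) (P.coroot γ) = 0 := by
      have key : ∀ γ : ι, P.toLinearMap (P.root j) (P.coroot γ)
          + P.toLinearMap (P.root j) (P.coroot (P.reflectionPerm j γ)) = 0 := by
        intro γ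
        rw [RootPairing.root_coroot_eq_pairing, RootPairing.root_coroot_eq_pairing,
          RootPairing.pairing_reflectionPerm, RootPairing.pairing_reflectionPerm_self_left]
        ring
      refine Finset.sum_involution (fun γ _ => P.reflectionPerm j γ) (fun γ _ => key γ) ?_ ?_ ?_
      · intro γ _ hne heq
        have heq' : P.reflectionPerm j γ = γ := heq
        have hk := key γ
        rw [heq'] at hk
        apply hne
        omega
      · intro γ hγ
        rw [Finset.mem_erase] at hγ ⊢
        obtain ⟨hγj, hγpos⟩ := hγ
        simp only [Pos, Finset.mem_filter, Finset.mem_univ, true_and] at hγpos ⊢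
        refine ⟨?_, hγpos.reflectionPerm hj hγj⟩
        intro heq
        have h1 : γ = P.reflectionPerm j j := by
          have h9 := RootPairing.reflectionPerm_self P j γ
          rw [heq] at h9
          exact h9.symm
        have h2 : b.height (P.reflectionPerm j j) = - b.height j :=
          b.height_reflectionPerm_self j
        have h3 : b.height j = 1 := RootPairing.Base.height_one_of_mem_support hj
        rw [RootPairing.Base.isPos_iff, h1, h2, h3] at hγpos
        omega
      · intro γ _
        exact RootPairing.reflectionPerm_self P j γ
    rw [h0, RootPairing.root_coroot_eq_pairing, RootPairing.pairing_same]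
    norm_num
  have hc : ∀ i : ι, 0 < P.RootForm (P.root i) (P.root i) := by
    intro i
    rw [RootPairing.rootForm_root_self]
    have h1 : P.pairing i i * P.pairing i i ≤ ∑ l : ι, P.pairing i l * P.pairing i l :=
      Finset.single_le_sum (f := fun l => P.pairing i l * P.pairing i l)
        (fun l _ => mul_self_nonneg _) (Finset.mem_univ i)
    rw [RootPairing.pairing_same] at h1
    linarith
  refine ⟨hl.toAddMonoidHom, ?_, ?_⟩
  · intro i hi
    change 0 < hl (P.root i)
    refine hi.induction_on_add (p := fun i => 0 < hl (P.root i)) hs ?_
    intro i j k hk hpi hj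
    change 0 < hl (P.root k)
    rw [hk, map_add]
    exact add_pos hpi (hs j hj)
  · intro ω hω
    change 0 ≤ hl ω
    rw [hval]
    apply Finset.sum_nonneg
    intro γ hγ
    simp only [Pos, Finset.mem_filter, Finset.mem_univ, true_and] at hγ
    refine hγ.induction_on_add (p := fun γ => 0 ≤ P.toLinearMap ω (P.coroot γ)) hω ?_
    intro i j k hk hpi hj
    change 0 ≤ P.toLinearMap ω (P.coroot k)
    have e1 : (P.RootForm (P.root k) (P.root k)) • P.coroot k
        = (P.RootForm (P.root i) (P.root i)) • P.coroot i
          + (P.RootForm (P.root j) (P.root j)) • P.coroot j := by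
      rw [P.rootForm_self_smul_coroot k, P.rootForm_self_smul_coroot i,
        P.rootForm_self_smul_coroot j, hk, map_add, smul_add]
    have e2 := congrArg (P.toLinearMap ω) e1
    simp only [map_add, map_smul, smul_eq_mul] at e2
    have hj' := hω j hj
    have hck := hc k
    have hci := hc i
    have hcj := hc j
    by_contra hneg
    push Not at hneg
    nlinarith [mul_nonneg hci.le hpi, mul_nonneg hcj.le hj', mul_pos hck (neg_pos.mpr hneg)]

end Groth.Agent.S11243
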