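import Groth.Statements.S11249
import Groth.Agent.H94.Plucker

set_option autoImplicit false
universe u
open W4bk4grassmannian

namespace Groth.Agent.S11249


open Groth.Agent.H94.Plucker in
theorem exists_minor_ne_zero {K : Type*} [Field K] {d n : ℕ} (A' : Matrix (Fin n) (Fin d) K)
    (hA' : LinearIndependent K A'.transpose) :
    ∃ θ0 : Idx d n, (A'.submatrix θ0.1 id).det ≠ 0 := by
  classical
  have hrankT : A'.transpose.rank = d := by
    have h1 := LinearIndependent.rank_matrix (M := A'.transpose) hA'
    rw [h1, Fintype.card_fin]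
  have hrank : A'.rank = d := by rw [← Matrix.rank_transpose, hrankT]
  have hfin : Module.finrank K (Submodule.span K (Set.range A'.row)) = d := by
    rw [← Matrix.rank_eq_finrank_span_row, hrank]
  obtain ⟨f, hf1, -, hf3⟩ := Submodule.exists_fun_fin_finrank_span_eq K (Set.range A'.row)
  have hf3' : LinearIndependent K (f ∘ Fin.cast hfin.symm) :=
    hf3.comp _ (Fin.cast_injective _)
  have hex : ∀ i : Fin d, ∃ x : Fin n, A' x = f (Fin.cast hfin.symm i) := by
    intro i
    obtain ⟨x, hx⟩ := hf1 (Fin.cast hfin.symm i)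
    exact ⟨x, hx⟩
  choose b hb using hex
  have hrow : (A'.submatrix b id).row = f ∘ Fin.cast hfin.symm := by
    funext i
    exact hb i
  have hunit : IsUnit (A'.submatrix b id) :=
    Matrix.linearIndependent_rows_iff_isUnit.mp (by rw [hrow]; exact hf3')
  have hdet : (A'.submatrix b id).det ≠ 0 :=
    ((Matrix.isUnit_iff_isUnit_det _).mp hunit).ne_zero
  have hbinj : Function.Injective b := by
    by_contra hni
    apply hdet
    obtain ⟨x, y, hxy, hne⟩ : ∃ x y, b x = b y ∧ x ≠ y := by
      by_contra hcon
      apply hni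
      intro x y hxy
      by_contra hne
      exact hcon ⟨x, y, hxy, hne⟩
    exact Matrix.det_zero_of_row_eq hne (by
      funext j
      simp only [Matrix.submatrix_apply, hxy])
  have hcard := (card_image_eq_iff b).mpr hbinj
  refine ⟨sortIdx d n b hcard, ?_⟩
  intro h0
  apply hdet
  rw [det_submatrix_sort A' b hcard, h0, mul_zero]

open Groth.Agent.H94.Plucker in
theorem entry_eq_det_update {R : Type*} [CommRing R] {d n : ℕ} (B : Matrix (Fin n) (Fin d) R)
    (θ0 : Fin d → Fin n) (hB1 : B.submatrix θ0 id = 1) (l : Fin d) (x : Fin n) :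
    (B.submatrix (Function.update θ0 l x) id).det = B x l := by
  have hm : B.submatrix (Function.update θ0 l x) id =
      (1 : Matrix (Fin d) (Fin d) R).updateRow l (B x) := by
    apply Matrix.ext
    intro l' m
    rw [Matrix.submatrix_apply, id]
    by_cases hl : l' = l
    · rw [hl, Function.update_self, Matrix.updateRow_self]
    · rw [Function.update_of_ne hl, Matrix.updateRow_ne hl, ← hB1]
      rfl
  rw [hm, det_update_one]

theorem span_cols_mul_le {K : Type*} [Field K] {d n : ℕ} (M : Matrix (Fin n) (Fin d) K)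
    (P : Matrix (Fin d) (Fin d) K) :
    Submodule.span K (Set.range (M * P).transpose) ≤ Submodule.span K (Set.range M.transpose) := by
  apply Submodule.span_le.mpr
  rintro _ ⟨j, rfl⟩
  have h1 : (M * P).transpose j = ∑ k, P k j • M.transpose k := by
    funext x
    rw [Finset.sum_apply]
    simp only [Matrix.transpose_apply, Matrix.mul_apply, Pi.smul_apply, smul_eq_mul]
    apply Finset.sum_congr rfl
    intro k _
    ring
  rw [h1]
  exact Submodule.sum_mem _ (fun k _ => Submodule.smul_mem _ _ (Submodule.subset_span ⟨k, rfl⟩))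

open W4bk4grassmannian in
/-- Injectivity of the Plücker map, in matrix form: let K be a field, A and A' two n × d matrices over K
with linearly independent columns, and suppose there is a nonzero scalar c with det A_θ = c · det
A'_θ for every strictly increasing d-tuple θ of row indices (A_θ the d × d submatrix on the rows θ).
Then the columns of A and of A' span the same subspace of K^n. (The published statement is over an
algebraically closed field; this row allows any field K.) -/
theorem result (K : Type u) [Field K] (d n : ℕ)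
    (A A' : Matrix (Fin n) (Fin d) K) (hA : LinearIndependent K A.transpose)
    (hA' : LinearIndependent K A'.transpose) (c : K) (hc : c ≠ 0)
    (h : ∀ θ : Idx d n, (A.submatrix θ.1 id).det = c * (A'.submatrix θ.1 id).det) :
    Submodule.span K (Set.range A.transpose) = Submodule.span K (Set.range A'.transpose) := by
  classical
  obtain ⟨θ0, hθ0⟩ := exists_minor_ne_zero A' hA'
  have hθ0A : (A.submatrix θ0.1 id).det ≠ 0 := by
    rw [h θ0]
    exact mul_ne_zero hc hθ0
  obtain ⟨G, hG⟩ : ∃ G : Matrix (Fin d) (Fin d) K, G = A.submatrix θ0.1 id := ⟨_, rfl⟩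
  obtain ⟨G', hG'⟩ : ∃ G' : Matrix (Fin d) (Fin d) K, G' = A'.submatrix θ0.1 id := ⟨_, rfl⟩
  have hGdet : G.det ≠ 0 := by rw [hG]; exact hθ0A
  have hG'det : G'.det ≠ 0 := by rw [hG']; exact hθ0
  have hGG' : G.det = c * G'.det := by rw [hG, hG']; exact h θ0
  have hGu : IsUnit G.det := isUnit_iff_ne_zero.mpr hGdet
  have hG'u : IsUnit G'.det := isUnit_iff_ne_zero.mpr hG'det
  have hminor : ∀ (M : Matrix (Fin n) (Fin d) K) (H : Matrix (Fin d) (Fin d) K)
      (b : Fin d → Fin n), ((M * H⁻¹).submatrix b id).det = (M.submatrix b id).det * H.det⁻¹ := by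
    intro M H b
    have h1 : (M * H⁻¹).submatrix b id = (M.submatrix b id) * H⁻¹ := by
      apply Matrix.ext
      intro i j
      simp only [Matrix.submatrix_apply, Matrix.mul_apply, id]
    rw [h1, Matrix.det_mul, Matrix.det_nonsing_inv, Ring.inverse_eq_inv']
  have hBθ : ∀ θ : Idx d n, ((A * G⁻¹).submatrix θ.1 id).det = ((A' * G'⁻¹).submatrix θ.1 id).det := by
    intro θ
    rw [hminor, hminor, h θ, hGG']
    field_simp
  have hBall : ∀ b : Fin d → Fin n,
      ((A * G⁻¹).submatrix b id).det = ((A' * G'⁻¹).submatrix b id).det := by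
    intro b
    rw [← Groth.Agent.H94.Plucker.eval_coord_minors (A * G⁻¹) b,
      ← Groth.Agent.H94.Plucker.eval_coord_minors (A' * G'⁻¹) b]
    have hfun : (fun θ : Idx d n => ((A * G⁻¹).submatrix θ.1 id).det) =
        fun θ : Idx d n => ((A' * G'⁻¹).submatrix θ.1 id).det := funext hBθ
    rw [hfun]
  have hB1 : (A * G⁻¹).submatrix θ0.1 id = 1 := by
    have h1 : (A * G⁻¹).submatrix θ0.1 id = G * G⁻¹ := by
      rw [hG]
      apply Matrix.ext
      intro i j
      simp only [Matrix.submatrix_apply, Matrix.mul_apply, id]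
    rw [h1, Matrix.mul_nonsing_inv G hGu]
  have hB1' : (A' * G'⁻¹).submatrix θ0.1 id = 1 := by
    have h1 : (A' * G'⁻¹).submatrix θ0.1 id = G' * G'⁻¹ := by
      rw [hG']
      apply Matrix.ext
      intro i j
      simp only [Matrix.submatrix_apply, Matrix.mul_apply, id]
    rw [h1, Matrix.mul_nonsing_inv G' hG'u]
  have hBB' : A * G⁻¹ = A' * G'⁻¹ := by
    apply Matrix.ext
    intro x l
    rw [← entry_eq_det_update (A * G⁻¹) θ0.1 hB1 l x, ← entry_eq_det_update (A' * G'⁻¹) θ0.1 hB1' l x,
      hBall]
  have hA1 : A = A' * (G'⁻¹ * G) := by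
    rw [← Matrix.mul_assoc, ← hBB', Matrix.mul_assoc, Matrix.nonsing_inv_mul G hGu, Matrix.mul_one]
  have hA2 : A' = A * (G⁻¹ * G') := by
    rw [← Matrix.mul_assoc, hBB', Matrix.mul_assoc, Matrix.nonsing_inv_mul G' hG'u, Matrix.mul_one]
  apply le_antisymm
  · rw [hA1]
    exact span_cols_mul_le A' _
  · rw [hA2]
    exact span_cols_mul_le A _

end Groth.Agent.S11249
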