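import Groth.Statements.S1125
import Groth.Agent.S1124

set_option autoImplicit false
open CategoryTheory CategoryTheory.Limits AlgebraicGeometry Opposite
universe u
open Desc

namespace Groth.Agent.S1125

section aux
open TopologicalSpace MorphismProperty
open Groth.Agent.S1124

/-- closed immersions descend along fpqc morphisms -/
lemma closedImmersion_descends :
    MorphismProperty.DescendsAlong (@IsClosedImmersion : MorphismProperty Scheme.{u})
      (@Surjective ⊓ @Flat ⊓ @QuasiCompact : MorphismProperty Scheme.{u}) := by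
  constructor
  intro A X' Y X fst snd f g sq hf hfst
  obtain ⟨⟨hsurj, hflat⟩, hqc⟩ := hf
  have hsurj' : Surjective f := hsurj
  have hflat' : Flat f := hflat
  have hqc' : QuasiCompact f := hqc
  have hci : IsClosedImmersion fst := hfst
  have := Groth.Agent.S1124.main.{u}
  have hP : (@IsImmersion ⊓ @QuasiCompact : MorphismProperty Scheme.{u}) g :=
    MorphismProperty.of_isPullback_of_descendsAlong
      (P := (@IsImmersion ⊓ @QuasiCompact : MorphismProperty Scheme.{u}))
      (Q := (@Surjective ⊓ @Flat ⊓ @QuasiCompact : MorphismProperty Scheme.{u})) sq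
      ⟨⟨hsurj, hflat⟩, hqc⟩ ⟨inferInstance, inferInstance⟩
  have himm : IsImmersion g := hP.1
  have hcl : IsClosed (Set.range g) := by
    have h1 : IsClosed (Set.range fst) := fst.isClosedEmbedding.isClosed_range
    rw [range_fst_eq sq] at h1
    exact (Flat.isQuotientMap_of_surjective f).isClosed_preimage.mp h1
  exact IsClosedImmersion.of_isPreimmersion g hcl

lemma main :
    MorphismProperty.DescendsAlong (@IsImmersion : MorphismProperty Scheme.{u})
      (@Surjective ⊓ @Flat ⊓ @LocallyOfFinitePresentation : MorphismProperty Scheme.{u}) := by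
  constructor
  intro A X' Y X fst snd f g sq hf hfst
  obtain ⟨⟨hsurj, hflat⟩, hlfp⟩ := hf
  have hsurj' : Surjective f := hsurj
  have hflat' : Flat f := hflat
  have hlfp' : LocallyOfFinitePresentation f := hlfp
  have himm : IsImmersion fst := hfst
  have hopenmap : IsOpenMap f := f.isOpenMap
  have hlc : IsLocallyClosed (f ⁻¹' Set.range g) := by
    rw [← range_fst_eq sq]; exact fst.isLocallyClosed_range
  have hopen : IsOpen (coborder (Set.range g)) := by
    have h1 : IsOpen (f ⁻¹' coborder (Set.range g)) := by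
      rw [← coborder_preimage hopenmap f.continuous]
      exact hlc.isOpen_coborder
    have h2 : f '' (f ⁻¹' coborder (Set.range g)) = coborder (Set.range g) :=
      Set.image_preimage_eq _ f.surjective
    rw [← h2]
    exact hopenmap _ h1
  obtain ⟨U, hU⟩ : ∃ U : X.Opens, (U : Set X) = coborder (Set.range g) := ⟨⟨_, hopen⟩, rfl⟩
  have hgU : Set.range g ⊆ Set.range U.ι := by
    rw [Scheme.Opens.range_ι, hU]; exact subset_coborder
  obtain ⟨gU, hgU'⟩ : ∃ gU : Y ⟶ U.toScheme, gU ≫ U.ι = g :=
    ⟨IsOpenImmersion.lift U.ι g hgU, IsOpenImmersion.lift_fac _ _ _⟩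
  have hfstU : Set.range fst ⊆ Set.range (f ⁻¹ᵁ U).ι := by
    rw [Scheme.Opens.range_ι]
    rintro _ ⟨a, rfl⟩
    show f (fst a) ∈ (U : Set X)
    have e : f (fst a) = g (snd a) := by
      rw [← Scheme.Hom.comp_apply, ← Scheme.Hom.comp_apply, sq.w]
    rw [e, hU]
    exact subset_coborder ⟨snd a, rfl⟩
  obtain ⟨fstU, hfstU'⟩ : ∃ fstU : A ⟶ (f ⁻¹ᵁ U).toScheme, fstU ≫ (f ⁻¹ᵁ U).ι = fst :=
    ⟨IsOpenImmersion.lift _ fst hfstU, IsOpenImmersion.lift_fac _ _ _⟩
  have hp : fstU ≫ (f ∣_ U) = snd ≫ gU := by
    rw [← cancel_mono U.ι, Category.assoc, Category.assoc, morphismRestrict_ι, hgU',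
      ← Category.assoc, hfstU', sq.w]
  have big : IsPullback (fstU ≫ (f ⁻¹ᵁ U).ι) snd f (gU ≫ U.ι) := by
    rw [hfstU', hgU']; exact sq
  have sqU : IsPullback fstU snd (f ∣_ U) gU :=
    IsPullback.of_right big hp (isPullback_morphismRestrict f U).flip
  have hfstUimm : IsImmersion fstU := by
    have : IsImmersion (fstU ≫ (f ⁻¹ᵁ U).ι) := by rw [hfstU']; exact himm
    exact IsImmersion.of_comp fstU (f ⁻¹ᵁ U).ι
  have hrange : Set.range fstU = ((f ⁻¹ᵁ U).ι ≫ f) ⁻¹' closure (Set.range g) := by
    ext z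
    constructor
    · rintro ⟨a, rfl⟩
      show ((f ⁻¹ᵁ U).ι ≫ f) (fstU a) ∈ closure (Set.range g)
      have e : ((f ⁻¹ᵁ U).ι ≫ f) (fstU a) = g (snd a) := by
        rw [← Scheme.Hom.comp_apply, ← Category.assoc, hfstU', sq.w, Scheme.Hom.comp_apply]
      rw [e]
      exact subset_closure ⟨snd a, rfl⟩
    · intro hz
      have hz1 : f ((f ⁻¹ᵁ U).ι z) ∈ closure (Set.range g) := by
        rw [← Scheme.Hom.comp_apply]; exact hz
      have hz0 : (f ⁻¹ᵁ U).ι z ∈ ((f ⁻¹ᵁ U : X'.Opens) : Set X') := by
        rw [← Scheme.Opens.range_ι]; exact ⟨z, rfl⟩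
      have hz2 : f ((f ⁻¹ᵁ U).ι z) ∈ (U : Set X) := hz0
      rw [hU] at hz2
      have hz3 : f ((f ⁻¹ᵁ U).ι z) ∈ Set.range g := by
        rw [← closure_inter_coborder (s := Set.range g)]; exact ⟨hz1, hz2⟩
      obtain ⟨y, hy⟩ := hz3
      obtain ⟨a, ha, -⟩ := Scheme.exists_preimage_of_isPullback sq ((f ⁻¹ᵁ U).ι z) y hy.symm
      refine ⟨a, (f ⁻¹ᵁ U).ι.isOpenEmbedding.injective ?_⟩
      rw [← Scheme.Hom.comp_apply, hfstU', ha]
  have hfstUcl : IsClosedImmersion fstU := by
    refine IsClosedImmersion.of_isPreimmersion fstU ?_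
    rw [hrange]
    exact isClosed_closure.preimage ((f ⁻¹ᵁ U).ι ≫ f).continuous
  have := closedImmersion_descends.{u}
  have hQ : (@Surjective ⊓ @Flat ⊓ @LocallyOfFinitePresentation : MorphismProperty Scheme.{u})
      (f ∣_ U) :=
    ⟨⟨IsZariskiLocalAtTarget.restrict (P := @Surjective) hsurj' U,
      IsZariskiLocalAtTarget.restrict (P := @Flat) hflat' U⟩,
      IsZariskiLocalAtTarget.restrict (P := @LocallyOfFinitePresentation) hlfp' U⟩
  have hgUcl : IsClosedImmersion gU :=
    MorphismProperty.of_isPullback_of_descendsAlong (P := @IsClosedImmersion)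
      (Q := (@Surjective ⊓ @Flat ⊓ @LocallyOfFinitePresentation : MorphismProperty Scheme.{u}))
      sqU hQ hfstUcl
  show IsImmersion g
  rw [← hgU']
  infer_instance

end aux

/-- If the base change of a morphism along a flat, surjective morphism locally of finite presentation is
an immersion, then the morphism is an immersion. (Single-cover form of the fppf-local statement;
Zariski-locality on the target gives the covering form.) -/
theorem result :
    MorphismProperty.DescendsAlong (@IsImmersion : MorphismProperty Scheme.{u})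
      (@Surjective ⊓ @Flat ⊓ @LocallyOfFinitePresentation : MorphismProperty Scheme.{u}) := by
  exact main

end Groth.Agent.S1125
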