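import Groth.Statements.S11253
import Groth.Agent.H85.PlIndep

set_option autoImplicit false
universe u
open W4bk4grassmannian

namespace Groth.Agent.S11253
open W4bk4grassmannian in
/-- Intersections of Schubert varieties are reduced: let K be an algebraically closed field, 0 < d < n,
and I(d,n) the strictly increasing maps Fin d → Fin n ordered entrywise; S = K[X_θ : θ ∈ I(d,n)] is
the Plücker polynomial ring and, for τ ∈ I(d,n), J(τ) ⊆ S is the ideal of polynomials vanishing at
the d × d row-minors of every n × d matrix over K whose minors on rows φ ≰ τ are zero (the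
homogeneous ideal of the Schubert variety X(τ) ⊆ G(d,n)). Then for all w₁, w₂ ∈ I(d,n) the ideal
J(w₁) + J(w₂) of S is radical. -/
theorem result (K : Type u) [Field K] [IsAlgClosed K] (d n : ℕ)
    (hd : 0 < d) (hdn : d < n) (w₁ w₂ : Idx d n) :
    (schubertVanishing K d n w₁ ⊔ schubertVanishing K d n w₂).IsRadical := by
  open Groth.Agent.H85.Pl in
  have h := master (K := K) hd (fun _ : Unit => W4bk4grassmannian.inf w₁ w₂)
    (schubertVanishing K d n w₁ ⊔ schubertVanishing K d n w₂) ?_ ?_ ?_
  · rw [h, iInf_const]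
    -- J(τ) is radical
    intro f hf
    obtain ⟨k, hk⟩ := hf
    rw [Groth.Agent.H85.Pl.mem_schubertVanishing_iff] at hk ⊢
    intro A hA
    have := hk A hA
    rw [map_pow] at this
    exact eq_zero_of_pow_eq_zero this
  · exact le_trans (Groth.Agent.H85.Pl.plIdealTop_le_schubertVanishing w₁) le_sup_left
  · rw [iInf_const]
    apply sup_le
    · exact Groth.Agent.H85.Pl.schubertVanishing_anti (fun t => min_le_left _ _)
    · exact Groth.Agent.H85.Pl.schubertVanishing_anti (fun t => min_le_right _ _)
  · intro m c _ hnot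
    have hi : ¬ ∀ k, c k ≤ W4bk4grassmannian.inf w₁ w₂ := fun h => hnot ⟨(), h⟩
    push Not at hi
    obtain ⟨k, hk⟩ := hi
    apply Groth.Agent.H85.Pl.chainMon_mem_of_X_mem _ c k
    by_cases h1 : c k ≤ w₁
    · have h2 : ¬ c k ≤ w₂ := fun h2 => hk (fun t => le_min (h1 t) (h2 t))
      exact Ideal.mem_sup_right (Groth.Agent.H85.Pl.X_mem_schubertVanishing w₂ (c k) h2)
    · exact Ideal.mem_sup_left (Groth.Agent.H85.Pl.X_mem_schubertVanishing w₁ (c k) h1)

end Groth.Agent.S11253
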