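import Groth.Statements.S11257
import Mathlib.RingTheory.Regular.RegularSequence
import Mathlib.Tactic

set_option autoImplicit false
universe u
open W4bk4grassmannian

namespace Groth.Agent.S11257


section DepthLemma
open RingTheory.Sequence Function

universe v w x
variable {R : Type u} [CommRing R]

/-- reduction modulo an element regular on the cokernel preserves injectivity -/
theorem quot_map_injective {M' : Type v} {M : Type w} {M'' : Type x}
    [AddCommGroup M'] [Module R M'] [AddCommGroup M] [Module R M]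
    [AddCommGroup M''] [Module R M''] {φ : M' →ₗ[R] M} {γ : M →ₗ[R] M''}
    (hφ : Injective φ) (hex : Exact φ γ) {r : R} (hr : IsSMulRegular M'' r) :
    Injective (QuotSMulTop.map r φ) := by
  have h0 : Exact (0 : M' →ₗ[R] M') φ := (LinearMap.exact_zero_iff_injective M' φ).mpr hφ
  have h1 := QuotSMulTop.map_first_exact_on_four_term_exact_of_isSMulRegular_last h0 hex hr
  rw [map_zero] at h1
  exact (LinearMap.exact_zero_iff_injective _ _).mp h1

/-- depth lemma for weakly regular sequences: kernel of a surjection -/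
theorem weaklyRegular_sub (rs : List R) :
    ∀ (M' : Type v) (M : Type w) (M'' : Type x)
      [AddCommGroup M'] [Module R M'] [AddCommGroup M] [Module R M]
      [AddCommGroup M''] [Module R M''] (φ : M' →ₗ[R] M) (γ : M →ₗ[R] M''),
      Injective φ → Exact φ γ → Surjective γ → IsWeaklyRegular M rs →
      IsWeaklyRegular M'' (rs.take (rs.length - 1)) → IsWeaklyRegular M' rs := by
  induction rs with
  | nil =>
    intro M' M M'' _ _ _ _ _ _ φ γ _ _ _ _ _
    exact IsWeaklyRegular.nil R M'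
  | cons r rs ih =>
    intro M' M M'' _ _ _ _ _ _ φ γ hφ hex hγ hM hM''
    rw [isWeaklyRegular_cons_iff] at hM ⊢
    refine ⟨hM.1.of_injective φ hφ, ?_⟩
    cases rs with
    | nil => exact IsWeaklyRegular.nil R _
    | cons s rs' =>
      have hlen : (r :: s :: rs').length - 1 = ((s :: rs').length - 1) + 1 := by simp
      rw [hlen, List.take_succ_cons, isWeaklyRegular_cons_iff] at hM''
      exact ih _ _ _ (QuotSMulTop.map r φ) (QuotSMulTop.map r γ)
        (quot_map_injective hφ hex hM''.1) (QuotSMulTop.map_exact r hex hγ)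
        (QuotSMulTop.map_surjective r hγ) hM.2 hM''.2

/-- weakly regular sequences are stable under extensions -/
theorem weaklyRegular_ext (rs : List R) :
    ∀ (M' : Type v) (M : Type w) (M'' : Type x)
      [AddCommGroup M'] [Module R M'] [AddCommGroup M] [Module R M]
      [AddCommGroup M''] [Module R M''] (φ : M' →ₗ[R] M) (γ : M →ₗ[R] M''),
      Injective φ → Exact φ γ → Surjective γ → IsWeaklyRegular M' rs →
      IsWeaklyRegular M'' rs → IsWeaklyRegular M rs := by
  induction rs with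
  | nil =>
    intro M' M M'' _ _ _ _ _ _ φ γ _ _ _ _ _
    exact IsWeaklyRegular.nil R M
  | cons r rs ih =>
    intro M' M M'' _ _ _ _ _ _ φ γ hφ hex hγ hM' hM''
    rw [isWeaklyRegular_cons_iff] at hM' hM'' ⊢
    refine ⟨isSMulRegular_of_range_eq_ker hφ (LinearMap.exact_iff.mp hex).symm hM'.1 hM''.1, ?_⟩
    exact ih _ _ _ (QuotSMulTop.map r φ) (QuotSMulTop.map r γ)
      (quot_map_injective hφ hex hM''.1) (QuotSMulTop.map_exact r hex hγ)
      (QuotSMulTop.map_surjective r hγ) hM'.2 hM''.2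

theorem weaklyRegular_prod (rs : List R) (M : Type v) (N : Type w)
    [AddCommGroup M] [Module R M] [AddCommGroup N] [Module R N]
    (hM : IsWeaklyRegular M rs) (hN : IsWeaklyRegular N rs) : IsWeaklyRegular (M × N) rs := by
  refine weaklyRegular_ext rs M (M × N) N (LinearMap.inl R M N) (LinearMap.snd R M N)
    LinearMap.inl_injective ?_ LinearMap.snd_surjective hM hN
  intro y
  constructor
  · intro h
    exact ⟨y.1, Prod.ext rfl h.symm⟩
  · rintro ⟨m, rfl⟩
    rfl

end DepthLemma

/-- Let A be a Noetherian local integral domain with maximal ideal m, I and J ideals of A, d ≥ 1, and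
f_1, …, f_d ∈ m. Assume depth A/(I+J) ≥ d - 1, depth A/I ≥ d and depth A/J ≥ d (depths of the
quotients as A-modules), that f_1, …, f_d is a regular sequence on A/I and on A/J, and that f_1, …,
f_{d-1} is a regular sequence on A/(I+J). Then f_1, …, f_d is a regular sequence on A/(I ∩ J). -/
theorem result (A : Type u) [CommRing A] [IsDomain A]
    [IsNoetherianRing A] [IsLocalRing A] (I J : Ideal A) (d : ℕ) (hd : 0 < d) (f : Fin d → A)
    (hf : ∀ k, f k ∈ IsLocalRing.maximalIdeal A)
    (hIJd : ((d - 1 : ℕ) : ℕ∞) ≤ LocCoh.depth A (A ⧸ (I ⊔ J)))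
    (hId : (d : ℕ∞) ≤ LocCoh.depth A (A ⧸ I)) (hJd : (d : ℕ∞) ≤ LocCoh.depth A (A ⧸ J))
    (hI : RingTheory.Sequence.IsRegular (A ⧸ I) (List.ofFn f))
    (hJ : RingTheory.Sequence.IsRegular (A ⧸ J) (List.ofFn f))
    (hIJ : RingTheory.Sequence.IsRegular (A ⧸ (I ⊔ J)) ((List.ofFn f).take (d - 1))) :
    RingTheory.Sequence.IsRegular (A ⧸ (I ⊓ J)) (List.ofFn f) := by
  classical
  let φ : (A ⧸ (I ⊓ J)) →ₗ[A] (A ⧸ I) × (A ⧸ J) :=
    LinearMap.prod (Ideal.Quotient.factorₐ A (inf_le_left : I ⊓ J ≤ I)).toLinearMap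
      (Ideal.Quotient.factorₐ A (inf_le_right : I ⊓ J ≤ J)).toLinearMap
  let γ : (A ⧸ I) × (A ⧸ J) →ₗ[A] (A ⧸ (I ⊔ J)) :=
    (Ideal.Quotient.factorₐ A (le_sup_left : I ≤ I ⊔ J)).toLinearMap ∘ₗ LinearMap.fst A _ _ -
      (Ideal.Quotient.factorₐ A (le_sup_right : J ≤ I ⊔ J)).toLinearMap ∘ₗ LinearMap.snd A _ _
  have hφ : ∀ a : A, φ (Ideal.Quotient.mk (I ⊓ J) a) =
      (Ideal.Quotient.mk I a, Ideal.Quotient.mk J a) := fun a => rfl
  have hγ : ∀ a b : A, γ (Ideal.Quotient.mk I a, Ideal.Quotient.mk J b) =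
      Ideal.Quotient.mk (I ⊔ J) (a - b) := by
    intro a b
    rw [map_sub]
    rfl
  have hinj : Function.Injective φ := by
    rw [injective_iff_map_eq_zero]
    intro x hx
    obtain ⟨a, rfl⟩ := Ideal.Quotient.mk_surjective x
    rw [hφ, Prod.mk_eq_zero] at hx
    exact Ideal.Quotient.eq_zero_iff_mem.mpr (Submodule.mem_inf.mpr
      ⟨Ideal.Quotient.eq_zero_iff_mem.mp hx.1, Ideal.Quotient.eq_zero_iff_mem.mp hx.2⟩)
  have hex : Function.Exact φ γ := by
    intro y
    obtain ⟨y1, y2⟩ := y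
    obtain ⟨a, rfl⟩ := Ideal.Quotient.mk_surjective y1
    obtain ⟨b, rfl⟩ := Ideal.Quotient.mk_surjective y2
    rw [hγ, Ideal.Quotient.eq_zero_iff_mem]
    constructor
    · intro h
      obtain ⟨i, hi, j, hj, hij⟩ := Submodule.mem_sup.mp h
      refine ⟨Ideal.Quotient.mk _ (a - i), ?_⟩
      rw [hφ]
      refine Prod.ext ?_ ?_
      · refine Ideal.Quotient.eq.mpr ?_
        have : a - i - a = -i := by ring
        rw [this]
        exact I.neg_mem hi
      · refine Ideal.Quotient.eq.mpr ?_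
        have : a - i - b = j := by linear_combination (-1 : A) * hij
        rw [this]
        exact hj
    · rintro ⟨x, hx⟩
      obtain ⟨c, rfl⟩ := Ideal.Quotient.mk_surjective x
      rw [hφ, Prod.mk.injEq] at hx
      have h1 := Ideal.Quotient.eq.mp hx.1
      have h2 := Ideal.Quotient.eq.mp hx.2
      have : a - b = -(c - a) + (c - b) := by ring
      rw [this]
      exact Submodule.add_mem_sup (I.neg_mem h1) h2
  have hsurj : Function.Surjective γ := by
    intro z
    obtain ⟨a, rfl⟩ := Ideal.Quotient.mk_surjective z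
    exact ⟨(Ideal.Quotient.mk I a, Ideal.Quotient.mk J 0), by rw [hγ, sub_zero]⟩
  have hprod : RingTheory.Sequence.IsWeaklyRegular ((A ⧸ I) × (A ⧸ J)) (List.ofFn f) :=
    weaklyRegular_prod _ _ _ hI.toIsWeaklyRegular hJ.toIsWeaklyRegular
  have hIJ' : RingTheory.Sequence.IsWeaklyRegular (A ⧸ (I ⊔ J))
      ((List.ofFn f).take ((List.ofFn f).length - 1)) := by
    rw [List.length_ofFn]
    exact hIJ.toIsWeaklyRegular
  have hw : RingTheory.Sequence.IsWeaklyRegular (A ⧸ (I ⊓ J)) (List.ofFn f) :=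
    weaklyRegular_sub _ _ _ _ φ γ hinj hex hsurj hprod hIJ'
  have hnI : Nontrivial (A ⧸ I) := hI.nontrivial
  have hnt : Nontrivial (A ⧸ (I ⊓ J)) := by
    rw [Ideal.Quotient.nontrivial_iff] at hnI ⊢
    intro h
    exact hnI (top_le_iff.mp (h ▸ inf_le_left))
  refine (IsLocalRing.isRegular_iff_isWeaklyRegular_of_subset_maximalIdeal ?_).mpr hw
  intro r hr
  obtain ⟨k, rfl⟩ := List.mem_ofFn.mp hr
  exact hf k

end Groth.Agent.S11257
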