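import Groth.Statements.S1126
import Mathlib.AlgebraicGeometry.Morphisms.FlatDescent

set_option autoImplicit false
open CategoryTheory CategoryTheory.Limits AlgebraicGeometry Opposite
universe u
open Desc

namespace Groth.Agent.S1126

lemma isUnivHomeo_eq : FlatMor.IsUnivHomeo.{u} =
    (@UniversallyOpen ⊓ @UniversallyInjective ⊓ @Surjective : MorphismProperty Scheme.{u}) := by
  ext X Y f
  constructor
  · intro h
    refine ⟨⟨⟨?_⟩, ⟨?_⟩⟩, ⟨?_⟩⟩
    · intro X' Y' i₁ i₂ f' H
      exact (h i₁ i₂ f' H).isOpenMap
    · intro X' Y' i₁ i₂ f' H
      exact (h i₁ i₂ f' H).injective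
    · exact (MorphismProperty.universally_le _ _ h).surjective
  · rintro ⟨⟨h1, h2⟩, h3⟩ X' Y' i₁ i₂ f' H
    have h4 : Surjective f' := MorphismProperty.of_isPullback H.flip h3
    exact ⟨f'.continuous, h1.1 _ _ _ H, h2.1 _ _ _ H, h4.surj⟩

/-- If the base change of a morphism along a quasi-compact flat surjective morphism to its target is a
universal homeomorphism, then the morphism is a universal homeomorphism. (Stated for a single
quasi-compact flat surjective base change; combined with Zariski-locality on the target this gives
the fpqc-local form.) -/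
theorem result :
    MorphismProperty.DescendsAlong (FlatMor.IsUnivHomeo.{u})
      (@Surjective ⊓ @Flat ⊓ @QuasiCompact : MorphismProperty Scheme.{u}) := by
  rw [isUnivHomeo_eq]
  infer_instance

end Groth.Agent.S1126
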