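import Groth.Statements.S11262
import Mathlib

set_option autoImplicit false
universe u v
open W4bk4grassmannian

namespace Groth.Agent.S11262

/-- the support of `d` is a chain -/
def chainSupp {L : Type*} [LE L] (d : L →₀ ℕ) : Prop :=
  IsChain (fun a b : L => a ≤ b) (↑d.support : Set L)


/-- Hilbert function of the Stanley–Reisner ring of a finite distributive lattice: let K be a field, L a
finite distributive lattice, R = K[x_α : α ∈ L], I ⊆ R the ideal generated by the products x_α x_β
over the incomparable (skew) pairs α, β, and m ≥ 1. Then the image in R/I of the homogeneous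
polynomials of degree m has K-dimension equal to the sum, over the nonempty chains C ⊆ L, of the
binomial coefficient (m - 1 choose |C| - 1). (The published statement is that the degree of R/I
equals the number of maximal chains of L; this row states the Hilbert function from which that
degree is read off.) -/
theorem result (K : Type u) [Field K] (L : Type v) [DistribLattice L]
    [Fintype L] (m : ℕ) (hm : 1 ≤ m) :
    Module.finrank K ((MvPolynomial.homogeneousSubmodule L K m).map
        (Ideal.Quotient.mkₐ K (Ideal.span {f : MvPolynomial L K | ∃ a b : L, ¬ a ≤ b ∧ ¬ b ≤ a ∧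
          f = MvPolynomial.X a * MvPolynomial.X b})).toLinearMap) =
      ∑ᶠ C : {C : Finset L // C.Nonempty ∧ IsChain (fun a b : L => a ≤ b) (↑C : Set L)},
        Nat.choose (m - 1) (C.1.card - 1) := by
  classical
  obtain ⟨I, hI⟩ : ∃ I : Ideal (MvPolynomial L K), I = Ideal.span {f : MvPolynomial L K |
      ∃ a b : L, ¬ a ≤ b ∧ ¬ b ≤ a ∧ f = MvPolynomial.X a * MvPolynomial.X b} := ⟨_, rfl⟩
  rw [← hI]
  obtain ⟨π, hπ⟩ : ∃ π : MvPolynomial L K →ₗ[K] (MvPolynomial L K ⧸ I),
      π = (Ideal.Quotient.mkₐ K I).toLinearMap := ⟨_, rfl⟩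
  rw [← hπ]
  have hπ0 : ∀ q : MvPolynomial L K, π q = 0 ↔ q ∈ I := by
    intro q
    rw [hπ]
    exact Ideal.Quotient.eq_zero_iff_mem
  -- Step 1: elements of I have no chain-supported monomials
  have hI1 : ∀ f ∈ I, ∀ d : L →₀ ℕ, chainSupp d → MvPolynomial.coeff d f = 0 := by
    intro f hf
    rw [hI] at hf
    refine Submodule.span_induction
      (p := fun f _ => ∀ d : L →₀ ℕ, chainSupp d → MvPolynomial.coeff d f = 0) ?_ ?_ ?_ ?_ hf
    · rintro x ⟨a, b, hab, hba, rfl⟩ d hd
      have hne : a ≠ b := fun h => hab (le_of_eq h)
      have hXX : (MvPolynomial.X a * MvPolynomial.X b : MvPolynomial L K) =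
          MvPolynomial.monomial (Finsupp.single a 1 + Finsupp.single b 1) 1 := by
        show (MvPolynomial.monomial (Finsupp.single a 1) 1 *
          MvPolynomial.monomial (Finsupp.single b 1) 1 : MvPolynomial L K) = _
        rw [MvPolynomial.monomial_mul, one_mul]
      rw [hXX, MvPolynomial.coeff_monomial, if_neg]
      intro he
      have ha : a ∈ (↑d.support : Set L) := by
        rw [Finset.mem_coe, Finsupp.mem_support_iff, ← he, Finsupp.add_apply,
          Finsupp.single_eq_same]
        omega
      have hb : b ∈ (↑d.support : Set L) := by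
        rw [Finset.mem_coe, Finsupp.mem_support_iff, ← he, Finsupp.add_apply,
          Finsupp.single_eq_same]
        omega
      rcases hd ha hb hne with h | h
      · exact hab h
      · exact hba h
    · intro d _
      exact MvPolynomial.coeff_zero d
    · intro x y _ _ hx hy d hd
      rw [MvPolynomial.coeff_add, hx d hd, hy d hd, add_zero]
    · intro r x _ hx d hd
      rw [smul_eq_mul, MvPolynomial.coeff_mul]
      apply Finset.sum_eq_zero
      intro p hp
      have hp' : p.1 + p.2 = d := by simpa using hp
      have hp2 : p.2 ≤ d := by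
        rw [← hp']
        exact le_add_self
      have hch : chainSupp p.2 :=
        IsChain.mono (Finset.coe_subset.mpr (Finsupp.support_mono hp2)) hd
      rw [hx p.2 hch, mul_zero]
  -- Step 2: monomials with non-chain support lie in I
  have hI2 : ∀ d : L →₀ ℕ, ¬ chainSupp d → ∀ c : K, MvPolynomial.monomial d c ∈ I := by
    intro d hd c
    by_contra hmem
    apply hd
    intro a ha b hb hab
    by_contra hnab
    apply hmem
    have hnab' : ¬ a ≤ b ∧ ¬ b ≤ a := by
      constructor
      · intro h
        exact hnab (Or.inl h)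
      · intro h
        exact hnab (Or.inr h)
    have ha' : d a ≠ 0 := Finsupp.mem_support_iff.mp (Finset.mem_coe.mp ha)
    have hb' : d b ≠ 0 := Finsupp.mem_support_iff.mp (Finset.mem_coe.mp hb)
    have h1 : Finsupp.single a 1 ≤ d :=
      Finsupp.single_le_iff.mpr (Nat.one_le_iff_ne_zero.mpr ha')
    obtain ⟨d1, hd1⟩ : ∃ d1, d = d1 + Finsupp.single a 1 :=
      ⟨d - Finsupp.single a 1, (tsub_add_cancel_of_le h1).symm⟩
    have hd1b : d1 b ≠ 0 := by
      have h3 := DFunLike.congr_fun hd1 b
      rw [Finsupp.add_apply, Finsupp.single_apply, if_neg hab] at h3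
      omega
    have h2 : Finsupp.single b 1 ≤ d1 :=
      Finsupp.single_le_iff.mpr (Nat.one_le_iff_ne_zero.mpr hd1b)
    obtain ⟨d2, hd2⟩ : ∃ d2, d1 = d2 + Finsupp.single b 1 :=
      ⟨d1 - Finsupp.single b 1, (tsub_add_cancel_of_le h2).symm⟩
    rw [hd1, hd2, MvPolynomial.monomial_add_single, MvPolynomial.monomial_add_single, pow_one,
      pow_one, mul_assoc, mul_comm (MvPolynomial.X b : MvPolynomial L K) (MvPolynomial.X a)]
    refine Ideal.mul_mem_left I _ ?_
    rw [hI]
    exact Ideal.subset_span ⟨a, b, hnab'.1, hnab'.2, rfl⟩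
  -- the finite set of chain-supported exponents of degree m
  obtain ⟨Dc, hDc⟩ : ∃ Dc : Finset (L →₀ ℕ), ∀ d, d ∈ Dc ↔ (d.degree = m ∧ chainSupp d) := by
    refine ⟨(Finset.univ.finsuppAntidiag m).filter (fun d => chainSupp d), fun d => ?_⟩
    rw [Finset.mem_filter, Finset.mem_finsuppAntidiag, Finsupp.degree_eq_sum]
    constructor
    · rintro ⟨⟨h1, _⟩, h2⟩
      exact ⟨h1, h2⟩
    · rintro ⟨h1, h2⟩
      exact ⟨⟨h1, Finset.subset_univ _⟩, h2⟩
  obtain ⟨T, hTdef⟩ : ∃ T : Submodule K (MvPolynomial L K),
      T = MvPolynomial.restrictSupport K (↑Dc : Set (L →₀ ℕ)) := ⟨_, rfl⟩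
  have hTmem : ∀ f : MvPolynomial L K, f ∈ T →
      ∀ d, MvPolynomial.coeff d f ≠ 0 → d ∈ Dc := by
    intro f hf d hd
    rw [hTdef, MvPolynomial.mem_restrictSupport_iff] at hf
    exact Finset.mem_coe.mp (hf (Finset.mem_coe.mpr (MvPolynomial.mem_support_iff.mpr hd)))
  have hS : MvPolynomial.homogeneousSubmodule L K m =
      MvPolynomial.restrictSupport K {d : L →₀ ℕ | d.degree = m} := by
    rw [MvPolynomial.homogeneousSubmodule_eq_finsupp_supported]
    rfl
  have hSmem : ∀ f : MvPolynomial L K, f ∈ MvPolynomial.homogeneousSubmodule L K m →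
      ∀ d, MvPolynomial.coeff d f ≠ 0 → d.degree = m := by
    intro f hf d hd
    rw [hS, MvPolynomial.mem_restrictSupport_iff] at hf
    exact hf (Finset.mem_coe.mpr (MvPolynomial.mem_support_iff.mpr hd))
  have hTle : T ≤ MvPolynomial.homogeneousSubmodule L K m := by
    rw [hS, hTdef]
    exact MvPolynomial.restrictSupport_mono K
      (fun d hd => ((hDc d).mp (Finset.mem_coe.mp hd)).1)
  have hT : Module.finrank K T = Dc.card := by
    rw [hTdef, Module.finrank_eq_nat_card_basis
      (MvPolynomial.basisRestrictSupport K (↑Dc : Set (L →₀ ℕ))), Nat.card_coe_set_eq,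
      Set.ncard_coe_finset]
  have hinj : Function.Injective (π.domRestrict T) := by
    rw [injective_iff_map_eq_zero]
    intro f hf
    have h1 : π (f : MvPolynomial L K) = 0 := hf
    have h2 : (f : MvPolynomial L K) ∈ I := (hπ0 _).mp h1
    apply Subtype.ext
    show (f : MvPolynomial L K) = 0
    ext d
    rw [MvPolynomial.coeff_zero]
    by_contra hne
    have hd : d ∈ Dc := hTmem _ f.2 d hne
    exact hne (hI1 _ h2 d ((hDc d).mp hd).2)
  have hmap : Submodule.map π (MvPolynomial.homogeneousSubmodule L K m) =
      LinearMap.range (π.domRestrict T) := by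
    rw [LinearMap.range_domRestrict]
    apply le_antisymm
    · intro x hx
      obtain ⟨f, hf, rfl⟩ := Submodule.mem_map.mp hx
      have hf' : ∀ d, MvPolynomial.coeff d f ≠ 0 → d.degree = m := hSmem f hf
      obtain ⟨fc, hfc⟩ : ∃ fc : MvPolynomial L K, fc = ∑ d ∈ f.support.filter (fun d => chainSupp d),
          MvPolynomial.monomial d (MvPolynomial.coeff d f) := ⟨_, rfl⟩
      obtain ⟨fn, hfn⟩ : ∃ fn : MvPolynomial L K, fn = ∑ d ∈ f.support.filter (fun d => ¬ chainSupp d),
          MvPolynomial.monomial d (MvPolynomial.coeff d f) := ⟨_, rfl⟩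
      have hsplit : f = fc + fn := by
        rw [hfc, hfn, Finset.sum_filter_add_sum_filter_not]
        exact (MvPolynomial.support_sum_monomial_coeff f).symm
      have hfcT : fc ∈ T := by
        rw [hfc, hTdef]
        apply Submodule.sum_mem
        intro d hd
        rw [Finset.mem_filter] at hd
        exact (MvPolynomial.monomial_mem_restrictSupport K).mpr (Or.inl (Finset.mem_coe.mpr
          ((hDc d).mpr ⟨hf' d (MvPolynomial.mem_support_iff.mp hd.1), hd.2⟩)))
      have hfnI : fn ∈ I := by
        rw [hfn]
        apply Ideal.sum_mem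
        intro d hd
        rw [Finset.mem_filter] at hd
        exact hI2 d hd.2 _
      refine Submodule.mem_map.mpr ⟨fc, hfcT, ?_⟩
      rw [hsplit, map_add, (hπ0 fn).mpr hfnI, add_zero]
    · exact Submodule.map_mono hTle
  -- the finite set of nonempty chains
  obtain ⟨Ch, hCh⟩ : ∃ Ch : Finset (Finset L), ∀ C, C ∈ Ch ↔
      (C.Nonempty ∧ IsChain (fun a b : L => a ≤ b) (↑C : Set L)) :=
    ⟨Finset.univ.filter (fun C => C.Nonempty ∧ IsChain (fun a b : L => a ≤ b) (↑C : Set L)),
      fun C => by rw [Finset.mem_filter]; exact ⟨fun h => h.2, fun h => ⟨Finset.mem_univ _, h⟩⟩⟩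
  have hsum : (∑ᶠ C : {C : Finset L // C.Nonempty ∧ IsChain (fun a b : L => a ≤ b) (↑C : Set L)},
      Nat.choose (m - 1) (C.1.card - 1)) = ∑ C ∈ Ch, Nat.choose (m - 1) (C.card - 1) := by
    rw [finsum_eq_sum_of_fintype]
    exact (Finset.sum_subtype Ch hCh (fun C => Nat.choose (m - 1) (C.card - 1))).symm
  have hfib : Dc.card = ∑ C ∈ Ch, (Dc.filter (fun d => d.support = C)).card := by
    apply Finset.card_eq_sum_card_fiberwise
    intro d hd
    have hd' := (hDc d).mp (Finset.mem_coe.mp hd)
    apply Finset.mem_coe.mpr
    rw [hCh]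
    refine ⟨?_, hd'.2⟩
    rw [Finset.nonempty_iff_ne_empty]
    intro hemp
    have h3 := hd'.1
    rw [Finsupp.degree_apply, hemp, Finset.sum_empty] at h3
    omega
  rw [hsum, hmap, LinearMap.finrank_range_of_inj hinj, hT, hfib]
  apply Finset.sum_congr rfl
  intro C hC
  obtain ⟨hCne, hCch⟩ := (hCh C).mp hC
  have hCpos : 1 ≤ C.card := Finset.card_pos.mpr hCne
  have hmemF : ∀ d : L →₀ ℕ, d ∈ Dc.filter (fun d => d.support = C) ↔
      (d.support = C ∧ ∑ a ∈ C, d a = m) := by
    intro d
    rw [Finset.mem_filter, hDc]
    constructor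
    · rintro ⟨⟨hdeg, _⟩, hs⟩
      refine ⟨hs, ?_⟩
      rw [← hs, ← Finsupp.degree_apply]
      exact hdeg
    · rintro ⟨hs, hsm⟩
      refine ⟨⟨?_, ?_⟩, hs⟩
      · rw [Finsupp.degree_apply, hs]
        exact hsm
      · unfold chainSupp
        rw [hs]
        exact hCch
  by_cases hle : C.card ≤ m
  · obtain ⟨o, ho⟩ : ∃ o : L →₀ ℕ, ∀ a, o a = if a ∈ C then 1 else 0 :=
      ⟨Finsupp.onFinset C (fun a => if a ∈ C then 1 else 0)
        (fun a h => by
          by_contra hn
          exact h (if_neg hn)), fun a => rfl⟩
    have himg : Dc.filter (fun d => d.support = C) =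
        (C.finsuppAntidiag (m - C.card)).image (fun g => g + o) := by
      ext d
      rw [hmemF, Finset.mem_image]
      constructor
      · rintro ⟨hs, hsm⟩
        refine ⟨d - o, ?_, ?_⟩
        · rw [Finset.mem_finsuppAntidiag]
          constructor
          · have h1 : C.sum (⇑(d - o)) + C.card = m := by
              rw [Finset.card_eq_sum_ones, ← Finset.sum_add_distrib, ← hsm]
              apply Finset.sum_congr rfl
              intro a ha
              have hda : d a ≠ 0 := by
                rw [← Finsupp.mem_support_iff, hs]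
                exact ha
              rw [Finsupp.tsub_apply, ho, if_pos ha]
              omega
            omega
          · intro a ha
            rw [Finsupp.mem_support_iff, Finsupp.tsub_apply] at ha
            rw [← hs, Finsupp.mem_support_iff]
            omega
        · show d - o + o = d
          ext a
          rw [Finsupp.add_apply, Finsupp.tsub_apply, ho]
          by_cases ha : a ∈ C
          · have hda : d a ≠ 0 := by
              rw [← Finsupp.mem_support_iff, hs]
              exact ha
            rw [if_pos ha]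
            omega
          · rw [if_neg ha]
            omega
      · rintro ⟨g, hg, hgd⟩
        have hgd' : g + o = d := hgd
        subst hgd'
        rw [Finset.mem_finsuppAntidiag] at hg
        obtain ⟨hgsum, hgsupp⟩ := hg
        have hval : ∀ a, (g + o) a = g a + (if a ∈ C then 1 else 0) := by
          intro a
          rw [Finsupp.add_apply, ho]
        constructor
        · ext a
          rw [Finsupp.mem_support_iff, hval]
          by_cases ha : a ∈ C
          · rw [if_pos ha]
            constructor
            · intro _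
              exact ha
            · intro _
              omega
          · rw [if_neg ha]
            have hga : g a = 0 := by
              by_contra h
              exact ha (hgsupp (Finsupp.mem_support_iff.mpr h))
            constructor
            · intro h
              omega
            · intro h
              exact (ha h).elim
        · have h4 : ∑ a ∈ C, (g + o) a = ∑ a ∈ C, g a + C.card := by
            rw [Finset.card_eq_sum_ones, ← Finset.sum_add_distrib]
            apply Finset.sum_congr rfl
            intro a ha
            rw [hval, if_pos ha]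
          rw [h4, hgsum]
          omega
    rw [himg, Finset.card_image_of_injective _ (add_left_injective o),
      Finset.card_finsuppAntidiag_nat_eq_choose]
    have e1 : C.card + (m - C.card) - 1 = m - 1 := by omega
    rw [e1]
    have e2 : m - C.card = (m - 1) - (C.card - 1) := by omega
    rw [e2]
    exact Nat.choose_symm (by omega)
  · have hempty : Dc.filter (fun d => d.support = C) = ∅ := by
      apply Finset.eq_empty_of_forall_notMem
      intro d hd
      rw [hmemF] at hd
      obtain ⟨hs, hsm⟩ := hd
      have h5 : C.card ≤ ∑ a ∈ C, d a := by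
        rw [Finset.card_eq_sum_ones]
        apply Finset.sum_le_sum
        intro a ha
        have hda : d a ≠ 0 := by
          rw [← Finsupp.mem_support_iff, hs]
          exact ha
        omega
      omega
    rw [hempty, Finset.card_empty]
    exact (Nat.choose_eq_zero_of_lt (by omega)).symm

end Groth.Agent.S11262
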