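import Groth.Statements.S1127
import Groth.Agent.H93.IndQAff
import Mathlib.AlgebraicGeometry.Morphisms.FlatDescent

set_option autoImplicit false
open CategoryTheory CategoryTheory.Limits AlgebraicGeometry Opposite
universe u
open Desc

namespace Groth.Agent.S1127

section aux
open TopologicalSpace MorphismProperty
open Groth.Agent.H93.QAff

/-- the morphism property -/
def P : MorphismProperty Scheme.{u} := fun _ _ f => QAHom f

lemma qaHom_of_isAffineHom {X Y : Scheme.{u}} (f : X ⟶ Y) [IsAffineHom f] : QAHom f := by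
  refine ⟨inferInstance, fun V hV => ?_⟩
  have : IsAffine (f ⁻¹ᵁ V).toScheme := hV.preimage f
  infer_instance

instance : P.{u}.RespectsIso :=
  MorphismProperty.RespectsIso.mk _
    (fun e f hf => qaHom_comp e.hom f (qaHom_of_isAffineHom e.hom) hf)
    (fun e f hf => qaHom_comp f e.hom hf (qaHom_of_isAffineHom e.hom))

instance : P.{u}.IsStableUnderBaseChange := by
  refine MorphismProperty.IsStableUnderBaseChange.mk' (fun X Y S f g _ hg => ?_)
  have h1 : QAHom (pullback.snd g f) := qaHom_baseChange g hg f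
  have e : pullback.fst f g = (pullbackSymmetry f g).hom ≫ pullback.snd g f := by simp
  show QAHom (pullback.fst f g)
  rw [e]
  exact qaHom_comp _ _ (qaHom_of_isAffineHom _) h1

instance : IsZariskiLocalAtTarget P.{u} := by
  refine IsZariskiLocalAtTarget.mk' (fun f U hf => qaHom_restrict f hf U) ?_
  intro X Y f ι U hU h
  have hqc : QuasiCompact f :=
    IsZariskiLocalAtTarget.of_iSup_eq_top (P := @QuasiCompact) U hU fun i => (h i).1
  refine qaHom_of_cover f (ι := {V : Y.Opens // IsAffineOpen V ∧ ∃ i, V ≤ U i}) (fun V => V.1) ?_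
    (fun V => V.2.1) (fun V => ?_)
  · rw [eq_top_iff]
    rintro y -
    obtain ⟨i, hi⟩ : ∃ i, y ∈ U i := by
      have : y ∈ iSup U := hU ▸ (trivial : y ∈ (⊤ : Y.Opens))
      exact Opens.mem_iSup.mp this
    obtain ⟨V, hV, hyV, hVU⟩ := Opens.isBasis_iff_nbhd.mp (Y.isBasis_affineOpens) hi
    exact Opens.mem_iSup.mpr ⟨⟨V, hV, i, hVU⟩, hyV⟩
  · obtain ⟨V, hV, i, hVU⟩ := V
    have hV' : IsAffineOpen ((U i).ι ⁻¹ᵁ V) := by
      rw [← Scheme.Hom.isAffineOpen_iff_of_isOpenImmersion (U i).ι,
        Scheme.Hom.image_preimage_eq_opensRange_inf, Scheme.Opens.opensRange_ι,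
        inf_eq_right.mpr hVU]
      exact hV
    have hq := (h i).2 _ hV'
    have hc : CompactSpace (f ⁻¹ᵁ V).toScheme :=
      isCompact_iff_compactSpace.mp (f.isCompact_preimage hV.isCompact)
    refine of_openImmersion_le (X.homOfLE (f.preimage_mono hVU))
      ((f ∣_ U i) ⁻¹ᵁ ((U i).ι ⁻¹ᵁ V)) ?_ hq
    rintro _ ⟨z, rfl⟩
    show (U i).ι ((f ∣_ U i) ((X.homOfLE (f.preimage_mono hVU)) z)) ∈ V
    have e1 : (U i).ι ((f ∣_ U i) ((X.homOfLE (f.preimage_mono hVU)) z)) =
        f ((f ⁻¹ᵁ V).ι z) := by
      rw [← Scheme.Hom.comp_apply, ← Scheme.Hom.comp_apply, morphismRestrict_ι,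
        ← Category.assoc, Scheme.homOfLE_ι]
      rfl
    rw [e1]
    exact ι_mem (f ⁻¹ᵁ V) z

lemma affine_case {R S : CommRingCat.{u}} {Y : Scheme.{u}} (φ : R ⟶ S) (g : Y ⟶ Spec R)
    (hφ : (@Surjective ⊓ @Flat : MorphismProperty Scheme.{u}) (Spec.map φ))
    (h : QAHom (pullback.fst (Spec.map φ) g)) : QAHom g := by
  have hsurj : Surjective (Spec.map φ) := hφ.1
  have hflat : Flat (Spec.map φ) := hφ.2
  have := h.1
  have hY'c : CompactSpace ↑(pullback (Spec.map φ) g) :=
    QuasiCompact.compactSpace_of_compactSpace (pullback.fst (Spec.map φ) g)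
  have hY'q : (pullback (Spec.map φ) g).IsQuasiAffine :=
    of_openImmersion_le (𝟙 _) ((pullback.fst (Spec.map φ) g) ⁻¹ᵁ ⊤) (fun _ _ => trivial)
      (h.2 ⊤ (isAffineOpen_top _))
  have hp_surj : Surjective (pullback.snd (Spec.map φ) g) := inferInstance
  have hp_aff : IsAffineHom (pullback.snd (Spec.map φ) g) :=
    MorphismProperty.pullback_snd (P := @IsAffineHom) _ _ inferInstance
  have hqsY' : QuasiSeparatedSpace ↑(pullback (Spec.map φ) g) := inferInstance
  -- `Y` is compact
  have hYc : CompactSpace Y := ⟨by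
    rw [← Set.range_eq_univ.mpr (pullback.snd (Spec.map φ) g).surjective]
    exact isCompact_range (pullback.snd (Spec.map φ) g).continuous⟩
  -- `Y` is quasi-separated
  have hYqs : QuasiSeparatedSpace Y := by
    rw [quasiSeparatedSpace_iff_forall_affineOpens]
    intro U V
    have hU' := U.2.preimage (pullback.snd (Spec.map φ) g)
    have hV' := V.2.preimage (pullback.snd (Spec.map φ) g)
    have hc := (quasiSeparatedSpace_iff_forall_affineOpens (X := pullback (Spec.map φ) g)).mp hqsY'
      ⟨_, hU'⟩ ⟨_, hV'⟩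
    have h2 := hc.image (pullback.snd (Spec.map φ) g).continuous
    convert h2 using 1
    exact (Set.image_preimage_eq _ (pullback.snd (Spec.map φ) g).surjective).symm
  -- the base of the canonical morphism
  have hg : Y.toSpecΓ ≫ (Spec.map g.appTop ≫ inv (Spec R).toSpecΓ) = g := by
    rw [← Category.assoc, ← Scheme.toSpecΓ_naturality, Category.assoc, IsIso.hom_inv_id,
      Category.comp_id]
  generalize (Spec.map g.appTop ≫ inv (Spec R).toSpecΓ) = a at hg
  have hq : (@Surjective ⊓ @Flat ⊓ @QuasiCompact : MorphismProperty Scheme.{u})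
      (pullback.snd (Spec.map φ) a) := ⟨⟨inferInstance, inferInstance⟩, inferInstance⟩
  have hqflat : Flat (pullback.snd (Spec.map φ) a) := hq.1.2
  have hcond : pullback.fst (Spec.map φ) g ≫ Spec.map φ =
      (pullback.snd (Spec.map φ) g ≫ Y.toSpecΓ) ≫ a := by
    rw [Category.assoc, hg]; exact pullback.condition
  have hu1 : pullback.lift (pullback.fst (Spec.map φ) g) (pullback.snd (Spec.map φ) g ≫ Y.toSpecΓ)
      hcond ≫ pullback.fst (Spec.map φ) a = pullback.fst (Spec.map φ) g := pullback.lift_fst _ _ _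
  have hu2 : pullback.lift (pullback.fst (Spec.map φ) g) (pullback.snd (Spec.map φ) g ≫ Y.toSpecΓ)
      hcond ≫ pullback.snd (Spec.map φ) a = pullback.snd (Spec.map φ) g ≫ Y.toSpecΓ :=
    pullback.lift_snd _ _ _
  generalize pullback.lift (pullback.fst (Spec.map φ) g)
    (pullback.snd (Spec.map φ) g ≫ Y.toSpecΓ) hcond = u at hu1 hu2
  have sq : IsPullback (pullback.snd (Spec.map φ) g) u Y.toSpecΓ (pullback.snd (Spec.map φ) a) := by
    have big : IsPullback (pullback.snd (Spec.map φ) g) (u ≫ pullback.fst (Spec.map φ) a)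
        (Y.toSpecΓ ≫ a) (Spec.map φ) := by
      rw [hu1, hg]; exact (IsPullback.of_hasPullback (Spec.map φ) g).flip
    exact IsPullback.of_bot big hu2.symm (IsPullback.of_hasPullback (Spec.map φ) a).flip
  have hT'aff : IsAffine (pullback (Spec.map φ) a) := inferInstance
  -- flat base change
  have hUY : (⊤ : (pullback (Spec.map φ) g).Opens) =
      (pullback.snd (Spec.map φ) g) ⁻¹ᵁ ⊤ ⊓ u ⁻¹ᵁ ⊤ := by simp
  have hiso0 := isIso_pushoutSection_of_isQuasiSeparated_of_flat_right sq (US := ⊤) (UT := ⊤)
    (UX := ⊤) le_top le_top hUY (isAffineOpen_top _) (isAffineOpen_top _) isCompact_univ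
    isQuasiSeparated_univ
  have hpush := (isIso_pushoutSection_iff sq le_top le_top hUY).mp hiso0
  have hj : IsIso (Y.toSpecΓ.appLE ⊤ ⊤ le_top) := by
    have e : Y.toSpecΓ.appLE ⊤ ⊤ le_top = Y.toSpecΓ.appTop := by
      simp [Scheme.Hom.appLE, Scheme.Hom.appTop]
    rw [e, Scheme.toSpecΓ_appTop]
    infer_instance
  have hiso1 := hpush.isIso_inr_of_isIso hj
  have hiso : IsIso u.appTop := by
    have e : u.appLE ⊤ ⊤ (by simp) = u.appTop := by
      simp [Scheme.Hom.appLE, Scheme.Hom.appTop]
    rw [← e]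
    exact hiso1
  have hu_open : IsOpenImmersion u := by
    have e : u = (pullback (Spec.map φ) g).toSpecΓ ≫ Spec.map u.appTop ≫
        inv (pullback (Spec.map φ) a).toSpecΓ := by
      rw [← Category.assoc, ← Scheme.toSpecΓ_naturality, Category.assoc, IsIso.hom_inv_id,
        Category.comp_id]
    rw [e]
    infer_instance
  have hjopen : IsOpenImmersion Y.toSpecΓ :=
    MorphismProperty.of_isPullback_of_descendsAlong (P := @IsOpenImmersion)
      (Q := (@Surjective ⊓ @Flat ⊓ @QuasiCompact : MorphismProperty Scheme.{u})) sq.flip hq hu_open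
  have hYq : Y.IsQuasiAffine := by constructor
  have hgqc : QuasiCompact g := inferInstance
  refine ⟨hgqc, fun V hV => ?_⟩
  have hc : CompactSpace (g ⁻¹ᵁ V).toScheme :=
    isCompact_iff_compactSpace.mp (g.isCompact_preimage hV.isCompact)
  exact Scheme.IsQuasiAffine.of_isImmersion (g ⁻¹ᵁ V).ι

lemma main : P.{u}.DescendsAlong (@Surjective ⊓ @Flat ⊓ @QuasiCompact) := by
  refine IsZariskiLocalAtTarget.descendsAlong_inf_quasiCompact _ _ ?_ ?_
  · rw [inf_comm]
    exact inf_le_inf le_rfl (IsLocalIso.le_of_isZariskiLocalAtSource _)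
  · intro R S Y φ g hφ h
    exact affine_case φ g hφ h

end aux

/-- If the base change of a morphism along a quasi-compact, flat, surjective morphism is quasi-affine
(quasi-compact, with quasi-affine preimages of affine opens), then the morphism is quasi-affine.
(The published statement is the fpqc-local form; stated here for a single quasi-compact flat
surjective base change, from which that form follows by Zariski-locality on the target.) -/
theorem result :
    MorphismProperty.DescendsAlong (fun _ _ f => Mor2.IsQuasiAffine f : MorphismProperty Scheme.{u})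
      (@Surjective ⊓ @Flat ⊓ @QuasiCompact : MorphismProperty Scheme.{u}) := by
  exact main

end Groth.Agent.S1127
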