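import Groth.Statements.S11271
import Mathlib

set_option autoImplicit false
universe u
open W4bk4grassmannian

namespace Groth.Agent.S11271

theorem eval_scale {K : Type u} [Field K] {σ : Type*} (a : σ → K) (t : K) (f : MvPolynomial σ K) :
    Polynomial.eval t (MvPolynomial.aeval (fun q => Polynomial.C (a q) * Polynomial.X) f) =
      MvPolynomial.eval (fun q => t * a q) f := by
  induction f using MvPolynomial.induction_on with
  | C r => simp
  | add p q hp hq => rw [map_add, Polynomial.eval_add, hp, hq, map_add]
  | mul_X p i hp =>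
    rw [map_mul, Polynomial.eval_mul, hp, map_mul, MvPolynomial.aeval_X, MvPolynomial.eval_X,
      Polynomial.eval_mul, Polynomial.eval_C, Polynomial.eval_X, mul_comm (a i) t]


open W4bk4grassmannian in
/-- Semistable matrices are the matrices of full rank: let K be an algebraically closed field, 0 < d <
n, and let SL_d(K) act on n × d matrices by right multiplication; a matrix A is semistable when the
zero matrix is not in the Zariski closure of its orbit, i.e. when some polynomial in the entries
vanishes at A g for every g ∈ SL_d(K) but not at 0. Then A is semistable if and only if its columns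
are linearly independent. -/
theorem result (K : Type u) [Field K]
    [IsAlgClosed K] (d n : ℕ) (hd : 0 < d) (hdn : d < n) (A : Matrix (Fin n) (Fin d) K) :
    LinearIndependent K A.transpose ↔
      ∃ f : MatRing K d n, (∀ g : Matrix.SpecialLinearGroup (Fin d) K,
        MvPolynomial.eval (fun p : Fin n × Fin d => (A * (g : Matrix (Fin d) (Fin d) K)) p.1 p.2) f = 0) ∧
        MvPolynomial.eval (fun _ : Fin n × Fin d => (0 : K)) f ≠ 0 := by
  constructor
  · intro h
    have hinj : Function.Injective A.mulVec := Matrix.mulVec_injective_iff.mpr h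
    have hker : LinearMap.ker (Matrix.toLin' A) = ⊥ := by
      rw [LinearMap.ker_eq_bot]
      intro x y hxy
      apply hinj
      simpa [Matrix.toLin'_apply] using hxy
    obtain ⟨g, hg⟩ := LinearMap.exists_leftInverse_of_injective (Matrix.toLin' A) hker
    obtain ⟨B, hB⟩ : ∃ B : Matrix (Fin d) (Fin n) K, B = LinearMap.toMatrix' g := ⟨_, rfl⟩
    have hBA : B * A = 1 := by
      calc B * A = LinearMap.toMatrix' g * LinearMap.toMatrix' (Matrix.toLin' A) := by
            rw [LinearMap.toMatrix'_toLin', hB]
        _ = LinearMap.toMatrix' (g ∘ₗ Matrix.toLin' A) := (LinearMap.toMatrix'_comp _ _).symm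
        _ = 1 := by rw [hg, LinearMap.toMatrix'_id]
    obtain ⟨P, hP⟩ : ∃ P : Matrix (Fin d) (Fin d) (MatRing K d n),
        P = Matrix.of (fun s t => ∑ i, MvPolynomial.C (B s i) * MvPolynomial.X (i, t)) := ⟨_, rfl⟩
    have hev : ∀ M : Matrix (Fin n) (Fin d) K,
        MvPolynomial.eval (fun p : Fin n × Fin d => M p.1 p.2) P.det = (B * M).det := by
      intro M
      rw [RingHom.map_det]
      congr 1
      ext s t
      rw [hP]
      simp [Matrix.mul_apply, RingHom.mapMatrix_apply, Matrix.map_apply]
    refine ⟨P.det - 1, ?_, ?_⟩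
    · intro γ
      rw [map_sub, hev, map_one, ← Matrix.mul_assoc, hBA, Matrix.one_mul, γ.det_coe, sub_self]
    · show MvPolynomial.eval (fun p : Fin n × Fin d => (0 : Matrix (Fin n) (Fin d) K) p.1 p.2)
        (P.det - 1) ≠ 0
      have : Nonempty (Fin d) := ⟨⟨0, hd⟩⟩
      rw [map_sub, hev, map_one, Matrix.mul_zero, Matrix.det_zero]
      simp
  · rintro ⟨f, hf, hf0⟩
    by_contra hli
    have hninj : ¬ Function.Injective A.mulVec := fun hi => hli (Matrix.mulVec_injective_iff.mp hi)
    have hex : ∃ v : Fin d → K, v ≠ 0 ∧ A.mulVec v = 0 := by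
      by_contra hne
      push Not at hne
      apply hninj
      intro x y hxy
      have h1 : A.mulVec (x - y) = 0 := by rw [Matrix.mulVec_sub, hxy, sub_self]
      have h2 : x - y = 0 := by
        by_contra hxy0
        exact hne (x - y) hxy0 h1
      exact sub_eq_zero.mp h2
    obtain ⟨v, hv0, hAv⟩ := hex
    have hj : ∃ j₀, v j₀ ≠ 0 := by
      by_contra hne
      push Not at hne
      exact hv0 (funext hne)
    obtain ⟨j₀, hj₀⟩ := hj
    obtain ⟨φ, hφ⟩ : ∃ φ : Fin d → K, φ = Pi.single j₀ (v j₀)⁻¹ := ⟨_, rfl⟩
    have hφv : φ ⬝ᵥ v = 1 := by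
      rw [hφ, single_dotProduct, inv_mul_cancel₀ hj₀]
    have hroot : ∀ t : K, t ≠ 0 →
        MvPolynomial.eval (fun q : Fin n × Fin d => t * A q.1 q.2) f = 0 := by
      intro t ht
      obtain ⟨c, hc⟩ : ∃ c : K, c = (t⁻¹) ^ d - 1 := ⟨_, rfl⟩
      obtain ⟨G, hG⟩ : ∃ G : Matrix (Fin d) (Fin d) K,
          G = t • (1 + Matrix.vecMulVec (c • v) φ) := ⟨_, rfl⟩
      have hdet : G.det = 1 := by
        rw [hG, Matrix.det_smul, Matrix.vecMulVec_eq Unit,
          Matrix.det_one_add_replicateCol_mul_replicateRow, Fintype.card_fin, dotProduct_smul,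
          hφv, hc, smul_eq_mul, mul_one]
        have h1 : (1 : K) + ((t⁻¹) ^ d - 1) = (t⁻¹) ^ d := by ring
        rw [h1, ← mul_pow, mul_inv_cancel₀ ht, one_pow]
      have hAG : A * G = t • A := by
        rw [hG, Matrix.mul_smul, Matrix.mul_add, Matrix.mul_one, Matrix.mul_vecMulVec,
          Matrix.mulVec_smul, hAv, smul_zero, Matrix.zero_vecMulVec, add_zero]
      have h3 := hf ⟨G, hdet⟩
      have h2 : (fun p : Fin n × Fin d =>
          (A * ((⟨G, hdet⟩ : Matrix.SpecialLinearGroup (Fin d) K) :
            Matrix (Fin d) (Fin d) K)) p.1 p.2) =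
          (fun q : Fin n × Fin d => t * A q.1 q.2) := by
        funext q
        show (A * G) q.1 q.2 = _
        rw [hAG, Matrix.smul_apply, smul_eq_mul]
      rw [h2] at h3
      exact h3
    obtain ⟨p, hp⟩ : ∃ p : Polynomial K, p = MvPolynomial.aeval
        (fun q : Fin n × Fin d => Polynomial.C (A q.1 q.2) * Polynomial.X) f := ⟨_, rfl⟩
    have hpe : ∀ t : K, Polynomial.eval t p =
        MvPolynomial.eval (fun q : Fin n × Fin d => t * A q.1 q.2) f := by
      intro t
      rw [hp]
      exact eval_scale (fun q : Fin n × Fin d => A q.1 q.2) t f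
    have hp0 : p = 0 := by
      apply Polynomial.eq_zero_of_infinite_isRoot
      refine Set.Infinite.mono ?_ (Set.finite_singleton (0 : K)).infinite_compl
      intro t ht
      have ht' : t ≠ 0 := by simpa using ht
      show Polynomial.eval t p = 0
      rw [hpe, hroot t ht']
    apply hf0
    have h4 := hpe 0
    rw [hp0, Polynomial.eval_zero] at h4
    have h5 : (fun q : Fin n × Fin d => (0 : K) * A q.1 q.2) = (fun _ : Fin n × Fin d => (0 : K)) := by
      funext q
      rw [zero_mul]
    rw [h5] at h4
    exact h4.symm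

end Groth.Agent.S11271
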