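import Groth.Statements.S11277
-- import your own Groth.Agent.* helpers here

set_option autoImplicit false
universe u v
open W4bk4grassmannian

namespace Groth.Agent.S11277

/-- Let K be a field, R = ⊕_{i ≥ 0} R_i an ℕ-graded commutative K-algebra which is an integral domain,
and s ∈ R_e a homogeneous element of degree e > 0. Let R_(s) ⊆ R[1/s] be the homogeneous
localization (fractions f / s^k with f homogeneous of degree k e). Then the image of s in R[1/s] is
transcendental over R_(s). -/
theorem result (K : Type u) [Field K] (R : Type v) [CommRing R]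
    [IsDomain R] [Algebra K R] (𝒜 : ℕ → Submodule K R) [GradedAlgebra 𝒜] (e : ℕ) (he : 0 < e) (s : R)
    (hs : s ∈ 𝒜 e) :
    Transcendental (HomogeneousLocalization.Away 𝒜 s) (algebraMap R (Localization.Away s) s) := by
  classical
  by_cases hs0 : s = 0
  · have hsub : Subsingleton (HomogeneousLocalization.Away 𝒜 s) :=
      HomogeneousLocalization.subsingleton 𝒜 (x := Submonoid.powers s) ⟨1, by simp [hs0]⟩
    rw [transcendental_iff]
    intro P _
    exact Subsingleton.elim _ _
  rw [transcendental_iff]
  intro P hP
  set s' : Localization.Away s := algebraMap R (Localization.Away s) s with hs'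
  have hinj : Function.Injective (algebraMap R (Localization.Away s)) := by
    apply IsLocalization.injective (Localization.Away s) (M := Submonoid.powers s)
    exact powers_le_nonZeroDivisors_of_noZeroDivisors hs0
  have hunit : IsUnit s' := IsLocalization.Away.algebraMap_isUnit s
  -- common exponent
  have hev : ∀ᶠ n in Filter.atTop, ∀ i ∈ Finset.range (P.natDegree + 1),
      s ^ n • (P.coeff i).val ∈ algebraMap R (Localization.Away s) '' (𝒜 (n • e) : Set R) := by
    rw [Filter.eventually_all_finset]
    intro i _
    exact HomogeneousLocalization.Away.eventually_smul_mem hs (P.coeff i)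
  obtain ⟨n, hn⟩ := hev.exists
  choose! g hg using hn
  -- the relation in R
  have hsum : ∑ i ∈ Finset.range (P.natDegree + 1), g i * s ^ i = 0 := by
    apply hinj
    rw [map_zero, map_sum]
    have h1 : s ^ n • (Polynomial.aeval s' P) = 0 := by rw [hP, smul_zero]
    rw [Polynomial.aeval_eq_sum_range, Finset.smul_sum] at h1
    rw [← h1]
    apply Finset.sum_congr rfl
    intro i hi
    rw [map_mul, (hg i hi).2, map_pow, Algebra.smul_def (P.coeff i), HomogeneousLocalization.algebraMap_apply,
      smul_mul_assoc]
  -- each term vanishes
  have hterm : ∀ i ∈ Finset.range (P.natDegree + 1), g i * s ^ i = 0 := by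
    intro i hi
    have hmem : ∀ j ∈ Finset.range (P.natDegree + 1), g j * s ^ j ∈ 𝒜 (n • e + j • e) :=
      fun j hj => SetLike.mul_mem_graded (hg j hj).1 (SetLike.pow_mem_graded j hs)
    have h2 := congrArg (fun x => (DirectSum.decompose 𝒜 x (n • e + i • e) : R)) hsum
    simp only [DirectSum.decompose_sum, DirectSum.decompose_zero, DirectSum.zero_apply,
      ZeroMemClass.coe_zero] at h2
    rw [DFinsupp.finset_sum_apply, AddSubmonoidClass.coe_finset_sum] at h2
    rw [Finset.sum_eq_single i] at h2
    · rwa [DirectSum.decompose_of_mem_same 𝒜 (hmem i hi)] at h2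
    · intro j hj hji
      rw [DirectSum.decompose_of_mem_ne 𝒜 (hmem j hj)]
      intro heq
      apply hji
      have : j • e = i • e := Nat.add_left_cancel heq
      exact Nat.eq_of_mul_eq_mul_right he this
    · intro h; exact absurd hi h
  -- conclude
  apply Polynomial.ext
  intro i
  rw [Polynomial.coeff_zero]
  by_cases hi : i ∈ Finset.range (P.natDegree + 1)
  · have hgi : g i = 0 := by
      rcases mul_eq_zero.mp (hterm i hi) with h | h
      · exact h
      · exact absurd h (pow_ne_zero i hs0)
    have h3 := (hg i hi).2
    rw [hgi, map_zero] at h3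
    have h4 : (s' ^ n) * (P.coeff i).val = 0 := by
      rw [hs', ← map_pow, ← Algebra.smul_def]
      exact h3.symm
    have h5 : (P.coeff i).val = 0 := (hunit.pow n).mul_right_eq_zero.mp h4
    exact HomogeneousLocalization.val_injective _ (by rw [h5, HomogeneousLocalization.val_zero])
  · apply Polynomial.coeff_eq_zero_of_natDegree_lt
    rw [Finset.mem_range, not_lt] at hi
    omega

end Groth.Agent.S11277
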