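import Groth.Statements.S11284
import Mathlib
-- import your own Groth.Agent.* helpers here

set_option autoImplicit false
universe u
open Deform

set_option linter.style.haveILetI false
set_option linter.unusedSectionVars false
set_option linter.unusedVariables false

namespace Groth.Agent.S11284

open TensorProduct

section local_step
variable {A B : Type u} [CommRing A] [CommRing B] [Algebra A B]
variable (P : Algebra.Extension.{u} A B) (𝔭 : Ideal B) [𝔭.IsPrime]

/-- the multiplicative set of elements of the extension ring mapping outside `𝔭` -/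
abbrev Mq : Submonoid P.Ring := 𝔭.primeCompl.comap (algebraMap P.Ring B)

/-- localized projection -/
noncomputable def toLocHom : Localization (Mq P 𝔭) →+* Localization.AtPrime 𝔭 :=
  IsLocalization.lift (M := Mq P 𝔭)
    (g := (algebraMap B (Localization.AtPrime 𝔭)).comp (algebraMap P.Ring B))
    (fun y => IsLocalization.map_units (Localization.AtPrime 𝔭)
      (⟨algebraMap P.Ring B y.1, y.2⟩ : 𝔭.primeCompl))

theorem toLocHom_algebraMap (x : P.Ring) :
    toLocHom P 𝔭 (algebraMap P.Ring (Localization (Mq P 𝔭)) x) =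
      algebraMap B (Localization.AtPrime 𝔭) (algebraMap P.Ring B x) :=
  IsLocalization.lift_eq _ x

theorem toLocHom_mk' (x : P.Ring) (t : Mq P 𝔭) :
    toLocHom P 𝔭 (IsLocalization.mk' (Localization (Mq P 𝔭)) x t) =
      IsLocalization.mk' (Localization.AtPrime 𝔭) (algebraMap P.Ring B x)
        (⟨algebraMap P.Ring B t.1, t.2⟩ : 𝔭.primeCompl) := by
  rw [IsLocalization.eq_mk'_iff_mul_eq]
  show toLocHom P 𝔭 (IsLocalization.mk' (Localization (Mq P 𝔭)) x t) *
    algebraMap B (Localization.AtPrime 𝔭) (algebraMap P.Ring B t.1) =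
      algebraMap B (Localization.AtPrime 𝔭) (algebraMap P.Ring B x)
  rw [← toLocHom_algebraMap, ← toLocHom_algebraMap, ← map_mul, IsLocalization.mk'_spec]

theorem toLocHom_surjective : Function.Surjective (toLocHom P 𝔭) := by
  intro z
  obtain ⟨b, s, rfl⟩ := IsLocalization.exists_mk'_eq 𝔭.primeCompl z
  obtain ⟨x, rfl⟩ := P.algebraMap_surjective b
  obtain ⟨t, ht⟩ := P.algebraMap_surjective s.1
  have htM : t ∈ Mq P 𝔭 := by
    show algebraMap P.Ring B t ∈ 𝔭.primeCompl
    rw [ht]; exact s.2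
  refine ⟨IsLocalization.mk' (Localization (Mq P 𝔭)) x ⟨t, htM⟩, ?_⟩
  rw [toLocHom_mk']
  congr 1
  exact Subtype.ext ht

/-- the localized extension -/
noncomputable def Q : Algebra.Extension.{u} A (Localization.AtPrime 𝔭) where
  Ring := Localization (Mq P 𝔭)
  commRing := inferInstance
  algebra₁ := inferInstance
  algebra₂ := (toLocHom P 𝔭).toAlgebra
  isScalarTower := by
    letI := (toLocHom P 𝔭).toAlgebra
    refine IsScalarTower.of_algebraMap_eq fun a => ?_
    show algebraMap A (Localization.AtPrime 𝔭) a =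
      toLocHom P 𝔭 (algebraMap A (Localization (Mq P 𝔭)) a)
    rw [IsScalarTower.algebraMap_apply A P.Ring (Localization (Mq P 𝔭)), toLocHom_algebraMap,
      ← IsScalarTower.algebraMap_apply A P.Ring B, ← IsScalarTower.algebraMap_apply A B]
  σ z := (toLocHom_surjective P 𝔭 z).choose
  algebraMap_σ z := (toLocHom_surjective P 𝔭 z).choose_spec

/-- the localization map as a hom of extensions -/
noncomputable def fHom : P.Hom (Q P 𝔭) where
  toRingHom := algebraMap P.Ring (Localization (Mq P 𝔭))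
  toRingHom_algebraMap a :=
    (IsScalarTower.algebraMap_apply A P.Ring (Localization (Mq P 𝔭)) a).symm
  algebraMap_toRingHom x := toLocHom_algebraMap P 𝔭 x

theorem exists_rep (z : (Q P 𝔭).Ring) (hz : z ∈ (Q P 𝔭).ker) :
    ∃ (y : P.Ring) (t : Mq P 𝔭), y ∈ P.ker ∧
      z = IsLocalization.mk' (Localization (Mq P 𝔭)) y t := by
  obtain ⟨x, t, hxt⟩ := IsLocalization.exists_mk'_eq (S := Localization (Mq P 𝔭)) (Mq P 𝔭) z
  have h0 : toLocHom P 𝔭 (IsLocalization.mk' (Localization (Mq P 𝔭)) x t) = 0 := by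
    rw [hxt]; exact hz
  rw [toLocHom_mk', IsLocalization.mk'_eq_zero_iff] at h0
  obtain ⟨s, hs⟩ := h0
  obtain ⟨u, hu⟩ := P.algebraMap_surjective s.1
  have huM : u ∈ Mq P 𝔭 := by
    show algebraMap P.Ring B u ∈ 𝔭.primeCompl
    rw [hu]; exact s.2
  refine ⟨x * u, t * ⟨u, huM⟩, ?_, ?_⟩
  · rw [RingHom.mem_ker, map_mul, hu, mul_comm]; exact hs
  · rw [← hxt]
    exact (IsLocalization.mk'_cancel (S := Localization (Mq P 𝔭)) x t ⟨u, huM⟩).symm

theorem Q_ker_sq (hsq : P.ker ^ 2 = ⊥) : (Q P 𝔭).ker ^ 2 = ⊥ := by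
  rw [pow_two, eq_bot_iff]
  refine Ideal.mul_le.mpr fun z hz z' hz' => ?_
  obtain ⟨y, t, hy, rfl⟩ := exists_rep P 𝔭 z hz
  obtain ⟨y', t', hy', rfl⟩ := exists_rep P 𝔭 z' hz'
  have h0 : y * y' = 0 := by
    have : y * y' ∈ P.ker ^ 2 := by rw [pow_two]; exact Ideal.mul_mem_mul hy hy'
    rwa [hsq, Ideal.mem_bot] at this
  rw [Ideal.mem_bot]
  show IsLocalization.mk' (Localization (Mq P 𝔭)) y t *
    IsLocalization.mk' (Localization (Mq P 𝔭)) y' t' = 0
  rw [← IsLocalization.mk'_mul, h0, IsLocalization.mk'_zero]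

theorem eq_zero_of_tmul_D_eq_zero [Algebra.FormallySmooth A (Localization.AtPrime 𝔭)]
    (hsq : P.ker ^ 2 = ⊥) (z : (Q P 𝔭).Ring) (hz : z ∈ (Q P 𝔭).ker)
    (h : (1 : Localization.AtPrime 𝔭) ⊗ₜ[(Q P 𝔭).Ring] KaehlerDifferential.D A (Q P 𝔭).Ring z = 0) :
    z = 0 := by
  have hsq' := Q_ker_sq P 𝔭 hsq
  let π : (Q P 𝔭).Ring →ₐ[A] Localization.AtPrime 𝔭 := IsScalarTower.toAlgHom A _ _
  have hπ : Function.Surjective π := (Q P 𝔭).algebraMap_surjective
  have hnil : IsNilpotent (RingHom.ker (π : (Q P 𝔭).Ring →+* Localization.AtPrime 𝔭)) :=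
    ⟨2, hsq'⟩
  let g := Algebra.FormallySmooth.liftOfSurjective (AlgHom.id A (Localization.AtPrime 𝔭)) π hπ hnil
  have hg : (IsScalarTower.toAlgHom A (Q P 𝔭).Ring (Localization.AtPrime 𝔭)).comp g =
      AlgHom.id A _ := Algebra.FormallySmooth.comp_liftOfSurjective _ _ _ _
  have key := retractionOfSectionOfKerSqZero_comp_kerToTensor g hsq' hg
  have h2 := LinearMap.congr_fun key ⟨z, hz⟩
  rw [LinearMap.comp_apply, KaehlerDifferential.kerToTensor_apply, h, map_zero] at h2
  exact (congrArg Subtype.val h2).symm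

theorem exists_smul_eq_zero [Algebra.FormallySmooth A (Localization.AtPrime 𝔭)]
    (hsq : P.ker ^ 2 = ⊥) (c : P.Cotangent) (hc : P.cotangentComplex c = 0) :
    ∃ s : B, s ∉ 𝔭 ∧ s • c = 0 := by
  obtain ⟨x, rfl⟩ := Algebra.Extension.Cotangent.mk_surjective c
  have h1 : (Q P 𝔭).cotangentComplex (Algebra.Extension.Cotangent.map (fHom P 𝔭)
      (Algebra.Extension.Cotangent.mk x)) = 0 := by
    rw [← Algebra.Extension.CotangentSpace.map_cotangentComplex, hc, map_zero]
  rw [Algebra.Extension.Cotangent.map_mk, Algebra.Extension.cotangentComplex_mk] at h1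
  have hz : (fHom P 𝔭).toAlgHom x.1 ∈ (Q P 𝔭).ker := by
    rw [RingHom.mem_ker]
    show algebraMap (Q P 𝔭).Ring (Localization.AtPrime 𝔭) ((fHom P 𝔭).toRingHom x.1) = 0
    rw [(fHom P 𝔭).algebraMap_toRingHom, RingHom.mem_ker.mp x.2, map_zero]
  have h2 : algebraMap P.Ring (Localization (Mq P 𝔭)) x.1 = 0 :=
    eq_zero_of_tmul_D_eq_zero P 𝔭 hsq ((fHom P 𝔭).toAlgHom x.1) hz h1
  obtain ⟨t, ht⟩ := (IsLocalization.map_eq_zero_iff (Mq P 𝔭) (Localization (Mq P 𝔭)) x.1).mp h2
  refine ⟨algebraMap P.Ring B t.1, t.2, ?_⟩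
  rw [algebraMap_smul, ← map_smul]
  have h3 : (t.1 • x : P.ker) = 0 := by
    apply Subtype.ext
    show t.1 * x.1 = 0
    exact ht
  rw [h3, map_zero]

end local_step

theorem eq_zero_of_forall_minimal {B : Type u} [CommRing B] [IsReduced B] {I : Type u}
    [AddCommGroup I] [Module B I] [Module.Projective B I] (c : I)
    (h : ∀ 𝔭 ∈ minimalPrimes B, ∃ s : B, s ∉ 𝔭 ∧ s • c = 0) : c = 0 := by
  obtain ⟨s, hs⟩ := Module.projective_def'.mp ‹Module.Projective B I›
  have hsc : s c = 0 := by
    ext y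
    rw [Finsupp.zero_apply]
    apply IsReduced.eq_zero
    rw [nilpotent_iff_mem_prime]
    intro J hJ
    obtain ⟨𝔭, h𝔭, hle⟩ := Ideal.exists_minimalPrimes_le (I := ⊥) (J := J) bot_le
    obtain ⟨t, ht, htc⟩ := h 𝔭 h𝔭
    have h1 : t * s c y = 0 := by
      have h2 : s (t • c) y = 0 := by rw [htc, map_zero, Finsupp.zero_apply]
      rwa [map_smul, Finsupp.smul_apply, smul_eq_mul] at h2
    have h2 : t * s c y ∈ 𝔭 := by rw [h1]; exact 𝔭.zero_mem
    haveI := h𝔭.1.1
    exact hle ((Ideal.IsPrime.mem_or_mem ‹_› h2).resolve_left ht)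
  have h3 := LinearMap.congr_fun hs c
  rw [LinearMap.comp_apply, hsc, map_zero] at h3
  exact h3.symm


/-- Let k be an algebraically closed field and A → B a map of finitely generated k-algebras with B
reduced and smooth over A at every minimal prime of B (the morphism Spec B → Spec A is smooth on a
dense open subset). Let E → B be a surjection of A-algebras whose kernel I has square zero and is,
as a B-module, finitely generated and projective (an extension of B over A by a locally free
module). Then the conormal map I = I/I^2 → B ⊗_E Ω_{E/A} is injective, so that the relative conormal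
sequence 0 → I → B ⊗_E Ω_{E/A} → Ω_{B/A} → 0 of the extension is exact also on the left. This is the
affine case of the statement for a morphism of finite type of algebraic schemes and a coherent
locally free kernel. -/
theorem result
    {k : Type u} [Field k] [IsAlgClosed k]
    {A B : Type u} [CommRing A] [CommRing B] [Algebra k A] [Algebra k B] [Algebra A B]
    [IsScalarTower k A B] [Algebra.FiniteType k A] [Algebra.FiniteType k B] [IsReduced B]
    (hsm : ∀ p : PrimeSpectrum B, p.asIdeal ∈ minimalPrimes B → Algebra.IsSmoothAt A p.asIdeal)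
    (P : Algebra.Extension.{u} A B) (hsq : P.ker ^ 2 = ⊥)
    [Module.Finite B P.Cotangent] [Module.Projective B P.Cotangent] :
    Function.Injective P.cotangentComplex := by
  rw [injective_iff_map_eq_zero]
  intro c hc
  refine eq_zero_of_forall_minimal (B := B) c fun 𝔭 h𝔭 => ?_
  haveI : 𝔭.IsPrime := h𝔭.1.1
  haveI : Algebra.FormallySmooth A (Localization.AtPrime 𝔭) := hsm ⟨𝔭, inferInstance⟩ h𝔭
  exact exists_smul_eq_zero P 𝔭 hsq c hc

end Groth.Agent.S11284
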