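import Groth.Statements.S11285
import Mathlib
-- import your own Groth.Agent.* helpers here

set_option autoImplicit false
universe u
open Deform

set_option linter.style.haveILetI false
set_option linter.unusedSectionVars false
set_option linter.unusedVariables false

namespace Groth.Agent.S11285

open TrivSqZeroExt TensorProduct

section
variable {A B : Type u} [CommRing A] [CommRing B] [Algebra A B]
variable {N : Type u} [AddCommGroup N] [Module B N]

/-- The op-module structure on a module over a commutative ring. -/
@[reducible] def opMod (B N : Type u) [CommRing B] [AddCommGroup N] [Module B N] : Module Bᵐᵒᵖ N :=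
  Module.compHom _ ((RingHom.id B).fromOpposite mul_comm)

attribute [local instance] opMod

theorem isCentral (B N : Type u) [CommRing B] [AddCommGroup N] [Module B N] :
    IsCentralScalar B N := ⟨fun _ _ => rfl⟩

attribute [local instance] isCentral

/-- The fibre product `B ×_Ω N`, as a subring of the trivial square-zero extension. -/
def E (q : N →ₗ[B] Ω[B⁄A]) : Subring (TrivSqZeroExt B N) where
  carrier := {x | q x.snd = KaehlerDifferential.D A B x.fst}
  mul_mem' := by
    intro x y hx hy
    simp only [Set.mem_ofPred_eq] at hx hy ⊢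
    rw [snd_mul, fst_mul, map_add, op_smul_eq_smul, map_smul, map_smul, hx, hy, Derivation.leibniz]
  one_mem' := by
    simp only [Set.mem_ofPred_eq]
    rw [snd_one, fst_one, map_zero, Derivation.map_one_eq_zero]
  add_mem' := by
    intro x y hx hy
    simp only [Set.mem_ofPred_eq] at hx hy ⊢
    rw [snd_add, fst_add, map_add, map_add, hx, hy]
  zero_mem' := by
    simp only [Set.mem_ofPred_eq]
    rw [snd_zero, fst_zero, map_zero, map_zero]
  neg_mem' := by
    intro x hx
    simp only [Set.mem_ofPred_eq] at hx ⊢
    rw [snd_neg, fst_neg, map_neg, map_neg, hx]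

variable (q : N →ₗ[B] Ω[B⁄A])

theorem mem_E {x : TrivSqZeroExt B N} :
    x ∈ E q ↔ q x.snd = KaehlerDifferential.D A B x.fst := Iff.rfl

/-- structure map `A → E` -/
def ιA : A →+* E q where
  toFun a := ⟨inl (algebraMap A B a), by
    rw [mem_E, snd_inl, fst_inl, map_zero, Derivation.map_algebraMap]⟩
  map_one' := Subtype.ext (by simp)
  map_mul' a b := Subtype.ext (by simp)
  map_zero' := Subtype.ext (by simp)
  map_add' a b := Subtype.ext (by simp)

/-- projection `E → B` -/
def πR : E q →+* B where
  toFun x := x.1.fst
  map_one' := fst_one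
  map_mul' x y := fst_mul _ _
  map_zero' := fst_zero
  map_add' x y := fst_add _ _

variable (hq : Function.Surjective q)

/-- The extension `E → B`. -/
noncomputable def P : Algebra.Extension.{u} A B where
  Ring := E q
  commRing := inferInstance
  algebra₁ := (ιA q).toAlgebra
  algebra₂ := (πR q).toAlgebra
  isScalarTower := by
    letI := (ιA q).toAlgebra
    letI := (πR q).toAlgebra
    exact IsScalarTower.of_algebraMap_eq (fun a => (fst_inl N (algebraMap A B a)).symm)
  σ b := ⟨inl b + inr (hq (KaehlerDifferential.D A B b)).choose, by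
    rw [mem_E, snd_add, snd_inl, snd_inr, zero_add, fst_add, fst_inl, fst_inr, add_zero]
    exact (hq _).choose_spec⟩
  algebraMap_σ b := by
    show (inl b + inr _ : TrivSqZeroExt B N).fst = b
    rw [fst_add, fst_inl, fst_inr, add_zero]

/-- underlying element of the trivial square zero extension -/
def val (x : (P q hq).Ring) : TrivSqZeroExt B N := (show E q from x).1

theorem val_injective : Function.Injective (val q hq) := fun _ _ h => Subtype.ext h
theorem val_mul (x y : (P q hq).Ring) : val q hq (x * y) = val q hq x * val q hq y := rfl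
theorem val_add (x y : (P q hq).Ring) : val q hq (x + y) = val q hq x + val q hq y := rfl
theorem val_one : val q hq 1 = 1 := rfl
theorem val_zero : val q hq 0 = 0 := rfl
theorem val_algebraMap (a : A) :
    val q hq (algebraMap A (P q hq).Ring a) = inl (algebraMap A B a) := rfl
theorem fst_val (x : (P q hq).Ring) : (val q hq x).fst = algebraMap (P q hq).Ring B x := rfl
theorem val_mem (x : (P q hq).Ring) :
    q (val q hq x).snd = KaehlerDifferential.D A B (val q hq x).fst := (show E q from x).2

/-- constructor -/
def mk' (t : TrivSqZeroExt B N) (ht : q t.snd = KaehlerDifferential.D A B t.fst) :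
    (P q hq).Ring := (⟨t, ht⟩ : E q)

theorem val_mk' (t : TrivSqZeroExt B N) (ht : q t.snd = KaehlerDifferential.D A B t.fst) :
    val q hq (mk' q hq t ht) = t := rfl

theorem mem_ker_iff (x : (P q hq).Ring) : x ∈ (P q hq).ker ↔ (val q hq x).fst = 0 := by
  rw [RingHom.mem_ker, fst_val]

theorem ker_sq : (P q hq).ker ^ 2 = ⊥ := by
  rw [pow_two, eq_bot_iff]
  refine Ideal.mul_le.mpr fun x hx y hy => ?_
  rw [Ideal.mem_bot]
  apply val_injective q hq
  rw [val_mul, val_zero]
  have hx' : (val q hq x).fst = 0 := (mem_ker_iff q hq x).mp hx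
  have hy' : (val q hq y).fst = 0 := (mem_ker_iff q hq y).mp hy
  refine TrivSqZeroExt.ext ?_ ?_
  · rw [fst_mul, hx', zero_mul, fst_zero]
  · rw [snd_mul, hx', hy', zero_smul, MulOpposite.op_zero, zero_smul, add_zero, snd_zero]

theorem mul_inr (x : TrivSqZeroExt B N) (n : N) : x * inr n = inr (x.fst • n) := by
  refine TrivSqZeroExt.ext ?_ ?_
  · rw [fst_mul, fst_inr, fst_inr, mul_zero]
  · rw [snd_mul, fst_inr, snd_inr, snd_inr, MulOpposite.op_zero, zero_smul, add_zero]

section psi
variable {M : Type u} [AddCommGroup M] [Module B M] (i : M →ₗ[B] N) (hex : Function.Exact i q)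

/-- element of the kernel attached to `m : M` -/
def kerElt (m : M) : (P q hq).ker :=
  ⟨mk' q hq (inr (i m)) (by rw [snd_inr, fst_inr, hex.apply_apply_eq_zero, map_zero]), by
    rw [mem_ker_iff, val_mk', fst_inr]⟩

theorem val_kerElt (m : M) : val q hq (kerElt q hq i hex m).1 = inr (i m) := rfl

/-- `M → I/I²` -/
noncomputable def ψ : M →ₗ[B] (P q hq).Cotangent where
  toFun m := Algebra.Extension.Cotangent.mk (kerElt q hq i hex m)
  map_add' m₁ m₂ := by
    rw [← map_add]
    congr 1
    apply Subtype.ext
    apply val_injective q hq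
    show inr (i (m₁ + m₂)) = (inr (i m₁) + inr (i m₂) : TrivSqZeroExt B N)
    rw [map_add, inr_add]
  map_smul' b m := by
    obtain ⟨e, rfl⟩ := (P q hq).algebraMap_surjective b
    rw [RingHom.id_apply, algebraMap_smul B e
      (Algebra.Extension.Cotangent.mk (kerElt q hq i hex m)), ← map_smul]
    congr 1
    apply Subtype.ext
    apply val_injective q hq
    show inr (i (algebraMap (P q hq).Ring B e • m)) = val q hq e * inr (i m)
    rw [mul_inr, map_smul, fst_val]

theorem ψ_injective (hi : Function.Injective i) : Function.Injective (ψ q hq i hex) := by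
  rw [injective_iff_map_eq_zero]
  intro m hm
  have h1 : ((kerElt q hq i hex m).1 : (P q hq).Ring) ∈ (P q hq).ker ^ 2 :=
    (Algebra.Extension.Cotangent.mk_eq_zero_iff _).mp hm
  rw [ker_sq, Ideal.mem_bot] at h1
  have h2 : (inr (i m) : TrivSqZeroExt B N) = 0 := by
    rw [← val_kerElt q hq i hex m, h1, val_zero]
  have h3 : i m = 0 := by
    have := congrArg TrivSqZeroExt.snd h2
    rwa [snd_inr, snd_zero] at this
  exact hi (h3.trans (map_zero i).symm)

theorem ψ_surjective : Function.Surjective (ψ q hq i hex) := by
  intro c
  obtain ⟨x, rfl⟩ := Algebra.Extension.Cotangent.mk_surjective c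
  have hx : (val q hq x.1).fst = 0 := (mem_ker_iff q hq x.1).mp x.2
  have h0 : q (val q hq x.1).snd = 0 := by rw [val_mem, hx, map_zero]
  obtain ⟨m, hm⟩ := (hex _).mp h0
  refine ⟨m, ?_⟩
  show Algebra.Extension.Cotangent.mk (kerElt q hq i hex m) = _
  congr 1
  apply Subtype.ext
  apply val_injective q hq
  rw [val_kerElt]
  refine TrivSqZeroExt.ext ?_ ?_
  · rw [fst_inr, hx]
  · rw [snd_inr, hm]

end psi

section deriv
variable [Module A N] [IsScalarTower A B N]

/-- `N` as a module over the extension ring -/
@[reducible] noncomputable def modE : Module (P q hq).Ring N :=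
  Module.compHom N (algebraMap (P q hq).Ring B)

attribute [local instance] modE

theorem towerEB : IsScalarTower (P q hq).Ring B N :=
  IsScalarTower.of_algebraMap_smul fun _ _ => rfl

attribute [local instance] towerEB

theorem towerAE : IsScalarTower A (P q hq).Ring N :=
  IsScalarTower.of_algebraMap_smul fun a n => by
    show algebraMap (P q hq).Ring B (algebraMap A (P q hq).Ring a) • n = a • n
    rw [← IsScalarTower.algebraMap_apply, algebraMap_smul]

attribute [local instance] towerAE

/-- the second projection as a derivation -/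
noncomputable def δ : Derivation A (P q hq).Ring N where
  toLinearMap :=
    { toFun := fun x => (val q hq x).snd
      map_add' := fun x y => by rw [val_add, snd_add]
      map_smul' := fun a x => by
        rw [Algebra.smul_def, val_mul, val_algebraMap, RingHom.id_apply, snd_mul, snd_inl, fst_inl,
          smul_zero, add_zero, algebraMap_smul] }
  map_one_eq_zero' := by
    show (val q hq 1).snd = 0
    rw [val_one, snd_one]
  leibniz' x y := by
    show (val q hq (x * y)).snd = x • (val q hq y).snd + y • (val q hq x).snd
    rw [val_mul, snd_mul, op_smul_eq_smul]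
    rfl

theorem δ_apply (x : (P q hq).Ring) : δ q hq x = (val q hq x).snd := rfl

/-- the comparison map `B ⊗ Ω_E → N` -/
noncomputable def φ : (P q hq).CotangentSpace →ₗ[B] N :=
  LinearMap.liftBaseChange B (δ q hq).liftKaehlerDifferential

theorem φ_tmul_D (b : B) (x : (P q hq).Ring) :
    φ q hq (b ⊗ₜ KaehlerDifferential.D A _ x) = b • (val q hq x).snd := by
  show b • (δ q hq).liftKaehlerDifferential (KaehlerDifferential.D A _ x) = _
  rw [Derivation.liftKaehlerDifferential_comp_D, δ_apply]

theorem q_φ (y : (P q hq).CotangentSpace) : q (φ q hq y) = (P q hq).toKaehler y := by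
  induction y using TensorProduct.induction_on with
  | zero => rw [map_zero, map_zero, map_zero]
  | add y₁ y₂ h₁ h₂ => rw [map_add, map_add, map_add, h₁, h₂]
  | tmul b ω =>
    have hω : ω ∈ Submodule.span (P q hq).Ring
        (Set.range (KaehlerDifferential.D A (P q hq).Ring)) := by
      rw [KaehlerDifferential.span_range_derivation]; trivial
    induction hω using Submodule.span_induction generalizing b with
    | mem ω h =>
      obtain ⟨x, rfl⟩ := h
      rw [φ_tmul_D, map_smul, val_mem, KaehlerDifferential.mapBaseChange_tmul,
        KaehlerDifferential.map_D, fst_val]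
    | zero => rw [tmul_zero, map_zero, map_zero, map_zero]
    | add ω₁ ω₂ _ _ h₁ h₂ => rw [tmul_add, map_add, map_add, map_add, h₁, h₂]
    | smul e ω _ h =>
      rw [← TensorProduct.smul_tmul]
      exact h _

theorem φ_injective : Function.Injective (φ q hq) := by
  rw [injective_iff_map_eq_zero]
  intro y hy
  have h0 : (P q hq).toKaehler y = 0 := by rw [← q_φ, hy, map_zero]
  obtain ⟨c, rfl⟩ :=
    (Algebra.Extension.exact_cotangentComplex_toKaehler (P := P q hq) y).mp h0
  obtain ⟨x, rfl⟩ := Algebra.Extension.Cotangent.mk_surjective c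
  rw [Algebra.Extension.cotangentComplex_mk] at hy
  rw [φ_tmul_D, one_smul] at hy
  have hx : (val q hq x.1).fst = 0 := (mem_ker_iff q hq x.1).mp x.2
  have hx0 : x = 0 := by
    apply Subtype.ext
    apply val_injective q hq
    exact TrivSqZeroExt.ext hx hy
  rw [hx0, map_zero, map_zero]

theorem φ_surjective {M : Type u} [AddCommGroup M] [Module B M] (i : M →ₗ[B] N)
    (hex : Function.Exact i q) : Function.Surjective (φ q hq) := by
  intro n
  obtain ⟨y, hy⟩ := Algebra.Extension.toKaehler_surjective (P := P q hq) (q n)
  have h0 : q (n - φ q hq y) = 0 := by rw [map_sub, q_φ, hy, sub_self]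
  obtain ⟨m, hm⟩ := (hex _).mp h0
  refine ⟨y + 1 ⊗ₜ KaehlerDifferential.D A _ (kerElt q hq i hex m).1, ?_⟩
  rw [map_add, φ_tmul_D, one_smul, val_kerElt, snd_inr, hm, add_sub_cancel]

end deriv

end


/-- Let k be an algebraically closed field and A → B a map of finitely generated k-algebras with B
reduced and smooth over A at every minimal prime of B (the morphism Spec B → Spec A is smooth on a
dense open subset). Let M be a finitely generated projective B-module and 0 → M → N → Ω_{B/A} → 0 an
exact sequence of B-modules (i injective, q surjective, image of i = kernel of q). Then there is an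
A-algebra extension E → B with square-zero kernel, together with a B-linear identification of its
kernel with M and a B-linear isomorphism of B ⊗_E Ω_{E/A} with N, carrying the conormal map of the
extension to i and q to the canonical map B ⊗_E Ω_{E/A} → Ω_{B/A}. Together with the injectivity
statement for such conormal sequences this is the surjectivity half of the identification of Ex_A(B,
M) with Ext^1_B(Ω_{B/A}, M); affine case of the statement for algebraic schemes. The module N ranges
over the universe of B. -/
theorem result
    {k : Type u} [Field k] [IsAlgClosed k]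
    {A B : Type u} [CommRing A] [CommRing B] [Algebra k A] [Algebra k B] [Algebra A B]
    [IsScalarTower k A B] [Algebra.FiniteType k A] [Algebra.FiniteType k B] [IsReduced B]
    (hsm : ∀ p : PrimeSpectrum B, p.asIdeal ∈ minimalPrimes B → Algebra.IsSmoothAt A p.asIdeal)
    (M N : Type u) [AddCommGroup M] [Module B M] [Module.Finite B M] [Module.Projective B M]
    [AddCommGroup N] [Module B N]
    (i : M →ₗ[B] N) (q : N →ₗ[B] Ω[B⁄A]) (hi : Function.Injective i) (hq : Function.Surjective q)
    (hex : Function.Exact i q) :
    ∃ P : Algebra.Extension.{u} A B, P.ker ^ 2 = ⊥ ∧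
      ∃ (e₁ : P.Cotangent ≃ₗ[B] M) (e₂ : P.CotangentSpace ≃ₗ[B] N),
        (∀ x, e₂ (P.cotangentComplex x) = i (e₁ x)) ∧ (∀ y, q (e₂ y) = P.toKaehler y) := by
  classical
  letI : Module A N := Module.compHom N (algebraMap A B)
  haveI : IsScalarTower A B N := IsScalarTower.of_algebraMap_smul fun _ _ => rfl
  refine ⟨P q hq, ker_sq q hq,
    (LinearEquiv.ofBijective (ψ q hq i hex) ⟨ψ_injective q hq i hex hi, ψ_surjective q hq i hex⟩).symm,
    LinearEquiv.ofBijective (φ q hq) ⟨φ_injective q hq, φ_surjective q hq i hex⟩, ?_, ?_⟩
  · intro x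
    obtain ⟨m, rfl⟩ := ψ_surjective q hq i hex x
    have h1 : (LinearEquiv.ofBijective (ψ q hq i hex)
        ⟨ψ_injective q hq i hex hi, ψ_surjective q hq i hex⟩).symm (ψ q hq i hex m) = m :=
      LinearEquiv.symm_apply_apply _ m
    rw [h1]
    show φ q hq ((P q hq).cotangentComplex
      (Algebra.Extension.Cotangent.mk (kerElt q hq i hex m))) = i m
    rw [Algebra.Extension.cotangentComplex_mk, φ_tmul_D, one_smul, val_kerElt, snd_inr]
  · intro y
    exact q_φ q hq y

end Groth.Agent.S11285
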