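import Groth.Statements.S11286
import Mathlib
import Groth.Agent.S11284
-- import your own Groth.Agent.* helpers here

set_option autoImplicit false
universe u
open Deform

set_option linter.style.haveILetI false
set_option linter.unusedSectionVars false
set_option linter.unusedVariables false

namespace Groth.Agent.S11286

open TensorProduct

section
variable {A B : Type u} [CommRing A] [CommRing B] [Algebra A B]

theorem tmulD_mul (P : Algebra.Extension.{u} A B) (x x' : P.Ring) :
    (1 : B) ⊗ₜ[P.Ring] KaehlerDifferential.D A P.Ring (x * x') =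
      algebraMap P.Ring B x • ((1 : B) ⊗ₜ[P.Ring] KaehlerDifferential.D A P.Ring x') +
        algebraMap P.Ring B x' • ((1 : B) ⊗ₜ[P.Ring] KaehlerDifferential.D A P.Ring x) := by
  rw [Derivation.leibniz, tmul_add, tmul_smul, tmul_smul, algebraMap_smul, algebraMap_smul]

theorem tmulD_add (P : Algebra.Extension.{u} A B) (x x' : P.Ring) :
    (1 : B) ⊗ₜ[P.Ring] KaehlerDifferential.D A P.Ring (x + x') =
      (1 : B) ⊗ₜ[P.Ring] KaehlerDifferential.D A P.Ring x +
        (1 : B) ⊗ₜ[P.Ring] KaehlerDifferential.D A P.Ring x' := by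
  rw [map_add, tmul_add]

theorem tmulD_sub (P : Algebra.Extension.{u} A B) (x x' : P.Ring) :
    (1 : B) ⊗ₜ[P.Ring] KaehlerDifferential.D A P.Ring (x - x') =
      (1 : B) ⊗ₜ[P.Ring] KaehlerDifferential.D A P.Ring x -
        (1 : B) ⊗ₜ[P.Ring] KaehlerDifferential.D A P.Ring x' := by
  rw [map_sub, tmul_sub]

theorem tmulD_algebraMap (P : Algebra.Extension.{u} A B) (a : A) :
    (1 : B) ⊗ₜ[P.Ring] KaehlerDifferential.D A P.Ring (algebraMap A P.Ring a) = 0 := by
  rw [Derivation.map_algebraMap, tmul_zero]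

theorem toKaehler_tmulD (P : Algebra.Extension.{u} A B) (x : P.Ring) :
    P.toKaehler ((1 : B) ⊗ₜ[P.Ring] KaehlerDifferential.D A P.Ring x) =
      KaehlerDifferential.D A B (algebraMap P.Ring B x) := by
  rw [KaehlerDifferential.mapBaseChange_tmul, one_smul, KaehlerDifferential.map_D]

/-- an element of the extension ring is determined by its image in `B` and its differential,
and all compatible pairs occur -/
theorem exists_unique_lift (P' : Algebra.Extension.{u} A B) (hsq' : P'.ker ^ 2 = ⊥)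
    (hinj' : Function.Injective P'.cotangentComplex)
    (b : B) (ω : P'.CotangentSpace) (h : P'.toKaehler ω = KaehlerDifferential.D A B b) :
    ∃! y : P'.Ring, algebraMap P'.Ring B y = b ∧
      (1 : B) ⊗ₜ[P'.Ring] KaehlerDifferential.D A P'.Ring y = ω := by
  obtain ⟨y₀, hy₀⟩ := P'.algebraMap_surjective b
  have h0 : P'.toKaehler (ω - (1 : B) ⊗ₜ[P'.Ring] KaehlerDifferential.D A P'.Ring y₀) = 0 := by
    rw [map_sub, h, toKaehler_tmulD, hy₀, sub_self]
  obtain ⟨c, hc⟩ := (Algebra.Extension.exact_cotangentComplex_toKaehler (P := P') _).mp h0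
  obtain ⟨z, rfl⟩ := Algebra.Extension.Cotangent.mk_surjective c
  rw [Algebra.Extension.cotangentComplex_mk] at hc
  refine ⟨y₀ + z.1, ⟨?_, ?_⟩, ?_⟩
  · rw [map_add, hy₀, RingHom.mem_ker.mp z.2, add_zero]
  · rw [tmulD_add, hc, add_sub_cancel]
  · rintro y ⟨hy1, hy2⟩
    have hk : y - (y₀ + z.1) ∈ P'.ker := by
      rw [RingHom.mem_ker, map_sub, hy1, map_add, hy₀, RingHom.mem_ker.mp z.2, add_zero, sub_self]
    have hD : P'.cotangentComplex (Algebra.Extension.Cotangent.mk ⟨_, hk⟩) = 0 := by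
      rw [Algebra.Extension.cotangentComplex_mk]
      show (1 : B) ⊗ₜ[P'.Ring] KaehlerDifferential.D A P'.Ring (y - (y₀ + z.1)) = 0
      rw [tmulD_sub, hy2, tmulD_add, hc, add_sub_cancel, sub_self]
    have h3 := hinj' (hD.trans (map_zero _).symm)
    rw [Algebra.Extension.Cotangent.mk_eq_zero_iff, hsq', Ideal.mem_bot] at h3
    exact sub_eq_zero.mp h3

variable (P P' : Algebra.Extension.{u} A B)
variable (e₂ : P.CotangentSpace ≃ₗ[B] P'.CotangentSpace)

/-- the graph of the comparison map -/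
def Rel (x : P.Ring) (y : P'.Ring) : Prop :=
  algebraMap P'.Ring B y = algebraMap P.Ring B x ∧
    (1 : B) ⊗ₜ[P'.Ring] KaehlerDifferential.D A P'.Ring y =
      e₂ ((1 : B) ⊗ₜ[P.Ring] KaehlerDifferential.D A P.Ring x)

variable {P P' e₂}

theorem Rel.mul {x x' : P.Ring} {y y' : P'.Ring} (h : Rel P P' e₂ x y) (h' : Rel P P' e₂ x' y') :
    Rel P P' e₂ (x * x') (y * y') := by
  refine ⟨by rw [map_mul, map_mul, h.1, h'.1], ?_⟩
  rw [tmulD_mul, tmulD_mul, map_add, map_smul, map_smul, h.2, h'.2, h.1, h'.1]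

theorem Rel.add {x x' : P.Ring} {y y' : P'.Ring} (h : Rel P P' e₂ x y) (h' : Rel P P' e₂ x' y') :
    Rel P P' e₂ (x + x') (y + y') := by
  refine ⟨by rw [map_add, map_add, h.1, h'.1], ?_⟩
  rw [tmulD_add, tmulD_add, map_add, h.2, h'.2]

variable (P P' e₂)

theorem Rel.of_algebraMap (a : A) :
    Rel P P' e₂ (algebraMap A P.Ring a) (algebraMap A P'.Ring a) := by
  refine ⟨by rw [← IsScalarTower.algebraMap_apply, ← IsScalarTower.algebraMap_apply], ?_⟩
  rw [tmulD_algebraMap, tmulD_algebraMap, map_zero]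

variable (hsq' : P'.ker ^ 2 = ⊥) (hinj' : Function.Injective P'.cotangentComplex)
  (h₂ : ∀ y, P'.toKaehler (e₂ y) = P.toKaehler y)
include hsq' hinj' h₂

theorem exists_unique_rel (x : P.Ring) : ∃! y, Rel P P' e₂ x y :=
  exists_unique_lift P' hsq' hinj' (algebraMap P.Ring B x)
    (e₂ ((1 : B) ⊗ₜ[P.Ring] KaehlerDifferential.D A P.Ring x)) (by rw [h₂, toKaehler_tmulD])

/-- the comparison map -/
noncomputable def F (x : P.Ring) : P'.Ring :=
  (exists_unique_rel P P' e₂ hsq' hinj' h₂ x).exists.choose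

theorem F_spec (x : P.Ring) : Rel P P' e₂ x (F P P' e₂ hsq' hinj' h₂ x) :=
  (exists_unique_rel P P' e₂ hsq' hinj' h₂ x).exists.choose_spec

theorem F_eq {x : P.Ring} {y : P'.Ring} (h : Rel P P' e₂ x y) : F P P' e₂ hsq' hinj' h₂ x = y :=
  (exists_unique_rel P P' e₂ hsq' hinj' h₂ x).unique (F_spec P P' e₂ hsq' hinj' h₂ x) h

/-- the comparison map as a ring hom -/
noncomputable def FHom : P.Ring →+* P'.Ring where
  toFun := F P P' e₂ hsq' hinj' h₂
  map_one' := F_eq P P' e₂ hsq' hinj' h₂ (by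
    have h := Rel.of_algebraMap P P' e₂ (1 : A)
    rwa [map_one, map_one] at h)
  map_mul' x x' := F_eq P P' e₂ hsq' hinj' h₂
    (Rel.mul (F_spec P P' e₂ hsq' hinj' h₂ x) (F_spec P P' e₂ hsq' hinj' h₂ x'))
  map_zero' := F_eq P P' e₂ hsq' hinj' h₂ (by
    have h := Rel.of_algebraMap P P' e₂ (0 : A)
    rwa [map_zero, map_zero] at h)
  map_add' x x' := F_eq P P' e₂ hsq' hinj' h₂
    (Rel.add (F_spec P P' e₂ hsq' hinj' h₂ x) (F_spec P P' e₂ hsq' hinj' h₂ x'))

/-- the comparison map as a hom of extensions -/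
noncomputable def FExt : P.Hom P' where
  toRingHom := FHom P P' e₂ hsq' hinj' h₂
  toRingHom_algebraMap a := F_eq P P' e₂ hsq' hinj' h₂ (Rel.of_algebraMap P P' e₂ a)
  algebraMap_toRingHom x := (F_spec P P' e₂ hsq' hinj' h₂ x).1

theorem F_injective (hsq : P.ker ^ 2 = ⊥) (hinj : Function.Injective P.cotangentComplex) :
    Function.Injective (FHom P P' e₂ hsq' hinj' h₂) := by
  rw [injective_iff_map_eq_zero]
  intro x hx
  have hr : Rel P P' e₂ x 0 := by
    have h := F_spec P P' e₂ hsq' hinj' h₂ x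
    have hx' : F P P' e₂ hsq' hinj' h₂ x = 0 := hx
    rwa [hx'] at h
  have hk : x ∈ P.ker := by
    rw [RingHom.mem_ker, ← hr.1, map_zero]
  have h0 : (1 : B) ⊗ₜ[P.Ring] KaehlerDifferential.D A P.Ring x = 0 := by
    apply e₂.injective
    rw [← hr.2, map_zero, map_zero, tmul_zero]
  have hD : P.cotangentComplex (Algebra.Extension.Cotangent.mk ⟨x, hk⟩) = 0 := by
    rw [Algebra.Extension.cotangentComplex_mk]
    exact h0
  have h3 := hinj (hD.trans (map_zero _).symm)
  rw [Algebra.Extension.Cotangent.mk_eq_zero_iff, hsq, Ideal.mem_bot] at h3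
  exact h3

theorem F_surjective (hsq : P.ker ^ 2 = ⊥) (hinj : Function.Injective P.cotangentComplex) :
    Function.Surjective (FHom P P' e₂ hsq' hinj' h₂) := by
  intro y
  have hcompat : P.toKaehler (e₂.symm ((1 : B) ⊗ₜ[P'.Ring] KaehlerDifferential.D A P'.Ring y)) =
      KaehlerDifferential.D A B (algebraMap P'.Ring B y) := by
    rw [← h₂, e₂.apply_symm_apply, toKaehler_tmulD]
  obtain ⟨x, ⟨hx1, hx2⟩, -⟩ := exists_unique_lift P hsq hinj (algebraMap P'.Ring B y)
    (e₂.symm ((1 : B) ⊗ₜ[P'.Ring] KaehlerDifferential.D A P'.Ring y)) hcompat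
  refine ⟨x, F_eq P P' e₂ hsq' hinj' h₂ ⟨hx1.symm, ?_⟩⟩
  rw [hx2, e₂.apply_symm_apply]

theorem cotangent_map_eq (e₁ : P.Cotangent ≃ₗ[B] P'.Cotangent)
    (h₁ : ∀ x, e₂ (P.cotangentComplex x) = P'.cotangentComplex (e₁ x)) :
    Algebra.Extension.Cotangent.map (FExt P P' e₂ hsq' hinj' h₂) = e₁.toLinearMap := by
  refine LinearMap.ext fun c => ?_
  apply hinj'
  obtain ⟨z, rfl⟩ := Algebra.Extension.Cotangent.mk_surjective c
  rw [LinearEquiv.coe_coe, ← h₁, Algebra.Extension.cotangentComplex_mk,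
    Algebra.Extension.Cotangent.map_mk, Algebra.Extension.cotangentComplex_mk]
  exact (F_spec P P' e₂ hsq' hinj' h₂ z.1).2

end


/-- Let k be an algebraically closed field and A → B a map of finitely generated k-algebras with B
reduced and smooth over A at every minimal prime of B (the morphism Spec B → Spec A is smooth on a
dense open subset). Let E → B and E' → B be two A-algebra extensions with square-zero kernels I, I',
where I is a finitely generated projective B-module, and suppose their relative conormal sequences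
are isomorphic as extensions of Ω_{B/A}: there are B-linear isomorphisms I ≅ I' and B ⊗_E Ω_{E/A} ≅
B ⊗_{E'} Ω_{E'/A} commuting with the conormal maps and with the canonical maps to Ω_{B/A}. Then
there is a homomorphism of extensions E → E' (a ring map over A and over B) which is bijective and
induces the given isomorphism I ≅ I'. This is the injectivity half of the identification of Ex_A(B,
M) with Ext^1_B(Ω_{B/A}, M); affine case of the statement for algebraic schemes. -/
theorem result
    {k : Type u} [Field k] [IsAlgClosed k]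
    {A B : Type u} [CommRing A] [CommRing B] [Algebra k A] [Algebra k B] [Algebra A B]
    [IsScalarTower k A B] [Algebra.FiniteType k A] [Algebra.FiniteType k B] [IsReduced B]
    (hsm : ∀ p : PrimeSpectrum B, p.asIdeal ∈ minimalPrimes B → Algebra.IsSmoothAt A p.asIdeal)
    (P P' : Algebra.Extension.{u} A B) (hsq : P.ker ^ 2 = ⊥) (hsq' : P'.ker ^ 2 = ⊥)
    [Module.Finite B P.Cotangent] [Module.Projective B P.Cotangent]
    (e₁ : P.Cotangent ≃ₗ[B] P'.Cotangent) (e₂ : P.CotangentSpace ≃ₗ[B] P'.CotangentSpace)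
    (h₁ : ∀ x, e₂ (P.cotangentComplex x) = P'.cotangentComplex (e₁ x))
    (h₂ : ∀ y, P'.toKaehler (e₂ y) = P.toKaehler y) :
    ∃ f : P.Hom P', Function.Bijective f.toRingHom ∧
      Algebra.Extension.Cotangent.map f = e₁.toLinearMap := by
  have hinj : Function.Injective P.cotangentComplex :=
    Groth.Agent.S11284.result (k := k) hsm P hsq
  haveI : Module.Finite B P'.Cotangent := Module.Finite.equiv e₁
  haveI : Module.Projective B P'.Cotangent := Module.Projective.of_equiv e₁
  have hinj' : Function.Injective P'.cotangentComplex :=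
    Groth.Agent.S11284.result (k := k) hsm P' hsq'
  exact ⟨FExt P P' e₂ hsq' hinj' h₂,
    ⟨F_injective P P' e₂ hsq' hinj' h₂ hsq hinj, F_surjective P P' e₂ hsq' hinj' h₂ hsq hinj⟩,
    cotangent_map_eq P P' e₂ hsq' hinj' h₂ e₁ h₁⟩

end Groth.Agent.S11286
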