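import Groth.Statements.S11287
import Groth.Agent.H61.ExalPS

set_option autoImplicit false
universe u
open Deform

namespace Groth.Agent.S11287

/-- Let k be an algebraically closed field, Λ a complete local Noetherian k-algebra with residue field
k, P = Λ[[X_1, …, X_d]] the power series ring, J an ideal of P contained in (X_1, …, X_d)^2, R =
P/J, and L a simple R-module (a copy of the residue field k). Then: (a) for every Λ-extension 0 → L
→ E → R → 0 the quotient map P → R lifts to a Λ-algebra map u : P → E; (b) for two such extensions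
E, E' with lifts u, u', the extensions are equivalent if and only if u and u' send every element of
J to the images of the same element of L (the restrictions J → L of the lifts agree); (c) every
P-linear map J → L is the restriction of a lift for some extension. Thus the classes of Λ-extensions
of R by L correspond bijectively to Hom_P(J, L), the dual of J/m_P J; this is the identification of
the obstruction space o(R/Λ) for a complete R (the general case reduces to it by passing to the
completion). -/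
theorem result
    {k : Type u} [Field k] [IsAlgClosed k]
    {Λ : Type u} [CommRing Λ] [Algebra k Λ] [IsLocalRing Λ] [IsNoetherianRing Λ]
    [IsAdicComplete (IsLocalRing.maximalIdeal Λ) Λ]
    (hΛ : ∀ a : Λ, ∃ c : k, a - algebraMap k Λ c ∈ IsLocalRing.maximalIdeal Λ)
    (d : ℕ) (J : Ideal (MvPowerSeries (Fin d) Λ))
    (hJ : J ≤ Ideal.span (Set.range (MvPowerSeries.X : Fin d → MvPowerSeries (Fin d) Λ)) ^ 2)
    (L : Type u) [AddCommGroup L] [Module (MvPowerSeries (Fin d) Λ ⧸ J) L] [Module (MvPowerSeries (Fin d) Λ) L]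
    [IsScalarTower (MvPowerSeries (Fin d) Λ) (MvPowerSeries (Fin d) Λ ⧸ J) L] [IsSimpleModule (MvPowerSeries (Fin d) Λ ⧸ J) L] :
    (∀ X : Exal.Ext Λ (MvPowerSeries (Fin d) Λ ⧸ J) L,
        ∃ u : MvPowerSeries (Fin d) Λ →ₐ[Λ] X.E, ∀ p, X.proj (u p) = Ideal.Quotient.mk J p) ∧
    (∀ (X X' : Exal.Ext Λ (MvPowerSeries (Fin d) Λ ⧸ J) L) (u : MvPowerSeries (Fin d) Λ →ₐ[Λ] X.E) (u' : MvPowerSeries (Fin d) Λ →ₐ[Λ] X'.E),
        (∀ p, X.proj (u p) = Ideal.Quotient.mk J p) → (∀ p, X'.proj (u' p) = Ideal.Quotient.mk J p) →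
        (Nonempty (X.Equiv X') ↔ ∀ j ∈ J, ∃ z : L, X.incl z = u j ∧ X'.incl z = u' j)) ∧
    (∀ δ : J →ₗ[MvPowerSeries (Fin d) Λ] L, ∃ (X : Exal.Ext Λ (MvPowerSeries (Fin d) Λ ⧸ J) L) (u : MvPowerSeries (Fin d) Λ →ₐ[Λ] X.E),
        (∀ p, X.proj (u p) = Ideal.Quotient.mk J p) ∧ ∀ j : J, X.incl (δ j) = u j) := by
  classical
  have hspan_le : Ideal.span (Set.range (MvPowerSeries.X : Fin d → MvPowerSeries (Fin d) Λ)) ≤
      IsLocalRing.maximalIdeal (MvPowerSeries (Fin d) Λ) := Groth.Agent.H61.PS.span_X_le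
  have hJm : J ≤ IsLocalRing.maximalIdeal (MvPowerSeries (Fin d) Λ) :=
    hJ.trans ((Ideal.pow_le_self two_ne_zero).trans hspan_le)
  have hπ : Function.Surjective (algebraMap (MvPowerSeries (Fin d) Λ) (MvPowerSeries (Fin d) Λ ⧸ J)) :=
    Ideal.Quotient.mk_surjective
  have hker : RingHom.ker (algebraMap (MvPowerSeries (Fin d) Λ) (MvPowerSeries (Fin d) Λ ⧸ J)) = J := by
    rw [Ideal.Quotient.algebraMap_eq, Ideal.mk_ker]
  letI : Module Λ L := Module.compHom L (algebraMap Λ (MvPowerSeries (Fin d) Λ))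
  haveI : IsScalarTower Λ (MvPowerSeries (Fin d) Λ) L :=
    IsScalarTower.of_compHom Λ (MvPowerSeries (Fin d) Λ) L
  -- the maximal ideal of the power series ring kills `L`
  have hann : ∀ a ∈ IsLocalRing.maximalIdeal (MvPowerSeries (Fin d) Λ), ∀ z : L, a • z = 0 := by
    intro a ha z
    haveI : Nontrivial (MvPowerSeries (Fin d) Λ ⧸ J) :=
      Ideal.Quotient.nontrivial_iff.2 (fun h => (IsLocalRing.maximalIdeal.isMaximal _).ne_top
        (top_le_iff.1 (h ▸ hJm)))
    haveI : IsLocalRing (MvPowerSeries (Fin d) Λ ⧸ J) :=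
      IsLocalRing.of_surjective' (Ideal.Quotient.mk J) Ideal.Quotient.mk_surjective
    obtain ⟨I, hI, ⟨e⟩⟩ := (isSimpleModule_iff_quot_maximal (R := MvPowerSeries (Fin d) Λ ⧸ J)
      (M := L)).mp inferInstance
    have hIm : I = IsLocalRing.maximalIdeal (MvPowerSeries (Fin d) Λ ⧸ J) :=
      IsLocalRing.eq_maximalIdeal hI
    have ha' : Ideal.Quotient.mk J a ∈ I := by
      rw [hIm, ← IsLocalRing.map_maximalIdeal_of_surjective (Ideal.Quotient.mk J)
        Ideal.Quotient.mk_surjective]
      exact Ideal.mem_map_of_mem _ ha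
    rw [← algebraMap_smul (MvPowerSeries (Fin d) Λ ⧸ J) a z, Ideal.Quotient.algebraMap_eq]
    apply e.injective
    rw [map_smul, map_zero]
    obtain ⟨y, hy⟩ := Ideal.Quotient.mk_surjective (e z)
    have hsm : (Ideal.Quotient.mk J a) • (Ideal.Quotient.mk I y) =
        Ideal.Quotient.mk I (Ideal.Quotient.mk J a * y) := rfl
    rw [← hy, hsm, Ideal.Quotient.eq_zero_iff_mem]
    exact I.mul_mem_right _ ha'
  refine ⟨fun X => Groth.Agent.H61.ExalPS.exists_lift d J hJm L X, ?_, ?_⟩
  · intro X X' u u' hu hu'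
    constructor
    · rintro ⟨e⟩ j hj
      have hjk : j ∈ RingHom.ker (algebraMap (MvPowerSeries (Fin d) Λ) (MvPowerSeries (Fin d) Λ ⧸ J)) := by
        rw [hker]; exact hj
      refine ⟨Groth.Agent.H61.ExalLib.del X u hu ⟨j, hjk⟩,
        Groth.Agent.H61.ExalLib.incl_del X u hu ⟨j, hjk⟩, ?_⟩
      -- the two lifts `e ∘ u` and `u'` to `X'`
      have hu2 : ∀ r, X'.proj ((e.toAlgEquiv.toAlgHom.comp u) r) =
          algebraMap (MvPowerSeries (Fin d) Λ) (MvPowerSeries (Fin d) Λ ⧸ J) r := fun r => by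
        change X'.proj (e.toAlgEquiv (u r)) = _
        rw [e.proj_apply]
        exact hu r
      have h1 := Groth.Agent.H61.ExalLib.del_comp_equiv X u hu X' e ⟨j, hjk⟩
      have h2 := Groth.Agent.H61.ExalLib.del_sub_del X' (e.toAlgEquiv.toAlgHom.comp u) hu2 u' hu' ⟨j, hjk⟩
      -- the derivation vanishes on `J`
      have hD : ∀ D : Derivation Λ (MvPowerSeries (Fin d) Λ) L, D j = 0 := by
        intro D
        have hj2 := hJ hj
        rw [pow_two] at hj2
        refine Submodule.mul_induction_on hj2 ?_ ?_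
        · intro a ha b hb
          rw [Derivation.leibniz, hann a (hspan_le ha), hann b (hspan_le hb), add_zero]
        · intro a b ha hb
          rw [map_add, ha, hb, add_zero]
      rw [hD, sub_eq_zero] at h2
      rw [← h1, h2]
      exact Groth.Agent.H61.ExalLib.incl_del X' u' hu' ⟨j, hjk⟩
    · intro h
      refine Groth.Agent.H61.ExalLib.nonempty_equiv_of_del_eq X u hu hπ X' u' hu' (fun x => ?_)
      obtain ⟨z, hz1, hz2⟩ := h x (hker.le x.2)
      have e1 : Groth.Agent.H61.ExalLib.del X u hu x = z :=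
        X.isExtension.incl_injective (by rw [Groth.Agent.H61.ExalLib.incl_del, hz1])
      have e2 : Groth.Agent.H61.ExalLib.del X' u' hu' x = z :=
        X'.isExtension.incl_injective (by rw [Groth.Agent.H61.ExalLib.incl_del, hz2])
      rw [e1, e2]
  · intro δ
    let δ' : RingHom.ker (algebraMap (MvPowerSeries (Fin d) Λ) (MvPowerSeries (Fin d) Λ ⧸ J))
        →ₗ[MvPowerSeries (Fin d) Λ] L :=
      δ.comp (LinearEquiv.ofEq _ _ hker).toLinearMap
    refine ⟨Groth.Agent.H61.ExalLib.pushExt Λ δ' hπ, Groth.Agent.H61.ExalLib.pushLift Λ δ',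
      fun p => Groth.Agent.H61.ExalLib.proj_pushLift δ' hπ p, fun j => ?_⟩
    have := Groth.Agent.H61.ExalLib.incl_pushExt (A := Λ) δ' hπ ⟨j, hker.ge j.2⟩
    exact this

end Groth.Agent.S11287
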