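import Groth.Statements.S11288
import Mathlib.LinearAlgebra.Dual.Lemmas
-- import your own Groth.Agent.* helpers here

set_option autoImplicit false
universe u
open Deform

namespace Groth.Agent.S11288

/-- Let K be a field, R' a local Artinian K-algebra with residue field K, and t a nonzero element of the
maximal ideal m' of R' with m' t = 0, so that R' → R = R'/(t) is a small extension of R. Then the
extension is trivial, i.e. the projection admits a section which is a K-algebra map, if and only if
t is not in m'^2; equivalently, iff the surjection m'/m'^2 → m_R/m_R^2 induced on cotangent spaces,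
whose kernel is spanned by the class of t, is not bijective. For instance K[t]/(t^(n+1)) →
K[t]/(t^n) is a non-trivial small extension for n ≥ 2. (The published example allows any local
K-algebra with residue field K; the row takes R' Artinian, the case in which the subalgebra
generated by lifts of a basis of the cotangent space maps onto R.) -/
theorem result
    {K : Type u} [Field K]
    {R' : Type u} [CommRing R'] [Algebra K R'] [IsLocalRing R'] [IsArtinianRing R']
    (hres : ∀ a : R', ∃ c : K, a - algebraMap K R' c ∈ IsLocalRing.maximalIdeal R')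
    (t : R') (ht : t ∈ IsLocalRing.maximalIdeal R') (ht0 : t ≠ 0)
    (htm : ∀ a ∈ IsLocalRing.maximalIdeal R', a * t = 0) :
    (∃ s : (R' ⧸ Ideal.span {t}) →ₐ[K] R', ∀ x, Ideal.Quotient.mk (Ideal.span {t}) (s x) = x) ↔
      t ∉ IsLocalRing.maximalIdeal R' ^ 2 := by
  classical
  set m := IsLocalRing.maximalIdeal R' with hm
  have htt : t * t = 0 := htm t ht
  constructor
  · rintro ⟨s, hs⟩ htsq
    apply ht0
    -- ρ x = s (mk x)
    have hρ : ∀ x : R', ∃ u : R', s (Ideal.Quotient.mk (Ideal.span {t}) x) = x + u * t := by
      intro x
      have h1 : s (Ideal.Quotient.mk (Ideal.span {t}) x) - x ∈ Ideal.span {t} := by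
        rw [← Ideal.Quotient.eq_zero_iff_mem, map_sub, hs, sub_self]
      obtain ⟨u, hu⟩ := Ideal.mem_span_singleton'.mp h1
      exact ⟨u, by rw [hu]; ring⟩
    have hfix : ∀ x ∈ m ^ 2, s (Ideal.Quotient.mk (Ideal.span {t}) x) = x := by
      intro x hx
      rw [pow_two] at hx
      refine Submodule.smul_induction_on hx ?_ ?_
      · intro a ha b hb
        obtain ⟨u, hu⟩ := hρ a
        obtain ⟨v, hv⟩ := hρ b
        rw [smul_eq_mul, map_mul, map_mul, hu, hv]
        have e1 : a * t = 0 := htm a ha
        have e2 : b * t = 0 := htm b hb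
        calc (a + u * t) * (b + v * t) = a * b + v * (a * t) + u * (b * t) + u * v * (t * t) := by ring
          _ = a * b := by rw [e1, e2, htt]; ring
      · intro x y hx hy
        rw [map_add, map_add, hx, hy]
    have := hfix t htsq
    rw [Ideal.Quotient.eq_zero_iff_mem.mpr (Ideal.mem_span_singleton_self t), map_zero] at this
    exact this.symm
  · intro htsq
    have hKm : ∀ c : K, algebraMap K R' c ∈ m → c = 0 := by
      intro c hc
      by_contra hc0
      have : IsUnit (algebraMap K R' c) := (IsUnit.mk0 c hc0).map (algebraMap K R')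
      exact (IsLocalRing.mem_maximalIdeal _).mp hc this
    -- the subspace K + m^2
    let V : Submodule K R' := (m ^ 2).restrictScalars K ⊔ LinearMap.range (Algebra.linearMap K R')
    have htV : t ∉ V := by
      intro hV
      obtain ⟨μ, hμ, y, ⟨c, rfl⟩, hsum⟩ := Submodule.mem_sup.mp hV
      have hμ' : μ ∈ m ^ 2 := hμ
      have hμm : μ ∈ m := Ideal.pow_le_self two_ne_zero hμ'
      have hc : algebraMap K R' c ∈ m := by
        have : algebraMap K R' c = t - μ := by
          rw [← hsum]; simp
        rw [this]
        exact m.sub_mem ht hμm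
      have hc0 := hKm c hc
      rw [hc0] at hsum
      simp only [map_zero, add_zero] at hsum
      exact htsq (hsum ▸ hμ')
    obtain ⟨f, hft, hfV⟩ := Submodule.exists_dual_map_eq_bot_of_notMem htV inferInstance
    have hfV' : ∀ v ∈ V, f v = 0 := by
      intro v hv
      have : f v ∈ V.map f := Submodule.mem_map_of_mem hv
      rw [hfV] at this
      exact (Submodule.mem_bot K).mp this
    let l : R' →ₗ[K] K := (f t)⁻¹ • f
    have hlt : l t = 1 := by simp [l, hft]
    have hlK : ∀ c : K, l (algebraMap K R' c) = 0 := by
      intro c
      have : algebraMap K R' c ∈ V := Submodule.mem_sup_right ⟨c, rfl⟩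
      simp [l, hfV' _ this]
    have hlsq : ∀ μ ∈ m ^ 2, l μ = 0 := by
      intro μ hμ
      have : μ ∈ V := Submodule.mem_sup_left hμ
      simp [l, hfV' _ this]
    -- derivation property
    have hder : ∀ x y : R', ∀ c c' : K, x - algebraMap K R' c ∈ m → y - algebraMap K R' c' ∈ m →
        l (x * y) = c * l y + c' * l x := by
      intro x y c c' hx hy
      have hxy : x * y = algebraMap K R' (c * c') + c • (y - algebraMap K R' c') +
          c' • (x - algebraMap K R' c) + (x - algebraMap K R' c) * (y - algebraMap K R' c') := by
        rw [Algebra.smul_def, Algebra.smul_def, map_mul]; ring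
      have hmm : (x - algebraMap K R' c) * (y - algebraMap K R' c') ∈ m ^ 2 := by
        rw [pow_two]; exact Ideal.mul_mem_mul hx hy
      rw [hxy, map_add, map_add, map_add, hlK, hlsq _ hmm, map_smul, map_smul, map_sub, map_sub,
        hlK, hlK]
      simp
    have hxt : ∀ x : R', ∀ c : K, x - algebraMap K R' c ∈ m → x * t = c • t := by
      intro x c hx
      have := htm _ hx
      rw [sub_mul, sub_eq_zero] at this
      rw [this, Algebra.smul_def]
    let ρl : R' →ₗ[K] R' := LinearMap.id - l.smulRight t
    have hρl : ∀ x, ρl x = x - l x • t := fun x => by simp [ρl]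
    let ρ : R' →ₐ[K] R' := AlgHom.ofLinearMap ρl
      (by rw [hρl, ← map_one (algebraMap K R'), hlK, zero_smul, sub_zero])
      (by
        intro x y
        obtain ⟨c, hc⟩ := hres x
        obtain ⟨c', hc'⟩ := hres y
        rw [hρl, hρl, hρl, hder x y c c' hc hc']
        have e1 := hxt x c hc
        have e2 := hxt y c' hc'
        have e3 : t * y = c' • t := by rw [mul_comm]; exact e2
        calc x * y - (c * l y + c' * l x) • t
            = x * y - l y • (c • t) - l x • (c' • t) := by
              rw [add_smul, mul_smul, mul_smul, smul_comm c, smul_comm c']; abel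
          _ = x * y - l y • (x * t) - l x • (t * y) + (l x * l y) • (t * t) := by
              rw [e1, e3, htt]; simp
          _ = (x - l x • t) * (y - l y • t) := by
              simp only [Algebra.smul_def, map_mul]; ring)
    have hρ : ∀ x, ρ x = x - l x • t := fun x => hρl x
    have hρt : ρ t = 0 := by rw [hρ, hlt, one_smul, sub_self]
    have hker : ∀ a ∈ Ideal.span {t}, ρ a = 0 := by
      intro a ha
      obtain ⟨u, rfl⟩ := Ideal.mem_span_singleton'.mp ha
      rw [map_mul, hρt, mul_zero]
    refine ⟨Ideal.Quotient.liftₐ (Ideal.span {t}) ρ hker, ?_⟩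
    intro x
    obtain ⟨x, rfl⟩ := Ideal.Quotient.mk_surjective x
    rw [Ideal.Quotient.liftₐ_apply, Ideal.Quotient.lift_mk]
    change Ideal.Quotient.mk _ (ρ x) = _
    rw [hρ, map_sub, sub_eq_self, Ideal.Quotient.eq_zero_iff_mem]
    rw [Algebra.smul_def]
    exact Ideal.mul_mem_left _ _ (Ideal.mem_span_singleton_self t)

end Groth.Agent.S11288
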