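import Groth.Statements.S11294
-- import your own Groth.Agent.* helpers here

set_option autoImplicit false
universe u
open Deform

namespace Groth.Agent.S11294

open TrivSqZeroExt

variable {P : Type u} [CommRing P]

theorem mem_iff_pair (J' : Ideal (DualNumber P)) (x : DualNumber P) :
    x ∈ J' ↔ (inl x.fst + inr x.snd : DualNumber P) ∈ J' := by
  rw [inl_fst_add_inr_snd_eq]

theorem eps_mul_pair (a b : P) :
    (DualNumber.eps : DualNumber P) * (inl a + inr b) = inl 0 + inr a := by
  ext <;> simp [DualNumber.snd_mul]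

/-- the ideal attached to `φ` -/
def idealOf (J : Ideal P) (φ : J →ₗ[P] (P ⧸ J)) : Ideal (DualNumber P) where
  carrier := {x | ∃ h : x.fst ∈ J, Ideal.Quotient.mk J x.snd = φ ⟨x.fst, h⟩}
  add_mem' := by
    rintro x y ⟨hx, hx'⟩ ⟨hy, hy'⟩
    refine ⟨by simpa using J.add_mem hx hy, ?_⟩
    have : (⟨(x + y).fst, by simpa using J.add_mem hx hy⟩ : J) = ⟨x.fst, hx⟩ + ⟨y.fst, hy⟩ := by
      ext; simp
    rw [this, map_add, ← hx', ← hy']
    simp
  zero_mem' := by
    refine ⟨by simp, ?_⟩
    have : (⟨(0 : DualNumber P).fst, by simp⟩ : J) = 0 := by ext; simp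
    rw [this, map_zero]
    simp
  smul_mem' := by
    rintro c x ⟨hx, hx'⟩
    have h1 : (c • x).fst ∈ J := by
      simp only [smul_eq_mul, fst_mul]
      exact J.mul_mem_left _ hx
    refine ⟨h1, ?_⟩
    have : (⟨(c • x).fst, h1⟩ : J) = c.fst • ⟨x.fst, hx⟩ := by
      ext; simp
    rw [this, map_smul, ← hx']
    simp only [smul_eq_mul, DualNumber.snd_mul, map_add, map_mul]
    rw [Ideal.Quotient.eq_zero_iff_mem.mpr hx, mul_zero, add_zero]
    rfl

theorem mem_idealOf (J : Ideal P) (φ : J →ₗ[P] (P ⧸ J)) (a b : P) :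
    (inl a + inr b : DualNumber P) ∈ idealOf J φ ↔
      ∃ h : a ∈ J, Ideal.Quotient.mk J b = φ ⟨a, h⟩ := by
  change (∃ h : (inl a + inr b : DualNumber P).fst ∈ J,
    Ideal.Quotient.mk J (inl a + inr b : DualNumber P).snd = φ ⟨(inl a + inr b : DualNumber P).fst, h⟩) ↔ _
  have e1 : (inl a + inr b : DualNumber P).fst = a := by simp
  have e2 : (inl a + inr b : DualNumber P).snd = b := by simp
  constructor
  · rintro ⟨h, h'⟩
    refine ⟨e1 ▸ h, ?_⟩
    rw [e2] at h'
    rw [h']
    congr 1
    ext
    exact e1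
  · rintro ⟨h, h'⟩
    refine ⟨e1.symm ▸ h, ?_⟩
    rw [e2, h']
    congr 1
    ext
    exact e1.symm

theorem ideal_ext_of_pairs (J₁ J₂ : Ideal (DualNumber P))
    (h : ∀ a b : P, (inl a + inr b : DualNumber P) ∈ J₁ ↔ (inl a + inr b : DualNumber P) ∈ J₂) :
    J₁ = J₂ := by
  ext x
  rw [mem_iff_pair J₁, mem_iff_pair J₂]
  exact h _ _


open TrivSqZeroExt in
/-- Let P be a commutative ring, J an ideal, and P[ε] the ring of dual numbers over P. First-order
embedded deformations of Spec(P/J) in Spec P, namely ideals J' of P[ε] lifting J (the image of J'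
under ε ↦ 0 is J) with P[ε]/J' flat over the dual numbers — flatness being replaced by the condition
that every element of P[ε]/J' annihilated by ε is a multiple of ε (equivalent to flatness over k[ε]
when P is an algebra over a field k) — are in canonical bijection with Hom_P(J, P/J) =
Hom_{P/J}(J/J^2, P/J), the normal module: to φ corresponds the ideal of all a + εb with a in J and b
reducing to φ(a) modulo J. The first clause says this rule defines exactly one ideal for each φ; the
second says an ideal J' is a flat lift of J precisely when its membership is given by this rule for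
some φ. (The published statement is the global one, identifying first-order deformations of a closed
subscheme X of an algebraic scheme Y with H^0(X, N_{X/Y}); this row is the affine computation in its
proof, valid for every commutative ring P.) -/
theorem result (P : Type u) [CommRing P] (J : Ideal P) :
    (∀ φ : J →ₗ[P] (P ⧸ J), ∃! J' : Ideal (DualNumber P),
        ∀ a b : P, (inl a + inr b : DualNumber P) ∈ J' ↔ ∃ h : a ∈ J, Ideal.Quotient.mk J b = φ ⟨a, h⟩) ∧
    (∀ J' : Ideal (DualNumber P),
      (J'.map (TrivSqZeroExt.fstHom P P P) = J ∧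
        ∀ m : DualNumber P ⧸ J', Ideal.Quotient.mk J' DualNumber.eps * m = 0 →
          ∃ m' : DualNumber P ⧸ J', m = Ideal.Quotient.mk J' DualNumber.eps * m') ↔
      ∃ φ : J →ₗ[P] (P ⧸ J), ∀ a b : P,
        (inl a + inr b : DualNumber P) ∈ J' ↔ ∃ h : a ∈ J, Ideal.Quotient.mk J b = φ ⟨a, h⟩) := by
  refine ⟨fun φ => ⟨idealOf J φ, mem_idealOf J φ, fun J'' h'' => ?_⟩, fun J' => ⟨?_, ?_⟩⟩
  · apply ideal_ext_of_pairs
    intro a b
    rw [h'' a b, mem_idealOf]
  · rintro ⟨hmap, hflat⟩
    -- image description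
    have hsurj : Function.Surjective (TrivSqZeroExt.fstHom P P P) := fun a => ⟨inl a, by simp⟩
    have himg : ∀ a : P, a ∈ J ↔ ∃ b : P, (inl a + inr b : DualNumber P) ∈ J' := by
      intro a
      rw [← hmap, Ideal.mem_map_iff_of_surjective _ hsurj]
      constructor
      · rintro ⟨x, hx, rfl⟩
        refine ⟨x.snd, ?_⟩
        rw [fstHom_apply, ← mem_iff_pair]
        exact hx
      · rintro ⟨b, hb⟩
        exact ⟨_, hb, by simp⟩
    have hzero : ∀ c : P, (inl 0 + inr c : DualNumber P) ∈ J' ↔ c ∈ J := by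
      intro c
      constructor
      · intro hc
        have h1 : Ideal.Quotient.mk J' DualNumber.eps * Ideal.Quotient.mk J' (inl c + inr 0) = 0 := by
          rw [← map_mul, eps_mul_pair, Ideal.Quotient.eq_zero_iff_mem]
          exact hc
        obtain ⟨m', hm'⟩ := hflat _ h1
        obtain ⟨y, rfl⟩ := Ideal.Quotient.mk_surjective m'
        rw [← map_mul, ← sub_eq_zero, ← map_sub, Ideal.Quotient.eq_zero_iff_mem] at hm'
        rw [himg]
        refine ⟨-y.fst, ?_⟩
        convert hm' using 1
        ext <;> simp [DualNumber.snd_mul]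
      · intro hc
        obtain ⟨d, hd⟩ := (himg c).mp hc
        have := J'.mul_mem_left DualNumber.eps hd
        rwa [eps_mul_pair] at this
    choose! β hβ using fun a => (himg a).mp
    have hwd : ∀ a b b', (inl a + inr b : DualNumber P) ∈ J' → (inl a + inr b' : DualNumber P) ∈ J' →
        Ideal.Quotient.mk J b = Ideal.Quotient.mk J b' := by
      intro a b b' hb hb'
      rw [← sub_eq_zero, ← map_sub, Ideal.Quotient.eq_zero_iff_mem, ← hzero]
      convert J'.sub_mem hb hb' using 1
      ext <;> simp
    let φ : J →ₗ[P] (P ⧸ J) :=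
      { toFun := fun a => Ideal.Quotient.mk J (β a.1)
        map_add' := by
          intro a a'
          apply hwd (a.1 + a'.1) _ _ (hβ _ (J.add_mem a.2 a'.2))
          convert J'.add_mem (hβ _ a.2) (hβ _ a'.2) using 1
          ext <;> simp
        map_smul' := by
          intro r a
          simp only [RingHom.id_apply]
          change Ideal.Quotient.mk J (β (r * a.1)) = Ideal.Quotient.mk J (r * β a.1)
          apply hwd (r * a.1) _ _ (hβ _ (J.mul_mem_left r a.2))
          convert J'.mul_mem_left (inl r) (hβ _ a.2) using 1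
          ext <;> simp [DualNumber.snd_mul] }
    refine ⟨φ, fun a b => ⟨fun hab => ?_, ?_⟩⟩
    · have ha : a ∈ J := (himg a).mpr ⟨b, hab⟩
      exact ⟨ha, hwd a b _ hab (hβ a ha)⟩
    · rintro ⟨ha, hb⟩
      have h1 := hβ a ha
      have h2 : b - β a ∈ J := by
        rw [← Ideal.Quotient.eq_zero_iff_mem, map_sub, sub_eq_zero]
        exact hb
      have h3 := (hzero _).mpr h2
      convert J'.add_mem h1 h3 using 1
      ext <;> simp
  · rintro ⟨φ, hφ⟩
    have hsurj : Function.Surjective (TrivSqZeroExt.fstHom P P P) := fun a => ⟨inl a, by simp⟩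
    constructor
    · ext a
      rw [Ideal.mem_map_iff_of_surjective _ hsurj]
      constructor
      · rintro ⟨x, hx, rfl⟩
        rw [mem_iff_pair, hφ] at hx
        exact hx.1
      · intro ha
        obtain ⟨b, hb⟩ := Ideal.Quotient.mk_surjective (φ ⟨a, ha⟩)
        exact ⟨inl a + inr b, (hφ a b).mpr ⟨ha, hb⟩, by simp⟩
    · intro m hm
      obtain ⟨x, rfl⟩ := Ideal.Quotient.mk_surjective m
      rw [← map_mul, Ideal.Quotient.eq_zero_iff_mem, ← inl_fst_add_inr_snd_eq x, eps_mul_pair, hφ] at hm
      obtain ⟨_, hm2⟩ := hm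
      have h0 : (⟨(0 : P), J.zero_mem⟩ : J) = 0 := rfl
      rw [h0, map_zero, Ideal.Quotient.eq_zero_iff_mem] at hm2
      obtain ⟨b, hb⟩ := Ideal.Quotient.mk_surjective (φ ⟨x.fst, hm2⟩)
      refine ⟨Ideal.Quotient.mk J' (inl (x.snd - b)), ?_⟩
      rw [← map_mul, ← sub_eq_zero, ← map_sub, Ideal.Quotient.eq_zero_iff_mem]
      have : x - DualNumber.eps * inl (x.snd - b) = inl x.fst + inr b := by
        ext <;> simp [DualNumber.snd_mul]
      rw [this, hφ]
      exact ⟨hm2, hb⟩

end Groth.Agent.S11294
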