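import Groth.Statements.S11298
import Groth.Agent.H26.DepthLib

set_option autoImplicit false
universe u v
open LocCoh

namespace Groth.Agent.S11298

/-- Let X = Spec B be an affine Noetherian scheme, Z = V(I) a closed subscheme and G a coherent sheaf,
i.e. a finitely generated B-module M, with dual G^v = Hom_B(M, B). If depth_Z(O_X) ≥ 2 then
depth_Z(G^v) ≥ 2. Here the depth along I of a module N is the supremum of the lengths of N-regular
sequences contained in I (and is infinite when I N = N). (The published statement adds that sections
of the dual over X and over X minus Z agree; this row omits that clause.) -/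
theorem result (B : Type u) [CommRing B] [IsNoetherianRing B]
    (I : Ideal B) (M : Type v) [AddCommGroup M] [Module B M] [Module.Finite B M]
    (h : 2 ≤ LocCoh.idealDepth I B) : 2 ≤ LocCoh.idealDepth I (M →ₗ[B] B) := by
  by_cases hI : I • (⊤ : Submodule B B) = ⊤
  · have hI' : I = ⊤ := by simpa using hI
    have h1 : I • (⊤ : Submodule B (M →ₗ[B] B)) = ⊤ := by
      rw [hI']
      exact Submodule.top_smul ⊤
    rw [Groth.Agent.H26.DepthLib.idealDepth_eq_top_of_smul_top I h1]
    exact le_top
  · obtain ⟨rs, hlen, hreg, hmem⟩ := Groth.Agent.H26.DepthLib.exists_of_le_idealDepth I 2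
      (by exact_mod_cast h) hI
    obtain ⟨x, y, rfl⟩ := List.length_eq_two.1 hlen
    have h2 := Groth.Agent.H26.DepthLib.isWeaklyRegular_hom_pair (M := M) hreg
    have h3 := Groth.Agent.H26.DepthLib.length_le_idealDepth I h2 hmem
    exact_mod_cast h3

end Groth.Agent.S11298
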