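import Groth.Statements.S11299
import Mathlib
-- import your own Groth.Agent.* helpers here

set_option autoImplicit false
universe u
open CAlg

set_option linter.style.haveILetI false
set_option linter.unusedSectionVars false
set_option linter.unusedVariables false

namespace Groth.Agent.S11299

section
variable {P : Type u} [CommRing P] (J : Ideal P)
variable {F : Type u} [AddCommGroup F] [Module P F] {F' : Type u} [AddCommGroup F'] [Module P F']

/-- trivial relations -/
abbrev tr (j : F →ₗ[P] P) : Submodule P F :=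
  Submodule.span P {y : F | ∃ u v : F, y = j u • v - j v • u}

/-- trivial relations inside the relation module -/
abbrev Rtr (j : F →ₗ[P] P) : Submodule P ↥(LinearMap.ker j) :=
  Submodule.comap (LinearMap.ker j).subtype (tr j)

/-- restriction of linear forms to the relation module -/
abbrev res (j : F →ₗ[P] P) : (F →ₗ[P] P ⧸ J) →ₗ[P] (↥(LinearMap.ker j) →ₗ[P] P ⧸ J) :=
  LinearMap.lcomp P (P ⧸ J) (LinearMap.ker j).subtype

/-- forms on relations vanishing on trivial relations -/
abbrev K (j : F →ₗ[P] P) : Submodule P (↥(LinearMap.ker j) →ₗ[P] P ⧸ J) :=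
  LinearMap.ker (LinearMap.lcomp P (P ⧸ J) (Rtr j).subtype)

/-- the second cotangent module of a presentation -/
abbrev T2 (j : F →ₗ[P] P) :
    Submodule P ((↥(LinearMap.ker j) →ₗ[P] P ⧸ J) ⧸ LinearMap.range (res J j)) :=
  Submodule.map (LinearMap.range (res J j)).mkQ (K J j)

variable {j : F →ₗ[P] P} {j' : F' →ₗ[P] P}

theorem mem_K {ψ : ↥(LinearMap.ker j) →ₗ[P] P ⧸ J} :
    ψ ∈ K J j ↔ ∀ r : ↥(LinearMap.ker j), r.1 ∈ tr j → ψ r = 0 := by
  constructor
  · intro h r hr
    have h1 : (LinearMap.lcomp P (P ⧸ J) (Rtr j).subtype) ψ = 0 := h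
    exact LinearMap.congr_fun h1 ⟨r, hr⟩
  · intro h
    refine LinearMap.ext fun r => ?_
    exact h r.1 r.2

section pull
variable (α : F →ₗ[P] F') (hα : ∀ x, j' (α x) = j x)

include hα in
theorem α_mem_ker {x : F} (hx : x ∈ LinearMap.ker j) : α x ∈ LinearMap.ker j' := by
  rw [LinearMap.mem_ker, hα]; exact hx

include hα in
theorem α_mem_tr {x : F} (hx : x ∈ tr j) : α x ∈ tr j' := by
  refine Submodule.span_induction (p := fun x _ => α x ∈ tr j') ?_ ?_ ?_ ?_ hx
  · rintro _ ⟨u, v, rfl⟩
    refine Submodule.subset_span ⟨α u, α v, ?_⟩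
    rw [map_sub, map_smul, map_smul, hα, hα]
  · rw [map_zero]; exact Submodule.zero_mem _
  · intro x y _ _ h1 h2
    rw [map_add]; exact Submodule.add_mem _ h1 h2
  · intro c x _ h1
    rw [map_smul]; exact Submodule.smul_mem _ c h1

/-- restriction of `α` to relation modules -/
def αR : ↥(LinearMap.ker j) →ₗ[P] ↥(LinearMap.ker j') :=
  α.restrict (fun _ hx => α_mem_ker α hα hx)

theorem αR_val (r : ↥(LinearMap.ker j)) : (αR α hα r).1 = α r.1 := rfl

/-- pullback of forms -/
abbrev pull : (↥(LinearMap.ker j') →ₗ[P] P ⧸ J) →ₗ[P] (↥(LinearMap.ker j) →ₗ[P] P ⧸ J) :=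
  LinearMap.lcomp P (P ⧸ J) (αR α hα)

theorem pull_apply (ψ : ↥(LinearMap.ker j') →ₗ[P] P ⧸ J) (r : ↥(LinearMap.ker j)) :
    pull J α hα ψ r = ψ (αR α hα r) := rfl

theorem pull_range_le :
    LinearMap.range (res J j') ≤ Submodule.comap (pull J α hα) (LinearMap.range (res J j)) := by
  rintro _ ⟨χ, rfl⟩
  exact ⟨χ ∘ₗ α, rfl⟩

/-- pullback on quotients -/
def pullQ : ((↥(LinearMap.ker j') →ₗ[P] P ⧸ J) ⧸ LinearMap.range (res J j')) →ₗ[P]
    ((↥(LinearMap.ker j) →ₗ[P] P ⧸ J) ⧸ LinearMap.range (res J j)) :=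
  Submodule.mapQ _ _ (pull J α hα) (pull_range_le J α hα)

theorem pullQ_mk (ψ : ↥(LinearMap.ker j') →ₗ[P] P ⧸ J) :
    pullQ J α hα (Submodule.Quotient.mk ψ) = Submodule.Quotient.mk (pull J α hα ψ) := rfl

theorem pull_mem_K {ψ : ↥(LinearMap.ker j') →ₗ[P] P ⧸ J} (hψ : ψ ∈ K J j') :
    pull J α hα ψ ∈ K J j := by
  rw [mem_K] at hψ ⊢
  intro r hr
  rw [pull_apply]
  exact hψ _ (α_mem_tr α hα hr)

theorem pullQ_mem_T2 {x : (↥(LinearMap.ker j') →ₗ[P] P ⧸ J) ⧸ LinearMap.range (res J j')}
    (hx : x ∈ T2 J j') : pullQ J α hα x ∈ T2 J j := by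
  obtain ⟨ψ, hψ, rfl⟩ := hx
  exact ⟨pull J α hα ψ, pull_mem_K J α hα hψ, rfl⟩

/-- pullback on second cotangent modules -/
def pullT : ↥(T2 J j') →ₗ[P] ↥(T2 J j) :=
  (pullQ J α hα).restrict (fun _ hx => pullQ_mem_T2 J α hα hx)

theorem pullT_val (x : ↥(T2 J j')) : (pullT J α hα x).1 = pullQ J α hα x.1 := rfl

end pull

theorem pullT_pullT (α : F →ₗ[P] F') (hα : ∀ x, j' (α x) = j x)
    (β : F' →ₗ[P] F) (hβ : ∀ x, j (β x) = j' x) (x : ↥(T2 J j)) :
    pullT J α hα (pullT J β hβ x) = x := by
  obtain ⟨_, ψ, hψ, rfl⟩ := x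
  apply Subtype.ext
  rw [pullT_val, pullT_val]
  show pullQ J α hα (pullQ J β hβ (Submodule.Quotient.mk ψ)) = Submodule.Quotient.mk ψ
  rw [pullQ_mk, pullQ_mk, Submodule.Quotient.eq]
  have hγ : ∀ x : F, β (α x) - x ∈ LinearMap.ker j := by
    intro x
    rw [LinearMap.mem_ker, map_sub, hβ, hα, sub_self]
  let γ : F →ₗ[P] ↥(LinearMap.ker j) :=
    LinearMap.codRestrict (LinearMap.ker j) (β ∘ₗ α - LinearMap.id) hγ
  refine ⟨ψ ∘ₗ γ, ?_⟩
  refine LinearMap.ext fun r => ?_
  show ψ (γ r.1) = ψ (αR β hβ (αR α hα r)) - ψ r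
  rw [← map_sub]
  congr 1

end


/-- The second cotangent module does not depend on the presentation: let P be a commutative ring, J an
ideal and B = P/J. For a presentation of J, i.e. a finitely generated free P-module F with a
P-linear map j : F → P with image J, let R = ker j be the relation module and R^tr ⊆ R the span of
the trivial relations j(u) • v - j(v) • u; the module T^2 of the presentation is the quotient of
Hom_B(R/R^tr, B), realised as the P-linear maps R → P/J vanishing on R^tr, by the restrictions to R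
of the P-linear maps F → P/J (here: the image of that submodule in the quotient of Hom_P(R, P/J) by
the restrictions). Then for two presentations (F, j) and (F', j') of the same ideal J the two
modules T^2 are isomorphic as P-modules (existence of an isomorphism; the comparison maps depend on
expressing one system of generators through the other). (The published statement takes B essentially
of finite type over a field and P smooth; this row allows any commutative ring P and ideal J.) -/
theorem result (P : Type u) [CommRing P] (J : Ideal P)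
    (F : Type u) [AddCommGroup F] [Module P F] [Module.Free P F] [Module.Finite P F]
    (F' : Type u) [AddCommGroup F'] [Module P F'] [Module.Free P F'] [Module.Finite P F']
    (j : F →ₗ[P] P) (j' : F' →ₗ[P] P) (hj : LinearMap.range j = J) (hj' : LinearMap.range j' = J) :
    Nonempty (↥(Submodule.map
          (LinearMap.range (LinearMap.lcomp P (P ⧸ J) (LinearMap.ker j).subtype)).mkQ
          (LinearMap.ker (LinearMap.lcomp P (P ⧸ J)
            (Submodule.comap (LinearMap.ker j).subtype
              (Submodule.span P {y : F | ∃ u v : F, y = j u • v - j v • u})).subtype))) ≃ₗ[P]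
      ↥(Submodule.map
          (LinearMap.range (LinearMap.lcomp P (P ⧸ J) (LinearMap.ker j').subtype)).mkQ
          (LinearMap.ker (LinearMap.lcomp P (P ⧸ J)
            (Submodule.comap (LinearMap.ker j').subtype
              (Submodule.span P {y : F' | ∃ u v : F', y = j' u • v - j' v • u})).subtype)))) := by
  classical
  -- lifts between the two presentations
  have hsurj : ∀ (G : Type u) [AddCommGroup G] [Module P G] (g : G →ₗ[P] P)
      (hg : LinearMap.range g = J), ∀ y : ↥J, ∃ x : G, g x = y.1 := by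
    intro G _ _ g hg y
    have : y.1 ∈ LinearMap.range g := by rw [hg]; exact y.2
    exact this
  let jJ : F →ₗ[P] ↥J := LinearMap.codRestrict J j (fun x => by rw [← hj]; exact ⟨x, rfl⟩)
  let jJ' : F' →ₗ[P] ↥J := LinearMap.codRestrict J j' (fun x => by rw [← hj']; exact ⟨x, rfl⟩)
  have hjJ : Function.Surjective jJ := fun y => by
    obtain ⟨x, hx⟩ := hsurj F j hj y
    exact ⟨x, Subtype.ext hx⟩
  have hjJ' : Function.Surjective jJ' := fun y => by
    obtain ⟨x, hx⟩ := hsurj F' j' hj' y
    exact ⟨x, Subtype.ext hx⟩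
  obtain ⟨α, hα⟩ := Module.projective_lifting_property jJ' jJ hjJ'
  obtain ⟨β, hβ⟩ := Module.projective_lifting_property jJ jJ' hjJ
  have hα' : ∀ x, j' (α x) = j x := fun x => congrArg Subtype.val (LinearMap.congr_fun hα x)
  have hβ' : ∀ x, j (β x) = j' x := fun x => congrArg Subtype.val (LinearMap.congr_fun hβ x)
  exact ⟨LinearEquiv.ofLinear (pullT J β hβ') (pullT J α hα')
    (LinearMap.ext fun x => pullT_pullT J β hβ' α hα' x)
    (LinearMap.ext fun x => pullT_pullT J α hα' β hβ' x)⟩

end Groth.Agent.S11299
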