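import Groth.Statements.S11302
import Mathlib
-- import your own Groth.Agent.* helpers here

set_option autoImplicit false
universe u
open Deform

set_option linter.style.haveILetI false
set_option linter.unusedSectionVars false
set_option linter.unusedVariables false

namespace Groth.Agent.S11302

open MvPolynomial

section regular
variable {R : Type u} [CommRing R]

theorem ofList_ofFn {n : ℕ} (f : Fin n → R) :
    Ideal.ofList (List.ofFn f) = Ideal.span (Set.range f) := by
  show Ideal.span {r | r ∈ List.ofFn f} = Ideal.span (Set.range f)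
  congr 1
  ext r
  exact List.mem_ofFn' f r

/-- relations among a weakly regular sequence have coefficients in the ideal -/
theorem coeff_mem_of_sum_eq_zero : ∀ (n : ℕ) (f : Fin n → R),
    RingTheory.Sequence.IsWeaklyRegular R (List.ofFn f) →
    ∀ c : Fin n → R, ∑ i, c i * f i = 0 → ∀ i, c i ∈ Ideal.span (Set.range f) := by
  intro n
  induction n with
  | zero => intro f _ c _ i; exact i.elim0
  | succ n ih =>
    intro f hreg c hc
    obtain ⟨f', hf'⟩ : ∃ f' : Fin n → R, ∀ i, f' i = f (Fin.castSucc i) := ⟨_, fun _ => rfl⟩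
    have hf'' : (fun i => f (Fin.castSucc i)) = f' := funext fun i => (hf' i).symm
    have hlist : List.ofFn f = List.ofFn f' ++ [f (Fin.last n)] := by
      rw [List.ofFn_succ', List.concat_eq_append, hf'']
    rw [hlist, RingTheory.Sequence.isWeaklyRegular_append_iff] at hreg
    obtain ⟨hreg', hlast⟩ := hreg
    rw [RingTheory.Sequence.isWeaklyRegular_singleton_iff] at hlast
    have hJ' : (Ideal.ofList (List.ofFn f') • ⊤ : Submodule R R) = Ideal.span (Set.range f') := by
      rw [ofList_ofFn, smul_eq_mul, Ideal.mul_top]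
    have key : ∀ x : R, f (Fin.last n) * x ∈ Ideal.span (Set.range f') →
        x ∈ Ideal.span (Set.range f') := by
      intro x hx
      have h1 : f (Fin.last n) • (Submodule.Quotient.mk x :
          R ⧸ (Ideal.ofList (List.ofFn f') • ⊤ : Submodule R R)) = f (Fin.last n) • 0 := by
        rw [smul_zero, ← Submodule.Quotient.mk_smul, Submodule.Quotient.mk_eq_zero, hJ',
          smul_eq_mul]
        exact hx
      have h2 := hlast h1
      rw [Submodule.Quotient.mk_eq_zero, hJ'] at h2
      exact h2
    rw [Fin.sum_univ_castSucc] at hc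
    simp only [← hf'] at hc
    have hmem : ∀ i, f' i ∈ Ideal.span (Set.range f') := fun i => Ideal.subset_span ⟨i, rfl⟩
    have h1 : f (Fin.last n) * c (Fin.last n) ∈ Ideal.span (Set.range f') := by
      have : f (Fin.last n) * c (Fin.last n) = -∑ i : Fin n, c (Fin.castSucc i) * f' i := by
        linear_combination hc
      rw [this]
      exact neg_mem (Ideal.sum_mem _ fun i _ => Ideal.mul_mem_left _ _ (hmem i))
    have h2 := key _ h1
    obtain ⟨a, ha⟩ := Ideal.mem_span_range_iff_exists_fun.mp h2
    have h3 : ∑ i : Fin n, (c (Fin.castSucc i) + a i * f (Fin.last n)) * f' i = 0 := by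
      simp only [add_mul, Finset.sum_add_distrib]
      have : ∑ i : Fin n, a i * f (Fin.last n) * f' i = (∑ i, a i * f' i) * f (Fin.last n) := by
        rw [Finset.sum_mul]
        exact Finset.sum_congr rfl fun i _ => by ring
      rw [this, ha]
      exact hc
    have h4 := ih f' hreg' _ h3
    have hle : Ideal.span (Set.range f') ≤ Ideal.span (Set.range f) :=
      Ideal.span_mono (by rintro _ ⟨i, rfl⟩; exact ⟨Fin.castSucc i, (hf' i).symm⟩)
    intro i
    refine Fin.lastCases ?_ (fun i => ?_) i
    · exact hle h2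
    · have h5 : c (Fin.castSucc i) =
          (c (Fin.castSucc i) + a i * f (Fin.last n)) - a i * f (Fin.last n) := by ring
      rw [h5]
      exact sub_mem (hle (h4 i))
        (Ideal.mul_mem_left _ _ (Ideal.subset_span ⟨Fin.last n, rfl⟩))

end regular

section main
variable (k : Type u) [Field k] (d n : ℕ) (f : Fin n → MvPolynomial (Fin d) k)

theorem smul_quot (p : MvPolynomial (Fin d) k)
    (b : MvPolynomial (Fin d) k ⧸ Ideal.span (Set.range f)) :
    p • b = Ideal.Quotient.mk (Ideal.span (Set.range f)) p * b := by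
  obtain ⟨b', rfl⟩ := Ideal.Quotient.mk_surjective b
  rfl

theorem smul_quot_eq_zero {p : MvPolynomial (Fin d) k} (hp : p ∈ Ideal.span (Set.range f))
    (b : MvPolynomial (Fin d) k ⧸ Ideal.span (Set.range f)) : p • b = 0 := by
  rw [smul_quot, Ideal.Quotient.eq_zero_iff_mem.mpr hp, zero_mul]

/-- evaluation on the generators -/
noncomputable def Φ : (↥(Ideal.span (Set.range f)) →ₗ[MvPolynomial (Fin d) k]
      (MvPolynomial (Fin d) k ⧸ Ideal.span (Set.range f))) →ₗ[MvPolynomial (Fin d) k]
    (Fin n → MvPolynomial (Fin d) k ⧸ Ideal.span (Set.range f)) where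
  toFun φ i := φ ⟨f i, Ideal.subset_span (Set.mem_range_self i)⟩
  map_add' φ ψ := rfl
  map_smul' c φ := rfl

theorem Φ_apply (φ : ↥(Ideal.span (Set.range f)) →ₗ[MvPolynomial (Fin d) k]
      (MvPolynomial (Fin d) k ⧸ Ideal.span (Set.range f))) (i : Fin n) :
    Φ k d n f φ i = φ ⟨f i, Ideal.subset_span (Set.mem_range_self i)⟩ := rfl

theorem Φ_injective : Function.Injective (Φ k d n f) := by
  rw [injective_iff_map_eq_zero]
  intro φ hφ
  refine LinearMap.ext fun a => ?_
  obtain ⟨a, ha⟩ := a
  refine Submodule.span_induction (p := fun x hx => φ ⟨x, hx⟩ = 0) ?_ ?_ ?_ ?_ ha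
  · rintro _ ⟨i, rfl⟩
    exact congrFun hφ i
  · exact map_zero φ
  · intro x y hx hy h1 h2
    have : (⟨x + y, Submodule.add_mem _ hx hy⟩ : ↥(Ideal.span (Set.range f))) =
        ⟨x, hx⟩ + ⟨y, hy⟩ := rfl
    rw [this, map_add, h1, h2, add_zero]
  · intro c x hx h1
    have : (⟨c • x, Submodule.smul_mem _ c hx⟩ : ↥(Ideal.span (Set.range f))) =
        c • ⟨x, hx⟩ := rfl
    rw [this, map_smul, h1, smul_zero]

theorem Φ_surjective (hreg : RingTheory.Sequence.IsWeaklyRegular (MvPolynomial (Fin d) k)
    (List.ofFn f)) : Function.Surjective (Φ k d n f) := by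
  intro b
  let π₀ : (Fin n → MvPolynomial (Fin d) k) →ₗ[MvPolynomial (Fin d) k] MvPolynomial (Fin d) k :=
    Fintype.linearCombination (MvPolynomial (Fin d) k) f
  have hπ₀ : ∀ c, π₀ c = ∑ i, c i * f i := fun c => by
    show Fintype.linearCombination (MvPolynomial (Fin d) k) f c = _
    rw [Fintype.linearCombination_apply]
    rfl
  have hπ₀mem : ∀ c, π₀ c ∈ Ideal.span (Set.range f) := fun c => by
    rw [hπ₀]
    exact Ideal.sum_mem _ fun i _ => Ideal.mul_mem_left _ _ (Ideal.subset_span ⟨i, rfl⟩)
  let π : (Fin n → MvPolynomial (Fin d) k) →ₗ[MvPolynomial (Fin d) k]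
      ↥(Ideal.span (Set.range f)) := LinearMap.codRestrict _ π₀ hπ₀mem
  have hπval : ∀ c, (π c).1 = ∑ i, c i * f i := fun c => hπ₀ c
  have hπ : Function.Surjective π := by
    rintro ⟨a, ha⟩
    obtain ⟨c, hc⟩ := Ideal.mem_span_range_iff_exists_fun.mp ha
    exact ⟨c, Subtype.ext ((hπval c).trans hc)⟩
  let β : (Fin n → MvPolynomial (Fin d) k) →ₗ[MvPolynomial (Fin d) k]
      (MvPolynomial (Fin d) k ⧸ Ideal.span (Set.range f)) :=
    Fintype.linearCombination (MvPolynomial (Fin d) k) b
  have hβ : ∀ c, β c = ∑ i, c i • b i := fun c => Fintype.linearCombination_apply _ _ _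
  have hker : LinearMap.ker π ≤ LinearMap.ker β := by
    intro c hc
    have h0 : ∑ i, c i * f i = 0 := by
      rw [← hπval]
      exact congrArg Subtype.val (LinearMap.mem_ker.mp hc)
    have h1 := coeff_mem_of_sum_eq_zero n f hreg c h0
    rw [LinearMap.mem_ker, hβ]
    exact Finset.sum_eq_zero fun i _ => smul_quot_eq_zero k d n f (h1 i) _
  let φ : ↥(Ideal.span (Set.range f)) →ₗ[MvPolynomial (Fin d) k]
      (MvPolynomial (Fin d) k ⧸ Ideal.span (Set.range f)) :=
    (Submodule.liftQ _ β hker) ∘ₗ (π.quotKerEquivOfSurjective hπ).symm.toLinearMap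
  have hφπ : ∀ c, φ (π c) = β c := by
    intro c
    show Submodule.liftQ _ β hker ((π.quotKerEquivOfSurjective hπ).symm (π c)) = β c
    have : (π.quotKerEquivOfSurjective hπ).symm (π c) = Submodule.Quotient.mk c := by
      rw [LinearEquiv.symm_apply_eq]
      rfl
    rw [this, Submodule.liftQ_apply]
  refine ⟨φ, funext fun i => ?_⟩
  rw [Φ_apply]
  have h2 : (⟨f i, Ideal.subset_span (Set.mem_range_self i)⟩ : ↥(Ideal.span (Set.range f))) =
      π (Pi.single i 1) := by
    apply Subtype.ext
    rw [hπval, Finset.sum_eq_single i (fun j _ hj => by rw [Pi.single_eq_of_ne hj, zero_mul])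
      (fun h => absurd (Finset.mem_univ i) h), Pi.single_eq_same, one_mul]
  rw [h2, hφπ, hβ, Finset.sum_eq_single i (fun j _ hj => by rw [Pi.single_eq_of_ne hj, zero_smul])
    (fun h => absurd (Finset.mem_univ i) h), Pi.single_eq_same, one_smul]

/-- a derivation is determined by partial derivatives -/
theorem D_eq (D : Derivation k (MvPolynomial (Fin d) k)
      (MvPolynomial (Fin d) k ⧸ Ideal.span (Set.range f))) (p : MvPolynomial (Fin d) k) :
    D p = ∑ j, Ideal.Quotient.mk (Ideal.span (Set.range f)) (pderiv j p) * D (X j) := by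
  induction p using MvPolynomial.induction_on with
  | C a =>
    have h1 : D (C a) = 0 := by
      rw [← MvPolynomial.algebraMap_eq]
      exact D.map_algebraMap a
    rw [h1]
    symm
    refine Finset.sum_eq_zero fun j _ => ?_
    rw [pderiv_C, map_zero, zero_mul]
  | add p q hp hq =>
    rw [map_add, hp, hq, ← Finset.sum_add_distrib]
    refine Finset.sum_congr rfl fun j _ => ?_
    rw [map_add, map_add, add_mul]
  | mul_X p i hp =>
    have h2 : ∀ j, Ideal.Quotient.mk (Ideal.span (Set.range f)) (pderiv j (p * X i)) * D (X j) =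
        Ideal.Quotient.mk (Ideal.span (Set.range f)) (X i) *
          (Ideal.Quotient.mk (Ideal.span (Set.range f)) (pderiv j p) * D (X j)) +
        (if i = j then Ideal.Quotient.mk (Ideal.span (Set.range f)) p * D (X j) else 0) := by
      intro j
      rw [Derivation.leibniz, pderiv_X, smul_eq_mul, smul_eq_mul, map_add, map_mul, map_mul,
        add_mul, Pi.single_apply]
      by_cases hij : i = j
      · rw [if_pos hij, if_pos hij, map_one]; ring
      · rw [if_neg hij, if_neg hij, map_zero]; ring
    rw [Derivation.leibniz, hp, smul_quot, smul_quot, Finset.mul_sum]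
    simp only [h2]
    rw [Finset.sum_add_distrib, Finset.sum_ite_eq, if_pos (Finset.mem_univ i)]
    ring

/-- the Jacobian columns -/
noncomputable def col (j : Fin d) : Fin n → MvPolynomial (Fin d) k ⧸ Ideal.span (Set.range f) :=
  fun i => Ideal.Quotient.mk (Ideal.span (Set.range f)) (pderiv j (f i))

theorem Φ_der (D : Derivation k (MvPolynomial (Fin d) k)
      (MvPolynomial (Fin d) k ⧸ Ideal.span (Set.range f)))
    (ψ : ↥(Ideal.span (Set.range f)) →ₗ[MvPolynomial (Fin d) k]
      (MvPolynomial (Fin d) k ⧸ Ideal.span (Set.range f)))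
    (h : ∀ a : ↥(Ideal.span (Set.range f)), ψ a = D (a : MvPolynomial (Fin d) k)) :
    Φ k d n f ψ = ∑ j, D (X j) • col k d n f j := by
  funext i
  rw [Φ_apply, h, D_eq, Finset.sum_apply]
  refine Finset.sum_congr rfl fun j _ => ?_
  rw [Pi.smul_apply, smul_eq_mul, mul_comm]
  rfl

/-- restriction of a derivation to the ideal -/
noncomputable def derRes (D : Derivation k (MvPolynomial (Fin d) k)
      (MvPolynomial (Fin d) k ⧸ Ideal.span (Set.range f))) :
    ↥(Ideal.span (Set.range f)) →ₗ[MvPolynomial (Fin d) k]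
      (MvPolynomial (Fin d) k ⧸ Ideal.span (Set.range f)) where
  toFun a := D (a : MvPolynomial (Fin d) k)
  map_add' a b := by rw [Submodule.coe_add, map_add]
  map_smul' c a := by
    rw [Submodule.coe_smul, smul_eq_mul, Derivation.leibniz, smul_quot_eq_zero k d n f a.2,
      add_zero, RingHom.id_apply]

theorem mem_span_iff (φ : ↥(Ideal.span (Set.range f)) →ₗ[MvPolynomial (Fin d) k]
      (MvPolynomial (Fin d) k ⧸ Ideal.span (Set.range f))) :
    φ ∈ Submodule.span (MvPolynomial (Fin d) k)
        {ψ : ↥(Ideal.span (Set.range f)) →ₗ[MvPolynomial (Fin d) k]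
            (MvPolynomial (Fin d) k ⧸ Ideal.span (Set.range f)) |
          ∃ D : Derivation k (MvPolynomial (Fin d) k)
            (MvPolynomial (Fin d) k ⧸ Ideal.span (Set.range f)),
            ∀ a : ↥(Ideal.span (Set.range f)), ψ a = D (a : MvPolynomial (Fin d) k)} ↔
      Φ k d n f φ ∈ (Submodule.span (MvPolynomial (Fin d) k ⧸ Ideal.span (Set.range f))
        (Set.range (col k d n f))).restrictScalars (MvPolynomial (Fin d) k) := by
  constructor
  · intro hφ
    have hle : Submodule.span (MvPolynomial (Fin d) k)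
        {ψ : ↥(Ideal.span (Set.range f)) →ₗ[MvPolynomial (Fin d) k]
            (MvPolynomial (Fin d) k ⧸ Ideal.span (Set.range f)) |
          ∃ D : Derivation k (MvPolynomial (Fin d) k)
            (MvPolynomial (Fin d) k ⧸ Ideal.span (Set.range f)),
            ∀ a : ↥(Ideal.span (Set.range f)), ψ a = D (a : MvPolynomial (Fin d) k)} ≤
        Submodule.comap (Φ k d n f)
          ((Submodule.span (MvPolynomial (Fin d) k ⧸ Ideal.span (Set.range f))
            (Set.range (col k d n f))).restrictScalars (MvPolynomial (Fin d) k)) := by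
      rw [Submodule.span_le]
      rintro ψ ⟨D, hD⟩
      show Φ k d n f ψ ∈ Submodule.span (MvPolynomial (Fin d) k ⧸ Ideal.span (Set.range f))
        (Set.range (col k d n f))
      rw [Φ_der k d n f D ψ hD]
      exact Submodule.sum_mem _ fun j _ =>
        Submodule.smul_mem _ _ (Submodule.subset_span ⟨j, rfl⟩)
    exact hle hφ
  · intro hφ
    have hφ' : Φ k d n f φ ∈ Submodule.span (MvPolynomial (Fin d) k ⧸ Ideal.span (Set.range f))
        (Set.range (col k d n f)) := hφ
    obtain ⟨b, hb⟩ := (Submodule.mem_span_range_iff_exists_fun _).mp hφ'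
    let D : Derivation k (MvPolynomial (Fin d) k)
        (MvPolynomial (Fin d) k ⧸ Ideal.span (Set.range f)) := mkDerivation k b
    have h1 : Φ k d n f (derRes k d n f D) = Φ k d n f φ := by
      rw [Φ_der k d n f D (derRes k d n f D) (fun a => rfl), ← hb]
      refine Finset.sum_congr rfl fun j _ => ?_
      rw [mkDerivation_X]
    rw [← Φ_injective k d n f h1]
    exact Submodule.subset_span ⟨D, fun a => rfl⟩

end main


open MvPolynomial in
/-- T^1 of a complete intersection; the hypersurface case P/(f, ∂f/∂X_1, ..., ∂f/∂X_d) is n = 1: let k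
be an algebraically closed field, P = k[X_1, ..., X_d], f_1, ..., f_n a regular sequence in P (each
f_i a non-zero-divisor modulo the preceding ones), J the ideal they generate and B = P/J. The first
cotangent module T^1_B — the cokernel of Der_k(P, B) → Hom_P(J, B), a derivation being restricted to
J — is isomorphic, as a P-module, to B^n modulo the B-submodule generated by the d columns
(∂f_1/∂X_j, ..., ∂f_n/∂X_j), j = 1, ..., d, of the Jacobian matrix reduced modulo J, through the map
sending the class of φ : J → B to the class of (φ(f_1), ..., φ(f_n)). (The published formula allows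
P to be a localisation of the polynomial ring; this row takes the polynomial ring.) -/
theorem result (k : Type u) [Field k] [IsAlgClosed k] (d n : ℕ)
    (f : Fin n → MvPolynomial (Fin d) k) (hreg : RingTheory.Sequence.IsWeaklyRegular (MvPolynomial (Fin d) k) (List.ofFn f)) :
    ∃ e : ((↥(Ideal.span (Set.range f)) →ₗ[MvPolynomial (Fin d) k] (MvPolynomial (Fin d) k ⧸ Ideal.span (Set.range f))) ⧸
            Submodule.span (MvPolynomial (Fin d) k)
              {ψ : ↥(Ideal.span (Set.range f)) →ₗ[MvPolynomial (Fin d) k] (MvPolynomial (Fin d) k ⧸ Ideal.span (Set.range f)) |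
                ∃ D : Derivation k (MvPolynomial (Fin d) k) (MvPolynomial (Fin d) k ⧸ Ideal.span (Set.range f)), ∀ a : ↥(Ideal.span (Set.range f)), ψ a = D (a : MvPolynomial (Fin d) k)}) ≃ₗ[MvPolynomial (Fin d) k]
          ((Fin n → MvPolynomial (Fin d) k ⧸ Ideal.span (Set.range f)) ⧸
            Submodule.span (MvPolynomial (Fin d) k ⧸ Ideal.span (Set.range f))
              (Set.range fun j : Fin d => fun i : Fin n => Ideal.Quotient.mk (Ideal.span (Set.range f)) (pderiv j (f i)))),
      ∀ φ : ↥(Ideal.span (Set.range f)) →ₗ[MvPolynomial (Fin d) k] (MvPolynomial (Fin d) k ⧸ Ideal.span (Set.range f)),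
        e (Submodule.Quotient.mk φ) =
          Submodule.Quotient.mk (fun i : Fin n => φ ⟨f i, Ideal.subset_span (Set.mem_range_self i)⟩) := by
  classical
  let Φe := LinearEquiv.ofBijective (Φ k d n f) ⟨Φ_injective k d n f, Φ_surjective k d n f hreg⟩
  have hmap : Submodule.map (Φe : _ →ₗ[MvPolynomial (Fin d) k] _)
      (Submodule.span (MvPolynomial (Fin d) k)
        {ψ : ↥(Ideal.span (Set.range f)) →ₗ[MvPolynomial (Fin d) k]
            (MvPolynomial (Fin d) k ⧸ Ideal.span (Set.range f)) |
          ∃ D : Derivation k (MvPolynomial (Fin d) k)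
            (MvPolynomial (Fin d) k ⧸ Ideal.span (Set.range f)),
            ∀ a : ↥(Ideal.span (Set.range f)), ψ a = D (a : MvPolynomial (Fin d) k)}) =
      (Submodule.span (MvPolynomial (Fin d) k ⧸ Ideal.span (Set.range f))
        (Set.range (col k d n f))).restrictScalars (MvPolynomial (Fin d) k) := by
    ext y
    constructor
    · rintro ⟨φ, hφ, rfl⟩
      exact (mem_span_iff k d n f φ).mp hφ
    · intro hy
      obtain ⟨φ, rfl⟩ := Φ_surjective k d n f hreg y
      exact ⟨φ, (mem_span_iff k d n f φ).mpr hy, rfl⟩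
  exact ⟨(Submodule.Quotient.equiv _ _ Φe hmap) ≪≫ₗ
    (Submodule.Quotient.restrictScalarsEquiv (MvPolynomial (Fin d) k) _), fun φ => rfl⟩

end Groth.Agent.S11302
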