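import Groth.Statements.S11306
import Mathlib.RingTheory.LocalRing.Module
import Mathlib.RingTheory.Flat.Basic
import Mathlib.RingTheory.Flat.Localization
-- import your own Groth.Agent.* helpers here

set_option autoImplicit false
universe u
open TensorProduct
open CAlg

namespace Groth.Agent.S11306

/-- Take a Noetherian local domain A, with residue field k and fraction field K, and let M be a finitely
generated A-module. If k ⊗_A M and K ⊗_A M have the same dimension r (over k and over K
respectively), then M is a free A-module of rank r. -/
theorem result (A : Type u) [CommRing A] [IsDomain A]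
    [IsNoetherianRing A] [IsLocalRing A] (M : Type u) [AddCommGroup M] [Module A M] [Module.Finite A M] (r : ℕ)
    (hk : Module.finrank (IsLocalRing.ResidueField A) (IsLocalRing.ResidueField A ⊗[A] M) = r)
    (hK : Module.finrank (FractionRing A) (FractionRing A ⊗[A] M) = r) :
    Module.Free A M ∧ Module.finrank A M = r := by
  classical
  let k := IsLocalRing.ResidueField A
  let K := FractionRing A
  -- a spanning, linearly independent family of the form 1 ⊗ m
  have hspan : Submodule.span k (Set.range (TensorProduct.mk A k M 1 ∘ (id : M → M))) = ⊤ := by
    have := (IsLocalRing.map_tensorProduct_mk_eq_top (R := A) (M := M)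
      (N := Submodule.span A (Set.range (id : M → M)))).mpr (by simp)
    rw [← Submodule.span_image, ← Set.range_comp, eq_top_iff, ← SetLike.coe_subset_coe,
      Submodule.top_coe] at this
    rw [eq_top_iff]
    exact Set.Subset.trans this (Submodule.span_subset_span _ _ _)
  obtain ⟨κ, a, ha, hsp, hli⟩ := exists_linearIndependent' k (TensorProduct.mk A k M 1 ∘ (id : M → M))
  rw [hspan] at hsp
  let bk : Module.Basis κ k (k ⊗[A] M) := Module.Basis.mk hli (by rw [hsp])
  have : Finite κ := Module.Finite.finite_basis bk
  let _ : Fintype κ := Fintype.ofFinite κ
  have hcard : Fintype.card κ = r := by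
    rw [← hk, Module.finrank_eq_card_basis bk]
  let i := Finsupp.linearCombination A (id ∘ a)
  have hi : Function.Surjective i := by
    rw [← LinearMap.range_eq_top, Finsupp.range_linearCombination]
    refine IsLocalRing.span_eq_top_of_tmul_eq_basis (R := A) (f := id ∘ a) bk
      (fun _ ↦ by simp [bk])
  have hiK : Function.Surjective (i.baseChange K) := i.lTensor_surjective _ hi
  have hiK' : Function.Injective (i.baseChange K) := by
    rw [← LinearMap.ker_eq_bot (M := K ⊗[A] (κ →₀ A)) (f := i.baseChange K),
      ← Submodule.finrank_eq_zero (R := K) (M := K ⊗[A] (κ →₀ A)),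
      ← Nat.add_right_inj (n := Module.finrank K (LinearMap.range <| i.baseChange K)),
      LinearMap.finrank_range_add_finrank_ker (V := K ⊗[A] (κ →₀ A)),
      LinearMap.range_eq_top.mpr hiK, finrank_top]
    simp only [Module.finrank_tensorProduct, Module.finrank_self,
      Module.finrank_finsupp_self, one_mul, add_zero]
    rw [hcard]
    exact hK.symm
  have hinj : Function.Injective i := by
    rw [injective_iff_map_eq_zero]
    intro x hx
    apply Module.Flat.tensorProduct_mk_injective A (κ →₀ A) K
    apply hiK'
    simp [hx]
  let iequiv : (κ →₀ A) ≃ₗ[A] M := LinearEquiv.ofBijective i ⟨hinj, hi⟩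
  let b : Module.Basis κ A M := Module.Basis.ofRepr iequiv.symm
  exact ⟨Module.Free.of_basis b, by rw [Module.finrank_eq_card_basis b, hcard]⟩

end Groth.Agent.S11306
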