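import Groth.Statements.S1131
import Mathlib.AlgebraicGeometry.Sites.Fpqc

set_option autoImplicit false
open CategoryTheory CategoryTheory.Limits AlgebraicGeometry Opposite
universe u
open Desc

namespace Groth.Agent.S1131

/-- If p : X ⟶ S is surjective, flat and quasi-compact, then the functor sending a scheme over S to its
canonical descent datum relative to p is full. (Faithfulness, which needs no quasi-compactness, is a
companion statement.) (Descent data are taken in functor-of-points form, equivalent by the Yoneda
lemma to the usual form of an isomorphism over X ×_S X satisfying the cocycle condition.) -/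
theorem result {X S : Scheme.{u}} (p : X ⟶ S) [Surjective p] [Flat p] [QuasiCompact p] :
    (Desc.toDD p).Full := by
  refine ⟨fun {U U'} φ => ?_⟩
  -- the underlying morphism over X
  let h : pullback p U.hom ⟶ pullback p U'.hom := φ.hom.left
  have hX : h ≫ pullback.fst p U'.hom = pullback.fst p U.hom := Over.w φ.hom
  let k : pullback p U.hom ⟶ U'.left := h ≫ pullback.snd p U'.hom
  have hk : ∀ {Z : Scheme.{u}} (a₁ a₂ : Z ⟶ pullback p U.hom),
      a₁ ≫ pullback.snd p U.hom = a₂ ≫ pullback.snd p U.hom → a₁ ≫ k = a₂ ≫ k := by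
    intro Z a₁ a₂ ha
    have hx : (a₁ ≫ pullback.fst p U.hom) ≫ p = (a₂ ≫ pullback.fst p U.hom) ≫ p := by
      rw [Category.assoc, Category.assoc, pullback.condition, ← Category.assoc, ha, Category.assoc]
    let v : Desc.Lifts (Desc.canonicalDD p U).obj (a₁ ≫ pullback.fst p U.hom) := ⟨a₁, rfl⟩
    let w : Desc.Lifts (Desc.canonicalDD p U').obj (a₁ ≫ pullback.fst p U.hom) :=
      ⟨a₁ ≫ h, by
        change (a₁ ≫ h) ≫ pullback.fst p U'.hom = _
        rw [Category.assoc, hX]⟩
    have hcomm : (Desc.canMap p U' _ _ hx w).1 = (Desc.canMap p U _ _ hx v).1 ≫ h :=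
      φ.comm (a₁ ≫ pullback.fst p U.hom) (a₂ ≫ pullback.fst p U.hom) hx v w rfl
    have hv : (Desc.canMap p U _ _ hx v).1 = a₂ := by
      rw [Desc.canMap_val]
      apply pullback.hom_ext
      · exact pullback.lift_fst _ _ _
      · exact (pullback.lift_snd _ _ _).trans ha
    have hw : (Desc.canMap p U' _ _ hx w).1 ≫ pullback.snd p U'.hom = a₁ ≫ k := by
      rw [Desc.canMap_val]
      exact (pullback.lift_snd _ _ _).trans (Category.assoc _ _ _)
    rw [← hw, hcomm, hv, Category.assoc]
  have : EffectiveEpi (pullback.snd p U.hom) := inferInstance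
  let g : U.left ⟶ U'.left := EffectiveEpi.desc (pullback.snd p U.hom) k hk
  have hg : pullback.snd p U.hom ≫ g = k := EffectiveEpi.fac _ _ _
  have hgS : g ≫ U'.hom = U.hom := by
    rw [← cancel_epi (pullback.snd p U.hom), ← Category.assoc, hg]
    simp only [k, Category.assoc]
    rw [← pullback.condition, ← Category.assoc, hX, pullback.condition]
  refine ⟨Over.homMk g hgS, ?_⟩
  apply Desc.SchDD.hom_ext
  apply Over.OverMorphism.ext
  simp only [Desc.toDD, Over.homMk_left]
  apply pullback.hom_ext
  · rw [hX]
    exact (pullback.lift_fst _ _ _).trans (Category.comp_id _)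
  · refine (pullback.lift_snd _ _ _).trans ?_
    exact hg

end Groth.Agent.S1131
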