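import Groth.Statements.S11311
import Groth.Agent.H61.KaehlerPt

set_option autoImplicit false
universe u
open CAlg IsLocalRing TensorProduct Groth.Agent.H61.EssFT Groth.Agent.H61.KPt

namespace Groth.Agent.S11311

/-- Let k be a field and B a local ring containing k whose residue field is k (the composite k → B → B/m
is bijective), and which is a localization of a finitely generated k-algebra (essentially of finite
type over k); let d = dim B. If the module of differentials Ω_{B/k} is free of rank d then B is a
regular local ring. Conversely, if k is perfect and B is a regular local ring, then Ω_{B/k} is free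
of rank d. (The published statement assumes k perfect as one of its hypotheses and asserts the
equivalence; its proof of the first implication does not use perfectness, so that hypothesis is
placed on the converse only.) -/
theorem result (k B : Type u) [Field k] [CommRing B] [Algebra k B]
    [IsLocalRing B] [Algebra.EssFiniteType k B]
    (hres : Function.Bijective (algebraMap k (IsLocalRing.ResidueField B)))
    (d : ℕ) (hd : ringKrullDim B = (d : WithBot ℕ∞)) :
    ((Module.Free B (KaehlerDifferential k B) ∧ Module.finrank B (KaehlerDifferential k B) = d) →
        IsRegularLocalRing B) ∧
      (PerfectField k → IsRegularLocalRing B →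
        Module.Free B (KaehlerDifferential k B) ∧ Module.finrank B (KaehlerDifferential k B) = d) := by
  classical
  haveI : IsNoetherianRing B := Algebra.EssFiniteType.isNoetherianRing k B
  have hres' : Function.Surjective (algebraMap k (ResidueField B)) := hres.2
  constructor
  · rintro ⟨hfree, hrank⟩
    haveI := hfree
    rw [IsRegularLocalRing.iff_finrank_cotangentSpace, finrank_cotangentSpace_eq hres', hrank, hd]
  · intro _ hreg
    haveI := hreg
    obtain ⟨ι, hι, p, hp, φ, hφ⟩ := exists_pres k B
    haveI := hι
    haveI := hp
    letI : Algebra (Localization.AtPrime p) B := φ.toRingHom.toAlgebra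
    haveI : IsScalarTower k (Localization.AtPrime p) B :=
      IsScalarTower.of_algebraMap_eq (fun a => (φ.commutes a).symm)
    haveI : Algebra.FormallyEtale (MvPolynomial ι k) (Localization.AtPrime p) :=
      Algebra.FormallyEtale.of_isLocalization p.primeCompl
    haveI : Module.Free (Localization.AtPrime p) Ω[Localization.AtPrime p⁄k] :=
      Module.Free.of_equiv (KaehlerDifferential.tensorKaehlerEquivOfFormallyEtale k
        (MvPolynomial ι k) (Localization.AtPrime p))
    have hsurj : Function.Surjective (algebraMap (Localization.AtPrime p) B) := hφ
    haveI hfree : Module.Free B Ω[B⁄k] := free_kaehler_of_regular hsurj hres'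
    refine ⟨hfree, ?_⟩
    have h1 := finrank_cotangentSpace_eq (k := k) hres'
    have h2 := (IsRegularLocalRing.iff_finrank_cotangentSpace B).mp hreg
    rw [h1, hd] at h2
    exact_mod_cast h2

end Groth.Agent.S11311
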