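import Groth.Statements.S14621
import Groth.Agent.S3060
import Groth.Agent.H28.ToposSitePullback

set_option autoImplicit false
open CategoryTheory CategoryTheory.Limits
universe u
open CohSite

namespace Groth.Agent.S14621

/-- Let C be a small category with pullbacks and J a Grothendieck topology on C in which every object is
quasi-compact in the site sense (every covering sieve contains finitely many morphisms which already
generate a covering sieve). Then for every small filtered category I the inclusion of sheaves of
sets on (C, J) into presheaves preserves colimits of shape I: filtered colimits of sheaves are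
computed objectwise. (Only sheaves of sets are stated; the same holds for sheaves of abelian groups
or modules. All pullbacks in C are assumed.) -/
theorem result {C : Type u} [SmallCategory C]
    [HasPullbacks C] (J : GrothendieckTopology C) (hJ : ∀ U : C, ToposFin.IsQCSite J U)
    (I : Type u) [SmallCategory I] [IsFiltered I] :
    PreservesColimitsOfShape I (sheafToPresheaf J (Type u)) := by
  have hE := Groth.Agent.H28.Topos.hasQCGenerators_of_isQCSite J hJ
  refine ⟨fun {D} => ?_⟩
  apply preservesColimit_of_evaluation
  intro X
  have hX := Groth.Agent.H28.Topos.isCoherent_eps J hJ X.unop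
  haveI : IsIso (colimit.post D (coyoneda.obj (Opposite.op (ToposFin.eps J X.unop)))) :=
    (isIso_iff_bijective _).2 (Groth.Agent.S3060.result hE _ hX I D)
  haveI : PreservesColimit D (coyoneda.obj (Opposite.op (ToposFin.eps J X.unop))) :=
    preservesColimit_of_isIso_post _ _
  have e : coyoneda.obj (Opposite.op (ToposFin.eps J X.unop)) ≅
      sheafToPresheaf J (Type u) ⋙ (evaluation Cᵒᵖ (Type u)).obj X :=
    NatIso.ofComponents
      (fun T => Equiv.toIso (Groth.Agent.H28.Topos.evalEquiv J X.unop T)) (by
        intro T T' f
        ext φ
        show Groth.Agent.H28.Topos.evalEquiv J X.unop T' (φ ≫ f) =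
          f.hom.app X (Groth.Agent.H28.Topos.evalEquiv J X.unop T φ)
        rw [Groth.Agent.H28.Topos.evalEquiv_apply, Groth.Agent.H28.Topos.evalEquiv_apply]
        rfl)
  exact preservesColimit_of_natIso D e

end Groth.Agent.S14621
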