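import Groth.Statements.S11320
import Groth.Agent.S14621
import Groth.Agent.H67.FiltColAb

set_option autoImplicit false
universe u
open CategoryTheory CategoryTheory.Limits
open CohTop

namespace Groth.Agent.S11320

/-- On a Noetherian topological space X, the direct limit, in the category of abelian sheaves, of a
directed system (F_i) of flasque abelian sheaves indexed by a nonempty directed preorder is flasque
(all its restriction maps are surjective). -/
theorem result {X : TopCat.{u}} [TopologicalSpace.NoetherianSpace X]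
    (ι : Type u) [Preorder ι] [IsDirected ι (· ≤ ·)] [Nonempty ι]
    (D : ι ⥤ CohTop.Ab X) (hD : ∀ i : ι, TopCat.Sheaf.IsFlasque (D.obj i)) :
    TopCat.Sheaf.IsFlasque (colimit D : CohTop.Ab X) := by
  classical
  let J := Opens.grothendieckTopology X
  have hJ : ∀ U : TopologicalSpace.Opens X, ToposFin.IsQCSite J U := by
    intro U S hS
    have hS' : ∀ x : U, ∃ (V : TopologicalSpace.Opens X) (f : V ⟶ U), S f ∧ x.1 ∈ V :=
      fun x => hS x.1 x.2
    choose V f hSf hxV using hS'
    have hcomp : IsCompact (U : Set X) := TopologicalSpace.NoetherianSpace.isCompact _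
    obtain ⟨t, ht⟩ := hcomp.elim_finite_subcover (fun x : U => (V x : Set X))
      (fun x => (V x).isOpen) (fun x hx => Set.mem_iUnion.2 ⟨⟨x, hx⟩, hxV ⟨x, hx⟩⟩)
    refine ⟨t.card, fun k => V (t.equivFin.symm k).1, fun k => f (t.equivFin.symm k).1,
      fun k => hSf _, ?_⟩
    intro x hx
    obtain ⟨i, hi⟩ := Set.mem_iUnion.1 (ht hx)
    obtain ⟨hit, hxi⟩ := Set.mem_iUnion.1 hi
    refine ⟨V i, f i, ?_, hxi⟩
    have hk : (t.equivFin.symm (t.equivFin ⟨i, hit⟩)).1 = i := by
      rw [Equiv.symm_apply_apply]
    have := Sieve.ofArrows_mk (fun k => V (t.equivFin.symm k).1)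
      (fun k => f (t.equivFin.symm k).1) (t.equivFin ⟨i, hit⟩)
    rw [hk] at this
    exact this
  haveI : IsFiltered ι := inferInstance
  haveI : PreservesColimitsOfShape ι (sheafToPresheaf J (Type u)) :=
    Groth.Agent.S14621.result J hJ ι
  let e := Groth.Agent.H67.FiltColAb.colimitObjIso J D
  constructor
  intro U V i
  haveI : Epi ((colimit (D ⋙ sheafToPresheaf J AddCommGrpCat.{u})).map i) :=
    Groth.Agent.H67.FiltColAb.epi_colimit_map (D ⋙ sheafToPresheaf J AddCommGrpCat.{u}) i
      (fun k => (hD k).epi i)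
  have h : (colimit D).obj.map i = e.hom.app U ≫
      (colimit (D ⋙ sheafToPresheaf J AddCommGrpCat.{u})).map i ≫ e.inv.app V := by
    rw [← Category.assoc, ← e.hom.naturality i, Category.assoc, ← NatTrans.comp_app,
      e.hom_inv_id, NatTrans.id_app, Category.comp_id]
  rw [h]
  infer_instance

end Groth.Agent.S11320
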