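import Groth.Statements.S11359
import Groth.Agent.H72.IHGor

set_option autoImplicit false
universe u
open InjHull

namespace Groth.Agent.S11359

/-- For a flat homomorphism A → B of Noetherian local rings whose fibre ring B/m_A B is an Artinian
Gorenstein local ring, tensoring an injective hull of the residue field of A with B gives an
injective hull of the residue field of B. -/
theorem result (A : Type u) [CommRing A] [IsLocalRing A] [IsNoetherianRing A] (B : Type u) [CommRing B] [IsLocalRing B] [IsNoetherianRing B] [Algebra A B] [Module.Flat A B] (hG : LocCoh.IsGorensteinLocalRing (B ⧸ (IsLocalRing.maximalIdeal A).map (algebraMap A B))) (hArt : IsArtinianRing (B ⧸ (IsLocalRing.maximalIdeal A).map (algebraMap A B))) (E : Type u) [AddCommGroup E] [Module A E] (f : IsLocalRing.ResidueField A →ₗ[A] E) (hf : InjHull.IsInjectiveHull f) : ∃ g : IsLocalRing.ResidueField B →ₗ[B] TensorProduct A B E, InjHull.IsInjectiveHull g := by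
  haveI := hG
  haveI := hArt
  have hne : (IsLocalRing.maximalIdeal A).map (algebraMap A B) ≠ ⊤ :=
    Ideal.Quotient.nontrivial_iff.1 inferInstance
  have hJle : (IsLocalRing.maximalIdeal A).map (algebraMap A B) ≤ IsLocalRing.maximalIdeal B :=
    IsLocalRing.le_maximalIdeal hne
  haveI : IsLocalHom (algebraMap A B) := by
    refine ⟨fun a ha => ?_⟩
    by_contra hna
    have h1 : a ∈ IsLocalRing.maximalIdeal A :=
      Groth.Agent.H2.Matlis.mem_maximalIdeal_of_not_isUnit hna
    have h2 : algebraMap A B a ∈ IsLocalRing.maximalIdeal B :=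
      hJle (Ideal.mem_map_of_mem _ h1)
    exact mem_nonunits_iff.1 ((IsLocalRing.mem_maximalIdeal _).1 h2) ha
  exact Groth.Agent.H72.IHGor.main_gor f hf

end Groth.Agent.S11359
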