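import Groth.Statements.S11360
import Groth.Agent.H12.LocHomD

set_option autoImplicit false
universe u
open CategoryTheory
attribute [local instance] HasDerivedCategory.standard
open Dual

namespace Groth.Agent.S11360

/-- Let A be a Noetherian ring and R an object of D(A) with finite cohomology modules and of finite
injective dimension (isomorphic to a bounded complex of injective modules). If for every prime p of
A the derived base change of R to A_p (the total left derived functor of extension of scalars,
assumed to exist) is a dualizing complex for A_p, then R is a dualizing complex for A. (The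
published statement is for a locally Noetherian scheme and the stalks at all points; this row is the
affine case. Without the global finite injective dimension hypothesis the conclusion fails, e.g. for
a regular Noetherian ring of infinite Krull dimension.) -/
theorem result (A : Type u) [CommRing A] [IsNoetherianRing A] (R : Dual.D A) (hfin : ∀ i : ℤ, Module.Finite A (Dual.HD A R i)) (hfid : DRing.HasFiniteInjDim A R) [∀ p : PrimeSpectrum A, DRing.HasLBaseChange (algebraMap A (Localization.AtPrime p.asIdeal))] (h : ∀ p : PrimeSpectrum A, Dual.IsDualizing (Localization.AtPrime p.asIdeal) ((DRing.LBaseChange (algebraMap A (Localization.AtPrime p.asIdeal))).obj R)) : Dual.IsDualizing A R := by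
  obtain ⟨a, b, E, hE, hinjE, ⟨e⟩⟩ := hfid
  refine Groth.Agent.H12.LocHom.isDualizing_of_local R a b (fun i hi => ?_) hfin ⟨a, b, ?_⟩ ?_
  · have h1 : Limits.IsZero (E.homology i) :=
      ShortComplex.isZero_homology_of_isZero_X₂ (E.sc i) (hE i hi)
    have h2 : Limits.IsZero ((DerivedCategory.homologyFunctor (ModuleCat.{u} A) i).obj
        (DerivedCategory.Q.obj E)) :=
      Limits.IsZero.of_iso h1 ((DerivedCategory.homologyFunctorFactors (ModuleCat.{u} A) i).app E)
    exact Limits.IsZero.of_iso h2 ((DerivedCategory.homologyFunctor (ModuleCat.{u} A) i).mapIso e.symm)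
  · intro M _ _ i hi
    have key := (Groth.Agent.H56.single_hom_shift_vanishing_iff (ModuleCat.of A M) R i).2
      (fun ψ => Groth.Agent.H56.single_hom_eq_zero_of_hasInjAmplitudeIn R a b
        ⟨E, hE, hinjE, ⟨e⟩⟩ (ModuleCat.of A M) i hi ψ)
    exact ⟨fun f g => by rw [key f, key g]⟩
  · intro m hm
    haveI := hm
    let p : PrimeSpectrum A := ⟨m, hm.isPrime⟩
    exact ⟨m.primeCompl,
      (inferInstance : DRing.HasLBaseChange (algebraMap A (Localization.AtPrime p.asIdeal))),
      fun s hs => hs, h p⟩

end Groth.Agent.S11360
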