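import Groth.Statements.S11404
import Groth.Agent.H63.ProperGamma
import Groth.Agent.H63.Rigid5
import Groth.Agent.H51.Reduced
import Groth.Agent.S14578

set_option autoImplicit false
universe u
open CategoryTheory MonoidalCategory CartesianMonoidalCategory MonObj GrpObj AlgebraicGeometry CategoryTheory.Limits
open AlgGrp

namespace Groth.Agent.S11404

/-- Over an algebraically closed field k, let A be an abelian variety (a proper, smooth, connected
k-group scheme) and S a connected k-scheme of finite type. For every automorphism f of A × S over S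
there are a unique k-morphism g : S → A and a unique group automorphism h of A with f(a, s) = (g(s)
· h(a), s) on points. (This is the functor-of-points form, over a connected base, of the
identification of the automorphism group scheme of A with the semidirect product of A, acting by
translations, and the constant group of group automorphisms; in particular the neutral component is
A.) -/
theorem result (k : Type u) [Field k] [IsAlgClosed k]
    (A S : Over (Spec (CommRingCat.of k))) [GrpObj A] [IsProper A.hom] [Smooth A.hom] [ConnectedSpace ↥A.left]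
    [LocallyOfFiniteType S.hom] [QuasiCompact S.hom] [ConnectedSpace ↥S.left]
    (f : A ⊗ S ≅ A ⊗ S) (hf : f.hom ≫ snd A S = snd A S) :
    ∃ (g : S ⟶ A) (h : A ⟶ A), IsMonHom h ∧ IsIso h ∧
      f.hom ≫ fst A S = (snd A S ≫ g) * (fst A S ≫ h) ∧
      ∀ (g' : S ⟶ A) (h' : A ⟶ A), IsMonHom h' →
        f.hom ≫ fst A S = (snd A S ≫ g') * (fst A S ≫ h') → g' = g ∧ h' = h := by

  haveI : Subsingleton ↥(Spec (CommRingCat.of k)) :=
    inferInstanceAs (Subsingleton (PrimeSpectrum k))
  haveI : IsReduced A.left := Groth.Agent.H51.isReduced_of_smooth A.hom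
  have hA := Groth.Agent.H63.ProperGamma.bijective_strMap A.hom
  haveI : LocallyOfFiniteType A.hom := inferInstance
  haveI : QuasiCompact A.hom := inferInstance
  haveI : QuasiSeparated A.hom := inferInstance
  haveI : IsSeparated A.hom := inferInstance
  haveI : IsLocallyNoetherian S.left := LocallyOfFiniteType.isLocallyNoetherian S.hom
  haveI : Nonempty S.left := inferInstance
  obtain ⟨s₀⟩ := Groth.Agent.H63.Rigid.nonempty_unit_hom S
  -- the decomposition of a morphism `A × S ⟶ A`
  have decomp : ∀ F : A ⊗ S ⟶ A, ∃ h : A ⟶ A, IsMonHom h ∧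
      F = (snd A S ≫ Groth.Agent.H63.Rigid.sec η[A] S ≫ F) * (fst A S ≫ h) := by
    intro F
    obtain ⟨g, hg⟩ : ∃ g : S ⟶ A, g = Groth.Agent.H63.Rigid.sec η[A] S ≫ F := ⟨_, rfl⟩
    obtain ⟨F', hF'⟩ : ∃ F' : A ⊗ S ⟶ A, F' = (snd A S ≫ g)⁻¹ * F := ⟨_, rfl⟩
    have hF'e : Groth.Agent.H63.Rigid.sec η[A] S ≫ F' = 1 := by
      rw [hF', comp_mul, GrpObj.comp_inv, lift_snd_assoc, Category.id_comp, ← hg, inv_mul_cancel]
    obtain ⟨h, hh⟩ : ∃ h : A ⟶ A, h = lift (𝟙 A) (toUnit A ≫ s₀) ≫ F' := ⟨_, rfl⟩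
    have hηlift : η[A] ≫ lift (𝟙 A) (toUnit A ≫ s₀) = s₀ ≫ Groth.Agent.H63.Rigid.sec η[A] S := by
      apply CartesianMonoidalCategory.hom_ext
      · rw [Category.assoc, lift_fst, Category.comp_id, Category.assoc, lift_fst,
          ← Category.assoc, toUnit_unique (s₀ ≫ toUnit S) (𝟙 _), Category.id_comp]
      · rw [Category.assoc, lift_snd, Category.assoc, lift_snd, Category.comp_id,
          ← Category.assoc, toUnit_unique (η[A] ≫ toUnit A) (𝟙 _), Category.id_comp]
    have hηh : η[A] ≫ h = η[A] := by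
      rw [hh, ← Category.assoc, hηlift, Category.assoc, hF'e, comp_one, Hom.one_def,
        toUnit_unique (toUnit (𝟙_ (Over (Spec (CommRingCat.of k))))) (𝟙 _), Category.id_comp]
    have hmon : IsMonHom h := Groth.Agent.S14578.result k A A hA h hηh
    refine ⟨h, hmon, ?_⟩
    obtain ⟨c, hc⟩ : ∃ c : A ⊗ S ⟶ A, c = F' * (fst A S ≫ h)⁻¹ := ⟨_, rfl⟩
    have hsec : Groth.Agent.H63.Rigid.sec η[A] S ≫ c = 1 := by
      rw [hc, comp_mul, GrpObj.comp_inv, hF'e, lift_fst_assoc, Category.assoc, hηh,
        ← Hom.one_def, inv_one, _root_.mul_one]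
    have hgood : Groth.Agent.H63.Rigid.Good η[A] c s₀ := by
      unfold Groth.Agent.H63.Rigid.Good
      rw [hsec, comp_one, comp_one, hc, comp_mul, GrpObj.comp_inv, whiskerLeft_fst_assoc]
      have e1 : (A ◁ s₀) = fst A (𝟙_ _) ≫ lift (𝟙 A) (toUnit A ≫ s₀) := by
        apply CartesianMonoidalCategory.hom_ext
        · rw [whiskerLeft_fst, Category.assoc, lift_fst, Category.comp_id]
        · rw [whiskerLeft_snd, Category.assoc, lift_snd, ← Category.assoc]
          congr 1
          exact toUnit_unique _ _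
      rw [e1, Category.assoc, ← hh, mul_inv_cancel]
    have key := Groth.Agent.H63.Rigid.rigidity η[A] c hA s₀ hgood
    rw [hsec, comp_one] at key
    have hF'2 : F' = fst A S ≫ h := by
      have : F' = c * (fst A S ≫ h) := by rw [hc]; group
      rw [this, key, _root_.one_mul]
    have hfin : F = (snd A S ≫ g) * (fst A S ≫ h) := by rw [← hF'2, hF']; group
    rw [hg] at hfin
    exact hfin
  -- composition of two such decompositions
  have hcomp : ∀ (u v : A ⊗ S ⟶ A ⊗ S), u ≫ snd A S = snd A S → u ≫ v = 𝟙 _ →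
      ∀ (g h g₂ h₂ : _) (_ : IsMonHom h) (_ : IsMonHom h₂),
      u ≫ fst A S = (snd A S ≫ g) * (fst A S ≫ h) →
      v ≫ fst A S = (snd A S ≫ g₂) * (fst A S ≫ h₂) → h ≫ h₂ = 𝟙 A := by
    intro u v hu huv g h g₂ h₂ hmon hmon₂ hF hF₂
    have e1 : fst A S = (snd A S ≫ g₂) * ((snd A S ≫ g ≫ h₂) * (fst A S ≫ h ≫ h₂)) := by
      have : u ≫ v ≫ fst A S = fst A S := by rw [← Category.assoc, huv, Category.id_comp]
      rw [hF₂, comp_mul, ← Category.assoc u, hu, ← Category.assoc u, hF, MonObj.mul_comp,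
        Category.assoc, Category.assoc] at this
      exact this.symm
    have e2 := congrArg (fun m => lift (𝟙 A) (toUnit A ≫ s₀) ≫ m) e1
    simp only [comp_mul, lift_fst, lift_snd_assoc, lift_fst_assoc, Category.id_comp] at e2
    simp only [Category.assoc] at e2
    have tu : η[A] ≫ toUnit A = 𝟙 _ := toUnit_unique _ _
    have e3 := congrArg (fun m => η[A] ≫ m) e2
    rw [Category.comp_id, comp_mul, comp_mul, ← Category.assoc η[A] (toUnit A),
      ← Category.assoc η[A] (toUnit A), tu, Category.id_comp, Category.id_comp,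
      ← Category.assoc η[A] h, IsMonHom.one_hom h, IsMonHom.one_hom h₂] at e3
    have hη1 : (η[A] : 𝟙_ (Over (Spec (CommRingCat.of k))) ⟶ A) = 1 := by
      rw [Hom.one_def, toUnit_unique (toUnit (𝟙_ (Over (Spec (CommRingCat.of k))))) (𝟙 _),
        Category.id_comp]
    rw [hη1, _root_.mul_one] at e3
    rw [← _root_.mul_assoc, ← comp_mul, ← e3, comp_one, _root_.one_mul] at e2
    exact e2.symm
  obtain ⟨h, hmon, hF⟩ := decomp (f.hom ≫ fst A S)
  obtain ⟨h₂, hmon₂, hF₂⟩ := decomp (f.inv ≫ fst A S)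
  have hf' : f.inv ≫ snd A S = snd A S := by rw [Iso.inv_comp_eq, hf]
  have h12 := hcomp f.hom f.inv hf f.hom_inv_id _ h _ h₂ hmon hmon₂ hF hF₂
  have h21 := hcomp f.inv f.hom hf' f.inv_hom_id _ h₂ _ h hmon₂ hmon hF₂ hF
  refine ⟨_, h, hmon, ⟨h₂, h12, h21⟩, hF, ?_⟩
  intro g' h' hmon' hF'
  have hg' : g' = Groth.Agent.H63.Rigid.sec η[A] S ≫ f.hom ≫ fst A S := by
    rw [hF', comp_mul, lift_snd_assoc, Category.id_comp, lift_fst_assoc, Category.assoc,
      IsMonHom.one_hom h', ← Hom.one_def, _root_.mul_one]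
  refine ⟨hg', ?_⟩
  have e1 : fst A S ≫ h' = fst A S ≫ h := by
    have := hF'.symm.trans hF
    rw [hg'] at this
    exact mul_left_cancel this
  have e2 := congrArg (fun m => lift (𝟙 A) (toUnit A ≫ s₀) ≫ m) e1
  simpa only [lift_fst_assoc, Category.id_comp] using e2

end Groth.Agent.S11404
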