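import Groth.Statements.S11420
import Groth.Agent.H63.ProdAction

set_option autoImplicit false
universe u
open CategoryTheory MonoidalCategory CartesianMonoidalCategory MonObj GrpObj AlgebraicGeometry CategoryTheory.Limits
open AlgGrp

namespace Groth.Agent.S11420

/-- Over an algebraically closed field k, let X and Y be complete varieties (proper, integral, separated
k-schemes of finite type) and let a connected k-group scheme of finite type G act on X × Y. Then
there are unique actions of G on X and on Y such that the given action is the product action g·(x,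
y) = (g·x, g·y). (This is the form, for actions of connected group schemes, of the identification of
the neutral component of the automorphism group scheme of X × Y with the product of those of X and
Y; the representability of these group schemes is not asserted here.) -/
theorem result (k : Type u) [Field k] [IsAlgClosed k]
    (G X Y : Over (Spec (CommRingCat.of k))) [GrpObj G] [LocallyOfFiniteType G.hom] [QuasiCompact G.hom] [ConnectedSpace ↥G.left]
    [IsProper X.hom] [IsIntegral X.left]
    [IsProper Y.hom] [IsIntegral Y.left]
    (a : AlgGrp.Action G (X ⊗ Y)) :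
    ∃ (b : AlgGrp.Action G X) (c : AlgGrp.Action G Y),
      a.act = lift ((G ◁ fst X Y) ≫ b.act) ((G ◁ snd X Y) ≫ c.act) ∧
      ∀ (b' : AlgGrp.Action G X) (c' : AlgGrp.Action G Y),
        a.act = lift ((G ◁ fst X Y) ≫ b'.act) ((G ◁ snd X Y) ≫ c'.act) → b' = b ∧ c' = c := by

  haveI : Subsingleton ↥(Spec (CommRingCat.of k)) :=
    inferInstanceAs (Subsingleton (PrimeSpectrum k))
  have hX := Groth.Agent.H63.ProperGamma.bijective_strMap X.hom
  have hY := Groth.Agent.H63.ProperGamma.bijective_strMap Y.hom
  haveI : Nonempty X.left := inferInstance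
  haveI : Nonempty Y.left := inferInstance
  obtain ⟨x₀⟩ := Groth.Agent.H63.Rigid.nonempty_unit_hom X
  obtain ⟨y₀⟩ := Groth.Agent.H63.Rigid.nonempty_unit_hom Y
  obtain ⟨b, hb⟩ := Groth.Agent.H63.ProdAction.exists_act_fst hY x₀ y₀ a
  obtain ⟨c, hc⟩ := Groth.Agent.H63.ProdAction.exists_act_snd hX x₀ y₀ a
  refine ⟨b, c, ?_, ?_⟩
  · apply CartesianMonoidalCategory.hom_ext
    · rw [lift_fst, hb]
    · rw [lift_snd, hc]
  · intro b' c' h
    have h1 : (G ◁ fst X Y) ≫ b'.act = (G ◁ fst X Y) ≫ b.act := by
      rw [← hb, h, lift_fst]
    have h2 : (G ◁ snd X Y) ≫ c'.act = (G ◁ snd X Y) ≫ c.act := by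
      rw [← hc, h, lift_snd]
    constructor
    · apply AlgGrp.Action.ext'
      have e := congrArg (fun m => (G ◁ lift (𝟙 X) (toUnit X ≫ y₀)) ≫ m) h1
      simpa only [← MonoidalCategory.whiskerLeft_comp_assoc, lift_fst,
        MonoidalCategory.whiskerLeft_id, Category.id_comp] using e
    · apply AlgGrp.Action.ext'
      have e := congrArg (fun m => (G ◁ lift (toUnit Y ≫ x₀) (𝟙 Y)) ≫ m) h2
      simpa only [← MonoidalCategory.whiskerLeft_comp_assoc, lift_snd,
        MonoidalCategory.whiskerLeft_id, Category.id_comp] using e

end Groth.Agent.S11420
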