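import Groth.Statements.S11424
import Groth.Agent.H63.AffineHomDescent
import Groth.Agent.H63.GrpKernel

set_option autoImplicit false
universe u
open CategoryTheory MonoidalCategory CartesianMonoidalCategory MonObj GrpObj AlgebraicGeometry CategoryTheory.Limits
open AlgGrp

namespace Groth.Agent.S11424

/-- Over an algebraically closed field k, let G be an algebraic group (a smooth k-group scheme of finite
type), h : H → G a smooth affine closed normal subgroup, and q : G → Q a flat surjective
homomorphism of k-group schemes of finite type with kernel h (so Q = G/H). Then the quotient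
morphism q is affine. (The published statement is the equivalence between affineness of G and of
both H and G/H; this row states that the quotient morphism G → G/H is affine.) -/
theorem result (k : Type u) [Field k] [IsAlgClosed k]
    (G H Q : Over (Spec (CommRingCat.of k))) [GrpObj G] [Smooth G.hom] [QuasiCompact G.hom]
    [GrpObj H] (h : H ⟶ G) [IsMonHom h] [IsClosedImmersion h.left] [Smooth H.hom] [IsAffine H.left]
    [GrpObj Q] [LocallyOfFiniteType Q.hom] [QuasiCompact Q.hom]
    (q : G ⟶ Q) [IsMonHom q] [Surjective q.left] [Flat q.left] (hk : AlgGrp.IsKernel h q) :
    IsAffineHom q.left := by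

  have SQ := Groth.Agent.H63.GrpKernel.kernel_sq q h hk
  have SQ' : IsPullback (fst G H).left (fst G H * (snd G H ≫ h)).left q.left q.left :=
    SQ.map (Over.forget _)
  haveI : IsAffineHom H.hom := isAffineHom_of_isAffine H.hom
  haveI : IsAffineHom (Limits.pullback.fst G.hom H.hom) :=
    MorphismProperty.of_isPullback (P := @IsAffineHom)
      (IsPullback.of_hasPullback G.hom H.hom).flip inferInstance
  haveI : IsAffineHom (fst G H).left :=
    inferInstanceAs (IsAffineHom (Limits.pullback.fst G.hom H.hom))
  haveI : LocallyOfFiniteType G.hom := inferInstance
  haveI : IsLocallyNoetherian G.left := LocallyOfFiniteType.isLocallyNoetherian G.hom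
  haveI : CompactSpace G.left := QuasiCompact.compactSpace_of_compactSpace G.hom
  haveI : IsNoetherian G.left := {}
  haveI : QuasiCompact q.left := inferInstance
  exact Groth.Agent.H63.AffineHomDescent.isAffineHom_of_isPullback SQ'

end Groth.Agent.S11424
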