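import Groth.Statements.S1143
import Groth.Agent.H47.FEtShGlue
import Groth.Agent.H75.FEtRing
import Groth.Agent.H47.HensNoeth2
import Groth.Agent.H47.HshWEt
import Groth.Agent.H47.WEtNormal

set_option autoImplicit false
universe u
open Pi1

namespace Groth.Agent.S1143

open AlgebraicGeometry CategoryTheory CategoryTheory.Limits in
/-- A finite etale K-scheme that splits over L comes from a finite etale A-scheme (this is the
essential-image part of exactness of the sequence π₁(Spec L) → π₁(Spec K) → π₁(Spec A) → 1; the
surjectivity and composition parts of the exact sequence are separate facts). Let A be a normal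
local domain with fraction field K, let R be a strict henselization of A (with A → R local) and L a
fraction field of R, with compatible algebra structures (A → K → L and A → R → L agree). If V is
finite etale over Spec K and its base change to Spec L is split (a finite disjoint union of copies
of Spec L), then V is isomorphic to the restriction to Spec K of a finite etale cover Y of Spec A
(only the existence of such Y and of an isomorphism is asserted). -/
theorem result (A : Type u) [CommRing A] [IsDomain A]
    [IsLocalRing A] [IsIntegrallyClosed A] (R : Type u) [CommRing R] [IsLocalRing R] [Algebra A R] [IsLocalHom (algebraMap A R)] [Hensel.IsStrictHenselization A R]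
    (K L : Type u) [Field K] [Field L] [Algebra A K] [IsFractionRing A K] [Algebra R L] [IsFractionRing R L]
    [Algebra K L] [Algebra A L] [IsScalarTower A K L] [IsScalarTower A R L]
    (V : FEt.Cat (Spec (CommRingCat.of K)))
    (hV : Pi1.IsSplit ((FEt.restrict (Spec.map (CommRingCat.ofHom (algebraMap K L)))).obj V)) :
    ∃ Y : FEt.Cat (Spec (CommRingCat.of A)),
      Nonempty ((FEt.restrict (Spec.map (CommRingCat.ofHom (algebraMap A K)))).obj Y ≅ V) := by
  classical
  -- ring model of V
  obtain ⟨E, instE, algKE, hfinE, hetE, e, -, he, -⟩ :=
    Groth.Agent.H75.FEtRing.exists_ring_model K PUnit.{1} V 1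
  letI algAE : Algebra A E := ((algebraMap K E).comp (algebraMap A K)).toAlgebra
  haveI : IsScalarTower A K E := IsScalarTower.of_algebraMap_eq (fun _ => rfl)
  obtain ⟨ι, hι, ⟨ψ⟩⟩ := Groth.Agent.H47.FEtSh.algEquiv_of_isSplit K L E V e he hV
  -- R is a normal domain, ind-étale local over A
  haveI hwe : Algebra.WeaklyEtale A R := Groth.Agent.H47.HensK.weaklyEtale_of_isStrictHenselization A R
  obtain ⟨hdomR, hicR⟩ := Groth.Agent.H47.WEtNormal.isDomain_isIntegrallyClosed_of_local A R
  have hind : Groth.Agent.H47.HensNoeth.IsIndEtaleLocal A R :=
    Groth.Agent.H47.HensNoeth.isIndEtaleLocal_of_isStrictHenselization A R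
  haveI : Module.FaithfullyFlat A R := hind.faithfullyFlat
  obtain ⟨e'⟩ := Groth.Agent.H47.FEtSh.exists_tensor_equiv_pi A R K L E hind ι ψ
  obtain ⟨hfinD, hetD⟩ :=
    Groth.Agent.H47.FEtSh.finite_etale_of_tensor_equiv_pi A R (integralClosure A E) ι e'
  haveI : Algebra.IsIntegral K E := Algebra.IsIntegral.of_finite K E
  obtain ⟨φ⟩ := Groth.Agent.H47.FEtSh.tensor_integralClosure_equiv A K E
  exact Groth.Agent.H47.FEtSh.exists_restrict_iso A K E (integralClosure A E) V e he φ

end Groth.Agent.S1143
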