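import Groth.Statements.S11435
import Groth.Agent.H63.OrbitProper

set_option autoImplicit false
universe u
open CategoryTheory MonoidalCategory CartesianMonoidalCategory MonObj GrpObj AlgebraicGeometry Topology
open GIT

namespace Groth.Agent.S11435

/-- Over an algebraically closed field k, let a group scheme G of finite type act on a scheme X of
finite type and let x be a k-rational point of X. Then the orbit morphism ψ_x : G × Spec k → X ×
Spec k, g ↦ (g · x, pt), is proper if and only if the orbit of x (the image of ψ_x) is closed and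
the stabilizer of x (the fibre of ψ_x over (x, pt)) is proper over k. -/
theorem result (k : Type u) [Field k] [IsAlgClosed k]
    (G X : Over (Spec (CommRingCat.of k))) [GrpObj G] [LocallyOfFiniteType G.hom] [QuasiCompact G.hom]
    [LocallyOfFiniteType X.hom] [QuasiCompact X.hom] (a : AlgGrp.Action G X)
    (x : 𝟙_ (Over (Spec (CommRingCat.of k))) ⟶ X) :
    IsProper (GIT.psi a x).left ↔
      IsClosed (Set.range (GIT.psi a x).left.base) ∧
        IsProper (Limits.pullback.snd (GIT.psi a x).left (lift x (𝟙 (𝟙_ (Over (Spec (CommRingCat.of k)))))).left ≫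
          (𝟙_ (Over (Spec (CommRingCat.of k)))).hom) := by

  classical
  have hS : IsIso (𝟙_ (Over (Spec (CommRingCat.of k)))).hom := by
    show IsIso (𝟙 (Spec (CommRingCat.of k)))
    infer_instance
  -- `ψ_x` in terms of the orbit map
  have hψ : GIT.psi a x ≫ (ρ_ X).hom = (ρ_ G).hom ≫ a.orbitMap x := by
    unfold GIT.psi AlgGrp.Action.orbitMap
    rw [rightUnitor_hom, rightUnitor_hom, lift_fst, ← Category.assoc]
    congr 1
    apply CartesianMonoidalCategory.hom_ext
    · rw [whiskerLeft_fst, Category.assoc, lift_fst, Category.comp_id]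
    · rw [whiskerLeft_snd, Category.assoc, lift_snd, ← Category.assoc]
      congr 1
      exact toUnit_unique _ _
  have hδ : lift x (𝟙 (𝟙_ (Over (Spec (CommRingCat.of k))))) ≫ (ρ_ X).hom = x := by
    rw [rightUnitor_hom, lift_fst]
  haveI : IsIso (ρ_ X).hom.left := inferInstanceAs (IsIso ((Over.forget _).map (ρ_ X).hom))
  haveI : IsIso (ρ_ G).hom.left := inferInstanceAs (IsIso ((Over.forget _).map (ρ_ G).hom))
  haveI : IsIso (ρ_ G).inv.left := inferInstanceAs (IsIso ((Over.forget _).map (ρ_ G).inv))
  have hψl : (GIT.psi a x).left ≫ (ρ_ X).hom.left = (ρ_ G).hom.left ≫ (a.orbitMap x).left := by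
    rw [← Over.comp_left, ← Over.comp_left, hψ]
  constructor
  · intro hp
    refine ⟨(GIT.psi a x).left.isClosedMap.isClosed_range, ?_⟩
    haveI : IsProper (Limits.pullback.snd (GIT.psi a x).left
        (lift x (𝟙 (𝟙_ (Over (Spec (CommRingCat.of k)))))).left) :=
      MorphismProperty.of_isPullback (P := @IsProper) (IsPullback.of_hasPullback _ _) hp
    infer_instance
  · rintro ⟨hcl, hst⟩
    -- the orbit is closed
    have ho : a.orbitMap x = (ρ_ G).inv ≫ GIT.psi a x ≫ (ρ_ X).hom := by
      rw [hψ, Iso.inv_hom_id_assoc]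
    have hcl' : IsClosed (Set.range (a.orbitMap x).left.base) := by
      rw [ho, Over.comp_left, Over.comp_left, Scheme.Hom.comp_base, TopCat.coe_comp, Set.range_comp,
        Function.Surjective.range_eq (ρ_ G).inv.left.surjective, Set.image_univ,
        Scheme.Hom.comp_base, TopCat.coe_comp, Set.range_comp]
      exact (ρ_ X).hom.left.isClosedMap _ hcl
    -- the stabilizer
    have hsq := IsPullback.of_hasPullback (GIT.psi a x)
      (lift x (𝟙 (𝟙_ (Over (Spec (CommRingCat.of k))))))
    have hsq' : IsPullback
        (Limits.pullback.fst (GIT.psi a x) (lift x (𝟙 (𝟙_ (Over (Spec (CommRingCat.of k)))))) ≫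
          (ρ_ G).hom)
        (toUnit _) (a.orbitMap x) x := by
      refine IsPullback.of_iso hsq (Iso.refl _) (ρ_ G) (Iso.refl _) (ρ_ X) ?_ ?_ hψ ?_
      · simp
      · simp only [Iso.refl_hom, Category.comp_id, Category.id_comp]
        exact toUnit_unique _ _
      · simp only [Iso.refl_hom, Category.id_comp]
        exact hδ
    have hsqL : IsPullback
        (Limits.pullback.fst (GIT.psi a x) (lift x (𝟙 (𝟙_ (Over (Spec (CommRingCat.of k))))))).left
        (Limits.pullback.snd (GIT.psi a x) (lift x (𝟙 (𝟙_ (Over (Spec (CommRingCat.of k))))))).left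
        (GIT.psi a x).left (lift x (𝟙 (𝟙_ (Over (Spec (CommRingCat.of k)))))).left :=
      hsq.map (Over.forget _)
    haveI : IsProper (Limits.pullback.snd (GIT.psi a x).left
        (lift x (𝟙 (𝟙_ (Over (Spec (CommRingCat.of k)))))).left) := by
      haveI := hS
      exact (MorphismProperty.cancel_right_of_respectsIso (P := @IsProper) _ _).mp hst
    haveI : IsProper
        (Limits.pullback.snd (GIT.psi a x) (lift x (𝟙 (𝟙_ (Over (Spec (CommRingCat.of k))))))).left := by
      rw [← hsqL.isoPullback_hom_snd]
      infer_instance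
    haveI : IsProper
        (Limits.pullback (GIT.psi a x) (lift x (𝟙 (𝟙_ (Over (Spec (CommRingCat.of k))))))).hom := by
      rw [← Over.w (Limits.pullback.snd (GIT.psi a x)
        (lift x (𝟙 (𝟙_ (Over (Spec (CommRingCat.of k)))))))]
      haveI := hS
      infer_instance
    have key := Groth.Agent.H63.OrbitProper.isProper_orbitMap a x _ hsq' hcl'
    haveI : IsIso (ρ_ X).inv.left := inferInstanceAs (IsIso ((Over.forget _).map (ρ_ X).inv))
    have h3 : (GIT.psi a x).left = (ρ_ G).hom.left ≫ (a.orbitMap x).left ≫ (ρ_ X).inv.left := by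
      rw [← Over.comp_left, ← Over.comp_left, ← Category.assoc, ← hψ, Category.assoc,
        Iso.hom_inv_id, Category.comp_id]
    rw [h3]
    infer_instance

end Groth.Agent.S11435
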