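import Groth.Statements.S11445
import Mathlib
import Groth.Agent.H93.GeomCat

set_option autoImplicit false
universe u
open CategoryTheory MonoidalCategory CartesianMonoidalCategory MonObj GrpObj AlgebraicGeometry Topology
open GIT

namespace Groth.Agent.S11445

theorem invSection' {X Z GX : Scheme.{u}} (act p2 : GX ⟶ X) (ψ : X ⟶ Z)
    (hψ : act ≫ ψ = p2 ≫ ψ) (W : Z.Opens) (O : X.Opens) (hle : O ≤ ψ ⁻¹ᵁ W)
    (O' : GX.Opens) (h1 : O' ≤ act ⁻¹ᵁ O) (h2 : O' ≤ p2 ⁻¹ᵁ O) (s : Γ(Z, W)) :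
    act.appLE O O' h1 (ψ.appLE W O hle s) = p2.appLE O O' h2 (ψ.appLE W O hle s) := by
  have a1 : act.appLE O O' h1 (ψ.appLE W O hle s) =
      (act ≫ ψ).appLE W O' (h1.trans ((TopologicalSpace.Opens.map act.base).map (homOfLE hle)).le) s := by
    rw [← Scheme.Hom.appLE_comp_appLE]; rfl
  have a2 : p2.appLE O O' h2 (ψ.appLE W O hle s) =
      (p2 ≫ ψ).appLE W O' (h2.trans ((TopologicalSpace.Opens.map p2.base).map (homOfLE hle)).le) s := by
    rw [← Scheme.Hom.appLE_comp_appLE]; rfl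
  rw [a1, a2, Groth.Agent.H93.GeomCat.appLE_congr_hom _ _ hψ W O' _ _]

theorem fib_aux (S : Scheme.{u}) (G X Y : Over S) [GrpObj G]
    (a : AlgGrp.Action G X) (φ : X ⟶ Y)
    (hii : ∀ U : Y.left.Opens,
      Function.Injective (φ.left.app U) ∧ Set.range (φ.left.app U) = {f | GIT.IsInvSection a φ U f})
    (hiii : ∀ W : Set X.left, IsClosed W → a.act.left.base '' ((snd G X).left.base ⁻¹' W) ⊆ W →
      IsClosed (φ.left.base '' W))
    (hiii' : ∀ (J : Type u) (W : J → Set X.left),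
      (∀ i, IsClosed (W i) ∧ a.act.left.base '' ((snd G X).left.base ⁻¹' W i) ⊆ W i) →
      φ.left.base '' (⋂ i, W i) = ⋂ i, φ.left.base '' W i)
    (Z : Over S) (ψ : X ⟶ Z) (hψ : GIT.IsInvariant a ψ) (x x' : X.left)
    (hxx' : φ.left.base x = φ.left.base x') :
    ψ.left.base x = ψ.left.base x' := by
  have hψw : ∀ w : (G ⊗ X).left,
      ψ.left.base (a.act.left.base w) = ψ.left.base ((snd G X).left.base w) := by
    intro w
    have := congrArg (fun m => m.base w) hψ.left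
    simpa only [Scheme.Hom.comp_base, TopCat.comp_app] using this
  let Wf : Z.left.affineOpens → Set X.left := fun V => ψ.left.base ⁻¹' ((V.1 : Set Z.left)ᶜ)
  have hWf : ∀ V, IsClosed (Wf V) ∧ a.act.left.base '' ((snd G X).left.base ⁻¹' Wf V) ⊆ Wf V := by
    intro V
    refine ⟨(V.1.isOpen.isClosed_compl).preimage ψ.left.continuous, ?_⟩
    rintro _ ⟨w, hw, rfl⟩
    show ψ.left.base (a.act.left.base w) ∈ ((V.1 : Set Z.left)ᶜ)
    rw [hψw]; exact hw
  have hint : ⋂ V, Wf V = ∅ := by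
    ext p
    simp only [Set.mem_iInter, Set.mem_empty_iff_false, iff_false, not_forall]
    obtain ⟨V, hV, hpV, -⟩ := exists_isAffineOpen_mem_and_subset
      (x := ψ.left.base p) (U := ⊤) trivial
    exact ⟨⟨V, hV⟩, fun h => h hpV⟩
  have himg := hiii' (↥Z.left.affineOpens) Wf hWf
  rw [hint, Set.image_empty] at himg
  have hy : φ.left.base x ∉ ⋂ V, φ.left.base '' Wf V := by
    rw [← himg]; exact Set.notMem_empty _
  simp only [Set.mem_iInter, not_forall] at hy
  obtain ⟨V, hyV⟩ := hy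
  have hUo : IsOpen (φ.left.base '' Wf V)ᶜ := (hiii _ (hWf V).1 (hWf V).2).isOpen_compl
  let U : Y.left.Opens := ⟨(φ.left.base '' Wf V)ᶜ, hUo⟩
  have hle : φ.left ⁻¹ᵁ U ≤ ψ.left ⁻¹ᵁ V.1 := by
    intro p hp
    by_contra hpV
    exact hp ⟨p, hpV, rfl⟩
  have hxU : x ∈ φ.left ⁻¹ᵁ U := hyV
  have hx'U : x' ∈ φ.left ⁻¹ᵁ U := by
    show φ.left.base x' ∈ U
    rw [← hxx']; exact hyV
  have key : ∀ r : Γ(Z.left, V.1),
      ψ.left.base x ∈ Z.left.basicOpen r ↔ ψ.left.base x' ∈ Z.left.basicOpen r := by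
    intro r
    have hinvs : ψ.left.appLE V.1 (φ.left ⁻¹ᵁ U) hle r ∈ {f | GIT.IsInvSection a φ U f} :=
      invSection' a.act.left (snd G X).left ψ.left hψ.left V.1 _ hle _ _ _ r
    rw [← (hii U).2] at hinvs
    obtain ⟨r₀, hr₀⟩ := hinvs
    have hb : X.left.basicOpen (φ.left.app U r₀) =
        φ.left ⁻¹ᵁ U ⊓ ψ.left ⁻¹ᵁ (Z.left.basicOpen r) := by
      rw [hr₀]; exact Scheme.basicOpen_appLE _ _ _ _ _
    rw [← Scheme.preimage_basicOpen] at hb
    have m1 : ∀ p, p ∈ φ.left ⁻¹ᵁ U →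
        (ψ.left.base p ∈ Z.left.basicOpen r ↔ φ.left.base p ∈ Y.left.basicOpen r₀) := by
      intro p hp
      have := congrArg (fun O : X.left.Opens => p ∈ O) hb
      simp only [eq_iff_iff] at this
      constructor
      · intro h; exact this.mpr ⟨hp, h⟩
      · intro h; exact (this.mp h).2
    rw [m1 x hxU, m1 x' hx'U, hxx']
  by_contra hne
  obtain ⟨O, hO, hxor⟩ := exists_isOpen_xor_mem hne
  have hxV : ψ.left.base x ∈ V.1 := hle hxU
  have hx'V : ψ.left.base x' ∈ V.1 := hle hx'U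
  rcases hxor with ⟨h1, h2⟩ | ⟨h1, h2⟩
  · obtain ⟨r, hr1, hr2⟩ := V.2.exists_basicOpen_le (V := ⟨O, hO⟩) ⟨ψ.left.base x, h1⟩ hxV
    exact h2 (hr1 ((key r).mp hr2))
  · obtain ⟨r, hr1, hr2⟩ := V.2.exists_basicOpen_le (V := ⟨O, hO⟩) ⟨ψ.left.base x', h1⟩ hx'V
    exact h2 (hr1 ((key r).mpr hr2))


/-- Let G act on X over S and let φ : X → Y over S satisfy (i) φ ∘ σ = φ ∘ p₂, (ii) O_Y is the sheaf of
invariant functions (each Γ(U, O_Y) → Γ(φ⁻¹U, O_X) injective with image the invariant sections),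
(iii) the image of every closed invariant subset of X is closed and φ(⋂ W_i) = ⋂ φ(W_i) for every
family of closed invariant subsets. Then (Y, φ) is a categorical quotient of X by G, and φ is
submersive. -/
theorem result (S : Scheme.{u}) (G X Y : Over S) [GrpObj G]
    (a : AlgGrp.Action G X) (φ : X ⟶ Y) (hi : GIT.IsInvariant a φ)
    (hii : ∀ U : Y.left.Opens,
      Function.Injective (φ.left.app U) ∧ Set.range (φ.left.app U) = {f | GIT.IsInvSection a φ U f})
    (hiii : ∀ W : Set X.left, IsClosed W → a.act.left.base '' ((snd G X).left.base ⁻¹' W) ⊆ W →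
      IsClosed (φ.left.base '' W))
    (hiii' : ∀ (J : Type u) (W : J → Set X.left),
      (∀ i, IsClosed (W i) ∧ a.act.left.base '' ((snd G X).left.base ⁻¹' W i) ⊆ W i) →
      φ.left.base '' (⋂ i, W i) = ⋂ i, φ.left.base '' W i) :
    GIT.IsCatQuot a φ ∧ IsQuotientMap φ.left.base := by
  have hφw : ∀ w : (G ⊗ X).left,
      φ.left.base (a.act.left.base w) = φ.left.base ((snd G X).left.base w) := by
    intro w
    have := congrArg (fun m => m.base w) hi.left
    simpa only [Scheme.Hom.comp_base, TopCat.comp_app] using this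
  have hsurj : Function.Surjective φ.left.base := by
    have := hiii' PEmpty.{u+1} (fun i => i.elim) (fun i => i.elim)
    simp only [Set.iInter_of_empty, Set.image_univ] at this
    exact Set.range_eq_univ.mp this
  have hq : IsQuotientMap φ.left.base := by
    rw [Topology.isQuotientMap_iff_isClosed]
    refine ⟨hsurj, fun B => ⟨fun hB => hB.preimage φ.left.continuous, fun hB => ?_⟩⟩
    have := hiii (φ.left.base ⁻¹' B) hB (by
      rintro _ ⟨w, hw, rfl⟩
      show φ.left.base (a.act.left.base w) ∈ B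
      rw [hφw]; exact hw)
    rwa [Set.image_preimage_eq _ hsurj] at this
  refine ⟨?_, hq⟩
  exact Groth.Agent.H93.GeomCat.isCatQuot_of a φ hi hii hq
    (fun Z ψ hψ x x' hxx' => fib_aux S G X Y a φ hii hiii hiii' Z ψ hψ x x' hxx')

end Groth.Agent.S11445
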