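import Groth.Statements.S11449
import Groth.Agent.H72.RegLoc
import Groth.Agent.H72.AB
import Groth.Agent.S12907
import Groth.Agent.S12908
import Groth.Agent.S14435
import Groth.Agent.H15.FlatQuot

set_option autoImplicit false
universe u
open DefT

namespace Groth.Agent.S11449

open Groth.Agent.H72.PdLocal Groth.Agent.H72.PdExt

/-- Let A be a regular local ring and I an ideal such that A/I is a Cohen–Macaulay local ring whose
Krull dimension is dim A − 2. Then for some r there is an (r+1) × r matrix φ with entries in A such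
that, writing f_i for (−1)^i times the determinant of φ with its i-th row removed (i = 0, …, r), the
elements f_0, …, f_r generate I, no family of fewer than r + 1 elements generates I, multiplication
by φ is an injective map A^r → A^{r+1}, and the image of that map is exactly the kernel of the map
A^{r+1} → A sending v to Σ_i v_i f_i; together with A → A/I this is a free resolution 0 → A^r →
A^{r+1} → A → A/I → 0. -/
theorem result
    (A : Type u) [CommRing A] [IsRegularLocalRing A] (I : Ideal A)
    [LocCoh.IsCohenMacaulayLocalRing (A ⧸ I)]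
    (hcodim : ringKrullDim (A ⧸ I) + 2 = ringKrullDim A) :
    ∃ (r : ℕ) (φ : Matrix (Fin (r + 1)) (Fin r) A),
      Ideal.span (Set.range (fun i : Fin (r + 1) => (-1 : A) ^ (i : ℕ) * (φ.submatrix i.succAbove id).det)) = I ∧
      I.spanFinrank = r + 1 ∧
      Function.Injective φ.mulVecLin ∧
      LinearMap.range φ.mulVecLin =
        LinearMap.ker (Fintype.linearCombination A (fun i : Fin (r + 1) => (-1 : A) ^ (i : ℕ) * (φ.submatrix i.succAbove id).det)) := by
  classical
  obtain ⟨d, hd⟩ := Groth.Agent.H15.FlatQuot.exists_nat_ringKrullDim A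
  obtain ⟨c, hc⟩ := Groth.Agent.H15.FlatQuot.exists_nat_ringKrullDim (A ⧸ I)
  have hcd : c + 1 + 1 = d := by
    rw [hd, hc, ← one_add_one_eq_two, ← add_assoc] at hcodim
    exact_mod_cast hcodim
  -- depths
  have hCMA : (d : ℕ∞) = LocCoh.depth A A := by
    have h := Groth.Agent.H72.RegLoc.isCM_of_isRegularLocalRing A
    unfold LocCoh.IsCohenMacaulayModule at h
    rw [Module.supportDim_self_eq_ringKrullDim, hd, WithBot.coe_inj] at h
    exact h
  have hCMB : (c : ℕ∞) = LocCoh.depth (A ⧸ I) (A ⧸ I) := by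
    have h := LocCoh.IsCohenMacaulayLocalRing.supportDim_eq_depth (R := A ⧸ I)
    rw [Module.supportDim_self_eq_ringKrullDim, hc, WithBot.coe_inj] at h
    exact h
  haveI : IsLocalHom (Ideal.Quotient.mk I) :=
    IsLocalHom.of_surjective _ Ideal.Quotient.mk_surjective
  have hmap : (IsLocalRing.maximalIdeal A).map (algebraMap A (A ⧸ I)) =
      IsLocalRing.maximalIdeal (A ⧸ I) := by
    apply le_antisymm
    · exact IsLocalRing.map_maximalIdeal_le (Ideal.Quotient.mk I)
    · intro y hy
      obtain ⟨x, rfl⟩ := Ideal.Quotient.mk_surjective y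
      refine Ideal.mem_map_of_mem _ ?_
      rw [← IsLocalRing.maximalIdeal_comap (Ideal.Quotient.mk I)]
      exact hy
  have hdepthM : LocCoh.depth A (A ⧸ I) = (c : ℕ∞) := by
    unfold LocCoh.depth
    rw [Groth.Agent.S14435.result (B := A ⧸ I) (IsLocalRing.maximalIdeal A) le_rfl (A ⧸ I), hmap]
    exact hCMB.symm
  -- projective dimension of A/I is two
  have hfin : ∃ k, PdLT A (A ⧸ I) k := ⟨_, pdLT_of_isRegularLocalRing A (A ⧸ I)⟩
  have hspec : PdLT A (A ⧸ I) (Nat.find hfin) := Nat.find_spec hfin
  have hne0 : Nat.find hfin ≠ 0 := by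
    intro h0
    rw [h0] at hspec
    exact not_subsingleton (A ⧸ I) ((pdLT_zero_iff (A ⧸ I)).mp hspec)
  obtain ⟨e, he⟩ := Nat.exists_eq_succ_of_ne_zero hne0
  have hnot : ¬ PdLT A (A ⧸ I) e :=
    Nat.find_min hfin (by rw [he]; exact Nat.lt_succ_self e)
  rw [he] at hspec
  obtain ⟨s0, hs0, hse⟩ := Groth.Agent.H72.AB.core e (A ⧸ I) hspec hnot d hCMA.symm
  have hsc : s0 = c := by
    rw [hdepthM] at hs0
    exact_mod_cast hs0.symm
  have he2 : e = 2 := by omega
  subst he2
  have hpd3 : PdLT A (A ⧸ I) (1 + 1 + 1) := hspec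
  have hpdI : PdLT A I (0 + 1 + 1) :=
    (pdLT_succ_iff_of_exact (Submodule.subtype I) (Submodule.mkQ I)
      (Submodule.injective_subtype I) (LinearMap.exact_subtype_mkQ I)
      (Submodule.mkQ_surjective I) 1).mp hpd3
  -- I is nonzero
  have hIne : I ≠ ⊥ := by
    intro hI0
    have hbij : Function.Bijective (Ideal.Quotient.mk I) := by
      refine ⟨?_, Ideal.Quotient.mk_surjective⟩
      rw [injective_iff_map_eq_zero]
      intro x hx
      have hxI := Ideal.Quotient.eq_zero_iff_mem.1 hx
      rw [hI0] at hxI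
      exact Ideal.mem_bot.1 hxI
    have h1 := ringKrullDim_eq_of_ringEquiv (RingEquiv.ofBijective _ hbij)
    rw [hd, hc] at h1
    have h2 : d = c := by exact_mod_cast h1
    omega
  -- minimal generators
  obtain ⟨n, hn0, π, hπrange⟩ : ∃ n, I.spanFinrank = n ∧
      ∃ π : (Fin n → A) →ₗ[A] A, LinearMap.range π = I := by
    obtain ⟨s, hscard, hsspan⟩ :=
      (IsNoetherian.noetherian I).exists_span_finset_card_eq_spanFinrank
    refine ⟨s.card, hscard.symm, ?_⟩
    let eqs : s ≃ Fin s.card := s.equivFin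
    refine ⟨Fintype.linearCombination A (fun i => ((eqs.symm i : s) : A)), ?_⟩
    rw [Fintype.range_linearCombination]
    have hrange : Set.range (fun i => ((eqs.symm i : s) : A)) = (s : Set A) := by
      ext x
      constructor
      · rintro ⟨i, rfl⟩
        exact (eqs.symm i).2
      · intro hx
        refine ⟨eqs ⟨x, hx⟩, ?_⟩
        show ((eqs.symm (eqs ⟨x, hx⟩) : s) : A) = x
        rw [Equiv.symm_apply_apply]
    rw [hrange]
    exact hsspan
  -- the syzygy module is free
  obtain ⟨m, Ψ, hΨker, hΨrange⟩ : ∃ (m : ℕ) (Ψ : Matrix (Fin n) (Fin m) A),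
      LinearMap.ker Ψ.mulVecLin = ⊥ ∧ LinearMap.range Ψ.mulVecLin = LinearMap.ker π := by
    have hπmem : ∀ v, π v ∈ I := fun v => by rw [← hπrange]; exact ⟨v, rfl⟩
    let g' : (Fin n → A) →ₗ[A] I := π.codRestrict I hπmem
    have hg'surj : Function.Surjective g' := by
      rintro ⟨y, hy⟩
      have hy' : y ∈ LinearMap.range π := by rw [hπrange]; exact hy
      obtain ⟨v, hv⟩ := hy'
      exact ⟨v, Subtype.ext hv⟩
    have hpdK : PdLT A (LinearMap.ker g') (0 + 1) :=
      (pdLT_succ_iff_of_exact (Submodule.subtype (LinearMap.ker g')) g'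
        (Submodule.injective_subtype _) (LinearMap.exact_subtype_ker_map g') hg'surj 0).mp hpdI
    haveI : Module.Projective A (LinearMap.ker g') := (pdLT_one_iff _).mp hpdK
    haveI : Module.Free A (LinearMap.ker g') := Module.free_of_flat_of_isLocalRing
    have hKπ : LinearMap.ker g' = LinearMap.ker π := LinearMap.ker_codRestrict _ _ _
    let b := Module.finBasis A (LinearMap.ker g')
    let ψ : (Fin (Module.finrank A (LinearMap.ker g')) → A) →ₗ[A] (Fin n → A) :=
      (Submodule.subtype (LinearMap.ker g')) ∘ₗ b.equivFun.symm.toLinearMap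
    have hΨlin : (LinearMap.toMatrix' ψ).mulVecLin = ψ := by
      rw [← Matrix.toLin'_apply', Matrix.toLin'_toMatrix']
    refine ⟨_, LinearMap.toMatrix' ψ, ?_, ?_⟩
    · rw [hΨlin]
      exact LinearMap.ker_eq_bot.2
        ((Submodule.injective_subtype _).comp b.equivFun.symm.injective)
    · rw [hΨlin, ← hKπ]
      show LinearMap.range ((Submodule.subtype (LinearMap.ker g')) ∘ₗ
        b.equivFun.symm.toLinearMap) = _
      rw [LinearMap.range_comp_of_range_eq_top _ (LinearEquiv.range _), Submodule.range_subtype]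
  have hIne' : LinearMap.range π ≠ ⊥ := by rw [hπrange]; exact hIne
  obtain ⟨hn, ⟨a, ha, haI⟩, hdep⟩ :=
    Groth.Agent.S12907.result m n Ψ π hΨker hΨrange.symm hIne'
  -- a is a unit
  have haunit : IsUnit a := by
    by_contra hnu
    have ham : a ∈ IsLocalRing.maximalIdeal A :=
      (IsLocalRing.mem_maximalIdeal a).2 (mem_nonunits_iff.2 hnu)
    have hIle : I ≤ Ideal.span {a} := by
      rw [← hπrange, haI]
      exact Ideal.mul_le_left
    have h1 : ringKrullDim (A ⧸ Ideal.span {a}) ≤ ringKrullDim (A ⧸ I) :=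
      ringKrullDim_le_of_surjective (Ideal.Quotient.factor hIle)
        (Ideal.Quotient.factor_surjective hIle)
    have h2 :=
      ringKrullDim_quotient_span_singleton_succ_eq_ringKrullDim_of_mem_nonZeroDivisors ha ham
    rw [hd] at h2
    rw [hc] at h1
    have h3 : ((d : ℕ∞) : WithBot ℕ∞) ≤ ((c : ℕ∞) : WithBot ℕ∞) + 1 := by
      rw [← h2]
      gcongr
    have h4 : d ≤ c + 1 := by exact_mod_cast h3
    omega
  subst hn
  have h8 := Groth.Agent.S12908.result m Ψ hdep 1 (one_mem _)
  simp only [one_mul] at h8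
  obtain ⟨-, h8ker, h8range⟩ := h8
  refine ⟨m, Ψ, ?_, hn0, LinearMap.ker_eq_bot.1 hΨker, h8ker.symm⟩
  have h9 : Ideal.span {a} = ⊤ := Ideal.span_singleton_eq_top.2 haunit
  rw [← hπrange, haI, h9, Ideal.top_mul]
  rw [Fintype.range_linearCombination, Ideal.span_singleton_one, Ideal.top_mul] at h8range
  exact h8range

end Groth.Agent.S11449
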