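import Groth.Statements.S1145
import Mathlib
import Groth.Agent.H68.ConnInf

set_option autoImplicit false
universe u
open Pi1

namespace Groth.Agent.S1145

open AlgebraicGeometry CategoryTheory CategoryTheory.Limits
open Groth.Agent.H68.ConnInf Groth.Agent.H47.HensK

theorem eq_of_specializes_of_fiber {W X : Scheme.{u}} (π : W ⟶ X) [IsFinite π] (y w : W)
    (h : y ⤳ w) (hπ : π y = π w) : y = w := by
  have hFdisc : _root_.IsDiscrete (π ⁻¹' {π w}) := π.isDiscrete_preimage_singleton (π w)
  haveI : DiscreteTopology (π ⁻¹' {π w}) := hFdisc.to_subtype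
  have hy : y ∈ π ⁻¹' {π w} := hπ
  have hw : w ∈ π ⁻¹' {π w} := rfl
  have h3 : (⟨y, hy⟩ : π ⁻¹' {π w}) ⤳ ⟨w, hw⟩ := (subtype_specializes_iff _ _).mpr h
  exact congrArg Subtype.val h3.eq

theorem surj_core {W X V : Scheme.{u}} (π : W ⟶ X) [IsFinite π] [Etale π] (U : X.Opens)
    (pr : V ⟶ W) [IsOpenImmersion pr] [QuasiCompact pr]
    (hrange : Set.range pr = π ⁻¹' (U : Set X))
    (hU : Dense (U : Set X)) (hcl : ∀ x : X, x ∉ U → IsClosed ({x} : Set X))
    (hsh : ∀ x : X, x ∉ U →
      ConnectedSpace ↥(FEt.puncturedSpec (Hsh (X.presheaf.stalk x)) : Scheme.{u}))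
    (T' : Set V) (hT' : IsClopen T') : ∃ T : Set W, IsClopen T ∧ pr ⁻¹' T = T' := by
  have hemb : Topology.IsOpenEmbedding pr := pr.isOpenEmbedding
  have hP'o : IsOpen (pr '' T') := hemb.isOpenMap _ hT'.2
  have hP''o : IsOpen (pr '' T'ᶜ) := hemb.isOpenMap _ hT'.1.isOpen_compl
  have hdisjP : Disjoint (pr '' T') (pr '' T'ᶜ) := by
    rw [Set.disjoint_image_iff hemb.injective]
    exact disjoint_compl_right
  have hunion : pr '' T' ∪ pr '' T'ᶜ = π ⁻¹' (U : Set X) := by
    rw [← Set.image_union, Set.union_compl_self, Set.image_univ, hrange]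
  have hdense : Dense (π ⁻¹' (U : Set X)) := hU.preimage π.isOpenMap
  have hcov : closure (pr '' T') ∪ closure (pr '' T'ᶜ) = Set.univ := by
    rw [← closure_union, hunion]
    exact hdense.closure_eq
  have hclP' : ∀ y, y ∈ closure (pr '' T') → π y ∈ U → y ∈ pr '' T' := by
    intro y hy hyU
    have : y ∈ pr '' T' ∪ pr '' T'ᶜ := by rw [hunion]; exact hyU
    rcases this with h | h
    · exact h
    · exfalso
      obtain ⟨z, hz1, hz2⟩ := mem_closure_iff.mp hy _ hP''o h
      exact Set.disjoint_left.mp hdisjP hz2 hz1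
  have hclP'' : ∀ y, y ∈ closure (pr '' T'ᶜ) → π y ∈ U → y ∈ pr '' T'ᶜ := by
    intro y hy hyU
    have : y ∈ pr '' T' ∪ pr '' T'ᶜ := by rw [hunion]; exact hyU
    rcases this with h | h
    · exfalso
      obtain ⟨z, hz1, hz2⟩ := mem_closure_iff.mp hy _ hP'o h
      exact Set.disjoint_left.mp hdisjP hz1 hz2
    · exact h
  have hcompU : ∀ W₀ : W.Opens, IsAffineOpen W₀ →
      IsCompact (π ⁻¹' (U : Set X) ∩ W₀) := by
    intro W₀ hW₀
    have h1 : IsCompact (pr ⁻¹' (W₀ : Set W)) :=
      QuasiCompact.isCompact_preimage (f := pr) _ W₀.isOpen hW₀.isCompact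
    have h2 := h1.image pr.continuous
    rwa [Set.image_preimage_eq_inter_range, hrange, Set.inter_comm] at h2
  have hcompP' : ∀ W₀ : W.Opens, IsAffineOpen W₀ → IsCompact (pr '' T' ∩ W₀) := by
    intro W₀ hW₀
    have : pr '' T' ∩ W₀ = (π ⁻¹' (U : Set X) ∩ W₀) ∩ (pr '' T'ᶜ)ᶜ := by
      ext y
      constructor
      · rintro ⟨h1, h2⟩
        exact ⟨⟨by rw [← hunion]; exact Or.inl h1, h2⟩, Set.disjoint_left.mp hdisjP h1⟩
      · rintro ⟨⟨h1, h2⟩, h3⟩
        rw [← hunion] at h1
        exact ⟨h1.resolve_right h3, h2⟩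
    rw [this]
    exact (hcompU W₀ hW₀).inter_right hP''o.isClosed_compl
  have hcompP'' : ∀ W₀ : W.Opens, IsAffineOpen W₀ → IsCompact (pr '' T'ᶜ ∩ W₀) := by
    intro W₀ hW₀
    have : pr '' T'ᶜ ∩ W₀ = (π ⁻¹' (U : Set X) ∩ W₀) ∩ (pr '' T')ᶜ := by
      ext y
      constructor
      · rintro ⟨h1, h2⟩
        exact ⟨⟨by rw [← hunion]; exact Or.inr h1, h2⟩, Set.disjoint_right.mp hdisjP h1⟩
      · rintro ⟨⟨h1, h2⟩, h3⟩
        rw [← hunion] at h1
        exact ⟨h1.resolve_left h3, h2⟩
    rw [this]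
    exact (hcompU W₀ hW₀).inter_right hP'o.isClosed_compl
  have hdisjcl : closure (pr '' T') ∩ closure (pr '' T'ᶜ) = ∅ := by
    rw [Set.eq_empty_iff_forall_notMem]
    rintro w ⟨hw', hw''⟩
    by_cases hwU : π w ∈ U
    · exact Set.disjoint_left.mp hdisjP (hclP' w hw' hwU) (hclP'' w hw'' hwU)
    · have hgen : ∀ y : W, y ⤳ w → y ≠ w → π y ∈ U := by
        intro y hy hyw
        by_contra hyU
        have hclosed := hcl (π y) hyU
        have h1 : π y ⤳ π w := hy.map π.continuous
        have h2 : π w = π y := h1.mem_closed hclosed (Set.mem_singleton _)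
        exact hyw (eq_of_specializes_of_fiber π y w hy h2.symm)
      refine false_of_two_sided π w (hsh _ hwU) (closure (pr '' T')) (closure (pr '' T'ᶜ))
        isClosed_closure isClosed_closure ?_ ?_ ?_ ?_
      · intro y hy hyw
        have : y ∈ closure (pr '' T') ∪ closure (pr '' T'ᶜ) := by rw [hcov]; trivial
        exact this
      · intro y hy hyw h1 h2
        have hyU := hgen y hy hyw
        exact Set.disjoint_left.mp hdisjP (hclP' y h1 hyU) (hclP'' y h2 hyU)
      · obtain ⟨s, hsP, hsw⟩ := exists_specializes_of_mem_closure _ hP'o hcompP' w hw'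
        refine ⟨s, hsw, ?_, subset_closure hsP⟩
        rintro rfl
        apply hwU
        have : s ∈ π ⁻¹' (U : Set X) := by rw [← hunion]; exact Or.inl hsP
        exact this
      · obtain ⟨s, hsP, hsw⟩ := exists_specializes_of_mem_closure _ hP''o hcompP'' w hw''
        refine ⟨s, hsw, ?_, subset_closure hsP⟩
        rintro rfl
        apply hwU
        have : s ∈ π ⁻¹' (U : Set X) := by rw [← hunion]; exact Or.inr hsP
        exact this
  have hcompl : closure (pr '' T') = (closure (pr '' T'ᶜ))ᶜ := by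
    ext y
    constructor
    · intro h1 h2
      have : y ∈ closure (pr '' T') ∩ closure (pr '' T'ᶜ) := ⟨h1, h2⟩
      rw [hdisjcl] at this
      exact this
    · intro h2
      have : y ∈ closure (pr '' T') ∪ closure (pr '' T'ᶜ) := by rw [hcov]; trivial
      exact this.resolve_right h2
  refine ⟨closure (pr '' T'), ⟨isClosed_closure, ?_⟩, ?_⟩
  · rw [hcompl]
    exact isClosed_closure.isOpen_compl
  · rw [← hemb.isEmbedding.closure_eq_preimage_closure_image, hT'.1.closure_eq]

theorem clopenBij {X : Scheme.{u}} (U : X.Opens)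
    (hU : Dense (U : Set X)) [QuasiCompact U.ι] (hcl : ∀ x : X, x ∉ U → IsClosed ({x} : Set X))
    (hsh : ∀ x : X, x ∉ U →
      ConnectedSpace ↥(FEt.puncturedSpec (Hsh (X.presheaf.stalk x)) : Scheme.{u})) :
    Groth.Agent.H68.FEtFF.ClopenBij U.ι := by
  refine ⟨?_, ?_⟩
  · intro W T hT hpre
    haveI : IsFinite W.hom := W.prop.1
    haveI : Etale W.hom := W.prop.2
    have hdense : Dense (W.hom ⁻¹' (U : Set X)) := hU.preimage W.hom.isOpenMap
    have hsub : W.hom ⁻¹' (U : Set X) ⊆ T := by
      intro w hw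
      have hw' : w ∈ Set.range (pullback.fst W.hom U.ι) := by
        rw [Scheme.Pullback.range_fst, Scheme.Opens.range_ι]
        exact hw
      obtain ⟨z, rfl⟩ := hw'
      have : z ∈ (pullback.fst W.hom U.ι) ⁻¹' T := by rw [hpre]; trivial
      exact this
    have hTd : Dense T := hdense.mono hsub
    rw [← hT.1.closure_eq]
    exact hTd.closure_eq
  · intro W T' hT'
    haveI : IsFinite W.hom := W.prop.1
    haveI : Etale W.hom := W.prop.2
    refine surj_core W.hom U (pullback.fst W.hom U.ι) ?_ hU hcl hsh T' hT'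
    rw [Scheme.Pullback.range_fst, Scheme.Opens.range_ι]


open AlgebraicGeometry CategoryTheory CategoryTheory.Limits in
/-- Let X be a scheme and U a dense open subscheme with quasi-compact inclusion such that every point of
the complement of U is closed and, for every such point x and every strict henselization R of the
local ring at x, the punctured spectrum of R is connected. Then restriction of finite etale covers
from X to U is fully faithful. -/
theorem result {X : Scheme.{u}} (U : X.Opens)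
    (hU : Dense (U : Set X)) [QuasiCompact U.ι] (hcl : ∀ x : X, x ∉ U → IsClosed ({x} : Set X))
    (hsh : ∀ x : X, x ∉ U → ∀ (R : Type u) [CommRing R] [IsLocalRing R] [Algebra (X.presheaf.stalk x) R]
      [IsLocalHom (algebraMap (X.presheaf.stalk x) R)] [Hensel.IsStrictHenselization (X.presheaf.stalk x) R],
      ConnectedSpace (FEt.puncturedSpec R : Scheme.{u})) :
    (FEt.restrict U.ι).Full ∧ (FEt.restrict U.ι).Faithful := by
  exact Groth.Agent.H68.FEtFF.full_faithful U.ι
    (clopenBij U hU hcl (fun x hx => hsh x hx (Hsh (X.presheaf.stalk x))))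

end Groth.Agent.S1145
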