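import Groth.Statements.S11451
import Groth.Agent.H61.EssFTNil

set_option autoImplicit false
universe u
open DefT Groth.Agent.H61.EssFT

namespace Groth.Agent.S11451

/-- Let k be an algebraically closed field and A a local k-algebra essentially of finite type over k
with residue field k. Then regularity of A as a local ring is equivalent to the following: for every
local k-algebra B' of finite dimension over k, every ideal J of B' of square zero and every
k-algebra homomorphism f : A → B'/J, there is a k-algebra homomorphism g : A → B' lifting f. (Local
k-algebras of finite k-dimension are exactly the local Artin rings finite over k; lifting against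
square-zero kernels is equivalent to lifting against nilpotent ones by induction.) -/
theorem result (k : Type u) [Field k] [IsAlgClosed k]
    (A : Type u) [CommRing A] [IsLocalRing A] [Algebra k A] [Algebra.EssFiniteType k A]
    (hres : Function.Surjective (algebraMap k (IsLocalRing.ResidueField A))) :
    IsRegularLocalRing A ↔
      ∀ (B' : Type u) [CommRing B'] [IsLocalRing B'] [Algebra k B'] [Module.Finite k B']
        (J : Ideal B'), J ^ 2 = ⊥ → ∀ f : A →ₐ[k] B' ⧸ J,
          ∃ g : A →ₐ[k] B', (Ideal.Quotient.mkₐ k J).comp g = f := by
  classical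
  constructor
  · intro hreg
    haveI := hreg
    obtain ⟨ι, hι, p, hp, φ, hφ⟩ := exists_pres k A
    haveI := hι
    haveI := hp
    have hsmall : SmallLift k A := by
      intro B' B'' _ _ _ _ _ _ _ π hπ hK f
      exact small_lift p φ hφ hres (resk_of_finite k B') π hπ hK f
    intro B' _ _ _ _ J hJ f
    have hJtop : J ≠ ⊤ := by
      intro h
      rw [h, Ideal.top_pow] at hJ
      exact top_ne_bot hJ
    haveI : Nontrivial (B' ⧸ J) := Ideal.Quotient.nontrivial_iff.mpr hJtop
    haveI : IsLocalRing (B' ⧸ J) :=
      IsLocalRing.of_surjective' (Ideal.Quotient.mk J) Ideal.Quotient.mk_surjective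
    exact nil_lift hsmall _ B' (B' ⧸ J) (Ideal.Quotient.mkₐ k J)
      (Ideal.Quotient.mkₐ_surjective k J) le_rfl f
  · intro hL
    obtain ⟨ι, hι, p, hp, φ, hφ⟩ := exists_pres k A
    haveI := hι
    haveI := hp
    obtain ⟨P', _, _, _, ψ, hψ, hker⟩ := exists_pres_sq φ hφ
    have hresP' := residue_surj_of_surjective ψ hψ hres
    have hinj := injective_of_liftSq hresP' ψ hψ hker hL
    exact IsRegularLocalRing.of_ringEquiv (RingEquiv.ofBijective ψ ⟨hinj, hψ⟩)

end Groth.Agent.S11451
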