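import Groth.Statements.S11454
import Groth.Agent.H57.RegFlat2

set_option autoImplicit false
universe u
open DefT

namespace Groth.Agent.S11454

/-- Let C' be a local Artin ring, J ⊊ C' a proper ideal annihilated by the maximal ideal, C = C'/J, A' a
flat C'-algebra whose reduction modulo the maximal ideal of C' is a Cohen–Macaulay local ring, and A
= A'/JA'. If a'_1, …, a'_r ∈ A' have images in A forming a regular sequence with A/(a_1, …, a_r)
flat over C, then a'_1, …, a'_r is a regular sequence on A' and A'/(a'_1, …, a'_r) is flat over C'.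
(Regular sequences stand in for the exactness of the Koszul complexes in the published statement;
over a Noetherian local ring with the elements in the maximal ideal the two are equivalent.) -/
theorem result (C' : Type u) [CommRing C'] [IsLocalRing C'] [IsArtinianRing C'] (J : Ideal C')
    (hJ : IsLocalRing.maximalIdeal C' * J = ⊥) (hJne : J ≠ ⊤) (A' : Type u) [CommRing A'] [Algebra C' A'] [Module.Flat C' A']
    [LocCoh.IsCohenMacaulayLocalRing (A' ⧸ (IsLocalRing.maximalIdeal C').map (algebraMap C' A'))]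
    (r : ℕ) (a' : Fin r → A')
    (hreg : RingTheory.Sequence.IsRegular (A' ⧸ J.map (algebraMap C' A'))
      (List.ofFn (fun i => Ideal.Quotient.mk (J.map (algebraMap C' A')) (a' i))))
    [Module.Flat (C' ⧸ J) ((A' ⧸ J.map (algebraMap C' A')) ⧸
      Ideal.span (Set.range (fun i => Ideal.Quotient.mk (J.map (algebraMap C' A')) (a' i))))] :
    RingTheory.Sequence.IsRegular A' (List.ofFn a') ∧ Module.Flat C' (A' ⧸ Ideal.span (Set.range a')) := by
  classical
  have hJ𝔪 : J ≤ IsLocalRing.maximalIdeal C' := IsLocalRing.le_maximalIdeal hJne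
  have hJA𝔫 : J.map (algebraMap C' A') ≤ (IsLocalRing.maximalIdeal C').map (algebraMap C' A') :=
    Ideal.map_mono hJ𝔪
  obtain ⟨hloc, hnoeth, hlochom⟩ := Groth.Agent.H57.local_noeth_of_artinian_base C' A'
  haveI := hloc
  haveI := hnoeth
  haveI := hlochom
  have h𝔫top : (IsLocalRing.maximalIdeal C').map (algebraMap C' A') ≠ ⊤ :=
    Ideal.Quotient.nontrivial_iff.mp inferInstance
  have hJAtop : J.map (algebraMap C' A') ≠ ⊤ := fun h => h𝔫top (top_le_iff.mp (h ▸ hJA𝔫))
  haveI : Nontrivial (A' ⧸ J.map (algebraMap C' A')) := Ideal.Quotient.nontrivial_iff.mpr hJAtop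
  haveI : IsLocalRing (A' ⧸ J.map (algebraMap C' A')) :=
    IsLocalRing.of_surjective' (Ideal.Quotient.mk (J.map (algebraMap C' A')))
      Ideal.Quotient.mk_surjective
  have hlist : List.ofFn (fun i => Ideal.Quotient.mk (J.map (algebraMap C' A')) (a' i)) =
      (List.ofFn a').map (Ideal.Quotient.mk (J.map (algebraMap C' A'))) := by
    rw [List.map_ofFn]
    rfl
  rw [hlist] at hreg
  have hnuA : ∀ f ∈ (List.ofFn a').map (Ideal.Quotient.mk (J.map (algebraMap C' A'))),
      ¬ IsUnit f := by
    intro f hf hu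
    apply hreg.top_ne_smul
    have h1 : Ideal.ofList ((List.ofFn a').map (Ideal.Quotient.mk (J.map (algebraMap C' A')))) =
        ⊤ := Ideal.eq_top_of_isUnit_mem _ (Ideal.subset_span hf) hu
    rw [h1, Submodule.top_smul]
  have hnu : ∀ f ∈ List.ofFn a', ¬ IsUnit f := by
    intro f hf hu
    exact hnuA _ (List.mem_map_of_mem hf) (hu.map _)
  have hflatA : Module.Flat (C' ⧸ J) ((A' ⧸ J.map (algebraMap C' A')) ⧸
      (Ideal.ofList ((List.ofFn a').map (Ideal.Quotient.mk (J.map (algebraMap C' A')))) • ⊤ :
        Submodule (A' ⧸ J.map (algebraMap C' A')) (A' ⧸ J.map (algebraMap C' A')))) := by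
    have e : (Ideal.ofList ((List.ofFn a').map
          (Ideal.Quotient.mk (J.map (algebraMap C' A')))) • ⊤ :
        Submodule (A' ⧸ J.map (algebraMap C' A')) (A' ⧸ J.map (algebraMap C' A'))) =
        Ideal.span (Set.range
          (fun i => Ideal.Quotient.mk (J.map (algebraMap C' A')) (a' i))) := by
      rw [smul_eq_mul, Ideal.mul_top, ← hlist]
      unfold Ideal.ofList
      congr 1
      ext x
      simp [List.mem_ofFn]
    exact Module.Flat.of_linearEquiv ((Submodule.quotEquivOfEq _ _ e).restrictScalars (C' ⧸ J))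
  have hflats := Groth.Agent.H57.flat_take_of_isWeaklyRegular (A := C' ⧸ J)
    ((List.ofFn a').map (Ideal.Quotient.mk (J.map (algebraMap C' A'))))
    (fun f hf => IsLocalRing.maximalIdeal_le_jacobson _
      ((IsLocalRing.mem_maximalIdeal f).mpr (hnuA f hf)))
    (A' ⧸ J.map (algebraMap C' A')) hreg.toIsWeaklyRegular hflatA
  have h1 := Groth.Agent.H57.isWeaklyRegular_quot_of_flat_take
    ((IsLocalRing.maximalIdeal C').map (Ideal.Quotient.mk J))
    ((List.ofFn a').map (Ideal.Quotient.mk (J.map (algebraMap C' A'))))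
    (A' ⧸ J.map (algebraMap C' A')) hreg.toIsWeaklyRegular (fun i _ hi => hflats i hi)
  have h1' := (RingTheory.Sequence.isWeaklyRegular_map_algebraMap_iff
    (A' ⧸ J.map (algebraMap C' A')) _ (List.ofFn a')).mp h1
  have hK : ((IsLocalRing.maximalIdeal C').map (Ideal.Quotient.mk J)).map
      (algebraMap (C' ⧸ J) (A' ⧸ J.map (algebraMap C' A'))) =
      ((IsLocalRing.maximalIdeal C').map (algebraMap C' A')).map
        (Ideal.Quotient.mk (J.map (algebraMap C' A'))) := by
    rw [Ideal.map_map, Ideal.map_map]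
    congr 1
  have h2 : RingTheory.Sequence.IsWeaklyRegular
      (A' ⧸ ((IsLocalRing.maximalIdeal C').map (algebraMap C' A') • ⊤ : Submodule A' A'))
      (List.ofFn a') :=
    (LinearEquiv.isWeaklyRegular_congr (Groth.Agent.H57.doubleQuotEquiv
      (J.map (algebraMap C' A')) ((IsLocalRing.maximalIdeal C').map (algebraMap C' A')) _
      hJA𝔫 hK) (List.ofFn a')).mp h1'
  have h3 : RingTheory.Sequence.IsWeaklyRegular
      (A' ⧸ (IsLocalRing.maximalIdeal C').map (algebraMap C' A')) (List.ofFn a') :=
    (LinearEquiv.isWeaklyRegular_congr (Submodule.quotEquivOfEq _ _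
      (by rw [smul_eq_mul, Ideal.mul_top])) (List.ofFn a')).mp h2
  have h4 : RingTheory.Sequence.IsWeaklyRegular
      (A' ⧸ (IsLocalRing.maximalIdeal C').map (algebraMap C' A'))
      ((List.ofFn a').map
        (Ideal.Quotient.mk ((IsLocalRing.maximalIdeal C').map (algebraMap C' A')))) :=
    (RingTheory.Sequence.isWeaklyRegular_map_algebraMap_iff
      (A' ⧸ (IsLocalRing.maximalIdeal C').map (algebraMap C' A')) _ (List.ofFn a')).mpr h3
  haveI : IsLocalHom (Ideal.Quotient.mk ((IsLocalRing.maximalIdeal C').map (algebraMap C' A'))) :=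
    IsLocalHom.of_surjective _ Ideal.Quotient.mk_surjective
  have hmem : ∀ f ∈ (List.ofFn a').map
      (Ideal.Quotient.mk ((IsLocalRing.maximalIdeal C').map (algebraMap C' A'))),
      f ∈ IsLocalRing.maximalIdeal (A' ⧸ (IsLocalRing.maximalIdeal C').map (algebraMap C' A')) := by
    intro f hf
    obtain ⟨g, hg, rfl⟩ := List.mem_map.mp hf
    rw [IsLocalRing.mem_maximalIdeal, mem_nonunits_iff]
    intro hu
    exact hnu g hg (isUnit_of_map_unit _ g hu)
  have h5 : RingTheory.Sequence.IsRegular
      (A' ⧸ (IsLocalRing.maximalIdeal C').map (algebraMap C' A'))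
      ((List.ofFn a').map
        (Ideal.Quotient.mk ((IsLocalRing.maximalIdeal C').map (algebraMap C' A')))) :=
    RingTheory.Sequence.IsRegular.of_isWeaklyRegular_of_mem_maximalIdeal _ hmem h4
  obtain ⟨-, -, -, -, hregA', hflats'⟩ :=
    Groth.Agent.H57.isRegular_and_flat_of_fibre (C' := C') (List.ofFn a') h5
  refine ⟨hregA', ?_⟩
  have h6 := hflats' (List.ofFn a').length le_rfl
  rw [List.take_length] at h6
  haveI := h6
  have e : (Ideal.ofList (List.ofFn a') • ⊤ : Submodule A' A') = Ideal.span (Set.range a') := by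
    rw [smul_eq_mul, Ideal.mul_top]
    unfold Ideal.ofList
    congr 1
    ext x
    simp [List.mem_ofFn]
  exact Module.Flat.of_linearEquiv ((Submodule.quotEquivOfEq _ _ e.symm).restrictScalars C')

end Groth.Agent.S11454
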