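import Groth.Statements.S11455
import Groth.Agent.H57.RegFlat3

set_option autoImplicit false
universe u
open DefT

namespace Groth.Agent.S11455

/-- Let C' be a local Artin ring, J ⊊ C' a proper ideal annihilated by the maximal ideal, C = C'/J, A' a
flat C'-algebra whose reduction modulo the maximal ideal of C' is a Cohen–Macaulay local ring, A =
A'/JA', and a_1, …, a_r a regular sequence on A with A/(a_1, …, a_r) flat over C. Then every ideal
I' of A' with A'/I' flat over C' and with image (a_1, …, a_r) in A is generated by some lifts a'_1,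
…, a'_r of the a_i. -/
theorem result (C' : Type u) [CommRing C'] [IsLocalRing C'] [IsArtinianRing C'] (J : Ideal C')
    (hJ : IsLocalRing.maximalIdeal C' * J = ⊥) (hJne : J ≠ ⊤) (A' : Type u) [CommRing A'] [Algebra C' A'] [Module.Flat C' A']
    [LocCoh.IsCohenMacaulayLocalRing (A' ⧸ (IsLocalRing.maximalIdeal C').map (algebraMap C' A'))]
    (r : ℕ) (a : Fin r → A' ⧸ J.map (algebraMap C' A'))
    (hreg : RingTheory.Sequence.IsRegular (A' ⧸ J.map (algebraMap C' A')) (List.ofFn a))
    [Module.Flat (C' ⧸ J) ((A' ⧸ J.map (algebraMap C' A')) ⧸ Ideal.span (Set.range a))]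
    (I' : Ideal A') [Module.Flat C' (A' ⧸ I')]
    (hI' : I'.map (Ideal.Quotient.mk (J.map (algebraMap C' A'))) = Ideal.span (Set.range a)) :
    ∃ a' : Fin r → A', (∀ i, Ideal.Quotient.mk (J.map (algebraMap C' A')) (a' i) = a i) ∧
      I' = Ideal.span (Set.range a') := by
  classical
  obtain ⟨hloc, hnoeth, hlochom⟩ := Groth.Agent.H57.local_noeth_of_artinian_base C' A'
  haveI := hloc
  haveI := hnoeth
  haveI := hlochom
  have hex : ∀ i, ∃ x ∈ I', Ideal.Quotient.mk (J.map (algebraMap C' A')) x = a i := by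
    intro i
    have h1 : a i ∈ I'.map (Ideal.Quotient.mk (J.map (algebraMap C' A'))) := by
      rw [hI']
      exact Ideal.subset_span ⟨i, rfl⟩
    exact (Ideal.mem_map_iff_of_surjective _ Ideal.Quotient.mk_surjective).mp h1
  choose a' ha'I hab using hex
  refine ⟨a', hab, ?_⟩
  have hle : Ideal.span (Set.range a') ≤ I' :=
    Ideal.span_le.mpr (by rintro _ ⟨i, rfl⟩; exact ha'I i)
  refine le_antisymm ?_ hle
  have hJ𝔪 : J ≤ IsLocalRing.maximalIdeal C' := IsLocalRing.le_maximalIdeal hJne
  have hJA𝔫 : J.map (algebraMap C' A') ≤ (IsLocalRing.maximalIdeal C').map (algebraMap C' A') :=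
    Ideal.map_mono hJ𝔪
  have h𝔫top : (IsLocalRing.maximalIdeal C').map (algebraMap C' A') ≠ ⊤ :=
    Ideal.Quotient.nontrivial_iff.mp inferInstance
  have h𝔫jac : (IsLocalRing.maximalIdeal C').map (algebraMap C' A') ≤ Ideal.jacobson ⊥ :=
    (IsLocalRing.le_maximalIdeal h𝔫top).trans (IsLocalRing.maximalIdeal_le_jacobson ⊥)
  have hmap : (Ideal.span (Set.range a')).map (Ideal.Quotient.mk (J.map (algebraMap C' A'))) =
      I'.map (Ideal.Quotient.mk (J.map (algebraMap C' A'))) := by
    rw [hI', Ideal.map_span, ← Set.range_comp]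
    congr 2
    funext i
    exact hab i
  refine Groth.Agent.H57.le_of_flat_quotient_of_le_sup (A := C') (B := A') A' J
    (hJA𝔫.trans h𝔫jac) (Ideal.span (Set.range a')) I' hle ?_
  intro x hx
  have h1 : Ideal.Quotient.mk (J.map (algebraMap C' A')) x ∈
      (Ideal.span (Set.range a')).map (Ideal.Quotient.mk (J.map (algebraMap C' A'))) := by
    rw [hmap]
    exact Ideal.mem_map_of_mem _ hx
  obtain ⟨y, hy, hxy⟩ := (Ideal.mem_map_iff_of_surjective _ Ideal.Quotient.mk_surjective).mp h1
  have hz : x - y ∈ J.map (algebraMap C' A') := by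
    rw [← Ideal.Quotient.eq_zero_iff_mem, map_sub, hxy, sub_self]
  refine Submodule.mem_sup.mpr ⟨y, hy, x - y, ?_, by ring⟩
  rw [smul_eq_mul, Ideal.mul_top]
  exact hz

end Groth.Agent.S11455
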