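import Groth.Statements.S11456
import Groth.Agent.H57.RegFlat2

set_option autoImplicit false
universe u
open DefT

namespace Groth.Agent.S11456

/-- Let C be a local Artin ring with maximal ideal m, A a flat C-algebra such that A₀ = A/mA is a
Cohen–Macaulay local ring, and I ⊆ A an ideal with A/I flat over C whose image in A₀ is generated by
a regular sequence b_1, …, b_r on A₀. Then I is generated by r elements a_1, …, a_r forming a
regular sequence on A (so the Koszul complex on the a_i resolves A/I). -/
theorem result (C : Type u) [CommRing C]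
    [IsLocalRing C] [IsArtinianRing C] (A : Type u) [CommRing A] [Algebra C A] [Module.Flat C A]
    [LocCoh.IsCohenMacaulayLocalRing (A ⧸ (IsLocalRing.maximalIdeal C).map (algebraMap C A))]
    (I : Ideal A) [Module.Flat C (A ⧸ I)] (r : ℕ)
    (b : Fin r → A ⧸ (IsLocalRing.maximalIdeal C).map (algebraMap C A))
    (hb : RingTheory.Sequence.IsRegular (A ⧸ (IsLocalRing.maximalIdeal C).map (algebraMap C A)) (List.ofFn b))
    (hI : I.map (Ideal.Quotient.mk ((IsLocalRing.maximalIdeal C).map (algebraMap C A))) = Ideal.span (Set.range b)) :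
    ∃ a : Fin r → A, RingTheory.Sequence.IsRegular A (List.ofFn a) ∧ I = Ideal.span (Set.range a) := by
  classical
  have hex : ∀ i, ∃ x ∈ I,
      Ideal.Quotient.mk ((IsLocalRing.maximalIdeal C).map (algebraMap C A)) x = b i := by
    intro i
    have h1 : b i ∈ I.map
        (Ideal.Quotient.mk ((IsLocalRing.maximalIdeal C).map (algebraMap C A))) := by
      rw [hI]
      exact Ideal.subset_span ⟨i, rfl⟩
    exact (Ideal.mem_map_iff_of_surjective _ Ideal.Quotient.mk_surjective).mp h1
  choose a haI hab using hex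
  have hlist : (List.ofFn a).map
      (Ideal.Quotient.mk ((IsLocalRing.maximalIdeal C).map (algebraMap C A))) = List.ofFn b := by
    rw [List.map_ofFn]
    congr 1
    funext i
    exact hab i
  obtain ⟨hloc, hnoeth, hlochom, hnu, hregA, hflats⟩ :=
    Groth.Agent.H57.isRegular_and_flat_of_fibre (C' := C) (List.ofFn a)
      (by rw [hlist]; exact hb)
  haveI := hloc
  haveI := hnoeth
  haveI := hlochom
  refine ⟨a, hregA, ?_⟩
  have hI₀ : Ideal.ofList (List.ofFn a) = Ideal.span (Set.range a) := by
    unfold Ideal.ofList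
    congr 1
    ext x
    simp [List.mem_ofFn]
  have hle : Ideal.span (Set.range a) ≤ I :=
    Ideal.span_le.mpr (by rintro _ ⟨i, rfl⟩; exact haI i)
  refine le_antisymm ?_ hle
  have h𝔫top : (IsLocalRing.maximalIdeal C).map (algebraMap C A) ≠ ⊤ :=
    Ideal.Quotient.nontrivial_iff.mp inferInstance
  have h𝔫jac : (IsLocalRing.maximalIdeal C).map (algebraMap C A) ≤ Ideal.jacobson ⊥ :=
    (IsLocalRing.le_maximalIdeal h𝔫top).trans (IsLocalRing.maximalIdeal_le_jacobson ⊥)
  haveI hflatI : Module.Flat C (A ⧸ I.restrictScalars C) :=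
    Module.Flat.of_linearEquiv (Submodule.Quotient.restrictScalarsEquiv C I)
  have hmap : (Ideal.span (Set.range a)).map
      (Ideal.Quotient.mk ((IsLocalRing.maximalIdeal C).map (algebraMap C A))) =
      I.map (Ideal.Quotient.mk ((IsLocalRing.maximalIdeal C).map (algebraMap C A))) := by
    rw [hI, Ideal.map_span, ← Set.range_comp]
    congr 2
    funext i
    exact hab i
  refine Submodule.le_of_le_smul_of_le_jacobson_bot (IsNoetherian.noetherian I) h𝔫jac ?_
  intro x hx
  have h1 : Ideal.Quotient.mk ((IsLocalRing.maximalIdeal C).map (algebraMap C A)) x ∈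
      (Ideal.span (Set.range a)).map
        (Ideal.Quotient.mk ((IsLocalRing.maximalIdeal C).map (algebraMap C A))) := by
    rw [hmap]
    exact Ideal.mem_map_of_mem _ hx
  obtain ⟨y, hy, hxy⟩ := (Ideal.mem_map_iff_of_surjective _ Ideal.Quotient.mk_surjective).mp h1
  have hz𝔫 : x - y ∈ (IsLocalRing.maximalIdeal C).map (algebraMap C A) := by
    rw [← Ideal.Quotient.eq_zero_iff_mem, map_sub, hxy, sub_self]
  have hzI : x - y ∈ I := I.sub_mem hx (hle hy)
  have hz2 : x - y ∈ (IsLocalRing.maximalIdeal C • ⊤ : Submodule C A) := by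
    rw [← Groth.Agent.H57.mem_map_smul_top_iff (B := A) A, smul_eq_mul, Ideal.mul_top]
    exact hz𝔫
  have hz3 := Groth.Agent.H57.mem_smul_of_mem_of_mem_smul_top (IsLocalRing.maximalIdeal C)
    (I.restrictScalars C) (x - y) hzI hz2
  have hz4 : x - y ∈ ((IsLocalRing.maximalIdeal C).map (algebraMap C A) • I : Submodule A A) := by
    refine Submodule.smul_induction_on hz3 ?_ ?_
    · intro c hc i hi
      rw [← algebraMap_smul A c i]
      exact Submodule.smul_mem_smul (Ideal.mem_map_of_mem _ hc) hi
    · intro u v hu hv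
      exact add_mem hu hv
  exact Submodule.mem_sup.mpr ⟨y, hy, x - y, hz4, by ring⟩

end Groth.Agent.S11456
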