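import Groth.Statements.S1146
import Mathlib

set_option autoImplicit false
open CategoryTheory CategoryTheory.Limits AlgebraicGeometry Opposite
universe u
open Desc

namespace Groth.Agent.S1146

section Top

attribute [local instance] specializationOrder

/-- The dimension of a sober space is the Krull dimension of its specialization order. -/
theorem topologicalKrullDim_eq_krullDim' (Z : Type*) [TopologicalSpace Z] [QuasiSober Z]
    [T0Space Z] : topologicalKrullDim Z = Order.krullDim Z := by
  unfold topologicalKrullDim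
  exact Order.krullDim_eq_of_orderIso (irreducibleSetEquivPoints (α := Z))

/-- A continuous surjective generalizing map without specializations inside the fibres
preserves dimension. -/
theorem topologicalKrullDim_eq_of_generalizing {A B : Type*} [TopologicalSpace A]
    [TopologicalSpace B] [QuasiSober A] [T0Space A] [QuasiSober B] [T0Space B]
    (g : A → B) (hc : Continuous g) (hs : Function.Surjective g)
    (hgen : ∀ (a : A) (b : B), b ⤳ g a → ∃ a', a' ⤳ a ∧ g a' = b)
    (hfib : ∀ a a' : A, a' ⤳ a → g a = g a' → a = a') :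
    topologicalKrullDim A = topologicalKrullDim B := by
  rw [topologicalKrullDim_eq_krullDim', topologicalKrullDim_eq_krullDim']
  have hmono : StrictMono g := by
    intro a a' hlt
    have h1 : a' ⤳ a := hlt.le
    have h2 : g a' ⤳ g a := h1.map hc
    refine lt_of_le_of_ne h2 (fun heq => ?_)
    exact hlt.ne (hfib a a' h1 heq)
  have hco : ∀ a : A, Order.coheight a = Order.coheight (g a) := by
    intro a
    refine Order.coheight_eq_of_strictMono g hmono (fun a b hab => ?_) a
    obtain ⟨a', ha', hga'⟩ := hgen a b hab.le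
    refine ⟨a', lt_of_le_of_ne ha' (fun heq => ?_), hga'⟩
    rw [← hga', heq] at hab
    exact lt_irrefl _ hab
  rw [Order.krullDim_eq_iSup_coheight, Order.krullDim_eq_iSup_coheight]
  rw [← hs.iSup_comp]
  exact iSup_congr fun a => by rw [hco a]

end Top

theorem locallyQuasiFinite_of_etale {X Y : Scheme.{u}} (f : X ⟶ Y) [Etale f] :
    LocallyQuasiFinite f := by
  refine ⟨fun {U} hU {V} hV e => ?_⟩
  have h : (f.appLE U V e).hom.Etale := f.etale_appLE hU hV e
  algebraize [(f.appLE U V e).hom]
  show @Algebra.QuasiFinite _ _ _ _ (f.appLE U V e).hom.toAlgebra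
  infer_instance

/-- An étale morphism preserves the dimension of open subsets. -/
theorem dim_image_eq {U V : Scheme.{u}} (f : U ⟶ V) [Etale f] (W : U.Opens) :
    topologicalKrullDim (f '' (W : Set U) : Set V) = topologicalKrullDim (W : Set U) := by
  have hopen : IsOpen (f '' (W : Set U)) := f.isOpenMap _ W.2
  haveI : QuasiSober (W : Set U) := W.isOpenEmbedding'.quasiSober
  haveI : QuasiSober (f '' (W : Set U) : Set V) := hopen.isOpenEmbedding_subtypeVal.quasiSober
  haveI : LocallyQuasiFinite f := locallyQuasiFinite_of_etale f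
  symm
  refine topologicalKrullDim_eq_of_generalizing
    (fun a : (W : Set U) => (⟨f a.1, a.1, a.2, rfl⟩ : (f '' (W : Set U) : Set V)))
    (Continuous.subtype_mk (f.continuous.comp continuous_subtype_val) _) ?_ ?_ ?_
  · rintro ⟨b, a, ha, rfl⟩
    exact ⟨⟨a, ha⟩, rfl⟩
  · rintro ⟨a, ha⟩ ⟨b, hb⟩ hsp
    have hsp' : b ⤳ f a := (subtype_specializes_iff _ _).mp hsp
    obtain ⟨a', ha', hfa'⟩ := (Flat.generalizingMap f) hsp'
    have ha'W : a' ∈ W := ha'.mem_open W.2 ha
    exact ⟨⟨a', ha'W⟩, (subtype_specializes_iff _ _).mpr ha', Subtype.ext hfa'⟩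
  · rintro ⟨a, ha⟩ ⟨a', ha'⟩ hsp heq
    have hsp' : a' ⤳ a := (subtype_specializes_iff _ _).mp hsp
    have heq' : f a = f a' := congrArg Subtype.val heq
    have hd : _root_.IsDiscrete (f ⁻¹' {f a}) := f.isDiscrete_preimage_singleton (f a)
    haveI := hd.to_subtype
    have hsp'' : (⟨a', heq'.symm⟩ : f ⁻¹' {f a}) ⤳ ⟨a, rfl⟩ :=
      (subtype_specializes_iff _ _).mpr hsp'
    have := hsp''.eq
    exact Subtype.ext (congrArg Subtype.val this).symm

/-- Let f : U ⟶ V be an etale morphism of schemes and u a point of U. Then the local dimension of U at u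
(the infimum of the Krull dimensions of open neighbourhoods) equals the local dimension of V at
f(u). -/
theorem result {U V : Scheme.{u}} (f : U ⟶ V) [Etale f] (u : U) :
    FlatMor.localDim U u = FlatMor.localDim V (f.base u) := by
  unfold FlatMor.localDim
  apply le_antisymm
  · refine le_iInf fun V' => ?_
    have huW : u ∈ f ⁻¹ᵁ V'.1 := V'.2
    refine (iInf_le _ (⟨f ⁻¹ᵁ V'.1, huW⟩ : {W : U.Opens // u ∈ W})).trans ?_
    show topologicalKrullDim ((f ⁻¹ᵁ V'.1 : U.Opens) : Set U) ≤ _
    rw [← dim_image_eq f (f ⁻¹ᵁ V'.1)]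
    have hsub : f '' ((f ⁻¹ᵁ V'.1 : U.Opens) : Set U) ⊆ (V'.1 : Set V) :=
      Set.image_preimage_subset _ _
    exact (Topology.IsEmbedding.inclusion hsub).isInducing.topologicalKrullDim_le
  · refine le_iInf fun W => ?_
    have hopen : IsOpen (f '' (W.1 : Set U)) := f.isOpenMap _ W.1.2
    refine (iInf_le _ (⟨⟨f '' (W.1 : Set U), hopen⟩, ⟨u, W.2, rfl⟩⟩ :
      {V' : V.Opens // f u ∈ V'})).trans ?_
    exact (dim_image_eq f W.1).le

end Groth.Agent.S1146
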