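import Groth.Statements.S11460
import Groth.Agent.S11449
import Groth.Agent.H63.SmoothRegular2
import Groth.Agent.H71.StalkLoc
import Groth.Agent.H26.SpreadHB

set_option autoImplicit false
universe u
open CategoryTheory AlgebraicGeometry
open DefT

namespace Groth.Agent.S11460

open Groth.Agent.H26.SpreadHB in
/-- the stalk ideal of a closed immersion is the extension of the ideal of sections -/
theorem ker_stalkMap_eq_map {X Y : Scheme.{u}} (ι : Y ⟶ X) [IsClosedImmersion ι] (y : Y)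
    {U₀ : X.Opens} (hU₀ : IsAffineOpen U₀) (hx : ι.base y ∈ U₀) :
    RingHom.ker (ι.stalkMap y).hom =
      (RingHom.ker (ι.app U₀).hom).map (X.presheaf.germ U₀ (ι.base y) hx).hom := by
  letI := X.presheaf.algebra_section_stalk ⟨ι.base y, hx⟩
  haveI := hU₀.isLocalization_stalk ⟨ι.base y, hx⟩
  have hV : IsAffineOpen (ι ⁻¹ᵁ U₀) := hU₀.preimage ι
  have hyV : y ∈ ι ⁻¹ᵁ U₀ := hx
  letI := Y.presheaf.algebra_section_stalk ⟨y, hyV⟩
  haveI := hV.isLocalization_stalk ⟨y, hyV⟩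
  have key : ∀ a : Γ(X, U₀), (ι.stalkMap y).hom ((X.presheaf.germ U₀ (ι.base y) hx).hom a) =
      (Y.presheaf.germ (ι ⁻¹ᵁ U₀) y hyV).hom ((ι.app U₀).hom a) := fun a =>
    ι.germ_stalkMap_apply U₀ y hx a
  apply le_antisymm
  · intro t ht
    obtain ⟨⟨a, s⟩, rfl⟩ := IsLocalization.mk'_surjective
      (hU₀.primeIdealOf ⟨ι.base y, hx⟩).asIdeal.primeCompl t
    have ht' : algebraMap Γ(X, U₀) (X.presheaf.stalk (ι.base y)) a ∈
        RingHom.ker (ι.stalkMap y).hom := (IsLocalization.mk'_mem_iff).mp ht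
    refine (IsLocalization.mk'_mem_iff (I := Ideal.map _ _)).mpr ?_
    have h0 : (Y.presheaf.germ (ι ⁻¹ᵁ U₀) y hyV).hom ((ι.app U₀).hom a) = 0 := by
      rw [← key]; exact ht'
    obtain ⟨m, hm⟩ := (IsLocalization.map_eq_zero_iff
      (hV.primeIdealOf ⟨y, hyV⟩).asIdeal.primeCompl (Y.presheaf.stalk y) _).mp h0
    obtain ⟨s'', hs''⟩ := ι.app_surjective U₀ hU₀ (m : Γ(Y, ι ⁻¹ᵁ U₀))
    have hunitY : IsUnit ((Y.presheaf.germ (ι ⁻¹ᵁ U₀) y hyV).hom (m : Γ(Y, ι ⁻¹ᵁ U₀))) :=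
      IsLocalization.map_units (Y.presheaf.stalk y) m
    have hunitX : IsUnit ((X.presheaf.germ U₀ (ι.base y) hx).hom s'') := by
      apply isUnit_of_map_unit (ι.stalkMap y).hom
      rw [key]
      have : (ι.app U₀).hom s'' = (m : Γ(Y, ι ⁻¹ᵁ U₀)) := hs''
      rw [this]; exact hunitY
    have hmem : s'' * a ∈ RingHom.ker (ι.app U₀).hom := by
      rw [RingHom.mem_ker, map_mul]
      have : (ι.app U₀).hom s'' = (m : Γ(Y, ι ⁻¹ᵁ U₀)) := hs''
      rw [this]; exact hm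
    have h1 := Ideal.mem_map_of_mem (X.presheaf.germ U₀ (ι.base y) hx).hom hmem
    rw [map_mul] at h1
    exact (Ideal.unit_mul_mem_iff_mem _ hunitX).mp h1
  · rw [Ideal.map_le_iff_le_comap]
    intro a ha
    rw [Ideal.mem_comap, RingHom.mem_ker, key]
    have : (ι.app U₀).hom a = 0 := ha
    rw [this, map_zero]

/-- Let X be smooth over a field k and Y ⊆ X a closed subscheme which is Cohen–Macaulay of codimension 2
(all local rings of Y Cohen–Macaulay, and dim O_{X,y} = dim O_{Y,y} + 2 at every point y of Y). Then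
each point of Y has an affine open neighbourhood U in X and an (r+1) × r matrix φ of functions on U
whose signed maximal minors f_i generate the ideal of Y ∩ U and give an exact sequence 0 → O(U)^r →
O(U)^{r+1} → O(U), hence a resolution of O_{Y ∩ U} on the affine U. -/
theorem result (k : Type u) [Field k]
    (X Y : Scheme.{u}) (f : X ⟶ Spec (CommRingCat.of k)) [Smooth f] (ι : Y ⟶ X) [IsClosedImmersion ι]
    (hCM : ∀ y : Y, LocCoh.IsCohenMacaulayLocalRing (Y.presheaf.stalk y))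
    (hcodim : ∀ y : Y, ringKrullDim (Y.presheaf.stalk y) + 2 = ringKrullDim (X.presheaf.stalk (ι.base y)))
    (y : Y) :
    ∃ U : X.affineOpens, ι.base y ∈ (U : X.Opens) ∧ ∃ (r : ℕ) (φ : Matrix (Fin (r + 1)) (Fin r) Γ(X, U)),
      (Ideal.span (Set.range (fun i : Fin (r + 1) => (-1 : Γ(X, U)) ^ (i : ℕ) * ((φ).submatrix i.succAbove id).det)) = ι.ker.ideal U ∧
        Function.Injective (φ).mulVecLin ∧
        LinearMap.range (φ).mulVecLin = LinearMap.ker (Fintype.linearCombination Γ(X, U) (fun i : Fin (r + 1) => (-1 : Γ(X, U)) ^ (i : ℕ) * ((φ).submatrix i.succAbove id).det))) := by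
  classical
  haveI hreg : IsRegularLocalRing (X.presheaf.stalk (ι.base y)) :=
    Groth.Agent.H63.SmoothRegular.isRegularLocalRing_stalk_of_smooth f (ι.base y)
  have hsurj : Function.Surjective (ι.stalkMap y).hom := ι.stalkMap_surjective y
  let e : (X.presheaf.stalk (ι.base y) ⧸ RingHom.ker (ι.stalkMap y).hom) ≃+* Y.presheaf.stalk y :=
    RingHom.quotientKerEquivOfSurjective hsurj
  haveI hCMq : LocCoh.IsCohenMacaulayLocalRing
      (X.presheaf.stalk (ι.base y) ⧸ RingHom.ker (ι.stalkMap y).hom) :=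
    Groth.Agent.H71.StalkLoc.isCM_of_ringEquiv e (hCM y)
  have hcd : ringKrullDim (X.presheaf.stalk (ι.base y) ⧸ RingHom.ker (ι.stalkMap y).hom) + 2 =
      ringKrullDim (X.presheaf.stalk (ι.base y)) := by
    rw [ringKrullDim_eq_of_ringEquiv e]; exact hcodim y
  obtain ⟨r, φR, hR1, -, hR2, hR3⟩ := Groth.Agent.S11449.result
    (X.presheaf.stalk (ι.base y)) (RingHom.ker (ι.stalkMap y).hom) hcd
  obtain ⟨_, ⟨U₀, hU₀, rfl⟩, hxU₀, -⟩ :=
    X.isBasis_affineOpens.exists_subset_of_mem_open (Set.mem_univ (ι.base y)) isOpen_univ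
  haveI : IsLocallyNoetherian X := LocallyOfFiniteType.isLocallyNoetherian f
  haveI : IsNoetherianRing Γ(X, U₀) := IsLocallyNoetherian.component_noetherian ⟨U₀, hU₀⟩
  letI := X.presheaf.algebra_section_stalk ⟨ι.base y, hxU₀⟩
  haveI := hU₀.isLocalization_stalk ⟨ι.base y, hxU₀⟩
  haveI : (hU₀.primeIdealOf ⟨ι.base y, hxU₀⟩).asIdeal.IsPrime :=
    (hU₀.primeIdealOf ⟨ι.base y, hxU₀⟩).isPrime
  have hJ : RingHom.ker (ι.stalkMap y).hom =
      (RingHom.ker (ι.app U₀).hom).map (algebraMap Γ(X, U₀) (X.presheaf.stalk (ι.base y))) :=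
    ker_stalkMap_eq_map ι y hU₀ hxU₀
  obtain ⟨g, hgp, hcore⟩ := Groth.Agent.H26.SpreadHB.core
    (hU₀.primeIdealOf ⟨ι.base y, hxU₀⟩).asIdeal (X.presheaf.stalk (ι.base y))
    (RingHom.ker (ι.app U₀).hom) φR (hR1.trans hJ) hR2 hR3
  haveI := hU₀.isLocalization_basicOpen g
  obtain ⟨φ, h1, h2, h3⟩ := hcore Γ(X, X.basicOpen g)
  have hxg : ι.base y ∈ X.basicOpen g := by
    rw [X.mem_basicOpen g (ι.base y) hxU₀]
    exact (IsLocalization.AtPrime.isUnit_to_map_iff (X.presheaf.stalk (ι.base y))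
      (hU₀.primeIdealOf ⟨ι.base y, hxU₀⟩).asIdeal g).mpr hgp
  refine ⟨X.affineBasicOpen (U := ⟨U₀, hU₀⟩) g, hxg, r, φ, ?_, h2, h3⟩
  refine h1.trans ?_
  have := ι.ker.map_ideal_basicOpen ⟨U₀, hU₀⟩ g
  rw [Scheme.Hom.ker_apply] at this
  exact this

end Groth.Agent.S11460
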