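import Groth.Statements.S11461
import Mathlib.RingTheory.Ideal.AssociatedPrime.Finiteness
import Mathlib.RingTheory.Finiteness.Nakayama
import Mathlib.RingTheory.Ideal.Colon
import Mathlib.Algebra.Homology.ShortComplex.ModuleCat
import Mathlib.CategoryTheory.Limits.Preserves.Shapes.Zero
import Mathlib.Tactic

set_option autoImplicit false
universe u
open CategoryTheory
open DefT

namespace Groth.Agent.S11461

section helpers

open CategoryTheory.Limits

variable {B : Type u} [CommRing B]

theorem subsingleton_of_exact {X₁ X₂ X₃ : ModuleCat.{u} B} (φ : X₁ ⟶ X₂) (ψ : X₂ ⟶ X₃)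
    (h : Function.Exact φ ψ) (h1 : Subsingleton X₁) (h3 : Subsingleton X₃) : Subsingleton X₂ := by
  have h0 : ∀ y : X₂, y = 0 := by
    intro y
    obtain ⟨z, rfl⟩ := (h y).mp (Subsingleton.elim _ _)
    rw [Subsingleton.elim z 0, map_zero]
  exact ⟨fun a b => by rw [h0 a, h0 b]⟩

theorem exact_map (F : ModuleCat.{u} B ⥤ ModuleCat.{u} B) [F.Additive]
    (hex : ∀ S : ShortComplex (ModuleCat.{u} B), S.ShortExact → Module.Finite B S.X₂ → (S.map F).Exact)
    {N₁ N₂ N₃ : Type u} [AddCommGroup N₁] [Module B N₁] [AddCommGroup N₂] [Module B N₂]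
    [Module.Finite B N₂] [AddCommGroup N₃] [Module B N₃] (f : N₁ →ₗ[B] N₂) (g : N₂ →ₗ[B] N₃)
    (hf : Function.Injective f) (hg : Function.Surjective g) (hfg : Function.Exact f g) :
    Function.Exact (F.map (ModuleCat.ofHom f)) (F.map (ModuleCat.ofHom g)) := by
  have hzero : g.comp f = 0 := LinearMap.ext fun x => hfg.apply_apply_eq_zero x
  have hS : (ShortComplex.moduleCatMk f g hzero).ShortExact :=
    { exact := (ShortComplex.ShortExact.moduleCat_exact_iff_function_exact _).mpr hfg
      mono_f := (ModuleCat.mono_iff_injective _).mpr hf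
      epi_g := (ModuleCat.epi_iff_surjective _).mpr hg }
  have h := hex _ hS (inferInstanceAs (Module.Finite B N₂))
  exact (ShortComplex.ShortExact.moduleCat_exact_iff_function_exact _).mp h

theorem lemmaA [IsNoetherianRing B] (F : ModuleCat.{u} B ⥤ ModuleCat.{u} B) [F.Additive]
    (hex : ∀ S : ShortComplex (ModuleCat.{u} B), S.ShortExact → Module.Finite B S.X₂ → (S.map F).Exact)
    (N : Type u) [AddCommGroup N] [Module B N] (hN : Module.Finite B N) :
    (∀ q : Ideal B, q.IsPrime → Module.annihilator B N ≤ q →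
        IsZero (F.obj (ModuleCat.of B (B ⧸ q)))) →
      IsZero (F.obj (ModuleCat.of B N)) := by
  induction hN using IsNoetherianRing.induction_on_isQuotientEquivQuotientPrime B with
  | subsingleton N =>
    intro _
    exact F.map_isZero (ModuleCat.isZero_of_subsingleton _)
  | quotient N p e =>
    intro H
    have h1 : IsZero (F.obj (ModuleCat.of B (B ⧸ p.1))) :=
      H p.1 p.2 (by rw [e.annihilator_eq, Ideal.annihilator_quotient])
    exact h1.of_iso (F.mapIso e.toModuleIso)
  | exact N₁ N₂ N₃ f g hf hg hfg h1 h3 =>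
    intro H
    have z1 := h1 fun q hq hle => H q hq ((f.annihilator_le_of_injective hf).trans hle)
    have z3 := h3 fun q hq hle => H q hq ((g.annihilator_le_of_surjective hg).trans hle)
    have hex' := exact_map F hex f g hf hg hfg
    have := subsingleton_of_exact _ _ hex' (ModuleCat.subsingleton_of_isZero z1)
      (ModuleCat.subsingleton_of_isZero z3)
    exact ModuleCat.isZero_of_subsingleton _

theorem lemmaB [IsNoetherianRing B] (F : ModuleCat.{u} B ⥤ ModuleCat.{u} B) [F.Additive]
    [F.Linear B]
    (hfin : ∀ M : ModuleCat.{u} B, Module.Finite B M → Module.Finite B (F.obj M))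
    (hex : ∀ S : ShortComplex (ModuleCat.{u} B), S.ShortExact → Module.Finite B S.X₂ → (S.map F).Exact)
    (h0 : ∀ m : Ideal B, m.IsMaximal → IsZero (F.obj (ModuleCat.of B (B ⧸ m))))
    (p : Ideal B) : p.IsPrime → IsZero (F.obj (ModuleCat.of B (B ⧸ p))) := by
  induction p using WellFoundedGT.induction with
  | ind p IH =>
  intro hp
  by_cases hmax : p.IsMaximal
  · exact h0 p hmax
  have hsurj : ∀ x : B, x ∉ p → ∀ y : F.obj (ModuleCat.of B (B ⧸ p)),
      ∃ z : F.obj (ModuleCat.of B (B ⧸ p)), x • z = y := by
    intro x hx y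
    have hJ : IsZero (F.obj (ModuleCat.of B (B ⧸ (p ⊔ Ideal.span {x})))) := by
      apply lemmaA F hex (B ⧸ (p ⊔ Ideal.span {x})) inferInstance
      intro q hq hle
      rw [Ideal.annihilator_quotient] at hle
      have hpq : p < q := by
        refine lt_of_le_of_ne (le_sup_left.trans hle) ?_
        rintro rfl
        exact hx (hle (Ideal.mem_sup_right (Ideal.mem_span_singleton_self x)))
      exact IH q hpq hq
    let f : (B ⧸ p) →ₗ[B] (B ⧸ p) := LinearMap.lsmul B (B ⧸ p) x
    let g : (B ⧸ p) →ₗ[B] (B ⧸ (p ⊔ Ideal.span {x})) :=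
      Submodule.liftQ p (Submodule.mkQ (p ⊔ Ideal.span {x}))
        (by rw [Submodule.ker_mkQ]; exact le_sup_left)
    have hf : Function.Injective f := by
      rw [injective_iff_map_eq_zero]
      intro y hy
      obtain ⟨b, rfl⟩ := Submodule.mkQ_surjective p y
      have h1 : Submodule.Quotient.mk (p := p) (x • b) = 0 := hy
      rw [Submodule.Quotient.mk_eq_zero, smul_eq_mul] at h1
      rw [Submodule.mkQ_apply, Submodule.Quotient.mk_eq_zero]
      exact (hp.mem_or_mem h1).resolve_left hx
    have hg : Function.Surjective g := by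
      intro z
      obtain ⟨b, rfl⟩ := Submodule.mkQ_surjective _ z
      exact ⟨Submodule.mkQ p b, rfl⟩
    have hfg' : Function.Exact f g := by
      intro y
      constructor
      · intro hb
        obtain ⟨b, rfl⟩ := Submodule.mkQ_surjective p y
        have hb' : Submodule.Quotient.mk (p := p ⊔ Ideal.span {x}) b = 0 := hb
        rw [Submodule.Quotient.mk_eq_zero] at hb'
        obtain ⟨a, ha, c, hc, rfl⟩ := Submodule.mem_sup.mp hb'
        obtain ⟨t, rfl⟩ := Ideal.mem_span_singleton'.mp hc
        refine ⟨Submodule.mkQ p t, ?_⟩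
        show Submodule.Quotient.mk (p := p) (x • t) = Submodule.Quotient.mk (p := p) (a + t * x)
        rw [Submodule.Quotient.eq, smul_eq_mul]
        have : x * t - (a + t * x) = -a := by ring
        rw [this]
        exact p.neg_mem ha
      · rintro ⟨z, rfl⟩
        obtain ⟨t, rfl⟩ := Submodule.mkQ_surjective p z
        show Submodule.Quotient.mk (p := p ⊔ Ideal.span {x}) (x • t) = 0
        rw [Submodule.Quotient.mk_eq_zero, smul_eq_mul]
        exact Ideal.mem_sup_right (Ideal.mul_mem_right t _ (Ideal.mem_span_singleton_self x))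
    have hE := exact_map F hex f g hf hg hfg'
    have hy : (F.map (ModuleCat.ofHom g)) y = 0 := (ModuleCat.subsingleton_of_isZero hJ).elim _ _
    obtain ⟨z, hz⟩ := (hE y).mp hy
    refine ⟨z, ?_⟩
    have hf2 : ModuleCat.ofHom f = x • 𝟙 (ModuleCat.of B (B ⧸ p)) := by
      ext
      simp [f]
    have hFf : F.map (ModuleCat.ofHom f) = x • 𝟙 (F.obj (ModuleCat.of B (B ⧸ p))) := by
      rw [hf2, Functor.map_smul, F.map_id]
    rw [← hz, hFf]
    simp
  obtain ⟨m, hm, hpm⟩ := Ideal.exists_le_maximal p hp.ne_top
  have hne : p ≠ m := fun h => hmax (h ▸ hm)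
  obtain ⟨x, hxm, hxp⟩ := SetLike.exists_of_lt (lt_of_le_of_ne hpm hne)
  have hfinN : Module.Finite B (F.obj (ModuleCat.of B (B ⧸ p))) := hfin _ inferInstance
  obtain ⟨r, hr1, hr2⟩ := Submodule.exists_sub_one_mem_and_smul_eq_zero_of_fg_of_le_smul
    (Ideal.span {x}) (⊤ : Submodule B (F.obj (ModuleCat.of B (B ⧸ p)))) Module.Finite.fg_top (by
      intro y _
      obtain ⟨z, rfl⟩ := hsurj x hxp y
      exact Submodule.smul_mem_smul (Ideal.mem_span_singleton_self x) Submodule.mem_top)
  have hrp : r ∉ p := by
    intro hrp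
    apply hm.ne_top
    rw [Ideal.eq_top_iff_one]
    have h1 : r - 1 ∈ m := by
      obtain ⟨t, ht⟩ := Ideal.mem_span_singleton'.mp hr1
      rw [← ht]
      exact m.mul_mem_left t hxm
    have h2 : (1 : B) = r - (r - 1) := by ring
    rw [h2]
    exact m.sub_mem (hpm hrp) h1
  have h0' : ∀ y : F.obj (ModuleCat.of B (B ⧸ p)), y = 0 := by
    intro y
    obtain ⟨z, rfl⟩ := hsurj r hrp y
    exact hr2 z Submodule.mem_top
  have : Subsingleton (F.obj (ModuleCat.of B (B ⧸ p))) := ⟨fun a b => by rw [h0' a, h0' b]⟩
  exact ModuleCat.isZero_of_subsingleton _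

end helpers


/-- Let B be a Noetherian ring and F an additive, B-linear endofunctor of B-modules which preserves
finite generation and is semi-exact on short exact sequences of finitely generated modules (the
image sequence is exact in the middle). If F kills B/m for every maximal ideal m, then F kills every
finitely generated B-module. (The published statement assumes F only additive; this row assumes F
B-linear, and takes the functor on all B-modules with the hypotheses and the conclusion on the
finitely generated ones.) -/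
theorem result (B : Type u) [CommRing B]
    [IsNoetherianRing B] (F : ModuleCat.{u} B ⥤ ModuleCat.{u} B) [F.Additive] [F.Linear B]
    (hfg : ∀ M : ModuleCat.{u} B, Module.Finite B M → Module.Finite B (F.obj M))
    (hex : ∀ S : ShortComplex (ModuleCat.{u} B), S.ShortExact → Module.Finite B S.X₂ → (S.map F).Exact)
    (h0 : ∀ m : Ideal B, m.IsMaximal → Limits.IsZero (F.obj (ModuleCat.of B (B ⧸ m))))
    (M : ModuleCat.{u} B) (hM : Module.Finite B M) : Limits.IsZero (F.obj M) := by
  exact lemmaA F hex M hM (fun q hq _ => lemmaB F hfg hex h0 q hq)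

end Groth.Agent.S11461
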