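import Groth.Statements.S11462
import Groth.Agent.H71.HConn
import Groth.Agent.H29.DepthChange
import Groth.Agent.H15.SerreNormal
import Groth.Agent.H15.DepthLoc
import Mathlib

set_option autoImplicit false
universe u
open CategoryTheory AlgebraicGeometry Opposite
open DefT

namespace Groth.Agent.S11462

open Groth.Agent.H15.Depth Groth.Agent.H15.DepthSpread in
/-- a Noetherian normal local domain of dimension at least two has a regular sequence of length
two. -/
theorem hasSeq_two_of_normal (R : Type u) [CommRing R] [IsLocalRing R] [IsNoetherianRing R]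
    [IsDomain R] [IsIntegrallyClosed R] (h : (2 : WithBot ℕ∞) ≤ ringKrullDim R) :
    HasSeq (IsLocalRing.maximalIdeal R) R 2 := by
  rcases Groth.Agent.H15.SerreNormal.hasSeq_of_normal R with hbot | ⟨-, h2 | hht⟩
  · exfalso
    have hfield : IsField R := (IsLocalRing.isField_iff_maximalIdeal_eq).mpr hbot
    rw [ringKrullDim_eq_zero_of_isField hfield] at h
    exact absurd h (by decide)
  · exact h2
  · exfalso
    rw [← IsLocalRing.maximalIdeal_height_eq_ringKrullDim] at h
    have h' : (2 : ℕ∞) ≤ (IsLocalRing.maximalIdeal R).height :=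
      WithBot.coe_le_coe.mp (show ((2 : ℕ∞) : WithBot ℕ∞) ≤ _ from h)
    exact absurd (h'.trans hht) (by decide)

theorem ringKrullDim_quotient_of_le_nilradical {R : Type u} [CommRing R] (I : Ideal R)
    (hI : I ≤ nilradical R) : ringKrullDim (R ⧸ I) = ringKrullDim R := by
  rw [ringKrullDim_quotient]
  have hz : PrimeSpectrum.zeroLocus (I : Set R) = Set.univ :=
    (PrimeSpectrum.zeroLocus_eq_univ_iff _).mpr hI
  exact Order.krullDim_eq_of_orderIso ((OrderIso.setCongr _ _ hz).trans OrderIso.Set.univ)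

section Aux

open Groth.Agent.H15.Depth Groth.Agent.H15.DepthSpread TensorProduct

variable {C : Type u} [CommRing C] [IsLocalRing C] [IsArtinianRing C]
  {A : Type u} [CommRing A] [IsNoetherianRing A] [Algebra C A] [Module.Flat C A]
  (I₀ : Ideal A) (P : Ideal A) [P.IsPrime]
  (S : Type u) [CommRing S] [Algebra A S] [IsLocalization.AtPrime S P] [Algebra C S]
  [IsScalarTower C A S] [IsLocalRing S]

theorem depth_ge_two_aux (hI₀ : I₀ = (IsLocalRing.maximalIdeal C).map (algebraMap C A))
    (hnorm : Pi1.IsNormalScheme (Spec (CommRingCat.of (A ⧸ I₀))))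
    (hP : (2 : ℕ∞) ≤ P.height) :
    (2 : ℕ∞) ≤ LocCoh.depth S S := by
  classical
  have hnilC : ∀ c ∈ IsLocalRing.maximalIdeal C, IsNilpotent c := by
    obtain ⟨n, hn⟩ := IsArtinianRing.isNilpotent_jacobson_bot (R := C)
    rw [IsLocalRing.jacobson_eq_maximalIdeal ⊥ bot_ne_top] at hn
    intro c hc
    refine ⟨n, ?_⟩
    have h1 : c ^ n ∈ (IsLocalRing.maximalIdeal C) ^ n := Ideal.pow_mem_pow hc n
    rw [hn, Ideal.zero_eq_bot, Ideal.mem_bot] at h1
    exact h1
  have hI₀P : I₀ ≤ P := by
    rw [hI₀, Ideal.map_le_iff_le_comap]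
    intro c hc
    obtain ⟨n, hn⟩ := hnilC c hc
    rw [Ideal.mem_comap]
    apply Ideal.IsPrime.mem_of_pow_mem inferInstance n
    rw [← map_pow, hn, map_zero]
    exact P.zero_mem
  haveI : IsNoetherianRing S := IsLocalization.isNoetherianRing P.primeCompl S inferInstance
  haveI : Module.Flat A S := IsLocalization.flat S P.primeCompl
  haveI : Module.Flat C S := Module.Flat.trans C A S
  haveI : IsLocalHom (algebraMap C S) := ⟨fun c hc => by
    by_contra hnu
    obtain ⟨n, hn⟩ := hnilC c ((IsLocalRing.mem_maximalIdeal c).mpr hnu)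
    have h0 : IsUnit ((algebraMap C S c) ^ n) := hc.pow n
    rw [← map_pow, hn, map_zero] at h0
    exact not_isUnit_zero h0⟩
  have hISmax : Ideal.map (algebraMap A S) I₀ ≤ IsLocalRing.maximalIdeal S := by
    rw [← IsLocalization.AtPrime.map_eq_maximalIdeal P S]
    exact Ideal.map_mono hI₀P
  have hISne : Ideal.map (algebraMap A S) I₀ ≠ ⊤ := fun h =>
    (IsLocalRing.maximalIdeal.isMaximal S).ne_top (top_le_iff.mp (h ▸ hISmax))
  have hISnil : Ideal.map (algebraMap A S) I₀ ≤ nilradical S := by
    rw [hI₀, Ideal.map_map, Ideal.map_le_iff_le_comap]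
    intro c hc
    rw [Ideal.mem_comap, mem_nilradical]
    exact (hnilC c hc).map _
  haveI : Nontrivial (S ⧸ Ideal.map (algebraMap A S) I₀) := Ideal.Quotient.nontrivial_iff.mpr hISne
  haveI : IsLocalRing (S ⧸ Ideal.map (algebraMap A S) I₀) :=
    IsLocalRing.of_surjective' (Ideal.Quotient.mk _) Ideal.Quotient.mk_surjective
  have hker : RingHom.ker (Ideal.Quotient.mk I₀) ≤ P := by
    rw [Ideal.mk_ker]; exact hI₀P
  haveI hPbar : (P.map (Ideal.Quotient.mk I₀)).IsPrime :=
    Ideal.map_isPrime_of_surjective Ideal.Quotient.mk_surjective hker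
  have hsub : Algebra.algebraMapSubmonoid (A ⧸ I₀) P.primeCompl =
      (P.map (Ideal.Quotient.mk I₀)).primeCompl := by
    ext x
    constructor
    · rintro ⟨a, ha, rfl⟩
      intro hmem
      obtain ⟨b, hb, hba⟩ :=
        (Ideal.mem_map_iff_of_surjective _ Ideal.Quotient.mk_surjective).mp hmem
      have hba' : Ideal.Quotient.mk I₀ b = Ideal.Quotient.mk I₀ a := hba
      have h1 : b - a ∈ I₀ := Ideal.Quotient.eq.mp hba'
      have h2 : b - (b - a) ∈ P := P.sub_mem hb (hI₀P h1)
      rw [sub_sub_cancel] at h2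
      exact ha h2
    · intro hx
      obtain ⟨a, rfl⟩ := Ideal.Quotient.mk_surjective x
      exact ⟨a, fun haP => hx (Ideal.mem_map_of_mem _ haP), rfl⟩
  haveI hloc : IsLocalization.AtPrime (S ⧸ Ideal.map (algebraMap A S) I₀)
      (P.map (Ideal.Quotient.mk I₀)) := by
    have h0 : IsLocalization (Algebra.algebraMapSubmonoid (A ⧸ I₀) P.primeCompl)
        (S ⧸ Ideal.map (algebraMap A S) I₀) := inferInstance
    rw [hsub] at h0
    exact h0
  let y : Spec (CommRingCat.of (A ⧸ I₀)) := ⟨P.map (Ideal.Quotient.mk I₀), hPbar⟩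
  letI : Algebra (A ⧸ I₀) ((Spec (CommRingCat.of (A ⧸ I₀))).presheaf.stalk y) :=
    StructureSheaf.stalkAlgebra (A ⧸ I₀) y
  haveI : IsLocalization.AtPrime ((Spec (CommRingCat.of (A ⧸ I₀))).presheaf.stalk y)
      (P.map (Ideal.Quotient.mk I₀)) := StructureSheaf.IsLocalization.to_stalk (A ⧸ I₀) y
  let e : (Spec (CommRingCat.of (A ⧸ I₀))).presheaf.stalk y ≃+*
      (S ⧸ Ideal.map (algebraMap A S) I₀) :=
    (IsLocalization.algEquiv (P.map (Ideal.Quotient.mk I₀)).primeCompl
      ((Spec (CommRingCat.of (A ⧸ I₀))).presheaf.stalk y)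
      (S ⧸ Ideal.map (algebraMap A S) I₀)).toRingEquiv
  haveI := (hnorm y).1
  haveI := (hnorm y).2
  haveI : IsDomain (S ⧸ Ideal.map (algebraMap A S) I₀) := e.symm.toMulEquiv.isDomain _
  haveI : IsIntegrallyClosed (S ⧸ Ideal.map (algebraMap A S) I₀) := IsIntegrallyClosed.of_equiv e
  have hdim : (2 : WithBot ℕ∞) ≤ ringKrullDim (S ⧸ Ideal.map (algebraMap A S) I₀) := by
    rw [ringKrullDim_quotient_of_le_nilradical _ hISnil,
      IsLocalization.AtPrime.ringKrullDim_eq_height P S]
    exact WithBot.coe_le_coe.mpr hP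
  have hseqF : HasSeq (IsLocalRing.maximalIdeal (S ⧸ Ideal.map (algebraMap A S) I₀))
      (S ⧸ Ideal.map (algebraMap A S) I₀) 2 := hasSeq_two_of_normal _ hdim
  have hsurj : Function.Surjective (algebraMap S (S ⧸ Ideal.map (algebraMap A S) I₀)) :=
    Ideal.Quotient.mk_surjective
  have hseqS : HasSeq (IsLocalRing.maximalIdeal S) (S ⧸ Ideal.map (algebraMap A S) I₀) 2 :=
    (Groth.Agent.H29.DepthChange.hasSeq_maximalIdeal_iff_of_surjective hsurj 2
      (S ⧸ Ideal.map (algebraMap A S) I₀)).mp hseqF
  have hsub2 : EGA4.mB C S • (⊤ : Submodule S S) = Ideal.map (algebraMap A S) I₀ := by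
    rw [smul_eq_mul, Ideal.mul_top, hI₀, Ideal.map_map, ← IsScalarTower.algebraMap_eq]
  let eq : (S ⧸ Ideal.map (algebraMap A S) I₀) ≃ₗ[S] EGA4.FibMod C S S :=
    Submodule.quotEquivOfEq _ _ hsub2.symm
  have hseqFib : HasSeq (IsLocalRing.maximalIdeal S) (EGA4.FibMod C S S) 2 := hseqS.congr eq
  have h2 : (2 : ℕ∞) ≤ LocCoh.depth S (EGA4.FibMod C S S) := by
    have := le_idealDepth_of_hasSeq hseqFib
    rw [Nat.cast_ofNat] at this
    exact this
  have hform := Groth.Agent.H29.FlatDepthMod.depth_tensor (R := C) (S := S) C S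
  have hcongr : LocCoh.depth S (S ⊗[C] C) = LocCoh.depth S S :=
    idealDepth_congr (I := IsLocalRing.maximalIdeal S) (AlgebraTensorModule.rid C S S)
  rw [← hcongr, hform]
  exact le_trans h2 le_add_self

end Aux

theorem depth_ge_two (C : Type u) [CommRing C] [IsLocalRing C] [IsArtinianRing C]
    (A : Type u) [CommRing A] [IsNoetherianRing A] [Algebra C A] [Module.Flat C A]
    (hnorm : Pi1.IsNormalScheme (Spec (CommRingCat.of
      (A ⧸ (IsLocalRing.maximalIdeal C).map (algebraMap C A)))))
    (P : Ideal A) [P.IsPrime] (hP : (2 : ℕ∞) ≤ P.height) :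
    (2 : ℕ∞) ≤ LocCoh.depth (Localization.AtPrime P) (Localization.AtPrime P) :=
  depth_ge_two_aux _ P (Localization.AtPrime P) rfl hnorm hP

/-- Let C be a local Artin ring with maximal ideal m, A a Noetherian C-algebra flat over C such that
Spec(A/mA) is a normal scheme, and U ⊆ X = Spec A an open subset whose closed complement has
codimension ≥ 2, i.e. every prime of A not in U has height at least 2. Then the restriction map Γ(X,
O_X) → Γ(U, O_X) is bijective. (The published statement assumes only that A is flat over C with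
normal special fibre; this row also assumes A Noetherian: for a valuation ring of rank two over a
field, which is normal and flat, the functions on the complement of the closed point are not all
global.) -/
theorem result (C : Type u) [CommRing C]
    [IsLocalRing C] [IsArtinianRing C] (A : Type u) [CommRing A] [IsNoetherianRing A] [Algebra C A]
    [Module.Flat C A]
    (hnorm : Pi1.IsNormalScheme (Spec (CommRingCat.of (A ⧸ (IsLocalRing.maximalIdeal C).map (algebraMap C A)))))
    (U : (Spec (CommRingCat.of A)).Opens)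
    (hU : ∀ p : ↥(Spec (CommRingCat.of A)), p ∉ U → (2 : ℕ∞) ≤ p.asIdeal.height) :
    Function.Bijective ((Spec (CommRingCat.of A)).presheaf.map (homOfLE (le_top : U ≤ ⊤)).op) := by
  classical
  let Zc : Set (PrimeSpectrum A) := (U : Set (Spec (CommRingCat.of A)))ᶜ
  have hZc_closed : IsClosed Zc := U.isOpen.isClosed_compl
  let J : Ideal A := PrimeSpectrum.vanishingIdeal Zc
  have hJ : PrimeSpectrum.zeroLocus (J : Set A) = Zc := by
    rw [PrimeSpectrum.zeroLocus_vanishingIdeal_eq_closure, hZc_closed.closure_eq]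
  have hopen : U = EGA4.openCompl A J := by
    apply TopologicalSpace.Opens.ext
    show (U : Set (Spec (CommRingCat.of A))) = (PrimeSpectrum.zeroLocus (J : Set A))ᶜ
    rw [hJ]
    exact (compl_compl _).symm
  have hbij : Function.Bijective (EGA4.restrCompl A J A) := by
    have hcl : EGA4.IsClosedAlong (PrimeSpectrum.zeroLocus (J : Set A)) A := by
      rw [Groth.Agent.H71.ZC.isClosedAlong_iff_depth A _
        (PrimeSpectrum.isClosed_zeroLocus _).stableUnderSpecialization]
      intro p hp
      have hpU : p ∉ U := by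
        rw [hJ] at hp
        exact hp
      have hht : (2 : ℕ∞) ≤ p.asIdeal.height := hU p hpU
      have h3 := Groth.Agent.H71.HC.le_depth_localizedModule_self p.asIdeal 2
        (by rw [Nat.cast_ofNat]; exact depth_ge_two C A hnorm p.asIdeal hht)
      rwa [Nat.cast_ofNat] at h3
    exact hcl J subset_rfl
  have hbij' : Function.Bijective ((Spec (CommRingCat.of A)).presheaf.map
      (homOfLE (le_top : EGA4.openCompl A J ≤ ⊤)).op).hom := hbij
  have key : ∀ (U V : (Spec (CommRingCat.of A)).Opens) (hUV : U = V),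
      Function.Bijective ((Spec (CommRingCat.of A)).presheaf.map
        (homOfLE (le_top : V ≤ ⊤)).op).hom →
      Function.Bijective ((Spec (CommRingCat.of A)).presheaf.map
        (homOfLE (le_top : U ≤ ⊤)).op).hom := by
    intro U V hUV hV
    subst hUV
    exact hV
  exact key _ _ hopen hbij'

end Groth.Agent.S11462
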