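import Groth.Statements.S11464
import Mathlib
-- import your own Groth.Agent.* helpers here

set_option autoImplicit false
universe u
open scoped TensorProduct
open DefT

set_option linter.style.haveILetI false
set_option linter.unusedSectionVars false
set_option linter.unusedVariables false

namespace Groth.Agent.S11464

open TensorProduct

section
variable {C' : Type u} [CommRing C'] (J : Ideal C') {A' : Type u} [CommRing A'] [Algebra C' A']

/-- multiplication map `A' ⊗ J → A'` -/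
noncomputable def μ : A' ⊗[C'] ↥J →ₗ[C'] A' :=
  (TensorProduct.rid C' A').toLinearMap ∘ₗ LinearMap.lTensor A' (Submodule.subtype J)

theorem μ_apply (z : A' ⊗[C'] ↥J) :
    μ J z = TensorProduct.rid C' A' (LinearMap.lTensor A' (Submodule.subtype J) z) := rfl

theorem μ_tmul (a : A') (j : J) : μ J (a ⊗ₜ[C'] j) = (j : C') • a := rfl

theorem μ_smul (a : A') (z : A' ⊗[C'] ↥J) : μ J (a • z) = a * μ J z := by
  induction z using TensorProduct.induction_on with
  | zero => rw [smul_zero, map_zero, mul_zero]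
  | tmul b j => rw [TensorProduct.smul_tmul', μ_tmul, μ_tmul, smul_eq_mul, mul_smul_comm]
  | add z₁ z₂ h₁ h₂ => rw [smul_add, map_add, map_add, h₁, h₂, mul_add]

theorem μ_injective [Module.Flat C' A'] : Function.Injective (μ J (A' := A')) := by
  unfold μ
  rw [LinearMap.coe_comp]
  exact (TensorProduct.rid C' A').injective.comp
    (Module.Flat.lTensor_preserves_injective_linearMap _ Subtype.val_injective)

theorem μ_mem (z : A' ⊗[C'] ↥J) : μ J z ∈ J.map (algebraMap C' A') := by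
  induction z using TensorProduct.induction_on with
  | zero => rw [map_zero]; exact Ideal.zero_mem _
  | tmul a j =>
    rw [μ_tmul, Algebra.smul_def]
    exact Ideal.mul_mem_right _ _ (Ideal.mem_map_of_mem _ j.2)
  | add z₁ z₂ h₁ h₂ => rw [map_add]; exact Ideal.add_mem _ h₁ h₂

theorem exists_μ_eq {y : A'} (hy : y ∈ J.map (algebraMap C' A')) : ∃ z, μ J z = y := by
  refine Submodule.span_induction (p := fun y _ => ∃ z, μ J z = y) ?_ ?_ ?_ ?_ hy
  · rintro y ⟨j, hj, rfl⟩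
    refine ⟨(1 : A') ⊗ₜ[C'] (⟨j, hj⟩ : J), ?_⟩
    rw [μ_tmul, Algebra.smul_def, mul_one]
  · exact ⟨0, map_zero _⟩
  · rintro y₁ y₂ _ _ ⟨z₁, rfl⟩ ⟨z₂, rfl⟩
    exact ⟨z₁ + z₂, map_add _ _ _⟩
  · rintro a y _ ⟨z, rfl⟩
    exact ⟨a • z, by rw [μ_smul, smul_eq_mul]⟩

theorem μ_rTensor {A₁ : Type u} [CommRing A₁] [Algebra C' A₁] (q : A' →ₐ[C'] A₁)
    (z : A' ⊗[C'] ↥J) : μ J (LinearMap.rTensor ↥J q.toLinearMap z) = q (μ J z) := by
  induction z using TensorProduct.induction_on with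
  | zero => rw [map_zero, map_zero, map_zero, map_zero]
  | tmul a j =>
    rw [LinearMap.rTensor_tmul, μ_tmul, μ_tmul, map_smul]
    rfl
  | add z₁ z₂ h₁ h₂ => rw [map_add, map_add, map_add, map_add, h₁, h₂]

theorem rTensor_eq_zero_of_μ_mem {B : Type u} [CommRing B] [Algebra C' B] [Algebra A' B]
    [IsScalarTower C' A' B]
    (I₁ : Ideal A') [Module.Flat C' (A' ⧸ I₁)] (hI₁ : ∀ y ∈ I₁, algebraMap A' B y = 0)
    (z : A' ⊗[C'] ↥J) (hz : μ J z ∈ I₁) :
    LinearMap.rTensor ↥J (IsScalarTower.toAlgHom C' A' B).toLinearMap z = 0 := by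
  let q₁ : A' →ₐ[C'] A' ⧸ I₁ := Ideal.Quotient.mkₐ C' I₁
  let πbar : A' ⧸ I₁ →ₐ[C'] B :=
    Ideal.Quotient.liftₐ I₁ (IsScalarTower.toAlgHom C' A' B) (fun y hy => hI₁ y hy)
  have hcomp : (IsScalarTower.toAlgHom C' A' B).toLinearMap =
      πbar.toLinearMap ∘ₗ q₁.toLinearMap := by
    ext a
    rfl
  have h1 : LinearMap.rTensor ↥J q₁.toLinearMap z = 0 := by
    apply μ_injective J (A' := A' ⧸ I₁)
    rw [map_zero, μ_rTensor]
    exact Ideal.Quotient.eq_zero_iff_mem.mpr hz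
  rw [hcomp, LinearMap.rTensor_comp, LinearMap.comp_apply, h1, map_zero]

section main
variable [Module.Flat C' A'] (I : Ideal (A' ⧸ J.map (algebraMap C' A')))
  (I' I'' : Ideal A') [Module.Flat C' (A' ⧸ I')] [Module.Flat C' (A' ⧸ I'')]
  (hI' : I'.map (Ideal.Quotient.mk (J.map (algebraMap C' A'))) = I)
  (hI'' : I''.map (Ideal.Quotient.mk (J.map (algebraMap C' A'))) = I)

/-- the reduction `A' ⊗ J → B ⊗ J` -/
noncomputable abbrev πB : A' ⊗[C'] ↥J →ₗ[C'] ((A' ⧸ J.map (algebraMap C' A')) ⧸ I) ⊗[C'] ↥J :=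
  LinearMap.rTensor ↥J
    (IsScalarTower.toAlgHom C' A' ((A' ⧸ J.map (algebraMap C' A')) ⧸ I)).toLinearMap

theorem πB_smul (a : A') (z : A' ⊗[C'] ↥J) : πB J I (a • z) = a • πB J I z := by
  induction z using TensorProduct.induction_on with
  | zero => rw [smul_zero, map_zero, smul_zero]
  | tmul b j =>
    rw [TensorProduct.smul_tmul', LinearMap.rTensor_tmul, LinearMap.rTensor_tmul,
      TensorProduct.smul_tmul']
    congr 1
  | add z₁ z₂ h₁ h₂ => rw [smul_add, map_add, map_add, h₁, h₂, smul_add]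

include hI' in
theorem algebraMap_eq_zero_of_mem {y : A'} (hy : y ∈ I') :
    algebraMap A' ((A' ⧸ J.map (algebraMap C' A')) ⧸ I) y = 0 := by
  show Ideal.Quotient.mk I (Ideal.Quotient.mk (J.map (algebraMap C' A')) y) = 0
  rw [Ideal.Quotient.eq_zero_iff_mem, ← hI']
  exact Ideal.mem_map_of_mem _ hy

/-- the graph of the difference map -/
def Rel (x : A' ⧸ J.map (algebraMap C' A'))
    (w : ((A' ⧸ J.map (algebraMap C' A')) ⧸ I) ⊗[C'] ↥J) : Prop :=
  ∃ x' ∈ I', ∃ x'' ∈ I'', ∃ z : A' ⊗[C'] ↥J,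
    Ideal.Quotient.mk (J.map (algebraMap C' A')) x' = x ∧
    Ideal.Quotient.mk (J.map (algebraMap C' A')) x'' = x ∧ μ J z = x'' - x' ∧ πB J I z = w

include hI' hI'' in
theorem exists_rel {x : A' ⧸ J.map (algebraMap C' A')} (hx : x ∈ I) :
    ∃ w, Rel J I I' I'' x w := by
  have hx1 : x ∈ I'.map (Ideal.Quotient.mk (J.map (algebraMap C' A'))) := by rw [hI']; exact hx
  have hx2 : x ∈ I''.map (Ideal.Quotient.mk (J.map (algebraMap C' A'))) := by rw [hI'']; exact hx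
  obtain ⟨x', hx', h1⟩ :=
    (Ideal.mem_map_iff_of_surjective _ Ideal.Quotient.mk_surjective).mp hx1
  obtain ⟨x'', hx'', h2⟩ :=
    (Ideal.mem_map_iff_of_surjective _ Ideal.Quotient.mk_surjective).mp hx2
  have h3 : x'' - x' ∈ J.map (algebraMap C' A') := Ideal.Quotient.eq.mp (h2.trans h1.symm)
  obtain ⟨z, hz⟩ := exists_μ_eq J h3
  exact ⟨πB J I z, x', hx', x'', hx'', z, h1, h2, hz, rfl⟩

include hI' hI'' in
theorem rel_unique {x : A' ⧸ J.map (algebraMap C' A')}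
    {w₁ w₂ : ((A' ⧸ J.map (algebraMap C' A')) ⧸ I) ⊗[C'] ↥J}
    (h₁ : Rel J I I' I'' x w₁) (h₂ : Rel J I I' I'' x w₂) : w₁ = w₂ := by
  obtain ⟨x₁', hx₁', x₁'', hx₁'', z₁, a1, b1, c1, rfl⟩ := h₁
  obtain ⟨x₂', hx₂', x₂'', hx₂'', z₂, a2, b2, c2, rfl⟩ := h₂
  have d' : x₂' - x₁' ∈ J.map (algebraMap C' A') := Ideal.Quotient.eq.mp (a2.trans a1.symm)
  have d'' : x₂'' - x₁'' ∈ J.map (algebraMap C' A') := Ideal.Quotient.eq.mp (b2.trans b1.symm)
  obtain ⟨u', hu'⟩ := exists_μ_eq J d'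
  obtain ⟨u'', hu''⟩ := exists_μ_eq J d''
  have e' : πB J I u' = 0 :=
    rTensor_eq_zero_of_μ_mem J I' (fun y hy => algebraMap_eq_zero_of_mem J I I' hI' hy) u'
      (by rw [hu']; exact I'.sub_mem hx₂' hx₁')
  have e'' : πB J I u'' = 0 :=
    rTensor_eq_zero_of_μ_mem J I'' (fun y hy => algebraMap_eq_zero_of_mem J I I'' hI'' hy) u''
      (by rw [hu'']; exact I''.sub_mem hx₂'' hx₁'')
  have hz : z₂ - z₁ = u'' - u' := by
    apply μ_injective J
    rw [map_sub, map_sub, c1, c2, hu', hu'']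
    ring
  have : πB J I z₂ - πB J I z₁ = 0 := by
    rw [← map_sub, hz, map_sub, e', e'', sub_zero]
  exact (sub_eq_zero.mp this).symm

theorem rel_add {x y : A' ⧸ J.map (algebraMap C' A')}
    {w v : ((A' ⧸ J.map (algebraMap C' A')) ⧸ I) ⊗[C'] ↥J}
    (h₁ : Rel J I I' I'' x w) (h₂ : Rel J I I' I'' y v) : Rel J I I' I'' (x + y) (w + v) := by
  obtain ⟨x₁', hx₁', x₁'', hx₁'', z₁, a1, b1, c1, rfl⟩ := h₁
  obtain ⟨x₂', hx₂', x₂'', hx₂'', z₂, a2, b2, c2, rfl⟩ := h₂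
  refine ⟨x₁' + x₂', I'.add_mem hx₁' hx₂', x₁'' + x₂'', I''.add_mem hx₁'' hx₂'', z₁ + z₂, ?_, ?_,
    ?_, map_add _ _ _⟩
  · rw [map_add, a1, a2]
  · rw [map_add, b1, b2]
  · rw [map_add, c1, c2]; ring

theorem rel_smul (a : A') {x : A' ⧸ J.map (algebraMap C' A')}
    {w : ((A' ⧸ J.map (algebraMap C' A')) ⧸ I) ⊗[C'] ↥J}
    (h₁ : Rel J I I' I'' x w) : Rel J I I' I'' (a • x) (a • w) := by
  obtain ⟨x₁', hx₁', x₁'', hx₁'', z₁, a1, b1, c1, rfl⟩ := h₁
  refine ⟨a * x₁', I'.mul_mem_left a hx₁', a * x₁'', I''.mul_mem_left a hx₁'', a • z₁, ?_, ?_,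
    ?_, πB_smul J I a z₁⟩
  · rw [map_mul, a1, Algebra.smul_def]; rfl
  · rw [map_mul, b1, Algebra.smul_def]; rfl
  · rw [μ_smul, c1]; ring

/-- the difference map -/
noncomputable def φ : ↥I →ₗ[A'] (((A' ⧸ J.map (algebraMap C' A')) ⧸ I) ⊗[C'] ↥J) where
  toFun x := (exists_rel J I I' I'' hI' hI'' x.2).choose
  map_add' x y :=
    rel_unique J I I' I'' hI' hI'' (exists_rel J I I' I'' hI' hI'' (x + y).2).choose_spec
      (rel_add J I I' I'' (exists_rel J I I' I'' hI' hI'' x.2).choose_spec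
        (exists_rel J I I' I'' hI' hI'' y.2).choose_spec)
  map_smul' a x :=
    rel_unique J I I' I'' hI' hI'' (exists_rel J I I' I'' hI' hI'' (a • x).2).choose_spec
      (rel_smul J I I' I'' a (exists_rel J I I' I'' hI' hI'' x.2).choose_spec)

theorem φ_spec (x : ↥I) : Rel J I I' I'' x.1 (φ J I I' I'' hI' hI'' x) :=
  (exists_rel J I I' I'' hI' hI'' x.2).choose_spec

end main

end


/-- Let C' be a local Artin ring, J ⊊ C' a proper ideal annihilated by the maximal ideal, C = C'/J, A' a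
flat C'-algebra, A = A'/JA', I ⊆ A an ideal with B = A/I flat over C, and I', I'' ⊆ A' two ideals
with C'-flat quotients both reducing to I. Then there is a unique A'-linear φ : I → B ⊗_{C'} J (=
Hom_A(I, J ⊗_C B)) such that for all x ∈ I, all lifts x' ∈ I' and x'' ∈ I'' of x, and every z ∈ A'
⊗_{C'} J mapping to x'' − x' under multiplication, the image of z in B ⊗_{C'} J is φ(x). With the
existence half this makes the set of such ideals a pseudotorsor under Hom_A(I, J ⊗_C B). -/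
theorem result (C' : Type u) [CommRing C'] [IsLocalRing C'] [IsArtinianRing C'] (J : Ideal C')
    (hJ : IsLocalRing.maximalIdeal C' * J = ⊥) (hJne : J ≠ ⊤) (A' : Type u) [CommRing A'] [Algebra C' A'] [Module.Flat C' A']
    (I : Ideal (A' ⧸ J.map (algebraMap C' A')))
    [Module.Flat (C' ⧸ J) ((A' ⧸ J.map (algebraMap C' A')) ⧸ I)]
    (I' I'' : Ideal A') [Module.Flat C' (A' ⧸ I')] [Module.Flat C' (A' ⧸ I'')]
    (hI' : I'.map (Ideal.Quotient.mk (J.map (algebraMap C' A'))) = I)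
    (hI'' : I''.map (Ideal.Quotient.mk (J.map (algebraMap C' A'))) = I) :
    ∃! φ : ↥I →ₗ[A'] (((A' ⧸ J.map (algebraMap C' A')) ⧸ I) ⊗[C'] ↥J),
      (∀ (x : (A' ⧸ J.map (algebraMap C' A'))) (hx : x ∈ I) (x' x'' : A'), x' ∈ I' → x'' ∈ I'' →
          Ideal.Quotient.mk (J.map (algebraMap C' A')) x' = x → Ideal.Quotient.mk (J.map (algebraMap C' A')) x'' = x →
          ∀ z : A' ⊗[C'] ↥J, TensorProduct.rid C' A' (LinearMap.lTensor A' (Submodule.subtype J) z) = x'' - x' →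
            LinearMap.rTensor ↥J (IsScalarTower.toAlgHom C' A' ((A' ⧸ J.map (algebraMap C' A')) ⧸ I)).toLinearMap z = φ ⟨x, hx⟩) := by
  refine ⟨φ J I I' I'' hI' hI'', ?_, ?_⟩
  · intro x hx x' x'' hx' hx'' h1 h2 z hz
    exact rel_unique J I I' I'' hI' hI'' ⟨x', hx', x'', hx'', z, h1, h2, hz, rfl⟩
      (φ_spec J I I' I'' hI' hI'' ⟨x, hx⟩)
  · intro φ₂ hφ₂
    refine LinearMap.ext fun x => ?_
    obtain ⟨x', hx', x'', hx'', z, h1, h2, hz, hw⟩ := φ_spec J I I' I'' hI' hI'' x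
    rw [← hw]
    exact (hφ₂ x.1 x.2 x' x'' hx' hx'' h1 h2 z hz).symm

end Groth.Agent.S11464
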