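import Groth.Statements.S11467
import Groth.Agent.H61.ObsRaw
import Mathlib.RingTheory.Ideal.KrullsHeightTheorem

set_option autoImplicit false
universe u
open DefT

namespace Groth.Agent.S11467

/-- Let P be a regular local k-algebra with residue field k, I ⊆ m_P² an ideal (so that dim P is the
embedding dimension of A = P/I), and suppose A has an obstruction theory whose obstruction space is
a finite-dimensional k-vector space V (obstructions in V ⊗ J attached to k-algebra maps A → C'/J for
small extensions of local Artinian k-algebras with residue field k, vanishing exactly when the map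
lifts, functorial in quotients of C'). Then dim A ≥ dim P − dim_k V; and if equality holds, I is
generated by dim P − dim A elements, so A is a local complete intersection in P. -/
theorem result (k : Type u) [Field k]
    (P : Type u) [CommRing P] [IsRegularLocalRing P] [Algebra k P]
    (hres : Function.Surjective (algebraMap k (IsLocalRing.ResidueField P)))
    (I : Ideal P) (hI : I ≤ IsLocalRing.maximalIdeal P ^ 2)
    (V : Type u) [AddCommGroup V] [Module k V] [Module.Finite k V]
    (T : W4bk4hartshdef114.ObsTheory k (P ⧸ I) V) :
    ringKrullDim P ≤ ringKrullDim (P ⧸ I) + (Module.finrank k V : WithBot ℕ∞) ∧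
      (ringKrullDim (P ⧸ I) + (Module.finrank k V : WithBot ℕ∞) = ringKrullDim P →
        ∃ s : Finset P, Ideal.span (s : Set P) = I ∧
          ringKrullDim (P ⧸ I) + (s.card : WithBot ℕ∞) = ringKrullDim P) := by
  have hIJ : I ≤ Ring.jacobson P := by
    rw [IsLocalRing.ringJacobson_eq_maximalIdeal]
    exact hI.trans (Ideal.pow_le_self two_ne_zero)
  have h1 := ringKrullDim_le_ringKrullDim_quotient_add_spanFinrank I hIJ
  have h2 : I.spanFinrank ≤ Module.finrank k V :=
    Groth.Agent.H61.ObsRaw.spanFinrank_le hres I hI T
  have h3 : ((I.spanFinrank : ℕ) : WithBot ℕ∞) ≤ ((Module.finrank k V : ℕ) : WithBot ℕ∞) := by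
    exact_mod_cast h2
  have h4 : ringKrullDim (P ⧸ I) + ((I.spanFinrank : ℕ) : WithBot ℕ∞) ≤
      ringKrullDim (P ⧸ I) + ((Module.finrank k V : ℕ) : WithBot ℕ∞) := by
    gcongr
  refine ⟨h1.trans h4, ?_⟩
  intro heq
  obtain ⟨s, hs, hcard⟩ :=
    Submodule.FG.exists_span_finset_card_eq_spanFinrank (IsNoetherian.noetherian I)
  refine ⟨s, hcard, ?_⟩
  rw [hs]
  refine le_antisymm ?_ h1
  rw [heq] at h4
  exact h4

end Groth.Agent.S11467
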