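import Groth.Statements.S4666
import Mathlib

set_option autoImplicit false
open CategoryTheory AlgebraicGeometry
universe u
open FDesc

namespace Groth.Agent.S4666

open Limits


set_option backward.isDefEq.respectTransparency.types false in
theorem app_injective_of_flat_surjective {W Z : Scheme.{u}} (g : W ⟶ Z) [Flat g] [Surjective g]
    (U : Z.Opens) : Function.Injective (g.app U) := by
  rw [injective_iff_map_eq_zero]
  intro s hs
  refine TopCat.Presheaf.section_ext Z.sheaf U s 0 (fun z hz => ?_)
  obtain ⟨x, rfl⟩ := g.surjective z
  rw [map_zero]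
  change Z.presheaf.germ U (g x) hz s = 0
  have hinj : Function.Injective (g.stalkMap x) := by
    algebraize [(g.stalkMap x).hom]
    have : Module.FaithfullyFlat (Z.presheaf.stalk (g x)) (W.presheaf.stalk x) :=
      @Module.FaithfullyFlat.of_flat_of_isLocalHom _ _ _ _ _ _ _
        (Flat.stalkMap g x) (g.toLRSHom.prop x)
    exact ‹RingHom.FaithfullyFlat _›.injective
  apply hinj
  rw [map_zero]
  have := Scheme.Hom.germ_stalkMap_apply g U x hz s
  rw [this, hs, map_zero]

theorem ker_eq_bot_of_flat_surjective {W Z : Scheme.{u}} (g : W ⟶ Z) [Flat g] [Surjective g] :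
    g.ker = ⊥ := by
  rw [eq_bot_iff]
  intro U
  refine (g.ideal_ker_le U).trans ?_
  rw [(RingHom.injective_iff_ker_eq_bot _).mp (app_injective_of_flat_surjective g U.1)]
  exact bot_le

theorem map_comap_eq {X Y : Scheme.{u}} (f : X ⟶ Y) [Flat f] [Surjective f]
    (J : Y.IdealSheafData) : (J.comap f).map f = J := by
  have h1 : (J.comap f).map f = (pullback.fst f J.subschemeι ≫ f).ker := by
    rw [Scheme.IdealSheafData.comap, Scheme.IdealSheafData.map_ker]
  rw [h1, pullback.condition, Scheme.Hom.ker_comp,
    ker_eq_bot_of_flat_surjective (pullback.snd f J.subschemeι),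
    Scheme.IdealSheafData.map_bot, Scheme.IdealSheafData.ker_subschemeι]

theorem main {X Y : Scheme.{u}} (f : X ⟶ Y) [Flat f] [Surjective f] :
    Function.Injective fun J : Y.IdealSheafData => J.comap f := by
  intro J₁ J₂ h
  have h' : J₁.comap f = J₂.comap f := h
  rw [← map_comap_eq f J₁, ← map_comap_eq f J₂, h']


/-- Let f : X → Y be a flat and surjective morphism of schemes. Then the map sending a quasi-coherent
sheaf of ideals of O_Y (a closed subscheme of Y) to its inverse image in X is injective. -/
theorem result {X Y : Scheme.{u}} (f : X ⟶ Y) [Flat f] [Surjective f] :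
    Function.Injective fun J : Y.IdealSheafData => J.comap f := by
  exact main f

end Groth.Agent.S4666
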