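import Groth.Statements.S9385
import Mathlib
import Groth.Agent.S2285

set_option autoImplicit false
set_option linter.style.haveILetI false
set_option linter.unusedSectionVars false
set_option linter.unusedVariables false
universe u
open SchDense

namespace Groth.Agent.S9385

section Helpers
open AlgebraicGeometry CategoryTheory Limits TopologicalSpace

theorem ker_toImage_eq_bot {X Y : Scheme.{u}} (f : X ⟶ Y) : f.toImage.ker = ⊥ := by
  have h1 : f.toImage.toImage ≫ (f.toImage.imageι ≫ f.imageι) = f := by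
    rw [← Category.assoc, Scheme.Hom.toImage_imageι, Scheme.Hom.toImage_imageι]
  have hc : (f.toImage.imageι ≫ f.imageι).ker ≤ f.imageι.ker := by
    calc (f.toImage.imageι ≫ f.imageι).ker
        ≤ (f.toImage.toImage ≫ (f.toImage.imageι ≫ f.imageι)).ker :=
          Scheme.Hom.le_ker_comp _ _
      _ = f.ker := by rw [h1]
      _ = f.imageι.ker := (Scheme.IdealSheafData.ker_subschemeι _).symm
  obtain ⟨r, hr⟩ : ∃ r : f.image ⟶ f.toImage.image,
      r ≫ (f.toImage.imageι ≫ f.imageι) = f.imageι :=
    ⟨IsClosedImmersion.lift _ _ hc, IsClosedImmersion.lift_fac _ _ _⟩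
  have hr' : r ≫ f.toImage.imageι = 𝟙 _ := by
    rw [← cancel_mono f.imageι, Category.assoc, hr, Category.id_comp]
  haveI : IsSplitEpi f.toImage.imageι := IsSplitEpi.mk' ⟨r, hr'⟩
  haveI : IsIso f.toImage.imageι := isIso_of_mono_of_isSplitEpi _
  exact (Scheme.isIso_subschemeι_iff_eq_bot _).mp ‹_›

theorem ker_eq_vanishingIdeal_of_isReduced {Z X : Scheme.{u}} (h : Z ⟶ X) [IsReduced Z]
    (C : Closeds X) (hC : (C : Set X) = closure (Set.range h)) :
    h.ker = Scheme.IdealSheafData.vanishingIdeal C := by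
  apply le_antisymm
  · rw [← Scheme.IdealSheafData.le_support_iff_le_vanishingIdeal, ← SetLike.coe_subset_coe, hC]
    exact closure_minimal h.range_subset_ker_support h.ker.support.isClosed
  · refine Scheme.IdealSheafData.le_ofIdeals_iff.mpr ?_
    intro U a ha
    rw [Scheme.IdealSheafData.vanishingIdeal_ideal, PrimeSpectrum.mem_vanishingIdeal] at ha
    show a ∈ RingHom.ker (h.app U.1).hom
    rw [RingHom.mem_ker]
    refine (basicOpen_eq_bot_iff _).mp ((Scheme.preimage_basicOpen h a).symm.trans ?_)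
    refine eq_bot_iff.mpr ?_
    intro z hz
    exfalso
    have hz' : h z ∈ X.basicOpen a := hz
    have hzU : h z ∈ U.1 := X.basicOpen_le a hz'
    have hp := U.2.fromSpec_primeIdealOf ⟨h z, hzU⟩
    have hp' : U.2.fromSpec (U.2.primeIdealOf ⟨h z, hzU⟩) = h z := hp
    have hzC : h z ∈ (C : Set X) := by
      rw [hC]
      exact subset_closure ⟨z, rfl⟩
    have hpC : U.2.primeIdealOf ⟨h z, hzU⟩ ∈ U.2.fromSpec ⁻¹' (C : Set X) := by
      show U.2.fromSpec (U.2.primeIdealOf ⟨h z, hzU⟩) ∈ (C : Set X)
      rw [hp']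
      exact hzC
    have hmem := ha _ hpC
    have hpb : U.2.primeIdealOf ⟨h z, hzU⟩ ∈ U.2.fromSpec ⁻¹ᵁ X.basicOpen a := by
      show U.2.fromSpec (U.2.primeIdealOf ⟨h z, hzU⟩) ∈ X.basicOpen a
      rw [hp']
      exact hz'
    rw [U.2.fromSpec_preimage_basicOpen] at hpb
    exact (PrimeSpectrum.mem_basicOpen _ _).mp hpb hmem

theorem isDominant_homOfLE_of_dense {Y : Scheme.{u}} (R W : Y.Opens) (hR : Dense (R : Set Y)) :
    IsDominant (Y.homOfLE (inf_le_right : R ⊓ W ≤ W)) := by
  refine ⟨?_⟩
  rw [DenseRange, dense_iff_inter_open]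
  intro O hO hne
  obtain ⟨w, hw⟩ := hne
  have hO' : IsOpen (W.ι '' O) := W.ι.isOpenEmbedding.isOpenMap O hO
  obtain ⟨y, hyO, hyR⟩ := hR.inter_open_nonempty _ hO' ⟨W.ι w, w, hw, rfl⟩
  obtain ⟨w', hw'O, rfl⟩ := hyO
  have hw'W : W.ι w' ∈ W := w'.2
  obtain ⟨p, hp⟩ : ∃ p : (R ⊓ W).toScheme, (R ⊓ W).ι p = W.ι w' :=
    ⟨⟨W.ι w', TopologicalSpace.Opens.mem_inf.mpr ⟨hyR, hw'W⟩⟩, rfl⟩
  refine ⟨w', hw'O, ⟨p, ?_⟩⟩
  apply W.ι.isOpenEmbedding.injective
  rw [← Scheme.Hom.comp_apply, Scheme.homOfLE_ι]
  exact hp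

theorem qc_case {Z X : Scheme.{u}} (h : Z ⟶ X) [IsImmersion h] [QuasiCompact h] :
    ∃ hI : IsOpenImmersion h.toImage,
      (∀ W : h.image.Opens, IsSchemeTheoreticallyDominant
          (h.image.homOfLE (inf_le_right : @Scheme.Hom.opensRange _ _ h.toImage hI ⊓ W ≤ W))) ∧
        DenseRange h.toImage.base := by
  refine ⟨inferInstance, fun W => ?_, h.toImage.denseRange⟩
  haveI : IsSchemeTheoreticallyDominant h.toImage := ⟨ker_toImage_eq_bot h⟩
  haveI : IsSchemeTheoreticallyDominant h.toImage.opensRange.ι := by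
    rw [← h.toImage.isoOpensRange_inv_comp]
    infer_instance
  haveI : QuasiCompact h.toImage.opensRange.ι := by
    rw [← h.toImage.isoOpensRange_inv_comp]
    infer_instance
  exact IsSchemeTheoreticallyDominant.of_isPullback (isPullback_opens_inf _ W)

theorem reduced_case {Z X : Scheme.{u}} (h : Z ⟶ X) [IsImmersion h] [IsReduced Z] :
    ∃ hI : IsOpenImmersion h.toImage,
      (∀ W : h.image.Opens, IsSchemeTheoreticallyDominant
          (h.image.homOfLE (inf_le_right : @Scheme.Hom.opensRange _ _ h.toImage hI ⊓ W ≤ W))) ∧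
        DenseRange h.toImage.base := by
  obtain ⟨C, hC⟩ : ∃ C : Closeds X, (C : Set X) = closure (Set.range h) :=
    ⟨⟨closure (Set.range h), isClosed_closure⟩, rfl⟩
  have hker := ker_eq_vanishingIdeal_of_isReduced h C hC
  have hs : (h.ker.support : Set X) = closure (Set.range h) := by
    rw [hker, Scheme.IdealSheafData.coe_support_vanishingIdeal, hC]
  haveI hred : IsReduced h.image := by
    show IsReduced h.ker.subscheme
    rw [hker]
    exact Groth.Agent.S2285.isReduced_subscheme_vanishingIdeal C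
  have hdense : DenseRange h.toImage.base := by
    intro y
    rw [h.imageι.isEmbedding.closure_eq_preimage_closure_image, Set.mem_preimage]
    have e1 : Set.range h ⊆ (h.imageι '' Set.range h.toImage.base) := by
      rintro _ ⟨z, rfl⟩
      exact ⟨h.toImage z, ⟨z, rfl⟩, by rw [← Scheme.Hom.comp_apply, h.toImage_imageι]⟩
    have e2 : h.imageι y ∈ closure (Set.range h) := by
      have e3 : h.imageι y ∈ (h.ker.support : Set X) := by
        rw [← Scheme.IdealSheafData.range_subschemeι]
        exact ⟨y, rfl⟩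
      rw [hs] at e3
      exact e3
    exact closure_mono e1 e2
  have hopen : IsOpen (Set.range h.toImage.base) := by
    have hlc : IsLocallyClosed (Set.range h.toImage.base) := h.toImage.isLocallyClosed_range
    obtain ⟨U, F, hU, hF, hUF⟩ := hlc
    have hFd : Dense F :=
      Dense.mono (s₁ := Set.range h.toImage.base) (hUF ▸ Set.inter_subset_right) hdense
    have hFu : F = Set.univ := by
      rw [← hF.closure_eq]
      exact hFd.closure_eq
    rw [hUF, hFu, Set.inter_univ]
    exact hU
  obtain ⟨R, hR⟩ : ∃ R : h.image.Opens, (R : Set h.image) = Set.range h.toImage.base :=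
    ⟨⟨_, hopen⟩, rfl⟩
  haveI : IsReduced R.toScheme := isReduced_of_isOpenImmersion R.ι
  obtain ⟨e, he⟩ := Groth.Agent.S2285.iso_of_immersions h.toImage R.ι
    (by rw [Scheme.Opens.range_ι, hR])
  have hI : IsOpenImmersion h.toImage := by
    rw [← he]
    infer_instance
  refine ⟨hI, fun W => ?_, hdense⟩
  haveI : IsReduced W.toScheme := isReduced_of_isOpenImmersion W.ι
  haveI := isDominant_homOfLE_of_dense (@Scheme.Hom.opensRange _ _ h.toImage hI) W
    (by rw [Scheme.Hom.coe_opensRange]; exact hdense)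
  exact IsSchemeTheoreticallyDominant.of_isDominant _

end Helpers


open AlgebraicGeometry CategoryTheory in
/-- Let h : Z → X be an immersion, and suppose that either Z is reduced or h is quasi-compact. Write Z̄
⊆ X for the scheme-theoretic image of h. Then Z → Z̄ is an open immersion identifying Z with a
scheme-theoretically dense (in the for-every-open sense) and topologically dense open subscheme of
Z̄. -/
theorem result {Z X : Scheme.{u}} (h : Z ⟶ X) [IsImmersion h]
    (hyp : QuasiCompact h ∨ IsReduced Z) :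
    ∃ hI : IsOpenImmersion h.toImage,
      (∀ W : h.image.Opens, IsSchemeTheoreticallyDominant
          (h.image.homOfLE (inf_le_right : @Scheme.Hom.opensRange _ _ h.toImage hI ⊓ W ≤ W))) ∧
        DenseRange h.toImage.base := by
  rcases hyp with hqc | hred
  · haveI := hqc
    exact qc_case h
  · haveI := hred
    exact reduced_case h

end Groth.Agent.S9385
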