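import Groth.Statements.S5136
import Mathlib
import Groth.Agent.S9385
import Groth.Agent.S4666

set_option autoImplicit false
set_option linter.style.haveILetI false
set_option linter.unusedSectionVars false
set_option linter.unusedVariables false
open CategoryTheory CategoryTheory.Limits AlgebraicGeometry
universe u
open SGA1

namespace Groth.Agent.S5136

section Helpers
open AlgebraicGeometry CategoryTheory Limits

/-- flat base change of the kernel (scheme-theoretic image) of a quasi-compact morphism. -/
theorem ker_eq_comap_of_isPullback {P Z' S' S : Scheme.{u}} {a : P ⟶ S'} {b : P ⟶ Z'}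
    {g : S' ⟶ S} {c : Z' ⟶ S} (H : IsPullback a b g c) [QuasiCompact c] [Flat g] :
    a.ker = c.ker.comap g := by
  have t0 : IsPullback (pullback.fst g c.imageι) (pullback.snd g c.imageι) g c.imageι :=
    IsPullback.of_hasPullback _ _
  have s0 : IsPullback a b g (c.toImage ≫ c.imageι) := by
    rw [c.toImage_imageι]
    exact H
  have hτ := IsPullback.of_right' s0 t0
  obtain ⟨τ, hτ1, hτ2⟩ : ∃ τ : P ⟶ pullback g c.imageι,
      τ ≫ pullback.fst g c.imageι = a ∧
      IsPullback τ b (pullback.snd g c.imageι) c.toImage :=
    ⟨_, t0.lift_fst _ _ _, hτ⟩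
  haveI : IsSchemeTheoreticallyDominant c.toImage :=
    ⟨Groth.Agent.S9385.ker_toImage_eq_bot c⟩
  haveI : IsSchemeTheoreticallyDominant τ :=
    IsSchemeTheoreticallyDominant.of_isPullback hτ2.flip
  rw [← hτ1, Scheme.Hom.ker_comp, τ.ker_eq_bot, Scheme.IdealSheafData.map_bot,
    Scheme.IdealSheafData.ker_fst_of_isClosedImmersion, Scheme.IdealSheafData.ker_subschemeι]

theorem main {S S' : Scheme.{u}} (g : S' ⟶ S) [Flat g] [Surjective g] [QuasiCompact g]
    (J' : S'.IdealSheafData)
    (h : J'.comap (pullback.fst g g) = J'.comap (pullback.snd g g)) :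
    (J'.map g).comap g = J' := by
  have s1 : IsPullback (pullback.fst (pullback.snd g g) J'.subschemeι)
      (pullback.snd (pullback.snd g g) J'.subschemeι) (pullback.snd g g) J'.subschemeι :=
    IsPullback.of_hasPullback _ _
  have t1 : IsPullback (pullback.fst g g) (pullback.snd g g) g g :=
    IsPullback.of_hasPullback _ _
  have H := s1.paste_horiz t1
  haveI : QuasiCompact (J'.subschemeι ≫ g) := inferInstance
  have h1 := ker_eq_comap_of_isPullback H
  have h2 : (J'.subschemeι ≫ g).ker = J'.map g := rfl
  rw [h2] at h1
  rw [← h1, Scheme.Hom.ker_comp]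
  have h3 : (pullback.fst (pullback.snd g g) J'.subschemeι).ker =
      J'.comap (pullback.snd g g) := rfl
  rw [h3, ← h]
  exact Groth.Agent.S4666.map_comap_eq (pullback.fst g g) J'

end Helpers


/-- The existence half of the exactness of H(S) ⟶ H(S') ⇉ H(S'') for closed subschemes: for g : S' ⟶ S
flat, surjective and quasi-compact, a quasi-coherent ideal sheaf on S' whose pullbacks along the two
projections of S' ×_S S' agree is the pullback of a quasi-coherent ideal sheaf on S. (Injectivity of
the pullback of ideal sheaves along g is the other half.) -/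
theorem result {S S' : Scheme.{u}} (g : S' ⟶ S) [Flat g] [Surjective g]
    [QuasiCompact g] (J' : S'.IdealSheafData)
    (h : J'.comap (pullback.fst g g) = J'.comap (pullback.snd g g)) :
    ∃ J : S.IdealSheafData, J.comap g = J' := by
  exact ⟨J'.map g, main g J' h⟩

end Groth.Agent.S5136
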