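import Groth.Statements.S11468
import Mathlib
import Groth.Agent.S5136
import Groth.Agent.H9.ComapIdeal
import Groth.Agent.H93.FlatColon

set_option autoImplicit false
set_option linter.style.haveILetI false
set_option linter.unusedSectionVars false
set_option linter.unusedVariables false
universe u
open CategoryTheory AlgebraicGeometry
open DefT

namespace Groth.Agent.S11468

section Helpers
open CategoryTheory CategoryTheory.Limits AlgebraicGeometry TopologicalSpace Opposite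

/-- restriction of sections -/
noncomputable abbrev rs {X : Scheme.{u}} {U W : X.Opens} (h : W ≤ U) : Γ(X, U) →+* Γ(X, W) :=
  (X.presheaf.map (homOfLE h).op).hom

theorem rs_rs {X : Scheme.{u}} {U V W : X.Opens} (h₁ : W ≤ V) (h₂ : V ≤ U) (s : Γ(X, U)) :
    rs h₁ (rs h₂ s) = rs (h₁.trans h₂) s := by
  show ((X.presheaf.map (homOfLE h₂).op) ≫ (X.presheaf.map (homOfLE h₁).op)).hom s = _
  rw [← Functor.map_comp]
  rfl

theorem app_rs {X X₀ : Scheme.{u}} (i : X₀ ⟶ X) {U W : X.Opens} (h : W ≤ U) (x : Γ(X, U)) :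
    rs (i.preimage_mono h) ((i.app U).hom x) = (i.app W).hom (rs h x) :=
  (congrArg (fun φ : Γ(X, U) ⟶ Γ(X₀, i ⁻¹ᵁ W) => φ.hom x) (i.naturality (homOfLE h).op)).symm

/-- the structure map `C → Γ(X, U)` -/
noncomputable def psi {C : Type u} [CommRing C] {X : Scheme.{u}}
    (g : X ⟶ Spec (CommRingCat.of C)) (U : X.Opens) : C →+* Γ(X, U) :=
  (g.appLE ⊤ U le_top).hom.comp (Scheme.ΓSpecIso (CommRingCat.of C)).inv.hom

theorem rs_psi {C : Type u} [CommRing C] {X : Scheme.{u}} (g : X ⟶ Spec (CommRingCat.of C))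
    {U W : X.Opens} (h : W ≤ U) (c : C) : rs h (psi g U c) = psi g W c :=
  congrArg (fun φ : Γ(Spec (CommRingCat.of C), ⊤) ⟶ Γ(X, W) =>
      φ.hom ((Scheme.ΓSpecIso (CommRingCat.of C)).inv.hom c))
    (g.appLE_map (le_top : U ≤ g ⁻¹ᵁ ⊤) (homOfLE h).op)

theorem psi_top {C : Type u} [CommRing C] {X : Scheme.{u}} (g : X ⟶ Spec (CommRingCat.of C))
    (c : C) : psi g ⊤ c = ((Scheme.ΓSpecIso (CommRingCat.of C)).inv ≫ g.appTop) c :=
  congrArg (fun φ : Γ(Spec (CommRingCat.of C), ⊤) ⟶ Γ(X, ⊤) =>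
      φ.hom ((Scheme.ΓSpecIso (CommRingCat.of C)).inv.hom c))
    (g.appLE_eq_app (U := ⊤))

theorem flat_psi {C : Type u} [CommRing C] {X : Scheme.{u}} (g : X ⟶ Spec (CommRingCat.of C))
    [Flat g] (U : X.Opens) (hU : IsAffineOpen U) : (psi g U).Flat :=
  (RingHom.Flat.respectsIso.cancel_left_isIso (Scheme.ΓSpecIso (CommRingCat.of C)).inv
    (g.appLE ⊤ U le_top)).mpr (g.flat_appLE (isAffineOpen_top _) hU le_top)

theorem exists_coatom (C : Type u) [CommRing C] [IsLocalRing C] [IsNoetherianRing C]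
    (I : Ideal C) (hI : I ≠ ⊥) :
    ∃ (I' : Ideal C) (t : C), I' < I ∧ t ∈ I ∧ t ∉ I' ∧ I = I' ⊔ Ideal.span {t} ∧
      ∀ a ∈ IsLocalRing.maximalIdeal C, a * t ∈ I' := by
  obtain ⟨I', hI'lt, hmax⟩ := set_has_maximal_iff_noetherian.mpr
    (inferInstance : IsNoetherian C C) {J : Ideal C | J < I} ⟨⊥, bot_lt_iff_ne_bot.mpr hI⟩
  have hI'lt' : I' < I := hI'lt
  obtain ⟨t, htI, htI'⟩ := SetLike.exists_of_lt hI'lt'
  have hkey : ∀ J : Ideal C, I' < J → J ≤ I → J = I := by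
    intro J h1 h2
    by_contra hne
    exact hmax J (lt_of_le_of_ne h2 hne) h1
  refine ⟨I', t, hI'lt', htI, htI', ?_, ?_⟩
  · refine (hkey _ ?_ ?_).symm
    · refine lt_of_le_of_ne le_sup_left ?_
      intro h
      apply htI'
      rw [h]
      exact Ideal.mem_sup_right (Ideal.mem_span_singleton_self t)
    · exact sup_le hI'lt'.le ((Ideal.span_singleton_le_iff_mem _).mpr htI)
  · intro a ha
    by_contra hat
    have hJ : I' ⊔ Ideal.span {a * t} = I := by
      refine hkey _ ?_ ?_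
      · refine lt_of_le_of_ne le_sup_left ?_
        intro h
        apply hat
        rw [h]
        exact Ideal.mem_sup_right (Ideal.mem_span_singleton_self _)
      · exact sup_le hI'lt'.le
          ((Ideal.span_singleton_le_iff_mem _).mpr (I.mul_mem_left a htI))
    have ht : t ∈ I' ⊔ Ideal.span {a * t} := hJ ▸ htI
    obtain ⟨y, hy, z, hz, hyz⟩ := Submodule.mem_sup.mp ht
    obtain ⟨r, rfl⟩ := Ideal.mem_span_singleton'.mp hz
    have hu : IsUnit (1 - r * a) := by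
      have hra : r * a ∈ IsLocalRing.maximalIdeal C := Ideal.mul_mem_left _ r ha
      by_contra hnu
      have h1 : (1 - r * a) ∈ IsLocalRing.maximalIdeal C :=
        (IsLocalRing.mem_maximalIdeal _).mpr hnu
      have h2 : (1 : C) ∈ IsLocalRing.maximalIdeal C := by
        have h3 := Ideal.add_mem _ h1 hra
        rwa [sub_add_cancel] at h3
      exact (IsLocalRing.maximalIdeal.isMaximal C).ne_top ((Ideal.eq_top_iff_one _).mpr h2)
    apply htI'
    have h2 : (1 - r * a) * t = y := by linear_combination (-1 : C) * hyz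
    obtain ⟨u, hu'⟩ := hu
    have h3 : t = ↑u⁻¹ * y := by
      rw [← h2, ← hu', ← mul_assoc, Units.inv_mul, one_mul]
    rw [h3]
    exact Ideal.mul_mem_left I' _ hy

theorem eq_zero_of_affine {X : Scheme.{u}} (s : Γ(X, ⊤))
    (h : ∀ U : X.affineOpens, rs (le_top : U.1 ≤ ⊤) s = 0) : s = 0 := by
  refine TopCat.Presheaf.section_ext X.sheaf ⊤ s 0 (fun x hx => ?_)
  show X.presheaf.germ ⊤ x hx s = X.presheaf.germ ⊤ x hx 0
  obtain ⟨_, ⟨U, hU, rfl⟩, hxU, -⟩ :=
    X.isBasis_affineOpens.exists_subset_of_mem_open (Set.mem_univ x) isOpen_univ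
  have h1 := TopCat.Presheaf.germ_res_apply X.presheaf (homOfLE (le_top : U ≤ ⊤)) x hxU s
  have h2 : X.presheaf.map (homOfLE (le_top : U ≤ ⊤)).op s = 0 := h ⟨U, hU⟩
  rw [h2] at h1
  exact h1.symm.trans ((map_zero _).trans (map_zero _).symm)

theorem mem_map_of_mul_mem {C B : Type u} [CommRing C] [CommRing B] (ψ : C →+* B) (hψ : ψ.Flat)
    (J Q : Ideal C) (t : C) (hQ : ∀ a : C, t * a ∈ J → a ∈ Q) (z : B)
    (h : ψ t * z ∈ Ideal.map ψ J) : z ∈ Ideal.map ψ Q := by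
  letI := ψ.toAlgebra
  haveI : Module.Flat C B := hψ
  have h' : t • z ∈ J • (⊤ : Submodule C B) := by
    rw [Ideal.smul_top_eq_map, Submodule.restrictScalars_mem, Algebra.smul_def]
    exact h
  have h'' := Groth.Agent.H93.mem_smul_top_of_smul_mem_of_flat J Q t hQ h'
  rw [Ideal.smul_top_eq_map, Submodule.restrictScalars_mem] at h''
  exact h''

theorem mul_mem_map_of {C B : Type u} [CommRing C] [CommRing B] (ψ : C →+* B) (I' Q : Ideal C)
    (t : C) (hQt : ∀ a ∈ Q, a * t ∈ I') (z : B) (hz : z ∈ Ideal.map ψ Q) :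
    ψ t * z ∈ Ideal.map ψ I' := by
  have h1 : Ideal.span {t} * Q ≤ I' := by
    rw [Ideal.span_singleton_mul_le_iff]
    intro a ha
    rw [mul_comm]
    exact hQt a ha
  have h2 : ψ t * z ∈ Ideal.map ψ (Ideal.span {t}) * Ideal.map ψ Q :=
    Ideal.mul_mem_mul (Ideal.mem_map_of_mem ψ (Ideal.mem_span_singleton_self t)) hz
  rw [← Ideal.map_mul] at h2
  exact Ideal.map_mono h1 h2

theorem ker_app_eq {C : Type u} [CommRing C] (m : Ideal C) {X X₀ : Scheme.{u}}
    (g : X ⟶ Spec (CommRingCat.of C)) [Flat g]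
    (i : X₀ ⟶ X) (f₀ : X₀ ⟶ Spec (CommRingCat.of (C ⧸ m)))
    (hsq : IsPullback i f₀ g (Spec.map (CommRingCat.ofHom (Ideal.Quotient.mk m))))
    [IsClosedImmersion i] (U : X.Opens) (hU : IsAffineOpen U) :
    RingHom.ker (i.app U).hom = Ideal.map (psi g U) m := by
  haveI : IsClosedImmersion (Spec.map (CommRingCat.ofHom (Ideal.Quotient.mk m))) :=
    IsClosedImmersion.spec_of_surjective _ Ideal.Quotient.mk_surjective
  have hker : i.ker = (Spec.map (CommRingCat.ofHom (Ideal.Quotient.mk m))).ker.comap g :=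
    Groth.Agent.S5136.ker_eq_comap_of_isPullback hsq
  have h1 : i.ker.ideal ⟨U, hU⟩ = RingHom.ker (i.app U).hom := Scheme.Hom.ker_apply i ⟨U, hU⟩
  have h2 : (Spec.map (CommRingCat.ofHom (Ideal.Quotient.mk m))).ker.ideal
      ⟨⊤, isAffineOpen_top _⟩ = Ideal.map (Scheme.ΓSpecIso (CommRingCat.of C)).inv.hom m := by
    rw [Scheme.Hom.ker_apply]
    apply le_antisymm
    · intro x hx
      rw [RingHom.mem_ker] at hx
      have hx' : (Spec.map (CommRingCat.ofHom (Ideal.Quotient.mk m))).appTop x = 0 := hx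
      have e1 : (Scheme.ΓSpecIso (CommRingCat.of (C ⧸ m))).hom
          ((Spec.map (CommRingCat.ofHom (Ideal.Quotient.mk m))).appTop x) =
          (CommRingCat.ofHom (Ideal.Quotient.mk m)) ((Scheme.ΓSpecIso (CommRingCat.of C)).hom x) := by
        rw [← CommRingCat.comp_apply, ← CommRingCat.comp_apply, Scheme.ΓSpecIso_naturality]
      rw [hx', map_zero] at e1
      have e2 : (Scheme.ΓSpecIso (CommRingCat.of C)).hom x ∈ m :=
        Ideal.Quotient.eq_zero_iff_mem.mp e1.symm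
      have e3 : x = (Scheme.ΓSpecIso (CommRingCat.of C)).inv
          ((Scheme.ΓSpecIso (CommRingCat.of C)).hom x) := by
        rw [← CommRingCat.comp_apply, Iso.hom_inv_id, CommRingCat.id_apply]
      rw [e3]
      exact Ideal.mem_map_of_mem _ e2
    · rw [Ideal.map_le_iff_le_comap]
      intro y hy
      rw [Ideal.mem_comap, RingHom.mem_ker]
      show (Spec.map (CommRingCat.ofHom (Ideal.Quotient.mk m))).appTop
        ((Scheme.ΓSpecIso (CommRingCat.of C)).inv y) = 0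
      rw [← CommRingCat.comp_apply, ← Scheme.ΓSpecIso_inv_naturality, CommRingCat.comp_apply]
      have h0 : (CommRingCat.ofHom (Ideal.Quotient.mk m)) y = 0 :=
        Ideal.Quotient.eq_zero_iff_mem.mpr hy
      rw [h0, map_zero]
  rw [← h1, hker,
    Groth.Agent.H9.comap_ideal g _ ⟨⊤, isAffineOpen_top _⟩ ⟨U, hU⟩ le_top, h2, Ideal.map_map]
  rfl

theorem glue {X X₀ : Scheme.{u}} (i : X₀ ⟶ X) (β : ∀ U : X.affineOpens, Γ(X₀, i ⁻¹ᵁ U.1))
    (hβ : ∀ (U W : X.affineOpens) (h : W.1 ≤ U.1), rs (i.preimage_mono h) (β U) = β W) :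
    ∃ b : Γ(X₀, i ⁻¹ᵁ ⊤), ∀ U : X.affineOpens,
      rs (i.preimage_mono (le_top : U.1 ≤ ⊤)) b = β U := by
  have hcover : i ⁻¹ᵁ (⊤ : X.Opens) ≤ ⨆ U : X.affineOpens, i ⁻¹ᵁ U.1 := by
    intro x _
    obtain ⟨_, ⟨U, hU, rfl⟩, hxU, -⟩ :=
      X.isBasis_affineOpens.exists_subset_of_mem_open (Set.mem_univ (i x)) isOpen_univ
    exact Opens.mem_iSup.mpr ⟨⟨U, hU⟩, hxU⟩
  have hcompat : TopCat.Presheaf.IsCompatible X₀.presheaf
      (fun U : X.affineOpens => i ⁻¹ᵁ U.1) β := by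
    intro U U'
    change X₀.presheaf.map
        (homOfLE (inf_le_left : i ⁻¹ᵁ U.1 ⊓ i ⁻¹ᵁ U'.1 ≤ i ⁻¹ᵁ U.1)).op (β U) =
      X₀.presheaf.map
        (homOfLE (inf_le_right : i ⁻¹ᵁ U.1 ⊓ i ⁻¹ᵁ U'.1 ≤ i ⁻¹ᵁ U'.1)).op (β U')
    refine TopCat.Presheaf.section_ext X₀.sheaf _ _ _ (fun x hx => ?_)
    show X₀.presheaf.germ (i ⁻¹ᵁ U.1 ⊓ i ⁻¹ᵁ U'.1) x hx _ =
      X₀.presheaf.germ (i ⁻¹ᵁ U.1 ⊓ i ⁻¹ᵁ U'.1) x hx _
    rw [TopCat.Presheaf.germ_res_apply, TopCat.Presheaf.germ_res_apply]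
    have hx1 : i x ∈ U.1 := (Opens.mem_inf.mp hx).1
    have hx2 : i x ∈ U'.1 := (Opens.mem_inf.mp hx).2
    obtain ⟨_, ⟨W, hW, rfl⟩, hxW, hWsub⟩ :=
      X.isBasis_affineOpens.exists_subset_of_mem_open
        (show i x ∈ ((U.1 ⊓ U'.1 : X.Opens) : Set X) from ⟨hx1, hx2⟩) (U.1 ⊓ U'.1).isOpen
    have hWU : W ≤ U.1 := fun y hy => (hWsub hy).1
    have hWU' : W ≤ U'.1 := fun y hy => (hWsub hy).2
    have a1 := TopCat.Presheaf.germ_res_apply X₀.presheaf
      (homOfLE (i.preimage_mono hWU)) x hxW (β U)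
    have a2 := TopCat.Presheaf.germ_res_apply X₀.presheaf
      (homOfLE (i.preimage_mono hWU')) x hxW (β U')
    have b1 : X₀.presheaf.map (homOfLE (i.preimage_mono hWU)).op (β U) = β ⟨W, hW⟩ :=
      hβ U ⟨W, hW⟩ hWU
    have b2 : X₀.presheaf.map (homOfLE (i.preimage_mono hWU')).op (β U') = β ⟨W, hW⟩ :=
      hβ U' ⟨W, hW⟩ hWU'
    rw [b1] at a1
    rw [b2] at a2
    exact a1.symm.trans a2
  obtain ⟨b, hb, -⟩ := TopCat.Sheaf.existsUnique_gluing' (F := X₀.sheaf)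
    (fun U : X.affineOpens => i ⁻¹ᵁ U.1) (i ⁻¹ᵁ ⊤)
    (fun U => homOfLE (i.preimage_mono le_top)) hcover β hcompat
  exact ⟨b, fun U => hb U⟩

theorem key_step {C : Type u} [CommRing C] [IsLocalRing C] {X X₀ : Scheme.{u}}
    (g : X ⟶ Spec (CommRingCat.of C)) [Flat g] (i : X₀ ⟶ X)
    (hker : ∀ (U : X.Opens), IsAffineOpen U →
      RingHom.ker (i.app U).hom = Ideal.map (psi g U) (IsLocalRing.maximalIdeal C))
    (hglob : ∀ b : Γ(X₀, i ⁻¹ᵁ ⊤), ∃ c : C, b = (i.app ⊤).hom (psi g ⊤ c))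
    (I' : Ideal C) (t : C) (ht' : t ∉ I')
    (hmt : ∀ a ∈ IsLocalRing.maximalIdeal C, a * t ∈ I')
    (s : Γ(X, ⊤))
    (hs : ∀ U : X.affineOpens,
      rs (le_top : U.1 ≤ ⊤) s ∈ Ideal.map (psi g U.1) (I' ⊔ Ideal.span {t})) :
    ∃ c : C, ∀ U : X.affineOpens,
      rs (le_top : U.1 ≤ ⊤) (s - psi g ⊤ (c * t)) ∈ Ideal.map (psi g U.1) I' := by
  have hQ : ∀ a : C, t * a ∈ I' → a ∈ IsLocalRing.maximalIdeal C := by
    intro a ha
    by_contra hna
    have hu : IsUnit a := by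
      by_contra h
      exact hna ((IsLocalRing.mem_maximalIdeal a).mpr h)
    obtain ⟨u, rfl⟩ := hu
    apply ht'
    have h3 : t = (t * ↑u) * ↑u⁻¹ := by rw [mul_assoc, Units.mul_inv, mul_one]
    rw [h3]
    exact I'.mul_mem_right _ ha
  have G1 : ∀ U : X.affineOpens, ∃ b : Γ(X, U.1),
      rs (le_top : U.1 ≤ ⊤) s - psi g U.1 t * b ∈ Ideal.map (psi g U.1) I' := by
    intro U
    have h := hs U
    rw [Ideal.map_sup, Ideal.map_span, Set.image_singleton] at h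
    obtain ⟨y, hy, z, hz, hyz⟩ := Submodule.mem_sup.mp h
    obtain ⟨b, rfl⟩ := Ideal.mem_span_singleton'.mp hz
    refine ⟨b, ?_⟩
    have h4 : rs (le_top : U.1 ≤ ⊤) s - psi g U.1 t * b = y := by
      rw [← hyz]
      ring
    rw [h4]
    exact hy
  choose b hb using G1
  have G2 : ∀ (U : X.affineOpens) (b₁ b₂ : Γ(X, U.1)),
      rs (le_top : U.1 ≤ ⊤) s - psi g U.1 t * b₁ ∈ Ideal.map (psi g U.1) I' →
      rs (le_top : U.1 ≤ ⊤) s - psi g U.1 t * b₂ ∈ Ideal.map (psi g U.1) I' →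
      (i.app U.1).hom b₁ = (i.app U.1).hom b₂ := by
    intro U b₁ b₂ h₁ h₂
    have hd : psi g U.1 t * (b₁ - b₂) ∈ Ideal.map (psi g U.1) I' := by
      have h5 := Ideal.sub_mem _ h₂ h₁
      have h6 : rs (le_top : U.1 ≤ ⊤) s - psi g U.1 t * b₂ -
          (rs (le_top : U.1 ≤ ⊤) s - psi g U.1 t * b₁) = psi g U.1 t * (b₁ - b₂) := by ring
      rw [h6] at h5
      exact h5
    have hm := mem_map_of_mul_mem (psi g U.1) (flat_psi g U.1 U.2) I'
      (IsLocalRing.maximalIdeal C) t hQ _ hd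
    rw [← hker U.1 U.2, RingHom.mem_ker, map_sub, sub_eq_zero] at hm
    exact hm
  have hcompat : ∀ (U W : X.affineOpens) (h : W.1 ≤ U.1),
      rs (i.preimage_mono h) ((i.app U.1).hom (b U)) = (i.app W.1).hom (b W) := by
    intro U W h
    rw [app_rs i h (b U)]
    refine G2 W _ _ ?_ (hb W)
    have h7 := Ideal.mem_map_of_mem (rs h) (hb U)
    rw [Ideal.map_map] at h7
    have e1 : (rs h).comp (psi g U.1) = psi g W.1 := RingHom.ext (rs_psi g h)
    rw [e1, map_sub, map_mul, rs_psi, rs_rs] at h7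
    exact h7
  obtain ⟨β, hβ⟩ := glue i (fun U => (i.app U.1).hom (b U)) hcompat
  obtain ⟨c, hc⟩ := hglob β
  refine ⟨c, fun U => ?_⟩
  have h8 : (i.app U.1).hom (b U) = (i.app U.1).hom (psi g U.1 c) := by
    rw [← hβ U, hc, app_rs i (le_top : U.1 ≤ ⊤), rs_psi]
  have h9 : b U - psi g U.1 c ∈ Ideal.map (psi g U.1) (IsLocalRing.maximalIdeal C) := by
    rw [← hker U.1 U.2, RingHom.mem_ker, map_sub, h8, sub_self]
  have h10 : rs (le_top : U.1 ≤ ⊤) (s - psi g ⊤ (c * t)) =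
      (rs (le_top : U.1 ≤ ⊤) s - psi g U.1 t * b U) +
        psi g U.1 t * (b U - psi g U.1 c) := by
    rw [map_sub, rs_psi, map_mul]
    ring
  rw [h10]
  exact Ideal.add_mem _ (hb U)
    (mul_mem_map_of (psi g U.1) I' (IsLocalRing.maximalIdeal C) t hmt _ h9)

theorem surj_aux {C : Type u} [CommRing C] [IsLocalRing C] [IsArtinianRing C]
    {X X₀ : Scheme.{u}} (g : X ⟶ Spec (CommRingCat.of C)) [Flat g] (i : X₀ ⟶ X)
    (hker : ∀ (U : X.Opens), IsAffineOpen U →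
      RingHom.ker (i.app U).hom = Ideal.map (psi g U) (IsLocalRing.maximalIdeal C))
    (hglob : ∀ b : Γ(X₀, i ⁻¹ᵁ ⊤), ∃ c : C, b = (i.app ⊤).hom (psi g ⊤ c)) (I : Ideal C) :
    ∀ s : Γ(X, ⊤),
      (∀ U : X.affineOpens, rs (le_top : U.1 ≤ ⊤) s ∈ Ideal.map (psi g U.1) I) →
      ∃ c ∈ I, s = psi g ⊤ c := by
  refine WellFoundedLT.induction (motive := fun I : Ideal C => ∀ s : Γ(X, ⊤),
    (∀ U : X.affineOpens, rs (le_top : U.1 ≤ ⊤) s ∈ Ideal.map (psi g U.1) I) →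
    ∃ c ∈ I, s = psi g ⊤ c) I (fun I ih => ?_)
  intro s hs
  by_cases hI : I = ⊥
  · subst hI
    refine ⟨0, Ideal.zero_mem _, ?_⟩
    rw [map_zero]
    apply eq_zero_of_affine
    intro U
    have h := hs U
    rw [Ideal.map_bot, Ideal.mem_bot] at h
    exact h
  · obtain ⟨I', t, hlt, htI, htI', hsup, hmt⟩ := exists_coatom C I hI
    have hs' : ∀ U : X.affineOpens,
        rs (le_top : U.1 ≤ ⊤) s ∈ Ideal.map (psi g U.1) (I' ⊔ Ideal.span {t}) :=
      fun U => hsup ▸ hs U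
    obtain ⟨c₁, hc₁⟩ := key_step g i hker hglob I' t htI' hmt s hs'
    obtain ⟨c₂, hc₂I', hc₂⟩ := ih I' hlt (s - psi g ⊤ (c₁ * t)) hc₁
    refine ⟨c₁ * t + c₂, I.add_mem (I.mul_mem_left _ htI) (hlt.le hc₂I'), ?_⟩
    rw [map_add, ← hc₂, add_sub_cancel]

theorem main (C : Type u) [CommRing C]
    [IsLocalRing C] [IsArtinianRing C] (X X₀ : Scheme.{u}) (g : X ⟶ Spec (CommRingCat.of C))
    [Flat g] (i : X₀ ⟶ X)
    (f₀ : X₀ ⟶ Spec (CommRingCat.of (C ⧸ IsLocalRing.maximalIdeal C)))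
    (hsq : IsPullback i f₀ g
      (Spec.map (CommRingCat.ofHom (Ideal.Quotient.mk (IsLocalRing.maximalIdeal C)))))
    (h0 : Function.Bijective
      ((Scheme.ΓSpecIso (CommRingCat.of (C ⧸ IsLocalRing.maximalIdeal C))).inv ≫ f₀.appTop)) :
    Function.Bijective ((Scheme.ΓSpecIso (CommRingCat.of C)).inv ≫ g.appTop) := by
  haveI : IsClosedImmersion
      (Spec.map (CommRingCat.ofHom (Ideal.Quotient.mk (IsLocalRing.maximalIdeal C)))) :=
    IsClosedImmersion.spec_of_surjective _ Ideal.Quotient.mk_surjective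
  haveI : IsClosedImmersion i :=
    MorphismProperty.of_isPullback (P := @IsClosedImmersion) hsq.flip inferInstance
  have hker : ∀ (U : X.Opens), IsAffineOpen U →
      RingHom.ker (i.app U).hom = Ideal.map (psi g U) (IsLocalRing.maximalIdeal C) :=
    fun U hU => ker_app_eq (IsLocalRing.maximalIdeal C) g i f₀ hsq U hU
  have hw : g.appTop ≫ i.appTop =
      (Spec.map (CommRingCat.ofHom (Ideal.Quotient.mk (IsLocalRing.maximalIdeal C)))).appTop ≫
        f₀.appTop := by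
    rw [← Scheme.Hom.comp_appTop, ← Scheme.Hom.comp_appTop, hsq.w]
  have hformula : ∀ c : C,
      ((Scheme.ΓSpecIso (CommRingCat.of (C ⧸ IsLocalRing.maximalIdeal C))).inv ≫ f₀.appTop)
        (Ideal.Quotient.mk (IsLocalRing.maximalIdeal C) c) = (i.app ⊤).hom (psi g ⊤ c) := by
    intro c
    have e1 := congrArg (fun φ : CommRingCat.of C ⟶
        Γ(Spec (CommRingCat.of (C ⧸ IsLocalRing.maximalIdeal C)), ⊤) => φ.hom c)
      (Scheme.ΓSpecIso_inv_naturality
        (CommRingCat.ofHom (Ideal.Quotient.mk (IsLocalRing.maximalIdeal C))))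
    have e2 := congrArg (fun φ : Γ(Spec (CommRingCat.of C), ⊤) ⟶ Γ(X₀, ⊤) =>
        φ.hom ((Scheme.ΓSpecIso (CommRingCat.of C)).inv.hom c)) hw
    rw [psi_top]
    exact (congrArg (fun z => f₀.appTop.hom z) e1).trans e2.symm
  have hglob : ∀ b : Γ(X₀, i ⁻¹ᵁ ⊤), ∃ c : C, b = (i.app ⊤).hom (psi g ⊤ c) := by
    intro b
    obtain ⟨cbar, hcbar⟩ := h0.2 b
    obtain ⟨c, rfl⟩ := Ideal.Quotient.mk_surjective cbar
    exact ⟨c, hcbar.symm.trans (hformula c)⟩
  constructor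
  · rw [injective_iff_map_eq_zero]
    intro c hc
    by_contra hc0
    have hc' : psi g ⊤ c = 0 := (psi_top g c).trans hc
    -- X₀ is nonempty
    have hne : Nonempty X₀ := by
      by_contra hemp
      rw [not_nonempty_iff] at hemp
      have h1 : ((Scheme.ΓSpecIso (CommRingCat.of (C ⧸ IsLocalRing.maximalIdeal C))).inv ≫
          f₀.appTop) 0 = ((Scheme.ΓSpecIso (CommRingCat.of (C ⧸ IsLocalRing.maximalIdeal C))).inv ≫
          f₀.appTop) 1 := Subsingleton.elim _ _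
      have h2 := h0.1 h1
      haveI : Nontrivial (C ⧸ IsLocalRing.maximalIdeal C) :=
        Ideal.Quotient.nontrivial_iff.mpr (IsLocalRing.maximalIdeal.isMaximal C).ne_top
      exact zero_ne_one h2
    obtain ⟨x₀⟩ := hne
    obtain ⟨_, ⟨U, hU, rfl⟩, hxU, -⟩ :=
      X.isBasis_affineOpens.exists_subset_of_mem_open (Set.mem_univ (i x₀)) isOpen_univ
    haveI : Nonempty (i ⁻¹ᵁ U) := ⟨⟨x₀, hxU⟩⟩
    have hcU : psi g U c = 0 := by
      rw [← rs_psi g (le_top : U ≤ ⊤) c, hc', map_zero]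
    have hQ : ∀ a : C, c * a ∈ (⊥ : Ideal C) → a ∈ IsLocalRing.maximalIdeal C := by
      intro a ha
      by_contra hna
      have hu : IsUnit a := by
        by_contra h
        exact hna ((IsLocalRing.mem_maximalIdeal a).mpr h)
      obtain ⟨u, rfl⟩ := hu
      apply hc0
      rw [Ideal.mem_bot] at ha
      have h3 : c = (c * ↑u) * ↑u⁻¹ := by rw [mul_assoc, Units.mul_inv, mul_one]
      rw [h3, ha, zero_mul]
    have h4 : (1 : Γ(X, U)) ∈ Ideal.map (psi g U) (IsLocalRing.maximalIdeal C) :=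
      mem_map_of_mul_mem (psi g U) (flat_psi g U hU) ⊥ (IsLocalRing.maximalIdeal C) c hQ 1
        (by rw [hcU, zero_mul]; exact Ideal.zero_mem _)
    rw [← hker U hU, RingHom.mem_ker, map_one] at h4
    exact one_ne_zero h4
  · intro s
    obtain ⟨c, -, hc⟩ := surj_aux g i hker hglob ⊤ s (fun U => by
      rw [Ideal.map_top]
      exact Submodule.mem_top)
    exact ⟨c, (psi_top g c).symm.trans hc.symm⟩

end Helpers


/-- Let C be a local Artin ring with maximal ideal m and residue field k = C/m, g : X → Spec C a flat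
morphism, and i : X₀ → X the fibre of g over the closed point, i.e. a pullback of g along Spec k →
Spec C, with structure map f₀ : X₀ → Spec k. If the induced ring map k → Γ(X₀, O_{X₀}) is bijective,
then so is C → Γ(X, O_X). -/
theorem result (C : Type u) [CommRing C]
    [IsLocalRing C] [IsArtinianRing C] (X X₀ : Scheme.{u}) (g : X ⟶ Spec (CommRingCat.of C)) [Flat g]
    (i : X₀ ⟶ X) (f₀ : X₀ ⟶ Spec (CommRingCat.of (C ⧸ IsLocalRing.maximalIdeal C)))
    (hsq : IsPullback i f₀ g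
      (Spec.map (CommRingCat.ofHom (Ideal.Quotient.mk (IsLocalRing.maximalIdeal C)))))
    (h0 : Function.Bijective ((Scheme.ΓSpecIso (CommRingCat.of (C ⧸ IsLocalRing.maximalIdeal C))).inv ≫
      f₀.appTop)) :
    Function.Bijective ((Scheme.ΓSpecIso (CommRingCat.of C)).inv ≫ g.appTop) := by
  exact main C X X₀ g i f₀ hsq h0

end Groth.Agent.S11468
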