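import Groth.Statements.S11469
import Mathlib

set_option autoImplicit false
set_option linter.style.haveILetI false
set_option linter.unusedSectionVars false
universe u
open scoped TensorProduct
open DefT

namespace Groth.Agent.S11469

section aux

open TensorProduct

variable {R : Type*} [CommRing R] {S : Type*} [CommRing S] [Algebra R S] {M : Type*}
  [AddCommGroup M] [Module S M] [Module R M] [IsScalarTower R S M]

theorem mem_map_smul_top_iff (I : Ideal R) (x : M) :
    x ∈ (I.map (algebraMap R S)) • (⊤ : Submodule S M) ↔ x ∈ I • (⊤ : Submodule R M) := by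
  have h := Ideal.smul_restrictScalars I (⊤ : Submodule S M)
  rw [Submodule.restrictScalars_top] at h
  rw [← h]
  exact Iff.rfl

variable (J : Ideal R)

/-- The multiplication map `M ⊗ J → M`. -/
noncomputable def mu : M ⊗[R] J →ₗ[R] M :=
  (TensorProduct.rid R M).toLinearMap ∘ₗ (LinearMap.lTensor M J.subtype)

theorem mu_tmul (x : M) (j : J) : mu J (x ⊗ₜ[R] j) = (j : R) • x := by
  show TensorProduct.rid R M (LinearMap.lTensor M J.subtype (x ⊗ₜ[R] j)) = _
  rw [LinearMap.lTensor_tmul, TensorProduct.rid_tmul]
  rfl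

theorem mu_smul (a : S) (z : M ⊗[R] J) : mu J (a • z) = a • mu J z := by
  induction z using TensorProduct.induction_on with
  | zero => rw [smul_zero, map_zero, smul_zero]
  | tmul x j => rw [TensorProduct.smul_tmul', mu_tmul, mu_tmul, smul_comm]
  | add x y hx hy => rw [smul_add, map_add, hx, hy, map_add, smul_add]

theorem mu_injective [Module.Flat R M] : Function.Injective (mu (M := M) J) := by
  have h1 : Function.Injective (LinearMap.lTensor M J.subtype) :=
    Module.Flat.lTensor_preserves_injective_linearMap _ (Submodule.injective_subtype J)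
  exact (TensorProduct.rid R M).injective.comp h1

theorem mu_mem (z : M ⊗[R] J) : mu J z ∈ J • (⊤ : Submodule R M) := by
  induction z using TensorProduct.induction_on with
  | zero => rw [map_zero]; exact Submodule.zero_mem _
  | tmul x j => rw [mu_tmul]; exact Submodule.smul_mem_smul j.2 Submodule.mem_top
  | add x y hx hy => rw [map_add]; exact Submodule.add_mem _ hx hy

theorem exists_mu_eq {y : M} (hy : y ∈ J • (⊤ : Submodule R M)) : ∃ z, mu J z = y := by
  refine Submodule.smul_induction_on hy
    (fun j hj x _ => ⟨x ⊗ₜ[R] (⟨j, hj⟩ : J), mu_tmul J x ⟨j, hj⟩⟩) ?_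
  rintro x y ⟨zx, rfl⟩ ⟨zy, rfl⟩
  exact ⟨zx + zy, map_add _ _ _⟩

variable (N : Submodule S M)

/-- The reduction map `M ⊗ J → (M ⧸ N) ⊗ J`. -/
noncomputable def pi' : M ⊗[R] J →ₗ[R] (M ⧸ N) ⊗[R] J :=
  LinearMap.rTensor J (N.mkQ.restrictScalars R)

theorem pi'_tmul (x : M) (j : J) : pi' J N (x ⊗ₜ[R] j) = (N.mkQ x) ⊗ₜ[R] j := rfl

theorem pi'_smul (a : S) (z : M ⊗[R] J) : pi' J N (a • z) = a • pi' J N z := by
  induction z using TensorProduct.induction_on with
  | zero => rw [smul_zero, map_zero, smul_zero]
  | tmul x j =>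
    rw [TensorProduct.smul_tmul', pi'_tmul, pi'_tmul, map_smul, TensorProduct.smul_tmul']
  | add x y hx hy => rw [smul_add, map_add, hx, hy, map_add, smul_add]

theorem pi'_surjective : Function.Surjective (pi' J N) :=
  LinearMap.rTensor_surjective J (Submodule.mkQ_surjective N)

theorem pi'_injective (h : ∀ n ∈ N, ∀ j : J, (n ⊗ₜ[R] j : M ⊗[R] J) = 0) :
    Function.Injective (pi' J N) := by
  have hex : Function.Exact ((N.restrictScalars R).subtype) (N.mkQ.restrictScalars R) := by
    intro y
    constructor
    · intro hy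
      have hy' : y ∈ N := (Submodule.Quotient.mk_eq_zero N).mp hy
      exact ⟨⟨y, hy'⟩, rfl⟩
    · rintro ⟨n, rfl⟩
      exact (Submodule.Quotient.mk_eq_zero N).mpr n.2
  have hex' := rTensor_exact J hex (Submodule.mkQ_surjective N)
  rw [injective_iff_map_eq_zero]
  intro z hz
  obtain ⟨w, rfl⟩ := (hex' z).mp hz
  clear hz
  induction w using TensorProduct.induction_on with
  | zero => rw [map_zero]
  | tmul n j =>
    rw [LinearMap.rTensor_tmul]
    exact h n.1 n.2 j
  | add x y hx hy => rw [map_add, hx, hy, add_zero]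

end aux


/-- Let C' be a local Artin ring with maximal ideal m, J ⊊ C' a proper ideal with mJ = 0, A' a
C'-algebra, M' an A'-module flat over C', and M₀ = M'/mM'. Then (1) every A'-linear endomorphism σ
of M' that is the identity modulo JM' is bijective, and there is exactly one A'-linear τ : M₀ → M₀
⊗_{C'} J such that, for all x ∈ M' and all z ∈ M' ⊗_{C'} J mapping to σ(x) − x in M', the image of z
in M₀ ⊗_{C'} J is τ applied to the class of x; and (2) every A'-linear τ : M₀ → M₀ ⊗_{C'} J comes in
this way from some such σ. Thus the automorphisms of the extension M' inducing the identity on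
M'/JM' correspond to Hom(M₀, M₀ ⊗ J). -/
theorem result (C' : Type u) [CommRing C'] [IsLocalRing C']
    [IsArtinianRing C'] (J : Ideal C') (hJ : IsLocalRing.maximalIdeal C' * J = ⊥) (hJne : J ≠ ⊤)
    (A' : Type u) [CommRing A'] [Algebra C' A'] (M' : Type u) [AddCommGroup M'] [Module A' M'] [Module C' M']
    [IsScalarTower C' A' M'] [Module.Flat C' M'] :
    (∀ σ : M' →ₗ[A'] M', (∀ x : M', σ x - x ∈ (J.map (algebraMap C' A')) • (⊤ : Submodule A' M')) →
      Function.Bijective σ ∧
        ∃! τ : (M' ⧸ ((IsLocalRing.maximalIdeal C').map (algebraMap C' A')) • (⊤ : Submodule A' M')) →ₗ[A'] ((M' ⧸ ((IsLocalRing.maximalIdeal C').map (algebraMap C' A')) • (⊤ : Submodule A' M')) ⊗[C'] ↥J),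
          (∀ (x : M') (z : M' ⊗[C'] ↥J), TensorProduct.rid C' M' (LinearMap.lTensor M' (Submodule.subtype J) z) = σ x - x →
            LinearMap.rTensor ↥J ((Submodule.mkQ (((IsLocalRing.maximalIdeal C').map (algebraMap C' A')) • (⊤ : Submodule A' M'))).restrictScalars C') z =
              τ (Submodule.mkQ _ x))) ∧
    (∀ τ : (M' ⧸ ((IsLocalRing.maximalIdeal C').map (algebraMap C' A')) • (⊤ : Submodule A' M')) →ₗ[A'] ((M' ⧸ ((IsLocalRing.maximalIdeal C').map (algebraMap C' A')) • (⊤ : Submodule A' M')) ⊗[C'] ↥J),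
      ∃ σ : M' →ₗ[A'] M', (∀ x : M', σ x - x ∈ (J.map (algebraMap C' A')) • (⊤ : Submodule A' M')) ∧
          (∀ (x : M') (z : M' ⊗[C'] ↥J), TensorProduct.rid C' M' (LinearMap.lTensor M' (Submodule.subtype J) z) = σ x - x →
            LinearMap.rTensor ↥J ((Submodule.mkQ (((IsLocalRing.maximalIdeal C').map (algebraMap C' A')) • (⊤ : Submodule A' M'))).restrictScalars C') z =
              τ (Submodule.mkQ _ x))) := by
  classical
  set N : Submodule A' M' :=
    ((IsLocalRing.maximalIdeal C').map (algebraMap C' A')) • (⊤ : Submodule A' M') with hN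
  have hJle : J ≤ IsLocalRing.maximalIdeal C' := IsLocalRing.le_maximalIdeal hJne
  have hNJ : ∀ n ∈ N, ∀ j : J, (n ⊗ₜ[C'] j : M' ⊗[C'] J) = 0 := by
    intro n hn j
    have hn' : n ∈ IsLocalRing.maximalIdeal C' • (⊤ : Submodule C' M') :=
      (mem_map_smul_top_iff _ n).mp hn
    refine Submodule.smul_induction_on hn' (fun a ha x _ => ?_) (fun x y hx hy => ?_)
    · have h3 : a * (j : C') ∈ IsLocalRing.maximalIdeal C' * J := Ideal.mul_mem_mul ha j.2
      rw [hJ] at h3
      have h4 : a • j = 0 := by
        apply Subtype.ext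
        rw [Submodule.coe_smul, Submodule.coe_zero, smul_eq_mul]
        exact Ideal.mem_bot.mp h3
      rw [TensorProduct.smul_tmul, h4, TensorProduct.tmul_zero]
    · rw [TensorProduct.add_tmul, hx, hy, add_zero]
  have hπinj : Function.Injective (pi' J N) := pi'_injective J N hNJ
  have hπsurj : Function.Surjective (pi' J N) := pi'_surjective J N
  have hμinj : Function.Injective (mu (M := M') J) := mu_injective J
  have hJN : ∀ y, y ∈ (J.map (algebraMap C' A')) • (⊤ : Submodule A' M') → y ∈ N := by
    intro y hy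
    exact Submodule.smul_mono (Ideal.map_mono hJle) le_rfl hy
  have hZ : ∀ a ∈ IsLocalRing.maximalIdeal C', ∀ y ∈ J • (⊤ : Submodule C' M'), a • y = 0 := by
    intro a ha y hy
    refine Submodule.smul_induction_on hy (fun j hj x _ => ?_) (fun x y hx hy => ?_)
    · rw [← mul_smul]
      have h3 : a * j ∈ IsLocalRing.maximalIdeal C' * J := Ideal.mul_mem_mul ha hj
      rw [hJ] at h3
      rw [Ideal.mem_bot.mp h3, zero_smul]
    · rw [smul_add, hx, hy, add_zero]
  have hkill : ∀ δ : M' →ₗ[A'] M',
      (∀ x, δ x ∈ (J.map (algebraMap C' A')) • (⊤ : Submodule A' M')) → ∀ n ∈ N, δ n = 0 := by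
    intro δ hδ n hn
    have hn' : n ∈ IsLocalRing.maximalIdeal C' • (⊤ : Submodule C' M') :=
      (mem_map_smul_top_iff _ n).mp hn
    refine Submodule.smul_induction_on hn' (fun a ha x _ => ?_) (fun x y hx hy => ?_)
    · have e1 : δ (a • x) = a • δ x := by
        rw [← IsScalarTower.algebraMap_smul A' a x, map_smul, IsScalarTower.algebraMap_smul]
      rw [e1]
      exact hZ a ha _ ((mem_map_smul_top_iff J _).mp (hδ x))
    · rw [map_add, hx, hy, add_zero]
  constructor
  · intro σ hσ
    have hδ : ∀ x, (σ - LinearMap.id : M' →ₗ[A'] M') x ∈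
        (J.map (algebraMap C' A')) • (⊤ : Submodule A' M') := fun x => hσ x
    have hkillσ : ∀ n ∈ N, σ n = n := by
      intro n hn
      have h1 := hkill (σ - LinearMap.id) hδ n hn
      rwa [LinearMap.sub_apply, LinearMap.id_apply, sub_eq_zero] at h1
    have hδN : ∀ x, σ x - x ∈ N := fun x => hJN _ (hσ x)
    constructor
    · constructor
      · rw [injective_iff_map_eq_zero]
        intro x hx
        have h1 : x ∈ N := by
          have h2 := hδN x
          rw [hx, zero_sub] at h2
          exact (Submodule.neg_mem_iff _).mp h2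
        have h3 := hkillσ x h1
        rw [hx] at h3
        exact h3.symm
      · intro y
        refine ⟨y - (σ y - y), ?_⟩
        rw [map_sub, hkillσ _ (hδN y)]
        abel
    · have hex : ∀ x, ∃ z, mu J z = σ x - x :=
        fun x => exists_mu_eq J ((mem_map_smul_top_iff J _).mp (hσ x))
      choose ζ hζ using hex
      have ζadd : ∀ x y, ζ (x + y) = ζ x + ζ y := by
        intro x y
        apply hμinj
        rw [map_add, hζ, hζ, hζ, map_add]
        abel
      have ζsmul : ∀ (a : A') x, ζ (a • x) = a • ζ x := by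
        intro a x
        apply hμinj
        rw [mu_smul, hζ, hζ, map_smul, smul_sub]
      let τ₀ : M' →ₗ[A'] (M' ⧸ N) ⊗[C'] J :=
        { toFun := fun x => pi' J N (ζ x)
          map_add' := fun x y => by rw [ζadd, map_add]
          map_smul' := fun a x => by
            show pi' J N (ζ (a • x)) = a • pi' J N (ζ x)
            rw [ζsmul, pi'_smul] }
      have hτ₀ : ∀ x, τ₀ x = pi' J N (ζ x) := fun x => rfl
      have hτ₀N : N ≤ LinearMap.ker τ₀ := by
        intro n hn
        rw [LinearMap.mem_ker, hτ₀]
        have h1 : ζ n = 0 := hμinj (by rw [hζ, hkillσ n hn, sub_self, map_zero])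
        rw [h1, map_zero]
      refine ⟨N.liftQ τ₀ hτ₀N, ?_, ?_⟩
      · intro x z hz
        have hz' : z = ζ x := hμinj (by rw [hζ]; exact hz)
        show pi' J N z = N.liftQ τ₀ hτ₀N (Submodule.Quotient.mk x)
        rw [Submodule.liftQ_apply, hz', hτ₀]
      · intro τ' hτ'
        apply LinearMap.ext
        intro q
        obtain ⟨x, rfl⟩ := Submodule.mkQ_surjective N q
        show τ' (N.mkQ x) = N.liftQ τ₀ hτ₀N (Submodule.Quotient.mk x)
        rw [Submodule.liftQ_apply, hτ₀]
        exact (hτ' x (ζ x) (hζ x)).symm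
  · intro τ
    let e := LinearEquiv.ofBijective (pi' J N) ⟨hπinj, hπsurj⟩
    have he : ∀ z, e z = pi' J N z := fun z => rfl
    have hesmul : ∀ (a : A') w, e.symm (a • w) = a • e.symm w := by
      intro a w
      apply e.injective
      rw [LinearEquiv.apply_symm_apply, he, pi'_smul, ← he, LinearEquiv.apply_symm_apply]
    let δ : M' →ₗ[A'] M' :=
      { toFun := fun x => mu J (e.symm (τ (N.mkQ x)))
        map_add' := fun x y => by simp only [map_add]
        map_smul' := fun a x => by
          show mu J (e.symm (τ (N.mkQ (a • x)))) = a • mu J (e.symm (τ (N.mkQ x)))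
          rw [map_smul, map_smul, hesmul, mu_smul] }
    have hδ : ∀ x, δ x = mu J (e.symm (τ (N.mkQ x))) := fun x => rfl
    refine ⟨LinearMap.id + δ, ?_, ?_⟩
    · intro x
      rw [LinearMap.add_apply, LinearMap.id_apply, add_sub_cancel_left, hδ]
      exact (mem_map_smul_top_iff J _).mpr (mu_mem J _)
    · intro x z hz
      rw [LinearMap.add_apply, LinearMap.id_apply, add_sub_cancel_left, hδ] at hz
      have hz' : z = e.symm (τ (N.mkQ x)) := hμinj hz
      rw [hz']
      exact e.apply_symm_apply _

end Groth.Agent.S11469
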