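import Groth.Statements.S1147
import Groth.Agent.S9432
import Mathlib.RingTheory.QuasiFinite.Basic
import Mathlib.RingTheory.Ideal.GoingDown
import Mathlib.RingTheory.Jacobson.Ring
import Mathlib.RingTheory.Flat.FaithfullyFlat.Algebra

set_option autoImplicit false
universe u
open Desc

namespace Groth.Agent.S1147

/-- Jacobson descends along a faithfully flat quasi-finite ring map. -/
theorem key (A B : Type u) [CommRing A] [CommRing B] [Algebra A B]
    [Module.FaithfullyFlat A B] [Algebra.QuasiFinite A B] [IsJacobsonRing B] :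
    IsJacobsonRing A := by
  rw [isJacobsonRing_iff_prime_eq]
  intro P hP
  refine le_antisymm ?_ Ideal.le_jacobson
  intro f hf
  by_contra hfP
  have hfmax : ∀ m : Ideal A, P ≤ m → m.IsMaximal → f ∈ m := by
    intro m hPm hm
    rw [Ideal.jacobson, Ideal.mem_sInf] at hf
    exact hf ⟨hPm, hm⟩
  have hdisj : Disjoint (P : Set A) (Submonoid.powers f : Set A) := by
    rw [Set.disjoint_left]
    rintro x hxP ⟨n, rfl⟩
    exact hfP (hP.mem_of_pow_mem n hxP)
  have ⟨p, hPp, hp⟩ := zorn_le_nonempty₀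
    {p : Ideal A | Disjoint (p : Set A) (Submonoid.powers f : Set A)}
    (fun c hc hc' x hx ↦ by
      cases isEmpty_or_nonempty c
      · exact ⟨P, hdisj, fun J hJ ↦ isEmptyElim (⟨J, hJ⟩ : c)⟩
      refine ⟨sSup c, Set.disjoint_left.mpr fun x hx ↦ ?_, fun _ ↦ le_sSup⟩
      have ⟨p, hp⟩ := (Submodule.mem_iSup_of_directed _ hc'.directed).mp (sSup_eq_iSup' c ▸ hx)
      exact Set.disjoint_left.mp (hc p.2) hp) P hdisj
  have hpprime : p.IsPrime :=
    Ideal.isPrime_of_maximally_disjoint _ _ hp.1 (fun _ ↦ hp.not_prop_of_gt)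
  have hfp : f ∉ p := fun h => Set.disjoint_left.mp hp.1 h (Submonoid.mem_powers f)
  have hpmax : ∀ q : Ideal A, q.IsPrime → p ≤ q → f ∉ q → q = p := by
    intro q hq hpq hfq
    by_contra hne
    have hlt : p < q := lt_of_le_of_ne hpq (Ne.symm hne)
    apply hp.not_prop_of_gt hlt
    rw [Set.mem_setOf_eq, Set.disjoint_left]
    rintro x hxq ⟨n, rfl⟩
    exact hfq (hq.mem_of_pow_mem n hxq)
  have hpnm : ¬ p.IsMaximal := fun h => hfp (hfmax p hPp h)
  obtain ⟨m', hm', hpm'⟩ := Ideal.exists_le_maximal p hpprime.ne_top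
  have hne : p ≠ m' := fun h => hpnm (h ▸ hm')
  haveI := hm'.isPrime
  obtain ⟨n', hn'prime, hn'over⟩ :=
    Ideal.exists_isPrime_liesOver_of_faithfullyFlat (B := B) m'
  obtain ⟨n₀, hn₀le, hn₀prime, hn₀over⟩ :=
    Ideal.exists_ideal_le_liesOver_of_le (p := p) (q := m') n' hpm'
  have hJ : n₀.jacobson = n₀ :=
    (isJacobsonRing_iff_prime_eq.mp inferInstance) n₀ hn₀prime
  have hfn₀ : algebraMap A B f ∉ n₀ := by
    intro h
    apply hfp
    rw [hn₀over.over]
    exact h
  have hex : ∃ n₁ : Ideal B, n₀ ≤ n₁ ∧ n₁.IsMaximal ∧ algebraMap A B f ∉ n₁ := by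
    by_contra hcon
    push Not at hcon
    apply hfn₀
    rw [← hJ, Ideal.jacobson, Ideal.mem_sInf]
    rintro n₁ ⟨h1, h2⟩
    exact hcon n₁ h1 h2
  obtain ⟨n₁, hn₀n₁, hn₁max, hfn₁⟩ := hex
  haveI := hn₁max.isPrime
  have hq : n₁.under A = p := by
    apply hpmax
    · infer_instance
    · rw [hn₀over.over]; exact Ideal.comap_mono hn₀n₁
    · exact hfn₁
  have heq : n₀ = n₁ :=
    Algebra.QuasiFinite.eq_of_le_of_under_eq (R := A) n₀ n₁ hn₀n₁ (by rw [hq, ← hn₀over.over])
  have hn₀max : n₀.IsMaximal := heq ▸ hn₁max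
  have h3 : n₀ = n' := hn₀max.eq_of_le hn'prime.ne_top hn₀le
  apply hne
  rw [hn₀over.over, hn'over.over, h3]

/-- Let A → B be a faithfully flat ring map of finite presentation. If B is a Jacobson ring then so is
A. (This is the affine descent direction of the statement that the Jacobson property is fppf local.) -/
theorem result (A B : Type u) [CommRing A] [CommRing B] [Algebra A B]
    [Module.FaithfullyFlat A B] [Algebra.FinitePresentation A B] [IsJacobsonRing B] : IsJacobsonRing A := by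
  obtain ⟨S', _, _, hqf, hft, hff, hfp, ⟨φ⟩⟩ := Groth.Agent.S9432.result A B
  letI : Algebra B S' := φ.toRingHom.toAlgebra
  haveI : IsScalarTower A B S' := IsScalarTower.of_algebraMap_eq (fun x => (φ.commutes x).symm)
  haveI : Algebra.FiniteType B S' := Algebra.FiniteType.of_restrictScalars_finiteType A B S'
  haveI : IsJacobsonRing S' := isJacobsonRing_of_finiteType (A := B) (B := S')
  exact key A S'

end Groth.Agent.S1147
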