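import Groth.Statements.S1148
import Mathlib.RingTheory.LocalRing.ResidueField.Fiber
import Mathlib.RingTheory.Ideal.GoingDown
import Mathlib.RingTheory.Ideal.MinimalPrime.Noetherian
import Mathlib.RingTheory.Spectrum.Prime.Topology
import Mathlib.RingTheory.FiniteStability

set_option autoImplicit false
universe u
open Desc

namespace Groth.Agent.S1148

lemma finite_irreducibleComponents_iff (R : Type u) [CommRing R] :
    (irreducibleComponents (PrimeSpectrum R)).Finite ↔ (minimalPrimes R).Finite := by
  rw [← Set.finite_coe_iff, ← Set.finite_coe_iff]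
  exact (Equiv.finite_iff ((minimalPrimes.equivIrreducibleComponents R).toEquiv.trans
    OrderDual.ofDual)).symm

/-- Under going-down, minimal primes contract to minimal primes. -/
lemma under_mem_minimalPrimes (A B : Type u) [CommRing A] [CommRing B] [Algebra A B]
    [Algebra.HasGoingDown A B] (Q : Ideal B) (hQ : Q ∈ minimalPrimes B) :
    Q.under A ∈ minimalPrimes A := by
  have hQp : Q.IsPrime := hQ.1.1
  refine ⟨⟨inferInstance, bot_le⟩, ?_⟩
  rintro p' ⟨hp', -⟩ hle
  by_contra hnle
  have hlt : p' < Q.under A := lt_of_le_of_ne hle (fun h => hnle (h ▸ le_rfl))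
  obtain ⟨P, hPQ, hP, hPo⟩ := Algebra.HasGoingDown.exists_ideal_le_liesOver_of_lt (p := p') Q hlt
  have hQP : Q ≤ P := hQ.2 ⟨hP, bot_le⟩ hPQ
  have hPeq : P = Q := le_antisymm hPQ hQP
  apply hnle
  rw [hPo.over, hPeq]

/-- The minimal primes of `B` over a given prime `p` of `A` are finitely many when the fibre
ring is noetherian. -/
lemma finite_minimalPrimes_over (A B : Type u) [CommRing A] [CommRing B] [Algebra A B]
    [Algebra.FiniteType A B] (p : Ideal A) [p.IsPrime] :
    {Q : Ideal B | Q ∈ minimalPrimes B ∧ Q.under A = p}.Finite := by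
  have hft : Algebra.FiniteType p.ResidueField (p.Fiber B) := inferInstance
  have hnoeth : IsNoetherianRing (p.Fiber B) := Algebra.FiniteType.isNoetherianRing p.ResidueField _
  have hfin : (minimalPrimes (p.Fiber B)).Finite := minimalPrimes.finite_of_isNoetherianRing _
  have hfin' : {q : PrimeSpectrum (p.Fiber B) | q.asIdeal ∈ minimalPrimes (p.Fiber B)}.Finite :=
    hfin.preimage (fun q _ q' _ h => PrimeSpectrum.ext h)
  refine (hfin'.image (fun q : PrimeSpectrum (p.Fiber B) =>
    q.asIdeal.comap (Algebra.TensorProduct.includeRight (R := A) (A := p.ResidueField) (B := B)))).subset ?_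
  rintro Q ⟨hQ, hQp⟩
  have hQprime : Q.IsPrime := hQ.1.1
  have hQover : Q.LiesOver p := ⟨hQp.symm⟩
  let Q' : p.primesOver B := ⟨Q, hQprime, hQover⟩
  let e := PrimeSpectrum.primesOverOrderIsoFiber A B p
  refine ⟨e Q', ?_, ?_⟩
  · refine ⟨⟨(e Q').isPrime, bot_le⟩, ?_⟩
    rintro q' ⟨hq', -⟩ hle
    let q'' : PrimeSpectrum (p.Fiber B) := ⟨q', hq'⟩
    have h1 : q'' ≤ e Q' := hle
    have h2 : e.symm q'' ≤ Q' := by
      rw [← e.symm_apply_apply Q']
      exact e.symm.monotone h1
    have h3 : Q ≤ (e.symm q'').1 := hQ.2 ⟨(e.symm q'').2.1, bot_le⟩ h2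
    have h4 : Q' ≤ e.symm q'' := h3
    have h5 : e Q' ≤ q'' := by
      rw [← e.apply_symm_apply q'']
      exact e.monotone h4
    exact h5
  · have : (e.symm (e Q')).1 = Q := by rw [e.symm_apply_apply]
    rw [← this]
    rfl

/-- Affine form (finiteness of irreducible components of quasi-compact opens is fppf local; this is the
ascent direction for a morphism of affine schemes). Let A → B be a flat ring map of finite
presentation. If Spec A has finitely many irreducible components, then so does Spec B. -/
theorem result (A B : Type u) [CommRing A] [CommRing B] [Algebra A B]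
    [Module.Flat A B] [Algebra.FinitePresentation A B] (h : (irreducibleComponents (PrimeSpectrum A)).Finite) :
    (irreducibleComponents (PrimeSpectrum B)).Finite := by
  rw [finite_irreducibleComponents_iff] at h ⊢
  have hsub : minimalPrimes B ⊆
      ⋃ p ∈ {p : Ideal A | p ∈ minimalPrimes A},
        {Q : Ideal B | Q ∈ minimalPrimes B ∧ Q.under A = p} := by
    intro Q hQ
    simp only [Set.mem_ofPred_eq, Set.mem_iUnion, exists_prop]
    exact ⟨Q.under A, under_mem_minimalPrimes A B Q hQ, hQ, rfl⟩
  refine (Set.Finite.biUnion h ?_).subset hsub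
  intro p hp
  have : p.IsPrime := hp.1.1
  exact finite_minimalPrimes_over A B p

end Groth.Agent.S1148
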