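import Groth.Statements.S11489
import Mathlib
import Groth.Agent.H88.GGTriv
import Groth.Agent.H88.PicPn
import Groth.Agent.H22.P1FrameBasis

set_option autoImplicit false
universe u
open VBPn

namespace Groth.Agent.S11489

open CategoryTheory CategoryTheory.Limits AlgebraicGeometry in
/-- Let k be a characteristic-zero algebraically closed field and E a finite locally free O-module of
rank r on P^n_k. If E is globally generated (there is an epimorphism O^N → E for some N) and its
first Chern class vanishes, in the sense that an r-th exterior power det E of E is isomorphic to O,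
then E ≅ O^r. -/
theorem result (k : Type u) [Field k] [IsAlgClosed k] [CharZero k]
    (n r : ℕ) (E : (CohB1.ProjSpace n k).Modules) (hE : FlatMod.IsFinLocFreeOfRank r E)
    (hgen : ∃ (N : ℕ) (φ : FlatMod.freeMod (CohB1.ProjSpace n k) N ⟶ E), Epi φ)
    (hdet : ∃ L : (CohB1.ProjSpace n k).Modules, ExtPow.IsExtPow r E L ∧
      Nonempty (L ≅ Coh.structureModule (CohB1.ProjSpace n k))) :
    Nonempty (E ≅ FlatMod.freeMod (CohB1.ProjSpace n k) r) := by
  revert E
  change ∀ (E : (Proj (CohB1.polyGrading n k)).Modules), FlatMod.IsFinLocFreeOfRank r E →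
    (∃ (N : ℕ) (φ : FlatMod.freeMod (Proj (CohB1.polyGrading n k)) N ⟶ E), Epi φ) →
    (∃ L : (Proj (CohB1.polyGrading n k)).Modules, ExtPow.IsExtPow r E L ∧
      Nonempty (L ≅ Coh.structureModule (Proj (CohB1.polyGrading n k)))) →
    Nonempty (E ≅ FlatMod.freeMod (Proj (CohB1.polyGrading n k)) r)
  intro E hE hgen hdet
  obtain ⟨N, φ, hφ⟩ := hgen
  obtain ⟨L, ⟨ψ, hψ⟩, ⟨ι⟩⟩ := hdet
  haveI : IsIntegral (Proj (CohB1.polyGrading n k)) := Groth.Agent.H88.PicPn.isIntegral_proj n k
  haveI : Nonempty (Proj (CohB1.polyGrading n k)) := inferInstance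
  have hfr : ∀ x : Proj (CohB1.polyGrading n k), ∃ (U : (Proj (CohB1.polyGrading n k)).Opens)
      (σ : Fin r → Γ(E, U)), x ∈ U ∧ Groth.Agent.H88.Frame.IsFrame E U σ := by
    intro x
    obtain ⟨U, hxU, ⟨e⟩⟩ := hE x
    obtain ⟨σ, hσ⟩ := Groth.Agent.H22.P1FrameBasis.exists_frame E U e
    exact ⟨U, σ, hxU, hσ⟩
  exact Groth.Agent.H88.GGTriv.nonempty_iso_freeMod
    (Groth.Agent.H88.GGTriv.eq_zero_or_isUnit n k) hfr φ ψ hψ ι

end Groth.Agent.S11489
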