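import Groth.Statements.S1149
import Groth.Agent.H79.IntHomMain
import Groth.Agent.H22.IntHom_BIJ

set_option autoImplicit false
universe u
open Pi1

namespace Groth.Agent.S1149

open AlgebraicGeometry CategoryTheory CategoryTheory.Limits in
/-- Let U and V be finite etale over a scheme X. Then some W finite etale over X has the following
property: for every morphism g : T ⟶ X the X-morphisms T ⟶ W are in bijection with the T-morphisms
U_T ⟶ V_T between the base changes. (The source's identification is moreover compatible with base
change; only the bijections are asserted here.) -/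
theorem result {X : Scheme.{u}} (U V : FEt.Cat X) :
    ∃ W : FEt.Cat X, ∀ (T : Scheme.{u}) (g : T ⟶ X),
      Nonempty ({s : T ⟶ W.left // s ≫ W.hom = g} ≃ ((FEt.restrict g).obj U ⟶ (FEt.restrict g).obj V)) := by
  have hU : FEt.prop U.hom := U.prop
  have hV : FEt.prop V.hom := V.prop
  have : IsFinite U.hom := hU.1
  have : Etale U.hom := hU.2
  have : IsFinite V.hom := hV.1
  have : Etale V.hom := hV.2
  have hg : Mor2.IsFinLocFree U.hom := ⟨inferInstance, inferInstance, inferInstance⟩
  obtain ⟨W₀, hWa, hWfp, ⟨R⟩⟩ :=
    Groth.Agent.H73.WeilLoc.exists_representable_affine_fp (g := U.hom) (f := V.hom) hg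
  have := hWa
  have := hWfp
  have hW := Groth.Agent.H79.IntHom.isFinite_and_etale R
  refine ⟨MorphismProperty.Over.mk ⊤ W₀.hom hW, fun T g => ?_⟩
  exact Groth.Agent.H22.IntHomBIJ.nonempty_equiv_of_representableBy U V W₀ R T g

end Groth.Agent.S1149
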