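import Groth.Statements.S11495
import Groth.Agent.H72.PdExt

set_option autoImplicit false
universe u
open CategoryTheory
open VBPn

namespace Groth.Agent.S11495

open Groth.Agent.H72.PdLocal Groth.Agent.H72.PdExt

/-- Let A be a regular local ring and M a finitely generated A-module. For every q ≥ 0, the projective
(homological) dimension of M is at most q if and only if Ext^i_A(M, A) = 0 for all i > q. The
published statement is for stalks of coherent analytic sheaves on a complex manifold; this row is
stated for any regular local ring. -/
theorem result (A : Type u) [CommRing A] [IsRegularLocalRing A]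
    (M : Type u) [AddCommGroup M] [Module A M] [Module.Finite A M] (q : ℕ) :
    HasProjectiveDimensionLT (ModuleCat.of A M) (q + 1) ↔
      ∀ i : ℕ, q < i → Subsingleton (Abelian.Ext (ModuleCat.of A M) (ModuleCat.of A A) i) := by
  constructor
  · intro h i hi
    exact subsingleton_of_forall_eq_zero fun e =>
      Abelian.Ext.eq_zero_of_hasProjectiveDimensionLT e (q + 1) hi
  · intro h
    exact pdLT_of_forall_ext_ring M q _ (pdLT_of_isRegularLocalRing A M) h

end Groth.Agent.S11495
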