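import Groth.Statements.S11496
import Mathlib
import Groth.Agent.H60.InjLoc
import Groth.Agent.S0342
import Groth.Agent.H72.RegLoc

set_option autoImplicit false
universe u
open CategoryTheory
open VBPn

namespace Groth.Agent.S11496

/-- Let A be a regular local ring, M a finitely generated A-module and i ≥ 0. The support of Ext^i_A(M,
A) has dimension at most dim A − i: for every prime ideal p of A such that Ext^i over the
localization A_p of M_p into A_p is nonzero (this Ext group is the localization at p of Ext^i_A(M,
A)), one has dim(A/p) + i ≤ dim A. The published statement is for coherent analytic sheaves on an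
n-dimensional complex manifold; this row is stated for any regular local ring. -/
theorem result (A : Type u) [CommRing A] [IsRegularLocalRing A]
    (M : Type u) [AddCommGroup M] [Module A M] [Module.Finite A M] (i : ℕ) (p : Ideal A) [p.IsPrime]
    (h : Nontrivial (Abelian.Ext
      (ModuleCat.of (Localization.AtPrime p) (LocalizedModule p.primeCompl M))
      (ModuleCat.of (Localization.AtPrime p) (Localization.AtPrime p)) i)) :
    ringKrullDim (A ⧸ p) + (i : WithBot ℕ∞) ≤ ringKrullDim A := by
  haveI hG := Groth.Agent.S0342.result A
  obtain ⟨n, hn⟩ := hG.exists_hasInjectiveDimensionLT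
  have hn1 : HasInjectiveDimensionLT (ModuleCat.of A A) (n + 1) :=
    hasInjectiveDimensionLT_of_ge _ n (n + 1) (by omega)
  have hloc : HasInjectiveDimensionLT
      (ModuleCat.of (Localization.AtPrime p) (Localization.AtPrime p)) (n + 1) := by
    haveI := Groth.Agent.H60.InjLoc.loc_injdim p.primeCompl n (ModuleCat.of A A) hn1
    exact hasInjectiveDimensionLT_of_iso (Groth.Agent.H60.InjLoc.isoSelf p.primeCompl) (n + 1)
  obtain ⟨r', hr', hinj, -⟩ :=
    Groth.Agent.H60.InjLoc.gor_data (Localization.AtPrime p) ⟨n + 1, hloc⟩
  obtain ⟨r, q, -, hht, hq, hd⟩ := Groth.Agent.H72.RegLoc.exists_depth_atPrime A p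
  have hrr : r' = r := by
    have h1 := IsLocalization.AtPrime.ringKrullDim_eq_height p (Localization.AtPrime p)
    rw [hr', hht] at h1
    exact_mod_cast h1
  have hi : i ≤ r := by
    by_contra hlt
    obtain ⟨x, y, hxy⟩ := h.exists_pair_ne
    apply hxy
    rw [x.eq_zero_of_hasInjectiveDimensionLT (r' + 1) (by omega),
      y.eq_zero_of_hasInjectiveDimensionLT (r' + 1) (by omega)]
  rw [hq, hd]
  exact_mod_cast Nat.add_le_add_left hi q

end Groth.Agent.S11496
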