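import Groth.Statements.S11497
import Mathlib

set_option autoImplicit false
universe w v u
open CategoryTheory
open VBPn

namespace Groth.Agent.S11497

/-- In an abelian category, let M : A → B → C and M' : A' → B' → C' be monads, i.e. short complexes
whose first map is a monomorphism and whose second map is an epimorphism, with cohomology (homology)
objects E and E'. Suppose Hom(B, A') = 0, Hom(C, B') = 0 and Ext^1(C, A') = Ext^1(B, A') = Ext^1(C,
B') = Ext^2(C, A') = 0. Then the map sending a morphism of monads M → M' to the induced morphism E →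
E' is bijective. The published statement is for monads of vector bundles on a complex manifold X,
with Ext^i(C, A') written H^i(X, C^* ⊗ A'); this row is stated in any abelian category. -/
theorem result {C : Type u} [Category.{v} C] [Abelian C] [HasExt.{w} C]
    (M M' : ShortComplex C) [Mono M.f] [Epi M.g] [Mono M'.f] [Epi M'.g]
    (hBA : ∀ f : M.X₂ ⟶ M'.X₁, f = 0) (hCB : ∀ f : M.X₃ ⟶ M'.X₂, f = 0)
    (hCA₁ : Subsingleton (Abelian.Ext M.X₃ M'.X₁ 1)) (hBA₁ : Subsingleton (Abelian.Ext M.X₂ M'.X₁ 1))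
    (hCB₁ : Subsingleton (Abelian.Ext M.X₃ M'.X₂ 1)) (hCA₂ : Subsingleton (Abelian.Ext M.X₃ M'.X₁ 2)) :
    Function.Bijective (fun φ : M ⟶ M' => ShortComplex.homologyMap φ) := by
  have hS1 : (ShortComplex.mk M.iCycles M.g M.iCycles_g).ShortExact :=
    { exact := ShortComplex.exact_of_f_is_kernel _ M.cyclesIsKernel }
  haveI : Mono M'.toCycles := mono_of_mono_fac M'.toCycles_i
  have hS2 : (ShortComplex.mk M'.toCycles M'.homologyπ M'.toCycles_comp_homologyπ).ShortExact :=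
    { exact := ShortComplex.exact_of_g_is_cokernel _ M'.homologyIsCokernel }
  haveI := hS1.mono_f
  haveI := hS1.epi_g
  haveI := hS2.mono_f
  haveI := hS2.epi_g
  have ext_of : ∀ (Y : C), Subsingleton (Abelian.Ext M.X₃ Y 1) → ∀ u : M.cycles ⟶ Y,
      ∃ u' : M.X₂ ⟶ Y, M.iCycles ≫ u' = u := by
    intro Y hY u
    obtain ⟨x₂, hx₂⟩ := Abelian.Ext.contravariant_sequence_exact₁ hS1 Y (Abelian.Ext.mk₀ u)
      (add_zero 1) (hY.elim _ _)
    obtain ⟨u', rfl⟩ := (Abelian.Ext.mk₀_bijective _ _).2 x₂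
    refine ⟨u', ?_⟩
    apply (Abelian.Ext.mk₀_bijective _ _).1
    rw [← Abelian.Ext.mk₀_comp_mk₀]
    exact hx₂
  have inj0 : ∀ φ : M ⟶ M', ShortComplex.homologyMap φ = 0 → φ = 0 := by
    intro φ hφ
    have h1 : ShortComplex.cyclesMap φ ≫ M'.homologyπ = 0 := by
      rw [← ShortComplex.homologyπ_naturality, hφ, Limits.comp_zero]
    obtain ⟨s, hs⟩ : ∃ s : M.cycles ⟶ M'.X₁, s ≫ M'.toCycles = ShortComplex.cyclesMap φ :=
      ⟨hS2.exact.lift _ h1, hS2.exact.lift_f _ h1⟩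
    obtain ⟨s', hs'⟩ := ext_of M'.X₁ hCA₁ s
    have hs0 : s = 0 := by rw [← hs', hBA s', Limits.comp_zero]
    have h2 : M.iCycles ≫ φ.τ₂ = 0 := by
      rw [← ShortComplex.cyclesMap_i, ← hs, hs0, Limits.zero_comp, Limits.zero_comp]
    obtain ⟨t, ht⟩ : ∃ t : M.X₃ ⟶ M'.X₂, M.g ≫ t = φ.τ₂ :=
      ⟨hS1.exact.desc _ h2, hS1.exact.g_desc _ h2⟩
    have h3 : φ.τ₂ = 0 := by rw [← ht, hCB t, Limits.comp_zero]
    have h4 : φ.τ₁ = 0 := by
      rw [← cancel_mono M'.f, Limits.zero_comp, φ.comm₁₂, h3, Limits.comp_zero]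
    have h5 : φ.τ₃ = 0 := by
      rw [← cancel_epi M.g, Limits.comp_zero, ← φ.comm₂₃, h3, Limits.zero_comp]
    exact ShortComplex.hom_ext _ _ (by simpa using h4) (by simpa using h3) (by simpa using h5)
  have surj : ∀ ψ : M.homology ⟶ M'.homology, ∃ φ : M ⟶ M', ShortComplex.homologyMap φ = ψ := by
    intro ψ
    have hKA : ∀ x : Abelian.Ext M.cycles M'.X₁ 1, x = 0 := by
      intro x
      obtain ⟨x₂, hx₂⟩ := Abelian.Ext.contravariant_sequence_exact₁ hS1 M'.X₁ x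
        (by norm_num : 1 + 1 = 2) (hCA₂.elim _ _)
      rw [← hx₂, hBA₁.elim x₂ 0, Abelian.Ext.comp_zero]
    obtain ⟨y, hy⟩ := Abelian.Ext.covariant_sequence_exact₃ M.cycles hS2
      (Abelian.Ext.mk₀ (M.homologyπ ≫ ψ)) (zero_add 1) (hKA _)
    obtain ⟨βK, rfl⟩ := (Abelian.Ext.mk₀_bijective _ _).2 y
    have hβK : βK ≫ M'.homologyπ = M.homologyπ ≫ ψ := by
      apply (Abelian.Ext.mk₀_bijective _ _).1
      rw [← Abelian.Ext.mk₀_comp_mk₀]
      exact hy
    obtain ⟨β, hβ⟩ := ext_of M'.X₂ hCB₁ (βK ≫ M'.iCycles)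
    have hα0 : (M.toCycles ≫ βK) ≫ M'.homologyπ = 0 := by
      rw [Category.assoc, hβK, M.toCycles_comp_homologyπ_assoc, Limits.zero_comp]
    obtain ⟨α, hα⟩ : ∃ α : M.X₁ ⟶ M'.X₁, α ≫ M'.toCycles = M.toCycles ≫ βK :=
      ⟨hS2.exact.lift _ hα0, hS2.exact.lift_f _ hα0⟩
    have hγ0 : M.iCycles ≫ (β ≫ M'.g) = 0 := by
      rw [← Category.assoc, hβ, Category.assoc, M'.iCycles_g, Limits.comp_zero]
    obtain ⟨γ, hγ⟩ : ∃ γ : M.X₃ ⟶ M'.X₃, M.g ≫ γ = β ≫ M'.g :=
      ⟨hS1.exact.desc _ hγ0, hS1.exact.g_desc _ hγ0⟩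
    have c12 : α ≫ M'.f = M.f ≫ β := by
      rw [← M'.toCycles_i, ← Category.assoc, hα, Category.assoc, ← hβ, ← Category.assoc,
        M.toCycles_i]
    refine ⟨ShortComplex.homMk (S₁ := M) (S₂ := M') α β γ c12 hγ.symm, ?_⟩
    have hc : ShortComplex.cyclesMap (ShortComplex.homMk (S₁ := M) (S₂ := M') α β γ c12 hγ.symm)
        = βK := by
      rw [← cancel_mono M'.iCycles, ShortComplex.cyclesMap_i]
      exact hβ
    rw [← cancel_epi M.homologyπ, ShortComplex.homologyπ_naturality, hc, hβK]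
  constructor
  · intro φ₁ φ₂ h
    have h' : ShortComplex.homologyMap (φ₁ - φ₂) = 0 := by
      rw [ShortComplex.homologyMap_sub]
      exact sub_eq_zero.2 h
    exact sub_eq_zero.1 (inj0 _ h')
  · exact surj

end Groth.Agent.S11497
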