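import Groth.Statements.S11499
import Mathlib.RingTheory.Localization.BaseChange
import Mathlib.LinearAlgebra.Dimension.Free
import Mathlib.LinearAlgebra.FreeModule.Finite.Basic
import Mathlib.RingTheory.Localization.Integer
import Mathlib.RingTheory.TensorProduct.Finite
import Mathlib.LinearAlgebra.Basis.VectorSpace

set_option autoImplicit false
universe u
open TensorProduct
open VBPn

namespace Groth.Agent.S11499

/-- Let A be an integral domain with fraction field K and M a finitely generated torsion-free A-module
of rank r (K ⊗_A M is r-dimensional over K). Then there is an injective A-linear map M → A^r. The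
published statement is for torsion-free coherent sheaves on a complex manifold, locally near a
point; this row is its statement for one stalk, over any domain. -/
theorem result (A : Type u) [CommRing A] [IsDomain A]
    (M : Type u) [AddCommGroup M] [Module A M] [Module.Finite A M] [NoZeroSMulDivisors A M] (r : ℕ)
    (hr : Module.finrank (FractionRing A) (FractionRing A ⊗[A] M) = r) :
    ∃ f : M →ₗ[A] (Fin r → A), Function.Injective f := by
  classical
  set K := FractionRing A with hK
  let g : M →ₗ[A] K ⊗[A] M := TensorProduct.mk A K M 1
  have hg : IsLocalizedModule (nonZeroDivisors A) g := inferInstance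
  have hginj : Function.Injective g := by
    rw [IsLocalizedModule.injective_iff_isRegular (nonZeroDivisors A)]
    intro c x y h
    have hc : (c : A) ≠ 0 := nonZeroDivisors.ne_zero c.2
    have h' : (c : A) • (x - y) = 0 := by
      rw [smul_sub, sub_eq_zero]
      exact h
    rcases smul_eq_zero.mp h' with h0 | h0
    · exact absurd h0 hc
    · exact sub_eq_zero.mp h0
  have hfin : Module.Finite K (K ⊗[A] M) := inferInstance
  let b := Module.finBasisOfFinrankEq K (K ⊗[A] M) hr
  let e : K ⊗[A] M ≃ₗ[K] (Fin r → K) := b.equivFun
  let h : M →ₗ[A] (Fin r → K) := (e.toLinearMap.restrictScalars A).comp g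
  have hh : Function.Injective h := by
    intro x y hxy
    apply hginj
    exact e.injective hxy
  obtain ⟨s, hs⟩ := (Module.Finite.fg_top : (⊤ : Submodule A M).FG)
  -- common denominator
  let S : Finset K := (s ×ˢ (Finset.univ : Finset (Fin r))).image (fun p => h p.1 p.2)
  obtain ⟨d, hd⟩ := IsLocalization.exist_integer_multiples_of_finset (nonZeroDivisors A) S
  let ι : (Fin r → A) →ₗ[A] (Fin r → K) := (Algebra.linearMap A K).compLeft (Fin r)
  have hι : Function.Injective ι := by
    intro x y hxy
    funext i
    have := congrFun hxy i
    exact IsFractionRing.injective A K this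
  let h' : M →ₗ[A] (Fin r → K) := (d : A) • h
  have hmem : ∀ m : M, h' m ∈ LinearMap.range ι := by
    intro m
    have hm : m ∈ Submodule.span A (s : Set M) := by rw [hs]; trivial
    induction hm using Submodule.span_induction with
    | mem x hx =>
      have : ∀ i : Fin r, ∃ a : A, algebraMap A K a = (d : A) • h x i := by
        intro i
        have := hd (h x i) (Finset.mem_image.mpr ⟨(x, i), by simpa using hx, rfl⟩)
        obtain ⟨a, ha⟩ := this
        exact ⟨a, ha⟩
      choose a ha using this
      refine ⟨a, ?_⟩
      funext i
      simp only [ι, h', LinearMap.compLeft_apply, Function.comp_apply, Algebra.linearMap_apply,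
        LinearMap.smul_apply, Pi.smul_apply]
      exact ha i
    | zero => simp
    | add x y _ _ hx hy => rw [map_add]; exact Submodule.add_mem _ hx hy
    | smul a x _ hx => rw [map_smul]; exact Submodule.smul_mem _ a hx
  let f : M →ₗ[A] (Fin r → A) :=
    (LinearEquiv.ofInjective ι hι).symm.toLinearMap.comp (LinearMap.codRestrict (LinearMap.range ι) h' hmem)
  refine ⟨f, ?_⟩
  have hd0 : algebraMap A K (d : A) ≠ 0 := by
    have := nonZeroDivisors.ne_zero d.2
    intro h0
    exact this ((IsFractionRing.injective A K) (h0.trans (map_zero _).symm))
  intro x y hxy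
  have h1 : LinearMap.codRestrict (LinearMap.range ι) h' hmem x =
      LinearMap.codRestrict (LinearMap.range ι) h' hmem y :=
    (LinearEquiv.ofInjective ι hι).symm.injective hxy
  have h2 : h' x = h' y := congrArg Subtype.val h1
  apply hh
  funext i
  have h3 := congrFun h2 i
  simp only [h', LinearMap.smul_apply, Pi.smul_apply, Algebra.smul_def] at h3
  exact mul_left_cancel₀ hd0 h3

end Groth.Agent.S11499
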