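import Groth.Statements.S11503
import Mathlib
import Groth.Agent.H88.Frame
import Groth.Agent.H88.PicPn
import Groth.Agent.H22.P1FrameBasis
import Groth.Agent.H18.ProjUPUniq
import Groth.Agent.H82.HHAction

set_option autoImplicit false
universe u
open VBPn

namespace Groth.Agent.S11503

open CategoryTheory CategoryTheory.Limits AlgebraicGeometry Opposite TopologicalSpace
open Groth.Agent.H88.Frame Groth.Agent.H18.SecTw

/-- `s f = f • s 1`. -/
theorem app_fun {X : Scheme.{u}} {E : X.Modules} (s : Coh.structureModule X ⟶ E) (U : X.Opens)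
    (f : Γ(X, U)) :
    s.app U (show Γ(Coh.structureModule X, U) from f) = f • sv s U := by
  have h2 := Scheme.Modules.Hom.app_smul s f
    (show Γ(Coh.structureModule X, U) from (1 : Γ(X, U)))
  refine Eq.trans ?_ h2
  exact congrArg (s.app U) (mul_one f).symm

/-- expansion of `f • ∑ a_j σ_j` -/
theorem smul_sum_frame {X : Scheme.{u}} {E : X.Modules} {V : X.Opens} {r : ℕ}
    (σ : Fin r → Γ(E, V)) (f : Γ(X, V)) (a : Fin r → Γ(X, V)) :
    f • ∑ j, a j • σ j = ∑ j, (f * a j) • σ j := by
  rw [Finset.smul_sum]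
  exact Finset.sum_congr rfl (fun j _ => (mul_smul f (a j) (σ j)).symm)

/-- The general statement: on an integral scheme, with `E` locally framed of rank `≥ 2`,
`t ≫ s` is not multiplication by a constant which is zero or a unit. -/
theorem not_homothety {X : Scheme.{u}} [IsIntegral X] {r : ℕ} (hr : 1 < r) (E : X.Modules)
    (hfr : ∀ x : X, ∃ (U : X.Opens) (σ : Fin r → Γ(E, U)), x ∈ U ∧ IsFrame E U σ)
    (s : Coh.structureModule X ⟶ E) (hs : s ≠ 0) (t : E ⟶ Coh.structureModule X) (ht : t ≠ 0)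
    (c : Γ(X, ⊤)) (hc : c = 0 ∨ IsUnit c)
    (key : ∀ (U : X.Opens) (m : Γ(E, U)),
      s.app U (t.app U m) = X.presheaf.map (homOfLE (le_top : U ≤ ⊤)).op c • m) : False := by
  classical
  -- Step 1: `c = 0`.
  have hc0 : c = 0 := by
    rcases hc with hc | hc
    · exact hc
    · exfalso
      obtain ⟨x⟩ : Nonempty X := inferInstance
      obtain ⟨U, σ, hxU, hσ⟩ := hfr x
      haveI : Nonempty U := ⟨⟨x, hxU⟩⟩
      set cU : Γ(X, U) := X.presheaf.map (homOfLE (le_top : U ≤ ⊤)).op c with hcU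
      have hunit : IsUnit cU := hc.map (X.presheaf.map (homOfLE (le_top : U ≤ ⊤)).op).hom
      obtain ⟨a, ha⟩ := (hσ U le_rfl).2 (sv s U)
      have ha' : ∑ j, a j • E.presheaf.map (homOfLE (le_refl U)).op (σ j) = sv s U := ha
      obtain ⟨g, hg⟩ : ∃ g : Fin r → Γ(X, U), ∀ i, g i =
          (show Γ(X, U) from t.app U (E.presheaf.map (homOfLE (le_refl U)).op (σ i))) :=
        ⟨_, fun _ => rfl⟩
      have hrel : ∀ i j : Fin r, g i * a j = if j = i then cU else 0 := by
        intro i
        have h1 := key U (E.presheaf.map (homOfLE (le_refl U)).op (σ i))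
        have h1' : s.app U (show Γ(Coh.structureModule X, U) from g i) =
            cU • E.presheaf.map (homOfLE (le_refl U)).op (σ i) := by
          rw [hg i]
          exact h1
        rw [app_fun, ← ha', smul_sum_frame] at h1'
        have h2 : cU • E.presheaf.map (homOfLE (le_refl U)).op (σ i) =
            ∑ j, (if j = i then cU else 0) • E.presheaf.map (homOfLE (le_refl U)).op (σ j) := by
          rw [Finset.sum_eq_single i]
          · rw [if_pos rfl]
          · intro j _ hji
            rw [if_neg hji, zero_smul]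
          · intro h
            exact absurd (Finset.mem_univ i) h
        rw [h2] at h1'
        have h3 := (hσ U le_rfl).1 h1'
        intro j
        exact congrFun h3 j
      obtain ⟨i0, i1, h01⟩ : ∃ i0 i1 : Fin r, i0 ≠ i1 :=
        ⟨⟨0, by omega⟩, ⟨1, hr⟩, by simp [Fin.ext_iff]⟩
      have e1 := hrel i0 i0
      have e2 := hrel i1 i1
      have e3 := hrel i0 i1
      have e4 := hrel i1 i0
      rw [if_pos rfl] at e1 e2
      rw [if_neg (Ne.symm h01)] at e3
      rw [if_neg h01] at e4
      have h5 : cU * cU = 0 := by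
        calc cU * cU = (g i0 * a i0) * (g i1 * a i1) := by rw [e1, e2]
          _ = (g i0 * a i1) * (g i1 * a i0) := by ring
          _ = 0 := by rw [e3, zero_mul]
      have h6 : cU = 0 := by
        rcases mul_eq_zero.mp h5 with h | h <;> exact h
      exact hunit.ne_zero h6
  subst hc0
  have key0 : ∀ (U : X.Opens) (m : Γ(E, U)), s.app U (t.app U m) = 0 := by
    intro U m
    rw [key U m, map_zero, zero_smul]
  -- Step 2: a section on which `t` does not vanish.
  obtain ⟨U₀, m₀, hm₀⟩ : ∃ (U₀ : X.Opens) (m₀ : Γ(E, U₀)), t.app U₀ m₀ ≠ 0 := by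
    by_contra hcon
    push Not at hcon
    apply ht
    apply Scheme.Modules.hom_ext
    intro U
    ext m
    exact hcon U m
  set f : Γ(X, U₀) := t.app U₀ m₀ with hf
  have hf0 : f ≠ 0 := hm₀
  have hU₀ : Nonempty U₀ := by
    by_contra hemp
    rw [not_nonempty_iff] at hemp
    apply hf0
    have hb : X.basicOpen f = ⊥ := by
      ext y
      simp only [Opens.coe_bot, Set.mem_empty_iff_false, iff_false]
      intro hy
      exact hemp.false ⟨y, X.basicOpen_le f hy⟩
    exact (basicOpen_eq_bot_iff f).mp hb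
  have hfτ : f • sv s U₀ = 0 := by
    rw [← app_fun]
    exact key0 U₀ m₀
  -- Step 3: the section `s 1` vanishes.
  apply hs
  apply Groth.Agent.H18.ProjUPUniq.hom_ext_sv_top
  have hz : sv (0 : Coh.structureModule X ⟶ E) ⊤ = 0 := rfl
  rw [hz]
  refine Groth.Agent.H8.section_eq_of_cover E _ _ (fun x _ => ?_)
  obtain ⟨W, σ, hxW, hσ⟩ := hfr x
  refine ⟨W, le_top, hxW, ?_⟩
  rw [sv_res, map_zero]
  haveI : Nonempty W := ⟨⟨x, hxW⟩⟩
  obtain ⟨y, hyU, hyW⟩ : ∃ y : X, y ∈ U₀ ∧ y ∈ W := by
    obtain ⟨y, hy⟩ := nonempty_preirreducible_inter U₀.2 W.2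
      ⟨hU₀.some.1, hU₀.some.2⟩ ⟨x, hxW⟩
    exact ⟨y, hy.1, hy.2⟩
  obtain ⟨V, hV⟩ : ∃ V : X.Opens, V = U₀ ⊓ W := ⟨_, rfl⟩
  have hVU : V ≤ U₀ := hV ▸ inf_le_left
  have hVW : V ≤ W := hV ▸ inf_le_right
  haveI : Nonempty V := ⟨⟨y, hV ▸ ⟨hyU, hyW⟩⟩⟩
  obtain ⟨b, hb⟩ := (hσ W le_rfl).2 (sv s W)
  have hb' : ∑ j, b j • E.presheaf.map (homOfLE (le_refl W)).op (σ j) = sv s W := hb
  have hfV : X.presheaf.map (homOfLE hVU).op f ≠ 0 := by
    intro h
    apply hf0
    apply map_injective_of_isIntegral X (homOfLE hVU)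
    rw [h, map_zero]
  -- restrict to `V`
  have h1 : X.presheaf.map (homOfLE hVU).op f • sv s V = 0 := by
    have h2 := congrArg (E.presheaf.map (homOfLE hVU).op) hfτ
    rw [Groth.Agent.H8.res_smul, sv_res, map_zero] at h2
    exact h2
  have h3 : sv s V = ∑ j, X.presheaf.map (homOfLE hVW).op (b j) •
      E.presheaf.map (homOfLE hVW).op (σ j) := by
    rw [← sv_res s hVW, ← hb', map_sum]
    refine Finset.sum_congr rfl (fun j _ => ?_)
    rw [Groth.Agent.H8.res_smul, Groth.Agent.H8.res_res]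
  rw [h3, smul_sum_frame] at h1
  have h4 : (fun j => X.presheaf.map (homOfLE hVU).op f * X.presheaf.map (homOfLE hVW).op (b j)) =
      fun _ => 0 := by
    apply (hσ V hVW).1
    show ∑ j, (X.presheaf.map (homOfLE hVU).op f * X.presheaf.map (homOfLE hVW).op (b j)) •
      E.presheaf.map (homOfLE hVW).op (σ j) = ∑ j, (0 : Γ(X, V)) •
      E.presheaf.map (homOfLE hVW).op (σ j)
    rw [h1]
    simp only [zero_smul, Finset.sum_const_zero]
  have hbz : ∀ j, b j = 0 := by
    intro j
    have h5 := congrFun h4 j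
    have h6 : X.presheaf.map (homOfLE hVW).op (b j) = 0 := by
      rcases mul_eq_zero.mp h5 with h | h
      · exact absurd h hfV
      · exact h
    apply map_injective_of_isIntegral X (homOfLE hVW)
    rw [h6, map_zero]
  rw [← hb']
  refine Finset.sum_eq_zero (fun j _ => ?_)
  rw [hbz j, zero_smul]


open CategoryTheory CategoryTheory.Limits AlgebraicGeometry in
/-- Let k be a characteristic-zero algebraically closed field and E a finite locally free O-module of
rank r > 1 on P^n_k. If E has a nonzero section (a nonzero morphism O → E) and its dual has a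
nonzero section (a nonzero morphism E → O), then E is not simple: there is an endomorphism of E
which is not a homothety, i.e. whose underlying map of abelian sheaves is not multiplication by any
scalar c ∈ k. -/
theorem result (k : Type u) [Field k] [IsAlgClosed k] [CharZero k]
    (n r : ℕ) (hr : 1 < r) (E : (CohB1.ProjSpace n k).Modules) (hE : FlatMod.IsFinLocFreeOfRank r E)
    (s : Coh.structureModule (CohB1.ProjSpace n k) ⟶ E) (hs : s ≠ 0)
    (t : E ⟶ Coh.structureModule (CohB1.ProjSpace n k)) (ht : t ≠ 0) :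
    ∃ φ : E ⟶ E, ∀ c : k, (SheafOfModules.toSheaf (CohB1.ProjSpace n k).ringCatSheaf).map φ ≠
      Coh.smulAb E (Coh.toGlobal (CohB1.ProjSpace.toSpec n k) c) := by
  revert E
  change ∀ (E : (Proj (CohB1.polyGrading n k)).Modules), FlatMod.IsFinLocFreeOfRank r E →
    ∀ (s : Coh.structureModule (Proj (CohB1.polyGrading n k)) ⟶ E), s ≠ 0 →
    ∀ (t : E ⟶ Coh.structureModule (Proj (CohB1.polyGrading n k))), t ≠ 0 →
    ∃ φ : E ⟶ E, ∀ c : k,
      (SheafOfModules.toSheaf (Proj (CohB1.polyGrading n k)).ringCatSheaf).map φ ≠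
        Coh.smulAb E (Coh.toGlobal (CohB1.ProjSpace.toSpec n k) c)
  intro E hE s hs t ht
  haveI : IsIntegral (Proj (CohB1.polyGrading n k)) := Groth.Agent.H88.PicPn.isIntegral_proj n k
  refine ⟨t ≫ s, fun c hc => ?_⟩
  have hfr : ∀ x : Proj (CohB1.polyGrading n k), ∃ (U : (Proj (CohB1.polyGrading n k)).Opens)
      (σ : Fin r → Γ(E, U)), x ∈ U ∧ Groth.Agent.H88.Frame.IsFrame E U σ := by
    intro x
    obtain ⟨U, hxU, ⟨e⟩⟩ := hE x
    obtain ⟨σ, hσ⟩ := Groth.Agent.H22.P1FrameBasis.exists_frame E U e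
    exact ⟨U, σ, hxU, hσ⟩
  refine not_homothety hr E hfr s hs t ht (Coh.toGlobal (CohB1.ProjSpace.toSpec n k) c) ?_ ?_
  · by_cases h0 : c = 0
    · left
      rw [h0]
      exact map_zero _
    · right
      exact (IsUnit.mk0 c h0).map (Coh.toGlobal (CohB1.ProjSpace.toSpec n k))
  · intro U m
    have h1 := congrArg (fun φ => φ.hom.app (op U) m) hc
    simp only at h1
    rw [Coh.smulAb_app] at h1
    exact h1

end Groth.Agent.S11503
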