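import Groth.Statements.S11520
import Mathlib.CategoryTheory.Triangulated.TStructure.AbelianSubcategory

set_option autoImplicit false
universe v u v' u'
open CategoryTheory CategoryTheory.Limits CategoryTheory.Pretriangulated CategoryTheory.Triangulated
open PervT

namespace Groth.Agent.S11520

section Helpers

open scoped ZeroObject

variable {C : Type u} [Category.{v} C] [Preadditive C] [HasZeroObject C] [HasShift C ℤ]
  [∀ n : ℤ, (shiftFunctor C n).Additive] [Pretriangulated C] (t : TStructure C)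
  {H : Type u'} [Category.{v'} H] [Preadditive H] [t.Heart H]

lemma exists_obj_of_heart (X : C) [t.IsLE X 0] [t.IsGE X 0] :
    ∃ (W : H), Nonempty (t.ιHeart.obj W ≅ X) := by
  have h : t.heart X := (t.mem_heart_iff X).2 ⟨inferInstance, inferInstance⟩
  rw [← t.essImage_ιHeart H] at h
  obtain ⟨W, ⟨e⟩⟩ := h
  exact ⟨W, ⟨e⟩⟩

include t in
lemma hasZeroObject_heart : HasZeroObject H := by
  obtain ⟨Z, ⟨e⟩⟩ := exists_obj_of_heart t (H := H) (0 : C)
  refine ⟨Z, ?_⟩
  rw [IsZero.iff_id_eq_zero]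
  apply (t.ιHeart (H := H)).map_injective
  exact (IsZero.of_iso (isZero_zero C) e).eq_of_src _ _

include t in
lemma hasBinaryBiproduct_heart (X Y : H) : HasBinaryBiproduct X Y := by
  have h₁ : t.IsLE (t.ιHeart.obj X ⊞ t.ιHeart.obj Y) 0 :=
    t.isLE₂ _ (binaryBiproductTriangle_distinguished _ _) 0
      (show t.IsLE (t.ιHeart.obj X) 0 from inferInstance)
      (show t.IsLE (t.ιHeart.obj Y) 0 from inferInstance)
  have h₂ : t.IsGE (t.ιHeart.obj X ⊞ t.ιHeart.obj Y) 0 :=
    t.isGE₂ _ (binaryBiproductTriangle_distinguished _ _) 0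
      (show t.IsGE (t.ιHeart.obj X) 0 from inferInstance)
      (show t.IsGE (t.ιHeart.obj Y) 0 from inferInstance)
  obtain ⟨W, ⟨e⟩⟩ := exists_obj_of_heart t (H := H) (t.ιHeart.obj X ⊞ t.ιHeart.obj Y)
  refine HasBinaryBiproduct.mk
    ⟨{ pt := W
       fst := t.ιHeart.preimage (e.hom ≫ biprod.fst)
       snd := t.ιHeart.preimage (e.hom ≫ biprod.snd)
       inl := t.ιHeart.preimage (biprod.inl ≫ e.inv)
       inr := t.ιHeart.preimage (biprod.inr ≫ e.inv)
       inl_fst := (t.ιHeart (H := H)).map_injective (by simp)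
       inl_snd := (t.ιHeart (H := H)).map_injective (by simp)
       inr_fst := (t.ιHeart (H := H)).map_injective (by simp)
       inr_snd := (t.ιHeart (H := H)).map_injective (by simp) },
     isBinaryBilimitOfTotal _ ((t.ιHeart (H := H)).map_injective ?_)⟩
  rw [← cancel_epi e.inv, ← cancel_mono e.hom]
  simp [biprod.total]

lemma hom_shift_neg_eq_zero ⦃X Y : H⦄ ⦃n : ℤ⦄
    (f : t.ιHeart.obj X ⟶ (t.ιHeart.obj Y)⟦n⟧) (hn : n < 0) : f = 0 := by
  have : t.IsGE ((t.ιHeart.obj Y)⟦n⟧) (-n) := t.isGE_shift _ 0 n (-n) (by omega)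
  exact t.zero f 0 (-n) (by omega)

set_option backward.defeqAttrib.useBackward true in
set_option backward.isDefEq.respectTransparency false in
lemma admissible_eq_top [IsTriangulated C] :
    AbelianSubcategory.admissibleMorphism (t.ιHeart (H := H)) = ⊤ := by
  ext X₁ X₂ f₁
  simp only [MorphismProperty.top_apply, iff_true]
  intro X₃ f₂ f₃ hT
  have hT' := rot_of_distTriang _ hT
  have a₁ : t.IsLE ((t.ιHeart.obj X₁)⟦(1 : ℤ)⟧) (-1) := t.isLE_shift _ 0 1 (-1) (by omega)
  have a₂ : t.IsLE ((t.ιHeart.obj X₁)⟦(1 : ℤ)⟧) 0 := t.isLE_of_le _ (-1) 0 (by omega)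
  have a₃ : t.IsGE ((t.ιHeart.obj X₁)⟦(1 : ℤ)⟧) (-1) := t.isGE_shift _ 0 1 (-1) (by omega)
  have a₄ : t.IsGE (t.ιHeart.obj X₂) (-1) := t.isGE_of_ge _ (-1) 0 (by omega)
  have h₁ : t.IsLE X₃ 0 := t.isLE₂ _ hT' 0 (show t.IsLE (t.ιHeart.obj X₂) 0 from inferInstance) a₂
  have h₂ : t.IsGE X₃ (-1) := t.isGE₂ _ hT' (-1) a₄ a₃
  have hd := t.triangleLEGE_distinguished (-1) 0 (by omega) X₃
  -- the left truncation, shifted back, lies in the heart
  have b₁ : t.IsLE (((t.truncLE (-1)).obj X₃)⟦(-1 : ℤ)⟧) 0 :=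
    t.isLE_shift _ (-1) (-1) 0 (by omega)
  have b₂ : t.IsGE (((t.truncLE (-1)).obj X₃)⟦(-1 : ℤ)⟧) 0 :=
    t.isGE_shift _ (-1) (-1) 0 (by omega)
  obtain ⟨K, ⟨eK⟩⟩ := exists_obj_of_heart t (H := H) (((t.truncLE (-1)).obj X₃)⟦(-1 : ℤ)⟧)
  obtain ⟨Q, ⟨eQ⟩⟩ := exists_obj_of_heart t (H := H) ((t.truncGE 0).obj X₃)
  let eK' : (t.ιHeart.obj K)⟦(1 : ℤ)⟧ ≅ (t.truncLE (-1)).obj X₃ :=
    (shiftFunctor C (1 : ℤ)).mapIso eK ≪≫ shiftNegShift _ (1 : ℤ)
  refine ⟨K, Q, eK'.hom ≫ (t.truncLEι (-1)).app X₃, (t.truncGEπ 0).app X₃ ≫ eQ.inv,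
    eQ.hom ≫ (t.truncGEδLE (-1) 0 (by omega)).app X₃ ≫ (eK'.inv)⟦(1 : ℤ)⟧', ?_⟩
  refine isomorphic_distinguished _ hd _ ?_
  refine Triangle.isoMk _ _ eK' (Iso.refl _) eQ ?_ ?_ ?_
  · dsimp
    simp
  · dsimp
    simp
  · dsimp
    simp only [Category.assoc, ← Functor.map_comp, Iso.inv_hom_id,
      CategoryTheory.Functor.map_id, Category.comp_id]

end Helpers

/-- Let `C` be a triangulated category (octahedron axiom included) with a t-structure `t`, and let `H`
be an additive category identified with the heart of `t` (the objects that are both `≤ 0` and `≥ 0`)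
through a fully faithful additive functor whose essential image is the heart. Then `H` is an abelian
category: there is an abelian category structure on `H` whose underlying additive structure is the
given one. -/
theorem result {C : Type u} [Category.{v} C] [Preadditive C] [HasZeroObject C] [HasShift C ℤ] [∀ n : ℤ, (shiftFunctor C n).Additive] [Pretriangulated C] [IsTriangulated C] (t : TStructure C) {H : Type u'} [Category.{v'} H] [inst : Preadditive H] [t.Heart H] :
    ∃ a : Abelian H, @Abelian.toPreadditive H _ a = inst := by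
  have := hasZeroObject_heart t (H := H)
  have : HasBinaryBiproducts H := ⟨fun X Y => hasBinaryBiproduct_heart t X Y⟩
  have : HasFiniteProducts H := hasFiniteProducts_of_has_binary_and_terminal
  exact ⟨AbelianSubcategory.abelian (t.ιHeart (H := H)) (hom_shift_neg_eq_zero t)
    (admissible_eq_top t), rfl⟩

end Groth.Agent.S11520
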