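import Groth.Statements.S11522
import Mathlib.CategoryTheory.Triangulated.TStructure.AbelianSubcategory
import Mathlib.Algebra.Homology.ShortComplex.ExactFunctor
import Mathlib.CategoryTheory.Abelian.Refinements

set_option autoImplicit false
universe v u v' u'
open CategoryTheory CategoryTheory.Limits CategoryTheory.Pretriangulated CategoryTheory.Triangulated
open PervT

namespace Groth.Agent.S11522

set_option linter.unusedSectionVars false

section CLevel

variable {C : Type u} [Category.{v} C] [Preadditive C] [HasZeroObject C] [HasShift C ℤ]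
  [∀ n : ℤ, (shiftFunctor C n).Additive] [Pretriangulated C]

set_option backward.defeqAttrib.useBackward true in
set_option backward.isDefEq.respectTransparency false in
lemma unshift_dist {A B E : C} (a : A ⟶ B) (b : B ⟶ E) (c : E⟦(1:ℤ)⟧ ⟶ A⟦(1:ℤ)⟧⟦(1:ℤ)⟧)
    (h : Triangle.mk (a⟦(1:ℤ)⟧') (b⟦(1:ℤ)⟧') c ∈ distTriang C) :
    ∃ c' : E ⟶ A⟦(1:ℤ)⟧, Triangle.mk a b c' ∈ distTriang C := by
  refine ⟨-(shiftFunctor C (1:ℤ)).preimage c, ?_⟩
  rw [← Triangle.shift_distinguished_iff _ 1]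
  refine isomorphic_distinguished _ h _ ?_
  exact Triangle.isoMk _ _ (Iso.refl _) (-(Iso.refl _)) (Iso.refl _) (by simp) (by simp)
    (by simp [shiftFunctorComm_eq_refl])

variable [IsTriangulated C] (t : TStructure C)

set_option backward.defeqAttrib.useBackward true in
set_option backward.isDefEq.respectTransparency false in
/-- If the third vertex of a distinguished triangle is `≥ 0`, then applying `τ≥0` gives a
distinguished triangle. -/
lemma Ltri {X Y Z : C} (f : X ⟶ Y) (g : Y ⟶ Z) (h : Z ⟶ X⟦(1:ℤ)⟧)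
    (hT : Triangle.mk f g h ∈ distTriang C) (hZ : t.IsGE Z 0) :
    ∃ w : (t.truncGE 0).obj Z ⟶ ((t.truncGE 0).obj X)⟦(1:ℤ)⟧,
      Triangle.mk ((t.truncGE 0).map f) ((t.truncGE 0).map g) w ∈ distTriang C := by
  obtain ⟨Z', g', h', mem⟩ := distinguished_cocone_triangle ((t.truncLTι 0).app X ≫ f)
  have H := someOctahedron rfl (t.triangleLTGE_distinguished 0 X) hT mem
  have hZ' : t.IsGE Z' 0 :=
    t.isGE₂ _ H.mem 0 (by dsimp; infer_instance) (by dsimp; exact hZ)
  have hiso : IsIso ((t.truncGE 0).map g') :=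
    t.isIso₂_truncGE_map_of_isLE _ mem (-1) 0 (by omega) (by dsimp; exact t.isLE_truncLT_obj X 0 (-1))
  have hg'' : (t.truncGEπ 0).app Y ≫ (t.truncGE 0).map g' ≫ inv ((t.truncGEπ 0).app Z') = g' := by
    simp
  have hm₁ : H.m₁ = (t.truncGE 0).map f ≫ (t.truncGE 0).map g' ≫ inv ((t.truncGEπ 0).app Z') := by
    apply t.from_truncGE_obj_ext
    rw [H.comm₁]; simp
  have hm₃ : ((t.truncGE 0).map g' ≫ inv ((t.truncGEπ 0).app Z')) ≫ H.m₃ ≫ (t.truncGEπ 0).app Z =
      (t.truncGE 0).map g := by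
    apply t.from_truncGE_obj_ext
    simp [H.comm₃_assoc]
  refine ⟨inv ((t.truncGEπ 0).app Z) ≫ h ≫ ((t.truncGEπ 0).app X)⟦(1:ℤ)⟧', ?_⟩
  refine isomorphic_distinguished _ H.mem _ ?_
  refine Triangle.isoMk _ _ (Iso.refl _)
    (asIso ((t.truncGE 0).map g' ≫ inv ((t.truncGEπ 0).app Z')))
    (asIso ((t.truncGEπ 0).app Z)).symm ?_ ?_ ?_
  · dsimp
    rw [hm₁]; simp
  · dsimp
    rw [← hm₃]; simp
  · dsimp
    simp

set_option backward.defeqAttrib.useBackward true in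
set_option backward.isDefEq.respectTransparency false in
/-- The "dual" octahedron: fibre of `Y ⟶ Z ⟶ τ≥n Z`. -/
lemma Roct (n : ℤ) {X Y Z : C} (f : X ⟶ Y) (g : Y ⟶ Z) (h : Z ⟶ X⟦(1:ℤ)⟧)
    (hT : Triangle.mk f g h ∈ distTriang C) :
    ∃ (W' : C) (i : W' ⟶ Y) (j : X ⟶ W') (p : W' ⟶ (t.truncLT n).obj Z)
      (k : (t.truncGE n).obj Z ⟶ W'⟦(1:ℤ)⟧) (w' : (t.truncLT n).obj Z ⟶ X⟦(1:ℤ)⟧),
      Triangle.mk i (g ≫ (t.truncGEπ n).app Z) k ∈ distTriang C ∧
      Triangle.mk j p w' ∈ distTriang C ∧ j ≫ i = f ∧ i ≫ g = p ≫ (t.truncLTι n).app Z := by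
  obtain ⟨W', i, k, mem⟩ := distinguished_cocone_triangle₁ (g ≫ (t.truncGEπ n).app Z)
  have H := someOctahedron rfl (rot_of_distTriang _ hT)
    (rot_of_distTriang _ (t.triangleLTGE_distinguished n Z))
    (rot_of_distTriang _ mem)
  obtain ⟨w', hw'⟩ := unshift_dist ((shiftFunctor C (1:ℤ)).preimage H.m₁)
    ((shiftFunctor C (1:ℤ)).preimage H.m₃) _ (by simpa using H.mem)
  refine ⟨W', i, _, _, k, w', mem, hw', ?_, ?_⟩
  · apply (shiftFunctor C (1:ℤ)).map_injective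
    have := H.comm₂
    dsimp at this
    simpa using this
  · apply (shiftFunctor C (1:ℤ)).map_injective
    have := H.comm₄
    dsimp at this
    simpa using this

set_option backward.defeqAttrib.useBackward true in
set_option backward.isDefEq.respectTransparency false in
lemma LhomM {X Y Z : C} (f : X ⟶ Y) (g : Y ⟶ Z) (h : Z ⟶ X⟦(1:ℤ)⟧)
    (hT : Triangle.mk f g h ∈ distTriang C) (hZ : t.IsGE Z 0) {V : C} (hV : t.IsLE V 0)
    (k : V ⟶ (t.truncGE 0).obj X) (hk : k ≫ (t.truncGE 0).map f = 0) : k = 0 := by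
  obtain ⟨w, hw⟩ := Ltri t f g h hT hZ
  obtain ⟨l, hl⟩ := Triangle.coyoneda_exact₂ _ (inv_rot_of_distTriang _ hw) k hk
  have : t.IsGE (((t.truncGE 0).obj Z)⟦(-1:ℤ)⟧) 1 := t.isGE_shift _ 0 (-1) 1 (by omega)
  have hl0 : l = 0 := t.zero_of_isLE_of_isGE l 0 1 (by omega) hV this
  rw [hl, hl0, zero_comp]

set_option backward.defeqAttrib.useBackward true in
set_option backward.isDefEq.respectTransparency false in
lemma LhomX {X Y Z : C} (f : X ⟶ Y) (g : Y ⟶ Z) (h : Z ⟶ X⟦(1:ℤ)⟧)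
    (hT : Triangle.mk f g h ∈ distTriang C) (hZ : t.IsGE Z 0) {V : C}
    (b : V ⟶ (t.truncGE 0).obj Y) (hb : b ≫ (t.truncGE 0).map g = 0) :
    ∃ a : V ⟶ (t.truncGE 0).obj X, a ≫ (t.truncGE 0).map f = b := by
  obtain ⟨w, hw⟩ := Ltri t f g h hT hZ
  obtain ⟨a, ha⟩ := Triangle.coyoneda_exact₂ _ hw b hb
  exact ⟨a, ha.symm⟩

set_option backward.defeqAttrib.useBackward true in
set_option backward.isDefEq.respectTransparency false in
lemma ReC {X Y Z : C} (f : X ⟶ Y) (g : Y ⟶ Z) (h : Z ⟶ X⟦(1:ℤ)⟧)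
    (hT : Triangle.mk f g h ∈ distTriang C) (hX : t.IsLE X 0) {V : C} (hV : t.IsGE V 0)
    (d : (t.truncLE 0).obj Z ⟶ V) (hd : (t.truncLE 0).map g ≫ d = 0) : d = 0 := by
  obtain ⟨W', i, j, p, k, w', h₁, h₂, hji, hig⟩ := Roct t (0+1) f g h hT
  have hW' : t.IsLE W' 0 := t.isLE₂ _ h₂ 0 hX (t.isLE_truncLT_obj Z (0+1) 0)
  have hp : p = t.liftTruncLE i 0 ≫ (t.truncLE 0).map g := by
    apply t.to_truncLE_obj_ext
    have := (t.truncLEι 0).naturality g
    dsimp at this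
    rw [Category.assoc, this, t.liftTruncLE_ι_assoc]
    exact hig.symm
  have hpd : p ≫ d = 0 := by rw [hp, Category.assoc, hd, comp_zero]
  obtain ⟨r, hr⟩ := Triangle.yoneda_exact₃ _ h₂ d hpd
  have : t.IsLE (X⟦(1:ℤ)⟧) (-1) := t.isLE_shift X 0 1 (-1) (by omega)
  have hr0 : r = 0 := t.zero_of_isLE_of_isGE r (-1) 0 (by omega) this hV
  rw [hr, hr0, comp_zero]

end CLevel

section HLevel

variable {C : Type u} [Category.{v} C] [Preadditive C] [HasZeroObject C] [HasShift C ℤ]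
  [∀ n : ℤ, (shiftFunctor C n).Additive] [Pretriangulated C] [IsTriangulated C] (t : TStructure C)
  {H : Type u'} [Category.{v'} H] [Abelian H] [t.Heart H] (H0 : C ⥤ H)
  (e : H0 ⋙ t.ιHeart ≅ t.truncGE 0 ⋙ t.truncLE 0)

/-- The comparison map `ι (H0 A) ⟶ τ≥0 A`. -/
noncomputable def α (A : C) : t.ιHeart.obj (H0.obj A) ⟶ (t.truncGE 0).obj A :=
  e.hom.app A ≫ (t.truncLEι 0).app ((t.truncGE 0).obj A)

lemma α_nat {A B : C} (f : A ⟶ B) :
    t.ιHeart.map (H0.map f) ≫ α t H0 e B = α t H0 e A ≫ (t.truncGE 0).map f := by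
  have h₁ := e.hom.naturality f
  have h₂ := (t.truncLEι 0).naturality ((t.truncGE 0).map f)
  dsimp at h₁ h₂
  dsimp only [α]
  rw [reassoc_of% h₁, h₂, Category.assoc]

lemma α_inj {W : H} {A : C} (k k' : W ⟶ H0.obj A)
    (h : t.ιHeart.map k ≫ α t H0 e A = t.ιHeart.map k' ≫ α t H0 e A) : k = k' := by
  apply t.ιHeart.map_injective
  rw [← cancel_mono (e.hom.app A)]
  apply t.to_truncLE_obj_ext
  simpa [α] using h

lemma α_surj {W : H} {A : C} (b : t.ιHeart.obj W ⟶ (t.truncGE 0).obj A) :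
    ∃ k : W ⟶ H0.obj A, t.ιHeart.map k ≫ α t H0 e A = b := by
  refine ⟨t.ιHeart.preimage (t.liftTruncLE b 0 ≫ e.inv.app A), ?_⟩
  simp [α]

/-- The comparison map `τ≤0 A ⟶ ι (H0 A)`. -/
noncomputable def β (A : C) : (t.truncLE 0).obj A ⟶ t.ιHeart.obj (H0.obj A) :=
  (t.truncGEπ 0).app ((t.truncLE 0).obj A) ≫ (t.truncGELEIsoLEGE 0 0).hom.app A ≫ e.inv.app A

lemma β_nat {A B : C} (f : A ⟶ B) :
    (t.truncLE 0).map f ≫ β t H0 e B = β t H0 e A ≫ t.ιHeart.map (H0.map f) := by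
  have h₁ := e.inv.naturality f
  have h₂ := (t.truncGEπ 0).naturality ((t.truncLE 0).map f)
  have h₃ := (t.truncGELEIsoLEGE 0 0).hom.naturality f
  dsimp at h₁ h₂ h₃
  dsimp only [β]
  rw [reassoc_of% h₂, reassoc_of% h₃, h₁, Category.assoc, Category.assoc]

lemma β_inj {V : H} {A : C} (d d' : H0.obj A ⟶ V)
    (h : β t H0 e A ≫ t.ιHeart.map d = β t H0 e A ≫ t.ιHeart.map d') : d = d' := by
  apply t.ιHeart.map_injective
  rw [← cancel_epi (e.inv.app A), ← cancel_epi ((t.truncGELEIsoLEGE 0 0).hom.app A)]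
  apply t.from_truncGE_obj_ext
  simpa [β] using h

include e in
lemma preservesZero : H0.PreservesZeroMorphisms := ⟨fun A B => by
  apply α_inj t H0 e
  rw [α_nat, Functor.map_zero, Functor.map_zero, comp_zero, zero_comp]⟩

include e in
lemma LmH {X Y Z : C} (f : X ⟶ Y) (g : Y ⟶ Z) (h : Z ⟶ X⟦(1:ℤ)⟧)
    (hT : Triangle.mk f g h ∈ distTriang C) (hZ : t.IsGE Z 0) : Mono (H0.map f) := by
  apply Preadditive.mono_of_cancel_zero
  intro W k hk
  apply α_inj t H0 e
  rw [Functor.map_zero, zero_comp]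
  apply LhomM t f g h hT hZ (inferInstance : t.IsLE (t.ιHeart.obj W) 0)
  rw [Category.assoc, ← α_nat, ← Functor.map_comp_assoc, hk, Functor.map_zero, zero_comp]

include e in
lemma LxH {X Y Z : C} (f : X ⟶ Y) (g : Y ⟶ Z) (h : Z ⟶ X⟦(1:ℤ)⟧)
    (hT : Triangle.mk f g h ∈ distTriang C) (hZ : t.IsGE Z 0) {W : H} (k : W ⟶ H0.obj Y)
    (hk : k ≫ H0.map g = 0) : ∃ l : W ⟶ H0.obj X, l ≫ H0.map f = k := by
  obtain ⟨a, ha⟩ := LhomX t f g h hT hZ (t.ιHeart.map k ≫ α t H0 e Y) (by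
    rw [Category.assoc, ← α_nat, ← Functor.map_comp_assoc, hk, Functor.map_zero, zero_comp])
  obtain ⟨l, hl⟩ := α_surj t H0 e a
  refine ⟨l, α_inj t H0 e _ _ ?_⟩
  rw [Functor.map_comp, Category.assoc, α_nat, reassoc_of% hl, ha]

include e in
lemma ReH {X Y Z : C} (f : X ⟶ Y) (g : Y ⟶ Z) (h : Z ⟶ X⟦(1:ℤ)⟧)
    (hT : Triangle.mk f g h ∈ distTriang C) (hX : t.IsLE X 0) : Epi (H0.map g) := by
  apply Preadditive.epi_of_cancel_zero
  intro V d hd
  apply β_inj t H0 e
  rw [Functor.map_zero, comp_zero]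
  apply ReC t f g h hT hX (inferInstance : t.IsGE (t.ιHeart.obj V) 0)
  rw [reassoc_of% (β_nat t H0 e g), ← Functor.map_comp, hd, Functor.map_zero, comp_zero]

include e in
lemma isIso_map_π (Z : C) : IsIso (H0.map ((t.truncGEπ 0).app Z)) := by
  have h₁ : IsIso ((t.truncGE 0 ⋙ t.truncLE 0).map ((t.truncGEπ 0).app Z)) := by
    dsimp
    infer_instance
  have h₂ : IsIso ((H0 ⋙ t.ιHeart).map ((t.truncGEπ 0).app Z)) :=
    (NatIso.isIso_map_iff e _).2 h₁
  have h₃ : IsIso (t.ιHeart.map (H0.map ((t.truncGEπ 0).app Z))) := h₂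
  exact isIso_of_fully_faithful t.ιHeart _

end HLevel

set_option backward.defeqAttrib.useBackward true in
set_option backward.isDefEq.respectTransparency false in
theorem main {C : Type u} [Category.{v} C] [Preadditive C] [HasZeroObject C] [HasShift C ℤ] [∀ n : ℤ, (shiftFunctor C n).Additive] [Pretriangulated C] [IsTriangulated C] (t : TStructure C) {H : Type u'} [Category.{v'} H] [Abelian H] [t.Heart H] (H0 : C ⥤ H)
    (e : H0 ⋙ t.ιHeart ≅ t.truncGE 0 ⋙ t.truncLE 0) : H0.IsHomological := by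
  have hz := preservesZero t H0 e
  refine { toPreservesZeroMorphisms := hz, exact := fun T hT => ?_ }
  obtain ⟨W', i, j, p, k, w', h₁, h₂, hji, hig⟩ := Roct t 0 T.mor₁ T.mor₂ T.mor₃ hT
  have hZ' : t.IsGE ((t.truncGE 0).obj T.obj₃) 0 := inferInstance
  have z' : H0.map i ≫ H0.map (T.mor₂ ≫ (t.truncGEπ 0).app T.obj₃) = 0 := by
    have := comp_distTriang_mor_zero₁₂ _ h₁
    dsimp at this
    rw [← H0.map_comp, this, H0.map_zero]
  have hS' : (ShortComplex.mk _ _ z').Exact := by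
    rw [ShortComplex.exact_iff_exact_up_to_refinements]
    intro A x₂ hx₂
    obtain ⟨l, hl⟩ := LxH t H0 e _ _ _ h₁ hZ' x₂ hx₂
    exact ⟨A, 𝟙 A, inferInstance, l, by simpa using hl.symm⟩
  have hle : t.IsLE (((t.truncLT 0).obj T.obj₃)⟦(-1:ℤ)⟧) 0 := by
    have := t.isLE_truncLT_obj T.obj₃ 0 (-1)
    exact t.isLE_shift _ (-1) (-1) 0 (by omega)
  have hepi : Epi (H0.map j) := ReH t H0 e _ _ _ (inv_rot_of_distTriang _ h₂) hle
  have hiso := isIso_map_π t H0 e T.obj₃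
  let φ : (shortComplexOfDistTriangle T hT).map H0 ⟶ ShortComplex.mk _ _ z' :=
    { τ₁ := H0.map j
      τ₂ := 𝟙 _
      τ₃ := H0.map ((t.truncGEπ 0).app T.obj₃)
      comm₁₂ := by
        dsimp
        rw [Category.comp_id, ← H0.map_comp, hji]
      comm₂₃ := by
        dsimp
        rw [Category.id_comp, ← H0.map_comp] }
  have : Epi φ.τ₁ := hepi
  have : IsIso φ.τ₂ := by dsimp [φ]; infer_instance
  have : Mono φ.τ₃ := by dsimp [φ]; infer_instance
  exact (ShortComplex.exact_iff_of_epi_of_isIso_of_mono φ).2 hS'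


/-- Let `C` be a triangulated category (octahedron axiom included) with a t-structure `t`, and let `H`
be an abelian category identified with the heart of `t` through a fully faithful additive functor
`ι` whose essential image is the heart. Let `H0 : C ⥤ H` be any functor whose composite with `ι` is
isomorphic to `τ≤0 ∘ τ≥0`, the degree-zero cohomology functor of `t`. Then `H0` is a homological
functor: for every distinguished triangle `X ⟶ Y ⟶ Z ⟶ X⟦1⟧` the sequence `H0 X ⟶ H0 Y ⟶ H0 Z` is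
exact, so that by rotation one gets the long exact cohomology sequence of the triangle in `H`. -/
theorem result {C : Type u} [Category.{v} C] [Preadditive C] [HasZeroObject C] [HasShift C ℤ] [∀ n : ℤ, (shiftFunctor C n).Additive] [Pretriangulated C] [IsTriangulated C] (t : TStructure C) {H : Type u'} [Category.{v'} H] [Abelian H] [t.Heart H] (H0 : C ⥤ H)
    (e : H0 ⋙ t.ιHeart ≅ t.truncGE 0 ⋙ t.truncLE 0) : H0.IsHomological := by
  exact main t H0 e

end Groth.Agent.S11522
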