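import Groth.Statements.S11523
import Mathlib.Algebra.Homology.ShortComplex.ShortExact
import Mathlib.Algebra.Homology.ShortComplex.ExactFunctor
import Mathlib.CategoryTheory.Abelian.Exact
import Mathlib.CategoryTheory.Limits.Preserves.Shapes.Zero

set_option autoImplicit false
universe v u v' u'
open CategoryTheory CategoryTheory.Limits
open PervT

namespace Groth.Agent.S11523

section Helpers

variable {A : Type u} [Category.{v} A] [Abelian A] {B : Type u'} [Category.{v'} B] [Abelian B]
  (u : A ⥤ B) [u.Full] [u.Faithful] [PreservesFiniteLimits u] [PreservesFiniteColimits u]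
  [u.PreservesZeroMorphisms]

include u in
/-- Every nonzero subobject of `u X` receives a nonzero map from the essential image of `u`. -/
lemma claim (hlen : ∀ X : A, IsArtinianObject X ∧ IsNoetherianObject X)
    (hsimple : ∀ X : A, Simple X → Simple (u.obj X)) (X : A) :
    ∀ (X₁ : Subobject X) (Q : A) (π : X ⟶ Q) [Epi π], kernelSubobject π = X₁ →
      ∀ (K : B) (m : K ⟶ u.obj Q) [Mono m], ¬ IsZero K →
        ∃ (X₀ : A) (f : u.obj X₀ ⟶ K), f ≠ 0 := by
  have := (hlen X).2
  intro X₁
  refine WellFoundedGT.induction
    (motive := fun X₁ : Subobject X => ∀ (Q : A) (π : X ⟶ Q) [Epi π], kernelSubobject π = X₁ →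
      ∀ (K : B) (m : K ⟶ u.obj Q) [Mono m], ¬ IsZero K →
        ∃ (X₀ : A) (f : u.obj X₀ ⟶ K), f ≠ 0) X₁ ?_
  intro X₁ IH Q π hπe hπ K m hm hK
  have hQ : ¬ IsZero Q := by
    intro hQ
    exact hK (IsZero.of_mono m (u.map_isZero hQ))
  have := (hlen Q).1
  have : Simple (u.obj (simpleSubobject hQ)) := hsimple _ inferInstance
  have : Mono (u.map (simpleSubobjectArrow hQ)) := inferInstance
  by_cases hP : IsZero (pullback m (u.map (simpleSubobjectArrow hQ)))
  · -- the intersection is zero: pass to the quotient by the simple subobject
    have hS : (ShortComplex.mk (simpleSubobjectArrow hQ) (cokernel.π (simpleSubobjectArrow hQ))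
        (cokernel.condition _)).ShortExact :=
      ShortComplex.ShortExact.mk'
        (ShortComplex.exact_of_g_is_cokernel _ (cokernelIsCokernel _)) inferInstance inferInstance
    have hS' := hS.map_of_exact u
    have := hS'.mono_f
    have hmono : Mono (m ≫ u.map (cokernel.π (simpleSubobjectArrow hQ))) := by
      apply Preadditive.mono_of_cancel_zero
      intro T g hg
      have hg' : (g ≫ m) ≫ u.map (cokernel.π (simpleSubobjectArrow hQ)) = 0 := by
        rw [Category.assoc]; exact hg
      obtain ⟨l, hl⟩ : ∃ l : T ⟶ u.obj (simpleSubobject hQ),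
          l ≫ u.map (simpleSubobjectArrow hQ) = g ≫ m := ⟨_, hS'.exact.lift_f _ hg'⟩
      have h1 : pullback.lift g l hl.symm = 0 := hP.eq_of_tgt _ _
      have h2 := pullback.lift_fst g l hl.symm
      rw [h1, zero_comp] at h2
      exact h2.symm
    have hle : kernelSubobject π ≤
        kernelSubobject (π ≫ cokernel.π (simpleSubobjectArrow hQ)) :=
      kernelSubobject_comp_le π _
    have hne : kernelSubobject π ≠
        kernelSubobject (π ≫ cokernel.π (simpleSubobjectArrow hQ)) := by
      intro heq
      have h1 : pullback.fst π (simpleSubobjectArrow hQ) ≫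
          (π ≫ cokernel.π (simpleSubobjectArrow hQ)) = 0 := by
        rw [← Category.assoc, pullback.condition, Category.assoc, cokernel.condition, comp_zero]
      have h2 : (kernelSubobject π).Factors (pullback.fst π (simpleSubobjectArrow hQ)) := by
        rw [heq]; exact kernelSubobject_factors _ _ h1
      have h3 : pullback.fst π (simpleSubobjectArrow hQ) ≫ π = 0 :=
        (kernelSubobject_factors_iff _ _).1 h2
      have h4 : simpleSubobjectArrow hQ = 0 := by
        rw [← cancel_epi (pullback.snd π (simpleSubobjectArrow hQ)), comp_zero,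
          ← pullback.condition, h3]
      exact Simple.not_isZero (simpleSubobject hQ)
        (IsZero.of_mono_eq_zero (simpleSubobjectArrow hQ) h4)
    have hlt : X₁ < kernelSubobject (π ≫ cokernel.π (simpleSubobjectArrow hQ)) := by
      rw [← hπ]; exact lt_of_le_of_ne hle hne
    exact IH _ hlt (cokernel (simpleSubobjectArrow hQ))
      (π ≫ cokernel.π (simpleSubobjectArrow hQ)) rfl K
      (m ≫ u.map (cokernel.π (simpleSubobjectArrow hQ))) hK
  · -- the intersection is nonzero: it is all of the simple object
    have hsnd : pullback.snd m (u.map (simpleSubobjectArrow hQ)) ≠ 0 := fun h0 =>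
      hP (IsZero.of_mono_eq_zero _ h0)
    have : IsIso (pullback.snd m (u.map (simpleSubobjectArrow hQ))) :=
      isIso_of_mono_of_nonzero hsnd
    refine ⟨simpleSubobject hQ, inv (pullback.snd m (u.map (simpleSubobjectArrow hQ))) ≫
      pullback.fst m (u.map (simpleSubobjectArrow hQ)), fun h0 => hP ?_⟩
    have h1 : pullback.fst m (u.map (simpleSubobjectArrow hQ)) = 0 := by
      rw [← cancel_epi (inv (pullback.snd m (u.map (simpleSubobjectArrow hQ)))), h0, comp_zero]
    exact IsZero.of_mono_eq_zero _ h1

end Helpers

/-- Let `u : A ⥤ B` be a fully faithful exact functor of abelian categories admitting a left adjoint and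
a right adjoint `uStar`. Suppose every object of `A` has finite length (it is both an artinian and a
noetherian object) and that `u` sends simple objects to simple objects. Then for every object `Y` of
`B` the counit `u (uStar Y) ⟶ Y` of the adjunction `u ⊣ uStar` is a monomorphism. (The published
statement also lists two further conditions equivalent to this one: that for every object `Y` of `B`
the unit `Y ⟶ u (L Y)` of the adjunction `L ⊣ u` of the left adjoint `L` is an epimorphism, and that
the essential image of `u` is stable under subobjects and quotients; this row states only the counit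
condition.) -/
theorem result {A : Type u} [Category.{v} A] [Abelian A] {B : Type u'} [Category.{v'} B] [Abelian B]
    (u : A ⥤ B) [u.Full] [u.Faithful] [PreservesFiniteLimits u] [PreservesFiniteColimits u] [u.IsRightAdjoint]
    (uStar : B ⥤ A) (adj : u ⊣ uStar)
    (hlen : ∀ X : A, IsArtinianObject X ∧ IsNoetherianObject X)
    (hsimple : ∀ X : A, Simple X → Simple (u.obj X)) (Y : B) :
    Mono (adj.counit.app Y) := by
  apply Preadditive.mono_of_kernel_zero
  by_contra hne
  have hK : ¬ IsZero (kernel (adj.counit.app Y)) := fun h => hne (h.eq_of_src _ _)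
  obtain ⟨X₀, f, hf⟩ := claim u hlen hsimple (uStar.obj Y) (kernelSubobject (𝟙 _))
    (uStar.obj Y) (𝟙 _) rfl (kernel (adj.counit.app Y)) (kernel.ι (adj.counit.app Y)) hK
  apply hf
  rw [← cancel_mono (kernel.ι (adj.counit.app Y)), zero_comp]
  obtain ⟨k, hk⟩ := u.map_surjective (f ≫ kernel.ι (adj.counit.app Y))
  have hk0 : k = 0 := by
    apply (adj.homEquiv X₀ Y).symm.injective
    rw [adj.homEquiv_counit, adj.homEquiv_counit, hk, Category.assoc, kernel.condition,
      comp_zero, CategoryTheory.Functor.map_zero, zero_comp]
  rw [← hk, hk0, CategoryTheory.Functor.map_zero]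

end Groth.Agent.S11523
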