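import Groth.Statements.S1153
import Groth.Agent.S1125
import Mathlib.AlgebraicGeometry.Morphisms.LocalFlatDescent
import Mathlib.AlgebraicGeometry.Morphisms.Proper

set_option autoImplicit false
open CategoryTheory CategoryTheory.Limits AlgebraicGeometry Opposite
universe u
open Desc

namespace Groth.Agent.S1153

section aux
open TopologicalSpace MorphismProperty

/-- separated morphisms descend along fpqc morphisms -/
lemma separated_descends :
    MorphismProperty.DescendsAlong (@IsSeparated : MorphismProperty Scheme.{u})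
      (@Surjective ⊓ @Flat ⊓ @QuasiCompact : MorphismProperty Scheme.{u}) := by
  have := Groth.Agent.S1125.closedImmersion_descends.{u}
  rw [IsSeparated.isSeparated_eq_diagonal_isClosedImmersion]
  infer_instance

/-- proper morphisms descend along fpqc morphisms -/
lemma proper_descends :
    MorphismProperty.DescendsAlong (@IsProper : MorphismProperty Scheme.{u})
      (@Surjective ⊓ @Flat ⊓ @QuasiCompact : MorphismProperty Scheme.{u}) := by
  constructor
  intro A X' Y X fst snd f g sq hf hfst
  have h1 := separated_descends.{u}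
  have hp : IsProper fst := hfst
  have hs : IsSeparated g := MorphismProperty.of_isPullback_of_descendsAlong (P := @IsSeparated)
    (Q := (@Surjective ⊓ @Flat ⊓ @QuasiCompact : MorphismProperty Scheme.{u})) sq hf inferInstance
  have hu : UniversallyClosed g :=
    MorphismProperty.of_isPullback_of_descendsAlong (P := @UniversallyClosed)
      (Q := (@Surjective ⊓ @Flat ⊓ @QuasiCompact : MorphismProperty Scheme.{u})) sq hf inferInstance
  have hl : LocallyOfFiniteType g :=
    MorphismProperty.of_isPullback_of_descendsAlong (P := @LocallyOfFiniteType)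
      (Q := (@Surjective ⊓ @Flat ⊓ @QuasiCompact : MorphismProperty Scheme.{u})) sq hf inferInstance
  rw [isProper_eq]
  exact ⟨⟨hs, hu⟩, hl⟩

lemma sep_of_comp {T W S : Scheme.{u}} (k : T ⟶ W) (q : W ⟶ S) [IsClosedImmersion k]
    [Surjective k] [IsSeparated (k ≫ q)] : IsSeparated q := by
  obtain ⟨kk, hkkcl, h1, h2⟩ : ∃ kk : pullback (k ≫ q) (k ≫ q) ⟶ pullback q q,
      IsClosedImmersion kk ∧ kk ≫ pullback.fst q q = pullback.fst (k ≫ q) (k ≫ q) ≫ k ∧
        kk ≫ pullback.snd q q = pullback.snd (k ≫ q) (k ≫ q) ≫ k :=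
    ⟨_, MorphismProperty.pullbackMap (P := @IsClosedImmersion) (f := k ≫ q) (g := k ≫ q)
      (f' := q) (g' := q) (i₁ := k) (i₂ := k) inferInstance inferInstance rfl rfl,
      pullback.lift_fst _ _ _, pullback.lift_snd _ _ _⟩
  have hcomm : pullback.diagonal (k ≫ q) ≫ kk = k ≫ pullback.diagonal q := by
    apply pullback.hom_ext
    · rw [Category.assoc, h1, Category.assoc, pullback.diagonal_fst, pullback.diagonal_fst_assoc,
        Category.comp_id]
    · rw [Category.assoc, h2, Category.assoc, pullback.diagonal_snd, pullback.diagonal_snd_assoc,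
        Category.comp_id]
  have hr : Set.range (pullback.diagonal q) = kk '' Set.range (pullback.diagonal (k ≫ q)) := by
    ext x
    constructor
    · rintro ⟨w, rfl⟩
      obtain ⟨t, rfl⟩ := k.surjective w
      refine ⟨pullback.diagonal (k ≫ q) t, ⟨t, rfl⟩, ?_⟩
      rw [← Scheme.Hom.comp_apply, hcomm, Scheme.Hom.comp_apply]
    · rintro ⟨_, ⟨t, rfl⟩, rfl⟩
      refine ⟨k t, ?_⟩
      rw [← Scheme.Hom.comp_apply, ← hcomm, Scheme.Hom.comp_apply]
  have hcl : IsClosed (Set.range (pullback.diagonal q)) := by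
    rw [hr]
    exact kk.isClosedEmbedding.isClosedMap _
      (pullback.diagonal (k ≫ q)).isClosedEmbedding.isClosed_range
  exact ⟨IsClosedImmersion.of_isPreimmersion _ hcl⟩

lemma core {X Y Y' T T' : Scheme.{u}} (f : X ⟶ Y) [LocallyOfFiniteType f] (g : Y' ⟶ Y)
    [QuasiCompact g] [Flat g] [Surjective g] (i : T ⟶ X) [IsClosedImmersion i]
    (i' : T' ⟶ pullback f g) [IsClosedImmersion i']
    (hker : i.ker ≤ (i' ≫ pullback.fst f g).ker)
    (hrange : Set.range i' = (pullback.fst f g) ⁻¹' Set.range i)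
    [IsProper (i' ≫ pullback.snd f g)] : IsProper (i ≫ f) := by
  obtain ⟨m, hm⟩ : ∃ m : T' ⟶ T, m ≫ i = i' ≫ pullback.fst f g :=
    ⟨IsClosedImmersion.lift i (i' ≫ pullback.fst f g) hker, IsClosedImmersion.lift_fac _ _ _⟩
  have hcondj : (pullback.fst (i ≫ f) g ≫ i) ≫ f = pullback.snd (i ≫ f) g ≫ g := by
    rw [Category.assoc]; exact pullback.condition
  obtain ⟨j, hj1, hj2⟩ : ∃ j : pullback (i ≫ f) g ⟶ pullback f g,
      j ≫ pullback.fst f g = pullback.fst (i ≫ f) g ≫ i ∧
        j ≫ pullback.snd f g = pullback.snd (i ≫ f) g :=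
    ⟨pullback.lift _ _ hcondj, pullback.lift_fst _ _ _, pullback.lift_snd _ _ _⟩
  have bigj : IsPullback (j ≫ pullback.snd f g) (pullback.fst (i ≫ f) g) g (i ≫ f) := by
    rw [hj2]; exact (IsPullback.of_hasPullback (i ≫ f) g).flip
  have sqj : IsPullback j (pullback.fst (i ≫ f) g) (pullback.fst f g) i :=
    IsPullback.of_right bigj hj1 (IsPullback.of_hasPullback f g).flip
  have hjcl : IsClosedImmersion j :=
    MorphismProperty.of_isPullback (P := @IsClosedImmersion) sqj.flip inferInstance
  have hjr : Set.range j = Set.range i' := by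
    rw [hrange]; exact Groth.Agent.S1124.range_fst_eq sqj
  have hcondk : m ≫ (i ≫ f) = (i' ≫ pullback.snd f g) ≫ g := by
    rw [← Category.assoc, hm, Category.assoc, Category.assoc, pullback.condition]
  obtain ⟨k, hk1, hk2⟩ : ∃ k : T' ⟶ pullback (i ≫ f) g,
      k ≫ pullback.fst (i ≫ f) g = m ∧ k ≫ pullback.snd (i ≫ f) g = i' ≫ pullback.snd f g :=
    ⟨pullback.lift _ _ hcondk, pullback.lift_fst _ _ _, pullback.lift_snd _ _ _⟩
  have hkj : k ≫ j = i' := by
    apply pullback.hom_ext
    · rw [Category.assoc, hj1, ← Category.assoc, hk1, hm]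
    · rw [Category.assoc, hj2, hk2]
  have hksurj : Surjective k := by
    refine ⟨fun w => ?_⟩
    have hw : j w ∈ Set.range i' := hjr ▸ ⟨w, rfl⟩
    obtain ⟨t, ht⟩ := hw
    refine ⟨t, j.isClosedEmbedding.injective ?_⟩
    rw [← Scheme.Hom.comp_apply, hkj, ht]
  have hkq : IsProper (k ≫ pullback.snd (i ≫ f) g) := by rw [hk2]; infer_instance
  have hkcl : IsClosedImmersion k := by
    have : IsClosedImmersion (k ≫ j) := by rw [hkj]; infer_instance
    exact IsClosedImmersion.of_comp_isClosedImmersion k j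
  have hq_lft : LocallyOfFiniteType (pullback.snd (i ≫ f) g) := inferInstance
  have hq_uc : UniversallyClosed (pullback.snd (i ≫ f) g) :=
    UniversallyClosed.of_comp_surjective k _
  have hq_sep : IsSeparated (pullback.snd (i ≫ f) g) := sep_of_comp k _
  have hq : IsProper (pullback.snd (i ≫ f) g) := by
    rw [isProper_iff]
    exact ⟨hq_sep, hq_uc, hq_lft⟩
  have := proper_descends.{u}
  exact MorphismProperty.of_isPullback_of_descendsAlong (P := @IsProper)
    (Q := (@Surjective ⊓ @Flat ⊓ @QuasiCompact : MorphismProperty Scheme.{u}))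
    (IsPullback.of_hasPullback (i ≫ f) g).flip ⟨⟨inferInstance, inferInstance⟩, inferInstance⟩ hq

lemma main {X Y Y' : Scheme.{u}} (f : X ⟶ Y) [LocallyOfFiniteType f] (Z : Set X)
    (hZ : IsClosed Z) (g : Y' ⟶ Y) [QuasiCompact g] [Flat g] [Surjective g]
    (h : ClSub.IsProperOver (pullback.snd f g) ((pullback.fst f g).base ⁻¹' Z)) :
    ClSub.IsProperOver f Z := by
  obtain ⟨hZ', hprop⟩ := h
  refine ⟨hZ, ?_⟩
  have hprop' : IsProper ((Scheme.IdealSheafData.vanishingIdeal
      ⟨(pullback.fst f g).base ⁻¹' Z, hZ'⟩).subschemeι ≫ pullback.snd f g) := hprop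
  refine core f g (Scheme.IdealSheafData.vanishingIdeal ⟨Z, hZ⟩).subschemeι
    (Scheme.IdealSheafData.vanishingIdeal ⟨(pullback.fst f g).base ⁻¹' Z, hZ'⟩).subschemeι ?_ ?_
  · rw [Scheme.Hom.ker_comp, Scheme.IdealSheafData.ker_subschemeι,
      Scheme.IdealSheafData.ker_subschemeι, Scheme.IdealSheafData.map_vanishingIdeal]
    apply Scheme.IdealSheafData.vanishingIdeal_antimono
    rw [TopologicalSpace.Closeds.closure_le]
    exact Set.image_preimage_subset _ _
  · rw [Scheme.IdealSheafData.range_subschemeι, Scheme.IdealSheafData.coe_support_vanishingIdeal,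
      Scheme.IdealSheafData.range_subschemeι, Scheme.IdealSheafData.coe_support_vanishingIdeal]
    rfl

end aux

/-- Let f : X ⟶ Y be locally of finite type, Z a closed subset of X and g : Y' ⟶ Y quasi-compact, flat
and surjective. If the preimage of Z in X ×_Y Y' is proper over Y', then Z is proper over Y. -/
theorem result {X Y Y' : Scheme.{u}} (f : X ⟶ Y) [LocallyOfFiniteType f] (Z : Set X) (hZ : IsClosed Z)
    (g : Y' ⟶ Y) [QuasiCompact g] [Flat g] [Surjective g]
    (h : ClSub.IsProperOver (pullback.snd f g) ((pullback.fst f g).base ⁻¹' Z)) :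
    ClSub.IsProperOver f Z := by
  exact main f Z hZ g h

end Groth.Agent.S1153
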