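import Groth.Statements.S11542
import Groth.Agent.H15.AdicCLoc

set_option autoImplicit false
universe u
open AdicRing

namespace Groth.Agent.S11542

/-- Let R be a complete valuation ring of height one with t a nonzero element generating an ideal of
definition, A and B admissible R-algebras with B a local integral domain of Krull dimension one, f
an element of A and u a surjective R-algebra homomorphism from the complete localization A⟨f⁻¹⟩ onto
B. Then the composite of u with the canonical map A → A⟨f⁻¹⟩ is surjective. -/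
theorem result
    (R : Type u) [CommRing R] [IsDomain R] [ValuationRing R] [Ring.KrullDimLE 1 R]
    (t : R) (ht : t ≠ 0) [IsAdicComplete (Ideal.span {t}) R]
    (A : Type u) [CommRing A] [Algebra R A] (hA : AdicRing.Admissible R (Ideal.span {t}) A) (f : A)
    (B : Type u) [CommRing B] [Algebra R B] [IsDomain B] [IsLocalRing B]
    (hB : AdicRing.Admissible R (Ideal.span {t}) B) (hdim : ringKrullDim B = 1)
    (u : AdicRing.CLoc (Ideal.span {t}) f →ₐ[R] B) (hu : Function.Surjective u) :
    Function.Surjective
      (u.toRingHom.comp (algebraMap A (AdicRing.CLoc (Ideal.span {t}) f))) := by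
  have hfin : Module.Finite R B := Groth.Agent.H15.AdicAdm.finite_of_admissible R ht B hB hdim
  haveI : Algebra.IsIntegral R B := Algebra.IsIntegral.of_finite R B
  let u₀ : A →ₐ[R] B :=
    u.comp (IsScalarTower.toAlgHom R A (AdicRing.CLoc (R := R) (A := A) (Ideal.span {t}) f))
  suffices h : u₀.range = ⊤ by
    intro b
    have hb : b ∈ u₀.range := h ▸ Algebra.mem_top
    obtain ⟨a, ha⟩ := hb
    exact ⟨a, ha⟩
  haveI : Algebra.IsIntegral u₀.range B := Algebra.IsIntegral.tower_top R
  have e1 : ∀ y : A, algebraMap A (AdicRing.CLoc (R := R) (A := A) (Ideal.span {t}) f) y =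
      algebraMap (Localization.Away f) (AdicRing.CLoc (R := R) (A := A) (Ideal.span {t}) f)
        (algebraMap A (Localization.Away f) y) := by
    intro y
    rw [AdicCompletion.algebraMap_apply, AdicCompletion.algebraMap_apply]
    rfl
  have hfunit : IsUnit (algebraMap A (AdicRing.CLoc (R := R) (A := A) (Ideal.span {t}) f) f) := by
    rw [e1]
    exact (IsLocalization.Away.algebraMap_isUnit f).map _
  have hu₀f : IsUnit (u₀ f) := hfunit.map u
  obtain ⟨d, hd⟩ := Groth.Agent.H15.AdicCLoc.exists_algebraMap_eq_of_isIntegral_of_mul_eq_one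
    (C := u₀.range) (B := B) ⟨u₀ f, ⟨f, rfl⟩⟩ (↑hu₀f.unit⁻¹ : B)
    (by
      show u₀ f * (↑hu₀f.unit⁻¹ : B) = 1
      exact hu₀f.mul_val_inv)
    (Algebra.IsIntegral.isIntegral _)
  have hd' : u₀ f * (d : B) = 1 := by
    have : (d : B) = (↑hu₀f.unit⁻¹ : B) := hd
    rw [this]
    exact hu₀f.mul_val_inv
  have hmain : (⊤ : Submodule R B) ≤ Subalgebra.toSubmodule u₀.range ⊔
      (Ideal.span {t}) • (⊤ : Submodule R B) := by
    intro b _
    obtain ⟨s, rfl⟩ := hu b
    obtain ⟨a', s', hs⟩ := Groth.Agent.H15.AdicCLoc.exists_eq_add_mul' R t (Localization.Away f) s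
    have hs' : u s = u (algebraMap (Localization.Away f)
        (AdicRing.CLoc (R := R) (A := A) (Ideal.span {t}) f) a') + t • u s' := by
      rw [hs, map_add, map_mul, AlgHom.commutes, Algebra.smul_def]
    rw [hs']
    refine Submodule.add_mem_sup ?_
      (Submodule.smul_mem_smul (Ideal.mem_span_singleton_self t) trivial)
    obtain ⟨⟨a, ⟨_, k, rfl⟩⟩, ha⟩ := IsLocalization.surj (Submonoid.powers f) a'
    simp only at ha
    have h1 : u (algebraMap (Localization.Away f)
        (AdicRing.CLoc (R := R) (A := A) (Ideal.span {t}) f) a') * u₀ f ^ k = u₀ a := by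
      show _ * (u (algebraMap A _ f)) ^ k = u (algebraMap A _ a)
      rw [e1, e1, ← map_pow, ← map_mul, ← map_pow, ← map_mul,
        ← map_pow (algebraMap A (Localization.Away f)) f k, ha]
    have h2 : u (algebraMap (Localization.Away f)
        (AdicRing.CLoc (R := R) (A := A) (Ideal.span {t}) f) a') = u₀ a * (d : B) ^ k := by
      have h3 : u₀ f ^ k * (d : B) ^ k = 1 := by rw [← mul_pow, hd', one_pow]
      calc u (algebraMap (Localization.Away f) _ a')
          = u (algebraMap (Localization.Away f) _ a') * (u₀ f ^ k * (d : B) ^ k) := by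
            rw [h3, mul_one]
        _ = u₀ a * (d : B) ^ k := by rw [← mul_assoc, h1]
    rw [h2]
    exact u₀.range.mul_mem ⟨a, rfl⟩ (u₀.range.pow_mem d.2 k)
  have htjac : Ideal.span {t} ≤ Ideal.jacobson (⊥ : Ideal R) := IsAdicComplete.le_jacobson_bot _
  have hle := Submodule.le_of_le_smul_of_le_jacobson_bot (Module.finite_def.mp hfin) htjac hmain
  rw [eq_top_iff]
  intro b _
  exact hle Submodule.mem_top

end Groth.Agent.S11542
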