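import Groth.Statements.S11544
import Groth.Agent.H15.AdicAdm
import Groth.Agent.H15.AdicNorm

set_option autoImplicit false
universe u
open AdicRing

namespace Groth.Agent.S11544

/-- Let R be a complete valuation ring of height one with t a nonzero element generating an ideal of
definition, K its field of fractions, L an algebraic extension field of K and α an element of L.
Then α is integral over R if and only if the norm of α from K(α) down to K lies in R. -/
theorem result
    (R : Type u) [CommRing R] [IsDomain R] [ValuationRing R] [Ring.KrullDimLE 1 R]
    (t : R) (ht : t ≠ 0) [IsAdicComplete (Ideal.span {t}) R]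
    (L : Type u) [Field L] [Algebra R L] [Algebra (FractionRing R) L]
    [IsScalarTower R (FractionRing R) L] [Algebra.IsAlgebraic (FractionRing R) L] (α : L) :
    IsIntegral R α ↔
      Algebra.norm (FractionRing R) (IntermediateField.AdjoinSimple.gen (FractionRing R) α) ∈
        (algebraMap R (FractionRing R)).range := by
  haveI := Groth.Agent.H15.AdicAdm.henselianLocalRing R ht
  have hαK : IsIntegral (FractionRing R) α := Algebra.IsIntegral.isIntegral α
  have hnorm : Algebra.norm (FractionRing R)
      (IntermediateField.AdjoinSimple.gen (FractionRing R) α) =
      (-1) ^ (minpoly (FractionRing R) α).natDegree * (minpoly (FractionRing R) α).coeff 0 := by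
    have h1 := Algebra.PowerBasis.norm_gen_eq_coeff_zero_minpoly
      (IntermediateField.adjoin.powerBasis hαK)
    rw [IntermediateField.adjoin.powerBasis_gen, IntermediateField.adjoin.powerBasis_dim,
      IntermediateField.minpoly_gen] at h1
    exact h1
  have hiff : Algebra.norm (FractionRing R)
      (IntermediateField.AdjoinSimple.gen (FractionRing R) α) ∈
        (algebraMap R (FractionRing R)).range ↔
      (minpoly (FractionRing R) α).coeff 0 ∈ (algebraMap R (FractionRing R)).range := by
    rw [hnorm]
    constructor
    · rintro ⟨r, hr⟩
      refine ⟨(-1) ^ (minpoly (FractionRing R) α).natDegree * r, ?_⟩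
      rw [map_mul, map_pow, map_neg, map_one, hr, ← mul_assoc, ← mul_pow]
      simp
    · rintro ⟨r, hr⟩
      exact ⟨(-1) ^ (minpoly (FractionRing R) α).natDegree * r, by
        rw [map_mul, map_pow, map_neg, map_one, hr]⟩
  rw [hiff]
  constructor
  · intro hα
    have h1 := minpoly.isIntegrallyClosed_eq_field_fractions' (FractionRing R) hα
    exact ⟨(minpoly R α).coeff 0, by rw [h1, Polynomial.coeff_map]⟩
  · intro h0
    exact Groth.Agent.H15.AdicNorm.isIntegral_of_minpoly_coeff_zero_mem R α hαK h0

end Groth.Agent.S11544
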