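import Groth.Statements.S11545
import Groth.Agent.H9.AdicLift

set_option autoImplicit false
universe u
open AdicRing

namespace Groth.Agent.S11545

open Groth.Agent.H9.AdicLift

theorem fg_of_isBase (R : Type u) [CommRing R] (I : Ideal R) (hR : AdicRing.IsBase R I) : I.FG := by
  obtain ⟨-, h | h⟩ := hR
  · have := h.1
    exact IsNoetherian.noetherian I
  · obtain ⟨-, -, -, t, -, rfl⟩ := h
    exact ⟨{t}, by simp⟩

section
variable (R : Type u) [CommRing R] (I : Ideal R)
    (A : Type u) [CommRing A] [Algebra R A]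
    (r : ℕ) (f : Fin (r + 1) → A) (i : Fin (r + 1))
    (B : Type u) [CommRing B] [Algebra R B]
    (φ : A →ₐ[R] B) (b : {j : Fin (r + 1) // j ≠ i} → B)

/-- the map on the polynomial ring -/
noncomputable def g₀ : MvPolynomial {j : Fin (r + 1) // j ≠ i} A →ₐ[R] B :=
  { MvPolynomial.eval₂Hom (φ : A →+* B) b with
    commutes' := fun x => by
      simp [IsScalarTower.algebraMap_apply R A (MvPolynomial {j : Fin (r + 1) // j ≠ i} A),
        MvPolynomial.algebraMap_eq] }

theorem g₀_C (a : A) : g₀ R A r i B φ b (MvPolynomial.C a) = φ a := by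
  simp [g₀]

theorem g₀_X (j) : g₀ R A r i B φ b (MvPolynomial.X j) = b j := by
  simp [g₀]

variable (hb : ∀ j : {j : Fin (r + 1) // j ≠ i}, b j * φ (f i) = φ (f j.1))

/-- the map on the chart algebra -/
noncomputable def g : chartAlg f i →ₐ[R] B :=
  Ideal.Quotient.liftₐ _ (g₀ R A r i B φ b) (by
    intro a ha
    have hle : Ideal.span (Set.range fun j : {j : Fin (r + 1) // j ≠ i} =>
        MvPolynomial.C (f i) * MvPolynomial.X j - MvPolynomial.C (f j.1)) ≤
        RingHom.ker (g₀ R A r i B φ b : _ →+* B) := by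
      rw [Ideal.span_le]
      rintro _ ⟨j, rfl⟩
      change g₀ R A r i B φ b _ = 0
      rw [map_sub, map_mul, g₀_C, g₀_C, g₀_X, ← hb j, mul_comm, sub_self]
    exact hle ha)


theorem g_mk (p : MvPolynomial {j : Fin (r + 1) // j ≠ i} A) :
    g R A r f i B φ b hb (Ideal.Quotient.mk _ p) = g₀ R A r i B φ b p := rfl

end

theorem result'
    (R : Type u) [CommRing R] (I : Ideal R) (hR : AdicRing.IsBase R I)
    (A : Type u) [CommRing A] [Algebra R A]
    (r : ℕ) (f : Fin (r + 1) → A) (i : Fin (r + 1))
    (B : Type u) [CommRing B] [Algebra R B] [IsAdicComplete (I.map (algebraMap R B)) B]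
    (φ : A →ₐ[R] B) (hnzd : φ (f i) ∈ nonZeroDivisors B)
    (hgen : (Ideal.span (Set.range f)).map φ = Ideal.span {φ (f i)}) :
    ∃! ψ : AdicRing.chartAdm I f i →ₐ[R] B,
      ψ.comp (IsScalarTower.toAlgHom R A (AdicRing.chartAdm I f i)) = φ := by
  have hIfg : I.FG := fg_of_isBase R I hR
  have hcancel : ∀ x y : B, x * φ (f i) = y * φ (f i) → x = y := fun x y h => by
    have h1 : (x - y) * φ (f i) = 0 := by rw [sub_mul, h, sub_self]
    exact sub_eq_zero.mp ((mem_nonZeroDivisors_iff_right.mp hnzd) _ h1)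
  -- Step 1: the elements `b j`
  have hex : ∀ j : {j : Fin (r + 1) // j ≠ i}, ∃ c : B, c * φ (f i) = φ (f j.1) := by
    intro j
    have h1 : φ (f j.1) ∈ (Ideal.span (Set.range f)).map φ :=
      Ideal.mem_map_of_mem _ (Ideal.subset_span ⟨j.1, rfl⟩)
    rw [hgen, Ideal.mem_span_singleton'] at h1
    exact h1
  choose b hb using hex
  -- Steps 2-4: the extension to the completion
  let gg := g R A r f i B φ b hb
  let ĝ : chartCompl I f i →ₐ[R] B := extHom I gg
  have hĝof : ∀ p, ĝ (AdicCompletion.of _ _ p) = gg p := fun p => extHom_of I gg p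
  have hĝA : ∀ a : A, ĝ (algebraMap A (chartCompl I f i) a) = φ a := by
    intro a
    rw [AdicCompletion.algebraMap_apply, hĝof]
    change gg (Ideal.Quotient.mk _ (MvPolynomial.C a)) = φ a
    rw [g_mk, g₀_C]
  -- Step 5: the torsion is killed
  have hT : ∀ x ∈ (⨆ n : ℕ, Submodule.torsionBy (chartCompl I f i) (chartCompl I f i)
      (algebraMap A (chartCompl I f i) (f i) ^ n) : Ideal (chartCompl I f i)), ĝ x = 0 := by
    intro x hx
    have hle : (⨆ n : ℕ, Submodule.torsionBy (chartCompl I f i) (chartCompl I f i)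
        (algebraMap A (chartCompl I f i) (f i) ^ n) : Ideal (chartCompl I f i)) ≤
        RingHom.ker (ĝ : chartCompl I f i →+* B) := by
      refine iSup_le fun n => ?_
      intro y hy
      rw [Submodule.mem_torsionBy_iff, smul_eq_mul] at hy
      rw [RingHom.mem_ker]
      have h1 : ĝ (algebraMap A (chartCompl I f i) (f i) ^ n * y) = 0 := by rw [hy, map_zero]
      rw [map_mul, map_pow, hĝA] at h1
      have h2 : φ (f i) ^ n ∈ nonZeroDivisors B := pow_mem hnzd n
      exact (mem_nonZeroDivisors_iff.mp h2).1 _ h1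
    exact hle hx
  -- Step 6: the lift
  let ψ : chartAdm I f i →ₐ[R] B := Ideal.Quotient.liftₐ _ ĝ hT
  have hψ : ψ.comp (IsScalarTower.toAlgHom R A (AdicRing.chartAdm I f i)) = φ := by
    ext a
    exact hĝA a
  refine ⟨ψ, hψ, ?_⟩
  -- Step 7: uniqueness
  intro ψ' hψ'
  have hψ'A : ∀ a : A, ψ' (algebraMap A (chartAdm I f i) a) = φ a := fun a => congr($hψ' a)
  let θ' : chartCompl I f i →ₐ[R] B := ψ'.comp (Ideal.Quotient.mkₐ R _)
  have hθ'A : ∀ a : A, θ' (algebraMap A (chartCompl I f i) a) = φ a := fun a => hψ'A a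
  have key : θ' = ĝ := by
    apply algHom_ext_of_of I hIfg
    intro p
    rw [hĝof]
    obtain ⟨q, rfl⟩ := Ideal.Quotient.mk_surjective p
    rw [g_mk]
    -- compare two ring homs on the polynomial ring
    let F : MvPolynomial {j : Fin (r + 1) // j ≠ i} A →+* B :=
      (θ' : chartCompl I f i →+* B).comp
        ((algebraMap (chartAlg f i) (chartCompl I f i)).comp (Ideal.Quotient.mk _))
    change F q = (g₀ R A r i B φ b : _ →+* B) q
    congr 1
    apply MvPolynomial.ringHom_ext
    · intro a
      change θ' (algebraMap A (chartCompl I f i) a) = g₀ R A r i B φ b (MvPolynomial.C a)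
      rw [hθ'A, g₀_C]
    · intro j
      change F (MvPolynomial.X j) = g₀ R A r i B φ b (MvPolynomial.X j)
      rw [g₀_X]
      apply hcancel
      rw [hb j]
      have h1 : F (MvPolynomial.C (f i)) = φ (f i) := hθ'A (f i)
      have h2 : F (MvPolynomial.C (f j.1)) = φ (f j.1) := hθ'A (f j.1)
      have h3 : F (MvPolynomial.C (f i) * MvPolynomial.X j - MvPolynomial.C (f j.1)) = 0 := by
        have : Ideal.Quotient.mk (Ideal.span (Set.range fun j : {j : Fin (r + 1) // j ≠ i} =>
            MvPolynomial.C (f i) * MvPolynomial.X j - MvPolynomial.C (f j.1)))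
            (MvPolynomial.C (f i) * MvPolynomial.X j - MvPolynomial.C (f j.1)) = 0 :=
          Ideal.Quotient.eq_zero_iff_mem.mpr (Ideal.subset_span ⟨j, rfl⟩)
        change θ' (algebraMap (chartAlg f i) (chartCompl I f i) (Ideal.Quotient.mk _ _)) = 0
        rw [this, map_zero, map_zero]
      rw [map_sub, map_mul, h1, h2, sub_eq_zero] at h3
      rw [mul_comm, h3]
  ext x
  obtain ⟨c, rfl⟩ := Ideal.Quotient.mk_surjective x
  exact congr($key c)

/-- Let R be a base ring of class (N) or (V) for the ideal I, A an admissible R-algebra, f_0, ..., f_r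
elements generating an open ideal 𝔞 of A, and A_i = C_i/(f_i-power torsion) the i-th chart algebra
of the formal blowing-up of 𝔞. Let B be an R-algebra complete and separated for the I-adic topology
and φ : A → B an R-algebra homomorphism such that the ideal 𝔞B is generated by φ(f_i), a
non-zero-divisor of B. Then there is exactly one R-algebra homomorphism A_i → B whose composite with
A → A_i is φ. -/
theorem result
    (R : Type u) [CommRing R] (I : Ideal R) (hR : AdicRing.IsBase R I)
    (A : Type u) [CommRing A] [Algebra R A] (hA : AdicRing.Admissible R I A)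
    (r : ℕ) (f : Fin (r + 1) → A) (k : ℕ)
    (hopen : (I ^ k).map (algebraMap R A) ≤ Ideal.span (Set.range f)) (i : Fin (r + 1))
    (B : Type u) [CommRing B] [Algebra R B] [IsAdicComplete (I.map (algebraMap R B)) B]
    (φ : A →ₐ[R] B) (hnzd : φ (f i) ∈ nonZeroDivisors B)
    (hgen : (Ideal.span (Set.range f)).map φ = Ideal.span {φ (f i)}) :
    ∃! ψ : AdicRing.chartAdm I f i →ₐ[R] B,
      ψ.comp (IsScalarTower.toAlgHom R A (AdicRing.chartAdm I f i)) = φ := by
  exact result' R I hR A r f i B φ hnzd hgen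

end Groth.Agent.S11545
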