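import Groth.Statements.S11546
import Mathlib.RingTheory.AdicCompletion.AsTensorProduct
import Mathlib.RingTheory.Flat.TorsionFree
import Mathlib.RingTheory.Flat.Stability
import Mathlib.RingTheory.Polynomial.Basic
import Mathlib.RingTheory.Valuation.ValuationRing

set_option autoImplicit false
universe u v
open scoped TensorProduct
open AdicRing

namespace Groth.Agent.S11546

/-- In a valuation ring which is `t`-adically separated, every nonzero element divides a power
of `t`. -/
lemma exists_dvd_pow {R : Type u} [CommRing R] [IsDomain R] [ValuationRing R] (t : R)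
    [IsHausdorff (Ideal.span {t}) R] (a : R) (ha : a ≠ 0) : ∃ m : ℕ, a ∣ t ^ m := by
  by_contra hcon
  push Not at hcon
  apply ha
  apply IsHausdorff.haus' (I := Ideal.span {t}) a
  intro m
  rw [SModEq.zero, smul_eq_mul, Ideal.mul_top, Ideal.span_singleton_pow,
    Ideal.mem_span_singleton]
  rcases ValuationRing.dvd_total a (t ^ m) with h | h
  · exact absurd h (hcon m)
  · exact h

/-- Let R be a base ring of class (N) or (V) for the ideal I. Then the restricted power series ring
R⟨ζ_1, ..., ζ_n⟩ is flat over R. -/
theorem result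
    (R : Type u) [CommRing R] (I : Ideal R) (hR : AdicRing.IsBase R I) (n : ℕ) :
    Module.Flat R (AdicRing.RPow R I n) := by
  obtain ⟨hcomp, hN | hV⟩ := hR
  · obtain ⟨hnoeth, -⟩ := hN
    have h1 : Module.Flat (MvPolynomial (Fin n) R) (AdicRing.RPow R I n) :=
      AdicCompletion.flat_of_isNoetherian _
    exact Module.Flat.trans R (MvPolynomial (Fin n) R) _
  · obtain ⟨hdom, hpre, -, t, ht, rfl⟩ := hV
    have : ValuationRing R := { toPreValuationRing := hpre }
    have : IsHausdorff (Ideal.span {t}) R := hcomp.toIsHausdorff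
    rw [Module.Flat.flat_iff_torsion_eq_bot_of_isBezout, eq_bot_iff]
    intro x hx
    rw [Submodule.mem_torsion_iff] at hx
    obtain ⟨⟨a, ha⟩, hax⟩ := hx
    have ha0 : a ≠ 0 := nonZeroDivisors.ne_zero ha
    rw [Submodule.mem_bot]
    obtain ⟨m, b, hb⟩ := exists_dvd_pow t a ha0
    have hJ : ∀ k : ℕ, (((Ideal.span {t}).map (MvPolynomial.C : R →+* MvPolynomial (Fin n) R)) ^ k •
        (⊤ : Submodule (MvPolynomial (Fin n) R) (MvPolynomial (Fin n) R))) =
        Ideal.span {MvPolynomial.C (t ^ k)} := by
      intro k
      rw [smul_eq_mul, Ideal.mul_top, Ideal.map_span, Set.image_singleton,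
        Ideal.span_singleton_pow, ← map_pow]
    apply AdicCompletion.ext
    intro k
    rw [AdicCompletion.val_zero_apply]
    obtain ⟨q, hq⟩ := Submodule.Quotient.mk_surjective _ (x.val (k + m))
    have h1 : x.val k = Submodule.Quotient.mk q := by
      rw [← AdicCompletion.transitionMap_comp_eval_apply _ _ (Nat.le_add_right k m) x, ← hq]
      rfl
    have h2 : (a • x).val (k + m) = 0 := by
      have : a • x = 0 := hax
      rw [this, AdicCompletion.val_zero_apply]
    rw [AdicCompletion.val_smul_apply, ← hq, ← Submodule.Quotient.mk_smul,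
      Submodule.Quotient.mk_eq_zero, hJ, Ideal.mem_span_singleton] at h2
    obtain ⟨q', hq'⟩ := h2
    rw [h1, Submodule.Quotient.mk_eq_zero, hJ, Ideal.mem_span_singleton]
    refine ⟨MvPolynomial.C b * q', ?_⟩
    have hCa : (MvPolynomial.C a : MvPolynomial (Fin n) R) ≠ 0 := by
      intro h0
      exact ha0 (MvPolynomial.C_injective (Fin n) R (h0.trans (map_zero _).symm))
    apply mul_left_cancel₀ hCa
    rw [← MvPolynomial.smul_eq_C_mul, hq', pow_add, hb, map_mul, map_mul]
    ring

end Groth.Agent.S11546
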