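import Groth.Statements.S11547
import Groth.Agent.H15.AdicRange

set_option autoImplicit false
universe u
open AdicRing

namespace Groth.Agent.S11547

/-- Let R be a complete valuation ring of height one with t a nonzero element generating an ideal of
definition, φ : A → A' a homomorphism of admissible R-algebras, and u' : A' → B' a surjective
R-algebra homomorphism onto an admissible R-algebra B' which is a local integral domain of Krull
dimension one. Then the image of A in B' is an admissible R-algebra and a local integral domain of
Krull dimension one. -/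
theorem result
    (R : Type u) [CommRing R] [IsDomain R] [ValuationRing R] [Ring.KrullDimLE 1 R]
    (t : R) (ht : t ≠ 0) [IsAdicComplete (Ideal.span {t}) R]
    (A : Type u) [CommRing A] [Algebra R A] (hA : AdicRing.Admissible R (Ideal.span {t}) A)
    (A' : Type u) [CommRing A'] [Algebra R A'] (hA' : AdicRing.Admissible R (Ideal.span {t}) A')
    (φ : A →ₐ[R] A')
    (B' : Type u) [CommRing B'] [Algebra R B'] [IsDomain B'] [IsLocalRing B']
    (hB' : AdicRing.Admissible R (Ideal.span {t}) B') (hdim : ringKrullDim B' = 1)
    (u' : A' →ₐ[R] B') (hu' : Function.Surjective u') :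
    AdicRing.Admissible R (Ideal.span {t}) ((u'.comp φ).range) ∧
      IsLocalRing ((u'.comp φ).range) ∧ ringKrullDim ((u'.comp φ).range) = 1 := by
  have hfin : Module.Finite R B' := Groth.Agent.H15.AdicAdm.finite_of_admissible R ht B' hB' hdim
  haveI : Algebra.IsIntegral R B' := Algebra.IsIntegral.of_finite R B'
  haveI : IsHausdorff (Ideal.span {t}) B' :=
    Groth.Agent.H15.AdicAdm.isHausdorff_of_admissible R t B' hB'
  have hA₁ : AdicRing.TopFiniteType R (Ideal.span {t}) A := by
    obtain ⟨⟨n, ψ, hψ, -⟩, -⟩ := hA
    exact ⟨n, ψ, hψ⟩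
  obtain ⟨h1, h2, h3⟩ := Groth.Agent.H15.AdicRange.range_admissible R ht A hA₁ B' hB'.2
    (u'.comp φ)
  exact ⟨h1, h2, h3.trans hdim⟩

end Groth.Agent.S11547
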