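import Groth.Statements.S1156
import Mathlib.RingTheory.Flat.FaithfullyFlat.Basic
import Mathlib.Algebra.Algebra.Bilinear

set_option autoImplicit false
universe u
open scoped TensorProduct
open Desc

namespace Groth.Agent.S1156

variable (R A : Type u) [CommRing R] [CommRing A] [Algebra R A]

/-- The contraction `a ⊗ (b ⊗ w) ↦ ab ⊗ w`. -/
noncomputable def contr (W : Type u) [AddCommGroup W] [Module R W] :
    A ⊗[R] (A ⊗[R] W) →ₗ[R] A ⊗[R] W :=
  (LinearMap.mul' R A).rTensor W ∘ₗ (TensorProduct.assoc R A A W).symm.toLinearMap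

@[simp]
lemma contr_tmul (W : Type u) [AddCommGroup W] [Module R W] (a b : A) (w : W) :
    contr R A W (a ⊗ₜ (b ⊗ₜ w)) = (a * b) ⊗ₜ w := by
  simp [contr]

/-- The first two maps of the (augmented) Amitsur complex. -/
noncomputable def d0 (M : Type u) [AddCommGroup M] [Module R M] : M →ₗ[R] A ⊗[R] M :=
  TensorProduct.mk R A M 1

noncomputable def d1 (M : Type u) [AddCommGroup M] [Module R M] :
    A ⊗[R] M →ₗ[R] A ⊗[R] (A ⊗[R] M) :=
  TensorProduct.mk R A (A ⊗[R] M) 1 - LinearMap.lTensor A (d0 R A M)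

lemma d1_comp_d0 (M : Type u) [AddCommGroup M] [Module R M] : d1 R A M ∘ₗ d0 R A M = 0 := by
  ext m
  simp [d1, d0]

lemma homotopy (M : Type u) [AddCommGroup M] [Module R M] :
    (d0 R A M).lTensor A ∘ₗ contr R A M + contr R A (A ⊗[R] M) ∘ₗ (d1 R A M).lTensor A =
      LinearMap.id := by
  ext a b m
  simp [d1, d0, TensorProduct.tmul_sub]

lemma exact_lTensor (M : Type u) [AddCommGroup M] [Module R M] :
    Function.Exact ((d0 R A M).lTensor A) ((d1 R A M).lTensor A) := by
  intro y
  constructor
  · intro hy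
    refine ⟨contr R A M y, ?_⟩
    have := LinearMap.congr_fun (homotopy R A M) y
    simp only [LinearMap.add_apply, LinearMap.comp_apply, hy, map_zero, add_zero,
      LinearMap.id_apply] at this
    exact this
  · rintro ⟨z, rfl⟩
    rw [← LinearMap.comp_apply, ← LinearMap.lTensor_comp, d1_comp_d0, LinearMap.lTensor_zero,
      LinearMap.zero_apply]

/-- Exactness of the extended Amitsur complex in degree 0 (injectivity in degree −1 being standard). Let
R → A be faithfully flat and M an R-module. An element x of A ⊗_R M with 1 ⊗ x = (a ⊗ m ↦ a ⊗ 1 ⊗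
m)(x) in A ⊗_R A ⊗_R M lies in the image of m ↦ 1 ⊗ m. -/
theorem result (R A : Type u) [CommRing R] [CommRing A] [Algebra R A] [Module.FaithfullyFlat R A]
    (M : Type u) [AddCommGroup M] [Module R M] (x : A ⊗[R] M)
    (hx : TensorProduct.mk R A (A ⊗[R] M) 1 x = LinearMap.lTensor A (TensorProduct.mk R A M 1) x) :
    x ∈ LinearMap.range (TensorProduct.mk R A M 1) := by
  have hex : Function.Exact (d0 R A M) (d1 R A M) :=
    (Module.FaithfullyFlat.lTensor_exact_iff_exact R A _ _).1 (exact_lTensor R A M)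
  have hx' : d1 R A M x = 0 := by
    simp only [d1, LinearMap.sub_apply, d0]
    rw [hx, sub_self]
  exact (hex x).1 hx'

end Groth.Agent.S1156
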