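import Groth.Statements.S7654
import Groth.Agent.H15.DeltaFlat
import Groth.Agent.H15.DeltaCpl
import Groth.Agent.H99.DimOneNorm
import Groth.Agent.H47.HensNoeth2

set_option autoImplicit false
universe u
open CategoryTheory CategoryTheory.Limits AlgebraicGeometry
open Variety

namespace Groth.Agent.S7654

/-- For a reduced local Nagata ring A of Krull dimension one, the δ-invariant does not change on passing
to a henselization of A, to a strict henselization of A, or to the completion of A. -/
theorem result (A : Type u) [CommRing A] [IsLocalRing A]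
    [IsReduced A] (hN : CAlg.IsNagata A) (hdim : ringKrullDim A = 1) :
    (∀ (B : Type u) [CommRing B] [IsLocalRing B] [Algebra A B] [IsLocalHom (algebraMap A B)],
        Hensel.IsHenselization A B → Curv2.deltaInv B = Curv2.deltaInv A) ∧
      (∀ (B : Type u) [CommRing B] [IsLocalRing B] [Algebra A B] [IsLocalHom (algebraMap A B)],
        Hensel.IsStrictHenselization A B → Curv2.deltaInv B = Curv2.deltaInv A) ∧
      Curv2.deltaInv (Curv2.cpl A) = Curv2.deltaInv A := by
  haveI : IsNoetherianRing A := hN.1
  have hfin := Groth.Agent.H99.DimOneNorm.finite_integralClosure A hN hdim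
  haveI : Module.Flat A (FractionRing A) := IsLocalization.flat (FractionRing A) (nonZeroDivisors A)
  refine ⟨?_, ?_, ?_⟩
  · intro B _ _ _ _ hB
    haveI := hB
    have h := Groth.Agent.H47.HensNoeth.isIndEtaleLocal_of_isHenselization A B
    haveI := h.flat
    haveI : IsNoetherianRing B := h.isNoetherianRing
    exact Groth.Agent.H15.DeltaFlat.deltaInv_eq_of_surjective hdim h.map_max
      (Groth.Agent.H15.DeltaFlat.surjective_toIntegralClosure_of_isIndEtaleLocal h (FractionRing A))
  · intro B _ _ _ _ hB
    haveI := hB
    have h := Groth.Agent.H47.HensNoeth.isIndEtaleLocal_of_isStrictHenselization A B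
    haveI := h.flat
    haveI : IsNoetherianRing B := h.isNoetherianRing
    exact Groth.Agent.H15.DeltaFlat.deltaInv_eq_of_surjective hdim h.map_max
      (Groth.Agent.H15.DeltaFlat.surjective_toIntegralClosure_of_isIndEtaleLocal h (FractionRing A))
  · exact Groth.Agent.H15.DeltaCpl.deltaInv_cpl A hdim hfin
end Groth.Agent.S7654
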