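import Groth.Statements.S9241
import Groth.Agent.H47.HensCompletion
import Groth.Agent.S9237
import Groth.Agent.S9238
import Groth.Agent.H47.HensTransport
import Groth.Agent.H47.DimOneBranch
import Groth.Agent.S0547
import Groth.Agent.Lead.CompleteNoetherian

set_option autoImplicit false
universe u
open Brnch

namespace Groth.Agent.S9241

open IsLocalRing in
theorem numBranches_eq (A : Type u) [CommRing A] [IsLocalRing A] [IsNoetherianRing A]
    (hA : ringKrullDim A = 1) :
    Brnch.numBranches (AdicCompletion (maximalIdeal A) A) = Brnch.numBranches A := by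
  classical
  haveI hlocC : IsLocalHom (algebraMap A (AdicCompletion (maximalIdeal A) A)) := by
    refine ((IsLocalRing.local_hom_TFAE
      (algebraMap A (AdicCompletion (maximalIdeal A) A))).out 0 2).mpr ?_
    rw [AdicCompletion.maximalIdeal_eq_map]
  haveI : HenselianLocalRing (AdicCompletion (maximalIdeal A) A) :=
    Groth.Agent.H3.henselianLocalRing_of_henselianRing_maximalIdeal _
  haveI hNC : IsNoetherianRing (AdicCompletion (maximalIdeal A) A) :=
    Groth.Agent.Lead.isNoetherianRing_adicCompletion (maximalIdeal A)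
      (maximalIdeal A).fg_of_isNoetherianRing
  obtain ⟨ψ, hψ, -⟩ := Hensel.IsHenselization.universal (R := A)
    (S := Groth.Agent.H47.Hens.Hloc A) (AdicCompletion (maximalIdeal A) A)
    (algebraMap A (AdicCompletion (maximalIdeal A) A)) hlocC
  letI : Algebra (Groth.Agent.H47.Hens.Hloc A) (AdicCompletion (maximalIdeal A) A) := ψ.toAlgebra
  haveI : IsScalarTower A (Groth.Agent.H47.Hens.Hloc A) (AdicCompletion (maximalIdeal A) A) :=
    IsScalarTower.of_algebraMap_eq (fun a => (RingHom.congr_fun hψ a).symm)
  haveI := Groth.Agent.H47.HensCompletion.flat_completion A (Groth.Agent.H47.Hens.Hloc A)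
  haveI := Groth.Agent.H47.HensCompletion.isLocalHom_completion A (Groth.Agent.H47.Hens.Hloc A)
  haveI := Groth.Agent.H47.HensTensor.isLocalHom_algebraMap_self
    (AdicCompletion (maximalIdeal A) A)
  haveI := Groth.Agent.H47.HensTensor.isHenselization_self (AdicCompletion (maximalIdeal A) A)
  have hI := Groth.Agent.H47.HensNoeth.isIndEtaleLocal_of_isHenselization A
    (Groth.Agent.H47.Hens.Hloc A)
  haveI : IsNoetherianRing (Groth.Agent.H47.Hens.Hloc A) := hI.isNoetherianRing
  haveI : HenselianLocalRing (Groth.Agent.H47.Hens.Hloc A) :=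
    Hensel.IsHenselization.henselian (R := A) (S := Groth.Agent.H47.Hens.Hloc A)
  rw [← Groth.Agent.S9237.result A (Groth.Agent.H47.Hens.Hloc A),
    ← Groth.Agent.S9237.result (AdicCompletion (maximalIdeal A) A)
      (AdicCompletion (maximalIdeal A) A), ENat.card_coe_set_eq, ENat.card_coe_set_eq]
  refine Groth.Agent.H47.DimOneBranch.encard_minimalPrimes_eq ?_ ?_
    (hI.ringKrullDim_eq.trans hA) ((Groth.Agent.S0547.result A).trans hA)
  · rw [← hI.map_max, Ideal.map_map, ← IsScalarTower.algebraMap_eq,
      ← AdicCompletion.maximalIdeal_eq_map]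
  · intro t
    obtain ⟨z, hz⟩ := (AdicCompletion.residueField_map_bijective A).2 (residue _ t)
    obtain ⟨a, rfl⟩ := residue_surjective z
    refine ⟨algebraMap A (Groth.Agent.H47.Hens.Hloc A) a, ?_⟩
    rw [← IsScalarTower.algebraMap_apply, ← residue_eq_zero_iff, map_sub, ← hz,
      ResidueField.map_residue, sub_self]

open IsLocalRing in
theorem numGeomBranches_eq (A : Type u) [CommRing A] [IsLocalRing A] [IsNoetherianRing A]
    (hA : ringKrullDim A = 1) :
    Brnch.numGeomBranches (AdicCompletion (maximalIdeal A) A) = Brnch.numGeomBranches A := by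
  classical
  haveI hlocC : IsLocalHom (algebraMap A (AdicCompletion (maximalIdeal A) A)) := by
    refine ((IsLocalRing.local_hom_TFAE
      (algebraMap A (AdicCompletion (maximalIdeal A) A))).out 0 2).mpr ?_
    rw [AdicCompletion.maximalIdeal_eq_map]
  haveI : HenselianLocalRing (AdicCompletion (maximalIdeal A) A) :=
    Groth.Agent.H3.henselianLocalRing_of_henselianRing_maximalIdeal _
  haveI hNC : IsNoetherianRing (AdicCompletion (maximalIdeal A) A) :=
    Groth.Agent.Lead.isNoetherianRing_adicCompletion (maximalIdeal A)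
      (maximalIdeal A).fg_of_isNoetherianRing
  obtain ⟨σ, hσ⟩ := Groth.Agent.H47.HensTransport.exists_sigma A
    (AdicCompletion (maximalIdeal A) A) (Groth.Agent.H47.HensK.Hsh A)
    (Groth.Agent.H47.HensK.Hsh (AdicCompletion (maximalIdeal A) A))
  letI : Algebra A (Groth.Agent.H47.HensK.Hsh (AdicCompletion (maximalIdeal A) A)) :=
    ((algebraMap (AdicCompletion (maximalIdeal A) A)
      (Groth.Agent.H47.HensK.Hsh (AdicCompletion (maximalIdeal A) A))).comp
      (algebraMap A (AdicCompletion (maximalIdeal A) A))).toAlgebra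
  haveI : IsScalarTower A (AdicCompletion (maximalIdeal A) A)
      (Groth.Agent.H47.HensK.Hsh (AdicCompletion (maximalIdeal A) A)) :=
    IsScalarTower.of_algebraMap_eq (fun _ => rfl)
  letI : Algebra (Groth.Agent.H47.HensK.Hsh A)
    (Groth.Agent.H47.HensK.Hsh (AdicCompletion (maximalIdeal A) A)) := σ.toAlgebra
  haveI : IsScalarTower A (Groth.Agent.H47.HensK.Hsh A)
      (Groth.Agent.H47.HensK.Hsh (AdicCompletion (maximalIdeal A) A)) :=
    IsScalarTower.of_algebraMap_eq (fun a => (RingHom.congr_fun hσ a).symm)
  have hI₁ := Groth.Agent.H47.HensNoeth.isIndEtaleLocal_of_isStrictHenselization A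
    (Groth.Agent.H47.HensK.Hsh A)
  have hI₂ := Groth.Agent.H47.HensNoeth.isIndEtaleLocal_of_isStrictHenselization
    (AdicCompletion (maximalIdeal A) A)
    (Groth.Agent.H47.HensK.Hsh (AdicCompletion (maximalIdeal A) A))
  haveI : Module.Flat (AdicCompletion (maximalIdeal A) A)
      (Groth.Agent.H47.HensK.Hsh (AdicCompletion (maximalIdeal A) A)) := hI₂.flat
  haveI : Module.Flat A
      (Groth.Agent.H47.HensK.Hsh (AdicCompletion (maximalIdeal A) A)) :=
    Module.Flat.trans A (AdicCompletion (maximalIdeal A) A) _
  haveI : Module.Flat (Groth.Agent.H47.HensK.Hsh A)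
      (Groth.Agent.H47.HensK.Hsh (AdicCompletion (maximalIdeal A) A)) :=
    Groth.Agent.H47.HensCompletion.flat_of_rep hI₁.rep _
  haveI : IsLocalHom (algebraMap A
      (Groth.Agent.H47.HensK.Hsh (AdicCompletion (maximalIdeal A) A))) := by
    show IsLocalHom ((algebraMap (AdicCompletion (maximalIdeal A) A)
      (Groth.Agent.H47.HensK.Hsh (AdicCompletion (maximalIdeal A) A))).comp
      (algebraMap A (AdicCompletion (maximalIdeal A) A)))
    infer_instance
  have hmax : (maximalIdeal (Groth.Agent.H47.HensK.Hsh A)).map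
      (algebraMap (Groth.Agent.H47.HensK.Hsh A)
        (Groth.Agent.H47.HensK.Hsh (AdicCompletion (maximalIdeal A) A))) =
      maximalIdeal (Groth.Agent.H47.HensK.Hsh (AdicCompletion (maximalIdeal A) A)) := by
    rw [← hI₁.map_max, Ideal.map_map, ← IsScalarTower.algebraMap_eq,
      IsScalarTower.algebraMap_eq A (AdicCompletion (maximalIdeal A) A)
        (Groth.Agent.H47.HensK.Hsh (AdicCompletion (maximalIdeal A) A)),
      ← Ideal.map_map, ← AdicCompletion.maximalIdeal_eq_map, hI₂.map_max]
  haveI : IsLocalHom (algebraMap (Groth.Agent.H47.HensK.Hsh A)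
      (Groth.Agent.H47.HensK.Hsh (AdicCompletion (maximalIdeal A) A))) := by
    refine ((IsLocalRing.local_hom_TFAE (algebraMap (Groth.Agent.H47.HensK.Hsh A)
      (Groth.Agent.H47.HensK.Hsh (AdicCompletion (maximalIdeal A) A)))).out 0 2).mpr ?_
    rw [hmax]
  haveI : IsNoetherianRing (Groth.Agent.H47.HensK.Hsh A) := hI₁.isNoetherianRing
  haveI : IsNoetherianRing (Groth.Agent.H47.HensK.Hsh (AdicCompletion (maximalIdeal A) A)) :=
    hI₂.isNoetherianRing
  haveI : HenselianLocalRing (Groth.Agent.H47.HensK.Hsh A) :=
    Hensel.IsStrictHenselization.henselian (R := A) (S := Groth.Agent.H47.HensK.Hsh A)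
  rw [← Groth.Agent.S9238.result A (Groth.Agent.H47.HensK.Hsh A),
    ← Groth.Agent.S9238.result (AdicCompletion (maximalIdeal A) A)
      (Groth.Agent.H47.HensK.Hsh (AdicCompletion (maximalIdeal A) A)),
    ENat.card_coe_set_eq, ENat.card_coe_set_eq]
  refine Groth.Agent.H47.DimOneBranch.encard_minimalPrimes_eq hmax ?_
    (hI₁.ringKrullDim_eq.trans hA)
    (hI₂.ringKrullDim_eq.trans ((Groth.Agent.S0547.result A).trans hA))
  intro t
  haveI : IsSepClosed (ResidueField (Groth.Agent.H47.HensK.Hsh A)) :=
    (Hensel.IsStrictHenselization.isSepClosure (R := A)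
      (S := Groth.Agent.H47.HensK.Hsh A)).sep_closed
  haveI hsep₂ : Algebra.IsSeparable (ResidueField (AdicCompletion (maximalIdeal A) A))
      (ResidueField (Groth.Agent.H47.HensK.Hsh (AdicCompletion (maximalIdeal A) A))) :=
    (Hensel.IsStrictHenselization.isSepClosure (R := AdicCompletion (maximalIdeal A) A)
      (S := Groth.Agent.H47.HensK.Hsh (AdicCompletion (maximalIdeal A) A))).separable
  have hbij : Function.Bijective (algebraMap (ResidueField A)
      (ResidueField (AdicCompletion (maximalIdeal A) A))) := by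
    have h := AdicCompletion.residueField_map_bijective A
    have e : ⇑(algebraMap (ResidueField A) (ResidueField (AdicCompletion (maximalIdeal A) A))) =
        ⇑(ResidueField.map (algebraMap A (AdicCompletion (maximalIdeal A) A))) := by
      ext z
      obtain ⟨a, rfl⟩ := residue_surjective z
      rfl
    rw [e]; exact h
  haveI : Algebra.IsSeparable (ResidueField A)
      (ResidueField (Groth.Agent.H47.HensK.Hsh (AdicCompletion (maximalIdeal A) A))) := by
    refine Algebra.IsSeparable.of_equiv_equiv (RingEquiv.ofBijective _ hbij).symm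
      (RingEquiv.refl _) (RingHom.ext fun z => ?_)
    obtain ⟨w, rfl⟩ := hbij.2 z
    show algebraMap (ResidueField A)
        (ResidueField (Groth.Agent.H47.HensK.Hsh (AdicCompletion (maximalIdeal A) A)))
        ((RingEquiv.ofBijective _ hbij).symm
          (algebraMap (ResidueField A) (ResidueField (AdicCompletion (maximalIdeal A) A)) w)) =
      algebraMap (ResidueField (AdicCompletion (maximalIdeal A) A))
        (ResidueField (Groth.Agent.H47.HensK.Hsh (AdicCompletion (maximalIdeal A) A)))
        (algebraMap (ResidueField A) (ResidueField (AdicCompletion (maximalIdeal A) A)) w)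
    rw [← IsScalarTower.algebraMap_apply]
    congr 1
    exact (RingEquiv.ofBijective _ hbij).symm_apply_apply w
  haveI : Algebra.IsSeparable (ResidueField (Groth.Agent.H47.HensK.Hsh A))
      (ResidueField (Groth.Agent.H47.HensK.Hsh (AdicCompletion (maximalIdeal A) A))) :=
    Algebra.isSeparable_tower_top_of_isSeparable (ResidueField A)
      (ResidueField (Groth.Agent.H47.HensK.Hsh A))
      (ResidueField (Groth.Agent.H47.HensK.Hsh (AdicCompletion (maximalIdeal A) A)))
  obtain ⟨z, hz⟩ := IsSepClosed.algebraMap_surjective (ResidueField (Groth.Agent.H47.HensK.Hsh A))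
    (ResidueField (Groth.Agent.H47.HensK.Hsh (AdicCompletion (maximalIdeal A) A))) (residue _ t)
  obtain ⟨s, rfl⟩ := residue_surjective z
  refine ⟨s, ?_⟩
  rw [← residue_eq_zero_iff, map_sub, ← hz, ResidueField.algebraMap_residue, sub_self]


/-- For a Noetherian local ring A of dimension 1, A and its completion A^ have the same number of
branches and the same number of geometric branches. -/
theorem result (A : Type u) [CommRing A] [IsLocalRing A]
    [IsNoetherianRing A] (hA : ringKrullDim A = 1) :
    Brnch.numBranches (AdicCompletion (IsLocalRing.maximalIdeal A) A) = Brnch.numBranches A ∧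
      Brnch.numGeomBranches (AdicCompletion (IsLocalRing.maximalIdeal A) A) =
        Brnch.numGeomBranches A := by
  exact ⟨numBranches_eq A hA, numGeomBranches_eq A hA⟩

end Groth.Agent.S9241
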