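import Groth.Statements.S12218
import Groth.Agent.H23.MultiCross
import Groth.Agent.S7654
import Groth.Agent.S9241
import Groth.Agent.S0547
import Groth.Agent.S2643
import Groth.Agent.H29.NagataFF
import Groth.Agent.Lead.CompleteNoetherian

set_option autoImplicit false
universe u
open Curves

namespace Groth.Agent.S12218


/-- Let k be a separably closed field and A a one-dimensional reduced Nagata local k-algebra with
residue field k, having n branches (n a natural number). If the δ-invariant of A equals n − 1, then
the completion of A with respect to its maximal ideal is the multicross ring with n branches: there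
is an injective ring map from the completion to (k[[t]])^n, compatible with the structure maps from
k, whose range is the subring of n-tuples of power series with a common constant term. (The
inequality δ ≥ n − 1 itself is the companion statement on geometric branches.) -/
theorem result (k : Type u) [Field k] [IsSepClosed k]
    (A : Type u) [CommRing A] [IsLocalRing A] [Algebra k A] [IsReduced A]
    (hdim : ringKrullDim A = 1) (hN : CAlg.IsNagata A)
    (hres : Function.Bijective (algebraMap k (IsLocalRing.ResidueField A)))
    (n : ℕ) (hn : Brnch.numBranches A = n) (hδ : Curv2.deltaInv A + 1 = n) :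
    ∃ φ : AdicCompletion (IsLocalRing.maximalIdeal A) A →+* (Fin n → PowerSeries k),
      Function.Injective φ ∧
      (∀ c : k, φ (algebraMap A (AdicCompletion (IsLocalRing.maximalIdeal A) A) (algebraMap k A c)) =
        fun _ => algebraMap k (PowerSeries k) c) ∧
      Set.range φ = {f : Fin n → PowerSeries k | ∀ i j : Fin n, PowerSeries.constantCoeff (f i) = PowerSeries.constantCoeff (f j)} := by
  classical
  haveI : IsNoetherianRing A := hN.1
  haveI : IsNoetherianRing (AdicCompletion (IsLocalRing.maximalIdeal A) A) :=
    Groth.Agent.Lead.isNoetherianRing_adicCompletion (IsLocalRing.maximalIdeal A)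
      (IsLocalRing.maximalIdeal A).fg_of_isNoetherianRing
  haveI hred : IsReduced (AdicCompletion (IsLocalRing.maximalIdeal A) A) :=
    (Groth.Agent.S2643.result A
      (Groth.Agent.H29.NagataFF.hasGeomReducedFormalFibres_of_isNagata A hN)).mp inferInstance
  have hdimh : ringKrullDim (AdicCompletion (IsLocalRing.maximalIdeal A) A) = 1 := by
    rw [Groth.Agent.S0547.result A, hdim]
  have hnh : Brnch.numBranches (AdicCompletion (IsLocalRing.maximalIdeal A) A) = n := by
    rw [(Groth.Agent.S9241.result A hdim).1, hn]
  have hδh : Curv2.deltaInv (AdicCompletion (IsLocalRing.maximalIdeal A) A) + 1 = n := by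
    have h1 : Curv2.deltaInv (AdicCompletion (IsLocalRing.maximalIdeal A) A) = Curv2.deltaInv A :=
      (Groth.Agent.S7654.result A hN hdim).2.2
    rw [h1]
    exact hδ
  have hcard : ENat.card (MaximalSpectrum (integralClosure
      (AdicCompletion (IsLocalRing.maximalIdeal A) A)
      (FractionRing (AdicCompletion (IsLocalRing.maximalIdeal A) A)))) = n := by
    rw [← Groth.Agent.H23.MultiCross.numBranches_eq_card
      (AdicCompletion (IsLocalRing.maximalIdeal A) A)
      (minimalPrimes.finite_of_isNoetherianRing _), hnh]
  let ψ : k →+* AdicCompletion (IsLocalRing.maximalIdeal A) A :=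
    (algebraMap A (AdicCompletion (IsLocalRing.maximalIdeal A) A)).comp (algebraMap k A)
  have hψ : Function.Surjective
      ((IsLocalRing.residue (AdicCompletion (IsLocalRing.maximalIdeal A) A)).comp ψ) := by
    intro y
    obtain ⟨z, hz⟩ := (AdicCompletion.residueField_map_bijective (R := A)).2 y
    obtain ⟨c, hc⟩ := hres.2 z
    refine ⟨c, ?_⟩
    rw [← hz, ← hc]
    rfl
  obtain ⟨φ, h1, h2, h3⟩ := Groth.Agent.H23.MultiCross.propC k
    (AdicCompletion (IsLocalRing.maximalIdeal A) A) hdimh ψ hψ n hcard hδh
  refine ⟨φ, h1, fun c => ?_, h3⟩
  have h4 : algebraMap A (AdicCompletion (IsLocalRing.maximalIdeal A) A) (algebraMap k A c) = ψ c :=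
    rfl
  rw [h4, h2 c]
  rfl

end Groth.Agent.S12218
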