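import Groth.Statements.S1162
import Groth.Agent.S1546
import Mathlib.AlgebraicGeometry.Morphisms.UniversallyInjective
import Mathlib.AlgebraicGeometry.Morphisms.Separated

set_option autoImplicit false
open CategoryTheory CategoryTheory.Limits AlgebraicGeometry Opposite
universe u
open Desc

namespace Groth.Agent.S1162

section aux
open AlgebraicGeometry CategoryTheory CategoryTheory.Limits TopologicalSpace MorphismProperty

set_option backward.isDefEq.respectTransparency.types false in
set_option backward.defeqAttrib.useBackward true in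
lemma eq_of_comp_eq {X Y : Scheme.{u}} (f : X ⟶ Y) (K : Type u) [Field K] (g₁ g₂ : Spec (.of K) ⟶ X)
    (hg : g₁ ≫ f = g₂ ≫ f) (hpt : g₁ (IsLocalRing.closedPoint K) = g₂ (IsLocalRing.closedPoint K))
    (hsurj : Function.Surjective (f.residueFieldMap (g₁ (IsLocalRing.closedPoint K))).hom) : g₁ = g₂ := by
  obtain ⟨e, h⟩ := Scheme.SpecToEquivOfField_eq_iff.mp congr((Y.SpecToEquivOfField K) $(hg))
  apply (X.SpecToEquivOfField K).injective
  dsimp at e h
  simp only [Scheme.descResidueField_stalkClosedPointTo_comp] at e h
  rw [← f.residueFieldMap_congr'_assoc hpt, CommRingCat.hom_ext_iff] at h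
  rw [Scheme.SpecToEquivOfField_eq_iff]
  refine ⟨hpt, CommRingCat.hom_ext ?_⟩
  refine RingHom.ext fun a => ?_
  obtain ⟨b, rfl⟩ := hsurj a
  exact RingHom.congr_fun h b

lemma main {X Y : Scheme.{u}} (f : X ⟶ Y) [Flat f] [IsSeparated f]
    (h2 : ∀ ξ : X, closure ({ξ} : Set X) ∈ irreducibleComponents (X : Type u) →
      Function.Surjective (f.residueFieldMap ξ).hom)
    (h3 : Set.InjOn f.base {ξ : X | closure ({ξ} : Set X) ∈ irreducibleComponents (X : Type u)}) :
    UniversallyInjective f := by
  rw [UniversallyInjective.iff_diagonal, surjective_iff]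
  intro w
  have hZ := irreducibleComponent_mem_irreducibleComponents w
  obtain ⟨w0, hw0⟩ := QuasiSober.sober hZ.1 (isClosed_of_mem_irreducibleComponents _ hZ)
  have hw0w : w0 ⤳ w := by
    rw [specializes_iff_mem_closure, hw0.def]; exact mem_irreducibleComponent
  have hmin : ∀ w' : ↥(pullback f f), w' ⤳ w0 → w' = w0 :=
    fun w' h => Groth.Agent.S1546.no_gen hZ hw0 h
  have hcl : IsClosed (Set.range (pullback.diagonal f).base) :=
    (pullback.diagonal f).isClosedEmbedding.isClosed_range
  suffices hw0r : w0 ∈ Set.range (pullback.diagonal f).base from hw0w.mem_closed hcl hw0r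
  have hg1 : GeneralizingMap (pullback.fst f f).base := Flat.generalizingMap _
  have hg2 : GeneralizingMap (pullback.snd f f).base := Flat.generalizingMap _
  have hc1 : closure {(pullback.fst f f).base w0} ∈ irreducibleComponents ↥X := by
    apply Groth.Agent.S1546.comp_of_no_gen
    intro η' h
    obtain ⟨w', hw', rfl⟩ := hg1 h
    rw [hmin w' hw']
  have hc2 : closure {(pullback.snd f f).base w0} ∈ irreducibleComponents ↥X := by
    apply Groth.Agent.S1546.comp_of_no_gen
    intro η' h
    obtain ⟨w', hw', rfl⟩ := hg2 h
    rw [hmin w' hw']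
  have hcond : f.base ((pullback.fst f f).base w0) = f.base ((pullback.snd f f).base w0) := by
    have := congrArg (fun g => g.base w0) (pullback.condition (f := f) (g := f))
    exact this
  have hpt : (pullback.fst f f).base w0 = (pullback.snd f f).base w0 := h3 hc1 hc2 hcond
  have hx : ((pullback f f).fromSpecResidueField w0 ≫ pullback.fst f f)
      (IsLocalRing.closedPoint ((pullback f f).residueField w0)) = (pullback.fst f f).base w0 := by
    rw [Scheme.Hom.comp_apply, Scheme.fromSpecResidueField_apply]
  have hx' : ((pullback f f).fromSpecResidueField w0 ≫ pullback.snd f f)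
      (IsLocalRing.closedPoint ((pullback f f).residueField w0)) = (pullback.snd f f).base w0 := by
    rw [Scheme.Hom.comp_apply, Scheme.fromSpecResidueField_apply]
  have hφ₁ : (pullback f f).fromSpecResidueField w0 ≫ pullback.fst f f =
      (pullback f f).fromSpecResidueField w0 ≫ pullback.snd f f := by
    apply eq_of_comp_eq f ((pullback f f).residueField w0)
    · simp [pullback.condition]
    · rw [hx, hx', hpt]
    · exact hx.symm ▸ h2 _ hc1
  have hφ₂ : (pullback f f).fromSpecResidueField w0 =
      ((pullback f f).fromSpecResidueField w0 ≫ pullback.fst f f) ≫ pullback.diagonal f := by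
    apply pullback.hom_ext <;> simp [hφ₁]
  refine ⟨((pullback f f).fromSpecResidueField w0 ≫ pullback.fst f f)
    (IsLocalRing.closedPoint ((pullback f f).residueField w0)), ?_⟩
  show (pullback.diagonal f) _ = w0
  rw [← Scheme.Hom.comp_apply, ← hφ₂, Scheme.fromSpecResidueField_apply]

end aux

/-- Let f : X ⟶ Y be flat and separated. Write X⁰ for the generic points of the irreducible components
of X. If for every ξ in X⁰ the residue field extension κ(f ξ) ⊆ κ(ξ) is trivial and f is injective
on X⁰, then f is universally injective. -/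
theorem result {X Y : Scheme.{u}} (f : X ⟶ Y) [Flat f] [IsSeparated f]
    (h2 : ∀ ξ : X, closure ({ξ} : Set X) ∈ irreducibleComponents (X : Type u) →
      Function.Surjective (f.residueFieldMap ξ).hom)
    (h3 : Set.InjOn f.base {ξ : X | closure ({ξ} : Set X) ∈ irreducibleComponents (X : Type u)}) :
    UniversallyInjective f := by
  exact main f h2 h3

end Groth.Agent.S1162
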