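import Groth.Statements.S8586
import Mathlib.RingTheory.Ideal.KrullsHeightTheorem
import Mathlib.RingTheory.Ideal.MinimalPrime.Noetherian
import Mathlib.RingTheory.Ideal.Height

set_option autoImplicit false
universe u
open CAlg

namespace Groth.Agent.S8586

open IsLocalRing

section lib

variable {A : Type u} [CommRing A]

/-- prime avoidance, in the form used below -/
lemma exists_avoid (S : Set (Ideal A)) (hS : S.Finite) (hprime : ∀ P ∈ S, P.IsPrime) (I : Ideal A)
    (hI : ∀ P ∈ S, ¬ I ≤ P) : ∃ w ∈ I, ∀ P ∈ S, w ∉ P := by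
  by_contra hcon
  push_neg at hcon
  have hsub : (I : Set A) ⊆ ⋃ P ∈ S, ((fun P : Ideal A => P) P : Set A) := by
    intro w hw
    obtain ⟨P, hP, hwP⟩ := hcon w hw
    exact Set.mem_biUnion hP hwP
  obtain ⟨P, hP, hIP⟩ := (Ideal.subset_union_prime_finite hS (f := fun P : Ideal A => P) ⊥ ⊥
    (fun P hP _ _ => hprime P hP)).1 hsub
  exact hI P hP hIP

/-- the finite set of the `x j`, `j ≠ i` -/
noncomputable def others {d : ℕ} (x : Fin d → A) (i : Fin d) : Finset A := by
  classical exact (Finset.univ.erase i).image x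

lemma mem_others {d : ℕ} {x : Fin d → A} {i : Fin d} {a : A} :
    a ∈ others x i ↔ ∃ j, j ≠ i ∧ x j = a := by
  classical
  simp [others]

lemma card_others {d : ℕ} (x : Fin d → A) (i : Fin d) : (others x i).card ≤ d - 1 := by
  classical
  unfold others
  refine Finset.card_image_le.trans ?_
  rw [Finset.card_erase_of_mem (Finset.mem_univ i), Finset.card_univ, Fintype.card_fin]

variable [IsNoetherianRing A] [IsLocalRing A]

lemma max_notMem_minimalPrimes {d : ℕ} (hd : ringKrullDim A = d) (x : Fin d → A) (i : Fin d) :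
    maximalIdeal A ∉ (Ideal.span (↑(others x i) : Set A)).minimalPrimes := by
  intro h
  have h1 := Ideal.height_le_card_of_mem_minimalPrimes_span_finset h
  have h2 : ((maximalIdeal A).height : WithBot ℕ∞) = (d : WithBot ℕ∞) := by
    rw [IsLocalRing.maximalIdeal_height_eq_ringKrullDim, hd]
  have h3 : (maximalIdeal A).height = (d : ℕ∞) := by exact_mod_cast h2
  rw [h3] at h1
  have h4 : d ≤ (others x i).card := by exact_mod_cast h1
  have h5 := card_others x i
  have h6 := i.pos
  omega

lemma sop_update {d : ℕ} (x : Fin d → A) (hx : ∀ j, x j ∈ maximalIdeal A)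
    (hx' : maximalIdeal A ≤ (Ideal.span (Set.range x)).radical) (i : Fin d) (w : A)
    (hav : ∀ P ∈ (Ideal.span (↑(others x i) : Set A)).minimalPrimes, w ∉ P) :
    maximalIdeal A ≤ (Ideal.span (Set.range (Function.update x i w))).radical := by
  rw [Ideal.radical_eq_sInf]
  refine le_sInf ?_
  rintro P ⟨hle, hPprime⟩
  by_cases hPm : P = maximalIdeal A
  · rw [hPm]
  exfalso
  have hPlt : P < maximalIdeal A :=
    lt_of_le_of_ne (IsLocalRing.le_maximalIdeal hPprime.ne_top) hPm
  have hsP : (↑(others x i) : Set A) ⊆ (P : Set A) := by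
    intro a ha
    obtain ⟨j, hj, rfl⟩ := mem_others.1 ha
    have h1 : Function.update x i w j ∈ P := hle (Ideal.subset_span ⟨j, rfl⟩)
    rwa [Function.update_of_ne hj] at h1
  have hwP : w ∈ P := by
    have h1 : Function.update x i w i ∈ P := hle (Ideal.subset_span ⟨i, rfl⟩)
    rwa [Function.update_self] at h1
  have hrange : Set.range x ⊆ insert (x i) (↑(others x i) : Set A) := by
    rintro _ ⟨j, rfl⟩
    by_cases hj : j = i
    · rw [hj]; exact Set.mem_insert _ _
    · exact Set.mem_insert_of_mem _ (mem_others.2 ⟨j, hj, rfl⟩)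
  have hmin : maximalIdeal A ∈
      (Ideal.span (insert (x i) (↑(others x i) : Set A))).minimalPrimes := by
    refine ⟨⟨inferInstance, Ideal.span_le.2 ?_⟩, ?_⟩
    · intro a ha
      rcases Set.mem_insert_iff.1 ha with rfl | ha
      · exact hx i
      · obtain ⟨j, _, rfl⟩ := mem_others.1 ha
        exact hx j
    · rintro Q ⟨hQprime, hQle⟩ _
      exact (hx'.trans (Ideal.radical_mono (Ideal.span_mono hrange))).trans
        (hQprime.radical_le_iff.2 hQle)
  haveI := hPprime
  have := Ideal.mem_minimalPrimes_span_of_mem_minimalPrimes_span_insert hPlt (x i)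
    (↑(others x i) : Set A) hmin (↑(others x i) : Set A) hsP
    (fun a ha => Ideal.le_radical (Ideal.subset_span (Set.mem_insert_of_mem _ ha)))
  exact hav P this hwP

lemma exists_common {d : ℕ} (hd : ringKrullDim A = d) (x y : Fin d → A)
    (hx : ∀ j, x j ∈ maximalIdeal A)
    (hx' : maximalIdeal A ≤ (Ideal.span (Set.range x)).radical)
    (hy : ∀ j, y j ∈ maximalIdeal A)
    (hy' : maximalIdeal A ≤ (Ideal.span (Set.range y)).radical)
    (i : Fin d) :
    ∃ w ∈ maximalIdeal A,
      maximalIdeal A ≤ (Ideal.span (Set.range (Function.update x i w))).radical ∧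
      maximalIdeal A ≤ (Ideal.span (Set.range (Function.update y i w))).radical := by
  obtain ⟨w, hw, hav⟩ := exists_avoid
    ((Ideal.span (↑(others x i) : Set A)).minimalPrimes ∪
      (Ideal.span (↑(others y i) : Set A)).minimalPrimes)
    ((Ideal.finite_minimalPrimes_of_isNoetherianRing A _).union
      (Ideal.finite_minimalPrimes_of_isNoetherianRing A _))
    (fun P hP => hP.elim (fun h => h.1.1) (fun h => h.1.1))
    (maximalIdeal A)
    (fun P hP hmP => by
      have hPprime : P.IsPrime := hP.elim (fun h => h.1.1) (fun h => h.1.1)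
      have hPm : P = maximalIdeal A :=
        le_antisymm (IsLocalRing.le_maximalIdeal hPprime.ne_top) hmP
      rw [hPm] at hP
      rcases hP with h | h
      · exact max_notMem_minimalPrimes hd x i h
      · exact max_notMem_minimalPrimes hd y i h)
  exact ⟨w, hw, sop_update x hx hx' i w (fun P hP => hav P (Or.inl hP)),
    sop_update y hy hy' i w (fun P hP => hav P (Or.inr hP))⟩

omit [IsNoetherianRing A] [IsLocalRing A] in
/-- first `k` entries from `W`, the others from `u` -/
def mix {d : ℕ} (k : ℕ) (W u : Fin d → A) : Fin d → A :=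
  fun j => if (j : ℕ) < k then W j else u j

omit [IsNoetherianRing A] [IsLocalRing A] in
lemma mix_zero {d : ℕ} (W u : Fin d → A) : mix 0 W u = u := by
  funext j
  simp [mix]

omit [IsNoetherianRing A] [IsLocalRing A] in
lemma mix_full {d : ℕ} (W u : Fin d → A) : mix d W u = W := by
  funext j
  simp [mix, j.2]

omit [IsNoetherianRing A] [IsLocalRing A] in
lemma mix_succ_of_ne {d : ℕ} (k : ℕ) (W u : Fin d → A) (j : Fin d) (hj : (j : ℕ) ≠ k) :
    mix k W u j = mix (k + 1) W u j := by
  unfold mix
  by_cases h : (j : ℕ) < k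
  · rw [if_pos h, if_pos (by omega)]
  · rw [if_neg h, if_neg (by omega)]

omit [IsNoetherianRing A] [IsLocalRing A] in
lemma mix_update_lt {d : ℕ} (k' : ℕ) (W u : Fin d → A) (i : Fin d) (w : A)
    (h : k' ≤ (i : ℕ)) : mix k' (Function.update W i w) u = mix k' W u := by
  funext j
  unfold mix
  by_cases hj : (j : ℕ) < k'
  · rw [if_pos hj, if_pos hj, Function.update_of_ne]
    intro hji
    rw [hji] at hj
    omega
  · rw [if_neg hj, if_neg hj]

omit [IsNoetherianRing A] [IsLocalRing A] in
lemma mix_update_succ {d : ℕ} (W u : Fin d → A) (i : Fin d) (w : A) :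
    mix ((i : ℕ) + 1) (Function.update W i w) u = Function.update (mix (i : ℕ) W u) i w := by
  funext j
  by_cases hji : j = i
  · rw [hji, Function.update_self]
    unfold mix
    rw [if_pos (by omega), Function.update_self]
  · rw [Function.update_of_ne hji]
    have hne : (j : ℕ) ≠ (i : ℕ) := fun h => hji (Fin.ext h)
    rw [← mix_succ_of_ne _ _ _ _ hne]
    unfold mix
    by_cases hj : (j : ℕ) < (i : ℕ)
    · rw [if_pos hj, if_pos hj, Function.update_of_ne hji]
    · rw [if_neg hj, if_neg hj]

/-- a system of parameters -/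
def Sop {d : ℕ} (x : Fin d → A) : Prop :=
  (∀ j, x j ∈ maximalIdeal A) ∧ maximalIdeal A ≤ (Ideal.span (Set.range x)).radical

lemma exists_W {d : ℕ} (hd : ringKrullDim A = d) (u v : Fin d → A) (hu : Sop u) (hv : Sop v) :
    ∀ k ≤ d, ∃ W : Fin d → A, (∀ j, W j ∈ maximalIdeal A) ∧
      ∀ k' ≤ k, Sop (mix k' W u) ∧ Sop (mix k' W v) := by
  intro k
  induction k with
  | zero =>
    intro _
    refine ⟨u, hu.1, fun k' hk' => ?_⟩
    have hk0 : k' = 0 := by omega
    rw [hk0, mix_zero, mix_zero]
    exact ⟨hu, hv⟩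
  | succ k ih =>
    intro hk
    obtain ⟨W, hW, hWk⟩ := ih (by omega)
    obtain ⟨hxu, hxv⟩ := hWk k le_rfl
    have hkd : k < d := by omega
    obtain ⟨i, hi⟩ : ∃ i : Fin d, (i : ℕ) = k := ⟨⟨k, hkd⟩, rfl⟩
    obtain ⟨w, hw, h1, h2⟩ :=
      exists_common hd (mix k W u) (mix k W v) hxu.1 hxu.2 hxv.1 hxv.2 i
    have hupd : ∀ (x : Fin d → A), (∀ j, x j ∈ maximalIdeal A) →
        ∀ j, Function.update x i w j ∈ maximalIdeal A := by
      intro x hx j
      by_cases hj : j = i
      · rw [hj, Function.update_self]; exact hw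
      · rw [Function.update_of_ne hj]; exact hx j
    refine ⟨Function.update W i w, hupd W hW, ?_⟩
    intro k' hk'
    by_cases hk'' : k' ≤ k
    · rw [mix_update_lt k' W u i w (by omega), mix_update_lt k' W v i w (by omega)]
      exact hWk k' hk''
    · have hk1 : k' = k + 1 := by omega
      have e1 := mix_update_succ W u i w
      have e2 := mix_update_succ W v i w
      rw [hi] at e1 e2
      rw [hk1, e1, e2]
      exact ⟨⟨hupd _ hxu.1, h1⟩, ⟨hupd _ hxv.1, h2⟩⟩

omit [IsNoetherianRing A] [IsLocalRing A] in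
/-- the chain: up along `u`, down along `v` -/
def chainFn {d : ℕ} (W u v : Fin d → A) (t : ℕ) : Fin d → A :=
  if t ≤ d then mix t W u else mix (2 * d - t) W v

omit [IsNoetherianRing A] [IsLocalRing A] in
lemma chainFn_le {d : ℕ} (W u v : Fin d → A) {t : ℕ} (ht : t ≤ d) :
    chainFn W u v t = mix t W u := if_pos ht

omit [IsNoetherianRing A] [IsLocalRing A] in
lemma chainFn_ge {d : ℕ} (W u v : Fin d → A) {t : ℕ} (ht : d ≤ t) :
    chainFn W u v t = mix (2 * d - t) W v := by
  by_cases htd : t ≤ d
  · have : t = d := le_antisymm htd ht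
    rw [chainFn_le W u v htd, this, mix_full, show 2 * d - d = d by omega, mix_full]
  · exact if_neg htd

end lib

/-- Suppose A is a Cohen–Macaulay local ring whose Krull dimension is d, and consider two systems of
parameters u = (u_1, ..., u_d) and v = (v_1, ..., v_d) of A (that is, d-tuples of elements of the
maximal ideal m such that the ideal they generate has radical m). Then one can find a finite
sequence w_0 = u, w_1, ..., w_m = v, each term a system of parameters of A, where w_{k+1} arises
from w_k by altering just one coordinate. -/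
theorem result (A : Type u) [CommRing A] [LocCoh.IsCohenMacaulayLocalRing A]
    (d : ℕ) (hd : ringKrullDim A = d) (u v : Fin d → A)
    (hu : ∀ i, u i ∈ IsLocalRing.maximalIdeal A) (hu' : IsLocalRing.maximalIdeal A ≤ (Ideal.span (Set.range u)).radical)
    (hv : ∀ i, v i ∈ IsLocalRing.maximalIdeal A) (hv' : IsLocalRing.maximalIdeal A ≤ (Ideal.span (Set.range v)).radical) :
    ∃ (m : ℕ) (w : Fin (m + 1) → Fin d → A), w 0 = u ∧ w (Fin.last m) = v ∧
      (∀ k : Fin (m + 1), (∀ i, w k i ∈ IsLocalRing.maximalIdeal A) ∧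
        IsLocalRing.maximalIdeal A ≤ (Ideal.span (Set.range (w k))).radical) ∧
      (∀ k : Fin m, ∃ i : Fin d, ∀ i' : Fin d, i' ≠ i → w k.castSucc i' = w k.succ i') := by
  rcases Nat.eq_zero_or_pos d with hd0 | hdpos
  · subst hd0
    have huv : u = v := Subsingleton.elim _ _
    exact ⟨0, fun _ => u, rfl, huv, fun _ => ⟨hu, hu'⟩, fun k => k.elim0⟩
  · obtain ⟨W, hW, hWk⟩ := exists_W hd u v ⟨hu, hu'⟩ ⟨hv, hv'⟩ d le_rfl
    refine ⟨2 * d, fun t => chainFn W u v (t : ℕ), ?_, ?_, ?_, ?_⟩
    · show chainFn W u v ((0 : Fin (2 * d + 1)) : ℕ) = u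
      rw [Fin.val_zero, chainFn_le W u v (Nat.zero_le d), mix_zero]
    · show chainFn W u v ((Fin.last (2 * d) : Fin (2 * d + 1)) : ℕ) = v
      rw [Fin.val_last, chainFn_ge W u v (by omega), show 2 * d - 2 * d = 0 by omega, mix_zero]
    · intro t
      show Sop (chainFn W u v (t : ℕ))
      by_cases ht : (t : ℕ) ≤ d
      · rw [chainFn_le W u v ht]
        exact (hWk _ ht).1
      · have ht2 := t.2
        rw [chainFn_ge W u v (by omega)]
        exact (hWk _ (by omega)).2
    · intro k
      have hk2 := k.2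
      by_cases hk : (k : ℕ) + 1 ≤ d
      · refine ⟨⟨(k : ℕ), by omega⟩, fun i' hi' => ?_⟩
        show chainFn W u v ((k.castSucc : Fin (2 * d + 1)) : ℕ) i' =
          chainFn W u v ((k.succ : Fin (2 * d + 1)) : ℕ) i'
        rw [Fin.val_castSucc, Fin.val_succ, chainFn_le W u v (by omega), chainFn_le W u v hk]
        exact mix_succ_of_ne _ W u i' (fun h => hi' (Fin.ext h))
      · refine ⟨⟨2 * d - ((k : ℕ) + 1), by omega⟩, fun i' hi' => ?_⟩
        show chainFn W u v ((k.castSucc : Fin (2 * d + 1)) : ℕ) i' =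
          chainFn W u v ((k.succ : Fin (2 * d + 1)) : ℕ) i'
        rw [Fin.val_castSucc, Fin.val_succ, chainFn_ge W u v (by omega),
          chainFn_ge W u v (by omega)]
        have e : 2 * d - (k : ℕ) = (2 * d - ((k : ℕ) + 1)) + 1 := by omega
        rw [e]
        exact (mix_succ_of_ne _ W v i' (fun h => hi' (Fin.ext h))).symm

end Groth.Agent.S8586
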