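import Groth.Statements.S1164
import Mathlib

set_option autoImplicit false
universe u
open Desc

namespace Groth.Agent.S1164

open TensorProduct in
/-- Flatness over `R` descends along a faithfully flat ring map `S → S'`. -/
lemma flat_of_faithfullyFlat_of_flat (R S S' : Type u) [CommRing R] [CommRing S] [CommRing S']
    [Algebra R S] [Algebra S S'] [Algebra R S'] [IsScalarTower R S S']
    [Module.FaithfullyFlat S S'] [Module.Flat R S'] : Module.Flat R S := by
  rw [Module.Flat.iff_lTensor_preserves_injective_linearMap]
  intro N N' _ _ _ _ f hf
  have h1 : Function.Injective (f.lTensor S') :=
    Module.Flat.lTensor_preserves_injective_linearMap f hf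
  have h2 : Function.Injective ((f.baseChange S).lTensor S') := by
    have hcomm : ∀ x, (TensorProduct.AlgebraTensorModule.cancelBaseChange R S S' S' N')
        ((f.baseChange S).lTensor S' x) =
        (f.lTensor S') ((TensorProduct.AlgebraTensorModule.cancelBaseChange R S S' S' N) x) := by
      intro x
      induction x using TensorProduct.induction_on with
      | zero => simp
      | tmul s' y =>
        induction y using TensorProduct.induction_on with
        | zero => simp
        | tmul s n => simp
        | add a b ha hb => simp only [TensorProduct.tmul_add, map_add, ha, hb]
      | add a b ha hb => simp only [map_add, ha, hb]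
    intro x y hxy
    apply (TensorProduct.AlgebraTensorModule.cancelBaseChange R S S' S' N).injective
    apply h1
    rw [← hcomm, ← hcomm, hxy]
  have h3 : Function.Injective (f.baseChange S) :=
    (Module.FaithfullyFlat.lTensor_injective_iff_injective (R := S) (M := S')
      (f.baseChange S)).1 h2
  exact h3

/-- Let R → S be a local homomorphism of local rings. Let R' be a local ring which is a localization at
a prime of an etale R-algebra, with R → R' local, and similarly S' for S, and suppose S' is an
R'-algebra compatibly with the given maps. Then R → S is flat if and only if R' → S' is flat. (This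
is the statement that flatness of a morphism of germs is etale local on source and target together.) -/
theorem result (R S R' S' : Type u) [CommRing R] [CommRing S] [CommRing R'] [CommRing S']
    [IsLocalRing R] [IsLocalRing S] [IsLocalRing R'] [IsLocalRing S']
    [Algebra R S] [IsLocalHom (algebraMap R S)] [Algebra R R'] [IsLocalHom (algebraMap R R')]
    [Algebra S S'] [IsLocalHom (algebraMap S S')] [Algebra R' S'] [Algebra R S']
    [IsScalarTower R R' S'] [IsScalarTower R S S']
    (E : Type u) [CommRing E] [Algebra R E] [Algebra.Etale R E] (P : Ideal E) [P.IsPrime]
    [Algebra E R'] [IsScalarTower R E R'] [IsLocalization.AtPrime R' P]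
    (F : Type u) [CommRing F] [Algebra S F] [Algebra.Etale S F] (Q : Ideal F) [Q.IsPrime]
    [Algebra F S'] [IsScalarTower S F S'] [IsLocalization.AtPrime S' Q] :
    Module.Flat R S ↔ Module.Flat R' S' := by
  have : Module.Flat R E := inferInstance
  have : Module.Flat E R' := IsLocalization.flat R' P.primeCompl
  have : Module.Flat R R' := Module.Flat.trans R E R'
  have : Module.Flat S F := inferInstance
  have : Module.Flat F S' := IsLocalization.flat S' Q.primeCompl
  have : Module.Flat S S' := Module.Flat.trans S F S'
  have : Module.FaithfullyFlat S S' := Module.FaithfullyFlat.of_flat_of_isLocalHom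
  have : Algebra.FormallyUnramified E R' :=
    Algebra.FormallyUnramified.of_isLocalization P.primeCompl
  have : Algebra.FormallyUnramified R R' := Algebra.FormallyUnramified.comp R E R'
  have : Algebra.EssFiniteType E R' := Algebra.EssFiniteType.of_isLocalization R' P.primeCompl
  have : Algebra.EssFiniteType R R' := Algebra.EssFiniteType.comp R E R'
  constructor
  · intro h
    have : Module.Flat R S' := Module.Flat.trans R S S'
    exact Algebra.FormallyUnramified.flat_of_restrictScalars R R' S'
  · intro h
    have : Module.Flat R S' := Module.Flat.trans R R' S'
    exact flat_of_faithfullyFlat_of_flat R S S'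

end Groth.Agent.S1164
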