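import Groth.Statements.S1177
import Groth.Agent.H8.FpqcDescent
import Groth.Agent.H8.RankLocFree
import Groth.Agent.H8.LocFreeSections

set_option autoImplicit false
open CategoryTheory CategoryTheory.Limits AlgebraicGeometry Opposite
universe u
open Desc

namespace Groth.Agent.S1177

/-- Let g : X' ⟶ X be quasi-compact, flat and surjective and F a quasi-coherent O_X-module. If the
pullback g^*F is a finite locally free O_{X'}-module, then F is finite locally free. -/
theorem result {X X' : Scheme.{u}} (g : X' ⟶ X) [QuasiCompact g] [Flat g] [Surjective g]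
    (F : X.Modules) [F.IsQuasicoherent] (h : FlatMod.IsFinLocFree ((Scheme.Modules.pullback g).obj F)) :
    FlatMod.IsFinLocFree F := by
  haveI := Groth.Agent.H8.isQuasicoherent_pullback g F
  intro x
  obtain ⟨U, hU, hxU, -⟩ := exists_isAffineOpen_mem_and_subset (x := x)
    (U := (⊤ : X.Opens)) trivial
  haveI hfp : Module.FinitePresentation Γ(X, U) Γ(F, U) :=
    Groth.Agent.H8.finitePresentation_sections_of_pullback g F hU (fun W _ =>
      (Groth.Agent.H8.finitePresentation_projective_sections_of_isFinLocFree
        ((Scheme.Modules.pullback g).obj F) h W.2).1)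
  obtain ⟨x', rfl⟩ := g.surjective x
  haveI : Module.Free (X.presheaf.stalk (g x')) (F.presheaf.stalk (g x')) := by
    haveI : Module.Finite (X.presheaf.stalk (g x')) (F.presheaf.stalk (g x')) :=
      Groth.Agent.H8.finite_stalk_of_finite_sections F hU (g x') hxU
    haveI : Module.Flat (X.presheaf.stalk (g x')) (F.presheaf.stalk (g x')) := by
      obtain ⟨W, n, hx'W, ⟨e⟩⟩ := h x'
      obtain ⟨b⟩ := Groth.Agent.H8.exists_basis_stalk_of_restrict_iso
        ((Scheme.Modules.pullback g).obj F) e x' hx'W
      obtain ⟨E⟩ := Groth.Agent.H8.nonempty_stalk_pullback_equiv g F x'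
      letI := (g.stalkMap x').hom.toAlgebra
      haveI : IsLocalHom (algebraMap (X.presheaf.stalk (g x')) (X'.presheaf.stalk x')) :=
        (inferInstance : IsLocalHom (g.stalkMap x').hom)
      haveI : Module.Flat (X.presheaf.stalk (g x')) (X'.presheaf.stalk x') := Flat.stalkMap g x'
      haveI : Module.FaithfullyFlat (X.presheaf.stalk (g x')) (X'.presheaf.stalk x') :=
        Module.FaithfullyFlat.of_flat_of_isLocalHom
      haveI : Module.Free (X'.presheaf.stalk x')
          (((Scheme.Modules.pullback g).obj F).presheaf.stalk x') := Module.Free.of_basis b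
      haveI : Module.Flat (X'.presheaf.stalk x')
          (TensorProduct (X.presheaf.stalk (g x')) (X'.presheaf.stalk x')
            (F.presheaf.stalk (g x'))) := Module.Flat.of_linearEquiv E.symm
      exact Module.Flat.of_flat_tensorProduct (X.presheaf.stalk (g x')) (F.presheaf.stalk (g x'))
        (X'.presheaf.stalk x')
    exact Module.free_of_flat_of_isLocalRing
  obtain ⟨f, hxf, n, hn⟩ :=
    Groth.Agent.H8.exists_basicOpen_restrict_iso_freeMod_of_free_stalk F hU (g x') hxU
  exact ⟨X.basicOpen f, n, hxf, hn⟩

end Groth.Agent.S1177
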