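import Groth.Statements.S1178
import Groth.Agent.H8.FPAffine
import Groth.Agent.H8.FinType
import Groth.Agent.H8.QCohPush
import Mathlib

set_option autoImplicit false
open CategoryTheory CategoryTheory.Limits AlgebraicGeometry Opposite
universe u
open Desc

namespace Groth.Agent.S1178

/-- For a finite, finitely presented `A`-algebra `B`, a `B`-module is finitely presented over `B`
iff it is finitely presented over `A`. -/
theorem finitePresentation_iff_of_finite {A B : Type u} [CommRing A] [CommRing B] [Algebra A B]
    [Module.Finite A B] [Algebra.FinitePresentation A B] (M : Type u) [AddCommGroup M]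
    [Module B M] [Module A M] [IsScalarTower A B M] :
    Module.FinitePresentation B M ↔ Module.FinitePresentation A M := by
  constructor
  · intro h
    haveI : Module.FinitePresentation A B :=
      Module.FinitePresentation.of_finite_of_finitePresentation A B
    exact Module.FinitePresentation.trans A M B
  · intro h
    haveI : Module.Finite B M := Module.Finite.of_restrictScalars_finite A B M
    obtain ⟨n, l, hl⟩ := Module.Finite.exists_fin' B M
    refine Module.finitePresentation_of_surjective l hl ?_
    have h1 : (LinearMap.ker (l.restrictScalars A)).FG :=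
      Module.FinitePresentation.fg_ker (l.restrictScalars A) hl
    have h2 : LinearMap.ker (l.restrictScalars A) = (LinearMap.ker l).restrictScalars A := rfl
    rw [h2] at h1
    exact Submodule.FG.of_restrictScalars A h1


/-- Let f : X ⟶ Y be finite and locally of finite presentation and F a quasi-coherent O_X-module. Then F
is finitely presented exactly when its pushforward f_*F is a finitely presented O_Y-module. -/
theorem result {X Y : Scheme.{u}} (f : X ⟶ Y) [IsFinite f] [LocallyOfFinitePresentation f]
    (F : X.Modules) [F.IsQuasicoherent] :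
    CohB1.IsFP F ↔ CohB1.IsFP ((Scheme.Modules.pushforward f).obj F) := by
  haveI := Groth.Agent.H8.isQuasicoherent_pushforward f F
  have key : ∀ V : Y.affineOpens,
      Module.FinitePresentation Γ(Y, V.1) Γ((Scheme.Modules.pushforward f).obj F, V.1) ↔
        Module.FinitePresentation Γ(X, f ⁻¹ᵁ V.1) Γ(F, f ⁻¹ᵁ V.1) := by
    intro V
    letI aAB : Algebra Γ(Y, V.1) Γ(X, f ⁻¹ᵁ V.1) := (f.app V.1).hom.toAlgebra
    haveI : Module.Finite Γ(Y, V.1) Γ(X, f ⁻¹ᵁ V.1) := f.finite_app V.1 V.2
    haveI : Algebra.FinitePresentation Γ(Y, V.1) Γ(X, f ⁻¹ᵁ V.1) := by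
      have := f.finitePresentation_appLE V.2 (V.2.preimage f) le_rfl
      rw [Scheme.Hom.appLE_eq_app] at this
      exact this
    letI mA : Module Γ(Y, V.1) Γ(F, f ⁻¹ᵁ V.1) := Module.compHom _ (f.app V.1).hom
    haveI : IsScalarTower Γ(Y, V.1) Γ(X, f ⁻¹ᵁ V.1) Γ(F, f ⁻¹ᵁ V.1) :=
      IsScalarTower.of_algebraMap_smul fun r m => rfl
    rw [finitePresentation_iff_of_finite (A := Γ(Y, V.1)) (B := Γ(X, f ⁻¹ᵁ V.1))
      Γ(F, f ⁻¹ᵁ V.1)]
    let e : Γ((Scheme.Modules.pushforward f).obj F, V.1) ≃ₗ[Γ(Y, V.1)] Γ(F, f ⁻¹ᵁ V.1) :=
      { toFun := fun y => y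
        invFun := fun y => y
        map_add' := fun _ _ => rfl
        map_smul' := fun r y => rfl
        left_inv := fun _ => rfl
        right_inv := fun _ => rfl }
    exact ⟨fun h => Module.FinitePresentation.of_equiv e,
      fun h => Module.FinitePresentation.of_equiv e.symm⟩
  constructor
  · intro h
    haveI : SheafOfModules.IsFinitePresentation (R := X.ringCatSheaf) F := h
    apply Groth.Agent.H8.isFinitePresentation_of_forall_affine_finitePresentation
    intro V
    rw [key V]
    exact Groth.Agent.H8.finitePresentation_sections_of_isAffineOpen F (V.2.preimage f)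
  · intro h
    haveI : SheafOfModules.IsFinitePresentation (R := Y.ringCatSheaf)
      ((Scheme.Modules.pushforward f).obj F) := h
    refine Groth.Agent.H8.isFinitePresentation_of_finitePresentation_sections F
      (fun V : Y.affineOpens => f ⁻¹ᵁ V.1) ?_ (fun V => V.2.preimage f) ?_
    · show (⨆ V : Y.affineOpens, f ⁻¹ᵁ V.1) = ⊤
      rw [← Scheme.Hom.preimage_iSup, iSup_affineOpens_eq_top]
      rfl
    · intro V
      rw [← key V]
      exact Groth.Agent.H8.finitePresentation_sections_of_isAffineOpen _ V.2

end Groth.Agent.S1178
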