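import Groth.Statements.S1183
import Groth.Agent.S9438
import Groth.Agent.H29.HomComp
import Groth.Agent.H63.SmoothRegular

set_option autoImplicit false
universe u
open Desc

namespace Groth.Agent.S1183

/-- Let A → B be a smooth ring map of Noetherian rings and k a natural number. If A satisfies (R_k) then
so does B; and if moreover A → B is faithfully flat and B satisfies (R_k), then A does. -/
theorem result (A B : Type u) [CommRing A] [CommRing B] [IsNoetherianRing A] [IsNoetherianRing B]
    [Algebra A B] [Algebra.Smooth A B] (k : ℕ) :
    (LocCoh.HasRk k A → LocCoh.HasRk k B) ∧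
    (Module.FaithfullyFlat A B → LocCoh.HasRk k B → LocCoh.HasRk k A) := by
  haveI : Module.Flat A B := inferInstance
  refine ⟨fun hA => ?_, fun hff hB => ?_⟩
  · intro q hq hht
    haveI := Groth.Agent.H15.FlatLoc.isLocalRing_fibLocRing A B q
    obtain ⟨hdim, -, hreg⟩ := Groth.Agent.H15.FlatLoc.flat_data A B q
    rw [← IsLocalRing.maximalIdeal_height_eq_ringKrullDim] at hdim
    have hdim' : q.height = (q.comap (algebraMap A B)).height +
        (IsLocalRing.maximalIdeal (EGA4.FibLocRing A B q)).height := by exact_mod_cast hdim
    have h1 : (q.comap (algebraMap A B)).height ≤ (k : ℕ∞) :=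
      le_trans (hdim' ▸ le_self_add) hht
    have hAp : IsRegularLocalRing (Localization.AtPrime (q.comap (algebraMap A B))) := hA _ h1
    have hfib : ∀ (Q : Ideal A) [Q.IsPrime], IsRegularRing (Q.Fiber B) := by
      intro Q _
      haveI : Algebra.Smooth Q.ResidueField (Q.Fiber B) := inferInstance
      haveI : IsRegularRing Q.ResidueField := inferInstance
      exact Groth.Agent.H63.SmoothRegular.isRegularRing_of_smooth Q.ResidueField (Q.Fiber B)
    exact hreg hAp (Groth.Agent.H29.HomComp.isRegularLocalRing_fibLocRing hfib q)
  · haveI := hff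
    exact (Groth.Agent.S9438.result k A B hB).2

end Groth.Agent.S1183
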