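import Groth.Statements.S5148
import Mathlib.CategoryTheory.Galois.Prorepresentability
import Mathlib.CategoryTheory.Galois.Decomposition
import Mathlib.CategoryTheory.Galois.Full
import Mathlib.CategoryTheory.Galois.Topology

set_option autoImplicit false
universe u v w
open CategoryTheory PreGaloisCategory
open Pi1

namespace Groth.Agent.S5148

open CategoryTheory.Limits in
theorem unique_fiber_terminal {C' : Type u} [Category.{v} C'] [GaloisCategory C']
    (F' : C' ⥤ FintypeCat.{w}) [FiberFunctor F'] : Nonempty (Unique (F'.obj (⊤_ C'))) :=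
  ⟨(Types.isTerminalEquivUnique _)
    ((terminalIsTerminal (C := C')).isTerminalObj (F' ⋙ FintypeCat.incl) _)⟩

/-- Galois correspondence, existence of a morphism: if the stabilizer of `y'` is contained in the
stabilizer of `a'` and `Y'` is connected there is a morphism `Y' ⟶ X'`. -/
theorem exists_hom_of_stabilizer_le {C' : Type u} [Category.{v} C'] [GaloisCategory C']
    (F' : C' ⥤ FintypeCat.{w}) [FiberFunctor F'] (Y' X' : C') [IsConnected Y']
    (y' : F'.obj Y') (a' : F'.obj X')
    (hstab' : ∀ σ : Aut F', σ.hom.app Y' y' = y' → σ.hom.app X' a' = a') :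
    Nonempty (Y' ⟶ X') := by
  let φ : F'.obj Y' → F'.obj X' := fun z =>
    (Classical.choose (MulAction.exists_smul_eq (Aut F') y' z)) • a'
  have hφ : ∀ σ : Aut F', φ (σ • y') = σ • a' := by
    intro σ
    have hτ := Classical.choose_spec (MulAction.exists_smul_eq (Aut F') y' (σ • y'))
    have h1 : (σ⁻¹ * Classical.choose (MulAction.exists_smul_eq (Aut F') y' (σ • y'))) • y' = y' := by
      rw [mul_smul, hτ, inv_smul_smul]
    have h2 : (σ⁻¹ * Classical.choose (MulAction.exists_smul_eq (Aut F') y' (σ • y'))) • a' = a' :=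
      hstab' _ h1
    show Classical.choose (MulAction.exists_smul_eq (Aut F') y' (σ • y')) • a' = σ • a'
    rw [mul_smul, inv_smul_eq_iff] at h2
    exact h2
  have hequiv : ∀ (g : Aut F') (z : F'.obj Y'), φ (g • z) = g • φ z := by
    intro g z
    obtain ⟨σ, rfl⟩ := MulAction.exists_smul_eq (Aut F') y' z
    rw [← mul_smul, hφ, hφ, mul_smul]
  let f : (functorToAction F').obj Y' ⟶ (functorToAction F').obj X' :=
    ⟨FintypeCat.homMk φ, fun g => FintypeCat.hom_ext _ _ (fun z => hequiv g z)⟩
  obtain ⟨q, -⟩ := (functorToAction F').map_surjective f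
  exact ⟨q⟩

open CategoryTheory.Limits in
/-- For an exact functor H : C ⥤ C' of Galois categories with compatible fibre functors, the induced
homomorphism u of fundamental groups and a connected object X' of C' with a point a' of its fibre
and stabilizer U': the kernel of u lies in U' if and only if some connected subobject of some H(X)
maps to X'. -/
theorem result {C C' : Type u} [Category.{v} C] [Category.{v} C']
    [GaloisCategory C] [GaloisCategory C'] (H : C ⥤ C') [PreservesFiniteLimits H] [PreservesFiniteColimits H]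
    (F' : C' ⥤ FintypeCat.{w}) [FiberFunctor F'] [FiberFunctor (H ⋙ F')] (X' : C') [IsConnected X']
    (a' : F'.obj X') :
    (Pi1X.autWhisker H F').ker ≤ MulAction.stabilizer (Aut F') a' ↔
      ∃ (X : C) (Y' : C') (i : Y' ⟶ H.obj X) (q : Y' ⟶ X'), Mono i ∧ IsConnected Y' := by
  constructor
  · intro hle
    have hcont : ∀ (Z : C') (z : F'.obj Z), Continuous (fun σ : Aut F' => σ • z) :=
      fun Z z => continuous_id.smul continuous_const
    have hopen : ∀ (Z : C') (z : F'.obj Z), IsOpen {σ : Aut F' | σ.hom.app Z z = z} :=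
      fun Z z => (hcont Z z).isOpen_preimage {z} (isOpen_discrete _)
    have hclosed : ∀ (Z : C') (z : F'.obj Z), IsClosed {σ : Aut F' | σ.hom.app Z z = z} :=
      fun Z z => IsClosed.preimage (hcont Z z) (isClosed_discrete {z})
    obtain ⟨hu⟩ := unique_fiber_terminal (H ⋙ F')
    haveI : Nonempty (Σ X : C, F'.obj (H.obj X)) := ⟨⟨⊤_ C, hu.default⟩⟩
    let U : (Σ X : C, F'.obj (H.obj X)) → Set (Aut F') :=
      fun p => {σ | σ.hom.app (H.obj p.1) p.2 ≠ p.2}
    have hUo : ∀ p, IsOpen (U p) := fun p => (hclosed _ p.2).isOpen_compl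
    have hs : IsCompact {σ : Aut F' | σ.hom.app X' a' ≠ a'} :=
      ((hopen X' a').isClosed_compl).isCompact
    have hsU : {σ : Aut F' | σ.hom.app X' a' ≠ a'} ⊆ ⋃ p, U p := by
      intro σ hσ
      by_contra hcon
      rw [Set.mem_iUnion] at hcon
      push Not at hcon
      have h1 : Pi1X.autWhisker H F' σ = 1 := by
        apply Iso.ext
        apply NatTrans.ext
        funext X
        apply FintypeCat.hom_ext
        intro x
        exact not_not.1 (hcon ⟨X, x⟩)
      have h2 : σ ∈ MulAction.stabilizer (Aut F') a' := hle (MonoidHom.mem_ker.2 h1)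
      exact hσ (MulAction.mem_stabilizer_iff.1 h2)
    have hdU : Directed (· ⊆ ·) U := by
      intro p₁ p₂
      have e1 : (H ⋙ F').map prod.fst
          ((fiberBinaryProductEquiv (H ⋙ F') p₁.1 p₂.1).symm (p₁.2, p₂.2)) = p₁.2 :=
        fiberBinaryProductEquiv_symm_fst_apply (H ⋙ F') _ _
      have e2 : (H ⋙ F').map prod.snd
          ((fiberBinaryProductEquiv (H ⋙ F') p₁.1 p₂.1).symm (p₁.2, p₂.2)) = p₂.2 :=
        fiberBinaryProductEquiv_symm_snd_apply (H ⋙ F') _ _
      refine ⟨⟨p₁.1 ⨯ p₂.1, (fiberBinaryProductEquiv (H ⋙ F') p₁.1 p₂.1).symm (p₁.2, p₂.2)⟩,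
        ?_, ?_⟩
      · intro σ hσ hcon
        apply hσ
        calc σ.hom.app (H.obj p₁.1) p₁.2
            = σ.hom.app (H.obj p₁.1) (F'.map (H.map prod.fst)
                ((fiberBinaryProductEquiv (H ⋙ F') p₁.1 p₂.1).symm (p₁.2, p₂.2))) :=
              congrArg _ e1.symm
          _ = F'.map (H.map prod.fst) (σ.hom.app _
                ((fiberBinaryProductEquiv (H ⋙ F') p₁.1 p₂.1).symm (p₁.2, p₂.2))) :=
              NatTrans.naturality_apply σ.hom _ _
          _ = F'.map (H.map prod.fst)
                ((fiberBinaryProductEquiv (H ⋙ F') p₁.1 p₂.1).symm (p₁.2, p₂.2)) := by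
              rw [hcon]
          _ = p₁.2 := e1
      · intro σ hσ hcon
        apply hσ
        calc σ.hom.app (H.obj p₂.1) p₂.2
            = σ.hom.app (H.obj p₂.1) (F'.map (H.map prod.snd)
                ((fiberBinaryProductEquiv (H ⋙ F') p₁.1 p₂.1).symm (p₁.2, p₂.2))) :=
              congrArg _ e2.symm
          _ = F'.map (H.map prod.snd) (σ.hom.app _
                ((fiberBinaryProductEquiv (H ⋙ F') p₁.1 p₂.1).symm (p₁.2, p₂.2))) :=
              NatTrans.naturality_apply σ.hom _ _
          _ = F'.map (H.map prod.snd)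
                ((fiberBinaryProductEquiv (H ⋙ F') p₁.1 p₂.1).symm (p₁.2, p₂.2)) := by
              rw [hcon]
          _ = p₂.2 := e2
    obtain ⟨⟨X, x⟩, hsub⟩ := hs.elim_directed_cover U hUo hsU hdU
    have hstab : ∀ σ : Aut F', σ.hom.app (H.obj X) x = x → σ.hom.app X' a' = a' := by
      intro σ hσ
      by_contra hcon
      exact hsub hcon hσ
    obtain ⟨Y', i, y', hy', hconn, hmono⟩ := fiber_in_connected_component F' (H.obj X) x
    haveI := hconn
    have hstab' : ∀ σ : Aut F', σ.hom.app Y' y' = y' → σ.hom.app X' a' = a' := by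
      intro σ hσ
      apply hstab
      rw [← hy']
      have h3 := NatTrans.naturality_apply σ.hom i y'
      rw [h3, hσ]
    obtain ⟨q⟩ := exists_hom_of_stabilizer_le F' Y' X' y' a' hstab'
    exact ⟨X, Y', i, q, hmono, hconn⟩
  · rintro ⟨X, Y', i, q, hmono, hconn⟩ σ hσ
    haveI := hmono
    haveI := hconn
    rw [MulAction.mem_stabilizer_iff]
    have h1 : Pi1X.autWhisker H F' σ = 1 := MonoidHom.mem_ker.1 hσ
    have hfix : ∀ z : F'.obj (H.obj X), σ.hom.app (H.obj X) z = z := by
      intro z
      have h2 := congrArg (fun τ : Aut (H ⋙ F') => τ.hom.app X z) h1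
      exact h2
    have hinj : Function.Injective (F'.map i) :=
      ConcreteCategory.injective_of_mono_of_preservesPullback (F'.map i)
    have hfixY : ∀ y : F'.obj Y', σ.hom.app Y' y = y := by
      intro y
      apply hinj
      have h3 := NatTrans.naturality_apply σ.hom i y
      rw [← h3]
      exact hfix _
    obtain ⟨y, hy⟩ := surjective_of_nonempty_fiber_of_isConnected F' q a'
    show σ.hom.app X' a' = a'
    rw [← hy]
    have h4 := NatTrans.naturality_apply σ.hom q y
    rw [h4, hfixY]

end Groth.Agent.S5148
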