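import Groth.Statements.S1188
import Groth.Agent.S5148
import Groth.Agent.H92.GalCat

set_option autoImplicit false
universe u v w
open CategoryTheory PreGaloisCategory
open Pi1

namespace Groth.Agent.S1188

/-- Let H : C ⥤ C' be an exact functor between Galois categories and F' a fibre functor on C' such that
F' ∘ H is a fibre functor on C; write h : π_1(C', F') → π_1(C, F' ∘ H) for the induced homomorphism
of fundamental groups. Then h is injective if and only if for every connected object X' of C' there
are an object X of C, an object Y' of C', an epimorphism Y' ⟶ X' and a monomorphism Y' ⟶ H(X). -/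
theorem result {C C' : Type u} [Category.{v} C] [Category.{v} C'] [GaloisCategory C] [GaloisCategory C']
    (H : C ⥤ C') [Limits.PreservesFiniteLimits H] [Limits.PreservesFiniteColimits H]
    (F' : C' ⥤ FintypeCat.{w}) [FiberFunctor F'] [FiberFunctor (H ⋙ F')] :
    Function.Injective (Pi1X.autWhisker H F') ↔
      ∀ X' : C', IsConnected X' → ∃ (X : C) (Y' : C') (p : Y' ⟶ X') (q : Y' ⟶ H.obj X), Epi p ∧ Mono q := by
  constructor
  · intro hinj X' hX'
    haveI := hX'
    obtain ⟨a'⟩ := nonempty_fiber_of_isConnected F' X'
    have hker : (Pi1X.autWhisker H F').ker ≤ MulAction.stabilizer (Aut F') a' := by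
      rw [(MonoidHom.ker_eq_bot_iff _).2 hinj]
      exact bot_le
    obtain ⟨X, Y', i, q, hmono, hconn⟩ := (Groth.Agent.S5148.result H F' X' a').1 hker
    haveI := hconn
    exact ⟨X, Y', q, i, epi_of_nonempty_of_isConnected F' q, hmono⟩
  · intro h
    rw [injective_iff_map_eq_one]
    intro σ hσ
    have hfix : ∀ (X : C) (x : F'.obj (H.obj X)), σ.hom.app (H.obj X) x = x :=
      (Groth.Agent.H92.GalCat.mem_ker_autWhisker_iff H F' σ).1 (MonoidHom.mem_ker.2 hσ)
    apply Iso.ext
    apply NatTrans.ext
    funext Z
    apply FintypeCat.hom_ext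
    intro z
    obtain ⟨X', j, z', hz', hconn, hmono⟩ := fiber_in_connected_component F' Z z
    obtain ⟨X, Y', p, q, hp, hq⟩ := h X' hconn
    obtain ⟨y, hy⟩ := surjective_on_fiber_of_epi F' p z'
    have hinj : Function.Injective (F'.map q) :=
      ConcreteCategory.injective_of_mono_of_preservesPullback (F'.map q)
    have hy1 : σ • y = y := by
      apply hinj
      rw [← mulAction_naturality]
      exact hfix X _
    show σ • z = z
    rw [← hz', ← hy, mulAction_naturality, mulAction_naturality, hy1]

end Groth.Agent.S1188
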