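import Groth.Statements.S1190
import Groth.Agent.S1187
import Groth.Agent.S1189
import Groth.Agent.H92.GalCatSeq

set_option autoImplicit false
universe u v w
open CategoryTheory PreGaloisCategory
open Pi1

namespace Groth.Agent.S1190

/-- Let H : C ⥤ C' and H' : C' ⥤ C'' be exact functors between Galois categories, F'' a fibre functor on
C'' with F'' ∘ H' and F'' ∘ H' ∘ H fibre functors, and h', h the induced homomorphisms of
fundamental groups. Then: h is surjective, h ∘ h' is trivial and the kernel of h is the closed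
normal subgroup generated by the image of h', if and only if H is fully faithful and its essential
image consists exactly of those X' in C' for which H'(X') is a finite coproduct of copies of the
final object. -/
theorem result {C C' C'' : Type u} [Category.{v} C] [Category.{v} C'] [Category.{v} C'']
    [GaloisCategory C] [GaloisCategory C'] [GaloisCategory C'']
    (H : C ⥤ C') [Limits.PreservesFiniteLimits H] [Limits.PreservesFiniteColimits H]
    (H' : C' ⥤ C'') [Limits.PreservesFiniteLimits H'] [Limits.PreservesFiniteColimits H']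
    (F'' : C'' ⥤ FintypeCat.{w}) [FiberFunctor F''] [FiberFunctor (H' ⋙ F'')] [FiberFunctor (H ⋙ (H' ⋙ F''))] :
    (Function.Surjective (Pi1X.autWhisker H (H' ⋙ F'')) ∧
      (∀ σ : Aut F'', Pi1X.autWhisker H (H' ⋙ F'') (Pi1X.autWhisker H' F'' σ) = 1) ∧
      (Pi1X.autWhisker H (H' ⋙ F'')).ker = (Subgroup.normalClosure (Set.range (Pi1X.autWhisker H' F''))).topologicalClosure) ↔
    ((H.Full ∧ H.Faithful) ∧
      ∀ X' : C', (∃ X : C, Nonempty (H.obj X ≅ X')) ↔ ∃ n : ℕ, Nonempty (H'.obj X' ≅ ∐ fun _ : Fin n => ⊤_ C'')) := by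
  have h1187 := Groth.Agent.S1187.result H (H' ⋙ F'')
  have h1189 := Groth.Agent.S1189.result H H' F''
  constructor
  · rintro ⟨hsurj, htriv, hker⟩
    refine ⟨h1187.1 hsurj, fun X' => ⟨?_, ?_⟩⟩
    · rintro ⟨X, ⟨e⟩⟩
      obtain ⟨n, ⟨e'⟩⟩ := h1189.1 htriv X
      exact ⟨n, ⟨H'.mapIso e.symm ≪≫ e'⟩⟩
    · rintro ⟨n, ⟨e⟩⟩
      have hfix : ∀ σ ∈ (Pi1X.autWhisker H (H' ⋙ F'')).ker,
          ∀ z : (H' ⋙ F'').obj X', σ • z = z := by
        intro σ hσ
        rw [hker] at hσ
        have hle : (Subgroup.normalClosure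
            (Set.range (Pi1X.autWhisker H' F''))).topologicalClosure ≤
            Groth.Agent.H92.GalCat.fiberKer (H' ⋙ F'') X' := by
          apply Subgroup.topologicalClosure_minimal _ _
            (Groth.Agent.H92.GalCat.isClosed_fiberKer _ X')
          apply Subgroup.normalClosure_le_normal
          rintro _ ⟨σ'', rfl⟩
          rw [SetLike.mem_coe, Groth.Agent.H92.GalCat.mem_fiberKer_iff]
          intro z
          exact Groth.Agent.H92.GalCat.trivial_action_of_completely_decomposed F'' (H'.obj X')
            n e σ'' z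
        exact (Groth.Agent.H92.GalCat.mem_fiberKer_iff _ σ).1 (hle hσ)
      obtain ⟨ι, hfin, f, e1, hc⟩ := has_decomp_connected_components' X'
      have hex : ∀ i, ∃ X : C, Nonempty (H.obj X ≅ f i) := by
        intro i
        have := hc i
        obtain ⟨a'⟩ := nonempty_fiber_of_isConnected (H' ⋙ F'') (f i)
        apply Groth.Agent.H92.GalCat.exists_iso_obj_of_ker_le H (H' ⋙ F'') hsurj (f i) a'
        intro σ hσ
        rw [MulAction.mem_stabilizer_iff]
        have hmono : Mono (Limits.Sigma.ι f i ≫ e1.hom) := mono_comp _ _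
        have hinj := ConcreteCategory.injective_of_mono_of_preservesPullback
          ((H' ⋙ F'').map (Limits.Sigma.ι f i ≫ e1.hom))
        apply hinj
        rw [← mulAction_naturality]
        exact hfix σ hσ _
      choose Xs hXs using hex
      have : Fintype ι := Fintype.ofFinite ι
      exact ⟨∐ Xs, ⟨Limits.PreservesCoproduct.iso H Xs ≪≫
        Limits.Sigma.mapIso (fun i => (hXs i).some) ≪≫ e1⟩⟩
  · rintro ⟨hff, hB2⟩
    have hsurj := h1187.2 hff
    have htriv : ∀ σ : Aut F'',
        Pi1X.autWhisker H (H' ⋙ F'') (Pi1X.autWhisker H' F'' σ) = 1 :=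
      h1189.2 (fun X => (hB2 (H.obj X)).1 ⟨X, ⟨Iso.refl _⟩⟩)
    refine ⟨hsurj, htriv, le_antisymm ?_ ?_⟩
    · intro σ hσ
      by_contra hσM
      have hMn : (Subgroup.normalClosure
          (Set.range (Pi1X.autWhisker H' F''))).topologicalClosure.Normal :=
        Subgroup.is_normal_topologicalClosure _
      obtain ⟨U, hUo, hUn, hMU, hσU⟩ :=
        Groth.Agent.H92.GalCat.exists_open_normal_of_closed_normal (H' ⋙ F'') _
          (Subgroup.isClosed_topologicalClosure _) σ hσM
      obtain ⟨X', a', hX'c, hstab⟩ :=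
        Groth.Agent.H92.GalCat.exists_connected_stabilizer_eq (H' ⋙ F'') U hUo
      have hnorm : (MulAction.stabilizer (Aut (H' ⋙ F'')) a').Normal := hstab ▸ hUn
      have htrivX' : ∀ (σ'' : Aut F'') (z : F''.obj (H'.obj X')), σ'' • z = z := by
        intro σ'' z
        have hmem : Pi1X.autWhisker H' F'' σ'' ∈
            MulAction.stabilizer (Aut (H' ⋙ F'')) a' := by
          rw [hstab]
          apply hMU
          apply Subgroup.le_topologicalClosure
          apply Subgroup.subset_normalClosure
          exact ⟨σ'', rfl⟩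
        exact Groth.Agent.H92.GalCat.smul_eq_of_mem_normal_stabilizer (H' ⋙ F'') X' a' hnorm
          _ hmem z
      obtain ⟨X, ⟨e⟩⟩ := (hB2 X').2
        (Groth.Agent.H92.GalCat.completely_decomposed_of_trivial_action F'' (H'.obj X') htrivX')
      apply hσU
      rw [← hstab, MulAction.mem_stabilizer_iff]
      have hσfix := (Groth.Agent.H92.GalCat.mem_ker_autWhisker_iff H (H' ⋙ F'') σ).1 hσ X
      have h3 : (H' ⋙ F'').map e.hom ((H' ⋙ F'').map e.inv a') = a' := by
        rw [← FintypeCat.comp_apply, ← (H' ⋙ F'').map_comp, e.inv_hom_id, (H' ⋙ F'').map_id]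
        rfl
      rw [← h3, mulAction_naturality]
      congr 1
      exact hσfix _
    · apply Subgroup.topologicalClosure_minimal _ _
        (Groth.Agent.H92.GalCat.isClosed_ker_autWhisker H (H' ⋙ F''))
      apply Subgroup.normalClosure_le_normal
      rintro _ ⟨σ'', rfl⟩
      exact MonoidHom.mem_ker.2 (htriv σ'')

end Groth.Agent.S1190
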