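import Groth.Statements.S13632
import Mathlib
-- import your own Groth.Agent.* helpers here

set_option autoImplicit false
universe u
open TensorProduct
open CAlg

namespace Groth.Agent.S13632

/-- Tor-vanishing for flat quotient. -/
theorem lTensor_exact_injective {R : Type u} [CommRing R] {K B A : Type u} [AddCommGroup K]
    [Module R K] [AddCommGroup B]
    [Module R B] [AddCommGroup A] [Module R A] [Module.Flat R A] (g : B →ₗ[R] A)
    (hg : Function.Surjective g) (g₁ : K →ₗ[R] B) (hg₁ : Function.Injective g₁)
    (hex : Function.Exact g₁ g) (N : Type u) [AddCommGroup N] [Module R N] :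
    Function.Injective (LinearMap.lTensor N g₁) := by
  have hπ : Function.Surjective (Finsupp.linearCombination R (id : N → N)) := by
    intro n
    exact ⟨Finsupp.single n 1, by simp⟩
  refine lTensor_injective_of_exact_of_exact_of_rTensor_injective
    (M₁ := LinearMap.ker (Finsupp.linearCombination R (id : N → N))) (M₂ := N →₀ R) (M₃ := N)
    (N₁ := K) (N₂ := B) (N₃ := A)
    (f₁ := (LinearMap.ker (Finsupp.linearCombination R (id : N → N))).subtype)
    (f₂ := Finsupp.linearCombination R (id : N → N))
    (g₁ := g₁) (g₂ := g) ?_ hπ hex hg ?_ ?_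
  · exact LinearMap.exact_subtype_ker_map _
  · exact Module.Flat.rTensor_preserves_injective_linearMap (M := A)
      (LinearMap.ker (Finsupp.linearCombination R (id : N → N))).subtype
      (Submodule.injective_subtype _)
  · exact Module.Flat.lTensor_preserves_injective_linearMap (M := N →₀ R) g₁ hg₁

/-- finite case -/
theorem injective_of_fibres {R : Type u} [CommRing R] {M N : Type u} [AddCommGroup M] [Module R M]
    [AddCommGroup N] [Module R N] [Module.Finite R M] [Module.Finite R N] [Module.Flat R N]
    (g : M →ₗ[R] N)
    (h : ∀ (m : Ideal R) [m.IsMaximal],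
      Function.Injective (LinearMap.lTensor m.ResidueField g)) : Function.Injective g := by
  apply injective_of_isLocalized_maximal
    (fun (P : Ideal R) [P.IsMaximal] => Localization.AtPrime P ⊗[R] M)
    (fun (P : Ideal R) [P.IsMaximal] => TensorProduct.mk R (Localization.AtPrime P) M 1)
    (fun (P : Ideal R) [P.IsMaximal] => Localization.AtPrime P ⊗[R] N)
    (fun (P : Ideal R) [P.IsMaximal] => TensorProduct.mk R (Localization.AtPrime P) N 1)
  intro P hP
  have heq : IsLocalizedModule.map P.primeCompl
      (TensorProduct.mk R (Localization.AtPrime P) M 1)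
      (TensorProduct.mk R (Localization.AtPrime P) N 1) g =
      (g.baseChange (Localization.AtPrime P)).restrictScalars R := by
    apply IsLocalizedModule.linearMap_ext P.primeCompl
      (TensorProduct.mk R (Localization.AtPrime P) M 1)
      (TensorProduct.mk R (Localization.AtPrime P) N 1)
    rw [IsLocalizedModule.map_comp]
    ext x
    simp
  rw [heq]
  haveI : Module.Free (Localization.AtPrime P) (Localization.AtPrime P ⊗[R] N) :=
    Module.free_of_flat_of_isLocalRing
  have hinj : Function.Injective
      ((g.baseChange (Localization.AtPrime P)).lTensor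
        (IsLocalRing.ResidueField (Localization.AtPrime P))) := by
    have h1 := TensorProduct.AlgebraTensorModule.lTensor_comp_cancelBaseChange
      (R := R) (A := Localization.AtPrime P) (B := P.ResidueField) (M := P.ResidueField) g
    intro z w hzw
    have hz : ∀ z : P.ResidueField ⊗[Localization.AtPrime P] (Localization.AtPrime P ⊗[R] M),
        (TensorProduct.AlgebraTensorModule.cancelBaseChange R (Localization.AtPrime P)
          P.ResidueField P.ResidueField N)
          ((g.baseChange (Localization.AtPrime P)).lTensor P.ResidueField z) =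
        LinearMap.lTensor P.ResidueField g
          ((TensorProduct.AlgebraTensorModule.cancelBaseChange R (Localization.AtPrime P)
          P.ResidueField P.ResidueField M) z) := by
      intro z
      have := LinearMap.congr_fun h1 z
      have e : LinearMap.baseChange (Localization.AtPrime P) g =
        (AlgebraTensorModule.lTensor (Localization.AtPrime P) (Localization.AtPrime P)) g := rfl
      rw [e]
      simpa using this.symm
    have h2 := congrArg (TensorProduct.AlgebraTensorModule.cancelBaseChange R
      (Localization.AtPrime P) P.ResidueField P.ResidueField N) hzw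
    rw [hz, hz] at h2
    exact (TensorProduct.AlgebraTensorModule.cancelBaseChange R (Localization.AtPrime P)
          P.ResidueField P.ResidueField M).injective (h P h2)
  obtain ⟨l', hl'⟩ := (IsLocalRing.split_injective_iff_lTensor_residueField_injective
    (g.baseChange (Localization.AtPrime P))).mpr hinj
  intro a b hab
  have ha := LinearMap.congr_fun hl' a
  have hb := LinearMap.congr_fun hl' b
  simp only [LinearMap.comp_apply, LinearMap.id_apply] at ha hb
  rw [← ha, ← hb]
  exact congrArg l' hab


theorem surjective_of_fibres {R : Type u} [CommRing R] {M N : Type u} [AddCommGroup M] [Module R M]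
    [AddCommGroup N] [Module R N] [Module.Finite R N] (g : M →ₗ[R] N)
    (h : ∀ (m : Ideal R) [m.IsMaximal], Function.Surjective (LinearMap.lTensor m.ResidueField g)) :
    Function.Surjective g := by
  have hQ : Subsingleton (N ⧸ LinearMap.range g) := by
    rw [← Module.support_eq_empty_iff (R := R)]
    by_contra hne
    obtain ⟨p, hp⟩ := Set.nonempty_iff_ne_empty.mpr hne
    obtain ⟨m, hm, hpm⟩ := Ideal.exists_le_maximal p.asIdeal p.2.ne_top
    have hmem : (⟨m, hm.isPrime⟩ : PrimeSpectrum R) ∈ Module.support R (N ⧸ LinearMap.range g) :=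
      Module.mem_support_mono (p := p) (q := ⟨m, hm.isPrime⟩) hpm hp
    rw [Module.mem_support_iff_nontrivial_residueField_tensorProduct] at hmem
    obtain ⟨a, b, hab⟩ := hmem
    have hz : ∀ z : m.ResidueField ⊗[R] (N ⧸ LinearMap.range g), z = 0 := by
      intro z
      obtain ⟨y, rfl⟩ := LinearMap.lTensor_surjective m.ResidueField
        (Submodule.mkQ_surjective (LinearMap.range g)) z
      obtain ⟨w, rfl⟩ := h m y
      rw [← LinearMap.comp_apply, ← LinearMap.lTensor_comp, LinearMap.range_mkQ_comp,
        LinearMap.lTensor_zero, LinearMap.zero_apply]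
    exact hab ((hz a).trans (hz b).symm)
  intro n
  have h0 : (LinearMap.range g).mkQ n = 0 := Subsingleton.elim _ _
  rw [Submodule.mkQ_apply, Submodule.Quotient.mk_eq_zero] at h0
  exact h0

theorem fibre_injective {R A B : Type u} [CommRing R] [CommRing A] [CommRing B] [Algebra R A]
    [Algebra R B] [Module.Finite R A] (f : B →ₐ[R] A) (hsurj : Function.Surjective f)
    (p : PrimeSpectrum R)
    (hrank : Module.rank p.asIdeal.ResidueField (p.asIdeal.ResidueField ⊗[R] B) =
        Module.rank p.asIdeal.ResidueField (p.asIdeal.ResidueField ⊗[R] A)) :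
    Function.Injective (LinearMap.lTensor p.asIdeal.ResidueField f.toLinearMap) := by
  have hfinB : Module.Finite p.asIdeal.ResidueField (p.asIdeal.ResidueField ⊗[R] B) := by
    rw [← Module.rank_lt_aleph0_iff, hrank]
    exact Module.rank_lt_aleph0 _ _
  have hfin : Module.finrank p.asIdeal.ResidueField (p.asIdeal.ResidueField ⊗[R] B) =
      Module.finrank p.asIdeal.ResidueField (p.asIdeal.ResidueField ⊗[R] A) := by
    unfold Module.finrank; rw [hrank]
  have h1 : Function.Surjective (f.toLinearMap.baseChange p.asIdeal.ResidueField) := by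
    rw [LinearMap.baseChange_eq_ltensor]
    exact LinearMap.lTensor_surjective _ hsurj
  have h2 := (LinearMap.injective_iff_surjective_of_finrank_eq_finrank hfin
    (f := f.toLinearMap.baseChange p.asIdeal.ResidueField)).mpr h1
  rw [LinearMap.baseChange_eq_ltensor] at h2
  exact h2

theorem tensor_ker_subsingleton {R A B : Type u} [CommRing R] [CommRing A] [CommRing B]
    [Algebra R A] [Algebra R B] [Module.Flat R A] (f : B →ₐ[R] A)
    (hsurj : Function.Surjective f) (N : Type u) [AddCommGroup N] [Module R N]
    (hinj : Function.Injective (LinearMap.lTensor N f.toLinearMap)) :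
    Subsingleton (N ⊗[R] ↥(RingHom.ker f)) := by
  set g₁ : ↥(RingHom.ker f) →ₗ[R] B := (RingHom.ker f).subtype.restrictScalars R with hg₁
  have hex : Function.Exact g₁ f.toLinearMap := by
    intro y
    constructor
    · intro hy
      exact ⟨⟨y, hy⟩, rfl⟩
    · rintro ⟨z, rfl⟩
      exact z.2
  have h1 : Function.Injective (LinearMap.lTensor N g₁) :=
    lTensor_exact_injective f.toLinearMap hsurj g₁ Subtype.val_injective hex N
  refine ⟨fun a b => ?_⟩
  apply h1
  apply hinj
  rw [← LinearMap.comp_apply, ← LinearMap.comp_apply, ← LinearMap.lTensor_comp]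
  have : f.toLinearMap ∘ₗ g₁ = 0 := hex.linearMap_comp_eq_zero
  rw [this, LinearMap.lTensor_zero]
  rfl

theorem ker_fg {R A B : Type u} [CommRing R] [CommRing A] [CommRing B] [Algebra R A] [Algebra R B]
    [Module.Finite R A] [Module.Flat R A] [Algebra.FiniteType R B] (f : B →ₐ[R] A)
    (hmax : ∀ (m : Ideal R) [m.IsMaximal],
      Function.Injective (LinearMap.lTensor m.ResidueField f.toLinearMap)) :
    (RingHom.ker f).FG := by
  classical
  obtain ⟨s, hs⟩ := (Algebra.FiniteType.out : (⊤ : Subalgebra R B).FG)
  have hint : ∀ x : B, ∃ P : Polynomial R, P.Monic ∧ Polynomial.aeval (f x) P = 0 := by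
    intro x
    obtain ⟨P, hP, hP0⟩ := Algebra.IsIntegral.isIntegral (R := R) (f x)
    exact ⟨P, hP, by rw [Polynomial.aeval_def]; exact hP0⟩
  choose P hPm hP0 using hint
  set J : Ideal B := Ideal.span ((fun x => Polynomial.aeval x (P x)) '' (s : Set B)) with hJ
  have hJfg : J.FG := ⟨(s.image fun x => Polynomial.aeval x (P x)), by rw [hJ, Finset.coe_image]⟩
  have hJle : J ≤ RingHom.ker f := by
    rw [hJ, Ideal.span_le]
    rintro _ ⟨x, _, rfl⟩
    rw [SetLike.mem_coe, RingHom.mem_ker, ← Polynomial.aeval_algHom_apply]
    exact hP0 x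
  have hfin : Module.Finite R (B ⧸ J) := by
    have hadj : Algebra.adjoin R ((Ideal.Quotient.mkₐ R J) '' (s : Set B)) = ⊤ := by
      rw [← AlgHom.map_adjoin, hs, Algebra.map_top, AlgHom.range_eq_top]
      exact Ideal.Quotient.mkₐ_surjective R J
    rw [Module.finite_def, ← Algebra.top_toSubmodule, ← hadj]
    apply fg_adjoin_of_finite (s.finite_toSet.image _)
    rintro _ ⟨x, hx, rfl⟩
    refine ⟨P x, hPm x, ?_⟩
    rw [← Polynomial.aeval_def, Polynomial.aeval_algHom_apply, Ideal.Quotient.mkₐ_eq_mk]
    exact Ideal.Quotient.eq_zero_iff_mem.mpr (Ideal.subset_span ⟨x, hx, rfl⟩)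
  let f' : B ⧸ J →ₐ[R] A := Ideal.Quotient.liftₐ J f (fun a ha => hJle ha)
  have hf' : ∀ x : B, f' (Ideal.Quotient.mk J x) = f x := fun x => rfl
  have hcomp : f'.toLinearMap ∘ₗ (Ideal.Quotient.mkₐ R J).toLinearMap = f.toLinearMap := by
    ext x
    exact hf' x
  have hinj' : Function.Injective f'.toLinearMap := by
    apply injective_of_fibres
    intro m hm
    rw [injective_iff_map_eq_zero]
    intro z hz
    obtain ⟨y, rfl⟩ := LinearMap.lTensor_surjective m.ResidueField
      (g := (Ideal.Quotient.mkₐ R J).toLinearMap) (Ideal.Quotient.mkₐ_surjective R J) z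
    rw [← LinearMap.comp_apply, ← LinearMap.lTensor_comp, hcomp] at hz
    have : y = 0 := (injective_iff_map_eq_zero _).mp (hmax m) y hz
    rw [this, map_zero]
  have hker : RingHom.ker f = J := by
    apply le_antisymm _ hJle
    intro y hy
    rw [RingHom.mem_ker] at hy
    have h1 : f' (Ideal.Quotient.mk J y) = 0 := by rw [hf' y]; exact hy
    have h2 : Ideal.Quotient.mk J y = 0 :=
      hinj' (by rw [AlgHom.toLinearMap_apply, h1, map_zero])
    exact Ideal.Quotient.eq_zero_iff_mem.mp h2
  rw [hker]
  exact hJfg

/-- Let S = Spec R, X = Spec A finite and flat over S, Y = Spec B of finite type over S, and φ : X → Y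
an S-morphism given by f : B → A. If for every point s of S the fibres X_s and Y_s have the same
order (the κ(s)-dimension of their rings of global sections κ(s) ⊗ A and κ(s) ⊗ B; equivalently at
every geometric point) and φ is an isomorphism over every closed point of S (κ(m) ⊗ f bijective for
every maximal ideal m), then φ is an isomorphism, i.e. f is bijective. (The published statement
allows an arbitrary base scheme S and Y separated of finite type over S; this row is the case of an
affine base with X and Y affine, the case its proof treats directly. Over a base with no closed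
points the general statement fails: the hypothesis at closed points is then empty.) -/
theorem result
    {R A B : Type u} [CommRing R] [CommRing A] [CommRing B] [Algebra R A] [Algebra R B]
    [Module.Finite R A] [Module.Flat R A] [Algebra.FiniteType R B]
    (f : B →ₐ[R] A)
    (hrank : ∀ p : PrimeSpectrum R,
      Module.rank p.asIdeal.ResidueField (p.asIdeal.ResidueField ⊗[R] B) =
        Module.rank p.asIdeal.ResidueField (p.asIdeal.ResidueField ⊗[R] A))
    (hmax : ∀ (m : Ideal R) [m.IsMaximal],
      Function.Bijective (LinearMap.lTensor m.ResidueField f.toLinearMap)) :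
    Function.Bijective f := by
  classical
  have hsurj : Function.Surjective f :=
    surjective_of_fibres f.toLinearMap (fun m _ => (hmax m).2)
  refine ⟨?_, hsurj⟩
  rw [injective_iff_map_eq_zero]
  intro y hy
  by_contra hne
  have hfg : (RingHom.ker f).FG := ker_fg f (fun m _ => (hmax m).1)
  haveI : Module.Finite B ↥(RingHom.ker f) := Module.Finite.iff_fg.mpr hfg
  haveI : Nontrivial ↥(RingHom.ker f) :=
    ⟨⟨⟨y, hy⟩, 0, fun h => hne (congrArg Subtype.val h)⟩⟩
  have hsupp : (Module.support B ↥(RingHom.ker f)).Nonempty := by
    rw [Set.nonempty_iff_ne_empty, ne_eq, Module.support_eq_empty_iff]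
    exact not_subsingleton _
  obtain ⟨q, hq⟩ := hsupp
  rw [Module.mem_support_iff_nontrivial_residueField_tensorProduct] at hq
  let p : PrimeSpectrum R := ⟨q.asIdeal.comap (algebraMap R B), inferInstance⟩
  let φ : p.asIdeal.ResidueField →ₐ[R] q.asIdeal.ResidueField :=
    Ideal.ResidueField.mapₐ p.asIdeal q.asIdeal (Algebra.ofId R B) rfl
  haveI := tensor_ker_subsingleton f hsurj p.asIdeal.ResidueField
    (fibre_injective f hsurj p (hrank p))
  have hzero : ∀ z : q.asIdeal.ResidueField ⊗[B] ↥(RingHom.ker f), z = 0 := by
    intro z
    induction z using TensorProduct.induction_on with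
    | zero => rfl
    | add a b ha hb => rw [ha, hb, add_zero]
    | tmul c w =>
      have h0 : (1 : p.asIdeal.ResidueField) ⊗ₜ[R] w = 0 := Subsingleton.elim _ _
      have h1 := congrArg (TensorProduct.map φ.toLinearMap
        (LinearMap.id : ↥(RingHom.ker f) →ₗ[R] ↥(RingHom.ker f))) h0
      rw [TensorProduct.map_tmul, map_zero] at h1
      have h2 := congrArg (TensorProduct.mapOfCompatibleSMul B R R q.asIdeal.ResidueField
        ↥(RingHom.ker f)) h1
      simp only [AlgHom.toLinearMap_apply, map_one, LinearMap.id_apply,
        TensorProduct.mapOfCompatibleSMul_tmul, map_zero] at h2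
      have : c ⊗ₜ[B] w = c • ((1 : q.asIdeal.ResidueField) ⊗ₜ[B] w) := by
        rw [TensorProduct.smul_tmul', smul_eq_mul, mul_one]
      rw [this, h2, smul_zero]
  obtain ⟨a, b, hab⟩ := hq
  exact hab ((hzero a).trans (hzero b).symm)

end Groth.Agent.S13632
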