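import Groth.Statements.S14002
import Groth.Agent.H57.LocalCrit
import Mathlib.RingTheory.AdicCompletion.Basic
import Mathlib.RingTheory.Flat.Stability

set_option autoImplicit false
universe u
open CAlg

namespace Groth.Agent.S14002

open TensorProduct in
/-- Flatness of an adic morphism of locally Noetherian formal schemes is detected on the truncations.
Let B → A be a homomorphism of Noetherian rings and J an ideal of B such that A is adically
separated and complete with respect to the extended ideal JA. Then A is a flat B-module if and only
if for every n ≥ 1 the base change (B/Jⁿ) ⊗_B A = A/JⁿA is a flat (B/Jⁿ)-module. The ring B is not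
assumed separated or complete for the J-adic topology. (The published statement is about an adic
morphism of locally Noetherian formal schemes, so that both rings are adic there; the criterion
holds without that assumption on B.) -/
theorem result (B A : Type u) [CommRing B] [CommRing A]
    [IsNoetherianRing B] [IsNoetherianRing A] [Algebra B A] (J : Ideal B)
    [IsAdicComplete (J.map (algebraMap B A)) A] :
    Module.Flat B A ↔ ∀ n : ℕ, 0 < n → Module.Flat (B ⧸ J ^ n) ((B ⧸ J ^ n) ⊗[B] A) := by
  constructor
  · intro h n _
    infer_instance
  · intro h
    refine Groth.Agent.H57.flat_of_flat_mod_pow (S := A) J ?_ ?_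
    · exact IsAdicComplete.le_jacobson_bot _
    · intro k
      rcases Nat.eq_zero_or_pos k with rfl | hk
      · haveI : Subsingleton (B ⧸ J ^ 0) :=
          Ideal.Quotient.subsingleton_iff.mpr (by rw [pow_zero, Ideal.one_eq_top])
        haveI : Subsingleton ((B ⧸ J ^ 0) ⊗[B] A) := Module.subsingleton (B ⧸ J ^ 0) _
        infer_instance
      · exact h k hk

end Groth.Agent.S14002
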