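import Groth.Statements.S12056
import Mathlib

set_option autoImplicit false
open Red

namespace Groth.Agent.S12056

/-- In formal-power-series form, let R be a commutative ring and F ∈ R⟦X⟧ with constant term 1 whose
linear coefficient a is a unit of R. Suppose that in R⟦X₀, X₁⟧ one has F(X₀ + X₁ · F(X₀)) = F(X₀) ·
F(X₁) (the functional equation F(x + y F(x)) = F(x) F(y)). Then F = 1 + a X. (The published
statement concerns a morphism to the multiplicative group from an open neighbourhood of the zero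
section in the additive group over a base scheme, the identity holding on an open neighbourhood of
the origin of the plane on which all terms are defined, with a the derivative at 0; this row states
it for formal power series over a ring.) -/
theorem result (R : Type) [CommRing R] (F : PowerSeries R)
    (h0 : PowerSeries.constantCoeff F = 1) (ha : IsUnit (PowerSeries.coeff 1 F))
    (hFE : PowerSeries.subst
        (MvPowerSeries.X (0 : Fin 2) + MvPowerSeries.X 1 * PowerSeries.subst (MvPowerSeries.X (0 : Fin 2)) F :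
          MvPowerSeries (Fin 2) R) F =
      PowerSeries.subst (MvPowerSeries.X (0 : Fin 2)) F * PowerSeries.subst (MvPowerSeries.X (1 : Fin 2)) F) :
    F = 1 + PowerSeries.C (PowerSeries.coeff 1 F) * PowerSeries.X := by
  classical
  have cXmul : ∀ (s : Fin 2) (m : Fin 2 →₀ ℕ) (φ : MvPowerSeries (Fin 2) R),
      MvPowerSeries.coeff (Finsupp.single s 1 + m) (MvPowerSeries.X s * φ) =
        MvPowerSeries.coeff m φ := by
    intro s m φ
    rw [MvPowerSeries.X_def, MvPowerSeries.coeff_add_monomial_mul, one_mul]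
  have hs0 : PowerSeries.HasSubst (MvPowerSeries.X (0 : Fin 2) : MvPowerSeries (Fin 2) R) :=
    PowerSeries.HasSubst.X 0
  have hs1 : PowerSeries.HasSubst (MvPowerSeries.X (1 : Fin 2) : MvPowerSeries (Fin 2) R) :=
    PowerSeries.HasSubst.X 1
  obtain ⟨G0, hG0⟩ : ∃ G : MvPowerSeries (Fin 2) R,
      G = PowerSeries.subst (MvPowerSeries.X (0 : Fin 2)) F := ⟨_, rfl⟩
  obtain ⟨G1, hG1⟩ : ∃ G : MvPowerSeries (Fin 2) R,
      G = PowerSeries.subst (MvPowerSeries.X (1 : Fin 2)) F := ⟨_, rfl⟩
  rw [← hG0, ← hG1] at hFE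
  obtain ⟨A, hA⟩ : ∃ A : MvPowerSeries (Fin 2) R,
      A = MvPowerSeries.X 0 + MvPowerSeries.X 1 * G0 := ⟨_, rfl⟩
  obtain ⟨B, hB⟩ : ∃ B : MvPowerSeries (Fin 2) R,
      B = MvPowerSeries.X 1 + MvPowerSeries.X 0 * G1 := ⟨_, rfl⟩
  rw [← hA] at hFE
  have hsA : PowerSeries.HasSubst A := by
    apply PowerSeries.HasSubst.of_constantCoeff_zero
    rw [hA]
    simp
  have hsB : PowerSeries.HasSubst B := by
    apply PowerSeries.HasSubst.of_constantCoeff_zero
    rw [hB]
    simp
  -- the swap
  have hb : MvPowerSeries.HasSubst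
      (![MvPowerSeries.X 1, MvPowerSeries.X 0] : Fin 2 → MvPowerSeries (Fin 2) R) :=
    MvPowerSeries.HasSubst.X_X
  obtain ⟨σ, hσ⟩ : ∃ σ : MvPowerSeries (Fin 2) R → MvPowerSeries (Fin 2) R,
      σ = MvPowerSeries.subst
        (![MvPowerSeries.X 1, MvPowerSeries.X 0] : Fin 2 → MvPowerSeries (Fin 2) R) := ⟨_, rfl⟩
  have hσX0 : σ (MvPowerSeries.X 0) = MvPowerSeries.X 1 := by
    rw [hσ, MvPowerSeries.subst_X hb]
    rfl
  have hσX1 : σ (MvPowerSeries.X 1) = MvPowerSeries.X 0 := by
    rw [hσ, MvPowerSeries.subst_X hb]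
    rfl
  have hσadd : ∀ f g : MvPowerSeries (Fin 2) R, σ (f + g) = σ f + σ g := by
    intro f g
    rw [hσ]
    exact MvPowerSeries.subst_add hb f g
  have hσmul : ∀ f g : MvPowerSeries (Fin 2) R, σ (f * g) = σ f * σ g := by
    intro f g
    rw [hσ]
    exact MvPowerSeries.subst_mul hb f g
  have hσsub : ∀ a : MvPowerSeries (Fin 2) R, PowerSeries.HasSubst a →
      σ (PowerSeries.subst a F) = PowerSeries.subst (σ a) F := by
    intro a ha'
    rw [hσ]
    exact MvPowerSeries.subst_comp_subst_apply ha'.const hb F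
  have hσG0 : σ G0 = G1 := by
    rw [hG0, hσsub _ hs0, hσX0, ← hG1]
  have hσG1 : σ G1 = G0 := by
    rw [hG1, hσsub _ hs1, hσX1, ← hG0]
  have hσA : σ A = B := by
    rw [hA, hσadd, hσmul, hσX0, hσX1, hσG0, ← hB]
  have hFE' : PowerSeries.subst B F = G1 * G0 := by
    have h := congrArg σ hFE
    rw [hσsub A hsA, hσA, hσmul, hσG0, hσG1] at h
    exact h
  have hAB : PowerSeries.subst A F = PowerSeries.subst B F := by
    rw [hFE, hFE', mul_comm]
  -- compositional inverse
  obtain ⟨P, hP⟩ : ∃ P : PowerSeries R, P = F - 1 := ⟨_, rfl⟩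
  have hP0 : PowerSeries.constantCoeff P = 0 := by
    rw [hP, map_sub, h0, map_one, sub_self]
  have hP1 : PowerSeries.coeff 1 P = PowerSeries.coeff 1 F := by
    rw [hP, map_sub, PowerSeries.coeff_one, if_neg one_ne_zero, sub_zero]
  have hP1u : IsUnit (PowerSeries.coeff 1 P) := by
    rw [hP1]
    exact ha
  have hsP : PowerSeries.HasSubst P := PowerSeries.HasSubst.of_constantCoeff_zero' hP0
  have hsub1 : ∀ a : MvPowerSeries (Fin 2) R, PowerSeries.HasSubst a →
      PowerSeries.subst a (1 : PowerSeries R) = 1 := by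
    intro a ha'
    rw [← PowerSeries.coe_substAlgHom ha', map_one]
  have hsubP : ∀ a : MvPowerSeries (Fin 2) R, PowerSeries.HasSubst a →
      PowerSeries.subst a P = PowerSeries.subst a F - 1 := by
    intro a ha'
    rw [hP, PowerSeries.subst_sub ha', hsub1 a ha']
  have hABP : PowerSeries.subst A P = PowerSeries.subst B P := by
    rw [hsubP A hsA, hsubP B hsB, hAB]
  obtain ⟨Q, hQ⟩ : ∃ Q : PowerSeries R, PowerSeries.subst P Q = PowerSeries.X :=
    ⟨P.substInvOfIsUnit hP1u, PowerSeries.subst_substInvOfIsUnit_left P hP0 hP1u⟩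
  have hAeqB : A = B := by
    have h1 : PowerSeries.subst A (PowerSeries.subst P Q) =
        PowerSeries.subst (PowerSeries.subst A P) Q :=
      PowerSeries.subst_comp_subst_apply hsP hsA Q
    have h2 : PowerSeries.subst B (PowerSeries.subst P Q) =
        PowerSeries.subst (PowerSeries.subst B P) Q :=
      PowerSeries.subst_comp_subst_apply hsP hsB Q
    rw [hQ, PowerSeries.subst_X hsA] at h1
    rw [hQ, PowerSeries.subst_X hsB] at h2
    rw [h1, h2, hABP]
  -- coefficients
  have hcoef : ∀ j : ℕ, 2 ≤ j → PowerSeries.coeff j F = 0 := by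
    intro j hj
    have e1 : (Finsupp.single (0 : Fin 2) 1 + Finsupp.single (1 : Fin 2) j : Fin 2 →₀ ℕ) =
        Finsupp.single (1 : Fin 2) 1 +
          (Finsupp.single (0 : Fin 2) 1 + Finsupp.single (1 : Fin 2) (j - 1)) := by
      ext i
      fin_cases i
      · simp
      · simp <;> omega
    have t1 : MvPowerSeries.coeff (Finsupp.single (0 : Fin 2) 1 + Finsupp.single (1 : Fin 2) j)
        (MvPowerSeries.X 0 : MvPowerSeries (Fin 2) R) = 0 := by
      rw [MvPowerSeries.coeff_X, if_neg]
      intro hh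
      have h3 := DFunLike.congr_fun hh 1
      exact absurd h3 (by simp [Finsupp.single_apply] <;> omega)
    have t3 : MvPowerSeries.coeff (Finsupp.single (0 : Fin 2) 1 + Finsupp.single (1 : Fin 2) j)
        (MvPowerSeries.X 1 : MvPowerSeries (Fin 2) R) = 0 := by
      rw [MvPowerSeries.coeff_X, if_neg]
      intro hh
      have h3 := DFunLike.congr_fun hh 0
      exact absurd h3 (by simp [Finsupp.single_apply])
    have t2 : MvPowerSeries.coeff (Finsupp.single (0 : Fin 2) 1 + Finsupp.single (1 : Fin 2) j)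
        (MvPowerSeries.X 1 * G0) = 0 := by
      rw [e1, cXmul 1, hG0, PowerSeries.coeff_subst_single, if_neg]
      intro hh
      have h3 := DFunLike.congr_fun hh 1
      exact absurd h3 (by simp [Finsupp.single_apply] <;> omega)
    have t4 : MvPowerSeries.coeff (Finsupp.single (0 : Fin 2) 1 + Finsupp.single (1 : Fin 2) j)
        (MvPowerSeries.X 0 * G1) = PowerSeries.coeff j F := by
      rw [cXmul 0, hG1, PowerSeries.coeff_subst_single]
      have hc : (Finsupp.single (1 : Fin 2) j : Fin 2 →₀ ℕ) =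
          Finsupp.single 1 ((Finsupp.single (1 : Fin 2) j : Fin 2 →₀ ℕ) 1) := by
        rw [Finsupp.single_eq_same]
      rw [if_pos hc, Finsupp.single_eq_same]
    have h := congrArg
      (MvPowerSeries.coeff (Finsupp.single (0 : Fin 2) 1 + Finsupp.single (1 : Fin 2) j)) hAeqB
    rw [hA, hB, map_add, map_add, t1, t2, t3, t4, add_zero, zero_add] at h
    exact h.symm
  ext n
  rw [map_add, PowerSeries.coeff_one, PowerSeries.coeff_C_mul, PowerSeries.coeff_X]
  rcases n with _ | _ | n
  · simp [h0]
  · simp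
  · rw [hcoef (n + 1 + 1) (by omega)]
    simp

end Groth.Agent.S12056
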