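import Groth.Statements.S12057
-- import your own Groth.Agent.* helpers here
import Groth.Agent.H8.LocIso

set_option autoImplicit false
universe u
open CategoryTheory CategoryTheory.Limits AlgebraicGeometry
open FGA

namespace Groth.Agent.S12057

/-- Let f : X ⟶ S be a morphism of schemes such that for every open U of S the induced map from sections
of the structure sheaf of S over U to sections of the structure sheaf of X over the inverse image of
U is bijective. Let L be an invertible module on X which is trivial locally over S: every point of S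
has an open neighbourhood U such that the restriction of L to the inverse image of U is isomorphic
to the structure sheaf. Then L is isomorphic to the pullback along f of an invertible module on S.
(The relative Picard group here is the group of global sections of the first higher direct image of
the sheaf of units, so its elements vanishing are exactly the classes trivial locally over the
base.) -/
theorem result {X S : Scheme.{u}} (f : X ⟶ S)
    (hf : ∀ U : S.Opens, Function.Bijective (f.app U)) (L : X.Modules) (hL : PicF.IsInvertible L)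
    (hloc : ∀ s : S, ∃ U : S.Opens, s ∈ U ∧
      Nonempty ((Scheme.Modules.pullback (f ⁻¹ᵁ U).ι).obj L ≅ Coh.structureModule (f ⁻¹ᵁ U))) :
    ∃ N : S.Modules, PicF.IsInvertible N ∧ Nonempty (L ≅ (Scheme.Modules.pullback f).obj N) := by
  classical
  have key : ∀ (U : S.Opens), Nonempty ((Scheme.Modules.pullback (f ⁻¹ᵁ U).ι).obj L ≅
      Coh.structureModule (f ⁻¹ᵁ U)) →
      Nonempty ((Scheme.Modules.pullback U.ι).obj ((Scheme.Modules.pushforward f).obj L) ≅
        Coh.structureModule U) := by
    rintro U ⟨et⟩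
    have hsq : IsPullback (f ⁻¹ᵁ U).ι (f ∣_ U) f U.ι := (isPullback_morphismRestrict f U).flip
    haveI := Groth.Agent.H8.isIso_uMap_of_isOpenImmersion hsq L
    haveI : IsIso (Groth.Agent.H8.canPush (f ∣_ U)) :=
      Groth.Agent.H8.isIso_canPush _ (Groth.Agent.H8.UnitFLF.morphismRestrict_app_bijective f U hf)
    exact ⟨asIso (Groth.Agent.H8.AffBC.uMap f U.ι (f ⁻¹ᵁ U).ι (f ∣_ U) hsq.w L) ≪≫
      (Scheme.Modules.pushforward (f ∣_ U)).mapIso et ≪≫
      (asIso (Groth.Agent.H8.canPush (f ∣_ U))).symm⟩
  have hN : PicF.IsInvertible ((Scheme.Modules.pushforward f).obj L) := by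
    intro s
    obtain ⟨U, hs, ht⟩ := hloc s
    obtain ⟨e⟩ := key U ht
    exact ⟨U, hs, ⟨(Scheme.Modules.restrictFunctorIsoPullback U.ι).app _ ≪≫ e⟩⟩
  refine ⟨(Scheme.Modules.pushforward f).obj L, hN, ?_⟩
  have hu := Groth.Agent.H8.UnitFLF.isIso_unit_of_isFinLocFree f hf _
    (Groth.Agent.H8.isFinLocFree_of_isInvertible hN)
  have h1 := Groth.Agent.H8.isIso_pushforward_counit L hu
  haveI : IsIso ((Scheme.Modules.pullbackPushforwardAdjunction f).counit.app L) := by
    apply Groth.Agent.H8.isIso_of_isIso_pullback_opens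
    intro x
    obtain ⟨U, hs, ⟨et⟩⟩ := hloc (f x)
    refine ⟨f ⁻¹ᵁ U, hs, ?_⟩
    have hsq : IsPullback (f ⁻¹ᵁ U).ι (f ∣_ U) f U.ι := (isPullback_morphismRestrict f U).flip
    have h2 := Groth.Agent.H8.isIso_pushforward_pullback_map' f U.ι (f ⁻¹ᵁ U).ι (f ∣_ U) hsq.w
      ((Scheme.Modules.pullbackPushforwardAdjunction f).counit.app L)
      (Groth.Agent.H8.isIso_uMap_of_isOpenImmersion hsq _)
      (Groth.Agent.H8.isIso_uMap_of_isOpenImmersion hsq _) h1
    obtain ⟨e⟩ := key U ⟨et⟩
    let e₁ : (Scheme.Modules.pullback (f ⁻¹ᵁ U).ι).obj ((Scheme.Modules.pullback f).obj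
        ((Scheme.Modules.pushforward f).obj L)) ≅ Coh.structureModule (f ⁻¹ᵁ U) :=
      (Scheme.Modules.pullbackComp (f ⁻¹ᵁ U).ι f).app _ ≪≫
        (Scheme.Modules.pullbackCongr hsq.w).app _ ≪≫
        ((Scheme.Modules.pullbackComp (f ∣_ U) U.ι).app _).symm ≪≫
        (Scheme.Modules.pullback (f ∣_ U)).mapIso e ≪≫
        Groth.Agent.H22.PullGen.pullbackUnitIso (f ∣_ U)
    exact Groth.Agent.H8.isIso_of_isIso_pushforward (f ∣_ U) e₁ et _ h2
  exact ⟨(asIso ((Scheme.Modules.pullbackPushforwardAdjunction f).counit.app L)).symm⟩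

end Groth.Agent.S12057
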