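import Groth.Statements.S12058
import Mathlib

set_option autoImplicit false
universe w v u
open CategoryTheory CategoryTheory.Limits CategoryTheory.Abelian
open SGA3

namespace Groth.Agent.S12058

section

variable {C : Type u} [Category.{v} C] [Abelian C]

/-- pushout of a short exact sequence along a morphism out of the subobject -/
lemma pushout_shortExact {T : ShortComplex C} (hT : T.ShortExact) {Y : C} (u : T.X₁ ⟶ Y) :
    ∃ (B : C) (i : Y ⟶ B) (p : B ⟶ T.X₃) (k : T.X₂ ⟶ B) (w : i ≫ p = 0),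
      (ShortComplex.mk i p w).ShortExact ∧ T.f ≫ k = u ≫ i ∧ k ≫ p = T.g := by
  haveI := hT.mono_f
  haveI := hT.epi_g
  have hc : T.f ≫ T.g = u ≫ (0 : Y ⟶ T.X₃) := by rw [T.zero, comp_zero]
  have w : pushout.inr T.f u ≫ pushout.desc T.g (0 : Y ⟶ T.X₃) hc = 0 := pushout.inr_desc _ _ _
  have e2 : pushout.inl T.f u ≫ pushout.desc T.g (0 : Y ⟶ T.X₃) hc = T.g := pushout.inl_desc _ _ _
  refine ⟨pushout T.f u, pushout.inr _ _, pushout.desc T.g 0 hc, pushout.inl _ _, w, ?_,
    pushout.condition, e2⟩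
  have hepi : Epi (pushout.desc T.g (0 : Y ⟶ T.X₃) hc) := epi_of_epi_fac e2
  refine ShortComplex.ShortExact.mk' ?_ inferInstance hepi
  rw [ShortComplex.exact_iff_exact_up_to_refinements]
  intro A z hz
  dsimp at z hz ⊢
  obtain ⟨A₁, π₁, _, x₂, y, eq⟩ :=
    (IsPushout.of_hasPushout T.f u).hom_eq_add_up_to_refinements z
  have hx₂ : x₂ ≫ T.g = 0 := by
    have := eq =≫ pushout.desc T.g (0 : Y ⟶ T.X₃) hc
    rw [Category.assoc, hz, comp_zero, Preadditive.add_comp, Category.assoc, Category.assoc, w, e2,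
      comp_zero, add_zero] at this
    exact this.symm
  obtain ⟨A₂, π₂, _, x₁, hx₁⟩ := hT.exact.exact_up_to_refinements x₂ hx₂
  refine ⟨A₂, π₂ ≫ π₁, epi_comp _ _, x₁ ≫ u + π₂ ≫ y, ?_⟩
  rw [Category.assoc, eq, Preadditive.comp_add, ← Category.assoc, hx₁, Category.assoc,
    pushout.condition, Preadditive.add_comp, Category.assoc, Category.assoc]

variable {S : ShortComplex C} (hS : S.ShortExact) {P : C} (π : S.X₃ ⟶ P) [Epi π]

include hS in
lemma kernel_seq_T :
    (ShortComplex.mk (kernel.ι (S.g ≫ π)) (S.g ≫ π) (kernel.condition _)).ShortExact := by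
  haveI := hS.epi_g
  exact ShortComplex.ShortExact.mk'
    (ShortComplex.exact_of_f_is_kernel _ (kernelIsKernel _)) inferInstance (epi_comp _ _)

lemma wC : kernel.lift (S.g ≫ π) S.f (by rw [← Category.assoc, S.zero, zero_comp]) ≫
    kernel.lift π (kernel.ι (S.g ≫ π) ≫ S.g) (by rw [Category.assoc, kernel.condition]) = 0 := by
  rw [← cancel_mono (kernel.ι π)]
  simp

include hS in
lemma kernel_seq_C :
    (ShortComplex.mk (kernel.lift (S.g ≫ π) S.f (by rw [← Category.assoc, S.zero, zero_comp]))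
      (kernel.lift π (kernel.ι (S.g ≫ π) ≫ S.g) (by rw [Category.assoc, kernel.condition]))
      (wC π)).ShortExact := by
  haveI := hS.mono_f
  haveI := hS.epi_g
  have hmono : Mono (kernel.lift (S.g ≫ π) S.f (by rw [← Category.assoc, S.zero, zero_comp])) :=
    mono_of_mono_fac (kernel.lift_ι _ _ _)
  have hepi : Epi (kernel.lift π (kernel.ι (S.g ≫ π) ≫ S.g)
      (by rw [Category.assoc, kernel.condition])) := by
    rw [epi_iff_surjective_up_to_refinements]
    intro A z
    obtain ⟨A₁, π₁, _, a, ha⟩ := surjective_up_to_refinements_of_epi S.g (z ≫ kernel.ι π)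
    have h0 : a ≫ S.g ≫ π = 0 := by
      rw [← Category.assoc, ← ha, Category.assoc, Category.assoc, kernel.condition, comp_zero,
        comp_zero]
    refine ⟨A₁, π₁, inferInstance, kernel.lift _ a h0, ?_⟩
    rw [← cancel_mono (kernel.ι π)]
    simp [ha]
  refine ShortComplex.ShortExact.mk' ?_ hmono hepi
  rw [ShortComplex.exact_iff_exact_up_to_refinements]
  intro A z hz
  dsimp at z hz ⊢
  have h1 : (z ≫ kernel.ι (S.g ≫ π)) ≫ S.g = 0 := by
    have := hz =≫ kernel.ι π
    simpa using this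
  obtain ⟨A₁, π₁, _, x₁, hx₁⟩ := hS.exact.exact_up_to_refinements _ h1
  refine ⟨A₁, π₁, inferInstance, x₁, ?_⟩
  rw [← cancel_mono (kernel.ι (S.g ≫ π))]
  simp [hx₁]

end

/-- In an abelian category, let 0 → A' → A → A'' → 0 be a short exact sequence, φ : A' ⟶ Q a morphism
and π : A'' ⟶ P an epimorphism with kernel C. Consider the quadruples (B, f, g, h) with 0 → Q → B →
P → 0 short exact (maps f, g) and h : A ⟶ B such that the squares commute: (A' → A → B) = (A' → Q →
B) and (A → B → P) = (A → A'' → P). Such a quadruple exists if and only if the image in Ext¹(C, Q)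
of the class of the given extension in Ext¹(A'', A') (push forward along φ, pull back along the
inclusion C → A'') is zero. -/
theorem result {C : Type u} [Category.{v} C] [Abelian C]
    [HasExt.{w} C] {S : ShortComplex C} (hS : S.ShortExact) {Q P : C} (φ : S.X₁ ⟶ Q) (π : S.X₃ ⟶ P) [Epi π] :
    (∃ (B : C) (f : Q ⟶ B) (g : B ⟶ P) (h : S.X₂ ⟶ B) (w : f ≫ g = 0),
        (ShortComplex.mk f g w).ShortExact ∧ S.f ≫ h = φ ≫ f ∧ h ≫ g = S.g ≫ π) ↔
      (Ext.mk₀ (kernel.ι π)).comp (hS.extClass.comp (Ext.mk₀ φ) (add_zero 1)) (zero_add 1) = 0 := by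
  constructor
  · rintro ⟨B, f', g', h, w, hB, h1, h2⟩
    let α : S ⟶ ShortComplex.mk f' g' w :=
      { τ₁ := φ, τ₂ := h, τ₃ := π, comm₁₂ := h1.symm, comm₂₃ := h2 }
    have nat := ShortComplex.ShortExact.extClass_naturality hS hB α
    dsimp [α] at nat
    rw [nat, Ext.mk₀_comp_mk₀_assoc, kernel.condition, Ext.mk₀_zero, Ext.zero_comp]
  · intro hzero
    have hT := kernel_seq_T hS π
    have hSC := kernel_seq_C hS π
    let β : ShortComplex.mk (kernel.lift (S.g ≫ π) S.f (by rw [← Category.assoc, S.zero, zero_comp]))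
        (kernel.lift π (kernel.ι (S.g ≫ π) ≫ S.g) (by rw [Category.assoc, kernel.condition]))
        (wC π) ⟶ S :=
      { τ₁ := 𝟙 _, τ₂ := kernel.ι (S.g ≫ π), τ₃ := kernel.ι π,
        comm₁₂ := by simp, comm₂₃ := by simp }
    have nat2 := ShortComplex.ShortExact.extClass_naturality hSC hS β
    dsimp [β] at nat2
    rw [Ext.comp_mk₀_id] at nat2
    have hx₁ : hSC.extClass.comp (Ext.mk₀ φ) (add_zero 1) = 0 := by
      rw [nat2, Ext.comp_assoc_of_third_deg_zero]
      exact hzero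
    obtain ⟨x₂, hx₂⟩ := Ext.contravariant_sequence_exact₁ hSC Q (Ext.mk₀ φ) (add_zero 1) hx₁
    obtain ⟨φ', rfl⟩ := (Ext.mk₀_bijective _ _).2 x₂
    dsimp at hx₂
    rw [Ext.mk₀_comp_mk₀] at hx₂
    have hφ' := (Ext.mk₀_bijective _ _).1 hx₂
    obtain ⟨B, i, p, k, w, hB, e1, e2⟩ := pushout_shortExact hT φ'
    dsimp at i p k w hB e1 e2
    refine ⟨B, i, p, k, w, hB, ?_, e2⟩
    rw [← hφ', Category.assoc, ← e1, ← Category.assoc, kernel.lift_ι]

end Groth.Agent.S12058
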