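import Groth.Statements.S1206
import Mathlib.RingTheory.Ideal.Oka
import Mathlib.RingTheory.Nakayama
import Mathlib.RingTheory.Jacobson.Ideal
import Mathlib.RingTheory.LocalRing.MaximalIdeal.Basic
import Mathlib.RingTheory.Finiteness.Basic

set_option autoImplicit false
universe u
open FlatMor

namespace Groth.Agent.S1206

/-- Let A be a local domain which is not a field and 𝒮 a set of finitely generated ideals of A, closed
under products, such that the union of the closed sets V(I), I ∈ 𝒮, is exactly the set of nonzero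
primes (every nonzero prime contains a member of 𝒮 and no member is zero). Then the intersection of
all members of 𝒮 is zero. -/
theorem result (A : Type u) [CommRing A] [IsDomain A] [IsLocalRing A] (hA : ¬ IsField A)
    (𝒮 : Set (Ideal A)) (hfg : ∀ I ∈ 𝒮, I.FG) (hmul : ∀ I ∈ 𝒮, ∀ J ∈ 𝒮, I * J ∈ 𝒮)
    (hne : ∀ I ∈ 𝒮, I ≠ ⊥) (hcov : ∀ (p : Ideal A), p.IsPrime → p ≠ ⊥ → ∃ I ∈ 𝒮, I ≤ p) :
    sInf 𝒮 = ⊥ := by
  classical
  by_contra hbot
  obtain ⟨x, hx, hx0⟩ := Submodule.exists_mem_ne_zero_of_ne_bot hbot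
  have hxS : ∀ I ∈ 𝒮, x ∈ I := fun I hI => (Submodule.mem_sInf.1 hx) I hI
  -- 𝒮 is nonempty, with a member inside the maximal ideal
  have hm : IsLocalRing.maximalIdeal A ≠ ⊥ :=
    Ring.ne_bot_of_isMaximal_of_not_isField (IsLocalRing.maximalIdeal.isMaximal A) hA
  obtain ⟨I₀, hI₀, hI₀m⟩ := hcov _ (IsLocalRing.maximalIdeal.isMaximal A).isPrime hm
  -- the Oka predicate
  let P : Ideal A → Prop := fun 𝔞 => 𝔞 = ⊥ ∨ ∃ I ∈ 𝒮, I ≤ 𝔞
  have hP : Ideal.IsOka P := by
    refine ⟨Or.inr ⟨I₀, hI₀, le_top⟩, ?_⟩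
    rintro 𝔞 a (h1 | ⟨I₁, hI₁, h1⟩) (h2 | ⟨I₂, hI₂, h2⟩)
    · exact Or.inl (le_bot_iff.1 (h1 ▸ le_sup_left))
    · exact Or.inl (le_bot_iff.1 (h1 ▸ le_sup_left))
    · exact Or.inl (le_bot_iff.1 (h2 ▸ Ideal.le_colon))
    · refine Or.inr ⟨I₁ * I₂, hmul _ hI₁ _ hI₂, ?_⟩
      refine (Ideal.mul_mono h1 h2).trans ?_
      rw [Ideal.mul_le]
      intro r hr t ht
      obtain ⟨u, hu, v, hv, rfl⟩ := Submodule.mem_sup.1 hr
      obtain ⟨c, rfl⟩ := Ideal.mem_span_singleton'.1 hv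
      rw [add_mul]
      refine 𝔞.add_mem (𝔞.mul_mem_right _ hu) ?_
      have : t * a ∈ 𝔞 := Ideal.mem_colon_span_singleton.1 ht
      rw [mul_assoc, mul_comm a t]
      exact 𝔞.mul_mem_left _ this
  have hall : ∀ 𝔞, P 𝔞 := by
    refine hP.forall_of_forall_prime' ?_ ?_
    · intro C hC hchain J hJ hsup
      rcases hsup with hsup | ⟨I, hI, hIle⟩
      · exact ⟨J, hJ, Or.inl (le_bot_iff.1 (hsup ▸ le_sSup hJ))⟩
      · have hcomp : IsCompactElement I := (Submodule.fg_iff_compact I).1 (hfg I hI)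
        rw [CompleteLattice.isCompactElement_iff_le_of_directed_sSup_le] at hcomp
        obtain ⟨K, hK, hIK⟩ := hcomp C ⟨J, hJ⟩ hchain.directedOn hIle
        exact ⟨K, hK, Or.inr ⟨I, hI, hIK⟩⟩
    · intro p hp
      by_cases hp0 : p = ⊥
      · exact Or.inl hp0
      · exact Or.inr (hcov p hp hp0)
  have hspan : Ideal.span {x} ≠ ⊥ := by
    rw [Ne, Ideal.span_singleton_eq_bot]
    exact hx0
  rcases hall (Ideal.span {x}) with h | ⟨I, hI, hIx⟩
  · exact hspan h
  · -- x is not a unit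
    have hxm : x ∈ IsLocalRing.maximalIdeal A := hI₀m (hxS I₀ hI₀)
    have hIm : I ≤ IsLocalRing.maximalIdeal A :=
      hIx.trans ((Ideal.span_singleton_le_iff_mem _).2 hxm)
    have hjac : I ≤ Ideal.jacobson ⊥ := by
      rw [IsLocalRing.jacobson_eq_maximalIdeal ⊥ bot_ne_top]
      exact hIm
    have hII : I ≤ I • I := by
      refine hIx.trans ?_
      rw [Ideal.span_singleton_le_iff_mem, smul_eq_mul]
      exact hxS _ (hmul I hI I hI)
    exact hne I hI (Submodule.eq_bot_of_le_smul_of_le_jacobson_bot I I (hfg I hI) hII hjac)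

end Groth.Agent.S1206
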