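import Groth.Statements.S1207
import Mathlib.RingTheory.Nakayama
import Mathlib.RingTheory.Jacobson.Ideal
import Mathlib.RingTheory.LocalRing.MaximalIdeal.Basic

set_option autoImplicit false
universe u
open FlatMor

namespace Groth.Agent.S1207

/-- Let A be a local ring and I, J ideals of A with J finitely generated, J ≠ A, and I ⊆ J^n for all n ≥
1. Then every prime p not containing J which is maximal among the primes not containing J (a closed
point of Spec A ∖ V(J)) contains I. (The published statement leaves the hypothesis J ≠ A implicit;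
for J = A the assertion fails.) -/
theorem result (A : Type u) [CommRing A] [IsLocalRing A] (I J : Ideal A) (hJ : J.FG) (hJ1 : J ≠ ⊤)
    (hI : ∀ n : ℕ, 1 ≤ n → I ≤ J ^ n) (p : Ideal A) [p.IsPrime] (hp : ¬ J ≤ p)
    (hmax : ∀ (p' : Ideal A), p'.IsPrime → p ≤ p' → ¬ J ≤ p' → p' = p) : I ≤ p := by
  intro x hx
  by_contra hxp
  have hrad : J ≤ (p ⊔ Ideal.span {x}).radical := by
    rw [Ideal.radical_eq_sInf]
    refine le_sInf ?_
    rintro q ⟨hq, hqprime⟩
    by_contra hJq
    have := hmax q hqprime (le_sup_left.trans hq) hJq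
    apply hxp
    rw [← this]
    exact hq (Ideal.mem_sup_right (Ideal.mem_span_singleton_self x))
  obtain ⟨N, hN⟩ := Ideal.exists_pow_le_of_le_radical_of_fg hrad hJ
  have hxN : x ∈ J ^ (N + 1) := hI (N + 1) (by omega) hx
  have hle : J ^ N ≤ p ⊔ J • J ^ N := by
    refine hN.trans (sup_le_sup_left ?_ _)
    rw [Ideal.span_le, Set.singleton_subset_iff, smul_eq_mul, ← pow_succ']
    exact hxN
  have hjac : J ≤ Ideal.jacobson ⊥ := by
    rw [IsLocalRing.jacobson_eq_maximalIdeal ⊥ bot_ne_top]
    exact IsLocalRing.le_maximalIdeal hJ1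
  have hfg : (J ^ N).FG := Ideal.FG.pow hJ
  have : J ^ N ≤ p := Submodule.le_of_le_smul_of_le_jacobson_bot hfg hjac hle
  exact hp (Ideal.IsPrime.le_of_pow_le this)

end Groth.Agent.S1207
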