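import Groth.Statements.S12071
import Mathlib.GroupTheory.Archimedean

set_option autoImplicit false
open RootD

namespace Groth.Agent.S12071

open DihedralGroup in
theorem no_sr (N : Subgroup (DihedralGroup 0)) [hn : N.Normal]
    (hx : DihedralGroup.sr (0 : ZMod 0) ∉ N) (hy : DihedralGroup.sr (1 : ZMod 0) ∉ N)
    (i : ZMod 0) : (sr i : DihedralGroup 0) ∉ N := by
  intro hi
  have hconj : ∀ j : ZMod 0, (sr (i - 2 * j) : DihedralGroup 0) ∈ N := by
    intro j
    have := hn.conj_mem _ hi (r j)
    rw [inv_r, r_mul_sr, sr_mul_r] at this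
    have e : i - 2 * j = i - j + -j := by ring
    rw [e]; exact this
  obtain ⟨i, rfl⟩ := ZMod.intCast_surjective i
  rcases Int.even_or_odd' i with ⟨k, hk | hk⟩
  · apply hx
    have := hconj (Int.cast k)
    have h0 : (Int.cast i : ZMod 0) - 2 * (Int.cast k) = 0 := by rw [hk]; push_cast; ring
    rw [h0] at this
    exact this
  · apply hy
    have := hconj (Int.cast k)
    have h0 : (Int.cast i : ZMod 0) - 2 * (Int.cast k) = 1 := by rw [hk]; push_cast; ring
    rw [h0] at this
    exact this

open DihedralGroup in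
/-- Let G be the group generated by two elements x, y subject to x² = y² = 1 (the infinite dihedral
group; here Mathlib's DihedralGroup 0 with x = sr 0 and y = sr 1, so that x y = r 1). Then every
normal subgroup of G containing neither x nor y is generated by an element (x y)^n with n > 0; such
a subgroup is cyclic, generated by r n. (The published statement does not exclude the trivial
subgroup, for which no n > 0 works; this row assumes the subgroup nontrivial.) -/
theorem result (N : Subgroup (DihedralGroup 0)) [N.Normal]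
    (hN : N ≠ ⊥) (hx : DihedralGroup.sr (0 : ZMod 0) ∉ N) (hy : DihedralGroup.sr (1 : ZMod 0) ∉ N) :
    ∃ n : ℕ, 0 < n ∧ N = Subgroup.zpowers (DihedralGroup.r (n : ZMod 0)) := by
  have hsr := no_sr N hx hy
  let H : AddSubgroup ℤ :=
    { carrier := {i | (r (Int.cast i : ZMod 0) : DihedralGroup 0) ∈ N}
      zero_mem' := by
        show r (Int.cast (0 : ℤ) : ZMod 0) ∈ N
        rw [Int.cast_zero, r_zero]
        exact N.one_mem
      add_mem' := by
        intro a b ha hb
        show r (Int.cast (a + b : ℤ) : ZMod 0) ∈ N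
        have := N.mul_mem ha hb
        rw [r_mul_r] at this
        rw [Int.cast_add]
        exact this
      neg_mem' := by
        intro a ha
        show r (Int.cast (-a : ℤ) : ZMod 0) ∈ N
        have := N.inv_mem ha
        rw [inv_r] at this
        rw [Int.cast_neg]
        exact this }
  have hH : ∀ i : ℤ, i ∈ H ↔ (r (Int.cast i : ZMod 0) : DihedralGroup 0) ∈ N := fun i => Iff.rfl
  have hrot : ∀ g ∈ N, ∃ i : ℤ, i ∈ H ∧ g = r (Int.cast i : ZMod 0) := by
    intro g hg
    cases g with
    | r i =>
      obtain ⟨i, rfl⟩ := ZMod.intCast_surjective i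
      exact ⟨i, hg, rfl⟩
    | sr i => exact absurd hg (hsr i)
  obtain ⟨a, ha⟩ := Int.subgroup_cyclic H
  rw [← AddSubgroup.zmultiples_eq_closure, ← Int.zmultiples_natAbs] at ha
  have ha0 : a ≠ 0 := by
    rintro rfl
    apply hN
    rw [Subgroup.eq_bot_iff_forall]
    intro g hg
    obtain ⟨i, hi, rfl⟩ := hrot g hg
    rw [ha] at hi
    simp only [Int.natAbs_zero, Nat.cast_zero, AddSubgroup.zmultiples_zero_eq_bot, AddSubgroup.mem_bot] at hi
    subst hi
    rw [Int.cast_zero, r_zero]
  refine ⟨a.natAbs, Int.natAbs_pos.mpr ha0, ?_⟩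
  apply le_antisymm
  · intro g hg
    obtain ⟨i, hi, rfl⟩ := hrot g hg
    rw [ha, Int.mem_zmultiples_iff] at hi
    obtain ⟨k, rfl⟩ := hi
    rw [Subgroup.mem_zpowers_iff]
    refine ⟨k, ?_⟩
    rw [r_zpow]
    congr 1
  · rw [Subgroup.zpowers_le]
    have : (a.natAbs : ℤ) ∈ H := by
      rw [ha]; exact AddSubgroup.mem_zmultiples _
    have := (hH _).mp this
    rw [Int.cast_natCast] at this
    exact this

end Groth.Agent.S12071
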