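import Groth.Statements.S12073
import Mathlib
import Groth.Agent.H68.FGSubZ
import Groth.Agent.H68.FEtFF
import Groth.Agent.S0591
import Groth.Agent.S9192
import Groth.Agent.S9187
import Groth.Agent.S9219

set_option autoImplicit false
universe u
open CategoryTheory CategoryTheory.Limits AlgebraicGeometry
open Pi1

namespace Groth.Agent.S12073

open H68.FGSubZ

theorem part2 {I : Type u} [SmallCategory I] [IsCofiltered I]
    (D : I ⥤ Scheme.{u}) (c : Limits.Cone D) (hc : Limits.IsLimit c)
    [∀ (i j : I) (f : i ⟶ j), IsAffineHom (D.map f)] [∀ i, CompactSpace (D.obj i)]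
    [∀ i, QuasiSeparatedSpace (D.obj i)] (i : I) (Vi Wi : FEt.Cat (D.obj i)) (φ ψ : Vi ⟶ Wi)
    (h : (FEt.restrict (c.π.app i)).map φ = (FEt.restrict (c.π.app i)).map ψ) :
    ∃ (j : I) (a : j ⟶ i), (FEt.restrict (D.map a)).map φ = (FEt.restrict (D.map a)).map ψ := by
  obtain ⟨xi, hxi⟩ : ∃ xi : Vi.left ⟶ D.obj i, xi = Vi.hom := ⟨_, rfl⟩
  obtain ⟨yi, hyi⟩ : ∃ yi : Wi.left ⟶ D.obj i, yi = Wi.hom := ⟨_, rfl⟩
  haveI : IsFinite xi := by rw [hxi]; exact Vi.prop.1
  haveI : Etale xi := by rw [hxi]; exact Vi.prop.2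
  haveI : IsFinite yi := by rw [hyi]; exact Wi.prop.1
  haveI : Etale yi := by rw [hyi]; exact Wi.prop.2
  haveI : CompactSpace Vi.left := QuasiCompact.compactSpace_of_compactSpace xi
  haveI : QuasiSeparatedSpace Vi.left := quasiSeparatedSpace_of_quasiSeparated xi
  haveI : CompactSpace Wi.left := QuasiCompact.compactSpace_of_compactSpace yi
  haveI : QuasiSeparatedSpace Wi.left := quasiSeparatedSpace_of_quasiSeparated yi
  have h1 : pullback.fst xi (c.π.app i) ≫ φ.left = pullback.fst xi (c.π.app i) ≫ ψ.left := by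
    subst hxi hyi
    have := congr($(h).left ≫ pullback.fst Wi.hom (c.π.app i))
    rwa [H68.FEtFF.restrict_map_left_fst, H68.FEtFF.restrict_map_left_fst] at this
  obtain ⟨j, a, ha⟩ := S9219.result D c hc i xi yi (pullback.fst xi (c.π.app i))
    (pullback.snd xi (c.π.app i)) (IsPullback.of_hasPullback _ _) φ.left ψ.left
    (by rw [hxi, hyi]; exact MorphismProperty.Over.w φ)
    (by rw [hxi, hyi]; exact MorphismProperty.Over.w ψ) h1
  refine ⟨j, a, ?_⟩
  subst hxi hyi
  apply MorphismProperty.Over.Hom.ext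
  apply pullback.hom_ext
  · exact (H68.FEtFF.restrict_map_left_fst (D.map a) φ).trans
      (ha.trans (H68.FEtFF.restrict_map_left_fst (D.map a) ψ).symm)
  · exact (H68.FEtFF.restrict_map_left_snd (D.map a) φ).trans
      (H68.FEtFF.restrict_map_left_snd (D.map a) ψ).symm

theorem part1 {I : Type u} [SmallCategory I] [IsCofiltered I]
    (D : I ⥤ Scheme.{u}) (c : Limits.Cone D) (hc : Limits.IsLimit c)
    [∀ (i j : I) (f : i ⟶ j), IsAffineHom (D.map f)] [∀ i, CompactSpace (D.obj i)]
    [∀ i, QuasiSeparatedSpace (D.obj i)] (V : FEt.Cat c.pt) :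
    ∃ (i : I) (Vi : FEt.Cat (D.obj i)), Nonempty ((FEt.restrict (c.π.app i)).obj Vi ≅ V) := by
  obtain ⟨f, hf⟩ : ∃ f : V.left ⟶ c.pt, f = V.hom := ⟨_, rfl⟩
  haveI : IsFinite f := by rw [hf]; exact V.prop.1
  haveI : Etale f := by rw [hf]; exact V.prop.2
  obtain ⟨i, Xi, fi, g, h1, h2, h3, hX⟩ := S0591.result D c hc V.left f
  haveI := h1; haveI := h2; haveI := h3
  haveI : CompactSpace Xi := QuasiCompact.compactSpace_of_compactSpace fi
  haveI : QuasiSeparatedSpace Xi := quasiSeparatedSpace_of_quasiSeparated fi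
  obtain ⟨j, φ, Xj, Yj, fj, gj, pY, pX, hY', hX', hP⟩ :=
    S9192.result D c hc i fi (𝟙 _) f (𝟙 _) (c.π.app i) g (IsPullback.id_vert _) hX
  obtain ⟨hiso, g', hg'⟩ := post D c φ f fi g hX fj gj pY pX hY' hX'
  haveI := hiso; haveI := hP
  haveI : QuasiCompact fj := MorphismProperty.of_isPullback (P := @QuasiCompact) hX' h2
  haveI : QuasiSeparated fj := MorphismProperty.of_isPullback (P := @QuasiSeparated) hX' h3
  obtain ⟨f', hf'⟩ : ∃ f' : Xj ⟶ D.obj j, f' = fj ≫ gj := ⟨_, rfl⟩
  rw [← hf'] at hg'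
  haveI : Etale f' := by rw [hf']; infer_instance
  haveI : QuasiCompact f' := by rw [hf']; infer_instance
  haveI : QuasiSeparated f' := by rw [hf']; infer_instance
  haveI : CompactSpace Xj := QuasiCompact.compactSpace_of_compactSpace f'
  haveI : QuasiSeparatedSpace Xj := quasiSeparatedSpace_of_quasiSeparated f'
  obtain ⟨k, φ', Xk, Yk, fk, gk, pY', pX', hY'', hX'', hP'⟩ :=
    S9187.result D c hc j f' (𝟙 _) f (𝟙 _) (c.π.app j) g' (IsPullback.id_vert _) hg'
  obtain ⟨hiso', g'', hg''⟩ := post D c φ' f f' g' hg' fk gk pY' pX' hY'' hX''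
  haveI := hiso'; haveI := hP'
  haveI : Etale fk := MorphismProperty.of_isPullback (P := @Etale) hX'' ‹Etale f'›
  obtain ⟨f'', hf''⟩ : ∃ f'' : Xk ⟶ D.obj k, f'' = fk ≫ gk := ⟨_, rfl⟩
  rw [← hf''] at hg''
  have e1 : IsFinite f'' := by rw [hf'']; infer_instance
  have e2 : Etale f'' := by rw [hf'']; infer_instance
  refine ⟨k, MorphismProperty.Over.mk ⊤ f'' ⟨e1, e2⟩, ⟨?_⟩⟩
  subst hf
  exact MorphismProperty.Over.isoMk hg''.isoPullback.symm hg''.isoPullback_inv_snd


/-- Let X = lim X_i be the limit of a cofiltered system of quasi-compact quasi-separated schemes with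
affine transition morphisms, given by a limit cone. Then: (1) every finite étale cover of X is
isomorphic, over X, to the base change of a finite étale cover of some X_i; (2) if two morphisms
between finite étale covers of some X_i have the same base change to X, then they have the same base
change to some X_j with j → i. (Fullness — every morphism over X between base changes comes from
some stage — is part of the published statement and is not stated here; nor is the consequence on
fundamental groups.) -/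
theorem result {I : Type u} [SmallCategory I] [IsCofiltered I]
    (D : I ⥤ Scheme.{u}) (c : Limits.Cone D) (hc : Limits.IsLimit c)
    [∀ (i j : I) (f : i ⟶ j), IsAffineHom (D.map f)] [∀ i, CompactSpace (D.obj i)]
    [∀ i, QuasiSeparatedSpace (D.obj i)] :
    (∀ V : FEt.Cat c.pt, ∃ (i : I) (Vi : FEt.Cat (D.obj i)), Nonempty ((FEt.restrict (c.π.app i)).obj Vi ≅ V)) ∧
    (∀ (i : I) (Vi Wi : FEt.Cat (D.obj i)) (φ ψ : Vi ⟶ Wi),
      (FEt.restrict (c.π.app i)).map φ = (FEt.restrict (c.π.app i)).map ψ →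
      ∃ (j : I) (a : j ⟶ i), (FEt.restrict (D.map a)).map φ = (FEt.restrict (D.map a)).map ψ) := by
  exact ⟨part1 D c hc, part2 D c hc⟩

end Groth.Agent.S12073
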