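import Groth.Statements.S12076
import Mathlib

set_option autoImplicit false
open RootD

namespace Groth.Agent.S12076

open Module in
/-- Let Δ be a system of simple roots (a base b of a root pairing P over ℤ) and Γ₀ the subgroup
generated by the roots. Then Γ₀ has a structure of totally ordered group for which the roots > 0 are
exactly the positive roots defined by Δ and for which the height (the additive function with value 1
on each simple root) is monotone. The order is given here by its positive cone C ⊆ Γ₀: 0 ∉ C, C + C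
⊆ C, and for every x ≠ 0 exactly one of x, −x lies in C (x < y meaning y − x ∈ C). -/
theorem result {ι M N : Type*} [AddCommGroup M] [AddCommGroup N]
    (P : RootPairing ι ℤ M N) [Finite ι] (b : P.Base) :
    ∃ C : Set ↥(Submodule.span ℤ (Set.range P.root)),
      0 ∉ C ∧ (∀ x ∈ C, ∀ y ∈ C, x + y ∈ C) ∧ (∀ x, x ≠ 0 → (x ∈ C ∨ -x ∈ C)) ∧ (∀ x ∈ C, -x ∉ C) ∧
      (∀ i : ι, (⟨P.root i, Submodule.subset_span (Set.mem_range_self i)⟩ : ↥(Submodule.span ℤ (Set.range P.root))) ∈ C ↔
        b.IsPos i) ∧
      ∀ φ : ↥(Submodule.span ℤ (Set.range P.root)) →+ ℤ,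
        (∀ j ∈ b.support, φ ⟨P.root j, Submodule.subset_span (Set.mem_range_self j)⟩ = 1) →
        ∀ x y : ↥(Submodule.span ℤ (Set.range P.root)), y - x ∈ C → φ x ≤ φ y := by
  classical
  let B : Basis b.support ℤ ↥(Submodule.span ℤ (Set.range P.root)) := b.toWeightBasisInt
  have hB : ∀ j : b.support, B j = ⟨P.root j, Submodule.subset_span (Set.mem_range_self _)⟩ :=
    fun j => Subtype.ext (b.coe_toWeightBasisInt_apply j)
  let n := Fintype.card b.support
  let e : b.support ≃ Fin n := Fintype.equivFin _
  let ht : ↥(Submodule.span ℤ (Set.range P.root)) → ℤ := fun x => ∑ j, B.equivFun x j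
  let v : ↥(Submodule.span ℤ (Set.range P.root)) → (Fin n → ℤ) := fun x k => B.equivFun x (e.symm k)
  let Ψ : ↥(Submodule.span ℤ (Set.range P.root)) → ℤ ×ₗ Lex (Fin n → ℤ) :=
    fun x => toLex (ht x, toLex (v x))
  have ht_add : ∀ x y, ht (x + y) = ht x + ht y := fun x y => by
    simp only [ht, map_add, Pi.add_apply, Finset.sum_add_distrib]
  have ht_neg : ∀ x, ht (-x) = - ht x := fun x => by
    simp only [ht, map_neg, Pi.neg_apply, Finset.sum_neg_distrib]
  have v_add : ∀ x y, v (x + y) = v x + v y := fun x y => by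
    funext k; simp only [v, map_add, Pi.add_apply]
  have v_neg : ∀ x, v (-x) = - v x := fun x => by
    funext k; simp only [v, map_neg, Pi.neg_apply]
  have Ψ_add : ∀ x y, Ψ (x + y) = Ψ x + Ψ y := fun x y => by
    simp only [Ψ, ht_add, v_add]; rfl
  have Ψ_neg : ∀ x, Ψ (-x) = - Ψ x := fun x => by
    simp only [Ψ, ht_neg, v_neg]; rfl
  have Ψ_zero : Ψ 0 = 0 := by
    have := Ψ_add 0 0
    rw [add_zero] at this
    exact (add_eq_left.mp this.symm)
  have Ψ_inj : ∀ x, Ψ x = 0 → x = 0 := by
    intro x hx
    have h1 : v x = 0 := by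
      have := congrArg (fun t => ofLex (ofLex t).2) hx
      exact this
    apply B.equivFun.injective
    rw [map_zero]
    funext j
    have := congrFun h1 (e j)
    simpa [v] using this
  have hpos_iff : ∀ x, 0 < Ψ x ↔ 0 < ht x ∨ (0 = ht x ∧ (0 : Lex (Fin n → ℤ)) < toLex (v x)) := by
    intro x
    exact Prod.Lex.lt_iff
  -- height of a root
  have hroot : ∀ i : ι, ht ⟨P.root i, Submodule.subset_span (Set.mem_range_self i)⟩ = b.height i := by
    intro i
    set x : ↥(Submodule.span ℤ (Set.range P.root)) :=
      ⟨P.root i, Submodule.subset_span (Set.mem_range_self i)⟩ with hx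
    let f : ι → ℤ := fun j => if h : j ∈ b.support then B.equivFun x ⟨j, h⟩ else 0
    have hf : ∀ j : b.support, f j = B.equivFun x j := fun j => by
      simp only [f, dif_pos j.2]
    have heq : P.root i = ∑ j ∈ b.support, f j • P.root j := by
      rw [← Finset.sum_coe_sort b.support (fun j => f j • P.root j)]
      have h1 := congrArg (Subtype.val) (B.sum_equivFun x)
      simp only [Submodule.coe_sum, Submodule.coe_smul, hB] at h1
      rw [hx] at h1
      simp only at h1
      rw [← h1]
      exact Finset.sum_congr rfl fun j _ => by rw [hf]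
    rw [RootPairing.Base.height_eq_sum heq, ← Finset.sum_coe_sort b.support f]
    exact Finset.sum_congr rfl fun j _ => (hf j).symm
  refine ⟨{x | 0 < Ψ x}, ?_, ?_, ?_, ?_, ?_, ?_⟩
  · simp only [Set.mem_setOf_eq, Ψ_zero, lt_self_iff_false, not_false_eq_true]
  · intro x hx y hy
    simp only [Set.mem_setOf_eq] at hx hy ⊢
    rw [Ψ_add]
    exact add_pos hx hy
  · intro x hx
    simp only [Set.mem_setOf_eq]
    rcases lt_trichotomy (Ψ x) 0 with h | h | h
    · right; rw [Ψ_neg]; exact neg_pos.mpr h
    · exact absurd (Ψ_inj x h) hx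
    · left; exact h
  · intro x hx hx'
    simp only [Set.mem_setOf_eq] at hx hx'
    rw [Ψ_neg] at hx'
    exact lt_asymm hx (neg_pos.mp hx')
  · intro i
    simp only [Set.mem_setOf_eq]
    rw [hpos_iff, hroot, RootPairing.Base.isPos_iff]
    constructor
    · rintro (h | ⟨h, -⟩)
      · exact h
      · exact absurd h.symm (b.height_ne_zero i)
    · intro h; exact Or.inl h
  · intro φ hφ x y hxy
    simp only [Set.mem_setOf_eq] at hxy
    have hφht : ∀ z, φ z = ht z := by
      intro z
      conv_lhs => rw [← B.sum_equivFun z]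
      rw [map_sum]
      refine Finset.sum_congr rfl fun j _ => ?_
      rw [map_zsmul, hB, hφ j j.2, smul_eq_mul, mul_one]
    have h0 : 0 ≤ ht (y - x) := by
      rcases (hpos_iff _).mp hxy with h | ⟨h, -⟩
      · exact h.le
      · exact h.le
    have : ht (y - x) = ht y - ht x := by
      rw [sub_eq_add_neg, ht_add, ht_neg, sub_eq_add_neg]
    rw [hφht, hφht]
    linarith

end Groth.Agent.S12076
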