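import Groth.Statements.S12077
import Mathlib

set_option autoImplicit false
universe u
open Polynomial
open CAlg

namespace Groth.Agent.S12077

section Aux
open Polynomial

/-- `A → AdjoinRoot f` is injective for monic `f` of positive degree. -/
theorem of_injective_of_monic {A : Type u} [CommRing A] [Nontrivial A] {f : A[X]} (hf : f.Monic)
    (hd : f.natDegree ≠ 0) : Function.Injective (AdjoinRoot.of f) := by
  rw [injective_iff_map_eq_zero]
  intro a ha
  have h1 : AdjoinRoot.mk f (C a) = 0 := (AdjoinRoot.mk_C a).trans ha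
  rw [AdjoinRoot.mk_eq_zero] at h1
  obtain ⟨q, hq⟩ := h1
  by_cases hq0 : q = 0
  · rw [hq0, mul_zero] at hq
    exact C_eq_zero.mp hq
  · have h2 := hf.natDegree_mul' hq0
    rw [← hq, natDegree_C] at h2
    omega

theorem exists_split : ∀ (n : ℕ) (A : Type u) [CommRing A] [Nontrivial A] (f : A[X]),
    f.Monic → f.natDegree = n →
    ∃ (B : Type u) (_ : CommRing B) (φ : A →+* B), Function.Injective φ ∧
      ∃ r : Fin n → B, f.map φ = ∏ i, (X - C (r i)) := by
  intro n
  induction n with
  | zero =>
    intro A _ _ f hf hn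
    refine ⟨A, inferInstance, RingHom.id A, Function.injective_id, Fin.elim0, ?_⟩
    rw [(hf.natDegree_eq_zero).mp hn]
    simp
  | succ n ih =>
    intro A _ _ f hf hn
    have hinj := of_injective_of_monic hf (by omega)
    haveI : Nontrivial (AdjoinRoot f) := hinj.nontrivial
    have hfac : (X - C (AdjoinRoot.root f)) * ((f.map (AdjoinRoot.of f)) /ₘ (X - C (AdjoinRoot.root f))) =
        f.map (AdjoinRoot.of f) :=
      mul_divByMonic_eq_iff_isRoot.mpr (AdjoinRoot.isRoot_root f)
    generalize hg : (f.map (AdjoinRoot.of f)) /ₘ (X - C (AdjoinRoot.root f)) = g at hfac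
    have hfm : (f.map (AdjoinRoot.of f)).Monic := hf.map _
    have hgm : g.Monic :=
      (monic_X_sub_C (AdjoinRoot.root f)).of_mul_monic_left (by rw [hfac]; exact hfm)
    have hgd : g.natDegree = n := by
      have h1 := (monic_X_sub_C (AdjoinRoot.root f)).natDegree_mul hgm
      rw [hfac, hf.natDegree_map, hn, natDegree_X_sub_C] at h1
      omega
    obtain ⟨B, _, φ, hφ, r, hr⟩ := ih (AdjoinRoot f) g hgm hgd
    refine ⟨B, inferInstance, φ.comp (AdjoinRoot.of f), hφ.comp hinj,
      Fin.cons (φ (AdjoinRoot.root f)) r, ?_⟩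
    rw [← Polynomial.map_map, ← hfac, Polynomial.map_mul, hr, Fin.prod_univ_succ]
    simp only [Fin.cons_zero, Fin.cons_succ, Polynomial.map_sub, Polynomial.map_X,
      Polynomial.map_C]

theorem exists_split_finset (A : Type u) [CommRing A] [Nontrivial A]
    (F : Finset {f : A[X] // f.Monic}) :
    ∃ (B : Type u) (_ : CommRing B) (φ : A →+* B), Function.Injective φ ∧
      ∃ r : ∀ f : {f : A[X] // f.Monic}, Fin f.1.natDegree → B,
        ∀ f ∈ F, f.1.map φ = ∏ i, (X - C (r f i)) := by
  classical
  induction F using Finset.induction_on with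
  | empty =>
    exact ⟨A, inferInstance, RingHom.id A, Function.injective_id, fun _ _ => 0, by simp⟩
  | insert g F hg ih =>
    obtain ⟨B, _, φ, hφ, r, hr⟩ := ih
    haveI : Nontrivial B := hφ.nontrivial
    have hgm : (g.1.map φ).Monic := g.2.map φ
    obtain ⟨B', _, ψ, hψ, r', hr'⟩ :=
      exists_split g.1.natDegree B (g.1.map φ) hgm (g.2.natDegree_map φ)
    refine ⟨B', inferInstance, ψ.comp φ, hψ.comp hφ,
      fun f i => if h : f = g then r' (h ▸ i) else ψ (r f i), ?_⟩
    intro f hf
    rw [Finset.mem_insert] at hf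
    by_cases h : f = g
    · subst h
      rw [← Polynomial.map_map, hr']
      simp
    · have hfF : f ∈ F := hf.resolve_left h
      rw [← Polynomial.map_map, hr f hfF, Polynomial.map_prod]
      simp only [dif_neg h, Polynomial.map_sub, Polynomial.map_X, Polynomial.map_C]

section B1

variable (A : Type u) [CommRing A]

abbrev Mon : Type u := {f : A[X] // f.Monic}
abbrev Vars : Type u := Σ f : Mon A, Fin f.1.natDegree
abbrev Q : Type u := MvPolynomial (Vars A) A

noncomputable def Dpoly (f : Mon A) : (Q A)[X] :=
  f.1.map (algebraMap A (Q A)) -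
    ∏ i : Fin f.1.natDegree, (X - C (MvPolynomial.X (⟨f, i⟩ : Vars A)))

def Jset : Set (Q A) := {t | ∃ (f : Mon A) (k : ℕ), t = (Dpoly A f).coeff k}

abbrev B1 : Type u := Q A ⧸ Ideal.span (Jset A)

noncomputable def toB1 : A →+* B1 A :=
  (Ideal.Quotient.mk (Ideal.span (Jset A))).comp (algebraMap A (Q A))

theorem B1_splits (f : Mon A) :
    f.1.map (toB1 A) = ∏ i : Fin f.1.natDegree,
      (X - C (Ideal.Quotient.mk (Ideal.span (Jset A)) (MvPolynomial.X (⟨f, i⟩ : Vars A)))) := by
  have h : (Dpoly A f).map (Ideal.Quotient.mk (Ideal.span (Jset A))) = 0 := by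
    ext k
    rw [coeff_map, coeff_zero]
    exact Ideal.Quotient.eq_zero_iff_mem.mpr (Ideal.subset_span ⟨f, k, rfl⟩)
  rw [Dpoly, Polynomial.map_sub, Polynomial.map_map, sub_eq_zero, Polynomial.map_prod] at h
  rw [toB1, h]
  simp only [Polynomial.map_sub, Polynomial.map_X, Polynomial.map_C]

theorem toB1_injective [Nontrivial A] : Function.Injective (toB1 A) := by
  classical
  rw [injective_iff_map_eq_zero]
  intro a ha
  have h1 : (algebraMap A (Q A) a) ∈ Ideal.span (Jset A) := Ideal.Quotient.eq_zero_iff_mem.mp ha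
  obtain ⟨T, hTS, hT⟩ := Submodule.mem_span_finite_of_mem_span h1
  have h2 : ∀ t : T, ∃ (f : Mon A) (k : ℕ), t.1 = (Dpoly A f).coeff k := fun t => hTS t.2
  choose fs ks hfk using h2
  obtain ⟨B, _, φ, hφ, r, hr⟩ := exists_split_finset A (Finset.univ.image fs)
  let ev : Q A →+* B := MvPolynomial.eval₂Hom φ (fun v : Vars A => r v.1 v.2)
  have hc : ev.comp (algebraMap A (Q A)) = φ := by
    ext a
    simp [ev]
  have hev : ∀ t ∈ T, ev t = 0 := by
    intro t ht
    have ht' : t = (Dpoly A (fs ⟨t, ht⟩)).coeff (ks ⟨t, ht⟩) := hfk ⟨t, ht⟩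
    rw [ht', ← Polynomial.coeff_map]
    have hmem : fs ⟨t, ht⟩ ∈ Finset.univ.image fs := Finset.mem_image_of_mem _ (Finset.mem_univ _)
    have h3 : (Dpoly A (fs ⟨t, ht⟩)).map ev = 0 := by
      rw [Dpoly, Polynomial.map_sub, Polynomial.map_map, Polynomial.map_prod, sub_eq_zero, hc,
        hr _ hmem]
      refine Finset.prod_congr rfl fun i _ => ?_
      simp [ev]
    rw [h3, Polynomial.coeff_zero]
  have h3 : ev (algebraMap A (Q A) a) = 0 := by
    have h4 : Ideal.span (T : Set (Q A)) ≤ RingHom.ker ev :=
      Ideal.span_le.mpr (fun t ht => hev t ht)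
    exact h4 hT
  have h4 : ev (algebraMap A (Q A) a) = φ a := by
    rw [← hc]
    rfl
  rw [h4] at h3
  exact hφ (by rw [h3, map_zero])

end B1

section NatLE

variable {G : ℕ → Type u} [∀ n, CommRing (G n)] (g : ∀ n, G n →+* G (n + 1))

noncomputable def natLE (m n : ℕ) (h : m ≤ n) : G m →+* G n :=
  Nat.leRecOn (C := fun k => G m →+* G k) h (fun {k} φ => (g k).comp φ) (RingHom.id _)

theorem natLE_self (m : ℕ) (h : m ≤ m) : natLE g m m h = RingHom.id _ := Nat.leRecOn_self _

theorem natLE_succ (m n : ℕ) (h : m ≤ n) (h' : m ≤ n + 1) :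
    natLE g m (n + 1) h' = (g n).comp (natLE g m n h) := Nat.leRecOn_succ h _

theorem natLE_trans (m n k : ℕ) (h1 : m ≤ n) (h2 : n ≤ k) (h3 : m ≤ k) :
    (natLE g n k h2).comp (natLE g m n h1) = natLE g m k h3 := by
  induction k, h2 using Nat.le_induction with
  | base => rw [natLE_self, RingHom.id_comp]
  | succ k hk ih =>
    rw [natLE_succ g n k hk, RingHom.comp_assoc, ih (h1.trans hk), ← natLE_succ]

theorem natLE_injective (hg : ∀ n, Function.Injective (g n)) (m n : ℕ) (h : m ≤ n) :
    Function.Injective (natLE g m n h) := by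
  induction n, h using Nat.le_induction with
  | base => rw [natLE_self]; exact Function.injective_id
  | succ n hn ih =>
    rw [natLE_succ g m n hn]
    exact (hg n).comp ih

instance natLE_directedSystem : DirectedSystem G (fun i j h => natLE g i j h) where
  map_self i x := by rw [natLE_self]; rfl
  map_map k j i hij hjk x := by
    rw [← natLE_trans g i j k hij hjk (hij.trans hjk)]
    rfl

end NatLE

section Tower

structure RingObj : Type (u + 1) where
  carrier : Type u
  inst : CommRing carrier

variable (A : Type u) [CommRing A]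

noncomputable def tow : ℕ → RingObj.{u} :=
  fun n => Nat.rec (⟨A, inferInstance⟩ : RingObj.{u})
    (fun _ T => letI := T.inst; ⟨B1 T.carrier, inferInstance⟩) n

abbrev G (n : ℕ) : Type u := (tow A n).carrier

noncomputable instance instG (n : ℕ) : CommRing (G A n) := (tow A n).inst

noncomputable def gmap (n : ℕ) : G A n →+* G A (n + 1) := toB1 (G A n)

theorem G_nontrivial [Nontrivial A] : ∀ n, Nontrivial (G A n) := by
  intro n
  induction n with
  | zero => show Nontrivial A; infer_instance
  | succ n ih =>
    haveI := ih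
    exact (toB1_injective (G A n)).nontrivial

theorem gmap_injective [Nontrivial A] (n : ℕ) : Function.Injective (gmap A n) := by
  haveI := G_nontrivial A n
  exact toB1_injective (G A n)

theorem gmap_splits (n : ℕ) (p : (G A n)[X]) (hp : p.Monic) :
    ∃ r : Fin p.natDegree → G A (n + 1), p.map (gmap A n) = ∏ i, (X - C (r i)) :=
  ⟨_, B1_splits (G A n) ⟨p, hp⟩⟩

end Tower

end Aux

/-- Every commutative ring `A` admits an injective ring map into an absolutely integrally closed
commutative ring `B`, that is, one over which every monic polynomial is a product of linear factors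
`X - b`. (Only the existence of such an extension is stated, not the finer structure of the
construction.) -/
theorem result (A : Type u) [CommRing A] :
    ∃ (B : Type u) (_ : CommRing B) (_ : Algebra A B), Function.Injective (algebraMap A B) ∧
      ∀ f : B[X], f.Monic → ∃ s : Multiset B, f = (s.map fun b => X - C b).prod := by
  classical
  by_cases hA : Subsingleton A
  · refine ⟨A, inferInstance, Algebra.id A, fun x y h => h, fun f _ => ⟨0, Subsingleton.elim _ _⟩⟩
  · haveI : Nontrivial A := not_subsingleton_iff_nontrivial.mp hA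
    have hinj : ∀ i j (hij : i ≤ j), Function.Injective (natLE (gmap A) i j hij) :=
      fun i j hij => natLE_injective (gmap A) (gmap_injective A) i j hij
    have hof : ∀ i, Function.Injective
        (Ring.DirectLimit.of (G A) (fun i j h => natLE (gmap A) i j h) i) :=
      fun i => Ring.DirectLimit.of_injective (fun i j h => natLE (gmap A) i j h) hinj i
    let ι0 : A →+* Ring.DirectLimit (G A) (fun i j h => natLE (gmap A) i j h) :=
      Ring.DirectLimit.of (G A) (fun i j h => natLE (gmap A) i j h) 0
    refine ⟨Ring.DirectLimit (G A) (fun i j h => natLE (gmap A) i j h), inferInstance,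
      ι0.toAlgebra, hof 0, ?_⟩
    intro q hq
    obtain ⟨i, p, rfl⟩ := Ring.DirectLimit.Polynomial.exists_of q
    have hp : p.Monic := Polynomial.monic_of_injective (hof i) hq
    obtain ⟨r, hr⟩ := gmap_splits A i p hp
    have hcomp : (Ring.DirectLimit.of (G A) (fun i j h => natLE (gmap A) i j h) (i + 1)).comp
        (gmap A i) = Ring.DirectLimit.of (G A) (fun i j h => natLE (gmap A) i j h) i := by
      ext y
      have h1 := Ring.DirectLimit.of_f (G := G A) (f := fun i j h => natLE (gmap A) i j h)
        (Nat.le_succ i) y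
      have h2 : natLE (gmap A) i (i + 1) (Nat.le_succ i) = gmap A i := by
        rw [natLE_succ (gmap A) i i le_rfl, natLE_self, RingHom.comp_id]
      rw [h2] at h1
      exact h1
    refine ⟨Finset.univ.val.map (fun j =>
      Ring.DirectLimit.of (G A) (fun i j h => natLE (gmap A) i j h) (i + 1) (r j)), ?_⟩
    rw [← hcomp, ← Polynomial.map_map, hr, Polynomial.map_prod, Multiset.map_map,
      Finset.prod_eq_multiset_prod]
    congr 1
    refine Multiset.map_congr rfl fun j _ => ?_
    simp only [Function.comp_apply, Polynomial.map_sub, Polynomial.map_X, Polynomial.map_C]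

end Groth.Agent.S12077
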