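import Groth.Statements.S12078
import Mathlib.RingTheory.Bezout
import Mathlib.LinearAlgebra.Matrix.Notation

set_option autoImplicit false
universe u
open CAlg

namespace Groth.Agent.S12078

/-- An elementary divisor domain is Bézout. Here `R` is a domain such that for all `n, m ≥ 1` and every
`n × m` matrix `A` there are invertible matrices `U` (`n × n`) and `V` (`m × m`) with `U * A * V`
zero off the diagonal and with diagonal entries `f 0 ∣ f 1 ∣ f 2 ∣ …`; the conclusion is that every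
finitely generated ideal of `R` is principal. -/
theorem result (R : Type u) [CommRing R] [IsDomain R]
    (hR : ∀ n m : ℕ, 1 ≤ n → 1 ≤ m → ∀ A : Matrix (Fin n) (Fin m) R,
      ∃ (U : (Matrix (Fin n) (Fin n) R)ˣ) (V : (Matrix (Fin m) (Fin m) R)ˣ) (f : ℕ → R),
        (∀ k : ℕ, f k ∣ f (k + 1)) ∧
        ∀ (i : Fin n) (j : Fin m), ((U : Matrix (Fin n) (Fin n) R) * A * (V : Matrix (Fin m) (Fin m) R)) i j =
          if (i : ℕ) = (j : ℕ) then f i else 0) :
    IsBezout R := by
  rw [IsBezout.iff_span_pair_isPrincipal]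
  intro x y
  obtain ⟨U, V, f, -, h⟩ := hR 1 2 le_rfl (by norm_num) !![x, y]
  set A : Matrix (Fin 1) (Fin 2) R := !![x, y] with hAdef
  set B : Matrix (Fin 1) (Fin 2) R := (U : Matrix (Fin 1) (Fin 1) R) * A * (V : Matrix (Fin 2) (Fin 2) R) with hB
  have hB0 : B 0 0 = f 0 := by simpa using h 0 0
  have hB1 : B 0 1 = 0 := by simpa using h 0 1
  have hA : A = ((U⁻¹ : (Matrix (Fin 1) (Fin 1) R)ˣ) : Matrix (Fin 1) (Fin 1) R) * B *
      ((V⁻¹ : (Matrix (Fin 2) (Fin 2) R)ˣ) : Matrix (Fin 2) (Fin 2) R) := by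
    rw [hB, Matrix.mul_assoc (U : Matrix (Fin 1) (Fin 1) R) A, ← Matrix.mul_assoc _ (U : Matrix (Fin 1) (Fin 1) R),
      Units.inv_mul, Matrix.one_mul, Matrix.mul_assoc, Units.mul_inv, Matrix.mul_one]
  have hx : x = A 0 0 := by simp [hAdef]
  have hy : y = A 0 1 := by simp [hAdef]
  have key : ∀ j : Fin 2, A 0 j = f 0 * (((U⁻¹ : (Matrix (Fin 1) (Fin 1) R)ˣ) : Matrix (Fin 1) (Fin 1) R) 0 0 *
      ((V⁻¹ : (Matrix (Fin 2) (Fin 2) R)ˣ) : Matrix (Fin 2) (Fin 2) R) 0 j) := by
    intro j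
    rw [hA]
    simp only [Matrix.mul_apply, Fin.sum_univ_two, Fin.sum_univ_one, Finset.univ_unique, Fin.default_eq_zero,
      Finset.sum_singleton, hB0, hB1]
    ring
  have hf0 : f 0 = (U : Matrix (Fin 1) (Fin 1) R) 0 0 * (V : Matrix (Fin 2) (Fin 2) R) 0 0 * x +
      (U : Matrix (Fin 1) (Fin 1) R) 0 0 * (V : Matrix (Fin 2) (Fin 2) R) 1 0 * y := by
    rw [← hB0, hB, hx, hy]
    simp only [Matrix.mul_apply, Fin.sum_univ_two, Fin.sum_univ_one, Finset.univ_unique, Fin.default_eq_zero,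
      Finset.sum_singleton]
    ring
  refine ⟨⟨f 0, ?_⟩⟩
  apply le_antisymm
  · rw [Ideal.span_le]
    intro z hz
    simp only [Set.mem_insert_iff, Set.mem_singleton_iff] at hz
    change z ∈ Ideal.span {f 0}
    rw [Ideal.mem_span_singleton]
    rcases hz with rfl | rfl
    · rw [hx, key 0]; exact dvd_mul_right _ _
    · rw [hy, key 1]; exact dvd_mul_right _ _
  · change Ideal.span {f 0} ≤ _
    rw [Ideal.span_le]
    intro z hz
    simp only [Set.mem_singleton_iff] at hz
    subst hz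
    rw [hf0]
    apply Ideal.add_mem
    · exact Ideal.mul_mem_left _ _ (Ideal.subset_span (by simp))
    · exact Ideal.mul_mem_left _ _ (Ideal.subset_span (by simp))

end Groth.Agent.S12078
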