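import Groth.Statements.S12079
import Mathlib

set_option autoImplicit false
universe u
open TensorProduct
open CAlg

namespace Groth.Agent.S12079

open TensorProduct in
/-- the comparison map for finite free modules is bijective -/
lemma bij_free (R : Type u) [CommRing R] (n : ℕ) (N L : Type u) [AddCommGroup N] [Module R N]
    [AddCommGroup L] [Module R L] :
    Function.Bijective (TensorProduct.rTensorHomToHomRTensor (RingHom.id R) (Fin n → R) N L) := by
  have h := (rTensorHomEquivHomRTensor R (Fin n → R) N L).bijective
  convert h using 1
  funext x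
  exact (rTensorHomEquivHomRTensor_apply x).symm

open TensorProduct in
lemma nat_comp (R : Type u) [CommRing R] {X Y : Type u} [AddCommGroup X] [Module R X]
    [AddCommGroup Y] [Module R Y] (N L : Type u) [AddCommGroup N] [Module R N]
    [AddCommGroup L] [Module R L] (f : X →ₗ[R] Y) :
    TensorProduct.rTensorHomToHomRTensor (RingHom.id R) X N L ∘ₗ (LinearMap.lcomp R N f).rTensor L =
      LinearMap.lcomp R (N ⊗[R] L) f ∘ₗ TensorProduct.rTensorHomToHomRTensor (RingHom.id R) Y N L := by
  apply TensorProduct.ext'
  intro h l
  apply LinearMap.ext
  intro x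
  simp only [LinearMap.comp_apply, LinearMap.rTensor_tmul, LinearMap.lcomp_apply',
    TensorProduct.rTensorHomToHomRTensor_apply, LinearMap.coe_comp, Function.comp_apply]

/-- For a finitely presented `R`-module `M`, any `R`-module `N` and a flat `R`-module `L`, the canonical
map `Hom_R(M, N) ⊗_R L → Hom_R(M, N ⊗_R L)` sending `f ⊗ l` to `m ↦ f m ⊗ l` is bijective. -/
theorem result (R : Type u) [CommRing R]
    (M N L : Type u) [AddCommGroup M] [Module R M] [AddCommGroup N] [Module R N] [AddCommGroup L] [Module R L]
    [Module.FinitePresentation R M] [Module.Flat R L] :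
    Function.Bijective (TensorProduct.rTensorHomToHomRTensor (RingHom.id R) M N L) := by
  obtain ⟨n, m, f, g, hf, hfg⟩ := Module.FinitePresentation.exists_fin' R M
  have hF := bij_free R n N L
  have hG := bij_free R m N L
  have nat_f := nat_comp R N L f
  have nat_g := nat_comp R N L g
  have hfinj : Function.Injective (LinearMap.lcomp R N f) :=
    LinearMap.lcomp_injective_of_surjective (S := R) (N := N) f hf
  have hex : Function.Exact (LinearMap.lcomp R N f) (LinearMap.lcomp R N g) :=
    LinearMap.exact_lcomp_of_exact_of_surjective (N := N) hfg hf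
  have hfinjL : Function.Injective ((LinearMap.lcomp R N f).rTensor L) :=
    Module.Flat.rTensor_preserves_injective_linearMap _ hfinj
  have hexL : Function.Exact ((LinearMap.lcomp R N f).rTensor L) ((LinearMap.lcomp R N g).rTensor L) :=
    Module.Flat.rTensor_exact L hex
  constructor
  · intro x y hxy
    apply hfinjL
    apply hF.1
    have e1 := LinearMap.congr_fun nat_f x
    have e2 := LinearMap.congr_fun nat_f y
    simp only [LinearMap.comp_apply] at e1 e2
    rw [e1, e2, hxy]
  · intro h
    obtain ⟨y, hy⟩ := hF.2 (h ∘ₗ f)
    have hy0 : (LinearMap.lcomp R N g).rTensor L y = 0 := by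
      apply hG.1
      have e := LinearMap.congr_fun nat_g y
      simp only [LinearMap.comp_apply] at e
      rw [e, hy, map_zero]
      apply LinearMap.ext
      intro z
      simp only [LinearMap.lcomp_apply', LinearMap.comp_apply, LinearMap.zero_apply]
      rw [hfg.apply_apply_eq_zero, map_zero]
    obtain ⟨x, hx⟩ := (hexL y).mp hy0
    refine ⟨x, ?_⟩
    apply LinearMap.lcomp_injective_of_surjective (S := R) (N := TensorProduct R N L) f hf
    have e := LinearMap.congr_fun nat_f x
    simp only [LinearMap.comp_apply] at e
    rw [← e, hx, hy]
    rfl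

end Groth.Agent.S12079
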