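import Mathlib
import Groth.Statements.S12080

set_option autoImplicit false
universe u
open TensorProduct
open CAlg

namespace Groth.Agent.S12080

/-- (1) ⇒ (2): let `M` be a finite locally free `R`-module of rank `1`, i.e. there is a set `s ⊆ R`
generating the unit ideal with `M_f ≅ R_f` as `R_f`-modules for every `f ∈ s`. Then the evaluation
map `Hom_R(M, R) ⊗_R M → R` is bijective, so `M` is invertible with inverse its dual. -/
theorem result (R : Type u) [CommRing R] (M : Type u) [AddCommGroup M]
    [Module R M] (s : Set R) (hs : Ideal.span s = ⊤)
    (hfree : ∀ f ∈ s, Nonempty (LocalizedModule.Away f M ≃ₗ[Localization.Away f] Localization.Away f)) :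
    Module.Invertible R M := by
  classical
  have hfp : Module.FinitePresentation R M := by
    apply Module.FinitePresentation.of_localizationSpan s hs
    intro g
    obtain ⟨e⟩ := hfree g.1 g.2
    exact Module.FinitePresentation.of_equiv e.symm
  refine ⟨?_⟩
  refine bijective_of_isLocalized_span s hs
    (fun r : s => (LocalizedModule.Away r.1 M →ₗ[Localization.Away r.1] Localization.Away r.1)
      ⊗[R] LocalizedModule.Away r.1 M)
    (fun r : s => TensorProduct.map
      (IsLocalizedModule.mapExtendScalars (Submonoid.powers r.1)
        (LocalizedModule.mkLinearMap (Submonoid.powers r.1) M)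
        (Algebra.linearMap R (Localization.Away r.1)) (Localization.Away r.1))
      (LocalizedModule.mkLinearMap (Submonoid.powers r.1) M))
    (fun r : s => Localization.Away r.1)
    (fun r : s => Algebra.linearMap R (Localization.Away r.1))
    (contractLeft R M) ?_
  intro r
  obtain ⟨e⟩ := hfree r.1 r.2
  -- the evaluation map
  let Φ₀ : (LocalizedModule.Away r.1 M →ₗ[Localization.Away r.1] Localization.Away r.1)
      ⊗[R] LocalizedModule.Away r.1 M →ₗ[R] Localization.Away r.1 :=
    TensorProduct.lift (LinearMap.mk₂ R (fun ψ x => ψ x)
      (fun _ _ _ => rfl) (fun _ _ _ => rfl)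
      (fun _ _ _ => map_add _ _ _) (fun c ψ x => by
        rw [← algebraMap_smul (Localization.Away r.1) c x, map_smul, algebraMap_smul]))
  have hΦ₀ : ∀ ψ x, Φ₀ (ψ ⊗ₜ[R] x) = ψ x := fun ψ x => by simp [Φ₀]
  have hmap : IsLocalizedModule.map (Submonoid.powers r.1)
      (TensorProduct.map
        (IsLocalizedModule.mapExtendScalars (Submonoid.powers r.1)
          (LocalizedModule.mkLinearMap (Submonoid.powers r.1) M)
          (Algebra.linearMap R (Localization.Away r.1)) (Localization.Away r.1))
        (LocalizedModule.mkLinearMap (Submonoid.powers r.1) M))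
      (Algebra.linearMap R (Localization.Away r.1)) (contractLeft R M) = Φ₀ := by
    apply IsLocalizedModule.linearMap_ext (Submonoid.powers r.1)
      (TensorProduct.map
        (IsLocalizedModule.mapExtendScalars (Submonoid.powers r.1)
          (LocalizedModule.mkLinearMap (Submonoid.powers r.1) M)
          (Algebra.linearMap R (Localization.Away r.1)) (Localization.Away r.1))
        (LocalizedModule.mkLinearMap (Submonoid.powers r.1) M))
      (Algebra.linearMap R (Localization.Away r.1))
    rw [IsLocalizedModule.map_comp]
    ext φ m
    simp [hΦ₀]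
    exact (IsLocalizedModule.map_apply (Submonoid.powers r.1)
      (LocalizedModule.mkLinearMap (Submonoid.powers r.1) M)
      (Algebra.linearMap R (Localization.Away r.1)) φ m).symm
  rw [hmap]
  -- Φ₀ is the contraction of the invertible module `M_r` over `R_r`
  have : Module.Invertible (Localization.Away r.1) (LocalizedModule.Away r.1 M) :=
    Module.Invertible.congr e.symm
  let E := IsLocalization.moduleTensorEquiv (Submonoid.powers r.1) (Localization.Away r.1)
    (LocalizedModule.Away r.1 M →ₗ[Localization.Away r.1] Localization.Away r.1)
    (LocalizedModule.Away r.1 M)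
  have hE : ∀ y, Φ₀ (E y) = contractLeft (Localization.Away r.1) (LocalizedModule.Away r.1 M) y := by
    intro y
    induction y using TensorProduct.induction_on with
    | zero => simp
    | tmul ψ x =>
      have : E (ψ ⊗ₜ[Localization.Away r.1] x) = ψ ⊗ₜ[R] x := rfl
      rw [this, hΦ₀, contractLeft_apply]
    | add a b ha hb => rw [map_add, map_add, ha, hb, map_add]
  have hbij := (Module.Invertible.bijective (R := Localization.Away r.1)
    (M := LocalizedModule.Away r.1 M))
  have : (Φ₀ : _ → _) = (contractLeft (Localization.Away r.1) (LocalizedModule.Away r.1 M)) ∘ E.symm := by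
    funext x
    obtain ⟨y, rfl⟩ := E.surjective x
    simp [hE]
  rw [this]
  exact hbij.comp E.symm.bijective

end Groth.Agent.S12080
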