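import Groth.Statements.S12081

set_option autoImplicit false
universe u
open TensorProduct
open EtAlg

namespace Groth.Agent.S12081

/-- Let `B' = B ×_A A'` be a fibre square of rings with `A' → A` surjective with kernel `I`, let `J =
Ker(B' → B)`, let `D'` be a `B'`-algebra and `C' = D' ⊗_{B'} A'`. Then the ideal `I C'` is, as a
subset of `C'`, the image of the ideal `J D'` under `D' → C'`; that is, the map `J D' → I C'` is
surjective. -/
theorem result (B' B A' A : Type u) [CommRing B'] [CommRing B] [CommRing A'] [CommRing A]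
    [Algebra B' B] [Algebra B' A'] [Algebra B A] [Algebra A' A] [Algebra B' A] [IsScalarTower B' B A] [IsScalarTower B' A' A]
    (hsq : EtMil.IsFibreSquare B' B A' A)
    (D' C' : Type u) [CommRing D'] [CommRing C'] [Algebra B' D'] [Algebra A' C']
    [Algebra D' C'] [Algebra B' C'] [IsScalarTower B' A' C'] [IsScalarTower B' D' C'] [Algebra.IsPushout B' A' D' C'] :
    (algebraMap D' C') '' ((RingHom.ker (algebraMap B' B)).map (algebraMap B' D') : Set D') =
      ((RingHom.ker (algebraMap A' A)).map (algebraMap A' C') : Set C') := by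
  set J := RingHom.ker (algebraMap B' B) with hJ
  set I := RingHom.ker (algebraMap A' A) with hI
  have hJI : J.map (algebraMap B' A') ≤ I := by
    rw [Ideal.map_le_iff_le_comap]
    intro j hj
    rw [Ideal.mem_comap, hI, RingHom.mem_ker, ← IsScalarTower.algebraMap_apply,
      IsScalarTower.algebraMap_apply B' B A, (RingHom.mem_ker).mp hj, map_zero]
  apply Set.eq_of_subset_of_subset
  · rintro _ ⟨x, hx, rfl⟩
    have h1 : algebraMap D' C' x ∈ (J.map (algebraMap B' D')).map (algebraMap D' C') :=
      Ideal.mem_map_of_mem _ hx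
    rw [Ideal.map_map, ← IsScalarTower.algebraMap_eq, IsScalarTower.algebraMap_eq B' A' C',
      ← Ideal.map_map] at h1
    exact Ideal.map_mono hJI h1
  · -- S is closed under addition and contains 0
    set S : Set C' := (algebraMap D' C') '' ((J.map (algebraMap B' D') : Ideal D') : Set D') with hS
    have hS0 : (0 : C') ∈ S := ⟨0, Ideal.zero_mem _, map_zero _⟩
    have hSadd : ∀ x y, x ∈ S → y ∈ S → x + y ∈ S := by
      rintro _ _ ⟨x, hx, rfl⟩ ⟨y, hy, rfl⟩
      exact ⟨x + y, Ideal.add_mem _ hx hy, map_add _ _ _⟩
    -- lifting elements of I to J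
    have hlift : ∀ i' ∈ I, ∃ j ∈ J, algebraMap B' A' j = i' := by
      intro i' hi'
      obtain ⟨j, ⟨hj1, hj2⟩, -⟩ := hsq.2 0 i' (by rw [map_zero]; exact ((RingHom.mem_ker).mp hi').symm)
      exact ⟨j, (RingHom.mem_ker).mpr hj1, hj2⟩
    have hP : ∀ c : C', ∀ i' ∈ I, c * algebraMap A' C' i' ∈ S := by
      intro c
      refine IsBaseChange.inductionOn (Algebra.IsPushout.out (R := B') (S := A') (R' := D') (S' := C'))
        c (fun c => ∀ i' ∈ I, c * algebraMap A' C' i' ∈ S) ?_ ?_ ?_ ?_
      · intro i' _
        rw [zero_mul]; exact hS0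
      · intro d i' hi'
        obtain ⟨j, hj, rfl⟩ := hlift i' hi'
        refine ⟨d * algebraMap B' D' j, Ideal.mul_mem_left _ _ (Ideal.mem_map_of_mem _ hj), ?_⟩
        rw [map_mul, ← IsScalarTower.algebraMap_apply, ← IsScalarTower.algebraMap_apply]
        rfl
      · intro a' n hn i' hi'
        have := hn (a' * i') (Ideal.mul_mem_left _ _ hi')
        rw [map_mul] at this
        rw [Algebra.smul_def]
        convert this using 1
        ring
      · intro n₁ n₂ h₁ h₂ i' hi'
        rw [add_mul]
        exact hSadd _ _ (h₁ i' hi') (h₂ i' hi')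
    have hQ : ∀ y ∈ Submodule.span C' ((algebraMap A' C') '' (I : Set A')), ∀ c : C', c * y ∈ S := by
      intro y hy
      induction hy using Submodule.span_induction with
      | mem z hz =>
        obtain ⟨i', hi', rfl⟩ := hz
        intro c; exact hP c i' hi'
      | zero => intro c; rw [mul_zero]; exact hS0
      | add z w _ _ hz hw => intro c; rw [mul_add]; exact hSadd _ _ (hz c) (hw c)
      | smul c' z _ hz =>
        intro c
        rw [smul_eq_mul, ← mul_assoc]
        exact hz _
    intro y hy
    have := hQ y hy 1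
    rwa [one_mul] at this

end Groth.Agent.S12081
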