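import Groth.Statements.S12082
import Mathlib
import Groth.Agent.S5758
import Groth.Agent.H15.CMCat

set_option autoImplicit false
set_option linter.style.haveILetI false
set_option linter.unusedSectionVars false
set_option linter.unusedVariables false
universe u
open Synt

namespace Groth.Agent.S12082

section Helpers

variable {P : Type u} [CommRing P] (I : Ideal P) (q : Ideal (P ⧸ I)) [q.IsPrime]

local notation "Rq" => Localization.AtPrime (Ideal.comap (Ideal.Quotient.mk I) q)
local notation "Jq" => Ideal.map (algebraMap P Rq) I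

theorem submonoid_eq :
    Algebra.algebraMapSubmonoid (P ⧸ I) (Ideal.comap (Ideal.Quotient.mk I) q).primeCompl =
      q.primeCompl := by
  ext b
  constructor
  · rintro ⟨a, ha, rfl⟩
    exact ha
  · intro hb
    obtain ⟨a, rfl⟩ := Ideal.Quotient.mk_surjective b
    exact ⟨a, hb, rfl⟩

theorem dim_quot : ringKrullDim (Rq ⧸ Jq) = (q.height : WithBot ℕ∞) := by
  haveI : IsLocalization.AtPrime (Rq ⧸ Jq) q := by
    unfold IsLocalization.AtPrime
    rw [← submonoid_eq I q]
    infer_instance
  exact IsLocalization.AtPrime.ringKrullDim_eq_height q (Rq ⧸ Jq)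

theorem key (hP : LocCoh.IsCohenMacaulayRing P) (c : ℕ)
    (hc : (c : ℕ∞) + q.height = (Ideal.comap (Ideal.Quotient.mk I) q).height)
    (f : Fin c → Rq) (hf : ∀ i, f i ∈ Jq)
    (hgen : Ideal.span (Set.range f) ⊔ IsLocalRing.maximalIdeal Rq * Jq = Jq) :
    RingTheory.Sequence.IsRegular Rq (List.ofFn f) := by
  haveI hCM : LocCoh.IsCohenMacaulayLocalRing Rq := hP.isCohenMacaulayLocalRing_localization _
  haveI : IsNoetherianRing Rq := inferInstance
  have hIq : I ≤ Ideal.comap (Ideal.Quotient.mk I) q := by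
    intro a ha
    rw [Ideal.mem_comap, Ideal.Quotient.eq_zero_iff_mem.mpr ha]
    exact q.zero_mem
  have hJm : Jq ≤ IsLocalRing.maximalIdeal Rq :=
    (Ideal.map_mono hIq).trans (le_of_eq Localization.AtPrime.map_eq_maximalIdeal)
  have hspan : Ideal.span (Set.range f) = Jq := by
    refine le_antisymm (Ideal.span_le.mpr ?_) ?_
    · rintro _ ⟨i, rfl⟩
      exact hf i
    · have h2 : Jq ≤ Ideal.span (Set.range f) ⊔ IsLocalRing.maximalIdeal Rq • Jq := by
        rw [Ideal.smul_eq_mul]
        exact hgen.ge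
      exact Submodule.le_of_le_smul_of_le_jacobson_bot (IsNoetherian.noetherian _)
        (IsLocalRing.maximalIdeal_le_jacobson ⊥) h2
  have hofList : Ideal.ofList (List.ofFn f) = Jq := by
    rw [← hspan]
    show Ideal.span {r | r ∈ List.ofFn f} = _
    congr 1
    ext x
    exact List.mem_ofFn' f x
  have hsm : Ideal.ofList (List.ofFn f) • (⊤ : Submodule Rq Rq) = Jq := by
    rw [smul_eq_mul, Ideal.mul_top, hofList]
  have hmem : ∀ x ∈ List.ofFn f, x ∈ IsLocalRing.maximalIdeal Rq := by
    rw [List.forall_mem_ofFn_iff]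
    exact fun i => hJm (hf i)
  have h5 := (Groth.Agent.S5758.result Rq Rq hCM.supportDim_eq_depth (List.ofFn f) hmem).1
  refine ⟨h5.mpr ?_, ?_⟩
  · rw [hsm, List.length_ofFn]
    rw [Module.supportDim_self_eq_ringKrullDim,
      IsLocalization.AtPrime.ringKrullDim_eq_height (Ideal.comap (Ideal.Quotient.mk I) q) Rq,
      ← hc]
    have h1 : Module.supportDim Rq (Rq ⧸ Jq) = (q.height : WithBot ℕ∞) :=
      (Module.supportDim_quotient_eq_ringKrullDim Jq).trans (dim_quot I q)
    rw [h1]
    have h3 : ((q.height : ℕ∞) : WithBot ℕ∞) + ((c : ℕ∞) : WithBot ℕ∞) =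
        (((c : ℕ∞) + q.height : ℕ∞) : WithBot ℕ∞) := by
      rw [← WithBot.coe_add, add_comm]
    exact_mod_cast h3
  · rw [hsm]
    intro h
    exact (IsLocalRing.maximalIdeal.isMaximal Rq).ne_top (top_le_iff.mp (h.le.trans hJm))

end Helpers


/-- Let `S = k[x_1, …, x_n]/I` over a field `k`, `q` a prime of `S` with preimage `q'` in the polynomial
ring, `c` the natural number with `c + ht(q) = ht(q')`, and `J` the extension of `I` to the local
ring `R = k[x_1, …, x_n]_{q'}`. Any `c` elements of `J` whose images generate `J / q' J` form a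
regular sequence in `R`. -/
theorem result (k : Type u) [Field k] (n : ℕ)
    (I : Ideal (MvPolynomial (Fin n) k)) (q : Ideal (MvPolynomial (Fin n) k ⧸ I)) [q.IsPrime] (c : ℕ)
    (hc : (c : ℕ∞) + q.height = (q.comap (Ideal.Quotient.mk I)).height)
    (f : Fin c → Localization.AtPrime (q.comap (Ideal.Quotient.mk I)))
    (hf : ∀ i, f i ∈ I.map (algebraMap _ (Localization.AtPrime (q.comap (Ideal.Quotient.mk I)))))
    (hgen : Ideal.span (Set.range f) ⊔
        IsLocalRing.maximalIdeal (Localization.AtPrime (q.comap (Ideal.Quotient.mk I))) *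
          I.map (algebraMap _ (Localization.AtPrime (q.comap (Ideal.Quotient.mk I)))) =
      I.map (algebraMap _ (Localization.AtPrime (q.comap (Ideal.Quotient.mk I))))) :
    RingTheory.Sequence.IsRegular (Localization.AtPrime (q.comap (Ideal.Quotient.mk I))) (List.ofFn f) := by
  haveI : LocCoh.IsCohenMacaulayRing k :=
    Groth.Agent.H15.CMCat.isCMRing_of_isDomain_of_dimLEOne k
  exact key I q (Groth.Agent.H15.CMCat.isCMRing_mvPolynomial k n) c hc f hf hgen

end Groth.Agent.S12082
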