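import Groth.Statements.S12083
import Groth.Agent.H35.RelFP
import Mathlib

set_option autoImplicit false
universe u
open CAlg

namespace Groth.Agent.S12083

open TensorProduct

attribute [local instance] MvPolynomial.algebraMvPolynomial

/-- Let `R → A` be a finite type ring map with a surjective presentation `α : R[x_1, …, x_n] → A` and
`M` an `A`-module finitely presented relative to `R` (finitely presented as an `R[x_1, …,
x_n]`-module through `α`). For a ring map `R → R'` let `A' = R' ⊗_R A` (a pushout square) and `γ :
R'[z_1, …, z_k] → A'` any surjective presentation. Then `A' ⊗_A M = R' ⊗_R M` is finitely presented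
relative to `R'`, i.e. finitely presented as an `R'[z_1, …, z_k]`-module through `γ`. -/
theorem result {R A R' A' : Type u} [CommRing R] [CommRing A] [CommRing R'] [CommRing A']
    [Algebra R A] [Algebra R R'] [Algebra A A'] [Algebra R' A'] [Algebra R A'] [IsScalarTower R A A'] [IsScalarTower R R' A']
    [Algebra.IsPushout R A R' A'] [Algebra.FiniteType R A] (M : Type u) [AddCommGroup M] [Module A M] {n k : ℕ}
    (α : MvPolynomial (Fin n) R →ₐ[R] A) (hα : Function.Surjective α)
    (hM : @Module.FinitePresentation (MvPolynomial (Fin n) R) M _ _ (Module.compHom M α.toRingHom))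
    (γ : MvPolynomial (Fin k) R' →ₐ[R'] A') (hγ : Function.Surjective γ) :
    @Module.FinitePresentation (MvPolynomial (Fin k) R') (TensorProduct A A' M) _ _
      (Module.compHom (TensorProduct A A' M) γ.toRingHom) := by
  classical
  letI algPA : Algebra (MvPolynomial (Fin n) R) A := α.toRingHom.toAlgebra
  let α' : MvPolynomial (Fin n) R' →ₐ[R'] A' :=
    MvPolynomial.aeval (fun i => algebraMap A A' (α (MvPolynomial.X i)))
  letI algP'A' : Algebra (MvPolynomial (Fin n) R') A' := α'.toRingHom.toAlgebra
  letI algPA' : Algebra (MvPolynomial (Fin n) R) A' :=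
    ((algebraMap A A').comp α.toRingHom).toAlgebra
  haveI t1 : IsScalarTower (MvPolynomial (Fin n) R) A A' := IsScalarTower.of_algebraMap_eq' rfl
  have key : ∀ p : MvPolynomial (Fin n) R,
      α' (MvPolynomial.map (algebraMap R R') p) = algebraMap A A' (α p) := by
    intro p
    have : (α'.toRingHom.comp (MvPolynomial.map (algebraMap R R'))) =
        (algebraMap A A').comp α.toRingHom := by
      apply MvPolynomial.ringHom_ext
      · intro r
        simp only [RingHom.comp_apply, MvPolynomial.map_C, AlgHom.toRingHom_eq_coe,
          RingHom.coe_coe]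
        rw [← MvPolynomial.algebraMap_eq, ← MvPolynomial.algebraMap_eq, α'.commutes, α.commutes,
          ← IsScalarTower.algebraMap_apply, ← IsScalarTower.algebraMap_apply]
      · intro i
        simp [α']
    exact RingHom.congr_fun this p
  haveI t2 : IsScalarTower (MvPolynomial (Fin n) R) (MvPolynomial (Fin n) R') A' :=
    IsScalarTower.of_algebraMap_eq (fun p => (key p).symm)
  haveI t3 : IsScalarTower R (MvPolynomial (Fin n) R) A :=
    IsScalarTower.of_algebraMap_eq (fun r => (α.commutes r).symm)
  haveI t4 : IsScalarTower R' (MvPolynomial (Fin n) R') A' :=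
    IsScalarTower.of_algebraMap_eq (fun r => (α'.commutes r).symm)
  haveI t5 : IsScalarTower R (MvPolynomial (Fin n) R') A' :=
    IsScalarTower.of_algebraMap_eq (fun r => by
      rw [IsScalarTower.algebraMap_apply R R' A',
        IsScalarTower.algebraMap_apply R R' (MvPolynomial (Fin n) R')]
      exact (α'.commutes _).symm)
  have hpo : Algebra.IsPushout (MvPolynomial (Fin n) R) A (MvPolynomial (Fin n) R') A' :=
    (Algebra.IsPushout.comp_iff (R := R) (S := MvPolynomial (Fin n) R) (R' := R')
      (S' := MvPolynomial (Fin n) R') (T := A) (T' := A')).mp inferInstance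
  letI mP : Module (MvPolynomial (Fin n) R) M := Module.compHom M α.toRingHom
  haveI t7 : IsScalarTower (MvPolynomial (Fin n) R) A M := ⟨fun p a m => by
    show (α p * a) • m = α p • (a • m)
    rw [mul_smul]⟩
  haveI : Module.FinitePresentation (MvPolynomial (Fin n) R) M := hM
  have h1 : Module.FinitePresentation (MvPolynomial (Fin n) R') (A' ⊗[A] M) :=
    H35.fp_baseChange_pushout (C := MvPolynomial (Fin n) R) (A := A)
      (C' := MvPolynomial (Fin n) R') (A' := A') M
  have hα' : Function.Surjective α' := by
    intro x
    have hbc : IsBaseChange A (IsScalarTower.toAlgHom R R' A').toLinearMap :=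
      Algebra.IsPushout.out
    refine hbc.inductionOn x (fun x => ∃ y, α' y = x) ⟨0, map_zero _⟩ ?_ ?_ ?_
    · intro r'
      exact ⟨MvPolynomial.C r', by simp [α']⟩
    · rintro a _ ⟨y, rfl⟩
      obtain ⟨p, rfl⟩ := hα a
      refine ⟨MvPolynomial.map (algebraMap R R') p * y, ?_⟩
      rw [map_mul, key, Algebra.smul_def]
    · rintro _ _ ⟨y₁, rfl⟩ ⟨y₂, rfl⟩
      exact ⟨y₁ + y₂, map_add _ _ _⟩
  have h2 : @Module.FinitePresentation (MvPolynomial (Fin n) R') (A' ⊗[A] M) _ _
      (Module.compHom _ α'.toRingHom) := by
    refine H35.fp_congr _ _ _ (fun b x => ?_) h1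
    change b • x = α' b • x
    induction x using TensorProduct.induction_on with
    | zero => rw [smul_zero, smul_zero]
    | tmul a' m =>
      rw [TensorProduct.smul_tmul', TensorProduct.smul_tmul', Algebra.smul_def, smul_eq_mul]
      rfl
    | add x y hx hy => rw [smul_add, smul_add, hx, hy]
  exact S6991.fp_transfer (A' ⊗[A] M) α' hα' γ hγ h2

end Groth.Agent.S12083
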