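import Groth.Statements.S12085
import Mathlib
import Groth.Agent.H77.UnramDescent

set_option autoImplicit false
universe u
open TensorProduct
open CAlg

namespace Groth.Agent.S12085

/-- If `R → S` is G-unramified (of finite presentation and formally unramified), then there are a finite
type `ℤ`-algebra `R₀`, a ring map `R₀ → R` and a G-unramified ring map `R₀ → S₀` such that `S ≅ R
⊗_{R₀} S₀` as `R`-algebras (existence of an isomorphism). -/
theorem result (R : Type u) [CommRing R] (S : Type u) [CommRing S]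
    [Algebra R S] [Algebra.FinitePresentation R S] [Algebra.FormallyUnramified R S] :
    ∃ (R₀ : Type u) (_ : CommRing R₀) (_ : Algebra.FiniteType ℤ R₀) (S₀ : Type u) (_ : CommRing S₀)
      (_ : Algebra R₀ S₀) (_ : Algebra.FinitePresentation R₀ S₀) (_ : Algebra.FormallyUnramified R₀ S₀)
      (_ : Algebra R₀ R), Nonempty (R ⊗[R₀] S₀ ≃ₐ[R] S) := by
  obtain ⟨R₀, S₀, i1, i2, hfg, hfp, hun, ⟨e⟩⟩ := Groth.Agent.H77.UnramDescent.exists_model R S
  exact ⟨R₀, inferInstance, (Subalgebra.fg_iff_finiteType R₀).mp hfg, S₀, i1, i2, hfp, hun,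
    inferInstance, ⟨e⟩⟩

end Groth.Agent.S12085
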