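import Groth.Statements.S12091
import Mathlib

set_option autoImplicit false
universe u
open TensorProduct MvPolynomial
open FlatMor

namespace Groth.Agent.S12091

section

variable {A : Type u} [CommRing A] {M : Type u} [AddCommGroup M] [Module A M] {m : ℕ}

/-- linear forms -/
noncomputable def ℓ (A : Type u) [CommRing A] (m : ℕ) : (Fin m → A) →ₗ[A] MvPolynomial (Fin m) A where
  toFun c := ∑ j, C (c j) * X j
  map_add' c d := by simp [add_mul, Finset.sum_add_distrib]
  map_smul' a c := by
    simp only [Pi.smul_apply, smul_eq_mul, C_mul, RingHom.id_apply, Finset.smul_sum,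
      MvPolynomial.smul_eq_C_mul, mul_assoc]

lemma ℓ_apply (c : Fin m → A) : ℓ A m c = ∑ j, C (c j) * X j := rfl

variable (x : Fin m → M) (G : Algebra.Generators A (SymmetricAlgebra A M) (Fin m))
  (hG : ∀ j, G.val j = SymmetricAlgebra.ι A M (x j))

include hG in
lemma aeval_ℓ (c : Fin m → A) :
    aeval G.val (ℓ A m c) = SymmetricAlgebra.ι A M (Fintype.linearCombination A x c) := by
  simp only [ℓ_apply, map_sum, map_mul, aeval_C, aeval_X, hG, Fintype.linearCombination_apply,
    map_smul]
  refine Finset.sum_congr rfl fun j _ => ?_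
  rw [Algebra.smul_def]

lemma mem_ker_iff (p : MvPolynomial (Fin m) A) :
    p ∈ G.toExtension.ker ↔ aeval G.val p = 0 := by
  have h : algebraMap G.Ring (SymmetricAlgebra A M) p = aeval G.val p := G.algebraMap_apply p
  exact ⟨fun hp => h.symm.trans (RingHom.mem_ker.mp hp), fun hp => RingHom.mem_ker.mpr (h.trans hp)⟩

include hG in
lemma ℓ_mem_ker (k : LinearMap.ker (Fintype.linearCombination A x)) :
    ℓ A m (k : Fin m → A) ∈ G.toExtension.ker := by
  rw [mem_ker_iff, aeval_ℓ x G hG, LinearMap.mem_ker.mp k.2, map_zero]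

include hG in
lemma mem_span_of_aeval_eq_zero (hx : Function.Surjective (Fintype.linearCombination A x))
    (p : MvPolynomial (Fin m) A) (hp' : aeval G.val p = 0) :
    p ∈ Ideal.span (Set.range
      fun k : LinearMap.ker (Fintype.linearCombination A x) => ℓ A m (k : Fin m → A)) := by
  classical
  set lc := Fintype.linearCombination A x with hlc
  set I₀ : Ideal (MvPolynomial (Fin m) A) :=
    Ideal.span (Set.range fun k : LinearMap.ker lc => ℓ A m (k : Fin m → A)) with hI₀
  let g : (Fin m → A) →ₗ[A] (MvPolynomial (Fin m) A ⧸ I₀) :=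
    (Ideal.Quotient.mkₐ A I₀).toLinearMap ∘ₗ ℓ A m
  have hg : LinearMap.ker lc ≤ LinearMap.ker g := by
    intro k hk
    rw [LinearMap.mem_ker]
    show Ideal.Quotient.mk I₀ (ℓ A m k) = 0
    rw [Ideal.Quotient.eq_zero_iff_mem]
    exact Ideal.subset_span ⟨⟨k, hk⟩, rfl⟩
  let f : M →ₗ[A] (MvPolynomial (Fin m) A ⧸ I₀) :=
    ((LinearMap.ker lc).liftQ g hg) ∘ₗ (lc.quotKerEquivOfSurjective hx).symm.toLinearMap
  have hf : ∀ c, f (lc c) = Ideal.Quotient.mk I₀ (ℓ A m c) := by
    intro c
    have : (lc.quotKerEquivOfSurjective hx).symm (lc c) = Submodule.Quotient.mk c := by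
      rw [LinearEquiv.symm_apply_eq]; rfl
    simp only [f, LinearMap.comp_apply, LinearEquiv.coe_coe, this, Submodule.liftQ_apply]
    rfl
  let ψ : SymmetricAlgebra A M →ₐ[A] (MvPolynomial (Fin m) A ⧸ I₀) := SymmetricAlgebra.lift f
  have hψ : ψ.comp (aeval G.val) = Ideal.Quotient.mkₐ A I₀ := by
    apply MvPolynomial.algHom_ext
    intro j
    have hxj : x j = lc (Pi.single j 1) := by
      simp [lc, Fintype.linearCombination_apply, Pi.single_apply]
    have hℓj : ℓ A m (Pi.single j 1) = X j := by
      simp [ℓ_apply, Pi.single_apply]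
    rw [AlgHom.comp_apply, aeval_X, hG, SymmetricAlgebra.lift_ι_apply, hxj, hf, hℓj]
    rfl
  have h0 : Ideal.Quotient.mk I₀ p = 0 := by
    have := congrArg (fun F => F p) hψ
    simp only [AlgHom.comp_apply, hp', map_zero, Ideal.Quotient.mkₐ_eq_mk] at this
    exact this.symm
  exact Ideal.Quotient.eq_zero_iff_mem.mp h0

include hG in
lemma span_eq_ker (hx : Function.Surjective (Fintype.linearCombination A x)) :
    Ideal.span (Set.range fun k : LinearMap.ker (Fintype.linearCombination A x) =>
      (ℓ A m (k : Fin m → A) : G.toExtension.Ring)) = G.toExtension.ker := by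
  apply le_antisymm
  · refine Ideal.span_le.mpr ?_
    rintro _ ⟨k, rfl⟩
    exact ℓ_mem_ker x G hG k
  · intro p hp
    exact mem_span_of_aeval_eq_zero x G hG hx p ((mem_ker_iff G p).mp hp)

end

theorem result (A : Type u) [CommRing A] (M : Type u)
    [AddCommGroup M] [Module A M] (m : ℕ) (x : Fin m → M)
    (hx : Function.Surjective (Fintype.linearCombination A x))
    (G : Algebra.Generators A (SymmetricAlgebra A M) (Fin m))
    (hG : ∀ j, G.val j = SymmetricAlgebra.ι A M (x j)) :
    ∃ e : SymmetricAlgebra A M ⊗[A] (LinearMap.ker (Fintype.linearCombination A x)) →ₗ[SymmetricAlgebra A M]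
        G.toExtension.Cotangent,
      (∀ (k : LinearMap.ker (Fintype.linearCombination A x))
        (hk : (∑ j, C ((k : Fin m → A) j) * X j : MvPolynomial (Fin m) A) ∈ G.toExtension.ker),
        e (1 ⊗ₜ k) = Algebra.Extension.Cotangent.mk ⟨_, hk⟩) ∧
      Function.Surjective e ∧ (Module.Projective A M → Function.Bijective e) := by
  classical
  set lc := Fintype.linearCombination A x with hlc
  have hmem : ∀ k : LinearMap.ker lc, ℓ A m (k : Fin m → A) ∈ G.toExtension.ker :=
    ℓ_mem_ker x G hG
  let e₀ : LinearMap.ker lc →ₗ[A] G.toExtension.Cotangent :=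
    { toFun := fun k => Algebra.Extension.Cotangent.mk ⟨ℓ A m k, hmem k⟩
      map_add' := fun k k' => by
        have h1 : (⟨ℓ A m ((k + k' : LinearMap.ker lc) : Fin m → A), hmem (k + k')⟩ :
            G.toExtension.ker) = ⟨ℓ A m k, hmem k⟩ + ⟨ℓ A m k', hmem k'⟩ := by
          apply Subtype.ext
          show ℓ A m ((k + k' : LinearMap.ker lc) : Fin m → A) = ℓ A m k + ℓ A m k'
          rw [Submodule.coe_add, map_add]
        rw [h1, map_add]
      map_smul' := fun a k => by
        have h1 : (⟨ℓ A m ((a • k : LinearMap.ker lc) : Fin m → A), hmem (a • k)⟩ :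
            G.toExtension.ker) =
            (algebraMap A G.toExtension.Ring a) • (⟨ℓ A m k, hmem k⟩ : G.toExtension.ker) := by
          apply Subtype.ext
          show ℓ A m ((a • k : LinearMap.ker lc) : Fin m → A) = C a * ℓ A m k
          rw [Submodule.coe_smul, map_smul, MvPolynomial.smul_eq_C_mul]
        rw [h1, map_smul]
        apply Algebra.Extension.Cotangent.ext
        rw [Algebra.Extension.Cotangent.val_smul', RingHom.id_apply,
          Algebra.Extension.Cotangent.val_smul'']
        exact algebraMap_smul G.toExtension.Ring a _ }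
  let e : SymmetricAlgebra A M ⊗[A] (LinearMap.ker lc) →ₗ[SymmetricAlgebra A M]
      G.toExtension.Cotangent := LinearMap.liftBaseChange (SymmetricAlgebra A M) e₀
  have he : ∀ k : LinearMap.ker lc, e (1 ⊗ₜ k) =
      Algebra.Extension.Cotangent.mk ⟨ℓ A m k, hmem k⟩ := fun k => by
    simp only [e, LinearMap.liftBaseChange_tmul, one_smul]
    rfl
  have hsurj : Function.Surjective e := by
    rw [← LinearMap.range_eq_top, eq_top_iff,
      ← Algebra.Extension.Cotangent.span_eq_top_of_span_eq_ker
        (fun k : LinearMap.ker lc => (ℓ A m (k : Fin m → A) : G.toExtension.Ring))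
        (span_eq_ker x G hG hx),
      Submodule.span_le]
    rintro _ ⟨k, rfl⟩
    exact ⟨1 ⊗ₜ k, he k⟩
  refine ⟨e, ?_, hsurj, fun hproj => ⟨?_, hsurj⟩⟩
  · intro k hk
    rw [he]
    rfl
  · have := hproj
    obtain ⟨s, hs⟩ := Module.projective_lifting_property lc LinearMap.id hx
    let π : (Fin m → A) →ₗ[A] LinearMap.ker lc :=
      (LinearMap.id - s ∘ₗ lc).codRestrict (LinearMap.ker lc) (fun c => by
        rw [LinearMap.mem_ker]
        simp only [LinearMap.sub_apply, LinearMap.id_apply, LinearMap.comp_apply, map_sub]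
        have := LinearMap.congr_fun hs (lc c)
        simp only [LinearMap.comp_apply, LinearMap.id_apply] at this
        rw [this, sub_self])
    have hπ : ∀ k : LinearMap.ker lc, π (k : Fin m → A) = k := by
      intro k
      ext1
      simp [π, LinearMap.mem_ker.mp k.2]
    let T : G.toExtension.CotangentSpace →ₗ[SymmetricAlgebra A M]
        SymmetricAlgebra A M ⊗[A] (LinearMap.ker lc) :=
      G.cotangentSpaceBasis.constr (SymmetricAlgebra A M)
        (fun j => (1 : SymmetricAlgebra A M) ⊗ₜ[A] π (fun j' => if j = j' then 1 else 0))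
    let D : G.toExtension.Cotangent →ₗ[SymmetricAlgebra A M]
        SymmetricAlgebra A M ⊗[A] (LinearMap.ker lc) := T ∘ₗ G.toExtension.cotangentComplex
    have hD : ∀ k : LinearMap.ker lc, D (e (1 ⊗ₜ k)) = 1 ⊗ₜ k := by
      intro k
      rw [he]
      show T (G.toExtension.cotangentComplex
        (Algebra.Extension.Cotangent.mk ⟨ℓ A m k, hmem k⟩)) = _
      rw [Algebra.Extension.cotangentComplex_mk, Module.Basis.constr_apply_fintype]
      have hpd : ∀ j, aeval G.val (pderiv j (ℓ A m (k : Fin m → A))) =
          algebraMap A (SymmetricAlgebra A M) ((k : Fin m → A) j) := by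
        intro j
        rw [ℓ_apply, map_sum, map_sum, Finset.sum_eq_single j]
        · rw [pderiv_C_mul, pderiv_X_self, mul_one, aeval_C]
        · intro i _ hij
          rw [pderiv_C_mul, pderiv_X_of_ne hij, mul_zero, map_zero]
        · intro h; exact absurd (Finset.mem_univ j) h
      simp only [Module.Basis.equivFun_apply, Algebra.Generators.cotangentSpaceBasis_repr_one_tmul,
        hpd]
      conv_rhs => rw [← hπ k, LinearMap.pi_apply_eq_sum_univ π (k : Fin m → A), tmul_sum]
      refine Finset.sum_congr rfl fun j _ => ?_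
      rw [algebraMap_smul, ← TensorProduct.tmul_smul]
    have hDe : ∀ u, D (e u) = u := by
      intro u
      induction u using TensorProduct.induction_on with
      | zero => simp
      | tmul a k =>
        have : a ⊗ₜ[A] k = a • ((1 : SymmetricAlgebra A M) ⊗ₜ[A] k) := by
          rw [TensorProduct.smul_tmul', smul_eq_mul, mul_one]
        rw [this, map_smul, map_smul, hD]
      | add u v hu hv => rw [map_add, map_add, hu, hv]
    exact Function.LeftInverse.injective hDe

end Groth.Agent.S12091
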