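import Groth.Statements.S12093
import Groth.Agent.H35.LTensorCxLib

set_option autoImplicit false
universe u
open CategoryTheory CategoryTheory.Limits MonoidalCategory
attribute [local instance] HasDerivedCategory.standard
open DRing

namespace Groth.Agent.S12093

/-- Let `K•` be a complex of `R`-modules (for which `− ⊗^L_R K•` is assumed to exist) and `a` an
integer. Then `K•` has tor amplitude in `[a, ∞)`, i.e. `H^i(M ⊗^L_R K•) = 0` for every `R`-module
`M` and every `i < a`, if and only if `K•` is quasi-isomorphic to a K-flat complex `E•` (tensoring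
with `E•` preserves acyclic complexes) with flat terms and `E^i = 0` for `i < a`. -/
theorem result (R : Type u) [CommRing R] (a : ℤ) (K : DRing.Cx R)
    [DRing.HasLTensorCx R K] :
    (∀ (M : ModuleCat.{u} R) (i : ℤ), i < a →
        Subsingleton (Dual.HD R ((DRing.LTensorCx R K).obj
          (DRing.toD ((CochainComplex.singleFunctor (ModuleCat.{u} R) 0).obj M))) i)) ↔
      ∃ E : DRing.Cx R, (∀ L : DRing.Cx R, (∀ i : ℤ, IsZero (L.homology i)) → ∀ i : ℤ, IsZero ((L ⊗ E).homology i)) ∧
        DRing.TermwiseFlat E ∧ (∀ i : ℤ, i < a → IsZero (E.X i)) ∧ Nonempty (DRing.toD E ≅ DRing.toD K) := by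
  constructor
  · intro h
    obtain ⟨P, f, hPK, hPfl, hf, -⟩ := Groth.Agent.H31.KFlatRing.exists_isKFlat_resolution K
    haveI := hf
    let e : DRing.toD P ≅ DRing.toD K := asIso (DerivedCategory.Q.map f)
    have hT : ∀ (M : ModuleCat.{u} R) (i : ℤ), i < a → (CohIII.tensorObj P M).ExactAt i := by
      intro M i hi
      rw [← Groth.Agent.H35.LTC.isZero_H_single_iff hPK e M i]
      have hs : Subsingleton ((DerivedCategory.homologyFunctor (ModuleCat.{u} R) i).obj
          ((DRing.LTensorCx R K).obj (DRing.toD (Groth.Agent.H35.LTC.sg M)))) := h M i hi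
      exact ModuleCat.isZero_of_subsingleton _
    haveI hGE : P.IsGE a := by
      rw [CochainComplex.isGE_iff]
      intro i hi
      exact Groth.Agent.H35.LBC.exactAt_of_tensor_unit P i (hT _ i hi)
    have hW : Module.Flat R (Groth.Agent.H12.FlatCx.Wq P (a - 1) a) :=
      Groth.Agent.H35.LTC.flat_Wq_of_exactAt P hPfl a (fun M => hT M (a - 1) (by omega))
    have hEfl := Groth.Agent.H35.LTC.termwiseFlat_truncGE P hPfl a hW
    exact ⟨P.truncGE a, Groth.Agent.H35.LTC.isKFlat_truncGE P hPK hPfl a hEfl, hEfl,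
      fun i hi => (P.truncGE a).isZero_of_isStrictlyGE a i hi,
      ⟨(asIso (DerivedCategory.Q.map (P.πTruncGE a))).symm ≪≫ e⟩⟩
  · rintro ⟨E, hEK, hEfl, hE0, ⟨e⟩⟩ M i hi
    have h1 : (CohIII.tensorObj E M).ExactAt i :=
      ShortComplex.exact_of_isZero_X₂ _ ((tensorRight M).map_isZero (hE0 i hi))
    have h2 := (Groth.Agent.H35.LTC.isZero_H_single_iff hEK e M i).2 h1
    exact ModuleCat.subsingleton_of_isZero h2

end Groth.Agent.S12093
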