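import Groth.Statements.S7078
import Groth.Agent.H56.TwoTerm
import Mathlib.Algebra.Category.ModuleCat.Projective
import Mathlib.LinearAlgebra.Finsupp.LinearCombination
import Mathlib.LinearAlgebra.FreeModule.Basic
-- import your own Groth.Agent.* helpers here

set_option autoImplicit false
universe u
attribute [local instance] HasDerivedCategory.standard
open CategoryTheory
open DRing

namespace Groth.Agent.S7078

/-- For a commutative ring R and an object K of D(R) whose cohomology modules vanish outside degrees -1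
and 0, K is represented by a two-term complex K^{-1} → K^0 with K^0 a free R-module. -/
theorem result {R : Type u} [CommRing R] (K : Dual.D R)
    (hK : ∀ i : ℤ, i ≠ -1 → i ≠ 0 → Subsingleton (Dual.HD R K i)) :
    ∃ E : DRing.Cx R, DRing.VanishesOutside E (-1) 0 ∧ Module.Free R (E.X 0) ∧ Nonempty (DRing.toD E ≅ K) := by
  have hz : ∀ i : ℤ, i ≠ -1 → i ≠ 0 →
      Limits.IsZero ((DerivedCategory.homologyFunctor (ModuleCat.{u} R) i).obj K) := by
    intro i h1' h2'
    have := hK i h1' h2'
    exact ModuleCat.isZero_of_subsingleton _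
  haveI hKLE : K.IsLE 0 := by
    rw [DerivedCategory.isLE_iff]
    intro i hi
    exact hz i (by omega) (by omega)
  haveI hKGE : K.IsGE (-1) := by
    rw [DerivedCategory.isGE_iff]
    intro i hi
    exact hz i (by omega) (by omega)
  let π : (Dual.HD R K 0 →₀ R) →ₗ[R] Dual.HD R K 0 := Finsupp.linearCombination R id
  have hπ : Function.Surjective π := Finsupp.linearCombination_id_surjective R _
  let π' : ModuleCat.of R (Dual.HD R K 0 →₀ R) ⟶
      (DerivedCategory.homologyFunctor (ModuleCat.{u} R) 0).obj K := ModuleCat.ofHom π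
  haveI : Epi π' := (ModuleCat.epi_iff_surjective _).mpr hπ
  haveI : Projective (ModuleCat.of R (Dual.HD R K 0 →₀ R)) :=
    (IsProjective.iff_projective _).mp inferInstance
  obtain ⟨N, d', u, v, w, hex, ⟨e⟩⟩ :=
    Groth.Agent.H56.exists_twoTerm_of_projective_cover K (ModuleCat.of R (Dual.HD R K 0 →₀ R)) π'
  obtain ⟨hvan, ⟨e0⟩, ⟨em1⟩⟩ :=
    Groth.Agent.H56.mappingCone_single_map_terms N (ModuleCat.of R (Dual.HD R K 0 →₀ R)) d'
  have e0' : (Dual.HD R K 0 →₀ R) ≃ₗ[R] (CochainComplex.mappingCone
      ((HomologicalComplex.single (ModuleCat.{u} R) (ComplexShape.up ℤ) 0).map d')).X 0 :=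
    e0.toLinearEquiv.symm
  exact ⟨CochainComplex.mappingCone
    ((HomologicalComplex.single (ModuleCat.{u} R) (ComplexShape.up ℤ) 0).map d'), hvan,
    Module.Free.of_equiv e0', ⟨e.symm⟩⟩

end Groth.Agent.S7078
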