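import Groth.Statements.S7082
import Groth.Agent.S7106
import Groth.Agent.S7078
import Mathlib.Algebra.Homology.DerivedCategory.Linear
-- import your own Groth.Agent.* helpers here

set_option autoImplicit false
universe u
attribute [local instance] HasDerivedCategory.standard
open CategoryTheory
open DRing

namespace Groth.Agent.S7082

/-- (1)⇔(3): let R be a commutative ring, I an ideal and K an object of D(R) whose cohomology vanishes
outside degrees -1 and 0. Then I annihilates Ext^1_R(K, N) = Hom_{D(R)}(K, N[1]) for every R-module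
N if and only if, for every two-term complex E in degrees -1 and 0 with E^0 projective that
represents K, and every a in I, multiplication by a on E^{-1} factors through the differential
E^{-1} → E^0. -/
theorem result {R : Type u} [CommRing R] (I : Ideal R) (K : Dual.D R)
    (hK : ∀ i : ℤ, i ≠ -1 → i ≠ 0 → Subsingleton (Dual.HD R K i)) :
    (∀ (N : Type u) [AddCommGroup N] [Module R N] (a : R), a ∈ I →
        ∀ ξ : K ⟶ (Dual.inD R N)⟦(1 : ℤ)⟧, a • ξ = 0) ↔
      ∀ (E : DRing.Cx R), DRing.VanishesOutside E (-1) 0 → Module.Projective R (E.X 0) →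
        Nonempty (DRing.toD E ≅ K) → ∀ a : R, a ∈ I →
          ∃ h : E.X 0 ⟶ E.X (-1), E.d (-1) 0 ≫ h = a • 𝟙 (E.X (-1)) := by
  constructor
  · rintro H E hE hE0 ⟨e⟩ a ha
    have hM : ∀ i : ℤ, 0 < i → Limits.IsZero (E.X i) := fun i hi => hE i (Or.inr hi)
    have hK' : ∀ i : ℤ, i ≠ -1 → i ≠ 0 → Limits.IsZero (E.X i) :=
      fun i h1 h0 => hE i (by omega)
    obtain ⟨h, hh⟩ := (Groth.Agent.S7106.result E E hM hE0 hK' hE0 (a • 𝟙 E)).1 (by
      intro N _ _ ξ
      rw [Functor.map_smul, CategoryTheory.Functor.map_id, Linear.smul_comp, Category.id_comp]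
      have h1 := H N a ha (e.inv ≫ ξ)
      rw [← cancel_epi e.inv, Linear.comp_smul, h1, Limits.comp_zero])
    refine ⟨-h, ?_⟩
    rw [HomologicalComplex.smul_f_apply, HomologicalComplex.id_f] at hh
    rw [Preadditive.comp_neg]
    exact (eq_neg_of_add_eq_zero_left hh).symm
  · intro H N _ _ a ha ξ
    obtain ⟨E, hE, hfree, ⟨e⟩⟩ := Groth.Agent.S7078.result K hK
    have hE0 : Module.Projective R (E.X 0) := Module.Projective.of_free
    have hM : ∀ i : ℤ, 0 < i → Limits.IsZero (E.X i) := fun i hi => hE i (Or.inr hi)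
    have hK' : ∀ i : ℤ, i ≠ -1 → i ≠ 0 → Limits.IsZero (E.X i) :=
      fun i h1 h0 => hE i (by omega)
    obtain ⟨h, hh⟩ := H E hE hE0 ⟨e⟩ a ha
    have key := (Groth.Agent.S7106.result E E hM hE0 hK' hE0 (a • 𝟙 E)).2 ⟨-h, by
      rw [HomologicalComplex.smul_f_apply, HomologicalComplex.id_f, Preadditive.comp_neg, hh,
        add_neg_cancel]⟩ N (e.hom ≫ ξ)
    rw [Functor.map_smul, CategoryTheory.Functor.map_id, Linear.smul_comp, Category.id_comp]
      at key
    rw [← cancel_epi e.hom, Linear.comp_smul, key, Limits.comp_zero]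

end Groth.Agent.S7082
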