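import Groth.Statements.S12094
import Groth.Agent.S7082
import Groth.Agent.S7078
import Groth.Agent.H56.DerCat7
import Mathlib.Algebra.Homology.DerivedCategory.Linear
-- import your own Groth.Agent.* helpers here

set_option autoImplicit false
universe u
open CategoryTheory
attribute [local instance] HasDerivedCategory.standard
open DRing

namespace Groth.Agent.S12094

open DerivedCategory DerivedCategory.TStructure


/-- (1) ⇔ (2): let `I ⊆ R` be an ideal and `K ∈ D(R)` with `H^i(K) = 0` for `i ∉ {-1, 0}`. Then some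
power `I^c` annihilates `Ext¹_R(K, N) = Hom_{D(R)}(K, N[1])` for every `R`-module `N` if and only
if, for some `c`, (a) `I^c` annihilates `H^{-1}(K)` and (b) `H^0(K)` is `I^c`-projective, i.e. `I^c`
annihilates `Ext¹_R(H^0(K), N)` for every `R`-module `N`. -/
theorem result {R : Type u} [CommRing R] (I : Ideal R) (K : Dual.D R)
    (hK : ∀ i : ℤ, i ≠ -1 → i ≠ 0 → Subsingleton (Dual.HD R K i)) :
    (∃ c : ℕ, ∀ (N : Type u) [AddCommGroup N] [Module R N] (a : R), a ∈ I ^ c →
        ∀ ξ : K ⟶ (Dual.inD R N)⟦(1 : ℤ)⟧, a • ξ = 0) ↔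
      ∃ c : ℕ, (∀ a : R, a ∈ I ^ c → ∀ x : Dual.HD R K (-1), a • x = 0) ∧
        ∀ (N : Type u) [AddCommGroup N] [Module R N] (a : R), a ∈ I ^ c →
          ∀ ξ : Dual.inD R (Dual.HD R K 0) ⟶ (Dual.inD R N)⟦(1 : ℤ)⟧, a • ξ = 0 := by
  have hz' : ∀ i : ℤ, i ≠ -1 → i ≠ 0 →
      Limits.IsZero ((DerivedCategory.homologyFunctor (ModuleCat.{u} R) i).obj K) := by
    intro i h1' h2'
    have := hK i h1' h2'
    exact ModuleCat.isZero_of_subsingleton _
  haveI hKLE : K.IsLE 0 := by
    rw [DerivedCategory.isLE_iff]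
    intro i hi
    exact hz' i (by omega) (by omega)
  haveI hKGE : K.IsGE (-1) := by
    rw [DerivedCategory.isGE_iff]
    intro i hi
    exact hz' i (by omega) (by omega)
  have g1 : ((t.truncGE 0).obj K).IsGE 0 := inferInstanceAs (t.IsGE ((t.truncGE 0).obj K) 0)
  have g2 : ((t.truncGE 0).obj K).IsLE 0 := inferInstanceAs (t.IsLE ((t.truncGE 0).obj K) 0)
  obtain ⟨eZ⟩ := Groth.Agent.H56.nonempty_iso_single ((t.truncGE 0).obj K) 0
  have hiso0 := Groth.Agent.H56.isIso_homologyMap_truncGEπ K 0 0 le_rfl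
  obtain ⟨θ⟩ : Nonempty ((t.truncGE 0).obj K ≅ Dual.inD R (Dual.HD R K 0)) :=
    ⟨eZ ≪≫ (singleFunctor (ModuleCat.{u} R) 0).mapIso
      (asIso ((homologyFunctor (ModuleCat.{u} R) 0).map ((t.truncGEπ 0).app K))).symm⟩
  have l1 : ((t.truncLT 0).obj K).IsLE (-1) :=
    inferInstanceAs (t.IsLE ((t.truncLT 0).obj K) (0 - 1))
  have l2 : ((t.truncLT 0).obj K).IsGE (-1) :=
    inferInstanceAs (t.IsGE ((t.truncLT 0).obj K) (-1))
  obtain ⟨eX⟩ := Groth.Agent.H56.nonempty_iso_single ((t.truncLT 0).obj K) (-1)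
  have hiso1 := Groth.Agent.H56.isIso_homologyMap_truncLTι K 0 (-1) (by omega)
  obtain ⟨ρ⟩ : Nonempty ((t.truncLT 0).obj K ≅ (singleFunctor (ModuleCat.{u} R) (-1)).obj
      ((homologyFunctor (ModuleCat.{u} R) (-1)).obj K)) :=
    ⟨eX ≪≫ (singleFunctor (ModuleCat.{u} R) (-1)).mapIso
      (asIso ((homologyFunctor (ModuleCat.{u} R) (-1)).map ((t.truncLTι 0).app K)))⟩
  constructor
  · rintro ⟨c, H⟩
    refine ⟨c, ?_, ?_⟩
    · intro a ha x
      obtain ⟨E, hE, hfree, ⟨e⟩⟩ := Groth.Agent.S7078.result K hK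
      have hE0 : Module.Projective R (E.X 0) := Module.Projective.of_free
      obtain ⟨h, hh⟩ := (Groth.Agent.S7082.result (I ^ c) K hK).1 H E hE hE0 ⟨e⟩ a ha
      have hE2 : E.d (-2) (-1) = 0 := (hE (-2) (Or.inl (by omega))).eq_of_src _ _
      haveI : IsIso (E.homologyπ (-1)) := E.isIso_homologyπ (-2) (-1) (by simp) hE2
      obtain ⟨φ⟩ : Nonempty ((homologyFunctor (ModuleCat.{u} R) (-1)).obj K ≅ E.cycles (-1)) :=
        ⟨(homologyFunctor (ModuleCat.{u} R) (-1)).mapIso e.symm ≪≫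
          (homologyFunctorFactors (ModuleCat.{u} R) (-1)).app E ≪≫
            (asIso (E.homologyπ (-1))).symm⟩
      obtain ⟨m, hmono, hm⟩ : ∃ m : (homologyFunctor (ModuleCat.{u} R) (-1)).obj K ⟶ E.X (-1),
          Mono m ∧ m ≫ E.d (-1) 0 = 0 :=
        ⟨φ.hom ≫ E.iCycles (-1), mono_comp _ _, by
          rw [Category.assoc, HomologicalComplex.iCycles_d, Limits.comp_zero]⟩
      have h0 : a • m = 0 := by
        have e1 : a • m = m ≫ (a • 𝟙 (E.X (-1))) := by rw [Linear.comp_smul, Category.comp_id]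
        rw [e1, ← hh, ← Category.assoc, hm, Limits.zero_comp]
      have hinj : Function.Injective m.hom := (ModuleCat.mono_iff_injective m).1 hmono
      apply hinj
      rw [map_smul, map_zero]
      have h3 := congrArg (fun f : (homologyFunctor (ModuleCat.{u} R) (-1)).obj K ⟶ E.X (-1) =>
        f.hom x) h0
      simpa using h3
    · intro N _ _ a ha ξ
      have hGE : ((Dual.inD R N)⟦(1 : ℤ)⟧).IsGE (0 - 1) :=
        t.isGE_shift _ 0 1 (0 - 1) (by omega)
      have h1 := H N a ha ((t.truncGEπ 0).app K ≫ θ.hom ≫ ξ)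
      have h2 : a • (θ.hom ≫ ξ) = 0 := by
        apply Groth.Agent.H56.eq_zero_of_truncGEπ_comp K _ 0
        rw [Linear.comp_smul]
        exact h1
      rw [← cancel_epi θ.hom, Linear.comp_smul, h2, Limits.comp_zero]
  · rintro ⟨c, hann, hb⟩
    refine ⟨c + c, ?_⟩
    intro N _ _ x hx ξ
    rw [pow_add] at hx
    refine Submodule.mul_induction_on (C := fun x => x • ξ = 0) hx ?_ ?_
    · intro a ha a' ha'
      have h0 : a' • 𝟙 ((homologyFunctor (ModuleCat.{u} R) (-1)).obj K) = 0 := by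
        ext y
        simpa using hann a' ha' y
      have h1 : a' • 𝟙 ((t.truncLT 0).obj K) = 0 := by
        have h1' : a' • 𝟙 ((singleFunctor (ModuleCat.{u} R) (-1)).obj
            ((homologyFunctor (ModuleCat.{u} R) (-1)).obj K)) = 0 := by
          rw [← CategoryTheory.Functor.map_id, ← Functor.map_smul, h0, Functor.map_zero]
        have e2 : a' • 𝟙 ((t.truncLT 0).obj K) = ρ.hom ≫ (a' • 𝟙 _) ≫ ρ.inv := by
          rw [Linear.smul_comp, Linear.comp_smul, Category.id_comp, Iso.hom_inv_id]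
        rw [e2, h1', Limits.zero_comp, Limits.comp_zero]
      have h2 : (t.truncLTι 0).app K ≫ (a' • ξ) = 0 := by
        have e3 : a' • ((t.truncLTι 0).app K ≫ ξ) =
            (a' • 𝟙 _) ≫ ((t.truncLTι 0).app K ≫ ξ) := by
          rw [Linear.smul_comp, Category.id_comp]
        rw [Linear.comp_smul, e3, h1, Limits.zero_comp]
      obtain ⟨η, hη⟩ := Groth.Agent.H56.exists_desc_truncGEπ K _ 0 (a' • ξ) h2
      have h3 : a • η = 0 := by
        have := hb N a ha (θ.inv ≫ η)
        rw [← cancel_epi θ.inv, Linear.comp_smul, this, Limits.comp_zero]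
      show (a * a') • ξ = 0
      rw [mul_smul, hη, ← Linear.comp_smul, h3, Limits.comp_zero]
    · intro x y hx hy
      show (x + y) • ξ = 0
      rw [add_smul, hx, hy, add_zero]

end Groth.Agent.S12094
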