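import Groth.Statements.S12096
import Groth.Agent.H60.BlowUpAlg

set_option autoImplicit false
universe u
open BlowUp

namespace Groth.Agent.S12096

open Groth.Agent.H60.BlowUpAlg

/-- Néron's blowup is compatible with localization. For a ring `A`, an ideal `I`, elements `π, a ∈ A`,
`A' = A[I/π] ⊆ A_π` the affine blowup algebra and `(A_a)' = A_a[I A_a/π]` that of the localization,
the canonical map `A' → (A_a)'` (the restriction of `A_π → (A_a)_π`, given here as a datum with that
compatibility) identifies `(A_a)'` with the localization `A'_a`. In Néron's situation (`I` the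
inverse image of the maximal ideal of `Λ`, `π` a uniformizer, `a ∉ I`) this reads: the Néron blowup
of `A_a` is `A'_a`; the identity holds for arbitrary `A, I, π, a`. -/
theorem result (A : Type u) [CommRing A] (I : Ideal A) (π a : A) (hπ : π ∈ I)
    (ψ : BlowUp.affineAlgebra A I π →+*
      BlowUp.affineAlgebra (Localization.Away a) (I.map (algebraMap A (Localization.Away a))) (algebraMap A (Localization.Away a) π))
    (hψ : ∀ x : BlowUp.affineAlgebra A I π,
      ((ψ x : BlowUp.affineAlgebra (Localization.Away a) (I.map (algebraMap A (Localization.Away a))) (algebraMap A (Localization.Away a) π)) :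
          Localization.Away (algebraMap A (Localization.Away a) π)) =
        Localization.awayMap (algebraMap A (Localization.Away a)) π (x : Localization.Away π)) :
    letI := ψ.toAlgebra
    IsLocalization.Away (algebraMap A (BlowUp.affineAlgebra A I π) a)
      (BlowUp.affineAlgebra (Localization.Away a) (I.map (algebraMap A (Localization.Away a))) (algebraMap A (Localization.Away a) π)) := by
  classical
  letI := ψ.toAlgebra
  have hπ' : (algebraMap A (Localization.Away a)) π ∈ I.map (algebraMap A (Localization.Away a)) :=
    Ideal.mem_map_of_mem _ hπ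
  have halg : ∀ x : BlowUp.affineAlgebra A I π,
      algebraMap (BlowUp.affineAlgebra A I π) (BlowUp.affineAlgebra (Localization.Away a)
        (I.map (algebraMap A (Localization.Away a))) (algebraMap A (Localization.Away a) π)) x = ψ x :=
    fun x => rfl
  -- ψ on algebraMap
  have hψalg : ∀ c : A, ψ (algebraMap A (BlowUp.affineAlgebra A I π) c) =
      algebraMap (Localization.Away a) (BlowUp.affineAlgebra (Localization.Away a)
        (I.map (algebraMap A (Localization.Away a))) (algebraMap A (Localization.Away a) π))
        (algebraMap A (Localization.Away a) c) := by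
    intro c
    apply Subtype.ext
    rw [hψ]
    exact awayMap_algebraMap π (algebraMap A (Localization.Away a)) c
  refine (isLocalization_iff _ _).mpr ⟨?_, ?_, ?_⟩
  · rintro ⟨_, k, rfl⟩
    rw [halg, map_pow]
    refine IsUnit.pow k ?_
    rw [hψalg]
    refine IsUnit.map _ ?_
    exact IsLocalization.Away.algebraMap_isUnit a
  · intro z
    obtain ⟨n, w, hw, hz⟩ := exists_frac (I.map (algebraMap A (Localization.Away a)))
      (algebraMap A (Localization.Away a) π) hπ' z.1 z.2
    rw [← Ideal.map_pow, IsLocalization.mem_map_algebraMap_iff (Submonoid.powers a)] at hw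
    obtain ⟨⟨⟨y, hy⟩, ⟨_, k, rfl⟩⟩, hwy⟩ := hw
    simp only at hwy
    refine ⟨(⟨frac π y n, frac_mem I π n y hy⟩,
      ⟨algebraMap A (BlowUp.affineAlgebra A I π) a ^ k, k, rfl⟩), ?_⟩
    rw [halg, halg]
    simp only
    rw [map_pow, hψalg]
    apply Subtype.ext
    rw [hψ]
    simp only
    rw [awayMap_frac]
    show z.1 * (algebraMap (Localization.Away a) (Localization.Away (algebraMap A (Localization.Away a) π))
      (algebraMap A (Localization.Away a) a)) ^ k = _
    rw [hz, ← map_pow, ← map_pow, mul_comm, algebraMap_mul_frac, mul_comm, hwy]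
  · intro x x' hxx'
    rw [halg, halg] at hxx'
    obtain ⟨n, y, hy⟩ := exists_frac_all π (x.1 - x'.1)
    have h0 : frac (algebraMap A (Localization.Away a) π) (algebraMap A (Localization.Away a) y) n = 0 := by
      rw [← awayMap_frac, ← hy, map_sub, ← hψ, ← hψ, hxx', sub_self]
    obtain ⟨m, hm⟩ := (frac_eq_zero_iff _ _ n).mp h0
    rw [← map_pow, ← map_mul, IsLocalization.map_eq_zero_iff (Submonoid.powers a)] at hm
    obtain ⟨⟨_, k, rfl⟩, hk⟩ := hm
    simp only at hk
    refine ⟨⟨algebraMap A (BlowUp.affineAlgebra A I π) a ^ k, k, rfl⟩, ?_⟩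
    apply Subtype.ext
    show algebraMap A (Localization.Away π) a ^ k * x.1 = algebraMap A (Localization.Away π) a ^ k * x'.1
    rw [← sub_eq_zero, ← mul_sub, hy, ← map_pow, algebraMap_mul_frac, frac_eq_zero_iff]
    exact ⟨m, by rw [← hk]; ring⟩

end Groth.Agent.S12096
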