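import Groth.Statements.S12097
import Groth.Agent.H60.BlowUpAlg

set_option autoImplicit false
universe u
open BlowUp

namespace Groth.Agent.S12097

open Groth.Agent.H60.BlowUpAlg

/-- Néron's blowup is compatible with closed immersions. For a surjective ring map `B → A` with kernel
`J`, an ideal `I ⊆ B` containing `π`, and the affine blowup algebras `B' = B[I/π] ⊆ B_π`, `A' =
A[IA/π] ⊆ A_π`, the canonical map `B' → A'` (the restriction of `B_π → A_π`, given as a datum with
that compatibility) is surjective with kernel the elements `x` such that `π^n x ∈ J B'` for some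
`n`: `A'` is the quotient of `B'/JB'` by its `π`-power torsion. In Néron's situation (`I` the
inverse image of the maximal ideal of `Λ`, `π` a uniformizer) this is the printed functoriality; the
identity holds for any surjection. -/
theorem result (B A : Type u) [CommRing B] [CommRing A] [Algebra B A]
    (hq : Function.Surjective (algebraMap B A)) (I : Ideal B) (π : B) (hπ : π ∈ I)
    (ψ : BlowUp.affineAlgebra B I π →+* BlowUp.affineAlgebra A (I.map (algebraMap B A)) (algebraMap B A π))
    (hψ : ∀ x : BlowUp.affineAlgebra B I π,
      ((ψ x : BlowUp.affineAlgebra A (I.map (algebraMap B A)) (algebraMap B A π)) : Localization.Away (algebraMap B A π)) =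
        Localization.awayMap (algebraMap B A) π (x : Localization.Away π)) :
    Function.Surjective ψ ∧
      ∀ x : BlowUp.affineAlgebra B I π, x ∈ RingHom.ker ψ ↔
        ∃ n : ℕ, algebraMap B (BlowUp.affineAlgebra B I π) π ^ n * x ∈
          (RingHom.ker (algebraMap B A)).map (algebraMap B (BlowUp.affineAlgebra B I π)) := by
  classical
  have hπ' : (algebraMap B A) π ∈ I.map (algebraMap B A) := Ideal.mem_map_of_mem (algebraMap B A) hπ
  -- ψ on algebraMap
  have hψalg : ∀ b : B, ψ (algebraMap B (BlowUp.affineAlgebra B I π) b) =
      algebraMap A (BlowUp.affineAlgebra A (I.map (algebraMap B A)) ((algebraMap B A) π)) ((algebraMap B A) b) := by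
    intro b
    apply Subtype.ext
    rw [hψ]
    exact awayMap_algebraMap π (algebraMap B A) b
  constructor
  · intro z
    obtain ⟨n, w, hw, hz⟩ := exists_frac (I.map (algebraMap B A)) ((algebraMap B A) π) hπ' z.1 z.2
    rw [← Ideal.map_pow] at hw
    obtain ⟨y, hy, rfl⟩ := (Ideal.mem_map_iff_of_surjective (algebraMap B A) hq).mp hw
    refine ⟨⟨frac π y n, frac_mem I π n y hy⟩, ?_⟩
    apply Subtype.ext
    rw [hψ, hz]
    exact awayMap_frac π (algebraMap B A) y n
  · intro x
    rw [RingHom.mem_ker]
    constructor
    · intro hx
      obtain ⟨n, y, hy, hxy⟩ := exists_frac I π hπ x.1 x.2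
      have h0 : frac ((algebraMap B A) π) ((algebraMap B A) y) n = 0 := by
        have := congrArg Subtype.val hx
        rw [hψ, hxy, awayMap_frac] at this
        exact this
      obtain ⟨m, hm⟩ := (frac_eq_zero_iff ((algebraMap B A) π) ((algebraMap B A) y) n).mp h0
      refine ⟨n + m, ?_⟩
      have hker : π ^ m * y ∈ RingHom.ker (algebraMap B A) := by
        rw [RingHom.mem_ker, map_mul, map_pow]; exact hm
      have heq : algebraMap B (BlowUp.affineAlgebra B I π) π ^ (n + m) * x =
          algebraMap B (BlowUp.affineAlgebra B I π) (π ^ m * y) := by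
        apply Subtype.ext
        show algebraMap B (Localization.Away π) π ^ (n + m) * x.1 =
          algebraMap B (Localization.Away π) (π ^ m * y)
        rw [hxy, pow_add, mul_assoc, mul_comm (algebraMap B (Localization.Away π) π ^ m),
          ← mul_assoc, algebraMap_pow_mul_frac, map_mul, map_pow, mul_comm]
      rw [heq]
      exact Ideal.mem_map_of_mem _ hker
    · rintro ⟨n, hn⟩
      have hle : (RingHom.ker (algebraMap B A)).map (algebraMap B (BlowUp.affineAlgebra B I π)) ≤ RingHom.ker ψ := by
        rw [Ideal.map_le_iff_le_comap]
        intro j hj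
        rw [Ideal.mem_comap, RingHom.mem_ker, hψalg, (RingHom.mem_ker).mp hj, map_zero]
      have h1 := hle hn
      rw [RingHom.mem_ker, map_mul, map_pow, hψalg] at h1
      have h2 := congrArg Subtype.val h1
      have hu : IsUnit (algebraMap A (Localization.Away ((algebraMap B A) π)) ((algebraMap B A) π)) :=
        IsUnit.of_mul_eq_one _ (mul_inv ((algebraMap B A) π))
      have h3 : algebraMap A (Localization.Away ((algebraMap B A) π)) ((algebraMap B A) π) ^ n * (ψ x).1 = 0 := h2
      apply Subtype.ext
      exact ((hu.pow n).mul_right_eq_zero).mp h3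

end Groth.Agent.S12097
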