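import Groth.Statements.S12099
import Mathlib

set_option autoImplicit false
universe w v u
open CategoryTheory CategoryTheory.Limits
open PCoh

namespace Groth.Agent.S12099

/-- Punctual site: let C be an abelian category and C₀ a strictly full additive subcategory,
quasi-liftable in C. For an exact sequence F → G → H → 0 with F of C₀-finite type and G precoherent
relative to C₀ (every morphism from a C₀-object into G has kernel of C₀-finite type), H is
precoherent relative to C₀. -/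
theorem result {C : Type u} [Category.{v} C] [Abelian C]
    (P : ObjectProperty C) [P.IsClosedUnderIsomorphisms] [P.ContainsZero] (hsum : ∀ X Y : C, P X → P Y → P (X ⨯ Y))
    (hql : PCoh.IsQuasiLiftable P)
    (S : ShortComplex C) (hS : S.Exact) (hg : Epi S.g)
    (hF : PCoh.IsOfFiniteType P S.X₁) (hG : ∀ (E : C) (u : E ⟶ S.X₂), P E → PCoh.IsOfFiniteType P (kernel u)) :
    ∀ (E : C) (u : E ⟶ S.X₃), P E → PCoh.IsOfFiniteType P (kernel u) := by
  intro E u hE
  obtain ⟨EF, πF, hEF, hπF⟩ := hF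
  -- pull back g along u and lift
  have hepi : Epi (pullback.fst u S.g) := inferInstance
  obtain ⟨E₁, v, hE₁, hv⟩ := hql (pullback u S.g) E (pullback.fst u S.g) hepi hE
  obtain ⟨ε, hε⟩ : ∃ ε : E₁ ⟶ E, ε = v ≫ pullback.fst u S.g := ⟨_, rfl⟩
  obtain ⟨u₁, hu₁⟩ : ∃ u₁ : E₁ ⟶ S.X₂, u₁ = v ≫ pullback.snd u S.g := ⟨_, rfl⟩
  have hcomm : u₁ ≫ S.g = ε ≫ u := by
    rw [hu₁, hε, Category.assoc, Category.assoc, pullback.condition]
  have hv' : Epi ε := hε ▸ hv
  obtain ⟨w, hw⟩ : ∃ w : E₁ ⨯ EF ⟶ S.X₂, w = prod.fst ≫ u₁ + prod.snd ≫ πF ≫ S.f := ⟨_, rfl⟩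
  obtain ⟨EK, πK, hEK, hπK⟩ := hG (E₁ ⨯ EF) w (hsum _ _ hE₁ hEF)
  have hwg : w ≫ S.g = prod.fst ≫ ε ≫ u := by
    rw [hw, Preadditive.add_comp]
    simp only [Category.assoc, S.zero, comp_zero, add_zero, hcomm]
  have hκ0 : (kernel.ι w ≫ prod.fst ≫ ε) ≫ u = 0 := by
    rw [Category.assoc, Category.assoc, ← hwg, ← Category.assoc, kernel.condition, zero_comp]
  obtain ⟨κ, hκ⟩ : ∃ κ : kernel w ⟶ kernel u, κ = kernel.lift u (kernel.ι w ≫ prod.fst ≫ ε) hκ0 := ⟨_, rfl⟩
  have hκepi : Epi κ := by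
    rw [epi_iff_surjective_up_to_refinements]
    intro T z
    obtain ⟨T₁, π₁, _, e₁, he₁⟩ := surjective_up_to_refinements_of_epi ε (z ≫ kernel.ι u)
    have h2 : (e₁ ≫ u₁) ≫ S.g = 0 := by
      rw [Category.assoc, hcomm, ← Category.assoc, ← he₁, Category.assoc, Category.assoc,
        kernel.condition, comp_zero, comp_zero]
    obtain ⟨T₂, π₂, _, x, hx⟩ := hS.exact_up_to_refinements (e₁ ≫ u₁) h2
    obtain ⟨T₃, π₃, _, y, hy⟩ := surjective_up_to_refinements_of_epi πF x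
    have ht : prod.lift (π₃ ≫ π₂ ≫ e₁) (-y) ≫ w = 0 := by
      rw [hw, Preadditive.comp_add, prod.lift_fst_assoc, prod.lift_snd_assoc, Category.assoc,
        Category.assoc, hx, Preadditive.neg_comp, ← Category.assoc y, ← hy, Category.assoc,
        add_neg_cancel]
    refine ⟨T₃, π₃ ≫ π₂ ≫ π₁, inferInstance, kernel.lift w _ ht, ?_⟩
    rw [← cancel_mono (kernel.ι u)]
    simp only [Category.assoc, hκ, kernel.lift_ι, kernel.lift_ι_assoc, prod.lift_fst_assoc]
    rw [he₁]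
  exact ⟨EK, πK ≫ κ, hEK, epi_comp _ _⟩

end Groth.Agent.S12099
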