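import Groth.Statements.S12100
import Groth.Agent.H33.PCohDer

set_option autoImplicit false
universe w v u
open CategoryTheory CategoryTheory.Limits
open PCoh

namespace Groth.Agent.S12100

/-- Let C be an abelian category and C₀ a strictly full additive subcategory, quasi-stable under kernels
of epimorphisms and quasi-liftable; let n, i be integers, E a strictly n-pseudo-coherent cochain
complex, F an n-pseudo-coherent cochain complex (isomorphic in D(C) to a strictly n-pseudo-coherent
one) and u : E ⟶ F an i-quasi-isomorphism (an isomorphism on H^j for j > i, an epimorphism on H^i).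
Then u = v ≫ u' with u' : E' ⟶ F a quasi-isomorphism, E' strictly n-pseudo-coherent, and v : E ⟶ E'
a monomorphism in each degree which is an isomorphism in every degree ≥ i. (The source obtains v
equal to the identity in degrees ≥ i; stated here up to isomorphism in those degrees.) -/
theorem result {C : Type u} [Category.{v} C] [Abelian C] [HasDerivedCategory.{w} C]
    (P : ObjectProperty C) [P.IsClosedUnderIsomorphisms] [P.ContainsZero] (hsum : ∀ X Y : C, P X → P Y → P (X ⨯ Y))
    (hqs : PCoh.IsQuasiStableUnderKernels P) (hql : PCoh.IsQuasiLiftable P)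
    (n i : ℤ) (E F : CochainComplex C ℤ) (hE : PCoh.IsStrictPC P n E)
    (hF : ∃ F₀ : CochainComplex C ℤ, PCoh.IsStrictPC P n F₀ ∧ Nonempty (DerivedCategory.Q.obj F₀ ≅ DerivedCategory.Q.obj F))
    (u : E ⟶ F) (hiso : ∀ j : ℤ, i < j → IsIso (HomologicalComplex.homologyMap u j))
    (hepi : Epi (HomologicalComplex.homologyMap u i)) :
    ∃ (E' : CochainComplex C ℤ) (v : E ⟶ E') (u' : E' ⟶ F), v ≫ u' = u ∧ PCoh.IsStrictPC P n E' ∧ QuasiIso u' ∧
      (∀ j : ℤ, Mono (v.f j)) ∧ (∀ j : ℤ, i ≤ j → IsIso (v.f j)) := by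
  obtain ⟨⟨b, hb⟩, hEP⟩ := hE
  by_cases hin : i ≤ n
  · obtain ⟨E', v, u', hfac, hq, hm, hiso'⟩ := Groth.Agent.H33.PCoh.factor_nqis i u hiso hepi
    refine ⟨E', v, u', hfac, ⟨⟨max b i, fun j hj => ?_⟩, fun j hj => ?_⟩, hq, hm, hiso'⟩
    · have := hiso' j (by have := le_max_right b i; omega)
      exact IsZero.of_iso (hb j (by have := le_max_left b i; omega)) (asIso (v.f j)).symm
    · have := hiso' j (by omega)
      exact P.prop_of_iso (asIso (v.f j)) (hEP j hj)
  · have hu : Groth.Agent.H33.PCoh.IsNQI i u := And.intro hiso hepi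
    obtain ⟨E₁, ι, u₁, hfac₁, hm₁, hiso₁, hE₁, hu₁⟩ :=
      Groth.Agent.H33.PCoh.iterate_improve hsum hqs hql n F hF (i - n).toNat i
        (by rw [Int.toNat_of_nonneg (by omega)]; ring) E u hu ⟨⟨b, hb⟩, hEP⟩
    obtain ⟨hu1, hu2⟩ := hu₁
    obtain ⟨E', j, u', hfac', hq, hmj, hisoj⟩ := Groth.Agent.H33.PCoh.factor_nqis n u₁ hu1 hu2
    obtain ⟨⟨b₁, hb₁⟩, hP₁⟩ := hE₁
    refine ⟨E', ι ≫ j, u', by rw [Category.assoc, hfac', hfac₁],
      ⟨⟨max b₁ n, fun k hk => ?_⟩, fun k hk => ?_⟩, hq, fun k => ?_, fun k hk => ?_⟩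
    · have := hisoj k (by have := le_max_right b₁ n; omega)
      exact IsZero.of_iso (hb₁ k (by have := le_max_left b₁ n; omega)) (asIso (j.f k)).symm
    · have := hisoj k hk
      exact P.prop_of_iso (asIso (j.f k)) (hP₁ k hk)
    · rw [HomologicalComplex.comp_f]
      have := hm₁ k
      have := hmj k
      exact mono_comp _ _
    · rw [HomologicalComplex.comp_f]
      have := hiso₁ k (Or.inr hk)
      have := hisoj k (by omega)
      infer_instance

end Groth.Agent.S12100
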