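import Groth.Statements.S12105
import Mathlib
import Groth.Agent.H92.RIncl
import Groth.Agent.H92.DimShift2
import Groth.Agent.H5.SpSeq.ExtForm
import Groth.Agent.H67.SieveCoh
import Groth.Agent.S0864

set_option autoImplicit false
universe u
open CategoryTheory
open CohSite

namespace Groth.Agent.S12105


open CategoryTheory.Limits Opposite Abelian Groth.Agent.H5.GSS Groth.Agent.H67.SieveCoh

section

variable {C : Type u} [SmallCategory C] (J : GrothendieckTopology C) (R : Cᵒᵖ ⥤ Type u)

/-- The free abelian `J`-sheaf on the presheaf of sets `R`. -/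
noncomputable abbrev W₂ : Sheaf J AddCommGrpCat.{u} :=
  (presheafToSheaf J AddCommGrpCat.{u}).obj (R ⋙ AddCommGrpCat.free.{u})

/-- The free abelian presheaf on `R`, as a sheaf for the trivial topology. -/
noncomputable abbrev W' : Sheaf (⊥ : GrothendieckTopology C) AddCommGrpCat.{u} :=
  (presheafToSheaf (⊥ : GrothendieckTopology C) AddCommGrpCat.{u}).obj (R ⋙ AddCommGrpCat.free.{u})

/-- `Hom(ℤ[R], ι F) ≃ Hom_PSh(ℤ[R], F) ≃ Hom(ℤ[R]^#, F)`. -/
noncomputable def homEquiv (F : Sheaf J AddCommGrpCat.{u}) :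
    (W' R ⟶ (iota J).obj F) ≃+ (W₂ J R ⟶ F) :=
  ((sheafificationAdjunction (⊥ : GrothendieckTopology C) AddCommGrpCat.{u}).homAddEquiv
      (R ⋙ AddCommGrpCat.free.{u}) ((iota J).obj F)).trans
    ((sheafificationAdjunction J AddCommGrpCat.{u}).homAddEquiv
      (R ⋙ AddCommGrpCat.free.{u}) F).symm

theorem homEquiv_comp {F G : Sheaf J AddCommGrpCat.{u}} (g : F ⟶ G)
    (ψ : W' R ⟶ (iota J).obj F) :
    homEquiv J R G (ψ ≫ (iota J).map g) = homEquiv J R F ψ ≫ g := by
  apply ((sheafificationAdjunction J AddCommGrpCat.{u}).homAddEquiv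
      (R ⋙ AddCommGrpCat.free.{u}) G).injective
  have h1 : (sheafificationAdjunction J AddCommGrpCat.{u}).homAddEquiv
      (R ⋙ AddCommGrpCat.free.{u}) G (homEquiv J R G (ψ ≫ (iota J).map g)) =
      (sheafificationAdjunction (⊥ : GrothendieckTopology C) AddCommGrpCat.{u}).homAddEquiv
      (R ⋙ AddCommGrpCat.free.{u}) ((iota J).obj G) (ψ ≫ (iota J).map g) :=
    AddEquiv.apply_symm_apply _ _
  have h2 : (sheafificationAdjunction J AddCommGrpCat.{u}).homAddEquiv
      (R ⋙ AddCommGrpCat.free.{u}) F (homEquiv J R F ψ) =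
      (sheafificationAdjunction (⊥ : GrothendieckTopology C) AddCommGrpCat.{u}).homAddEquiv
      (R ⋙ AddCommGrpCat.free.{u}) ((iota J).obj F) ψ :=
    AddEquiv.apply_symm_apply _ _
  have h3 : (sheafificationAdjunction J AddCommGrpCat.{u}).homAddEquiv
      (R ⋙ AddCommGrpCat.free.{u}) G (homEquiv J R F ψ ≫ g) =
      (sheafificationAdjunction J AddCommGrpCat.{u}).homAddEquiv
        (R ⋙ AddCommGrpCat.free.{u}) F (homEquiv J R F ψ) ≫
        (sheafToPresheaf J AddCommGrpCat.{u}).map g :=
    Adjunction.homEquiv_naturality_right _ _ _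
  have h4 : (sheafificationAdjunction (⊥ : GrothendieckTopology C) AddCommGrpCat.{u}).homAddEquiv
      (R ⋙ AddCommGrpCat.free.{u}) ((iota J).obj G) (ψ ≫ (iota J).map g) =
      (sheafificationAdjunction (⊥ : GrothendieckTopology C) AddCommGrpCat.{u}).homAddEquiv
        (R ⋙ AddCommGrpCat.free.{u}) ((iota J).obj F) ψ ≫
        (sheafToPresheaf (⊥ : GrothendieckTopology C) AddCommGrpCat.{u}).map ((iota J).map g) :=
    Adjunction.homEquiv_naturality_right _ _ _
  have h5 : (sheafificationAdjunction J AddCommGrpCat.{u}).homAddEquiv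
        (R ⋙ AddCommGrpCat.free.{u}) F (homEquiv J R F ψ) ≫
        (sheafToPresheaf J AddCommGrpCat.{u}).map g =
      (sheafificationAdjunction (⊥ : GrothendieckTopology C) AddCommGrpCat.{u}).homAddEquiv
        (R ⋙ AddCommGrpCat.free.{u}) ((iota J).obj F) ψ ≫
        (sheafToPresheaf J AddCommGrpCat.{u}).map g :=
    congrArg (fun z => z ≫ (sheafToPresheaf J AddCommGrpCat.{u}).map g) h2
  exact h1.trans (h4.trans (Eq.trans rfl (h3.trans h5).symm))

/-- The natural isomorphism `Hom(ℤ[R], ι -) ≅ Hom(ℤ[R]^#, -)`. -/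
noncomputable def homIso : iota J ⋙ homF (W' R) ≅ homF (W₂ J R) :=
  NatIso.ofComponents (fun F => AddEquiv.toAddCommGrpIso (homEquiv J R F)) (fun {F G} g => by
    apply AddCommGrpCat.ext
    intro ψ
    exact homEquiv_comp J R g ψ)

instance : (sheafBotEquivalence (C := C) AddCommGrpCat.{u}).inverse.Additive :=
  ⟨fun {_ _ _ _} => rfl⟩

/-- The derived functors of `iota` are the cohomology presheaves. -/
theorem iota_rightDerived (q : ℕ) (M : Sheaf J AddCommGrpCat.{u}) :
    Nonempty ((⟨Sheaf.cohomologyPresheaf.{u} M q, Presheaf.isSheaf_bot _⟩ :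
      Sheaf (⊥ : GrothendieckTopology C) AddCommGrpCat.{u}) ≅ ((iota J).rightDerived q).obj M) := by
  obtain ⟨a⟩ := Groth.Agent.H92.RIncl.main J q M
  obtain ⟨b⟩ := Groth.Agent.H92.DimShift.comp_exact (sheafToPresheaf J AddCommGrpCat.{u})
    (sheafBotEquivalence (C := C) AddCommGrpCat.{u}).inverse q M
  exact ⟨(sheafBotEquivalence (C := C) AddCommGrpCat.{u}).inverse.mapIso a ≪≫ b⟩

end


open CategoryTheory.Limits in
/-- On a small site (C, J), for a presheaf of sets R on C and an abelian sheaf M there is a bounded E_2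
spectral sequence of abelian groups with E_2^{p,q} isomorphic to H^p(R, H^q(M)) — the cohomology, in
the topos of presheaves (sheaves for the trivial topology), of the presheaf V ↦ H^q(V, M) with
respect to R, i.e. the p-th Ext out of the free abelian presheaf on R — for p, q ≥ 0 and zero
otherwise, with abutment data whose filtrations are finite on H^n(aR, M), the cohomology of M with
respect to the sheaf of sets associated to R (n ≥ 0; zero for n < 0). The E_2 identifications and
abutment isomorphisms are asserted to exist only, not pinned to the canonical maps, so edge maps and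
functoriality in R and M are not part of this statement. -/
theorem result {C : Type u} [SmallCategory C]
    (J : GrothendieckTopology C) (R : Cᵒᵖ ⥤ Type u) (M : Sheaf J AddCommGrpCat.{u}) :
    ∃ (E : E₂CohomologicalSpectralSequence AddCommGrpCat.{u})
      (a : SpSeq.Abutment E (fun n : ℤ =>
        if 0 ≤ n then AddCommGrpCat.of (CohCx.HK ((presheafToSheaf J (Type u)).obj R) M n.toNat)
        else AddCommGrpCat.of PUnit.{u + 1})),
      (∀ n, a.IsFinite n) ∧ SpSeq.IsBounded E ∧
      ∀ p q : ℤ, Nonempty ((E.page 2 le_rfl).X (p, q) ≅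
        (if 0 ≤ p ∧ 0 ≤ q then
          AddCommGrpCat.of (CohCx.HK (J := (⊥ : GrothendieckTopology C)) ⟨R, Presheaf.isSheaf_bot _⟩
            ⟨M.cohomologyPresheaf q.toNat, Presheaf.isSheaf_bot _⟩ p.toNat)
         else AddCommGrpCat.of PUnit.{u + 1})) := by
  let i : W₂ J R ≅ (presheafToSheaf J AddCommGrpCat.{u}).obj
      (((presheafToSheaf J (Type u)).obj R).obj ⋙ AddCommGrpCat.free.{u}) :=
    (Groth.Agent.S0864.freeIso J).app R
  refine extForm (iota J) (W₂ J R) (W' R) (homIso J R) ?_ M _ _ ?_ ?_ ?_ ?_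
  · intro Q hQ q hq x
    have := injective_iota_obj J Q
    obtain ⟨q', rfl⟩ : ∃ q', q = q' + 1 := ⟨q - 1, by omega⟩
    exact Ext.eq_zero_of_injective x
  · intro n
    simp only [Int.natCast_nonneg, if_true, Int.toNat_natCast]
    exact ⟨((Abelian.extFunctor (C := Sheaf J AddCommGrpCat.{u}) n).mapIso i.op).app M⟩
  · intro n hn
    rw [if_neg (by omega)]
    exact AddCommGrpCat.isZero_of_subsingleton _
  · intro p q
    simp only [Int.natCast_nonneg, and_self, if_true, Int.toNat_natCast]
    obtain ⟨a⟩ := iota_rightDerived J q M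
    exact ⟨(Abelian.extFunctorObj (W' R) p).mapIso a⟩
  · intro p q hpq
    rw [if_neg (by omega)]
    exact AddCommGrpCat.isZero_of_subsingleton _

end Groth.Agent.S12105
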