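import Groth.Statements.S12107
import Mathlib.CategoryTheory.Adhesive.Basic
import Mathlib.CategoryTheory.Sites.LeftExact

set_option autoImplicit false
universe u
open CategoryTheory
open SGA4

namespace Groth.Agent.S12107

open CategoryTheory.Limits in
/-- In the topos of sheaves of sets on a small site, let U be an open (a subobject of the final object)
and, for an object X, let X_CU be the pushout of U ← U × X → X along the two projections. For a
morphism m : X ⟶ X' let k : X_CU ⟶ X'_CU be the induced morphism (compatible with the maps from U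
and with m). Then the square with sides m, k and the canonical maps X ⟶ X_CU, X' ⟶ X'_CU is
cartesian if and only if id_U × m : U × X ⟶ U × X' is an isomorphism (that is, m restricts to an
isomorphism over U). -/
theorem result {C : Type u} [SmallCategory C] (J : GrothendieckTopology C)
    (U : Sheaf J (Type u)) (hU : SGA4.IsOpen U) {X X' : Sheaf J (Type u)} (m : X ⟶ X')
    (k : pushout (prod.fst : U ⨯ X ⟶ U) (prod.snd : U ⨯ X ⟶ X) ⟶
      pushout (prod.fst : U ⨯ X' ⟶ U) (prod.snd : U ⨯ X' ⟶ X'))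
    (hk₁ : pushout.inl (prod.fst : U ⨯ X ⟶ U) (prod.snd : U ⨯ X ⟶ X) ≫ k =
      pushout.inl (prod.fst : U ⨯ X' ⟶ U) (prod.snd : U ⨯ X' ⟶ X'))
    (hk₂ : pushout.inr (prod.fst : U ⨯ X ⟶ U) (prod.snd : U ⨯ X ⟶ X) ≫ k =
      m ≫ pushout.inr (prod.fst : U ⨯ X' ⟶ U) (prod.snd : U ⨯ X' ⟶ X')) :
    IsPullback m (pushout.inr (prod.fst : U ⨯ X ⟶ U) (prod.snd : U ⨯ X ⟶ X))
        (pushout.inr (prod.fst : U ⨯ X' ⟶ U) (prod.snd : U ⨯ X' ⟶ X')) k ↔
      IsIso (prod.map (𝟙 U) m) := by
  haveI : Mono (terminal.from U) := hU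
  have hmono : ∀ Y : Sheaf J (Type u), Mono (prod.snd : U ⨯ Y ⟶ Y) := fun Y =>
    ⟨fun a b hab => by
      apply Limits.prod.hom_ext
      · exact (cancel_mono (terminal.from U)).1 (Subsingleton.elim _ _)
      · exact hab⟩
  haveI := hmono X
  haveI := hmono X'
  have H : IsPushout (prod.fst : U ⨯ X ⟶ U) (prod.snd : U ⨯ X ⟶ X)
      (pushout.inl _ _) (pushout.inr _ _) := IsPushout.of_hasPushout _ _
  have H' : IsPushout (prod.fst : U ⨯ X' ⟶ U) (prod.snd : U ⨯ X' ⟶ X')
      (pushout.inl _ _) (pushout.inr _ _) := IsPushout.of_hasPushout _ _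
  constructor
  · intro hsq
    have HX := Adhesive.isPullback_of_isPushout_of_mono_right H
    have HX' := Adhesive.isPullback_of_isPushout_of_mono_right H'
    have big := HX.flip.paste_horiz hsq
    rw [hk₁] at big
    have e : prod.map (𝟙 U) m = (big.isoIsPullback _ _ HX'.flip).hom := by
      apply Limits.prod.hom_ext
      · rw [prod.map_fst, Category.comp_id]
        exact (IsPullback.isoIsPullback_hom_snd _ _ big HX'.flip).symm
      · rw [prod.map_snd]
        exact (IsPullback.isoIsPullback_hom_fst _ _ big HX'.flip).symm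
    rw [e]
    infer_instance
  · intro hiso
    have pb1 : IsPullback (prod.fst : U ⨯ X ⟶ U) (prod.map (𝟙 U) m) (𝟙 U)
        (prod.fst : U ⨯ X' ⟶ U) :=
      IsPullback.of_vert_isIso ⟨by rw [prod.map_fst]⟩
    have pb2 : IsPullback (prod.snd : U ⨯ X ⟶ X) (prod.map (𝟙 U) m) m
        (prod.snd : U ⨯ X' ⟶ X') := by
      refine ⟨⟨by rw [prod.map_snd]⟩, ⟨PullbackCone.IsLimit.mk _
        (fun s => prod.lift (s.snd ≫ prod.fst) s.fst) (fun s => prod.lift_snd _ _)
        (fun s => by
          apply Limits.prod.hom_ext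
          · rw [Category.assoc, prod.map_fst, prod.lift_fst_assoc, Category.comp_id]
          · rw [Category.assoc, prod.map_snd, prod.lift_snd_assoc, s.condition])
        (fun s l h₁ h₂ => by
          apply Limits.prod.hom_ext
          · rw [prod.lift_fst, ← h₂, Category.assoc, prod.map_fst, Category.comp_id]
          · rw [prod.lift_snd, h₁])⟩⟩
    have vk := Adhesive.van_kampen' H'
    have key := (vk (prod.fst : U ⨯ X ⟶ U) (prod.snd : U ⨯ X ⟶ X) (pushout.inl _ _)
      (pushout.inr _ _) (prod.map (𝟙 U) m) (𝟙 U) m k pb1 pb2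
      ⟨by rw [hk₁, Category.id_comp]⟩ ⟨hk₂⟩ ⟨pushout.condition⟩).1 H
    exact key.2.flip

end Groth.Agent.S12107
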