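import Groth.Statements.S6135
import Mathlib.CategoryTheory.Limits.Presheaf
import Mathlib.CategoryTheory.Limits.Types.Filtered
import Mathlib.CategoryTheory.Limits.FunctorCategory.Basic

set_option autoImplicit false
open CategoryTheory CategoryTheory.Limits
universe u
open SGA4

namespace Groth.Agent.S6135

open Opposite

section Helpers

variable {C : Type u} [SmallCategory C] {C' : Type u} [SmallCategory C'] (u : C ⥤ C')

/-- the left Kan extension functor `u_!` -/
noncomputable abbrev L : (Cᵒᵖ ⥤ Type u) ⥤ (C'ᵒᵖ ⥤ Type u) := u.op.lan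

/-- the adjunction `u_! ⊣ u^*` -/
noncomputable abbrev adj := u.op.lanAdjunction (Type u)

/-- `u_! h_Y ≅ h_{uY}` -/
noncomputable def eY (Y : C) : (L u).obj (yoneda.obj Y) ≅ yoneda.obj (u.obj Y) :=
  Functor.leftKanExtensionUnique ((L u).obj (yoneda.obj Y)) (u.op.lanUnit.app (yoneda.obj Y))
    (yoneda.obj (u.obj Y)) (yonedaMap u Y)

lemma eY_fac (Y : C) :
    u.op.lanUnit.app (yoneda.obj Y) ≫ Functor.whiskerLeft u.op (eY u Y).hom = yonedaMap u Y := by
  simp [eY]

lemma eY_unit_apply (Y X : C) (f : X ⟶ Y) :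
    (eY u Y).hom.app (op (u.obj X)) ((u.op.lanUnit.app (yoneda.obj Y)).app (op X) f) =
      u.map f :=
  ConcreteCategory.congr_hom (NatTrans.congr_app (eY_fac u Y) (op X)) f

lemma eY_hom_app_injective (Y : C) (Z : C'ᵒᵖ) : Function.Injective ((eY u Y).hom.app Z) :=
  ((CategoryTheory.isIso_iff_bijective ((eY u Y).hom.app Z)).1 inferInstance).1

lemma unit_nat_apply {F G : Cᵒᵖ ⥤ Type u} (φ : F ⟶ G) (X : C) (a : F.obj (op X)) :
    (u.op.lanUnit.app G).app (op X) (φ.app (op X) a) =
      ((L u).map φ).app (op (u.obj X)) ((u.op.lanUnit.app F).app (op X) a) :=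
  ConcreteCategory.congr_hom (NatTrans.congr_app (u.op.lanUnit.naturality φ) (op X)) a

lemma unit_inj_repr [u.Faithful] (Y X : C) :
    Function.Injective ((u.op.lanUnit.app (yoneda.obj Y)).app (op X)) := by
  intro f g h
  apply u.map_injective
  rw [← eY_unit_apply u Y X f, ← eY_unit_apply u Y X g, h]

lemma unit_inj_ind [u.Faithful] (G : Cᵒᵖ ⥤ Type u) (hG : IsIndObject G) (X : C) :
    Function.Injective ((u.op.lanUnit.app G).app (op X)) := by
  obtain ⟨⟨P⟩⟩ := hG
  intro a b hab
  have hc : IsColimit (Cocone.mk G P.ι) := P.isColimit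
  have hcX : IsColimit (((evaluation Cᵒᵖ (Type u)).obj (op X)).mapCocone (Cocone.mk G P.ι)) :=
    isColimitOfPreserves _ hc
  obtain ⟨k, a', b', ha, hb⟩ :=
    Types.FilteredColimit.jointly_surjective_of_isColimit₂ hcX a b
  have ha' : (P.ι.app k).app (op X) a' = a := ha
  have hb' : (P.ι.app k).app (op X) b' = b := hb
  have : (L u).IsLeftAdjoint := (adj u).isLeftAdjoint
  have hLc : IsColimit ((L u).mapCocone (Cocone.mk G P.ι)) := isColimitOfPreserves _ hc
  have hLcX : IsColimit (((evaluation C'ᵒᵖ (Type u)).obj (op (u.obj X))).mapCocone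
      ((L u).mapCocone (Cocone.mk G P.ι))) := isColimitOfPreserves _ hLc
  rw [← ha', ← hb', unit_nat_apply, unit_nat_apply] at hab
  obtain ⟨k', t, ht⟩ := (Types.FilteredColimit.isColimit_eq_iff' hLcX (i := k)
    ((u.op.lanUnit.app (yoneda.obj (P.F.obj k))).app (op X) a')
    ((u.op.lanUnit.app (yoneda.obj (P.F.obj k))).app (op X) b')).1 hab
  have ht' : ((L u).map (yoneda.map (P.F.map t))).app (op (u.obj X))
      ((u.op.lanUnit.app (yoneda.obj (P.F.obj k))).app (op X) a') =
      ((L u).map (yoneda.map (P.F.map t))).app (op (u.obj X))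
      ((u.op.lanUnit.app (yoneda.obj (P.F.obj k))).app (op X) b') := ht
  rw [← unit_nat_apply, ← unit_nat_apply] at ht'
  have h3 : a' ≫ P.F.map t = b' ≫ P.F.map t := unit_inj_repr u _ _ ht'
  have hw : ∀ (x : X ⟶ P.F.obj k),
      (P.ι.app k).app (op X) x = (P.ι.app k').app (op X) (x ≫ P.F.map t) := by
    intro x
    exact (ConcreteCategory.congr_hom
      (NatTrans.congr_app ((Cocone.mk G P.ι).w t) (op X)) x).symm
  rw [← ha', ← hb', hw a', hw b', h3]

end Helpers

/-- Faithful case. Let `u : C ⥤ C'` be a functor between small categories and `u_!` the left Kan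
extension functor on presheaves of sets, whose restriction to ind-objects (presheaves that are small
filtered colimits of representables) is the induced functor `Ind C ⥤ Ind C'`. Then `u` is faithful
if and only if `u_!` is injective on morphisms between ind-representable presheaves. -/
theorem result
    {C : Type u} [SmallCategory C] {C' : Type u} [SmallCategory C'] (u : C ⥤ C') :
    u.Faithful ↔ ∀ (F G : Cᵒᵖ ⥤ Type u), IsIndObject F → IsIndObject G →
      Function.Injective (fun φ : F ⟶ G => (u.op.lan : (Cᵒᵖ ⥤ Type u) ⥤ (C'ᵒᵖ ⥤ Type u)).map φ) := by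
  constructor
  · intro hu F G hF hG φ ψ hφψ
    have hφψ' : (L u).map φ = (L u).map ψ := hφψ
    refine NatTrans.ext (funext fun Xop => ?_)
    induction Xop using Opposite.rec with
    | _ X =>
      refine ConcreteCategory.hom_ext _ _ (fun a => ?_)
      apply unit_inj_ind u G hG X
      rw [unit_nat_apply, unit_nat_apply, hφψ']
  · intro h
    refine ⟨fun {X Y} f g hfg => ?_⟩
    have h1 := h (yoneda.obj X) (yoneda.obj Y) (isIndObject_yoneda X) (isIndObject_yoneda Y)
    apply yoneda.map_injective
    apply h1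
    change (L u).map (yoneda.map f) = (L u).map (yoneda.map g)
    apply ((adj u).homEquiv _ _).injective
    rw [(adj u).homEquiv_unit, (adj u).homEquiv_unit]
    have hn : ∀ φ : yoneda.obj X ⟶ yoneda.obj Y, (adj u).unit.app _ ≫
        ((Functor.whiskeringLeft _ _ _).obj u.op).map ((L u).map φ) =
          φ ≫ (adj u).unit.app _ := fun φ => ((adj u).unit.naturality φ).symm
    have key : (u.op.lanUnit.app (yoneda.obj Y)).app (op X) f =
        (u.op.lanUnit.app (yoneda.obj Y)).app (op X) g := by
      apply eY_hom_app_injective u Y (op (u.obj X))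
      rw [eY_unit_apply, eY_unit_apply, hfg]
    have h2 : yoneda.map f ≫ (adj u).unit.app (yoneda.obj Y) =
        yoneda.map g ≫ (adj u).unit.app (yoneda.obj Y) := by
      apply yonedaEquiv.injective
      rw [yonedaEquiv_comp, yonedaEquiv_comp, yonedaEquiv_yoneda_map, yonedaEquiv_yoneda_map,
        Functor.lanAdjunction_unit]
      exact key
    rw [hn, hn]
    exact h2

end Groth.Agent.S6135
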