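import Groth.Statements.S6136
import Groth.Agent.S6135
import Mathlib.CategoryTheory.Adjunction.FullyFaithful

set_option autoImplicit false
open CategoryTheory CategoryTheory.Limits
universe u
open SGA4

namespace Groth.Agent.S6136

/-- Fully faithful case. Let `u : C ⥤ C'` be a functor between small categories and `u_!` the left Kan
extension functor on presheaves of sets, whose restriction to ind-representable presheaves is the
induced functor `Ind C ⥤ Ind C'`. Then `u` is full and faithful if and only if `u_!` is bijective on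
morphisms between ind-representable presheaves. -/
theorem result
    {C : Type u} [SmallCategory C] {C' : Type u} [SmallCategory C'] (u : C ⥤ C') :
    (u.Full ∧ u.Faithful) ↔ ∀ (F G : Cᵒᵖ ⥤ Type u), IsIndObject F → IsIndObject G →
      Function.Bijective (fun φ : F ⟶ G => (u.op.lan : (Cᵒᵖ ⥤ Type u) ⥤ (C'ᵒᵖ ⥤ Type u)).map φ) := by
  constructor
  · rintro ⟨hfull, hfaith⟩ F G _ _
    have : IsIso (u.op.lanAdjunction (Type u)).unit := by
      rw [Functor.lanAdjunction_unit]; infer_instance
    exact ((u.op.lanAdjunction (Type u)).fullyFaithfulLOfIsIsoUnit).map_bijective _ _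
  · intro h
    have hfaith : u.Faithful :=
      (Groth.Agent.S6135.result u).2 (fun F G hF hG => (h F G hF hG).1)
    refine ⟨⟨fun {X Y} b => ?_⟩, hfaith⟩
    obtain ⟨φ, hφ⟩ := (h (yoneda.obj X) (yoneda.obj Y) (isIndObject_yoneda X)
      (isIndObject_yoneda Y)).2 (((S6135.adj u).homEquiv (yoneda.obj X)
        ((S6135.L u).obj (yoneda.obj Y))).symm
          ((yonedaEquiv (X := X) (F := u.op ⋙ (S6135.L u).obj (yoneda.obj Y))).symm
            ((S6135.eY u Y).inv.app (Opposite.op (u.obj X)) b)))
    have hφ' : (S6135.L u).map φ = ((S6135.adj u).homEquiv (yoneda.obj X)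
        ((S6135.L u).obj (yoneda.obj Y))).symm
          ((yonedaEquiv (X := X) (F := u.op ⋙ (S6135.L u).obj (yoneda.obj Y))).symm
            ((S6135.eY u Y).inv.app (Opposite.op (u.obj X)) b)) := hφ
    refine ⟨yonedaEquiv φ, ?_⟩
    have h1 : φ ≫ (S6135.adj u).unit.app (yoneda.obj Y) =
        (yonedaEquiv (X := X) (F := u.op ⋙ (S6135.L u).obj (yoneda.obj Y))).symm
          ((S6135.eY u Y).inv.app (Opposite.op (u.obj X)) b) := by
      have := congr_arg ((S6135.adj u).homEquiv _ _) hφ'
      rw [Equiv.apply_symm_apply, (S6135.adj u).homEquiv_unit] at this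
      rw [← this]
      exact ((S6135.adj u).unit.naturality φ)
    have h2 : (u.op.lanUnit.app (yoneda.obj Y)).app (Opposite.op X) (yonedaEquiv φ) =
        (S6135.eY u Y).inv.app (Opposite.op (u.obj X)) b := by
      have := congr_arg yonedaEquiv h1
      rw [yonedaEquiv_comp, Equiv.apply_symm_apply, Functor.lanAdjunction_unit] at this
      exact this
    rw [← S6135.eY_unit_apply u Y X (yonedaEquiv φ), h2]
    exact ConcreteCategory.congr_hom ((S6135.eY u Y).inv_hom_id_app (Opposite.op (u.obj X))) b

end Groth.Agent.S6136
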