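import Groth.Statements.S12109
import Groth.Agent.S6136
import Mathlib.CategoryTheory.Limits.Indization.IndObject
import Mathlib.CategoryTheory.Functor.KanExtension.Adjunction
import Mathlib.CategoryTheory.Filtered.Basic

set_option autoImplicit false
open CategoryTheory CategoryTheory.Limits
universe u
open SGA4

namespace Groth.Agent.S12109

open Opposite

section helpers

variable {C : Type u} [SmallCategory C] {C' : Type u} [SmallCategory C'] (u : C ⥤ C')

/-- restriction `u^*` on presheaves -/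
abbrev Rst : (C'ᵒᵖ ⥤ Type u) ⥤ (Cᵒᵖ ⥤ Type u) :=
  (Functor.whiskeringLeft Cᵒᵖ C'ᵒᵖ (Type u)).obj u.op

lemma hom_cond {D : Type u} [SmallCategory D] {A : Dᵒᵖ ⥤ Type u} {X Y : D} (b : X ⟶ Y)
    (s : yoneda.obj X ⟶ A) (t : yoneda.obj Y ⟶ A)
    (h : A.map b.op (yonedaEquiv t) = yonedaEquiv s) : yoneda.map b ≫ t = s := by
  apply yonedaEquiv.injective
  rw [← yonedaEquiv_naturality]
  exact h

lemma hom_cond' {D : Type u} [SmallCategory D] {A : Dᵒᵖ ⥤ Type u} {X Y : D} (b : X ⟶ Y)
    (s : yoneda.obj X ⟶ A) (t : yoneda.obj Y ⟶ A)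
    (h : yoneda.map b ≫ t = s) : A.map b.op (yonedaEquiv t) = yonedaEquiv s := by
  rw [yonedaEquiv_naturality, h]

lemma map_comp_op_apply {D : Type u} [SmallCategory D] (A : Dᵒᵖ ⥤ Type u) {X Y Z : D}
    (p : X ⟶ Y) (q : Y ⟶ Z) (m : A.obj (op Z)) :
    A.map (p ≫ q).op m = A.map p.op (A.map q.op m) := by
  have h : A.map (p ≫ q).op = A.map q.op ≫ A.map p.op := by
    rw [op_comp, CategoryTheory.Functor.map_comp]
  exact ConcreteCategory.congr_hom h m

lemma retract_key {D : Type u} [SmallCategory D] (A : Dᵒᵖ ⥤ Type u) {W M X : D}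
    (a : W ⟶ M) (i : M ⟶ X) (r : X ⟶ M) (hir : i ≫ r = 𝟙 M) (m : A.obj (op M)) :
    A.map (a ≫ i).op (A.map r.op m) = A.map a.op m := by
  rw [← map_comp_op_apply, Category.assoc, hir, Category.comp_id]

/-- (⇒): retracts -/
lemma retract_of_iso (X' : C') (F : Cᵒᵖ ⥤ Type u) (hF : IsIndObject F)
    (e : (S6135.L u).obj F ≅ yoneda.obj X') :
    ∃ (X : C) (i : X' ⟶ u.obj X) (r : u.obj X ⟶ X'), i ≫ r = 𝟙 X' := by
  obtain ⟨⟨P⟩⟩ := hF
  have hc : IsColimit (Cocone.mk F P.ι) := P.isColimit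
  have : (S6135.L u).IsLeftAdjoint := (S6135.adj u).isLeftAdjoint
  have hLc : IsColimit ((S6135.L u).mapCocone (Cocone.mk F P.ι)) := isColimitOfPreserves _ hc
  have hLcX : IsColimit (((evaluation C'ᵒᵖ (Type u)).obj (op X')).mapCocone
      ((S6135.L u).mapCocone (Cocone.mk F P.ι))) := isColimitOfPreserves _ hLc
  obtain ⟨k, z, hz⟩ := Types.jointly_surjective_of_isColimit hLcX (e.inv.app (op X') (𝟙 X'))
  let τ : yoneda.obj (u.obj (P.F.obj k)) ⟶ yoneda.obj X' :=
    (S6135.eY u (P.F.obj k)).inv ≫ (S6135.L u).map (P.ι.app k) ≫ e.hom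
  refine ⟨P.F.obj k, (S6135.eY u (P.F.obj k)).hom.app (op X') z, yoneda.preimage τ, ?_⟩
  have hτ : yoneda.map (yoneda.preimage τ) = τ := yoneda.map_preimage τ
  have h1 : τ.app (op X') ((S6135.eY u (P.F.obj k)).hom.app (op X') z) = 𝟙 X' := by
    show e.hom.app (op X') (((S6135.L u).map (P.ι.app k)).app (op X')
      ((S6135.eY u (P.F.obj k)).inv.app (op X')
        ((S6135.eY u (P.F.obj k)).hom.app (op X') z))) = 𝟙 X'
    have h2 : (S6135.eY u (P.F.obj k)).inv.app (op X')
        ((S6135.eY u (P.F.obj k)).hom.app (op X') z) = z :=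
      ConcreteCategory.congr_hom ((S6135.eY u (P.F.obj k)).hom_inv_id_app (op X')) z
    rw [h2]
    have h3 : ((S6135.L u).map (P.ι.app k)).app (op X') z = e.inv.app (op X') (𝟙 X') := hz
    rw [h3]
    exact ConcreteCategory.congr_hom (e.inv_hom_id_app (op X')) (𝟙 X')
  rw [← hτ] at h1
  exact h1

lemma isIso_unit [u.Full] [u.Faithful] : IsIso (S6135.adj u).unit := by
  rw [Functor.lanAdjunction_unit]
  infer_instance

lemma isIso_counit_L [u.Full] [u.Faithful] (H : Cᵒᵖ ⥤ Type u) :
    IsIso ((S6135.adj u).counit.app ((S6135.L u).obj H)) := by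
  have := isIso_unit u
  have h := (S6135.adj u).left_triangle_components H
  have h1 : IsIso ((S6135.L u).map ((S6135.adj u).unit.app H)) := inferInstance
  have h2 : IsIso ((S6135.L u).map ((S6135.adj u).unit.app H) ≫
      (S6135.adj u).counit.app ((S6135.L u).obj H)) := by
    rw [h]
    exact IsIso.id _
  exact IsIso.of_isIso_comp_left ((S6135.L u).map ((S6135.adj u).unit.app H)) _

lemma isIso_counit_of_iso {A B : C'ᵒᵖ ⥤ Type u} (e : A ≅ B)
    [IsIso ((S6135.adj u).counit.app A)] : IsIso ((S6135.adj u).counit.app B) := by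
  have h : (S6135.adj u).counit.app B =
      (Rst u ⋙ S6135.L u).map e.inv ≫ (S6135.adj u).counit.app A ≫ e.hom := by
    have := (S6135.adj u).counit.naturality e.inv
    rw [← Category.assoc, this]
    simp
  rw [h]
  infer_instance

lemma isIso_counit_yoneda [u.Full] [u.Faithful] (X' : C') (X : C) (i : X' ⟶ u.obj X)
    (r : u.obj X ⟶ X') (hir : i ≫ r = 𝟙 X') :
    IsIso ((S6135.adj u).counit.app (yoneda.obj X')) := by
  have h0 : IsIso ((S6135.adj u).counit.app (yoneda.obj (u.obj X))) := by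
    have := isIso_counit_L u (yoneda.obj X)
    exact isIso_counit_of_iso u (S6135.eY u X)
  have hab : yoneda.map i ≫ yoneda.map r = 𝟙 (yoneda.obj X') := by
    rw [← CategoryTheory.Functor.map_comp, hir, CategoryTheory.Functor.map_id]
  have n1 : (S6135.adj u).counit.app (yoneda.obj X') ≫ yoneda.map i =
      (Rst u ⋙ S6135.L u).map (yoneda.map i) ≫
        (S6135.adj u).counit.app (yoneda.obj (u.obj X)) :=
    ((S6135.adj u).counit.naturality (yoneda.map i)).symm
  have n2 : (Rst u ⋙ S6135.L u).map (yoneda.map r) ≫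
      (S6135.adj u).counit.app (yoneda.obj X') =
      (S6135.adj u).counit.app (yoneda.obj (u.obj X)) ≫ yoneda.map r :=
    (S6135.adj u).counit.naturality (yoneda.map r)
  refine ⟨⟨yoneda.map i ≫ inv ((S6135.adj u).counit.app (yoneda.obj (u.obj X))) ≫
    (Rst u ⋙ S6135.L u).map (yoneda.map r), ?_, ?_⟩⟩
  · rw [← Category.assoc, n1, Category.assoc, IsIso.hom_inv_id_assoc,
      ← CategoryTheory.Functor.map_comp, hab, CategoryTheory.Functor.map_id]
  · rw [Category.assoc, Category.assoc, n2, IsIso.inv_hom_id_assoc, hab]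
    rfl

lemma isIso_app_of_isColimit {𝒜 ℬ J : Type*} [Category 𝒜] [Category ℬ] [Category J]
    (F₁ F₂ : 𝒜 ⥤ ℬ) (ε : F₁ ⟶ F₂) {D : J ⥤ 𝒜} (c : Cocone D)
    (h₁ : IsColimit (F₁.mapCocone c)) (h₂ : IsColimit (F₂.mapCocone c))
    (hε : ∀ j, IsIso (ε.app (D.obj j))) : IsIso (ε.app c.pt) := by
  let w : D ⋙ F₁ ≅ D ⋙ F₂ :=
    NatIso.ofComponents (fun j => asIso (ε.app (D.obj j))) (fun f => by
      dsimp
      exact ε.naturality _)
  have : ε.app c.pt = (IsColimit.coconePointsIsoOfNatIso h₁ h₂ w).hom := by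
    apply h₁.hom_ext
    intro j
    rw [IsColimit.comp_coconePointsIsoOfNatIso_hom]
    dsimp [w]
    exact ε.naturality _
  rw [this]
  infer_instance

lemma isIso_counit_ind [u.Full] [u.Faithful]
    (hret : ∀ X' : C', ∃ (X : C) (i : X' ⟶ u.obj X) (r : u.obj X ⟶ X'), i ≫ r = 𝟙 X')
    (G' : C'ᵒᵖ ⥤ Type u) (hG' : IsIndObject G') :
    IsIso ((S6135.adj u).counit.app G') := by
  obtain ⟨⟨P⟩⟩ := hG'
  have hc : IsColimit (Cocone.mk G' P.ι) := P.isColimit
  have : (S6135.L u).IsLeftAdjoint := (S6135.adj u).isLeftAdjoint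
  have : (Rst u).IsLeftAdjoint := (u.op.ranAdjunction (Type u)).isLeftAdjoint
  have h₁ : IsColimit ((Rst u ⋙ S6135.L u).mapCocone (Cocone.mk G' P.ι)) :=
    isColimitOfPreserves _ hc
  have h₂ : IsColimit ((𝟭 (C'ᵒᵖ ⥤ Type u)).mapCocone (Cocone.mk G' P.ι)) :=
    isColimitOfPreserves _ hc
  exact isIso_app_of_isColimit _ _ (S6135.adj u).counit (Cocone.mk G' P.ι) h₁ h₂ (fun j => by
    obtain ⟨X, i, r, hir⟩ := hret (P.F.obj j)
    exact isIso_counit_yoneda u _ X i r hir)

lemma isFiltered_el [u.Full] [u.Faithful]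
    (hret : ∀ X' : C', ∃ (X : C) (i : X' ⟶ u.obj X) (r : u.obj X ⟶ X'), i ≫ r = 𝟙 X')
    (G' : C'ᵒᵖ ⥤ Type u) [IsFiltered (CostructuredArrow yoneda G')] :
    IsFiltered (CostructuredArrow yoneda (u.op ⋙ G')) := by
  have hne : Nonempty (CostructuredArrow yoneda (u.op ⋙ G')) := by
    obtain ⟨Z'⟩ := (IsFiltered.nonempty : Nonempty (CostructuredArrow yoneda G'))
    obtain ⟨X, i, r, hir⟩ := hret Z'.left
    exact ⟨CostructuredArrow.mk ((yonedaEquiv (X := X) (F := u.op ⋙ G')).symm
      (G'.map r.op (yonedaEquiv Z'.hom)))⟩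
  have hfe : IsFilteredOrEmpty (CostructuredArrow yoneda (u.op ⋙ G')) := by
    refine ⟨?_, ?_⟩
    · intro Z₁ Z₂
      let x₁ : G'.obj (op (u.obj Z₁.left)) :=
        (yonedaEquiv (X := Z₁.left) (F := u.op ⋙ G')) Z₁.hom
      let x₂ : G'.obj (op (u.obj Z₂.left)) :=
        (yonedaEquiv (X := Z₂.left) (F := u.op ⋙ G')) Z₂.hom
      let W₁ : CostructuredArrow yoneda G' := CostructuredArrow.mk (yonedaEquiv.symm x₁)
      let W₂ : CostructuredArrow yoneda G' := CostructuredArrow.mk (yonedaEquiv.symm x₂)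
      let M := IsFiltered.max W₁ W₂
      let a₁ : W₁ ⟶ M := IsFiltered.leftToMax W₁ W₂
      let a₂ : W₂ ⟶ M := IsFiltered.rightToMax W₁ W₂
      obtain ⟨X, i, r, hir⟩ := hret M.left
      let m : G'.obj (op M.left) := yonedaEquiv M.hom
      have hm₁ : G'.map a₁.left.op m = x₁ := by
        have h := hom_cond' a₁.left W₁.hom M.hom (CostructuredArrow.w a₁)
        rw [show yonedaEquiv W₁.hom = x₁ from Equiv.apply_symm_apply _ _] at h
        exact h
      have hm₂ : G'.map a₂.left.op m = x₂ := by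
        have h := hom_cond' a₂.left W₂.hom M.hom (CostructuredArrow.w a₂)
        rw [show yonedaEquiv W₂.hom = x₂ from Equiv.apply_symm_apply _ _] at h
        exact h
      let T : CostructuredArrow yoneda (u.op ⋙ G') :=
        CostructuredArrow.mk ((yonedaEquiv (X := X) (F := u.op ⋙ G')).symm (G'.map r.op m))
      have hT : (yonedaEquiv (F := u.op ⋙ G')) T.hom = G'.map r.op m := Equiv.apply_symm_apply _ _
      refine ⟨T, CostructuredArrow.homMk (u.preimage (a₁.left ≫ i)) ?_,
        CostructuredArrow.homMk (u.preimage (a₂.left ≫ i)) ?_, trivial⟩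
      · apply hom_cond
        show G'.map (u.map (u.preimage (a₁.left ≫ i))).op ((yonedaEquiv (F := u.op ⋙ G')) T.hom) = x₁
        rw [u.map_preimage, hT, retract_key G' a₁.left i r hir m, hm₁]
      · apply hom_cond
        show G'.map (u.map (u.preimage (a₂.left ≫ i))).op ((yonedaEquiv (F := u.op ⋙ G')) T.hom) = x₂
        rw [u.map_preimage, hT, retract_key G' a₂.left i r hir m, hm₂]
    · intro Z₁ Z₂ f g
      let x₁ : G'.obj (op (u.obj Z₁.left)) :=
        (yonedaEquiv (X := Z₁.left) (F := u.op ⋙ G')) Z₁.hom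
      let x₂ : G'.obj (op (u.obj Z₂.left)) :=
        (yonedaEquiv (X := Z₂.left) (F := u.op ⋙ G')) Z₂.hom
      let W₁ : CostructuredArrow yoneda G' := CostructuredArrow.mk (yonedaEquiv.symm x₁)
      let W₂ : CostructuredArrow yoneda G' := CostructuredArrow.mk (yonedaEquiv.symm x₂)
      have hW₁ : yonedaEquiv W₁.hom = x₁ := Equiv.apply_symm_apply _ _
      have hW₂ : yonedaEquiv W₂.hom = x₂ := Equiv.apply_symm_apply _ _
      have hf : G'.map (u.map f.left).op x₂ = x₁ :=
        hom_cond' f.left Z₁.hom Z₂.hom (CostructuredArrow.w f)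
      have hg : G'.map (u.map g.left).op x₂ = x₁ :=
        hom_cond' g.left Z₁.hom Z₂.hom (CostructuredArrow.w g)
      let f' : W₁ ⟶ W₂ := CostructuredArrow.homMk (u.map f.left)
        (hom_cond _ _ _ (by rw [hW₁, hW₂]; exact hf))
      let g' : W₁ ⟶ W₂ := CostructuredArrow.homMk (u.map g.left)
        (hom_cond _ _ _ (by rw [hW₁, hW₂]; exact hg))
      let Q := IsFiltered.coeq f' g'
      let c : W₂ ⟶ Q := IsFiltered.coeqHom f' g'
      have hc : f' ≫ c = g' ≫ c := IsFiltered.coeq_condition f' g'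
      obtain ⟨X, i, r, hir⟩ := hret Q.left
      let q : G'.obj (op Q.left) := yonedaEquiv Q.hom
      have hq : G'.map c.left.op q = x₂ := by
        have h := hom_cond' c.left W₂.hom Q.hom (CostructuredArrow.w c)
        rw [hW₂] at h
        exact h
      let T : CostructuredArrow yoneda (u.op ⋙ G') :=
        CostructuredArrow.mk ((yonedaEquiv (X := X) (F := u.op ⋙ G')).symm (G'.map r.op q))
      have hT : (yonedaEquiv (F := u.op ⋙ G')) T.hom = G'.map r.op q := Equiv.apply_symm_apply _ _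
      refine ⟨T, CostructuredArrow.homMk (u.preimage (c.left ≫ i)) ?_, ?_⟩
      · apply hom_cond
        show G'.map (u.map (u.preimage (c.left ≫ i))).op ((yonedaEquiv (F := u.op ⋙ G')) T.hom) = x₂
        rw [u.map_preimage, hT, retract_key G' c.left i r hir q, hq]
      · apply CostructuredArrow.hom_ext
        show f.left ≫ u.preimage (c.left ≫ i) = g.left ≫ u.preimage (c.left ≫ i)
        apply u.map_injective
        rw [u.map_comp, u.map_comp, u.map_preimage]
        have h3 : u.map f.left ≫ c.left = u.map g.left ≫ c.left :=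
          congrArg CommaMorphism.left hc
        rw [← Category.assoc, h3, Category.assoc]
  exact { hfe with nonempty := hne }

end helpers


/-- Let `u : C ⥤ C'` be a functor between small categories and `u_!` the left Kan extension functor on
presheaves of sets, whose restriction to ind-representable presheaves is the induced functor `Ind C
⥤ Ind C'`. Then `Ind(u)` is an equivalence — `u_!` is bijective on morphisms between
ind-representable presheaves on `C` and every ind-representable presheaf on `C'` is isomorphic to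
`u_! F` for some ind-representable `F` — if and only if `u` is full and faithful and every object of
`C'` is a retract (direct factor) of an object `u X`. -/
theorem result
    {C : Type u} [SmallCategory C] {C' : Type u} [SmallCategory C'] (u : C ⥤ C') :
    ((∀ (F G : Cᵒᵖ ⥤ Type u), IsIndObject F → IsIndObject G →
        Function.Bijective (fun φ : F ⟶ G => (u.op.lan : (Cᵒᵖ ⥤ Type u) ⥤ (C'ᵒᵖ ⥤ Type u)).map φ)) ∧
      (∀ G' : C'ᵒᵖ ⥤ Type u, IsIndObject G' →
        ∃ F : Cᵒᵖ ⥤ Type u, IsIndObject F ∧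
          Nonempty ((u.op.lan : (Cᵒᵖ ⥤ Type u) ⥤ (C'ᵒᵖ ⥤ Type u)).obj F ≅ G'))) ↔
    ((u.Full ∧ u.Faithful) ∧
      ∀ X' : C', ∃ (X : C) (i : X' ⟶ u.obj X) (r : u.obj X ⟶ X'), i ≫ r = 𝟙 X') := by
  constructor
  · rintro ⟨h1, h2⟩
    refine ⟨(Groth.Agent.S6136.result u).2 h1, fun X' => ?_⟩
    obtain ⟨F, hF, ⟨e⟩⟩ := h2 (yoneda.obj X') (isIndObject_yoneda X')
    exact retract_of_iso u X' F hF e
  · rintro ⟨⟨hfull, hfaith⟩, hret⟩
    refine ⟨(Groth.Agent.S6136.result u).1 ⟨hfull, hfaith⟩, fun G' hG' => ?_⟩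
    have := hG'.isFiltered
    have hF : IsIndObject (u.op ⋙ G') := by
      have := isFiltered_el u hret G'
      have : FinallySmall.{u} (CostructuredArrow yoneda (u.op ⋙ G')) :=
        finallySmall_of_essentiallySmall _
      exact isIndObject_of_isFiltered_of_finallySmall _
    have := isIso_counit_ind u hret G' hG'
    exact ⟨u.op ⋙ G', hF, ⟨asIso ((S6135.adj u).counit.app G')⟩⟩

end Groth.Agent.S12109
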