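import Groth.Statements.S12113
import Groth.Agent.H40.ExactDesc

set_option autoImplicit false
universe u
open CategoryTheory CategoryTheory.Limits MonoidalCategory CartesianMonoidalCategory MonObj AlgebraicGeometry
open SGA7

namespace Groth.Agent.S12113

/-- Group schemes, fppf site: over a base scheme S, let P and G be S-group schemes with G commutative,
and let u : G → E, v : E → P and u' : G → E', v' : E' → P be homomorphisms forming sequences 1 → G →
E → P → 1 and 1 → G → E' → P → 1 exact for the fppf topology. Suppose every morphism of S-schemes P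
×_S P → G trivial on P × e_P and on e_P × P is trivial. Let f : E → E' be a morphism of S-schemes
over P (f ≫ v' = v) and under G (u ≫ f = u'), preserving the unit section, and compatible with left
and right translations by G: for all points g of G and x of E with values in any S-scheme, f(u(g) x)
= u'(g) f(x) and f(x u(g)) = f(x) u'(g). Then f is a homomorphism of S-group schemes: such
extensions have no non-multiplicative morphisms of their underlying rigidified bitorsors. (The
published statement is for sheaves of groups on an arbitrary topos and phrased as full faithfulness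
of the functor from extensions to rigidified bitorsors; this row is the case of representable
sheaves on the fppf site of S, with G commutative so that the defect of multiplicativity descends to
P ×_S P as in the printed argument. Morphisms to a group scheme form a group; trivial means equal to
its unit.) -/
theorem result (S : Scheme.{u})
    (P G E E' : Over S) [GrpObj P] [GrpObj G] [GrpObj E] [GrpObj E'] [IsCommMonObj G]
    (u : G ⟶ E) (v : E ⟶ P) (hex : NonAbH1.IsExactSeq Scheme.fppfPrecoverage u v)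
    (u' : G ⟶ E') (v' : E' ⟶ P) (hex' : NonAbH1.IsExactSeq Scheme.fppfPrecoverage u' v')
    (hPP : ∀ c : P ⊗ P ⟶ G, lift (𝟙 P) (toUnit P ≫ η[P]) ≫ c = 1 → lift (toUnit P ≫ η[P]) (𝟙 P) ≫ c = 1 → c = 1)
    (f : E ⟶ E') (hv : f ≫ v' = v) (hu : u ≫ f = u') (h1 : η[E] ≫ f = η[E'])
    (hl : ∀ (T : Over S) (g : T ⟶ G) (x : T ⟶ E), ((g ≫ u) * x) ≫ f = (g ≫ u') * (x ≫ f))
    (hr : ∀ (T : Over S) (g : T ⟶ G) (x : T ⟶ E), (x * (g ≫ u)) ≫ f = (x ≫ f) * (g ≫ u')) :
    IsMonHom f := by
  open Groth.Agent.H40.FpqcFam in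
  obtain ⟨hu₁, hv₁, huv, hpb, hloc0⟩ := hex
  obtain ⟨hu₁', hv₁', huv', hpb', hloc0'⟩ := hex'
  have hloc := locTriv_fpqc_of_fppf hloc0
  have huvp : ∀ {T : Over S} (g : T ⟶ G), (g ≫ u) ≫ v = 1 := fun g => by
    rw [Category.assoc, huv, MonObj.comp_one]
  have huvp' : ∀ {T : Over S} (g : T ⟶ G), (g ≫ u') ≫ v' = 1 := fun g => by
    rw [Category.assoc, huv', MonObj.comp_one]
  have hu'_inj : ∀ {T : Over S} (g g' : T ⟶ G), g ≫ u' = g' ≫ u' → g = g' := by
    intro T g g' h
    exact (exact_lift hpb' (g ≫ u') (huvp' g)).unique rfl h.symm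
  have hfv : ∀ {T : Over S} (x : T ⟶ E), (x ≫ f) ≫ v' = x ≫ v := by
    intro T x
    rw [Category.assoc, hv]
  have hf1 : ∀ {T : Over S}, (1 : T ⟶ E) ≫ f = 1 := by
    intro T
    rw [Hom.one_def, Category.assoc, h1]
    rfl
  have hdδ : (((fst E E) * (snd E E)) ≫ f * ((fst E E ≫ f) * (snd E E ≫ f))⁻¹) ≫ v' = 1 := by
    rw [MonObj.mul_comp _ _ v', GrpObj.inv_comp _ v', MonObj.mul_comp _ _ v', hfv, hfv, hfv,
      MonObj.mul_comp _ _ v, mul_inv_cancel]
  obtain ⟨δ, hδ, -⟩ := exact_lift hpb' _ hdδ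
  have hδp : ∀ {T : Over S} (x y : T ⟶ E),
      (lift x y ≫ δ) ≫ u' = ((x * y) ≫ f) * ((x ≫ f) * (y ≫ f))⁻¹ := by
    intro T x y
    rw [Category.assoc, hδ, MonObj.comp_mul, GrpObj.comp_inv, MonObj.comp_mul, lift_fst_assoc,
      lift_snd_assoc, ← Category.assoc, MonObj.comp_mul, lift_fst, lift_snd]
  have hδy : ∀ (T : Over S) (g : T ⟶ G) (x y : T ⟶ E),
      lift x (y * (g ≫ u)) ≫ δ = lift x y ≫ δ := by
    intro T g x y
    apply hu'_inj
    have e1 : x * (y * (g ≫ u)) = (x * y) * (g ≫ u) := (_root_.mul_assoc _ _ _).symm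
    rw [hδp, hδp, e1, hr, hr]
    group
  have hδx : ∀ (T : Over S) (g : T ⟶ G) (x y : T ⟶ E),
      lift (x * (g ≫ u)) y ≫ δ = lift x y ≫ δ := by
    intro T g x y
    have hd : (y⁻¹ * (g ≫ u) * y) ≫ v = 1 := by
      rw [MonObj.mul_comp, MonObj.mul_comp, GrpObj.inv_comp, huvp, _root_.mul_one, inv_mul_cancel]
    obtain ⟨g', hg', -⟩ := exact_lift hpb _ hd
    have e1 : (g ≫ u) * y = y * (g' ≫ u) := by
      rw [hg']
      group
    have e2 : x * (g ≫ u) * y = (x * y) * (g' ≫ u) := by
      rw [_root_.mul_assoc, e1, ← _root_.mul_assoc]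
    have e3 : (g ≫ u') * (y ≫ f) = (y ≫ f) * (g' ≫ u') := by
      rw [← hl, e1, hr]
    apply hu'_inj
    rw [hδp, hδp, e2, hr, hr, _root_.mul_assoc (x ≫ f), e3]
    group
  obtain ⟨δ₂, hδ₂⟩ := exact_desc₂ hpb hloc δ hδx hδy
  have hδ1 : ∀ {T : Over S} (x : T ⟶ E), lift x (1 : T ⟶ E) ≫ δ = 1 := by
    intro T x
    apply hu'_inj
    rw [hδp, _root_.mul_one, hf1, _root_.mul_one, mul_inv_cancel, MonObj.one_comp]
  have hδ2 : ∀ {T : Over S} (y : T ⟶ E), lift (1 : T ⟶ E) y ≫ δ = 1 := by
    intro T y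
    apply hu'_inj
    rw [hδp, _root_.one_mul, hf1, _root_.one_mul, mul_inv_cancel, MonObj.one_comp]
  have hone : ∀ {T : Over S}, (toUnit T ≫ η[P] : T ⟶ P) = (1 : T ⟶ E) ≫ v := by
    intro T
    rw [MonObj.one_comp]
    rfl
  have hδ₂one : δ₂ = 1 := by
    apply hPP
    · apply exact_cancel' hloc
      rw [MonObj.comp_one, ← Category.assoc, comp_lift, Category.comp_id, ← Category.assoc,
        toUnit_unique (v ≫ toUnit P) (toUnit E), hone]
      have := hδ₂ E (𝟙 E) (1 : E ⟶ E)
      rw [Category.id_comp] at this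
      rw [this, hδ1]
    · apply exact_cancel' hloc
      rw [MonObj.comp_one, ← Category.assoc, comp_lift, Category.comp_id, ← Category.assoc,
        toUnit_unique (v ≫ toUnit P) (toUnit E), hone]
      have := hδ₂ E (1 : E ⟶ E) (𝟙 E)
      rw [Category.id_comp] at this
      rw [this, hδ2]
  have hmul : ∀ {T : Over S} (x y : T ⟶ E), (x * y) ≫ f = (x ≫ f) * (y ≫ f) := by
    intro T x y
    have h := hδ₂ T x y
    rw [hδ₂one, MonObj.comp_one] at h
    have h2 := hδp x y
    rw [← h, MonObj.one_comp] at h2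
    exact mul_inv_eq_one.mp h2.symm
  refine { one_hom := h1, mul_hom := ?_ }
  apply AlgGrp.Action.hom_ext_lift₂
  intro T x y
  rw [← Category.assoc, ← Hom.mul_def, hmul, ← Category.assoc, lift_map, ← Hom.mul_def]

end Groth.Agent.S12113
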