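import Groth.Statements.S12118

set_option autoImplicit false
universe u v
open EGA41

namespace Groth.Agent.S12118

theorem step {A : Type u} [CommRing A] {M : Type v} [AddCommGroup M] [Module A M]
    (F : ℕ → Submodule A M) (f : A)
    (hreg : ∀ k : ℕ, IsSMulRegular (↥(F k) ⧸ Submodule.comap (F k).subtype (F (k + 1))) f)
    (k : ℕ) (m : M) (hm : m ∈ F k) (hfm : f • m ∈ F (k + 1)) : m ∈ F (k + 1) := by
  have h1 : f • (Submodule.Quotient.mk (p := Submodule.comap (F k).subtype (F (k + 1))) ⟨m, hm⟩) =
      f • (0 : ↥(F k) ⧸ Submodule.comap (F k).subtype (F (k + 1))) := by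
    rw [smul_zero, ← Submodule.Quotient.mk_smul, Submodule.Quotient.mk_eq_zero]
    simpa using hfm
  have h2 := hreg k h1
  rw [Submodule.Quotient.mk_eq_zero] at h2
  simpa using h2

/-- Let A be a commutative ring, M an A-module, (M_k)_{k ≥ 0} a decreasing filtration of M by submodules
with M_0 = M and ⋂_k M_k = 0, and f an element of A which is a non-zero-divisor on every graded
piece M_k/M_{k+1} (equivalently on the associated graded module). Then (i) f is a non-zero-divisor
on M, and (ii) M_k ∩ fM = fM_k for every k ≥ 0. -/
theorem result {A : Type u} [CommRing A] {M : Type v} [AddCommGroup M] [Module A M]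
    (F : ℕ → Submodule A M) (hanti : Antitone F) (h0 : F 0 = ⊤) (hsep : ⨅ k, F k = ⊥) (f : A)
    (hreg : ∀ k : ℕ, IsSMulRegular (↥(F k) ⧸ Submodule.comap (F k).subtype (F (k + 1))) f) :
    IsSMulRegular M f ∧ ∀ k : ℕ, F k ⊓ (Ideal.span {f} • (⊤ : Submodule A M)) = Ideal.span {f} • F k := by
  refine ⟨?_, ?_⟩
  · intro a b hab
    have hab' : f • (a - b) = 0 := by
      have : f • a = f • b := hab
      rw [smul_sub, this, sub_self]
    have hmem : ∀ k, a - b ∈ F k := by
      intro k
      induction k with
      | zero => rw [h0]; trivial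
      | succ k ih =>
        apply step F f hreg k _ ih
        rw [hab']
        exact zero_mem _
    have : a - b ∈ (⨅ k, F k) := by
      rw [Submodule.mem_iInf]
      exact hmem
    rw [hsep, Submodule.mem_bot] at this
    exact sub_eq_zero.mp this
  · intro k
    apply le_antisymm
    · rintro x ⟨hxk, hxf⟩
      rw [Submodule.ideal_span_singleton_smul] at hxf ⊢
      obtain ⟨m, -, rfl⟩ := hxf
      have hmem : ∀ j, j ≤ k → m ∈ F j := by
        intro j
        induction j with
        | zero => intro _; rw [h0]; trivial
        | succ j ih =>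
          intro hj
          apply step F f hreg j _ (ih (Nat.le_of_succ_le hj))
          exact hanti hj hxk
      exact ⟨m, hmem k le_rfl, rfl⟩
    · apply le_inf
      · exact Submodule.smul_le_right
      · exact Submodule.smul_mono le_rfl le_top
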