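import Groth.Statements.S12122
import Groth.Agent.H60.ConsTop2

set_option autoImplicit false
universe u
open EGA41

namespace Groth.Agent.S12122

open AlgebraicGeometry Topology in
/-- Let X be a quasi-separated scheme. A subset E of X is locally constructible if and only if it is
both open and closed for the constructible topology of X. Here the constructible topology is the one
generated by the quasi-compact open subsets of X and their complements; when X is quasi-separated
its open sets are exactly the ind-constructible subsets, i.e. it is the constructible topology of
the source (for a scheme that is not quasi-separated the two topologies differ, and this row does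
not cover that case). -/
theorem result (X : Scheme.{u}) [QuasiSeparatedSpace X] (E : Set X) :
    Topology.IsLocallyConstructible E ↔
      (IsOpen[constructibleTopology X] E ∧ IsClosed[constructibleTopology X] E) := by
  constructor
  · intro hE
    refine ⟨Groth.Agent.H60.isOpen_cons_of_isLocallyConstructible hE, ?_⟩
    rw [← @isOpen_compl_iff _ _ (constructibleTopology X)]
    exact Groth.Agent.H60.isOpen_cons_of_isLocallyConstructible
      (Groth.Agent.H60.isLocallyConstructible_compl hE)
  · rintro ⟨hEo, hEc⟩
    -- cover by compact opens
    have hcov : ∀ x : X, ∃ V : X.Opens, IsCompact (V : Set X) ∧ x ∈ V := by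
      intro x
      obtain ⟨V, ⟨hVo, hVc⟩, hxV, -⟩ :=
        PrespectralSpace.isTopologicalBasis.exists_subset_of_mem_open (Set.mem_univ x) isOpen_univ
      exact ⟨⟨V, hVo⟩, hVc, hxV⟩
    choose V hVc hxV using hcov
    have hV : TopologicalSpace.IsOpenCover V := by
      rw [TopologicalSpace.IsOpenCover, eq_top_iff]
      intro x _
      exact TopologicalSpace.Opens.mem_iSup.mpr ⟨x, hxV x⟩
    rw [IsLocallyConstructible.iff_isConstructible_of_isOpenCover hV hVc]
    intro x
    apply Groth.Agent.H60.of_isCompact_isOpen_generateFrom (constructibleTopologySubbasis X)
      IsConstructible
    · intro s hs; exact Groth.Agent.H60.isConstructible_of_mem_subbasis hs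
    · exact IsConstructible.univ
    · intro s t hs ht; exact hs.inter ht
    · exact IsConstructible.empty
    · intro s t hs ht; exact hs.union ht
    · exact @IsOpen.inter _ (constructibleTopology X) _ _ hEo
        ((hVc x).isOpen_constructibleTopology_of_isOpen (V x).isOpen)
    · exact @IsCompact.inter_left _ (constructibleTopology X) _ _
        (Groth.Agent.H60.isCompact_cons_of_isCompact_isOpen _ (V x).isOpen (hVc x)) hEc

end Groth.Agent.S12122
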