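import Groth.Statements.S12123
import Groth.Agent.H60.ConsTop

set_option autoImplicit false
universe u
open EGA41

namespace Groth.Agent.S12123

open AlgebraicGeometry Topology in
/-- Let X be a quasi-separated scheme and X^cons its underlying set with the constructible topology,
generated by the quasi-compact open subsets and their complements (for X quasi-separated this is the
topology whose open sets are the ind-constructible subsets). Then X^cons is a Hausdorff, locally
compact, totally disconnected space. (The published statement also asserts that X^cons is Hausdorff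
only if X is quasi-separated; for the topology used here that converse fails when X is not
quasi-separated, where the two constructible topologies differ, so it is not part of this row.) -/
theorem result (X : Scheme.{u}) [QuasiSeparatedSpace X] :
    T2Space (WithConstructibleTopology X) ∧ LocallyCompactSpace (WithConstructibleTopology X) ∧
      TotallyDisconnectedSpace (WithConstructibleTopology X) := by
  have hsep : ∀ y1 y2 : WithConstructibleTopology X, y1 ≠ y2 →
      ∃ W : Set (WithConstructibleTopology X), IsClopen W ∧ y1 ∈ W ∧ y2 ∈ Wᶜ := by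
    intro y1 y2 hne
    have hne' : WithTopology.ofTopology y1 ≠ WithTopology.ofTopology y2 :=
      fun h => hne (WithTopology.ofTopology_injective _ h)
    obtain ⟨U, hU, hx⟩ := exists_isOpen_xor'_mem hne'
    rcases hx with ⟨h1, h2⟩ | ⟨h2, h1⟩
    · obtain ⟨V, ⟨hVo, hVc⟩, hxV, hVU⟩ :=
        PrespectralSpace.isTopologicalBasis.exists_subset_of_mem_open h1 hU
      exact ⟨WithTopology.ofTopology ⁻¹' V, Groth.Agent.H60.isClopen_preimage_ofTopology hVo hVc,
        hxV, fun h => h2 (hVU h)⟩
    · obtain ⟨V, ⟨hVo, hVc⟩, hxV, hVU⟩ :=
        PrespectralSpace.isTopologicalBasis.exists_subset_of_mem_open h2 hU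
      exact ⟨(WithTopology.ofTopology ⁻¹' V)ᶜ,
        (Groth.Agent.H60.isClopen_preimage_ofTopology hVo hVc).compl,
        fun h => h1 (hVU h), fun h => h hxV⟩
  have hT2 : T2Space (WithConstructibleTopology X) := by
    refine ⟨fun y1 y2 hne => ?_⟩
    obtain ⟨W, hW, h1, h2⟩ := hsep y1 y2 hne
    exact ⟨W, Wᶜ, hW.isOpen, hW.compl.isOpen, h1, h2, disjoint_compl_right⟩
  have hTS : TotallySeparatedSpace (WithConstructibleTopology X) := by
    rw [totallySeparatedSpace_iff_exists_isClopen]
    intro y1 y2 hne
    exact hsep y1 y2 hne
  refine ⟨hT2, ?_, inferInstance⟩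
  haveI : WeaklyLocallyCompactSpace (WithConstructibleTopology X) := by
    refine ⟨fun y => ?_⟩
    obtain ⟨V, ⟨hVo, hVc⟩, hxV, -⟩ :=
      PrespectralSpace.isTopologicalBasis.exists_subset_of_mem_open
        (Set.mem_univ (WithTopology.ofTopology y)) isOpen_univ
    refine ⟨WithTopology.ofTopology ⁻¹' V,
      Groth.Agent.H60.isCompact_preimage_ofTopology V hVo hVc, ?_⟩
    exact (Groth.Agent.H60.isClopen_preimage_ofTopology hVo hVc).isOpen.mem_nhds hxV
  infer_instance

end Groth.Agent.S12123
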