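import Groth.Statements.S12125
import Groth.Agent.H11.NagataLocal

set_option autoImplicit false
universe u
open EGA4

namespace Groth.Agent.S12125

/-- Let A be a Noetherian ring. Then every quotient of A by a prime ideal is N-2 (i.e. A is a Nagata
ring) if and only if (1) for every maximal ideal m of A every quotient of A_m by a prime ideal is
N-2, and (2) for every prime p of A, writing B = A/p with fraction field K, for every finite purely
inseparable field extension K' of K and every sub-B-algebra B' of K' which is a finite B-module and
has K' as its fraction field, there is a nonzero element f of B' such that B'_f is an integrally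
closed domain. -/
theorem result (A : Type u) [CommRing A] [IsNoetherianRing A] :
    CAlg.IsNagata A ↔
      ((∀ (m : Ideal A) [m.IsMaximal] (P : Ideal (Localization.AtPrime m)) [P.IsPrime],
          CAlg.IsN2 (Localization.AtPrime m ⧸ P)) ∧
        ∀ (p : Ideal A) [p.IsPrime] (K' : Type u) [Field K'] [Algebra (A ⧸ p) K']
          [Algebra (FractionRing (A ⧸ p)) K'] [IsScalarTower (A ⧸ p) (FractionRing (A ⧸ p)) K']
          [FiniteDimensional (FractionRing (A ⧸ p)) K'] [IsPurelyInseparable (FractionRing (A ⧸ p)) K']
          (B' : Subalgebra (A ⧸ p) K'), Module.Finite (A ⧸ p) B' → IsFractionRing B' K' →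
            ∃ f : B', f ≠ 0 ∧ IsIntegrallyClosed (Localization.Away f)) := by
  constructor
  · intro hNag
    refine ⟨?_, ?_⟩
    · intro m _ P _
      letI := Groth.Agent.H11.NagataLocal.quotAlgebra m P
      haveI := Groth.Agent.H11.NagataLocal.isLocalization_quot m P
      exact Groth.Agent.H11.NagataLocal.isN2_of_isLocalization
        (m.primeCompl.map (Ideal.Quotient.mk (P.comap (algebraMap A (Localization.AtPrime m)))))
        (hNag.2 _)
    · intro p _ K' _ _ _ _ _ _ B' hfin hfrac
      haveI := hfin
      have hD : CAlg.IsN2 (A ⧸ p) := hNag.2 p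
      have hinj : Function.Injective (algebraMap (A ⧸ p) B') := by
        intro a b hab
        have h1 : algebraMap (A ⧸ p) K' a = algebraMap (A ⧸ p) K' b := congrArg Subtype.val hab
        have h2 : Function.Injective (algebraMap (A ⧸ p) K') := by
          rw [IsScalarTower.algebraMap_eq (A ⧸ p) (FractionRing (A ⧸ p)) K']
          exact (algebraMap (FractionRing (A ⧸ p)) K').injective.comp
            (IsFractionRing.injective (A ⧸ p) (FractionRing (A ⧸ p)))
        exact h2 h1
      have hB' : CAlg.IsN2 B' := Groth.Agent.H11.N2QF.isN2_of_quasiFinite hinj hD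
      have hN1 : CAlg.IsN1 B' := hB' (FractionRing B') inferInstance
      haveI : IsNoetherianRing B' := IsNoetherianRing.of_finite (A ⧸ p) B'
      exact ((Groth.Agent.S0571.result B').mp hN1).1
  · rintro ⟨h1, h2⟩
    refine ⟨inferInstance, fun p _ => ?_⟩
    refine Groth.Agent.H11.LocalGlobalN2.isN2_of_local_of_generic (A ⧸ p) ?_ (h2 p)
    intro mb _
    refine Groth.Agent.H11.LocalGlobalN2.isN2_localization_quotient p mb fun P _ => ?_
    haveI : (mb.comap (Ideal.Quotient.mk p)).IsMaximal :=
      Ideal.comap_isMaximal_of_surjective (Ideal.Quotient.mk p) Ideal.Quotient.mk_surjective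
    exact h1 _ P

end Groth.Agent.S12125
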