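import Groth.Statements.S12126
import Groth.Agent.H71.DimFormula

set_option autoImplicit false
universe u
open CAlg

namespace Groth.Agent.S12126

open Groth.Agent.H71.DimFormula Polynomial

theorem localCat_of_hcat (R : Type u) [CommRing R] [IsLocalRing R] (S : Type u) [CommRing S]
    [Algebra R S] (R' : Type u) [CommRing R'] [Algebra R R'] [Algebra R' S]
    [IsScalarTower R R' S] [FaithfulSMul R' S] [Algebra.FiniteType R R']
    (hcat : ∀ A' : Subalgebra R (Polynomial S), A'.FG →
      ∀ (m' : Ideal A') [m'.IsMaximal], m'.LiesOver (IsLocalRing.maximalIdeal R) →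
        CAlg.IsCatenary (Localization.AtPrime m'))
    (Q : Ideal (Polynomial R')) [hQ : Q.IsPrime]
    (hQm : Q.under R = IsLocalRing.maximalIdeal R) : LocalCat (Polynomial R') ⟨Q, hQ⟩ := by
  classical
  let ι : Polynomial R' →ₐ[R] Polynomial S := Polynomial.mapAlgHom (IsScalarTower.toAlgHom R R' S)
  have hι : Function.Injective ι := by
    have h : (ι : Polynomial R' → Polynomial S) = Polynomial.map (algebraMap R' S) := by
      funext f
      simp [ι]
    rw [h]
    exact Polynomial.map_injective _ (FaithfulSMul.algebraMap_injective R' S)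
  let A' : Subalgebra R (Polynomial S) := ι.range
  have hFG : A'.FG := by
    have h1 : (⊤ : Subalgebra R (Polynomial R')).FG :=
      (Algebra.FiniteType.trans (inferInstance : Algebra.FiniteType R R')
        (inferInstance : Algebra.FiniteType R' (Polynomial R'))).out
    have := h1.map ι
    rwa [Algebra.map_top] at this
  let e : Polynomial R' ≃ₐ[R] A' := AlgEquiv.ofInjective ι hι
  let er : Polynomial R' →+* A' := ((e : Polynomial R' ≃+* A') : Polynomial R' →+* A')
  let ers : A' →+* Polynomial R' := ((e.symm : A' ≃+* Polynomial R') : A' →+* Polynomial R')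
  have h1 : ∀ y, ers (er y) = y := fun y => e.symm_apply_apply y
  have h2 : ∀ y, er (ers y) = y := fun y => e.apply_symm_apply y
  have her : Function.Surjective er := e.surjective
  let Q' : Ideal A' := Q.comap ers
  haveI hQ' : Q'.IsPrime := Ideal.comap_isPrime ers Q
  obtain ⟨m', hm', hQm'⟩ := Ideal.exists_le_maximal Q' hQ'.ne_top
  haveI := hm'
  have hlies : m'.LiesOver (IsLocalRing.maximalIdeal R) := ⟨by
    apply le_antisymm
    · intro r hr
      apply hQm'
      show ers (algebraMap R A' r) ∈ Q
      have h3 : ers (algebraMap R A' r) = algebraMap R (Polynomial R') r := e.symm.commutes r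
      rw [h3]
      have h4 : r ∈ Q.under R := by rw [hQm]; exact hr
      exact h4
    · apply IsLocalRing.le_maximalIdeal
      exact Ideal.comap_ne_top _ hm'.ne_top⟩
  have hC := hcat A' hFG m' hlies
  let g : PrimeSpectrum (Localization.AtPrime m') → PrimeSpectrum (Polynomial R') := fun x =>
    ⟨(x.asIdeal.comap (algebraMap A' (Localization.AtPrime m'))).comap er, inferInstance⟩
  have hle : ∀ x y, g x ≤ g y ↔ x ≤ y := by
    intro x y
    constructor
    · intro hxy
      have h5 : (x.asIdeal.comap (algebraMap A' (Localization.AtPrime m'))).comap er ≤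
          (y.asIdeal.comap (algebraMap A' (Localization.AtPrime m'))).comap er := hxy
      rw [Ideal.comap_le_comap_iff_of_surjective er her] at h5
      have h6 := Ideal.map_mono (f := algebraMap A' (Localization.AtPrime m')) h5
      rw [IsLocalization.map_under m'.primeCompl (Localization.AtPrime m'),
        IsLocalization.map_under m'.primeCompl (Localization.AtPrime m')] at h6
      exact h6
    · intro hxy
      exact Ideal.comap_mono (Ideal.comap_mono hxy)
  have hrange : ∀ r' : PrimeSpectrum A', r'.asIdeal ≤ m' →
      ∃ z : PrimeSpectrum (Localization.AtPrime m'),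
        z.asIdeal.comap (algebraMap A' (Localization.AtPrime m')) = r'.asIdeal := by
    intro r' hr'
    have hdisj : Disjoint (m'.primeCompl : Set A') (r'.asIdeal : Set A') := by
      rw [Set.disjoint_left]
      intro x hx hx'
      exact hx (hr' hx')
    refine ⟨⟨r'.asIdeal.map (algebraMap A' (Localization.AtPrime m')),
      IsLocalization.isPrime_of_isPrime_disjoint m'.primeCompl (Localization.AtPrime m') _
        r'.isPrime hdisj⟩, ?_⟩
    exact IsLocalization.under_map_of_isPrime_disjoint m'.primeCompl (Localization.AtPrime m')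
      r'.isPrime hdisj
  have hlower : ∀ x r, r ≤ g x → ∃ z, g z = r := by
    intro x r hr
    have hr' : r.asIdeal.comap ers ≤ m' := by
      intro y hy
      have h7 : ers y ∈ (g x).asIdeal := hr hy
      have h8 : er (ers y) ∈ x.asIdeal.comap (algebraMap A' (Localization.AtPrime m')) := h7
      rw [h2] at h8
      by_contra hym
      have hu : IsUnit (algebraMap A' (Localization.AtPrime m') y) :=
        IsLocalization.map_units (Localization.AtPrime m') (⟨y, hym⟩ : m'.primeCompl)
      exact x.isPrime.ne_top (Ideal.eq_top_of_isUnit_mem _ h8 hu)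
    obtain ⟨z, hz⟩ := hrange ⟨r.asIdeal.comap ers, Ideal.comap_isPrime ers r.asIdeal⟩ hr'
    refine ⟨z, PrimeSpectrum.ext ?_⟩
    show (z.asIdeal.comap (algebraMap A' (Localization.AtPrime m'))).comap er = r.asIdeal
    rw [hz]
    ext y
    show ers (er y) ∈ r.asIdeal ↔ y ∈ r.asIdeal
    rw [h1]
  obtain ⟨Q₀, hQ₀⟩ := hrange ⟨Q', hQ'⟩ hQm'
  have hgQ : g Q₀ = ⟨Q, hQ⟩ := by
    apply PrimeSpectrum.ext
    show (Q₀.asIdeal.comap (algebraMap A' (Localization.AtPrime m'))).comap er = Q
    rw [hQ₀]
    ext y
    show ers (er y) ∈ Q ↔ y ∈ Q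
    rw [h1]
  rw [← hgQ]
  exact localCat_of_embedding g hle hlower hC Q₀

end Groth.Agent.S12126

namespace Groth.Agent.S12126

/-- Let A be a Noetherian local domain with maximal ideal m and residue field k, B a domain containing A
which is an A-algebra of finite type, q a prime ideal of B over m and k' the residue field of B_q.
If for every sub-A-algebra A' of finite type of the polynomial ring B[T] and every maximal ideal m'
of A' lying over m the local ring A'_{m'} is catenary, then ht(q) + trdeg_k k' = dim(A) + trdeg_A B,
stated with heights and transcendence degrees as cardinals (the transcendence degree of B over A is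
that of the fraction fields, and that of k' over k is that of B/q over A/m). -/
theorem result (R : Type u) [CommRing R] [IsDomain R]
    [IsNoetherianRing R] [IsLocalRing R] (S : Type u) [CommRing S] [IsDomain S] [Algebra R S]
    [FaithfulSMul R S] [Algebra.FiniteType R S] (q : Ideal S) [q.IsPrime]
    [q.LiesOver (IsLocalRing.maximalIdeal R)]
    (hcat : ∀ A' : Subalgebra R (Polynomial S), A'.FG →
      ∀ (m' : Ideal A') [m'.IsMaximal], m'.LiesOver (IsLocalRing.maximalIdeal R) →
        CAlg.IsCatenary (Localization.AtPrime m')) :
    (q.height : Cardinal.{u}) + Algebra.trdeg (R ⧸ IsLocalRing.maximalIdeal R) (S ⧸ q) =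
      ((IsLocalRing.maximalIdeal R).height : Cardinal.{u}) + Algebra.trdeg R S := by
  classical
  obtain ⟨s, hs⟩ := (‹Algebra.FiniteType R S›).out
  refine (Groth.Agent.H71.DimFormula.main' s R hs (IsLocalRing.maximalIdeal R) q).2 ?_
  intro R' _ _ _ _ _ _ _ a
  refine localCat_of_hcat R S R' hcat _ ?_
  have hover : IsLocalRing.maximalIdeal R = q.under R :=
    (‹q.LiesOver (IsLocalRing.maximalIdeal R)›).over
  rw [hover]
  ext r
  show Polynomial.aeval a (algebraMap R (Polynomial R') r) ∈ q ↔ algebraMap R S r ∈ q
  rw [IsScalarTower.algebraMap_apply R R' (Polynomial R'), ← Polynomial.C_eq_algebraMap,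
    Polynomial.aeval_C, ← IsScalarTower.algebraMap_apply]

end Groth.Agent.S12126
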