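import Groth.Statements.S12127
import Groth.Agent.H25.QuasiHomeo4

set_option autoImplicit false
universe u
open EGA43

namespace Groth.Agent.S12127

/-- Let f : X → Y be a quasi-homeomorphism, i.e. a continuous map such that U ↦ f⁻¹(U) is a bijection
from the open subsets of Y onto the open subsets of X. Call a subset quasi-constructible when it is
a finite union of locally closed subsets, and locally quasi-constructible when every point of the
space has an open neighbourhood V whose intersection with it is quasi-constructible in V. Then Z ↦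
f⁻¹(Z) induces a bijection from the quasi-constructible subsets of Y onto those of X, and from the
locally quasi-constructible subsets of Y onto those of X. -/
theorem result {X Y : Type u}
    [TopologicalSpace X] [TopologicalSpace Y] (f : X → Y) (hf : Continuous f)
    (hq : Function.Bijective (fun U : TopologicalSpace.Opens Y =>
      (⟨f ⁻¹' (U : Set Y), U.isOpen.preimage hf⟩ : TopologicalSpace.Opens X))) :
    Set.BijOn (fun Z : Set Y => f ⁻¹' Z)
        {Z : Set Y | ∃ T : Set (Set Y), T.Finite ∧ (∀ t ∈ T, IsLocallyClosed t) ∧ Z = ⋃₀ T}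
        {Z : Set X | ∃ T : Set (Set X), T.Finite ∧ (∀ t ∈ T, IsLocallyClosed t) ∧ Z = ⋃₀ T} ∧
      Set.BijOn (fun Z : Set Y => f ⁻¹' Z)
        {Z : Set Y | ∀ y : Y, ∃ V : Set Y, IsOpen V ∧ y ∈ V ∧
          ∃ T : Set (Set V), T.Finite ∧ (∀ t ∈ T, IsLocallyClosed t) ∧ (Subtype.val ⁻¹' Z : Set V) = ⋃₀ T}
        {Z : Set X | ∀ x : X, ∃ V : Set X, IsOpen V ∧ x ∈ V ∧
          ∃ T : Set (Set V), T.Finite ∧ (∀ t ∈ T, IsLocallyClosed t) ∧ (Subtype.val ⁻¹' Z : Set V) = ⋃₀ T} := by
  have h : Groth.Agent.H25.QH f := (Groth.Agent.H25.qh_iff_bijective f hf).mpr hq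
  refine ⟨⟨?_, ?_, ?_⟩, ⟨?_, ?_, ?_⟩⟩
  · intro Z hZ
    have hZ' : Groth.Agent.H25.QC Z := hZ
    exact hZ'.preimage hf
  · intro Z hZ Z' hZ' he
    have h1 : Groth.Agent.H25.QC Z := hZ
    have h2 : Groth.Agent.H25.QC Z' := hZ'
    exact h.lqc_ext h1.lqc h2.lqc he
  · intro W hW
    have hW' : Groth.Agent.H25.QC W := hW
    obtain ⟨Z, hZ, hZW⟩ := h.exists_qc_preimage_eq hW'
    exact ⟨Z, hZ, hZW⟩
  · intro Z hZ
    have hZ' : Groth.Agent.H25.LQC' Z := hZ
    exact (Groth.Agent.H25.lqc_iff_lqc' _).mp (((Groth.Agent.H25.lqc_iff_lqc' _).mpr hZ').preimage hf)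
  · intro Z hZ Z' hZ' he
    have h1 : Groth.Agent.H25.LQC' Z := hZ
    have h2 : Groth.Agent.H25.LQC' Z' := hZ'
    exact h.lqc_ext ((Groth.Agent.H25.lqc_iff_lqc' _).mpr h1) ((Groth.Agent.H25.lqc_iff_lqc' _).mpr h2) he
  · intro W hW
    have hW' : Groth.Agent.H25.LQC' W := hW
    obtain ⟨Z, hZ, hZW⟩ := h.exists_lqc_preimage_eq ((Groth.Agent.H25.lqc_iff_lqc' _).mpr hW')
    exact ⟨Z, (Groth.Agent.H25.lqc_iff_lqc' _).mp hZ, hZW⟩

end Groth.Agent.S12127
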