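import Groth.Statements.S12129
import Groth.Agent.H38.CurveTop

set_option autoImplicit false
universe u
open EGA2

namespace Groth.Agent.S12129

open AlgebraicGeometry CategoryTheory in
open Groth.Agent.H38 TopologicalSpace in
/-- Let X be a scheme of finite type over a field k. Then the local ring of X at every closed point has
dimension one if and only if the irreducible closed subsets of X other than its irreducible
components are exactly the (singletons of) closed points of X — that is, every irreducible closed
subset which is not an irreducible component is a closed point, and no closed point is by itself an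
irreducible component. -/
theorem result (k : Type u) [Field k] (X : Scheme.{u})
    [X.Over (Spec (CommRingCat.of k))] [LocallyOfFiniteType (X ↘ (Spec (CommRingCat.of k)))]
    [QuasiCompact (X ↘ (Spec (CommRingCat.of k)))] :
    (∀ x : X, IsClosed ({x} : Set X) → ringKrullDim (X.presheaf.stalk x) = 1) ↔
      ((∀ F : Set X, IsClosed F → IsIrreducible F → F ∉ irreducibleComponents (X : Type u) →
          ∃ x : X, IsClosed ({x} : Set X) ∧ F = {x}) ∧
        ∀ x : X, IsClosed ({x} : Set X) → ({x} : Set X) ∉ irreducibleComponents (X : Type u)) := by
  obtain ⟨hN, hC⟩ := noetherian_of_finiteType_field k X (X ↘ Spec (CommRingCat.of k))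
  constructor
  · intro hdim
    have hco : ∀ x : X, IsClosed ({x} : Set X) → Order.coheight x = 1 := fun x hx =>
      coheight_eq_one_of_dim x (hdim x hx)
    constructor
    · intro F hF hFirr hFnc
      obtain ⟨ξ, hξ⟩ := QuasiSober.sober hFirr hF
      -- ξ is not maximal
      have hnmax : ∃ ζ : X, ζ ⤳ ξ ∧ ζ ≠ ξ := by
        by_contra hcon
        push Not at hcon
        apply hFnc
        rw [← hξ.def]
        exact closure_mem_irreducibleComponents_of_maximal ξ hcon
      obtain ⟨ζ, hζξ, hζne⟩ := hnmax
      have hξc : IsClosed ({ξ} : Set X) := by
        by_contra hnc
        obtain ⟨y, hyc, hyξ⟩ := exists_closed_lt hnc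
        have h2 : ξ < ζ := lt_of_specializes_of_ne hζξ hζne
        have h3 := two_le_coheight hyξ h2
        rw [hco y hyc] at h3
        have h' : (2 : ℕ) ≤ 1 := by exact_mod_cast h3
        omega
      exact ⟨ξ, hξc, by rw [← hξ.def, hξc.closure_eq]⟩
    · intro x hx hcomp
      have h1 := hco x hx
      have hnmax : ¬ IsMax x := by
        intro hmax
        rw [Order.coheight_eq_zero.mpr hmax] at h1
        exact zero_ne_one h1
      rw [not_isMax_iff] at hnmax
      obtain ⟨b, hb⟩ := hnmax
      -- closure {b} is irreducible and contains {x}
      have hsub : ({x} : Set X) ⊆ closure {b} := by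
        rintro _ rfl
        exact specializes_iff_mem_closure.mp hb.1
      have hle := hcomp.2 ((isIrreducible_singleton (x := b)).closure) hsub
      have hbx : b ∈ ({x} : Set X) := hle (subset_closure rfl)
      rw [Set.mem_singleton_iff] at hbx
      exact lt_irrefl x (hbx ▸ hb)
  · rintro ⟨ha, hb⟩ x hx
    apply dim_eq_one_of_coheight
    apply le_antisymm
    · -- every strict generization of `x` is maximal
      have hmax : ∀ a : X, x < a → IsMax a := by
        intro a hxa
        by_contra hnmax
        rw [not_isMax_iff] at hnmax
        obtain ⟨b, hab⟩ := hnmax
        have hnc : closure ({a} : Set X) ∉ irreducibleComponents (X : Type u) := by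
          intro hcomp
          have hsub : closure ({a} : Set X) ⊆ closure {b} :=
            specializes_iff_closure_subset.mp hab.1
          have hle := hcomp.2 ((isIrreducible_singleton (x := b)).closure) hsub
          have hba : b ∈ closure ({a} : Set X) := hle (subset_closure rfl)
          exact hab.2 (specializes_iff_mem_closure.mpr hba)
        obtain ⟨x', hx'c, hx'⟩ := ha (closure {a}) isClosed_closure
          isIrreducible_singleton.closure hnc
        have hax' : a = x' := by
          have : a ∈ closure ({a} : Set X) := subset_closure rfl
          rw [hx'] at this
          exact this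
        have hxa' : x ∈ closure ({a} : Set X) := specializes_iff_mem_closure.mp hxa.1
        rw [hx'] at hxa'
        have hxx' : x = x' := hxa'
        exact lt_irrefl x (by rw [hxx', ← hax'] at hxa; exact absurd hxa (lt_irrefl a) )
      rw [Order.coheight_eq_iSup_gt_coheight]
      refine iSup₂_le fun a ha' => ?_
      rw [Order.coheight_eq_zero.mpr (hmax a ha')]
      simp
    · have hnmax : ¬ IsMax x := by
        intro hmax
        apply hb x hx
        have := closure_mem_irreducibleComponents_of_maximal x (fun η hη => by
          have h1 : x ≤ η := hη
          have h2 : η ≤ x := hmax h1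
          exact (hη.antisymm h2).eq)
        rwa [hx.closure_eq] at this
      have hpos : 0 < Order.coheight x := Order.coheight_pos.mpr hnmax
      exact Order.one_le_iff_pos.mpr hpos

end Groth.Agent.S12129
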