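import Groth.Statements.S1213
import Mathlib.RingTheory.Nakayama
import Mathlib.RingTheory.FiniteType
import Mathlib.LinearAlgebra.Projection
import Mathlib.Order.CompactlyGenerated.Basic
import Mathlib.LinearAlgebra.Finsupp.Span

set_option autoImplicit false
universe u
open scoped Classical
open FlatMor

namespace Groth.Agent.S1213

section Helpers

open TensorProduct

variable {R : Type u} [CommRing R] {N : Type u} [AddCommGroup N] [Module R N]
  {M : Type u} [AddCommGroup M] [Module R M]

lemma range_rTensor_mono {P P' : Submodule R N} (h : P ≤ P') :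
    LinearMap.range (LinearMap.rTensor M P.subtype) ≤
      LinearMap.range (LinearMap.rTensor M P'.subtype) := by
  have e : P.subtype = P'.subtype ∘ₗ Submodule.inclusion h := by
    ext x
    rfl
  rw [e, LinearMap.rTensor_comp]
  exact LinearMap.range_comp_le_range _ _

lemma exists_finset_mem_range {ι : Type u} (F : ι → Submodule R N) (hsup : iSup F = ⊤)
    (z : N ⊗[R] M) :
    ∃ J : Finset ι, z ∈ LinearMap.range (LinearMap.rTensor M (⨆ i ∈ J, F i).subtype) := by
  classical
  induction z using TensorProduct.induction_on with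
  | zero => exact ⟨∅, zero_mem _⟩
  | tmul n m =>
    have hn : n ∈ ⨆ i, F i := by rw [hsup]; trivial
    obtain ⟨J, hJ⟩ := Submodule.mem_iSup_iff_exists_finset.1 hn
    exact ⟨J, ⟨(⟨n, hJ⟩ : ↥(⨆ i ∈ J, F i)) ⊗ₜ m, by simp⟩⟩
  | add x y hx hy =>
    obtain ⟨J₁, h₁⟩ := hx
    obtain ⟨J₂, h₂⟩ := hy
    refine ⟨J₁ ∪ J₂, add_mem (range_rTensor_mono ?_ h₁) (range_rTensor_mono ?_ h₂)⟩
    · exact biSup_mono (fun i hi => Finset.mem_union_left _ hi)
    · exact biSup_mono (fun i hi => Finset.mem_union_right _ hi)

end Helpers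

open TensorProduct IsLocalRing in
/-- Let R be a local ring, S an R-algebra and N an S-module which, as an R-module, is an internal direct
sum of finite R-submodules. Then for every R-module M and every prime q of S which is the
annihilator of an element of the S-module N ⊗_R M we have q + 𝔪_R S ≠ S. -/
theorem result {R S : Type u} [CommRing R] [IsLocalRing R] [CommRing S] [Algebra R S]
    (N : Type u) [AddCommGroup N] [Module S N] [Module R N] [IsScalarTower R S N]
    (ι : Type u) (F : ι → Submodule R N) (hF : DirectSum.IsInternal F) (hfin : ∀ i, Module.Finite R (F i))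
    (M : Type u) [AddCommGroup M] [Module R M]
    (q : Ideal S) [q.IsPrime] (hq : q ∈ FlatCA.ass S (N ⊗[R] M)) :
    q ⊔ (maximalIdeal R).map (algebraMap R S) ≠ ⊤ := by
  classical
  intro htop
  obtain ⟨hqp, z, hz⟩ := hq
  have h1 : (1 : S) ∈ q ⊔ (IsLocalRing.maximalIdeal R).map (algebraMap R S) := by
    rw [htop]; trivial
  obtain ⟨a, ha, b, hb, hab⟩ := Submodule.mem_sup.1 h1
  have haz : a • z = 0 := by
    have h2 : a ∈ (Submodule.span S {z}).annihilator := hz ▸ ha
    rw [Submodule.mem_annihilator_span_singleton] at h2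
    exact h2
  have hsup : iSup F = ⊤ := hF.submodule_iSup_eq_top
  have hind : iSupIndep F := hF.submodule_iSupIndep
  obtain ⟨J, z', hz'⟩ := exists_finset_mem_range F hsup z
  have hcompl : IsCompl (⨆ i ∈ J, F i) (⨆ i ∈ ((J : Set ι)ᶜ), F i) := by
    constructor
    · exact hind.disjoint_biSup_biSup' (s := (J : Set ι)) disjoint_compl_right J.finite_toSet
    · rw [codisjoint_iff, eq_top_iff, ← hsup]
      refine iSup_le (fun i => ?_)
      by_cases hi : i ∈ J
      · exact le_sup_of_le_left (le_biSup F (show i ∈ (J : Set ι) from hi))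
      · exact le_sup_of_le_right (le_biSup F (show i ∈ ((J : Set ι)ᶜ) from hi))
  haveI hfinN' : Module.Finite R ↥(⨆ i ∈ J, F i) :=
    Module.Finite.iff_fg.2 (Submodule.fg_biSup J F (fun i _ => Module.Finite.iff_fg.1 (hfin i)))
  have hmulA : ∀ t : N ⊗[R] M,
      LinearMap.rTensor M (DistribSMul.toLinearMap R N a) t = a • t := by
    intro t
    induction t using TensorProduct.induction_on with
    | zero => simp
    | tmul n m =>
      rw [LinearMap.rTensor_tmul, TensorProduct.smul_tmul']
      rfl
    | add x y hx hy => rw [map_add, hx, hy, smul_add]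
  have hb' : ∀ b ∈ (IsLocalRing.maximalIdeal R).map (algebraMap R S), ∀ n : N,
      Submodule.projectionOnto _ _ hcompl (b • n) ∈
        (IsLocalRing.maximalIdeal R) • (⊤ : Submodule R ↥(⨆ i ∈ J, F i)) := by
    intro b hb
    refine Submodule.span_induction ?_ ?_ ?_ ?_ hb
    · rintro _ ⟨r, hr, rfl⟩ n
      rw [algebraMap_smul, map_smul]
      exact Submodule.smul_mem_smul hr trivial
    · intro n
      rw [zero_smul, map_zero]
      exact zero_mem _
    · intro x y _ _ hx hy n
      rw [add_smul, map_add]
      exact add_mem (hx n) (hy n)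
    · intro s x _ hx n
      have e : (s • x) • n = x • (s • n) := by
        rw [smul_eq_mul, mul_comm, mul_smul]
      rw [e]
      exact hx (s • n)
  have hsurj : Function.Surjective ((Submodule.projectionOnto _ _ hcompl) ∘ₗ
      (DistribSMul.toLinearMap R N a) ∘ₗ (⨆ i ∈ J, F i).subtype) := by
    rw [← LinearMap.range_eq_top, eq_top_iff]
    apply Submodule.le_of_le_smul_of_le_jacobson_bot Module.Finite.fg_top
      (IsLocalRing.maximalIdeal_le_jacobson _)
    intro n _
    have hn : n = ((Submodule.projectionOnto _ _ hcompl) ∘ₗ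
        (DistribSMul.toLinearMap R N a) ∘ₗ (⨆ i ∈ J, F i).subtype) n +
        Submodule.projectionOnto _ _ hcompl (b • (n : N)) := by
      have e1 : ((Submodule.projectionOnto _ _ hcompl) ∘ₗ
        (DistribSMul.toLinearMap R N a) ∘ₗ (⨆ i ∈ J, F i).subtype) n =
          Submodule.projectionOnto _ _ hcompl (a • (n : N)) := rfl
      rw [e1, ← map_add, ← add_smul, hab, one_smul, Submodule.projectionOnto_apply_left]
    rw [hn]
    exact Submodule.add_mem_sup (LinearMap.mem_range_self _ _) (hb' b hb _)
  have hinj := OrzechProperty.injective_of_surjective_endomorphism _ hsurj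
  have h0 : LinearMap.rTensor M ((Submodule.projectionOnto _ _ hcompl) ∘ₗ
      (DistribSMul.toLinearMap R N a) ∘ₗ (⨆ i ∈ J, F i).subtype) z' = 0 := by
    rw [LinearMap.rTensor_comp, LinearMap.rTensor_comp, LinearMap.comp_apply,
      LinearMap.comp_apply, hz', hmulA, haz, map_zero]
  have hz'0 : z' = 0 := by
    have hinj' : Function.Injective (LinearMap.rTensor M ((Submodule.projectionOnto _ _ hcompl) ∘ₗ
        (DistribSMul.toLinearMap R N a) ∘ₗ (⨆ i ∈ J, F i).subtype)) :=
      (LinearEquiv.rTensor M (LinearEquiv.ofBijective _ ⟨hinj, hsurj⟩)).injective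
    exact hinj' (by rw [h0, map_zero])
  have hz0 : z = 0 := by rw [← hz', hz'0, map_zero]
  have hqtop : q = ⊤ := by
    rw [hz, hz0, eq_top_iff]
    intro s _
    rw [Submodule.mem_annihilator_span_singleton, smul_zero]
  exact hqp.ne_top hqtop

end Groth.Agent.S1213
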