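import Groth.Statements.S12132
import Groth.Agent.H17.Chi

set_option autoImplicit false
universe u
open AssSch

namespace Groth.Agent.S12132

open Groth.Agent.H17.Chi Groth.Agent.H17.HS

/-- Let B be a Noetherian local ring (the local ring of X at the generic point z of an irreducible
component Z of the support of F/tF), t an element of its maximal ideal, and M a finite B-module (the
stalk F_z) such that the support of M has positive dimension (Z is not an irreducible component of
Supp F) and M/tM has finite length (z is a maximal point of Supp(F/tF)). Then the length of M/tM is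
at least the sum, over the primes p of B minimal over the annihilator of M (the generic points of
the irreducible components of Supp F through z), of the lengths of the B_p-modules M_p; and the two
are equal if and only if t is a non-zero-divisor on M and for every such p the image of t generates
the maximal ideal of B/p (so that B/p is a discrete valuation ring with uniformizer t). -/
theorem result {B : Type u} [CommRing B] [IsNoetherianRing B]
    [IsLocalRing B] (t : B) (ht : t ∈ IsLocalRing.maximalIdeal B)
    (M : Type u) [AddCommGroup M] [Module B M] [Module.Finite B M]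
    (hdim : 0 < Module.supportDim B M)
    (hfin : Module.length B (M ⧸ (Ideal.span {t} • (⊤ : Submodule B M))) ≠ ⊤) :
    (∑ᶠ p : (Module.annihilator B M).minimalPrimes,
        haveI : p.1.IsPrime := p.2.1.1
        Module.length (Localization.AtPrime p.1) (LocalizedModule p.1.primeCompl M)) ≤
      Module.length B (M ⧸ (Ideal.span {t} • (⊤ : Submodule B M))) ∧
    ((∑ᶠ p : (Module.annihilator B M).minimalPrimes,
        haveI : p.1.IsPrime := p.2.1.1
        Module.length (Localization.AtPrime p.1) (LocalizedModule p.1.primeCompl M)) =
      Module.length B (M ⧸ (Ideal.span {t} • (⊤ : Submodule B M))) ↔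
    IsSMulRegular M t ∧
      ∀ p : (Module.annihilator B M).minimalPrimes,
        Ideal.map (Ideal.Quotient.mk p.1) (IsLocalRing.maximalIdeal B) =
          Ideal.span {Ideal.Quotient.mk p.1 t}) := by
  have H : HypH t M := by
    intro p hp htp
    have hp' : p ∈ Module.support B (M ⧸ (Ideal.span {t} • (⊤ : Submodule B M))) := by
      rw [Module.support_quotient]
      refine ⟨hp, ?_⟩
      rw [PrimeSpectrum.zeroLocus_span]
      intro y hy
      rw [Set.mem_singleton_iff.mp hy]
      exact htp
    refine eq_maximalIdeal_of_supportDim_le_zero ?_ hp'
    rw [← Groth.Agent.S3406.isFiniteLength_iff_supportDim_le_zero, ← Module.length_ne_top_iff]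
    exact hfin
  have h1 : ∀ p ∈ (Module.annihilator B M).minimalPrimes, p ≠ IsLocalRing.maximalIdeal B := by
    intro p hp hpm
    subst hpm
    have h0 : Module.supportDim B M ≤ 0 := by
      refine Groth.Agent.S3406.krullDim_le_zero_of_forall_isMaximal
        (T := Module.support B M) (fun P hP => ?_)
      have hle : IsLocalRing.maximalIdeal B ≤ P.asIdeal :=
        hp.2 ⟨P.2, Module.mem_support_iff_of_finite.mp hP⟩
          (IsLocalRing.le_maximalIdeal P.2.ne_top)
      have : P.asIdeal = IsLocalRing.maximalIdeal B :=
        le_antisymm (IsLocalRing.le_maximalIdeal P.2.ne_top) hle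
      rw [this]
      infer_instance
    exact (not_lt.mpr h0) hdim
  have h2 : ∀ p ∈ Module.support B M, p.asIdeal ≠ IsLocalRing.maximalIdeal B →
      p.asIdeal ∈ (Module.annihilator B M).minimalPrimes :=
    fun p hp hpm => mem_minimalPrimes_of_HypH ht H hp hpm
  have hconv := finsum_minimalPrimes_eq (I := Module.annihilator B M) M h1 h2
  rw [Submodule.ideal_span_singleton_smul]
  refine ⟨hconv.trans_le (sum_le_and_eq_iff ht M H).1, ?_⟩
  refine ((Eq.congr_left hconv).trans (sum_le_and_eq_iff ht M H).2).trans ?_
  refine and_congr_right (fun _ => ⟨fun h p => ?_, fun h p hp hpm => ?_⟩)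
  · exact h ⟨p.1, p.2.1.1⟩ (Module.mem_support_iff_of_finite.mpr p.2.1.2) (h1 p.1 p.2)
  · exact h ⟨p.asIdeal, h2 p hp hpm⟩


end Groth.Agent.S12132
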