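import Groth.Statements.S1214
import Groth.Agent.H6.AdicUnit

set_option autoImplicit false
universe u
open FlatMor

namespace Groth.Agent.S1214

open TensorProduct in
/-- Let R → S be a ring map, I an ideal of R and N an S-module which is I-adically complete. Then for
every R-module M and every prime q of S which is the annihilator of an element of the S-module N ⊗_R
M we have q + IS ≠ S. -/
theorem result {R S : Type u} [CommRing R] [CommRing S] [Algebra R S] (I : Ideal R)
    (N : Type u) [AddCommGroup N] [Module S N] [Module R N] [IsScalarTower R S N] [IsAdicComplete I N]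
    (M : Type u) [AddCommGroup M] [Module R M]
    (q : Ideal S) [q.IsPrime] (hq : q ∈ FlatCA.ass S (N ⊗[R] M)) :
    q ⊔ I.map (algebraMap R S) ≠ ⊤ := by
  intro htop
  obtain ⟨hqp, z, hz⟩ := hq
  have h1 : (1 : S) ∈ q ⊔ I.map (algebraMap R S) := by rw [htop]; trivial
  obtain ⟨a, ha, b, hb, hab⟩ := Submodule.mem_sup.1 h1
  have hcomplete : IsAdicComplete (I.map (algebraMap R S)) N :=
    (IsAdicComplete.map_algebraMap_iff I N).2 inferInstance
  have hbij := Groth.Agent.H6.one_sub_smul_bijective_of_isAdicComplete (N := N)
    (I.map (algebraMap R S)) b hb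
  have ha' : 1 - b = a := by rw [← hab]; ring
  rw [ha'] at hbij
  have haz : a • z = 0 := by
    have h2 : a ∈ (Submodule.span S {z}).annihilator := hz ▸ ha
    rw [Submodule.mem_annihilator_span_singleton] at h2
    exact h2
  let eN : N ≃ₗ[R] N := LinearEquiv.ofBijective (DistribSMul.toLinearMap R N a) hbij
  have hcongr : ∀ t : N ⊗[R] M, TensorProduct.congr eN (LinearEquiv.refl R M) t = a • t := by
    intro t
    induction t using TensorProduct.induction_on with
    | zero => simp
    | tmul n m =>
      simp only [TensorProduct.congr_tmul, LinearEquiv.refl_apply]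
      rw [TensorProduct.smul_tmul']
      rfl
    | add x y hx hy => rw [map_add, hx, hy, smul_add]
  have hz0 : z = 0 := by
    apply (TensorProduct.congr eN (LinearEquiv.refl R M)).injective
    rw [hcongr, haz, map_zero]
  have hqtop : q = ⊤ := by
    rw [hz, hz0, eq_top_iff]
    intro s _
    rw [Submodule.mem_annihilator_span_singleton, smul_zero]
  exact hqp.ne_top hqtop

end Groth.Agent.S1214
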