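import Mathlib
import Groth.Statements.S12142
import Groth.Agent.H22.PullbackLocal

set_option autoImplicit false
universe u
open CategoryTheory CategoryTheory.Limits AlgebraicGeometry TopologicalSpace Opposite
open scoped HomogeneousIdeal
noncomputable section
open EGA2

namespace Groth.Agent.S12142

open Groth.Agent.H22.PullbackLocal

/-- Pairs of affine opens `U ⊆ S`, `U' ⊆ g⁻¹(U)`. -/
structure AffPair {S S' : Scheme.{u}} (g : S' ⟶ S) where
  U : S.Opens
  hU : IsAffineOpen U
  U' : S'.Opens
  hU' : IsAffineOpen U'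
  hle : U' ≤ g ⁻¹ᵁ U

/-- The cover of `S'` by the affine opens contained in the preimage of an affine open of `S`. -/
noncomputable def pairCover {S S' : Scheme.{u}} (g : S' ⟶ S) : S'.OpenCover :=
  Scheme.Cover.mkOfCovers (AffPair g) (fun k => Spec Γ(S', k.U')) (fun k => k.hU'.fromSpec)
    (fun y => by
      obtain ⟨_, ⟨U, hU, rfl⟩, hyU, -⟩ := S.isBasis_affineOpens.exists_subset_of_mem_open
        (Set.mem_univ (g.base y)) isOpen_univ
      obtain ⟨_, ⟨U', hU', rfl⟩, hyU', hle⟩ := S'.isBasis_affineOpens.exists_subset_of_mem_open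
        (show y ∈ ((g ⁻¹ᵁ U : S'.Opens) : Set S') from hyU) (g ⁻¹ᵁ U).isOpen
      have hy : y ∈ Set.range (IsAffineOpen.fromSpec hU').base := by
        rw [IsAffineOpen.range_fromSpec]; exact hyU'
      obtain ⟨y', hy'⟩ := hy
      exact ⟨⟨U, hU, U', hU', hle⟩, y', hy'⟩)
    (fun k => inferInstance)

/-- Let g : S' → S be a morphism of schemes, A a quasi-coherent O_S-algebra and B = g^*A, presented as a
quasi-coherent O_{S'}-algebra with a g-morphism u : A → g_*B whose squares of rings over affine
opens U' ⊆ g⁻¹(U) are pushouts; let h = Spec(u) : Spec(B) → Spec(A) be the induced morphism of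
relative spectra (chartwise Spec of A(U) → B(U')). Then h and the structure morphisms form a
cartesian square: Spec(g^*A) is the fibre product Spec(A) ×_S S'. -/
theorem result {S S' : Scheme.{u}} (g : S' ⟶ S)
    (A : RelSpec.QCAlg S) (B : RelSpec.QCAlg S') (u : RelSpec.QHom g A B) (hu : RelSpec.IsQBaseChange u)
    (h : B.spec ⟶ A.spec) (hh : RelSpec.IsSpecQMap u h) :
    IsPullback h B.π A.π g := by
  refine isPullback_of_local h B.π A.π g (pairCover g)
    (fun k => Spec (B.presheaf.obj (op k.U'))) (fun k => Spec (A.presheaf.obj (op k.U)))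
    (fun k => Spec Γ(S, k.U))
    (fun k => B.ι k.U' k.hU') (fun k => A.ι k.U k.hU) (fun k => k.hU.fromSpec)
    (fun k => Spec.map (u.appLE k.U k.U' k.hle)) (fun k => Spec.map (B.str.app (op k.U')))
    (fun k => Spec.map (A.str.app (op k.U))) (fun k => Spec.map (g.appLE k.U k.U' k.hle))
    (fun k => ?_) (fun k => ?_) (fun k => ?_) (fun k => ?_) (fun k => ?_)
  · exact (IsOpenImmersion.isPullback (Spec.map (B.str.app (op k.U'))) (B.ι k.U' k.hU')
      k.hU'.fromSpec B.π (B.ι_π k.U' k.hU')
      (by rw [k.hU'.opensRange_fromSpec, B.π_preimage k.U' k.hU'])).flip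
  · exact (IsOpenImmersion.isPullback (Spec.map (A.str.app (op k.U))) (A.ι k.U k.hU)
      k.hU.fromSpec A.π (A.ι_π k.U k.hU)
      (by rw [k.hU.opensRange_fromSpec, A.π_preimage k.U k.hU])).flip
  · exact IsAffineOpen.SpecMap_appLE_fromSpec g k.hU k.hU' k.hle
  · exact (hh k.U k.hU k.U' k.hU' k.hle).symm
  · exact (isPullback_SpecMap_of_isPushout _ _ _ _ (hu k.U k.hU k.U' k.hU' k.hle)).flip

end Groth.Agent.S12142
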