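import Groth.Statements.S12146
import Groth.Agent.H41.ProjQ8

set_option autoImplicit false
universe u
open CategoryTheory CategoryTheory.Limits AlgebraicGeometry TopologicalSpace Opposite
open scoped HomogeneousIdeal
noncomputable section
open EGA2

namespace Groth.Agent.S12146

/-- Let q : X → Y be a morphism with Y affine, L an invertible O_X-module, 𝒮L = ⊕_{n≥0} L^{⊗n} its
graded symmetric algebra (whose Proj, presented with its charts, is identified with X by its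
structure morphism pL), 𝒮 a quasi-coherent positively graded O_Y-algebra with S = Γ(Y, 𝒮), ψ : q^*𝒮
→ 𝒮L a graded homomorphism given as a graded q-morphism u = ψ♭ : 𝒮 → q_*𝒮L, P = Proj(𝒮), and r =
r_{L,ψ} : G(ψ) → P the associated morphism on its open of definition G(ψ) ⊆ Proj(𝒮L). Then r is
dominant if and only if for every n > 0, every s ∈ S_n such that ψ♭(s) ∈ Γ(X, L^{⊗n}) is locally
nilpotent (as a section of the algebra 𝒮L: each point of X has an affine neighbourhood V with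
ψ♭(s)|V nilpotent in 𝒮L(V)) is nilpotent. -/
theorem result {Y X P PL : Scheme.{u}} (q : X ⟶ Y)
    (L : X.Modules) (hL : PicF.IsInvertible L) (hLq : Coh.IsQCoh L)
    (𝒮 : RelProj.QCGrAlg Y) (𝒮L : RelProj.QCGrAlg X) (j : L ⟶ 𝒮L.toModule) (hj : RelProj.IsGrSymAlg L 𝒮L j)
    (u : RelProj.QGrHom q 𝒮 𝒮L)
    (p : P ⟶ Y) (chart : ∀ (U : Y.Opens) (hU : IsAffineOpen U), (((p ⁻¹ᵁ U : P.Opens) : Scheme.{u}) ≅ Proj (𝒮.deg U hU)))
    (hP : RelProj.IsRelProj 𝒮 p chart)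
    (pL : PL ⟶ X) (chartL : ∀ (U : X.Opens) (hU : IsAffineOpen U), (((pL ⁻¹ᵁ U : PL.Opens) : Scheme.{u}) ≅ Proj (𝒮L.deg U hU)))
    (hPL : RelProj.IsRelProj 𝒮L pL chartL)
    (r : ((RelProj.domQ u pL chartL : PL.Opens) : Scheme.{u}) ⟶ P)
    (hr : RelProj.IsProjQMapOn u p chart pL chartL (RelProj.domQ u pL chartL) r)
    (hY : IsAffineOpen (⊤ : Y.Opens)) :
    IsDominant r ↔
      ∀ (n : ℕ), 0 < n → ∀ s ∈ 𝒮.deg ⊤ hY n,
        (∀ x : X, ∃ (V : X.Opens) (_ : IsAffineOpen V), x ∈ V ∧ IsNilpotent ((u.appLE ⊤ V (le_top.trans (Scheme.Hom.preimage_top q).ge)).hom s)) →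
          IsNilpotent s := by
  have htopq : ∀ V : X.Opens, V ≤ q ⁻¹ᵁ ⊤ :=
    fun V => le_top.trans (Scheme.Hom.preimage_top q).ge
  constructor
  · intro hdom n hn s hs hloc
    by_contra hnil
    obtain ⟨w', hw'⟩ := Groth.Agent.H41.ProjQ.exists_of_dominant u p chart pL chartL r hdom ⊤ hY
      hn s hs hnil
    obtain ⟨V, hV, hxV, hVnil⟩ := hloc (pL.base ((RelProj.domQ u pL chartL).ι.base w'))
    obtain ⟨Q, hQ⟩ := Groth.Agent.H41.ProjConeLib.exists_emb_eq pL chartL V hV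
      ((RelProj.domQ u pL chartL).ι.base w') hxV
    have hnot := Groth.Agent.H41.ProjQ.not_mem_of_map_mem u p chart pL chartL hPL r hr w' ⊤ hY
      V hV (htopq V) Q hQ hn s hs hw'
    apply hnot
    obtain ⟨k, hk⟩ := hVnil
    have hmem : ((u.appLE ⊤ V (htopq V)).hom s) ^ k ∈ Q.asHomogeneousIdeal.toIdeal := by
      rw [hk]; exact zero_mem _
    exact Q.isPrime.mem_of_pow_mem _ hmem
  · intro hcrit
    refine ⟨?_⟩
    show Dense (Set.range r.base)
    rw [dense_iff_inter_open]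
    rintro W hW ⟨x, hx⟩
    obtain ⟨d, hd, -, f, hf, hnil, hsub⟩ := Groth.Agent.H41.ProjQ.exists_of_open p chart ⊤ hY
      ⟨W, hW⟩ x hx (show p.base x ∈ (⊤ : Y.Opens) from Opens.mem_top _) 0
    have hex : ∃ x₀ : X, ∀ (V : X.Opens) (_ : IsAffineOpen V), x₀ ∈ V →
        ¬ IsNilpotent ((u.appLE ⊤ V (htopq V)).hom f) := by
      by_contra hcon
      push Not at hcon
      exact hnil (hcrit d hd f hf fun x => by
        obtain ⟨V, hV, hxV, hn⟩ := hcon x
        exact ⟨V, hV, hxV, hn⟩)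
    obtain ⟨x₀, hx₀⟩ := hex
    obtain ⟨V, hV0, hxV, -⟩ := (Opens.isBasis_iff_nbhd.mp X.isBasis_affineOpens)
      (show x₀ ∈ (⊤ : X.Opens) from Opens.mem_top _)
    have hV : IsAffineOpen V := hV0
    have hnilV : ¬ IsNilpotent ((u.gradedAt ⊤ hY V hV (htopq V)) f) := hx₀ V hV hxV
    obtain ⟨Q₀, hQ₀⟩ := Groth.Agent.H41.ProjQ.exists_not_mem_of_not_isNilpotent (𝒮L.deg V hV) hd
      ((u.gradedAt ⊤ hY V hV (htopq V)).map_mem hf) hnilV
    obtain ⟨w', -, hw'⟩ := Groth.Agent.H41.ProjQ.exists_map_mem u p chart pL chartL r hr ⊤ hY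
      V hV (htopq V) Q₀ hd f hf hQ₀
    exact ⟨r.base w', hsub _ hw', w', rfl⟩

end Groth.Agent.S12146
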