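import Groth.Statements.S12152
import Groth.Agent.H41.ProjQ12

set_option autoImplicit false
universe u
open CategoryTheory CategoryTheory.Limits AlgebraicGeometry TopologicalSpace Opposite
open scoped HomogeneousIdeal
noncomputable section
open EGA2

namespace Groth.Agent.S12152

/-- Let q : X → Y be a morphism with Y affine, L an invertible O_X-module with 𝒮L = ⊕ L^{⊗n} (whose Proj
is X), 𝒮 a quasi-coherent positively graded O_Y-algebra with S = Γ(Y, 𝒮), ψ♭ = u : 𝒮 → q_*𝒮L a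
graded q-morphism and r = r_{L,ψ} : G(ψ) → P = Proj(𝒮). For a family s_a ∈ S_{n_a} (n_a > 0) put f_a
= ψ♭(s_a) ∈ Γ(X, L^{⊗n_a}) and let X_{f_a} be the open where f_a does not vanish; conditions: (i)
the X_{f_a} cover X; (ii) the X_{f_a} are affine; (iii) every function t on X_{f_a} is of the form
ψ♭(s') f_a^{-m} with m > 0 and s' ∈ S_{m n_a} (that is, t f_a^m = ψ♭(s') in 𝒮L(X_{f_a})); (v) the
opens D_+(s_a) cover Proj S. Then r is everywhere defined and a closed immersion if and only if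
there is a family (s_a) satisfying (i), (ii), (iii) and (v). -/
theorem result {Y X P PL : Scheme.{u}} (q : X ⟶ Y)
    (L : X.Modules) (hL : PicF.IsInvertible L) (hLq : Coh.IsQCoh L)
    (𝒮 : RelProj.QCGrAlg Y) (𝒮L : RelProj.QCGrAlg X) (j : L ⟶ 𝒮L.toModule) (hj : RelProj.IsGrSymAlg L 𝒮L j)
    (u : RelProj.QGrHom q 𝒮 𝒮L)
    (p : P ⟶ Y) (chart : ∀ (U : Y.Opens) (hU : IsAffineOpen U), (((p ⁻¹ᵁ U : P.Opens) : Scheme.{u}) ≅ Proj (𝒮.deg U hU)))
    (hP : RelProj.IsRelProj 𝒮 p chart)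
    (pL : PL ⟶ X) (chartL : ∀ (U : X.Opens) (hU : IsAffineOpen U), (((pL ⁻¹ᵁ U : PL.Opens) : Scheme.{u}) ≅ Proj (𝒮L.deg U hU)))
    (hPL : RelProj.IsRelProj 𝒮L pL chartL)
    (r : ((RelProj.domQ u pL chartL : PL.Opens) : Scheme.{u}) ⟶ P)
    (hr : RelProj.IsProjQMapOn u p chart pL chartL (RelProj.domQ u pL chartL) r)
    (hY : IsAffineOpen (⊤ : Y.Opens)) :
    (RelProj.domQ u pL chartL = ⊤ ∧ IsClosedImmersion r) ↔
      ∃ (ι : Type u) (n : ι → ℕ) (s : ι → 𝒮.presheaf.obj (op ⊤)) (XT : ι → X.Opens),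
        (∀ a, 0 < n a ∧ s a ∈ 𝒮.deg ⊤ hY (n a)) ∧
        (∀ a, XT a = (⨆ V : {V : X.affineOpens //
          ((𝒮L.deg V.1 V.2 (n a) : AddSubgroup (𝒮L.presheaf.obj (op (V.1 : X.Opens)))) : Set (𝒮L.presheaf.obj (op (V.1 : X.Opens)))) ⊆
            (Ideal.span {(u.appLE ⊤ (V.1 : X.Opens) (le_top.trans (Scheme.Hom.preimage_top q).ge)).hom (s a)} : Set (𝒮L.presheaf.obj (op (V.1 : X.Opens))))},
          (V.1.1 : X.Opens))) ∧
        (⨆ a, XT a) = ⊤ ∧ (∀ a, IsAffineOpen (XT a)) ∧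
        (∀ (a : ι) (t : X.presheaf.obj (op (XT a))), ∃ (m : ℕ) (_ : 0 < m) (s' : 𝒮.presheaf.obj (op ⊤)) (_ : s' ∈ 𝒮.deg ⊤ hY (m * n a)),
            (𝒮L.str.app (op (XT a))).hom t * ((u.appLE ⊤ (XT a) (le_top.trans (Scheme.Hom.preimage_top q).ge)).hom (s a)) ^ m =
              (u.appLE ⊤ (XT a) (le_top.trans (Scheme.Hom.preimage_top q).ge)).hom s') ∧
        (⨆ a, Proj.basicOpen (𝒮.deg ⊤ hY) (s a)) = ⊤ := by
  constructor
  · rintro ⟨htop, hclosed⟩
    haveI := hclosed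
    haveI : IsIso (⊤ : P.Opens).ι :=
      isIso_of_isOpenImmersion_of_opensRange_eq_top _ (Scheme.Opens.opensRange_ι _)
    have hrWι : (r ≫ inv (⊤ : P.Opens).ι) ≫ (⊤ : P.Opens).ι = r := by
      rw [Category.assoc, IsIso.inv_hom_id, Category.comp_id]
    have hpiece := fun (d : ℕ) (hd : 0 < d) (f : 𝒮.presheaf.obj (op ⊤))
        (hf : f ∈ 𝒮.deg ⊤ hY d) =>
      Groth.Agent.H41.ProjQ.piece_of_global L hL hLq 𝒮L j hj u p chart hP pL chartL hPL r hr hY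
        ⊤ (r ≫ inv (⊤ : P.Opens).ι) hrWι @IsClosedImmersion inferInstance hd f hf le_top
    refine ⟨{a : ℕ × 𝒮.presheaf.obj (op ⊤) // 0 < a.1 ∧ a.2 ∈ 𝒮.deg ⊤ hY a.1},
      fun a => a.1.1, fun a => a.1.2, fun a => Groth.Agent.H41.ProjQ.Xt 𝒮L u a.1.1 a.1.2,
      fun a => ⟨a.2.1, a.2.2⟩, fun a => rfl, ?_, ?_, ?_, ?_⟩
    · haveI : IsIso pL := Groth.Agent.S12143.result L hL hLq 𝒮L j hj pL chartL hPL
      rw [eq_top_iff]
      intro x _
      have hw : pL.base ((inv pL).base x) = x :=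
        congrArg (fun k => k.base x) (IsIso.inv_hom_id pL)
      have hwG : (inv pL).base x ∈ RelProj.domQ u pL chartL := by
        rw [htop]; exact Opens.mem_top _
      obtain ⟨w', hw'⟩ : ∃ w' : ((RelProj.domQ u pL chartL : PL.Opens) : Scheme.{u}),
          (RelProj.domQ u pL chartL).ι.base w' = (inv pL).base x := ⟨⟨_, hwG⟩, rfl⟩
      obtain ⟨d, hd, f, hf, hmem, -⟩ := Groth.Agent.H41.ProjQ.exists_basicOpen_mem_le p chart
        ⊤ hY ⊤ (r.base w') (Opens.mem_top _) (Opens.mem_top _)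
      have h44 := Groth.Agent.H41.ProjQ.image_preimage_eq L hL hLq 𝒮L j hj u p chart hP pL chartL
        hPL r hr hY hd f hf
      have h5 : (RelProj.domQ u pL chartL).ι.base w' ∈
          pL ⁻¹ᵁ Groth.Agent.H41.ProjQ.Xt 𝒮L u d f := h44.le ⟨w', hmem, rfl⟩
      refine Opens.mem_iSup.mpr ⟨⟨(d, f), hd, hf⟩, ?_⟩
      show x ∈ Groth.Agent.H41.ProjQ.Xt 𝒮L u d f
      have h6 : pL.base ((RelProj.domQ u pL chartL).ι.base w') ∈
          Groth.Agent.H41.ProjQ.Xt 𝒮L u d f := h5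
      rw [hw', hw] at h6
      exact h6
    · intro a
      obtain ⟨h, -⟩ := hpiece a.1.1 a.2.1 a.1.2 a.2.2
      exact h
    · intro a t
      obtain ⟨hXT, hQ⟩ := hpiece a.1.1 a.2.1 a.1.2 a.2.2
      have hsurj : Function.Surjective (HomogeneousLocalization.Away.map
          (u.gradedAt ⊤ hY (Groth.Agent.H41.ProjQ.Xt 𝒮L u a.1.1 a.1.2) hXT
            (Groth.Agent.H41.ProjQ.htopq _)) a.1.2) :=
        Groth.Agent.H41.ProjQ.surjective_of_isClosedImmersion_specMap _ hQ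
      exact (Groth.Agent.H41.ProjQ.away_map_surjective_iff
        (u.gradedAt ⊤ hY (Groth.Agent.H41.ProjQ.Xt 𝒮L u a.1.1 a.1.2) hXT
          (Groth.Agent.H41.ProjQ.htopq _)) a.2.2
        (𝒮L.str.app (op (Groth.Agent.H41.ProjQ.Xt 𝒮L u a.1.1 a.1.2))).hom
        (fun t => 𝒮L.str_mem _ hXT t)
        (fun z => Groth.Agent.H41.ProjQ.exists_str_eq L hL hLq 𝒮L j hj u p chart hP pL chartL
          hPL r hr hY a.2.1 a.1.2 a.2.2 hXT z)).mp hsurj t
    · rw [eq_top_iff]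
      intro Q _
      obtain ⟨i, hi, f, hf, hfQ⟩ := Groth.Agent.H41.ProjQ.exists_pos_homogeneous_not_mem Q
      exact Opens.mem_iSup.mpr ⟨⟨(i, f), hi, hf⟩, hfQ⟩
  · rintro ⟨ι, n, s, XT, hns, hXTeq, hcov, haff, hiii, hv⟩
    have hXT' : XT = fun a => Groth.Agent.H41.ProjQ.Xt 𝒮L u (n a) (s a) := funext hXTeq
    subst hXT'
    have hQ : ∀ a, IsClosedImmersion (Spec.map (CommRingCat.ofHom
        (HomogeneousLocalization.Away.map
          (u.gradedAt ⊤ hY (Groth.Agent.H41.ProjQ.Xt 𝒮L u (n a) (s a)) (haff a)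
            (Groth.Agent.H41.ProjQ.htopq _)) (s a)))) := by
      intro a
      apply IsClosedImmersion.spec_of_surjective
      exact (Groth.Agent.H41.ProjQ.away_map_surjective_iff
        (u.gradedAt ⊤ hY (Groth.Agent.H41.ProjQ.Xt 𝒮L u (n a) (s a)) (haff a)
          (Groth.Agent.H41.ProjQ.htopq _)) (hns a).2
        (𝒮L.str.app (op (Groth.Agent.H41.ProjQ.Xt 𝒮L u (n a) (s a)))).hom
        (fun t => 𝒮L.str_mem _ (haff a) t)
        (fun z => Groth.Agent.H41.ProjQ.exists_str_eq L hL hLq 𝒮L j hj u p chart hP pL chartL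
          hPL r hr hY (hns a).1 (s a) (hns a).2 (haff a) z)).mpr (hiii a)
    obtain ⟨htop, rW, hrW, hcl⟩ := Groth.Agent.H41.ProjQ.global_of_pieces L hL hLq 𝒮L j hj u
      p chart hP pL chartL hPL r hr hY n s (fun a => (hns a).1) (fun a => (hns a).2) hcov haff
      @IsClosedImmersion hQ
    haveI : IsClosedImmersion rW := hcl
    have hWtop : (⨆ a, (RelProj.emb p chart ⊤ hY) ''ᵁ
        Proj.basicOpen (𝒮.deg ⊤ hY) (s a) : P.Opens) = ⊤ := by
      rw [eq_top_iff]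
      intro z _
      obtain ⟨Q, hQz⟩ := Groth.Agent.H41.ProjConeLib.exists_emb_eq p chart ⊤ hY z
        (Opens.mem_top _)
      have hQmem : Q ∈ (⨆ a, Proj.basicOpen (𝒮.deg ⊤ hY) (s a)) := by
        rw [hv]; exact Opens.mem_top _
      obtain ⟨a, ha⟩ := Opens.mem_iSup.mp hQmem
      exact Opens.mem_iSup.mpr ⟨a, Q, ha, hQz⟩
    haveI : IsIso (⨆ a, (RelProj.emb p chart ⊤ hY) ''ᵁ
        Proj.basicOpen (𝒮.deg ⊤ hY) (s a) : P.Opens).ι :=
      isIso_of_isOpenImmersion_of_opensRange_eq_top _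
        (by rw [Scheme.Opens.opensRange_ι]; exact hWtop)
    refine ⟨htop, ?_⟩
    rw [← hrW]
    infer_instance

end Groth.Agent.S12152
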