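import Groth.Statements.S12153
import Groth.Agent.H41.ProjQ10

set_option autoImplicit false
universe u
open CategoryTheory CategoryTheory.Limits AlgebraicGeometry TopologicalSpace Opposite
open scoped HomogeneousIdeal
noncomputable section
open EGA2

namespace Groth.Agent.S12153

/-- Let q : X → Y be a morphism, L an invertible O_X-module with 𝒮L = ⊕ L^{⊗n} (whose Proj, with its
charts, is X), v : 𝒯 → 𝒮 a graded homomorphism of quasi-coherent positively graded O_Y-algebras, ψ♭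
= u : 𝒮 → q_*𝒮L a graded q-morphism and ψ'♭ = u' its composite with v; let r = r_{L,ψ} : G(ψ) →
Proj(𝒮) and r' = r_{L,ψ'} : G(ψ') → Proj(𝒯). If r' is everywhere defined and an immersion, then r is
everywhere defined and an immersion. -/
theorem result {Y X P PL P' : Scheme.{u}} (q : X ⟶ Y)
    (L : X.Modules) (hL : PicF.IsInvertible L) (hLq : Coh.IsQCoh L)
    (𝒮 : RelProj.QCGrAlg Y) (𝒮L : RelProj.QCGrAlg X) (j : L ⟶ 𝒮L.toModule) (hj : RelProj.IsGrSymAlg L 𝒮L j)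
    (u : RelProj.QGrHom q 𝒮 𝒮L)
    (p : P ⟶ Y) (chart : ∀ (U : Y.Opens) (hU : IsAffineOpen U), (((p ⁻¹ᵁ U : P.Opens) : Scheme.{u}) ≅ Proj (𝒮.deg U hU)))
    (hP : RelProj.IsRelProj 𝒮 p chart)
    (pL : PL ⟶ X) (chartL : ∀ (U : X.Opens) (hU : IsAffineOpen U), (((pL ⁻¹ᵁ U : PL.Opens) : Scheme.{u}) ≅ Proj (𝒮L.deg U hU)))
    (hPL : RelProj.IsRelProj 𝒮L pL chartL)
    (r : ((RelProj.domQ u pL chartL : PL.Opens) : Scheme.{u}) ⟶ P)
    (hr : RelProj.IsProjQMapOn u p chart pL chartL (RelProj.domQ u pL chartL) r)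
    (𝒯 : RelProj.QCGrAlg Y) (v : 𝒯.toQCAlg ⟶ 𝒮.toQCAlg) (hv : RelProj.IsGradedHom v)
    (u' : RelProj.QGrHom q 𝒯 𝒮L) (hu' : ∀ U : Y.Opens, u'.app U = v.hom.app (op U) ≫ u.app U)
    (p' : P' ⟶ Y) (chart' : ∀ (U : Y.Opens) (hU : IsAffineOpen U), (((p' ⁻¹ᵁ U : P'.Opens) : Scheme.{u}) ≅ Proj (𝒯.deg U hU)))
    (hP' : RelProj.IsRelProj 𝒯 p' chart')
    (r' : ((RelProj.domQ u' pL chartL : PL.Opens) : Scheme.{u}) ⟶ P')
    (hr' : RelProj.IsProjQMapOn u' p' chart' pL chartL (RelProj.domQ u' pL chartL) r')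
    (hdef : RelProj.domQ u' pL chartL = ⊤) (himm : IsImmersion r') :
    RelProj.domQ u pL chartL = ⊤ ∧ IsImmersion r := by
  have hle := Groth.Agent.H41.ProjQ.domQ_comp_le u v u' hu' hv pL chartL
  have htop : RelProj.domQ u pL chartL = ⊤ := by
    have h := hle
    rw [hdef] at h
    exact eq_top_iff.mpr h
  refine ⟨htop, ?_⟩
  obtain ⟨ρ, hρ, -⟩ := Groth.Agent.H41.ProjQ.existsUnique_isProjQMapOn
    (RelProj.QGrHom.ofHom v hv) p' chart' p chart hP' hP
  obtain ⟨r₀, h1, h2⟩ := Groth.Agent.H41.ProjQ.exists_factor u v hv u' hu' p chart p' chart'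
    pL chartL r hr r' hr' ρ hρ
  haveI : IsImmersion (r₀ ≫ ρ) := by rw [h2]; exact himm
  haveI : IsImmersion r₀ := IsImmersion.of_comp r₀ ρ
  haveI : IsImmersion (PL.homOfLE hle ≫ r) := by rw [← h1]; infer_instance
  have heq : RelProj.domQ u' pL chartL = RelProj.domQ u pL chartL := hdef.trans htop.symm
  haveI : IsIso (PL.homOfLE hle) := by
    have e : PL.homOfLE hle = (PL.isoOfEq heq).hom := rfl
    rw [e]; infer_instance
  exact (MorphismProperty.cancel_left_of_respectsIso @IsImmersion (PL.homOfLE hle) r).mp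
    inferInstance

end Groth.Agent.S12153
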