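import Groth.Statements.S12158
import Groth.Agent.H41.ProjQ14

set_option autoImplicit false
universe u
open CategoryTheory CategoryTheory.Limits AlgebraicGeometry TopologicalSpace Opposite
open scoped HomogeneousIdeal
noncomputable section
open EGA2

namespace Groth.Agent.S12158

/-- Let q : Y' → Y be a morphism, φ : 𝒮 → q_*𝒮' a graded q-morphism of quasi-coherent positively graded
algebras with 𝒮_0 = O_Y, 𝒮'_0 = O_{Y'}, φ̂ : 𝒮[z] → q_*𝒮'[z] its extension with φ̂(z) = z, Ĉ =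
Proj(𝒮[z]), Ĉ' = Proj(𝒮'[z]) the projective cones with pointed cones Ê, Ê', and Φ̂ = Proj(φ̂) :
G(φ̂) → Ĉ; let Proj(φ) : G(φ) → X = Proj(𝒮) be the morphism induced by φ on G(φ) ⊆ X' = Proj(𝒮'),
and j : X → Ĉ, j' : X' → Ĉ' the canonical closed immersions at infinity (Proj of the graded
retractions 𝒮[z] → 𝒮, 𝒮'[z] → 𝒮' killing z). Then j'(G(φ)) ⊆ G(φ̂) and the square formed by Proj(φ),
j', j and Φ̂ commutes. -/
theorem result {Y Y' PC PC' : Scheme.{u}} (q : Y' ⟶ Y)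
    (𝒮 : RelProj.QCGrAlg Y) (𝒮' : RelProj.QCGrAlg Y') (h0 : RelCone.StrZeroBij 𝒮) (h0' : RelCone.StrZeroBij 𝒮')
    (u : RelProj.QGrHom q 𝒮 𝒮')
    (𝒮h : RelProj.QCGrAlg Y) (ι : 𝒮.toQCAlg ⟶ 𝒮h.toQCAlg) (z : 𝒮h.presheaf.obj (op ⊤))
    (hz : RelCone.IsPolyOver 𝒮 𝒮h ι z)
    (pC : PC ⟶ Y) (chartC : ∀ (U : Y.Opens) (hU : IsAffineOpen U), (((pC ⁻¹ᵁ U : PC.Opens) : Scheme.{u}) ≅ Proj (𝒮h.deg U hU)))
    (hC : RelProj.IsRelProj 𝒮h pC chartC)
    (𝒮h' : RelProj.QCGrAlg Y') (ι' : 𝒮'.toQCAlg ⟶ 𝒮h'.toQCAlg) (z' : 𝒮h'.presheaf.obj (op ⊤))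
    (hz' : RelCone.IsPolyOver 𝒮' 𝒮h' ι' z')
    (pC' : PC' ⟶ Y') (chartC' : ∀ (U : Y'.Opens) (hU : IsAffineOpen U), (((pC' ⁻¹ᵁ U : PC'.Opens) : Scheme.{u}) ≅ Proj (𝒮h'.deg U hU)))
    (hC' : RelProj.IsRelProj 𝒮h' pC' chartC')
    (uh : RelProj.QGrHom q 𝒮h 𝒮h')
    (huh : ∀ U : Y.Opens, ι.hom.app (op U) ≫ uh.app U = u.app U ≫ ι'.hom.app (op (q ⁻¹ᵁ U)))
    (huhz : (uh.app ⊤).hom z = RelCone.restrictTop 𝒮h' z' (q ⁻¹ᵁ ⊤))
    (Φh : ((RelProj.domQ uh pC' chartC' : PC'.Opens) : Scheme.{u}) ⟶ PC)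
    (hΦh : RelProj.IsProjQMapOn uh pC chartC pC' chartC' (RelProj.domQ uh pC' chartC') Φh)
    {P P' : Scheme.{u}} (p : P ⟶ Y) (chart : ∀ (U : Y.Opens) (hU : IsAffineOpen U), (((p ⁻¹ᵁ U : P.Opens) : Scheme.{u}) ≅ Proj (𝒮.deg U hU)))
    (hP : RelProj.IsRelProj 𝒮 p chart)
    (p' : P' ⟶ Y') (chart' : ∀ (U : Y'.Opens) (hU : IsAffineOpen U), (((p' ⁻¹ᵁ U : P'.Opens) : Scheme.{u}) ≅ Proj (𝒮'.deg U hU)))
    (hP' : RelProj.IsRelProj 𝒮' p' chart')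
    (Φ : ((RelProj.domQ u p' chart' : P'.Opens) : Scheme.{u}) ⟶ P)
    (hΦ : RelProj.IsProjQMapOn u p chart p' chart' (RelProj.domQ u p' chart') Φ)
    (θ : 𝒮h.toQCAlg ⟶ 𝒮.toQCAlg) (hθ : RelProj.IsGradedHom θ) (hθι : ι ≫ θ = 𝟙 _)
    (hθz : (θ.hom.app (op ⊤)).hom z = 0)
    (jX : P ⟶ PC) (hjX : RelProj.IsProjQMap (RelProj.QGrHom.ofHom θ hθ) pC chartC p chart jX)
    (θ' : 𝒮h'.toQCAlg ⟶ 𝒮'.toQCAlg) (hθ' : RelProj.IsGradedHom θ') (hθι' : ι' ≫ θ' = 𝟙 _)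
    (hθz' : (θ'.hom.app (op ⊤)).hom z' = 0)
    (jX' : P' ⟶ PC') (hjX' : RelProj.IsProjQMap (RelProj.QGrHom.ofHom θ' hθ') pC' chartC' p' chart' jX')
    (T : Scheme.{u}) (d : T ⟶ ((RelProj.domQ u p' chart' : P'.Opens) : Scheme.{u}))
    (e : T ⟶ ((RelProj.domQ uh pC' chartC' : PC'.Opens) : Scheme.{u}))
    (hde : d ≫ (RelProj.domQ u p' chart').ι ≫ jX' = e ≫ (RelProj.domQ uh pC' chartC').ι) :
    jX'.base '' ((RelProj.domQ u p' chart' : P'.Opens) : Set P') ⊆ ((RelProj.domQ uh pC' chartC' : PC'.Opens) : Set PC') ∧ e ≫ Φh = d ≫ Φ ≫ jX := by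
  have hr : RelProj.IsProjQMapOn (RelProj.QGrHom.ofHom θ hθ) pC chartC p chart
      (RelProj.domQ (RelProj.QGrHom.ofHom θ hθ) p chart)
      ((RelProj.domQ (RelProj.QGrHom.ofHom θ hθ) p chart).ι ≫ jX) := by
    rw [Groth.Agent.H41.ProjQ.isProjQMapOn_iff]
    intro k
    rw [Groth.Agent.H41.ProjQ.lift_ι_assoc]
    exact hjX.2 k.U k.hU k.U' k.hU' k.hle k.d k.hd k.f k.hf
  have hr' : RelProj.IsProjQMapOn (RelProj.QGrHom.ofHom θ' hθ') pC' chartC' p' chart'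
      (RelProj.domQ (RelProj.QGrHom.ofHom θ' hθ') p' chart')
      ((RelProj.domQ (RelProj.QGrHom.ofHom θ' hθ') p' chart').ι ≫ jX') := by
    rw [Groth.Agent.H41.ProjQ.isProjQMapOn_iff]
    intro k
    rw [Groth.Agent.H41.ProjQ.lift_ι_assoc]
    exact hjX'.2 k.U k.hU k.U' k.hU' k.hle k.d k.hd k.f k.hf
  have hcomm : ∀ (U : Y.Opens) (_ : IsAffineOpen U) (U' : Y'.Opens) (_ : IsAffineOpen U')
      (hle : U' ≤ q ⁻¹ᵁ U) (x : 𝒮h.presheaf.obj (op U)),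
      (u.appLE U U' hle).hom ((θ.hom.app (op U)).hom x) =
        (θ'.hom.app (op U')).hom ((uh.appLE U U' hle).hom x) := by
    intro U hU U' hU' hle x
    have hfg := Groth.Agent.H41.ProjQ.ringHom_ext_poly hz U hU
      ((u.appLE U U' hle).hom.comp (θ.hom.app (op U)).hom)
      ((θ'.hom.app (op U')).hom.comp (uh.appLE U U' hle).hom) ?_ ?_
    · exact RingHom.congr_fun hfg x
    · intro a
      show (u.appLE U U' hle).hom ((θ.hom.app (op U)).hom ((ι.hom.app (op U)).hom a)) =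
        (θ'.hom.app (op U')).hom ((uh.appLE U U' hle).hom ((ι.hom.app (op U)).hom a))
      have e1 : (θ.hom.app (op U)).hom ((ι.hom.app (op U)).hom a) = a :=
        congrArg (fun k => (k.hom.app (op U)).hom a) hθι
      have e2 : (θ'.hom.app (op U')).hom ((ι'.hom.app (op U')).hom ((u.appLE U U' hle).hom a)) =
          (u.appLE U U' hle).hom a :=
        congrArg (fun k => (k.hom.app (op U')).hom ((u.appLE U U' hle).hom a)) hθι'
      rw [Groth.Agent.H41.ProjQ.uh_ι u uh huh U U' hle a, e1, e2]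
    · show (u.appLE U U' hle).hom ((θ.hom.app (op U)).hom (RelCone.restrictTop 𝒮h z U)) =
        (θ'.hom.app (op U')).hom ((uh.appLE U U' hle).hom (RelCone.restrictTop 𝒮h z U))
      rw [Groth.Agent.H41.ProjQ.uh_z uh huhz U U' hle,
        Groth.Agent.H41.ProjConeLib.θ_restrictTop z θ hθz U,
        Groth.Agent.H41.ProjConeLib.θ_restrictTop z' θ' hθz' U', map_zero]
  have key : ∀ (T : Scheme.{u}) (d : T ⟶ ((RelProj.domQ u p' chart' : P'.Opens) : Scheme.{u})),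
      Set.range (d ≫ (RelProj.domQ u p' chart').ι ≫ jX').base ⊆
          ((RelProj.domQ uh pC' chartC' : PC'.Opens) : Set PC') ∧
        ∀ e : T ⟶ ((RelProj.domQ uh pC' chartC' : PC'.Opens) : Scheme.{u}),
          d ≫ (RelProj.domQ u p' chart').ι ≫ jX' = e ≫ (RelProj.domQ uh pC' chartC').ι →
            e ≫ Φh = d ≫ Φ ≫ jX := by
    intro T d
    have hrg' : Set.range (d ≫ (RelProj.domQ u p' chart').ι).base ⊆
        Set.range (RelProj.domQ (RelProj.QGrHom.ofHom θ' hθ') p' chart').ι.base := by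
      rw [Scheme.Opens.range_ι, hjX'.1]
      exact fun _ _ => trivial
    have hrg : Set.range (d ≫ Φ).base ⊆
        Set.range (RelProj.domQ (RelProj.QGrHom.ofHom θ hθ) p chart).ι.base := by
      rw [Scheme.Opens.range_ι, hjX.1]
      exact fun _ _ => trivial
    have hsq := Groth.Agent.H41.ProjQ.square θ hθ θ' hθ' uh u hcomm pC chartC p chart hP
      pC' chartC' p' chart' hP' Φ hΦ Φh hΦh _ hr _ hr'
      (IsOpenImmersion.lift (RelProj.domQ (RelProj.QGrHom.ofHom θ' hθ') p' chart').ι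
        (d ≫ (RelProj.domQ u p' chart').ι) hrg')
      d
      (IsOpenImmersion.lift (RelProj.domQ (RelProj.QGrHom.ofHom θ hθ) p chart).ι (d ≫ Φ) hrg)
      (IsOpenImmersion.lift_fac _ _ _) (IsOpenImmersion.lift_fac _ _ _).symm
    have ha : IsOpenImmersion.lift (RelProj.domQ (RelProj.QGrHom.ofHom θ' hθ') p' chart').ι
        (d ≫ (RelProj.domQ u p' chart').ι) hrg' ≫
          (RelProj.domQ (RelProj.QGrHom.ofHom θ' hθ') p' chart').ι ≫ jX' =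
        d ≫ (RelProj.domQ u p' chart').ι ≫ jX' := by
      rw [← Category.assoc, IsOpenImmersion.lift_fac, Category.assoc]
    have hc : IsOpenImmersion.lift (RelProj.domQ (RelProj.QGrHom.ofHom θ hθ) p chart).ι
        (d ≫ Φ) hrg ≫ (RelProj.domQ (RelProj.QGrHom.ofHom θ hθ) p chart).ι ≫ jX =
        d ≫ Φ ≫ jX := by
      rw [← Category.assoc, IsOpenImmersion.lift_fac, Category.assoc]
    refine ⟨?_, fun e he => ?_⟩
    · have h1 := hsq.1
      rw [ha] at h1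
      exact h1
    · have h2 := hsq.2 e (ha.trans he)
      exact h2.symm.trans hc
  refine ⟨?_, (key T d).2 e hde⟩
  rintro _ ⟨x', hx', rfl⟩
  have h1 := (key _ (𝟙 ((RelProj.domQ u p' chart' : P'.Opens) : Scheme.{u}))).1
  exact h1 ⟨⟨x', hx'⟩, rfl⟩

end Groth.Agent.S12158
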