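import Groth.Statements.S12159
import Groth.Agent.H41.ProjQ9
import Groth.Agent.S12143

set_option autoImplicit false
universe u
open CategoryTheory CategoryTheory.Limits AlgebraicGeometry TopologicalSpace Opposite
open scoped HomogeneousIdeal
noncomputable section
open EGA2

namespace Groth.Agent.S12159

/-- Let Y be a quasi-compact scheme, q : X → Y a quasi-compact morphism, L an invertible O_X-module with
𝒮L = ⊕ L^{⊗n} (whose Proj is X), 𝒮 = colim 𝒮^i a filtered colimit of quasi-coherent positively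
graded O_Y-algebras along graded homomorphisms φ_i : 𝒮^i → 𝒮 (colimit taken on sections over affine
opens), ψ♭ = u : 𝒮 → q_*𝒮L a graded q-morphism and ψ_i♭ = u ∘ φ_i. Then r_{L,ψ} is everywhere
defined if and only if some r_{L,ψ_i} is everywhere defined, and in that case r_{L,ψ_j} is
everywhere defined for all j ≥ i. -/
theorem result {Y X P PL : Scheme.{u}} (q : X ⟶ Y)
    (L : X.Modules) (hL : PicF.IsInvertible L) (hLq : Coh.IsQCoh L)
    (𝒮 : RelProj.QCGrAlg Y) (𝒮L : RelProj.QCGrAlg X) (j : L ⟶ 𝒮L.toModule) (hj : RelProj.IsGrSymAlg L 𝒮L j)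
    (u : RelProj.QGrHom q 𝒮 𝒮L)
    (p : P ⟶ Y) (chart : ∀ (U : Y.Opens) (hU : IsAffineOpen U), (((p ⁻¹ᵁ U : P.Opens) : Scheme.{u}) ≅ Proj (𝒮.deg U hU)))
    (hP : RelProj.IsRelProj 𝒮 p chart)
    (pL : PL ⟶ X) (chartL : ∀ (U : X.Opens) (hU : IsAffineOpen U), (((pL ⁻¹ᵁ U : PL.Opens) : Scheme.{u}) ≅ Proj (𝒮L.deg U hU)))
    (hPL : RelProj.IsRelProj 𝒮L pL chartL)
    [CompactSpace Y] [QuasiCompact q]
    (Λ : Type u) [Preorder Λ] [IsDirected Λ (· ≤ ·)] [Nonempty Λ]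
    (𝒮i : Λ → RelProj.QCGrAlg Y) (φ : ∀ i, (𝒮i i).toQCAlg ⟶ 𝒮.toQCAlg) (hφ : ∀ i, RelProj.IsGradedHom (φ i))
    (t : ∀ i j, i ≤ j → ((𝒮i i).toQCAlg ⟶ (𝒮i j).toQCAlg)) (ht : ∀ i j (h : i ≤ j), RelProj.IsGradedHom (t i j h))
    (hφt : ∀ i j (h : i ≤ j), t i j h ≫ φ j = φ i)
    (hsurj : ∀ (U : Y.Opens), IsAffineOpen U → ∀ x : 𝒮.presheaf.obj (op U),
      ∃ (i : Λ) (y : (𝒮i i).presheaf.obj (op U)), ((φ i).hom.app (op U)).hom y = x)
    (hker : ∀ (U : Y.Opens), IsAffineOpen U → ∀ (i : Λ) (y : (𝒮i i).presheaf.obj (op U)),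
      ((φ i).hom.app (op U)).hom y = 0 → ∃ (j : Λ) (h : i ≤ j), ((t i j h).hom.app (op U)).hom y = 0)
    (ui : ∀ i, RelProj.QGrHom q (𝒮i i) 𝒮L) (hui : ∀ i (U : Y.Opens), (ui i).app U = (φ i).hom.app (op U) ≫ u.app U) :
    (RelProj.domQ u pL chartL = ⊤ ↔ ∃ i, RelProj.domQ (ui i) pL chartL = ⊤) ∧
      ∀ i, RelProj.domQ (ui i) pL chartL = ⊤ → ∀ j, i ≤ j → RelProj.domQ (ui j) pL chartL = ⊤ := by
  haveI : IsIso pL := Groth.Agent.S12143.result L hL hLq 𝒮L j hj pL chartL hPL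
  haveI : CompactSpace PL := QuasiCompact.compactSpace_of_compactSpace (pL ≫ q)
  have hmono : ∀ i j, i ≤ j →
      RelProj.domQ (ui i) pL chartL ≤ RelProj.domQ (ui j) pL chartL := by
    intro i j h
    refine Groth.Agent.H41.ProjQ.domQ_comp_le (ui j) (t i j h) (ui i) ?_ (ht i j h) pL chartL
    intro U
    have e : (φ i).hom.app (op U) = (t i j h).hom.app (op U) ≫ (φ j).hom.app (op U) := by
      rw [← hφt i j h]; rfl
    rw [hui i U, hui j U, e, Category.assoc]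
  refine ⟨⟨fun htop => ?_, fun ⟨i, hi⟩ => ?_⟩, fun i hi j hij => ?_⟩
  · have hcov : (Set.univ : Set PL) ⊆
        ⋃ i, ((RelProj.domQ (ui i) pL chartL : PL.Opens) : Set PL) := by
      intro w _
      have hw : w ∈ RelProj.domQ u pL chartL := by rw [htop]; exact Opens.mem_top _
      obtain ⟨i, hi⟩ := Groth.Agent.H41.ProjQ.exists_mem_domQ_of_surj u pL chartL 𝒮i φ hφ hsurj
        ui hui w hw
      exact Set.mem_iUnion.mpr ⟨i, hi⟩
    have hdir : Directed (· ⊆ ·)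
        (fun i => ((RelProj.domQ (ui i) pL chartL : PL.Opens) : Set PL)) := by
      intro i j
      obtain ⟨k, hik, hjk⟩ := exists_ge_ge i j
      exact ⟨k, fun x hx => hmono i k hik hx, fun x hx => hmono j k hjk hx⟩
    obtain ⟨i, hi⟩ := isCompact_univ.elim_directed_cover _
      (fun i => (RelProj.domQ (ui i) pL chartL).isOpen) hcov hdir
    exact ⟨i, eq_top_iff.mpr fun w _ => hi (Set.mem_univ w)⟩
  · have h := Groth.Agent.H41.ProjQ.domQ_comp_le u (φ i) (ui i) (hui i) (hφ i) pL chartL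
    rw [hi] at h
    exact eq_top_iff.mpr h
  · have h := hmono i j hij
    rw [hi] at h
    exact eq_top_iff.mpr h

end Groth.Agent.S12159
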