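import Groth.Statements.S12163
import Groth.Agent.H41.RelTildeMaps

set_option autoImplicit false
universe u
open CategoryTheory CategoryTheory.Limits AlgebraicGeometry TopologicalSpace Opposite
open scoped HomogeneousIdeal
noncomputable section
open EGA2

namespace Groth.Agent.S12163

/-- Let φ : 𝒜 → ℬ be a graded homomorphism of quasi-coherent positively graded O_Y-algebras and PB =
Proj(ℬ) with its charts. If every point of Y has an affine neighbourhood U over which the irrelevant
ideal of ℬ(U) is contained in the ideal generated by φ(𝒜(U)_+), then the open of definition G(φ) of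
Proj(φ) is all of PB. (The published condition asks 𝒮_+ to be generated by the image as a module
over the functions on U; generation as an ideal, used here, is implied by it.) -/
theorem result {Y PB : Scheme.{u}} (𝒜 ℬ : RelProj.QCGrAlg Y)
    (φ : 𝒜.toQCAlg ⟶ ℬ.toQCAlg) (hφ : RelProj.IsGradedHom φ)
    (pB : PB ⟶ Y) (chartB : ∀ (U : Y.Opens) (hU : IsAffineOpen U), (((pB ⁻¹ᵁ U : PB.Opens) : Scheme.{u}) ≅ Proj (ℬ.deg U hU)))
    (hB : RelProj.IsRelProj ℬ pB chartB)
    (hcov : ∀ y : Y, ∃ (U : Y.Opens) (hU : IsAffineOpen U), y ∈ U ∧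
      (ℬ.deg U hU)₊ ≤ ((𝒜.deg U hU)₊).map (RelProj.gradedHomAt φ hφ U hU)) :
    RelProj.domQ (RelProj.QGrHom.ofHom φ hφ) pB chartB = ⊤ := by
  classical
  rw [_root_.eq_top_iff]
  intro x _
  obtain ⟨U, hU, hyU, hirr⟩ := hcov (pB.base x)
  obtain ⟨z, hz⟩ : ∃ z, (RelProj.emb pB chartB U hU).base z = x := by
    have : x ∈ (RelProj.emb pB chartB U hU).opensRange := by
      rw [Groth.Agent.H41.RelTildeMaps.opensRange_emb]; exact hyU
    exact this
  have hle : U ≤ (𝟙 Y) ⁻¹ᵁ U := le_rfl
  have hψ : ∀ a, (RelProj.QGrHom.ofHom φ hφ).gradedAt U hU U hU hle a =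
      RelProj.gradedHomAt φ hφ U hU a := by
    intro a
    show (ℬ.presheaf.map (homOfLE hle).op).hom ((φ.hom.app (op U)).hom a) =
      (φ.hom.app (op U)).hom a
    have e : ℬ.presheaf.map (homOfLE hle).op = 𝟙 _ := by
      have : (homOfLE hle).op = 𝟙 (op U) := Subsingleton.elim _ _
      rw [this]
      exact ℬ.presheaf.map_id _
    rw [e]
    rfl
  have hzdom : z ∈ RelCone.domOpen ((RelProj.QGrHom.ofHom φ hφ).gradedAt U hU U hU hle) := by
    rw [RelCone.mem_domOpen]
    by_contra hcon
    push Not at hcon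
    apply z.not_irrelevant_le
    refine hirr.trans ?_
    rw [HomogeneousIdeal.map_le_iff_le_comap]
    intro a ha
    show RelProj.gradedHomAt φ hφ U hU a ∈ z.asHomogeneousIdeal
    rw [← hψ a]
    exact hcon a ha
  unfold RelProj.domQ
  exact Opens.mem_iSup.mpr ⟨⟨(⟨U, hU⟩, ⟨U, hU⟩), hle⟩, z, hzdom, hz⟩

end Groth.Agent.S12163
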