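import Groth.Statements.S12164
import Groth.Agent.S12142
import Groth.Agent.H41.SymBCPush
import Groth.Agent.H22.SymConstr
import Groth.Agent.H39.PullTrack5
import Groth.Agent.H8.PullbackStalk
import Groth.Agent.H8.QCohQcqs
import Groth.Agent.H22.QCohLimits

set_option autoImplicit false
universe u
open CategoryTheory CategoryTheory.Limits AlgebraicGeometry TopologicalSpace Opposite
open scoped HomogeneousIdeal
noncomputable section
open EGA2

namespace Groth.Agent.S12164

/-- Let g : S' → S be a morphism, E a quasi-coherent O_S-module, A = Sym(E) and B = Sym(g^*E) the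
symmetric algebras (given by their universal properties among quasi-coherent algebras, with
structure maps j : E → A and j' : g^*E → B), u : A → g_*B the g-morphism of algebras extending the
adjunction unit E → g_*g^*E followed by g_*(j'), and h = Spec(u) : V(g^*E) = Spec(B) → V(E) =
Spec(A). Then h identifies V(g^*E) with the base change V(E) ×_S S'. -/
theorem result {S S' : Scheme.{u}} (g : S' ⟶ S)
    (E : S.Modules) (hE : Coh.IsQCoh E) (A : RelSpec.QCAlg S) (j : E ⟶ A.toModule) (hA : RelSpec.IsSymAlg E A j)
    (B : RelSpec.QCAlg S') (j' : (Scheme.Modules.pullback g).obj E ⟶ B.toModule)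
    (hB : RelSpec.IsSymAlg ((Scheme.Modules.pullback g).obj E) B j')
    (u : RelSpec.QHom g A B)
    (hu : ∀ (U : S.Opens) (x : Γ(E, U)),
      (u.app U).hom ((j.app U) x) =
        (j'.app (g ⁻¹ᵁ U)) (((Scheme.Modules.pullbackPushforwardAdjunction g).unit.app E).app U x))
    (h : B.spec ⟶ A.spec) (hh : RelSpec.IsSpecQMap u h) :
    IsPullback h B.π A.π g := by
  have : E.IsQuasicoherent := hE
  have hq' : ((Scheme.Modules.pullback g).obj E).IsQuasicoherent :=
    Groth.Agent.H8.isQuasicoherent_pullback g E
  refine Groth.Agent.S12142.result g A B u ?_ h hh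
  intro U hU U' hU' hle
  have hρ : ∀ (r : Γ(S, U)) (m : Γ(E, U)),
      Groth.Agent.H39.PullTrack.pullSectLE g E U U' hle (r • m) =
        (g.appLE U U' hle).hom r • Groth.Agent.H39.PullTrack.pullSectLE g E U U' hle m := by
    intro r m
    have e1 : OmegaSh.pullSect g E U (r • m) = g.app U r • OmegaSh.pullSect g E U m :=
      Scheme.Modules.Hom.app_smul _ r m
    rw [Groth.Agent.H39.PullTrack.pullSectLE_apply, Groth.Agent.H39.PullTrack.pullSectLE_apply,
      e1, Groth.Agent.H8.res_smul]
    rfl
  refine Groth.Agent.H41.SymBC.isPushout_of_sym (g.appLE U U' hle) (A.str.app (op U))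
    (B.str.app (op U')) (u.appLE U U' hle) (u.str_appLE U U' hle).symm
    (M := Γ(E, U)) (M' := Γ((Scheme.Modules.pullback g).obj E, U'))
    (Groth.Agent.H39.PullTrack.pullSectLE g E U U' hle) hρ
    (Groth.Agent.H39.PullTrack.exists_sectionsPullbackEquiv g E hU hU' hle)
    (Groth.Agent.H22.SymConstr.theta A j U)
    (Groth.Agent.H22.SymConstr.theta_bijective E A j hA U hU)
    (Groth.Agent.H22.SymConstr.theta B j' U')
    (Groth.Agent.H22.SymConstr.theta_bijective ((Scheme.Modules.pullback g).obj E) B j' hB U' hU')
    (fun r => Groth.Agent.H22.SymConstr.theta_algebraMap A j U r)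
    (fun r' => Groth.Agent.H22.SymConstr.theta_algebraMap B j' U' r') ?_
  intro m
  rw [Groth.Agent.H22.SymConstr.theta_ι, Groth.Agent.H22.SymConstr.theta_ι]
  have h1 := hu U m
  have h2 : (u.appLE U U' hle).hom ((j.app U) m) =
      (B.presheaf.map (homOfLE hle).op).hom ((u.app U).hom ((j.app U) m)) := rfl
  show (u.appLE U U' hle).hom ((j.app U) m) = _
  rw [h2, h1]
  have h3 := Groth.Agent.H22.QCohLimits.app_res j' hle
    (((Scheme.Modules.pullbackPushforwardAdjunction g).unit.app E).app U m)
  exact h3.symm

end Groth.Agent.S12164
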