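-- Statement S12187: glueing pairs detect finite ring maps.
import Groth.Statements.S12187
import Groth.Agent.H10.Glue
import Mathlib.RingTheory.RingHom.Finite

set_option autoImplicit false
universe u
open TensorProduct
open EtAlg

namespace Groth.Agent.S12187

/-- Glueing along a glueing pair detects finite morphisms of affine schemes, stated for coordinate
rings. Let (R → R', f) be a glueing pair and φ : A → B a homomorphism of R-algebras with A and B
glueable as R-modules. Then φ is finite exactly when both induced maps A_f → B_f and R' ⊗_R A → R'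
⊗_R B are finite. -/
theorem result (R : Type u) [CommRing R] (R' : Type u) [CommRing R'] [Algebra R R'] (f : R)
    (hRR' : EtGlue.IsGlueingPair R R' f) (A B : Type u) [CommRing A] [Algebra R A] [CommRing B] [Algebra R B]
    (hA : EtGlue.IsGlueable R R' f A) (hB : EtGlue.IsGlueable R R' f B) (φ : A →ₐ[R] B) :
    φ.toRingHom.Finite ↔ (Localization.awayMap φ.toRingHom (algebraMap R A f)).Finite ∧
      (Algebra.TensorProduct.map (AlgHom.id R R') φ).toRingHom.Finite := by
  classical
  have hq : EtGlue.QuotPowBijective R R' f := hRR'.1
  have hφf : φ.toRingHom (algebraMap R A f) = algebraMap R B f := φ.commutes f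
  set g : B := φ.toRingHom (algebraMap R A f) with hg
  have hθ : ∀ a : A, Localization.awayMap φ.toRingHom (algebraMap R A f)
      (algebraMap A (Localization.Away (algebraMap R A f)) a) =
        algebraMap B (Localization.Away g) (φ a) := fun a => IsLocalization.map_eq _ a
  set ψ := (Algebra.TensorProduct.map (AlgHom.id R R') φ).toRingHom with hψ
  constructor
  · intro hφ
    refine ⟨RingHom.localization_away_map_finite A B _ _ φ.toRingHom _ hφ, ?_⟩
    -- base change
    letI algAB : Algebra A B := φ.toRingHom.toAlgebra
    letI algψ : Algebra (R' ⊗[R] A) (R' ⊗[R] B) := ψ.toAlgebra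
    have hφ' : Module.Finite A B := hφ
    obtain ⟨s, hs⟩ := hφ'.fg_top
    change Module.Finite (R' ⊗[R] A) (R' ⊗[R] B)
    refine ⟨⟨s.image fun b => (1 : R') ⊗ₜ[R] b, ?_⟩⟩
    rw [eq_top_iff]
    have key : ∀ b : B, b ∈ Submodule.span A (s : Set B) → ∀ x : R', x ⊗ₜ[R] b ∈
        Submodule.span (R' ⊗[R] A) ((s.image fun b => (1 : R') ⊗ₜ[R] b : Finset _) : Set _) := by
      intro b hb
      induction hb using Submodule.span_induction with
      | mem b hb =>
        intro x
        have h1 : x ⊗ₜ[R] b = (x ⊗ₜ[R] (1 : A)) • ((1 : R') ⊗ₜ[R] b) := by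
          change _ = ψ (x ⊗ₜ[R] (1 : A)) * _
          simp [hψ, Algebra.TensorProduct.tmul_mul_tmul]
        rw [h1]
        apply Submodule.smul_mem
        apply Submodule.subset_span
        exact Finset.mem_coe.mpr (Finset.mem_image_of_mem _ hb)
      | zero => intro x; rw [tmul_zero]; exact Submodule.zero_mem _
      | add b₁ b₂ _ _ h₁ h₂ => intro x; rw [tmul_add]; exact Submodule.add_mem _ (h₁ x) (h₂ x)
      | smul a b _ hb =>
        intro x
        have h1 : x ⊗ₜ[R] (a • b) = ((1 : R') ⊗ₜ[R] a) • (x ⊗ₜ[R] b) := by
          change x ⊗ₜ[R] (φ a * b) = ψ ((1 : R') ⊗ₜ[R] a) * _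
          simp [hψ, Algebra.TensorProduct.tmul_mul_tmul]
        rw [h1]
        exact Submodule.smul_mem _ _ (hb x)
    have hall : ∀ z : R' ⊗[R] B, z ∈ Submodule.span (R' ⊗[R] A)
        ((s.image fun b => (1 : R') ⊗ₜ[R] b : Finset _) : Set _) := by
      intro z
      induction z using TensorProduct.induction_on with
      | zero => exact Submodule.zero_mem _
      | tmul x b => exact key b (hs ▸ Submodule.mem_top) x
      | add a b ha hb => exact Submodule.add_mem _ ha hb
    intro z _
    exact hall z
  · rintro ⟨h2, h1⟩
    letI algAB : Algebra A B := φ.toRingHom.toAlgebra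
    have hsmul : ∀ (a : A) (b : B), a • b = φ a * b := fun a b => rfl
    haveI tower : IsScalarTower R A B := IsScalarTower.of_algebraMap_eq fun r => (φ.commutes r).symm
    -- generators after base change
    have h1' : @Module.Finite (R' ⊗[R] A) (R' ⊗[R] B) _ _ ψ.toAlgebra.toModule := h1
    obtain ⟨s₁, hs₁⟩ := h1'.fg_top
    obtain ⟨N₁, hN₁, hsN₁⟩ := TensorProduct.exists_finite_submodule_right_of_setFinite
      (s₁ : Set (R' ⊗[R] B)) s₁.finite_toSet
    obtain ⟨t₁, ht₁⟩ := Module.Finite.iff_fg.mp hN₁
    -- generators after localization
    have h2' : @Module.Finite (Localization.Away (algebraMap R A f))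
      (Localization.Away g) _ _
      (Localization.awayMap φ.toRingHom (algebraMap R A f)).toAlgebra.toModule := h2
    obtain ⟨s₂, hs₂⟩ := h2'.fg_top
    have hsurj := fun y : Localization.Away g => IsLocalization.Away.surj g y
    choose k₂ b₂ hb₂ using hsurj
    -- the `A`-submodule generated by all of these
    let P₀ : Submodule A B := Submodule.span A ((t₁ : Set B) ∪ (s₂.image b₂ : Finset B))
    have hP₀ : P₀.FG := Submodule.fg_span (t₁.finite_toSet.union (Finset.finite_toSet _))
    let P : Submodule R B := P₀.restrictScalars R
    have hPmul : ∀ a p, p ∈ P → φ a * p ∈ P := fun a p hp => by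
      rw [← hsmul]; exact P₀.smul_mem a hp
    have hN₁P : N₁ ≤ P := by
      rw [← ht₁, Submodule.span_le]
      intro b hb
      exact Submodule.subset_span (Or.inl hb)
    have hPg : ∀ p, p ∈ P → g * p ∈ P := fun p hp => hPmul _ p hp
    have htop : P = ⊤ := by
      apply Groth.Agent.H10.Glue.eq_top_of_tensor_of_localized hq
      · -- surjectivity after base change
        letI algψ : Algebra (R' ⊗[R] A) (R' ⊗[R] B) := ψ.toAlgebra
        have hmem : ∀ z ∈ Submodule.span (R' ⊗[R] A) (s₁ : Set (R' ⊗[R] B)),
            z ∈ LinearMap.range (P.subtype.lTensor R') := by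
          intro z hz
          induction hz using Submodule.span_induction with
          | mem z hz =>
            obtain ⟨w, rfl⟩ := hsN₁ hz
            refine ⟨(Submodule.inclusion hN₁P).lTensor R' w, ?_⟩
            rw [← LinearMap.comp_apply, ← LinearMap.lTensor_comp]
            rfl
          | zero => exact Submodule.zero_mem _
          | add z₁ z₂ _ _ h₁ h₂ => exact Submodule.add_mem _ h₁ h₂
          | smul c z _ hz =>
            exact Groth.Agent.H10.Glue.lTensor_range_mul_mem φ P hPmul c z hz
        intro z
        exact hmem z (hs₁ ▸ Submodule.mem_top)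
      · -- after localization
        letI algloc : Algebra (Localization.Away (algebraMap R A f)) (Localization.Away g) :=
          (Localization.awayMap φ.toRingHom (algebraMap R A f)).toAlgebra
        have hmem : ∀ y ∈ Submodule.span (Localization.Away (algebraMap R A f))
            (s₂ : Set (Localization.Away g)), y ∈ Groth.Agent.H10.Glue.locSet g P := by
          intro y hy
          induction hy using Submodule.span_induction with
          | mem y hy =>
            refine ⟨k₂ y, b₂ y, ?_, hb₂ y⟩
            apply Submodule.subset_span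
            exact Or.inr (Finset.mem_coe.mpr (Finset.mem_image_of_mem _ hy))
          | zero => exact Groth.Agent.H10.Glue.locSet_zero g P
          | add y₁ y₂ _ _ h₁ h₂ => exact Groth.Agent.H10.Glue.locSet_add g P hPg h₁ h₂
          | smul c y _ hy =>
            obtain ⟨k, p, hp, e⟩ := hy
            obtain ⟨j, a, ha⟩ := IsLocalization.Away.surj (algebraMap R A f) c
            refine ⟨j + k, φ a * p, hPmul a p hp, ?_⟩
            change Localization.awayMap φ.toRingHom (algebraMap R A f) c * y * _ = _
            have h3 : Localization.awayMap φ.toRingHom (algebraMap R A f) c *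
                algebraMap B (Localization.Away g) g ^ j = algebraMap B _ (φ a) := by
              have := congrArg (Localization.awayMap φ.toRingHom (algebraMap R A f)) ha
              rw [map_mul, map_pow, hθ, hθ] at this
              exact this
            rw [map_mul, ← h3, ← e, pow_add]
            ring
        intro b
        obtain ⟨k, hk⟩ := Groth.Agent.H10.Glue.exists_pow_mul_mem_of_mem_locSet g P hPg b
          (hmem _ (hs₂ ▸ Submodule.mem_top))
        refine ⟨k, ?_⟩
        rw [Algebra.smul_def, map_pow, ← hφf]
        exact hk
    change Module.Finite A B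
    rw [Module.finite_def]
    have : P₀ = ⊤ := by
      rw [eq_top_iff]
      intro b _
      have : b ∈ P := htop ▸ Submodule.mem_top
      exact this
    rw [← this]
    exact hP₀

end Groth.Agent.S12187
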