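import Groth.Statements.S12195
import Groth.Agent.H19.InfBC

set_option autoImplicit false
universe u
open CategoryTheory CategoryTheory.Limits AlgebraicGeometry
open AlgSp

namespace Groth.Agent.S12195

/-- Let a : F ⟶ G be a representable, surjective and etale morphism of fppf sheaves on (Sch/S) and b : G
⟶ H a morphism such that a ≫ b is formally smooth. Consider a solid infinitesimal lifting square for
b: a square-zero thickening T = Spec (A/I) ⊂ T' = Spec A of affine schemes over S, a morphism T ⟶ G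
and a morphism T' ⟶ H making the square commute. Then for every point t of T' there exist an affine
scheme U', an etale morphism U' ⟶ T' whose image contains t, and a morphism U' ⟶ G lying over T' ⟶ H
whose restriction to T ×_{T'} U' agrees with the given T ⟶ G (stated for every scheme V mapping
compatibly to T and U'). (The published statement is for transformations of arbitrary presheaves of
sets on (Sch/S)_fppf; this row takes fppf sheaves, the case of algebraic spaces.) -/
theorem result {S : Scheme.{u}} {F G H : AlgSp.Sp S} (a : F ⟶ G)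
    (b : G ⟶ H) (ha : AlgSp.RepWith @Etale a) (ha' : AlgSp.RepWith @Surjective a)
    (hab : AlgSp.IsFormallySmoothMor (a ≫ b)) (sq : AlgSp.InfSq b) (t : ↥sq.ptT'.left) :
    ∃ (U' : Over S) (g : U' ⟶ sq.ptT') (l : (AlgSp.yon S).obj U' ⟶ G),
      IsAffine U'.left ∧ Etale g.left ∧ (∃ u : ↥U'.left, g.left u = t) ∧
        l ≫ b = (AlgSp.yon S).map g ≫ sq.bot ∧
          ∀ (V : Over S) (p : V ⟶ sq.ptT) (q : V ⟶ U'), p ≫ sq.j = q ≫ g →
            (AlgSp.yon S).map q ≫ l = (AlgSp.yon S).map p ≫ sq.top := by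
  have hr := ha.rep
  have sqW := hr.isPullback sq.top
  have hE : Etale (hr.snd sq.top).left := ha.property _ _ _ sqW
  have hSj : Surjective (hr.snd sq.top).left := ha'.property _ _ _ sqW
  obtain ⟨K, C, instC, φ, u, hφE, hu, hsurj, hctE, hsurj₀⟩ :=
    Groth.Agent.H19.Inf.exists_etale_cover sq.I sq.sq_zero sq.str (hr.snd sq.top) hE hSj
  letI : ∀ k, CommRing (C k) := instC
  obtain ⟨k, y, hy⟩ := hsurj t
  have htopa : ((AlgSp.yon S).map (u k) ≫ hr.fst sq.top) ≫ a =
      (AlgSp.yon S).map (Groth.Agent.H19.Inf.ct sq.I sq.str (φ k)) ≫ sq.top := by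
    calc ((AlgSp.yon S).map (u k) ≫ hr.fst sq.top) ≫ a
        = (AlgSp.yon S).map (u k) ≫ hr.fst sq.top ≫ a := Category.assoc _ _ _
      _ = (AlgSp.yon S).map (u k) ≫ (AlgSp.yon S).map (hr.snd sq.top) ≫ sq.top := by rw [sqW.w]
      _ = ((AlgSp.yon S).map (u k) ≫ (AlgSp.yon S).map (hr.snd sq.top)) ≫ sq.top :=
          (Category.assoc _ _ _).symm
      _ = (AlgSp.yon S).map (Groth.Agent.H19.Inf.ct sq.I sq.str (φ k)) ≫ sq.top := by
          rw [← CategoryTheory.Functor.map_comp, hu k]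
  have hcj : (AlgSp.yon S).map (Groth.Agent.H19.Inf.ct sq.I sq.str (φ k)) ≫ (AlgSp.yon S).map sq.j =
      (AlgSp.yon S).map (Groth.Agent.H19.Inf.jOver (sq.I.map (φ k))
        (Spec.map (CommRingCat.ofHom (φ k)) ≫ sq.str)) ≫
        (AlgSp.yon S).map (Groth.Agent.H19.Inf.cg sq.str (φ k)) := by
    rw [← CategoryTheory.Functor.map_comp, ← CategoryTheory.Functor.map_comp]
    exact congrArg (fun x => (AlgSp.yon S).map x) (Groth.Agent.H19.Inf.ct_comm sq.I sq.str (φ k))
  obtain ⟨l, hl1, hl2⟩ := Groth.Agent.H19.Inf.lift_exists_spec hab (sq.I.map (φ k))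
    (Groth.Agent.H19.Inf.map_sq_zero sq.I sq.sq_zero (φ k))
    (Spec.map (CommRingCat.ofHom (φ k)) ≫ sq.str)
    ((AlgSp.yon S).map (u k) ≫ hr.fst sq.top)
    ((AlgSp.yon S).map (Groth.Agent.H19.Inf.cg sq.str (φ k)) ≫ sq.bot) (by
      calc ((AlgSp.yon S).map (u k) ≫ hr.fst sq.top) ≫ a ≫ b
          = (((AlgSp.yon S).map (u k) ≫ hr.fst sq.top) ≫ a) ≫ b := (Category.assoc _ _ _).symm
        _ = ((AlgSp.yon S).map (Groth.Agent.H19.Inf.ct sq.I sq.str (φ k)) ≫ sq.top) ≫ b := by
            rw [htopa]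
        _ = (AlgSp.yon S).map (Groth.Agent.H19.Inf.ct sq.I sq.str (φ k)) ≫ sq.top ≫ b :=
            Category.assoc _ _ _
        _ = (AlgSp.yon S).map (Groth.Agent.H19.Inf.ct sq.I sq.str (φ k)) ≫
              (AlgSp.yon S).map sq.j ≫ sq.bot := by rw [sq.comm]
        _ = ((AlgSp.yon S).map (Groth.Agent.H19.Inf.ct sq.I sq.str (φ k)) ≫
              (AlgSp.yon S).map sq.j) ≫ sq.bot := (Category.assoc _ _ _).symm
        _ = ((AlgSp.yon S).map (Groth.Agent.H19.Inf.jOver (sq.I.map (φ k))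
              (Spec.map (CommRingCat.ofHom (φ k)) ≫ sq.str)) ≫
              (AlgSp.yon S).map (Groth.Agent.H19.Inf.cg sq.str (φ k))) ≫ sq.bot := by rw [hcj]
        _ = _ := Category.assoc _ _ _)
  refine ⟨Groth.Agent.H19.Inf.cV sq.str (φ k), Groth.Agent.H19.Inf.cg sq.str (φ k), l ≫ a,
    inferInstanceAs (IsAffine (Spec (.of (C k)))), hφE k, ⟨y, hy⟩, ?_, ?_⟩
  · exact (Category.assoc _ _ _).trans hl2
  · intro V p q hpq
    obtain ⟨r, hr1, hr2⟩ := Groth.Agent.H19.Inf.bc_factor sq.I sq.str (φ k) p q hpq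
    calc (AlgSp.yon S).map q ≫ l ≫ a
        = (AlgSp.yon S).map (r ≫ Groth.Agent.H19.Inf.jOver (sq.I.map (φ k))
            (Spec.map (CommRingCat.ofHom (φ k)) ≫ sq.str)) ≫ l ≫ a := by rw [hr1]
      _ = (AlgSp.yon S).map r ≫ ((AlgSp.yon S).map (Groth.Agent.H19.Inf.jOver (sq.I.map (φ k))
            (Spec.map (CommRingCat.ofHom (φ k)) ≫ sq.str)) ≫ l) ≫ a := by
          rw [CategoryTheory.Functor.map_comp]; simp only [Category.assoc]
      _ = (AlgSp.yon S).map r ≫ ((AlgSp.yon S).map (u k) ≫ hr.fst sq.top) ≫ a := by rw [hl1]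
      _ = (AlgSp.yon S).map r ≫ (AlgSp.yon S).map (Groth.Agent.H19.Inf.ct sq.I sq.str (φ k)) ≫
            sq.top := by rw [htopa]
      _ = (AlgSp.yon S).map (r ≫ Groth.Agent.H19.Inf.ct sq.I sq.str (φ k)) ≫ sq.top := by
          rw [CategoryTheory.Functor.map_comp, Category.assoc]
      _ = (AlgSp.yon S).map p ≫ sq.top := by rw [hr2]

end Groth.Agent.S12195
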