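import Groth.Statements.S12205
import Groth.Agent.H10.TorZeroBridge

set_option autoImplicit false
universe u
open CategoryTheory
open scoped TensorProduct
open CAlg

namespace Groth.Agent.S12205

/-- Let I be an ideal of a commutative ring R and M an R-module such that M/IM is flat over R/I and
Tor_1^R(R/I, M) = 0. Then Tor_1^R(N, M) = 0 for every R-module N annihilated by I^m for some m ≥ 0.
Here Tor_1^R(N, M) is the first left derived functor of N ⊗_R − evaluated at M. -/
theorem result (R : Type u) [CommRing R] (I : Ideal R) (M : Type u)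
    [AddCommGroup M] [Module R M] [Module.Flat (R ⧸ I) ((R ⧸ I) ⊗[R] M)]
    (h : Limits.IsZero (((CategoryTheory.Tor (ModuleCat.{u} R) 1).obj (ModuleCat.of R (R ⧸ I))).obj (ModuleCat.of R M)))
    (N : Type u) [AddCommGroup N] [Module R N] (m : ℕ) (hN : ∀ a : R, a ∈ I ^ m → ∀ x : N, a • x = 0) :
    Limits.IsZero (((CategoryTheory.Tor (ModuleCat.{u} R) 1).obj (ModuleCat.of R N)).obj (ModuleCat.of R M)) := by
  rw [← Groth.Agent.H10.TorZeroBridge.torZero_iff_isZero] at h ⊢
  have key : ∀ (m : ℕ) (N : Type u) [AddCommGroup N] [Module R N],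
      (∀ a : R, a ∈ I ^ m → ∀ x : N, a • x = 0) →
        Groth.Agent.H10.FlatDescent.TorZero (R := R) N M := by
    intro m
    induction m with
    | zero =>
      intro N _ _ hN
      have hsub : Subsingleton N := ⟨fun a b => by
        rw [← one_smul R a, ← one_smul R b, hN 1 (by simp), hN 1 (by simp)]⟩
      rw [Groth.Agent.H10.FlatDescent.torZero_iff]
      intro x y _
      exact Subsingleton.elim _ _
    | succ m ih =>
      intro N _ _ hN
      let N₁ : Submodule R N := I • (⊤ : Submodule R N)
      have h₁ : Groth.Agent.H10.FlatDescent.TorZero (R := R) N₁ M := by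
        apply ih
        intro a ha x
        apply Subtype.ext
        change a • (x : N) = 0
        have hx : (x : N) ∈ I • (⊤ : Submodule R N) := x.2
        refine Submodule.smul_induction_on (p := fun y => a • y = 0) hx ?_ ?_
        · intro b hb y _
          rw [← mul_smul]
          exact hN _ (by rw [pow_succ]; exact Ideal.mul_mem_mul ha hb) y
        · intro y z hy hz
          rw [smul_add, hy, hz, add_zero]
      have h₃ : Groth.Agent.H10.FlatDescent.TorZero (R := R) (N ⧸ N₁) M :=
        Groth.Agent.H10.FlatDescent.TorZero.of_algebra (R ⧸ I) h inferInstance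
      exact Groth.Agent.H10.FlatDescent.TorZero.of_exact h₁ h₃ N₁.subtype N₁.mkQ
        (Submodule.subtype_injective _) (Submodule.mkQ_surjective _)
        (LinearMap.exact_subtype_mkQ N₁)
  exact key m N hN

end Groth.Agent.S12205
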