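import Groth.Statements.S12208
import Groth.Agent.H99.NoetherInt
import Groth.Agent.H54.IntegralDim

set_option autoImplicit false
universe u
open CAlg

namespace Groth.Agent.S12208

/-- Let k be a field and S = k[x_1, …, x_n]/I with I a proper ideal. Then there exist r ≥ 0 and elements
y_1, …, y_r of k[x_1, …, x_n] lying in the subring generated by x_1, …, x_n (polynomials with
integer coefficients) such that the k-algebra map from the polynomial ring k[t_1, …, t_r] to S
sending t_i to the class of y_i is injective and finite; and for any r ≥ 0 and any y_1, …, y_r in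
k[x_1, …, x_n] (with or without the integer-coefficient condition) for which that map is injective
and finite, r is the Krull dimension of S. -/
theorem result (k : Type u) [Field k] (n : ℕ) (I : Ideal (MvPolynomial (Fin n) k))
    (hI : I ≠ ⊤) :
    (∃ (r : ℕ) (y : Fin r → MvPolynomial (Fin n) k),
      (∀ i, y i ∈ Set.range (MvPolynomial.map (Int.castRingHom k) : MvPolynomial (Fin n) ℤ → MvPolynomial (Fin n) k)) ∧
      Function.Injective ((Ideal.Quotient.mkₐ k I).comp (MvPolynomial.aeval y)) ∧
      ((Ideal.Quotient.mkₐ k I).comp (MvPolynomial.aeval y)).toRingHom.Finite) ∧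
    ∀ (r : ℕ) (y : Fin r → MvPolynomial (Fin n) k),
      Function.Injective ((Ideal.Quotient.mkₐ k I).comp (MvPolynomial.aeval y)) →
      ((Ideal.Quotient.mkₐ k I).comp (MvPolynomial.aeval y)).toRingHom.Finite →
      ringKrullDim (MvPolynomial (Fin n) k ⧸ I) = r := by
  have hS : Nontrivial (MvPolynomial (Fin n) k ⧸ I) := Ideal.Quotient.nontrivial_iff.mpr hI
  refine ⟨?_, ?_⟩
  · obtain ⟨s, -, y0, hinj, hint⟩ := Groth.Agent.H99.NoetherInt.exists_int_normalization I hI
    refine ⟨s, fun i => MvPolynomial.map (Int.castRingHom k) (y0 i), fun i => ⟨y0 i, rfl⟩, hinj, ?_⟩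
    refine RingHom.IsIntegral.to_finite hint ?_
    have hft : (algebraMap k (MvPolynomial (Fin n) k ⧸ I)).FiniteType :=
      RingHom.finiteType_algebraMap.mpr inferInstance
    have hcomp : algebraMap k (MvPolynomial (Fin n) k ⧸ I) =
        (((Ideal.Quotient.mkₐ k I).comp (MvPolynomial.aeval fun i =>
          MvPolynomial.map (Int.castRingHom k) (y0 i))).toRingHom).comp
          (algebraMap k (MvPolynomial (Fin s) k)) := by
      ext a
      exact (AlgHom.commutes ((Ideal.Quotient.mkₐ k I).comp (MvPolynomial.aeval fun i =>
          MvPolynomial.map (Int.castRingHom k) (y0 i))) a).symm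
    rw [hcomp] at hft
    exact hft.of_comp_finiteType
  · intro r y hinj hfin
    have h1 : ringKrullDim (MvPolynomial (Fin n) k ⧸ I) = ringKrullDim (MvPolynomial (Fin r) k) :=
      Groth.Agent.H54.ringKrullDim_eq_of_ringHom_isIntegral_of_injective
        ((Ideal.Quotient.mkₐ k I).comp (MvPolynomial.aeval y)).toRingHom hfin.to_isIntegral hinj
    rw [h1, Groth.Agent.H54.ringKrullDim_mvPolynomial_field]

end Groth.Agent.S12208
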