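import Groth.Statements.S12209
import Mathlib.RingTheory.Flat.EquationalCriterion
import Mathlib.Order.Directed

set_option autoImplicit false
universe u
open CAlg

namespace Groth.Agent.S12209

/-- Let (R_i) be a system of commutative rings over a nonempty directed preorder, with colimit R, and
let M be an R-module which is flat as an R_i-module for every i (the R_i-module structure being
restriction of scalars along R_i → R). Then M is flat as an R-module. -/
theorem result {ι : Type u} [Preorder ι] [Nonempty ι] [IsDirectedOrder ι]
    (G : ι → Type u) [∀ i, CommRing (G i)] (f : ∀ i j, i ≤ j → G i →+* G j)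
    [DirectedSystem G fun i j h => f i j h]
    (M : Type u) [AddCommGroup M] [Module (Ring.DirectLimit G fun i j h => f i j h) M]
    (hflat : ∀ i, letI : Module (G i) M := Module.compHom M (Ring.DirectLimit.of G (fun i j h => f i j h) i);
      Module.Flat (G i) M) :
    Module.Flat (Ring.DirectLimit G fun i j h => f i j h) M := by
  rw [Module.Flat.iff_forall_isTrivialRelation]
  intro l g x hgx
  -- lift the coefficients to a common stage
  have hex : ∀ j : Fin l, ∃ (i : ι) (y : G i), Ring.DirectLimit.of G (fun i j h => f i j h) i y = g j :=
    fun j => Ring.DirectLimit.exists_of (g j)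
  choose idx y hy using hex
  obtain ⟨i, hi⟩ := Finite.exists_le idx
  let g' : Fin l → G i := fun j => f (idx j) i (hi j) (y j)
  have hg' : ∀ j, Ring.DirectLimit.of G (fun i j h => f i j h) i (g' j) = g j := by
    intro j
    rw [← hy j]
    exact Ring.DirectLimit.of_f (f := fun i j h => f i j h) (hi j) (y j)
  letI : Module (G i) M := Module.compHom M (Ring.DirectLimit.of G (fun i j h => f i j h) i)
  have hfl : Module.Flat (G i) M := hflat i
  have hsum : ∑ j, g' j • x j = 0 := by
    rw [← hgx]
    refine Finset.sum_congr rfl fun j _ => ?_
    change Ring.DirectLimit.of G (fun i j h => f i j h) i (g' j) • x j = g j • x j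
    rw [hg' j]
  obtain ⟨k, a, z, hxa, hga⟩ := Module.Flat.isTrivialRelation_of_sum_smul_eq_zero hsum
  refine ⟨k, fun j m => Ring.DirectLimit.of G (fun i j h => f i j h) i (a j m), z, ?_, ?_⟩
  · intro j
    rw [hxa j]
    rfl
  · intro m
    have := congrArg (Ring.DirectLimit.of G (fun i j h => f i j h) i) (hga m)
    rw [map_sum, map_zero] at this
    rw [← this]
    refine Finset.sum_congr rfl fun j _ => ?_
    rw [map_mul, hg' j]

end Groth.Agent.S12209
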