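import Groth.Statements.S12211
import Groth.Agent.H17.HS.Samuel

set_option autoImplicit false
universe u
open IntMult
open Groth.Agent.H17

namespace Groth.Agent.S12211

/-- Suppose A is a local Noetherian ring and I ⊆ A is an ideal of definition. Given a short exact
sequence 0 → M' → M → M'' → 0 of finite A-modules and a number d with dim Supp(M) ≤ d, we have
e_I(M, d) = e_I(M', d) + e_I(M'', d), where e_I(N, d) denotes the limit as t → ∞ of d! ·
length_A(N/I^t N)/t^d. Concretely: whenever these limits for M' and M'' exist and equal e' and e'',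
the corresponding limit for M exists and equals e' + e''. -/
theorem result (A : Type u) [CommRing A] [IsNoetherianRing A] [IsLocalRing A]
    (I : Ideal A) (hI : I ≤ IsLocalRing.maximalIdeal A ∧ ∃ n : ℕ, IsLocalRing.maximalIdeal A ^ n ≤ I)
    {M' M M'' : Type u} [AddCommGroup M'] [Module A M'] [AddCommGroup M] [Module A M]
    [AddCommGroup M''] [Module A M''] [Module.Finite A M'] [Module.Finite A M] [Module.Finite A M'']
    (f : M' →ₗ[A] M) (g : M →ₗ[A] M'') (hf : Function.Injective f) (hg : Function.Surjective g)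
    (hfg : LinearMap.range f = LinearMap.ker g)
    (d : ℕ) (hd : Module.supportDim A M ≤ d) (e' e'' : ℝ)
    (h' : Filter.Tendsto (fun t : ℕ => (d.factorial : ℝ) * ((Module.length A (M' ⧸ (I ^ t • (⊤ : Submodule A M')))).toNat : ℝ) / (t : ℝ) ^ d) Filter.atTop (nhds e'))
    (h'' : Filter.Tendsto (fun t : ℕ => (d.factorial : ℝ) * ((Module.length A (M'' ⧸ (I ^ t • (⊤ : Submodule A M'')))).toNat : ℝ) / (t : ℝ) ^ d) Filter.atTop (nhds e'')) :
    Filter.Tendsto (fun t : ℕ => (d.factorial : ℝ) * ((Module.length A (M ⧸ (I ^ t • (⊤ : Submodule A M)))).toNat : ℝ) / (t : ℝ) ^ d) Filter.atTop (nhds (e' + e'')) := by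
  classical
  obtain ⟨hIm, k, hk⟩ := hI
  have hfinN : ∀ (N : Type u) [AddCommGroup N] [Module A N] [Module.Finite A N] (t : ℕ),
      HS.colen (I ^ t • (⊤ : Submodule A N)) ≠ ⊤ := by
    intro N _ _ _ t
    apply HS.colen_pow_smul_top_ne_top I N
    apply Groth.Agent.S3406.krullDim_le_zero_of_forall_isMaximal
    rintro P ⟨-, hP⟩
    have hIP : I ≤ P.asIdeal := (PrimeSpectrum.mem_zeroLocus _ _).mp hP
    have hmP : IsLocalRing.maximalIdeal A ≤ P.asIdeal :=
      Ideal.IsPrime.le_of_pow_le (hP := P.2) (hk.trans hIP)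
    have hE : IsLocalRing.maximalIdeal A = P.asIdeal :=
      (IsLocalRing.maximalIdeal.isMaximal A).eq_of_le P.2.ne_top hmP
    exact hE ▸ IsLocalRing.maximalIdeal.isMaximal A
  obtain ⟨c, hc⟩ := HS.exists_comap_pow_smul_top_le I f hf
  have h0 : HS.colen (⊤ : Submodule A M'') = 0 := by
    unfold HS.colen
    exact Module.length_eq_zero_iff.mpr (Submodule.Quotient.subsingleton_iff.mpr rfl)
  have key : ∀ t, c ≤ t →
      HS.samuel I M'' t + HS.samuel I M' (t - c) ≤ HS.samuel I M t ∧
        HS.samuel I M t ≤ HS.samuel I M'' t + HS.samuel I M' t := by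
    intro t ht
    have h1 := HS.colen_eq_add f (I ^ t • (⊤ : Submodule A M))
    have hrg : LinearMap.range g = ⊤ := LinearMap.range_eq_top.mpr hg
    have hmap : (I ^ t • (⊤ : Submodule A M)).map g = I ^ t • (⊤ : Submodule A M'') := by
      rw [Submodule.map_smul'', Submodule.map_top, hrg]
    have h2 : HS.colen (I ^ t • (⊤ : Submodule A M'')) =
        HS.colen (I ^ t • (⊤ : Submodule A M) ⊔ LinearMap.range f) := by
      have h3 := HS.colen_eq_add g (I ^ t • (⊤ : Submodule A M''))
      rw [hrg, sup_top_eq, h0, add_zero] at h3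
      rw [h3, ← hmap, Submodule.comap_map_eq, hfg]
    set X := HS.colen ((I ^ t • (⊤ : Submodule A M)).comap f) with hX
    have h3 : HS.colen (I ^ (t - c) • (⊤ : Submodule A M')) ≤ X := HS.colen_anti (hc t ht)
    have h4 : X ≤ HS.colen (I ^ t • (⊤ : Submodule A M')) := HS.colen_anti (by
      rw [← Submodule.map_le_iff_le_comap, Submodule.map_smul'', Submodule.map_top]
      exact Submodule.smul_mono le_rfl le_top)
    rw [← h2] at h1
    unfold HS.samuel HS.cn
    constructor
    · rw [← ENat.toNat_add (hfinN M'' t) (hfinN M' (t - c))]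
      apply ENat.toNat_le_toNat _ (hfinN M t)
      rw [h1, add_comm X]
      gcongr
    · rw [← ENat.toNat_add (hfinN M'' t) (hfinN M' t)]
      apply ENat.toNat_le_toNat _ (by simp [hfinN M'' t, hfinN M' t])
      rw [h1, add_comm X]
      gcongr
  have h1' : Filter.Tendsto (fun t : ℕ => (d.factorial : ℝ) * (HS.samuel I M' t : ℝ) / (t : ℝ) ^ d)
      Filter.atTop (nhds e') := h'
  have h1'' : Filter.Tendsto (fun t : ℕ => (d.factorial : ℝ) * (HS.samuel I M'' t : ℝ) / (t : ℝ) ^ d)
      Filter.atTop (nhds e'') := h''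
  have hρ : Filter.Tendsto (fun t : ℕ => (((t - c : ℕ) : ℝ) / (t : ℝ)) ^ d) Filter.atTop (nhds 1) := by
    have ha : Filter.Tendsto (fun t : ℕ => (1 : ℝ) - (c : ℝ) / (t : ℝ)) Filter.atTop (nhds (1 - 0)) :=
      tendsto_const_nhds.sub (tendsto_const_div_atTop_nhds_zero_nat (c : ℝ))
    have hb : Filter.Tendsto (fun t : ℕ => (((t - c : ℕ) : ℝ) / (t : ℝ))) Filter.atTop (nhds 1) := by
      rw [sub_zero] at ha
      refine ha.congr' ?_
      filter_upwards [Filter.eventually_ge_atTop (c + 1)] with t ht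
      have ht0 : (t : ℝ) ≠ 0 := Nat.cast_ne_zero.mpr (by omega)
      rw [Nat.cast_sub (by omega : c ≤ t)]
      field_simp
    simpa using hb.pow d
  have hshift : Filter.Tendsto (fun t : ℕ => (d.factorial : ℝ) * (HS.samuel I M' (t - c) : ℝ) /
      (((t - c : ℕ) : ℝ)) ^ d) Filter.atTop (nhds e') :=
    h1'.comp (Filter.tendsto_sub_atTop_nat c)
  have hL : Filter.Tendsto (fun t : ℕ => (d.factorial : ℝ) * (HS.samuel I M'' t : ℝ) / (t : ℝ) ^ d +
      (d.factorial : ℝ) * (HS.samuel I M' (t - c) : ℝ) / (((t - c : ℕ) : ℝ)) ^ d *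
        (((t - c : ℕ) : ℝ) / (t : ℝ)) ^ d) Filter.atTop (nhds (e'' + e')) := by
    have := h1''.add (hshift.mul hρ)
    rwa [mul_one] at this
  have hU : Filter.Tendsto (fun t : ℕ => (d.factorial : ℝ) * (HS.samuel I M'' t : ℝ) / (t : ℝ) ^ d +
      (d.factorial : ℝ) * (HS.samuel I M' t : ℝ) / (t : ℝ) ^ d) Filter.atTop (nhds (e'' + e')) :=
    h1''.add h1'
  have hfinal : Filter.Tendsto (fun t : ℕ => (d.factorial : ℝ) * (HS.samuel I M t : ℝ) / (t : ℝ) ^ d)
      Filter.atTop (nhds (e'' + e')) := by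
    refine tendsto_of_tendsto_of_tendsto_of_le_of_le' hL hU ?_ ?_
    · filter_upwards [Filter.eventually_ge_atTop (c + 1)] with t ht
      have hk := (key t (by omega)).1
      have htc : ((t - c : ℕ) : ℝ) ≠ 0 := Nat.cast_ne_zero.mpr (by omega)
      have ht0 : (t : ℝ) ≠ 0 := Nat.cast_ne_zero.mpr (by omega)
      have hid : (d.factorial : ℝ) * (HS.samuel I M' (t - c) : ℝ) / ((t - c : ℕ) : ℝ) ^ d *
          (((t - c : ℕ) : ℝ) / (t : ℝ)) ^ d =
          (d.factorial : ℝ) * (HS.samuel I M' (t - c) : ℝ) / (t : ℝ) ^ d := by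
        rw [div_pow]
        field_simp
      rw [hid, ← add_div, ← mul_add]
      have hk' : (HS.samuel I M'' t : ℝ) + (HS.samuel I M' (t - c) : ℝ) ≤ (HS.samuel I M t : ℝ) := by
        exact_mod_cast hk
      gcongr
    · filter_upwards [Filter.eventually_ge_atTop c] with t ht
      have hk := (key t ht).2
      rw [← add_div, ← mul_add]
      have hk' : (HS.samuel I M t : ℝ) ≤ (HS.samuel I M'' t : ℝ) + (HS.samuel I M' t : ℝ) := by
        exact_mod_cast hk
      gcongr
  rw [add_comm e' e'']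
  exact hfinal

end Groth.Agent.S12211
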