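import Groth.Statements.S12212
import Groth.Agent.H17.HS.Assoc
import Groth.Agent.S12211

set_option autoImplicit false
universe u
open IntMult

namespace Groth.Agent.S12212

open Groth.Agent.H17.HS Filter Topology

section
variable {A : Type u} [CommRing A] [IsNoetherianRing A] [IsLocalRing A]

/-- The sum over the primes `p` with `dim A/p = d` of `ℓ(N_p) · e(p)`. -/
noncomputable def assocSum (d : ℕ) (e : PrimeSpectrum A → ℝ) (N : Type u) [AddCommGroup N]
    [Module A N] : ℝ :=
  ∑ᶠ p ∈ {p : PrimeSpectrum A | ringKrullDim (A ⧸ p.asIdeal) = d},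
    ((locLen p.asIdeal N).toNat : ℝ) * e p

/-- The inductive statement: finitely many top-dimensional primes in the support, finite lengths
there, and the limit formula. -/
def Good (I : Ideal A) (d : ℕ) (e : PrimeSpectrum A → ℝ) (N : Type u) [AddCommGroup N]
    [Module A N] : Prop :=
  {p : PrimeSpectrum A | ringKrullDim (A ⧸ p.asIdeal) = d ∧ locLen p.asIdeal N ≠ 0}.Finite ∧
  (∀ p : PrimeSpectrum A, ringKrullDim (A ⧸ p.asIdeal) = d → locLen p.asIdeal N ≠ ⊤) ∧
  Tendsto (fun t : ℕ => (d.factorial : ℝ) * (samuel I N t : ℝ) / (t : ℝ) ^ d) atTop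
    (𝓝 (assocSum d e N))

theorem good_subsingleton (I : Ideal A) (d : ℕ) (e : PrimeSpectrum A → ℝ) (N : Type u)
    [AddCommGroup N] [Module A N] [Subsingleton N] : Good I d e N := by
  have h0 : ∀ p : PrimeSpectrum A, locLen p.asIdeal N = 0 :=
    fun p => locLen_of_subsingleton _ N
  refine ⟨Set.finite_empty.subset (fun p hp => (hp.2 (h0 p)).elim),
    fun p _ => by rw [h0 p]; simp, ?_⟩
  have hsum : assocSum d e N = 0 := by
    unfold assocSum
    exact finsum_mem_eq_zero_of_forall_eq_zero (fun p _ => by rw [h0 p]; simp)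
  have hs : ∀ t, samuel I N t = 0 := by
    intro t
    have htop : I ^ t • (⊤ : Submodule A N) = ⊤ :=
      eq_top_iff.mpr (fun x _ => by rw [Subsingleton.elim x 0]; exact Submodule.zero_mem _)
    unfold samuel cn
    rw [htop, colen_top]
    simp
  rw [hsum]
  simp only [hs, Nat.cast_zero, mul_zero, zero_div]
  exact tendsto_const_nhds

theorem good_quot (I : Ideal A) {k : ℕ} (hk : IsLocalRing.maximalIdeal A ^ k ≤ I) (d : ℕ)
    (e : PrimeSpectrum A → ℝ) (q : PrimeSpectrum A)
    (hq : ringKrullDim (A ⧸ q.asIdeal) ≤ d)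
    (he : ringKrullDim (A ⧸ q.asIdeal) = d →
      Tendsto (fun t : ℕ => (d.factorial : ℝ) * (samuel I (A ⧸ q.asIdeal) t : ℝ) / (t : ℝ) ^ d)
        atTop (𝓝 (e q))) :
    Good I d e (A ⧸ q.asIdeal) := by
  have hne : ∀ p : PrimeSpectrum A, ringKrullDim (A ⧸ p.asIdeal) = d → p ≠ q →
      locLen p.asIdeal (A ⧸ q.asIdeal) = 0 := by
    intro p hp hpq
    apply locLen_quotient_eq_zero
    intro hle
    exact hpq (PrimeSpectrum.ext (eq_of_le_of_ringKrullDim hle hq hp)).symm
  have hself : locLen q.asIdeal (A ⧸ q.asIdeal) = 1 := locLen_quotient_self q.asIdeal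
  by_cases hqd : ringKrullDim (A ⧸ q.asIdeal) = d
  · refine ⟨(Set.finite_singleton q).subset ?_, ?_, ?_⟩
    · rintro p ⟨hp, hp0⟩
      by_contra hpq
      exact hp0 (hne p hp hpq)
    · intro p hp
      by_cases hpq : p = q
      · rw [hpq, hself]
        simp
      · rw [hne p hp hpq]
        simp
    · have hsum : assocSum d e (A ⧸ q.asIdeal) = e q := by
        unfold assocSum
        rw [finsum_mem_inter_support_eq _ _ ({q} : Set (PrimeSpectrum A)) ?_,
          finsum_mem_singleton, hself]
        · simp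
        · ext p
          simp only [Set.mem_inter_iff, Set.mem_setOf_eq, Function.mem_support,
            Set.mem_singleton_iff]
          constructor
          · rintro ⟨hp, hp0⟩
            refine ⟨?_, hp0⟩
            by_contra hpq
            exact hp0 (by rw [hne p hp hpq]; simp)
          · rintro ⟨rfl, hp0⟩
            exact ⟨hqd, hp0⟩
      rw [hsum]
      exact he hqd
  · have hzero : ∀ p : PrimeSpectrum A, ringKrullDim (A ⧸ p.asIdeal) = d →
        locLen p.asIdeal (A ⧸ q.asIdeal) = 0 := by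
      intro p hp
      exact hne p hp (fun hpq => hqd (hpq ▸ hp))
    refine ⟨Set.finite_empty.subset (fun p hp => (hp.2 (hzero p hp.1)).elim),
      fun p hp => by rw [hzero p hp]; simp, ?_⟩
    have hsum : assocSum d e (A ⧸ q.asIdeal) = 0 := by
      unfold assocSum
      exact finsum_mem_eq_zero_of_forall_eq_zero (fun p hp => by rw [hzero p hp]; simp)
    rw [hsum]
    obtain ⟨P, hP, hPdeg⟩ := exists_samuelPoly_of_primary hk (A ⧸ q.asIdeal)
    have hD : Module.supportDim A (A ⧸ q.asIdeal) = ringKrullDim (A ⧸ q.asIdeal) :=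
      Module.supportDim_quotient_eq_ringKrullDim _
    obtain ⟨d', rfl, hd'⟩ := exists_succ_of_lt_natCast ringKrullDim_nonneg_of_nontrivial hq hqd
    exact tendsto_zero_of_natDegree_lt hP
      (Nat.lt_succ_of_le (hPdeg d' (by rw [hD]; exact hd')))

theorem good_exact (I : Ideal A)
    (hI : I ≤ IsLocalRing.maximalIdeal A ∧ ∃ n : ℕ, IsLocalRing.maximalIdeal A ^ n ≤ I) (d : ℕ)
    (e : PrimeSpectrum A → ℝ) {N₁ N₂ N₃ : Type u}
    [AddCommGroup N₁] [Module A N₁] [Module.Finite A N₁]
    [AddCommGroup N₂] [Module A N₂] [Module.Finite A N₂]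
    [AddCommGroup N₃] [Module A N₃] [Module.Finite A N₃]
    (f : N₁ →ₗ[A] N₂) (g : N₂ →ₗ[A] N₃) (hf : Function.Injective f)
    (hg : Function.Surjective g) (hfg : Function.Exact f g)
    (hd : Module.supportDim A N₂ ≤ d) (h₁ : Good I d e N₁) (h₃ : Good I d e N₃) :
    Good I d e N₂ := by
  obtain ⟨a₁, b₁, c₁⟩ := h₁
  obtain ⟨a₃, b₃, c₃⟩ := h₃
  have hadd : ∀ p : PrimeSpectrum A,
      locLen p.asIdeal N₂ = locLen p.asIdeal N₁ + locLen p.asIdeal N₃ :=
    fun p => locLen_exact p.asIdeal f g hf hg hfg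
  refine ⟨(a₁.union a₃).subset ?_, ?_, ?_⟩
  · rintro p ⟨hp, hp0⟩
    by_cases h1 : locLen p.asIdeal N₁ = 0
    · right
      refine ⟨hp, fun h3 => hp0 ?_⟩
      rw [hadd, h1, h3, add_zero]
    · left
      exact ⟨hp, h1⟩
  · intro p hp
    rw [hadd]
    exact WithTop.add_ne_top.mpr ⟨b₁ p hp, b₃ p hp⟩
  · have hfin1 : ({p : PrimeSpectrum A | ringKrullDim (A ⧸ p.asIdeal) = d} ∩
        Function.support fun p : PrimeSpectrum A =>
          ((locLen p.asIdeal N₁).toNat : ℝ) * e p).Finite := by
      refine a₁.subset ?_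
      rintro p ⟨hp, hp0⟩
      refine ⟨hp, fun h0 => hp0 ?_⟩
      simp [h0]
    have hfin3 : ({p : PrimeSpectrum A | ringKrullDim (A ⧸ p.asIdeal) = d} ∩
        Function.support fun p : PrimeSpectrum A =>
          ((locLen p.asIdeal N₃).toNat : ℝ) * e p).Finite := by
      refine a₃.subset ?_
      rintro p ⟨hp, hp0⟩
      refine ⟨hp, fun h0 => hp0 ?_⟩
      simp [h0]
    have hsum : assocSum d e N₂ = assocSum d e N₁ + assocSum d e N₃ := by
      unfold assocSum
      refine Eq.trans ?_ (finsum_mem_add_distrib' hfin1 hfin3)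
      refine finsum_mem_congr rfl (fun p hp => ?_)
      beta_reduce
      rw [hadd, ENat.toNat_add (b₁ p hp) (b₃ p hp)]
      push_cast
      ring
    rw [hsum]
    exact Groth.Agent.S12211.result A I hI f g hf hg (LinearMap.exact_iff.mp hfg).symm d hd _ _
      c₁ c₃

end

/-- The full inductive statement for every finite module of dimension at most `d`. -/
theorem good_all (A : Type u) [CommRing A] [IsNoetherianRing A] [IsLocalRing A]
    (I : Ideal A) (hI : I ≤ IsLocalRing.maximalIdeal A ∧ ∃ n : ℕ, IsLocalRing.maximalIdeal A ^ n ≤ I)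
    (M : Type u) [AddCommGroup M] [Module A M] [Module.Finite A M]
    (d : ℕ) (hd : Module.supportDim A M ≤ d) (e : PrimeSpectrum A → ℝ)
    (he : ∀ p : PrimeSpectrum A, ringKrullDim (A ⧸ p.asIdeal) = d →
      Filter.Tendsto (fun t : ℕ => (d.factorial : ℝ) *
        (samuel I (A ⧸ p.asIdeal) t : ℝ) / (t : ℝ) ^ d) Filter.atTop (nhds (e p))) :
    Good I d e M := by
  obtain ⟨k, hk⟩ := hI.2
  have key : Module.supportDim A M ≤ d → Good I d e M := by
    clear hd
    induction ‹Module.Finite A M› using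
      IsNoetherianRing.induction_on_isQuotientEquivQuotientPrime A with
    | subsingleton N =>
      intro _
      exact good_subsingleton I d e N
    | quotient N q eqv =>
      intro hN
      have hq : ringKrullDim (A ⧸ q.asIdeal) ≤ d := by
        rw [← Module.supportDim_quotient_eq_ringKrullDim, ← Module.supportDim_eq_of_equiv eqv]
        exact hN
      have hgq := good_quot I hk d e q hq (fun hqd => he q hqd)
      exact good_exact I hI d e (eqv.symm : (A ⧸ q.asIdeal) →ₗ[A] N) (0 : N →ₗ[A] PUnit.{u + 1})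
        eqv.symm.injective (Function.surjective_to_subsingleton _)
        ((LinearMap.exact_zero_iff_surjective PUnit.{u + 1}
          (eqv.symm : (A ⧸ q.asIdeal) →ₗ[A] N)).2 eqv.symm.surjective)
        hN hgq (good_subsingleton I d e PUnit.{u + 1})
    | exact N₁ N₂ N₃ f g hf hg hfg h₁ h₃ =>
      intro hN₂
      exact good_exact I hI d e f g hf hg hfg hN₂
        (h₁ ((Module.supportDim_le_of_injective f hf).trans hN₂))
        (h₃ ((Module.supportDim_le_of_surjective g hg).trans hN₂))
  exact key hd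

/-- Suppose A is a local Noetherian ring with an ideal of definition I, take M to be a finite A-module,
and fix d with dim Supp(M) ≤ d. Then e_I(M, d) equals Σ_p length_{A_p}(M_p) · e_I(A/p, d), where p
ranges over the primes satisfying dim(A/p) = d (all but finitely many summands vanish); here e_I(N,
d) denotes the limit of d! · length_A(N/I^t N)/t^d, and the formal version says: assuming these
limits e_p exist for the A-modules A/p, the limit attached to M is the sum shown. -/
theorem result (A : Type u) [CommRing A] [IsNoetherianRing A] [IsLocalRing A]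
    (I : Ideal A) (hI : I ≤ IsLocalRing.maximalIdeal A ∧ ∃ n : ℕ, IsLocalRing.maximalIdeal A ^ n ≤ I)
    (M : Type u) [AddCommGroup M] [Module A M] [Module.Finite A M]
    (d : ℕ) (hd : Module.supportDim A M ≤ d) (e : PrimeSpectrum A → ℝ)
    (he : ∀ p : PrimeSpectrum A, ringKrullDim (A ⧸ p.asIdeal) = d →
      Filter.Tendsto (fun t : ℕ => (d.factorial : ℝ) *
        ((Module.length A ((A ⧸ p.asIdeal) ⧸ (I ^ t • (⊤ : Submodule A (A ⧸ p.asIdeal))))).toNat : ℝ) / (t : ℝ) ^ d)
        Filter.atTop (nhds (e p))) :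
    Filter.Tendsto (fun t : ℕ => (d.factorial : ℝ) * ((Module.length A (M ⧸ (I ^ t • (⊤ : Submodule A M)))).toNat : ℝ) / (t : ℝ) ^ d) Filter.atTop
      (nhds (∑ᶠ (p : PrimeSpectrum A) (_ : ringKrullDim (A ⧸ p.asIdeal) = d),
        ((Module.length (Localization.AtPrime p.asIdeal) (LocalizedModule p.asIdeal.primeCompl M)).toNat : ℝ) * e p)) := by
  exact (good_all A I hI M d hd e he).2.2

end Groth.Agent.S12212
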