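import Groth.Statements.S12215
import Groth.Agent.S1578

set_option linter.unusedSectionVars false
set_option linter.unusedVariables false


set_option autoImplicit false
universe u
open CategoryTheory CategoryTheory.Limits AlgebraicGeometry
open Divisors

namespace Groth.Agent.S12215

/-- weakly associated primes and the localization at the prime (abstract form). -/
theorem weakAss_iff_abstract {A : Type u} [CommRing A] {M : Type u} [AddCommGroup M] [Module A M]
    (p : Ideal A) [p.IsPrime] (S : Type u) [CommRing S] [Algebra A S]
    [IsLocalization.AtPrime S p] [IsLocalRing S]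
    (Mp : Type u) [AddCommGroup Mp] [Module A Mp] [Module S Mp] [IsScalarTower A S Mp]
    (φ : M →ₗ[A] Mp) [IsLocalizedModule p.primeCompl φ] :
    p ∈ FlatCA.weakAss A M ↔ ∃ x : Mp,
      Ideal.radical (LinearMap.ker (LinearMap.toSpanSingleton S Mp x)) =
        IsLocalRing.maximalIdeal S := by
  have hcomap : (IsLocalRing.maximalIdeal S).comap (algebraMap A S) = p :=
    IsLocalization.AtPrime.comap_maximalIdeal S p
  have hmemm : ∀ a : A, algebraMap A S a ∈ IsLocalRing.maximalIdeal S ↔ a ∈ p := by
    intro a
    rw [← hcomap]
    rfl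
  have hker : ∀ (x : Mp) (t : S),
      t ∈ LinearMap.ker (LinearMap.toSpanSingleton S Mp x) ↔ t • x = 0 := by
    intro x t
    rw [LinearMap.mem_ker, LinearMap.toSpanSingleton_apply]
  have hzero : ∀ m : M, φ m = 0 ↔ ∃ u : A, u ∉ p ∧ u • m = 0 := by
    intro m
    rw [IsLocalizedModule.eq_zero_iff p.primeCompl φ]
    constructor
    · rintro ⟨u, hu⟩
      exact ⟨u.1, u.2, hu⟩
    · rintro ⟨u, hu, h⟩
      exact ⟨⟨u, hu⟩, h⟩
  constructor
  · rintro ⟨m, hm⟩
    obtain ⟨⟨hpI, hIp⟩, hmin⟩ := hm
    refine ⟨φ m, ?_⟩
    have hJ : ∀ a : A, a ∈ (Submodule.span A {m}).annihilator →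
        algebraMap A S a ∈ LinearMap.ker (LinearMap.toSpanSingleton S Mp (φ m)) := by
      intro a ha
      rw [Submodule.mem_annihilator_span_singleton] at ha
      rw [hker, algebraMap_smul, ← map_smul, ha, map_zero]
    apply le_antisymm
    · refine (Ideal.IsPrime.radical_le_iff (IsLocalRing.maximalIdeal.isMaximal S).isPrime).mpr ?_
      refine IsLocalRing.le_maximalIdeal ?_
      intro htop
      have h1 : (1 : S) ∈ LinearMap.ker (LinearMap.toSpanSingleton S Mp (φ m)) := by
        rw [htop]; trivial
      rw [hker, one_smul, hzero] at h1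
      obtain ⟨u, hu, hum⟩ := h1
      exact hu (hIp ((Submodule.mem_annihilator_span_singleton m u).mpr hum))
    · rw [Ideal.radical_eq_sInf]
      refine le_sInf ?_
      rintro Q ⟨hJQ, hQ⟩
      haveI := hQ
      have hqI : (Submodule.span A {m}).annihilator ≤ Q.comap (algebraMap A S) :=
        fun a ha => hJQ (hJ a ha)
      have hqp : Q.comap (algebraMap A S) ≤ p := by
        rw [← hcomap]
        exact Ideal.comap_mono (IsLocalRing.le_maximalIdeal hQ.ne_top)
      have hpq : p ≤ Q.comap (algebraMap A S) :=
        hmin ⟨Ideal.comap_isPrime _ _, hqI⟩ hqp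
      intro y hy
      obtain ⟨⟨a, s⟩, hys⟩ := IsLocalization.surj p.primeCompl y
      have ha : a ∈ p := by
        rw [← hmemm, ← hys]
        exact Ideal.mul_mem_right _ _ hy
      have h2 : y * algebraMap A S s ∈ Q := by
        rw [hys]
        exact hpq ha
      rcases hQ.mem_or_mem h2 with h3 | h3
      · exact h3
      · exfalso
        exact hQ.ne_top (Ideal.eq_top_of_isUnit_mem _ h3
          (IsLocalization.map_units S s))
  · rintro ⟨x, hx⟩
    obtain ⟨⟨m, s⟩, hms⟩ := IsLocalizedModule.surj p.primeCompl φ x
    refine ⟨m, ⟨‹p.IsPrime›, ?_⟩, ?_⟩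
    · intro a ha
      rw [Submodule.mem_annihilator_span_singleton] at ha
      have h1 : algebraMap A S (a * s) ∈ IsLocalRing.maximalIdeal S := by
        rw [← hx]
        apply Ideal.le_radical
        rw [hker, algebraMap_smul, mul_smul]
        have h2 : (s : A) • x = φ m := hms
        rw [h2, ← map_smul, ha, map_zero]
      rw [hmemm] at h1
      rcases (‹p.IsPrime›).mem_or_mem h1 with h2 | h2
      · exact h2
      · exact absurd h2 s.2
    · rintro q ⟨hq, hIq⟩ hqp a ha
      have h1 : algebraMap A S a ∈ Ideal.radical
          (LinearMap.ker (LinearMap.toSpanSingleton S Mp x)) := by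
        rw [hx, hmemm]
        exact ha
      obtain ⟨n, hn⟩ := h1
      rw [hker, ← map_pow, algebraMap_smul] at hn
      have h2 : φ (a ^ n • m) = 0 := by
        have h3 : (s : A) • x = φ m := hms
        rw [map_smul, ← h3, smul_comm, hn, smul_zero]
      rw [hzero] at h2
      obtain ⟨u, hu, hum⟩ := h2
      have h4 : u * a ^ n ∈ q := by
        apply hIq
        rw [Submodule.mem_annihilator_span_singleton, mul_smul]
        exact hum
      rcases hq.mem_or_mem h4 with h5 | h5
      · exact absurd (hqp h5) hu
      · exact hq.mem_of_pow_mem n h5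

end Groth.Agent.S12215

namespace Groth.Agent.S12215

/-- Let M be a module over a ring A, M~ the associated quasi-coherent module on Spec A and p a prime of
A. Then p is weakly associated to M — p is minimal among the prime ideals containing the annihilator
of some element of M — if and only if the point p of Spec A is weakly associated to M~, i.e. some
element of the stalk of M~ at p has annihilator whose radical is the maximal ideal of the local
ring. -/
theorem result (A : CommRingCat.{u}) (M : ModuleCat.{u} A) (p : Spec A) :
    p.asIdeal ∈ FlatCA.weakAss A M ↔ Curv2.IsWeakAssPoint (tilde M) p := by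
  letI := Groth.Agent.S1578.algStalk A p
  letI := Groth.Agent.S1578.modStalk A M p
  haveI := Groth.Agent.S1578.towerStalk A M p
  exact weakAss_iff_abstract p.asIdeal ((Spec A).presheaf.stalk p) ((tilde M).presheaf.stalk p)
    (Groth.Agent.S1578.toStalkL A M p)

end Groth.Agent.S12215
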