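import Groth.Statements.S12217
import Groth.Agent.S0344
import Groth.Agent.S0343
import Groth.Agent.H60.Soc
import Groth.Agent.H60.GorTransfer
import Groth.Agent.Lead.CompleteNoetherian

set_option autoImplicit false
universe u
open Curves

namespace Groth.Agent.S12217

/-- A Gorenstein local ring isomorphic to the multicross ring with `n ≥ 2` branches has `n = 2`. -/
theorem aux (k : Type u) [Field k] (C : Type u) [CommRing C] [LocCoh.IsGorensteinLocalRing C]
    (n : ℕ) (hn : 2 ≤ n) (φ : C →+* (Fin n → PowerSeries k)) (hinj : Function.Injective φ)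
    (hrange : Set.range φ = {f : Fin n → PowerSeries k | ∀ i j : Fin n,
      PowerSeries.constantCoeff (f i) = PowerSeries.constantCoeff (f j)}) : n = 2 := by
  classical
  by_contra hne
  have hn3 : 3 ≤ n := by omega
  have hmem : ∀ f : Fin n → PowerSeries k,
      (∀ i j : Fin n, PowerSeries.constantCoeff (f i) = PowerSeries.constantCoeff (f j)) →
      ∃ c, φ c = f := by
    intro f hf
    have h1 : f ∈ Set.range φ := by rw [hrange]; exact hf
    exact h1
  have hcc : ∀ (c : C) (i j : Fin n),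
      PowerSeries.constantCoeff (φ c i) = PowerSeries.constantCoeff (φ c j) := by
    intro c
    have h1 : φ c ∈ Set.range φ := ⟨c, rfl⟩
    rw [hrange] at h1
    exact h1
  have hmem0 : ∀ f : Fin n → PowerSeries k, (∀ i, PowerSeries.constantCoeff (f i) = 0) →
      ∃ c, φ c = f := fun f hf => hmem f (fun i j => by rw [hf i, hf j])
  -- elements of the maximal ideal have zero constant coefficients
  have hmax : ∀ a ∈ IsLocalRing.maximalIdeal C, ∀ i, PowerSeries.constantCoeff (φ a i) = 0 := by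
    intro a ha i
    by_contra h0
    have hall : ∀ j, PowerSeries.constantCoeff (φ a j) ≠ 0 := fun j => by
      rw [hcc a j i]; exact h0
    obtain ⟨b, hb⟩ := hmem (fun j => (φ a j)⁻¹) (fun j l => by
      rw [PowerSeries.constantCoeff_inv, PowerSeries.constantCoeff_inv, hcc a j l])
    have hab : a * b = 1 := by
      apply hinj
      rw [map_mul, map_one, hb]
      funext j
      exact PowerSeries.mul_inv_cancel (φ a j) (hall j)
    have hu : IsUnit a := ⟨⟨a, b, hab, by rw [mul_comm]; exact hab⟩, rfl⟩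
    exact (mem_nonunits_iff.1 ((IsLocalRing.mem_maximalIdeal a).1 ha)) hu
  have hdiv : ∀ a ∈ IsLocalRing.maximalIdeal C, ∀ i, ∃ h : PowerSeries k,
      φ a i = PowerSeries.X * h := fun a ha i => PowerSeries.X_dvd_iff.2 (hmax a ha i)
  -- the element `τ = (t, …, t)`
  obtain ⟨τ, hτ⟩ := hmem0 (fun _ => (PowerSeries.X : PowerSeries k))
    (fun _ => PowerSeries.constantCoeff_X)
  have hτp : ∀ i, φ τ i = PowerSeries.X := fun i => by rw [hτ]
  have hτreg : IsSMulRegular C τ := by
    intro x y hxy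
    have hxy' : τ * x = τ * y := hxy
    apply hinj
    funext i
    have h1 : φ (τ * x) i = φ (τ * y) i := by rw [hxy']
    rw [map_mul, map_mul, Pi.mul_apply, Pi.mul_apply, hτp] at h1
    exact mul_left_cancel₀ PowerSeries.X_ne_zero h1
  have hτmem : τ ∈ IsLocalRing.maximalIdeal C := by
    rw [IsLocalRing.mem_maximalIdeal, mem_nonunits_iff]
    intro hu
    have h1 : IsUnit (φ τ) := hu.map φ
    have h2 : IsUnit (φ τ ⟨0, by omega⟩) := (Pi.isUnit_iff.1 h1) ⟨0, by omega⟩
    rw [hτp] at h2
    have h3 := PowerSeries.isUnit_iff_constantCoeff.1 h2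
    rw [PowerSeries.constantCoeff_X] at h3
    exact not_isUnit_zero h3
  have hD : LocCoh.IsGorensteinLocalRing (C ⧸ Ideal.span {τ}) :=
    (Groth.Agent.S0343.result C τ hτmem hτreg).1 inferInstance
  haveI := hD
  have hlift : ∀ x ∈ IsLocalRing.maximalIdeal (C ⧸ Ideal.span {τ}),
      ∃ a ∈ IsLocalRing.maximalIdeal C, Ideal.Quotient.mk (Ideal.span {τ}) a = x := by
    intro x hx
    obtain ⟨a, rfl⟩ := Ideal.Quotient.mk_surjective x
    refine ⟨a, ?_, rfl⟩
    by_contra ha
    have hu : IsUnit a := Groth.Agent.H60.Soc.isUnit_of_notMem ha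
    exact (mem_nonunits_iff.1 ((IsLocalRing.mem_maximalIdeal _).1 hx))
      (hu.map (Ideal.Quotient.mk (Ideal.span {τ})))
  have hspan : ∀ c : C, (∀ i, ∃ g : PowerSeries k, PowerSeries.constantCoeff g = 0 ∧
      φ c i = PowerSeries.X * g) → c ∈ Ideal.span {τ} := by
    intro c hc
    choose g hg0 hg using hc
    obtain ⟨b, hb⟩ := hmem0 g hg0
    rw [Ideal.mem_span_singleton']
    refine ⟨b, hinj ?_⟩
    rw [map_mul, hb]
    funext i
    rw [Pi.mul_apply, hτp, hg i]
    exact mul_comm _ _
  have hsq : ∀ a ∈ IsLocalRing.maximalIdeal C, ∀ a' ∈ IsLocalRing.maximalIdeal C,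
      a * a' ∈ Ideal.span {τ} := by
    intro a ha a' ha'
    apply hspan
    intro i
    obtain ⟨h, hh⟩ := hdiv a ha i
    obtain ⟨h', hh'⟩ := hdiv a' ha' i
    refine ⟨PowerSeries.X * (h * h'), by
      rw [map_mul, PowerSeries.constantCoeff_X, zero_mul], ?_⟩
    rw [map_mul, Pi.mul_apply, hh, hh']
    ring
  haveI hArt : IsArtinianRing (C ⧸ Ideal.span {τ}) := by
    rw [isArtinianRing_iff_isNilpotent_maximalIdeal]
    refine ⟨2, ?_⟩
    rw [Ideal.zero_eq_bot, eq_bot_iff, pow_two, Ideal.mul_le]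
    intro r hr s hs
    obtain ⟨a, ha, rfl⟩ := hlift r hr
    obtain ⟨a', ha', rfl⟩ := hlift s hs
    rw [Ideal.mem_bot, ← map_mul, Ideal.Quotient.eq_zero_iff_mem]
    exact hsq a ha a' ha'
  have hsingle : ∀ j : Fin n, ∃ e : C, φ e = Pi.single j (PowerSeries.X : PowerSeries k) := by
    intro j
    apply hmem0
    intro i
    by_cases hij : i = j
    · subst hij; rw [Pi.single_eq_same, PowerSeries.constantCoeff_X]
    · rw [Pi.single_eq_of_ne hij, map_zero]
  have hsoc : ∀ (j : Fin n) (e : C), φ e = Pi.single j (PowerSeries.X : PowerSeries k) →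
      Groth.Agent.H60.Soc.InSoc (Ideal.Quotient.mk (Ideal.span {τ}) e) := by
    intro j e he
    unfold Groth.Agent.H60.Soc.InSoc
    intro x hx
    obtain ⟨a, ha, rfl⟩ := hlift x hx
    rw [← map_mul, Ideal.Quotient.eq_zero_iff_mem]
    apply hspan
    intro i
    obtain ⟨h, hh⟩ := hdiv a ha i
    rw [map_mul, Pi.mul_apply, he]
    by_cases hij : i = j
    · subst hij
      refine ⟨PowerSeries.X * h, by rw [map_mul, PowerSeries.constantCoeff_X, zero_mul], ?_⟩
      rw [Pi.single_eq_same, hh]; ring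
    · refine ⟨0, map_zero _, ?_⟩
      rw [Pi.single_eq_of_ne hij, mul_zero, mul_zero]
  have hL : ∀ (c : C) (p q : Fin n), φ c p = PowerSeries.X → φ c q = 0 →
      c ∉ Ideal.span {τ} := by
    intro c p q hp hq hc
    obtain ⟨b, rfl⟩ := Ideal.mem_span_singleton'.1 hc
    rw [map_mul, Pi.mul_apply, hτp] at hp hq
    have h1 : φ b p = 1 := by
      have h4 : φ b p * PowerSeries.X = 1 * PowerSeries.X := by rw [one_mul]; exact hp
      exact mul_right_cancel₀ PowerSeries.X_ne_zero h4
    have h2 : φ b q = 0 := by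
      rcases mul_eq_zero.1 hq with h | h
      · exact h
      · exact absurd h PowerSeries.X_ne_zero
    have h3 := hcc b p q
    rw [h1, h2, map_one, map_zero] at h3
    exact one_ne_zero h3
  -- the socle is one-dimensional
  obtain ⟨s, hs0, hs, hgen⟩ := Groth.Agent.H60.Soc.typeOne_of_gor (R := C ⧸ Ideal.span {τ})
    LocCoh.IsGorensteinLocalRing.exists_hasInjectiveDimensionLT
  obtain ⟨i0, hi0⟩ : ∃ i0 : Fin n, i0 = ⟨0, by omega⟩ := ⟨_, rfl⟩
  obtain ⟨i1, hi1⟩ : ∃ i1 : Fin n, i1 = ⟨1, by omega⟩ := ⟨_, rfl⟩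
  obtain ⟨i2, hi2⟩ : ∃ i2 : Fin n, i2 = ⟨2, by omega⟩ := ⟨_, rfl⟩
  have h10 : i1 ≠ i0 := by rw [hi0, hi1]; intro h; simpa using congrArg Fin.val h
  have h20 : i2 ≠ i0 := by rw [hi0, hi2]; intro h; simpa using congrArg Fin.val h
  have h21 : i2 ≠ i1 := by rw [hi1, hi2]; intro h; simpa using congrArg Fin.val h
  obtain ⟨e0, he0⟩ := hsingle i0
  obtain ⟨e1, he1⟩ := hsingle i1
  obtain ⟨c0, hc0⟩ := hgen _ (hsoc i0 e0 he0)
  obtain ⟨c1, hc1⟩ := hgen _ (hsoc i1 e1 he1)
  have hc0u : IsUnit c0 := by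
    apply Groth.Agent.H60.Soc.isUnit_of_notMem
    intro hmem'
    have h1 : c0 * s = 0 := hs c0 hmem'
    rw [← hc0, Ideal.Quotient.eq_zero_iff_mem] at h1
    exact hL e0 i0 i1 (by rw [he0, Pi.single_eq_same]) (by rw [he0, Pi.single_eq_of_ne h10]) h1
  obtain ⟨u, rfl⟩ := hc0u
  obtain ⟨v, hv⟩ := Ideal.Quotient.mk_surjective (c1 * ((u⁻¹ : (C ⧸ Ideal.span {τ})ˣ) :
    C ⧸ Ideal.span {τ}))
  have h2 : Ideal.Quotient.mk (Ideal.span {τ}) (e1 - v * e0) = 0 := by
    rw [map_sub, map_mul, hv, hc0, hc1, mul_assoc,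
      ← mul_assoc ((u⁻¹ : (C ⧸ Ideal.span {τ})ˣ) : C ⧸ Ideal.span {τ}) (u : C ⧸ Ideal.span {τ}) s,
      Units.inv_mul, one_mul, sub_self]
  rw [Ideal.Quotient.eq_zero_iff_mem] at h2
  refine hL (e1 - v * e0) i1 i2 ?_ ?_ h2
  · rw [map_sub, map_mul, Pi.sub_apply, Pi.mul_apply, he0, he1, Pi.single_eq_same,
      Pi.single_eq_of_ne h10, mul_zero, sub_zero]
  · rw [map_sub, map_mul, Pi.sub_apply, Pi.mul_apply, he0, he1, Pi.single_eq_of_ne h21,
      Pi.single_eq_of_ne h20, mul_zero, sub_zero]


/-- In this form A is the local ring of the curve at the point, and a Gorenstein scheme has Gorenstein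
local rings. Let k be an algebraically closed field and A a Gorenstein local ring whose completion
with respect to its maximal ideal is isomorphic to the multicross ring with n ≥ 2 branches, the
subring of (k[[t]])^n consisting of the n-tuples of power series having a common constant term. Then
n = 2: a Gorenstein multicross singularity is a node. The isomorphism is given as an injective ring
map from the completion to (k[[t]])^n with that subring as its range. -/
theorem result (k : Type u) [Field k] [IsAlgClosed k]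
    (A : Type u) [CommRing A] [LocCoh.IsGorensteinLocalRing A] (n : ℕ) (hn : 2 ≤ n)
    (φ : AdicCompletion (IsLocalRing.maximalIdeal A) A →+* (Fin n → PowerSeries k))
    (hinj : Function.Injective φ)
    (hrange : Set.range φ = {f : Fin n → PowerSeries k | ∀ i j : Fin n, PowerSeries.constantCoeff (f i) = PowerSeries.constantCoeff (f j)}) :
    n = 2 := by
  haveI : IsNoetherianRing (AdicCompletion (IsLocalRing.maximalIdeal A) A) :=
    Groth.Agent.Lead.isNoetherianRing_adicCompletion _
      (IsLocalRing.maximalIdeal A).fg_of_isNoetherianRing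
  have hC : LocCoh.IsGorensteinLocalRing (AdicCompletion (IsLocalRing.maximalIdeal A) A) := by
    rw [Groth.Agent.S0344.result A (AdicCompletion (IsLocalRing.maximalIdeal A) A)]
    refine ⟨inferInstance, ?_⟩
    rw [← AdicCompletion.maximalIdeal_eq_map]
    exact Groth.Agent.H60.GorTransfer.gor_field
      (IsLocalRing.ResidueField (AdicCompletion (IsLocalRing.maximalIdeal A) A))
  haveI := hC
  exact aux k (AdicCompletion (IsLocalRing.maximalIdeal A) A) n hn φ hinj hrange

end Groth.Agent.S12217
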