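import Mathlib
import Groth.Statements.S1224
-- import your own Groth.Agent.* helpers here

set_option autoImplicit false
universe u
open FlatMor

namespace Groth.Agent.S1224

open TensorProduct

attribute [local instance] Algebra.TensorProduct.rightAlgebra

/-- an element of `B'` killing `N'` lies in every prime `P` over `t'` whose fibre ideal is
associated to the fibre module. -/
theorem mem_of_smul_eq_zero {A' B' N' : Type u} [CommRing A'] [CommRing B'] [Algebra A' B']
    [AddCommGroup N'] [Module B' N'] [Module A' N'] [IsScalarTower A' B' N']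
    (t' : Ideal A') [t'.IsPrime] (P : Ideal B') [P.IsPrime] (hPt : P.LiesOver t')
    (hass : FlatCA.fiberIdeal t' P ∈ associatedPrimes (t'.Fiber B') (FlatCA.fiberMod t' B' N'))
    (b : B') (hb : ∀ n' : N', b • n' = 0) : b ∈ P := by
  let e := PrimeSpectrum.primesOverOrderIsoFiber A' B' t'
  let x0 : t'.primesOver B' := ⟨P, inferInstance, hPt⟩
  have hP : P = (e x0).asIdeal.comap
      (Algebra.TensorProduct.includeRight (R := A') (A := t'.ResidueField) (B := B')) := by
    have h1 : ((e.symm (e x0) : t'.primesOver B') : Ideal B') = (e x0).asIdeal.comap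
      (Algebra.TensorProduct.includeRight (R := A') (A := t'.ResidueField) (B := B')) := rfl
    rw [e.symm_apply_apply] at h1
    exact h1
  have hle : FlatCA.fiberIdeal t' P ≤ (e x0).asIdeal := by
    unfold FlatCA.fiberIdeal
    rw [Ideal.map_le_iff_le_comap]
    intro y hy
    rw [hP] at hy
    exact hy
  have hkill : ∀ z : (t'.Fiber B') ⊗[B'] N',
      ((Algebra.TensorProduct.includeRight (R := A') (A := t'.ResidueField) (B := B')) b :
        t'.Fiber B') • z = 0 := by
    intro z
    induction z using TensorProduct.induction_on with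
    | zero => exact smul_zero _
    | tmul φ n' =>
      have h1 : ((Algebra.TensorProduct.includeRight (R := A') (A := t'.ResidueField) (B := B')) b :
          t'.Fiber B') • (φ ⊗ₜ[B'] n') = φ ⊗ₜ[B'] (b • n') := by
        calc _ = (((Algebra.TensorProduct.includeRight (R := A') (A := t'.ResidueField)
                  (B := B')) b : t'.Fiber B') • φ) ⊗ₜ[B'] n' := TensorProduct.smul_tmul' _ _ _
          _ = (b • φ) ⊗ₜ[B'] n' := rfl
          _ = φ ⊗ₜ[B'] (b • n') := TensorProduct.smul_tmul _ _ _
      rw [h1, hb, TensorProduct.tmul_zero]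
    | add x y hx hy => rw [smul_add, hx, hy, add_zero]
  obtain ⟨_, x, hx⟩ := hass
  have hmem : (Algebra.TensorProduct.includeRight (R := A') (A := t'.ResidueField) (B := B')) b ∈
      FlatCA.fiberIdeal t' P := by
    rw [hx]
    apply Ideal.le_radical
    rw [Submodule.mem_colon_singleton, Submodule.mem_bot]
    exact hkill x
  rw [hP]
  exact hle hmem

/-- Ring form, X = Spec B affine, where proper support means finite support: let B be a finite type
A-algebra and N a finite B-module such that B modulo the annihilator of N is finite over A. Then N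
is universally pure relative to Spec A. -/
theorem result {A B : Type u} [CommRing A] [CommRing B] [Algebra A B] [Algebra.FiniteType A B]
    (N : Type u) [AddCommGroup N] [Module B N] [Module A N] [IsScalarTower A B N] [Module.Finite B N]
    [Module.Finite A (B ⧸ Module.annihilator B N)] : FlatCA.IsUnivPure A B N := by
  intro p _ A' B' N' _ _ _ _ _ _ _ _ _ _ _ _ _ _ f t' t _ _ P _ himp
  obtain ⟨hpush, hbc, htt, htp, hPt, hass, hno⟩ := himp
  -- Step 1: the annihilator maps into `P`
  have hIP : ∀ i ∈ Module.annihilator B N, algebraMap B B' i ∈ P := by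
    intro i hi
    apply mem_of_smul_eq_zero t' P hPt hass
    intro n'
    induction n' using hbc.inductionOn with
    | zero => exact smul_zero _
    | tmul n =>
      rw [algebraMap_smul, ← map_smul, Module.mem_annihilator.1 hi n, map_zero]
    | smul c n' ih => rw [smul_comm, ih, smul_zero]
    | add x y hx hy => rw [smul_add, hx, hy, add_zero]
  -- Step 2: `B' ⧸ P` is integral over `A'`
  obtain ⟨ψ, hψ⟩ : ∃ ψ : B ⧸ Module.annihilator B N →+* B' ⧸ P,
      ∀ b : B, ψ (Ideal.Quotient.mk _ b) = Ideal.Quotient.mk P (algebraMap B B' b) :=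
    ⟨Ideal.Quotient.lift (Module.annihilator B N) ((Ideal.Quotient.mk P).comp (algebraMap B B'))
      (fun i hi => by
        rw [RingHom.comp_apply, Ideal.Quotient.eq_zero_iff_mem]
        exact hIP i hi), fun b => rfl⟩
  have hcomp : (algebraMap A' (B' ⧸ P)).comp (algebraMap A A') =
      ψ.comp (algebraMap A (B ⧸ Module.annihilator B N)) := by
    ext a
    show Ideal.Quotient.mk P (algebraMap A' B' (algebraMap A A' a)) =
      ψ (Ideal.Quotient.mk _ (algebraMap A B a))
    rw [hψ, ← IsScalarTower.algebraMap_apply A A' B', ← IsScalarTower.algebraMap_apply A B B']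
  haveI : Algebra.IsIntegral A' (B' ⧸ P) := by
    refine ⟨fun x => ?_⟩
    obtain ⟨y, rfl⟩ := Ideal.Quotient.mk_surjective x
    induction y using hpush.out.inductionOn with
    | zero => rw [map_zero]; exact isIntegral_zero
    | tmul a' => exact isIntegral_algebraMap (x := a')
    | smul b y ih =>
      have h1 : IsIntegral A' (ψ (Ideal.Quotient.mk _ b)) :=
        IsIntegral.map_of_comp_eq (algebraMap A A') ψ hcomp (Algebra.IsIntegral.isIntegral _)
      have h2 : Ideal.Quotient.mk P (b • y) =
          ψ (Ideal.Quotient.mk _ b) * Ideal.Quotient.mk P y := by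
        rw [Algebra.smul_def, map_mul, hψ]
      rw [h2]
      exact h1.mul ih
    | add x y hx hy => rw [map_add]; exact hx.add hy
  -- Step 3: going up
  have hcomap : (⊥ : Ideal (B' ⧸ P)).comap (algebraMap A' (B' ⧸ P)) ≤ t := by
    intro a ha
    rw [Ideal.mem_comap, Ideal.mem_bot] at ha
    have h1 : algebraMap A' B' a ∈ P := by
      rw [← Ideal.Quotient.eq_zero_iff_mem]
      exact ha
    have h2 : a ∈ t' := by
      rw [hPt.over]
      exact h1
    exact htt h2
  obtain ⟨Q, -, hQprime, hQt⟩ :=
    Ideal.exists_ideal_over_prime_of_isIntegral t (⊥ : Ideal (B' ⧸ P)) hcomap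
  haveI := hQprime
  refine hno (Q.comap (Ideal.Quotient.mk P)) ?_ ⟨?_⟩
  · intro x hx
    rw [Ideal.mem_comap, Ideal.Quotient.eq_zero_iff_mem.2 hx]
    exact Q.zero_mem
  · rw [← hQt]
    rfl

end Groth.Agent.S1224
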