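import Groth.Statements.S12223
import Groth.Agent.H30.ZarBig
import Groth.Agent.H45.ExtAdjAcy
import Mathlib.CategoryTheory.Adjunction.Mates

set_option autoImplicit false
open CategoryTheory CategoryTheory.Limits AlgebraicGeometry Opposite
universe u
open BigSite

namespace Groth.Agent.S12223

/-- For a scheme X and an abelian sheaf F on the big Zariski site of X, the cohomology groups of the
restriction of F to the small Zariski site X_Zar agree with the cohomology groups of F on the big
site, in every degree p. Existence of an additive isomorphism only (the canonical comparison map is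
not named here). The continuity of the inclusion of the small Zariski site into the big site is
carried as an instance hypothesis; it always holds. -/
theorem result (X : Scheme.{u}) [BigSite.ZarCont Scheme.zariskiPrecoverage X]
    (F : BigSite.Ab Scheme.zariskiPrecoverage X) (p : ℕ) :
    Nonempty (EtZar.H ((BigSite.resZar Scheme.zariskiPrecoverage X).obj F) p ≃+
      BigSite.H Scheme.zariskiPrecoverage X F p) := by
  let K := Scheme.zariskiPrecoverage.{u}
  haveI : Limits.PreservesFiniteLimits (BigSite.resZar K X) := by
    haveI := (BigSite.piZarAdj K X).rightAdjoint_preservesLimits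
    infer_instance
  haveI : Limits.PreservesFiniteColimits (BigSite.resZar K X) :=
    Groth.Agent.H30.ZarBig.preservesFiniteColimits_resZar X
  haveI := Groth.Agent.H30.ZarBig.preservesFiniteLimits_piZarPull X K
  haveI : (BigSite.piZarPull K X).Additive := (BigSite.piZarAdj K X).left_adjoint_additive
  have hT' : Limits.IsTerminal ((BigSite.zarIncl X).obj ⊤) :=
    Groth.Agent.H30.ZarBig.isTerminal_zarIncl_top X
  let c : constantSheaf (Opens.grothendieckTopology X) AddCommGrpCat.{u + 1} ⋙
      BigSite.piZarPull K X ≅ constantSheaf (QuotSh.J K X) AddCommGrpCat.{u + 1} :=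
    (conjugateIsoEquiv (constantSheafAdj (QuotSh.J K X) AddCommGrpCat.{u + 1} hT')
      ((constantSheafAdj (Opens.grothendieckTopology X) AddCommGrpCat.{u + 1}
        (Limits.isTerminalTop : Limits.IsTerminal (⊤ : X.Opens))).comp
        (BigSite.piZarAdj K X))).symm (Iso.refl _)
  obtain ⟨e⟩ := Groth.Agent.H45.ExtAdj.nonempty_ext_addEquiv_of_rightDerived_isZero
    (BigSite.piZarAdj K X) F
    (fun i hi => Groth.Agent.H45.ExtAdj.isZero_rightDerived_of_exact (BigSite.resZar K X) F i hi)
    ((constantSheaf (Opens.grothendieckTopology X) AddCommGrpCat.{u + 1}).obj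
      (AddCommGrpCat.of (ULift ℤ))) p
  exact ⟨((Groth.Agent.H45.ExtAdj.addEquivOfIsoLeft (c.app _).symm F p).trans e).symm⟩

end Groth.Agent.S12223
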