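import Groth.Statements.S12226
import Groth.Agent.S6039
import Groth.Agent.H95.ZClosSec

set_option autoImplicit false
universe u
open CategoryTheory CategoryTheory.Limits AlgebraicGeometry TopologicalSpace
open LocCoh

namespace Groth.Agent.S12226

open Groth.Agent.H95.ZClos Opposite

set_option linter.style.haveILetI false
set_option backward.isDefEq.respectTransparency false

lemma cancel_left_of_res_iso {X : Scheme.{u}} (U : X.Opens) {F G : X.Modules}
    {B : (U : Scheme.{u}).Modules} (φ : F ⟶ G)
    [IsIso ((Scheme.Modules.restrictFunctor U.ι).map φ)]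
    (ψ ψ' : G ⟶ (Scheme.Modules.pushforward U.ι).obj B) (h : φ ≫ ψ = φ ≫ ψ') : ψ = ψ' := by
  have h1 := congrArg ((Scheme.Modules.restrictAdjunction U.ι).homEquiv F B).symm h
  rw [Adjunction.homEquiv_naturality_left_symm, Adjunction.homEquiv_naturality_left_symm] at h1
  have h2 := (cancel_epi ((Scheme.Modules.restrictFunctor U.ι).map φ)).1 h1
  exact ((Scheme.Modules.restrictAdjunction U.ι).homEquiv G B).symm.injective h2

lemma push_res_bijective {X : Scheme.{u}} (U : X.Opens) (F : X.Modules) (V : X.Opens) :
    Function.Bijective (res ((ZClos.resPush U).obj F) U V) := by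
  have e : U.ι ''ᵁ U.ι ⁻¹ᵁ V = U.ι ''ᵁ U.ι ⁻¹ᵁ (V ⊓ U) := by
    rw [ZClos.ι_image_preimage, ZClos.ι_image_preimage]
    apply le_antisymm
    · exact le_inf inf_le_left (le_inf inf_le_right inf_le_left)
    · exact le_inf inf_le_left (inf_le_right.trans inf_le_left)
  show Function.Bijective (((ZClos.resPush U).obj F).presheaf.map
    (homOfLE (inf_le_left : V ⊓ U ≤ V)).op)
  rw [ZClos.resPush_presheaf_map]
  exact bij_of_eq F.presheaf _ e

lemma isIso_unit_of_res_bijective {X : Scheme.{u}} (U : X.Opens) (G : X.Modules)
    (h : ∀ V : X.Opens, Function.Bijective (res G U V)) :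
    IsIso ((Scheme.Modules.restrictAdjunction U.ι).unit.app G) := by
  rw [isIso_iff_app]
  intro V
  have h1 : ((ZClos.resPushUnit U).app G).app V =
      G.presheaf.map (homOfLE (U.ι.image_preimage_le V)).op := ZClos.resPushUnit_app_app U G V
  show Function.Bijective (((ZClos.resPushUnit U).app G).app V)
  rw [h1]
  exact (bij_congr G.presheaf ((ZClos.ι_image_preimage U V).trans (inf_comm _ _))
    (U.ι.image_preimage_le V) inf_le_left).2 (h V)

/-- Let j : U → X be the inclusion of an open subscheme of a Noetherian scheme X and F a coherent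
O_X-module such that F' = j_*(F|_U) is coherent. Then (a) for every point x of X outside U the stalk
F'_x has depth at least 2 over O_{X,x}, and (b) F → F' is the unique map with these properties: for
every coherent O_X-module G and every map φ : F → G whose restriction to U is an isomorphism and
such that depth(G_x) ≥ 2 for all x outside U, there is exactly one map ψ : G → F' whose composite
with φ is the canonical map F → j_*(F|_U), and this ψ is an isomorphism. (The compatibility of this
construction with flat base change is not part of this statement.) -/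
theorem result (X : Scheme.{u}) [IsNoetherian X] (U : X.Opens)
    (F : X.Modules) (hF : Coh.IsCoh F) (hF' : Coh.IsCoh ((Coh.push U.ι).obj (F.restrict U.ι))) :
    (∀ x : ↥X, x ∉ U → (2 : ℕ∞) ≤ LocCoh.depth (X.presheaf.stalk x)
        (((Coh.push U.ι).obj (F.restrict U.ι)).presheaf.stalk x)) ∧
    ∀ (G : X.Modules) (hG : Coh.IsCoh G) (φ : F ⟶ G),
      IsIso ((Scheme.Modules.restrictFunctor U.ι).map φ) →
      (∀ x : ↥X, x ∉ U → (2 : ℕ∞) ≤ LocCoh.depth (X.presheaf.stalk x) (G.presheaf.stalk x)) →
        (∃! ψ : G ⟶ (Coh.push U.ι).obj (F.restrict U.ι),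
            φ ≫ ψ = (Scheme.Modules.restrictAdjunction U.ι).unit.app F) ∧
          ∀ ψ : G ⟶ (Coh.push U.ι).obj (F.restrict U.ι),
            φ ≫ ψ = (Scheme.Modules.restrictAdjunction U.ι).unit.app F → IsIso ψ := by
  constructor
  · exact (Groth.Agent.S6039.result X U _ hF').2 (fun V => push_res_bijective U F V)
  · intro G hG φ hiso hdepth
    haveI := hiso
    haveI hunit : IsIso ((Scheme.Modules.restrictAdjunction U.ι).unit.app G) :=
      isIso_unit_of_res_bijective U G (fun V => (Groth.Agent.S6039.result X U G hG).1 hdepth V)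
    have hψ₀ : φ ≫ ((Scheme.Modules.restrictAdjunction U.ι).unit.app G ≫
        (Scheme.Modules.pushforward U.ι).map (inv ((Scheme.Modules.restrictFunctor U.ι).map φ))) =
        (Scheme.Modules.restrictAdjunction U.ι).unit.app F := by
      have hnat := (Scheme.Modules.restrictAdjunction U.ι).unit.naturality φ
      have hnat' : φ ≫ (Scheme.Modules.restrictAdjunction U.ι).unit.app G =
          (Scheme.Modules.restrictAdjunction U.ι).unit.app F ≫
            (Scheme.Modules.pushforward U.ι).map ((Scheme.Modules.restrictFunctor U.ι).map φ) :=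
        hnat
      rw [← Category.assoc, hnat', Category.assoc, ← Functor.map_comp, IsIso.hom_inv_id,
        CategoryTheory.Functor.map_id]
      exact Category.comp_id _
    constructor
    · refine ⟨_, hψ₀, ?_⟩
      intro ψ hψ
      exact cancel_left_of_res_iso U φ _ _ (hψ.trans hψ₀.symm)
    · intro ψ hψ
      have hψeq := cancel_left_of_res_iso U φ _ _ (hψ.trans hψ₀.symm)
      rw [hψeq]
      infer_instance

end Groth.Agent.S12226
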