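import Groth.Statements.S12227
import Mathlib.Algebra.Homology.DerivedCategory.Fractions

set_option autoImplicit false
universe w v u
open CategoryTheory CategoryTheory.Limits
open CohDer

namespace Groth.Agent.S12227

theorem aux {A : Type u} [Category.{v} A] [Abelian A] [HasDerivedCategory.{w} A]
    (K L : CochainComplex A ℤ) (a : ℤ) [K.IsStrictlyLE a] :
    (∀ φ : DerivedCategory.Q.obj K ⟶ DerivedCategory.Q.obj L,
      ∃ (K' : CochainComplex A ℤ) (n : ℤ) (_ : K'.IsStrictlyLE n)
        (s : (HomotopyCategory.quotient _ _).obj K' ⟶ (HomotopyCategory.quotient _ _).obj K)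
        (f : (HomotopyCategory.quotient _ _).obj K' ⟶ (HomotopyCategory.quotient _ _).obj L),
        HomotopyCategory.quasiIso A (ComplexShape.up ℤ) s ∧
          DerivedCategory.Qh.map s ≫ φ = DerivedCategory.Qh.map f) ∧
    (∀ f₁ f₂ : (HomotopyCategory.quotient _ _).obj K ⟶ (HomotopyCategory.quotient _ _).obj L,
      DerivedCategory.Qh.map f₁ = DerivedCategory.Qh.map f₂ →
      ∃ (K' : CochainComplex A ℤ) (n : ℤ) (_ : K'.IsStrictlyLE n)
        (s : (HomotopyCategory.quotient _ _).obj K' ⟶ (HomotopyCategory.quotient _ _).obj K),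
        HomotopyCategory.quasiIso A (ComplexShape.up ℤ) s ∧ s ≫ f₁ = s ≫ f₂) := by
  constructor
  · intro φ
    obtain ⟨X', hX', s, hs, g, fac⟩ :=
      DerivedCategory.right_fac_of_isStrictlyLE (X := K) (Y := L) φ a
    refine ⟨X', a, hX', (HomotopyCategory.quotient _ _).map s,
      (HomotopyCategory.quotient _ _).map g, ?_, ?_⟩
    · rw [HomotopyCategory.quotient_map_mem_quasiIso_iff, HomologicalComplex.mem_quasiIso_iff]
      exact (DerivedCategory.isIso_Q_map_iff_quasiIso _ s).1 hs
    · change DerivedCategory.Q.map s ≫ φ = DerivedCategory.Q.map g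
      rw [fac, IsIso.hom_inv_id_assoc]
  · intro f₁ f₂ h
    obtain ⟨X, s, hs, fac⟩ :=
      ((HomotopyCategory.quasiIso A (ComplexShape.up ℤ)).map_eq_iff_precomp
        DerivedCategory.Qh f₁ f₂).1 h
    obtain ⟨(X : CochainComplex A ℤ), rfl⟩ := HomotopyCategory.quotient_obj_surjective X
    obtain ⟨s₀, rfl⟩ := (HomotopyCategory.quotient _ _).map_surjective s
    have hq : QuasiIso s₀ := by
      rw [← HomologicalComplex.mem_quasiIso_iff, ← HomotopyCategory.quotient_map_mem_quasiIso_iff]
      exact hs
    have hK : K.IsLE a := inferInstance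
    have hX : X.IsLE a := by
      rw [CochainComplex.isLE_iff]
      intro i hi
      have := hq.quasiIsoAt i
      exact (quasiIsoAt_iff_exactAt' s₀ i
        (K.exactAt_of_isLE a i hi)).1 inferInstance
    refine ⟨X.truncLE a, a, inferInstance,
      (HomotopyCategory.quotient _ _).map (X.ιTruncLE a) ≫ (HomotopyCategory.quotient _ _).map s₀, ?_, ?_⟩
    · refine (HomotopyCategory.quasiIso A (ComplexShape.up ℤ)).comp_mem _ _ ?_ hs
      rw [HomotopyCategory.quotient_map_mem_quasiIso_iff, HomologicalComplex.mem_quasiIso_iff]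
      infer_instance
    · rw [Category.assoc, Category.assoc, fac]


/-- Full faithfulness of K⁻(A)[Qis⁻¹] → D⁻(A), written in terms of roofs. Let A be an abelian category
and K, L complexes which are zero above some degree, viewed in the homotopy category. Then every
morphism Qh(K) → Qh(L) in the derived category is Qh(s)⁻¹ ≫ Qh(f) for some quasi-isomorphism s : K'
→ K and map f : K' → L of K(A) with K' again zero above some degree; and two maps f₁, f₂ : K → L of
K(A) become equal in D(A) only if s ≫ f₁ = s ≫ f₂ for some quasi-isomorphism s : K' → K with K' zero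
above some degree. (That the kernel of K⁻(A) → D(A) consists of the acyclic complexes and that the
essential image is D⁻(A) are separate statements.) -/
theorem result {A : Type u} [Category.{v} A] [Abelian A] [HasDerivedCategory.{w} A]
    (K L : HomotopyCategory A (ComplexShape.up ℤ)) (a b : ℤ) [CochainComplex.IsStrictlyLE K.as a] [CochainComplex.IsStrictlyLE L.as b] :
    (∀ φ : DerivedCategory.Qh.obj K ⟶ DerivedCategory.Qh.obj L,
      ∃ (K' : HomotopyCategory A (ComplexShape.up ℤ)) (n : ℤ) (_ : CochainComplex.IsStrictlyLE K'.as n) (s : K' ⟶ K) (f : K' ⟶ L),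
        HomotopyCategory.quasiIso A (ComplexShape.up ℤ) s ∧ DerivedCategory.Qh.map s ≫ φ = DerivedCategory.Qh.map f) ∧
    (∀ f₁ f₂ : K ⟶ L, DerivedCategory.Qh.map f₁ = DerivedCategory.Qh.map f₂ →
      ∃ (K' : HomotopyCategory A (ComplexShape.up ℤ)) (n : ℤ) (_ : CochainComplex.IsStrictlyLE K'.as n) (s : K' ⟶ K),
        HomotopyCategory.quasiIso A (ComplexShape.up ℤ) s ∧ s ≫ f₁ = s ≫ f₂) := by
  obtain ⟨(K : CochainComplex A ℤ), rfl⟩ := HomotopyCategory.quotient_obj_surjective K
  obtain ⟨(L : CochainComplex A ℤ), rfl⟩ := HomotopyCategory.quotient_obj_surjective L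
  have : K.IsStrictlyLE a := ‹CochainComplex.IsStrictlyLE ((HomotopyCategory.quotient A (ComplexShape.up ℤ)).obj K).as a›
  obtain ⟨h1, h2⟩ := aux K L a
  constructor
  · intro φ
    obtain ⟨K', n, hn, s, f, hs, hf⟩ := h1 φ
    exact ⟨(HomotopyCategory.quotient _ _).obj K', n, hn, s, f, hs, hf⟩
  · intro f₁ f₂ h
    obtain ⟨K', n, hn, s, hs, hf⟩ := h2 f₁ f₂ h
    exact ⟨(HomotopyCategory.quotient _ _).obj K', n, hn, s, hs, hf⟩

end Groth.Agent.S12227
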