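import Groth.Statements.S12228
import Mathlib.Algebra.Homology.DerivedCategory.Fractions
import Mathlib.Algebra.Homology.HomotopyCategory.Plus

set_option autoImplicit false
universe w v u
open CategoryTheory CategoryTheory.Limits
open CohDer

namespace Groth.Agent.S12228

open HomotopyCategory in
theorem isStrictlyLE_mappingCone {A : Type u} [Category.{v} A] [Abelian A]
    {K L : CochainComplex A ℤ} (f : K ⟶ L)
    (n₁ n₂ n : ℤ) [K.IsStrictlyLE n₁] [L.IsStrictlyLE n₂] (hn₁ : n₁ ≤ n + 1) (hn₂ : n₂ ≤ n) :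
    (CochainComplex.mappingCone f).IsStrictlyLE n := by
  rw [CochainComplex.isStrictlyLE_iff]
  intro i hi
  simp only [CochainComplex.mappingCone.isZero_X_iff]
  exact ⟨K.isZero_of_isStrictlyLE n₁ _ (by omega), L.isZero_of_isStrictlyLE n₂ _ (by omega)⟩

theorem isLE_of_quasiIso {A : Type u} [Category.{v} A] [Abelian A]
    {X K : CochainComplex A ℤ} (s : X ⟶ K) [QuasiIso s] (a : ℤ) [K.IsLE a] : X.IsLE a := by
  rw [CochainComplex.isLE_iff]
  intro i hi
  have : QuasiIsoAt s i := inferInstance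
  exact (quasiIsoAt_iff_exactAt' s i (K.exactAt_of_isLE a i hi)).1 inferInstance

theorem isGE_of_quasiIso' {A : Type u} [Category.{v} A] [Abelian A]
    {L X : CochainComplex A ℤ} (s : L ⟶ X) [QuasiIso s] (a : ℤ) [L.IsGE a] : X.IsGE a := by
  rw [CochainComplex.isGE_iff]
  intro i hi
  have : QuasiIsoAt s i := inferInstance
  exact (quasiIsoAt_iff_exactAt s i (L.exactAt_of_isGE a i hi)).1 inferInstance

theorem aux1 {A : Type u} [Category.{v} A] [Abelian A] [HasDerivedCategory.{w} A]
    (K L : CochainComplex A ℤ) (b a' b' : ℤ) [K.IsStrictlyLE b]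
    [L.IsStrictlyGE a'] [L.IsStrictlyLE b']
    (φ : DerivedCategory.Q.obj K ⟶ DerivedCategory.Q.obj L) :
    ∃ (L' : CochainComplex A ℤ) (m n : ℤ) (_ : L'.IsStrictlyGE m) (_ : L'.IsStrictlyLE n)
      (f : (HomotopyCategory.quotient _ _).obj K ⟶ (HomotopyCategory.quotient _ _).obj L')
      (t : (HomotopyCategory.quotient _ _).obj L ⟶ (HomotopyCategory.quotient _ _).obj L'),
      HomotopyCategory.quasiIso A (ComplexShape.up ℤ) t ∧
        φ ≫ DerivedCategory.Qh.map t = DerivedCategory.Qh.map f := by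
  have : K.IsStrictlyLE (max b b') := K.isStrictlyLE_of_le b _ (le_max_left _ _)
  have : L.IsStrictlyLE (max b b') := L.isStrictlyLE_of_le b' _ (le_max_right _ _)
  obtain ⟨Y', h1, h2, g, s, hs, fac⟩ :=
    DerivedCategory.left_fac_of_isStrictlyLE_of_isStrictlyGE (X := K) (Y := L) a' (max b b') φ
  refine ⟨Y', a', max b b', h1, h2, (HomotopyCategory.quotient _ _).map g,
    (HomotopyCategory.quotient _ _).map s, ?_, ?_⟩
  · rw [HomotopyCategory.quotient_map_mem_quasiIso_iff, HomologicalComplex.mem_quasiIso_iff]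
    exact (DerivedCategory.isIso_Q_map_iff_quasiIso _ s).1 hs
  · change φ ≫ DerivedCategory.Q.map s = DerivedCategory.Q.map g
    rw [fac, Category.assoc, IsIso.inv_hom_id, Category.comp_id]

theorem aux2 {A : Type u} [Category.{v} A] [Abelian A] [HasDerivedCategory.{w} A]
    (K L : CochainComplex A ℤ) (b a' b' : ℤ) [K.IsStrictlyLE b]
    [L.IsStrictlyGE a'] [L.IsStrictlyLE b']
    (f₁ f₂ : (HomotopyCategory.quotient _ _).obj K ⟶ (HomotopyCategory.quotient _ _).obj L)
    (h : DerivedCategory.Qh.map f₁ = DerivedCategory.Qh.map f₂) :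
    ∃ (L' : CochainComplex A ℤ) (m n : ℤ) (_ : L'.IsStrictlyGE m) (_ : L'.IsStrictlyLE n)
      (t : (HomotopyCategory.quotient _ _).obj L ⟶ (HomotopyCategory.quotient _ _).obj L'),
      HomotopyCategory.quasiIso A (ComplexShape.up ℤ) t ∧ f₁ ≫ t = f₂ ≫ t := by
  obtain ⟨X, s, hs, fac⟩ :=
    ((HomotopyCategory.quasiIso A (ComplexShape.up ℤ)).map_eq_iff_precomp
      DerivedCategory.Qh f₁ f₂).1 h
  obtain ⟨(X : CochainComplex A ℤ), rfl⟩ := HomotopyCategory.quotient_obj_surjective X
  obtain ⟨s₁, rfl⟩ := (HomotopyCategory.quotient _ _).map_surjective s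
  have hq : QuasiIso s₁ := by
    rw [← HomologicalComplex.mem_quasiIso_iff, ← HomotopyCategory.quotient_map_mem_quasiIso_iff]
    exact hs
  have hK : K.IsLE b := inferInstance
  have hX : X.IsLE b := isLE_of_quasiIso s₁ b
  -- the truncated source
  let s₀ : X.truncLE b ⟶ K := X.ιTruncLE b ≫ s₁
  have hs₀ : QuasiIso s₀ := by dsimp only [s₀]; infer_instance
  have hWs₀ : HomotopyCategory.quasiIso A (ComplexShape.up ℤ) ((HomotopyCategory.quotient _ _).map s₀) := by
    rw [HomotopyCategory.quotient_map_mem_quasiIso_iff, HomologicalComplex.mem_quasiIso_iff]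
    exact hs₀
  have fac₀ : (HomotopyCategory.quotient _ _).map s₀ ≫ (f₁ - f₂) = 0 := by
    dsimp only [s₀]
    rw [Functor.map_comp, Category.assoc, Preadditive.comp_sub, fac, sub_self, comp_zero]
  -- the cone of s₀ is acyclic
  have hT₁ := HomotopyCategory.mappingCone_triangleh_distinguished s₀
  have hacyc : HomotopyCategory.subcategoryAcyclic A
      ((HomotopyCategory.quotient _ _).obj (CochainComplex.mappingCone s₀)) := by
    rw [HomotopyCategory.quasiIso_eq_trW_subcategoryAcyclic] at hWs₀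
    exact ((HomotopyCategory.subcategoryAcyclic A).trW_iff_of_distinguished _ hT₁).1 hWs₀
  obtain ⟨g', hg'⟩ := Pretriangulated.Triangle.yoneda_exact₂ _ hT₁ (f₁ - f₂) fac₀
  obtain ⟨g'₀, hg'₀⟩ := (HomotopyCategory.quotient _ _).map_surjective
    (X := CochainComplex.mappingCone s₀) (Y := L) g'
  have hg'' : f₁ - f₂ = (HomotopyCategory.quotient _ _).map (CochainComplex.mappingCone.inr s₀) ≫
      (HomotopyCategory.quotient _ _).map g'₀ := by
    rw [hg'₀]; exact hg'
  have hT₂ := HomotopyCategory.mappingCone_triangleh_distinguished g'₀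
  have hW₂ : HomotopyCategory.quasiIso A (ComplexShape.up ℤ)
      ((HomotopyCategory.quotient _ _).map (CochainComplex.mappingCone.inr g'₀)) := by
    rw [HomotopyCategory.quasiIso_eq_trW_subcategoryAcyclic]
    exact ((HomotopyCategory.subcategoryAcyclic A).trW_iff_of_distinguished' _ hT₂).2 hacyc
  have hq₂ : QuasiIso (CochainComplex.mappingCone.inr g'₀) := by
    rw [← HomologicalComplex.mem_quasiIso_iff, ← HomotopyCategory.quotient_map_mem_quasiIso_iff]
    exact hW₂
  have hzero : (HomotopyCategory.quotient _ _).map g'₀ ≫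
      (HomotopyCategory.quotient _ _).map (CochainComplex.mappingCone.inr g'₀) = 0 :=
    Pretriangulated.comp_distTriang_mor_zero₁₂ _ hT₂
  -- boundedness
  have hb1 : (CochainComplex.mappingCone s₀).IsStrictlyLE b :=
    isStrictlyLE_mappingCone s₀ b b b (by omega) (le_refl _)
  have hb2 : (CochainComplex.mappingCone g'₀).IsStrictlyLE (max b b') :=
    isStrictlyLE_mappingCone g'₀ b b' (max b b') (by have := le_max_left b b'; omega) (le_max_right _ _)
  have hLGE : L.IsGE a' := inferInstance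
  have hGE : (CochainComplex.mappingCone g'₀).IsGE a' :=
    isGE_of_quasiIso' (CochainComplex.mappingCone.inr g'₀) a'
  let L'' := (CochainComplex.mappingCone g'₀).truncGE a'
  let t₀ : L ⟶ L'' := CochainComplex.mappingCone.inr g'₀ ≫ (CochainComplex.mappingCone g'₀).πTruncGE a'
  have ht₀ : QuasiIso t₀ := by dsimp only [t₀]; infer_instance
  refine ⟨L'', a', max b b', inferInstance, inferInstance, (HomotopyCategory.quotient _ _).map t₀, ?_, ?_⟩
  · rw [HomotopyCategory.quotient_map_mem_quasiIso_iff, HomologicalComplex.mem_quasiIso_iff]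
    exact ht₀
  · rw [← sub_eq_zero, ← Preadditive.sub_comp, hg'']
    dsimp only [t₀]
    rw [Functor.map_comp, Category.assoc, reassoc_of% hzero, zero_comp, comp_zero]


/-- Full faithfulness of Kᵇ(A)[Qis⁻¹] → Dᵇ(A), written in terms of roofs. Let A be an abelian category
and K, L bounded complexes (zero outside a finite range of degrees), viewed in the homotopy
category. Then every morphism Qh(K) → Qh(L) in the derived category is Qh(f) ≫ Qh(t)⁻¹ for some map
f : K → L' and quasi-isomorphism t : L → L' of K(A) with L' again bounded; and two maps f₁, f₂ : K →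
L of K(A) become equal in D(A) only if f₁ ≫ t = f₂ ≫ t for some quasi-isomorphism t : L → L' with L'
bounded. -/
theorem result {A : Type u} [Category.{v} A] [Abelian A] [HasDerivedCategory.{w} A]
    (K L : HomotopyCategory A (ComplexShape.up ℤ)) (a b a' b' : ℤ) [CochainComplex.IsStrictlyGE K.as a] [CochainComplex.IsStrictlyLE K.as b]
    [CochainComplex.IsStrictlyGE L.as a'] [CochainComplex.IsStrictlyLE L.as b'] :
    (∀ φ : DerivedCategory.Qh.obj K ⟶ DerivedCategory.Qh.obj L,
      ∃ (L' : HomotopyCategory A (ComplexShape.up ℤ)) (m n : ℤ) (_ : CochainComplex.IsStrictlyGE L'.as m) (_ : CochainComplex.IsStrictlyLE L'.as n) (f : K ⟶ L') (t : L ⟶ L'),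
        HomotopyCategory.quasiIso A (ComplexShape.up ℤ) t ∧ φ ≫ DerivedCategory.Qh.map t = DerivedCategory.Qh.map f) ∧
    (∀ f₁ f₂ : K ⟶ L, DerivedCategory.Qh.map f₁ = DerivedCategory.Qh.map f₂ →
      ∃ (L' : HomotopyCategory A (ComplexShape.up ℤ)) (m n : ℤ) (_ : CochainComplex.IsStrictlyGE L'.as m) (_ : CochainComplex.IsStrictlyLE L'.as n) (t : L ⟶ L'),
        HomotopyCategory.quasiIso A (ComplexShape.up ℤ) t ∧ f₁ ≫ t = f₂ ≫ t) := by
  obtain ⟨(K : CochainComplex A ℤ), rfl⟩ := HomotopyCategory.quotient_obj_surjective K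
  obtain ⟨(L : CochainComplex A ℤ), rfl⟩ := HomotopyCategory.quotient_obj_surjective L
  have : K.IsStrictlyLE b := ‹CochainComplex.IsStrictlyLE ((HomotopyCategory.quotient A (ComplexShape.up ℤ)).obj K).as b›
  have : L.IsStrictlyGE a' := ‹CochainComplex.IsStrictlyGE ((HomotopyCategory.quotient A (ComplexShape.up ℤ)).obj L).as a'›
  have : L.IsStrictlyLE b' := ‹CochainComplex.IsStrictlyLE ((HomotopyCategory.quotient A (ComplexShape.up ℤ)).obj L).as b'›
  constructor
  · intro φ
    obtain ⟨L', m, n, hm, hn, f, t, ht, hf⟩ := aux1 K L b a' b' φ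
    exact ⟨(HomotopyCategory.quotient _ _).obj L', m, n, hm, hn, f, t, ht, hf⟩
  · intro f₁ f₂ h
    obtain ⟨L', m, n, hm, hn, t, ht, hf⟩ := aux2 K L b a' b' f₁ f₂ h
    exact ⟨(HomotopyCategory.quotient _ _).obj L', m, n, hm, hn, t, ht, hf⟩

end Groth.Agent.S12228
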