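import Groth.Statements.S1223
import Mathlib

set_option autoImplicit false
universe u
open FlatMor

namespace Groth.Agent.S1223

/-- associated primes of a module isomorphic to a domain `D` over `D`. -/
theorem eq_bot_of_mem_associatedPrimes {D : Type u} [CommRing D] [IsDomain D] {X : Type u}
    [AddCommGroup X] [Module D X] (e : X ≃ₗ[D] D) {q : Ideal D}
    (hq : q ∈ associatedPrimes D X) : q = ⊥ := by
  obtain ⟨hpr, x, hx⟩ := Submodule.isAssociatedPrime_def.mp hq
  have hx0 : x ≠ 0 := by
    intro h0
    apply hpr.ne_top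
    rw [hx, Ideal.radical_eq_top, Ideal.eq_top_iff_one, Submodule.mem_colon_singleton, h0,
      smul_zero]
    exact Submodule.zero_mem _
  rw [Submodule.eq_bot_iff]
  intro d hd
  rw [hx] at hd
  obtain ⟨m, hm⟩ := hd
  rw [Submodule.mem_colon_singleton, Submodule.mem_bot] at hm
  have h1 : d ^ m * e x = 0 := by
    rw [← smul_eq_mul, ← map_smul, hm, map_zero]
  rcases mul_eq_zero.mp h1 with h2 | h2
  · exact IsReduced.eq_zero d ⟨m, h2⟩
  · exact absurd (e.map_eq_zero_iff.mp h2) hx0

open AlgebraicGeometry CategoryTheory in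
/-- the fibres of a base change of a ring map with geometrically integral fibres are domains. -/
theorem isDomain_fiber_baseChange {A B : Type u} [CommRing A] [CommRing B] [Algebra A B]
    (h : FlatCA.GeomIntegralFibres A B)
    (A' B' : Type u) [CommRing A'] [CommRing B'] [Algebra A A'] [Algebra B B'] [Algebra A' B']
    [Algebra A B'] [IsScalarTower A B B'] [IsScalarTower A A' B'] [Algebra.IsPushout A B A' B']
    (s : Ideal A') [s.IsPrime] : IsDomain (s.Fiber B') := by
  have hgeom := h.geometrically_isIntegral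
  have sq1 := CommRingCat.isPushout_of_isPushout A B A' B'
  have sq2 := (CommRingCat.isPushout_tensorProduct A' s.ResidueField B').flip
  have sq := sq1.paste_vert sq2
  have hpb := AlgebraicGeometry.isPullback_SpecMap_of_isPushout _ _ _ _ sq
  have hint := hgeom _ _ _ hpb
  exact (AlgebraicGeometry.affine_isIntegral_iff _).mp hint

attribute [local instance] Algebra.TensorProduct.rightAlgebra in
theorem main {A B : Type u} [CommRing A] [CommRing B] [Algebra A B] [Module.Flat A B]
    (h : FlatCA.GeomIntegralFibres A B) : FlatCA.IsUnivPure A B B := by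
  intro p _ A' B' N' _ _ _ _ _ _ _ _ _ _ _ _ _ _ f t' t _ _ P _ himp
  obtain ⟨hpush, hbc, hle, htp, hPt', hass, hno⟩ := himp
  haveI := hpush
  haveI := hPt'
  haveI : Module.Flat A' B' :=
    Module.Flat.isBaseChange (R := A) (S := A') (M := B) B' (Algebra.IsPushout.symm hpush).out
  haveI : IsDomain (t'.Fiber B') := isDomain_fiber_baseChange h A' B' t'
  haveI : IsDomain (t.Fiber B') := isDomain_fiber_baseChange h A' B' t
  let e₁ : N' ≃ₗ[B'] B' := hbc.equiv.symm ≪≫ₗ TensorProduct.AlgebraTensorModule.rid B B' B'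
  let e : FlatCA.fiberMod t' B' N' ≃ₗ[t'.Fiber B'] t'.Fiber B' :=
    (TensorProduct.AlgebraTensorModule.congr
      (LinearEquiv.refl (t'.Fiber B') (t'.Fiber B')) e₁) ≪≫ₗ
      TensorProduct.AlgebraTensorModule.rid B' (t'.Fiber B') (t'.Fiber B')
  have hbot : FlatCA.fiberIdeal t' P = ⊥ := eq_bot_of_mem_associatedPrimes e hass
  let P'' := (PrimeSpectrum.primesOverOrderIsoFiber A' B' t).symm ⟨⊥, Ideal.isPrime_bot⟩
  obtain ⟨Q, hQle, hQp, hQt'⟩ :=
    Ideal.exists_ideal_le_liesOver_of_le (p := t') (q := t) P''.1 hle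
  have hPQ : P ≤ Q := by
    intro b hb
    have h3 : (Algebra.TensorProduct.includeRight (R := A') (A := t'.ResidueField)
        (B := B')).toRingHom b ∈ FlatCA.fiberIdeal t' P := Ideal.mem_map_of_mem _ hb
    rw [hbot, Ideal.mem_bot] at h3
    have h4 : (Algebra.TensorProduct.includeRight (R := A') (A := t'.ResidueField) (B := B')) b
        = 0 := h3
    have hQeq := congrArg Subtype.val
      ((PrimeSpectrum.primesOverOrderIsoFiber A' B' t').symm_apply_apply ⟨Q, hQp, hQt'⟩)
    rw [PrimeSpectrum.coe_primesOverOrderIsoFiber_symm_apply] at hQeq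
    have hQeq' : b ∈ ((PrimeSpectrum.primesOverOrderIsoFiber A' B' t')
        ⟨Q, hQp, hQt'⟩).asIdeal.comap Algebra.TensorProduct.includeRight := by
      rw [Ideal.mem_comap, h4]
      exact Ideal.zero_mem _
    rw [hQeq] at hQeq'
    exact hQeq'
  exact hno P''.1 (le_trans hPQ hQle) inferInstance


/-- Ring form, X = Spec B affine: a finite type, flat A-algebra B with geometrically integral fibres is
universally pure relative to Spec A. -/
theorem result {A B : Type u} [CommRing A] [CommRing B] [Algebra A B] [Algebra.FiniteType A B] [Module.Flat A B]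
    (h : FlatCA.GeomIntegralFibres A B) : FlatCA.IsUnivPure A B B := by
  exact main h

end Groth.Agent.S1223
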