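import Groth.Statements.S12231
import Groth.Agent.H99.DevBC

set_option autoImplicit false
universe u
open TensorProduct
open FlatMor

namespace Groth.Agent.S12231

/-- All schemes are affine here, as in the ambient rendering of a one-step dévissage. Let R → S be a
ring map of finite type, N a finite S-module, p a prime of R and (C, D, G, n) a one-step dévissage
of N/S/R over p — C a finitely presented quotient of S with a finite C-module G identified with N
over S, D an R-algebra smooth of relative dimension n with geometrically irreducible fibres and a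
finite map D → C over R, n the dimension of the support of the fibre module of N over p. Let R → R'
be a ring map, p' a prime of R' over p, and let S', C', D' be the base changes of S, C, D to R'
(pushout squares, with the R'-algebra maps S' → C' ← D' induced from S → C ← D) and N' = N ⊗_S S',
G' = G ⊗_C C' (base-change maps f, g). Then (C', D', G', n) is a one-step dévissage of N'/S'/R' over
p'. -/
theorem result
    (R S : Type u) [CommRing R] [CommRing S] [Algebra R S] [Algebra.FiniteType R S]
    (N : Type u) [AddCommGroup N] [Module S N] [Module R N] [IsScalarTower R S N] [Module.Finite S N]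
    (p : Ideal R) [p.IsPrime]
    (C D G : Type u) [CommRing C] [CommRing D] [Algebra S C] [Algebra R C] [IsScalarTower R S C]
    [Algebra R D] [Algebra D C] [IsScalarTower R D C] [AddCommGroup G] [Module C G] [Module S G]
    [IsScalarTower S C G] (n : ℕ)
    (h : FlatCA.IsOneStepDevissage R S N p C D G n)
    (R' : Type u) [CommRing R'] [Algebra R R'] (p' : Ideal R') [p'.IsPrime] [p'.LiesOver p]
    (S' C' D' : Type u) [CommRing S'] [CommRing C'] [CommRing D']
    [Algebra R' S'] [Algebra R S'] [Algebra S S'] [IsScalarTower R R' S'] [IsScalarTower R S S']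
    [Algebra.IsPushout R R' S S']
    [Algebra R' C'] [Algebra R C'] [Algebra C C'] [IsScalarTower R R' C'] [IsScalarTower R C C']
    [Algebra.IsPushout R R' C C']
    [Algebra R' D'] [Algebra R D'] [Algebra D D'] [IsScalarTower R R' D'] [IsScalarTower R D D']
    [Algebra.IsPushout R R' D D']
    [Algebra S' C'] [IsScalarTower R' S' C'] [Algebra S C'] [IsScalarTower S S' C'] [IsScalarTower S C C']
    [Algebra D' C'] [IsScalarTower R' D' C'] [Algebra D C'] [IsScalarTower D D' C'] [IsScalarTower D C C']
    (N' : Type u) [AddCommGroup N'] [Module S' N'] [Module R' N'] [IsScalarTower R' S' N']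
    [Module S N'] [IsScalarTower S S' N'] (f : N →ₗ[S] N') (hf : IsBaseChange S' f)
    (G' : Type u) [AddCommGroup G'] [Module C' G'] [Module S' G'] [IsScalarTower S' C' G']
    [Module C G'] [IsScalarTower C C' G'] (g : G →ₗ[C] G') (hg : IsBaseChange C' g) :
    FlatCA.IsOneStepDevissage R' S' N' p' C' D' G' n := by
  obtain ⟨⟨e⟩, hsurj, hfp, hfinDC, hfinCG, hsm, hirr, hdim⟩ := h
  have tRS'C' : IsScalarTower R S' C' := IsScalarTower.of_algebraMap_eq (fun r => by
    rw [IsScalarTower.algebraMap_apply R R' C', IsScalarTower.algebraMap_apply R R' S',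
      ← IsScalarTower.algebraMap_apply R' S' C'])
  have tRD'C' : IsScalarTower R D' C' := IsScalarTower.of_algebraMap_eq (fun r => by
    rw [IsScalarTower.algebraMap_apply R R' C', IsScalarTower.algebraMap_apply R R' D',
      ← IsScalarTower.algebraMap_apply R' D' C'])
  have hP1 : Algebra.IsPushout R S R' S' := Algebra.IsPushout.symm inferInstance
  have hP1D : Algebra.IsPushout R D R' D' := Algebra.IsPushout.symm inferInstance
  have hP2 : Algebra.IsPushout R C R' C' := Algebra.IsPushout.symm inferInstance
  have hSC : Algebra.IsPushout S S' C C' :=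
    Algebra.IsPushout.symm ((Algebra.IsPushout.comp_iff (R := R) (S := S) (R' := R') (S' := S')
      (T := C) (T' := C')).mp hP2)
  have hDC : Algebra.IsPushout D D' C C' :=
    Algebra.IsPushout.symm ((Algebra.IsPushout.comp_iff (R := R) (S := D) (R' := R') (S' := D')
      (T := C) (T' := C')).mp hP2)
  refine ⟨?_, ?_, ?_, ?_, ?_, ?_, ?_, ?_⟩
  · exact ⟨hf.equiv.symm ≪≫ₗ
      (TensorProduct.AlgebraTensorModule.congr (LinearEquiv.refl S' S') e) ≪≫ₗ
      (Algebra.IsPushout.cancelBaseChange S S' C C' G).symm ≪≫ₗ
      (hg.equiv.restrictScalars S')⟩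
  · intro x
    refine hSC.out.inductionOn x (fun x => ∃ y, algebraMap S' C' y = x) ⟨0, map_zero _⟩ ?_ ?_ ?_
    · intro c
      obtain ⟨s, rfl⟩ := hsurj c
      refine ⟨algebraMap S S' s, ?_⟩
      show algebraMap S' C' (algebraMap S S' s) = algebraMap C C' (algebraMap S C s)
      rw [← IsScalarTower.algebraMap_apply S S' C', ← IsScalarTower.algebraMap_apply S C C']
    · rintro s' _ ⟨y, rfl⟩
      exact ⟨s' * y, by rw [map_mul, Algebra.smul_def]⟩
    · rintro _ _ ⟨y₁, rfl⟩ ⟨y₂, rfl⟩
      exact ⟨y₁ + y₂, map_add _ _ _⟩
  · exact Algebra.FinitePresentation.equiv (Algebra.IsPushout.equiv S S' C C')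
  · exact Module.Finite.equiv (Algebra.IsPushout.equiv D D' C C').toLinearEquiv
  · exact Module.Finite.equiv hg.equiv
  · have sq := CommRingCat.isPushout_of_isPushout R R' D D'
    have hpb := AlgebraicGeometry.isPullback_SpecMap_of_isPushout _ _ _ _ sq
    have hst := AlgebraicGeometry.smoothOfRelativeDimension_isStableUnderBaseChange (n := n)
    exact CategoryTheory.MorphismProperty.of_isPullback
      (P := @AlgebraicGeometry.SmoothOfRelativeDimension n) hpb.flip hsm
  · have sq := CommRingCat.isPushout_of_isPushout R R' D D'
    have hpb := AlgebraicGeometry.isPullback_SpecMap_of_isPushout _ _ _ _ sq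
    exact CategoryTheory.MorphismProperty.of_isPullback
      (P := @AlgebraicGeometry.GeometricallyIrreducible) hpb.flip hirr
  · exact (Groth.Agent.H99.DevBC.supportDim_fiberMod_baseChange N p R' S' p' N' f hf).trans hdim

end Groth.Agent.S12231
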