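import Groth.Statements.S12233
import Groth.Agent.H2.TorBC

set_option autoImplicit false
universe u
open scoped TensorProduct
open CAlg

namespace Groth.Agent.S12233

/-- Let R → S, R → R', S → S' and R' → S' be local homomorphisms of Noetherian local rings forming a
commutative square, I ⊊ R an ideal, M a finite S-module, I' = IR' and M' = M ⊗_S S' (given through a
base-change map f : M → M'). Assume (1) S' is a localization of S ⊗_R R' via the induced map, (2)
M/IM is flat over R/I, and (3) the map Tor_1^R(M, R/I) → Tor_1^{R'}(M', R'/I') is zero — with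
Tor_1(−, R/I) computed as the kernel of I ⊗_R M → M, this says that every element of that kernel
goes to zero under the natural map I ⊗_R M → I' ⊗_{R'} M'. Then M' is flat over R'. -/
theorem result
    (R S R' S' : Type u) [CommRing R] [CommRing S] [CommRing R'] [CommRing S']
    [IsLocalRing R] [IsLocalRing S] [IsLocalRing R'] [IsLocalRing S']
    [IsNoetherianRing R] [IsNoetherianRing S] [IsNoetherianRing R'] [IsNoetherianRing S']
    [Algebra R S] [Algebra R R'] [Algebra S S'] [Algebra R' S'] [Algebra R S']
    [IsScalarTower R S S'] [IsScalarTower R R' S']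
    [IsLocalHom (algebraMap R S)] [IsLocalHom (algebraMap R R')] [IsLocalHom (algebraMap S S')]
    [IsLocalHom (algebraMap R' S')]
    (I : Ideal R) (hI : I ≠ ⊤) (M : Type u) [AddCommGroup M] [Module S M] [Module R M] [IsScalarTower R S M]
    [Module.Finite S M]
    (M' : Type u) [AddCommGroup M'] [Module S' M'] [Module R' M'] [IsScalarTower R' S' M']
    [Module S M'] [IsScalarTower S S' M'] [Module R M'] [IsScalarTower R R' M'] [IsScalarTower R S M']
    (f : M →ₗ[S] M') (hf : IsBaseChange S' f)
    (h1 : ∃ W : Submonoid (S ⊗[R] R'),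
      letI : Algebra (S ⊗[R] R') S' :=
        (Algebra.TensorProduct.lift (IsScalarTower.toAlgHom R S S') (IsScalarTower.toAlgHom R R' S')
          (fun s r => Commute.all _ _)).toRingHom.toAlgebra;
      IsLocalization W S')
    (h2 : Module.Flat (R ⧸ I) ((R ⧸ I) ⊗[R] M))
    (h3 : ∀ x : ↥I ⊗[R] M, (Submodule.subtype I).rTensor M x = 0 →
      (TensorProduct.mapOfCompatibleSMul R' R R ↥(I.map (algebraMap R R')) M')
        ((TensorProduct.map (Algebra.idealMap R' I) (f.restrictScalars R)) x) = 0) :
    Module.Flat R' M' := by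
  classical
  obtain ⟨W, hW⟩ := h1
  let alg : Algebra (S ⊗[R] R') S' :=
    (Algebra.TensorProduct.lift (IsScalarTower.toAlgHom R S S') (IsScalarTower.toAlgHom R R' S')
      (fun s r => Commute.all _ _)).toRingHom.toAlgebra
  let : Algebra R' (S ⊗[R] R') := Algebra.TensorProduct.rightAlgebra
  have : IsLocalization W S' := hW
  have hmap : ∀ (s : S) (r : R'), algebraMap (S ⊗[R] R') S' (s ⊗ₜ r) =
      algebraMap S S' s * algebraMap R' S' r := fun s r => by
    rw [RingHom.algebraMap_toAlgebra]
    simp
  have : IsScalarTower S (S ⊗[R] R') S' := IsScalarTower.of_algebraMap_eq (fun s => by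
    rw [Algebra.TensorProduct.algebraMap_apply, hmap]
    simp)
  have : IsScalarTower R' (S ⊗[R] R') S' := IsScalarTower.of_algebraMap_eq (fun r => by
    have h0 : algebraMap R' (S ⊗[R] R') r = (1 : S) ⊗ₜ r := rfl
    rw [h0, hmap]
    simp)
  let : Module (S ⊗[R] R') M' := Module.compHom M' (algebraMap (S ⊗[R] R') S')
  have : IsScalarTower (S ⊗[R] R') S' M' := IsScalarTower.of_algebraMap_smul fun t m => rfl
  have hI' : I.map (algebraMap R R') ≠ ⊤ := by
    have h1 : (IsLocalRing.maximalIdeal R).map (algebraMap R R') ≤ IsLocalRing.maximalIdeal R' :=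
      ((IsLocalRing.local_hom_TFAE (algebraMap R R')).out 0 2).mp ‹IsLocalHom (algebraMap R R')›
    intro h
    have h2 : I.map (algebraMap R R') ≤ IsLocalRing.maximalIdeal R' :=
      (Ideal.map_mono (IsLocalRing.le_maximalIdeal hI)).trans h1
    rw [h] at h2
    exact (IsLocalRing.maximalIdeal.isMaximal R').ne_top (top_le_iff.mp h2)
  have := h2
  exact Groth.Agent.H2.TorBC.flat_of_tor_map_zero (T := S ⊗[R] R') W I hI' f hf h3

end Groth.Agent.S12233
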