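import Groth.Statements.S12236
import Groth.Agent.H47.Hens6

set_option autoImplicit false
universe u
open Hensel

namespace Groth.Agent.S12236

open CategoryTheory CategoryTheory.Limits
open Groth.Agent.H47.Hens Groth.Agent.H47.Hens.EtPt

section
variable (R : Type u) [CommRing R] (p : Ideal R) [p.IsPrime] (Rh : Type u) [CommRing Rh]
  [Algebra R Rh]

/-- The diagram of étale algebras under `R`. -/
noncomputable def D : EtPt R p ⥤ Under (CommRingCat.of R) where
  obj X := Under.mk (CommRingCat.ofHom (algebraMap R X.A))
  map {X Y} f := Under.homMk (CommRingCat.ofHom f.f.toRingHom) (by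
    apply CommRingCat.hom_ext
    apply RingHom.ext
    intro r
    exact f.f.commutes r)
  map_id X := by
    apply Under.UnderMorphism.ext
    rfl
  map_comp f g := by
    apply Under.UnderMorphism.ext
    rfl

/-- The cocone with point `Rh`. -/
noncomputable def cocone (e : H R p ≃ₐ[R] Rh) : Cocone (D R p) where
  pt := Under.mk (CommRingCat.ofHom (algebraMap R Rh))
  ι :=
    { app := fun X => Under.homMk (CommRingCat.ofHom (e.toAlgHom.comp (ιₐ R p X)).toRingHom) (by
        apply CommRingCat.hom_ext
        apply RingHom.ext
        intro r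
        exact (e.toAlgHom.comp (ιₐ R p X)).commutes r)
      naturality := fun X Y f => by
        apply Under.UnderMorphism.ext
        apply CommRingCat.hom_ext
        apply RingHom.ext
        intro a
        show e (ι R p Y (f.f a)) = e (ι R p X a)
        rw [ι_map] }

theorem compat (s : Cocone (D R p)) (X Y : EtPt R p) (f : X ⟶ Y) :
    ((s.ι.app Y).right.hom : Y.A →+* s.pt.right).comp f.f.toRingHom =
      ((s.ι.app X).right.hom : X.A →+* s.pt.right) :=
  congrArg (fun t => t.right.hom) (s.w f)

/-- The map out of `Rh` induced by a cocone. -/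
noncomputable def descHom (e : H R p ≃ₐ[R] Rh) (s : Cocone (D R p)) : Rh →+* s.pt.right :=
  (desc R p (T := s.pt.right) (fun X => ((s.ι.app X).right.hom : X.A →+* s.pt.right))
    (compat R p s)).comp e.symm.toAlgHom.toRingHom

theorem descHom_apply (e : H R p ≃ₐ[R] Rh) (s : Cocone (D R p)) (X : EtPt R p) (a : X.A) :
    descHom R p Rh e s (e (ι R p X a)) = (s.ι.app X).right.hom a := by
  show desc R p _ _ (e.symm (e (ι R p X a))) = _
  rw [AlgEquiv.symm_apply_apply, desc_ι]
  rfl

theorem descHom_algebraMap (e : H R p ≃ₐ[R] Rh) (s : Cocone (D R p)) (r : R) :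
    descHom R p Rh e s (algebraMap R Rh r) = s.pt.hom.hom r := by
  rw [← e.commutes, ← ι_algebraMap R p (X₀ R p), descHom_apply]
  exact congrArg (fun t => t.hom r) (Under.w (s.ι.app (X₀ R p)))

/-- The cocone is a colimit. -/
noncomputable def isColimit (e : H R p ≃ₐ[R] Rh) : IsColimit (cocone R p Rh e) where
  desc s := Under.homMk (CommRingCat.ofHom (descHom R p Rh e s)) (by
    apply CommRingCat.hom_ext
    apply RingHom.ext
    intro r
    exact descHom_algebraMap R p Rh e s r)
  fac s X := by
    apply Under.UnderMorphism.ext
    apply CommRingCat.hom_ext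
    apply RingHom.ext
    intro a
    exact descHom_apply R p Rh e s X a
  uniq s m hm := by
    apply Under.UnderMorphism.ext
    apply CommRingCat.hom_ext
    apply RingHom.ext
    intro y
    obtain ⟨X, a, ha⟩ := exists_rep R p (e.symm y)
    have hy : y = e (ι R p X a) := by rw [ha, AlgEquiv.apply_symm_apply]
    rw [hy]
    show m.right.hom (e (ι R p X a)) = descHom R p Rh e s (e (ι R p X a))
    rw [descHom_apply]
    exact congrArg (fun t => t.right.hom a) (hm X)

end

/-- Let R be a local ring and R^h a henselization of R, characterised by its universal property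
(henselian local, local structure map, initial among local homomorphisms from R to henselian local
rings). Then R^h is ind-étale over R: the R-algebra R^h is a filtered colimit, in the category of
R-algebras, of étale R-algebras. -/
theorem result (R : Type u) [CommRing R] [IsLocalRing R]
    (Rh : Type u) [CommRing Rh] [IsLocalRing Rh] [Algebra R Rh] [IsLocalHom (algebraMap R Rh)]
    [Hensel.IsHenselization R Rh] : EtPBC.IsIndEtale R Rh := by
  obtain ⟨e⟩ := exists_algEquiv R Rh
  refine ⟨EtPt R (IsLocalRing.maximalIdeal R), inferInstance, inferInstance,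
    D R (IsLocalRing.maximalIdeal R), cocone R (IsLocalRing.maximalIdeal R) Rh e,
    isColimit R (IsLocalRing.maximalIdeal R) Rh e, ?_, ⟨Iso.refl _⟩⟩
  intro X
  have heq : (algebraMap R X.A).toAlgebra = (inferInstance : Algebra R X.A) :=
    Algebra.algebra_ext _ _ (fun r => rfl)
  show @Algebra.Etale R X.A _ _ (algebraMap R X.A).toAlgebra
  rw [heq]
  infer_instance

end Groth.Agent.S12236
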