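import Groth.Statements.S12241
import Mathlib
import Groth.Agent.H20.ShrinkCore
-- import your own Groth.Agent.* helpers here

set_option autoImplicit false
universe u
open FlatMor

set_option linter.style.haveILetI false
set_option linter.unusedSectionVars false
set_option linter.unusedVariables false

namespace Groth.Agent.S12241


open TensorProduct in
/-- All schemes are affine and standard opens are rendered as localizations away from one element. Let R
→ S be of finite type, N a finite S-module, p ⊆ R and q ⊆ S primes with q over p, and (C, D, G, n;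
z, y) a one-step dévissage of N/S/R at q: (C, D, G, n) is a one-step dévissage over p (C a finitely
presented quotient of S carrying a finite module G identified with N, D smooth of relative dimension
n over R with geometrically irreducible fibres, D → C finite, n the dimension of the support of N ⊗
κ(p)), z is a prime of C over q and over the prime y of D, the local dimension at q of that support
is n, z is the only prime of C over y, and κ(y)/κ(p) is purely transcendental. Then for every u ∈ S
outside q (an open neighbourhood D(u) of the point q) there is a standard shrinking inside D(u):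
elements g ∉ p, hX ∉ q, hZ ∉ z, hY ∉ y with u invertible in S[1/hX], and ring and module structures
making S[1/hX], C[1/hZ], D[1/hY] algebras over R[1/g], C[1/hZ] an algebra over S[1/hX] and over
D[1/hY], all compatibly with the given maps, such that (C[1/hZ], D[1/hY], G[1/hZ], n) is a one-step
dévissage of N[1/hX] over S[1/hX] relative to R[1/g] at the extended prime of q, with the extended
primes of z and y as its points (z-point over the q-point and the y-point, unique over the y-point,
purely transcendental residue field over that of pR[1/g], and local dimension n of the fibre support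
at the q-point). -/
theorem result
    (R S : Type u) [CommRing R] [CommRing S] [Algebra R S] [Algebra.FiniteType R S]
    (N : Type u) [AddCommGroup N] [Module S N] [Module R N] [IsScalarTower R S N] [Module.Finite S N]
    (p : Ideal R) [p.IsPrime] (q : Ideal S) [q.IsPrime] [q.LiesOver p]
    (C D G : Type u) [CommRing C] [CommRing D] [Algebra S C] [Algebra R C] [IsScalarTower R S C]
    [Algebra R D] [Algebra D C] [IsScalarTower R D C] [AddCommGroup G] [Module C G] [Module S G]
    [IsScalarTower S C G] (n : ℕ)
    (h : FlatCA.IsOneStepDevissage R S N p C D G n)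
    (z : Ideal C) [z.IsPrime] (y : Ideal D) [y.IsPrime] [z.LiesOver q] [z.LiesOver y] [y.LiesOver p]
    (h1 : ∃ (ξ : PrimeSpectrum (p.Fiber S)) (hξ : ξ ∈ Module.support (p.Fiber S) (FlatCA.fiberMod p S N)),
      ξ.asIdeal = FlatCA.fiberIdeal p q ∧
      FlatMor.localDim (Module.support (p.Fiber S) (FlatCA.fiberMod p S N)) ⟨ξ, hξ⟩ = n)
    (h3 : ∀ (z₁ : Ideal C) [z₁.IsPrime], z₁.LiesOver y → z₁ = z)
    (h4 : FlatCA.PurelyTranscendental p y)
    (u : S) (hu : u ∉ q) :
    ∃ (g : R) (hX : S) (hZ : C) (hY : D), g ∉ p ∧ hX ∉ q ∧ hZ ∉ z ∧ hY ∉ y ∧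
      IsUnit (algebraMap S (Localization.Away hX) u) ∧
      ∃ (_ : Algebra (Localization.Away g) (Localization.Away hX)) (_ : IsScalarTower R (Localization.Away g) (Localization.Away hX))
        (_ : Algebra (Localization.Away g) (Localization.Away hZ)) (_ : IsScalarTower R (Localization.Away g) (Localization.Away hZ))
        (_ : Algebra (Localization.Away g) (Localization.Away hY)) (_ : IsScalarTower R (Localization.Away g) (Localization.Away hY))
        (_ : Algebra (Localization.Away hX) (Localization.Away hZ)) (_ : IsScalarTower S (Localization.Away hX) (Localization.Away hZ))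
        (_ : IsScalarTower (Localization.Away g) (Localization.Away hX) (Localization.Away hZ))
        (_ : Algebra (Localization.Away hY) (Localization.Away hZ)) (_ : IsScalarTower D (Localization.Away hY) (Localization.Away hZ))
        (_ : IsScalarTower (Localization.Away g) (Localization.Away hY) (Localization.Away hZ))
        (_ : Module (Localization.Away g) (LocalizedModule (Submonoid.powers hX) N)) (_ : IsScalarTower (Localization.Away g) (Localization.Away hX) (LocalizedModule (Submonoid.powers hX) N))
        (_ : Module (Localization.Away hX) (LocalizedModule (Submonoid.powers hZ) G)) (_ : IsScalarTower (Localization.Away hX) (Localization.Away hZ) (LocalizedModule (Submonoid.powers hZ) G))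
        (_ : (Ideal.map (algebraMap R (Localization.Away g)) p).IsPrime) (_ : (Ideal.map (algebraMap D (Localization.Away hY)) y).IsPrime) (_ : (Ideal.map (algebraMap D (Localization.Away hY)) y).LiesOver (Ideal.map (algebraMap R (Localization.Away g)) p)),
        FlatCA.IsOneStepDevissage (Localization.Away g) (Localization.Away hX) (LocalizedModule (Submonoid.powers hX) N) (Ideal.map (algebraMap R (Localization.Away g)) p) (Localization.Away hZ) (Localization.Away hY) (LocalizedModule (Submonoid.powers hZ) G) n ∧
        (∃ (ξ : PrimeSpectrum ((Ideal.map (algebraMap R (Localization.Away g)) p).Fiber (Localization.Away hX)))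
            (hξ : ξ ∈ Module.support ((Ideal.map (algebraMap R (Localization.Away g)) p).Fiber (Localization.Away hX)) (FlatCA.fiberMod (Ideal.map (algebraMap R (Localization.Away g)) p) (Localization.Away hX) (LocalizedModule (Submonoid.powers hX) N))),
          ξ.asIdeal = FlatCA.fiberIdeal (Ideal.map (algebraMap R (Localization.Away g)) p) (Ideal.map (algebraMap S (Localization.Away hX)) q) ∧
          FlatMor.localDim (Module.support ((Ideal.map (algebraMap R (Localization.Away g)) p).Fiber (Localization.Away hX)) (FlatCA.fiberMod (Ideal.map (algebraMap R (Localization.Away g)) p) (Localization.Away hX) (LocalizedModule (Submonoid.powers hX) N))) ⟨ξ, hξ⟩ = n) ∧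
        (Ideal.map (algebraMap C (Localization.Away hZ)) z).LiesOver (Ideal.map (algebraMap S (Localization.Away hX)) q) ∧ (Ideal.map (algebraMap C (Localization.Away hZ)) z).LiesOver (Ideal.map (algebraMap D (Localization.Away hY)) y) ∧
        (∀ (z₂ : Ideal (Localization.Away hZ)) [z₂.IsPrime], z₂.LiesOver (Ideal.map (algebraMap D (Localization.Away hY)) y) → z₂ = Ideal.map (algebraMap C (Localization.Away hZ)) z) ∧
        FlatCA.PurelyTranscendental (Ideal.map (algebraMap R (Localization.Away g)) p) (Ideal.map (algebraMap D (Localization.Away hY)) y) := by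
  classical
  have h' := h
  obtain ⟨-, hsurjSC, -, hfinDC, -, hsm, -, -⟩ := h'
  -- membership facts
  have hyp : ∀ r : R, algebraMap R D r ∈ y ↔ r ∈ p := fun r => by
    rw [← Ideal.mem_comap, ← Ideal.under_def, ← Ideal.LiesOver.over (p := p) (P := y)]
  have hzy : ∀ d : D, algebraMap D C d ∈ z ↔ d ∈ y := fun d => by
    rw [← Ideal.mem_comap, ← Ideal.under_def, ← Ideal.LiesOver.over (p := y) (P := z)]
  have hzq : ∀ s : S, algebraMap S C s ∈ z ↔ s ∈ q := fun s => by
    rw [← Ideal.mem_comap, ← Ideal.under_def, ← Ideal.LiesOver.over (p := q) (P := z)]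
  have huz : algebraMap S C u ∉ z := fun hmem => hu ((hzq u).mp hmem)
  -- an element `w ∉ y` of `D` whose image in `C` is a multiple of the image of `u`
  obtain ⟨w, hw, c₀, hc₀⟩ : ∃ w : D, w ∉ y ∧ ∃ c₀ : C, algebraMap D C w = algebraMap S C u * c₀ := by
    by_contra hcon
    push Not at hcon
    haveI : Algebra.IsIntegral D C := Algebra.IsIntegral.of_finite D C
    have hIP : (Ideal.span {algebraMap S C u}).comap (algebraMap D C) ≤ y := by
      intro d hd
      by_contra hdy
      rw [Ideal.mem_comap, Ideal.mem_span_singleton'] at hd
      obtain ⟨a, ha⟩ := hd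
      exact hcon d hdy a (by rw [← ha, mul_comm])
    obtain ⟨Q, hQI, hQ, hQy⟩ := Ideal.exists_ideal_over_prime_of_isIntegral y
      (Ideal.span {algebraMap S C u}) hIP
    haveI := hQ
    have hz₁ : Q.LiesOver y := ⟨hQy.symm⟩
    have hQz := h3 Q hz₁
    apply huz
    rw [← hQz]
    exact hQI (Ideal.subset_span rfl)
  obtain ⟨g, hg, hgP⟩ := Groth.Agent.H20.ShrinkSch.exists_base_shrink n hsm p y w hw
  have hgy : algebraMap R D g ∉ y := fun hmem => hg ((hyp g).mp hmem)
  have hYy : w * algebraMap R D g ∉ y := fun hmem =>
    (Ideal.IsPrime.mem_or_mem ‹y.IsPrime› hmem).elim hw hgy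
  obtain ⟨h₀, hh₀⟩ := hsurjSC (algebraMap D C (w * algebraMap R D g))
  have hgC : algebraMap R C g = algebraMap D C (algebraMap R D g) :=
    IsScalarTower.algebraMap_apply R D C g
  have hZ_eq : algebraMap S C (algebraMap R S g * (h₀ * u)) =
      algebraMap R C g * (algebraMap D C (w * algebraMap R D g) * algebraMap S C u) := by
    rw [map_mul, map_mul, hh₀, ← IsScalarTower.algebraMap_apply R S C]
  have hZz : algebraMap S C (algebraMap R S g * (h₀ * u)) ∉ z := by
    rw [hZ_eq]
    intro hmem
    rcases Ideal.IsPrime.mem_or_mem ‹z.IsPrime› hmem with h5 | h5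
    · rw [hgC] at h5; exact hgy ((hzy _).mp h5)
    · rcases Ideal.IsPrime.mem_or_mem ‹z.IsPrime› h5 with h6 | h6
      · exact hYy ((hzy _).mp h6)
      · exact huz h6
  have hXq : algebraMap R S g * (h₀ * u) ∉ q := fun hmem => hZz ((hzq _).mpr hmem)
  have huu : IsUnit (algebraMap S (Localization.Away (algebraMap R S g * (h₀ * u))) u) := by
    refine isUnit_of_dvd_unit ⟨algebraMap S _ (algebraMap R S g * h₀), ?_⟩
      (IsLocalization.Away.algebraMap_isUnit (algebraMap R S g * (h₀ * u)))
    rw [← map_mul]
    congr 1
    ring
  refine ⟨g, algebraMap R S g * (h₀ * u), algebraMap S C (algebraMap R S g * (h₀ * u)),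
    w * algebraMap R D g, hg, hXq, hZz, hYy, huu, ?_⟩
  refine Groth.Agent.H20.ShrinkCore.core R S N p q C D G n h z y h1 h3 h4 g
    (algebraMap R S g * (h₀ * u)) (algebraMap S C (algebraMap R S g * (h₀ * u)))
    (w * algebraMap R D g)
    hg hXq hZz hYy rfl ⟨h₀ * u, rfl⟩ ⟨algebraMap R C g * algebraMap S C u, ?_⟩
    ⟨2, c₀, ?_⟩
    ⟨w, mul_comm _ _⟩ ?_
  · rw [hZ_eq]; ring
  · rw [hZ_eq, hgC, map_mul, hc₀]
    ring
  · intro P hP hgP'
    obtain ⟨Q, hQ, hwQ, hQP⟩ := hgP P hP hgP'
    refine ⟨Q, hQ, ?_, hQP⟩
    intro hmem
    rcases Ideal.IsPrime.mem_or_mem hQ hmem with h5 | h5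
    · exact hwQ h5
    · apply hgP'
      rw [← hQP]
      exact h5

end Groth.Agent.S12241
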