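import Groth.Statements.S12244
import Groth.Agent.H99.DevBC2
import Groth.Agent.H99.DevBC3
import Groth.Agent.H99.DevBC4
import Groth.Agent.H99.DevBC5

set_option autoImplicit false
set_option linter.style.haveILetI false
universe u
open FlatMor

namespace Groth.Agent.S12244

open TensorProduct in
/-- All schemes are affine. Let R → S be of finite type, N a finite S-module, p ⊆ R and q ⊆ S primes, 𝒟
a complete dévissage of N/S/R over p in the prelude's algebraic form and 𝒜 a datum making it a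
complete dévissage at q (primes qB_i ⊆ B_i over p with purely transcendental residue fields, unique
primes qA_i ⊆ A_i over them, threaded through q and through the maps B_i → A_{i+1}, relative
dimensions d_i of R → B_i equal to the local dimension of the fibre support of M_i at qB_i). Let R →
R' be a ring map and p' a prime over p with κ(p) → κ(p') bijective, S' the base change of S, N' = N
⊗_S S', and q' a prime of S' over q and over p'. Let 𝒟' be a complete dévissage of N'/S'/R' over p'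
of the same length whose rings A'_i, B'_i (i below the length) are base changes of A_i, B_i along R
→ R' compatibly with B_i → A_i, B_i → A_{i+1}, S → A_0 and S' → A'_0, and whose modules M'_i are
base changes of M_i along A_i → A'_i compatibly with N ≅ M_0 and N' ≅ M'_0. Assume moreover that at
every index at or beyond the length the ring B'_i has a prime over p' and A'_i a prime over that one
(the structure's families run over all natural numbers and constrain nothing at those indices, while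
a datum at a point asks for such primes at every index; the condition touches only this
unconstrained tail and holds, for instance, when the tail repeats the last genuine step — without it
the zero ring could sit there and no datum would exist). Then 𝒟' is a complete dévissage at q' with
the same relative dimensions: there is a datum 𝒜' for (𝒟', q') with d' = d whose primes qB'_i, qA'_i
lie over qB_i, qA_i for every step i below the length. -/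
theorem result
    (R S : Type u) [CommRing R] [CommRing S] [Algebra R S] [Algebra.FiniteType R S]
    (N : Type u) [AddCommGroup N] [Module S N] [Module.Finite S N]
    (p : Ideal R) [p.IsPrime] (q : Ideal S) [q.IsPrime] (𝒟 : FlatCA.CompleteDevissage R S N p)
    (𝒜 : FlatCA.CompleteDevissageAt R S N p q 𝒟)
    (R' : Type u) [CommRing R'] [Algebra R R'] (p' : Ideal R') [p'.IsPrime] [hp' : p'.LiesOver p]
    (hκ : Function.Bijective (Ideal.ResidueField.mapₐ p p' (Algebra.ofId R R') hp'.over))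
    (S' : Type u) [CommRing S'] [Algebra R' S'] [Algebra R S'] [Algebra S S'] [IsScalarTower R R' S']
    [IsScalarTower R S S'] [Algebra.IsPushout R R' S S']
    (N' : Type u) [AddCommGroup N'] [Module S' N'] [Module S N'] [IsScalarTower S S' N']
    (f : N →ₗ[S] N') (hf : IsBaseChange S' f)
    (q' : Ideal S') [q'.IsPrime] [q'.LiesOver q] [q'.LiesOver p']
    (𝒟' : FlatCA.CompleteDevissage R' S' N' p') (hn : 𝒟'.n = 𝒟.n)
    (htail : ∀ i, 𝒟.n ≤ i → ∃ (Q : Ideal (𝒟'.B i)) (P : Ideal (𝒟'.A i)),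
      Q.IsPrime ∧ P.IsPrime ∧ Q.LiesOver p' ∧ P.LiesOver Q)
    [aA : ∀ i : Fin 𝒟.n, Algebra (𝒟.A i) (𝒟'.A i)] [rA : ∀ i : Fin 𝒟.n, Algebra R (𝒟'.A i)]
      [∀ i : Fin 𝒟.n, IsScalarTower R (R') (𝒟'.A i)] [∀ i : Fin 𝒟.n, IsScalarTower R (𝒟.A i) (𝒟'.A i)]
      [aB : ∀ i : Fin 𝒟.n, Algebra (𝒟.B i) (𝒟'.B i)] [rB : ∀ i : Fin 𝒟.n, Algebra R (𝒟'.B i)]
      [∀ i : Fin 𝒟.n, IsScalarTower R (R') (𝒟'.B i)] [∀ i : Fin 𝒟.n, IsScalarTower R (𝒟.B i) (𝒟'.B i)]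
      [bA : ∀ i : Fin 𝒟.n, Algebra (𝒟.B i) (𝒟'.A i)] [∀ i : Fin 𝒟.n, IsScalarTower (𝒟.B i) (𝒟.A i) (𝒟'.A i)]
      [∀ i : Fin 𝒟.n, IsScalarTower (𝒟.B i) (𝒟'.B i) (𝒟'.A i)]
      [bA' : ∀ i : Fin 𝒟.n, Algebra (𝒟.B i) (𝒟'.A (i + 1))]
      [∀ i : Fin 𝒟.n, IsScalarTower (𝒟.B i) (𝒟'.B i) (𝒟'.A (i + 1))]
      [sA : Algebra S (𝒟'.A 0)] [IsScalarTower S (S') (𝒟'.A 0)]
      [mA : ∀ i : Fin 𝒟.n, Module (𝒟.A i) (𝒟'.M i)] [∀ i : Fin 𝒟.n, IsScalarTower (𝒟.A i) (𝒟'.A i) (𝒟'.M i)]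
      (gM : ∀ i : Fin 𝒟.n, 𝒟.M i →ₗ[𝒟.A i] 𝒟'.M i)
    (hbc : (letI := aA ⟨0, 𝒟.pos⟩; IsScalarTower S (𝒟.A 0) (𝒟'.A 0)) ∧
      (∀ x : N, 𝒟'.isoN (f x) = gM ⟨0, 𝒟.pos⟩ (𝒟.isoN x)) ∧
      (∀ (i : Fin 𝒟.n) (h : (i : ℕ) + 1 < 𝒟.n),
        letI := aA ⟨i + 1, h⟩; IsScalarTower (𝒟.B i) (𝒟.A (i + 1)) (𝒟'.A (i + 1))) ∧
      ∀ i : Fin 𝒟.n,
        Algebra.IsPushout R R' (𝒟.A i) (𝒟'.A i) ∧ Algebra.IsPushout R R' (𝒟.B i) (𝒟'.B i) ∧
        IsBaseChange (𝒟'.A i) (gM i)) :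
    ∃ 𝒜' : FlatCA.CompleteDevissageAt R' S' N' p' q' 𝒟', 𝒜'.d = 𝒜.d ∧
      ∀ i : Fin 𝒟.n, (𝒜'.qB i).LiesOver (𝒜.qB i) ∧ (𝒜'.qA i).LiesOver (𝒜.qA i) := by
  classical
  haveI i1 := 𝒜.hqB
  haveI i2 := 𝒜.hqA
  haveI i3 := 𝒜.overB
  haveI i4 := 𝒜.overA
  obtain ⟨hS0, hiso, hBA1, hall⟩ := hbc
  -- existence of the primes
  have claim : ∀ i : ℕ, ∃ (Q : Ideal (𝒟'.B i)) (P : Ideal (𝒟'.A i)) (_ : Q.IsPrime)
      (_ : P.IsPrime) (_ : Q.LiesOver p') (_ : P.LiesOver Q),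
      ∀ h : i < 𝒟.n, (letI := aB ⟨i, h⟩; Q.LiesOver (𝒜.qB i)) ∧
        (letI := aA ⟨i, h⟩; P.LiesOver (𝒜.qA i)) := by
    intro i
    by_cases h : i < 𝒟.n
    · obtain ⟨k, rfl⟩ : ∃ k : Fin 𝒟.n, (k : ℕ) = i := ⟨⟨i, h⟩, rfl⟩
      obtain ⟨hPA, hPB, hgM⟩ := hall k
      haveI := hPA
      haveI : (𝒜.qA k).LiesOver p := Ideal.LiesOver.trans (𝒜.qA k) (𝒜.qB k) p
      obtain ⟨P, hP, hPa, hPp'⟩ :=
        Groth.Agent.H99.DevBC5.exists_prime_over p p' hκ (A' := 𝒟'.A k) (𝒜.qA k)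
      haveI := hP
      refine ⟨P.under (𝒟'.B k), P, Ideal.IsPrime.under _ P, hP, ⟨?_⟩, ⟨rfl⟩,
        fun h' => ⟨⟨?_⟩, hPa⟩⟩
      · rw [Ideal.under_under]
        exact hPp'.over
      · show 𝒜.qB k = (P.under (𝒟'.B k)).under (𝒟.B k)
        rw [Ideal.under_under, ← Ideal.under_under (B := 𝒟.A k) P, ← hPa.over]
        exact Ideal.LiesOver.over
    · obtain ⟨Q, P, hQ, hP, hQp, hPQ⟩ := htail i (not_lt.mp h)
      exact ⟨Q, P, hQ, hP, hQp, hPQ, fun h' => absurd h' h⟩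
  choose qB' qA' hqB' hqA' hovB' hovA' hrel using claim
  refine ⟨{ qB := qB', qA := qA', hqB := hqB', hqA := hqA', overB := hovB', overA := hovA',
            pureTrans := ?_, uniq := ?_, q0 := ?_, qStep := ?_, d := 𝒜.d, relDim := ?_,
            locDim := ?_ }, rfl, fun i => hrel i i.2⟩
  · -- pureTrans
    intro i hi
    rw [hn] at hi
    obtain ⟨k, rfl⟩ : ∃ k : Fin 𝒟.n, (k : ℕ) = i := ⟨⟨i, hi⟩, rfl⟩
    obtain ⟨hPA, hPB, hgM⟩ := hall k
    obtain ⟨hQ, hP⟩ := hrel k k.2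
    haveI := hPB
    haveI : (qB' k).LiesOver (𝒜.qB k) := hQ
    exact Groth.Agent.H99.DevBC4.purelyTranscendental_baseChange p p' hκ (𝒜.qB k) (qB' k)
      (𝒜.pureTrans k k.2)
  · -- uniq
    intro i hi Q₁ _ hQ₁
    rw [hn] at hi
    obtain ⟨k, rfl⟩ : ∃ k : Fin 𝒟.n, (k : ℕ) = i := ⟨⟨i, hi⟩, rfl⟩
    obtain ⟨hPA, hPB, hgM⟩ := hall k
    obtain ⟨hQ, hP⟩ := hrel k k.2
    haveI := hPA
    haveI := hQ₁
    haveI : (qB' k).LiesOver (𝒜.qB k) := hQ
    haveI : (qA' k).LiesOver (𝒜.qA k) := hP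
    haveI h₂ : Q₁.LiesOver p' := Ideal.LiesOver.trans Q₁ (qB' k) p'
    haveI h₃ : (qA' k).LiesOver p' := Ideal.LiesOver.trans (qA' k) (qB' k) p'
    haveI : (Q₁.under (𝒟.A k)).IsPrime := Ideal.IsPrime.under _ Q₁
    have h₁ : (Q₁.under (𝒟.A k)).LiesOver (𝒜.qB k) := ⟨by
      rw [Ideal.under_under, ← Ideal.under_under (B := 𝒟'.B k) Q₁, ← hQ₁.over]
      exact Ideal.LiesOver.over⟩
    have e0 : Q₁.under (𝒟.A k) = 𝒜.qA k := 𝒜.uniq k k.2 _ h₁
    have e2 : 𝒜.qA k = (qA' k).under (𝒟.A k) := Ideal.LiesOver.over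
    exact Groth.Agent.H99.DevBC3.prime_eq_of_comap_eq p p' hκ (S := 𝒟.A k) Q₁ (qA' k)
      (e0.trans e2)
  · -- q0
    letI a0 : Algebra (𝒟.A 0) (𝒟'.A 0) := aA ⟨0, 𝒟.pos⟩
    haveI t0 : IsScalarTower S (𝒟.A 0) (𝒟'.A 0) := hS0
    obtain ⟨hQ, hP⟩ := hrel 0 𝒟.pos
    haveI : (qA' 0).LiesOver (𝒜.qA 0) := hP
    haveI : ((qA' 0).comap (algebraMap S' (𝒟'.A 0))).IsPrime := Ideal.comap_isPrime _ _
    haveI : ((qA' 0).comap (algebraMap S' (𝒟'.A 0))).LiesOver p' := ⟨by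
      show p' = ((qA' 0).under S').under R'
      rw [Ideal.under_under, ← Ideal.under_under (B := 𝒟'.B 0) (qA' 0),
        ← (hovA' 0).over]
      exact (hovB' 0).over⟩
    apply Groth.Agent.H99.DevBC3.prime_eq_of_comap_eq p p' hκ (S := S)
    have e1 : ((qA' 0).comap (algebraMap S' (𝒟'.A 0))).comap (algebraMap S S') = q := by
      show ((qA' 0).under S').under S = q
      rw [Ideal.under_under, ← Ideal.under_under (B := 𝒟.A 0) (qA' 0),
        ← Ideal.LiesOver.over (p := 𝒜.qA 0) (P := qA' 0)]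
      exact 𝒜.q0
    have e2 : q = q'.comap (algebraMap S S') := Ideal.LiesOver.over
    exact e1.trans e2
  · -- qStep
    intro i hi
    rw [hn] at hi
    have hi0 : i < 𝒟.n := Nat.lt_of_succ_lt hi
    obtain ⟨k, rfl⟩ : ∃ k : Fin 𝒟.n, (k : ℕ) = i := ⟨⟨i, hi0⟩, rfl⟩
    obtain ⟨hPA, hPB, hgM⟩ := hall k
    obtain ⟨hQ, hP⟩ := hrel k k.2
    obtain ⟨hQ1, hP1⟩ := hrel (k + 1) hi
    letI a1 : Algebra (𝒟.A (k + 1)) (𝒟'.A (k + 1)) := aA ⟨k + 1, hi⟩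
    haveI t1 : IsScalarTower (𝒟.B k) (𝒟.A (k + 1)) (𝒟'.A (k + 1)) := hBA1 k hi
    haveI := hPB
    haveI : (qB' k).LiesOver (𝒜.qB k) := hQ
    haveI : (qA' (k + 1)).LiesOver (𝒜.qA (k + 1)) := hP1
    haveI : ((qA' (k + 1)).comap (algebraMap (𝒟'.B k) (𝒟'.A (k + 1)))).IsPrime :=
      Ideal.comap_isPrime _ _
    haveI : ((qA' (k + 1)).comap (algebraMap (𝒟'.B k) (𝒟'.A (k + 1)))).LiesOver p' := ⟨by
      show p' = ((qA' (k + 1)).under (𝒟'.B k)).under R'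
      rw [Ideal.under_under, ← Ideal.under_under (B := 𝒟'.B (k + 1)) (qA' (k + 1)),
        ← (hovA' (k + 1)).over]
      exact (hovB' (k + 1)).over⟩
    apply Groth.Agent.H99.DevBC3.prime_eq_of_comap_eq p p' hκ (S := 𝒟.B k)
    have e1 : ((qA' (k + 1)).comap (algebraMap (𝒟'.B k) (𝒟'.A (k + 1)))).comap
        (algebraMap (𝒟.B k) (𝒟'.B k)) = 𝒜.qB k := by
      show ((qA' (k + 1)).under (𝒟'.B k)).under (𝒟.B k) = 𝒜.qB k
      rw [Ideal.under_under, ← Ideal.under_under (B := 𝒟.A (k + 1)) (qA' (k + 1)),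
        ← Ideal.LiesOver.over (p := 𝒜.qA (k + 1)) (P := qA' (k + 1))]
      exact 𝒜.qStep k hi
    have e2 : 𝒜.qB k = (qB' k).comap (algebraMap (𝒟.B k) (𝒟'.B k)) := Ideal.LiesOver.over
    exact e1.trans e2
  · -- relDim
    intro i hi
    rw [hn] at hi
    obtain ⟨k, rfl⟩ : ∃ k : Fin 𝒟.n, (k : ℕ) = i := ⟨⟨i, hi⟩, rfl⟩
    obtain ⟨hPA, hPB, hgM⟩ := hall k
    haveI := hPB
    exact Groth.Agent.H99.DevBC5.smoothRelDim_baseChange (R := R) (D := 𝒟.B k) _ (𝒜.relDim k k.2)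
  · -- locDim
    intro i hi
    rw [hn] at hi
    obtain ⟨k, rfl⟩ : ∃ k : Fin 𝒟.n, (k : ℕ) = i := ⟨⟨i, hi⟩, rfl⟩
    obtain ⟨hPA, hPB, hgM⟩ := hall k
    obtain ⟨hQ, hP⟩ := hrel k k.2
    haveI := hPA
    haveI := hPB
    haveI : (qB' k).LiesOver (𝒜.qB k) := hQ
    haveI tRB'A' : IsScalarTower R (𝒟'.B k) (𝒟'.A k) := IsScalarTower.of_algebraMap_eq (fun r => by
      rw [IsScalarTower.algebraMap_apply R R' (𝒟'.A k), IsScalarTower.algebraMap_apply R R' (𝒟'.B k),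
        ← IsScalarTower.algebraMap_apply R' (𝒟'.B k) (𝒟'.A k)])
    have hP1D : Algebra.IsPushout R (𝒟.B k) R' (𝒟'.B k) := Algebra.IsPushout.symm inferInstance
    have hP2 : Algebra.IsPushout R (𝒟.A k) R' (𝒟'.A k) := Algebra.IsPushout.symm inferInstance
    haveI hDC : Algebra.IsPushout (𝒟.B k) (𝒟'.B k) (𝒟.A k) (𝒟'.A k) :=
      Algebra.IsPushout.symm ((Algebra.IsPushout.comp_iff (R := R) (S := 𝒟.B k) (R' := R')
        (S' := 𝒟'.B k) (T := 𝒟.A k) (T' := 𝒟'.A k)).mp hP2)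
    letI mB : Module (𝒟.B k) (𝒟'.M k) :=
      Module.compHom (𝒟'.M k) (algebraMap (𝒟.B k) (𝒟'.B k))
    haveI tBB'M' : IsScalarTower (𝒟.B k) (𝒟'.B k) (𝒟'.M k) :=
      IsScalarTower.of_algebraMap_smul (fun _ _ => rfl)
    let g' : 𝒟.M k →ₗ[𝒟.B k] 𝒟'.M k :=
      { toFun := gM k
        map_add' := map_add _
        map_smul' := fun b m => by
          show gM k (b • m) = algebraMap (𝒟.B k) (𝒟'.B k) b • gM k m
          rw [← algebraMap_smul (𝒟.A k) b m, map_smul,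
            ← algebraMap_smul (𝒟'.A k) (algebraMap (𝒟.B k) (𝒟.A k) b) (gM k m),
            ← IsScalarTower.algebraMap_apply (𝒟.B k) (𝒟.A k) (𝒟'.A k),
            IsScalarTower.algebraMap_apply (𝒟.B k) (𝒟'.B k) (𝒟'.A k), algebraMap_smul] }
    have hg' : IsBaseChange (𝒟'.B k) g' :=
      Groth.Agent.H99.DevBC5.isBaseChange_of_isPushout (𝒟.M k) (𝒟'.M k) (gM k) hgM g'
        (fun _ => rfl)
    exact Groth.Agent.H99.DevBC2.localDim_fiber_baseChange (𝒟.M k) p R' (𝒟'.B k) p' hκ (𝒟'.M k)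
      g' hg' (𝒜.qB k) (qB' k) (𝒜.d k) (𝒜.locDim k k.2)

end Groth.Agent.S12244
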