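import Groth.Statements.S12249
import Groth.Agent.H61.ArtFunDual
import Groth.Prelude.Def_ArtFun5
import Groth.Agent.H61.ArtFunBasic
import Mathlib.RingTheory.Nakayama

set_option autoImplicit false
universe u v
open CategoryTheory
open Deform

namespace Groth.Agent.S12249

/-- Let k be an algebraically closed field and F a set-valued functor on local Artinian k-algebras with
residue field k such that F(k) is a single point. If F has a semiuniversal formal element and its
tangent space F(k[ε]) is reduced to one element, then F(A) consists of exactly one element for every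
A: F is the constant one-point functor h_k. -/
theorem result
    {k : Type u} [Field k] [IsAlgClosed k]
    (F : ArtFun.Art k k ⥤ Type v) (h0 : ArtFun.H0 F) (hF : ArtFun.HasHull F)
    (ht : Subsingleton (ArtFun.TangentSpace F)) (A : ArtFun.Art k k) :
    Nonempty (F.obj A) ∧ Subsingleton (F.obj A) := by
  obtain ⟨H⟩ := hF
  obtain ⟨hvers, hbij⟩ := H.miniversal
  have hker : ∀ r : H.ring.carrier, r ∈ IsLocalRing.maximalIdeal H.ring.carrier ↔
      r ∈ RingHom.ker H.ring.res := by
    intro r
    rw [ArtFun.CRing.mem_maximalIdeal_iff, RingHom.mem_ker]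
  have hmeq : IsLocalRing.maximalIdeal H.ring.carrier = RingHom.ker H.ring.res := by
    ext r; exact hker r
  -- step 1: m ≤ m^2
  have h1 : IsLocalRing.maximalIdeal H.ring.carrier ≤ IsLocalRing.maximalIdeal H.ring.carrier ^ 2 := by
    intro x hx
    by_contra hx2
    rw [hmeq] at hx hx2
    obtain ⟨h, hh, hhx⟩ := Groth.Agent.H61.exists_dual_hom H.ring.res x hx hx2
    obtain ⟨h₀, hh₀, hh₀x⟩ := Groth.Agent.H61.exists_dual_hom_zero H.ring.res
    let φ : ArtFun.HomSet H.ring.carrier H.ring.res (ArtFun.Art.dual k k) := ⟨h, hh⟩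
    let φ₀ : ArtFun.HomSet H.ring.carrier H.ring.res (ArtFun.Art.dual k k) := ⟨h₀, hh₀⟩
    have : φ = φ₀ := hbij.1 (ht.elim _ _)
    have hx' : h x = h₀ x := congrArg (fun t => t.1 x) this
    rw [hx'] at hhx
    exact hhx (hh₀x x)
  -- step 2: m = ⊥
  have h2 : IsLocalRing.maximalIdeal H.ring.carrier = ⊥ := by
    apply Submodule.eq_bot_of_le_smul_of_le_jacobson_bot (IsLocalRing.maximalIdeal H.ring.carrier)
    · exact (IsNoetherian.noetherian _)
    · rw [smul_eq_mul, ← pow_two]; exact h1
    · rw [IsLocalRing.jacobson_eq_maximalIdeal ⊥ bot_ne_top]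
  -- step 3: HomSet to A is a singleton
  have hsub : Subsingleton (ArtFun.HomSet H.ring.carrier H.ring.res A) := by
    constructor
    rintro ⟨a, ha⟩ ⟨b, hb⟩
    apply Subtype.ext
    apply AlgHom.ext
    intro r
    change a r = b r
    have hr : r - algebraMap k H.ring.carrier (H.ring.res r) = 0 := by
      have : r - algebraMap k H.ring.carrier (H.ring.res r) ∈ IsLocalRing.maximalIdeal H.ring.carrier := by
        rw [hker, RingHom.mem_ker, map_sub, AlgHom.commutes, sub_eq_zero]; rfl
      rw [h2] at this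
      exact this
    rw [sub_eq_zero] at hr
    rw [hr, AlgHom.commutes, AlgHom.commutes]
  have hne : Nonempty (ArtFun.HomSet H.ring.carrier H.ring.res A) := by
    refine ⟨⟨(Algebra.ofId k A).comp H.ring.res, ?_⟩⟩
    apply AlgHom.ext
    intro r
    change A.res (algebraMap k A (H.ring.res r)) = H.ring.res r
    rw [AlgHom.commutes]; rfl
  -- step 4: ξ_A surjective
  have hsurj : Function.Surjective (H.family.app A) := by
    intro y
    have hb : Function.Surjective (ArtFun.Art.toBase A) := A.res_surjective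
    obtain ⟨ψ, -, hψ⟩ := hvers (ArtFun.Art.toBase A) hb _root_.H61.homSetBasePt y (h0.2.elim _ _)
    exact ⟨ψ, hψ⟩
  obtain ⟨ψ₀⟩ := hne
  refine ⟨⟨H.family.app A ψ₀⟩, ⟨fun a b => ?_⟩⟩
  obtain ⟨a', rfl⟩ := hsurj a
  obtain ⟨b', rfl⟩ := hsurj b
  rw [hsub.elim a' b']

end Groth.Agent.S12249
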