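import Groth.Statements.S12252
import Groth.Agent.H61.ArtFunLift

set_option autoImplicit false
universe u v
open CategoryTheory
open Deform

namespace Groth.Agent.S12252

/-- Let k be an algebraically closed field, Λ a complete local Noetherian k-algebra with residue field k
and F a set-valued functor on local Artinian Λ-algebras with residue field k. If (R, u) and (S, v)
both prorepresent F (complete local Noetherian Λ-algebras with residue field k carrying universal
families), then there is a unique isomorphism of Λ-algebras R ≅ S, compatible with the augmentations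
to k, along which the universal family of R is transported to that of S. -/
theorem result
    {k Λ : Type u} [Field k] [IsAlgClosed k] [CommRing Λ] [IsLocalRing Λ] [IsNoetherianRing Λ]
    [IsAdicComplete (IsLocalRing.maximalIdeal Λ) Λ] [Algebra k Λ] [Algebra Λ k] [IsScalarTower k Λ k]
    {F : ArtFun.Art Λ k ⥤ Type v} (P Q : ArtFun.ProRep F) :
    ∃! e : P.ring.carrier ≃ₐ[Λ] Q.ring.carrier,
      ∃ he : Q.ring.res.comp e.toAlgHom = P.ring.res, P.family.along e.toAlgHom he = Q.family := by
  have hsP : ∀ A, Function.Surjective (P.family.app A) := fun A => (P.universal A).2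
  have hsQ : ∀ A, Function.Surjective (Q.family.app A) := fun A => (Q.universal A).2
  -- φ : P.ring → Q.ring with P.family.along φ = Q.family
  obtain ⟨φ, hφ, hφ'⟩ := Groth.Agent.H61.exists_hom_of_isVersal (𝟙 F) Q.ring Q.family P.family
    (Groth.Agent.H61.isVersal_of_isUniversal _ P.universal) hsP
  obtain ⟨φ', hφ'1, hφ'2⟩ := Groth.Agent.H61.exists_hom_of_isVersal (𝟙 F) P.ring P.family Q.family
    (Groth.Agent.H61.isVersal_of_isUniversal _ Q.universal) hsQ
  have e1 : P.family.along φ hφ = Q.family :=
    Groth.Agent.H61.family_ext (fun A u => hφ' A u)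
  have e2 : Q.family.along φ' hφ'1 = P.family :=
    Groth.Agent.H61.family_ext (fun A u => hφ'2 A u)
  have hcomp1 : P.ring.res.comp (φ'.comp φ) = P.ring.res := by
    rw [← AlgHom.comp_assoc, hφ'1, hφ]
  have hcomp2 : Q.ring.res.comp (φ.comp φ') = Q.ring.res := by
    rw [← AlgHom.comp_assoc, hφ, hφ'1]
  have hid1 : φ'.comp φ = AlgHom.id Λ _ := by
    apply Groth.Agent.H61.along_injective_of_isUniversal P.ring P.family P.universal P.ring _ _ hcomp1
      (AlgHom.comp_id _)
    apply Groth.Agent.H61.family_ext
    intro A u
    have h1 : (P.family.along (φ'.comp φ) hcomp1).app A u = (Q.family.along φ' hφ'1).app A u := by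
      rw [← e1]; rfl
    rw [h1, e2]
    rfl
  have hid2 : φ.comp φ' = AlgHom.id Λ _ := by
    apply Groth.Agent.H61.along_injective_of_isUniversal Q.ring Q.family Q.universal Q.ring _ _ hcomp2
      (AlgHom.comp_id _)
    apply Groth.Agent.H61.family_ext
    intro A u
    have h1 : (Q.family.along (φ.comp φ') hcomp2).app A u = (P.family.along φ hφ).app A u := by
      rw [← e2]; rfl
    rw [h1, e1]
    rfl
  refine ⟨AlgEquiv.ofAlgHom φ φ' hid2 hid1, ⟨hφ, e1⟩, ?_⟩
  rintro e ⟨he, hee⟩
  apply AlgEquiv.coe_toAlgHom_injective
  apply Groth.Agent.H61.along_injective_of_isUniversal P.ring P.family P.universal Q.ring _ _ he hφ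
  rw [hee]
  exact e1.symm

end Groth.Agent.S12252
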