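import Groth.Statements.S12257
import Mathlib.CategoryTheory.Limits.Types.Pullbacks
import Mathlib.CategoryTheory.Limits.FunctorCategory.Basic
import Mathlib.CategoryTheory.Limits.Preserves.Shapes.Pullbacks
import Mathlib.CategoryTheory.Limits.Shapes.Pullback.IsPullback.Basic

set_option autoImplicit false
universe u v
open CategoryTheory CategoryTheory.Limits
open Deform

namespace Groth.Agent.S12257

/-- Let k be an algebraically closed field, Λ a complete local Noetherian k-algebra with residue field
k, and F, G, H set-valued functors on local Artinian Λ-algebras with residue field k, each with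
one-point value at k. If F → G is a smooth morphism of functors and H → G is any morphism, then the
second projection F ×_G H → H of the fibre product of functors is smooth. -/
theorem result
    {k Λ : Type u} [Field k] [IsAlgClosed k] [CommRing Λ] [IsLocalRing Λ] [IsNoetherianRing Λ]
    [IsAdicComplete (IsLocalRing.maximalIdeal Λ) Λ] [Algebra k Λ] [Algebra Λ k] [IsScalarTower k Λ k]
    {F G H : ArtFun.Art Λ k ⥤ Type v} (η : F ⟶ G) (θ : H ⟶ G)
    (hF : ArtFun.H0 F) (hG : ArtFun.H0 G) (hH : ArtFun.H0 H) (hη : ArtFun.IsSmooth η) :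
    ArtFun.IsSmooth (pullback.snd η θ) := by
  have hpb : ∀ A, IsPullback ((pullback.fst η θ).app A) ((pullback.snd η θ).app A) (η.app A) (θ.app A) :=
    fun A => (IsPullback.of_hasPullback η θ).map ((evaluation _ _).obj A)
  intro B A μ hμ z
  obtain ⟨⟨z, h⟩, hzh⟩ := z
  change (pullback.snd η θ).app A z = H.map μ h at hzh
  -- x = fst z
  have h1 : η.app A ((pullback.fst η θ).app A z) = G.map μ (θ.app B h) := by
    have e1 : η.app A ((pullback.fst η θ).app A z) = θ.app A ((pullback.snd η θ).app A z) :=
      ConcreteCategory.congr_hom (hpb A).w z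
    rw [e1, hzh]
    exact NatTrans.naturality_apply θ μ h
  obtain ⟨x', hx'⟩ := hη μ hμ ⟨((pullback.fst η θ).app A z, θ.app B h), h1⟩
  have hx'1 : F.map μ x' = (pullback.fst η θ).app A z := congrArg (fun t => t.1.1) hx'
  have hx'2 : η.app B x' = θ.app B h := congrArg (fun t => t.1.2) hx'
  obtain ⟨w, hw1, hw2⟩ := Types.exists_of_isPullback (hpb B) x' h hx'2
  refine ⟨w, ?_⟩
  apply Subtype.ext
  apply Prod.ext
  · change (pullback η θ).map μ w = z
    apply Types.ext_of_isPullback (hpb A)
    · rw [← hx'1, ← hw1]
      exact NatTrans.naturality_apply (pullback.fst η θ) μ w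
    · rw [hzh, ← hw2]
      exact NatTrans.naturality_apply (pullback.snd η θ) μ w
  · exact hw2

end Groth.Agent.S12257
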