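import Groth.Statements.S12258
import Mathlib.CategoryTheory.Limits.Types.Products
import Mathlib.CategoryTheory.Limits.FunctorCategory.Basic
import Mathlib.CategoryTheory.Limits.Preserves.Shapes.BinaryProducts

set_option autoImplicit false
universe u v
open CategoryTheory CategoryTheory.Limits
open Deform

namespace Groth.Agent.S12258

/-- existence in a limit binary fan of types -/
theorem exists_of_isLimit_binaryFan {X Y P : Type v} {f : P ⟶ X} {g : P ⟶ Y}
    (h : IsLimit (BinaryFan.mk f g)) (x : X) (y : Y) : ∃ z : P, f z = x ∧ g z = y := by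
  let s : BinaryFan X Y := BinaryFan.mk (P := PUnit.{v + 1}) (↾fun _ => x) (↾fun _ => y)
  refine ⟨h.lift s PUnit.unit, ?_, ?_⟩
  · exact ConcreteCategory.congr_hom (h.fac s ⟨WalkingPair.left⟩) PUnit.unit
  · exact ConcreteCategory.congr_hom (h.fac s ⟨WalkingPair.right⟩) PUnit.unit

/-- uniqueness in a limit binary fan of types -/
theorem ext_of_isLimit_binaryFan {X Y P : Type v} {f : P ⟶ X} {g : P ⟶ Y}
    (h : IsLimit (BinaryFan.mk f g)) (z w : P) (h1 : f z = f w) (h2 : g z = g w) : z = w := by
  let a : PUnit.{v + 1} ⟶ P := ↾fun _ => z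
  let b : PUnit.{v + 1} ⟶ P := ↾fun _ => w
  have : a = b := by
    apply BinaryFan.IsLimit.hom_ext h
    · ext u; exact h1
    · ext u; exact h2
  exact ConcreteCategory.congr_hom this PUnit.unit


/-- Let k be an algebraically closed field, Λ a complete local Noetherian k-algebra with residue field
k, and F, G set-valued functors on local Artinian Λ-algebras with residue field k, each with
one-point value at k. If F and G are smooth functors, i.e. F(B) → F(A) and G(B) → G(A) are
surjective for every surjection B → A, then the product functor F × G is smooth. -/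
theorem result
    {k Λ : Type u} [Field k] [IsAlgClosed k] [CommRing Λ] [IsLocalRing Λ] [IsNoetherianRing Λ]
    [IsAdicComplete (IsLocalRing.maximalIdeal Λ) Λ] [Algebra k Λ] [Algebra Λ k] [IsScalarTower k Λ k]
    {F G : ArtFun.Art Λ k ⥤ Type v}
    (hF : ArtFun.H0 F) (hG : ArtFun.H0 G) (sF : ArtFun.IsSmoothFunctor F) (sG : ArtFun.IsSmoothFunctor G) :
    ArtFun.IsSmoothFunctor (F ⨯ G) := by
  have hlim : ∀ A, IsLimit (BinaryFan.mk ((prod.fst : F ⨯ G ⟶ F).app A) ((prod.snd : F ⨯ G ⟶ G).app A)) :=
    fun A => (isLimitMapConeBinaryFanEquiv ((evaluation _ _).obj A) _ _)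
      (isLimitOfPreserves ((evaluation _ _).obj A) (prodIsProd F G))
  intro B A μ hμ z
  obtain ⟨x', hx'⟩ := sF μ hμ ((prod.fst : F ⨯ G ⟶ F).app A z)
  obtain ⟨y', hy'⟩ := sG μ hμ ((prod.snd : F ⨯ G ⟶ G).app A z)
  obtain ⟨w, hw1, hw2⟩ := exists_of_isLimit_binaryFan (hlim B) x' y'
  refine ⟨w, ?_⟩
  apply ext_of_isLimit_binaryFan (hlim A)
  · rw [← hx', ← hw1]
    exact NatTrans.naturality_apply (prod.fst : F ⨯ G ⟶ F) μ w
  · rw [← hy', ← hw2]
    exact NatTrans.naturality_apply (prod.snd : F ⨯ G ⟶ G) μ w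

end Groth.Agent.S12258
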