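import Groth.Statements.S1246
import Groth.Agent.H99.PureDesc2
import Groth.Agent.H99.QFNhd

set_option autoImplicit false
set_option linter.style.haveILetI false
universe u
open FlatMor

namespace Groth.Agent.S1246

/-- Ring form, X = Spec B affine: let B be a finite type A-algebra, N a finite B-module and p a prime of
A. If there is an impurity of N above p whose base change A → A' is of finite type and quasi-finite
at the point t, then there is an impurity of N above p for which (A', t) is an elementary étale ring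
map at p. -/
theorem result {A B : Type u} [CommRing A] [CommRing B] [Algebra A B] [Algebra.FiniteType A B]
    (N : Type u) [AddCommGroup N] [Module B N] [Module.Finite B N] (p : Ideal A) [p.IsPrime]
    (h : FlatCA.HasImpurity A B N p (fun A' _ _ t => ∃ _ : t.IsPrime, Algebra.FiniteType A A' ∧ Algebra.QuasiFiniteAt A t)) :
    FlatCA.HasImpurity A B N p (fun A' _ _ t => ∃ _ : t.IsPrime, FlatCA.IsEtaleNhd A A' p t) := by
  classical
  obtain ⟨A', B', N', _, _, _, _, _, _, _, _, _, _, _, _, _, _, f, t', t, _, _, P, _, himp,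
    ht, hft, hqf⟩ := h
  obtain ⟨hpo, hbc, hle, hover, hPover, hass, hno⟩ := id himp
  haveI := hover
  haveI := hft
  haveI := hqf
  obtain ⟨E, A'', _, _, _, _, _, _, _, _, PE, hPEp, t'', ht''p, hnhd, hflat, hfin, hct, hcE, huq⟩ :=
    Groth.Agent.H99.QFNhd.exists_finite_etale_nbhd (A := A) (A' := A') p t
  haveI := hPEp
  haveI := ht''p
  haveI := hflat
  haveI := hfin
  haveI : t''.LiesOver t := ⟨hct.symm⟩
  obtain ⟨t₁'', hle'', ht₁''p, ht₁''o⟩ :=
    Ideal.exists_ideal_le_liesOver_of_le (p := t') (q := t) t'' hle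
  haveI := ht₁''p
  haveI := ht₁''o
  have h1 := Groth.Agent.H99.PureDesc.impurity_ascend N p A' B' N' f t' t P himp A'' t₁'' t'' hle''
    (fun A₂ _ _ t₂ => ∃ (_ : t₂.IsPrime) (_ : Algebra E A₂) (_ : IsScalarTower A E A₂),
      Algebra.IsIntegral E A₂ ∧ t₂.comap (algebraMap E A₂) = PE ∧
      ∀ (s : Ideal A₂) [s.IsPrime], s.comap (algebraMap E A₂) = PE → s = t₂)
    ⟨inferInstance, inferInstance, inferInstance, Algebra.IsIntegral.of_finite E A'', hcE,
      fun s _ hs => huq s hs⟩
  obtain ⟨A₂, B₂, N₂, _, _, _, _, _, _, _, _, _, _, _, _, _, _, f₂, t₂', t₂, _, _, P₂, _, himp₂,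
    _, algE, towE, hint, hc, huniq⟩ := h1
  letI := algE
  haveI := towE
  haveI := hint
  subst hc
  exact Groth.Agent.H99.PureDesc.impurity_descend_integral N p A₂ B₂ N₂ f₂ t₂' t₂ P₂ himp₂ E
    (fun s _ h => huniq s h) _ ⟨hPEp, hnhd⟩

end Groth.Agent.S1246
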