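import Groth.Statements.S1226
import Groth.Agent.S1246

set_option autoImplicit false
set_option linter.style.haveILetI false
universe u
open FlatMor

namespace Groth.Agent.S1226

/-- Ring form, X = Spec B affine: let B be a finite type A-algebra, N a finite B-module and p a prime of
A; let A' be an A-algebra with a prime p' over p such that A' is of finite type over A and
quasi-finite at p', and let B', N' be the base changes of B, N. If N is pure along the fibre over p
then N' is pure along the fibre over p'. -/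
theorem result {A B : Type u} [CommRing A] [CommRing B] [Algebra A B] [Algebra.FiniteType A B]
    (N : Type u) [AddCommGroup N] [Module B N] [Module.Finite B N] (p : Ideal A) [p.IsPrime]
    (A' B' N' : Type u) [CommRing A'] [CommRing B'] [Algebra A A'] [Algebra B B'] [Algebra A' B'] [Algebra A B']
    [IsScalarTower A B B'] [IsScalarTower A A' B'] [Algebra.IsPushout A B A' B']
    [AddCommGroup N'] [Module B' N'] [Module B N'] [IsScalarTower B B' N'] (f : N →ₗ[B] N') (hf : IsBaseChange B' f)
    (p' : Ideal A') [p'.IsPrime] [p'.LiesOver p] [Algebra.FiniteType A A'] [Algebra.QuasiFiniteAt A p']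
    (h : FlatCA.IsPureAlong A B N p) : FlatCA.IsPureAlong A' B' N' p' := by
  classical
  intro A₁ B₁ N₁ _ _ _ _ _ _ _ _ _ _ _ _ _ _ f₁ t₁' t₁ _ _ P₁ _ hét himp
  obtain ⟨hE, hover₁, hbij⟩ := hét
  obtain ⟨hpo₁, hbc₁, hle₁, -, hP₁over, hass, hno⟩ := id himp
  haveI := hover₁
  haveI := hE
  letI algAA₁ : Algebra A A₁ := ((algebraMap A' A₁).comp (algebraMap A A')).toAlgebra
  haveI tAA'A₁ : IsScalarTower A A' A₁ := IsScalarTower.of_algebraMap_eq (fun _ => rfl)
  letI algBB₁ : Algebra B B₁ := ((algebraMap B' B₁).comp (algebraMap B B')).toAlgebra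
  haveI tBB'B₁ : IsScalarTower B B' B₁ := IsScalarTower.of_algebraMap_eq (fun _ => rfl)
  letI algAB₁ : Algebra A B₁ := ((algebraMap A' B₁).comp (algebraMap A A')).toAlgebra
  haveI tAA'B₁ : IsScalarTower A A' B₁ := IsScalarTower.of_algebraMap_eq (fun _ => rfl)
  haveI tAA₁B₁ : IsScalarTower A A₁ B₁ := IsScalarTower.of_algebraMap_eq (fun a => by
    show algebraMap A' B₁ (algebraMap A A' a) =
      algebraMap A₁ B₁ (algebraMap A' A₁ (algebraMap A A' a))
    rw [← IsScalarTower.algebraMap_apply A' A₁ B₁])
  haveI tAB'B₁ : IsScalarTower A B' B₁ := IsScalarTower.of_algebraMap_eq (fun a => by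
    show algebraMap A' B₁ (algebraMap A A' a) = algebraMap B' B₁ (algebraMap A B' a)
    rw [IsScalarTower.algebraMap_apply A A' B', ← IsScalarTower.algebraMap_apply A' B' B₁])
  haveI tABB₁ : IsScalarTower A B B₁ := IsScalarTower.of_algebraMap_eq (fun a => by
    show algebraMap A' B₁ (algebraMap A A' a) =
      algebraMap B' B₁ (algebraMap B B' (algebraMap A B a))
    rw [← IsScalarTower.algebraMap_apply A B B', IsScalarTower.algebraMap_apply A A' B',
      ← IsScalarTower.algebraMap_apply A' B' B₁])
  letI modBN₁ : Module B N₁ := Module.compHom N₁ (algebraMap B B₁)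
  haveI tBB₁N₁ : IsScalarTower B B₁ N₁ := IsScalarTower.of_algebraMap_smul (fun _ _ => rfl)
  haveI tBB'N₁ : IsScalarTower B B' N₁ := IsScalarTower.of_algebraMap_smul (fun b x => by
    show algebraMap B B' b • x = algebraMap B B₁ b • x
    rw [IsScalarTower.algebraMap_apply B B' B₁, algebraMap_smul B₁ (algebraMap B B' b) x])
  haveI hs : Algebra.IsPushout A A' B B' := Algebra.IsPushout.symm inferInstance
  have h2 : Algebra.IsPushout A' A₁ B' B₁ := hpo₁.symm
  have h3 : Algebra.IsPushout A A₁ B B₁ :=
    (Algebra.IsPushout.comp_iff A A' B (S' := B') (T := A₁) (T' := B₁)).mpr h2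
  have hpo : Algebra.IsPushout A B A₁ B₁ := h3.symm
  have hcomp : IsBaseChange B₁ ((f₁.restrictScalars B).comp f) := IsBaseChange.comp hf hbc₁
  have hover : t₁.LiesOver p := ⟨by
    have h1 : p = p'.comap (algebraMap A A') := Ideal.LiesOver.over
    have h2 : p' = t₁.comap (algebraMap A' A₁) := hover₁.over
    rw [h1, h2]
    rfl⟩
  have himpA : FlatCA.IsImpurity A B N p A₁ B₁ N₁ ((f₁.restrictScalars B).comp f) t₁' t₁ P₁ :=
    ⟨hpo, hcomp, hle₁, hover, hP₁over, hass, hno⟩
  haveI hft : Algebra.FiniteType A A₁ := Algebra.FiniteType.trans (S := A') inferInstance inferInstance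
  haveI : Algebra.QuasiFinite A' A₁ := inferInstance
  haveI : Algebra.QuasiFinite A' (Localization.AtPrime t₁) := inferInstance
  letI := Localization.AtPrime.algebraOfLiesOver p' t₁
  haveI : Algebra.QuasiFinite (Localization.AtPrime p') (Localization.AtPrime t₁) :=
    Algebra.QuasiFinite.of_restrictScalars A' (Localization.AtPrime p') (Localization.AtPrime t₁)
  haveI hqf : Algebra.QuasiFiniteAt A t₁ :=
    Algebra.QuasiFinite.trans (R := A) (S := Localization.AtPrime p') (T := Localization.AtPrime t₁)
  obtain ⟨A₂, B₂, N₂, _, _, _, _, _, _, _, _, _, _, _, _, _, _, f₂, t₂', t₂, _, _, P₂, _, himp₂,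
    _, hét₂⟩ := Groth.Agent.S1246.result N p ⟨A₁, B₁, N₁, inferInstance, inferInstance, inferInstance,
      inferInstance, inferInstance, inferInstance, inferInstance, inferInstance, inferInstance,
      inferInstance, inferInstance, inferInstance, inferInstance, inferInstance,
      (f₁.restrictScalars B).comp f, t₁', t₁, inferInstance, inferInstance, P₁, inferInstance,
      himpA, inferInstance, hft, hqf⟩
  exact h A₂ B₂ N₂ f₂ t₂' t₂ P₂ hét₂ himp₂

end Groth.Agent.S1226
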