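import Groth.Statements.S12264
import Groth.Agent.H61.DefDict
import Groth.Agent.H61.T2Obs
-- import your own Groth.Agent.* helpers here

set_option autoImplicit false
universe u
open CategoryTheory CategoryTheory.Limits AlgebraicGeometry
open Deform

namespace Groth.Agent.S12264

/-- Let k be an algebraically closed field and B₀ a k-algebra given with a finite presentation P =
k[X_i]/(f_s) (finitely many variables and relations), and let T² = T²(B₀/k, B₀) be the second
cotangent module computed from P (classes of B₀-linear maps on the relation module modulo trivial
relations, modulo those extending to the free module on the relations). Suppose T² = 0. Then Spec B₀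
is unobstructed: for every small extension A' → A of local Artinian k-algebras with residue field k
the map Def_{B₀}(A') → Def_{B₀}(A) between isomorphism classes of deformations (schemes flat over
the Artinian base with Spec B₀ as closed fibre) is surjective. (The published statement says that
T²_{B₀} is an obstruction space for Def_{B₀}, for B₀ the quotient of any smooth k-algebra that is a
localisation of a polynomial ring: each deformation over A has an obstruction in T²_{B₀} attached to
each small extension of A, vanishing exactly when a lifting exists; this row states the consequence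
for T²_{B₀} = 0 and a polynomial presentation.) -/
theorem result
    {k : Type u} [Field k] [IsAlgClosed k] (B₀ : Type u) [CommRing B₀] [Algebra k B₀] {ι σ : Type u} [Finite ι] [Finite σ]
    (P : Algebra.Presentation k B₀ ι σ)
    (hT2 : Subsingleton (CotT.T2 P B₀))
    {A' A : ArtFun.Art k k} (p : A' ⟶ A) (hp : ArtFun.Art.IsSmallExt p) :
    Function.Surjective ((ArtFun.defFunctor (Λ := k) (Spec (CommRingCat.of B₀)) (Spec.map (CommRingCat.ofHom (algebraMap k B₀)))).map p) := by
  classical
  let π₀ : MvPolynomial ι k →ₐ[k] B₀ := MvPolynomial.aeval P.val
  have hπ₀ : Function.Surjective π₀ := P.aeval_val_surjective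
  have hf : RingHom.ker π₀.toRingHom = Ideal.span (Set.range P.relation) := by
    rw [P.span_range_relation_eq_ker, P.ker_eq_ker_aeval_val]
    rfl
  refine Groth.Agent.H61.DefDict.surjective_map_of_small (B₀ := B₀) p hp π₀ hπ₀ P.relation hf ?_
  intro ob hsemi htriv
  have halg : ∀ c : P.toExtension.Ring, algebraMap P.toExtension.Ring B₀ c = π₀ c := fun c =>
    Algebra.Generators.algebraMap_apply P.toGenerators c
  let obL : CotT.relKer P →ₗ[P.toExtension.Ring] B₀ :=
    { toFun := fun q => ob q
      map_add' := fun x y => map_add ob x y
      map_smul' := fun c q => by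
        rw [RingHom.id_apply, Algebra.smul_def, halg]
        exact hsemi c q }
  have htriv' : ∀ q : CotT.relKer P, (q : CotT.relMod P) ∈ CotT.trivRel P → obL q = 0 := by
    have hle : CotT.trivRel P ≤ (LinearMap.ker obL).map (CotT.relKer P).subtype := by
      refine Submodule.span_le.mpr ?_
      rintro _ ⟨a, b, rfl⟩
      have h : CotT.jmap P a • b - CotT.jmap P b • a ∈ CotT.relKer P :=
        CotT.trivRel_le_relKer P (Submodule.subset_span ⟨a, b, rfl⟩)
      exact ⟨⟨_, h⟩, htriv a b h, rfl⟩
    intro q hq
    obtain ⟨q', hq', hqq⟩ := hle hq
    have : q' = q := Subtype.ext hqq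
    rw [← this]
    exact hq'
  obtain ⟨g, hg⟩ := Groth.Agent.H61.T2Obs.exists_coord_of_subsingleton_T2 P hT2 obL htriv'
  refine ⟨g, fun r => ?_⟩
  have h1 := hg r
  rw [show ob r = obL r from rfl, h1]
  refine Finsupp.sum_congr fun s _ => ?_
  rw [halg]

end Groth.Agent.S12264
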