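import Groth.Statements.S1227
-- import your own Groth.Agent.* helpers here

set_option autoImplicit false
universe u
open FlatMor

namespace Groth.Agent.S1227

open TensorProduct in
/-- Let u be a surjective linear map from a projective A-module M to an A-module N. Then there is an
ideal I of A such that for every A-algebra B, the base change u ⊗ 1 from B ⊗ M to B ⊗ N is bijective
if and only if the image of I in B is zero. -/
theorem result {A : Type u} [CommRing A] {M N : Type u} [AddCommGroup M] [Module A M] [Module.Projective A M]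
    [AddCommGroup N] [Module A N] (u : M →ₗ[A] N) (hu : Function.Surjective u) :
    ∃ I : Ideal A, ∀ (B : Type u) [CommRing B] [Algebra A B],
      Function.Bijective (u.baseChange B) ↔ I.map (algebraMap A B) = ⊥ := by
  classical
  obtain ⟨s, hs⟩ := (Module.projective_def' (R := A) (P := M)).1 inferInstance
  have hs' : ∀ x : M, Finsupp.linearCombination A id (s x) = x := fun x => by
    have := LinearMap.congr_fun hs x
    simpa using this
  refine ⟨Ideal.span {a : A | ∃ k ∈ LinearMap.ker u, ∃ m : M, s k m = a}, ?_⟩
  intro B _ _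
  have hsurj : Function.Surjective (u.baseChange B) := by
    rw [LinearMap.baseChange_eq_ltensor]
    exact LinearMap.lTensor_surjective B hu
  constructor
  · intro hbij
    rw [eq_bot_iff, Ideal.map_le_iff_le_comap, Ideal.span_le]
    rintro a ⟨k, hk, m, rfl⟩
    have h1 : (u.baseChange B) ((1 : B) ⊗ₜ[A] k) = 0 := by
      rw [LinearMap.baseChange_tmul, LinearMap.mem_ker.1 hk, TensorProduct.tmul_zero]
    have h2 : ((1 : B) ⊗ₜ[A] k : B ⊗[A] M) = 0 := hbij.1 (by rw [h1, map_zero])
    let ψ : M →ₗ[A] A := (Finsupp.lapply m) ∘ₗ s
    have h3 : (TensorProduct.rid A B) ((ψ.lTensor B) ((1 : B) ⊗ₜ[A] k)) = algebraMap A B (s k m) := by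
      rw [LinearMap.lTensor_tmul, TensorProduct.rid_tmul, Algebra.algebraMap_eq_smul_one]
      rfl
    rw [h2, map_zero, map_zero] at h3
    simp only [SetLike.mem_coe, Ideal.mem_comap, Ideal.mem_bot]
    exact h3.symm
  · intro hI
    refine ⟨?_, hsurj⟩
    have hzero : ∀ k ∈ LinearMap.ker u, ∀ m : M, algebraMap A B (s k m) = 0 := by
      intro k hk m
      have : algebraMap A B (s k m) ∈ (Ideal.span {a : A | ∃ k ∈ LinearMap.ker u, ∃ m : M, s k m = a}).map
          (algebraMap A B) :=
        Ideal.mem_map_of_mem _ (Ideal.subset_span ⟨k, hk, m, rfl⟩)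
      rw [hI] at this
      exact this
    have hinj_s : Function.Injective (s.lTensor B) := by
      apply Function.LeftInverse.injective (g := (Finsupp.linearCombination A id).lTensor B)
      intro x
      rw [← LinearMap.comp_apply, ← LinearMap.lTensor_comp, hs, LinearMap.lTensor_id,
        LinearMap.id_apply]
    have hk0 : ∀ k ∈ LinearMap.ker u, ((1 : B) ⊗ₜ[A] k : B ⊗[A] M) = 0 := by
      intro k hk
      apply hinj_s
      rw [LinearMap.lTensor_tmul, map_zero]
      conv_lhs => rw [← Finsupp.sum_single (s k)]
      rw [Finsupp.sum, TensorProduct.tmul_sum]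
      apply Finset.sum_eq_zero
      intro m _
      have e : (Finsupp.single m (s k m) : M →₀ A) = (s k m) • Finsupp.single m (1 : A) := by
        rw [Finsupp.smul_single, smul_eq_mul, mul_one]
      rw [e, ← TensorProduct.smul_tmul, Algebra.smul_def, mul_one, hzero k hk m,
        TensorProduct.zero_tmul]
    have hexact : Function.Exact ((LinearMap.ker u).subtype.lTensor B) (u.lTensor B) :=
      lTensor_exact B (LinearMap.exact_subtype_ker_map u) hu
    rw [injective_iff_map_eq_zero]
    intro x hx
    rw [LinearMap.baseChange_eq_ltensor] at hx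
    obtain ⟨y, rfl⟩ := (hexact x).1 hx
    clear hx
    induction y using TensorProduct.induction_on with
    | zero => rw [map_zero]
    | tmul b k =>
      rw [LinearMap.lTensor_tmul]
      have : (b ⊗ₜ[A] ((LinearMap.ker u).subtype k) : B ⊗[A] M) =
          b • ((1 : B) ⊗ₜ[A] ((LinearMap.ker u).subtype k)) := by
        rw [TensorProduct.smul_tmul', smul_eq_mul, mul_one]
      rw [this, Submodule.subtype_apply, hk0 _ k.2, smul_zero]
    | add y z hy hz => rw [map_add, hy, hz, add_zero]

end Groth.Agent.S1227
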