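import Groth.Statements.S12272
import Groth.Agent.H61.LocHilbTorsor
import Groth.Agent.H61.LocHilbBase
import Groth.Agent.H61.ArtYoneda
import Groth.Agent.S12329
import Groth.Agent.H22.LocHilb_HD2

set_option autoImplicit false
universe u
open CategoryTheory CategoryTheory.Limits AlgebraicGeometry
attribute [local instance] HasDerivedCategory.standard
open Deform

namespace Groth.Agent.S12272

/-- Let k be an algebraically closed field, Y a separated k-scheme of finite type and i : X → Y a
regular closed immersion over k with X projective over k; let N = Hom_{O_X}(I/I², O_X) be the normal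
sheaf (sheaf Hom of the conormal sheaf of i, as a right adjoint, assumed to exist). Then X is rigid
in Y, meaning that for every local Artinian k-algebra A with residue field k there is at most one
closed subscheme of Y ×_k Spec A flat over Spec A restricting to X on the closed fibre (necessarily
X ×_k Spec A), if and only if H⁰(X, N) = 0. -/
theorem result
    {k : Type u} [Field k] [IsAlgClosed k] (Y : Scheme.{u}) (y : Y ⟶ Spec (CommRingCat.of k))
    [LocallyOfFiniteType y] [IsSeparated y] [QuasiCompact y]
    (X : Scheme.{u}) [X.Over (Spec (CommRingCat.of k))] (i : X ⟶ Y) [IsClosedImmersion i] (hi : i ≫ y = X ↘ (Spec (CommRingCat.of k)))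
    (hreg : Mor2.IsRegularClosedImmersion i)
    (hproj : ∃ (n : ℕ) (c : X ⟶ CohB1.ProjSpaceOver n (Spec (CommRingCat.of k))),
      IsClosedImmersion c ∧ c ≫ CohB1.ProjSpaceOver.toBase n (Spec (CommRingCat.of k)) = X ↘ (Spec (CommRingCat.of k)))
    [DCoh.HasSheafHom (Omega.conormal i)] :
    (∀ A : ArtFun.Art k k, Subsingleton ((ArtFun.localHilb Y y i.ker).obj A)) ↔
      Subsingleton (Coh.HH X ((DCoh.sheafHom (Omega.conormal i)).obj (Coh.structureModule X)) 0) := by
  obtain ⟨e⟩ := Groth.Agent.H22.LocHilbHD2.nonempty_HH0_normal_equiv' i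
  constructor
  · intro hall
    have hHom : Subsingleton (ClSub.idealMod i.ker ⟶ ClSub.quotMod i.ker) := by
      have hsm := Groth.Agent.H61.isSmallExt_toBase_dual (Λ := k) (k := k)
      have hp := hsm.isSemismallExt
      obtain ⟨r, j, hjJ, hj⟩ :=
        Groth.Agent.H61.LocHilb.exists_ker_basis (ArtFun.Art.toBase (ArtFun.Art.dual k k)) hp
      obtain ⟨Ib⟩ := Groth.Agent.H61.LocHilb.nonempty_obj_base y i.ker
      let Id := (ArtFun.localHilb Y y i.ker).map (ArtFun.Art.ofBase (ArtFun.Art.dual k k)) Ib
      obtain ⟨e1⟩ := Groth.Agent.H61.LocHilb.nonempty_fibre_equiv y i.ker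
        (ArtFun.Art.toBase (ArtFun.Art.dual k k)) hp j hjJ hj
        ((ArtFun.localHilb Y y i.ker).map (ArtFun.Art.toBase (ArtFun.Art.dual k k)) Id) ⟨Id, rfl⟩
      have hr : 0 < r := by
        by_contra h0
        have hr0 : r = 0 := by omega
        subst hr0
        have hk : RingHom.ker (ArtFun.Art.toBase (ArtFun.Art.dual k k)).toAlgHom = ⊥ := by
          rw [← hjJ]
          have : Set.range j = ∅ := Set.range_eq_empty j
          rw [this, Ideal.span_empty]
        exact hsm.2.1 hk
      haveI := hall (ArtFun.Art.dual k k)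
      haveI : Subsingleton (Fin r → (ClSub.idealMod i.ker ⟶ ClSub.quotMod i.ker)) :=
        e1.symm.subsingleton
      refine ⟨fun f g => ?_⟩
      have h1 := Subsingleton.elim (fun _ : Fin r => f) (fun _ => g)
      exact congrFun h1 ⟨0, hr⟩
    exact e.subsingleton
  · intro hH A
    haveI hHom : Subsingleton (ClSub.idealMod i.ker ⟶ ClSub.quotMod i.ker) := e.symm.subsingleton
    have hinj := Groth.Agent.S12329.result Y y i.ker hHom (ArtFun.Art.toBase A) A.res_surjective
    haveI := Groth.Agent.H61.LocHilb.subsingleton_obj_base y i.ker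
    exact ⟨fun I₁ I₂ => hinj (Subsingleton.elim _ _)⟩


end Groth.Agent.S12272
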