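import Groth.Statements.S12287
import Groth.Agent.H61.CotTCompare

set_option autoImplicit false
universe u w m
open scoped TensorProduct
open DefT

namespace Groth.Agent.S12287

/-- Let B be an A-algebra that is isomorphic over A to a polynomial ring A[x_j] in some set of
variables. Then for every B-module M the modules T^1(B/A, M) and T^2(B/A, M), computed from the
choice-free presentation of B over A (every element of B a variable, every element of the kernel a
relation), are zero. -/
theorem result
    (A B : Type u) [CommRing A] [CommRing B] [Algebra A B] (κ : Type u) (e : MvPolynomial κ A ≃ₐ[A] B)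
    (M : Type u) [AddCommGroup M] [Module B M] :
    Subsingleton (CotT.T1 (CotT.canon A B) M) ∧ Subsingleton (CotT.T2 (CotT.canon A B) M) := by
  classical
  -- the presentation with the variables `κ` and no relations
  let G : Algebra.Generators A B κ := Algebra.Generators.ofAlgHom e.toAlgHom e.surjective
  have hker : G.ker = ⊥ := by
    rw [eq_bot_iff]
    intro x hx
    have h1 : algebraMap G.Ring B x = 0 := hx
    rw [Algebra.Generators.algebraMap_apply] at h1
    have h2 : MvPolynomial.aeval G.val x = e x := by
      have : (MvPolynomial.aeval G.val : MvPolynomial κ A →ₐ[A] B) = e.toAlgHom := by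
        refine MvPolynomial.algHom_ext fun i => ?_
        rw [MvPolynomial.aeval_X]
        rfl
      exact AlgHom.congr_fun this x
    rw [h2] at h1
    exact (map_eq_zero_iff e e.injective).mp h1
  let P₀ : Algebra.Presentation A B κ PEmpty.{u + 1} :=
    { G with
      relation := PEmpty.elim
      span_range_relation_eq_ker := by
        rw [hker]
        have : Set.range (PEmpty.elim : PEmpty.{u + 1} → G.Ring) = ∅ := Set.range_eq_empty _
        rw [this, Ideal.span_empty] }
  have hF : ∀ f : CotT.relMod P₀, f = 0 := fun f => Finsupp.ext fun s => s.elim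
  have hL1 : ∀ x : CotT.L1 P₀, x = 0 := by
    intro x
    induction x using TensorProduct.induction_on with
    | zero => rfl
    | tmul b f => rw [hF f, TensorProduct.tmul_zero]
    | add x y hx hy => rw [hx, hy, add_zero]
  have hL2 : ∀ x : CotT.L2 P₀, x = 0 := by
    intro x
    induction x using Submodule.Quotient.induction_on with | H z
    induction z using TensorProduct.induction_on with
    | zero => rfl
    | tmul b q =>
      have : q = 0 := Subtype.ext (hF _)
      rw [this, TensorProduct.tmul_zero]
      rfl
    | add x y hx hy => rw [Submodule.Quotient.mk_add, hx, hy, add_zero]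
  have hT1 : Subsingleton (CotT.T1 P₀ M) := by
    refine subsingleton_of_forall_eq 0 fun t => ?_
    obtain ⟨c, rfl⟩ := Submodule.Quotient.mk_surjective _ t
    have : c = 0 := Subtype.ext (LinearMap.ext fun x => by rw [hL1 x, map_zero, map_zero])
    rw [this, Submodule.Quotient.mk_zero]
  have hT2 : Subsingleton (CotT.T2 P₀ M) := by
    refine subsingleton_of_forall_eq 0 fun t => ?_
    obtain ⟨c, rfl⟩ := Submodule.Quotient.mk_surjective _ t
    have : c = 0 := LinearMap.ext fun x => by rw [hL2 x, map_zero, map_zero]
    rw [this, Submodule.Quotient.mk_zero]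
  obtain ⟨e1⟩ := Groth.Agent.H61.CotT2.nonempty_T1_equiv M (CotT.canon A B) P₀
  obtain ⟨e2⟩ := Groth.Agent.H61.CotT2.nonempty_T2_equiv (CotT.canon A B) P₀ M
  exact ⟨e1.toEquiv.subsingleton, e2.toEquiv.subsingleton⟩

end Groth.Agent.S12287
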