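import Groth.Statements.S12288
import Groth.Agent.H61.CotTCompare
import Groth.Agent.H61.CotTKoszul

set_option autoImplicit false
universe u w m
open scoped TensorProduct
open DefT

namespace Groth.Agent.S12288

/-- Let A be a local ring and A → B a surjective ring homomorphism whose kernel is generated by a
regular sequence a_1, …, a_r on A (each a_i is a non-zero-divisor on A/(a_1, …, a_{i-1}) and the
ideal is proper). Then T^2(B/A, M) = 0 for every B-module M, the module being computed from the
choice-free presentation of B over A. -/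
theorem result
    (A B : Type u) [CommRing A] [IsLocalRing A] [CommRing B] [Algebra A B]
    (hs : Function.Surjective (algebraMap A B)) (rs : List A) (hreg : RingTheory.Sequence.IsRegular A rs)
    (hI : RingHom.ker (algebraMap A B) = Ideal.ofList rs) (M : Type u) [AddCommGroup M] [Module B M] :
    Subsingleton (CotT.T2 (CotT.canon A B) M) := by
  classical
  let G : Algebra.Generators A B PEmpty.{u + 1} := Algebra.Generators.ofSurjectiveAlgebraMap hs
  let e : MvPolynomial PEmpty.{u + 1} A ≃+* A := MvPolynomial.isEmptyRingEquiv A PEmpty.{u + 1}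
  have heC : ∀ a : A, e (MvPolynomial.C a) = a := by
    intro a
    rw [← MvPolynomial.isEmptyRingEquiv_symm_apply (R := A) (σ := PEmpty.{u + 1})]
    exact e.apply_symm_apply a
  have hCe : ∀ x : MvPolynomial PEmpty.{u + 1} A, MvPolynomial.C (e x) = x :=
    fun x => e.injective (heC _)
  have halg : ∀ x : G.Ring, algebraMap G.Ring B x = algebraMap A B (e x) := by
    intro x
    rw [Algebra.Generators.algebraMap_apply]
    conv_lhs => rw [← hCe x]
    rw [MvPolynomial.aeval_C]
  let rel : Fin rs.length → G.Ring := fun i => MvPolynomial.C (rs.get i)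
  have hmem : ∀ i : Fin rs.length, rs.get i ∈ Ideal.ofList rs := fun i =>
    Ideal.subset_span (List.get_mem rs i)
  have hspan : Ideal.span (Set.range rel) = G.ker := by
    apply le_antisymm
    · rw [Ideal.span_le]
      rintro _ ⟨i, rfl⟩
      change algebraMap G.Ring B (rel i) = 0
      rw [halg, heC]
      have : rs.get i ∈ RingHom.ker (algebraMap A B) := by rw [hI]; exact hmem i
      exact this
    · intro x hx
      have h1 : algebraMap G.Ring B x = 0 := hx
      rw [halg] at h1
      have h2 : e x ∈ Ideal.ofList rs := by rw [← hI]; exact h1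
      have h3 := (Groth.Agent.H61.Koszul.mem_map_iff e MvPolynomial.C heC _ x).mpr h2
      rw [Ideal.ofList, Ideal.map_span] at h3
      refine Ideal.span_mono ?_ h3
      rintro _ ⟨a, ha, rfl⟩
      obtain ⟨i, rfl⟩ := List.mem_iff_get.mp ha
      exact ⟨i, rfl⟩
  let P₁ : Algebra.Presentation A B PEmpty.{u + 1} (Fin rs.length) :=
    { G with
      relation := rel
      span_range_relation_eq_ker := hspan }
  -- regularity in ideal form, for the ring of the presentation
  let e' : P₁.toExtension.Ring ≃+* A := e
  let C' : A →+* P₁.toExtension.Ring := (MvPolynomial.C : A →+* MvPolynomial PEmpty.{u + 1} A)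
  have hReg : Groth.Agent.H61.Koszul.Reg (CotT.rel P₁) :=
    Groth.Agent.H61.Koszul.reg_of_isWeaklyRegular e' C' heC rs hreg.toIsWeaklyRegular
  have hL2 : ∀ x : CotT.L2 P₁, x = 0 :=
    Groth.Agent.H61.CotT2.L2_eq_zero_of_le P₁ (Groth.Agent.H61.CotT2.relKer_le_trivRel_of_reg P₁ hReg)
  have hT2 : Subsingleton (CotT.T2 P₁ M) := by
    refine subsingleton_of_forall_eq 0 fun t => ?_
    obtain ⟨c, rfl⟩ := Submodule.Quotient.mk_surjective _ t
    have : c = 0 := LinearMap.ext fun x => by rw [hL2 x, map_zero, map_zero]
    rw [this, Submodule.Quotient.mk_zero]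
  obtain ⟨e2⟩ := Groth.Agent.H61.CotT2.nonempty_T2_equiv (CotT.canon A B) P₁ M
  exact e2.toEquiv.subsingleton

end Groth.Agent.S12288
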