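import Groth.Statements.S12290
import Groth.Agent.H61.CotTSmoothField

set_option autoImplicit false
universe u w m
open scoped TensorProduct
open DefT

namespace Groth.Agent.S12290

/-- Let k be an algebraically closed field and B a finitely generated k-algebra, X = Spec B. Then X is
nonsingular (localizing B at any prime ideal gives a regular local ring) exactly when T^1(B/k, M)
vanishes for every B-module M; and when X is nonsingular, T^2(B/k, M) vanishes too, for every
B-module M. Here T^1, T^2 are computed from the choice-free presentation of B over k. -/
theorem result
    (k B : Type u) [Field k] [IsAlgClosed k] [CommRing B] [Algebra k B] [Algebra.FiniteType k B] :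
    ((∀ (p : Ideal B) [p.IsPrime], IsRegularLocalRing (Localization.AtPrime p)) ↔
      ∀ (M : Type u) [AddCommGroup M] [Module B M], Subsingleton (CotT.T1 (CotT.canon k B) M)) ∧
    ((∀ (p : Ideal B) [p.IsPrime], IsRegularLocalRing (Localization.AtPrime p)) →
      ∀ (M : Type u) [AddCommGroup M] [Module B M], Subsingleton (CotT.T2 (CotT.canon k B) M)) := by
  haveI : Algebra.FinitePresentation k B := Algebra.FinitePresentation.of_finiteType.mp inferInstance
  -- regular at all primes iff formally smooth
  have hregsm : (∀ (p : Ideal B) [p.IsPrime], IsRegularLocalRing (Localization.AtPrime p)) ↔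
      Algebra.FormallySmooth k B := by
    have key : ∀ (p : Ideal B) [p.IsPrime],
        Algebra.FormallySmooth k (Localization.AtPrime p) ↔ IsRegularLocalRing (Localization.AtPrime p) := by
      intro p _
      haveI : Algebra.EssFiniteType k (Localization.AtPrime p) :=
        Algebra.EssFiniteType.comp k B (Localization.AtPrime p)
      haveI : Algebra.FiniteType (Localization.AtPrime p) (IsLocalRing.ResidueField (Localization.AtPrime p)) :=
        Algebra.FiniteType.of_surjective
          (Algebra.ofId (Localization.AtPrime p) (IsLocalRing.ResidueField (Localization.AtPrime p)))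
          IsLocalRing.residue_surjective
      haveI : Algebra.EssFiniteType k (IsLocalRing.ResidueField (Localization.AtPrime p)) :=
        Algebra.EssFiniteType.comp k (Localization.AtPrime p) _
      exact Groth.Agent.H79.SmoothReg.formallySmooth_iff_isRegularLocalRing k (Localization.AtPrime p)
        inferInstance
    constructor
    · intro h
      rw [← Algebra.smoothLocus_eq_univ_iff]
      ext p
      simp only [Set.mem_univ, iff_true]
      exact (key p.asIdeal).mpr (h p.asIdeal)
    · intro h p _
      haveI : Algebra.FormallyEtale B (Localization.AtPrime p) := .of_isLocalization p.primeCompl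
      haveI : Algebra.FormallySmooth k (Localization.AtPrime p) :=
        Algebra.FormallySmooth.comp k B (Localization.AtPrime p)
      exact (key p).mp inferInstance
  have hT1 : Algebra.FormallySmooth k B ↔
      ∀ (M : Type u) [AddCommGroup M] [Module B M], Subsingleton (CotT.T1 (CotT.canon k B) M) := by
    constructor
    · intro h M _ _
      exact Groth.Agent.H61.CotT2.subsingleton_T1_of_formallySmooth (CotT.canon k B) M
    · intro h
      exact Groth.Agent.H61.CotT2.formallySmooth_of_subsingleton_T1 (CotT.canon k B) (h _)
  refine ⟨hregsm.trans hT1, ?_⟩
  intro hreg M _ _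
  haveI : Algebra.FormallySmooth k B := hregsm.mp hreg
  let P₀ := Algebra.Presentation.ofFinitePresentation k B
  haveI := Groth.Agent.H61.CotT2.subsingleton_T2_of_formallySmooth P₀ M
  obtain ⟨e⟩ := Groth.Agent.H61.CotT2.nonempty_T2_equiv (CotT.canon k B) P₀ M
  exact e.toEquiv.subsingleton

end Groth.Agent.S12290
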