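import Groth.Statements.S12291
import Groth.Agent.H28.CotCI2
import Groth.Agent.S12285
import Groth.Agent.S12288
import Groth.Agent.S5758
import Groth.Agent.S0341
import Groth.Agent.S0342

set_option autoImplicit false
universe u w m
open scoped TensorProduct
open DefT

namespace Groth.Agent.S12291

/-- Let k be an algebraically closed field and A a regular local k-algebra with residue field k such
that T^1(A/k, N) = 0 and T^2(A/k, N) = 0 for all A-modules N; let I be a proper ideal of A and B =
A/I. Then B is cut out of A as a local complete intersection — meaning I is generated by some list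
of r elements with r + dim B = dim A, i.e. by dim A − dim B elements — exactly when T^2(B/k, M)
vanishes for each B-module M. The T^i are computed from the choice-free presentations. (The
published statement assumes only that A is a regular local k-algebra with residue field k; its proof
uses the vanishing of T^1(A/k, −) and T^2(A/k, −), which holds when A is essentially of finite type
over k and which this row carries as a hypothesis.) -/
theorem result
    (k A : Type u) [Field k] [IsAlgClosed k] [CommRing A] [IsRegularLocalRing A] [Algebra k A]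
    (hres : Function.Surjective (algebraMap k (IsLocalRing.ResidueField A)))
    (hT : ∀ (N : Type u) [AddCommGroup N] [Module A N],
      Subsingleton (CotT.T1 (CotT.canon k A) N) ∧ Subsingleton (CotT.T2 (CotT.canon k A) N))
    (I : Ideal A) (hI : I ≠ ⊤) :
    (∃ rs : List A, Ideal.ofList rs = I ∧ (rs.length : WithBot ℕ∞) + ringKrullDim (A ⧸ I) = ringKrullDim A) ↔
      ∀ (M : Type u) [AddCommGroup M] [Module (A ⧸ I) M], Subsingleton (CotT.T2 (CotT.canon k (A ⧸ I)) M) := by
  classical
  haveI : Nontrivial (A ⧸ I) := Ideal.Quotient.nontrivial_iff.mpr hI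
  have hs : Function.Surjective (algebraMap A (A ⧸ I)) := Ideal.Quotient.mk_surjective
  have hkerI : RingHom.ker (algebraMap A (A ⧸ I)) = I := by
    rw [Ideal.Quotient.algebraMap_eq]; exact Ideal.mk_ker
  haveI : LocCoh.IsGorensteinLocalRing A := Groth.Agent.S0342.result A
  have hCM : LocCoh.IsCohenMacaulayModule A A := (Groth.Agent.S0341.result A).supportDim_eq_depth
  -- comparison of T² over `k` and over `A`
  have hequiv : ∀ (M : Type u) [AddCommGroup M] [Module (A ⧸ I) M],
      Subsingleton (CotT.T2 (CotT.canon k (A ⧸ I)) M) ↔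
        Subsingleton (CotT.T2 (CotT.canon A (A ⧸ I)) M) := by
    intro M _ _
    letI : Module A M := Module.compHom M (algebraMap A (A ⧸ I))
    haveI : IsScalarTower A (A ⧸ I) M := IsScalarTower.of_compHom A (A ⧸ I) M
    obtain ⟨_, _, _, hex2, δ₀, δ₁, _, _, _, hδ1⟩ := Groth.Agent.S12285.result k A (A ⧸ I) M
    obtain ⟨hT1, hT2⟩ := hT M
    constructor
    · intro h
      have h0 : ∀ y : CotT.T2 (CotT.canon A (A ⧸ I)) M, y = 0 := by
        intro y
        have h1 : (CotT.canonHom k (A ⧸ I) A (A ⧸ I)).T2pull M y = 0 := h.elim _ _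
        obtain ⟨z, rfl⟩ := (hδ1 y).mp h1
        rw [hT1.elim z 0, map_zero]
      exact ⟨fun y y' => by rw [h0 y, h0 y']⟩
    · intro h
      have h0 : ∀ x : CotT.T2 (CotT.canon k (A ⧸ I)) M, x = 0 := by
        intro x
        have h1 : (CotT.canonHom k A k (A ⧸ I)).T2pull M x = 0 := hT2.elim _ _
        obtain ⟨y, rfl⟩ := (hex2 x).mp h1
        rw [h.elim y 0, map_zero]
      exact ⟨fun x x' => by rw [h0 x, h0 x']⟩
  -- dimension bookkeeping
  have hdimiff : ∀ rs : List A, Ideal.ofList rs = I →
      (RingTheory.Sequence.IsWeaklyRegular A rs ↔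
        (rs.length : WithBot ℕ∞) + ringKrullDim (A ⧸ I) = ringKrullDim A) := by
    intro rs hrs
    have hmem : ∀ x ∈ rs, x ∈ IsLocalRing.maximalIdeal A := fun x hx =>
      IsLocalRing.le_maximalIdeal hI (hrs ▸ Ideal.subset_span hx)
    have hsm : (Ideal.ofList rs • (⊤ : Submodule A A)) = I := by
      rw [← hrs]; simp only [smul_eq_mul, Ideal.mul_top]
    have h58 := (Groth.Agent.S5758.result A A hCM rs hmem).1
    rw [h58, hsm, Module.supportDim_quotient_eq_ringKrullDim, Module.supportDim_self_eq_ringKrullDim,
      add_comm]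
  constructor
  · rintro ⟨rs, hrs, hdim⟩ M _ _
    rw [hequiv M]
    have hreg : RingTheory.Sequence.IsWeaklyRegular A rs := (hdimiff rs hrs).mpr hdim
    have hsm : (Ideal.ofList rs • (⊤ : Submodule A A)) = I := by
      rw [← hrs]; simp only [smul_eq_mul, Ideal.mul_top]
    have hreg' : RingTheory.Sequence.IsRegular A rs := ⟨hreg, by rw [hsm]; exact fun h => hI h.symm⟩
    exact Groth.Agent.S12288.result A (A ⧸ I) hs rs hreg' (by rw [hkerI, hrs]) M
  · intro h
    have hT2A : ∀ (M : Type u) [AddCommGroup M] [Module (A ⧸ I) M],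
        Subsingleton (CotT.T2 (CotT.canon A (A ⧸ I)) M) := fun M _ _ => (hequiv M).mp (h M)
    obtain ⟨n, f, hf, hmin⟩ :=
      Groth.Agent.H28.CotCI.exists_minimal_generators I (IsNoetherian.noetherian I)
    have hf' : Ideal.span (Set.range f) = RingHom.ker (algebraMap A (A ⧸ I)) := by rw [hkerI, hf]
    have hfm : ∀ i, f i ∈ IsLocalRing.maximalIdeal A := fun i =>
      IsLocalRing.le_maximalIdeal hI (hf ▸ Ideal.subset_span ⟨i, rfl⟩)
    have hT2P : Subsingleton (CotT.T2 (Groth.Agent.H28.CotCI.P1 hs f hf')
        (CotT.L2 (Groth.Agent.H28.CotCI.P1 hs f hf'))) := by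
      obtain ⟨e2⟩ := Groth.Agent.H61.CotT2.nonempty_T2_equiv (CotT.canon A (A ⧸ I))
        (Groth.Agent.H28.CotCI.P1 hs f hf') (CotT.L2 (Groth.Agent.H28.CotCI.P1 hs f hf'))
      haveI := hT2A (CotT.L2 (Groth.Agent.H28.CotCI.P1 hs f hf'))
      exact e2.symm.toEquiv.subsingleton
    have hreg := Groth.Agent.H28.CotCI.isWeaklyRegular_of_T2 hs f hf' hfm hmin hT2P
    have hof : Ideal.ofList (List.ofFn f) = I := by
      rw [Ideal.ofList, ← hf]
      congr 1
      ext y
      simp [List.mem_ofFn]
    exact ⟨List.ofFn f, hof, (hdimiff _ hof).mp hreg⟩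

end Groth.Agent.S12291
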