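import Groth.Statements.S12295
import Groth.Agent.H61.CotT2Htpy

set_option autoImplicit false
universe u w m
open scoped TensorProduct
open DefT

namespace Groth.Agent.S12295

/-- Let k be a commutative ring, B a k-algebra and P a presentation of B over k with polynomial ring R =
k[x_i] (any set of variables), so that B = R/I; let P' be a presentation of B over R with no
polynomial variables (R itself mapping onto B, with chosen generators of I), and M a B-module. Then
T^2(B/R, M), computed from P', and T^2(B/k, M), computed from P, are isomorphic B-modules.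
(Existence of a B-linear isomorphism only; the published statement has finitely many variables over
a field and notes that any base ring works.) -/
theorem result
    (k B : Type u) [CommRing k] [CommRing B] [Algebra k B] (ι σ ι' σ' : Type w)
    (P : Algebra.Presentation k B ι σ) [IsEmpty ι']
    (P' : Algebra.Presentation P.toExtension.Ring B ι' σ')
    (M : Type m) [AddCommGroup M] [Module B M] :
    Nonempty (CotT.T2 P' M ≃ₗ[B] CotT.T2 P M) := by
  classical
  -- the morphism `P → P'`: constants
  let φ : P.toExtension.Ring →+* P'.toExtension.Ring :=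
    (MvPolynomial.C : P.toExtension.Ring →+* MvPolynomial ι' P.toExtension.Ring)
  have hφ : ∀ x, algebraMap P'.toExtension.Ring B (φ x) = algebraMap P.toExtension.Ring B x := by
    intro x
    have := CotT.algebraMap_toExtension P' (MvPolynomial.C x)
    rw [MvPolynomial.aeval_C] at this
    exact this
  have hv : ∀ s, ∃ v : CotT.relMod P', CotT.jmap P' v = φ (CotT.rel P s) := by
    intro s
    have : φ (CotT.rel P s) ∈ LinearMap.range (CotT.jmap P') := by
      rw [CotT.range_jmap]
      change algebraMap P'.toExtension.Ring B _ = 0
      rw [hφ, CotT.algebraMap_rel]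
    exact this
  choose v hv using hv
  let h : Groth.Agent.H61.CotT2.T2Hom P P' := Groth.Agent.H61.CotT2.T2Hom.ofRelVal φ hφ v hv
  -- the morphism `P' → P`: evaluation (there are no variables)
  let e : MvPolynomial ι' P.toExtension.Ring ≃ₐ[P.toExtension.Ring] P.toExtension.Ring :=
    MvPolynomial.isEmptyAlgEquiv P.toExtension.Ring ι'
  let φ' : P'.toExtension.Ring →+* P.toExtension.Ring :=
    (e : MvPolynomial ι' P.toExtension.Ring →+* P.toExtension.Ring)
  have hCe : ∀ x : MvPolynomial ι' P.toExtension.Ring, MvPolynomial.C (e x) = x := by
    intro x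
    have h1 : e (MvPolynomial.C (e x)) = e x := by
      have := e.commutes (e x)
      rwa [MvPolynomial.algebraMap_eq] at this
    exact e.injective h1
  have hφ' : ∀ x, algebraMap P.toExtension.Ring B (φ' x) = algebraMap P'.toExtension.Ring B x := by
    intro x
    have h1 := hφ (φ' x)
    have h2 : φ (φ' x) = x := hCe x
    rw [h2] at h1
    exact h1.symm
  have hv' : ∀ s, ∃ v : CotT.relMod P, CotT.jmap P v = φ' (CotT.rel P' s) := by
    intro s
    have : φ' (CotT.rel P' s) ∈ LinearMap.range (CotT.jmap P) := by
      rw [CotT.range_jmap]
      change algebraMap P.toExtension.Ring B _ = 0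
      rw [hφ', CotT.algebraMap_rel]
    exact this
  choose v' hv' using hv'
  let h' : Groth.Agent.H61.CotT2.T2Hom P' P := Groth.Agent.H61.CotT2.T2Hom.ofRelVal φ' hφ' v' hv'
  refine ⟨(Groth.Agent.H61.CotT2.T2equiv M h h' (fun a => ?_) (fun a => ?_)).symm⟩
  · change e (MvPolynomial.C (MvPolynomial.C a)) = MvPolynomial.C a
    have := e.commutes (MvPolynomial.C a)
    rwa [MvPolynomial.algebraMap_eq] at this
  · exact hCe (MvPolynomial.C a)

end Groth.Agent.S12295
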