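import Groth.Statements.S12297
import Groth.Agent.H61.CotTLoc
import Groth.Agent.H61.CotTSmoothField
import Groth.Agent.H79.SmoothReg2
import Groth.Agent.S12285

set_option autoImplicit false
universe u w m
open scoped TensorProduct
open DefT

namespace Groth.Agent.S12297

/-- the presentation with the given generators and all elements of the kernel as relations -/
noncomputable def presOfGens {A B : Type*} [CommRing A] [CommRing B] [Algebra A B] {ι : Type*}
    (G : Algebra.Generators A B ι) : Algebra.Presentation A B ι G.ker where
  __ := G
  relation := Subtype.val
  span_range_relation_eq_ker := by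
    refine le_antisymm (Ideal.span_le.mpr ?_) fun x hx => Ideal.subset_span ⟨⟨x, hx⟩, rfl⟩
    rintro _ ⟨r, rfl⟩
    exact r.2

open Groth.Agent.H61.CotT2 Groth.Agent.H61.CotTLoc in
/-- `T²` of a smooth algebra of finite type over a perfect field vanishes, for the canonical presentation -/
theorem subsingleton_T2_canon_of_smooth (k S : Type u) [Field k] [PerfectField k] [CommRing S] [Algebra k S]
    [Algebra.FiniteType k S] [Algebra.FormallySmooth k S]
    (M : Type u) [AddCommGroup M] [Module S M] :
    Subsingleton (CotT.T2 (CotT.canon k S) M) := by
  obtain ⟨n, f, hf⟩ := Algebra.FiniteType.iff_quotient_mvPolynomial''.mp (inferInstance : Algebra.FiniteType k S)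
  have hsurj : Function.Surjective (MvPolynomial.aeval (R := k) (fun i : Fin n => f (MvPolynomial.X i))) := by
    have : MvPolynomial.aeval (R := k) (fun i : Fin n => f (MvPolynomial.X i)) = f := by
      refine MvPolynomial.algHom_ext fun i => ?_
      rw [MvPolynomial.aeval_X]
    rw [this]
    exact hf
  let P₀ := presOfGens (Algebra.Generators.ofSurjective _ hsurj)
  haveI := subsingleton_T2_of_formallySmooth P₀ M
  obtain ⟨e⟩ := nonempty_T2_equiv (CotT.canon k S) P₀ M
  exact e.toEquiv.subsingleton

/-- Let k be an algebraically closed field, B a finitely generated k-algebra, m a maximal ideal of B and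
B_m the localization, a local k-algebra with residue field k. Then B_m is a regular local ring if
and only if T^1(B_m/k, M) = 0 for all B_m-modules M, and in that case T^2(B_m/k, M) = 0 for all M as
well; the T^i are computed from the choice-free presentation of B_m over k. (The published statement
is for a local k-algebra with residue field k, k algebraically closed, proved by localization from
the finitely generated case; this row states it for the localizations of finitely generated
k-algebras at maximal ideals, the case that proof covers.) -/
theorem result
    (k B : Type u) [Field k] [IsAlgClosed k] [CommRing B] [Algebra k B] [Algebra.FiniteType k B]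
    (m : Ideal B) [m.IsMaximal] :
    (IsRegularLocalRing (Localization.AtPrime m) ↔
      ∀ (M : Type u) [AddCommGroup M] [Module (Localization.AtPrime m) M],
        Subsingleton (CotT.T1 (CotT.canon k (Localization.AtPrime m)) M)) ∧
    (IsRegularLocalRing (Localization.AtPrime m) →
      ∀ (M : Type u) [AddCommGroup M] [Module (Localization.AtPrime m) M],
        Subsingleton (CotT.T2 (CotT.canon k (Localization.AtPrime m)) M)) := by
  haveI : PerfectField k := inferInstance
  have hreg := Groth.Agent.H79.SmoothReg.formallySmooth_localization_iff k B m
  refine ⟨⟨fun h M _ _ => ?_, fun h => ?_⟩, fun h M _ _ => ?_⟩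
  · haveI := hreg.mpr h
    exact Groth.Agent.H61.CotT2.subsingleton_T1_of_formallySmooth (CotT.canon k (Localization.AtPrime m)) M
  · exact hreg.mp (Groth.Agent.H61.CotT2.formallySmooth_of_subsingleton_T1
      (CotT.canon k (Localization.AtPrime m)) (h _))
  · haveI hs : Algebra.IsSmoothAt k m := hreg.mpr h
    haveI : Algebra.FinitePresentation k B := Algebra.FinitePresentation.of_finiteType.mp inferInstance
    obtain ⟨g, hg, hsm⟩ := Algebra.IsSmoothAt.exists_notMem_smooth k m
    have hle : Submonoid.powers g ≤ m.primeCompl := Submonoid.powers_le.mpr hg
    letI : Algebra (Localization.Away g) (Localization.AtPrime m) :=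
      IsLocalization.localizationAlgebraOfSubmonoidLe _ _ _ _ hle
    haveI : IsScalarTower B (Localization.Away g) (Localization.AtPrime m) :=
      IsLocalization.localization_isScalarTower_of_submonoid_le _ _ _ _ hle
    haveI : IsScalarTower k (Localization.Away g) (Localization.AtPrime m) := by
      refine IsScalarTower.of_algebraMap_eq fun x => ?_
      rw [IsScalarTower.algebraMap_apply k B (Localization.AtPrime m),
        IsScalarTower.algebraMap_apply k B (Localization.Away g),
        ← IsScalarTower.algebraMap_apply B (Localization.Away g) (Localization.AtPrime m)]
    haveI : IsLocalization (m.primeCompl.map (algebraMap B (Localization.Away g))) (Localization.AtPrime m) :=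
      IsLocalization.isLocalization_of_submonoid_le _ _ _ _ hle
    letI : Module (Localization.Away g) M := Module.compHom M (algebraMap (Localization.Away g) (Localization.AtPrime m))
    haveI : IsScalarTower (Localization.Away g) (Localization.AtPrime m) M :=
      ⟨fun a b x => by
        change (a • b) • x = algebraMap (Localization.Away g) (Localization.AtPrime m) a • (b • x)
        rw [Algebra.smul_def, mul_smul]⟩
    obtain ⟨-, -, -, hex, -⟩ := Groth.Agent.S12285.result k (Localization.Away g) (Localization.AtPrime m) M
    haveI h1 : Subsingleton (CotT.T2 (CotT.canon (Localization.Away g) (Localization.AtPrime m)) M) :=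
      Groth.Agent.H61.CotTLoc.subsingleton_T2_of_isLocalization _
        (m.primeCompl.map (algebraMap B (Localization.Away g))) M
    haveI : Algebra.FiniteType k (Localization.Away g) := inferInstance
    haveI : Algebra.FormallySmooth k (Localization.Away g) := hsm.1
    haveI h2 : Subsingleton (CotT.T2 (CotT.canon k (Localization.Away g)) M) :=
      subsingleton_T2_canon_of_smooth k (Localization.Away g) M
    refine ⟨fun x y => ?_⟩
    have hx : ∀ z : CotT.T2 (CotT.canon k (Localization.AtPrime m)) M, z = 0 := by
      intro z
      obtain ⟨w, rfl⟩ := (hex z).mp (Subsingleton.elim _ _)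
      rw [Subsingleton.elim w 0, map_zero]
    rw [hx x, hx y]

end Groth.Agent.S12297
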