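import Groth.Statements.S12299
import Groth.Agent.H61.ArtFunDual

set_option autoImplicit false
universe u v
open CategoryTheory
open ArtFun

namespace Groth.Agent.S12299

/-- Let k be an algebraically closed field, F a set-valued functor on local Artinian k-algebras with
residue field k, and (R, ξ) a miniversal family for F, with R a complete local Noetherian k-algebra
with residue field k: the morphism h_R → F has the lifting property along surjections and is
bijective on the dual numbers. Let S be a complete local Noetherian k-algebra with residue field k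
and g₁, g₂ : R → S two k-algebra maps compatible with the augmentations along which ξ induces the
same formal family over S (the same compatible sequence in the F(S/m^(n+1))). Then g₁ and g₂ induce
the same map R → S/m_S², so the map R/m_R² → S/m_S² attached to a formal family over S is well
defined. (Coefficient rings are taken Noetherian here.) -/
theorem result
    {k : Type u} [Field k] [IsAlgClosed k] {F : ArtFun.Art k k ⥤ Type v}
    (R : ArtFun.CRing k k) (ξ : ArtFun.Family R.carrier R.res F) (hξ : ArtFun.IsMiniversal ξ)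
    (S : ArtFun.CRing k k) (g₁ g₂ : R.carrier →ₐ[k] S.carrier)
    (hg₁ : S.res.comp g₁ = R.res) (hg₂ : S.res.comp g₂ = R.res)
    (h : (ξ.along g₁ hg₁).toFormalElt = (ξ.along g₂ hg₂).toFormalElt) :
    (S.truncHom 1).1.comp g₁ = (S.truncHom 1).1.comp g₂ := by
  obtain ⟨hvers, hbij⟩ := hξ
  let B : ArtFun.Art k k := S.trunc 1
  let ψ₁ : ArtFun.HomSet R.carrier R.res B :=
    ⟨(S.truncHom 1).1.comp g₁, by rw [← AlgHom.comp_assoc, (S.truncHom 1).2, hg₁]⟩
  let ψ₂ : ArtFun.HomSet R.carrier R.res B :=
    ⟨(S.truncHom 1).1.comp g₂, by rw [← AlgHom.comp_assoc, (S.truncHom 1).2, hg₂]⟩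
  have hψ : ξ.app B ψ₁ = ξ.app B ψ₂ := by
    have := congrArg (fun u => u.elt 1) h
    exact this
  -- the square of the maximal ideal of B vanishes
  have hsq : (RingHom.ker B.res) ^ 2 = ⊥ := by
    have hker : RingHom.ker B.res = IsLocalRing.maximalIdeal B := by
      ext b
      rw [RingHom.mem_ker, ArtFun.Art.mem_maximalIdeal_iff]
    rw [hker, ← le_bot_iff]
    calc IsLocalRing.maximalIdeal (S.carrier ⧸ ArtFun.CRing.mpow S 1) ^ 2
        ≤ ((IsLocalRing.maximalIdeal S.carrier).map (Ideal.Quotient.mk (ArtFun.CRing.mpow S 1))) ^ 2 :=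
          Ideal.pow_right_mono (ArtFun.CRing.maximalIdeal_quot_le S 1) _
      _ = (ArtFun.CRing.mpow S 1).map (Ideal.Quotient.mk (ArtFun.CRing.mpow S 1)) := by
          rw [← Ideal.map_pow]
      _ = ⊥ := Ideal.map_quotient_self _
  apply AlgHom.ext
  intro r
  change ψ₁.1 r = ψ₂.1 r
  by_contra hne
  have hd : ψ₁.1 r - ψ₂.1 r ∈ RingHom.ker B.res := by
    rw [RingHom.mem_ker, map_sub, sub_eq_zero]
    exact (AlgHom.congr_fun ψ₁.2 r).trans (AlgHom.congr_fun ψ₂.2 r).symm
  have hd2 : ψ₁.1 r - ψ₂.1 r ∉ (RingHom.ker B.res) ^ 2 := by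
    rw [hsq]
    intro hmem
    exact hne (sub_eq_zero.1 hmem)
  obtain ⟨hh, hhres, hhd⟩ := Groth.Agent.H61.exists_dual_hom B.res _ hd hd2
  let hA : B ⟶ ArtFun.Art.dual k k := ⟨hh, hhres⟩
  have e : ArtFun.HomSet.map hA ψ₁ = ArtFun.HomSet.map hA ψ₂ := by
    apply hbij.1
    rw [ξ.natural, ξ.natural, hψ]
  have e' : hh (ψ₁.1 r) = hh (ψ₂.1 r) := congrArg (fun t => t.1 r) e
  apply hhd
  rw [map_sub, e', sub_self]
  rfl

end Groth.Agent.S12299
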