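import Groth.Statements.S12303
import Groth.Agent.H61.ArtFunBasic
import Groth.Agent.S12302

set_option autoImplicit false
universe u v
open CategoryTheory
open ArtFun

namespace Groth.Agent.S12303

/-- Let k be an algebraically closed field, F a set-valued functor on local Artinian k-algebras with
residue field k, and ξ : h_R → F a miniversal family in the strong sense, over an augmented
k-algebra R: ξ is surjective on every object, has the lifting property along surjections, and is
bijective on the dual numbers k[ε]. Then for every object A and every fibre-product square B = A ×_k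
k[ε] over k, the comparison map F(B) → F(A) ×_{F(k)} F(k[ε]) is bijective. (The published statement
takes R complete local, which the argument does not use.) -/
theorem result
    {k : Type u} [Field k] [IsAlgClosed k] {F : ArtFun.Art k k ⥤ Type v}
    {R : Type u} [CommRing R] [Algebra k R] {resR : R →ₐ[k] k}
    (ξ : ArtFun.Family R resR F) (hξ : ArtFun.IsMiniversal ξ)
    (hsurj : ∀ A : ArtFun.Art k k, Function.Surjective (ξ.app A)) :
    ArtFun.Heps F := by
  intro B A' p' p'' h
  constructor
  · intro z₁ z₂ hz
    have hz1 : F.map p' z₁ = F.map p' z₂ := congrArg (fun t => t.1.1) hz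
    have hz2 : F.map p'' z₁ = F.map p'' z₂ := congrArg (fun t => t.1.2) hz
    have hp' : Function.Surjective p' := by
      intro a'
      obtain ⟨d, hd⟩ := (ArtFun.Art.dual k k).res_surjective (A'.res a')
      obtain ⟨b, hb, -⟩ := h.surj a' d hd.symm
      exact ⟨b, hb⟩
    obtain ⟨χ₁, hχ₁⟩ := hsurj B z₁
    have hx : F.map p' z₂ = ξ.app A' (ArtFun.HomSet.map p' χ₁) := by
      rw [ξ.natural, hχ₁, hz1]
    obtain ⟨χ₂, hχ₂1, hχ₂2⟩ := hξ.1 p' hp' (ArtFun.HomSet.map p' χ₁) z₂ hx
    have hd : ArtFun.HomSet.map p'' χ₁ = ArtFun.HomSet.map p'' χ₂ := by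
      apply hξ.2.1
      rw [ξ.natural, ξ.natural, hχ₁, hχ₂2, hz2]
    have : χ₁ = χ₂ := by
      apply Subtype.ext
      apply AlgHom.ext
      intro r
      apply h.inj
      · exact (congrArg (fun t => t.1 r) hχ₂1).symm
      · exact congrArg (fun t => t.1 r) hd
    rw [← hχ₁, ← hχ₂2, this]
  · exact (Groth.Agent.S12302.result ξ hξ.1 hsurj).2 p' p'' _ _ h (ArtFun.Art.dual k k).res_surjective

end Groth.Agent.S12303
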