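import Groth.Statements.S12306
import Groth.Agent.H61.RigidMain

set_option autoImplicit false
universe u
open CotT
open scoped TensorProduct

namespace Groth.Agent.S12306

/-- Let k be an algebraically closed field and B₀ a finitely generated k-algebra which is not smooth
over k and is rigid, in the sense that the cotangent module T¹(B₀/k, B₀) (from the choice-free
presentation) vanishes. Let A be a finitely generated k-algebra which is a domain, smooth over k of
Krull dimension one, t ∈ A an element generating a maximal ideal, and B a finitely generated flat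
A-algebra, a k-algebra compatibly with A, whose fibre B/tB is k-isomorphic to B₀. Then this family
does not smooth Spec B₀: there is a prime of B not containing t at which B is not smooth over A.
(The published statement asserts that a singular rigid scheme admits no smoothing by any flat
family; this row states it for flat families with affine total space over an affine nonsingular
curve whose point is cut out by one equation.) -/
theorem result
    {k : Type u} [Field k] [IsAlgClosed k] (B₀ : Type u) [CommRing B₀] [Algebra k B₀] [Algebra.FiniteType k B₀]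
    (hsing : ¬ Algebra.Smooth k B₀) (hrigid : Subsingleton (CotT.T1 (CotT.canon k B₀) B₀))
    (A B : Type u) [CommRing A] [CommRing B] [IsDomain A] [Algebra k A] [Algebra.FiniteType k A]
    [Algebra.Smooth k A] (hdim : ringKrullDim A = 1) (t : A) (ht : (Ideal.span {t}).IsMaximal)
    [Algebra A B] [Algebra.FiniteType A B] [Module.Flat A B] [Algebra k B] [IsScalarTower k A B]
    (e : (B ⧸ Ideal.span {algebraMap A B t}) ≃ₐ[k] B₀) :
    ∃ q : PrimeSpectrum B, algebraMap A B t ∉ q.asIdeal ∧ q ∉ Algebra.smoothLocus A B := by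
  classical
  by_contra hcon
  push_neg at hcon
  open Groth.Agent.H61 in
  -- basic finiteness
  haveI : IsNoetherianRing A := Algebra.FiniteType.isNoetherianRing k A
  haveI : Algebra.FinitePresentation A B := Algebra.FinitePresentation.of_finiteType.mp inferInstance
  haveI : IsNoetherianRing B := Algebra.FiniteType.isNoetherianRing A B
  let P₀ := Algebra.Presentation.ofFinitePresentation A B
  obtain ⟨n₀, l, hl⟩ := CotT2.exists_quasiRetraction_of_smoothLocus P₀ (algebraMap A B t) hcon
  obtain ⟨g, hg, hstar⟩ := RigidStar.exists_g P₀ t n₀ l hl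
  -- t ≠ 0
  have ht0 : t ≠ 0 := by
    rintro rfl
    have h0 : Ideal.span {(0 : A)} = ⊥ := Ideal.span_singleton_eq_bot.mpr rfl
    rw [h0] at ht
    have hF : IsField A := Ring.isField_iff_maximal_bot.mpr ht
    rw [ringKrullDim_eq_zero_of_isField hF] at hdim
    exact zero_ne_one hdim
  -- τ is a nonzerodivisor
  have hτ : ∀ x : B, algebraMap A B t * x = 0 → x = 0 := by
    intro x hx
    have hreg : IsSMulRegular B t :=
      Module.Flat.isSMulRegular_of_nonZeroDivisors (mem_nonZeroDivisors_of_ne_zero ht0)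
    apply hreg
    change t • x = t • 0
    rw [smul_zero, Algebra.smul_def]
    exact hx
  -- the projection π : B → B₀
  let π : B →ₐ[k] B₀ := e.toAlgHom.comp (Ideal.Quotient.mkₐ k (Ideal.span {algebraMap A B t}))
  have hπ : Function.Surjective π := e.surjective.comp (Ideal.Quotient.mkₐ_surjective k _)
  have hker : ∀ x, π x = 0 ↔ ∃ y, x = algebraMap A B t * y := by
    intro x
    change e (Ideal.Quotient.mk _ x) = 0 ↔ _
    rw [map_eq_zero_iff _ e.injective, Ideal.Quotient.eq_zero_iff_mem, Ideal.mem_span_singleton]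
    rfl
  have hrig := RigidMain.rigid_of_subsingleton k B₀ hrigid
  obtain ⟨σ, hσ'⟩ := RigidTriv.exists_section_quot hτ hπ hker hrig n₀
  have hσ : ∀ b c, σ b = Ideal.Quotient.mk _ c → π c = b := by
    intro b c hbc
    have := hσ' b
    rw [hbc, RigidTriv.πq_mk] at this
    exact this
  have hAk := RigidMain.exists_decomp (k := k) t ht
  obtain ⟨resN, c, hc⟩ := RigidMain.exists_resN_c (k := k) t ht ht0 n₀
  have hΘinj := RigidTheta.Θ_injective (t := t) (N := n₀ + 1) (σ := σ) π hτ hπ hker hσ hAk
  have hΘsurj := RigidTheta.Θ_surjective (t := t) (N := n₀ + 1) (σ := σ) π hπ hker hσ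
  let Θe := AlgEquiv.ofBijective (RigidTheta.Θ t (n₀ + 1) σ) ⟨hΘinj, hΘsurj⟩
  -- the map ψ
  let ρ : MvPolynomial (Fin _) A →ₐ[A] B := MvPolynomial.aeval P₀.val
  have hρsurj : Function.Surjective ρ := by
    intro b
    obtain ⟨x, hx⟩ := P₀.toGenerators.algebraMap_surjective b
    exact ⟨x, by rw [← hx, P₀.toGenerators.algebraMap_apply]⟩
  have hI : ∀ x : MvPolynomial (Fin _) A,
      x ∈ (P₀.toExtension.ker : Ideal (MvPolynomial (Fin _) A)) ↔ ρ x = 0 := by
    intro x
    exact Iff.of_eq (congrArg (· = 0) (P₀.toGenerators.algebraMap_apply x))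
  let qB : B →ₐ[A] B ⧸ Ideal.span {algebraMap A B t ^ (n₀ + 1)} := Ideal.Quotient.mkₐ A _
  let ψ : MvPolynomial (Fin _) A →ₐ[A] (A ⧸ Ideal.span {t ^ (n₀ + 1)}) ⊗[k] B₀ :=
    Θe.symm.toAlgHom.comp (qB.comp ρ)
  have hψ : ∀ x, ψ x = Θe.symm (Ideal.Quotient.mk _ (ρ x)) := fun x => rfl
  have hψI : ∀ x : MvPolynomial (Fin _) A,
      x ∈ (P₀.toExtension.ker : Ideal (MvPolynomial (Fin _) A)) → ψ x = 0 := by
    intro x hx
    rw [hψ, (hI x).mp hx, map_zero, map_zero]
  have hψsurj : ∀ b : B₀, ∃ r, ψ r = 1 ⊗ₜ b := by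
    intro b
    obtain ⟨y, hy⟩ := Ideal.Quotient.mk_surjective (σ b)
    obtain ⟨r, rfl⟩ := hρsurj y
    refine ⟨r, ?_⟩
    rw [hψ, hy, AlgEquiv.symm_apply_eq]
    exact (RigidTheta.Θ_one_tmul t (n₀ + 1) σ b).symm
  have hψker : ∀ r, ψ r = 0 → ∃ x : MvPolynomial (Fin _) A,
      x ∈ (P₀.toExtension.ker : Ideal (MvPolynomial (Fin _) A)) ∧
      ∃ r'', r = x + MvPolynomial.C (t ^ (n₀ + 1)) * r'' := by
    intro r hr
    rw [hψ, AlgEquiv.symm_apply_eq, map_zero, Ideal.Quotient.eq_zero_iff_mem,
      Ideal.mem_span_singleton] at hr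
    obtain ⟨y, hy⟩ := hr
    obtain ⟨r'', rfl⟩ := hρsurj y
    refine ⟨r - MvPolynomial.C (t ^ (n₀ + 1)) * r'', ?_, r'', by ring⟩
    rw [hI, map_sub, map_mul, hy, sub_eq_zero]
    congr 1
    change _ = MvPolynomial.aeval P₀.val (MvPolynomial.C (t ^ (n₀ + 1)))
    rw [MvPolynomial.aeval_C, map_pow]
  -- conclusion
  have hfs : Algebra.FormallySmooth k B₀ :=
    RigidMain.formallySmooth_of_exists_section k B₀ (fun E₀ _ _ π₀ hπ₀ hsq =>
      RigidSplit.exists_section t n₀ resN c hc _ g hg hstar π₀ hπ₀ hsq ψ hψI hψsurj hψker)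
  haveI : Algebra.FinitePresentation k B₀ := Algebra.FinitePresentation.of_finiteType.mp inferInstance
  exact hsing ⟨hfs, inferInstance⟩

end Groth.Agent.S12306
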