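import Groth.Statements.S1231
import Mathlib.RingTheory.Unramified.Finite
import Mathlib.RingTheory.Smooth.Flat
import Mathlib.RingTheory.Etale.Basic

set_option autoImplicit false
universe u
open FlatMor

namespace Groth.Agent.S1231

theorem flat_iff_of_etale (R T M : Type u) [CommRing R] [CommRing T] [Algebra R T] [Algebra.Etale R T]
    [AddCommGroup M] [Module R M] [Module T M] [IsScalarTower R T M] :
    Module.Flat R M ↔ Module.Flat T M := by
  constructor
  · intro h
    exact Algebra.FormallyUnramified.flat_of_restrictScalars (R := R) (S := T) M
  · intro h
    exact Module.Flat.trans R T M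

/-- Let R → T be an étale ring map, C a T-algebra, N a C-module and q a prime of C. Then the
localization N_q is flat over R if and only if it is flat over T. In particular N is flat over R if
and only if it is flat over T. -/
theorem result {R T C : Type u} [CommRing R] [CommRing T] [CommRing C] [Algebra R T] [Algebra.Etale R T]
    [Algebra T C] [Algebra R C] [IsScalarTower R T C]
    (N : Type u) [AddCommGroup N] [Module C N] [Module T N] [Module R N] [IsScalarTower T C N] [IsScalarTower R C N] [IsScalarTower R T N]
    (q : Ideal C) [q.IsPrime] :
    (FlatCA.FlatAt R q N ↔ FlatCA.FlatAt T q N) ∧ (Module.Flat R N ↔ Module.Flat T N) := by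
  refine ⟨?_, flat_iff_of_etale R T N⟩
  unfold FlatCA.FlatAt
  have : IsScalarTower R T (LocalizedModule q.primeCompl N) := by
    constructor
    intro r t x
    induction x using LocalizedModule.induction_on with
    | h m s =>
      rw [LocalizedModule.smul'_mk, LocalizedModule.smul'_mk, LocalizedModule.smul'_mk, smul_assoc]
  exact flat_iff_of_etale R T _

end Groth.Agent.S1231
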