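import Groth.Statements.S12310
import Groth.Agent.H61.DefDict
import Groth.Agent.H61.LciT2
import Groth.Agent.H61.LciCot
import Groth.Agent.H63.ArtBasic
-- import your own Groth.Agent.* helpers here

set_option autoImplicit false
universe u
open CategoryTheory AlgebraicGeometry
open SGA7

namespace Groth.Agent.S12310

/-- Suppose Λ is a Noetherian local ring, complete for its maximal-ideal-adic topology, whose residue
field is k (so Λ → k is surjective), and work with functors defined on local Artinian Λ-algebras
having residue field k. Take a finite-type k-algebra A₀ that is a local complete intersection over k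
(meaning it admits a presentation as a quotient of a polynomial algebra in finitely many variables
whose kernel is Koszul-regular), and put X₀ = Spec A₀. Then X₀ has a smooth deformation functor (the
functor of isomorphism classes of schemes flat over Spec A whose closed fibre is X₀): given any
surjection A' → A, each deformation over A can be lifted to one over A'. -/
theorem result (Λ k : Type u) [CommRing Λ] [IsLocalRing Λ] [IsNoetherianRing Λ]
    [IsAdicComplete (IsLocalRing.maximalIdeal Λ) Λ] [Field k] [Algebra Λ k]
    (hk : Function.Surjective (algebraMap Λ k))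
    (A₀ : Type u) [CommRing A₀] [Algebra k A₀] (hA : LCI.IsLCI k A₀) :
    ArtFun.IsSmoothFunctor (ArtFun.defFunctor (Λ := Λ) (Spec (CommRingCat.of A₀))
      (Spec.map (CommRingCat.ofHom (algebraMap k A₀)))) := by
  classical
  obtain ⟨-, n, φ, hφ, hI⟩ := hA
  have hfg : (RingHom.ker φ.toRingHom).FG := IsNoetherian.noetherian _
  obtain ⟨m, f, hf⟩ := Submodule.fg_iff_exists_fin_generating_family.mp hfg
  have hf' : RingHom.ker φ.toRingHom = Ideal.span (Set.range f) := hf.symm
  have hT2 : ∀ ob : LinearMap.ker (Groth.Agent.H61.DefObs.lc f) →+ A₀,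
      (∀ c r, ob (c • r) = φ c * ob r) →
      (∀ (a b : Fin m →₀ MvPolynomial (Fin n) k)
        (h : Groth.Agent.H61.DefObs.lc f a • b - Groth.Agent.H61.DefObs.lc f b • a ∈
          LinearMap.ker (Groth.Agent.H61.DefObs.lc f)), ob ⟨_, h⟩ = 0) →
      ∃ g : Fin m → A₀, ∀ r : LinearMap.ker (Groth.Agent.H61.DefObs.lc f),
        ob r = (r : Fin m →₀ MvPolynomial (Fin n) k).sum (fun s c => φ c * g s) := by
    intro ob hsemi htriv
    letI : Algebra (MvPolynomial (Fin n) k) A₀ := φ.toRingHom.toAlgebra
    let obL : LinearMap.ker (Groth.Agent.H61.DefObs.lc f) →ₗ[MvPolynomial (Fin n) k] A₀ :=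
      { toFun := ob
        map_add' := map_add ob
        map_smul' := fun c r => by
          rw [RingHom.id_apply, Algebra.smul_def]
          exact hsemi c r }
    refine Groth.Agent.H61.LciT2.exists_coord_of_locData f (fun s => ?_) ?_ obL htriv
    · have : f s ∈ RingHom.ker φ.toRingHom := by rw [hf']; exact Ideal.subset_span ⟨s, rfl⟩
      exact this
    · intro 𝔭 h𝔭 hle
      obtain ⟨g, hg, c, h, hH1, hspan⟩ :=
        Groth.Agent.H61.LciCot.exists_h1Regular (RingHom.ker φ.toRingHom) hI 𝔭 (hf' ▸ hle)
      exact ⟨g, hg, Groth.Agent.H61.LciT2.locData_of_h1Regular f g h hH1 (by rw [← hf']; exact hspan)⟩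
  intro B A μ hμ
  refine Groth.Agent.H63.surjective_induction
    (P := fun A B μ => Function.Surjective ((ArtFun.defFunctor (Λ := Λ) (Spec (CommRingCat.of A₀))
      (Spec.map (CommRingCat.ofHom (algebraMap k A₀)))).map μ)) ?_ ?_ ?_ μ hμ
  · intro A B e he
    haveI := he
    exact ((CategoryTheory.isIso_iff_bijective _).mp inferInstance).2
  · intro A B p hp
    exact Groth.Agent.H61.DefDict.surjective_map_of_small.{u, 0} p hp φ hφ f hf' hT2
  · intro A B C p q hp hq
    rw [CategoryTheory.Functor.map_comp]
    intro y
    obtain ⟨z, hz⟩ := hq y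
    obtain ⟨w, hw⟩ := hp z
    exact ⟨w, by rw [CategoryTheory.types_comp_apply, hw, hz]⟩

end Groth.Agent.S12310
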