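import Groth.Statements.S12315
import Groth.Agent.S12714
import Groth.Agent.H63.ArtDer
import Groth.Agent.H63.ArtLim

set_option autoImplicit false
universe u v
open CategoryTheory
open SGA7

namespace Groth.Agent.S12315

/-- Let Λ be a complete Noetherian local ring with residue field k (the map Λ → k surjective), and
consider functors on the category of local Artinian Λ-algebras with residue field k. Let F be such a
functor, R a complete local Noetherian Λ-algebra with residue field k, and ξ a family of F over R (a
morphism h_R → F) which is injective on k[ε]: distinct augmented Λ-algebra maps R → k[ε] give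
distinct elements of F(k[ε]). Then every endomorphism of the pair (R, ξ), that is every Λ-algebra
map α : R → R compatible with the augmentation such that transporting ξ along α gives back ξ, is an
automorphism of R. (The published statement is for formal objects of a cofibred groupoid; this row
is the case of a set-valued functor.) -/
theorem result (Λ k : Type u) [CommRing Λ] [IsLocalRing Λ] [IsNoetherianRing Λ]
    [IsAdicComplete (IsLocalRing.maximalIdeal Λ) Λ] [Field k] [Algebra Λ k]
    (hk : Function.Surjective (algebraMap Λ k))
    (F : ArtFun.Art Λ k ⥤ Type v) (R : ArtFun.CRing Λ k) (ξ : ArtFun.Family R.carrier R.res F)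
    (hinj : Function.Injective (ξ.app (ArtFun.Art.dual Λ k)))
    (α : R.carrier →ₐ[Λ] R.carrier) (hα : R.res.comp α = R.res) (hξ : ξ.along α hα = ξ) :
    Function.Bijective α := by
  haveI : Module.Finite Λ k := Module.Finite.of_surjective (Algebra.linearMap Λ k) hk
  have hsurj : Function.Surjective α := by
    have htfae := Groth.Agent.S12714.result R R α hα
    have h01 : Function.Surjective α ↔
        Ideal.map α (IsLocalRing.maximalIdeal R.carrier) ⊔ IsLocalRing.maximalIdeal R.carrier ^ 2 =
          IsLocalRing.maximalIdeal R.carrier := htfae.out 0 1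
    rw [h01]
    by_contra hne
    have hle : Ideal.map α (IsLocalRing.maximalIdeal R.carrier) ≤
        IsLocalRing.maximalIdeal R.carrier := by
      rw [Ideal.map_le_iff_le_comap]
      exact ArtFun.CRing.maximalIdeal_le_comap α hα
    obtain ⟨θ, hθ1, hθ2, s, hs⟩ := Groth.Agent.H63.exists_tangent_of_ne (S := R.carrier) R.res
      (fun s => ArtFun.CRing.mem_maximalIdeal_iff R s) R.res R.res_surjective α hα
      (IsLocalRing.maximalIdeal R.carrier)
      (fun r hr => (ArtFun.CRing.mem_maximalIdeal_iff R r).2 hr) hne hle
    -- the two tangent vectors
    let u : ArtFun.HomSet R.carrier R.res (ArtFun.Art.dual Λ k) :=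
      ⟨θ, AlgHom.ext fun r => hθ1 r⟩
    let u' : ArtFun.HomSet R.carrier R.res (ArtFun.Art.dual Λ k) :=
      ⟨θ.comp α, AlgHom.ext fun r => (hθ1 (α r)).trans (AlgHom.congr_fun hα r)⟩
    have e1 : ξ.app _ u' = ξ.app _ u := by
      have h := congrArg (fun ζ : ArtFun.Family R.carrier R.res F => ζ.app _ u) hξ
      exact h
    have e2 : u' = u := hinj e1
    -- contradiction: `snd (θ s) ≠ 0` but `θ = θ ∘ α` has vanishing `snd`
    apply hs
    have h1 : θ s = θ (α s) := (congrArg (fun z => z.1 s) e2).symm
    rw [h1]
    exact hθ2 s
  exact ⟨Groth.Agent.H63.injective_of_surjective_ringEnd α.toRingHom hsurj, hsurj⟩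

end Groth.Agent.S12315
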