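import Mathlib
import Groth.Statements.S1232
-- import your own Groth.Agent.* helpers here

set_option autoImplicit false
universe u
open FlatMor

namespace Groth.Agent.S1232

open TensorProduct

/-- A criterion for a prime to be minimal over an ideal. -/
lemma mem_minimalPrimes_iff_crit {A : Type*} [CommRing A] (I p : Ideal A) [hp : p.IsPrime] :
    p ∈ I.minimalPrimes ↔ I ≤ p ∧ ∀ x ∈ p, ∃ u, u ∉ p ∧ ∃ n : ℕ, u * x ^ n ∈ I := by
  have h1p : (1 : A) ∉ p := (Ideal.ne_top_iff_one p).mp hp.ne_top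
  constructor
  · intro h
    refine ⟨h.1.2, fun x hx => ?_⟩
    by_contra hcon
    push Not at hcon
    let T : Submonoid A :=
      { carrier := {a | ∃ u, u ∉ p ∧ ∃ n : ℕ, a = u * x ^ n}
        one_mem' := ⟨1, h1p, 0, by simp⟩
        mul_mem' := by
          rintro a b ⟨u, hu, n, rfl⟩ ⟨v, hv, k, rfl⟩
          exact ⟨u * v, fun h => (hp.mem_or_mem h).elim hu hv, n + k, by ring⟩ }
    have hdisj : Disjoint (I : Set A) (T : Set A) := by
      rw [Set.disjoint_left]
      rintro a ha ⟨u, hu, n, rfl⟩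
      exact hcon u hu n ha
    obtain ⟨q, hq, hIq, hqT⟩ := Ideal.exists_le_prime_disjoint I T hdisj
    have hqp : q ≤ p := by
      intro a ha
      by_contra hap
      exact Set.disjoint_left.mp hqT ha ⟨a, hap, 0, by simp⟩
    have hpq : p ≤ q := h.2 ⟨hq, hIq⟩ hqp
    exact Set.disjoint_left.mp hqT (hpq hx) ⟨1, h1p, 1, by simp⟩
  · rintro ⟨hIp, hcrit⟩
    refine ⟨⟨hp, hIp⟩, fun q ⟨hq, hIq⟩ hqp x hx => ?_⟩
    obtain ⟨u, hu, n, hn⟩ := hcrit x hx
    have h1 : u * x ^ n ∈ q := hIq hn
    rcases hq.mem_or_mem h1 with h2 | h2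
    · exact absurd (hqp h2) hu
    · exact hq.mem_of_pow_mem n h2

variable {A B : Type u} [CommRing A] [CommRing B] [Algebra A B]

lemma ann_comap (N : Type*) [AddCommGroup N] [Module A N] [Module B N] [IsScalarTower A B N]
    (z : N) :
    (Submodule.span A {z}).annihilator =
      (Submodule.span B {z}).annihilator.comap (algebraMap A B) := by
  ext a
  simp only [Submodule.mem_annihilator_span_singleton, Ideal.mem_comap, algebraMap_smul]

lemma backward [Algebra.IsIntegral A B] [Module.Flat A B] (M : Type u) [AddCommGroup M]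
    [Module A M] (p : Ideal A) [p.IsPrime] (t : Ideal B) [ht : t.IsPrime]
    (htp : t.comap (algebraMap A B) = p)
    (h : p ∈ FlatCA.weakAss A M) : t ∈ FlatCA.weakAss B (B ⊗[A] M) := by
  obtain ⟨m, hm⟩ := h
  refine ⟨(1 : B) ⊗ₜ[A] m, ?_⟩
  have hJ : ∀ b : B, b • ((1 : B) ⊗ₜ[A] m) = 0 → b ∈ t := by
    intro b hb
    have h1 : m ⊗ₜ[A] b = (0 : M ⊗[A] B) := by
      have := congrArg (TensorProduct.comm A B M) hb
      simpa [TensorProduct.smul_tmul'] using this
    have h2 : ∑ i : Unit, (fun _ => m) i ⊗ₜ[A] (fun _ => b) i = (0 : M ⊗[A] B) := by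
      simpa using h1
    obtain ⟨k, a, y, hay, ham⟩ :=
      TensorProduct.vanishesTrivially_of_sum_tmul_eq_zero_of_rTensor_injective (R := A)
        (Module.Flat.rTensor_preserves_injective_linearMap _ (Submodule.injective_subtype _)) h2
    have hb' : b = ∑ j, a () j • y j := hay ()
    rw [hb']
    refine Ideal.sum_mem _ fun j _ => ?_
    have haj : a () j • m = 0 := by simpa using ham j
    have h3 : a () j ∈ p := hm.1.2 ((Submodule.mem_annihilator_span_singleton _ _).mpr haj)
    rw [Algebra.smul_def]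
    refine Ideal.mul_mem_right _ _ ?_
    rw [← htp] at h3
    exact h3
  refine ⟨⟨ht, fun b hb => hJ b ((Submodule.mem_annihilator_span_singleton _ _).mp hb)⟩, ?_⟩
  rintro Q ⟨hQ, hJQ⟩ hQt
  haveI := hQ
  have hcQ : p ≤ Q.comap (algebraMap A B) := by
    refine hm.2 ⟨Ideal.comap_isPrime _ _, fun a ha => ?_⟩ ?_
    · refine hJQ ((Submodule.mem_annihilator_span_singleton _ _).mpr ?_)
      have ha' : a • m = 0 := (Submodule.mem_annihilator_span_singleton _ _).mp ha
      rw [algebraMap_smul, ← TensorProduct.tmul_smul, ha', TensorProduct.tmul_zero]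
    · rw [← htp]; exact Ideal.comap_mono hQt
  by_contra hne
  have hlt : Q < t := lt_of_le_not_ge hQt hne
  have h4 := Ideal.IsIntegral.comap_lt_comap (R := A) (A := B) hlt
  rw [htp] at h4
  exact absurd (lt_of_le_of_lt hcQ h4) (lt_irrefl _)

lemma step1 [Algebra.IsIntegral A B] {N : Type*} [AddCommGroup N] [Module B N]
    (p : Ideal A) [p.IsPrime] (hfin : (p.primesOver B).Finite)
    (t : Ideal B) [ht : t.IsPrime] (htp : t.comap (algebraMap A B) = p)
    (z : N) (hz : t ∈ (Submodule.span B {z}).annihilator.minimalPrimes) :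
    ∃ c s : B, c ∉ t ∧ s • c • z = 0 ∧
      ∀ t' : Ideal B, t'.IsPrime → t'.comap (algebraMap A B) = p → t' ≠ t → s ∉ t' := by
  classical
  by_contra hcon
  push Not at hcon
  let F : Finset (Ideal B) := hfin.toFinset.erase t
  have hF : ∀ t' ∈ F, t'.IsPrime ∧ t'.comap (algebraMap A B) = p ∧ t' ≠ t := by
    intro t' ht'
    rw [Finset.mem_erase, Set.Finite.mem_toFinset] at ht'
    exact ⟨ht'.2.1, ht'.2.2.over.symm, ht'.1⟩
  have hF' : ∀ t' : Ideal B, t'.IsPrime → t'.comap (algebraMap A B) = p → t' ≠ t → t' ∈ F := by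
    intro t' h1 h2 h3
    rw [Finset.mem_erase, Set.Finite.mem_toFinset]
    exact ⟨h3, h1, ⟨h2.symm⟩⟩
  have h1t : (1 : B) ∉ t := (Ideal.ne_top_iff_one t).mp ht.ne_top
  have h1F : ∀ t' ∈ F, (1 : B) ∉ t' := fun t' ht' =>
    (Ideal.ne_top_iff_one t').mp (hF t' ht').1.ne_top
  let T : Submonoid B :=
    { carrier := {a | ∃ c s : B, c ∉ t ∧ (∀ t' ∈ F, s ∉ t') ∧ a = c * s}
      one_mem' := ⟨1, 1, h1t, h1F, by simp⟩
      mul_mem' := by
        rintro a b ⟨c, s, hc, hs, rfl⟩ ⟨c', s', hc', hs', rfl⟩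
        refine ⟨c * c', s * s', fun h => (ht.mem_or_mem h).elim hc hc', fun t' ht' h => ?_,
          by ring⟩
        exact ((hF t' ht').1.mem_or_mem h).elim (hs t' ht') (hs' t' ht') }
  have hdisj : Disjoint (((Submodule.span B {z}).annihilator : Ideal B) : Set B) (T : Set B) := by
    rw [Set.disjoint_left]
    rintro a ha ⟨c, s, hc, hs, rfl⟩
    have h0 : s • c • z = 0 := by
      rw [smul_smul, mul_comm]
      exact (Submodule.mem_annihilator_span_singleton _ _).mp ha
    obtain ⟨t', h1, h2, h3, h4⟩ := hcon c s hc h0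
    exact hs t' (hF' t' h1 h2 h3) h4
  obtain ⟨Q, hQ, hJQ, hQT⟩ := Ideal.exists_le_prime_disjoint _ T hdisj
  have hQt : Q ≤ t := by
    intro a ha
    by_contra hat
    exact Set.disjoint_left.mp hQT ha ⟨a, 1, hat, h1F, by simp⟩
  have htQ : t ≤ Q := hz.2 ⟨hQ, hJQ⟩ hQt
  have hsub : ((t : Ideal B) : Set B) ⊆ ⋃ i ∈ (↑F : Set (Ideal B)), ((id i : Ideal B) : Set B) := by
    intro a ha
    by_contra hcon2
    have hcon3 : ∀ t' ∈ F, a ∉ t' := fun t' ht' hat' =>
      hcon2 (Set.mem_iUnion₂.mpr ⟨t', Finset.mem_coe.mpr ht', hat'⟩)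
    exact Set.disjoint_left.mp hQT (htQ ha) ⟨1, a, h1t, hcon3, by simp⟩
  obtain ⟨t', ht'F, htt'⟩ := (Ideal.subset_union_prime (f := id) t t
    (fun i hi _ _ => (hF i hi).1)).mp hsub
  obtain ⟨h1, h2, h3⟩ := hF t' ht'F
  have hlt : t < t' := lt_of_le_of_ne htt' (Ne.symm h3)
  have h4 := Ideal.IsIntegral.comap_lt_comap (R := A) (A := B) hlt
  rw [htp, h2] at h4
  exact lt_irrefl _ h4

lemma step2 [Algebra.IsIntegral A B] {N : Type*} [AddCommGroup N] [Module B N]
    (p : Ideal A) [p.IsPrime] (t : Ideal B) [ht : t.IsPrime]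
    (htp : t.comap (algebraMap A B) = p) (z' : N)
    (hz : t ∈ (Submodule.span B {z'}).annihilator.minimalPrimes) (s : B) (hs : s • z' = 0)
    (hs' : ∀ t' : Ideal B, t'.IsPrime → t'.comap (algebraMap A B) = p → t' ≠ t → s ∉ t') :
    p ∈ ((Submodule.span B {z'}).annihilator.comap (algebraMap A B)).minimalPrimes := by
  refine ⟨⟨inferInstance, ?_⟩, ?_⟩
  · rw [← htp]; exact Ideal.comap_mono hz.1.2
  · rintro p' ⟨hp', hJp'⟩ hp'p
    haveI := hp'
    obtain ⟨P, hJP, hP, hPp'⟩ := Ideal.exists_ideal_over_prime_of_isIntegral p' _ hJp'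
    haveI := hP
    obtain ⟨P', hPP', hP', hP'p⟩ :=
      Ideal.exists_ideal_over_prime_of_isIntegral_of_isPrime p P (by rw [hPp']; exact hp'p)
    have hsP' : s ∈ P' := hPP' (hJP ((Submodule.mem_annihilator_span_singleton _ _).mpr hs))
    have hP't : P' = t := by
      by_contra hne
      exact hs' P' hP' hP'p hne hsP'
    have hPt : P ≤ t := hP't ▸ hPP'
    have htP : t ≤ P := hz.2 ⟨hP, hJP⟩ hPt
    have hPeq : P = t := le_antisymm hPt htP
    have : p = p' := by rw [← htp, ← hPeq, hPp']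
    exact le_of_eq this

lemma step3 [Module.Finite A B] [Module.Flat A B] (M : Type u) [AddCommGroup M] [Module A M]
    (p : Ideal A) [hp : p.IsPrime] (z' : B ⊗[A] M)
    (hz : p ∈ (Submodule.span A {z'}).annihilator.minimalPrimes) : p ∈ FlatCA.weakAss A M := by
  classical
  let S : Submonoid A := p.primeCompl
  let L := Localization.AtPrime p
  haveI : Module.Free L (L ⊗[A] B) := Module.free_of_flat_of_isLocalRing
  let ι := Module.Free.ChooseBasisIndex L (L ⊗[A] B)
  let β : Module.Basis ι L (L ⊗[A] B) := Module.Free.chooseBasis L (L ⊗[A] B)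
  let g : B →ₗ[A] L ⊗[A] B := TensorProduct.mk A L B 1
  let e : (L ⊗[A] B) ≃ₗ[A] (ι →₀ L) := β.repr.restrictScalars A
  let ψ : ι → (B ⊗[A] M →ₗ[A] L ⊗[A] M) := fun i =>
    ((Finsupp.lapply (R := A) (M := L) i) ∘ₗ e.toLinearMap ∘ₗ g).rTensor M
  have hg : IsLocalizedModule S g := inferInstance
  have hΛ : IsLocalizedModule S (TensorProduct.AlgebraTensorModule.rTensor A M g) :=
    inferInstance
  have F1 : ∀ y : B ⊗[A] M, (∀ i, ψ i y = 0) → ∃ u : A, u ∉ p ∧ u • y = 0 := by
    intro y hy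
    have h0 : (TensorProduct.AlgebraTensorModule.rTensor A M g) y = 0 := by
      have h1 : (e.toLinearMap.rTensor M) ((g.rTensor M) y) = 0 := by
        apply (TensorProduct.finsuppLeft A A L M ι).injective
        rw [map_zero]
        ext i
        rw [TensorProduct.finsuppLeft_apply, Finsupp.zero_apply]
        have h2 := hy i
        simp only [ψ, LinearMap.rTensor_comp, LinearMap.comp_apply] at h2
        exact h2
      have hinj : Function.Injective (e.toLinearMap.rTensor M) :=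
        (LinearEquiv.rTensor M e).injective
      exact hinj (by rw [map_zero]; exact h1)
    obtain ⟨⟨u, hu⟩, hu0⟩ := (IsLocalizedModule.eq_zero_iff S
      (TensorProduct.AlgebraTensorModule.rTensor A M g)).mp h0
    exact ⟨u, hu, hu0⟩
  obtain ⟨hIp, hcrit⟩ := (mem_minimalPrimes_iff_crit _ p).mp hz
  have F2 : ∀ i, ∃ (v : A) (m : M), v ∉ p ∧ v • ψ i z' = (1 : L) ⊗ₜ[A] m := by
    intro i
    obtain ⟨⟨m, ⟨v, hv⟩⟩, hvm⟩ := IsLocalizedModule.surj S (TensorProduct.mk A L M 1) (ψ i z')
    exact ⟨v, m, hv, hvm⟩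
  choose v mm hv hvm using F2
  have F3 : ∀ m : M, (1 : L) ⊗ₜ[A] m = 0 → ∃ u : A, u ∉ p ∧ u • m = 0 := by
    intro m hm
    obtain ⟨⟨u, hu⟩, hu0⟩ := (IsLocalizedModule.eq_zero_iff S (TensorProduct.mk A L M 1)).mp hm
    exact ⟨u, hu, hu0⟩
  -- some coordinate has annihilator inside `p`
  have hex : ∃ i, ∀ a : A, a • mm i = 0 → a ∈ p := by
    by_contra hcon
    push Not at hcon
    choose a ha hap using hcon
    let c : A := ∏ i, (a i * v i)
    have hc : c ∉ p := by
      intro hc
      obtain ⟨i, -, hi⟩ := (Ideal.IsPrime.prod_mem_iff (hp := hp)).mp hc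
      rcases hp.mem_or_mem hi with h | h
      · exact hap i h
      · exact hv i h
    have hci : ∀ i, ψ i (c • z') = 0 := by
      intro i
      have h1 : (a i * v i) • ψ i z' = 0 := by
        rw [mul_smul, hvm i, ← TensorProduct.tmul_smul, ha i, TensorProduct.tmul_zero]
      have h2 : c = (∏ j ∈ Finset.univ.erase i, (a j * v j)) * (a i * v i) := by
        rw [mul_comm]
        exact (Finset.mul_prod_erase Finset.univ (fun j => a j * v j) (Finset.mem_univ i)).symm
      rw [map_smul, h2, mul_smul, h1, smul_zero]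
    obtain ⟨u, hu, hu0⟩ := F1 (c • z') hci
    have h3 : u * c ∈ p := hIp ((Submodule.mem_annihilator_span_singleton _ _).mpr
      (by rw [mul_smul]; exact hu0))
    rcases hp.mem_or_mem h3 with h | h
    · exact hu h
    · exact hc h
  obtain ⟨i, hi⟩ := hex
  refine ⟨mm i, (mem_minimalPrimes_iff_crit _ p).mpr ⟨fun a ha => hi a
    ((Submodule.mem_annihilator_span_singleton _ _).mp ha), fun x hx => ?_⟩⟩
  obtain ⟨u, hu, n, hn⟩ := hcrit x hx
  have h1 : (u * x ^ n) • z' = 0 := (Submodule.mem_annihilator_span_singleton _ _).mp hn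
  have h2 : (1 : L) ⊗ₜ[A] ((u * x ^ n) • mm i) = 0 := by
    rw [TensorProduct.tmul_smul, ← hvm i, smul_comm, ← map_smul, h1, map_zero, smul_zero]
  obtain ⟨u', hu', hu0⟩ := F3 _ h2
  refine ⟨u' * u, fun h => (hp.mem_or_mem h).elim hu' hu, n, ?_⟩
  rw [Submodule.mem_annihilator_span_singleton, mul_assoc, mul_smul]
  exact hu0

lemma forward [Module.Finite A B] [Module.Flat A B] (M : Type u) [AddCommGroup M] [Module A M]
    (p : Ideal A) [p.IsPrime] (t : Ideal B) [ht : t.IsPrime]
    (htp : t.comap (algebraMap A B) = p)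
    (h : t ∈ FlatCA.weakAss B (B ⊗[A] M)) : p ∈ FlatCA.weakAss A M := by
  obtain ⟨z, hz⟩ := h
  have hfin : (p.primesOver B).Finite := Algebra.QuasiFinite.finite_primesOver p
  obtain ⟨c, s, hc, hsc, hs'⟩ := step1 p hfin t htp z hz
  have hz' : t ∈ (Submodule.span B {c • z}).annihilator.minimalPrimes := by
    refine ⟨⟨ht, ?_⟩, ?_⟩
    · intro b hb
      have h1 : b • c • z = 0 := (Submodule.mem_annihilator_span_singleton _ _).mp hb
      have h2 : b * c ∈ t := hz.1.2 ((Submodule.mem_annihilator_span_singleton _ _).mpr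
        (by rw [mul_smul]; exact h1))
      exact (ht.mem_or_mem h2).resolve_right hc
    · rintro Q ⟨hQ, hJQ⟩ hQt
      refine hz.2 ⟨hQ, fun b hb => hJQ ?_⟩ hQt
      rw [Submodule.mem_annihilator_span_singleton] at hb ⊢
      rw [smul_comm, hb, smul_zero]
  have h2 := step2 p t htp (c • z) hz' s hsc hs'
  rw [← ann_comap] at h2
  exact step3 M p (c • z) h2

open TensorProduct in
/-- Let A → B be a finite flat ring map, M an A-module and t a prime of B lying over the prime p of A.
Then t is a weakly associated prime of the B-module B ⊗_A M if and only if p is a weakly associated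
prime of M. -/
theorem result {A B : Type u} [CommRing A] [CommRing B] [Algebra A B] [Module.Finite A B] [Module.Flat A B]
    (M : Type u) [AddCommGroup M] [Module A M] (p : Ideal A) [p.IsPrime] (t : Ideal B) [t.IsPrime] [t.LiesOver p] :
    t ∈ FlatCA.weakAss B (B ⊗[A] M) ↔ p ∈ FlatCA.weakAss A M := by
  have htp : t.comap (algebraMap A B) = p := (Ideal.LiesOver.over (p := p) (P := t)).symm
  exact ⟨forward M p t htp, backward M p t htp⟩

end Groth.Agent.S1232
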