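import Groth.Statements.S1233
import Groth.Agent.H9.WeakAss
import Groth.Agent.S1232

set_option autoImplicit false
universe u
open FlatMor

namespace Groth.Agent.S1233

open TensorProduct Groth.Agent.H9.WeakAss

/-- Transfer of weak associatedness along a common localization `D` of `B` and of a finite flat
`A`-algebra `C`. -/
theorem forward_aux {A B C D : Type u} [CommRing A] [CommRing B] [CommRing C] [CommRing D]
    [Algebra A B] [Algebra A C] [Algebra A D] [Algebra B D] [Algebra C D]
    [IsScalarTower A B D] [IsScalarTower A C D]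
    [Module.Finite A C] [Module.Flat A C]
    (SB : Submonoid B) [IsLocalization SB D] (SC : Submonoid C) [IsLocalization SC D]
    (M : Type u) [AddCommGroup M] [Module A M]
    (u : Ideal B) [u.IsPrime] (hu : Disjoint (SB : Set B) (u : Set B))
    (h : u ∈ FlatCA.weakAss B (B ⊗[A] M)) : u.under A ∈ FlatCA.weakAss A M := by
  have h1 : u.map (algebraMap B D) ∈ FlatCA.weakAss D (D ⊗[B] (B ⊗[A] M)) :=
    (mem_weakAss_map_iff SB D (TensorProduct.mk B D (B ⊗[A] M) 1) u hu).mp h
  have h2 : u.map (algebraMap B D) ∈ FlatCA.weakAss D (D ⊗[A] M) := by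
    rw [← weakAss_congr (TensorProduct.AlgebraTensorModule.cancelBaseChange A B D D M)]
    exact h1
  have h3 : u.map (algebraMap B D) ∈ FlatCA.weakAss D (D ⊗[C] (C ⊗[A] M)) := by
    rw [weakAss_congr (TensorProduct.AlgebraTensorModule.cancelBaseChange A C D D M)]
    exact h2
  have hprime : (u.map (algebraMap B D)).IsPrime :=
    IsLocalization.isPrime_of_isPrime_disjoint SB D u inferInstance hu
  have hv : Disjoint (SC : Set C) (((u.map (algebraMap B D)).under C : Ideal C) : Set C) :=
    ((IsLocalization.isPrime_iff_isPrime_disjoint SC D (u.map (algebraMap B D))).mp hprime).2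
  have hvmap : ((u.map (algebraMap B D)).under C).map (algebraMap C D) = u.map (algebraMap B D) :=
    IsLocalization.map_comap SC D _
  have h4 : (u.map (algebraMap B D)).under C ∈ FlatCA.weakAss C (C ⊗[A] M) := by
    refine (mem_weakAss_map_iff SC D (TensorProduct.mk C D (C ⊗[A] M) 1) _ hv).mpr ?_
    rw [hvmap]
    exact h3
  have hvA : ((u.map (algebraMap B D)).under C).under A = u.under A := by
    rw [Ideal.under_under, ← Ideal.under_under (B := B),
      IsLocalization.under_map_of_isPrime_disjoint SB D inferInstance hu]
  have : ((u.map (algebraMap B D)).under C).LiesOver (u.under A) := ⟨hvA.symm⟩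
  exact (Groth.Agent.S1232.result M (u.under A) ((u.map (algebraMap B D)).under C)).mp h4

theorem forward {A B : Type u} [CommRing A] [CommRing B] [Algebra A B] [Algebra.Etale A B]
    (M : Type u) [AddCommGroup M] [Module A M] (p : Ideal A) [p.IsPrime] (u : Ideal B) [u.IsPrime]
    [u.LiesOver p] (h : u ∈ FlatCA.weakAss B (B ⊗[A] M)) : p ∈ FlatCA.weakAss A M := by
  have : Algebra.FormallyEtale B (Localization.AtPrime u) :=
    Algebra.FormallyEtale.of_isLocalization u.primeCompl
  have : Algebra.IsEtaleAt A u := Algebra.FormallyEtale.comp A B _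
  obtain ⟨f, hfu, hstd⟩ := Algebra.IsEtaleAt.exists_isStandardEtale (R := A) u
  obtain ⟨P⟩ := hstd.nonempty_standardEtalePresentation
  let C := AdjoinRoot P.f
  let gbar : C := AdjoinRoot.mk P.f P.g
  let D' := Localization.Away gbar
  let e : Localization.Away f ≃ₐ[A] D' := P.equivRing.trans P.P.equivAwayAdjoinRoot
  letI algBD' : Algebra B D' :=
    (e.toAlgHom.toRingHom.comp (algebraMap B (Localization.Away f))).toAlgebra
  have hst : IsScalarTower A B D' := IsScalarTower.of_algebraMap_eq (fun a => by
    show algebraMap A D' a = e (algebraMap B _ (algebraMap A B a))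
    rw [← IsScalarTower.algebraMap_apply A B (Localization.Away f), e.commutes])
  have hloc : IsLocalization (Submonoid.powers f) D' :=
    IsLocalization.isLocalization_of_algEquiv (Submonoid.powers f)
      (AlgEquiv.ofRingEquiv (f := e.toRingEquiv) (fun x => rfl) : Localization.Away f ≃ₐ[B] D')
  have hfin : Module.Finite A C := P.monic_f.finite_adjoinRoot
  have hfree : Module.Free A C := P.monic_f.free_adjoinRoot
  have hdisj : Disjoint (Submonoid.powers f : Set B) (u : Set B) :=
    (Ideal.disjoint_powers_iff_notMem_of_isPrime _).mpr hfu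
  have key := forward_aux (A := A) (B := B) (C := C) (D := D') (Submonoid.powers f)
    (Submonoid.powers gbar) M u hdisj h
  rwa [← Ideal.LiesOver.over (p := p) (P := u)] at key

open TensorProduct in
/-- Let A → B be an étale ring map, M an A-module and u a prime of B lying over the prime p of A. Then u
is a weakly associated prime of the B-module B ⊗_A M if and only if p is a weakly associated prime
of M. -/
theorem result {A B : Type u} [CommRing A] [CommRing B] [Algebra A B] [Algebra.Etale A B]
    (M : Type u) [AddCommGroup M] [Module A M] (p : Ideal A) [p.IsPrime] (u : Ideal B) [u.IsPrime] [u.LiesOver p] :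
    u ∈ FlatCA.weakAss B (B ⊗[A] M) ↔ p ∈ FlatCA.weakAss A M := by
  exact ⟨forward M p u, mem_weakAss_tensor_of_flat_of_quasiFinite M p u⟩

end Groth.Agent.S1233
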