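import Groth.Statements.S1234
import Mathlib
import Groth.Agent.H47.HensNoeth2
import Groth.Agent.S1233
import Groth.Agent.S5043

set_option autoImplicit false
universe u
open FlatMor

namespace Groth.Agent.S1234

open TensorProduct IsLocalRing Groth.Agent.H9.WeakAss

/-- Weak associatedness of the maximal ideal is insensitive to an ind-étale local extension
(henselization, strict henselization). -/
theorem maximalIdeal_mem_weakAss_tensor_iff {R S : Type u} [CommRing R] [IsLocalRing R]
    [CommRing S] [IsLocalRing S] [Algebra R S] [IsLocalHom (algebraMap R S)]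
    (hI : Groth.Agent.H47.HensNoeth.IsIndEtaleLocal R S)
    (N : Type u) [AddCommGroup N] [Module R N] :
    maximalIdeal S ∈ FlatCA.weakAss S (S ⊗[R] N) ↔ maximalIdeal R ∈ FlatCA.weakAss R N := by
  classical
  haveI : Module.Flat R S := hI.flat
  have hcomapS : (maximalIdeal S).comap (algebraMap R S) = maximalIdeal R := by
    ext a
    rw [Ideal.mem_comap, mem_maximalIdeal, mem_maximalIdeal, mem_nonunits_iff,
      mem_nonunits_iff, isUnit_map_iff]
  constructor
  · rintro ⟨z, hz⟩
    obtain ⟨F, hF⟩ := TensorProduct.exists_finset z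
    obtain ⟨C, _, _, hC, φ, hφ⟩ := hI.rep (F.image Prod.fst)
    letI algCS : Algebra C S := φ.toRingHom.toAlgebra
    haveI : IsScalarTower R C S := IsScalarTower.of_algebraMap_eq (fun a => (φ.commutes a).symm)
    haveI : Module.Flat C S := Algebra.FormallyUnramified.flat_of_restrictScalars R C S
    have hex : ∀ y : S, ∃ a : C, y ∈ F.image Prod.fst → φ a = y := fun y => by
      by_cases hy : y ∈ F.image Prod.fst
      · obtain ⟨a, ha⟩ := hφ y hy
        exact ⟨a, fun _ => ha⟩
      · exact ⟨0, fun h => absurd h hy⟩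
    choose c hc using hex
    let zC : C ⊗[R] N := F.sum fun x => c x.1 ⊗ₜ[R] x.2
    let e : S ⊗[C] (C ⊗[R] N) ≃ₗ[S] S ⊗[R] N :=
      TensorProduct.AlgebraTensorModule.cancelBaseChange R C S S N
    have hez : e ((1 : S) ⊗ₜ[C] zC) = z := by
      rw [hF]
      show e ((1 : S) ⊗ₜ[C] (F.sum fun x => c x.1 ⊗ₜ[R] x.2)) = _
      rw [TensorProduct.tmul_sum, map_sum]
      refine Finset.sum_congr rfl (fun x hx => ?_)
      rw [TensorProduct.AlgebraTensorModule.cancelBaseChange_tmul]
      have h1 : c x.1 • (1 : S) = x.1 := by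
        rw [Algebra.smul_def, mul_one]
        exact hc x.1 (Finset.mem_image_of_mem Prod.fst hx)
      rw [h1]
    have hann : (Submodule.span S {z}).annihilator =
        ((Submodule.span C {zC}).annihilator).map (algebraMap C S) := by
      rw [← hez, ann_congr e, ann_tmul_of_flat]
    rw [hann] at hz
    let Q : Ideal C := (maximalIdeal S).comap (algebraMap C S)
    haveI hQ : Q.IsPrime := Ideal.comap_isPrime _ _
    haveI hQover : Q.LiesOver (maximalIdeal R) := ⟨by
      show maximalIdeal R = (Ideal.comap (algebraMap C S) (maximalIdeal S)).comap (algebraMap R C)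
      rw [Ideal.comap_comap, ← IsScalarTower.algebraMap_eq, hcomapS]⟩
    have hQmin : Q ∈ ((Submodule.span C {zC}).annihilator).minimalPrimes := by
      refine ⟨⟨hQ, Ideal.map_le_iff_le_comap.mp hz.1.2⟩, fun Q' hQ' hQ'Q => ?_⟩
      obtain ⟨hQ'prime, hQ'le⟩ := hQ'
      haveI := hQ'prime
      haveI : (maximalIdeal S).LiesOver Q := ⟨rfl⟩
      obtain ⟨P', hP'le, hP'prime, hP'over⟩ :=
        Ideal.exists_ideal_le_liesOver_of_le (maximalIdeal S) hQ'Q
      have h1 : ((Submodule.span C {zC}).annihilator).map (algebraMap C S) ≤ P' := by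
        rw [Ideal.map_le_iff_le_comap]
        have h2 : Q' = P'.comap (algebraMap C S) := hP'over.over
        rw [← h2]
        exact hQ'le
      have h3 : maximalIdeal S ≤ P' := hz.2 ⟨hP'prime, h1⟩ hP'le
      have h4 : Q' = P'.comap (algebraMap C S) := hP'over.over
      rw [h4]
      exact Ideal.comap_mono h3
    have hQw : Q ∈ FlatCA.weakAss C (C ⊗[R] N) := ⟨zC, hQmin⟩
    exact (Groth.Agent.S1233.result N (maximalIdeal R) Q).mp hQw
  · rintro ⟨n, hn⟩
    refine ⟨(1 : S) ⊗ₜ[R] n, ?_⟩
    rw [ann_tmul_of_flat]
    refine ⟨⟨inferInstance, ?_⟩, fun P' hP' hP'le => ?_⟩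
    · rw [Ideal.map_le_iff_le_comap, hcomapS]
      exact hn.1.2
    · obtain ⟨hP'prime, hle⟩ := hP'
      haveI := hP'prime
      have h1 : (Submodule.span R {n}).annihilator ≤ P'.comap (algebraMap R S) :=
        Ideal.map_le_iff_le_comap.mp hle
      have h2 : P'.comap (algebraMap R S) ≤ maximalIdeal R := by
        rw [← hcomapS]
        exact Ideal.comap_mono hP'le
      haveI : (P'.comap (algebraMap R S)).IsPrime := Ideal.comap_isPrime _ _
      have h3 : maximalIdeal R ≤ P'.comap (algebraMap R S) := hn.2 ⟨inferInstance, h1⟩ h2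
      have h4 : P'.comap (algebraMap R S) = (maximalIdeal S).comap (algebraMap R S) := by
        rw [hcomapS]
        exact le_antisymm h2 h3
      exact (Groth.Agent.S5043.eq_of_le_of_comap_eq hI hP'le h4).ge


open TensorProduct IsLocalRing in
/-- Ring form, S = Spec A: let M be an A-module and p a prime of A; let Ah be a henselization and Ash a
strict henselization of the local ring A_p. The following are equivalent: p is a weakly associated
prime of M; the maximal ideal of A_p is a weakly associated prime of M_p; the maximal ideal of Ah is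
a weakly associated prime of Ah ⊗ M_p; the maximal ideal of Ash is a weakly associated prime of Ash
⊗ M_p. -/
theorem result {A : Type u} [CommRing A] (M : Type u) [AddCommGroup M] [Module A M] (p : Ideal A) [p.IsPrime]
    (Ah Ash : Type u) [CommRing Ah] [IsLocalRing Ah] [CommRing Ash] [IsLocalRing Ash]
    [Algebra (Localization.AtPrime p) Ah] [IsLocalHom (algebraMap (Localization.AtPrime p) Ah)] [Hensel.IsHenselization (Localization.AtPrime p) Ah]
    [Algebra (Localization.AtPrime p) Ash] [IsLocalHom (algebraMap (Localization.AtPrime p) Ash)] [Hensel.IsStrictHenselization (Localization.AtPrime p) Ash] :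
    [p ∈ FlatCA.weakAss A M,
     maximalIdeal (Localization.AtPrime p) ∈ FlatCA.weakAss (Localization.AtPrime p) (LocalizedModule p.primeCompl M),
     maximalIdeal Ah ∈ FlatCA.weakAss Ah (Ah ⊗[Localization.AtPrime p] LocalizedModule p.primeCompl M),
     maximalIdeal Ash ∈ FlatCA.weakAss Ash (Ash ⊗[Localization.AtPrime p] LocalizedModule p.primeCompl M)].TFAE := by
  have hdisj : Disjoint (p.primeCompl : Set A) (p : Set A) :=
    Set.disjoint_left.mpr (fun x hx hxp => hx hxp)
  have h12 : p ∈ FlatCA.weakAss A M ↔ maximalIdeal (Localization.AtPrime p) ∈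
      FlatCA.weakAss (Localization.AtPrime p) (LocalizedModule p.primeCompl M) := by
    rw [← Localization.AtPrime.map_eq_maximalIdeal]
    exact Groth.Agent.H9.WeakAss.mem_weakAss_map_iff p.primeCompl (Localization.AtPrime p)
      (LocalizedModule.mkLinearMap p.primeCompl M) p hdisj
  have h32 := maximalIdeal_mem_weakAss_tensor_iff
    (Groth.Agent.H47.HensNoeth.isIndEtaleLocal_of_isHenselization (Localization.AtPrime p) Ah)
    (LocalizedModule p.primeCompl M)
  have h42 := maximalIdeal_mem_weakAss_tensor_iff
    (Groth.Agent.H47.HensNoeth.isIndEtaleLocal_of_isStrictHenselization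
      (Localization.AtPrime p) Ash)
    (LocalizedModule p.primeCompl M)
  tfae_have 1 ↔ 2 := h12
  tfae_have 3 ↔ 2 := h32
  tfae_have 4 ↔ 2 := h42
  tfae_finish

end Groth.Agent.S1234
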