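import Groth.Statements.S12417
import Mathlib.AlgebraicGeometry.Morphisms.Affine
import Mathlib.AlgebraicGeometry.Morphisms.QuasiCompact
-- import your own Groth.Agent.* helpers here

set_option autoImplicit false
universe u
open CategoryTheory AlgebraicGeometry
open Props

namespace Groth.Agent.S12417

theorem exists_fin_cover (X : Scheme.{u}) (U : X.Opens) (hU : IsCompact (U : Set X)) :
    ∃ (n : ℕ) (V : Fin n → X.Opens), (∀ i, IsAffineOpen (V i)) ∧ ⨆ i, V i = U := by
  obtain ⟨s, hs, e⟩ := isCompact_iff_finite_and_eq_biUnion_affineOpens.mp hU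
  have : Finite s := hs
  let eq := Finite.equivFin s
  refine ⟨Nat.card s, fun i => ((eq.symm i : s) : X.affineOpens), fun i => (eq.symm i).1.2, ?_⟩
  rw [e, iSup_subtype']
  exact eq.symm.iSup_comp (g := fun x : s => ((x : X.affineOpens) : X.Opens))

theorem inf_affine_of_le (X : Scheme.{u}) (V V₁ V₂ : X.Opens) (hV : IsAffineOpen V)
    (h₁ : IsAffineOpen V₁) (h₂ : IsAffineOpen V₂) (h₁V : V₁ ≤ V) (h₂V : V₂ ≤ V) :
    IsAffineOpen (V₁ ⊓ V₂) := by
  have h : IsAffineHom (Limits.pullback.diagonal (𝟙 X)) := inferInstance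
  have := isAffineHom_diagonal_iff.mp h V hV V₁ (by simpa using h₁V) V₂ (by simpa using h₂V) h₁ h₂
  exact this

/-- Let X be a quasi-compact quasi-separated scheme and P a property of opens of X such that (a) P holds
for every affine open, and (b) whenever a quasi-compact open U has a finite affine open covering U =
V_1 ∪ … ∪ V_n with P holding for every intersection V_i ∩ V_j, P holds for U. Then P holds for every
quasi-compact open of X. -/
theorem result (X : Scheme.{u}) [CompactSpace X] [QuasiSeparatedSpace X]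
    (P : X.Opens → Prop) (ha : ∀ U : X.Opens, IsAffineOpen U → P U)
    (hb : ∀ (U : X.Opens) (n : ℕ) (V : Fin n → X.Opens), IsCompact (U : Set X) →
      (∀ i, IsAffineOpen (V i)) → ⨆ i, V i = U → (∀ i j, P (V i ⊓ V j)) → P U)
    (U : X.Opens) (hU : IsCompact (U : Set X)) : P U := by
  have step1 : ∀ (W V : X.Opens), IsAffineOpen V → W ≤ V → IsCompact (W : Set X) → P W := by
    intro W V hV hWV hW
    obtain ⟨n, Wk, hWk, hsup⟩ := exists_fin_cover X W hW
    refine hb W n Wk hW hWk hsup ?_
    intro i j
    apply ha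
    have hle : ∀ k, Wk k ≤ V := fun k => (le_iSup Wk k).trans (hsup ▸ hWV)
    exact inf_affine_of_le X V _ _ hV (hWk i) (hWk j) (hle i) (hle j)
  obtain ⟨n, V, hV, hsup⟩ := exists_fin_cover X U hU
  refine hb U n V hU hV hsup ?_
  intro i j
  refine step1 _ (V i) (hV i) inf_le_left ?_
  exact QuasiSeparatedSpace.inter_isCompact _ _ (V i).isOpen (hV i).isCompact (V j).isOpen
    (hV j).isCompact

end Groth.Agent.S12417
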