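import Groth.Statements.S12421
import Mathlib.RingTheory.Flat.FaithfullyFlat.Basic

set_option autoImplicit false
universe u
open TensorProduct
open Desc

namespace Groth.Agent.S12421

section
variable (R R' : Type u) [CommRing R] [CommRing R'] [Algebra R R']
  (M : Type u) [AddCommGroup M] [Module R M] (X : Type u) [AddCommGroup X] [Module R X]

/-- `s ⊗ (m ⊗ (a ⊗ x)) ↦ (s a) ⊗ (m ⊗ x)` -/
noncomputable def Hh : R' ⊗[R] (M ⊗[R] (R' ⊗[R] X)) →ₗ[R] R' ⊗[R] (M ⊗[R] X) :=
  (LinearMap.rTensor (M ⊗[R] X) (LinearMap.mul' R R')) ∘ₗ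
    (TensorProduct.assoc R R' R' (M ⊗[R] X)).symm.toLinearMap ∘ₗ
      (LinearMap.lTensor R' (TensorProduct.leftComm R M R' X).toLinearMap)

theorem Hh_tmul (s : R') (m : M) (a : R') (x : X) :
    Hh R R' M X (s ⊗ₜ (m ⊗ₜ (a ⊗ₜ x))) = (s * a) ⊗ₜ (m ⊗ₜ x) := by
  simp [Hh]

end

/-- Let R → R' be faithfully flat and M an R-module. With δ¹ : M ⊗ R' → M ⊗ (R' ⊗ R'), m ⊗ r ↦ m ⊗ (1 ⊗
r) − m ⊗ (r ⊗ 1), and δ² : M ⊗ (R' ⊗ R') → M ⊗ (R' ⊗ (R' ⊗ R')), m ⊗ x ↦ m ⊗ (1 ⊗ x) − m ⊗ (ins₁ x)
+ m ⊗ (ins₂ x), where ins₁ (r₁ ⊗ r₂) = r₁ ⊗ (1 ⊗ r₂) and ins₂ (r₁ ⊗ r₂) = r₁ ⊗ (r₂ ⊗ 1), the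
sequence M ⊗ R' → M ⊗ R'^{⊗2} → M ⊗ R'^{⊗3} is exact: the kernel of δ² is the image of δ¹. (The
published statement asserts exactness of the whole complex; this row states exactness at M ⊗ R′ ⊗ R′
only.) -/
theorem result (R R' : Type u) [CommRing R] [CommRing R'] [Algebra R R']
    [Module.FaithfullyFlat R R'] (M : Type u) [AddCommGroup M] [Module R M] :
    Function.Exact
      (LinearMap.lTensor M (Algebra.TensorProduct.includeRight : R' →ₐ[R] R' ⊗[R] R').toLinearMap -
        LinearMap.lTensor M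
          (Algebra.TensorProduct.includeLeft : R' →ₐ[R] R' ⊗[R] R').toLinearMap)
      (LinearMap.lTensor M
          (Algebra.TensorProduct.includeRight : R' ⊗[R] R' →ₐ[R] R' ⊗[R] (R' ⊗[R] R')).toLinearMap -
        LinearMap.lTensor M
          (Algebra.TensorProduct.map (AlgHom.id R R')
            (Algebra.TensorProduct.includeRight : R' →ₐ[R] R' ⊗[R] R')).toLinearMap +
        LinearMap.lTensor M
          (Algebra.TensorProduct.map (AlgHom.id R R')
            (Algebra.TensorProduct.includeLeft : R' →ₐ[R] R' ⊗[R] R')).toLinearMap) := by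
  set d1 : M ⊗[R] R' →ₗ[R] M ⊗[R] (R' ⊗[R] R') :=
    LinearMap.lTensor M (Algebra.TensorProduct.includeRight : R' →ₐ[R] R' ⊗[R] R').toLinearMap -
      LinearMap.lTensor M (Algebra.TensorProduct.includeLeft : R' →ₐ[R] R' ⊗[R] R').toLinearMap with hd1
  set d2 : M ⊗[R] (R' ⊗[R] R') →ₗ[R] M ⊗[R] (R' ⊗[R] (R' ⊗[R] R')) :=
    LinearMap.lTensor M
        (Algebra.TensorProduct.includeRight : R' ⊗[R] R' →ₐ[R] R' ⊗[R] (R' ⊗[R] R')).toLinearMap -
      LinearMap.lTensor M
        (Algebra.TensorProduct.map (AlgHom.id R R')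
          (Algebra.TensorProduct.includeRight : R' →ₐ[R] R' ⊗[R] R')).toLinearMap +
      LinearMap.lTensor M
        (Algebra.TensorProduct.map (AlgHom.id R R')
          (Algebra.TensorProduct.includeLeft : R' →ₐ[R] R' ⊗[R] R')).toLinearMap with hd2
  have hcomp : d2 ∘ₗ d1 = 0 := by
    ext m r
    simp [hd1, hd2]
  have key : ∀ y : R' ⊗[R] (M ⊗[R] (R' ⊗[R] R')),
      Hh R R' M (R' ⊗[R] R') (LinearMap.lTensor R' d2 y) +
        LinearMap.lTensor R' d1 (Hh R R' M R' y) = y := by
    intro y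
    induction y using TensorProduct.induction_on with
    | zero => simp
    | add x y hx hy => rw [map_add, map_add, map_add, map_add, add_add_add_comm, hx, hy]
    | tmul s z =>
      induction z using TensorProduct.induction_on with
      | zero => simp
      | add x y hx hy =>
        rw [TensorProduct.tmul_add, map_add, map_add, map_add, map_add, add_add_add_comm, hx, hy]
      | tmul m w =>
        induction w using TensorProduct.induction_on with
        | zero => simp
        | add x y hx hy =>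
          rw [TensorProduct.tmul_add, TensorProduct.tmul_add, map_add, map_add, map_add, map_add,
            add_add_add_comm, hx, hy]
        | tmul a b =>
          simp only [hd1, hd2, LinearMap.lTensor_tmul, LinearMap.sub_apply, LinearMap.add_apply,
            AlgHom.toLinearMap_apply, Algebra.TensorProduct.includeRight_apply,
            Algebra.TensorProduct.includeLeft_apply, Algebra.TensorProduct.map_tmul,
            AlgHom.coe_id, id_eq, TensorProduct.tmul_sub, TensorProduct.tmul_add, map_sub, map_add,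
            Hh_tmul, mul_one]
          abel
  refine Module.FaithfullyFlat.lTensor_reflects_exact R R' d1 d2 ?_
  intro y
  constructor
  · intro hy
    refine ⟨Hh R R' M R' y, ?_⟩
    have h1 := key y
    rw [hy, map_zero, zero_add] at h1
    exact h1
  · rintro ⟨x, rfl⟩
    rw [← LinearMap.comp_apply, ← LinearMap.lTensor_comp, hcomp, LinearMap.lTensor_zero,
      LinearMap.zero_apply]

end Groth.Agent.S12421
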