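import Groth.Statements.S12423
import Mathlib
import Groth.Agent.H39.ConormalSplit
import Groth.Agent.S12422
import Groth.Agent.H8.LocFreeNearFinite
import Groth.Agent.H8.LocFreeSections
import Groth.Agent.H70.RegBaseFlat

set_option autoImplicit false
universe u
open CategoryTheory CategoryTheory.Limits AlgebraicGeometry
open NonsingVar

namespace Groth.Agent.S12423

open OmegaSh TopologicalSpace
open scoped TensorProduct
open Groth.Agent.H39 Groth.Agent.H8 Groth.Agent.H39.ConormalLocal Groth.Agent.H39.ConormalSect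
  Groth.Agent.H39.ConormalMono

set_option linter.style.haveILetI false

section Small

variable {X' X Y : Scheme.{u}} (j : X' ⟶ X) [IsImmersion j] (f : X ⟶ Y)

/-- Small affine charts around a point of the source of an immersion. -/
theorem exists_small (x : X') :
    ∃ (U : Y.Opens) (V₁ : X.Opens), IsAffineOpen U ∧ IsAffineOpen V₁ ∧ V₁ ≤ f ⁻¹ᵁ U ∧
      IsAffineOpen (j ⁻¹ᵁ V₁) ∧ Function.Surjective (j.app V₁) ∧ x ∈ j ⁻¹ᵁ V₁ := by
  have h := isOpenCover_idx j f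
  have hx : x ∈ ⨆ i : Idx j f, j ⁻¹ᵁ j.coborderRange.ι ''ᵁ i.V' := by
    rw [h.iSup_eq_top]; trivial
  obtain ⟨k, hk⟩ := Opens.mem_iSup.mp hx
  obtain ⟨h1, h2, h3⟩ := coborder_affine j k.hV'
  exact ⟨k.U, _, k.hU, h1, k.e₁, h2, h3, hk⟩

end Small

section Dict

variable {X' X Y : Scheme.{u}} (j : X' ⟶ X) [QuasiCompact j]
  (f : X ⟶ Y) {Ω' : X.Modules} {d : Der f Ω'} (hd : IsUniversal d)
  {φ : Omega.conormal j ⟶ (Scheme.Modules.pullback j).obj Ω'} (hφ : IsConormalDiff j d φ)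

include hd hφ in
set_option maxHeartbeats 1000000 in
/-- If `C_{X'/X} → j^*Ω_{X/Y}` is injective on sections over the small affine then the ring-level
map `I/I² → B̄ ⊗ Ω[B/A]` is injective. -/
theorem injective_of_app_injective
    {U : Y.Opens} (hU : IsAffineOpen U) {V₁ : X.Opens} (hV₁ : IsAffineOpen V₁)
    (e₁ : V₁ ≤ f ⁻¹ᵁ U) (hW : IsAffineOpen (j ⁻¹ᵁ V₁))
    (hsurj : Function.Surjective (j.app V₁))
    (hinj : Function.Injective (φ.app (j ⁻¹ᵁ V₁))) :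
    letI : Algebra Γ(Y, U) Γ(X, V₁) := (f.appLE U V₁ e₁).hom.toAlgebra
    letI : Algebra Γ(Y, U) Γ(X', j ⁻¹ᵁ V₁) :=
      ((j ≫ f).appLE U (j ⁻¹ᵁ V₁) (fun x hx => e₁ hx)).hom.toAlgebra
    letI : Algebra Γ(X, V₁) Γ(X', j ⁻¹ᵁ V₁) := (j.appLE V₁ (j ⁻¹ᵁ V₁) le_rfl).hom.toAlgebra
    Function.Injective
      (KaehlerDifferential.kerCotangentToTensor Γ(Y, U) Γ(X, V₁) Γ(X', j ⁻¹ᵁ V₁)) := by
  have e₂ : j ⁻¹ᵁ V₁ ≤ (j ≫ f) ⁻¹ᵁ U := fun x hx => e₁ hx
  have e : j ⁻¹ᵁ V₁ ≤ j ⁻¹ᵁ V₁ := le_rfl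
  letI a1 : Algebra Γ(Y, U) Γ(X, V₁) := (f.appLE U V₁ e₁).hom.toAlgebra
  letI a2 : Algebra Γ(Y, U) Γ(X', j ⁻¹ᵁ V₁) := ((j ≫ f).appLE U (j ⁻¹ᵁ V₁) e₂).hom.toAlgebra
  letI a3 : Algebra Γ(X, V₁) Γ(X', j ⁻¹ᵁ V₁) := (j.appLE V₁ (j ⁻¹ᵁ V₁) e).hom.toAlgebra
  have happ : j.appLE V₁ (j ⁻¹ᵁ V₁) e = j.app V₁ := (Scheme.Hom.app_eq_appLE j).symm
  haveI : Ω'.IsQuasicoherent := DerFin.isQuasicoherent_of_isUniversal f hd
  obtain ⟨ψ, hψ⟩ := DerFin.exists_linearEquiv_kaehler_track f hd hU hV₁ e₁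
  obtain ⟨E, hE⟩ := PullTrack.exists_sectionsPullbackEquiv j Ω' hV₁ hW e
  obtain ⟨Θ, hΘ, -⟩ := exists_conormal_equiv j hV₁ hW hsurj
  rw [injective_iff_map_eq_zero]
  intro z hz
  obtain ⟨x, rfl⟩ := Ideal.toCotangent_surjective _ z
  have hxk : (x.1 : Γ(X, V₁)) ∈ j.ker.ideal ⟨V₁, hV₁⟩ := by
    rw [Scheme.Hom.ker_apply, ← happ]
    exact x.2
  obtain ⟨s, hs⟩ := exists_idealSect_eq j.ker ⟨V₁, hV₁⟩ x.1 hxk
  have hq : φ.app (j ⁻¹ᵁ V₁) (conormalSect j V₁ s) = 0 := by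
    rw [hφ V₁ s, ← PullTrack.pullSectLE_self]
    apply E.injective
    apply (LinearEquiv.baseChange Γ(X, V₁) Γ(X', j ⁻¹ᵁ V₁) Γ(Ω', V₁)
      Ω[Γ(X, V₁)⁄Γ(Y, U)] ψ).injective
    rw [hE, map_zero, map_zero, LinearEquiv.baseChange_tmul, hψ, hs]
    rw [KaehlerDifferential.kerCotangentToTensor_toCotangent] at hz
    exact hz
  have h0 : conormalSect j V₁ s = 0 := hinj (hq.trans (map_zero _).symm)
  have h1 := hΘ s x hs.symm
  rw [h0, map_zero] at h1
  exact h1.symm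

end Dict

section DirB

variable {X' X Y : Scheme.{u}} (j : X' ⟶ X) [IsImmersion j] [QuasiCompact j]
  (f : X ⟶ Y) [Smooth f] [LocallyOfFinitePresentation (j ≫ f)]
  {ΩX : X.Modules} {dX : Der f ΩX} (hX : IsUniversal dX)
  {ΩX' : X'.Modules} {dX' : Der (j ≫ f) ΩX'} (hX' : IsUniversal dX')
  {φ : Omega.conormal j ⟶ (Scheme.Modules.pullback j).obj ΩX} (hφ : IsConormalDiff j dX φ)

include hX hX' hφ in
set_option maxHeartbeats 1000000 in
/-- If `Ω_{X'/Y}` is finite locally free and `C_{X'/X} → j^*Ω_{X/Y}` is a monomorphism (with `X/Y`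
smooth), then `X'/Y` is smooth. -/
theorem mem_smoothLocus_of_mono (hfree : FlatMod.IsFinLocFree ΩX') (hmono : Mono φ) (x : X') :
    x ∈ (j ≫ f).smoothLocus := by
  obtain ⟨U, V₁, hU, hV₁, e₁, hW, hsurj, hxW⟩ := exists_small j f x
  have e₂ : j ⁻¹ᵁ V₁ ≤ (j ≫ f) ⁻¹ᵁ U := fun x hx => e₁ hx
  have e : j ⁻¹ᵁ V₁ ≤ j ⁻¹ᵁ V₁ := le_rfl
  have hinj0 := injective_of_app_injective j f hX hφ hU hV₁ e₁ hW hsurj
    (app_injective_of_mono φ (j ⁻¹ᵁ V₁))
  letI a1 : Algebra Γ(Y, U) Γ(X, V₁) := (f.appLE U V₁ e₁).hom.toAlgebra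
  letI a2 : Algebra Γ(Y, U) Γ(X', j ⁻¹ᵁ V₁) := ((j ≫ f).appLE U (j ⁻¹ᵁ V₁) e₂).hom.toAlgebra
  letI a3 : Algebra Γ(X, V₁) Γ(X', j ⁻¹ᵁ V₁) := (j.appLE V₁ (j ⁻¹ᵁ V₁) e).hom.toAlgebra
  haveI : IsScalarTower Γ(Y, U) Γ(X, V₁) Γ(X', j ⁻¹ᵁ V₁) :=
    IsScalarTower.of_algebraMap_eq' (congrArg CommRingCat.Hom.hom
      (Scheme.Hom.appLE_comp_appLE j f U V₁ (j ⁻¹ᵁ V₁) e₁ e).symm)
  have happ : j.appLE V₁ (j ⁻¹ᵁ V₁) e = j.app V₁ := (Scheme.Hom.app_eq_appLE j).symm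
  have hsurj' : Function.Surjective (algebraMap Γ(X, V₁) Γ(X', j ⁻¹ᵁ V₁)) := by
    show Function.Surjective (j.appLE V₁ (j ⁻¹ᵁ V₁) e).hom
    rw [happ]; exact hsurj
  haveI : Algebra.Smooth Γ(Y, U) Γ(X, V₁) := f.smooth_appLE hU hV₁ e₁
  haveI : ΩX'.IsQuasicoherent := DerFin.isQuasicoherent_of_isUniversal (j ≫ f) hX'
  obtain ⟨ψ, -⟩ := DerFin.exists_linearEquiv_kaehler_track (j ≫ f) hX' hU hW e₂
  have hproj : Module.Projective Γ(X', j ⁻¹ᵁ V₁) Ω[Γ(X', j ⁻¹ᵁ V₁)⁄Γ(Y, U)] := by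
    haveI := (finitePresentation_projective_sections_of_isFinLocFree ΩX' hfree hW).2
    exact Module.Projective.of_equiv ψ
  haveI : Algebra.FormallySmooth Γ(Y, U) Γ(X', j ⁻¹ᵁ V₁) :=
    ⟨hproj, (Algebra.FormallySmooth.kerCotangentToTensor_injective_iff hsurj').mp hinj0⟩
  rw [Scheme.Hom.mem_smoothLocus, formallySmooth_stalkMap_iff U hU (j ⁻¹ᵁ V₁) hW e₂ hxW]
  show Algebra.FormallySmooth Γ(Y, U)
    (Localization.AtPrime (hW.primeIdealOf ⟨x, hxW⟩).asIdeal)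
  haveI : Algebra.FormallySmooth Γ(X', j ⁻¹ᵁ V₁)
      (Localization.AtPrime (hW.primeIdealOf ⟨x, hxW⟩).asIdeal) :=
    Algebra.FormallySmooth.of_isLocalization (hW.primeIdealOf ⟨x, hxW⟩).asIdeal.primeCompl
  exact Algebra.FormallySmooth.comp Γ(Y, U) Γ(X', j ⁻¹ᵁ V₁) _

end DirB

section DirA

variable {X' X Y : Scheme.{u}} (j : X' ⟶ X) [IsImmersion j] [QuasiCompact j]
  (f : X ⟶ Y) [Smooth (j ≫ f)]
  {ΩX : X.Modules} {dX : Der f ΩX} (hX : IsUniversal dX)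
  {φ : Omega.conormal j ⟶ (Scheme.Modules.pullback j).obj ΩX} (hφ : IsConormalDiff j dX φ)

include hX hφ in
set_option maxHeartbeats 1000000 in
/-- If `X'/Y` is smooth then `C_{X'/X} → j^*Ω_{X/Y}` is a monomorphism. -/
theorem mono_of_smooth : Mono φ := by
  haveI : ΩX.IsQuasicoherent := DerFin.isQuasicoherent_of_isUniversal f hX
  haveI : ((Scheme.Modules.pullback j).obj ΩX).IsQuasicoherent :=
    Groth.Agent.H8.isQuasicoherent_pullback j ΩX
  haveI : (ClSub.idealMod j.ker).IsQuasicoherent :=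
    inferInstanceAs (kernel (ClSub.toSubscheme j.ker)).IsQuasicoherent
  haveI : (Omega.conormal j).IsQuasicoherent :=
    Groth.Agent.H8.isQuasicoherent_pullback j (ClSub.idealMod j.ker)
  refine mono_of_injective_affine_cover φ _ (isOpenCover_idx j f)
    (fun i => (coborder_affine j i.hV').2.1) (fun i => ?_)
  obtain ⟨hV₁, hW, hsurj⟩ := coborder_affine j i.hV'
  refine app_injective_of_injective j f hX hφ i.hU hV₁ i.e₁ hW hsurj ?_
  have e₂ : j ⁻¹ᵁ j.coborderRange.ι ''ᵁ i.V' ≤ (j ≫ f) ⁻¹ᵁ i.U := fun x hx => i.e₁ hx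
  have e : j ⁻¹ᵁ j.coborderRange.ι ''ᵁ i.V' ≤ j ⁻¹ᵁ j.coborderRange.ι ''ᵁ i.V' := le_rfl
  letI a1 : Algebra Γ(Y, i.U) Γ(X, j.coborderRange.ι ''ᵁ i.V') :=
    (f.appLE i.U _ i.e₁).hom.toAlgebra
  letI a2 : Algebra Γ(Y, i.U) Γ(X', j ⁻¹ᵁ j.coborderRange.ι ''ᵁ i.V') :=
    ((j ≫ f).appLE i.U _ e₂).hom.toAlgebra
  letI a3 : Algebra Γ(X, j.coborderRange.ι ''ᵁ i.V') Γ(X', j ⁻¹ᵁ j.coborderRange.ι ''ᵁ i.V') :=
    (j.appLE _ _ e).hom.toAlgebra
  haveI : IsScalarTower Γ(Y, i.U) Γ(X, j.coborderRange.ι ''ᵁ i.V')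
      Γ(X', j ⁻¹ᵁ j.coborderRange.ι ''ᵁ i.V') :=
    IsScalarTower.of_algebraMap_eq' (congrArg CommRingCat.Hom.hom
      (Scheme.Hom.appLE_comp_appLE j f i.U _ _ i.e₁ e).symm)
  have happ : j.appLE _ (j ⁻¹ᵁ j.coborderRange.ι ''ᵁ i.V') e = j.app _ :=
    (Scheme.Hom.app_eq_appLE j).symm
  have hsurj' : Function.Surjective (algebraMap Γ(X, j.coborderRange.ι ''ᵁ i.V')
      Γ(X', j ⁻¹ᵁ j.coborderRange.ι ''ᵁ i.V')) := by
    show Function.Surjective (j.appLE _ _ e).hom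
    rw [happ]; exact hsurj
  haveI : Algebra.Smooth Γ(Y, i.U) Γ(X', j ⁻¹ᵁ j.coborderRange.ι ''ᵁ i.V') :=
    (j ≫ f).smooth_appLE i.hU hW e₂
  exact kerCotangentToTensor_injective _ _ _ hsurj'

end DirA

section AlgRank

/-- Ranks in a short exact sequence of finite projective modules. -/
theorem rank_of_exact {B : Type u} [CommRing B] {MC MP MQ : Type u} [AddCommGroup MC]
    [AddCommGroup MP] [AddCommGroup MQ] [Module B MC] [Module B MP] [Module B MQ]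
    (f : MC →ₗ[B] MP) (g : MP →ₗ[B] MQ) (hf : Function.Injective f) (hg : Function.Surjective g)
    (hex : Function.Exact f g) [Module.Finite B MP] [Module.Projective B MP]
    [Module.Finite B MQ] [Module.Projective B MQ] (p : PrimeSpectrum B) :
    Module.Finite B MC ∧ Module.Projective B MC ∧
      Module.rankAtStalk (R := B) MC p + Module.rankAtStalk (R := B) MQ p =
        Module.rankAtStalk (R := B) MP p := by
  obtain ⟨l, hl⟩ := Module.projective_lifting_property g (LinearMap.id : MQ →ₗ[B] MQ) hg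
  obtain ⟨e, he1, he2⟩ := hex.splitSurjectiveEquiv hf ⟨l, hl⟩
  have hfin : Module.Finite B MC :=
    Module.Finite.of_surjective ((LinearMap.fst B MC MQ).comp e.toLinearMap)
      (fun x => ⟨e.symm (x, 0), by simp⟩)
  have hproj : Module.Projective B MC :=
    Module.Projective.of_split (e.symm.toLinearMap.comp (LinearMap.inl B MC MQ))
      ((LinearMap.fst B MC MQ).comp e.toLinearMap) (by
        ext x
        simp)
  refine ⟨hfin, hproj, ?_⟩
  haveI := hfin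
  haveI := hproj
  rw [Module.rankAtStalk_eq_of_equiv e, Module.rankAtStalk_prod]
  rfl

end AlgRank

section RankLF

variable {X : Scheme.{u}}

set_option backward.isDefEq.respectTransparency false in
/-- The sections over an affine open of a module free of rank `r` near a point have rank `r` at
that point. -/
theorem rankAtStalk_sections_of_restrict_iso (E : X.Modules) [E.IsQuasicoherent] (r : ℕ)
    {V : X.Opens} (hV : IsAffineOpen V)
    [Module.Finite Γ(X, V) Γ(E, V)] [Module.Flat Γ(X, V) Γ(E, V)]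
    (q : PrimeSpectrum Γ(X, V)) (W : X.Opens) (hyW : hV.fromSpec q ∈ W)
    (e : E.restrict W.ι ≅ FlatMod.freeMod (↑W) r) :
    Module.rankAtStalk (R := Γ(X, V)) Γ(E, V) q = r := by
  have hyV : hV.fromSpec q ∈ V := by
    have := Set.mem_range_self (f := hV.fromSpec) q
    rwa [hV.range_fromSpec] at this
  obtain ⟨f, hfW, hyf⟩ := hV.exists_basicOpen_le ⟨hV.fromSpec q, hyW⟩ hyV
  obtain ⟨eD⟩ := nonempty_sections_equiv_of_le E e hfW
  have hfq : q ∈ PrimeSpectrum.basicOpen f := by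
    have : q ∈ hV.fromSpec ⁻¹ᵁ X.basicOpen f := hyf
    rwa [hV.fromSpec_preimage_basicOpen] at this
  letI := moduleSectionBasicOpen E f
  haveI : IsScalarTower Γ(X, V) Γ(X, X.basicOpen f) Γ(E, X.basicOpen f) :=
    IsScalarTower.of_algebraMap_smul fun _ _ => rfl
  haveI := isLocalizedModule_resBasicOpenₗ hV E f
  haveI : IsLocalization.Away f Γ(X, X.basicOpen f) := hV.isLocalization_basicOpen f
  obtain ⟨p, hp⟩ : q ∈ Set.range (PrimeSpectrum.comap (algebraMap Γ(X, V) Γ(X, X.basicOpen f))) := by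
    rw [PrimeSpectrum.localization_away_comap_range Γ(X, X.basicOpen f) f]
    exact hfq
  have h1 := Module.rankAtStalk_isBaseChange
    (IsLocalizedModule.isBaseChange (Submonoid.powers f) Γ(X, X.basicOpen f)
      (resBasicOpenₗ E f)) p
  rw [hp] at h1
  rw [← h1, Module.rankAtStalk_eq_of_equiv eD]
  haveI : Nontrivial Γ(X, X.basicOpen f) := p.nontrivial
  have := congrFun (Module.rankAtStalk_eq_finrank_of_free (R := Γ(X, X.basicOpen f))
    (M := Fin r → Γ(X, X.basicOpen f))) p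
  rw [this]
  simp

/-- A quasi-coherent module with finite projective sections of rank `m` at `x` over an affine
neighbourhood is free of rank `m` near `x`. -/
theorem exists_restrict_iso_freeMod_of_rank (F : X.Modules) [F.IsQuasicoherent] {U : X.Opens}
    (hU : IsAffineOpen U) [Module.Finite Γ(X, U) Γ(F, U)] [Module.Projective Γ(X, U) Γ(F, U)]
    (x : X) (hx : x ∈ U) (m : ℕ)
    (hm : Module.rankAtStalk (R := Γ(X, U)) Γ(F, U) (hU.primeIdealOf ⟨x, hx⟩) = m) :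
    ∃ U' : X.Opens, x ∈ U' ∧ Nonempty (F.restrict U'.ι ≅ FlatMod.freeMod (↑U') m) := by
  obtain ⟨f, hxf, n, ⟨e⟩⟩ := exists_basicOpen_restrict_iso_freeMod F hU x hx
  have hx' : hU.fromSpec (hU.primeIdealOf ⟨x, hx⟩) ∈ X.basicOpen f := by
    rw [hU.fromSpec_primeIdealOf]; exact hxf
  have h1 := rankAtStalk_sections_of_restrict_iso F n hU (hU.primeIdealOf ⟨x, hx⟩)
    (X.basicOpen f) hx' e
  have hnm : n = m := h1.symm.trans hm
  subst hnm
  exact ⟨X.basicOpen f, hxf, ⟨e⟩⟩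

end RankLF

section DirC

variable {X' X Y : Scheme.{u}} (j : X' ⟶ X) [IsImmersion j] [QuasiCompact j]
  (f : X ⟶ Y)
  {ΩX : X.Modules} {dX : Der f ΩX} (hX : IsUniversal dX)
  {ΩX' : X'.Modules} {dX' : Der (j ≫ f) ΩX'} (hX' : IsUniversal dX')
  {φ : Omega.conormal j ⟶ (Scheme.Modules.pullback j).obj ΩX} (hφ : IsConormalDiff j dX φ)

include hX hX' hφ in
set_option maxHeartbeats 1000000 in
/-- If `Ω_{X/Y}` and `Ω_{X'/Y}` are locally free of ranks `n` and `q` and `C_{X'/X} → j^*Ω_{X/Y}`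
is a monomorphism, then the conormal sheaf is locally free of rank `n - q`. -/
theorem conormal_rank (hmono : Mono φ) (n q : ℕ) (hn : FlatMod.IsFinLocFreeOfRank n ΩX)
    (hq : FlatMod.IsFinLocFreeOfRank q ΩX') :
    FlatMod.IsFinLocFreeOfRank (n - q) (Omega.conormal j) := by
  intro x
  haveI : ΩX.IsQuasicoherent := DerFin.isQuasicoherent_of_isUniversal f hX
  haveI : ΩX'.IsQuasicoherent := DerFin.isQuasicoherent_of_isUniversal (j ≫ f) hX'
  haveI : ((Scheme.Modules.pullback j).obj ΩX).IsQuasicoherent :=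
    Groth.Agent.H8.isQuasicoherent_pullback j ΩX
  haveI : (ClSub.idealMod j.ker).IsQuasicoherent :=
    inferInstanceAs (kernel (ClSub.toSubscheme j.ker)).IsQuasicoherent
  haveI : (Omega.conormal j).IsQuasicoherent :=
    Groth.Agent.H8.isQuasicoherent_pullback j (ClSub.idealMod j.ker)
  obtain ⟨U, V₁, hU, hV₁, e₁, hW, hsurj, hxW⟩ := exists_small j f x
  obtain ⟨c, hc, -⟩ := Groth.Agent.S9370.result f (j ≫ f) j (𝟙 Y) (by rw [Category.comp_id])
    ΩX dX hX ΩX' dX' hX'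
  obtain ⟨hcsurj, hcker⟩ := local_exact f j hX hX' hφ hc hU hV₁ e₁ hW hsurj
  have hcomp := conormalDiff_comp f j hφ hc
  have e : j ⁻¹ᵁ V₁ ≤ j ⁻¹ᵁ V₁ := le_rfl
  letI a3 : Algebra Γ(X, V₁) Γ(X', j ⁻¹ᵁ V₁) := (j.appLE V₁ (j ⁻¹ᵁ V₁) e).hom.toAlgebra
  -- finite projective sections
  obtain ⟨hfpQ, hprojQ⟩ := finitePresentation_projective_sections_of_isFinLocFree ΩX'
    (isFinLocFree_of_isFinLocFreeOfRank hq) hW
  obtain ⟨hfpX, hprojX⟩ := finitePresentation_projective_sections_of_isFinLocFree ΩX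
    (isFinLocFree_of_isFinLocFreeOfRank hn) hV₁
  haveI := hprojQ
  haveI := hprojX
  haveI : Module.Finite Γ(X', j ⁻¹ᵁ V₁) Γ(ΩX', j ⁻¹ᵁ V₁) := inferInstance
  haveI : Module.Finite Γ(X, V₁) Γ(ΩX, V₁) := inferInstance
  obtain ⟨E, -⟩ := PullTrack.exists_sectionsPullbackEquiv j ΩX hV₁ hW e
  haveI : Module.Finite Γ(X', j ⁻¹ᵁ V₁) Γ((Scheme.Modules.pullback j).obj ΩX, j ⁻¹ᵁ V₁) :=
    Module.Finite.equiv E.symm
  haveI : Module.Projective Γ(X', j ⁻¹ᵁ V₁)
      Γ((Scheme.Modules.pullback j).obj ΩX, j ⁻¹ᵁ V₁) :=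
    Module.Projective.of_equiv E.symm
  obtain ⟨p, hp⟩ : ∃ p, p = hW.primeIdealOf ⟨x, hxW⟩ := ⟨_, rfl⟩
  have hex : Function.Exact (appₗ φ (j ⁻¹ᵁ V₁)) (appₗ c (j ⁻¹ᵁ V₁)) := by
    intro t
    constructor
    · intro ht
      obtain ⟨s, hs⟩ := hcker t ht
      exact ⟨_, hs⟩
    · rintro ⟨s, rfl⟩
      exact congrArg (fun ψ : Omega.conormal j ⟶ ΩX' => ψ.app (j ⁻¹ᵁ V₁) s) hcomp
  obtain ⟨hfinC, hprojC, hrank⟩ := rank_of_exact (appₗ φ (j ⁻¹ᵁ V₁)) (appₗ c (j ⁻¹ᵁ V₁))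
    (app_injective_of_mono φ (j ⁻¹ᵁ V₁)) hcsurj hex p
  have hrQ := rankAtStalk_sections_of_isFinLocFreeOfRank ΩX' q hq hW p
  have hrX := rankAtStalk_sections_of_isFinLocFreeOfRank ΩX n hn hV₁
    (p.comap (algebraMap Γ(X, V₁) Γ(X', j ⁻¹ᵁ V₁)))
  have hrP : Module.rankAtStalk (R := Γ(X', j ⁻¹ᵁ V₁))
      Γ((Scheme.Modules.pullback j).obj ΩX, j ⁻¹ᵁ V₁) p = n := by
    rw [Module.rankAtStalk_eq_of_equiv E, Module.rankAtStalk_baseChange, hrX]
  have hfinal : Module.rankAtStalk (R := Γ(X', j ⁻¹ᵁ V₁)) Γ(Omega.conormal j, j ⁻¹ᵁ V₁) p + q = n := by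
    rw [← hrQ, ← hrP]
    exact hrank
  haveI := hfinC
  haveI := hprojC
  exact exists_restrict_iso_freeMod_of_rank (Omega.conormal j) hW x hxW (n - q) (by rw [← hp]; omega)

end DirC


/-- Let k be an algebraically closed field, X a nonsingular variety over k (integral, separated and of
finite type over k, all local rings regular) of dimension n, i : Y → X an irreducible closed
subscheme of dimension q with ideal sheaf I, (Ω_X, d_X) and (Ω_Y, d_Y) sheaves of differentials of X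
and Y over k (universal derivations), and φ : I/I² → i^*Ω_X the canonical map from the conormal
sheaf (class of a local section s of I ↦ pullback of d_X s). Then Y is nonsingular if and only if
(1) Ω_Y is locally free and (2) φ is a monomorphism (the conormal sequence 0 → I/I² → i^*Ω_X → Ω_Y →
0 is exact on the left too). Moreover in that case I/I² is locally free of rank n − q, the
codimension of Y. (The clause that I is then locally generated by n − q sections is not restated.) -/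
theorem result (k : Type u) [Field k]
    [IsAlgClosed k] (n q : ℕ)
    (X : Scheme.{u}) [X.Over (Spec (CommRingCat.of k))] [IsIntegral X] [IsSeparated (X ↘ (Spec (CommRingCat.of k)))]
    [LocallyOfFiniteType (X ↘ (Spec (CommRingCat.of k)))] [QuasiCompact (X ↘ (Spec (CommRingCat.of k)))]
    (hreg : ∀ x : ↥X, IsRegularLocalRing ↑(X.presheaf.stalk x))
    (hn : topologicalKrullDim ↥X = (n : WithBot ℕ∞))
    (Y : Scheme.{u}) (i : Y ⟶ X) [IsClosedImmersion i] [IrreducibleSpace ↥Y]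
    (hq : topologicalKrullDim ↥Y = (q : WithBot ℕ∞))
    (ΩX : X.Modules) (dX : OmegaSh.Der (X ↘ (Spec (CommRingCat.of k))) ΩX) (hX : OmegaSh.IsUniversal dX)
    (ΩY : Y.Modules) (dY : OmegaSh.Der (i ≫ (X ↘ (Spec (CommRingCat.of k)))) ΩY) (hY : OmegaSh.IsUniversal dY)
    (φ : Omega.conormal i ⟶ (Scheme.Modules.pullback i).obj ΩX) (hφ : OmegaSh.IsConormalDiff i dX φ) :
    ((∀ y : ↥Y, IsRegularLocalRing ↑(Y.presheaf.stalk y)) ↔ (FlatMod.IsFinLocFree ΩY ∧ Mono φ)) ∧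
      ((∀ y : ↥Y, IsRegularLocalRing ↑(Y.presheaf.stalk y)) →
        FlatMod.IsFinLocFreeOfRank (n - q) (Omega.conormal i)) := by
  classical
  haveI : IsLocallyNoetherian X :=
    LocallyOfFiniteType.isLocallyNoetherian (X ↘ (Spec (CommRingCat.of k)))
  haveI hlfpX : LocallyOfFinitePresentation (X ↘ (Spec (CommRingCat.of k))) :=
    LocallyOfFinitePresentation.iff_locallyOfFiniteType.mpr inferInstance
  haveI : LocallyOfFiniteType (i ≫ (X ↘ (Spec (CommRingCat.of k)))) := inferInstance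
  haveI hlfpY : LocallyOfFinitePresentation (i ≫ (X ↘ (Spec (CommRingCat.of k)))) :=
    LocallyOfFinitePresentation.iff_locallyOfFiniteType.mpr inferInstance
  haveI : IrreducibleSpace X := inferInstance
  haveI hsmX : Smooth (X ↘ (Spec (CommRingCat.of k))) := by
    rw [← Scheme.Hom.smoothLocus_eq_top_iff]
    refine TopologicalSpace.Opens.ext (Set.eq_univ_of_forall fun x => ?_)
    exact Groth.Agent.S12422.smooth_of_regular k _ x (hreg x)
  have hΩXn : FlatMod.IsFinLocFreeOfRank n ΩX :=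
    (Groth.Agent.S12422.main k n X (X ↘ (Spec (CommRingCat.of k))) hn ΩX dX hX).mpr hreg
  have hsmY : (∀ y : ↥Y, IsRegularLocalRing ↑(Y.presheaf.stalk y)) →
      Smooth (i ≫ (X ↘ (Spec (CommRingCat.of k)))) := by
    intro h
    rw [← Scheme.Hom.smoothLocus_eq_top_iff]
    refine TopologicalSpace.Opens.ext (Set.eq_univ_of_forall fun y => ?_)
    exact Groth.Agent.S12422.smooth_of_regular k _ y (h y)
  have hΩYq : (∀ y : ↥Y, IsRegularLocalRing ↑(Y.presheaf.stalk y)) →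
      FlatMod.IsFinLocFreeOfRank q ΩY := fun h =>
    (Groth.Agent.S12422.main k q Y (i ≫ (X ↘ (Spec (CommRingCat.of k)))) hq ΩY dY hY).mpr h
  have hmono : (∀ y : ↥Y, IsRegularLocalRing ↑(Y.presheaf.stalk y)) → Mono φ := fun h => by
    haveI := hsmY h
    exact mono_of_smooth i (X ↘ (Spec (CommRingCat.of k))) hX hφ
  refine ⟨⟨fun h => ⟨Groth.Agent.H8.isFinLocFree_of_isFinLocFreeOfRank (hΩYq h), hmono h⟩,
    fun ⟨hfree, hm⟩ y => ?_⟩, fun h => ?_⟩
  · exact Groth.Agent.H70.RegBaseFlat.regular_stalk_of_mem_smoothLocus k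
      (i ≫ (X ↘ (Spec (CommRingCat.of k)))) y
      (mem_smoothLocus_of_mono i (X ↘ (Spec (CommRingCat.of k))) hX hY hφ hfree hm y)
  · exact conormal_rank i (X ↘ (Spec (CommRingCat.of k))) hX hY hφ (hmono h) n q hΩXn (hΩYq h)

end Groth.Agent.S12423
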