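import Groth.Statements.S12424
import Groth.Agent.H91.CubicK2

set_option autoImplicit false
universe u
open Cubic

namespace Groth.Agent.S12424

open MvPolynomial Groth.Agent.H91.CubicK


/-- Let k be an algebraically closed field of characteristic zero and S = V_+(f) ⊂ P^3_k a smooth cubic
surface, f a nonzero homogeneous cubic in four variables with the Jacobian condition at every
nonzero zero. For every hyperplane H of P^3_k the scheme-theoretic intersection S ∩ H is reduced;
concretely, for every 4 × 3 matrix A of rank 3 over k (a linear parametrisation of H), the ternary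
cubic obtained from f by substituting X_i ↦ Σ_j A_{ij} Y_j is squarefree. -/
theorem result (k : Type u) [Field k] [IsAlgClosed k] [CharZero k]
    (f : MvPolynomial (Fin 4) k) (hf : f.IsHomogeneous 3) (hf0 : f ≠ 0)
    (hsm : ∀ v : Fin 4 → k, v ≠ 0 → MvPolynomial.eval v f = 0 →
      ∃ i : Fin 4, MvPolynomial.eval v (MvPolynomial.pderiv i f) ≠ 0)
    (A : Matrix (Fin 4) (Fin 3) k) (hA : A.rank = 3) :
    Squarefree (MvPolynomial.aeval (fun i : Fin 4 => ∑ j : Fin 3, MvPolynomial.C (A i j) * MvPolynomial.X j) f) := by
  classical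
  have hgf : ∀ y : Fin 3 → k,
      eval y (aeval (fun i : Fin 4 => ∑ j : Fin 3, C (A i j) * X j) f) =
        eval (A.mulVecLin y) f := by
    intro y; rw [eval_aeval_matrix']; rfl
  have hg3 : (aeval (fun i : Fin 4 => ∑ j : Fin 3, (C (A i j) * X j : MvPolynomial (Fin 3) k))
      f).IsHomogeneous 3 := by
    have := hf.aeval (fun i : Fin 4 => ∑ j : Fin 3, (C (A i j) * X j : MvPolynomial (Fin 3) k))
      (n := 1) (fun i => IsHomogeneous.sum _ _ _ (fun j _ => isHomogeneous_C_mul_X _ _))
    simpa using this
  generalize hgdef : aeval (fun i : Fin 4 => ∑ j : Fin 3, (C (A i j) * X j : MvPolynomial (Fin 3) k))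
      f = g at hgf hg3 ⊢
  have hLinj : Function.Injective A.mulVecLin := by
    rw [← LinearMap.ker_eq_bot]
    have h1 := LinearMap.finrank_range_add_finrank_ker A.mulVecLin
    have h2 : Module.finrank k (LinearMap.range A.mulVecLin) = 3 := hA
    rw [h2, Module.finrank_fin_fun] at h1
    have h3 : Module.finrank k (LinearMap.ker A.mulVecLin) = 0 := by omega
    exact Submodule.finrank_eq_zero.mp h3
  have hg0 : g ≠ 0 := by
    intro h0
    have hvan : ∀ u ∈ LinearMap.range A.mulVecLin, eval u f = 0 := by
      rintro u ⟨z, rfl⟩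
      rw [← hgf, h0, map_zero]
    apply sing_crit hf hsm A.mulVecLin hLinj (Pi.single 0 1) (Pi.single 1 1)
    · intro s t hst
      have e0 := congrFun hst 0
      have e1 := congrFun hst 1
      simp at e0 e1
      exact ⟨e0, e1⟩
    · intro s t z
      exact (line_cond hf _ hvan (LinearMap.mem_range_self _ _) (LinearMap.mem_range_self _ _)).1
  intro p hp
  obtain ⟨q, hq⟩ := hp
  have hp0 : p ≠ 0 := by rintro rfl; apply hg0; rw [hq]; ring
  have hq0 : q ≠ 0 := by rintro rfl; apply hg0; rw [hq]; ring
  have hdeg : 2 * p.totalDegree + q.totalDegree = 3 := by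
    have := hg3.totalDegree hg0
    rw [hq, totalDegree_mul_of_isDomain (mul_ne_zero hp0 hp0) hq0,
      totalDegree_mul_of_isDomain hp0 hp0] at this
    omega
  have hp1 : p.totalDegree ≤ 1 := by omega
  rcases Nat.le_one_iff_eq_zero_or_eq_one.mp hp1 with hp1' | hp1'
  · rw [totalDegree_eq_zero_iff_eq_C] at hp1'
    have : coeff 0 p ≠ 0 := by
      intro h; apply hp0; rw [hp1', h, map_zero]
    rw [hp1']
    exact (IsUnit.mk0 _ this).map C
  · exfalso
    have hq1 : q.totalDegree ≤ 1 := by omega
    obtain ⟨c, a, hpa⟩ := affine_of_totalDegree_le_one p hp1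
    obtain ⟨d, b, hqb⟩ := affine_of_totalDegree_le_one q hq1
    have hevp : ∀ y, eval y p = c + ∑ i, a i * y i := by intro y; rw [hpa]; simp
    have hevq : ∀ y, eval y q = d + ∑ i, b i * y i := by intro y; rw [hqb]; simp
    have ha : a ≠ 0 := by
      intro h0
      rw [hpa, h0] at hp1'
      simp at hp1'
    let lam : Module.Dual k (Fin 3 → k) :=
      { toFun := fun y => ∑ i, a i * y i
        map_add' := fun y z => by simp [mul_add, Finset.sum_add_distrib]
        map_smul' := fun r y => by simp [Finset.mul_sum, mul_left_comm] }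
    have hlam_apply : ∀ y, lam y = ∑ i, a i * y i := fun y => rfl
    have hlam0 : lam ≠ 0 := by
      intro h0; apply ha; funext i
      have := congrArg (fun l => l (Pi.single i 1)) h0
      simpa [hlam_apply, Pi.single_apply] using this
    have hker2 : Module.finrank k (LinearMap.ker lam) = 2 := by
      have := Module.Dual.finrank_ker_add_one_of_ne_zero hlam0
      rw [Module.finrank_fin_fun] at this
      omega
    let bs := Module.finBasisOfFinrankEq k (LinearMap.ker lam) hker2
    have hli : LinearIndependent k ![((bs 0 : LinearMap.ker lam) : Fin 3 → k),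
        ((bs 1 : LinearMap.ker lam) : Fin 3 → k)] := by
      have h1 := bs.linearIndependent.map' (LinearMap.ker lam).subtype (Submodule.ker_subtype _)
      have hfe : (⇑(LinearMap.ker lam).subtype ∘ ⇑bs) =
          ![((bs 0 : LinearMap.ker lam) : Fin 3 → k), ((bs 1 : LinearMap.ker lam) : Fin 3 → k)] := by
        funext i; fin_cases i <;> rfl
      rw [hfe] at h1
      exact h1
    have hsum : ∀ (w y z : Fin 3 → k) (τ : k),
        ∑ i, w i * (τ • y + z) i = τ * ∑ i, w i * y i + ∑ i, w i * z i := by
      intro w y z τ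
      rw [Finset.mul_sum, ← Finset.sum_add_distrib]
      refine Finset.sum_congr rfl fun i _ => ?_
      simp only [Pi.add_apply, Pi.smul_apply, smul_eq_mul]
      ring
    apply sing_crit hf hsm A.mulVecLin hLinj (bs 0 : Fin 3 → k) (bs 1 : Fin 3 → k)
    · intro s t hst
      exact LinearIndependent.pair_iff.mp hli s t hst
    · intro s t z
      have hy0k : ∑ i, a i * (s • (bs 0 : Fin 3 → k) + t • (bs 1 : Fin 3 → k)) i = 0 := by
        have : s • (bs 0 : Fin 3 → k) + t • (bs 1 : Fin 3 → k) ∈ LinearMap.ker lam :=
          (LinearMap.ker lam).add_mem ((LinearMap.ker lam).smul_mem _ (bs 0).2)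
            ((LinearMap.ker lam).smul_mem _ (bs 1).2)
        exact this
      generalize s • (bs 0 : Fin 3 → k) + t • (bs 1 : Fin 3 → k) = y0 at hy0k ⊢
      have hline : ∀ τ : k, eval (τ • y0 + z) g =
          (eval z p) ^ 2 * (τ * (∑ i, b i * y0 i) + eval z q) := by
        intro τ
        rw [hq, map_mul, map_mul, hevp (τ • y0 + z), hevq (τ • y0 + z), hsum, hsum, hy0k,
          hevp z, hevq z]
        ring
      have hexp : ∀ τ : k, τ ^ 3 * eval (A.mulVecLin y0) f +
          τ ^ 2 * (3 * T f (A.mulVecLin y0) (A.mulVecLin y0) (A.mulVecLin z)) +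
          τ * (3 * T f (A.mulVecLin y0) (A.mulVecLin z) (A.mulVecLin z)
            - (eval z p) ^ 2 * (∑ i, b i * y0 i)) +
          (eval (A.mulVecLin z) f - (eval z p) ^ 2 * eval z q) = 0 := by
        intro τ
        have h1 := hline τ
        rw [hgf, map_add, map_smul, eval_expand hf] at h1
        linear_combination h1
      obtain ⟨-, -, h2, -⟩ := cubic_coeffs hexp
      exact (mul_eq_zero.mp h2).resolve_left three_ne_zero

end Groth.Agent.S12424
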