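import Groth.Statements.S12437
import Groth.Agent.H91.Sig24b

set_option autoImplicit false
universe u
open Cubic

namespace Groth.Agent.S12437

/-- Over an algebraically closed field k of characteristic zero, the closed subscheme V(σ₂, σ₄) of A^5_k
cut out by the elementary symmetric polynomials of degrees 2 and 4 in five variables — the affine
cone over the surface H = V_+(σ₂, σ₄) ⊂ P^4_k — is irreducible: the radical of the ideal (σ₂, σ₄) of
k[X_0, …, X_4] is a prime ideal. -/
theorem result (k : Type u) [Field k] [IsAlgClosed k] [CharZero k] :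
    (Ideal.span ({MvPolynomial.esymm (Fin 5) k 2, MvPolynomial.esymm (Fin 5) k 4} :
      Set (MvPolynomial (Fin 5) k))).radical.IsPrime := by
  classical
  have hrad := MvPolynomial.vanishingIdeal_zeroLocus_eq_radical (k := k) (K := k)
    (Ideal.span ({MvPolynomial.esymm (Fin 5) k 2, MvPolynomial.esymm (Fin 5) k 4} :
      Set (MvPolynomial (Fin 5) k)))
  rw [← hrad]
  have hz : ∀ x : Fin 5 → k, x ∈ MvPolynomial.zeroLocus k
      (Ideal.span ({MvPolynomial.esymm (Fin 5) k 2, MvPolynomial.esymm (Fin 5) k 4} :
        Set (MvPolynomial (Fin 5) k))) ↔ Groth.Agent.H91.Sig24.InV x := by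
    intro x
    constructor
    · intro hx
      exact ⟨hx _ (Ideal.subset_span (by simp)), hx _ (Ideal.subset_span (by simp))⟩
    · intro hx p hp
      have hle : Ideal.span ({MvPolynomial.esymm (Fin 5) k 2, MvPolynomial.esymm (Fin 5) k 4} :
          Set (MvPolynomial (Fin 5) k)) ≤
          RingHom.ker (MvPolynomial.aeval x : MvPolynomial (Fin 5) k →ₐ[k] k).toRingHom := by
        rw [Ideal.span_le]
        rintro q (rfl | hq)
        · exact hx.1
        · rw [Set.mem_singleton_iff] at hq
          subst hq
          exact hx.2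
      exact hle hp
  rw [Ideal.isPrime_iff]
  constructor
  · intro htop
    have h1 : (1 : MvPolynomial (Fin 5) k) ∈ MvPolynomial.vanishingIdeal k
        (MvPolynomial.zeroLocus k (Ideal.span ({MvPolynomial.esymm (Fin 5) k 2,
          MvPolynomial.esymm (Fin 5) k 4} : Set (MvPolynomial (Fin 5) k)))) := by
      rw [htop]; trivial
    have h2 := h1 0 ((hz 0).mpr ⟨by rw [Groth.Agent.H91.Sig24.esymm52]; simp,
      by rw [Groth.Agent.H91.Sig24.esymm54]; simp⟩)
    simp at h2
  · intro f g hfg
    have h3 := Groth.Agent.H91.Sig24.irred f g (fun x hx => by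
      have h4 := hfg x ((hz x).mpr hx)
      rwa [map_mul] at h4)
    rcases h3 with h1 | h1
    · left
      intro x hx
      exact h1 x ((hz x).mp hx)
    · right
      intro x hx
      exact h1 x ((hz x).mp hx)

end Groth.Agent.S12437
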