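import Groth.Statements.S12439
import Mathlib
import Groth.Agent.H66.NoethChain2

set_option autoImplicit false
universe u
open Variety

namespace Groth.Agent.S12439

open MvPolynomial Ideal
open Groth.Agent.H66.NoethRefined Groth.Agent.H66.NoethChain

theorem main_part1 (k A : Type u) [Field k] [CommRing A] [IsDomain A] [Algebra k A]
    [Algebra.FiniteType k A] (d : ℕ) (hd : ringKrullDim A = (d : WithBot ℕ∞)) (r : ℕ)
    (q : Fin r → PrimeSpectrum A) (h : Fin r → ℕ) (hh : ∀ i, h i ≤ d)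
    (hdim : ∀ i, ringKrullDim (A ⧸ (q i).asIdeal) = ((d - h i : ℕ) : WithBot ℕ∞)) :
    ∃ φ : MvPolynomial (Fin d) k →ₐ[k] A, φ.Finite ∧ Function.Injective φ ∧
      ∀ i, (q i).asIdeal.comap φ = Kd k d (h i) := by
  classical
  obtain ⟨n, π, hπ⟩ := Algebra.FiniteType.iff_quotient_mvPolynomial''.mp
    (inferInstance : Algebra.FiniteType k A)
  obtain ⟨I, hInone, hIsome⟩ : ∃ I : Option (Fin r) → Ideal (MvPolynomial (Fin n) k),
      (∀ p, p ∈ I none ↔ π p = 0) ∧ ∀ i p, p ∈ I (some i) ↔ π p ∈ (q i).asIdeal :=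
    ⟨fun o => match o with
      | none => RingHom.ker π.toRingHom
      | some i => (q i).asIdeal.comap π, fun p => RingHom.mem_ker, fun i p => Iff.rfl⟩
  have hI : ∀ o, I o ≠ ⊤ := by
    intro o hIo
    have h1 : (1 : MvPolynomial (Fin n) k) ∈ I o := by rw [hIo]; trivial
    cases o with
    | none => rw [hInone, map_one] at h1; exact one_ne_zero h1
    | some i =>
      rw [hIsome, map_one] at h1
      exact (q i).isPrime.ne_top ((Ideal.eq_top_iff_one _).mpr h1)
  obtain ⟨φ, hφfin, hφ⟩ := exists_normalization_family n I hI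
  obtain ⟨a, han, ha⟩ := hφ none
  obtain ⟨e, rfl⟩ : ∃ e, n = a + e := ⟨n - a, by omega⟩
  have hgfin : (π.comp φ).Finite := AlgHom.Finite.comp (AlgHom.Finite.of_surjective π hπ) hφfin
  have hgker : ∀ p, (π.comp φ) p = 0 ↔ p ∈ Kd k (a + e) a := by
    intro p
    rw [← ha, Ideal.mem_comap, hInone, AlgHom.comp_apply]
  obtain ⟨hinj', hfin', hfac⟩ := restrict_props (π.comp φ) hgfin hgker
  have hdimA := dim_of_ker_Kd (Nat.le_add_right a e) (π.comp φ) hgfin hgker
  have hde : e = d := by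
    rw [hd] at hdimA
    have h1 : d = a + e - a := by exact_mod_cast hdimA
    omega
  subst hde
  refine ⟨(π.comp φ).comp (inc k a e), hfin', hinj', fun i => ?_⟩
  obtain ⟨c, hcn, hc⟩ := hφ (some i)
  have hcomap : (q i).asIdeal.comap ((π.comp φ).comp (inc k a e)) = Kd k e (c - a) := by
    ext p'
    rw [Ideal.mem_comap, AlgHom.comp_apply, AlgHom.comp_apply, ← hIsome, ← Ideal.mem_comap, hc,
      inc_mem_iff]
  rw [hcomap]
  have hgifin : ((Ideal.Quotient.mkₐ k (q i).asIdeal).comp ((π.comp φ).comp (inc k a e))).Finite :=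
    AlgHom.Finite.comp (AlgHom.Finite.of_surjective _ (Ideal.Quotient.mkₐ_surjective k _)) hfin'
  have hgiker : ∀ p', ((Ideal.Quotient.mkₐ k (q i).asIdeal).comp
      ((π.comp φ).comp (inc k a e))) p' = 0 ↔ p' ∈ Kd k e (c - a) := by
    intro p'
    rw [← hcomap, Ideal.mem_comap, AlgHom.comp_apply, Ideal.Quotient.mkₐ_eq_mk,
      Ideal.Quotient.eq_zero_iff_mem]
  have hdimi := dim_of_ker_Kd (by omega : c - a ≤ e) _ hgifin hgiker
  rw [hdim i] at hdimi
  have h1 : e - h i = e - (c - a) := by exact_mod_cast hdimi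
  have h2 := hh i
  have h3 : c - a = h i := by omega
  rw [h3]

theorem main_part2 (k A : Type u) [Field k] [CommRing A] [IsDomain A] [Algebra k A]
    (d r : ℕ) (q : Fin r → PrimeSpectrum A) (hq : StrictMono q) (h : Fin r → ℕ)
    (hh : ∀ i, h i ≤ d) (φ : MvPolynomial (Fin d) k →ₐ[k] A) (hfin : φ.Finite)
    (hinj : Function.Injective φ) (hqc : ∀ i, (q i).asIdeal.comap φ = Kd k d (h i)) :
    ∃ Q : ℕ → PrimeSpectrum A,
      (∀ j, j ≤ d → (Q j).asIdeal.comap φ = Kd k d j) ∧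
      (∀ j, j < d → Q j < Q (j + 1)) ∧ (∀ i, Q (h i) = q i) := by
  obtain ⟨I, hIp, a0, ha0, hIc, hqI⟩ : ∃ I : Ideal A, I.IsPrime ∧ ∃ a0, a0 ≤ d ∧
      I.comap φ = Kd k d a0 ∧ ∀ i, (q i).asIdeal ≤ I := by
    cases r with
    | zero => exact ⟨⊥, Ideal.isPrime_bot, 0, Nat.zero_le _, comap_bot_eq φ hinj, fun i => i.elim0⟩
    | succ r' =>
      exact ⟨(q (Fin.last r')).asIdeal, (q _).isPrime, h (Fin.last r'), hh _, hqc _,
        fun i => hq.monotone (Fin.le_last i)⟩
  haveI := hIp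
  haveI : (Kd k d d).IsPrime := Kd_isPrime le_rfl
  obtain ⟨M, hIM, hMp, hMc⟩ := exists_prime_over φ hfin I (Kd k d d)
    (by rw [hIc]; exact Kd_mono ha0)
  obtain ⟨Q, hQd, hQcomap, hQlt, hQq⟩ := exists_full_chain_below φ hfin hinj r q h d ⟨M, hMp⟩ hq
    le_rfl (fun i => (show (q i).asIdeal ≤ M from le_trans (hqI i) hIM)) hh hqc hMc
  exact ⟨Q, hQcomap, hQlt, hQq⟩


/-- Let k be a field, A an integral domain which is a finitely generated k-algebra of Krull dimension d,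
and q_{h(1)} ⊊ … ⊊ q_{h(r)} a chain of prime ideals with dim A/q_{h(i)} = d − h(i), where 0 ≤ h(i) ≤
d. Then (1) there is a finite injective k-algebra homomorphism φ : k[T_1, …, T_d] → A with
φ⁻¹(q_{h(i)}) = (T_1, …, T_{h(i)}) for every i (variables indexed from 0 below: the ideal generated
by the T_l with l < h(i)); and (2) for every such φ the given chain extends to a chain of primes q_0
⊊ … ⊊ q_d of A with φ⁻¹(q_j) = (T_1, …, T_j) for all j ≤ d. -/
theorem result (k A : Type u) [Field k]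
    [CommRing A] [IsDomain A] [Algebra k A] [Algebra.FiniteType k A] (d : ℕ) (hd : ringKrullDim A = (d : WithBot ℕ∞))
    (r : ℕ) (q : Fin r → PrimeSpectrum A) (hq : StrictMono q) (h : Fin r → ℕ) (hh : ∀ i, h i ≤ d)
    (hdim : ∀ i, ringKrullDim (A ⧸ (q i).asIdeal) = ((d - h i : ℕ) : WithBot ℕ∞)) :
    (∃ φ : MvPolynomial (Fin d) k →ₐ[k] A, φ.toRingHom.Finite ∧ Function.Injective φ ∧
      ∀ i, (q i).asIdeal.comap φ = Ideal.span (MvPolynomial.X '' {l : Fin d | (l : ℕ) < h i})) ∧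
    (∀ φ : MvPolynomial (Fin d) k →ₐ[k] A, φ.toRingHom.Finite → Function.Injective φ →
      (∀ i, (q i).asIdeal.comap φ = Ideal.span (MvPolynomial.X '' {l : Fin d | (l : ℕ) < h i})) →
      ∃ Q : ℕ → PrimeSpectrum A,
        (∀ j, j ≤ d → (Q j).asIdeal.comap φ = Ideal.span (MvPolynomial.X '' {l : Fin d | (l : ℕ) < j})) ∧
        (∀ j, j < d → Q j < Q (j + 1)) ∧ (∀ i, Q (h i) = q i)) := by
  refine ⟨?_, ?_⟩
  · obtain ⟨φ, hfin, hinj, hc⟩ := main_part1 k A d hd r q h hh hdim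
    refine ⟨φ, hfin, hinj, fun i => ?_⟩
    rw [← Kd_eq_span_image]
    exact hc i
  · intro φ hfin hinj hc
    have hc' : ∀ i, (q i).asIdeal.comap φ = Kd k d (h i) := by
      intro i
      rw [Kd_eq_span_image]
      exact hc i
    obtain ⟨Q, h1, h2, h3⟩ := main_part2 k A d r q hq h hh φ hfin hinj hc'
    refine ⟨Q, fun j hj => ?_, h2, h3⟩
    rw [← Kd_eq_span_image]
    exact h1 j hj

end Groth.Agent.S12439
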