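import Groth.Statements.S12442
-- import your own Groth.Agent.* helpers here

set_option autoImplicit false
universe u
open Mor

namespace Groth.Agent.S12442

open AlgebraicGeometry CategoryTheory in
theorem aux {X Y S : Scheme.{u}} (f : X ⟶ Y) (g : Y ⟶ S)
    (h : LocallyOfFinitePresentation (f ≫ g)) (hg : LocallyOfFiniteType g) :
    LocallyOfFinitePresentation f := by
  wlog hZ : IsAffine S generalizing X Y S
  · rw [IsZariskiLocalAtTarget.iff_of_iSup_eq_top (P := @LocallyOfFinitePresentation.{u}) _
      (g.iSup_preimage_eq_top (iSup_affineOpens_eq_top S))]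
    intro U
    have H := IsZariskiLocalAtTarget.restrict (P := @LocallyOfFinitePresentation.{u}) h U.1
    rw [morphismRestrict_comp] at H
    exact this _ _ H (IsZariskiLocalAtTarget.restrict (P := @LocallyOfFiniteType.{u}) hg U.1)
      inferInstance
  wlog hY : IsAffine Y generalizing X Y
  · rw [IsZariskiLocalAtTarget.iff_of_iSup_eq_top (P := @LocallyOfFinitePresentation.{u}) _
      (iSup_affineOpens_eq_top Y)]
    intro U
    have H := IsZariskiLocalAtSource.comp (P := @LocallyOfFinitePresentation.{u}) h (f ⁻¹ᵁ U.1).ι
    rw [← morphismRestrict_ι_assoc] at H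
    exact this _ _ H (IsZariskiLocalAtSource.comp (P := @LocallyOfFiniteType.{u}) hg _) inferInstance
  wlog hX : IsAffine X generalizing X
  · rw [IsZariskiLocalAtSource.iff_of_iSup_eq_top (P := @LocallyOfFinitePresentation.{u}) _
      (iSup_affineOpens_eq_top X)]
    intro U
    have H := IsZariskiLocalAtSource.comp (P := @LocallyOfFinitePresentation.{u}) h U.1.ι
    rw [← Category.assoc] at H
    exact this _ H inferInstance
  rw [HasRingHomProperty.iff_of_isAffine (P := @LocallyOfFinitePresentation.{u})] at h ⊢
  rw [HasRingHomProperty.iff_of_isAffine (P := @LocallyOfFiniteType.{u})] at hg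
  refine RingHom.FinitePresentation.of_comp_finiteType _ ?_ hg
  simpa using h

open AlgebraicGeometry CategoryTheory in
/-- Let f : X → Y and g : Y → S be morphisms of schemes. If the composite X → S is locally of finite
presentation and g is locally of finite type, then f is locally of finite presentation. -/
theorem result {X Y S : Scheme.{u}} (f : X ⟶ Y) (g : Y ⟶ S)
    [LocallyOfFinitePresentation (f ≫ g)] [LocallyOfFiniteType g] :
    LocallyOfFinitePresentation f := by
  exact aux f g inferInstance inferInstance

end Groth.Agent.S12442
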