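import Groth.Statements.S12443
import Mathlib.CategoryTheory.Monad.Adjunction
-- import your own Groth.Agent.* helpers here

set_option autoImplicit false
universe u
open CategoryTheory TopologicalSpace
open ShSp

namespace Groth.Agent.S12443

/-- for an open embedding `j`, `j⁻¹ (j '' V) = V` as a natural iso of functors on opens -/
def opensIso {U X : TopCat.{u}} (j : U ⟶ X) (hj : Topology.IsOpenEmbedding j) :
    hj.isOpenMap.functor ⋙ Opens.map j ≅ 𝟭 (Opens U) :=
  NatIso.ofComponents (fun V => eqToIso (by
    ext x
    simp only [Functor.comp_obj, Functor.id_obj]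
    constructor
    · rintro ⟨y, hy, hxy⟩
      have := hj.injective hxy
      subst this
      exact hy
    · intro hx
      exact ⟨x, hx, rfl⟩)) (fun _ => Subsingleton.elim _ _)

/-- the composite `j_*` then naive restriction is the identity -/
noncomputable def pushPullIso {U X : TopCat.{u}} (j : U ⟶ X) (hj : Topology.IsOpenEmbedding j) :
    TopCat.Sheaf.pushforward (Type u) j ⋙ hj.sheafPullback (Type u) ≅ 𝟭 (U.Sheaf (Type u)) :=
  NatIso.ofComponents (fun F =>
    (fullyFaithfulSheafToPresheaf (Opens.grothendieckTopology U) (Type u)).preimageIso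
      (Functor.isoWhiskerRight (NatIso.op (opensIso j hj)).symm F.obj ≪≫ F.obj.leftUnitor))
    (by
      intro F G α
      apply (fullyFaithfulSheafToPresheaf (Opens.grothendieckTopology U) (Type u)).map_injective
      simp only [Functor.FullyFaithful.preimageIso_hom]
      ext V x
      exact (ConcreteCategory.congr_hom (α.hom.naturality ((opensIso j hj).inv.app V.unop).op) x).symm)

/-- Let j : U → X be the inclusion of an open subset (an open embedding) and F a sheaf of sets on U.
Then the counit j⁻¹ j_* F → F is an isomorphism, i.e. j⁻¹ j_* is the identity on sheaves on U. -/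
theorem result {U X : TopCat.{u}} (j : U ⟶ X) (hj : Topology.IsOpenEmbedding j)
    (F : U.Sheaf (Type u)) :
    IsIso ((TopCat.Sheaf.pullbackPushforwardAdjunction (Type u) j).counit.app F) := by
  have h : IsIso (TopCat.Sheaf.pullbackPushforwardAdjunction (Type u) j).counit :=
    (TopCat.Sheaf.pullbackPushforwardAdjunction (Type u) j).isIso_counit_of_iso
      (Functor.isoWhiskerLeft _ (hj.sheafPullbackIso (Type u)) ≪≫ pushPullIso j hj)
  infer_instance

end Groth.Agent.S12443
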