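import Groth.Statements.S12446
import Groth.Agent.H38.CatRing
import Groth.Agent.S12445
import Groth.Agent.S9124
import Groth.Agent.S0552

set_option autoImplicit false
universe u
open CategoryTheory AlgebraicGeometry
open Props

namespace Groth.Agent.S12446

/-- For a scheme X, the underlying topological space of X is catenary if and only if for every point x
the local ring O_{X,x} is a catenary ring. -/
theorem result (X : Scheme.{u}) :
    PtTop.IsCatenarySpace X ↔ ∀ x : X, CAlg.IsCatenary (X.presheaf.stalk x) := by
  constructor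
  · intro hX x
    obtain ⟨U, hU, hxU, -⟩ :=
      AlgebraicGeometry.exists_isAffineOpen_mem_and_subset (X := X) (x := x) (U := ⊤) trivial
    have hR : CAlg.IsCatenary Γ(X, U) := (Groth.Agent.S12445.result X).1.mp hX ⟨U, hU⟩
    letI := TopCat.Presheaf.algebra_section_stalk X.presheaf (⟨x, hxU⟩ : U)
    haveI := hU.isLocalization_stalk ⟨x, hxU⟩
    exact Groth.Agent.S9124.result Γ(X, U) (hU.primeIdealOf ⟨x, hxU⟩).asIdeal.primeCompl
      (X.presheaf.stalk x) hR
  · intro H
    refine (Groth.Agent.S12445.result X).1.mpr fun U => ?_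
    refine (Groth.Agent.S0552.result Γ(X, U)).mpr fun m hm => ?_
    let y : PrimeSpectrum Γ(X, U.1) := ⟨m, hm.isPrime⟩
    have hy : U.2.fromSpec y ∈ U.1 := by
      have h1 : U.2.fromSpec y ∈ Set.range U.2.fromSpec := Set.mem_range_self y
      rw [U.2.range_fromSpec] at h1
      exact h1
    letI := TopCat.Presheaf.algebra_section_stalk X.presheaf (⟨U.2.fromSpec y, hy⟩ : U.1)
    haveI : IsLocalization.AtPrime (X.presheaf.stalk (U.2.fromSpec y)) m :=
      U.2.isLocalization_stalk' y hy
    exact Groth.Agent.H38.isCatenary_of_ringEquiv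
      (IsLocalization.algEquiv m.primeCompl (X.presheaf.stalk (U.2.fromSpec y))
        (Localization.AtPrime m)).toRingEquiv (H _)

end Groth.Agent.S12446
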