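import Groth.Statements.S12450
import Mathlib.Algebra.Category.ModuleCat.Presheaf.Colimits
import Mathlib.Algebra.Category.ModuleCat.Presheaf.Sheafification
import Mathlib.CategoryTheory.Adjunction.Limits
-- import your own Groth.Agent.* helpers here

set_option autoImplicit false
universe u
open CategoryTheory CategoryTheory.Limits
open ModSite

namespace Groth.Agent.S12450

universe v₁ v₂ v₃ u₁ u₂ u₃ w w'

theorem preservesColimitsOfShape_of_adj {D₀ : Type u₁} [Category.{v₁} D₀] {D : Type u₂}
    [Category.{v₂} D] {E : Type u₃} [Category.{v₃} E] {L : D₀ ⥤ D} {G : D ⥤ D₀} (adj : L ⊣ G)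
    [IsIso adj.counit] (H : D ⥤ E) (K : Type w) [Category.{w'} K] [HasColimitsOfShape K D₀]
    [PreservesColimitsOfShape K (L ⋙ H)] : PreservesColimitsOfShape K H := by
  constructor
  intro F
  let e : F ≅ (F ⋙ G) ⋙ L :=
    (Functor.rightUnitor F).symm ≪≫ Functor.isoWhiskerLeft F (asIso adj.counit).symm ≪≫
      (Functor.associator F G L).symm
  have : PreservesColimit ((F ⋙ G) ⋙ L) H := by
    have hc := colimit.isColimit (F ⋙ G)
    have : PreservesColimitsOfSize.{w', w} L := adj.leftAdjoint_preservesColimits
    have hL : IsColimit (L.mapCocone (colimit.cocone (F ⋙ G))) := isColimitOfPreserves L hc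
    apply preservesColimit_of_preserves_colimit_cocone hL
    exact isColimitOfPreserves (L ⋙ H) hc
  exact preservesColimit_of_iso_diagram H e.symm

/-- For a small ringed site (C, O) the forgetful functor Mod(O) → Ab(C) commutes with colimits, i.e.
preserves all small colimits. (Existence of limits and colimits in Mod(O) and commutation of the
forgetful functor with limits hold by construction; exactness of filtered colimits is a separate
statement.) -/
theorem result {C : Type u} [SmallCategory C] {J : GrothendieckTopology C}
    (O : Sheaf J CommRingCat.{u}) :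
    PreservesColimitsOfSize.{u, u} (SheafOfModules.toSheaf.{u} (ModSite.ringSh O) : ModSite.Mod O ⥤ Sheaf J AddCommGrpCat.{u}) := by
  constructor
  intro K _
  have h1 : PreservesColimitsOfShape K
      (PresheafOfModules.sheafification.{u} (𝟙 (ModSite.ringSh O).obj) ⋙
        SheafOfModules.toSheaf.{u} (ModSite.ringSh O)) := by
    change PreservesColimitsOfShape K
      (PresheafOfModules.toPresheaf _ ⋙ presheafToSheaf J AddCommGrpCat.{u})
    infer_instance
  exact preservesColimitsOfShape_of_adj
    (PresheafOfModules.sheafificationAdjunction.{u} (𝟙 (ModSite.ringSh O).obj))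
    (SheafOfModules.toSheaf.{u} (ModSite.ringSh O)) K

end Groth.Agent.S12450
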