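import Groth.Statements.S12452
import Groth.Agent.H38.ClosedPush

set_option autoImplicit false
universe u
open CategoryTheory TopologicalSpace Opposite
open ShSp

namespace Groth.Agent.S12452

open Groth.Agent.H38 in
/-- For sheaves of sets, let f : X → Y be a continuous map, F a sheaf of sets on X, G a sheaf of sets on
Y, and B_X, B_Y bases for the topologies of X and Y. Suppose given, for every V in B_Y and U in B_X
with U ⊆ f⁻¹V, a map φ_V^U : G(V) → F(U), compatibly with restrictions. Then there is exactly one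
morphism of sheaves ψ : G → f_*F (an f-map G → F) such that G(V) → F(f⁻¹V) → F(U) equals φ_V^U for
every such pair. -/
theorem result {X Y : TopCat.{u}} (f : X ⟶ Y) (F : X.Sheaf (Type u)) (G : Y.Sheaf (Type u))
    {BX : Set (Opens X)} (hBX : Opens.IsBasis BX) {BY : Set (Opens Y)} (hBY : Opens.IsBasis BY)
    (φ : ∀ (V : BY) (U : BX), (U : Opens X) ≤ (Opens.map f).obj V →
      (G.presheaf.obj (op (V : Opens Y)) → F.presheaf.obj (op (U : Opens X))))
    (hφ : ∀ (V V' : BY) (U U' : BX) (hUV : (U : Opens X) ≤ (Opens.map f).obj V)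
      (hU'V' : (U' : Opens X) ≤ (Opens.map f).obj V') (hV : (V' : Opens Y) ≤ V) (hU : (U' : Opens X) ≤ U)
      (s : G.presheaf.obj (op (V : Opens Y))),
      F.presheaf.map (homOfLE hU).op (φ V U hUV s) = φ V' U' hU'V' (G.presheaf.map (homOfLE hV).op s)) :
    ∃! ψ : G ⟶ (TopCat.Sheaf.pushforward (Type u) f).obj F,
      ∀ (V : BY) (U : BX) (hUV : (U : Opens X) ≤ (Opens.map f).obj V) (s : G.presheaf.obj (op (V : Opens Y))),
        F.presheaf.map (homOfLE hUV).op (ψ.1.app (op (V : Opens Y)) s) = φ V U hUV s := by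
  classical
  have hB' : Opens.IsBasis (Set.range (Subtype.val : BY → Opens Y)) := by
    rw [Subtype.range_coe]; exact hBY
  -- covering of `f⁻¹ V` by basis elements
  have hcover : ∀ O : Opens X,
      O ≤ ⨆ i : {U : BX // (U : Opens X) ≤ O}, ((i.1 : BX) : Opens X) := by
    intro O x hx
    obtain ⟨U, hUB, hxU, hUO⟩ := Opens.isBasis_iff_nbhd.mp hBX hx
    exact Opens.mem_iSup.mpr ⟨⟨⟨U, hUB⟩, hUO⟩, hxU⟩
  -- separation on the basis
  have hsep : ∀ (O : Opens X) (a b : F.presheaf.obj (op O)),
      (∀ (U' : BX) (h : (U' : Opens X) ≤ O),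
        F.presheaf.map (homOfLE h).op a = F.presheaf.map (homOfLE h).op b) → a = b := by
    intro O a b hab
    exact F.eq_of_locally_eq' (fun i : {U : BX // (U : Opens X) ≤ O} => ((i.1 : BX) : Opens X)) O
      (fun i => homOfLE i.2) (hcover O) a b (fun i => hab i.1 i.2)
  -- gluing
  have glue : ∀ (V : BY) (s : G.presheaf.obj (op (V : Opens Y))),
      ∃! t : F.presheaf.obj (op ((Opens.map f).obj V)),
        ∀ i : {U : BX // (U : Opens X) ≤ (Opens.map f).obj V},
          F.presheaf.map (homOfLE i.2).op t = φ V i.1 i.2 s := by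
    intro V s
    refine F.existsUnique_gluing'
      (fun i : {U : BX // (U : Opens X) ≤ (Opens.map f).obj V} => ((i.1 : BX) : Opens X))
      ((Opens.map f).obj V) (fun i => homOfLE i.2) (hcover _) (fun i => φ V i.1 i.2 s) ?_
    intro i j
    show F.presheaf.map (Opens.infLELeft ((i.1 : BX) : Opens X) ((j.1 : BX) : Opens X)).op
        (φ V i.1 i.2 s) =
      F.presheaf.map (Opens.infLERight ((i.1 : BX) : Opens X) ((j.1 : BX) : Opens X)).op
        (φ V j.1 j.2 s)
    apply hsep
    intro U' h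
    rw [pmap_map_apply _ _ (homOfLE (h.trans inf_le_left)).op,
      pmap_map_apply _ _ (homOfLE (h.trans inf_le_right)).op]
    have e1 := hφ V V i.1 U' i.2 ((h.trans inf_le_left).trans i.2) le_rfl
      (h.trans inf_le_left) s
    have e2 := hφ V V j.1 U' j.2 ((h.trans inf_le_left).trans i.2) le_rfl
      (h.trans inf_le_right) s
    rw [e1, e2]
  let ψ₀ : ∀ (V : BY), G.presheaf.obj (op (V : Opens Y)) →
      F.presheaf.obj (op ((Opens.map f).obj V)) := fun V s => (glue V s).choose
  have hψ₀ : ∀ (V : BY) (s : G.presheaf.obj (op (V : Opens Y))) (U : BX)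
      (hUV : (U : Opens X) ≤ (Opens.map f).obj V),
      F.presheaf.map (homOfLE hUV).op (ψ₀ V s) = φ V U hUV s := fun V s U hUV =>
    (glue V s).choose_spec.1 ⟨U, hUV⟩
  have hψ₀u : ∀ (V : BY) (s : G.presheaf.obj (op (V : Opens Y)))
      (t : F.presheaf.obj (op ((Opens.map f).obj V))),
      (∀ (U : BX) (hUV : (U : Opens X) ≤ (Opens.map f).obj V),
        F.presheaf.map (homOfLE hUV).op t = φ V U hUV s) → t = ψ₀ V s := fun V s t ht =>
    (glue V s).choose_spec.2 t (fun i => ht i.1 i.2)
  have hnat : ∀ (V V' : BY) (g : (V' : Opens Y) ⟶ (V : Opens Y))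
      (s : G.presheaf.obj (op (V : Opens Y))),
      ψ₀ V' (G.presheaf.map g.op s) = F.presheaf.map ((Opens.map f).map g).op (ψ₀ V s) := by
    intro V V' g s
    symm
    apply hψ₀u
    intro U hUV'
    have hUV : (U : Opens X) ≤ (Opens.map f).obj V := hUV'.trans ((Opens.map f).map g).le
    rw [pmap_map_apply _ _ (homOfLE hUV).op, hψ₀ V s U hUV]
    have e2 := hφ V V' U U hUV hUV' g.le le_rfl s
    rw [pmap_self] at e2
    rw [e2]
    congr 1
  let α : (inducedFunctor (Subtype.val : BY → Opens Y)).op ⋙ G.presheaf ⟶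
      (inducedFunctor (Subtype.val : BY → Opens Y)).op ⋙
        ((TopCat.Sheaf.pushforward (Type u) f).obj F).1 :=
    { app := fun V => ↾(ψ₀ V.unop)
      naturality := by
        intro V V' g
        ext s
        exact hnat V.unop V'.unop g.unop.hom s }
  have hα : ∀ V : BY,
      (TopCat.Sheaf.restrictHomEquivHom G.presheaf ((TopCat.Sheaf.pushforward (Type u) f).obj F)
        hB' α).app (op (V : Opens Y)) = α.app (op V) := fun V =>
    TopCat.Sheaf.extend_hom_app G.presheaf ((TopCat.Sheaf.pushforward (Type u) f).obj F) hB' α V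
  let ψ : G ⟶ (TopCat.Sheaf.pushforward (Type u) f).obj F :=
    ObjectProperty.homMk (TopCat.Sheaf.restrictHomEquivHom G.presheaf
      ((TopCat.Sheaf.pushforward (Type u) f).obj F) hB' α)
  have hψ : ∀ (V : BY) (s : G.presheaf.obj (op (V : Opens Y))),
      ψ.1.app (op (V : Opens Y)) s = ψ₀ V s := by
    intro V s
    have := congrArg (fun k => k s) (hα V)
    exact this
  refine ⟨ψ, ?_, ?_⟩
  · intro V U hUV s
    rw [hψ V s]
    exact hψ₀ V s U hUV
  · intro ψ' hψ'
    apply CategoryTheory.Sheaf.hom_ext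
    apply TopCat.Sheaf.hom_ext G.presheaf ((TopCat.Sheaf.pushforward (Type u) f).obj F) hB'
    intro V
    ext s
    show ψ'.1.app (op (V : Opens Y)) s = ψ.1.app (op (V : Opens Y)) s
    rw [hψ V s]
    apply hψ₀u
    intro U hUV
    exact hψ' V U hUV s

end Groth.Agent.S12452
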