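import Groth.Statements.S12456
import Mathlib
import Groth.Agent.H78.UnivThick
import Groth.Agent.H93.IdealComap
set_option maxHeartbeats 400000

set_option autoImplicit false
set_option maxHeartbeats 400000
universe u
open CategoryTheory AlgebraicGeometry
open OmegaSh

namespace Groth.Agent.S12456

/-- Let i : Z → X be an immersion, written as the closed subscheme of an open U ⊆ X cut out by an ideal
sheaf I followed by the inclusion of U. Then the first order infinitesimal neighbourhood of Z in X —
the closed subscheme of U cut out by I² — together with Z ⊂ V(I²) and V(I²) → U → X is a universal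
first order thickening of Z over X. (The inequality I² ≤ I is carried as an argument h; it always
holds.) -/
theorem result {X : Scheme.{u}} (U : X.Opens) (I : (U : Scheme.{u}).IdealSheafData)
    (h : I ^ 2 ≤ I) :
    OmegaSh.IsUnivThickening (I.subschemeι ≫ U.ι) (Scheme.IdealSheafData.inclusion h)
      ((I ^ 2).subschemeι ≫ U.ι) := by
  have hinc : Scheme.IdealSheafData.inclusion h ≫ (I ^ 2).subschemeι = I.subschemeι :=
    Scheme.IdealSheafData.inclusion_subschemeι h
  haveI hci : IsClosedImmersion (Scheme.IdealSheafData.inclusion h) := by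
    haveI : IsClosedImmersion (Scheme.IdealSheafData.inclusion h ≫ (I ^ 2).subschemeι) := by
      rw [hinc]; infer_instance
    exact IsClosedImmersion.of_comp (Scheme.IdealSheafData.inclusion h) (I ^ 2).subschemeι
  have hcomap_bot : ∀ (J : (U : Scheme.{u}).IdealSheafData), J.comap J.subschemeι = ⊥ := by
    intro J
    rw [eq_bot_iff, ← Scheme.IdealSheafData.le_map_iff_comap_le, Scheme.IdealSheafData.map_bot,
      Scheme.IdealSheafData.ker_subschemeι]
  refine ⟨⟨⟨hci, ⟨?_⟩⟩, ?_⟩, ?_, ?_⟩
  · -- surjective
    intro x
    have hx : (I ^ 2).subschemeι x ∈ Set.range I.subschemeι := by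
      rw [Scheme.IdealSheafData.range_subschemeι, ← Scheme.IdealSheafData.support_pow I 2 (by norm_num),
        ← Scheme.IdealSheafData.range_subschemeι]
      exact ⟨x, rfl⟩
    obtain ⟨y, hy⟩ := hx
    refine ⟨y, ?_⟩
    apply (I ^ 2).subschemeι.isEmbedding.injective
    rw [← hy, ← hinc]
    rfl
  · -- square zero
    have hk : (Scheme.IdealSheafData.inclusion h).ker = I.comap (I ^ 2).subschemeι := by
      have hpb := Groth.Agent.H78.UnivThick.isPullback_of_mono
        (Scheme.IdealSheafData.inclusion h) (I ^ 2).subschemeι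
      haveI : IsClosedImmersion (Scheme.IdealSheafData.inclusion h ≫ (I ^ 2).subschemeι) := by
        rw [hinc]; infer_instance
      rw [Groth.Agent.H93.NilPull.ker_eq_comap_of_isPullback hpb]
      congr 1
      rw [hinc, Scheme.IdealSheafData.ker_subschemeι]
    rw [hk, ← Groth.Agent.H93.IdealComap.comap_mul, ← pow_two]
    exact hcomap_bot _
  · rw [← Category.assoc, hinc]
  · intro T T' j b a hj hjb
    have hjsurj : Function.Surjective j := hj.1.2.surj
    have hrange : Set.range b ⊆ Set.range U.ι := by
      rw [Scheme.Opens.range_ι]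
      rintro _ ⟨x, rfl⟩
      obtain ⟨y, rfl⟩ := hjsurj x
      have : b (j y) = U.ι (I.subschemeι (a y)) := by
        have := congrArg (fun f : T ⟶ X => f y) hjb
        simpa using this
      rw [this]
      exact (I.subschemeι (a y)).2
    have hbU : IsOpenImmersion.lift U.ι b hrange ≫ U.ι = b := IsOpenImmersion.lift_fac _ _ _
    have hjbU : j ≫ IsOpenImmersion.lift U.ι b hrange = a ≫ I.subschemeι := by
      rw [← cancel_mono U.ι, Category.assoc, hbU, hjb, Category.assoc]
    have hI : I.comap (IsOpenImmersion.lift U.ι b hrange) ≤ j.ker := by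
      rw [← Scheme.IdealSheafData.le_map_iff_comap_le, Scheme.IdealSheafData.map_ker, hjbU]
      calc I = I.subschemeι.ker := (Scheme.IdealSheafData.ker_subschemeι I).symm
        _ ≤ _ := Scheme.Hom.le_ker_comp _ _
    have hker : ((I ^ 2).subschemeι).ker ≤ (IsOpenImmersion.lift U.ι b hrange).ker := by
      rw [Scheme.IdealSheafData.ker_subschemeι, ← Scheme.IdealSheafData.map_bot,
        Scheme.IdealSheafData.le_map_iff_comap_le, Groth.Agent.H93.IdealComap.comap_pow,
        ← hj.2, ← pow_two]
      exact pow_le_pow_left' hI 2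
    refine ⟨IsClosedImmersion.lift (I ^ 2).subschemeι (IsOpenImmersion.lift U.ι b hrange) hker,
      ⟨?_, ?_⟩, ?_⟩
    · rw [← cancel_mono (I ^ 2).subschemeι, Category.assoc, IsClosedImmersion.lift_fac, hjbU,
        Category.assoc, hinc]
    · rw [← Category.assoc, IsClosedImmersion.lift_fac, hbU]
    · rintro a'' ⟨-, h2''⟩
      rw [← cancel_mono ((I ^ 2).subschemeι ≫ U.ι), h2'', ← Category.assoc,
        IsClosedImmersion.lift_fac, hbU]

end Groth.Agent.S12456
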