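import Groth.Statements.S12460
import Mathlib

set_option autoImplicit false
universe u
open CategoryTheory AlgebraicGeometry
open Props

namespace Groth.Agent.S12460

/-- Regularity of the stalk at a point of an affine open, in terms of the coordinate ring. -/
theorem regular_stalk_fromSpec_iff {Y : Scheme.{u}} {V : Y.Opens} (hV : IsAffineOpen V)
    (p : PrimeSpectrum Γ(Y, V)) :
    IsRegularLocalRing (Y.presheaf.stalk (hV.fromSpec p)) ↔ p ∈ EGA4.regLocus Γ(Y, V) := by
  have hp : hV.fromSpec p ∈ V := by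
    have h1 : hV.fromSpec p ∈ Set.range hV.fromSpec := Set.mem_range_self p
    rw [hV.range_fromSpec] at h1
    exact h1
  letI := TopCat.Presheaf.algebra_section_stalk Y.presheaf (⟨hV.fromSpec p, hp⟩ : V)
  haveI : IsLocalization.AtPrime (Y.presheaf.stalk (hV.fromSpec p)) p.asIdeal :=
    hV.isLocalization_stalk' p hp
  let e := IsLocalization.algEquiv p.asIdeal.primeCompl (Y.presheaf.stalk (hV.fromSpec p))
    (Localization.AtPrime p.asIdeal)
  constructor
  · intro h
    exact IsRegularLocalRing.of_ringEquiv e.toRingEquiv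
  · intro h
    haveI : IsRegularLocalRing (Localization.AtPrime p.asIdeal) := h
    exact IsRegularLocalRing.of_ringEquiv e.symm.toRingEquiv

theorem regular_inter_affine_eq {Y : Scheme.{u}} {V : Y.Opens} (hV : IsAffineOpen V) :
    {y : Y | IsRegularLocalRing (Y.presheaf.stalk y)} ∩ (V : Set Y) =
      hV.fromSpec '' EGA4.regLocus Γ(Y, V) := by
  ext y
  constructor
  · rintro ⟨hy, hyV⟩
    refine ⟨hV.primeIdealOf ⟨y, hyV⟩, ?_, hV.fromSpec_primeIdealOf ⟨y, hyV⟩⟩
    refine (regular_stalk_fromSpec_iff hV (hV.primeIdealOf ⟨y, hyV⟩)).mp ?_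
    rw [hV.fromSpec_primeIdealOf ⟨y, hyV⟩]
    exact hy
  · rintro ⟨p, hp, rfl⟩
    refine ⟨(regular_stalk_fromSpec_iff hV p).mpr hp, ?_⟩
    have h1 : hV.fromSpec p ∈ Set.range hV.fromSpec := Set.mem_range_self p
    rw [hV.range_fromSpec] at h1
    exact h1

theorem isOpen_regular_inter_affine {Y : Scheme.{u}} {V : Y.Opens} (hV : IsAffineOpen V)
    (h : IsOpen (EGA4.regLocus Γ(Y, V))) :
    IsOpen ({y : Y | IsRegularLocalRing (Y.presheaf.stalk y)} ∩ (V : Set Y)) := by
  rw [regular_inter_affine_eq hV]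
  exact hV.fromSpec.isOpenEmbedding.isOpenMap _ h

theorem regLocus_eq_spec (S : Type u) [CommRing S] :
    EGA4.regLocus S =
      {y : ↥(Spec (CommRingCat.of S)) |
        IsRegularLocalRing ((Spec (CommRingCat.of S)).presheaf.stalk y)} := by
  ext p
  letI k : Algebra S ↑((Spec (CommRingCat.of S)).presheaf.stalk p) :=
    StructureSheaf.stalkAlgebra S p
  haveI : IsLocalization.AtPrime (↑((Spec (CommRingCat.of S)).presheaf.stalk p)) p.asIdeal :=
    StructureSheaf.IsLocalization.to_stalk S p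
  let e := IsLocalization.algEquiv p.asIdeal.primeCompl
    (↑((Spec (CommRingCat.of S)).presheaf.stalk p)) (Localization.AtPrime p.asIdeal)
  constructor
  · intro h
    haveI : IsRegularLocalRing (Localization.AtPrime p.asIdeal) := h
    exact IsRegularLocalRing.of_ringEquiv e.symm.toRingEquiv
  · intro h
    haveI : IsRegularLocalRing ↑((Spec (CommRingCat.of S)).presheaf.stalk p) := h
    exact IsRegularLocalRing.of_ringEquiv e.toRingEquiv

/-- (1) ⇔ (3) ⇔ (4): let X be a locally Noetherian scheme. Then X is J-2 — for every morphism Y → X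
locally of finite type the set of points y with O_{Y,y} a regular local ring is open in Y — if and
only if for every affine open U of X the ring Γ(X, U) is J-2 (every finite type algebra over it has
open regular locus), if and only if every point of X lies in such an affine open. (Schemes Y over X
are taken in the universe of X.) -/
theorem result (X : Scheme.{u}) [IsLocallyNoetherian X] :
    ((∀ (Y : Scheme.{u}) (g : Y ⟶ X), LocallyOfFiniteType g →
        IsOpen {y : Y | IsRegularLocalRing (Y.presheaf.stalk y)}) ↔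
      ∀ U : X.affineOpens, EGA4.IsJ2 Γ(X, U)) ∧
    ((∀ (Y : Scheme.{u}) (g : Y ⟶ X), LocallyOfFiniteType g →
        IsOpen {y : Y | IsRegularLocalRing (Y.presheaf.stalk y)}) ↔
      ∀ x : X, ∃ U : X.affineOpens, x ∈ (U : X.Opens) ∧ EGA4.IsJ2 Γ(X, U)) := by
  have hAB : (∀ (Y : Scheme.{u}) (g : Y ⟶ X), LocallyOfFiniteType g →
        IsOpen {y : Y | IsRegularLocalRing (Y.presheaf.stalk y)}) →
      ∀ U : X.affineOpens, EGA4.IsJ2 Γ(X, U) := by
    intro H U S _ _ hS
    let φ : Γ(X, U.1) ⟶ CommRingCat.of S := CommRingCat.ofHom (algebraMap Γ(X, U.1) S)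
    haveI hφ : LocallyOfFiniteType (Spec.map φ) := by
      rw [HasRingHomProperty.Spec_iff (P := @LocallyOfFiniteType)]
      exact RingHom.finiteType_algebraMap.mpr hS
    have hcomp : LocallyOfFiniteType (Spec.map φ ≫ U.2.fromSpec) := inferInstance
    have hY := H (Spec (CommRingCat.of S)) (Spec.map φ ≫ U.2.fromSpec) hcomp
    rw [regLocus_eq_spec]
    exact hY
  have hex : ∀ s : X, ∃ U : X.affineOpens, s ∈ (U : X.Opens) := by
    intro s
    obtain ⟨U, hU, hsU, -⟩ :=
      AlgebraicGeometry.exists_isAffineOpen_mem_and_subset (X := X) (x := s) (U := ⊤) trivial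
    exact ⟨⟨U, hU⟩, hsU⟩
  have hBC : (∀ U : X.affineOpens, EGA4.IsJ2 Γ(X, U)) →
      ∀ x : X, ∃ U : X.affineOpens, x ∈ (U : X.Opens) ∧ EGA4.IsJ2 Γ(X, U) := by
    intro H x
    obtain ⟨U, hxU⟩ := hex x
    exact ⟨U, hxU, H U⟩
  have hCA : (∀ x : X, ∃ U : X.affineOpens, x ∈ (U : X.Opens) ∧ EGA4.IsJ2 Γ(X, U)) →
      ∀ (Y : Scheme.{u}) (g : Y ⟶ X), LocallyOfFiniteType g →
        IsOpen {y : Y | IsRegularLocalRing (Y.presheaf.stalk y)} := by
    intro H Y g hg
    rw [isOpen_iff_forall_mem_open]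
    intro y hy
    obtain ⟨U, hgyU, hU⟩ := H (g y)
    have hypre : y ∈ g ⁻¹ᵁ U.1 := hgyU
    obtain ⟨V, hV, hyV, hVU⟩ :=
      AlgebraicGeometry.exists_isAffineOpen_mem_and_subset (X := Y) (x := y) (U := g ⁻¹ᵁ U.1) hypre
    have hVU' : V ≤ g ⁻¹ᵁ U.1 := hVU
    have hft : (g.appLE U.1 V hVU').hom.FiniteType :=
      HasRingHomProperty.appLE (P := @LocallyOfFiniteType) g hg U ⟨V, hV⟩ hVU'
    letI : Algebra Γ(X, U.1) Γ(Y, V) := (g.appLE U.1 V hVU').hom.toAlgebra
    have hopen : IsOpen (EGA4.regLocus Γ(Y, V)) := hU Γ(Y, V) hft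
    exact ⟨_, Set.inter_subset_left, isOpen_regular_inter_affine hV hopen, hy, hyV⟩
  exact ⟨⟨hAB, fun H => hCA (hBC H)⟩, ⟨fun H => hBC (hAB H), hCA⟩⟩

end Groth.Agent.S12460
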