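import Groth.Statements.S12461
import Groth.Agent.S9376
import Groth.Agent.H31.ProjCI
import Groth.Agent.H8.ClosedPush
import Groth.Agent.H21.EpiPush
import Groth.Agent.H95.QCohColim
import Groth.Agent.H22.QCohAbelian
import Groth.Agent.H31.GrothAb

set_option autoImplicit false
set_option linter.style.haveILetI false
universe u
open CategoryTheory AlgebraicGeometry
open QCohSub

namespace Groth.Agent.S12461

section Aux
open CategoryTheory.Limits

variable {Z X : Scheme.{u}} (i : Z ⟶ X) [IsClosedImmersion i]

/-- `E` is killed by the ideal of `i`: the unit `E ⟶ i_* i^* E` is an isomorphism. -/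
def Killed (E : X.Modules) : Prop :=
  IsIso ((Scheme.Modules.pullbackPushforwardAdjunction i).unit.app E)

theorem killed_push (G : Z.Modules) : Killed i ((Scheme.Modules.pushforward i).obj G) := by
  haveI : IsIso ((Scheme.Modules.pullbackPushforwardAdjunction i).counit.app G) :=
    Groth.Agent.H31.ProjCI.isIso_counit i G
  have h := (Scheme.Modules.pullbackPushforwardAdjunction i).right_triangle_components G
  haveI : IsIso ((Scheme.Modules.pullbackPushforwardAdjunction i).unit.app
      ((Scheme.Modules.pushforward i).obj G) ≫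
      (Scheme.Modules.pushforward i).map
        ((Scheme.Modules.pullbackPushforwardAdjunction i).counit.app G)) := by
    rw [h]; infer_instance
  exact IsIso.of_isIso_comp_right _ ((Scheme.Modules.pushforward i).map
        ((Scheme.Modules.pullbackPushforwardAdjunction i).counit.app G))

theorem killed_of_epi {E E' : X.Modules} [E.IsQuasicoherent] [E'.IsQuasicoherent] (π : E ⟶ E')
    [Epi π] (h : Killed i E) : Killed i E' := by
  have hE : Coh.IsQCoh E := ‹E.IsQuasicoherent›
  have hE' : Coh.IsQCoh E' := ‹E'.IsQuasicoherent›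
  refine (Groth.Agent.S9376.result i E' hE').2 ?_
  intro U a ha s'
  obtain ⟨s, rfl⟩ := Groth.Agent.H21.EpiPush.app_surjective_of_epi π U.2 s'
  have h0 := (Groth.Agent.S9376.result i E hE).1 h U a ha s
  rw [← Scheme.Modules.Hom.app_smul, h0, map_zero]

theorem killed_sigma {J : Type u} (f : J → X.Modules) (h : ∀ j, Killed i (f j)) :
    Killed i (∐ f) := by
  haveI : ∀ j, IsIso ((Scheme.Modules.pullbackPushforwardAdjunction i).unit.app (f j)) := h
  haveI : PreservesColimitsOfSize.{u, u} (Scheme.Modules.pushforward i) :=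
    Groth.Agent.H8.ClosedPush.preservesColimitsOfSize_pushforward i i.isClosedEmbedding
  haveI : PreservesColimitsOfSize.{u, u} (Scheme.Modules.pullback i) :=
    (Scheme.Modules.pullbackPushforwardAdjunction i).leftAdjoint_preservesColimits
  let T : X.Modules ⥤ X.Modules := Scheme.Modules.pullback i ⋙ Scheme.Modules.pushforward i
  let c : Cofan f := Cofan.mk (∐ f) (Sigma.ι f)
  have hc : IsColimit c := coproductIsCoproduct f
  have hTc : IsColimit (T.mapCocone c) := isColimitOfPreserves T hc
  let α : Discrete.functor f ≅ Discrete.functor f ⋙ T :=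
    Discrete.natIso (fun j => asIso ((Scheme.Modules.pullbackPushforwardAdjunction i).unit.app
      (f j.as)))
  let e := IsColimit.coconePointsIsoOfNatIso hc hTc α
  have he : e.hom = (Scheme.Modules.pullbackPushforwardAdjunction i).unit.app (∐ f) := by
    apply hc.hom_ext
    intro j
    rw [IsColimit.comp_coconePointsIsoOfNatIso_hom]
    exact ((Scheme.Modules.pullbackPushforwardAdjunction i).unit.naturality (Sigma.ι f j.as)).symm
  show IsIso _
  rw [← he]
  infer_instance

theorem isQuasicoherent_limitsImage {M N : X.Modules} [M.IsQuasicoherent] [N.IsQuasicoherent]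
    (φ : M ⟶ N) : (Limits.image φ).IsQuasicoherent := by
  haveI := Groth.Agent.H22.QCohAbelian.isQuasicoherent_image φ
  exact (SheafOfModules.isQuasicoherent X.ringCatSheaf).prop_of_iso (Abelian.imageIsoImage φ) ‹_›

/-- The largest quasi-coherent submodule of `F` killed by the ideal of `i`. -/
theorem exists_largest_killed (F : X.Modules) [F.IsQuasicoherent] :
    ∃ (F' : X.Modules) (k : F' ⟶ F), F'.IsQuasicoherent ∧ Mono k ∧ Killed i F' ∧
      ∀ (E : X.Modules), E.IsQuasicoherent → Killed i E → ∀ φ : E ⟶ F, ∃ ψ : E ⟶ F', ψ ≫ k = φ := by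
  have hgr := Groth.Agent.H31.GrothAb.isGrothendieckAbelian (Opens.grothendieckTopology X)
    X.ringCatSheaf
  have hwp : WellPowered.{u} (SheafOfModules.{u} X.ringCatSheaf) := inferInstance
  haveI : WellPowered.{u} X.Modules := hwp
  let I₀ := {S : Subobject F // (S : X.Modules).IsQuasicoherent ∧ Killed i (S : X.Modules)}
  haveI hsm : Small.{u} (Subobject F) := WellPowered.subobject_small F
  haveI hsm' : Small.{u} I₀ := small_subtype _ _
  let I : Type u := Shrink.{u} I₀
  let e : I ≃ I₀ := (equivShrink.{u} I₀).symm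
  let f : I → X.Modules := fun j => ((e j).1 : X.Modules)
  have hf : ∀ j, (f j).IsQuasicoherent := fun j => (e j).2.1
  have hfk : ∀ j, Killed i (f j) := fun j => (e j).2.2
  haveI hsig : (∐ f).IsQuasicoherent :=
    Groth.Agent.H95.QCohColim.isQuasicoherent_colimit (Discrete.functor f) (fun j => hf j.as)
  let a : ∐ f ⟶ F := Sigma.desc (fun j => (e j).1.arrow)
  haveI hF' : (Limits.image a).IsQuasicoherent := isQuasicoherent_limitsImage a
  refine ⟨Limits.image a, Limits.image.ι a, hF', inferInstance, ?_, ?_⟩
  · exact killed_of_epi i (factorThruImage a) (killed_sigma i f hfk)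
  · intro E hE hEk φ
    haveI := hE
    haveI hH' : (Limits.image φ).IsQuasicoherent := isQuasicoherent_limitsImage φ
    have hH'k : Killed i (Limits.image φ) := killed_of_epi i (factorThruImage φ) hEk
    haveI hSq : ((Subobject.mk (Limits.image.ι φ) : Subobject F) : X.Modules).IsQuasicoherent :=
      (SheafOfModules.isQuasicoherent X.ringCatSheaf).prop_of_iso
        (Subobject.underlyingIso (Limits.image.ι φ)).symm hH'
    have hSk : Killed i ((Subobject.mk (Limits.image.ι φ) : Subobject F) : X.Modules) :=
      killed_of_epi i (Subobject.underlyingIso (Limits.image.ι φ)).inv hH'k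
    obtain ⟨j, hj⟩ : ∃ j, e j = ⟨Subobject.mk (Limits.image.ι φ), hSq, hSk⟩ :=
      ⟨e.symm _, e.apply_symm_apply _⟩
    have hj' : (e j).1 = Subobject.mk (Limits.image.ι φ) := congrArg Subtype.val hj
    let t : ((Subobject.mk (Limits.image.ι φ) : Subobject F) : X.Modules) ⟶ f j :=
      Subobject.ofLE _ _ (le_of_eq hj'.symm)
    refine ⟨factorThruImage φ ≫ (Subobject.underlyingIso (Limits.image.ι φ)).inv ≫ t ≫
      Sigma.ι f j ≫ factorThruImage a, ?_⟩
    simp only [Category.assoc]
    rw [Limits.image.fac]
    have h1 : Sigma.ι f j ≫ a = (e j).1.arrow := Sigma.ι_desc _ _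
    rw [h1]
    have h2 : t ≫ (e j).1.arrow = (Subobject.mk (Limits.image.ι φ)).arrow :=
      Subobject.ofLE_arrow _
    rw [h2, Subobject.underlyingIso_arrow, Limits.image.fac]

end Aux

section Main
open CategoryTheory.Limits

variable {Z X : Scheme.{u}} (i : Z ⟶ X) [IsClosedImmersion i]

theorem isQCoh_push (G : QCohCat.QCoh Z) :
    QCohCat.isQCoh X (((QCohCat.isQCoh Z).ι ⋙ Coh.push i).obj G) := by
  haveI : G.obj.IsQuasicoherent := G.property
  exact Groth.Agent.H8.isQuasicoherent_pushforward (f := i) (F := G.obj)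

/-- The functor `i_*` on quasi-coherent modules. -/
noncomputable def L : QCohCat.QCoh Z ⥤ QCohCat.QCoh X :=
  (QCohCat.isQCoh X).lift ((QCohCat.isQCoh Z).ι ⋙ Coh.push i) (isQCoh_push i)

theorem L_isLeftAdjoint : (L i).IsLeftAdjoint := by
  classical
  -- choices
  have hch : ∀ F : QCohCat.QCoh X, ∃ (F' : X.Modules) (k : F' ⟶ F.obj), F'.IsQuasicoherent ∧
      Mono k ∧ Killed i F' ∧ ∀ (E : X.Modules), E.IsQuasicoherent → Killed i E →
        ∀ φ : E ⟶ F.obj, ∃ ψ : E ⟶ F', ψ ≫ k = φ := fun F => by
    haveI : F.obj.IsQuasicoherent := F.property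
    exact exists_largest_killed i F.obj
  choose F' k hq hm hk huniv using hch
  haveI : ∀ F, Mono (k F) := hm
  haveI : ∀ F, IsIso ((Scheme.Modules.pullbackPushforwardAdjunction i).unit.app (F' F)) := hk
  -- `i_*` is fully faithful
  haveI : IsIso (Scheme.Modules.pullbackPushforwardAdjunction i).counit := by
    haveI : ∀ G, IsIso ((Scheme.Modules.pullbackPushforwardAdjunction i).counit.app G) :=
      fun G => Groth.Agent.H31.ProjCI.isIso_counit i G
    exact NatIso.isIso_of_isIso_app _
  have hff : (Scheme.Modules.pushforward i).FullyFaithful :=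
    (Scheme.Modules.pullbackPushforwardAdjunction i).fullyFaithfulROfIsIsoCounit
  haveI := hff.full
  haveI := hff.faithful
  -- the right adjoint on objects
  let Robj : QCohCat.QCoh X → QCohCat.QCoh Z := fun F =>
    ⟨(Scheme.Modules.pullback i).obj (F' F), by
      haveI := hq F
      exact Groth.Agent.H8.isQuasicoherent_pullback i (F' F)⟩
  -- the inverse of the hom equivalence
  let invE : ∀ (G : QCohCat.QCoh Z) (F : QCohCat.QCoh X), (G ⟶ Robj F) → ((L i).obj G ⟶ F) :=
    fun G F h => ObjectProperty.homMk ((Scheme.Modules.pushforward i).map h.hom ≫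
      inv ((Scheme.Modules.pullbackPushforwardAdjunction i).unit.app (F' F)) ≫ k F)
  have hbij : ∀ G F, Function.Bijective (invE G F) := by
    intro G F
    constructor
    · intro h₁ h₂ h
      have h' := congrArg (fun m => m.hom) h
      simp only [invE, ObjectProperty.homMk_hom] at h'
      apply ObjectProperty.hom_ext
      apply (Scheme.Modules.pushforward i).map_injective
      have h'' := (cancel_mono (inv ((Scheme.Modules.pullbackPushforwardAdjunction i).unit.app
        (F' F)) ≫ k F)).1 h'
      exact h''
    · intro g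
      haveI : G.obj.IsQuasicoherent := G.property
      obtain ⟨ψ, hψ⟩ := huniv F ((Scheme.Modules.pushforward i).obj G.obj)
        (Groth.Agent.H8.isQuasicoherent_pushforward (f := i) (F := G.obj))
        (killed_push i G.obj) g.hom
      refine ⟨ObjectProperty.homMk ((Scheme.Modules.pushforward i).preimage
        (ψ ≫ (Scheme.Modules.pullbackPushforwardAdjunction i).unit.app (F' F))), ?_⟩
      apply ObjectProperty.hom_ext
      simp only [invE, ObjectProperty.homMk_hom, Functor.map_preimage]
      have h3 : (ψ ≫ (Scheme.Modules.pullbackPushforwardAdjunction i).unit.app (F' F)) ≫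
          inv ((Scheme.Modules.pullbackPushforwardAdjunction i).unit.app (F' F)) ≫ k F =
          ψ ≫ k F := by
        rw [Category.assoc, IsIso.hom_inv_id_assoc]
      exact h3.trans hψ
  let E : ∀ (G : QCohCat.QCoh Z) (F : QCohCat.QCoh X), ((L i).obj G ⟶ F) ≃ (G ⟶ Robj F) :=
    fun G F => (Equiv.ofBijective (invE G F) (hbij G F)).symm
  have hnat : ∀ (G' G : QCohCat.QCoh Z) (F : QCohCat.QCoh X) (f : G' ⟶ G) (h : G ⟶ Robj F),
      invE G' F (f ≫ h) = (L i).map f ≫ invE G F h := by
    intro G' G F f h
    apply ObjectProperty.hom_ext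
    simp only [invE, ObjectProperty.homMk_hom, ObjectProperty.FullSubcategory.comp_hom,
      Functor.map_comp]
    rfl
  have he : ∀ (G' G : QCohCat.QCoh Z) (F : QCohCat.QCoh X) (f : G' ⟶ G) (g : (L i).obj G ⟶ F),
      E G' F ((L i).map f ≫ g) = f ≫ E G F g := by
    intro G' G F f g
    apply (Equiv.ofBijective (invE G' F) (hbij G' F)).injective
    show invE G' F (E G' F ((L i).map f ≫ g)) = invE G' F (f ≫ E G F g)
    rw [hnat]
    have h1 : ∀ G (m : (L i).obj G ⟶ F), invE G F (E G F m) = m := fun G m =>
      (Equiv.ofBijective (invE G F) (hbij G F)).apply_symm_apply m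
    rw [h1, h1]
  exact (Adjunction.adjunctionOfEquivRight E he).isLeftAdjoint

end Main

/-- Let i : Z → X be a closed immersion of schemes. The functor i_* : QCoh(O_Z) → QCoh(O_X) has a right
adjoint i^! : QCoh(O_X) → QCoh(O_Z). Stated as: there is a functor L between the full subcategories
of quasi-coherent modules which agrees with i_* after the inclusion into all O_X-modules (this
determines L up to isomorphism, the inclusion being fully faithful) and which is a left adjoint. -/
theorem result {Z X : Scheme.{u}} (i : Z ⟶ X) [IsClosedImmersion i] :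
    ∃ L : QCohCat.QCoh Z ⥤ QCohCat.QCoh X,
      Nonempty (L ⋙ (QCohCat.isQCoh X).ι ≅ (QCohCat.isQCoh Z).ι ⋙ Coh.push i) ∧ L.IsLeftAdjoint := by
  exact ⟨L i, ⟨(QCohCat.isQCoh X).liftCompιIso _ _⟩, L_isLeftAdjoint i⟩

end Groth.Agent.S12461
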