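import Groth.Statements.S12463
import Groth.Agent.H23.WedgeCore
import Groth.Agent.H23.WedgeBranch
import Groth.Agent.H99.DimOneNorm
import Groth.Agent.S11882

set_option autoImplicit false
universe u
open Variety

namespace Groth.Agent.S12463


/-- Let (A, m) be a strictly henselian reduced Nagata local ring of dimension one with δ-invariant equal
to the number of geometric branches minus one, and A' the integral closure of A in its total ring of
fractions. Then A is a wedge of discrete valuation rings: for every maximal ideal m' of A' the
localization A'_{m'} is a discrete valuation ring whose residue field is the image of A, and A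
consists exactly of the elements of A' congruent to an element of A modulo every maximal ideal of A'
(the displayed inclusion; the reverse inclusion is trivial). (The inequality δ ≥ branches − 1 of the
published statement holds for every reduced Nagata local ring of dimension one and is not restated.) -/
theorem result (A : Type u) [CommRing A] [HenselianLocalRing A]
    [IsSepClosed (IsLocalRing.ResidueField A)] [IsReduced A] (hN : CAlg.IsNagata A) (hdim : ringKrullDim A = 1)
    (heq : Curv2.deltaInv A + 1 = Brnch.numGeomBranches A) :
    (∀ m' : MaximalSpectrum ↥(integralClosure A (FractionRing A)),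
        (∃ _ : IsDomain (Localization.AtPrime m'.asIdeal), IsDiscreteValuationRing (Localization.AtPrime m'.asIdeal)) ∧
        Function.Surjective (⇑(IsLocalRing.residue (Localization.AtPrime m'.asIdeal)) ∘
          ⇑(algebraMap ↥(integralClosure A (FractionRing A)) (Localization.AtPrime m'.asIdeal)) ∘
          ⇑(algebraMap A ↥(integralClosure A (FractionRing A))))) ∧
    ∀ a' : ↥(integralClosure A (FractionRing A)),
      (∃ a : A, ∀ m' : MaximalSpectrum ↥(integralClosure A (FractionRing A)),
          a' - algebraMap A _ a ∈ m'.asIdeal) →
      a' ∈ (algebraMap A ↥(integralClosure A (FractionRing A))).range := by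
  classical
  haveI : IsNoetherianRing A := hN.1
  have hfin : Module.Finite A (integralClosure A (FractionRing A)) :=
    Groth.Agent.H99.DimOneNorm.finite_integralClosure A hN hdim
  haveI := hfin
  haveI : Algebra.IsIntegral A (integralClosure A (FractionRing A)) := inferInstance
  have hminfin : (minimalPrimes A).Finite := minimalPrimes.finite_of_isNoetherianRing A
  haveI : Finite (MaximalSpectrum (integralClosure A (FractionRing A))) := by
    have hf := Groth.Agent.S11882.finite_maximals_of_finite A (integralClosure A (FractionRing A))
    haveI := hf.to_subtype
    exact Finite.of_injective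
      (fun M : MaximalSpectrum (integralClosure A (FractionRing A)) =>
        (⟨M.asIdeal, M.isMaximal⟩ : {I : Ideal (integralClosure A (FractionRing A)) | I.IsMaximal}))
      (fun M N h => MaximalSpectrum.ext (congrArg Subtype.val h))
  have hle : Module.length A (↥(integralClosure A (FractionRing A)) ⧸
      LinearMap.range (Algebra.linearMap A ↥(integralClosure A (FractionRing A)))) + 1 ≤
      ENat.card (MaximalSpectrum (integralClosure A (FractionRing A))) := by
    have h1 := Groth.Agent.H23.WedgeBranch.numGeomBranches_le_card A hminfin
    rw [← heq] at h1
    exact h1
  obtain ⟨hsurj, hJ⟩ := Groth.Agent.H23.WedgeCore.main A (integralClosure A (FractionRing A)) hle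
  refine ⟨fun m' => ⟨?_, ?_⟩, ?_⟩
  · haveI := m'.isMaximal
    exact Groth.Agent.H23.WedgeBranch.isDVR_localization A hdim hfin m'.asIdeal
  · haveI := m'.isMaximal
    intro y
    obtain ⟨x, hx⟩ := Ideal.algebraMap_residueField_surjective m'.asIdeal y
    obtain ⟨a, ha⟩ := hsurj m' (Ideal.Quotient.mk m'.asIdeal x)
    refine ⟨a, ?_⟩
    have hmem : x - algebraMap A (integralClosure A (FractionRing A)) a ∈ m'.asIdeal := by
      rw [← Ideal.Quotient.eq]
      exact ha.symm
    have h0 : algebraMap (integralClosure A (FractionRing A)) m'.asIdeal.ResidueField
        (x - algebraMap A (integralClosure A (FractionRing A)) a) = 0 :=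
      Ideal.algebraMap_residueField_eq_zero.mpr hmem
    rw [map_sub, sub_eq_zero] at h0
    rw [← hx, h0]
    rfl
  · rintro a' ⟨a, ha⟩
    obtain ⟨b, hb⟩ := hJ (a' - algebraMap A (integralClosure A (FractionRing A)) a) ha
    refine ⟨a + b, ?_⟩
    rw [map_add, hb]
    ring

end Groth.Agent.S12463
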