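import Groth.Statements.S5732
import Groth.Agent.H41.RelTwistXf
import Groth.Agent.H22.SymConstr

set_option autoImplicit false
universe u
open CategoryTheory CategoryTheory.Limits AlgebraicGeometry TopologicalSpace Opposite
open scoped HomogeneousIdeal
open EGA2

namespace Groth.Agent.S5732

open Groth.Agent.H8 Groth.Agent.H41.RelTildeMaps Groth.Agent.H41.RelTwistXf SymmetricAlgebra

theorem mem_of_sub_mem {A σ : Type*} [CommRing A] [SetLike σ A] [AddSubgroupClass σ A]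
    (𝒜 : ℕ → σ) [GradedRing 𝒜]
    (y : ProjectiveSpectrum 𝒜) (a c : A) (ha : a ∈ HomogeneousIdeal.irrelevant 𝒜) (hc : c ∈ 𝒜 0)
    (h : a - c ∈ y.asHomogeneousIdeal.toIdeal) : a ∈ y.asHomogeneousIdeal.toIdeal := by
  have h0 := y.asHomogeneousIdeal.isHomogeneous 0 h
  have ha0 : (DirectSum.decompose 𝒜 a 0 : A) = 0 := by
    have := (HomogeneousIdeal.mem_irrelevant_iff 𝒜 a).mp ha
    rwa [GradedRing.proj_apply] at this
  have hc0 : (DirectSum.decompose 𝒜 c 0 : A) = c := DirectSum.decompose_of_mem_same _ hc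
  rw [DirectSum.decompose_sub, DirectSum.sub_apply, AddSubgroupClass.coe_sub, ha0, hc0,
    zero_sub] at h0
  have h1 : c ∈ y.asHomogeneousIdeal.toIdeal := by
    have := neg_mem h0
    rwa [neg_neg] at this
  have e : a = (a - c) + c := by ring
  rw [e]
  exact add_mem h h1

theorem exists_not_mem {Y : Scheme.{u}} (E : Y.Modules) (hE : Coh.IsQCoh E)
    (𝒮 : RelProj.QCGrAlg Y) (j : E ⟶ 𝒮.toModule) (hj : RelProj.IsGrSymAlg E 𝒮 j)
    (U : Y.Opens) (hU : IsAffineOpen U) (y : ProjectiveSpectrum (𝒮.deg U hU)) :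
    ∃ e : Γ(E, U), ((j.app U) e : 𝒮.presheaf.obj (op U)) ∉ y.asHomogeneousIdeal := by
  haveI : E.IsQuasicoherent := hE
  by_contra hcon
  push Not at hcon
  apply y.not_irrelevant_le
  intro a ha
  obtain ⟨s, rfl⟩ := (Groth.Agent.H22.SymConstr.theta_bijective E 𝒮.toQCAlg j hj.1 U hU).2 a
  have emul : ∀ a b c d : 𝒮.presheaf.obj (op U),
      a * b - c * d = a * (b - d) + (a - c) * d := fun a b c d => by ring
  have eadd : ∀ a b c d : 𝒮.presheaf.obj (op U),
      a + b - (c + d) = (a - c) + (b - d) := fun a b c d => by ring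
  have key : ∀ s : Groth.Agent.H22.SymConstr.Sym E U, ∃ r : Γ(Y, U),
      Groth.Agent.H22.SymConstr.theta 𝒮.toQCAlg j U s - (𝒮.str.app (op U)).hom r ∈
        y.asHomogeneousIdeal.toIdeal := by
    intro s
    induction s using SymmetricAlgebra.induction with
    | algebraMap r =>
      refine ⟨r, ?_⟩
      rw [Groth.Agent.H22.SymConstr.theta_algebraMap, sub_self]
      exact zero_mem _
    | ι x =>
      refine ⟨0, ?_⟩
      rw [Groth.Agent.H22.SymConstr.theta_ι, map_zero, sub_zero]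
      exact hcon x
    | mul a b ha hb =>
      obtain ⟨r, hr⟩ := ha
      obtain ⟨r', hr'⟩ := hb
      refine ⟨r * r', ?_⟩
      rw [map_mul, map_mul, emul]
      exact add_mem (Ideal.mul_mem_left _ _ hr') (Ideal.mul_mem_right _ _ hr)
    | add a b ha hb =>
      obtain ⟨r, hr⟩ := ha
      obtain ⟨r', hr'⟩ := hb
      refine ⟨r + r', ?_⟩
      rw [map_add, map_add, eadd]
      exact add_mem hr hr'
  obtain ⟨r, hr⟩ := key s
  exact mem_of_sub_mem (𝒮.deg U hU) y _ _ ha (𝒮.str_mem U hU r) hr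

/-- Let E be a quasi-coherent O_Y-module with graded symmetric algebra 𝒮 (j : E → 𝒮 landing in degree
one), p : P = P(E) → Y its projective bundle with its charts over affine opens, and O_P(1) the
fundamental sheaf with its chart identifications. Let φ : E → p_*O_P(1) be the canonical map,
characterised as follows: for an affine open U and a section e of E over U, the section φ(e) of
O_P(1) over p⁻¹(U), read on the chart Proj(𝒮(U)), has value j(e)/1 at every point. Then the morphism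
p^*E → O_P(1) adjoint to φ is an epimorphism. -/
theorem result {Y P : Scheme.{u}} (E : Y.Modules) (hE : Coh.IsQCoh E)
    (𝒮 : RelProj.QCGrAlg Y) (j : E ⟶ 𝒮.toModule) (hj : RelProj.IsGrSymAlg E 𝒮 j) (p : P ⟶ Y)
    (chart : ∀ (U : Y.Opens) (hU : IsAffineOpen U), ((p ⁻¹ᵁ U : P.Opens) : Scheme.{u}) ≅ Proj (𝒮.deg U hU))
    (hP : RelProj.IsRelProj 𝒮 p chart) (O1 : P.Modules)
    (lam : ∀ (U : Y.Opens) (hU : IsAffineOpen U),
      O1 ⟶ (Scheme.Modules.pushforward (RelProj.emb p chart U hU)).obj (GrTwist.twist (𝒮.deg U hU) 1))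
    (hO1 : RelProj.IsRelTwist 𝒮 p chart 1 O1 lam)
    (φ : E ⟶ (Scheme.Modules.pushforward p).obj O1)
    (hφ : ∀ (U : Y.Opens) (hU : IsAffineOpen U) (e : Γ(E, U))
      (y : ↥(RelProj.emb p chart U hU ⁻¹ᵁ (p ⁻¹ᵁ U))),
      GrTwist.val (V := RelProj.emb p chart U hU ⁻¹ᵁ (p ⁻¹ᵁ U))
          ((lam U hU).app (p ⁻¹ᵁ U) ((φ.app U) e)) y =
        algebraMap (𝒮.presheaf.obj (op U)) (GrTwist.Loc (𝒮.deg U hU) y.1)
          ((j.app U) e : 𝒮.presheaf.obj (op U))) :
    Epi (((Scheme.Modules.pullbackPushforwardAdjunction p).homEquiv E O1).symm φ) := by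
  classical
  rw [Preadditive.epi_iff_cancel_zero]
  intro Q g hg
  have h2 : φ ≫ (Scheme.Modules.pushforward p).map g = 0 := by
    have e1 := (Scheme.Modules.pullbackPushforwardAdjunction p).homEquiv_naturality_right
      (((Scheme.Modules.pullbackPushforwardAdjunction p).homEquiv E O1).symm φ) g
    rw [Equiv.apply_symm_apply] at e1
    rw [← e1, hg, Adjunction.homEquiv_unit, CategoryTheory.Functor.map_zero, comp_zero]
  have h3 : ∀ (U : Y.Opens) (e : Γ(E, U)), g.app (p ⁻¹ᵁ U) (φ.app U e) = 0 := by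
    intro U e
    have := congrArg (fun ψ : E ⟶ (Scheme.Modules.pushforward p).obj Q => ψ.app U e) h2
    exact this
  refine Scheme.Modules.hom_ext _ _ (fun W => ?_)
  refine ConcreteCategory.hom_ext _ _ (fun s => ?_)
  show g.app W s = 0
  refine section_eq_of_cover Q _ 0 (fun x hxW => ?_)
  obtain ⟨U, hU, hxU, -⟩ := Opens.isBasis_iff_nbhd.mp Y.isBasis_affineOpens
    (show p.base x ∈ (⊤ : Y.Opens) from trivial)
  obtain ⟨y, hy⟩ : ∃ y, (RelProj.emb p chart U hU).base y = x := by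
    have : x ∈ (RelProj.emb p chart U hU).opensRange := by
      rw [opensRange_emb]; exact hxU
    exact this
  obtain ⟨e, he⟩ := exists_not_mem E hE 𝒮 j hj U hU y
  obtain ⟨f, hf⟩ : ∃ f : 𝒮.presheaf.obj (op U), f = (j.app U) e := ⟨_, rfl⟩
  rw [← hf] at he
  have hf1 : f ∈ 𝒮.deg U hU 1 := hf ▸ hj.2 U hU e
  have hW'U : W ⊓ RelProj.emb p chart U hU ''ᵁ Proj.basicOpen (𝒮.deg U hU) f ≤ p ⁻¹ᵁ U := by
    rintro _ ⟨-, z, -, rfl⟩
    have : (RelProj.emb p chart U hU).base z ∈ (RelProj.emb p chart U hU).opensRange :=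
      ⟨z, rfl⟩
    rwa [opensRange_emb] at this
  have hxW' : x ∈ W ⊓ RelProj.emb p chart U hU ''ᵁ Proj.basicOpen (𝒮.deg U hU) f :=
    ⟨hxW, y, (ProjectiveSpectrum.mem_basicOpen (𝒮.deg U hU) f y).mpr he, hy⟩
  refine ⟨W ⊓ RelProj.emb p chart U hU ''ᵁ Proj.basicOpen (𝒮.deg U hU) f, inf_le_left, hxW', ?_⟩
  have hread : ReadsFrac 𝒮 p chart 1 O1 lam U hU (p ⁻¹ᵁ U) (φ.app U e) f 1 := by
    intro z hv
    rw [hφ U hU e z, ← hf]
    exact (Localization.mk_one_eq_algebraMap f).symm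
  have hσ := ReadsFrac.res 𝒮 p chart 1 O1 lam hW'U hread
  have hux : ∀ z : (RelProj.emb p chart U hU ⁻¹ᵁ
      (W ⊓ RelProj.emb p chart U hU ''ᵁ Proj.basicOpen (𝒮.deg U hU) f) :
        (Proj (𝒮.deg U hU)).Opens), f ∉ z.1.asHomogeneousIdeal := by
    rintro ⟨z, hz⟩
    obtain ⟨z', hz', hzz'⟩ := hz.2
    have : z' = z := (RelProj.emb p chart U hU).isOpenEmbedding.injective hzz'
    subst this
    exact (ProjectiveSpectrum.mem_basicOpen (𝒮.deg U hU) f z').mp hz'
  have hvx : ∀ z : (RelProj.emb p chart U hU ⁻¹ᵁ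
      (W ⊓ RelProj.emb p chart U hU ''ᵁ Proj.basicOpen (𝒮.deg U hU) f) :
        (Proj (𝒮.deg U hU)).Opens), (1 : 𝒮.presheaf.obj (op U)) ∉ z.1.asHomogeneousIdeal :=
    fun z h => z.1.isPrime.ne_top ((Ideal.eq_top_iff_one _).mpr h)
  have hbij := ReadsFrac.bijective_smul 𝒮 p chart 1 O1 lam hO1 hW'U
    (⟨f, hf1⟩ : 𝒮.deg U hU 1) (⟨1, SetLike.GradedOne.one_mem⟩ : 𝒮.deg U hU 0) (by norm_num)
    hux hvx hσ
  obtain ⟨r, hr⟩ := hbij.2 (O1.presheaf.map (homOfLE (inf_le_left :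
    W ⊓ RelProj.emb p chart U hU ''ᵁ Proj.basicOpen (𝒮.deg U hU) f ≤ W)).op s)
  have hr' : r • O1.presheaf.map (homOfLE hW'U).op (φ.app U e) =
      O1.presheaf.map (homOfLE (inf_le_left :
        W ⊓ RelProj.emb p chart U hU ''ᵁ Proj.basicOpen (𝒮.deg U hU) f ≤ W)).op s := hr
  rw [map_zero, ← app_res g (inf_le_left :
    W ⊓ RelProj.emb p chart U hU ''ᵁ Proj.basicOpen (𝒮.deg U hU) f ≤ W) s, ← hr',
    Scheme.Modules.Hom.app_smul, app_res g hW'U, h3 U e, map_zero, smul_zero]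

end Groth.Agent.S5732
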