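import Groth.Statements.S12472
import Groth.Agent.H41.FundMap
import Groth.Agent.H41.SymGraded
import Groth.Agent.H41.RelProjExists
import Groth.Agent.H41.RelTwistExists
import Groth.Agent.S12143
import Groth.Agent.S5732
import Groth.Agent.H18.IsoOfGen
import Groth.Agent.H18.AmpleBasis
import Groth.Agent.H22.PullGen

set_option autoImplicit false
universe u
open CategoryTheory CategoryTheory.Limits AlgebraicGeometry TopologicalSpace Opposite
open scoped HomogeneousIdeal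
open EGA2

namespace Groth.Agent.S12472

open Groth.Agent.H8 Groth.Agent.H41.RelTildeMaps Groth.Agent.H41.RelTwistXf Groth.Agent.H41.FundMap in
/-- The adjoint `p^*F ⟶ O_P(d)` of the canonical map is an isomorphism when `F` is invertible and
the sections `j(e)` have no common zero. -/
theorem isIso_adj {Y P : Scheme.{u}} (𝒮 : RelProj.QCGrAlg Y) (p : P ⟶ Y)
    (chart : ∀ (U : Y.Opens) (hU : IsAffineOpen U),
      (((p ⁻¹ᵁ U : P.Opens) : Scheme.{u}) ≅ Proj (𝒮.deg U hU)))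
    (d : ℕ) (L : P.Modules)
    (lam : ∀ (U : Y.Opens) (hU : IsAffineOpen U),
      L ⟶ (Scheme.Modules.pushforward (RelProj.emb p chart U hU)).obj
        (GrTwist.twist (𝒮.deg U hU) (d : ℤ)))
    (hL : RelProj.IsRelTwist 𝒮 p chart (d : ℤ) L lam) (hP : RelProj.IsRelProj 𝒮 p chart)
    (F : Y.Modules) (j : F ⟶ 𝒮.toModule)
    (hj : ∀ (U : Y.Opens) (hU : IsAffineOpen U) (x : Γ(F, U)),
      ((j.app U) x : 𝒮.presheaf.obj (op U)) ∈ 𝒮.deg U hU d)
    (hgen : ∀ (U : Y.Opens) (hU : IsAffineOpen U) (y : ProjectiveSpectrum (𝒮.deg U hU)),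
      ∃ e : Γ(F, U), ((j.app U) e : 𝒮.presheaf.obj (op U)) ∉ y.asHomogeneousIdeal)
    (hF : PicF.IsInvertible F) :
    IsIso (((Scheme.Modules.pullbackPushforwardAdjunction p).homEquiv F L).symm
      (fundMap 𝒮 p chart d L lam hL hP F j hj)) := by
  classical
  let adj := Scheme.Modules.pullbackPushforwardAdjunction p
  let φ := fundMap 𝒮 p chart d L lam hL hP F j hj
  let a : (Scheme.Modules.pullback p).obj F ⟶ L := (adj.homEquiv F L).symm φ
  have hadj : adj.unit.app F ≫ (Scheme.Modules.pushforward p).map a = φ :=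
    (adj.homEquiv_unit (X := F) (Y := L) (f := a)).symm.trans
      ((adj.homEquiv F L).apply_symm_apply φ)
  show IsIso a
  refine Groth.Agent.H18.IsoOfGen.isIso_of_isGen_image
    (Groth.Agent.H22.PullGen.isInvertible_pullback p hF) a fun x => ?_
  obtain ⟨U, hU, hxU, -⟩ := Opens.isBasis_iff_nbhd.mp Y.isBasis_affineOpens
    (show p.base x ∈ (⊤ : Y.Opens) from trivial)
  have hxU' : x ∈ p ⁻¹ᵁ U := hxU
  let y : Proj (𝒮.deg U hU) := (chart U hU).hom.base ⟨x, hxU'⟩
  have hy : (RelProj.emb p chart U hU).base y = x :=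
    congrArg (fun ψ : (↑(p ⁻¹ᵁ U) : Scheme.{u}) ⟶ P => ψ.base ⟨x, hxU'⟩)
      (chart_hom_comp_emb 𝒮 p chart U hU)
  obtain ⟨e₀, he₀⟩ := hgen U hU y
  let V : P.Opens := RelProj.emb p chart U hU ''ᵁ
    (Proj.basicOpen (𝒮.deg U hU) ((j.app U) e₀ : 𝒮.presheaf.obj (op U)))
  have hVU : V ≤ p ⁻¹ᵁ U := by
    intro z hz
    obtain ⟨z', -, rfl⟩ := hz
    have : (RelProj.emb p chart U hU).base z' ∈ (RelProj.emb p chart U hU).opensRange :=
      ⟨z', rfl⟩
    rwa [opensRange_emb] at this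
  have hxV : x ∈ V :=
    ⟨y, (ProjectiveSpectrum.mem_basicOpen (𝒮.deg U hU) _ y).mpr he₀, hy⟩
  let m₀ : Γ((Scheme.Modules.pullback p).obj F, p ⁻¹ᵁ U) := (adj.unit.app F).app U e₀
  refine ⟨V, ((Scheme.Modules.pullback p).obj F).presheaf.map (homOfLE hVU).op m₀, hxV, ?_⟩
  have h1 : a.app (p ⁻¹ᵁ U) m₀ = φ.app U e₀ :=
    congrArg (fun ψ : F ⟶ (Scheme.Modules.pushforward p).obj L => ψ.app U e₀) hadj
  rw [app_res a hVU m₀, h1]
  intro V' hV'
  have hr := fundMap_reads 𝒮 p chart d L lam hL hP F j hj U hU e₀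
  have hr' := ReadsFrac.res 𝒮 p chart (d : ℤ) L lam (hV'.trans hVU) hr
  have hux : ∀ x' : (RelProj.emb p chart U hU ⁻¹ᵁ V' : (Proj (𝒮.deg U hU)).Opens),
      ((j.app U) e₀ : 𝒮.presheaf.obj (op U)) ∉ x'.1.asHomogeneousIdeal := by
    intro x'
    have h2 : x'.1 ∈ RelProj.emb p chart U hU ⁻¹ᵁ (RelProj.emb p chart U hU ''ᵁ
        (Proj.basicOpen (𝒮.deg U hU) ((j.app U) e₀ : 𝒮.presheaf.obj (op U)))) := hV' x'.2
    rw [(RelProj.emb p chart U hU).preimage_image_eq] at h2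
    exact (ProjectiveSpectrum.mem_basicOpen (𝒮.deg U hU) _ x'.1).mp h2
  have hb := ReadsFrac.bijective_smul 𝒮 p chart (d : ℤ) L lam hL (hV'.trans hVU)
    (⟨((j.app U) e₀ : 𝒮.presheaf.obj (op U)), hj U hU e₀⟩ : 𝒮.deg U hU d)
    (⟨1, SetLike.GradedOne.one_mem⟩ : 𝒮.deg U hU 0) (by simp) hux
    (one_not_mem 𝒮 p chart U hU _) hr'
  have he : (fun r : Γ(P, V') => r • L.presheaf.map (homOfLE hV').op
      (L.presheaf.map (homOfLE hVU).op (φ.app U e₀))) =
      fun r : Γ(P, V') => r • L.presheaf.map (homOfLE (hV'.trans hVU)).op (φ.app U e₀) := by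
    funext r
    rw [res_res]
  rw [he]
  exact hb


/-- Let Y be a scheme and L an invertible O_Y-module. Then L is very ample relative to the identity
morphism of Y: there are a quasi-coherent O_Y-module E and a Y-immersion i of Y into the projective
bundle P(E) with L isomorphic to i^*O_{P(E)}(1). -/
theorem result (Y : Scheme.{u}) (L : Y.Modules) (hL : PicF.IsInvertible L) :
    RelProj.IsRelVeryAmple (𝟙 Y) L := by
  classical
  have hLq : L.IsQuasicoherent := Groth.Agent.H18.AmpleBasis.isQuasicoherent_of_isInvertible hL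
  obtain ⟨𝒮, j, hj⟩ := Groth.Agent.H41.SymGraded.exists_isGrSymAlg L
  obtain ⟨P, p, chart, hP⟩ := Groth.Agent.H41.RelProjExists.exists_isRelProj 𝒮
  obtain ⟨O1, lam, hO1⟩ :=
    Groth.Agent.H41.RelTwistExists.exists_isRelTwist 𝒮 p chart hP ((1 : ℕ) : ℤ)
  have : IsIso p := Groth.Agent.S12143.result L hL hLq 𝒮 j hj p chart hP
  have hiso := isIso_adj 𝒮 p chart 1 O1 lam hO1 hP L j (fun U hU x => hj.2 U hU x)
    (fun U hU y => Groth.Agent.S5732.exists_not_mem L hLq 𝒮 j hj U hU y) hL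
  refine ⟨L, hLq, 𝒮, j, hj, P, p, chart, hP, O1, lam, hO1, inv p, inferInstance,
    IsIso.inv_hom_id p, ⟨?_⟩⟩
  exact ((Scheme.Modules.pullbackId Y).app L).symm ≪≫
    ((Scheme.Modules.pullbackCongr (IsIso.inv_hom_id p)).app L).symm ≪≫
    ((Scheme.Modules.pullbackComp (inv p) p).app L).symm ≪≫
    (Scheme.Modules.pullback (inv p)).mapIso (asIso
      (((Scheme.Modules.pullbackPushforwardAdjunction p).homEquiv L O1).symm
        (Groth.Agent.H41.FundMap.fundMap 𝒮 p chart 1 O1 lam hO1 hP L j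
          (fun U hU x => hj.2 U hU x))))

end Groth.Agent.S12472
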