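import Groth.Statements.S5734
import Groth.Agent.H41.CoprodClosedImm
import Groth.Agent.H41.SymGraded3
import Groth.Agent.H22.QCohLimits
import Groth.Agent.H22.SymAlgGen
import Groth.Agent.S8292

set_option autoImplicit false
universe u
open CategoryTheory CategoryTheory.Limits AlgebraicGeometry TopologicalSpace Opposite
open scoped HomogeneousIdeal
open EGA2

namespace Groth.Agent.S5734

/-- Let E and F be quasi-coherent O_Y-modules with graded symmetric algebras 𝒮E, 𝒮F and let 𝒮 be the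
graded symmetric algebra of E ⊕ F; let πE : 𝒮 → 𝒮E and πF : 𝒮 → 𝒮F be the graded algebra
homomorphisms induced by the two projections of E ⊕ F (compatible with the structure maps from E ⊕
F, E and F), the irrelevant ideal of the target being generated by the image of that of the source
over every affine open (so that the induced morphisms of homogeneous spectra are everywhere
defined). Let P(E ⊕ F), P(E), P(F) be the projective bundles with their charts and hE : P(E) → P(E ⊕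
F), hF : P(F) → P(E ⊕ F) the morphisms chartwise induced by πE and πF. Then the morphism P(E) ⨿ P(F)
→ P(E ⊕ F) which restricts to hE and hF is a closed immersion: the disjoint union of P(E) and P(F)
is a closed subscheme of P(E ⊕ F). -/
theorem result {Y PE PF P : Scheme.{u}} (E F : Y.Modules)
    (hE : Coh.IsQCoh E) (hF : Coh.IsQCoh F) (𝒮E 𝒮F 𝒮 : RelProj.QCGrAlg Y)
    (jE : E ⟶ 𝒮E.toModule) (hjE : RelProj.IsGrSymAlg E 𝒮E jE)
    (jF : F ⟶ 𝒮F.toModule) (hjF : RelProj.IsGrSymAlg F 𝒮F jF)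
    (j : E ⊞ F ⟶ 𝒮.toModule) (hj : RelProj.IsGrSymAlg (E ⊞ F) 𝒮 j)
    (πE : 𝒮.toQCAlg ⟶ 𝒮E.toQCAlg) (hπE : RelProj.IsGradedHom πE)
    (hjπE : j ≫ RelSpec.QCAlg.Hom.toModuleMap πE = biprod.fst ≫ jE)
    (πF : 𝒮.toQCAlg ⟶ 𝒮F.toQCAlg) (hπF : RelProj.IsGradedHom πF)
    (hjπF : j ≫ RelSpec.QCAlg.Hom.toModuleMap πF = biprod.snd ≫ jF)
    (hirrE : ∀ (U : Y.Opens) (hU : IsAffineOpen U),
      (𝒮E.deg U hU)₊ ≤ ((𝒮.deg U hU)₊).map (RelProj.gradedHomAt πE hπE U hU))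
    (hirrF : ∀ (U : Y.Opens) (hU : IsAffineOpen U),
      (𝒮F.deg U hU)₊ ≤ ((𝒮.deg U hU)₊).map (RelProj.gradedHomAt πF hπF U hU))
    (p : P ⟶ Y) (pE : PE ⟶ Y) (pF : PF ⟶ Y)
    (chart : ∀ (U : Y.Opens) (hU : IsAffineOpen U), ((p ⁻¹ᵁ U : P.Opens) : Scheme.{u}) ≅ Proj (𝒮.deg U hU))
    (chartE : ∀ (U : Y.Opens) (hU : IsAffineOpen U), ((pE ⁻¹ᵁ U : PE.Opens) : Scheme.{u}) ≅ Proj (𝒮E.deg U hU))
    (chartF : ∀ (U : Y.Opens) (hU : IsAffineOpen U), ((pF ⁻¹ᵁ U : PF.Opens) : Scheme.{u}) ≅ Proj (𝒮F.deg U hU))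
    (hP : RelProj.IsRelProj 𝒮 p chart) (hPE : RelProj.IsRelProj 𝒮E pE chartE) (hPF : RelProj.IsRelProj 𝒮F pF chartF)
    (hE' : PE ⟶ P) (hhE : RelProj.IsRelProjMap πE hπE hirrE chart chartE hE')
    (hF' : PF ⟶ P) (hhF : RelProj.IsRelProjMap πF hπF hirrF chart chartF hF') :
    IsClosedImmersion (coprod.desc hE' hF') := by
  have : E.IsQuasicoherent := hE
  have : F.IsQuasicoherent := hF
  have hqc : (E ⊞ F).IsQuasicoherent := Groth.Agent.H22.QCohLimits.isQuasicoherent_biprod E F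
  have hgenE : 𝒮E.IsGenDegOne :=
    Groth.Agent.H41.SymGraded.isGenDegOne_of_isGrSymAlg 𝒮E jE hjE
  have hgenF : 𝒮F.IsGenDegOne :=
    Groth.Agent.H41.SymGraded.isGenDegOne_of_isGrSymAlg 𝒮F jF hjF
  have hgen : 𝒮.IsGenDegOne :=
    Groth.Agent.H41.SymGraded.isGenDegOne_of_isGrSymAlg 𝒮 j hj
  have hciE : IsClosedImmersion hE' := by
    refine Groth.Agent.S8292.result 𝒮E 𝒮 hgenE (E ⊞ F) hqc (biprod.fst ≫ jE) ?_ ?_ j hj πE hπE hjπE
      hirrE p pE chart chartE hP hPE hE' hhE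
    · intro U hU x
      exact hjE.2 U hU ((biprod.fst : E ⊞ F ⟶ E).app U x)
    · intro U hU s hs
      obtain ⟨m, hm⟩ :=
        Groth.Agent.H41.SymGraded.exists_app_eq_of_mem_deg_one 𝒮E jE hjE U hU s hs
      refine ⟨(biprod.inl : E ⟶ E ⊞ F).app U m, ?_⟩
      have h1 : (biprod.fst : E ⊞ F ⟶ E).app U ((biprod.inl : E ⟶ E ⊞ F).app U m) = m :=
        congrArg (fun k : E ⟶ E => k.app U m) (biprod.inl_fst (X := E) (Y := F))
      show jE.app U ((biprod.fst : E ⊞ F ⟶ E).app U ((biprod.inl : E ⟶ E ⊞ F).app U m)) = s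
      rw [h1, hm]
  have hciF : IsClosedImmersion hF' := by
    refine Groth.Agent.S8292.result 𝒮F 𝒮 hgenF (E ⊞ F) hqc (biprod.snd ≫ jF) ?_ ?_ j hj πF hπF hjπF
      hirrF p pF chart chartF hP hPF hF' hhF
    · intro U hU x
      exact hjF.2 U hU ((biprod.snd : E ⊞ F ⟶ F).app U x)
    · intro U hU s hs
      obtain ⟨m, hm⟩ :=
        Groth.Agent.H41.SymGraded.exists_app_eq_of_mem_deg_one 𝒮F jF hjF U hU s hs
      refine ⟨(biprod.inr : F ⟶ E ⊞ F).app U m, ?_⟩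
      have h1 : (biprod.snd : E ⊞ F ⟶ F).app U ((biprod.inr : F ⟶ E ⊞ F).app U m) = m :=
        congrArg (fun k : F ⟶ F => k.app U m) (biprod.inr_snd (X := E) (Y := F))
      show jF.app U ((biprod.snd : E ⊞ F ⟶ F).app U ((biprod.inr : F ⟶ E ⊞ F).app U m)) = s
      rw [h1, hm]
  have hker : ∀ (U : Y.Opens) (hU : IsAffineOpen U) (s : 𝒮.presheaf.obj (op U)),
      s ∈ 𝒮.deg U hU 1 → ∃ s₁ s₂ : 𝒮.presheaf.obj (op U), s = s₁ + s₂ ∧
        (πE.hom.app (op U)).hom s₁ = 0 ∧ (πF.hom.app (op U)).hom s₂ = 0 := by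
    intro U hU s hs
    obtain ⟨m, hm⟩ := Groth.Agent.H41.SymGraded.exists_app_eq_of_mem_deg_one 𝒮 j hj U hU s hs
    refine ⟨j.app U ((biprod.inr : F ⟶ E ⊞ F).app U ((biprod.snd : E ⊞ F ⟶ F).app U m)),
      j.app U ((biprod.inl : E ⟶ E ⊞ F).app U ((biprod.fst : E ⊞ F ⟶ E).app U m)), ?_, ?_, ?_⟩
    · have ht := Groth.Agent.H22.QCohLimits.biprod_total_app U m
      have h2 : j.app U ((biprod.inr : F ⟶ E ⊞ F).app U ((biprod.snd : E ⊞ F ⟶ F).app U m)) +
          j.app U ((biprod.inl : E ⟶ E ⊞ F).app U ((biprod.fst : E ⊞ F ⟶ E).app U m)) =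
          j.app U m := by
        rw [← map_add, add_comm, ht]
      exact (hm.symm.trans h2.symm)
    · have h1 := congrArg (fun k : E ⊞ F ⟶ 𝒮E.toModule =>
        k.app U ((biprod.inr : F ⟶ E ⊞ F).app U ((biprod.snd : E ⊞ F ⟶ F).app U m))) hjπE
      have h2 : (biprod.fst : E ⊞ F ⟶ E).app U
          ((biprod.inr : F ⟶ E ⊞ F).app U ((biprod.snd : E ⊞ F ⟶ F).app U m)) = 0 :=
        congrArg (fun k : F ⟶ E => k.app U ((biprod.snd : E ⊞ F ⟶ F).app U m))
          (biprod.inr_fst (X := E) (Y := F))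
      have h3 : (πE.hom.app (op U)).hom
          (j.app U ((biprod.inr : F ⟶ E ⊞ F).app U ((biprod.snd : E ⊞ F ⟶ F).app U m))) =
          jE.app U ((biprod.fst : E ⊞ F ⟶ E).app U
            ((biprod.inr : F ⟶ E ⊞ F).app U ((biprod.snd : E ⊞ F ⟶ F).app U m))) := h1
      rw [h3, h2, map_zero]
      rfl
    · have h1 := congrArg (fun k : E ⊞ F ⟶ 𝒮F.toModule =>
        k.app U ((biprod.inl : E ⟶ E ⊞ F).app U ((biprod.fst : E ⊞ F ⟶ E).app U m))) hjπF
      have h2 : (biprod.snd : E ⊞ F ⟶ F).app U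
          ((biprod.inl : E ⟶ E ⊞ F).app U ((biprod.fst : E ⊞ F ⟶ E).app U m)) = 0 :=
        congrArg (fun k : E ⟶ F => k.app U ((biprod.fst : E ⊞ F ⟶ E).app U m))
          (biprod.inl_snd (X := E) (Y := F))
      have h3 : (πF.hom.app (op U)).hom
          (j.app U ((biprod.inl : E ⟶ E ⊞ F).app U ((biprod.fst : E ⊞ F ⟶ E).app U m))) =
          jF.app U ((biprod.snd : E ⊞ F ⟶ F).app U
            ((biprod.inl : E ⟶ E ⊞ F).app U ((biprod.fst : E ⊞ F ⟶ E).app U m))) := h1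
      rw [h3, h2, map_zero]
      rfl
  have := hciE
  have := hciF
  exact Groth.Agent.H41.CoprodClosedImm.isClosedImmersion_coprod_desc hE' hF'
    (Groth.Agent.H41.CoprodClosedImm.ne_of_relProjMap hgen πE hπE πF hπF hirrE hirrF hker
      p pE pF chart chartE chartF hP hPE hPF hE' hhE hF' hhF)

end Groth.Agent.S5734
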