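import Groth.Statements.S12477
import Groth.Agent.H41.CoprodModIso
import Groth.Agent.S5734
import Groth.Agent.H41.SymGraded3
import Groth.Agent.H41.PullTwist
import Groth.Agent.H41.RelProjExists
import Groth.Agent.H41.RelTwistExists
import Groth.Agent.H41.RelProjLib
import Groth.Agent.H41.RelProjGlue
import Groth.Agent.H22.QCohLimits

set_option autoImplicit false
universe u
open CategoryTheory CategoryTheory.Limits AlgebraicGeometry TopologicalSpace Opposite
open scoped HomogeneousIdeal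
open EGA2

namespace Groth.Agent.S12477

/-- Let X and X' be schemes with disjoint union X ⨿ X', let f'' : X ⨿ X' → Y be a morphism (given by a
morphism f on X and a morphism f' on X') and L'' an invertible module on X ⨿ X' (given by an
invertible O_X-module L and an invertible O_{X'}-module L'). Then L'' is very ample relative to f''
(isomorphic to the inverse image of O(1) along a Y-immersion of X into the projective bundle P(E) of
a quasi-coherent O_Y-module E) if and only if L, the inverse image of L'' on X, is very ample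
relative to f and L', the inverse image of L'' on X', is very ample relative to f'. -/
theorem result {X X' Y : Scheme.{u}} (f'' : X ⨿ X' ⟶ Y) (L'' : (X ⨿ X').Modules)
    (hL'' : PicF.IsInvertible L'') :
    RelProj.IsRelVeryAmple f'' L'' ↔
      RelProj.IsRelVeryAmple (coprod.inl ≫ f'') ((Scheme.Modules.pullback (coprod.inl : X ⟶ X ⨿ X')).obj L'') ∧
        RelProj.IsRelVeryAmple (coprod.inr ≫ f'') ((Scheme.Modules.pullback (coprod.inr : X' ⟶ X ⨿ X')).obj L'') := by
  constructor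
  · rintro ⟨E, hE, 𝒮, j, hj, P, p, chart, hP, O1, lam, hO1, i, hi, hip, ⟨e⟩⟩
    have := hi
    refine ⟨⟨E, hE, 𝒮, j, hj, P, p, chart, hP, O1, lam, hO1, coprod.inl ≫ i, inferInstance,
      by rw [Category.assoc, hip], ⟨?_⟩⟩,
      ⟨E, hE, 𝒮, j, hj, P, p, chart, hP, O1, lam, hO1, coprod.inr ≫ i, inferInstance,
      by rw [Category.assoc, hip], ⟨?_⟩⟩⟩
    · exact (Scheme.Modules.pullback (coprod.inl : X ⟶ X ⨿ X')).mapIso e ≪≫
        (Scheme.Modules.pullbackComp (coprod.inl : X ⟶ X ⨿ X') i).app O1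
    · exact (Scheme.Modules.pullback (coprod.inr : X' ⟶ X ⨿ X')).mapIso e ≪≫
        (Scheme.Modules.pullbackComp (coprod.inr : X' ⟶ X ⨿ X') i).app O1
  · rintro ⟨⟨E, hE, 𝒮E, jE, hjE, PE, pE, chartE, hPE, OE, lamE, hOE, i, hi, hip, ⟨e⟩⟩,
      ⟨F, hF, 𝒮F, jF, hjF, PF, pF, chartF, hPF, OF, lamF, hOF, i', hi', hip', ⟨e'⟩⟩⟩
    have : E.IsQuasicoherent := hE
    have : F.IsQuasicoherent := hF
    have hqc : (E ⊞ F).IsQuasicoherent := Groth.Agent.H22.QCohLimits.isQuasicoherent_biprod E F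
    obtain ⟨𝒮, j, hj, hdeg⟩ := Groth.Agent.H41.SymGraded.exists_isGrSymAlg_deg (E ⊞ F)
    have hgenE : 𝒮E.IsGenDegOne :=
      Groth.Agent.H41.SymGraded.isGenDegOne_of_isGrSymAlg 𝒮E jE hjE
    have hgenF : 𝒮F.IsGenDegOne :=
      Groth.Agent.H41.SymGraded.isGenDegOne_of_isGrSymAlg 𝒮F jF hjF
    have hgen : 𝒮.IsGenDegOne :=
      Groth.Agent.H41.SymGraded.isGenDegOne_of_isGrSymAlg 𝒮 j hj
    have hu1E : ∀ (U : Y.Opens) (hU : IsAffineOpen U) (x : Γ(E ⊞ F, U)),
        ((biprod.fst ≫ jE : E ⊞ F ⟶ 𝒮E.toModule).app U) x ∈ 𝒮E.deg U hU 1 := fun U hU x =>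
      hjE.2 U hU ((biprod.fst : E ⊞ F ⟶ E).app U x)
    have hu1F : ∀ (U : Y.Opens) (hU : IsAffineOpen U) (x : Γ(E ⊞ F, U)),
        ((biprod.snd ≫ jF : E ⊞ F ⟶ 𝒮F.toModule).app U) x ∈ 𝒮F.deg U hU 1 := fun U hU x =>
      hjF.2 U hU ((biprod.snd : E ⊞ F ⟶ F).app U x)
    have husurjE : ∀ (U : Y.Opens) (hU : IsAffineOpen U) (s : 𝒮E.presheaf.obj (Opposite.op U)),
        s ∈ 𝒮E.deg U hU 1 → ∃ x : Γ(E ⊞ F, U),
          ((biprod.fst ≫ jE : E ⊞ F ⟶ 𝒮E.toModule).app U) x = s := by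
      intro U hU s hs
      obtain ⟨m, hm⟩ :=
        Groth.Agent.H41.SymGraded.exists_app_eq_of_mem_deg_one 𝒮E jE hjE U hU s hs
      refine ⟨(biprod.inl : E ⟶ E ⊞ F).app U m, ?_⟩
      have h1 : (biprod.fst : E ⊞ F ⟶ E).app U ((biprod.inl : E ⟶ E ⊞ F).app U m) = m :=
        congrArg (fun k : E ⟶ E => k.app U m) (biprod.inl_fst (X := E) (Y := F))
      show jE.app U ((biprod.fst : E ⊞ F ⟶ E).app U ((biprod.inl : E ⟶ E ⊞ F).app U m)) = s
      rw [h1, hm]
    have husurjF : ∀ (U : Y.Opens) (hU : IsAffineOpen U) (s : 𝒮F.presheaf.obj (Opposite.op U)),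
        s ∈ 𝒮F.deg U hU 1 → ∃ x : Γ(E ⊞ F, U),
          ((biprod.snd ≫ jF : E ⊞ F ⟶ 𝒮F.toModule).app U) x = s := by
      intro U hU s hs
      obtain ⟨m, hm⟩ :=
        Groth.Agent.H41.SymGraded.exists_app_eq_of_mem_deg_one 𝒮F jF hjF U hU s hs
      refine ⟨(biprod.inr : F ⟶ E ⊞ F).app U m, ?_⟩
      have h1 : (biprod.snd : E ⊞ F ⟶ F).app U ((biprod.inr : F ⟶ E ⊞ F).app U m) = m :=
        congrArg (fun k : F ⟶ F => k.app U m) (biprod.inr_snd (X := E) (Y := F))
      show jF.app U ((biprod.snd : E ⊞ F ⟶ F).app U ((biprod.inr : F ⟶ E ⊞ F).app U m)) = s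
      rw [h1, hm]
    obtain ⟨πE, hπE, hjπE⟩ :=
      Groth.Agent.H41.SymGraded.exists_gradedHom 𝒮 j hj hdeg 𝒮E (biprod.fst ≫ jE) hu1E
    obtain ⟨πF, hπF, hjπF⟩ :=
      Groth.Agent.H41.SymGraded.exists_gradedHom 𝒮 j hj hdeg 𝒮F (biprod.snd ≫ jF) hu1F
    have hirrE := Groth.Agent.H41.SymGraded.irrelevant_le_map 𝒮 j hj 𝒮E hgenE (biprod.fst ≫ jE)
      husurjE πE hπE hjπE
    have hirrF := Groth.Agent.H41.SymGraded.irrelevant_le_map 𝒮 j hj 𝒮F hgenF (biprod.snd ≫ jF)
      husurjF πF hπF hjπF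
    obtain ⟨P, p, chart, hP⟩ := Groth.Agent.H41.RelProjExists.exists_isRelProj 𝒮
    obtain ⟨O1, lam, hO1⟩ := Groth.Agent.H41.RelTwistExists.exists_isRelTwist 𝒮 p chart hP 1
    obtain ⟨hE', hhE, -⟩ := Groth.Agent.H41.RelProjLib.existsUnique_relProjMap πE hπE hirrE
      chart chartE hP hPE
    obtain ⟨hF', hhF, -⟩ := Groth.Agent.H41.RelProjLib.existsUnique_relProjMap πF hπF hirrF
      chart chartF hP hPF
    have hcompE : hE' ≫ p = pE :=
      Groth.Agent.H41.RelProjLib.relProjMap_comp πE hπE hirrE p pE chart chartE hP hPE hE' hhE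
    have hcompF : hF' ≫ p = pF :=
      Groth.Agent.H41.RelProjLib.relProjMap_comp πF hπF hirrF p pF chart chartF hP hPF hF' hhF
    have hci : IsClosedImmersion (coprod.desc hE' hF') :=
      Groth.Agent.S5734.result E F hE hF 𝒮E 𝒮F 𝒮 jE hjE jF hjF j hj πE hπE hjπE πF hπF hjπF
        hirrE hirrF p pE pF chart chartE chartF hP hPE hPF hE' hhE hF' hhF
    have := hi
    have := hi'
    have : IsImmersion (coprod.map i i') := IsZariskiLocalAtTarget.coprodMap i i' ‹_› ‹_›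
    obtain ⟨τE⟩ := Groth.Agent.H41.PullTwist.pullback_twist_iso πE hπE hgen hirrE p pE chart
      chartE hP hPE hE' hhE 1 O1 lam hO1 OE lamE hOE
    obtain ⟨τF⟩ := Groth.Agent.H41.PullTwist.pullback_twist_iso πF hπF hgen hirrF p pF chart
      chartF hP hPF hF' hhF 1 O1 lam hO1 OF lamF hOF
    have hinl : i ≫ hE' = coprod.inl ≫ (coprod.map i i' ≫ coprod.desc hE' hF') := by
      rw [← Category.assoc, coprod.inl_map, Category.assoc, coprod.inl_desc]
    have hinr : i' ≫ hF' = coprod.inr ≫ (coprod.map i i' ≫ coprod.desc hE' hF') := by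
      rw [← Category.assoc, coprod.inr_map, Category.assoc, coprod.inr_desc]
    refine ⟨E ⊞ F, hqc, 𝒮, j, hj, P, p, chart, hP, O1, lam, hO1,
      coprod.map i i' ≫ coprod.desc hE' hF', inferInstance, ?_, ?_⟩
    · refine coprod.hom_ext ?_ ?_
      · rw [← Category.assoc, ← hinl, Category.assoc, hcompE, hip]
      · rw [← Category.assoc, ← hinr, Category.assoc, hcompF, hip']
    · refine Groth.Agent.H41.CoprodModIso.nonempty_iso_of_pullback_coprod L''
        ((Scheme.Modules.pullback (coprod.map i i' ≫ coprod.desc hE' hF')).obj O1) ?_ ?_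
      · exact e ≪≫ (Scheme.Modules.pullback i).mapIso τE.symm ≪≫
          (Scheme.Modules.pullbackComp i hE').app O1 ≪≫
          (Scheme.Modules.pullbackCongr hinl).app O1 ≪≫
          ((Scheme.Modules.pullbackComp (coprod.inl : X ⟶ X ⨿ X')
            (coprod.map i i' ≫ coprod.desc hE' hF')).app O1).symm
      · exact e' ≪≫ (Scheme.Modules.pullback i').mapIso τF.symm ≪≫
          (Scheme.Modules.pullbackComp i' hF').app O1 ≪≫
          (Scheme.Modules.pullbackCongr hinr).app O1 ≪≫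
          ((Scheme.Modules.pullbackComp (coprod.inr : X' ⟶ X ⨿ X')
            (coprod.map i i' ≫ coprod.desc hE' hF')).app O1).symm

end Groth.Agent.S12477
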