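import Groth.Statements.S12482
import Groth.Agent.S0615
import Mathlib

set_option autoImplicit false
universe u
open Dual

namespace Groth.Agent.S12482

theorem prefix_reg {A : Type u} [CommRing A] {p : ℕ} (x : Fin (p+1) → A)
    (h : RingTheory.Sequence.IsWeaklyRegular A (List.ofFn x)) :
    RingTheory.Sequence.IsWeaklyRegular A (List.ofFn fun i : Fin p => x (Fin.castSucc i)) := by
  rw [List.ofFn_succ', List.concat_eq_append] at h
  exact ((RingTheory.Sequence.isWeaklyRegular_append_iff A _ _).mp h).1

theorem syz {A : Type u} [CommRing A] : ∀ (p : ℕ) (x : Fin p → A),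
    RingTheory.Sequence.IsWeaklyRegular A (List.ofFn x) → ∀ c : Fin p → A,
    ∑ i, c i * x i = 0 → ∀ i, c i ∈ Ideal.span (Set.range x) := by
  intro p
  induction p with
  | zero => intro x _ c _ i; exact i.elim0
  | succ p ih =>
    intro x hreg c hc i
    have hJ' : Ideal.span (Set.range fun j : Fin p => x (Fin.castSucc j)) ≤
        Ideal.span (Set.range x) := by
      apply Ideal.span_mono
      rintro _ ⟨j, rfl⟩
      exact ⟨Fin.castSucc j, rfl⟩
    have himg : x '' {j : Fin (p+1) | j.val < (Fin.last p).val} =
        Set.range fun j : Fin p => x (Fin.castSucc j) := by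
      ext y
      constructor
      · rintro ⟨j, hj, rfl⟩
        have hj' : j.val < p := hj
        exact ⟨⟨j.val, hj'⟩, congrArg x (Fin.ext rfl)⟩
      · rintro ⟨j, rfl⟩
        exact ⟨Fin.castSucc j, j.isLt, rfl⟩
    rw [Fin.sum_univ_castSucc] at hc
    have hlast : x (Fin.last p) * c (Fin.last p) ∈
        Ideal.span (x '' {j : Fin (p+1) | j.val < (Fin.last p).val}) := by
      rw [himg]
      have : x (Fin.last p) * c (Fin.last p) =
          -∑ j : Fin p, c (Fin.castSucc j) * x (Fin.castSucc j) := by
        linear_combination hc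
      rw [this]
      exact neg_mem (Ideal.sum_mem _ fun j _ =>
        Ideal.mul_mem_left _ _ (Ideal.subset_span ⟨j, rfl⟩))
    have hcl := Groth.Agent.S0615.reg_of_isWeaklyRegular x hreg (Fin.last p)
      (c (Fin.last p)) hlast
    rw [himg] at hcl
    obtain ⟨d, hd⟩ := Ideal.mem_span_range_iff_exists_fun.mp hcl
    have hc' : ∑ j : Fin p, (c (Fin.castSucc j) + d j * x (Fin.last p)) * x (Fin.castSucc j)
        = 0 := by
      have : ∑ j : Fin p, (c (Fin.castSucc j) + d j * x (Fin.last p)) * x (Fin.castSucc j)
          = ∑ j : Fin p, c (Fin.castSucc j) * x (Fin.castSucc j) +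
            x (Fin.last p) * ∑ j : Fin p, d j * x (Fin.castSucc j) := by
        rw [Finset.mul_sum, ← Finset.sum_add_distrib]
        exact Finset.sum_congr rfl fun j _ => by ring
      rw [this, hd]
      linear_combination hc
    have hih := ih (fun j => x (Fin.castSucc j)) (prefix_reg x hreg)
      (fun j => c (Fin.castSucc j) + d j * x (Fin.last p)) hc'
    have hxl : x (Fin.last p) ∈ Ideal.span (Set.range x) := Ideal.subset_span ⟨_, rfl⟩
    rcases Fin.eq_castSucc_or_eq_last i with ⟨j, rfl⟩ | rfl
    · have h1 := hJ' (hih j)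
      have : c (Fin.castSucc j) =
          (c (Fin.castSucc j) + d j * x (Fin.last p)) - d j * x (Fin.last p) := by ring
      rw [this]
      exact sub_mem h1 (Ideal.mul_mem_left _ _ hxl)
    · exact hJ' hcl

theorem aux (A : Type u) [CommRing A] (p : ℕ) (x : Fin p → A)
    (hreg : RingTheory.Sequence.IsWeaklyRegular A (List.ofFn x))
    (J : Ideal A) (hJ : J = Ideal.span (Set.range x)) (hxJ : ∀ i, x i ∈ J) :
    ∃ b : Module.Basis (Fin p) (A ⧸ J) J.Cotangent,
      ∀ i, b i = J.toCotangent ⟨x i, hxJ i⟩ := by
  classical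
  have hsmul : ∀ (a : A) (z : J.Cotangent), (Ideal.Quotient.mk J a) • z = a • z := by
    intro a z
    rw [← Ideal.Quotient.algebraMap_eq, algebraMap_smul]
  have hli : LinearIndependent (A ⧸ J) (fun i => J.toCotangent ⟨x i, hxJ i⟩) := by
    rw [Fintype.linearIndependent_iff]
    intro g hg i
    choose a ha using fun i => Ideal.Quotient.mk_surjective (g i)
    have h1 : J.toCotangent (∑ i, a i • (⟨x i, hxJ i⟩ : J)) = 0 := by
      rw [map_sum, ← hg]
      refine Finset.sum_congr rfl fun i _ => ?_
      rw [map_smul, ← ha i, hsmul]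
    rw [Ideal.toCotangent_eq_zero] at h1
    have h2 : ∑ i, a i * x i ∈ J ^ 2 := by
      have : ((∑ i, a i • (⟨x i, hxJ i⟩ : J) : J) : A) = ∑ i, a i * x i := by
        rw [Submodule.coe_sum]
        exact Finset.sum_congr rfl fun i _ => rfl
      rw [← this]; exact h1
    have h3 : ∑ i, a i * x i ∈ J • Submodule.span A (Set.range x) := by
      have : J • Submodule.span A (Set.range x) = J ^ 2 := by
        rw [sq, ← Ideal.smul_eq_mul]
        congr 1
        exact hJ.symm
      rw [this]; exact h2
    obtain ⟨l, hl, hsum⟩ := (Submodule.mem_ideal_smul_span_iff_exists_sum J x _).mp h3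
    rw [Finsupp.sum_fintype l (fun i c => c • x i) (fun i => zero_smul _ _)] at hsum
    have h4 : ∑ i, (a i - l i) * x i = 0 := by
      simp only [sub_mul, Finset.sum_sub_distrib]
      rw [← hsum]
      simp [smul_eq_mul]
    have h5 := syz p x hreg (fun i => a i - l i) h4 i
    rw [← hJ] at h5
    have h6 : a i ∈ J := by
      have := add_mem h5 (hl i)
      simpa using this
    rw [← ha i]
    exact Ideal.Quotient.eq_zero_iff_mem.mpr h6
  have hsp : ⊤ ≤ Submodule.span (A ⧸ J) (Set.range fun i => J.toCotangent ⟨x i, hxJ i⟩) := by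
    intro z _
    obtain ⟨y, rfl⟩ := J.toCotangent_surjective z
    have hy2 : (y : A) ∈ Ideal.span (Set.range x) := hJ ▸ y.2
    obtain ⟨c, hc⟩ := Ideal.mem_span_range_iff_exists_fun.mp hy2
    have hy : y = ∑ i, c i • (⟨x i, hxJ i⟩ : J) := by
      apply Subtype.ext
      rw [Submodule.coe_sum, ← hc]
      exact Finset.sum_congr rfl fun i _ => rfl
    rw [hy, map_sum]
    refine Submodule.sum_mem _ fun i _ => ?_
    rw [map_smul, ← hsmul]
    exact Submodule.smul_mem _ _ (Submodule.subset_span ⟨i, rfl⟩)
  exact ⟨Module.Basis.mk hli hsp, fun i => Module.Basis.mk_apply hli hsp i⟩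

/-- Let `A` be a commutative ring, `x_1, …, x_p` a sequence of elements of `A` such that each `x_i` is a
non-zero-divisor on `A/(x_1, …, x_{i-1})`, and `J` the ideal generated by the `x_i`. Then `J/J²` is
a free `(A/J)`-module with basis the classes of the `x_i`: there is a basis of `J/J²` over `A/J`,
indexed by `1, …, p`, whose `i`-th vector is the class of `x_i`. (The other assertions of the
published statement, on the Koszul complex and on Ext and Tor against `A/J`, are stated separately.) -/
theorem result (A : Type u) [CommRing A] (p : ℕ) (x : Fin p → A)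
    (hreg : RingTheory.Sequence.IsWeaklyRegular A (List.ofFn x)) :
    ∃ b : Module.Basis (Fin p) (A ⧸ Ideal.span (Set.range x)) (Ideal.span (Set.range x)).Cotangent,
      ∀ i, b i = (Ideal.span (Set.range x)).toCotangent ⟨x i, Ideal.subset_span (Set.mem_range_self i)⟩ :=
  aux A p x hreg _ rfl _

end Groth.Agent.S12482
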