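import Groth.Statements.S12485
import Groth.Agent.H41.DegOneMod
import Groth.Agent.H41.SymGraded2
import Groth.Agent.H41.PullTwist
import Groth.Agent.H41.RelProjExists
import Groth.Agent.H41.RelTwistExists
import Groth.Agent.H41.RelProjGlue
import Groth.Agent.H41.RelProjLib
import Groth.Agent.S8292

set_option autoImplicit false
universe u
open CategoryTheory CategoryTheory.Limits AlgebraicGeometry TopologicalSpace Opposite
open scoped HomogeneousIdeal
open EGA2

namespace Groth.Agent.S12485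

/-- Let q : X → Y be a morphism of schemes and L an invertible O_X-module. Suppose there are a
quasi-coherent graded O_Y-algebra 𝒮 generated by its degree-one part, its relative homogeneous
spectrum p : P = Proj(𝒮) → Y (given with its charts over affine opens) with twisting sheaf O_P(1)
(given with its chart identifications), and an immersion i : X → P with i ≫ p = q such that L is
isomorphic to i^*O_P(1). Then L is very ample relative to q: there are a quasi-coherent O_Y-module E
and a Y-immersion of X into the projective bundle P(E) along which O_{P(E)}(1) pulls back to a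
module isomorphic to L. -/
theorem result {X Y P : Scheme.{u}} (q : X ⟶ Y) (L : X.Modules)
    (hL : PicF.IsInvertible L) (𝒮 : RelProj.QCGrAlg Y) (h𝒮 : 𝒮.IsGenDegOne) (p : P ⟶ Y)
    (chart : ∀ (U : Y.Opens) (hU : IsAffineOpen U), ((p ⁻¹ᵁ U : P.Opens) : Scheme.{u}) ≅ Proj (𝒮.deg U hU))
    (hP : RelProj.IsRelProj 𝒮 p chart) (O1 : P.Modules)
    (lam : ∀ (U : Y.Opens) (hU : IsAffineOpen U),
      O1 ⟶ (Scheme.Modules.pushforward (RelProj.emb p chart U hU)).obj (GrTwist.twist (𝒮.deg U hU) 1))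
    (hO1 : RelProj.IsRelTwist 𝒮 p chart 1 O1 lam) (i : X ⟶ P) [IsImmersion i] (hi : i ≫ p = q)
    (e : L ≅ (Scheme.Modules.pullback i).obj O1) : RelProj.IsRelVeryAmple q L := by
  classical
  obtain ⟨E, hE, u, hu1, husurj⟩ := Groth.Agent.H41.DegOneMod.exists_degMod 𝒮 1
  have : E.IsQuasicoherent := hE
  obtain ⟨𝒯, jT, hT, hdeg⟩ := Groth.Agent.H41.SymGraded.exists_isGrSymAlg_deg E
  obtain ⟨ubar, hubar, hju⟩ := Groth.Agent.H41.SymGraded.exists_gradedHom 𝒯 jT hT hdeg 𝒮 u hu1
  have hirr := Groth.Agent.H41.SymGraded.irrelevant_le_map 𝒯 jT hT 𝒮 h𝒮 u husurj ubar hubar hju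
  have hgenT := Groth.Agent.H41.SymGraded.isGenDegOne_of_isGrSymAlg 𝒯 jT hT
  obtain ⟨PT, pT, chartT, hPT⟩ := Groth.Agent.H41.RelProjExists.exists_isRelProj 𝒯
  obtain ⟨OT, lamT, hOT⟩ := Groth.Agent.H41.RelTwistExists.exists_isRelTwist 𝒯 pT chartT hPT 1
  obtain ⟨h, hh, -⟩ := Groth.Agent.H41.RelProjLib.existsUnique_relProjMap ubar hubar hirr
    chartT chart hPT hP
  have hcomp : h ≫ pT = p := Groth.Agent.H41.RelProjLib.relProjMap_comp ubar hubar hirr pT p
    chartT chart hPT hP h hh
  have : IsClosedImmersion h := Groth.Agent.S8292.result 𝒮 𝒯 h𝒮 E hE u hu1 husurj jT hT ubar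
    hubar hju hirr pT p chartT chart hPT hP h hh
  obtain ⟨τ⟩ := Groth.Agent.H41.PullTwist.pullback_twist_iso ubar hubar hgenT hirr pT p chartT
    chart hPT hP h hh 1 OT lamT hOT O1 lam hO1
  refine ⟨E, hE, 𝒯, jT, hT, PT, pT, chartT, hPT, OT, lamT, hOT, i ≫ h, inferInstance, ?_, ⟨?_⟩⟩
  · rw [Category.assoc, hcomp, hi]
  · exact e ≪≫ (Scheme.Modules.pullback i).mapIso τ.symm ≪≫
      ((Scheme.Modules.pullbackComp i h).app OT)

end Groth.Agent.S12485
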