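import Groth.Statements.S12491
import Groth.Agent.H72.Syz

set_option autoImplicit false
universe u
open VBPn

namespace Groth.Agent.S12491

open Groth.Agent.H72.PdLocal Groth.Agent.H72.PdExt Groth.Agent.H72.Syz TensorProduct

/-- Let A be a regular local ring, k ≥ 0, and N_0, N_1, … A-modules with N_0 finitely generated and N_1,
…, N_k finitely generated and free, with linear maps d_i : N_i → N_{i+1} such that d_0 is injective
and the sequence 0 → N_0 → N_1 → ⋯ → N_k is exact. Then for every prime ideal p of A of height at
most k the localization of N_0 at p is a free module over A_p. The published statement is for a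
coherent analytic sheaf on a complex manifold that is locally a k-th syzygy sheaf and says its set
of non-free stalks has codimension greater than k; this row is the statement at one stalk, over any
regular local ring. -/
theorem result (A : Type u) [CommRing A] [IsRegularLocalRing A]
    (k : ℕ) (N : ℕ → Type u) [∀ i, AddCommGroup (N i)] [∀ i, Module A (N i)] [Module.Finite A (N 0)]
    (hfree : ∀ i, 1 ≤ i → i ≤ k → Module.Free A (N i) ∧ Module.Finite A (N i))
    (d : ∀ i, N i →ₗ[A] N (i + 1)) (hinj : Function.Injective (d 0))
    (hex : ∀ i, i + 1 < k → LinearMap.range (d i) = LinearMap.ker (d (i + 1)))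
    (p : Ideal A) [p.IsPrime] (hp : p.height ≤ k) :
    Module.Free (Localization.AtPrime p) (LocalizedModule p.primeCompl (N 0)) := by
  classical
  have hproj : Module.Projective (Localization.AtPrime p) (Localization.AtPrime p ⊗[A] N 0) := by
    rcases k with _ | k'
    · exact (pdLT_one_iff _).mp (pdLT_atPrime A p 0 hp (N 0))
    · have hF : ∀ j, j ≤ k' → Module.Projective A (N (j + 1)) := fun j hj => by
        have := (hfree (j + 1) (by omega) (by omega)).1
        infer_instance
      have hFk : Module.Finite A (N (k' + 1)) := (hfree (k' + 1) (by omega) (by omega)).2
      have htop : PdLT (Localization.AtPrime p)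
          (Localization.AtPrime p ⊗[A] LinearMap.range (d k')) (k' + 1) := by
        have hP : Module.Projective A (N (k' + 1)) := hF k' le_rfl
        have h1 := pdLT_atPrime A p (k' + 1) hp (N (k' + 1) ⧸ LinearMap.range (d k'))
        exact (pdLT_baseChange_succ_iff' (Localization.AtPrime p)
          (LinearMap.range (d k')).subtype (LinearMap.range (d k')).mkQ
          (Submodule.subtype_injective _) (LinearMap.exact_subtype_mkQ _)
          (Submodule.mkQ_surjective _) k').mp h1
      have hall : ∀ i j, i + j = k' → PdLT (Localization.AtPrime p)
          (Localization.AtPrime p ⊗[A] LinearMap.range (d j)) (j + 1) := by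
        intro i
        induction i with
        | zero =>
          intro j hj
          obtain rfl : j = k' := by omega
          exact htop
        | succ i ih =>
          intro j hj
          have hPj := ih (j + 1) (by omega)
          have hP : Module.Projective A (N (j + 1)) := hF j (by omega)
          have hexj : LinearMap.range (d j) = LinearMap.ker (d (j + 1)) := hex j (by omega)
          have hexact : Function.Exact (LinearMap.range (d j)).subtype
              (d (j + 1)).rangeRestrict := by
            rw [LinearMap.exact_iff, LinearMap.ker_rangeRestrict, Submodule.range_subtype]
            exact hexj.symm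
          exact (pdLT_baseChange_succ_iff' (Localization.AtPrime p)
            (LinearMap.range (d j)).subtype (d (j + 1)).rangeRestrict
            (Submodule.subtype_injective _) hexact (LinearMap.surjective_rangeRestrict _) j).mp hPj
      have h0 := hall k' 0 (by omega)
      have hZ0 : Module.Projective (Localization.AtPrime p)
          (Localization.AtPrime p ⊗[A] LinearMap.range (d 0)) := (pdLT_one_iff _).mp h0
      exact Module.Projective.of_equiv
        (TensorProduct.AlgebraTensorModule.congr
          (LinearEquiv.refl (Localization.AtPrime p) (Localization.AtPrime p))
          (LinearEquiv.ofInjective (d 0) hinj)).symm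
  have hprojL : Module.Projective (Localization.AtPrime p)
      (LocalizedModule p.primeCompl (N 0)) :=
    (projective_loc_iff p.primeCompl (N 0)).mpr hproj
  exact Module.free_of_flat_of_isLocalRing

end Groth.Agent.S12491
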