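import Groth.Statements.S12498
import Mathlib
-- import your own Groth.Agent.* helpers here

set_option autoImplicit false
universe u
open Deform

set_option linter.style.haveILetI false
set_option linter.unusedSectionVars false
set_option linter.unusedVariables false

namespace Groth.Agent.S12498

open TensorProduct

section
variable {k : Type u} [Field k] {A : Type u} [CommRing A] [Algebra k A] [IsLocalRing A]
variable {B : Type u} [CommRing B] [Algebra A B] [Algebra k B] [IsScalarTower k A B]

variable (A B) in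
/-- the extended maximal ideal -/
abbrev mB : Ideal B := (IsLocalRing.maximalIdeal A).map (algebraMap A B)

variable {t : A}

theorem t_mul_eq_zero_of_mem (htm : ∀ a ∈ IsLocalRing.maximalIdeal A, a * t = 0) {b : B}
    (hb : b ∈ mB A B) : algebraMap A B t * b = 0 := by
  refine Submodule.span_induction (p := fun x _ => algebraMap A B t * x = 0) ?_ ?_ ?_ ?_ hb
  · rintro x ⟨a, ha, rfl⟩
    rw [← map_mul, mul_comm, htm a ha, map_zero]
  · exact mul_zero _
  · intro x y _ _ hx hy
    rw [mul_add, hx, hy, add_zero]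
  · intro c x _ hx
    rw [smul_eq_mul, mul_left_comm, hx, mul_zero]

theorem mem_of_t_mul_eq_zero [Module.Flat A B] (ht0 : t ≠ 0)
    (htm : ∀ a ∈ IsLocalRing.maximalIdeal A, a * t = 0) {b : B}
    (hb : algebraMap A B t * b = 0) : b ∈ mB A B := by
  let f : IsLocalRing.maximalIdeal A →ₗ[A] A := (IsLocalRing.maximalIdeal A).subtype
  let g : A →ₗ[A] A := LinearMap.toSpanSingleton A A t
  have hg : ∀ a, g a = a * t := fun a => rfl
  have hex : Function.Exact f g := by
    intro a
    constructor
    · intro ha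
      rw [hg] at ha
      have hmem : a ∈ IsLocalRing.maximalIdeal A := by
        by_contra hna
        have hu : IsUnit a := by
          rwa [IsLocalRing.mem_maximalIdeal, mem_nonunits_iff, not_not] at hna
        exact ht0 ((hu.mul_right_eq_zero).mp ha)
      exact ⟨⟨a, hmem⟩, rfl⟩
    · rintro ⟨x, rfl⟩
      rw [hg]
      exact htm x.1 x.2
  have hex' := Module.Flat.lTensor_exact B hex
  have h1 : (g.lTensor B) (b ⊗ₜ[A] (1 : A)) = 0 := by
    rw [LinearMap.lTensor_tmul, hg, one_mul]
    have h2 : b ⊗ₜ[A] t = (t • b) ⊗ₜ[A] (1 : A) := by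
      rw [TensorProduct.smul_tmul, smul_eq_mul, mul_one]
    rw [h2, Algebra.smul_def, hb, TensorProduct.zero_tmul]
  obtain ⟨y, hy⟩ := (hex' _).mp h1
  have h2 : ∀ y : B ⊗[A] IsLocalRing.maximalIdeal A,
      TensorProduct.rid A B ((f.lTensor B) y) ∈ mB A B := by
    intro y
    induction y using TensorProduct.induction_on with
    | zero => rw [map_zero, map_zero]; exact Ideal.zero_mem _
    | tmul c a =>
      rw [LinearMap.lTensor_tmul, TensorProduct.rid_tmul, Algebra.smul_def]
      exact Ideal.mul_mem_right _ _ (Ideal.mem_map_of_mem _ a.2)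
    | add y₁ y₂ h₁ h₂ => rw [map_add, map_add]; exact Ideal.add_mem _ h₁ h₂
  have h3 := h2 y
  rw [hy, TensorProduct.rid_tmul, one_smul] at h3
  exact h3

theorem t_mul_eq_iff [Module.Flat A B] (ht0 : t ≠ 0)
    (htm : ∀ a ∈ IsLocalRing.maximalIdeal A, a * t = 0) (b' b'' : B) :
    algebraMap A B t * b' = algebraMap A B t * b'' ↔
      Ideal.Quotient.mk (mB A B) b' = Ideal.Quotient.mk (mB A B) b'' := by
  rw [Ideal.Quotient.eq, ← sub_eq_zero, ← mul_sub]
  exact ⟨mem_of_t_mul_eq_zero ht0 htm, t_mul_eq_zero_of_mem htm⟩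

theorem tB_sq (ht : t ∈ IsLocalRing.maximalIdeal A)
    (htm : ∀ a ∈ IsLocalRing.maximalIdeal A, a * t = 0) :
    algebraMap A B t * algebraMap A B t = 0 := by
  rw [← map_mul, htm t ht, map_zero]

theorem tB_mem (ht : t ∈ IsLocalRing.maximalIdeal A) : algebraMap A B t ∈ mB A B :=
  Ideal.mem_map_of_mem _ ht

theorem alg_smul (f : B →ₐ[A] B) (c : k) (b : B) : f (c • b) = c • f b := by
  rw [← algebraMap_smul A c b, map_smul, algebraMap_smul]

theorem mk_smul (c : k) (b : B) :
    Ideal.Quotient.mk (mB A B) (c • b) = c • Ideal.Quotient.mk (mB A B) b := rfl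

theorem mk_tB_mul (ht : t ∈ IsLocalRing.maximalIdeal A) (b : B) :
    Ideal.Quotient.mk (mB A B) (algebraMap A B t * b) = 0 :=
  Ideal.Quotient.eq_zero_iff_mem.mpr (Ideal.mul_mem_right _ _ (tB_mem ht))

/-! ### Part 1: from a pair of lifts to a derivation -/

section part1
variable [Module.Flat A B] (ht : t ∈ IsLocalRing.maximalIdeal A) (ht0 : t ≠ 0)
  (htm : ∀ a ∈ IsLocalRing.maximalIdeal A, a * t = 0)
  (η τ : B →ₐ[A] B) (hR : ∀ b, ∃ b', η b = τ b + algebraMap A B t * b')
  (hτ0 : ∀ b : B, τ b - b ∈ mB A B)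

include htm hR in
theorem eq_on_mB : ∀ x ∈ mB A B, η x = τ x := by
  intro x hx
  have key : ∀ c : B, η (c * x) = τ (c * x) := by
    refine Submodule.span_induction (p := fun x _ => ∀ c : B, η (c * x) = τ (c * x))
      ?_ ?_ ?_ ?_ hx
    · rintro x ⟨a, ha, rfl⟩ c
      obtain ⟨c', hc'⟩ := hR c
      rw [mul_comm c, ← Algebra.smul_def, map_smul, map_smul, hc', smul_add, Algebra.smul_def a
        (algebraMap A B t * c'), ← mul_assoc, ← map_mul, htm a ha, map_zero, zero_mul, add_zero]
    · intro c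
      rw [mul_zero, map_zero, map_zero]
    · intro x y _ _ hx hy c
      rw [mul_add, map_add, map_add, hx, hy]
    · intro c' x _ hx c
      rw [smul_eq_mul, ← mul_assoc]
      exact hx _
  have := key 1
  rwa [one_mul] at this

/-- the function underlying the derivation -/
noncomputable def dfun (β : B ⧸ mB A B) : B ⧸ mB A B :=
  Ideal.Quotient.mk (mB A B) (hR (Ideal.Quotient.mk_surjective β).choose).choose

include ht0 htm in
theorem dfun_eq {b b' : B} (h : η b = τ b + algebraMap A B t * b') :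
    dfun η τ hR (Ideal.Quotient.mk (mB A B) b) = Ideal.Quotient.mk (mB A B) b' := by
  set b₀ := (Ideal.Quotient.mk_surjective (Ideal.Quotient.mk (mB A B) b)).choose with hb₀
  have hb₀' : Ideal.Quotient.mk (mB A B) b₀ = Ideal.Quotient.mk (mB A B) b :=
    (Ideal.Quotient.mk_surjective (Ideal.Quotient.mk (mB A B) b)).choose_spec
  have h0 := (hR b₀).choose_spec
  show Ideal.Quotient.mk (mB A B) (hR b₀).choose = _
  set b₀' := (hR b₀).choose
  have hmem : b - b₀ ∈ mB A B := Ideal.Quotient.eq.mp hb₀'.symm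
  have h1 := eq_on_mB htm η τ hR _ hmem
  rw [map_sub, map_sub, h, h0] at h1
  have h2 : algebraMap A B t * b₀' = algebraMap A B t * b' := by
    have h3 : algebraMap A B t * b' - algebraMap A B t * b₀' = 0 := by
      have h4 : τ b + algebraMap A B t * b' - (τ b₀ + algebraMap A B t * b₀') - (τ b - τ b₀) = 0 :=
        sub_eq_zero.mpr h1
      rw [← h4]; ring
    exact (sub_eq_zero.mp h3).symm
  exact (t_mul_eq_iff ht0 htm _ _).mp h2

include hτ0 in
theorem mk_τ (b : B) : Ideal.Quotient.mk (mB A B) (τ b) = Ideal.Quotient.mk (mB A B) b :=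
  Ideal.Quotient.eq.mpr (hτ0 b)

/-- the derivation attached to two lifts -/
noncomputable def dDer : Derivation k (B ⧸ mB A B) (B ⧸ mB A B) where
  toLinearMap :=
    { toFun := dfun η τ hR
      map_add' := by
        intro β₁ β₂
        obtain ⟨b₁, rfl⟩ := Ideal.Quotient.mk_surjective β₁
        obtain ⟨b₂, rfl⟩ := Ideal.Quotient.mk_surjective β₂
        obtain ⟨b₁', h₁⟩ := hR b₁
        obtain ⟨b₂', h₂⟩ := hR b₂
        have h : η (b₁ + b₂) = τ (b₁ + b₂) + algebraMap A B t * (b₁' + b₂') := by
          rw [map_add, map_add, h₁, h₂]; ring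
        rw [← map_add, dfun_eq ht0 htm η τ hR h, dfun_eq ht0 htm η τ hR h₁,
          dfun_eq ht0 htm η τ hR h₂, map_add]
      map_smul' := by
        intro c β
        obtain ⟨b, rfl⟩ := Ideal.Quotient.mk_surjective β
        obtain ⟨b', h₁⟩ := hR b
        have h : η (c • b) = τ (c • b) + algebraMap A B t * (c • b') := by
          rw [alg_smul, alg_smul, h₁, smul_add, mul_smul_comm]
        rw [← mk_smul, dfun_eq ht0 htm η τ hR h, dfun_eq ht0 htm η τ hR h₁, RingHom.id_apply,
          mk_smul] }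
  map_one_eq_zero' := by
    have h : η 1 = τ 1 + algebraMap A B t * 0 := by rw [map_one, map_one, mul_zero, add_zero]
    have := dfun_eq ht0 htm η τ hR h
    rw [map_one, map_zero] at this
    exact this
  leibniz' := by
    intro β₁ β₂
    obtain ⟨b₁, rfl⟩ := Ideal.Quotient.mk_surjective β₁
    obtain ⟨b₂, rfl⟩ := Ideal.Quotient.mk_surjective β₂
    obtain ⟨b₁', h₁⟩ := hR b₁
    obtain ⟨b₂', h₂⟩ := hR b₂
    have h : η (b₁ * b₂) = τ (b₁ * b₂) + algebraMap A B t * (τ b₁ * b₂' + τ b₂ * b₁') := by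
      rw [map_mul, map_mul, h₁, h₂]
      have hsq := tB_sq (B := B) ht htm
      linear_combination (b₁' * b₂') * hsq
    show dfun η τ hR (Ideal.Quotient.mk (mB A B) b₁ * Ideal.Quotient.mk (mB A B) b₂) =
      Ideal.Quotient.mk (mB A B) b₁ • dfun η τ hR (Ideal.Quotient.mk (mB A B) b₂) +
        Ideal.Quotient.mk (mB A B) b₂ • dfun η τ hR (Ideal.Quotient.mk (mB A B) b₁)
    rw [← map_mul, dfun_eq ht0 htm η τ hR h, dfun_eq ht0 htm η τ hR h₁,
      dfun_eq ht0 htm η τ hR h₂, map_add, map_mul, map_mul, mk_τ τ hτ0, mk_τ τ hτ0,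
      smul_eq_mul, smul_eq_mul]

theorem dDer_apply {b b' : B} (h : η b = τ b + algebraMap A B t * b') :
    dDer (k := k) ht ht0 htm η τ hR hτ0 (Ideal.Quotient.mk (mB A B) b) =
      Ideal.Quotient.mk (mB A B) b' :=
  dfun_eq ht0 htm η τ hR h

end part1

/-! ### Part 2: from a derivation to a lift -/

section part2
variable [Module.Flat A B] (ht : t ∈ IsLocalRing.maximalIdeal A) (ht0 : t ≠ 0)
  (htm : ∀ a ∈ IsLocalRing.maximalIdeal A, a * t = 0)
  (hres : ∀ a : A, ∃ c : k, a - algebraMap k A c ∈ IsLocalRing.maximalIdeal A)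
  (τ : B →ₐ[A] B) (hτ0 : ∀ b : B, τ b - b ∈ mB A B)
  (d : Derivation k (B ⧸ mB A B) (B ⧸ mB A B))

/-- a set-theoretic section of the reduction -/
noncomputable def sec (β : B ⧸ mB A B) : B := (Ideal.Quotient.mk_surjective β).choose

theorem mk_sec (β : B ⧸ mB A B) : Ideal.Quotient.mk (mB A B) (sec (A := A) β) = β :=
  (Ideal.Quotient.mk_surjective β).choose_spec

/-- the underlying function of the lift -/
noncomputable def ηfun (b : B) : B :=
  τ b + algebraMap A B t * sec (A := A) (d (Ideal.Quotient.mk (mB A B) b))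

include ht0 htm in
theorem ηfun_eq {b b' : B}
    (h : Ideal.Quotient.mk (mB A B) b' = d (Ideal.Quotient.mk (mB A B) b)) :
    ηfun (t := t) τ d b = τ b + algebraMap A B t * b' := by
  unfold ηfun
  congr 1
  refine (t_mul_eq_iff ht0 htm _ _).mpr ?_
  rw [mk_sec, h]

include hres in
theorem d_mk_algebraMap (a : A) : d (Ideal.Quotient.mk (mB A B) (algebraMap A B a)) = 0 := by
  obtain ⟨c, hc⟩ := hres a
  have h1 : Ideal.Quotient.mk (mB A B) (algebraMap A B a) =
      algebraMap k (B ⧸ mB A B) c := by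
    have h2 : algebraMap A B a - algebraMap k B c ∈ mB A B := by
      rw [IsScalarTower.algebraMap_apply k A B, ← map_sub]
      exact Ideal.mem_map_of_mem _ hc
    rw [Ideal.Quotient.eq.mpr h2]
    rfl
  rw [h1, Derivation.map_algebraMap]

/-- the lift as an algebra hom -/
noncomputable def ηHom : B →ₐ[A] B where
  toFun := ηfun (t := t) τ d
  map_one' := by
    show ηfun (t := t) τ d 1 = 1
    rw [ηfun_eq ht0 htm τ d (b := 1) (b' := 0) (by rw [map_one, map_zero, Derivation.map_one_eq_zero]),
      map_one, mul_zero, add_zero]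
  map_mul' := by
    intro b₁ b₂
    show ηfun (t := t) τ d (b₁ * b₂) = ηfun (t := t) τ d b₁ * ηfun (t := t) τ d b₂
    have h1 := ηfun_eq ht0 htm τ d (b := b₁) (mk_sec (A := A) _)
    have h2 := ηfun_eq ht0 htm τ d (b := b₂) (mk_sec (A := A) _)
    have h : Ideal.Quotient.mk (mB A B)
        (τ b₁ * sec (A := A) (d (Ideal.Quotient.mk (mB A B) b₂)) +
          τ b₂ * sec (A := A) (d (Ideal.Quotient.mk (mB A B) b₁))) =
        d (Ideal.Quotient.mk (mB A B) (b₁ * b₂)) := by
      rw [map_add, map_mul, map_mul, mk_sec, mk_sec, mk_τ τ hτ0, mk_τ τ hτ0, map_mul,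
        Derivation.leibniz, smul_eq_mul, smul_eq_mul]
    rw [ηfun_eq ht0 htm τ d h, h1, h2, map_mul]
    have hsq := tB_sq (B := B) ht htm
    linear_combination (-(sec (A := A) (d (Ideal.Quotient.mk (mB A B) b₁)) *
      sec (A := A) (d (Ideal.Quotient.mk (mB A B) b₂)))) * hsq
  map_zero' := by
    show ηfun (t := t) τ d 0 = 0
    rw [ηfun_eq ht0 htm τ d (b := 0) (b' := 0) (by rw [map_zero, map_zero]), map_zero, mul_zero,
      add_zero]
  map_add' := by
    intro b₁ b₂
    show ηfun (t := t) τ d (b₁ + b₂) = ηfun (t := t) τ d b₁ + ηfun (t := t) τ d b₂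
    have h1 := ηfun_eq ht0 htm τ d (b := b₁) (mk_sec (A := A) _)
    have h2 := ηfun_eq ht0 htm τ d (b := b₂) (mk_sec (A := A) _)
    have h : Ideal.Quotient.mk (mB A B)
        (sec (A := A) (d (Ideal.Quotient.mk (mB A B) b₁)) +
          sec (A := A) (d (Ideal.Quotient.mk (mB A B) b₂))) =
        d (Ideal.Quotient.mk (mB A B) (b₁ + b₂)) := by
      rw [map_add, mk_sec, mk_sec, map_add, map_add]
    rw [ηfun_eq ht0 htm τ d h, h1, h2, map_add]
    ring
  commutes' := by
    intro a
    show ηfun (t := t) τ d (algebraMap A B a) = algebraMap A B a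
    rw [ηfun_eq ht0 htm τ d (b := algebraMap A B a) (b' := 0)
      (by rw [map_zero, d_mk_algebraMap hres d a]), mul_zero, add_zero, AlgHom.commutes]

theorem ηHom_apply {b b' : B}
    (h : Ideal.Quotient.mk (mB A B) b' = d (Ideal.Quotient.mk (mB A B) b)) :
    ηHom ht ht0 htm hres τ hτ0 d b = τ b + algebraMap A B t * b' :=
  ηfun_eq ht0 htm τ d h

theorem ηHom_bijective (hτ : Function.Bijective τ) :
    Function.Bijective (ηHom ht ht0 htm hres τ hτ0 d) := by
  constructor
  · rw [injective_iff_map_eq_zero]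
    intro b hb
    have h1 := ηHom_apply ht ht0 htm hres τ hτ0 d (b := b) (mk_sec (A := A) _)
    rw [hb] at h1
    -- τ b = - t * s
    obtain ⟨c, hc⟩ := hτ.2 (sec (A := A) (d (Ideal.Quotient.mk (mB A B) b)))
    have h2 : τ (b + algebraMap A B t * c) = 0 := by
      rw [map_add, map_mul, AlgHom.commutes, hc]
      exact h1.symm
    have h3 : b + algebraMap A B t * c = 0 := hτ.1 (h2.trans (map_zero τ).symm)
    have h4 : Ideal.Quotient.mk (mB A B) b = 0 := by
      have : b = algebraMap A B t * (-c) := by linear_combination h3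
      rw [this]
      exact mk_tB_mul ht _
    have h5 := ηHom_apply ht ht0 htm hres τ hτ0 d (b := b) (b' := 0)
      (by rw [h4, map_zero, map_zero])
    rw [hb, mul_zero, add_zero] at h5
    exact hτ.1 (h5.symm.trans (map_zero τ).symm)
  · intro y
    obtain ⟨b, hb⟩ := hτ.2 y
    obtain ⟨c, hc⟩ := hτ.2 (sec (A := A) (d (Ideal.Quotient.mk (mB A B) b)))
    refine ⟨b - algebraMap A B t * c, ?_⟩
    have h1 : Ideal.Quotient.mk (mB A B) (b - algebraMap A B t * c) =
        Ideal.Quotient.mk (mB A B) b := by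
      rw [map_sub, mk_tB_mul ht, sub_zero]
    rw [ηHom_apply ht ht0 htm hres τ hτ0 d (b := b - algebraMap A B t * c)
      (b' := sec (A := A) (d (Ideal.Quotient.mk (mB A B) b))) (by rw [mk_sec, h1]),
      map_sub, map_mul, AlgHom.commutes, hc, hb]
    ring

end part2

end


/-- Let k be an algebraically closed field, A a local Artinian k-algebra with residue field k, and t a
nonzero element of the maximal ideal m_A annihilated by m_A, so that A → A/tA is a small extension.
Let B be a flat A-algebra (a deformation over A of its closed fibre B_0 = B/m_A B), and σ an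
A-algebra automorphism of B/tB inducing the identity on B_0. Fix an A-algebra automorphism τ of B
inducing σ (so τ induces the identity on B_0). Then the A-algebra automorphisms η of B inducing σ
correspond bijectively to the k-derivations d of B_0 through the rule η = τ + t·d, meaning η(b) =
τ(b) + t b′ for all b ∈ B and all b′ ∈ B lifting d applied to the image of b in B_0: every such η
determines a unique d, and every d comes from some such η. (The published statement phrases the
conclusion as a free and transitive action of Der_k(B_0, B_0) on the nonempty set of lifts of σ; the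
condition that σ induces the identity on B_0 is expressed here through the chosen lift τ.) -/
theorem result
    {k : Type u} [Field k] [IsAlgClosed k]
    {A : Type u} [CommRing A] [Algebra k A] [IsLocalRing A] [IsArtinianRing A]
    (hres : ∀ a : A, ∃ c : k, a - algebraMap k A c ∈ IsLocalRing.maximalIdeal A)
    (t : A) (ht : t ∈ IsLocalRing.maximalIdeal A) (ht0 : t ≠ 0)
    (htm : ∀ a ∈ IsLocalRing.maximalIdeal A, a * t = 0)
    {B : Type u} [CommRing B] [Algebra A B] [Module.Flat A B] [Algebra k B] [IsScalarTower k A B]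
    (σ : (B ⧸ Ideal.span {algebraMap A B t}) ≃ₐ[A] (B ⧸ Ideal.span {algebraMap A B t}))
    (τ : B ≃ₐ[A] B)
    (hτ : ∀ b : B, Ideal.Quotient.mk (Ideal.span {algebraMap A B t}) (τ b) =
      σ (Ideal.Quotient.mk (Ideal.span {algebraMap A B t}) b))
    (hτ0 : ∀ b : B, τ b - b ∈ (IsLocalRing.maximalIdeal A).map (algebraMap A B)) :
    (∀ η : B ≃ₐ[A] B, (∀ b : B, Ideal.Quotient.mk (Ideal.span {algebraMap A B t}) (η b) =
        σ (Ideal.Quotient.mk (Ideal.span {algebraMap A B t}) b)) →
      ∃! d : Derivation k (B ⧸ (IsLocalRing.maximalIdeal A).map (algebraMap A B))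
          (B ⧸ (IsLocalRing.maximalIdeal A).map (algebraMap A B)),
        ∀ b b' : B, Ideal.Quotient.mk ((IsLocalRing.maximalIdeal A).map (algebraMap A B)) b' =
            d (Ideal.Quotient.mk ((IsLocalRing.maximalIdeal A).map (algebraMap A B)) b) →
          η b = τ b + algebraMap A B t * b') ∧
    (∀ d : Derivation k (B ⧸ (IsLocalRing.maximalIdeal A).map (algebraMap A B))
        (B ⧸ (IsLocalRing.maximalIdeal A).map (algebraMap A B)),
      ∃ η : B ≃ₐ[A] B, (∀ b : B, Ideal.Quotient.mk (Ideal.span {algebraMap A B t}) (η b) =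
          σ (Ideal.Quotient.mk (Ideal.span {algebraMap A B t}) b)) ∧
        ∀ b b' : B, Ideal.Quotient.mk ((IsLocalRing.maximalIdeal A).map (algebraMap A B)) b' =
            d (Ideal.Quotient.mk ((IsLocalRing.maximalIdeal A).map (algebraMap A B)) b) →
          η b = τ b + algebraMap A B t * b') := by
  have hτ0' : ∀ b : B, (τ : B →ₐ[A] B) b - b ∈ mB A B := hτ0
  have hlift : ∀ (η : B ≃ₐ[A] B),
      (∀ b : B, Ideal.Quotient.mk (Ideal.span {algebraMap A B t}) (η b) =
        σ (Ideal.Quotient.mk (Ideal.span {algebraMap A B t}) b)) →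
      ∀ b, ∃ b', (η : B →ₐ[A] B) b = (τ : B →ₐ[A] B) b + algebraMap A B t * b' := by
    intro η hη b
    have h1 : Ideal.Quotient.mk (Ideal.span {algebraMap A B t}) (η b) =
        Ideal.Quotient.mk (Ideal.span {algebraMap A B t}) (τ b) := by rw [hη, hτ]
    have h2 : η b - τ b ∈ Ideal.span {algebraMap A B t} := Ideal.Quotient.eq.mp h1
    obtain ⟨a, ha⟩ := Ideal.mem_span_singleton'.mp h2
    refine ⟨a, ?_⟩
    show η b = τ b + algebraMap A B t * a
    linear_combination -ha
  constructor
  · intro η hη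
    have hR := hlift η hη
    refine ⟨dDer ht ht0 htm (η : B →ₐ[A] B) (τ : B →ₐ[A] B) hR hτ0', ?_, ?_⟩
    · intro b b' h
      obtain ⟨b'', hb''⟩ := hR b
      have h1 := dDer_apply (k := k) ht ht0 htm (η : B →ₐ[A] B) (τ : B →ₐ[A] B) hR hτ0' hb''
      rw [h1] at h
      have h2 := (t_mul_eq_iff ht0 htm b' b'').mpr h
      rw [h2]
      exact hb''
    · intro d₂ hd₂
      ext β
      obtain ⟨b, rfl⟩ := Ideal.Quotient.mk_surjective β
      obtain ⟨b₂', hb₂'⟩ := Ideal.Quotient.mk_surjective
        (d₂ (Ideal.Quotient.mk ((IsLocalRing.maximalIdeal A).map (algebraMap A B)) b))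
      have h1 := hd₂ b b₂' hb₂'
      have h2 := dDer_apply (k := k) ht ht0 htm (η : B →ₐ[A] B) (τ : B →ₐ[A] B) hR hτ0'
        (b := b) (b' := b₂') h1
      rw [h2]
      exact hb₂'.symm
  · intro d
    have hτbij : Function.Bijective (τ : B →ₐ[A] B) := τ.bijective
    refine ⟨AlgEquiv.ofBijective (ηHom ht ht0 htm hres (τ : B →ₐ[A] B) hτ0' d)
      (ηHom_bijective ht ht0 htm hres _ hτ0' d hτbij), ?_, ?_⟩
    · intro b
      show Ideal.Quotient.mk (Ideal.span {algebraMap A B t})
        (ηHom ht ht0 htm hres (τ : B →ₐ[A] B) hτ0' d b) = _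
      rw [ηHom_apply ht ht0 htm hres (τ : B →ₐ[A] B) hτ0' d (b := b) (mk_sec (A := A) _),
        map_add, ← hτ,
        Ideal.Quotient.eq_zero_iff_mem.mpr (Ideal.mul_mem_right _ _ (Ideal.mem_span_singleton_self (algebraMap A B t))),
        add_zero]
      rfl
    · intro b b' h
      exact ηHom_apply ht ht0 htm hres (τ : B →ₐ[A] B) hτ0' d h

end Groth.Agent.S12498
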