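import Groth.Statements.S1250
import Groth.Agent.H99.FlatTr3

set_option autoImplicit false
set_option linter.style.haveILetI false
universe u
open FlatMor

namespace Groth.Agent.S1250

open Groth.Agent.H99.FlatTr1 Groth.Agent.H99.FlatTr2 Groth.Agent.H99.FlatTr3

/-- Given an elementary dévissage E of N at q over p in dimension n, the following are equivalent: N_q
is flat over R; G_z is flat over R'; G_y (G viewed as a D-module) is flat over R'. Also equivalent
to each other: N becomes flat over R on some basic open D(g) ∋ q of Spec S; G becomes flat over R'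
on some basic open of Spec C containing z; G as a D-module becomes flat over R' on some basic open
of Spec D containing y. -/
theorem result {R S : Type u} [CommRing R] [CommRing S] [Algebra R S] [Algebra.FiniteType R S]
    (N : Type u) [AddCommGroup N] [Module S N] [Module R N] [IsScalarTower R S N] [Module.Finite S N]
    (p : Ideal R) [p.IsPrime] (q : Ideal S) [q.IsPrime] [q.LiesOver p] (n : ℕ) (E : FlatCA.ElemDevissage R S N p q n) :
    [FlatCA.FlatAt R q N, FlatCA.FlatAt E.R' E.z E.G, FlatCA.FlatAt E.R' E.y E.G].TFAE ∧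
    [∃ g : S, g ∉ q ∧ Module.Flat R (LocalizedModule (Submonoid.powers g) N),
     ∃ g : E.C, g ∉ E.z ∧ Module.Flat E.R' (LocalizedModule (Submonoid.powers g) E.G),
     ∃ g : E.D, g ∉ E.y ∧ Module.Flat E.R' (LocalizedModule (Submonoid.powers g) E.G)].TFAE := by
  obtain ⟨hEtR, -⟩ := E.etaleR
  obtain ⟨hEtS, hover, -⟩ := E.etaleS
  haveI := hEtR
  haveI := hEtS
  letI mSG : Module S E.G := Module.compHom E.G (algebraMap S E.S')
  haveI tSS'G : IsScalarTower S E.S' E.G := IsScalarTower.of_algebraMap_smul fun _ _ => rfl
  letI mRG : Module R E.G := Module.compHom E.G (algebraMap R E.R')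
  haveI tRR'G : IsScalarTower R E.R' E.G := IsScalarTower.of_algebraMap_smul fun _ _ => rfl
  haveI tR'S'G : IsScalarTower E.R' E.S' E.G := IsScalarTower.of_algebraMap_smul fun r g => by
    rw [← algebraMap_smul E.C (algebraMap E.R' E.S' r) g, ← IsScalarTower.algebraMap_apply,
      algebraMap_smul]
  haveI tRS'G : IsScalarTower R E.S' E.G := IsScalarTower.of_algebraMap_smul fun r g => by
    rw [IsScalarTower.algebraMap_apply R E.R' E.S', algebraMap_smul, algebraMap_smul]
  haveI tRSG : IsScalarTower R S E.G := IsScalarTower.of_algebraMap_smul fun r g => by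
    change algebraMap S E.S' (algebraMap R S r) • g = r • g
    rw [← IsScalarTower.algebraMap_apply, algebraMap_smul]
  let φ : N →ₗ[S] E.G := (E.iso.restrictScalars S).toLinearMap ∘ₗ E.f
  have hφ : IsBaseChange E.S' φ :=
    IsBaseChange.of_equiv (E.isBaseChange.equiv.trans E.iso)
      (fun x => by simp [φ, IsBaseChange.equiv_tmul])
  have hqq' : E.q'.comap (algebraMap S E.S') = q := hover.over.symm
  have hzq' : E.z.comap (algebraMap E.S' E.C) = E.q' := E.zOver.over.symm
  have hzy : E.z.comap (algebraMap E.D E.C) = E.y := E.zOverY.over.symm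
  haveI : Module.Finite E.D E.C := E.finiteDC
  haveI : Algebra.IsIntegral E.D E.C := inferInstance
  have huniq : ∀ (z₁ : Ideal E.C) [z₁.IsPrime],
      z₁.comap (algebraMap E.D E.C) = E.y → z₁ = E.z := fun z₁ _ h => E.uniq z₁ ⟨h.symm⟩
  constructor
  · unfold FlatCA.FlatAt
    tfae_have 1 → 2 := fun h => by
      have h1 : Module.Flat R (LocalizedModule E.q'.primeCompl E.G) :=
        flat_baseChange hφ q.primeCompl E.q'.primeCompl
          (fun t ht hmem => ht (by rw [← hqq']; exact hmem)) h
      have h2 : Module.Flat E.R' (LocalizedModule E.q'.primeCompl E.G) :=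
        (flat_iff_of_etale R E.R' _).mpr h1
      exact flat_prime_of_algebraMap E.G E.q' E.z hzq' h2
    tfae_have 2 → 3 := fun h => flat_prime_of_unique E.G E.y E.z huniq h
    tfae_have 3 → 2 := fun h => flat_prime_of_algebraMap E.G E.y E.z hzy h
    tfae_have 2 → 1 := fun h => by
      have h2 : Module.Flat E.R' (LocalizedModule E.q'.primeCompl E.G) :=
        flat_prime_of_surjective E.G E.surjC E.q' E.z hzq' h
      have h1 : Module.Flat R (LocalizedModule E.q'.primeCompl E.G) :=
        (flat_iff_of_etale R E.R' _).mp h2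
      exact flat_descent hφ q E.q' (fun a ha => by rw [← hqq'] at ha; exact ha) h1
    tfae_finish
  · tfae_have 1 → 2 := by
      rintro ⟨g, hg, h⟩
      have h1 : Module.Flat R (LocalizedModule (Submonoid.powers (algebraMap S E.S' g)) E.G) :=
        flat_powers_baseChange hφ g h
      have h2 : Module.Flat E.R'
          (LocalizedModule (Submonoid.powers (algebraMap S E.S' g)) E.G) :=
        (flat_iff_of_etale R E.R' _).mpr h1
      refine ⟨algebraMap E.S' E.C (algebraMap S E.S' g), ?_, flat_powers_of_algebraMap E.G _ h2⟩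
      intro hmem
      apply hg
      rw [← hqq', ← hzq']
      exact hmem
    tfae_have 2 → 3 := by
      rintro ⟨c, hc, h⟩
      obtain ⟨d, hd, c', hdc⟩ := exists_dvd_of_unique E.y E.z huniq c hc
      exact ⟨d, hd, flat_powers_of_dvd E.G d c c' hdc h⟩
    tfae_have 3 → 2 := by
      rintro ⟨d, hd, h⟩
      refine ⟨algebraMap E.D E.C d, ?_, flat_powers_of_algebraMap E.G d h⟩
      intro hmem
      apply hd
      rw [← hzy]
      exact hmem
    tfae_have 2 → 1 := by
      rintro ⟨c, hc, h⟩
      obtain ⟨s', rfl⟩ := E.surjC c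
      have hs' : s' ∉ E.q' := by
        intro hmem
        apply hc
        rw [← hzq'] at hmem
        exact hmem
      have h2 : Module.Flat E.R' (LocalizedModule (Submonoid.powers s') E.G) :=
        flat_powers_of_algebraMap' E.G s' h
      have h1 := (flat_iff_of_etale R E.R' _).mp h2
      exact flat_powers_descent hφ q E.q' hqq' s' hs' h1
    tfae_finish

end Groth.Agent.S1250
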