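import Groth.Statements.S1251
import Groth.Agent.H99.FPTr3

set_option autoImplicit false
set_option linter.style.haveILetI false
universe u
open FlatMor

namespace Groth.Agent.S1251

open Groth.Agent.H99.FPTr1 Groth.Agent.H99.FPTr2 Groth.Agent.H99.FPTr3 Groth.Agent.H99.FlatTr3

/-- Given an elementary dévissage E of N at q over p in dimension n, with S of finite presentation over
R: the finite map D → C is of finite presentation; the following are equivalent: N_q is a finitely
presented S_q-module; G_z is a finitely presented C_z-module; G_y is a finitely presented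
D_y-module. Also equivalent to each other: N is finitely presented on some basic open of Spec S
containing q; G is finitely presented on some basic open of Spec C containing z; G as a D-module is
finitely presented on some basic open of Spec D containing y. -/
theorem result {R S : Type u} [CommRing R] [CommRing S] [Algebra R S] [Algebra.FinitePresentation R S]
    (N : Type u) [AddCommGroup N] [Module S N] [Module R N] [IsScalarTower R S N] [Module.Finite S N]
    (p : Ideal R) [p.IsPrime] (q : Ideal S) [q.IsPrime] [q.LiesOver p] (n : ℕ) (E : FlatCA.ElemDevissage R S N p q n) :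
    Algebra.FinitePresentation E.D E.C ∧
    [Module.FinitePresentation (Localization.AtPrime q) (LocalizedModule q.primeCompl N),
     Module.FinitePresentation (Localization.AtPrime E.z) (LocalizedModule E.z.primeCompl E.G),
     Module.FinitePresentation (Localization.AtPrime E.y) (LocalizedModule E.y.primeCompl E.G)].TFAE ∧
    [∃ g : S, g ∉ q ∧ Module.FinitePresentation (Localization.Away g) (LocalizedModule (Submonoid.powers g) N),
     ∃ g : E.C, g ∉ E.z ∧ Module.FinitePresentation (Localization.Away g) (LocalizedModule (Submonoid.powers g) E.G),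
     ∃ g : E.D, g ∉ E.y ∧ Module.FinitePresentation (Localization.Away g) (LocalizedModule (Submonoid.powers g) E.G)].TFAE := by
  obtain ⟨hEtR, -⟩ := E.etaleR
  obtain ⟨hEtS, hover, -⟩ := E.etaleS
  haveI := hEtR
  haveI := hEtS
  letI mSG : Module S E.G := Module.compHom E.G (algebraMap S E.S')
  haveI tSS'G : IsScalarTower S E.S' E.G := IsScalarTower.of_algebraMap_smul fun _ _ => rfl
  let φ : N →ₗ[S] E.G := (E.iso.restrictScalars S).toLinearMap ∘ₗ E.f
  have hφ : IsBaseChange E.S' φ :=
    IsBaseChange.of_equiv (E.isBaseChange.equiv.trans E.iso)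
      (fun x => by simp [φ, IsBaseChange.equiv_tmul])
  have hqq' : E.q'.comap (algebraMap S E.S') = q := hover.over.symm
  have hzq' : E.z.comap (algebraMap E.S' E.C) = E.q' := E.zOver.over.symm
  have hzy : E.z.comap (algebraMap E.D E.C) = E.y := E.zOverY.over.symm
  haveI : Module.Finite E.D E.C := E.finiteDC
  haveI : Algebra.IsIntegral E.D E.C := inferInstance
  have huniq : ∀ (z₁ : Ideal E.C) [z₁.IsPrime],
      z₁.comap (algebraMap E.D E.C) = E.y → z₁ = E.z := fun z₁ _ h => E.uniq z₁ ⟨h.symm⟩
  haveI fSC : Module.Finite E.S' E.C :=
    Module.Finite.of_surjective (Algebra.linearMap E.S' E.C) E.surjC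
  haveI := E.fpC
  haveI fpSC : Module.FinitePresentation E.S' E.C :=
    Module.FinitePresentation.of_finite_of_finitePresentation E.S' E.C
  haveI := E.finiteG
  have hfpDC : Algebra.FinitePresentation E.D E.C := by
    haveI : Algebra.FinitePresentation R E.S' := Algebra.FinitePresentation.trans R S E.S'
    haveI : Algebra.FinitePresentation E.R' E.S' :=
      Algebra.FinitePresentation.of_restrict_scalars_finitePresentation R E.R' E.S'
    haveI : Algebra.FinitePresentation E.R' E.C :=
      Algebra.FinitePresentation.trans E.R' E.S' E.C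
    haveI : Algebra.FinitePresentation E.R' E.D := finitePresentation_of_smoothRelDim n E.smooth
    exact Algebra.FinitePresentation.of_restrict_scalars_finitePresentation E.R' E.D E.C
  haveI := hfpDC
  haveI fpDC : Module.FinitePresentation E.D E.C :=
    Module.FinitePresentation.of_finite_of_finitePresentation E.D E.C
  refine ⟨hfpDC, ?_, ?_⟩
  · tfae_have 1 → 2 := fun h => by
      have h1 : Module.FinitePresentation (Localization E.q'.primeCompl)
          (LocalizedModule E.q'.primeCompl E.G) :=
        fp_baseChange_up hφ q.primeCompl E.q'.primeCompl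
          (fun t ht hmem => ht (by rw [← hqq']; exact hmem)) h
      exact fp_transfer_up E.G E.q'.primeCompl E.z.primeCompl
        (fun t ht hmem => ht (by rw [← hzq']; exact hmem)) h1
    tfae_have 2 → 1 := fun h => by
      have h1 : Module.FinitePresentation (Localization E.q'.primeCompl)
          (LocalizedModule E.q'.primeCompl E.G) :=
        fp_transfer_down E.G E.q'.primeCompl E.z.primeCompl (fun t₂ ht₂ => by
          obtain ⟨t₁, rfl⟩ := E.surjC t₂
          exact ⟨t₁, fun hmem => ht₂ (by rw [← hzq'] at hmem; exact hmem), 1,
            (one_mul _).symm⟩) h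
      exact fp_baseChange_down hφ q E.q' (fun a ha => by rw [← hqq'] at ha; exact ha) h1
    tfae_have 2 → 3 := fun h =>
      fp_transfer_down E.G E.y.primeCompl E.z.primeCompl
        (fun t₂ ht₂ => exists_dvd_of_unique E.y E.z huniq t₂ ht₂) h
    tfae_have 3 → 2 := fun h =>
      fp_transfer_up E.G E.y.primeCompl E.z.primeCompl
        (fun t ht hmem => ht (by rw [← hzy]; exact hmem)) h
    tfae_finish
  · tfae_have 1 → 2 := by
      rintro ⟨g, hg, h⟩
      have h1 : Module.FinitePresentation
          (Localization (Submonoid.powers (algebraMap S E.S' g)))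
          (LocalizedModule (Submonoid.powers (algebraMap S E.S' g)) E.G) :=
        fp_baseChange_up hφ (Submonoid.powers g) (Submonoid.powers (algebraMap S E.S' g))
          (by rintro _ ⟨k, rfl⟩; exact ⟨k, (map_pow _ _ _).symm⟩) h
      refine ⟨algebraMap E.S' E.C (algebraMap S E.S' g), ?_,
        fp_transfer_up E.G (Submonoid.powers (algebraMap S E.S' g))
          (Submonoid.powers (algebraMap E.S' E.C (algebraMap S E.S' g)))
          (by rintro _ ⟨k, rfl⟩; exact ⟨k, (map_pow _ _ _).symm⟩) h1⟩
      intro hmem
      apply hg
      rw [← hqq', ← hzq']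
      exact hmem
    tfae_have 2 → 3 := by
      rintro ⟨c, hc, h⟩
      obtain ⟨d, hd, c', hdc⟩ := exists_dvd_of_unique E.y E.z huniq c hc
      refine ⟨d, hd, fp_transfer_down E.G (Submonoid.powers d) (Submonoid.powers c) ?_ h⟩
      rintro _ ⟨k, rfl⟩
      exact ⟨d ^ k, ⟨k, rfl⟩, c' ^ k, by simp only [map_pow, hdc, mul_pow]⟩
    tfae_have 3 → 2 := by
      rintro ⟨d, hd, h⟩
      refine ⟨algebraMap E.D E.C d, ?_,
        fp_transfer_up E.G (Submonoid.powers d) (Submonoid.powers (algebraMap E.D E.C d))
          (by rintro _ ⟨k, rfl⟩; exact ⟨k, (map_pow _ _ _).symm⟩) h⟩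
      intro hmem
      apply hd
      rw [← hzy]
      exact hmem
    tfae_have 2 → 1 := by
      rintro ⟨c, hc, h⟩
      obtain ⟨s', rfl⟩ := E.surjC c
      have hs' : s' ∉ E.q' := by
        intro hmem
        apply hc
        rw [← hzq'] at hmem
        exact hmem
      have h1 : Module.FinitePresentation (Localization (Submonoid.powers s'))
          (LocalizedModule (Submonoid.powers s') E.G) :=
        fp_transfer_down E.G (Submonoid.powers s')
          (Submonoid.powers (algebraMap E.S' E.C s')) (by
            rintro _ ⟨k, rfl⟩
            exact ⟨s' ^ k, ⟨k, rfl⟩, 1, by simp only [map_pow, one_mul]⟩) h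
      obtain ⟨g, hgq, hg⟩ := exists_basicOpen_subset_image q E.q' hqq' s' hs'
      exact ⟨g, hgq, fp_baseChange_down_powers hφ s' g hg h1⟩
    tfae_finish

end Groth.Agent.S1251
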