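import Groth.Statements.S12515
import Mathlib.FieldTheory.PrimitiveElement
import Mathlib.FieldTheory.Minpoly.Field
import Mathlib.FieldTheory.Minpoly.Finite
import Mathlib.Algebra.CharP.Algebra
-- import your own Groth.Agent.* helpers here

set_option autoImplicit false
open FunFld

namespace Groth.Agent.S12515

open Polynomial in
/-- every nonzero polynomial over a field is a square times a squarefree polynomial -/
theorem exists_sq_mul_squarefree {k : Type*} [Field k] :
    ∀ (n : ℕ) (P : k[X]), P.natDegree = n → P ≠ 0 →
      ∃ s f : k[X], s ≠ 0 ∧ P = s ^ 2 * f ∧ Squarefree f := by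
  intro n
  induction n using Nat.strong_induction_on with
  | _ n ih =>
    intro P hn hP
    by_cases hsq : Squarefree P
    · exact ⟨1, P, one_ne_zero, by simp, hsq⟩
    · rw [Squarefree] at hsq
      push Not at hsq
      obtain ⟨a, ⟨Q, hQ⟩, ha⟩ := hsq
      have ha0 : a ≠ 0 := by
        rintro rfl
        simp at hQ
        exact hP hQ
      have hQ0 : Q ≠ 0 := by
        rintro rfl
        simp at hQ
        exact hP hQ
      have hdeg : 0 < a.natDegree := by
        rw [Polynomial.natDegree_pos_iff_degree_pos]
        exact Polynomial.degree_pos_of_ne_zero_of_nonunit ha0 ha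
      have hlt : Q.natDegree < n := by
        rw [← hn, hQ, Polynomial.natDegree_mul (mul_ne_zero ha0 ha0) hQ0,
          Polynomial.natDegree_mul ha0 ha0]
        omega
      obtain ⟨s, f, hs, hQf, hf⟩ := ih Q.natDegree hlt Q rfl hQ0
      refine ⟨a * s, f, mul_ne_zero ha0 hs, ?_, hf⟩
      rw [hQ, hQf]
      ring

open Polynomial in
theorem aux1 (F K : Type*) [Field F] [Field K] (h2 : (2 : F) ≠ 0) [Algebra F K]
    (hdeg : Module.finrank F K = 2) :
    ∃ (y : K) (g : F), y ^ 2 = algebraMap F K g ∧
      IntermediateField.adjoin F ({y} : Set K) = ⊤ := by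
  have : FiniteDimensional F K := Module.finite_of_finrank_pos (by omega)
  have hex : ∃ z : K, z ∉ (algebraMap F K).range := by
    by_contra h
    push Not at h
    have : (⊥ : Subalgebra F K) = ⊤ := by
      ext z
      simp only [Algebra.mem_bot, Algebra.mem_top, iff_true]
      exact h z
    rw [Subalgebra.bot_eq_top_iff_finrank_eq_one] at this
    omega
  obtain ⟨z, hz⟩ := hex
  have hint : IsIntegral F z := Algebra.IsIntegral.isIntegral z
  have hnat : (minpoly F z).natDegree = 2 := by
    have h1 := (minpoly.two_le_natDegree_iff hint).mpr hz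
    have h2 := minpoly.natDegree_le (A := F) z
    omega
  have htop : IntermediateField.adjoin F ({z} : Set K) = ⊤ := by
    rw [Field.primitive_element_iff_minpoly_natDegree_eq, hnat, hdeg]
  have hmonic : (minpoly F z).Monic := minpoly.monic hint
  set p := minpoly F z with hp
  set b := p.coeff 1 with hb
  set c := p.coeff 0 with hc
  have hpeq : p = X ^ 2 + (C c + C b * X) := by
    have := hmonic.as_sum
    rw [hnat] at this
    rw [this]
    simp [Finset.sum_range_succ, hb, hc]
  have hroot : z ^ 2 + (algebraMap F K c + algebraMap F K b * z) = 0 := by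
    have := minpoly.aeval F z
    rw [← hp, hpeq] at this
    simpa using this
  have h2K : (2 : K) ≠ 0 := by
    have : algebraMap F K 2 ≠ 0 := by rwa [Ne, map_eq_zero]
    rwa [map_ofNat] at this
  refine ⟨z + algebraMap F K (b / 2), b ^ 2 / 4 - c, ?_, ?_⟩
  · have h4 : (4 : F) ≠ 0 := by
      have : (4 : F) = 2 * 2 := by norm_num
      rw [this]; exact mul_ne_zero h2 h2
    have h4K : (4 : K) ≠ 0 := by
      have : (4 : K) = 2 * 2 := by norm_num
      rw [this]; exact mul_ne_zero h2K h2K
    simp only [map_sub, map_div₀, map_pow, map_ofNat]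
    field_simp
    linear_combination 16 * hroot
  · rw [eq_top_iff, ← htop, IntermediateField.adjoin_simple_le_iff]
    have hmem : z + algebraMap F K (b / 2) ∈
        IntermediateField.adjoin F ({z + algebraMap F K (b / 2)} : Set K) :=
      IntermediateField.mem_adjoin_simple_self F _
    have h3 := (IntermediateField.adjoin F ({z + algebraMap F K (b / 2)} : Set K)).sub_mem hmem
      ((IntermediateField.adjoin F ({z + algebraMap F K (b / 2)} : Set K)).algebraMap_mem (b / 2))
    simpa using h3

/-- If `char k ≠ 2` and `K` has degree `2` over the rational function field `k(x)`, then `K = k(x)(y)`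
for some `y` with `y² = f(x)`, `f` a squarefree polynomial over `k`. -/
theorem result (k K : Type*) [Field k] [Field K] (h2 : ringChar k ≠ 2)
    [Algebra (RatFunc k) K] (hdeg : Module.finrank (RatFunc k) K = 2) :
    ∃ (y : K) (f : Polynomial k), Squarefree f ∧
      y ^ 2 = algebraMap (RatFunc k) K (algebraMap (Polynomial k) (RatFunc k) f) ∧
      IntermediateField.adjoin (RatFunc k) ({y} : Set K) = ⊤ := by
  have h2k : (2 : k) ≠ 0 := by
    intro h
    have hdvd : ringChar k ∣ 2 := (ringChar.spec k 2).mp (by exact_mod_cast h)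
    rcases (Nat.dvd_prime Nat.prime_two).mp hdvd with h1 | h1
    · exact CharP.ringChar_ne_one h1
    · exact h2 h1
  have h2F : (2 : RatFunc k) ≠ 0 := by
    have : algebraMap k (RatFunc k) 2 ≠ 0 := by rwa [Ne, map_eq_zero]
    rwa [map_ofNat] at this
  obtain ⟨y0, g, hy0, htop⟩ := aux1 (RatFunc k) K h2F hdeg
  have hg0 : g ≠ 0 := by
    rintro rfl
    rw [map_zero] at hy0
    have hy00 : y0 = 0 := by simpa using hy0
    rw [hy00, IntermediateField.adjoin_zero,
      IntermediateField.bot_eq_top_iff_finrank_eq_one] at htop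
    omega
  have hd : g.denom ≠ 0 := g.denom_ne_zero
  have hn : g.num ≠ 0 := RatFunc.num_ne_zero hg0
  obtain ⟨s, f, hs, hP, hf⟩ :=
    exists_sq_mul_squarefree _ (g.num * g.denom) rfl (mul_ne_zero hn hd)
  have hdF : algebraMap (Polynomial k) (RatFunc k) g.denom ≠ 0 := RatFunc.algebraMap_ne_zero hd
  have hsF : algebraMap (Polynomial k) (RatFunc k) s ≠ 0 := RatFunc.algebraMap_ne_zero hs
  have hgeq : g = algebraMap (Polynomial k) (RatFunc k) g.num /
      algebraMap (Polynomial k) (RatFunc k) g.denom := (RatFunc.num_div_denom g).symm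
  have hP' : algebraMap (Polynomial k) (RatFunc k) g.num *
      algebraMap (Polynomial k) (RatFunc k) g.denom =
      algebraMap (Polynomial k) (RatFunc k) s ^ 2 * algebraMap (Polynomial k) (RatFunc k) f := by
    rw [← map_mul, hP, map_mul, map_pow]
  set r : RatFunc k := algebraMap (Polynomial k) (RatFunc k) g.denom /
    algebraMap (Polynomial k) (RatFunc k) s with hr
  have hr0 : r ≠ 0 := div_ne_zero hdF hsF
  refine ⟨algebraMap _ K r * y0, f, hf, ?_, ?_⟩
  · rw [mul_pow, hy0, ← map_pow, ← map_mul]
    congr 1
    rw [hr]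
    nth_rewrite 2 [hgeq]
    field_simp
    linear_combination hP'
  · rw [eq_top_iff, ← htop, IntermediateField.adjoin_simple_le_iff]
    have hmem : algebraMap _ K r * y0 ∈
        IntermediateField.adjoin (RatFunc k) ({algebraMap _ K r * y0} : Set K) :=
      IntermediateField.mem_adjoin_simple_self _ _
    have h3 := (IntermediateField.adjoin (RatFunc k)
      ({algebraMap _ K r * y0} : Set K)).smul_mem hmem (x := r⁻¹)
    rw [Algebra.smul_def, ← mul_assoc, ← map_mul, inv_mul_cancel₀ hr0, map_one, one_mul] at h3
    exact h3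

end Groth.Agent.S12515
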