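import Groth.Statements.S12517
import Mathlib.FieldTheory.PrimitiveElement
import Mathlib.FieldTheory.Minpoly.Field
import Mathlib.Algebra.CharP.Algebra
-- import your own Groth.Agent.* helpers here

set_option autoImplicit false
open FunFld

namespace Groth.Agent.S12517

open Polynomial in
theorem aux (F K : Type*) [Field F] [Field K] [CharP F 2] [Algebra F K]
    (hdeg : Module.finrank F K = 2) [Algebra.IsSeparable F K] :
    ∃ (y : K) (f : F), y ^ 2 + y = algebraMap F K f ∧
      IntermediateField.adjoin F ({y} : Set K) = ⊤ := by
  have : FiniteDimensional F K := Module.finite_of_finrank_pos (by omega)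
  have : CharP K 2 := charP_of_injective_algebraMap (algebraMap F K).injective 2
  obtain ⟨z, hz⟩ := Field.exists_primitive_element F K
  have hint : IsIntegral F z := Algebra.IsIntegral.isIntegral z
  have hnat : (minpoly F z).natDegree = 2 := by
    rw [← IntermediateField.adjoin.finrank hint, hz, IntermediateField.finrank_top', hdeg]
  have hmonic : (minpoly F z).Monic := minpoly.monic hint
  set p := minpoly F z with hp
  set b := p.coeff 1 with hb
  set c := p.coeff 0 with hc
  have hpeq : p = X ^ 2 + (C c + C b * X) := by
    have := hmonic.as_sum
    rw [hnat] at this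
    rw [this]
    simp [Finset.sum_range_succ, hb, hc]
  have hsep : p.Separable := Algebra.IsSeparable.isSeparable F z
  have hbne : b ≠ 0 := by
    intro hb0
    have hder : derivative p = 0 := by
      rw [hpeq, hb0]
      simp
      rw [one_add_one_eq_two]
      have h2F : (2 : F) = 0 := by exact_mod_cast CharP.cast_eq_zero F 2
      have : (2 : F[X]) = C (2 : F) := (Polynomial.C_ofNat 2).symm
      rw [this, h2F, C_0]
    rw [Polynomial.separable_def, hder, isCoprime_zero_right] at hsep
    have := Polynomial.natDegree_eq_zero_of_isUnit hsep
    omega
  have hroot : z ^ 2 + (algebraMap F K c + algebraMap F K b * z) = 0 := by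
    have := minpoly.aeval F z
    rw [← hp, hpeq] at this
    simpa using this
  have hbK : algebraMap F K b ≠ 0 := by
    rwa [Ne, map_eq_zero]
  have hneg : ∀ a : K, -a = a := by
    intro a
    have h2 : (2 : K) = 0 := by
      have := CharP.cast_eq_zero K 2
      simpa using this
    have : a + a = 0 := by rw [← two_mul, h2, zero_mul]
    exact neg_eq_of_add_eq_zero_left this
  refine ⟨z / algebraMap F K b, c / b ^ 2, ?_, ?_⟩
  · rw [map_div₀, map_pow]
    have hz2 : z * (z + algebraMap F K b) = - (algebraMap F K c) := by linear_combination hroot
    rw [hneg] at hz2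
    field_simp
    exact hz2
  · rw [eq_top_iff, ← hz, IntermediateField.adjoin_simple_le_iff]
    have hmem : z / algebraMap F K b ∈ IntermediateField.adjoin F ({z / algebraMap F K b} : Set K) :=
      IntermediateField.mem_adjoin_simple_self F _
    have := (IntermediateField.adjoin F ({z / algebraMap F K b} : Set K)).smul_mem hmem (x := b)
    rw [Algebra.smul_def, mul_div_cancel₀ _ hbK] at this
    exact this

/-- If `k` is perfect of characteristic `2` and `K` is a separable extension of degree `2` of the
rational function field `k(x)`, then `K = k(x)(y)` for some `y` with `y² + y = f(x)`, `f ∈ k(x)`.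
The correspondence between such extensions and cosets of `{a² + a}` in `k(x)` is not stated. -/
theorem result (k K : Type*) [Field k] [Field K] [PerfectField k]
    (h2 : ringChar k = 2) [Algebra (RatFunc k) K] (hdeg : Module.finrank (RatFunc k) K = 2)
    [Algebra.IsSeparable (RatFunc k) K] :
    ∃ (y : K) (f : RatFunc k), y ^ 2 + y = algebraMap (RatFunc k) K f ∧
      IntermediateField.adjoin (RatFunc k) ({y} : Set K) = ⊤ := by
  have : CharP k 2 := h2 ▸ ringChar.charP k
  have : CharP (RatFunc k) 2 :=
    charP_of_injective_algebraMap (algebraMap k (RatFunc k)).injective 2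
  exact aux (RatFunc k) K hdeg

end Groth.Agent.S12517
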