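import Groth.Statements.S12518
import Groth.Agent.H77.ASForm

set_option autoImplicit false
open FunFld

namespace Groth.Agent.S12518

/-- If `k` is perfect of characteristic `2` and `K` is a separable extension of degree `2` of `k(x)`,
then `K = k(x)(y)` for some `y` with `y² + y = f(x)` such that every pole of `f`, at any place of
`k(x)/k` including the infinite one, has odd order. -/
theorem result (k K : Type*) [Field k] [Field K] [PerfectField k] (h2 : ringChar k = 2)
    [Algebra k K] [Algebra (RatFunc k) K] [IsScalarTower k (RatFunc k) K]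
    (hdeg : Module.finrank (RatFunc k) K = 2) [Algebra.IsSeparable (RatFunc k) K] :
    ∃ (y : K) (f : RatFunc k), y ^ 2 + y = algebraMap (RatFunc k) K f ∧
      IntermediateField.adjoin (RatFunc k) ({y} : Set K) = ⊤ ∧
      ∀ P : FunFld.Place k (RatFunc k), P.ord f < 0 → Odd (P.ord f) := by
  classical
  haveI : CharP k 2 := ringChar.of_eq h2
  haveI : CharP (RatFunc k) 2 :=
    charP_of_injective_algebraMap (algebraMap k (RatFunc k)).injective 2
  haveI : CharP K 2 := charP_of_injective_algebraMap (algebraMap (RatFunc k) K).injective 2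
  haveI : FiniteDimensional (RatFunc k) K := Module.finite_of_finrank_pos (by omega)
  -- Step 1: an Artin–Schreier generator
  obtain ⟨y₀, f₀, hy₀, hgen₀⟩ : ∃ (y₀ : K) (f₀ : RatFunc k),
      y₀ ^ 2 + y₀ = algebraMap (RatFunc k) K f₀ ∧
        IntermediateField.adjoin (RatFunc k) ({y₀} : Set K) = ⊤ := by
    have hex : ∃ z : K, z ∉ (⊥ : IntermediateField (RatFunc k) K) := by
      by_contra hcon
      push Not at hcon
      have h1 : (⊥ : IntermediateField (RatFunc k) K) = ⊤ := by
        rw [eq_top_iff]; intro z _; exact hcon z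
      rw [IntermediateField.bot_eq_top_iff_finrank_eq_one] at h1
      omega
    obtain ⟨z, hz⟩ := hex
    have hzint : IsIntegral (RatFunc k) z := Algebra.IsIntegral.isIntegral z
    have hdeg_le : (minpoly (RatFunc k) z).natDegree ≤ 2 := hdeg ▸ minpoly.natDegree_le z
    have hdeg_ne1 : (minpoly (RatFunc k) z).natDegree ≠ 1 := by
      intro h
      apply hz
      rw [IntermediateField.mem_bot]
      exact minpoly.natDegree_eq_one_iff.mp h
    have hdeg_pos : 0 < (minpoly (RatFunc k) z).natDegree := minpoly.natDegree_pos hzint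
    have hdeg2 : (minpoly (RatFunc k) z).natDegree = 2 := by omega
    have hgen : IntermediateField.adjoin (RatFunc k) ({z} : Set K) = ⊤ :=
      (Field.primitive_element_iff_minpoly_natDegree_eq (RatFunc k) z).mpr (by rw [hdeg2, hdeg])
    have hmonic : (minpoly (RatFunc k) z).Monic := minpoly.monic hzint
    have hc2 : (minpoly (RatFunc k) z).coeff 2 = 1 := by
      have h := hmonic.coeff_natDegree
      rwa [hdeg2] at h
    obtain ⟨b, hb_def⟩ : ∃ b, b = (minpoly (RatFunc k) z).coeff 1 := ⟨_, rfl⟩
    obtain ⟨c, hc_def⟩ : ∃ c, c = (minpoly (RatFunc k) z).coeff 0 := ⟨_, rfl⟩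
    have heval : z ^ 2 + algebraMap (RatFunc k) K b * z + algebraMap (RatFunc k) K c = 0 := by
      have h := minpoly.aeval (RatFunc k) z
      rw [Polynomial.aeval_eq_sum_range, hdeg2] at h
      simp only [Finset.sum_range_succ, Finset.range_zero, Finset.sum_empty, zero_add, hc2,
        ← hb_def, ← hc_def, Algebra.smul_def, pow_zero, pow_one, mul_one, map_one, one_mul] at h
      linear_combination h
    have hsep : (minpoly (RatFunc k) z).Separable := Algebra.IsSeparable.isSeparable (RatFunc k) z
    have hb : b ≠ 0 := by
      intro hb0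
      have hder : Polynomial.derivative (minpoly (RatFunc k) z) = 0 := by
        ext i
        rw [Polynomial.coeff_derivative, Polynomial.coeff_zero]
        rcases i with _ | _ | i
        · rw [zero_add, ← hb_def, hb0, zero_mul]
        · have h22 : ((1 : ℕ) : RatFunc k) + 1 = 0 := by
            rw [Nat.cast_one]; exact CharTwo.add_self_eq_zero 1
          rw [show (0 + 1 + 1 : ℕ) = 2 from rfl, hc2, one_mul]
          push_cast
          exact CharTwo.add_self_eq_zero 1
        · rw [Polynomial.coeff_eq_zero_of_natDegree_lt (by omega), zero_mul]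
      rw [Polynomial.separable_def, hder, isCoprime_zero_right] at hsep
      have h0 := Polynomial.natDegree_eq_zero_of_isUnit hsep
      omega
    have hβ : algebraMap (RatFunc k) K b ≠ 0 := by
      rw [Ne, map_eq_zero_iff _ (algebraMap (RatFunc k) K).injective]; exact hb
    have hz2 : z ^ 2 + algebraMap (RatFunc k) K b * z = algebraMap (RatFunc k) K c := by
      have h1 : z ^ 2 + algebraMap (RatFunc k) K b * z = -algebraMap (RatFunc k) K c := by
        linear_combination heval
      rw [h1, CharTwo.neg_eq]
    refine ⟨z / algebraMap (RatFunc k) K b, c / b ^ 2, ?_, ?_⟩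
    · have h1 : (z / algebraMap (RatFunc k) K b) ^ 2 + z / algebraMap (RatFunc k) K b =
          (z ^ 2 + algebraMap (RatFunc k) K b * z) / (algebraMap (RatFunc k) K b) ^ 2 := by
        field_simp
      rw [h1, hz2, map_div₀, map_pow]
    · rw [eq_top_iff, ← hgen, IntermediateField.adjoin_simple_le_iff]
      have h1 : z / algebraMap (RatFunc k) K b ∈
          IntermediateField.adjoin (RatFunc k) ({z / algebraMap (RatFunc k) K b} : Set K) :=
        IntermediateField.mem_adjoin_simple_self _ _
      have h2 := (IntermediateField.adjoin (RatFunc k)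
        ({z / algebraMap (RatFunc k) K b} : Set K)).mul_mem
          ((IntermediateField.adjoin (RatFunc k)
            ({z / algebraMap (RatFunc k) K b} : Set K)).algebraMap_mem b) h1
      rwa [mul_div_cancel₀ _ hβ] at h2
  obtain ⟨g, N, D, hNF, hfg⟩ := Groth.Agent.H77.exists_asNormal f₀
  refine ⟨y₀ + algebraMap (RatFunc k) K g, f₀ + g ^ 2 + g, ?_, ?_, ?_⟩
  · rw [CharTwo.add_sq, map_add, map_add, map_pow, ← hy₀]; ring
  · rw [eq_top_iff, ← hgen₀, IntermediateField.adjoin_simple_le_iff]
    have h1 : y₀ + algebraMap (RatFunc k) K g ∈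
        IntermediateField.adjoin (RatFunc k) ({y₀ + algebraMap (RatFunc k) K g} : Set K) :=
      IntermediateField.mem_adjoin_simple_self _ _
    have h2 := (IntermediateField.adjoin (RatFunc k)
      ({y₀ + algebraMap (RatFunc k) K g} : Set K)).sub_mem h1
        ((IntermediateField.adjoin (RatFunc k)
          ({y₀ + algebraMap (RatFunc k) K g} : Set K)).algebraMap_mem g)
    rwa [add_sub_cancel_right] at h2
  · intro P hP
    rw [hfg] at hP ⊢
    exact Groth.Agent.H77.odd_ord_of_asNormal N D hNF P hP

end Groth.Agent.S12518
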