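import Groth.Statements.S12524
import Groth.Agent.H87.AdicPi
import Mathlib.RingTheory.AdicCompletion.RingHom
import Mathlib.RingTheory.LocalRing.ResidueField.Basic

set_option autoImplicit false
universe u v
open CAlg

namespace Groth.Agent.S12524

section aux

theorem eq_of_forall_sub_mem {A : Type v} [CommRing A] (I : Ideal A) [IsHausdorff I A] {u w : A}
    (h : ∀ n, u - w ∈ I ^ n) : u = w :=
  (IsHausdorff.eq_iff_smodEq (I := I)).mpr fun n =>
    SModEq.sub_mem.mpr ((Groth.Agent.H87.mem_smul_top_self (I ^ n) _).mpr (h n))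

variable (K : Type u) {A : Type v} [Field K] [CommRing A] [Algebra K A]

theorem X_pow_dvd_sub_trunc (n : ℕ) (P : Polynomial K) :
    (Polynomial.X : Polynomial K) ^ n ∣ P - PowerSeries.trunc n (P : PowerSeries K) := by
  rw [Polynomial.X_pow_dvd_iff]
  intro d hd
  rw [Polynomial.coeff_sub, PowerSeries.coeff_trunc, if_pos hd, Polynomial.coeff_coe, sub_self]

variable (x : A) (I : Ideal A)

theorem aeval_sub_mem (hxI : x ∈ I) (n : ℕ) {P Q : Polynomial K}
    (h : (Polynomial.X : Polynomial K) ^ n ∣ P - Q) :
    Polynomial.aeval x P - Polynomial.aeval x Q ∈ I ^ n := by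
  obtain ⟨R, hR⟩ := h
  rw [← map_sub, hR, map_mul, map_pow, Polynomial.aeval_X]
  exact Ideal.mul_mem_right _ _ (Ideal.pow_mem_pow hxI n)

noncomputable def lvl (hxI : x ∈ I) (n : ℕ) : PowerSeries K →ₐ[K] A ⧸ I ^ n where
  toFun p := Ideal.Quotient.mk (I ^ n) (Polynomial.aeval x (PowerSeries.trunc n p))
  map_one' := by
    have h := X_pow_dvd_sub_trunc K n (1 : Polynomial K)
    rw [Polynomial.coe_one] at h
    have h2 := aeval_sub_mem K x I hxI n h
    rw [map_one] at h2
    exact ((Ideal.Quotient.eq.mpr h2).symm).trans (map_one _)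
  map_mul' p q := by
    have h := X_pow_dvd_sub_trunc K n (PowerSeries.trunc n p * PowerSeries.trunc n q)
    rw [Polynomial.coe_mul, PowerSeries.trunc_trunc_mul_trunc] at h
    have h2 := aeval_sub_mem K x I hxI n h
    rw [map_mul] at h2
    exact ((Ideal.Quotient.eq.mpr h2).symm).trans (map_mul _ _ _)
  map_zero' := by simp
  map_add' p q := by simp
  commutes' a := by
    have h := X_pow_dvd_sub_trunc K n (Polynomial.C a : Polynomial K)
    rw [Polynomial.coe_C] at h
    have h2 := aeval_sub_mem K x I hxI n h
    rw [Polynomial.aeval_C] at h2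
    have h3 : algebraMap K (PowerSeries K) a = PowerSeries.C a := by
      rw [PowerSeries.algebraMap_apply, Algebra.algebraMap_self, RingHom.id_apply]
    show Ideal.Quotient.mk (I ^ n)
      (Polynomial.aeval x (PowerSeries.trunc n (algebraMap K (PowerSeries K) a))) = _
    rw [h3]
    exact (Ideal.Quotient.eq.mpr h2).symm.trans rfl

theorem lvl_apply (hxI : x ∈ I) (n : ℕ) (p : PowerSeries K) :
    lvl K x I hxI n p = Ideal.Quotient.mk (I ^ n) (Polynomial.aeval x (PowerSeries.trunc n p)) :=
  rfl

theorem lvl_compat (hxI : x ∈ I) {m n : ℕ} (hle : m ≤ n) :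
    (Ideal.Quotient.factorₐ K (Ideal.pow_le_pow_right hle)).comp (lvl K x I hxI n) =
      lvl K x I hxI m := by
  apply AlgHom.ext
  intro p
  rw [AlgHom.comp_apply, lvl_apply, lvl_apply, Ideal.Quotient.factorₐ_apply_mk,
    Ideal.Quotient.eq]
  have h := X_pow_dvd_sub_trunc K m (PowerSeries.trunc n p)
  rw [PowerSeries.trunc_trunc_of_le p hle] at h
  exact aeval_sub_mem K x I hxI m h

end aux

open IsLocalRing in
/-- Let `A` be a complete discrete valuation ring with maximal ideal `m`, containing a field `K` such
that `K → A → A/m` is bijective (a coefficient field), and let `x` be any generator of `m`. Then the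
`K`-algebra map `K[X] → A`, `X ↦ x`, extends to a bijective `K`-algebra map `φ : K⟦X⟧ → A`,
characterised by `φ(∑ aᵢ Xⁱ) ≡ ∑_{i<n} aᵢ xⁱ (mod mⁿ)` for every `n`. -/
theorem result (K : Type u) (A : Type v) [Field K]
    [CommRing A] [IsDomain A] [IsDiscreteValuationRing A] [Algebra K A]
    [IsAdicComplete (maximalIdeal A) A]
    (hK : Function.Bijective ((residue A).comp (algebraMap K A)))
    (x : A) (hx : maximalIdeal A = Ideal.span {x}) :
    ∃ φ : PowerSeries K →ₐ[K] A, φ PowerSeries.X = x ∧ Function.Bijective φ ∧
      ∀ (f : PowerSeries K) (n : ℕ),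
        φ f - (Finset.range n).sum (fun i => algebraMap K A (PowerSeries.coeff i f) * x ^ i) ∈
          maximalIdeal A ^ n := by
  classical
  have hxm : x ∈ maximalIdeal A := by
    rw [hx]
    exact Ideal.mem_span_singleton_self x
  obtain ⟨φ, hφ0⟩ : ∃ φ : PowerSeries K →ₐ[K] A, ∀ (n : ℕ) (f : PowerSeries K),
      Ideal.Quotient.mk (maximalIdeal A ^ n) (φ f) =
        Ideal.Quotient.mk (maximalIdeal A ^ n)
          (Polynomial.aeval x (PowerSeries.trunc n f)) :=
    ⟨IsAdicComplete.liftAlgHom (maximalIdeal A) (lvl K x (maximalIdeal A) hxm)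
      (fun hle => lvl_compat K x (maximalIdeal A) hxm hle),
     fun n f => IsAdicComplete.mk_liftAlgHom (maximalIdeal A) _ _ n f⟩
  have hφ : ∀ (f : PowerSeries K) (n : ℕ),
      φ f - (Finset.range n).sum (fun i => algebraMap K A (PowerSeries.coeff i f) * x ^ i) ∈
        maximalIdeal A ^ n := by
    intro f n
    have h2 : Polynomial.aeval x (PowerSeries.trunc n f) =
        (Finset.range n).sum (fun i => algebraMap K A (PowerSeries.coeff i f) * x ^ i) := by
      rw [Polynomial.aeval_def, PowerSeries.eval₂_trunc_eq_sum_range]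
    rw [← h2]
    exact Ideal.Quotient.eq.mp (hφ0 n f)
  have hX : φ PowerSeries.X = x := by
    apply eq_of_forall_sub_mem (maximalIdeal A)
    intro n
    have h := hφ PowerSeries.X (n + 2)
    have hs : (Finset.range (n + 2)).sum (fun i =>
        algebraMap K A (PowerSeries.coeff i (PowerSeries.X : PowerSeries K)) * x ^ i) = x := by
      rw [← PowerSeries.eval₂_trunc_eq_sum_range, PowerSeries.trunc_X, Polynomial.eval₂_X]
    rw [hs] at h
    exact Ideal.pow_le_pow_right (Nat.le_add_right n 2) h
  have hx0 : x ≠ 0 := by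
    intro h0
    have : maximalIdeal A = ⊥ := by
      rw [hx, Ideal.span_singleton_eq_bot]
      exact h0
    exact IsDiscreteValuationRing.not_a_field A this
  have hinj : Function.Injective φ := by
    rw [injective_iff_map_eq_zero]
    intro p hp
    by_contra hne
    obtain ⟨k, hk, hkmin⟩ : ∃ k, PowerSeries.coeff k p ≠ 0 ∧
        ∀ i < k, PowerSeries.coeff i p = 0 := by
      have hex : ∃ k, PowerSeries.coeff k p ≠ 0 := by
        by_contra hall
        push_neg at hall
        exact hne (PowerSeries.ext hall)
      exact ⟨Nat.find hex, Nat.find_spec hex, fun i hi => by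
        have := Nat.find_min hex hi
        simpa using this⟩
    have h := hφ p (k + 1)
    have hsum : (Finset.range (k + 1)).sum
        (fun i => algebraMap K A (PowerSeries.coeff i p) * x ^ i) =
        algebraMap K A (PowerSeries.coeff k p) * x ^ k := by
      rw [Finset.sum_range_succ]
      have h0 : (Finset.range k).sum
          (fun i => algebraMap K A (PowerSeries.coeff i p) * x ^ i) = 0 :=
        Finset.sum_eq_zero fun i hi => by
          rw [hkmin i (Finset.mem_range.mp hi), map_zero, zero_mul]
      rw [h0, zero_add]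
    rw [hp, zero_sub, hsum, neg_mem_iff, hx, Ideal.span_singleton_pow,
      Ideal.mem_span_singleton'] at h
    obtain ⟨a, ha⟩ := h
    have h3 : algebraMap K A (PowerSeries.coeff k p) = a * x := by
      have h4 : x ^ k * algebraMap K A (PowerSeries.coeff k p) = x ^ k * (a * x) := by
        rw [mul_comm, ← ha]
        ring
      exact mul_left_cancel₀ (pow_ne_zero k hx0) h4
    have h4 : (residue A) (algebraMap K A (PowerSeries.coeff k p)) = 0 := by
      rw [h3, IsLocalRing.residue_eq_zero_iff, hx]
      exact Ideal.mul_mem_left _ _ (Ideal.mem_span_singleton_self x)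
    have h5 : PowerSeries.coeff k p = 0 :=
      hK.1 (by rw [RingHom.comp_apply, h4, map_zero])
    exact hk h5
  have hsurj : Function.Surjective φ := by
    have hstep : ∀ a : A, ∃ (c : K) (a' : A), a = algebraMap K A c + x * a' := by
      intro a
      obtain ⟨c, hc⟩ := hK.2 (residue A a)
      have hmem : a - algebraMap K A c ∈ maximalIdeal A := by
        rw [← IsLocalRing.residue_eq_zero_iff, map_sub, sub_eq_zero]
        exact hc.symm
      rw [hx, Ideal.mem_span_singleton'] at hmem
      obtain ⟨a', ha'⟩ := hmem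
      exact ⟨c, a', by rw [mul_comm, ha']; ring⟩
    choose c nx hcn using hstep
    intro a
    have hrec : ∀ n : ℕ, a = (Finset.range n).sum
        (fun i => algebraMap K A (c (nx^[i] a)) * x ^ i) + x ^ n * nx^[n] a := by
      intro n
      induction n with
      | zero => simp
      | succ n ih =>
        have h1 := hcn (nx^[n] a)
        have h2 : x ^ n * nx^[n] a = algebraMap K A (c (nx^[n] a)) * x ^ n +
            x ^ (n + 1) * nx (nx^[n] a) :=
          calc x ^ n * nx^[n] a
              = x ^ n * (algebraMap K A (c (nx^[n] a)) + x * nx (nx^[n] a)) := by rw [← h1]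
            _ = _ := by ring
        rw [Finset.sum_range_succ, Function.iterate_succ_apply']
        refine ih.trans ?_
        rw [h2]
        ring
    refine ⟨PowerSeries.mk (fun i => c (nx^[i] a)), ?_⟩
    apply eq_of_forall_sub_mem (maximalIdeal A)
    intro n
    have h := hφ (PowerSeries.mk (fun i => c (nx^[i] a))) n
    simp only [PowerSeries.coeff_mk] at h
    have h2 : φ (PowerSeries.mk fun i => c (nx^[i] a)) - a =
        (φ (PowerSeries.mk fun i => c (nx^[i] a)) -
          (Finset.range n).sum (fun i => algebraMap K A (c (nx^[i] a)) * x ^ i)) -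
          x ^ n * nx^[n] a := by
      have h3 := hrec n
      linear_combination (-1 : A) * h3
    rw [h2]
    exact Ideal.sub_mem _ h (Ideal.mul_mem_right _ _ (Ideal.pow_mem_pow hxm n))
  exact ⟨φ, hX, ⟨hinj, hsurj⟩, hφ⟩

end Groth.Agent.S12524
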