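import Groth.Statements.S12532
import Groth.Agent.H55.FFSing2
import Groth.Agent.H55.FFProj
open Groth.Agent.H55

set_option autoImplicit false
open FunFld

namespace Groth.Agent.S12532

/-- Over an algebraically closed field `k`, let `φ = (φ₀, …, φₙ)`, `n ≥ 1`, be a birational projective
map of the function field `K/k` and `P` a place with image point `a = φ(P)`. Then for some `N`,
every `z ∈ K` with `ord_Q z ≥ N` at all places `Q` over `a` belongs to the local ring `O_a` of `φ`
at `P` (quotients of polynomials in the ratios `φᵢ/φⱼ` with denominator a unit at `P`). (The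
published statement asserts that each nonzero ideal of `O_a` includes some nonzero ideal of the
integral closure `R_a`, with `R_a/I` finite-dimensional; this row states the inclusion the printed
proof establishes, from which those follow.) -/
theorem result (k K : Type*) [Field k] [IsAlgClosed k] [Field K] [Algebra k K]
    (hK : FunFld.IsFunctionField k K) {n : ℕ} (hn : 1 ≤ n)
    (φ : Fin (n + 1) → K) (hφ : LinearIndependent k φ)
    (hbir : IntermediateField.adjoin k (Set.range fun i => φ i / φ 0) = ⊤) (P : FunFld.Place k K) :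
    ∃ N : ℕ, ∀ z : K, (∀ Q : FunFld.Place k K, FunFld.SameImage φ P Q → Q.1 z ≤ WithZero.exp (-(N : ℤ))) →
      FunFld.InLocRing φ P z := by
  classical
  have hφ0 : ∀ i, φ i ≠ 0 := fun i => hφ.ne_zero i
  obtain ⟨j, -, hj⟩ := Finset.exists_max_image Finset.univ (fun i => P.1 (φ i))
    ⟨0, Finset.mem_univ _⟩
  have hj' : ∀ i, P.1 (φ i) ≤ P.1 (φ j) := fun i => hj i (Finset.mem_univ _)
  have hj0 := hφ0 j
  have hgen : IntermediateField.adjoin k (Set.range fun i => φ i / φ j) = ⊤ := by
    rw [eq_top_iff, ← hbir, IntermediateField.adjoin_le_iff]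
    rintro _ ⟨i, rfl⟩
    have e : φ i / φ 0 = (φ i / φ j) / (φ 0 / φ j) := by
      have := hφ0 0
      field_simp
    show φ i / φ 0 ∈ IntermediateField.adjoin k (Set.range fun i => φ i / φ j)
    rw [e]
    exact div_mem (IntermediateField.subset_adjoin _ _ ⟨i, rfl⟩)
      (IntermediateField.subset_adjoin _ _ ⟨0, rfl⟩)
  have hr_le : ∀ i, P.1 (φ i / φ j) ≤ 1 := fun i => by
    rw [map_div₀]
    exact div_le_one_of_le₀ (hj' i) zero_le'
  obtain ⟨s₀, hs₀A, hs₀0, hs₀B⟩ := exists_conductor hK (fun i => φ i / φ j) j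
    (div_self hj0) hgen
  have hNbound : ∀ Q : FunFld.Place k K,
      Q.ord s₀ ≤ ((∑ Q ∈ (zeros_finite hK s₀ hs₀0).toFinset, (Q.ord s₀).toNat : ℕ) : ℤ) := by
    intro Q
    by_cases hQ : Q ∈ (zeros_finite hK s₀ hs₀0).toFinset
    · have h1 : (Q.ord s₀).toNat ≤ ∑ Q ∈ (zeros_finite hK s₀ hs₀0).toFinset, (Q.ord s₀).toNat :=
        Finset.single_le_sum (f := fun Q : FunFld.Place k K => (Q.ord s₀).toNat)
          (fun _ _ => Nat.zero_le _) hQ
      have h2 := Int.self_le_toNat (Q.ord s₀)
      exact h2.trans (by exact_mod_cast h1)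
    · rw [Set.Finite.mem_toFinset, Set.mem_setOf_eq, pl_val_lt_one_iff Q hs₀0, not_lt] at hQ
      exact hQ.trans (by positivity)
  refine ⟨∑ Q ∈ (zeros_finite hK s₀ hs₀0).toFinset, (Q.ord s₀).toNat, fun z hz => ?_⟩
  rw [inLocRing_iff φ P j hj0 hj']
  by_cases hz0 : z = 0
  · subst hz0; exact Subalgebra.zero_mem _
  obtain ⟨y, hy⟩ : ∃ y : K, y = z / s₀ := ⟨_, rfl⟩
  have hy0 : y ≠ 0 := by rw [hy]; exact div_ne_zero hz0 hs₀0
  have hsep : ∀ R : FunFld.Place k K, IsFin (fun i => φ i / φ j) R → 1 < R.1 y →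
      ∃ w ∈ Acoord k (fun i => φ i / φ j), P.1 w = 1 ∧ R.1 w < 1 := by
    intro R hRfin hRy
    have hRr : ∀ i, R.1 (φ i / φ j) ≤ 1 := fun i => hRfin i
    have hRj : ∀ i, R.1 (φ i) ≤ R.1 (φ j) := by
      intro i
      have h1 := hRr i
      rwa [map_div₀,
        div_le_one₀ (zero_lt_iff.mpr ((Valuation.ne_zero_iff _).mpr hj0))] at h1
    have hnot : ¬ FunFld.SameImage φ P R := by
      intro hS
      have h1 := hz R hS
      have h2 : R.1 y ≤ 1 := by
        rw [hy, map_div₀, pl_val_eq_exp_neg_ord R hs₀0, div_le_one₀ WithZero.exp_pos]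
        refine h1.trans (WithZero.exp_le_exp.mpr ?_)
        have := hNbound R
        omega
      exact absurd hRy (not_lt.mpr h2)
    choose cP hcP using fun i => exists_const_sub_lt_one hK P (hr_le i)
    choose cR hcR using fun i => exists_const_sub_lt_one hK R (hRr i)
    have hex : ∃ i, cP i ≠ cR i := by
      by_contra hcon
      push_neg at hcon
      apply hnot
      refine ⟨j, hj0, hj', hRj, fun i => ⟨cP i, hcP i, ?_⟩⟩
      rw [hcon i]
      exact hcR i
    obtain ⟨i, hi⟩ := hex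
    refine ⟨φ i / φ j - algebraMap k K (cR i), ?_, ?_, hcR i⟩
    · exact Subalgebra.sub_mem _
        (Algebra.subset_adjoin (Set.mem_range_self (f := fun i => φ i / φ j) i))
        (Subalgebra.algebraMap_mem _ _)
    · have h1 : P.1 ((φ i / φ j - algebraMap k K (cR i)) - algebraMap k K (cP i - cR i)) < 1 := by
        have e' : (φ i / φ j - algebraMap k K (cR i)) - algebraMap k K (cP i - cR i) =
            φ i / φ j - algebraMap k K (cP i) := by
          rw [map_sub]
          ring
        rw [e']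
        exact hcP i
      exact val_eq_one_of_sub_const P h1 (sub_ne_zero.mpr hi)
  have hchoice : ∀ R : FunFld.Place k K, ∃ w ∈ Acoord k (fun i => φ i / φ j), P.1 w = 1 ∧
      (IsFin (fun i => φ i / φ j) R → 1 < R.1 y → R.1 w < 1) := by
    intro R
    by_cases h : IsFin (fun i => φ i / φ j) R ∧ 1 < R.1 y
    · obtain ⟨w, hwA, hPw, hRw⟩ := hsep R h.1 h.2
      exact ⟨w, hwA, hPw, fun _ _ => hRw⟩
    · exact ⟨1, Subalgebra.one_mem _, map_one _, fun h1 h2 => absurd ⟨h1, h2⟩ h⟩
  choose wR hwRA hPwR hRwR using hchoice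
  obtain ⟨M, hM⟩ : ∃ M : FunFld.Place k K → ℕ, M = fun R => (-(R.ord y)).toNat := ⟨_, rfl⟩
  obtain ⟨w, hw⟩ : ∃ w : K, w = ∏ R ∈ (poles_finite hK y).toFinset, wR R ^ M R := ⟨_, rfl⟩
  have hprodA : ∀ T' : Finset (FunFld.Place k K),
      ∏ R ∈ T', wR R ^ M R ∈ Acoord k (fun i => φ i / φ j) := fun T' =>
    Subalgebra.prod_mem _ (fun R _ => Subalgebra.pow_mem _ (hwRA R) _)
  have hwA : w ∈ Acoord k (fun i => φ i / φ j) := by rw [hw]; exact hprodA _
  have hPw : P.1 w = 1 := by
    rw [hw, map_prod]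
    exact Finset.prod_eq_one (fun R _ => by rw [map_pow, hPwR, one_pow])
  have hwyB : w * y ∈ Bcoord (k := k) (fun i => φ i / φ j) := by
    intro R hRfin
    rw [map_mul]
    by_cases hRT : R ∈ (poles_finite hK y).toFinset
    · have hRy : 1 < R.1 y := (Set.Finite.mem_toFinset (poles_finite hK y)).mp hRT
      have h1 : R.1 w ≤ R.1 (wR R) ^ M R := by
        rw [hw, ← Finset.mul_prod_erase _ _ hRT, map_mul, map_pow]
        calc R.1 (wR R) ^ M R * R.1 (∏ x ∈ (poles_finite hK y).toFinset.erase R, wR x ^ M x)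
            ≤ R.1 (wR R) ^ M R * 1 :=
              mul_le_mul' le_rfl (Acoord_val_le _ R hRfin (hprodA _))
          _ = R.1 (wR R) ^ M R := mul_one _
      have h2 : R.1 (wR R) ≤ WithZero.exp (-1 : ℤ) :=
        (zm0_lt_one_iff _).mp (hRwR R hRfin hRy)
      have h3 : R.1 (wR R) ^ M R ≤ WithZero.exp (-(M R : ℤ)) := by
        calc R.1 (wR R) ^ M R ≤ (WithZero.exp (-1 : ℤ)) ^ M R := pow_le_pow_left₀ zero_le' h2 _
          _ = WithZero.exp (-(M R : ℤ)) := by
            rw [← WithZero.exp_nsmul]; congr 1; simp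
      have h4 : R.1 y = WithZero.exp (-(R.ord y)) := pl_val_eq_exp_neg_ord R hy0
      have h5 : (M R : ℤ) = -(R.ord y) := by
        have h6 := (pl_one_lt_val_iff R y).mp hRy
        rw [hM]
        simp only
        rw [Int.toNat_of_nonneg (by omega)]
      calc R.1 w * R.1 y ≤ WithZero.exp (-(M R : ℤ)) * WithZero.exp (-(R.ord y)) :=
            mul_le_mul' (h1.trans h3) h4.le
        _ = 1 := by rw [← WithZero.exp_add, h5]; simp
    · have hRy : R.1 y ≤ 1 := by
        by_contra hcon
        rw [not_le] at hcon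
        exact hRT ((Set.Finite.mem_toFinset (poles_finite hK y)).mpr hcon)
      calc R.1 w * R.1 y ≤ 1 * 1 := mul_le_mul' (Acoord_val_le _ R hRfin hwA) hRy
        _ = 1 := one_mul _
  have hfinal := hs₀B (w * y) hwyB
  have e : s₀ * (w * y) = z * w := by rw [hy]; field_simp
  rw [e] at hfinal
  show ∃ u ∈ Acoord k (fun i => φ i / φ j), ∃ w ∈ Acoord k (fun i => φ i / φ j),
    P.1 w = 1 ∧ z * w = u
  exact ⟨z * w, hfinal, w, hwA, hPw, rfl⟩

end Groth.Agent.S12532
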