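import Groth.Statements.S12540
import Groth.Agent.H63.QuotRed
import Groth.Agent.H51.Reduced

set_option autoImplicit false
universe u
open CategoryTheory MonoidalCategory CartesianMonoidalCategory MonObj GrpObj AlgebraicGeometry
open AlgGrp

namespace Groth.Agent.S12540

/-- Over an algebraically closed field k, let G be an algebraic group (a smooth k-group scheme of finite
type), h : H → G a closed subgroup scheme, and h' : H' → H a closed subgroup scheme of H which is
reduced with the same underlying space as H (the reduced subgroup scheme H_red; it is a subgroup of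
G through h' ≫ h). Let X, with its G-action and base point, be the quotient G/H, and X' the quotient
G/H' (each locally of finite type over k, with flat surjective orbit map identifying G × H with G
×_X G, respectively G × H' with G ×_{X'} G). Then X is affine if and only if X' is affine. (The
published statement adds the same equivalence with the identity component of H_red; that clause is
not stated here.) -/
theorem result (k : Type u) [Field k] [IsAlgClosed k]
    (G : Over (Spec (CommRingCat.of k))) [GrpObj G] [Smooth G.hom] [QuasiCompact G.hom]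
    (H : Over (Spec (CommRingCat.of k))) [GrpObj H] (h : H ⟶ G) [IsMonHom h] [IsClosedImmersion h.left]
    (H' : Over (Spec (CommRingCat.of k))) [GrpObj H'] (h' : H' ⟶ H) [IsMonHom h'] [IsClosedImmersion h'.left]
    [Surjective h'.left] [IsReduced H'.left]
    (X : Over (Spec (CommRingCat.of k))) (a : AlgGrp.Action G X) (o : 𝟙_ (Over (Spec (CommRingCat.of k))) ⟶ X)
    (hX : AGF.IsQuotient h X a o)
    (X' : Over (Spec (CommRingCat.of k))) (a' : AlgGrp.Action G X') (o' : 𝟙_ (Over (Spec (CommRingCat.of k))) ⟶ X')
    (hX' : AGF.IsQuotient (h' ≫ h) X' a' o') :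
    IsAffine X.left ↔ IsAffine X'.left := by

  obtain ⟨hlftX, hflat, hsurj, SQ⟩ := hX
  obtain ⟨hlftX', hflat', hsurj', SQ'⟩ := hX'
  haveI := hlftX
  haveI := hflat
  haveI := hsurj
  haveI := hlftX'
  haveI := hflat'
  haveI := hsurj'
  haveI : LocallyOfFiniteType G.hom := inferInstance
  obtain ⟨p, hp⟩ := CharP.exists k
  rcases CharP.char_is_prime_or_zero k p with hpp | hp0
  · -- positive characteristic: universal homeomorphism
    obtain ⟨ρ, hρ, hUH⟩ := Groth.Agent.H63.QuotRed.exists_univHomeo h h' (a.orbitMap o)
      (a'.orbitMap o') SQ SQ'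
    constructor
    · intro hA
      haveI := hA
      haveI : IsIntegralHom ρ.left := Groth.Agent.H69.isIntegralHom_of_isUnivHomeo ρ.left hUH
      exact isAffine_of_isAffineHom ρ.left
    · intro hA
      haveI := hA
      refine Groth.Agent.H69.isAffine_of_isUnivHomeo_of_charP ρ.left hUH p hpp ?_
      have e := map_natCast ((Scheme.ΓSpecIso (CommRingCat.of k)).inv ≫ X.hom.appTop).hom p
      rw [CharP.cast_eq_zero k p, map_zero] at e
      exact e.symm
  · -- characteristic zero: `H` is reduced, so `H' = H`
    subst hp0
    haveI : CharZero k := CharP.charP_to_charZero k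
    haveI : LocallyOfFiniteType H.hom := by rw [← Over.w h]; infer_instance
    haveI : Smooth H.hom := Groth.Agent.S0353.result k H
    haveI : IsReduced H.left := Groth.Agent.H51.isReduced_of_smooth H.hom
    haveI : IsIso h'.left := isIso_of_isClosedImmersion_of_surjective h'.left
    haveI : IsIso ((Over.forget _).map h') := inferInstanceAs (IsIso h'.left)
    haveI : IsIso h' := isIso_of_reflects_iso h' (Over.forget _)
    have hm : (G ◁ h') ≫ (G ◁ h) ≫ μ[G] = (G ◁ (h' ≫ h)) ≫ μ[G] := by
      rw [← Category.assoc, ← MonoidalCategory.whiskerLeft_comp]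
    have SQ'' : IsPullback (fst G H) ((G ◁ h) ≫ μ[G]) (a'.orbitMap o') (a'.orbitMap o') := by
      refine IsPullback.of_iso SQ' (whiskerLeftIso G (asIso h')) (Iso.refl _) (Iso.refl _)
        (Iso.refl _) ?_ ?_ ?_ ?_
      · simp
      · simp only [Iso.refl_hom, Category.comp_id, whiskerLeftIso_hom, asIso_hom]
        exact hm.symm
      · simp
      · simp
    haveI := Groth.Agent.H40.FpqcDesc.effectiveEpi_left (a.orbitMap o)
    haveI := Groth.Agent.H40.FpqcDesc.effectiveEpi_left (a'.orbitMap o')
    obtain ⟨e, he⟩ := Groth.Agent.H63.OrbitQuot.exists_iso_of_kernelPair (fst G H)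
      ((G ◁ h) ≫ μ[G]) (a.orbitMap o) (a'.orbitMap o') SQ SQ''
    haveI : IsIso e.hom.left := inferInstanceAs (IsIso ((Over.forget _).map e.hom))
    haveI : IsIso e.inv.left := inferInstanceAs (IsIso ((Over.forget _).map e.inv))
    constructor
    · intro hA
      haveI := hA
      exact IsAffine.of_isIso e.inv.left
    · intro hA
      haveI := hA
      exact IsAffine.of_isIso e.hom.left

end Groth.Agent.S12540
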