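import Groth.Statements.S12545
import Groth.Agent.H62.GLinMu

set_option autoImplicit false
universe u
open TensorProduct LaurentPolynomial
open GIT

namespace Groth.Agent.S12545

/-- Let a commutative bialgebra A over a field k coact linearly on affine ι-space, let λ be a
one-parameter subgroup (a bialgebra map to the Laurent polynomial ring) and v ≠ 0 a vector; write
μ(v, λ) = m when t^m · (v moved by λ(t)) extends to the affine line with non-zero value at t = 0.
Then v moved by λ(t) has no limit as t → 0 exactly when μ(v, λ) > 0, has a limit different from the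
origin exactly when μ(v, λ) = 0, and tends to the origin exactly when μ(v, λ) < 0. -/
theorem result (k : Type u) [Field k] (A : Type u) [CommRing A] [Bialgebra k A]
    (ι : Type u) [Fintype ι] [HopfRep.Comod k A (MvPolynomial ι k)] [GLin.IsCoactAlg k A (MvPolynomial ι k)]
    (hlin : GLin.IsLinear k A ι) (lam : A →ₐc[k] k[T;T⁻¹]) (v : ι → k) (hv : v ≠ 0) :
    (¬ GLin.HasLimit k A lam (GLin.vecPt k ι v) ↔ ∃ m : ℤ, GLin.IsMu k A lam v m ∧ 0 < m) ∧
      ((GLin.HasLimit k A lam (GLin.vecPt k ι v) ∧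
          ¬ GLin.IsLimit k A lam (GLin.vecPt k ι v) (GLin.vecPt k ι (fun _ => (0 : k)))) ↔
        GLin.IsMu k A lam v 0) ∧
      (GLin.IsLimit k A lam (GLin.vecPt k ι v) (GLin.vecPt k ι (fun _ => (0 : k))) ↔
        ∃ m : ℤ, GLin.IsMu k A lam v m ∧ m < 0) := by
  obtain ⟨m₀, hm₀⟩ := Groth.Agent.H62.GLinMu.exists_isMu lam hv
  have hL := Groth.Agent.H62.GLinMu.hasLimit_iff_of_isMu hm₀
  have hZ := Groth.Agent.H62.GLinMu.isLimit_zero_iff_of_isMu hm₀
  refine ⟨?_, ?_, ?_⟩
  · rw [hL]
    constructor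
    · intro h
      exact ⟨m₀, hm₀, by omega⟩
    · rintro ⟨m, hm, hpos⟩
      rw [Groth.Agent.H62.GLinMu.isMu_unique hm₀ hm]
      omega
  · rw [hL, hZ]
    constructor
    · rintro ⟨h1, h2⟩
      have : m₀ = 0 := by omega
      rw [← this]
      exact hm₀
    · intro h0
      rw [Groth.Agent.H62.GLinMu.isMu_unique hm₀ h0]
      omega
  · rw [hZ]
    constructor
    · intro h
      exact ⟨m₀, hm₀, h⟩
    · rintro ⟨m, hm, hneg⟩
      rw [Groth.Agent.H62.GLinMu.isMu_unique hm₀ hm]
      exact hneg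

end Groth.Agent.S12545
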