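import Groth.Statements.S12549
import Mathlib
import Groth.Agent.H64.HullChain

set_option autoImplicit false
universe u
open GIT

namespace Groth.Agent.S12549

/-- Let g ≥ 1 and n ≥ 2g, and let e_0, …, e_n be natural numbers with e_0 = 0, e_n = n + g, e_0 ≤ … ≤
e_n, e_i ≤ i for i ≤ n − g and e_i ≤ i + g for all i. Then for all real r_0 ≥ r_1 ≥ … ≥ r_n with Σ
r_i = 0, not all zero, some chain 0 = c_0 < c_1 < … < c_μ = n has Σ_j (e_(c_(j+1)) − e_(c_j)) ·
(r_(c_(j+1)) + r_(c_j)) < 0. -/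
theorem result (n g : ℕ) (hg : 1 ≤ g) (hn : 2 * g ≤ n)
    (e : Fin (n + 1) → ℕ) (he0 : e 0 = 0) (hen : e (Fin.last n) = n + g) (hmono : Monotone e)
    (hle : ∀ i : Fin (n + 1), (i : ℕ) ≤ n - g → e i ≤ (i : ℕ)) (hle' : ∀ i : Fin (n + 1), e i ≤ (i : ℕ) + g)
    (r : Fin (n + 1) → ℝ) (hanti : Antitone r) (hsum : ∑ i, r i = 0) (hr : r ≠ 0) :
    ∃ (μ : ℕ) (c : Fin (μ + 1) → Fin (n + 1)), StrictMono c ∧ c 0 = 0 ∧ c (Fin.last μ) = Fin.last n ∧
      ∑ j : Fin μ, ((e (c j.succ) : ℝ) - (e (c j.castSucc) : ℝ)) * (r (c j.succ) + r (c j.castSucc)) < 0 := by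
  have hgn : g ≤ n := by omega
  have hg1 : (1 : ℝ) ≤ g := by exact_mod_cast hg
  have hn' : (2 : ℝ) * g ≤ n := by exact_mod_cast hn
  have hM : ((n - g : ℕ) : ℝ) = (n : ℝ) - g := Nat.cast_sub hgn
  -- the sequences
  obtain ⟨E, hE⟩ : ∃ E : ℕ → ℝ, ∀ i : Fin (n + 1), E i = e i :=
    ⟨fun i => if h : i ≤ n then (e ⟨i, Nat.lt_succ_of_le h⟩ : ℝ) else 0, fun i => by
      simp [Fin.is_le]⟩
  obtain ⟨R, hRr⟩ : ∃ R : ℕ → ℝ, ∀ i : Fin (n + 1), R i = r i :=
    ⟨fun i => if h : i ≤ n then r ⟨i, Nat.lt_succ_of_le h⟩ else 0, fun i => by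
      simp [Fin.is_le]⟩
  obtain ⟨x, hxl, hxr⟩ : ∃ x : ℕ → ℝ, (∀ i, i ≤ n - g → x i = i) ∧
      (∀ i, n - g < i → x i = (i : ℝ) + g) :=
    ⟨fun i => if i ≤ n - g then (i : ℝ) else (i : ℝ) + g, fun i hi => if_pos hi,
      fun i hi => if_neg (not_le.2 hi)⟩
  have hx0 : x 0 = 0 := by
    have := hxl 0 (Nat.zero_le _)
    simpa using this
  have hxm : ∀ i j, i < j → j ≤ n → x i < x j := by
    intro i j hij hjn
    have hc : (i : ℝ) < j := by exact_mod_cast hij
    have hg0 : (0 : ℝ) ≤ g := by positivity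
    rcases le_or_gt i (n - g) with hi | hi <;> rcases le_or_gt j (n - g) with hj | hj
    · rw [hxl i hi, hxl j hj]; exact hc
    · rw [hxl i hi, hxr j hj]; linarith
    · exfalso; omega
    · rw [hxr i hi, hxr j hj]; linarith
  have hE0 : E 0 = 0 := by
    have := hE 0
    simpa [he0] using this
  have hEx : ∀ i, i ≤ n → E i ≤ x i := by
    intro i hi
    have h1 : E i = e ⟨i, Nat.lt_succ_of_le hi⟩ := hE ⟨i, Nat.lt_succ_of_le hi⟩
    rw [h1]
    rcases le_or_gt i (n - g) with hi' | hi'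
    · rw [hxl i hi']
      have := hle ⟨i, Nat.lt_succ_of_le hi⟩ hi'
      exact_mod_cast this
    · rw [hxr i hi']
      have := hle' ⟨i, Nat.lt_succ_of_le hi⟩
      exact_mod_cast this
  have hR : ∀ i j, i ≤ j → j ≤ n → R j ≤ R i := by
    intro i j hij hjn
    have h1 : R i = r ⟨i, Nat.lt_succ_of_le (hij.trans hjn)⟩ :=
      hRr ⟨i, Nat.lt_succ_of_le (hij.trans hjn)⟩
    have h2 : R j = r ⟨j, Nat.lt_succ_of_le hjn⟩ := hRr ⟨j, Nat.lt_succ_of_le hjn⟩
    rw [h1, h2]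
    exact hanti (Fin.mk_le_mk.2 hij)
  -- prefix sums of x
  have hPSl : ∀ k, k ≤ n - g + 1 → Groth.Agent.H64.HullChain.PS x k = (k : ℝ) * (k - 1) / 2 := by
    intro k
    induction k with
    | zero => intro _; rw [Groth.Agent.H64.HullChain.PS_zero]; simp
    | succ k ih =>
      intro hk
      rw [Groth.Agent.H64.HullChain.PS_succ, ih (by omega), hxl k (by omega)]
      push_cast
      ring
  have hPSr : ∀ u : ℕ, Groth.Agent.H64.HullChain.PS x (n - g + 1 + u) =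
      (((n : ℝ) - g) + 1) * ((n : ℝ) - g) / 2 + u * (((n : ℝ) - g) + 1 + g) + u * (u - 1) / 2 := by
    intro u
    induction u with
    | zero =>
      rw [Nat.add_zero, hPSl (n - g + 1) le_rfl]
      push_cast [hM]
      ring
    | succ u ih =>
      rw [show n - g + 1 + (u + 1) = (n - g + 1 + u) + 1 from rfl,
        Groth.Agent.H64.HullChain.PS_succ, ih, hxr (n - g + 1 + u) (by omega)]
      push_cast [hM]
      ring
  have hQ : ∀ k, 1 ≤ k → k ≤ n →
      Groth.Agent.H64.HullChain.Q x ((n : ℝ) + 1) ((n : ℝ) + g) k ≤ -1 := by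
    intro k hk1 hkn
    have hk1' : (1 : ℝ) ≤ k := by exact_mod_cast hk1
    rcases le_or_gt k (n - g) with hk | hk
    · unfold Groth.Agent.H64.HullChain.Q
      rw [hPSl k (by omega), hxl k hk]
      have h1 := mul_nonneg (sub_nonneg.2 hg1) (sq_nonneg (k : ℝ))
      have h2 := mul_nonneg (sub_nonneg.2 hk1') (by linarith : (0 : ℝ) ≤ (n : ℝ) + g)
      nlinarith [h1, h2]
    · obtain ⟨u, rfl⟩ : ∃ u, k = n - g + 1 + u := ⟨k - (n - g + 1), by omega⟩
      have hu : (u : ℝ) + 1 ≤ g := by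
        have : u + 1 ≤ g := by omega
        exact_mod_cast this
      have hu0 : (0 : ℝ) ≤ u := Nat.cast_nonneg u
      have hn0 : (0 : ℝ) ≤ n := Nat.cast_nonneg n
      have hAB : (3 : ℝ) ≤ g * ((n : ℝ) + g) := by
        nlinarith [mul_nonneg (sub_nonneg.2 hg1) (by linarith : (0 : ℝ) ≤ (n : ℝ) + g)]
      have P1 : (1 : ℝ) ≤ g * ((n : ℝ) + g) * ((n : ℝ) - 2 * g + 1) := by
        nlinarith [mul_nonneg (by linarith : (0 : ℝ) ≤ g * ((n : ℝ) + g))
          (by linarith : (0 : ℝ) ≤ (n : ℝ) - 2 * g + 1 - 1)]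
      have hfac : (0 : ℝ) ≤ ((u : ℝ) + 1) + g * ((g : ℝ) - (u + 1)) + n := by
        nlinarith [mul_nonneg (by linarith : (0 : ℝ) ≤ (g : ℝ)) (sub_nonneg.2 hu)]
      have P2 : (0 : ℝ) ≤ ((g : ℝ) - (u + 1)) * (((u : ℝ) + 1) + g * ((g : ℝ) - (u + 1)) + n) :=
        mul_nonneg (sub_nonneg.2 hu) hfac
      unfold Groth.Agent.H64.HullChain.Q
      rw [hPSr u, hxr _ (by omega)]
      push_cast [hM]
      nlinarith [P1, P2]
  have hPSR : Groth.Agent.H64.HullChain.PS R (n + 1) = 0 := by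
    unfold Groth.Agent.H64.HullChain.PS
    rw [Finset.sum_range]
    simp only [hRr]
    exact hsum
  have hEn : E n = (n : ℝ) + g := by
    have := hE (Fin.last n)
    rw [hen] at this
    simpa using this
  obtain ⟨μ, c, hc, hc0, hlast, s, p, hpn, hsp, hV⟩ :=
    Groth.Agent.H64.HullChain.hull_chain n x R E ((n : ℝ) + 1) ((n : ℝ) + g) 1
      (by positivity) (by positivity) zero_le_one hx0 hxm hE0 hEx hR hQ n (by omega) le_rfl
  have hVn : Groth.Agent.H64.HullChain.Vv R E ((n : ℝ) + 1) ((n : ℝ) + g)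
      (Groth.Agent.H64.HullChain.cs n R E c) n
      = ((n : ℝ) + 1) * Groth.Agent.H64.HullChain.cs n R E c := by
    unfold Groth.Agent.H64.HullChain.Vv
    rw [hPSR, hEn]
    ring
  rw [hVn] at hV
  have hxpn : x p < x n := hxm p n hpn le_rfl
  have hs0 : 0 ≤ s := by
    by_contra h
    push Not at h
    have h1 := mul_neg_of_neg_of_pos h (sub_pos.2 hxpn)
    have h2 := hR p n hpn.le le_rfl
    linarith
  have hR0n : R n < R 0 := by
    by_contra hcon
    push Not at hcon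
    apply hr
    have hconst : ∀ i : Fin (n + 1), r i = R 0 := by
      intro i
      have h1 : R i ≤ R 0 := hR 0 i (Nat.zero_le _) i.is_le
      have h2 : R n ≤ R i := hR i n i.is_le le_rfl
      rw [← hRr i]
      linarith
    have h3 : ((n : ℝ) + 1) * R 0 = 0 := by
      have h4 := hsum
      simp only [hconst] at h4
      simpa using h4
    have hpos : (0 : ℝ) < (n : ℝ) + 1 := by positivity
    have hR00 : R 0 = 0 := (mul_eq_zero.1 h3).resolve_left (ne_of_gt hpos)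
    funext i
    rw [hconst i, hR00]
    rfl
  have hxn : 0 < x n := by
    have := hxm 0 n (by omega) le_rfl
    rwa [hx0] at this
  have hτ : 0 < (R 0 - R n) / x n := div_pos (sub_pos.2 hR0n) hxn
  have hQn := hQ n (by omega) le_rfl
  have h5 : s * Groth.Agent.H64.HullChain.Q x ((n : ℝ) + 1) ((n : ℝ) + g) n ≤ s * (-1) :=
    mul_le_mul_of_nonneg_left hQn hs0
  have h6 : ((n : ℝ) + 1) * Groth.Agent.H64.HullChain.cs n R E c < 0 := by linarith
  have h7 : Groth.Agent.H64.HullChain.cs n R E c < 0 := by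
    by_contra h
    push Not at h
    have := mul_nonneg (by positivity : (0 : ℝ) ≤ (n : ℝ) + 1) h
    linarith
  have hcs : Groth.Agent.H64.HullChain.cs n R E c =
      ∑ j : Fin μ, ((e (c j.succ) : ℝ) - (e (c j.castSucc) : ℝ)) *
        (r (c j.succ) + r (c j.castSucc)) := by
    unfold Groth.Agent.H64.HullChain.cs
    simp only [hE, hRr]
  refine ⟨μ, c, hc, hc0, Fin.ext (by rw [hlast, Fin.val_last]), ?_⟩
  rw [← hcs]
  exact h7

end Groth.Agent.S12549
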