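import Groth.Statements.S12552
import Mathlib
import Groth.Agent.H46.Rado

set_option autoImplicit false
set_option linter.style.haveILetI false
universe u
open GIT

namespace Groth.Agent.S12552

/-- Let V be a finite-dimensional vector space over a field K and x_0, …, x_m non-zero vectors, a
configuration of m + 1 points of P(V); a set S of dim V indices with (x_j)_(j ∈ S) linearly
independent is a determinant section non-zero at the configuration. Then the configuration is stable
(for every subspace L with 0 ≠ L ≠ V, the number of i with x_i ∈ L times dim V is less than dim L ·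
(m + 1)) if and only if there are integers N ≥ N_0 > 0 such that for each index i some non-empty
finite multiset of such sets S contains every index j ≠ i exactly N times and the index i exactly N
− N_0 times (a monomial in the determinant sections, non-zero at the configuration, of multidegree
(N, …, N − N_0, …, N) with the N − N_0 in place i). -/
theorem result (K : Type u) [Field K]
    (V : Type u) [AddCommGroup V] [Module K V] [FiniteDimensional K V]
    (m : ℕ) (x : Fin (m + 1) → V) (hx : ∀ i, x i ≠ 0) :
    (∀ L : Submodule K V, L ≠ ⊥ → L ≠ ⊤ →
        Set.ncard {i : Fin (m + 1) | x i ∈ L} * Module.finrank K V < Module.finrank K L * (m + 1)) ↔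
      ∃ N N₀ : ℕ, 0 < N₀ ∧ N₀ ≤ N ∧
        ∀ i : Fin (m + 1), ∃ P : Multiset (Finset (Fin (m + 1))), P ≠ 0 ∧
          (∀ S ∈ P, S.card = Module.finrank K V ∧ LinearIndependent K (fun j : S => x j)) ∧
          ∀ j : Fin (m + 1),
            Multiset.card (P.filter (fun S => j ∈ S)) = if j = i then N - N₀ else N := by
  classical
  have hnpos : 0 < Module.finrank K V := by
    haveI : Nontrivial V := ⟨⟨x 0, 0, hx 0⟩⟩
    exact Module.finrank_pos
  constructor
  · -- stable ⇒ monomials
    intro hst
    set n := Module.finrank K V with hn
    refine ⟨2 * n * n, n, hnpos, by nlinarith, fun i => ?_⟩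
    obtain ⟨k, hk⟩ : ∃ k, k + 1 = 2 * (m + 1) * n := ⟨2 * (m + 1) * n - 1, by
      have : 0 < 2 * (m + 1) * n := by positivity
      omega⟩
    have hNn : n ≤ 2 * n * n := by nlinarith
    have hsum : ∑ j : Fin (m + 1), (if j = i then 2 * n * n - n else 2 * n * n) = k * n := by
      rw [← Finset.add_sum_erase Finset.univ _ (Finset.mem_univ i)]
      rw [if_pos rfl]
      have : ∑ j ∈ Finset.univ.erase i, (if j = i then 2 * n * n - n else 2 * n * n) =
          m * (2 * n * n) := by
        rw [Finset.sum_congr rfl (fun j hj => if_neg (Finset.ne_of_mem_erase hj))]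
        rw [Finset.sum_const, Finset.card_erase_of_mem (Finset.mem_univ _), Finset.card_univ,
          Fintype.card_fin, smul_eq_mul]
        simp
      rw [this]
      have h1 : (k + 1) * n = 2 * (m + 1) * n * n := by rw [hk]
      have h2 : 2 * n * n - n + n = 2 * n * n := Nat.sub_add_cancel hNn
      have h3 : 2 * n * n - n + m * (2 * n * n) + n = k * n + n := by
        calc 2 * n * n - n + m * (2 * n * n) + n = (2 * n * n - n + n) + m * (2 * n * n) := by ring
          _ = 2 * n * n + m * (2 * n * n) := by rw [h2]
          _ = 2 * (m + 1) * n * n := by ring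
          _ = (k + 1) * n := h1.symm
          _ = k * n + n := by ring
      omega
    have hcond : ∀ B : Finset (Fin (m + 1)),
        ∑ e ∈ B, (if e = i then 2 * n * n - n else 2 * n * n) ≤
          k * Module.finrank K (Submodule.span K (x '' (B : Set (Fin (m + 1))))) := by
      intro B
      set L := Submodule.span K (x '' (B : Set (Fin (m + 1)))) with hL
      by_cases hLtop : L = ⊤
      · rw [hLtop, finrank_top, ← hsum]
        exact Finset.sum_le_sum_of_subset (Finset.subset_univ B)
      by_cases hBe : B = ∅
      · subst hBe
        simp
      obtain ⟨e₀, he₀⟩ := Finset.nonempty_iff_ne_empty.mpr hBe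
      have hLbot : L ≠ ⊥ := by
        intro hbot
        have : x e₀ ∈ L := Submodule.subset_span ⟨e₀, he₀, rfl⟩
        rw [hbot, Submodule.mem_bot] at this
        exact hx e₀ this
      have hs := hst L hLbot hLtop
      have hBc : B.card ≤ Set.ncard {i : Fin (m + 1) | x i ∈ L} := by
        rw [← Set.ncard_coe_finset B]
        apply Set.ncard_le_ncard _ (Set.toFinite _)
        intro e he
        exact Submodule.subset_span ⟨e, he, rfl⟩
      have hℓ : Module.finrank K L ≤ n := Submodule.finrank_le L
      have hw : ∑ e ∈ B, (if e = i then 2 * n * n - n else 2 * n * n) ≤ B.card * (2 * n * n) := by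
        rw [← smul_eq_mul]
        apply Finset.sum_le_card_nsmul
        intro e _
        split_ifs
        · exact Nat.sub_le _ _
        · exact le_rfl
      set c := Set.ncard {i : Fin (m + 1) | x i ∈ L} with hc
      set ℓ := Module.finrank K L with hℓd
      -- arithmetic
      have a1 : c * n + 1 ≤ ℓ * (m + 1) := hs
      have a2 : 2 * n * (c * n + 1) ≤ 2 * n * (ℓ * (m + 1)) := Nat.mul_le_mul_left _ a1
      have a3 : 2 * n * (ℓ * (m + 1)) = k * ℓ + ℓ := by
        calc 2 * n * (ℓ * (m + 1)) = (2 * (m + 1) * n) * ℓ := by ring
          _ = (k + 1) * ℓ := by rw [hk]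
          _ = k * ℓ + ℓ := by ring
      have a4 : B.card * (2 * n * n) ≤ c * (2 * n * n) := Nat.mul_le_mul_right _ hBc
      have a5 : 2 * n * (c * n + 1) = c * (2 * n * n) + 2 * n := by ring
      omega
    obtain ⟨I, hI, hIw⟩ := Groth.Agent.H46.Rado.covering_bases (K := K) x
      (fun j => if j = i then 2 * n * n - n else 2 * n * n) k hcond hsum
    refine ⟨(Finset.univ : Finset (Fin k)).val.map I, ?_, ?_, ?_⟩
    · -- nonempty since k ≥ 1
      have hkpos : 0 < k := by
        have : 2 ≤ 2 * (m + 1) * n := by nlinarith
        omega
      intro h0
      have := congrArg Multiset.card h0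
      rw [Multiset.card_map] at this
      simp at this
      omega
    · intro S hS
      obtain ⟨t, -, rfl⟩ := Multiset.mem_map.mp hS
      exact hI t
    · intro j
      rw [Multiset.filter_map, Multiset.card_map]
      have := hIw j
      rw [Finset.card_def, Finset.filter_val] at this
      exact this
  · -- monomials ⇒ stable
    rintro ⟨N, N₀, hN₀, hle, hP⟩ L hL0 hLtop
    set n := Module.finrank K V with hn
    set ℓ := Module.finrank K L with hℓ
    have hℓpos : 0 < ℓ := by
      haveI : Nontrivial L := (Submodule.nontrivial_iff_ne_bot).mpr hL0
      exact Module.finrank_pos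
    have hℓlt : ℓ < n := Submodule.finrank_lt hLtop
    have hbound : ∀ S : Finset (Fin (m + 1)), LinearIndependent K (fun j : S => x j) →
        (∀ j ∈ S, x j ∈ L) → S.card ≤ ℓ := by
      intro S hli hSL
      have : LinearIndependent K (fun j : S => (⟨x j, hSL j j.2⟩ : L)) :=
        LinearIndependent.of_comp L.subtype hli
      have := this.fintype_card_le_finrank
      rwa [Fintype.card_coe] at this
    have hex : ∃ i, x i ∉ L := by
      by_contra hall
      push Not at hall
      obtain ⟨P, hP0, hPS, -⟩ := hP 0
      obtain ⟨S, hS⟩ := Multiset.exists_mem_of_ne_zero hP0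
      obtain ⟨hcard, hli⟩ := hPS S hS
      have := hbound S hli (fun j _ => hall j)
      omega
    obtain ⟨i, hi⟩ := hex
    obtain ⟨P, hP0, hPS, hPc⟩ := hP i
    set C : Finset (Fin (m + 1)) := Finset.univ.filter (fun j => x j ∈ L) with hC
    have hncard : Set.ncard {i : Fin (m + 1) | x i ∈ L} = C.card := by
      rw [← Set.ncard_coe_finset]
      congr 1
      ext j
      simp [C]
    rw [hncard]
    have c1 : C.card * N ≤ Multiset.card P * ℓ := by
      have hsc := Groth.Agent.H46.Rado.sum_card_inter P C
      have hR : ∑ j ∈ C, Multiset.card (P.filter (fun S => j ∈ S)) = C.card * N := by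
        rw [Finset.sum_congr rfl (g := fun _ => N), Finset.sum_const, smul_eq_mul]
        intro j hj
        have hji : j ≠ i := by
          rintro rfl
          exact hi (by simpa [C] using hj)
        rw [hPc j, if_neg hji]
      have hLb : (P.map (fun S => (S ∩ C).card)).sum ≤ Multiset.card P * ℓ := by
        have hall : ∀ a ∈ P.map (fun S => (S ∩ C).card), a ≤ ℓ := by
          intro a ha
          obtain ⟨S, hS, rfl⟩ := Multiset.mem_map.mp ha
          apply hbound
          · have hli := (hPS S hS).2
            have hinj : Function.Injective (fun j : (S ∩ C : Finset (Fin (m + 1))) =>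
                (⟨j.1, Finset.mem_of_mem_inter_left j.2⟩ : S)) := by
              intro a b hab
              apply Subtype.ext
              have h' := congrArg Subtype.val hab
              exact h'
            exact hli.comp _ hinj
          · intro j hj
            have := Finset.mem_of_mem_inter_right hj
            simpa [C] using this
        have := Multiset.sum_le_card_nsmul _ _ hall
        rwa [Multiset.card_map, smul_eq_mul] at this
      rw [← hR, ← hsc]
      exact hLb
    have c2 : Multiset.card P * n + N₀ = (m + 1) * N := by
      have hsc := Groth.Agent.H46.Rado.sum_card_inter P Finset.univ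
      have hLHS : (P.map (fun S => (S ∩ Finset.univ).card)).sum = Multiset.card P * n := by
        rw [Multiset.map_congr rfl (g := fun _ => n)]
        · rw [Multiset.map_const', Multiset.sum_replicate, smul_eq_mul]
        · intro S hS
          rw [Finset.inter_univ]
          exact (hPS S hS).1
      have hRHS : ∑ j ∈ (Finset.univ : Finset (Fin (m + 1))),
          Multiset.card (P.filter (fun S => j ∈ S)) + N₀ = (m + 1) * N := by
        rw [← Finset.add_sum_erase Finset.univ _ (Finset.mem_univ i)]
        rw [hPc i, if_pos rfl]
        have : ∑ j ∈ Finset.univ.erase i, Multiset.card (P.filter (fun S => j ∈ S)) = m * N := by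
          rw [Finset.sum_congr rfl (g := fun _ => N)]
          · rw [Finset.sum_const, Finset.card_erase_of_mem (Finset.mem_univ _), Finset.card_univ,
              Fintype.card_fin, smul_eq_mul]
            simp
          · intro j hj
            rw [hPc j, if_neg (Finset.ne_of_mem_erase hj)]
        rw [this]
        have : (m + 1) * N = m * N + N := by ring
        omega
      rw [← hLHS, hsc]
      exact hRHS
    -- final arithmetic
    by_contra hcon
    push Not at hcon
    have hNpos : 0 < N := lt_of_lt_of_le hN₀ hle
    have e1 : ℓ * (m + 1) * N ≤ C.card * n * N := Nat.mul_le_mul_right _ hcon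
    have e2 : C.card * N * n ≤ Multiset.card P * ℓ * n := Nat.mul_le_mul_right _ c1
    have e3 : Multiset.card P * n * ℓ + N₀ * ℓ = (m + 1) * N * ℓ := by
      rw [← c2]; ring
    have e4 : 0 < N₀ * ℓ := Nat.mul_pos hN₀ hℓpos
    have e5 : ℓ * (m + 1) * N = (m + 1) * N * ℓ := by ring
    have e6 : C.card * n * N = C.card * N * n := by ring
    have e7 : Multiset.card P * ℓ * n = Multiset.card P * n * ℓ := by ring
    omega

end Groth.Agent.S12552
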