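import Groth.Statements.S12555
import Groth.Agent.H62.Reynolds
-- import your own Groth.Agent.* helpers here

set_option autoImplicit false
universe u
open TensorProduct
open GIT

namespace Groth.Agent.S12555

/-- Let k be a field, G = Spec A a linearly reductive affine group (A a commutative Hopf algebra whose
finite-dimensional comodules are all semisimple) and V a representation of G of any dimension (an
A-comodule). Then there is exactly one linear map E : V → V commuting with the coaction, with E ∘ E
= E, and with E x = x exactly for the invariant vectors x. -/
theorem result (k : Type u) [Field k] (A : Type u) [CommRing A] [HopfAlgebra k A]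
    (hG : HopfRep.IsLinearlyReductive k A) (V : Type u) [AddCommGroup V] [Module k V] [HopfRep.Comod k A V] :
    ∃! E : V →ₗ[k] V, Hoch.IsComodHom A E ∧ E ∘ₗ E = E ∧ ∀ x : V, E x = x ↔ x ∈ HopfRep.fixedPts k A V := by
  refine ⟨H62.reynolds V hG, ⟨H62.isComodHom_reynolds hG, H62.reynolds_idem hG,
    H62.reynolds_eq_self_iff hG⟩, ?_⟩
  rintro E ⟨h1, h2, h3⟩
  exact H62.eq_reynolds hG h1 h2 h3

end Groth.Agent.S12555
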