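import Groth.Statements.S12556
import Groth.Agent.H62.Reynolds
-- import your own Groth.Agent.* helpers here

set_option autoImplicit false
universe u
open TensorProduct
open GIT

namespace Groth.Agent.S12556

theorem mul_tmul_one_eq (k : Type u) [Field k] (A : Type u) [CommRing A] [HopfAlgebra k A]
    (R : Type u) [CommRing R] [Algebra k R] (y : R) (t : R ⊗[k] A) :
    t * (y ⊗ₜ[k] (1 : A)) = (LinearMap.mulRight k y).rTensor A t := by
  induction t using TensorProduct.induction_on with
  | zero => simp
  | tmul r a => simp [Algebra.TensorProduct.tmul_mul_tmul]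
  | add s t hs ht => rw [add_mul, map_add, hs, ht]

/-- Let k be a field, G = Spec A a linearly reductive affine group (A a commutative Hopf algebra whose
finite-dimensional comodules are all semisimple) acting on the affine scheme Spec R (a
multiplicative coaction of A on the commutative k-algebra R), and E : R → R a linear map commuting
with the coaction, idempotent, and fixing exactly the invariant elements. Then E(x · y) = E(x) · y
for all x in R and all invariant y. -/
theorem result (k : Type u) [Field k] (A : Type u) [CommRing A] [HopfAlgebra k A]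
    (hG : HopfRep.IsLinearlyReductive k A)
    (R : Type u) [CommRing R] [Algebra k R] [HopfRep.Comod k A R] [GLin.IsCoactAlg k A R]
    (E : R →ₗ[k] R) (h₁ : Hoch.IsComodHom A E) (h₂ : E ∘ₗ E = E)
    (h₃ : ∀ x : R, E x = x ↔ x ∈ GLin.invariants k A R)
    (x y : R) (hy : y ∈ GLin.invariants k A R) : E (x * y) = E x * y := by
  have hinv : ∀ z, z ∈ GLin.invariants k A R ↔ z ∈ HopfRep.fixedPts k A R := fun z => Iff.rfl
  have h₃' : ∀ x, E x = x ↔ x ∈ HopfRep.fixedPts k A R := fun x => (h₃ x).trans (hinv x)
  have hE : E = H62.reynolds R hG := H62.eq_reynolds hG h₁ h₂ h₃'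
  -- multiplication by `y` is a comodule map
  have hm : Hoch.IsComodHom A (LinearMap.mulRight k y) := by
    refine LinearMap.ext fun z => ?_
    simp only [LinearMap.comp_apply, LinearMap.mulRight_apply]
    rw [GLin.IsCoactAlg.coact_mul, (GLin.mem_invariants_iff k A R y).mp hy]
    exact mul_tmul_one_eq k A R y _
  obtain ⟨a, ha, n, hn, rfl⟩ := H62.exists_decomp hG x
  have h1 : a * y ∈ HopfRep.fixedPts k A R :=
    (hinv _).mp ((GLin.invariants k A R).mul_mem ((hinv a).mpr ha) hy)
  have h2 : n * y ∈ H62.N k A R := H62.map_N_le hG hm ⟨n, hn, rfl⟩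
  rw [hE, add_mul, map_add, map_add, H62.reynolds_of_mem_fixedPts hG h1,
    H62.reynolds_of_mem_N hG h2, H62.reynolds_of_mem_fixedPts hG ha, H62.reynolds_of_mem_N hG hn,
    add_zero, add_zero]

end Groth.Agent.S12556
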