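import Groth.Statements.S5658
import Mathlib

set_option autoImplicit false
universe u
open CAlg

namespace Groth.Agent.S5658


open Matrix Polynomial
open scoped commutatorElement

section Grp
variable {G H : Type*} [Group G] [Group H]

theorem map_mem_commutator (φ : G →* H) {g : G} (hg : g ∈ commutator G) :
    φ g ∈ commutator H := by
  rw [commutator_def] at hg ⊢
  have h := Subgroup.mem_map_of_mem φ hg
  rw [Subgroup.map_commutator] at h
  exact Subgroup.commutator_mono le_top le_top h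

theorem comm_mem_commutator (a b : G) : ⁅a, b⁆ ∈ commutator G := by
  rw [commutator_def]
  exact Subgroup.commutator_mem_commutator (Subgroup.mem_top a) (Subgroup.mem_top b)

end Grp

section Mat
variable {n : Type} [Fintype n] [DecidableEq n] {B : Type u} [CommRing B]
  {B' : Type u} [CommRing B']

theorem det_of_mem_commutator {g : Matrix.GeneralLinearGroup n B}
    (hg : g ∈ commutator (Matrix.GeneralLinearGroup n B)) : (g : Matrix n n B).det = 1 := by
  have h := Abelianization.commutator_subset_ker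
    (Matrix.GeneralLinearGroup.det (n := n) (R := B)) hg
  rw [MonoidHom.mem_ker] at h
  have h2 := congrArg Units.val h
  simpa using h2

theorem coe_GLmap (φ : B →+* B') (g : Matrix.GeneralLinearGroup n B) :
    ((Matrix.GeneralLinearGroup.map φ g : Matrix.GeneralLinearGroup n B') : Matrix n n B') =
      (g : Matrix n n B).map φ := rfl

/-- two-sided equivalence by commutator-subgroup elements -/
def Rel (M N : Matrix n n B) : Prop :=
  ∃ gL gR : Matrix.GeneralLinearGroup n B, gL ∈ commutator (Matrix.GeneralLinearGroup n B) ∧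
    gR ∈ commutator (Matrix.GeneralLinearGroup n B) ∧
    (gL : Matrix n n B) * M * (gR : Matrix n n B) = N

def Good (M : Matrix n n B) : Prop :=
  ∃ g : Matrix.GeneralLinearGroup n B, (g : Matrix n n B) = M ∧
    g ∈ commutator (Matrix.GeneralLinearGroup n B)

theorem Rel.trans {M N P : Matrix n n B} (h₁ : Rel M N) (h₂ : Rel N P) : Rel M P := by
  obtain ⟨a, b, ha, hb, rfl⟩ := h₁
  obtain ⟨c, d, hc, hd, rfl⟩ := h₂
  exact ⟨c * a, b * d, mul_mem hc ha, mul_mem hb hd, by simp [Units.val_mul, mul_assoc]⟩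

theorem Rel.left {g : Matrix.GeneralLinearGroup n B}
    (hg : g ∈ commutator (Matrix.GeneralLinearGroup n B)) (M : Matrix n n B) :
    Rel M ((g : Matrix n n B) * M) :=
  ⟨g, 1, hg, one_mem _, by simp⟩

theorem Rel.det_eq {M N : Matrix n n B} (h : Rel M N) : N.det = M.det := by
  obtain ⟨a, b, ha, hb, rfl⟩ := h
  rw [det_mul, det_mul, det_of_mem_commutator ha, det_of_mem_commutator hb, one_mul, mul_one]

theorem Rel.map {M N : Matrix n n B} (φ : B →+* B') (h : Rel M N) : Rel (M.map φ) (N.map φ) := by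
  obtain ⟨a, b, ha, hb, rfl⟩ := h
  refine ⟨Matrix.GeneralLinearGroup.map φ a, Matrix.GeneralLinearGroup.map φ b,
    map_mem_commutator _ ha, map_mem_commutator _ hb, ?_⟩
  rw [coe_GLmap, coe_GLmap, Matrix.map_mul, Matrix.map_mul]

theorem Good.of_rel {M N : Matrix n n B} (h : Rel M N) (hN : Good N) : Good M := by
  obtain ⟨a, b, ha, hb, hab⟩ := h
  obtain ⟨g, hg, hgm⟩ := hN
  refine ⟨a⁻¹ * g * b⁻¹, ?_, mul_mem (mul_mem (inv_mem ha) hgm) (inv_mem hb)⟩
  rw [Units.val_mul, Units.val_mul, hg, ← hab]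
  simp [mul_assoc]

theorem Good.map {M : Matrix n n B} (φ : B →+* B') (h : Good M) : Good (M.map φ) := by
  obtain ⟨g, hg, hgm⟩ := h
  exact ⟨Matrix.GeneralLinearGroup.map φ g, by rw [coe_GLmap, hg], map_mem_commutator _ hgm⟩

end Mat

section Blocks
variable {ι : Type} [Fintype ι] [DecidableEq ι] {B : Type u} [CommRing B]

def upU (v : Matrix ι Unit B) : Matrix.GeneralLinearGroup (ι ⊕ Unit) B :=
  ⟨fromBlocks 1 v 0 1, fromBlocks 1 (-v) 0 1, by simp [fromBlocks_multiply],
    by simp [fromBlocks_multiply]⟩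

def lowL (w : Matrix Unit ι B) : Matrix.GeneralLinearGroup (ι ⊕ Unit) B :=
  ⟨fromBlocks 1 0 w 1, fromBlocks 1 0 (-w) 1, by simp [fromBlocks_multiply],
    by simp [fromBlocks_multiply]⟩

def dU (u : Bˣ) : Matrix.GeneralLinearGroup (ι ⊕ Unit) B :=
  ⟨fromBlocks ((u : B) • (1 : Matrix ι ι B)) 0 0 1, fromBlocks ((↑u⁻¹ : B) • (1 : Matrix ι ι B)) 0 0 1,
    by simp [fromBlocks_multiply, smul_smul], by simp [fromBlocks_multiply, smul_smul]⟩

theorem upU_add (v₁ v₂ : Matrix ι Unit B) : upU (v₁ + v₂) = upU v₁ * upU v₂ :=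
  Units.ext (by simp [upU, fromBlocks_multiply, add_comm])

theorem lowL_add (w₁ w₂ : Matrix Unit ι B) : lowL (w₁ + w₂) = lowL w₁ * lowL w₂ :=
  Units.ext (by simp [lowL, fromBlocks_multiply, add_comm])

theorem dU_mul_upU (u : Bˣ) (v : Matrix ι Unit B) :
    dU u * upU v = upU ((u : B) • v) * dU u :=
  Units.ext (by simp [upU, dU, fromBlocks_multiply])

theorem lowL_mul_dU (u : Bˣ) (w : Matrix Unit ι B) :
    lowL w * dU u = dU u * lowL ((u : B) • w) :=
  Units.ext (by simp [lowL, dU, fromBlocks_multiply])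

theorem upU_mem (u t : Bˣ) (ht : (t : B) = (u : B) - 1) (v : Matrix ι Unit B) :
    upU v ∈ commutator (Matrix.GeneralLinearGroup (ι ⊕ Unit) B) := by
  set v' : Matrix ι Unit B := (↑t⁻¹ : B) • v with hv'
  have hmul : (u : B) * ↑t⁻¹ = 1 + ↑t⁻¹ := by
    have h := t.mul_inv
    rw [ht] at h
    linear_combination h
  have hsm : (u : B) • v' = v + v' := by
    rw [hv', smul_smul, hmul, add_smul, one_smul]
  have hc : dU u * upU v' = upU v * upU v' * dU u := by
    rw [dU_mul_upU, hsm, upU_add]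
  have h1 : upU v = ⁅(dU u : Matrix.GeneralLinearGroup (ι ⊕ Unit) B), upU v'⁆ := by
    rw [commutatorElement_def, hc]; group
  rw [h1]; exact comm_mem_commutator _ _

theorem lowL_mem (u t : Bˣ) (ht : (t : B) = (u : B) - 1) (w : Matrix Unit ι B) :
    lowL w ∈ commutator (Matrix.GeneralLinearGroup (ι ⊕ Unit) B) := by
  set w' : Matrix Unit ι B := (↑t⁻¹ : B) • w with hw'
  have hmul : (u : B) * ↑t⁻¹ = 1 + ↑t⁻¹ := by
    have h := t.mul_inv
    rw [ht] at h
    linear_combination h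
  have hsm : (u : B) • w' = w + w' := by
    rw [hw', smul_smul, hmul, add_smul, one_smul]
  have hc : lowL w' * dU u = dU u * (lowL w * lowL w') := by
    rw [lowL_mul_dU, hsm, lowL_add]
  have h1 : lowL w = ⁅(dU u : Matrix.GeneralLinearGroup (ι ⊕ Unit) B)⁻¹, lowL w'⁆ := by
    rw [commutatorElement_def, inv_inv, mul_assoc ((dU u)⁻¹) (lowL w') (dU u), hc]; group
  rw [h1]; exact comm_mem_commutator _ _

def blockHom : Matrix ι ι B →* Matrix (ι ⊕ Unit) (ι ⊕ Unit) B where
  toFun X := fromBlocks X 0 0 1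
  map_one' := fromBlocks_one
  map_mul' X Y := by simp [fromBlocks_multiply]

theorem Good.block {M' : Matrix ι ι B} (h : Good M') :
    Good (fromBlocks M' 0 0 1 : Matrix (ι ⊕ Unit) (ι ⊕ Unit) B) := by
  obtain ⟨g, hg, hgm⟩ := h
  refine ⟨Units.map blockHom g, ?_, map_mem_commutator _ hgm⟩
  rw [Units.coe_map]
  show fromBlocks (g : Matrix ι ι B) 0 0 1 = _
  rw [hg]

theorem rel_block_of_corner (u t : Bˣ) (ht : (t : B) = (u : B) - 1)
    (N : Matrix (ι ⊕ Unit) (ι ⊕ Unit) B) (h : N (Sum.inr ()) (Sum.inr ()) = 1) :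
    ∃ M' : Matrix ι ι B, Rel N (fromBlocks M' 0 0 1) := by
  obtain ⟨A, v, w, d, rfl⟩ : ∃ A v w d, N = fromBlocks A v w d :=
    ⟨_, _, _, _, (fromBlocks_toBlocks N).symm⟩
  have hd : d = 1 := by
    ext ⟨⟩ ⟨⟩
    simpa using h
  subst hd
  refine ⟨A - v * w, upU (-v), lowL (-w), upU_mem u t ht _, lowL_mem u t ht _, ?_⟩
  simp [upU, lowL, fromBlocks_multiply, sub_eq_add_neg]

theorem rel_corner_of_unit (u t : Bˣ) (ht : (t : B) = (u : B) - 1)
    (M : Matrix (ι ⊕ Unit) (ι ⊕ Unit) B) (i : ι) (hi : IsUnit (M (Sum.inl i) (Sum.inr ()))) :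
    ∃ N, Rel M N ∧ N (Sum.inr ()) (Sum.inr ()) = 1 := by
  obtain ⟨a, ha⟩ := hi
  set c : B := (1 - M (Sum.inr ()) (Sum.inr ())) * ↑a⁻¹ with hc
  set w' : Matrix Unit ι B := Matrix.of fun _ j => if j = i then c else 0 with hw'
  refine ⟨(lowL w' : Matrix (ι ⊕ Unit) (ι ⊕ Unit) B) * M, Rel.left (lowL_mem u t ht w') M, ?_⟩
  have key : ((lowL w' : Matrix (ι ⊕ Unit) (ι ⊕ Unit) B) * M) (Sum.inr ()) (Sum.inr ()) =
      c * M (Sum.inl i) (Sum.inr ()) + M (Sum.inr ()) (Sum.inr ()) := by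
    simp [lowL, Matrix.mul_apply, Fintype.sum_sum_type, hw']
  rw [key, hc, ← ha]
  have h := a.inv_mul
  linear_combination (1 - M (Sum.inr ()) (Sum.inr ())) * h

theorem rel_unit_of_corner (u t : Bˣ) (ht : (t : B) = (u : B) - 1)
    (M : Matrix (ι ⊕ Unit) (ι ⊕ Unit) B) (i : ι) (hd : IsUnit (M (Sum.inr ()) (Sum.inr ()))) :
    ∃ N, Rel M N ∧ IsUnit (N (Sum.inl i) (Sum.inr ())) := by
  obtain ⟨d, hd⟩ := hd
  set c : B := (1 - M (Sum.inl i) (Sum.inr ())) * ↑d⁻¹ with hc
  set v' : Matrix ι Unit B := Matrix.of fun j _ => if j = i then c else 0 with hv'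
  refine ⟨(upU v' : Matrix (ι ⊕ Unit) (ι ⊕ Unit) B) * M, Rel.left (upU_mem u t ht v') M, ?_⟩
  have key : ((upU v' : Matrix (ι ⊕ Unit) (ι ⊕ Unit) B) * M) (Sum.inl i) (Sum.inr ()) =
      M (Sum.inl i) (Sum.inr ()) + c * M (Sum.inr ()) (Sum.inr ()) := by
    simp [upU, Matrix.mul_apply, Fintype.sum_sum_type, hv', Matrix.one_apply]
  have h1 : ((upU v' : Matrix (ι ⊕ Unit) (ι ⊕ Unit) B) * M) (Sum.inl i) (Sum.inr ()) = 1 := by
    rw [key, hc, ← hd]
    have h := d.inv_mul
    linear_combination (1 - M (Sum.inl i) (Sum.inr ())) * h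
  rw [h1]; exact isUnit_one

theorem exists_rel_block [Nonempty ι] (u t : Bˣ) (ht : (t : B) = (u : B) - 1)
    (M : Matrix (ι ⊕ Unit) (ι ⊕ Unit) B) (h : ∃ k, IsUnit (M k (Sum.inr ()))) :
    ∃ M' : Matrix ι ι B, Rel M (fromBlocks M' 0 0 1) := by
  obtain ⟨k, hk⟩ := h
  rcases k with i | ⟨⟩
  · obtain ⟨N, hMN, hN⟩ := rel_corner_of_unit u t ht M i hk
    obtain ⟨M', hM'⟩ := rel_block_of_corner u t ht N hN
    exact ⟨M', hMN.trans hM'⟩
  · obtain ⟨i⟩ := ‹Nonempty ι›
    obtain ⟨N₀, h0, hN0⟩ := rel_unit_of_corner u t ht M i hk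
    obtain ⟨N, hMN, hN⟩ := rel_corner_of_unit u t ht N₀ i hN0
    obtain ⟨M', hM'⟩ := rel_block_of_corner u t ht N hN
    exact ⟨M', (h0.trans hMN).trans hM'⟩

end Blocks

/-- the inductive statement -/
def Q (ι : Type) [Fintype ι] [DecidableEq ι] : Prop :=
  ∀ (B : Type u) [CommRing B] (u t : Bˣ), (t : B) = (u : B) - 1 → ∀ (M : Matrix ι ι B),
    M.det = 1 → ∀ (q : Ideal B) [q.IsPrime],
      ∃ (B' : Type u) (_ : CommRing B') (_ : Algebra B B'), Algebra.Etale B B' ∧
        (∃ q' : Ideal B', q'.IsPrime ∧ q'.comap (algebraMap B B') = q) ∧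
        Good (M.map (algebraMap B B'))

theorem Q_of_isEmpty (ι : Type) [Fintype ι] [DecidableEq ι] [IsEmpty ι] : Q.{u} ι := by
  intro B _ u t ht M hM q hq
  refine ⟨B, inferInstance, inferInstance, inferInstance, ⟨q, hq, ?_⟩,
    ⟨1, Subsingleton.elim _ _, one_mem _⟩⟩
  ext x; simp

theorem Q_step_aux (ι : Type) [Fintype ι] [DecidableEq ι] [Nonempty ι] (ih : Q.{u} ι)
    (B : Type u) [CommRing B] (u t : Bˣ) (ht : (t : B) = (u : B) - 1)
    (M : Matrix (ι ⊕ Unit) (ι ⊕ Unit) B) (hM : M.det = 1) (q : Ideal B) [hq : q.IsPrime]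
    (i₀ : ι ⊕ Unit) (hi₀ : M i₀ (Sum.inr ()) ∉ q)
    (B₁ : Type u) [CommRing B₁] [Algebra B B₁] [IsLocalization.Away (M i₀ (Sum.inr ())) B₁] :
    ∃ (B' : Type u) (_ : CommRing B') (_ : Algebra B B'), Algebra.Etale B B' ∧
        (∃ q' : Ideal B', q'.IsPrime ∧ q'.comap (algebraMap B B') = q) ∧
        Good (M.map (algebraMap B B')) := by
  have hdisj : Disjoint (Submonoid.powers (M i₀ (Sum.inr ())) : Set B) (q : Set B) :=
    (Ideal.disjoint_powers_iff_notMem_of_isPrime _).2 hi₀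
  haveI hq₁ : (q.map (algebraMap B B₁)).IsPrime :=
    IsLocalization.isPrime_of_isPrime_disjoint (Submonoid.powers (M i₀ (Sum.inr ()))) B₁ q hq hdisj
  have hq₁c : (q.map (algebraMap B B₁)).comap (algebraMap B B₁) = q :=
    IsLocalization.under_map_of_isPrime_disjoint (Submonoid.powers (M i₀ (Sum.inr ()))) B₁ hq hdisj
  haveI hEt₁ : Algebra.Etale B B₁ := Algebra.Etale.of_isLocalizationAway (M i₀ (Sum.inr ()))
  have hunit : IsUnit ((M.map (algebraMap B B₁)) i₀ (Sum.inr ())) :=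
    IsLocalization.Away.algebraMap_isUnit (M i₀ (Sum.inr ()))
  set u₁ : B₁ˣ := Units.map (algebraMap B B₁ : B →* B₁) u with hu₁
  set t₁ : B₁ˣ := Units.map (algebraMap B B₁ : B →* B₁) t with ht₁d
  have ht₁ : (t₁ : B₁) = (u₁ : B₁) - 1 := by
    simp only [hu₁, ht₁d, Units.coe_map, MonoidHom.coe_coe, ht, map_sub, map_one]
  obtain ⟨M', hrel⟩ := exists_rel_block u₁ t₁ ht₁ (M.map (algebraMap B B₁)) ⟨i₀, hunit⟩
  have hdet : M'.det = 1 := by
    have h := hrel.det_eq
    rw [Matrix.det_fromBlocks_zero₂₁, Matrix.det_one, mul_one] at h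
    rw [h, ← RingHom.mapMatrix_apply, ← RingHom.map_det, hM, map_one]
  obtain ⟨B₂, _, _, hEt, ⟨q₂, hq₂, hq₂c⟩, hGood⟩ :=
    ih B₁ u₁ t₁ ht₁ M' hdet (q.map (algebraMap B B₁))
  letI : Algebra B B₂ := ((algebraMap B₁ B₂).comp (algebraMap B B₁)).toAlgebra
  haveI : IsScalarTower B B₁ B₂ := IsScalarTower.of_algebraMap_eq (fun _ => rfl)
  refine ⟨B₂, inferInstance, inferInstance, Algebra.Etale.comp B B₁ B₂, ⟨q₂, hq₂, ?_⟩, ?_⟩
  · rw [show algebraMap B B₂ = (algebraMap B₁ B₂).comp (algebraMap B B₁) from rfl,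
      ← Ideal.comap_comap, hq₂c, hq₁c]
  · have hmap : M.map (algebraMap B B₂) =
        (M.map (algebraMap B B₁)).map (algebraMap B₁ B₂) := by
      ext i j; rfl
    rw [hmap]
    refine Good.of_rel (hrel.map (algebraMap B₁ B₂)) ?_
    have hb : (fromBlocks M' 0 0 1 : Matrix (ι ⊕ Unit) (ι ⊕ Unit) B₁).map (algebraMap B₁ B₂) =
        fromBlocks (M'.map (algebraMap B₁ B₂)) 0 0 1 := by
      rw [Matrix.fromBlocks_map]
      simp
    rw [hb]
    exact hGood.block

theorem Q_step (ι : Type) [Fintype ι] [DecidableEq ι] (ih : Q.{u} ι) : Q.{u} (ι ⊕ Unit) := by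
  intro B _ u t ht M hM q hq
  rcases isEmpty_or_nonempty ι with hι | hι
  · have hM1 : M = 1 := by
      ext i j
      rcases i with i | i
      · exact isEmptyElim i
      rcases j with j | j
      · exact isEmptyElim j
      letI : Unique (ι ⊕ Unit) :=
        ⟨⟨Sum.inr ()⟩, fun x => by
          rcases x with x | x
          · exact isEmptyElim x
          · rfl⟩
      have h := Matrix.det_unique M
      rw [hM] at h
      rw [Matrix.one_apply_eq]
      exact h.symm
    refine ⟨B, inferInstance, inferInstance, inferInstance, ⟨q, hq, by ext x; simp⟩,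
      ⟨1, ?_, one_mem _⟩⟩
    rw [hM1]
    simp
  · have hex : ∃ i, M i (Sum.inr ()) ∉ q := by
      by_contra hcon
      push_neg at hcon
      have h0 : (M.map (Ideal.Quotient.mk q)).det = 0 :=
        Matrix.det_eq_zero_of_column_eq_zero (Sum.inr ()) (fun i => by
          simp [Ideal.Quotient.eq_zero_iff_mem, hcon i])
      have h1 : (M.map (Ideal.Quotient.mk q)).det = 1 := by
        rw [← RingHom.mapMatrix_apply, ← RingHom.map_det, hM, map_one]
      rw [h0] at h1
      have h2 : (1 : B) ∈ q := by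
        rw [← Ideal.Quotient.eq_zero_iff_mem, map_one]; exact h1.symm
      exact hq.ne_top ((Ideal.eq_top_iff_one q).2 h2)
    obtain ⟨i₀, hi₀⟩ := hex
    exact Q_step_aux ι ih B u t ht M hM q i₀ hi₀ (Localization.Away (M i₀ (Sum.inr ())))

def reidx {ι κ : Type} [Fintype ι] [DecidableEq ι] [Fintype κ] [DecidableEq κ]
    {B : Type u} [CommRing B] (e : ι ≃ κ) : Matrix ι ι B →* Matrix κ κ B where
  toFun X := X.submatrix e.symm e.symm
  map_one' := by simp
  map_mul' X Y := (Matrix.submatrix_mul_equiv X Y _ e.symm _).symm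

theorem Q_of_equiv {ι κ : Type} [Fintype ι] [DecidableEq ι] [Fintype κ] [DecidableEq κ]
    (e : ι ≃ κ) (h : Q.{u} ι) : Q.{u} κ := by
  intro B _ u t ht M hM q hq
  have hdet : (M.submatrix e e).det = 1 := by rw [Matrix.det_submatrix_equiv_self, hM]
  obtain ⟨B', _, _, hEt, hq', g, hg, hgm⟩ := h B u t ht (M.submatrix e e) hdet q
  refine ⟨B', inferInstance, inferInstance, hEt, hq', Units.map (reidx e) g, ?_,
    map_mem_commutator _ hgm⟩
  rw [Units.coe_map]
  show (g : Matrix ι ι B').submatrix e.symm e.symm = _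
  rw [hg]
  ext i j
  simp

theorem Q_fin : ∀ n : ℕ, Q.{u} (Fin n)
  | 0 => Q_of_isEmpty _
  | n + 1 => Q_of_equiv ((Equiv.sumCongr (Equiv.refl _) finOneEquiv.symm).trans finSumFinEquiv)
      (Q_step _ (Q_fin n))

theorem exists_good_root (K : Type u) [Field K] [IsAlgClosed K] :
    ∃ a : K, a ^ 3 - (a + 1) = 0 ∧ 3 * a ^ 2 - 1 ≠ 0 := by
  by_contra H
  push_neg at H
  obtain ⟨a, ha⟩ := IsAlgClosed.exists_root
    (C (1 : K) * X ^ 3 + C 0 * X ^ 2 + C (-1) * X + C (-1))
    (by rw [Polynomial.degree_cubic one_ne_zero]; norm_num)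
  have ha1 : a ^ 3 - (a + 1) = 0 := by
    have h := ha
    simp [Polynomial.IsRoot] at h
    linear_combination h
  obtain ⟨b, hb⟩ := IsAlgClosed.exists_root
    (C (1 : K) * X ^ 2 + C a * X + C (a ^ 2 - 1))
    (by rw [Polynomial.degree_quadratic one_ne_zero]; norm_num)
  have hb1 : b ^ 2 + a * b + (a ^ 2 - 1) = 0 := by
    have h := hb
    simp [Polynomial.IsRoot] at h
    linear_combination h
  have hb2 : b ^ 3 - (b + 1) = 0 := by linear_combination (b - a) * hb1 + ha1
  have hc : (-a - b) ^ 3 - ((-a - b) + 1) = 0 := by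
    linear_combination (-a - b - a) * hb1 + ha1
  have E1 := H a ha1
  have E2 := H b hb2
  have E3 := H (-a - b) hc
  have h10 : (1 : K) = 0 := by
    linear_combination a ^ 2 * (E3 + E1 + E2 - 6 * hb1) - E1
  exact one_ne_zero h10

noncomputable def myPair (A : Type u) [CommRing A] : StandardEtalePair A where
  f := X ^ 3 - (X + 1)
  monic_f := by
    have h : degree (X + 1 : A[X]) < ((3 : ℕ) : WithBot ℕ) := by
      refine (Polynomial.degree_add_le _ _).trans_lt (max_lt ?_ ?_)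
      · exact Polynomial.degree_X_le.trans_lt (by norm_num)
      · exact Polynomial.degree_one_le.trans_lt (by norm_num)
    exact Polynomial.monic_X_pow_sub h
  g := derivative (X ^ 3 - (X + 1))
  cond := ⟨1, 0, 1, by simp⟩

theorem myPair_X (A : Type u) [CommRing A] :
    (myPair A).X ^ 3 - ((myPair A).X + 1) = 0 := by
  have h := (StandardEtalePair.hasMap_X (P := myPair A)).1
  have hf : (myPair A).f = X ^ 3 - (X + 1) := rfl
  rw [hf] at h
  simpa using h

theorem exists_base (A : Type u) [CommRing A] (p : Ideal A) [hp : p.IsPrime] :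
    ∃ (A₀ : Type u) (_ : CommRing A₀) (_ : Algebra A A₀), Algebra.Etale A A₀ ∧
      (∃ q : Ideal A₀, q.IsPrime ∧ q.comap (algebraMap A A₀) = p) ∧
      ∃ u t : A₀ˣ, (t : A₀) = (u : A₀) - 1 := by
  have hX := myPair_X A
  obtain ⟨a, ha, ha'⟩ := exists_good_root (AlgebraicClosure p.ResidueField)
  have hg : aeval a (myPair A).g = 3 * a ^ 2 - 1 := by
    have hgd : (myPair A).g = derivative (X ^ 3 - (X + 1)) := rfl
    rw [hgd]
    simp
    left
    rw [map_ofNat]
    norm_num
  have hf : (myPair A).f = X ^ 3 - (X + 1) := rfl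
  have hmap : (myPair A).HasMap a :=
    ⟨by rw [hf]; simpa using ha, by rw [hg]; exact IsUnit.mk0 _ ha'⟩
  refine ⟨(myPair A).Ring, inferInstance, inferInstance, inferInstance,
    ⟨RingHom.ker ((myPair A).lift a hmap), RingHom.ker_isPrime _, ?_⟩,
    ⟨(myPair A).X, (myPair A).X ^ 2 - 1, by linear_combination hX, by linear_combination hX⟩,
    ⟨(myPair A).X - 1, (myPair A).X * ((myPair A).X + 1), by linear_combination hX,
      by linear_combination hX⟩, rfl⟩
  ext x
  rw [Ideal.mem_comap, RingHom.mem_ker, AlgHom.commutes,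
    IsScalarTower.algebraMap_apply A p.ResidueField (AlgebraicClosure p.ResidueField),
    map_eq_zero_iff _ (algebraMap p.ResidueField (AlgebraicClosure p.ResidueField)).injective,
    Ideal.algebraMap_residueField_eq_zero]

/-- On the big étale site of a scheme the sheaf of commutator subgroups of Gl(n) is Sl(n) = Ker(det).
Concretely: let A be a commutative ring, n ≥ 0, s ∈ SL_n(A) and p a prime ideal of A. Then there are
an étale A-algebra A' with a prime ideal lying over p such that the image of s in GL_n(A') lies in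
the commutator subgroup of GL_n(A'). (The inclusion of commutators in SL_n being clear, this is the
content of the statement.) -/
theorem result (A : Type u) [CommRing A] (n : ℕ)
    (s : Matrix.SpecialLinearGroup (Fin n) A) (p : PrimeSpectrum A) :
    ∃ (A' : Type u) (_ : CommRing A') (_ : Algebra A A'), Algebra.Etale A A' ∧
      (∃ q : PrimeSpectrum A', q.asIdeal.comap (algebraMap A A') = p.asIdeal) ∧
      (Matrix.GeneralLinearGroup.map (algebraMap A A')) (Matrix.SpecialLinearGroup.toGL s) ∈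
        commutator (Matrix.GeneralLinearGroup (Fin n) A') := by
  obtain ⟨A₀, _, _, hEt₀, ⟨q₀, hq₀, hq₀c⟩, u, t, ht⟩ := exists_base A p.asIdeal
  have hdet : ((s : Matrix (Fin n) (Fin n) A).map (algebraMap A A₀)).det = 1 := by
    rw [← RingHom.mapMatrix_apply, ← RingHom.map_det, s.prop, map_one]
  obtain ⟨A', _, _, hEt, ⟨q', hq', hq'c⟩, g, hg, hgm⟩ := Q_fin n A₀ u t ht _ hdet q₀
  letI : Algebra A A' := ((algebraMap A₀ A').comp (algebraMap A A₀)).toAlgebra
  haveI : IsScalarTower A A₀ A' := IsScalarTower.of_algebraMap_eq (fun _ => rfl)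
  refine ⟨A', inferInstance, inferInstance, Algebra.Etale.comp A A₀ A', ⟨⟨q', hq'⟩, ?_⟩, ?_⟩
  · show q'.comap (algebraMap A A') = p.asIdeal
    rw [show algebraMap A A' = (algebraMap A₀ A').comp (algebraMap A A₀) from rfl,
      ← Ideal.comap_comap, hq'c, hq₀c]
  · convert hgm using 1
    apply Units.ext
    rw [hg]
    ext i j
    rfl

end Groth.Agent.S5658
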