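import Groth.Statements.S5659
import Mathlib
import Groth.Agent.S5658

set_option autoImplicit false
universe u
open CAlg

namespace Groth.Agent.S5659


open Matrix

theorem idem_connected (R : Type u) [CommRing R] [ConnectedSpace (PrimeSpectrum R)] (e : R)
    (he : IsIdempotentElem e) : e = 0 ∨ e = 1 := by
  have hcl : IsClopen (PrimeSpectrum.basicOpen e : Set (PrimeSpectrum R)) :=
    PrimeSpectrum.isClopen_iff.2 ⟨e, he, rfl⟩
  rcases isClopen_iff.1 hcl with h | h
  · left
    apply PrimeSpectrum.basicOpen_injOn_isIdempotentElem he IsIdempotentElem.zero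
    apply TopologicalSpace.Opens.ext
    rw [h]; simp
  · right
    apply PrimeSpectrum.basicOpen_injOn_isIdempotentElem he IsIdempotentElem.one
    apply TopologicalSpace.Opens.ext
    rw [h]; simp

theorem eq_zero_of_flat_nbhds (B : Type u) [CommRing B] (y : B)
    (h : ∀ (J : Ideal B) [J.IsMaximal], ∃ (B' : Type u) (_ : CommRing B') (_ : Algebra B B'),
      Module.Flat B B' ∧ (∃ q : Ideal B', q.IsPrime ∧ q.comap (algebraMap B B') = J) ∧
      algebraMap B B' y = 0) : y = 0 := by
  apply eq_zero_of_localization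
  intro J hJ
  obtain ⟨B', _, _, hfl, ⟨q, hq, hqJ⟩, hy⟩ := h J
  have hJq : J = q.comap (algebraMap B B') := hqJ.symm
  have hψflat : (Localization.localRingHom J q (algebraMap B B') hJq).Flat :=
    RingHom.Flat.localRingHom ((RingHom.flat_algebraMap_iff).2 hfl) q J hJq
  have hψloc : IsLocalHom (Localization.localRingHom J q (algebraMap B B') hJq) :=
    Localization.isLocalHom_localRingHom J q (algebraMap B B') hJq
  letI := (Localization.localRingHom J q (algebraMap B B') hJq).toAlgebra
  haveI : Module.Flat (Localization.AtPrime J) (Localization.AtPrime q) := hψflat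
  haveI : IsLocalHom (algebraMap (Localization.AtPrime J) (Localization.AtPrime q)) := hψloc
  haveI : Module.FaithfullyFlat (Localization.AtPrime J) (Localization.AtPrime q) :=
    Module.FaithfullyFlat.of_flat_of_isLocalHom
  have hinj : Function.Injective (Localization.localRingHom J q (algebraMap B B') hJq) :=
    FaithfulSMul.algebraMap_injective (Localization.AtPrime J) (Localization.AtPrime q)
  apply hinj
  rw [map_zero, Localization.localRingHom_to_map, hy, map_zero]

section Beta
variable (R : Type u) [CommRing R] (n : ℕ)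
  (β : ∀ (B : Type u) [CommRing B] [Algebra R B], Matrix.GeneralLinearGroup (Fin n) B →* Bˣ)
  (hβ : ∀ (B C : Type u) [CommRing B] [Algebra R B] [CommRing C] [Algebra R C] (φ : B →ₐ[R] C)
    (x : Matrix.GeneralLinearGroup (Fin n) B),
    β C (Matrix.GeneralLinearGroup.map φ.toRingHom x) = Units.map (φ.toRingHom : B →* C) (β B x))

include hβ in
theorem beta_SL (B : Type u) [CommRing B] [Algebra R B] (x : Matrix.GeneralLinearGroup (Fin n) B)
    (hx : (x : Matrix (Fin n) (Fin n) B).det = 1) : β B x = 1 := by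
  have h0 : ((β B x : Bˣ) : B) - 1 = 0 := by
    apply eq_zero_of_flat_nbhds
    intro J hJ
    obtain ⟨B', instR, instA, hEt, ⟨q, hq⟩, hmem⟩ :=
      Groth.Agent.S5658.result B n ⟨(x : Matrix (Fin n) (Fin n) B), hx⟩ ⟨J, hJ.isPrime⟩
    letI : Algebra R B' := ((algebraMap B B').comp (algebraMap R B)).toAlgebra
    haveI : IsScalarTower R B B' := IsScalarTower.of_algebraMap_eq (fun _ => rfl)
    refine ⟨B', instR, instA, inferInstance, ⟨q.asIdeal, q.isPrime, hq⟩, ?_⟩
    have h1 : β B' (Matrix.GeneralLinearGroup.map (IsScalarTower.toAlgHom R B B').toRingHom x) = 1 := by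
      have hk := Abelianization.commutator_subset_ker (β B') hmem
      rw [MonoidHom.mem_ker] at hk
      convert hk using 2
      apply Units.ext
      rfl
    rw [hβ] at h1
    have h2 := congrArg Units.val h1
    rw [Units.coe_map, Units.val_one] at h2
    rw [map_sub, map_one]
    exact sub_eq_zero.2 h2
  exact Units.ext (sub_eq_zero.1 h0)

end Beta

section DD
variable (n : ℕ) (i₀ : Fin n) (B : Type u) [CommRing B]

/-- `diag(d,1,…,1)` -/
noncomputable def D : Bˣ →* Matrix.GeneralLinearGroup (Fin n) B where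
  toFun d := ⟨diagonal (fun i => if i = i₀ then (d : B) else 1),
    diagonal (fun i => if i = i₀ then (↑d⁻¹ : B) else 1),
    by rw [diagonal_mul_diagonal, ← diagonal_one]; congr 1; funext i; split_ifs <;> simp,
    by rw [diagonal_mul_diagonal, ← diagonal_one]; congr 1; funext i; split_ifs <;> simp⟩
  map_one' := Units.ext (by
    show diagonal (fun i => if i = i₀ then ((1 : Bˣ) : B) else 1) = 1
    rw [← diagonal_one]; congr 1; funext i; split_ifs <;> simp)
  map_mul' a b := Units.ext (by
    show diagonal (fun i => if i = i₀ then ((a * b : Bˣ) : B) else 1) =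
      diagonal (fun i => if i = i₀ then (a : B) else 1) *
        diagonal (fun i => if i = i₀ then (b : B) else 1)
    rw [diagonal_mul_diagonal]; congr 1; funext i; split_ifs <;> simp)

theorem D_coe (d : Bˣ) : ((D n i₀ B d : Matrix.GeneralLinearGroup (Fin n) B) : Matrix (Fin n) (Fin n) B) =
    diagonal (fun i => if i = i₀ then (d : B) else 1) := rfl

theorem det_D (d : Bˣ) : Matrix.GeneralLinearGroup.det (D n i₀ B d) = d := by
  apply Units.ext
  rw [Matrix.GeneralLinearGroup.val_det_apply, D_coe, det_diagonal]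
  simp

theorem map_D {C : Type u} [CommRing C] (φ : B →+* C) (d : Bˣ) :
    Matrix.GeneralLinearGroup.map φ (D n i₀ B d) = D n i₀ C (Units.map (φ : B →* C) d) := by
  apply Units.ext
  rw [Groth.Agent.S5658.coe_GLmap, D_coe, D_coe, Matrix.diagonal_map (map_zero _)]
  congr 1; funext i; split_ifs <;> simp

end DD

section Gm
variable (R : Type u) [CommRing R]

noncomputable def sU (G : Type) [AddCommGroup G] : Multiplicative G →* (AddMonoidAlgebra R G)ˣ :=
  (Units.map (AddMonoidAlgebra.of R G)).comp (toUnits (G := Multiplicative G)).toMonoidHom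

theorem sU_coe (G : Type) [AddCommGroup G] (g : Multiplicative G) :
    ((sU R G g : (AddMonoidAlgebra R G)ˣ) : AddMonoidAlgebra R G) =
      AddMonoidAlgebra.single g.toAdd 1 := rfl

theorem sU_zpow_coe (G : Type) [AddCommGroup G] (g : G) (k : ℤ) :
    (((sU R G (Multiplicative.ofAdd g)) ^ k : (AddMonoidAlgebra R G)ˣ) : AddMonoidAlgebra R G) =
      AddMonoidAlgebra.single (k • g) 1 := by
  rw [← map_zpow, ← ofAdd_zsmul, sU_coe]
  rfl

noncomputable def ev (B : Type u) [CommRing B] [Algebra R B] (b : Bˣ) :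
    AddMonoidAlgebra R ℤ →ₐ[R] B :=
  AddMonoidAlgebra.lift R B ℤ ((Units.coeHom B).comp (zpowersHom Bˣ b))

theorem ev_apply (B : Type u) [CommRing B] [Algebra R B] (b : Bˣ) (x : AddMonoidAlgebra R ℤ) :
    ev R B b x = x.coeff.sum (fun k c => c • ((b ^ k : Bˣ) : B)) := by
  rw [ev, AddMonoidAlgebra.lift_apply]
  rfl

theorem ev_t (B : Type u) [CommRing B] [Algebra R B] (b : Bˣ) :
    Units.map ((ev R B b).toRingHom : AddMonoidAlgebra R ℤ →* B)
      (sU R ℤ (Multiplicative.ofAdd 1)) = b := by
  apply Units.ext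
  rw [Units.coe_map, sU_coe]
  show ev R B b (AddMonoidAlgebra.single (1 : ℤ) 1) = b
  rw [ev_apply, AddMonoidAlgebra.coeff_single, Finsupp.sum_single_index (by simp)]
  simp

theorem coeff_sum_apply {G ι : Type} (S : Finset ι) (g : ι → AddMonoidAlgebra R G) (x : G) :
    (∑ k ∈ S, g k).coeff x = ∑ k ∈ S, (g k).coeff x := by
  rw [AddMonoidAlgebra.coeff_sum, Finsupp.finsetSum_apply]

theorem fin_orth (S : Finset ℤ) (f : ℤ → R)
    (h : (∑ k ∈ S, AddMonoidAlgebra.single ((k, k) : ℤ × ℤ) (f k) : AddMonoidAlgebra R (ℤ × ℤ)) =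
      (∑ k ∈ S, AddMonoidAlgebra.single ((k, 0) : ℤ × ℤ) (f k)) *
        (∑ l ∈ S, AddMonoidAlgebra.single ((0, l) : ℤ × ℤ) (f l)))
    (a : ℤ) (ha : a ∈ S) (b : ℤ) (hb : b ∈ S) : f a * f b = if a = b then f a else 0 := by
  classical
  have hL : ∀ k : ℤ, (AddMonoidAlgebra.single ((k, k) : ℤ × ℤ) (f k) :
      AddMonoidAlgebra R (ℤ × ℤ)).coeff (a, b) = if k = a ∧ k = b then f k else 0 := by
    intro k
    rw [AddMonoidAlgebra.coeff_single, Finsupp.single_apply]
    simp only [Prod.mk.injEq]
  have hR : ∀ k l : ℤ, (AddMonoidAlgebra.single ((k, 0) : ℤ × ℤ) (f k) *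
      AddMonoidAlgebra.single ((0, l) : ℤ × ℤ) (f l) : AddMonoidAlgebra R (ℤ × ℤ)).coeff (a, b) =
      if k = a ∧ l = b then f k * f l else 0 := by
    intro k l
    rw [AddMonoidAlgebra.single_mul_single, AddMonoidAlgebra.coeff_single, Finsupp.single_apply]
    simp only [Prod.mk_add_mk, add_zero, zero_add, Prod.mk.injEq]
  have h2 := congrArg (fun x : AddMonoidAlgebra R (ℤ × ℤ) => x.coeff (a, b)) h
  simp only [Finset.sum_mul_sum, coeff_sum_apply, hL, hR] at h2
  have hRv : (∑ k ∈ S, ∑ l ∈ S, if k = a ∧ l = b then f k * f l else 0) = f a * f b := by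
    rw [Finset.sum_eq_single_of_mem a ha
      (fun k _ hk => Finset.sum_eq_zero (fun l _ => if_neg (fun hh => hk hh.1))),
      Finset.sum_eq_single_of_mem b hb (fun l _ hl => if_neg (fun hh => hl hh.2)),
      if_pos ⟨rfl, rfl⟩]
  rw [hRv] at h2
  rw [← h2]
  by_cases hab : a = b
  · subst hab
    rw [if_pos rfl, Finset.sum_eq_single_of_mem a ha (fun k _ hk => if_neg (fun hh => hk hh.1)),
      if_pos ⟨rfl, rfl⟩]
  · rw [if_neg hab]
    exact Finset.sum_eq_zero (fun k _ => if_neg (fun hh => hab (hh.1.symm.trans hh.2)))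

theorem charGm [ConnectedSpace (PrimeSpectrum R)]
    (γ : ∀ (B : Type u) [CommRing B] [Algebra R B], Bˣ →* Bˣ)
    (hγ : ∀ (B C : Type u) [CommRing B] [Algebra R B] [CommRing C] [Algebra R C] (φ : B →ₐ[R] C)
      (d : Bˣ), γ C (Units.map (φ.toRingHom : B →* C) d) =
        Units.map (φ.toRingHom : B →* C) (γ B d)) :
    ∃ m : ℤ, ∀ (B : Type u) [CommRing B] [Algebra R B] (d : Bˣ), γ B d = d ^ m := by
  classical
  haveI : Nontrivial R := PrimeSpectrum.nonempty_iff_nontrivial.1 inferInstance
  obtain ⟨u, hu⟩ : ∃ u : AddMonoidAlgebra R ℤ,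
      u = ((γ (AddMonoidAlgebra R ℤ) (sU R ℤ (Multiplicative.ofAdd 1)) :
        (AddMonoidAlgebra R ℤ)ˣ) : AddMonoidAlgebra R ℤ) := ⟨_, rfl⟩
  have key : ∀ (B : Type u) [CommRing B] [Algebra R B] (b : Bˣ),
      ((γ B b : Bˣ) : B) = u.coeff.sum (fun k c => c • ((b ^ k : Bˣ) : B)) := by
    intro B _ _ b
    have h := hγ (AddMonoidAlgebra R ℤ) B (ev R B b) (sU R ℤ (Multiplicative.ofAdd 1))
    rw [ev_t] at h
    rw [h, Units.coe_map, ← hu]
    exact ev_apply R B b u
  have hsum : ∑ k ∈ u.coeff.support, u.coeff k = 1 := by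
    have h := key R 1
    rw [map_one] at h
    simp only [Units.val_one, _root_.one_zpow, smul_eq_mul, mul_one] at h
    rw [Finsupp.sum] at h
    exact h.symm
  have hsingles : ∀ g : ℤ × ℤ,
      ((γ (AddMonoidAlgebra R (ℤ × ℤ)) (sU R (ℤ × ℤ) (Multiplicative.ofAdd g)) :
        (AddMonoidAlgebra R (ℤ × ℤ))ˣ) : AddMonoidAlgebra R (ℤ × ℤ)) =
      ∑ k ∈ u.coeff.support, AddMonoidAlgebra.single (k • g) (u.coeff k) := by
    intro g
    rw [key, Finsupp.sum]
    refine Finset.sum_congr rfl (fun k _ => ?_)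
    rw [sU_zpow_coe, AddMonoidAlgebra.smul_single', mul_one]
  have horth : ∀ a b : ℤ, u.coeff a * u.coeff b = if a = b then u.coeff a else 0 := by
    intro a b
    by_cases ha : a ∈ u.coeff.support
    · by_cases hb : b ∈ u.coeff.support
      · apply fin_orth R u.coeff.support (fun k => u.coeff k) _ a ha b hb
        have hmul : γ (AddMonoidAlgebra R (ℤ × ℤ))
            (sU R (ℤ × ℤ) (Multiplicative.ofAdd ((1, 0) : ℤ × ℤ)) *
              sU R (ℤ × ℤ) (Multiplicative.ofAdd ((0, 1) : ℤ × ℤ))) =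
            γ (AddMonoidAlgebra R (ℤ × ℤ)) (sU R (ℤ × ℤ) (Multiplicative.ofAdd ((1, 0) : ℤ × ℤ))) *
            γ (AddMonoidAlgebra R (ℤ × ℤ)) (sU R (ℤ × ℤ) (Multiplicative.ofAdd ((0, 1) : ℤ × ℤ))) :=
          map_mul _ _ _
        have e12 : sU R (ℤ × ℤ) (Multiplicative.ofAdd ((1, 0) : ℤ × ℤ)) *
              sU R (ℤ × ℤ) (Multiplicative.ofAdd ((0, 1) : ℤ × ℤ)) =
            sU R (ℤ × ℤ) (Multiplicative.ofAdd ((1, 1) : ℤ × ℤ)) := by
          rw [← map_mul, ← ofAdd_add]
          simp
        rw [e12] at hmul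
        have h3 := congrArg Units.val hmul
        rw [Units.val_mul, hsingles, hsingles, hsingles] at h3
        simpa using h3
      · have hb0 : u.coeff b = 0 := Finsupp.notMem_support_iff.1 hb
        rw [hb0, mul_zero]
        split_ifs with hab
        · rw [hab, hb0]
        · rfl
    · have ha0 : u.coeff a = 0 := Finsupp.notMem_support_iff.1 ha
      rw [ha0, zero_mul]
      split_ifs <;> rfl
  obtain ⟨m, hm⟩ : ∃ m, u.coeff m ≠ 0 := by
    by_contra hcon
    push_neg at hcon
    have h0 : ∑ k ∈ u.coeff.support, u.coeff k = 0 := Finset.sum_eq_zero (fun k _ => hcon k)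
    rw [hsum] at h0
    exact one_ne_zero h0
  have hm1 : u.coeff m = 1 := by
    have hid : IsIdempotentElem (u.coeff m) := by
      have h := horth m m
      rw [if_pos rfl] at h
      exact h
    exact (idem_connected R _ hid).resolve_left hm
  have hu' : u = AddMonoidAlgebra.single m 1 := by
    apply AddMonoidAlgebra.ext
    ext k
    rw [AddMonoidAlgebra.coeff_single, Finsupp.single_apply]
    by_cases hk : m = k
    · subst hk
      rw [if_pos rfl, hm1]
    · rw [if_neg hk]
      have h := horth k m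
      rw [hm1, mul_one, if_neg (Ne.symm hk)] at h
      exact h
  refine ⟨m, fun B _ _ d => ?_⟩
  apply Units.ext
  rw [key, hu', AddMonoidAlgebra.coeff_single, Finsupp.sum_single_index (by simp), one_smul]

theorem zpow_unique [Nontrivial R] (n : ℕ) (i₀ : Fin n) (m m' : ℤ)
    (h : ∀ (B : Type u) [CommRing B] [Algebra R B] (x : Matrix.GeneralLinearGroup (Fin n) B),
      Matrix.GeneralLinearGroup.det x ^ m = Matrix.GeneralLinearGroup.det x ^ m') : m = m' := by
  have h1 := h (AddMonoidAlgebra R ℤ) (D n i₀ _ (sU R ℤ (Multiplicative.ofAdd 1)))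
  rw [det_D] at h1
  have h2 := congrArg Units.val h1
  rw [sU_zpow_coe, sU_zpow_coe] at h2
  have h3 := (AddMonoidAlgebra.single_left_inj (one_ne_zero (α := R))).1 h2
  simpa using h3

end Gm

theorem char_GL (R : Type u) [CommRing R] [ConnectedSpace (PrimeSpectrum R)] (n : ℕ) (i₀ : Fin n)
    (β : ∀ (B : Type u) [CommRing B] [Algebra R B], Matrix.GeneralLinearGroup (Fin n) B →* Bˣ)
    (hβ : ∀ (B C : Type u) [CommRing B] [Algebra R B] [CommRing C] [Algebra R C] (φ : B →ₐ[R] C)
      (x : Matrix.GeneralLinearGroup (Fin n) B),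
      β C (Matrix.GeneralLinearGroup.map φ.toRingHom x) = Units.map (φ.toRingHom : B →* C) (β B x)) :
    ∃ m : ℤ, ∀ (B : Type u) [CommRing B] [Algebra R B] (x : Matrix.GeneralLinearGroup (Fin n) B),
      β B x = Matrix.GeneralLinearGroup.det x ^ m := by
  obtain ⟨m, hm⟩ := charGm R (fun B _ _ => (β B).comp (D n i₀ B)) (by
    intro B C _ _ _ _ φ d
    show β C (D n i₀ C (Units.map (φ.toRingHom : B →* C) d)) =
      Units.map (φ.toRingHom : B →* C) (β B (D n i₀ B d))
    rw [← hβ, map_D])
  refine ⟨m, fun B _ _ x => ?_⟩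
  have hy : ((x * (D n i₀ B (Matrix.GeneralLinearGroup.det x))⁻¹ : Matrix.GeneralLinearGroup (Fin n) B) :
      Matrix (Fin n) (Fin n) B).det = 1 := by
    have h1 : Matrix.GeneralLinearGroup.det (x * (D n i₀ B (Matrix.GeneralLinearGroup.det x))⁻¹) = 1 := by
      rw [map_mul, map_inv, det_D, mul_inv_cancel]
    have h2 := congrArg Units.val h1
    rwa [Matrix.GeneralLinearGroup.val_det_apply, Units.val_one] at h2
  have h1 := beta_SL R n β hβ B _ hy
  have h2 : β B x = β B (x * (D n i₀ B (Matrix.GeneralLinearGroup.det x))⁻¹) * β B (D n i₀ B (Matrix.GeneralLinearGroup.det x)) := by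
    rw [← map_mul, inv_mul_cancel_right]
  rw [h2, h1, one_mul]
  exact hm B (Matrix.GeneralLinearGroup.det x)

/-- Every homomorphism of group sheaves Gl(n_1) × ⋯ × Gl(n_r) → G_m is (s_1, …, s_r) ↦ det(s_1)^{m_1} ⋯
det(s_r)^{m_r} with locally constant integers m_i uniquely determined by it. Concretely, over a
commutative ring R whose prime spectrum is connected and for ranks n_i ≥ 1: every family of group
homomorphisms α_B : GL_{n_1}(B) × ⋯ × GL_{n_r}(B) → Bˣ, one for each commutative R-algebra B and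
natural in B, is given by α_B(s) = Π_i det(s_i)^{m_i} for a unique m ∈ ℤ^r. (The published statement
allows ranks n_i ≥ 0; uniqueness of m_i needs n_i ≥ 1, since Gl(0) is trivial.) -/
theorem result (R : Type u) [CommRing R] [ConnectedSpace (PrimeSpectrum R)]
    (r : ℕ) (n : Fin r → ℕ) (hn : ∀ i, 0 < n i)
    (α : ∀ (B : Type u) [CommRing B] [Algebra R B], (∀ i, Matrix.GeneralLinearGroup (Fin (n i)) B) →* Bˣ)
    (hα : ∀ (B C : Type u) [CommRing B] [Algebra R B] [CommRing C] [Algebra R C] (φ : B →ₐ[R] C)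
      (s : ∀ i, Matrix.GeneralLinearGroup (Fin (n i)) B),
      α C (fun i => Matrix.GeneralLinearGroup.map φ.toRingHom (s i)) = Units.map (φ.toRingHom : B →* C) (α B s)) :
    ∃! m : Fin r → ℤ, ∀ (B : Type u) [CommRing B] [Algebra R B] (s : ∀ i, Matrix.GeneralLinearGroup (Fin (n i)) B),
      α B s = ∏ i, Matrix.GeneralLinearGroup.det (s i) ^ (m i) := by
  classical
  haveI : Nontrivial R := PrimeSpectrum.nonempty_iff_nontrivial.1 inferInstance
  have hi : ∀ i : Fin r, ∃ m : ℤ, ∀ (B : Type u) [CommRing B] [Algebra R B]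
      (x : Matrix.GeneralLinearGroup (Fin (n i)) B),
      α B (Pi.mulSingle i x) = Matrix.GeneralLinearGroup.det x ^ m := by
    intro i
    exact char_GL R (n i) ⟨0, hn i⟩
      (fun B _ _ => (α B).comp
        (MonoidHom.mulSingle (fun j => Matrix.GeneralLinearGroup (Fin (n j)) B) i))
      (by
        intro B C _ _ _ _ φ x
        show α C (Pi.mulSingle i (Matrix.GeneralLinearGroup.map φ.toRingHom x)) =
          Units.map (φ.toRingHom : B →* C) (α B (Pi.mulSingle i x))
        rw [← hα]
        congr 1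
        funext j
        exact (Pi.apply_mulSingle (fun j => Matrix.GeneralLinearGroup.map
          (n := Fin (n j)) φ.toRingHom) (fun j => map_one _) i x j).symm)
  choose m hm using hi
  refine ⟨m, ?_, ?_⟩
  · intro B _ _ s
    have hαB : α B = ∏ i, (zpowGroupHom (m i)).comp ((Matrix.GeneralLinearGroup.det).comp
        (Pi.evalMonoidHom (fun j => Matrix.GeneralLinearGroup (Fin (n j)) B) i)) := by
      apply MonoidHom.pi_ext
      intro i x
      rw [hm i B x, MonoidHom.finsetProd_apply, Finset.prod_eq_single i]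
      · simp
      · intro j _ hj
        simp [Pi.mulSingle_eq_of_ne hj]
      · intro hi'
        exact absurd (Finset.mem_univ i) hi'
    rw [hαB, MonoidHom.finsetProd_apply]
    rfl
  · intro m' hm'
    funext i
    symm
    apply zpow_unique R (n i) ⟨0, hn i⟩
    intro B _ _ x
    have h1 := hm' B (Pi.mulSingle i x)
    rw [hm i B x, Finset.prod_eq_single i] at h1
    · simpa using h1
    · intro j _ hj
      simp [Pi.mulSingle_eq_of_ne hj]
    · intro hi'
      exact absurd (Finset.mem_univ i) hi'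

end Groth.Agent.S5659
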