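import Groth.Statements.S12570
import Groth.Agent.H27.DiffExp

set_option autoImplicit false
universe u v w
open FunFld

namespace Groth.Agent.S12570

/-- For a place `Q` of a finite separable extension `K'` of a geometric function field of one variable
`K/k`, lying over `P` with ramification index `e`, both places having Laurent expansions over `k` in
local parameters (separable places), and `x` with `dx` of finite order above and below: the
different exponent `d(Q|P)`, computed on `dx`, is `e - 1` if `char K` does not divide `e`, and is `≥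
e` otherwise. (The published statement allows any finite extension along which differentials of `K`
pull back injectively; this row takes `K'` separable over `K`.) -/
theorem result (k : Type u) (K K' : Type v) [Field k] [Field K] [Field K'] [Algebra k K] [Algebra K K'] [Algebra k K']
    [IsScalarTower k K K'] [FiniteDimensional K K'] [Algebra.IsSeparable K K']
    (hK : FunFld.IsFunctionField k K) (hg : FunFld.IsGeometric k K)
    (F F' : Type w) [Field F] [Algebra k F] [Field F'] [Algebra k F']
    (P : FunFld.Place k K) (Q : FunFld.Place k K') (e : ℕ) (he : FunFld.IsOverWith Q P e)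
    (φ : K →ₐ[k] LaurentSeries F) (hφ : LocRes.IsExpansionAt P.1 φ)
    (ψ : K' →ₐ[k] LaurentSeries F') (hψ : LocRes.IsExpansionAt Q.1 ψ)
    (x : K) (hx : LocRes.vDiff φ 1 x ≠ 0) (hx' : LocRes.vDiff ψ 1 (algebraMap K K' x) ≠ 0) :
    (¬ (ringChar K ∣ e) → LocRes.diffExp φ ψ e x = (e : ℤ) - 1) ∧
    (ringChar K ∣ e → (e : ℤ) ≤ LocRes.diffExp φ ψ e x) := by
  obtain ⟨t, ht⟩ := hφ.2.2
  obtain ⟨h1, ht0⟩ := Groth.Agent.H27.DiffExp.diffExp_eq hK hg P Q e he φ hφ ψ hψ t ht x hx hx'
  rw [h1]
  have hψt : Valued.v (ψ (algebraMap K K' t)) = WithZero.exp (-(e : ℤ)) := by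
    rw [hψ.1, he t, ht, ← WithZero.exp_nsmul]
    congr 1
    simp
  obtain ⟨hA, hB, hC⟩ := Groth.Agent.H27.DiffExp.valued_D_of_val hψt
  have hv : LocRes.vDiff ψ 1 (algebraMap K K' t) =
      Valued.v (LocRes.D F' (ψ (algebraMap K K' t))) := by
    unfold LocRes.vDiff
    rw [map_one, one_mul]
  have hchar : ringChar K ∣ e ↔ (((e : ℤ) : F')) = 0 := by
    rw [← ringChar.spec K e, Int.cast_natCast]
    have e1 : (e : K) = algebraMap k K (e : k) := (map_natCast _ e).symm
    have e2 : (e : F') = algebraMap k F' (e : k) := (map_natCast _ e).symm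
    rw [e1, e2, map_eq_zero_iff _ (algebraMap k K).injective,
      map_eq_zero_iff _ (algebraMap k F').injective]
  constructor
  · intro hnd
    have hne : (((e : ℤ) : F')) ≠ 0 := fun h => hnd (hchar.2 h)
    unfold LocRes.ordDiff
    rw [hv, hB hne, WithZero.log_exp]
    ring
  · intro hd
    have hle := hC (hchar.1 hd)
    rw [hv] at ht0
    unfold LocRes.ordDiff
    rw [hv]
    rw [← WithZero.exp_log ht0, WithZero.exp_le_exp] at hle
    omega

end Groth.Agent.S12570
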