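import Groth.Statements.S12583
import Groth.Agent.H27.HasseExp

set_option autoImplicit false
universe u v w
open FunFld

namespace Groth.Agent.S12583

theorem coe_hd {F : Type*} [Field F] (n : ℕ) (p : PowerSeries F) :
    HahnSeries.ofPowerSeries ℤ F (Groth.Agent.H27.Hasse.hd n p) =
      LaurentSeries.hasseDeriv F n (HahnSeries.ofPowerSeries ℤ F p) := by
  ext m
  rw [LaurentSeries.hasseDeriv_coeff]
  have e1 := PowerSeries.coeff_coe (f := Groth.Agent.H27.Hasse.hd n p) m
  have e2 := PowerSeries.coeff_coe (f := p) (m + n)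
  rw [e1, e2]
  by_cases hm : 0 ≤ m
  · lift m to ℕ using hm
    have h1 : ¬ ((m : ℤ) < 0) := by omega
    have h2 : ¬ ((m : ℤ) + (n : ℤ) < 0) := by omega
    rw [if_neg h1, if_neg h2, Int.natAbs_natCast, Groth.Agent.H27.Hasse.coeff_hd]
    have h3 : ((m : ℤ) + (n : ℤ)).natAbs = m + n := by omega
    have h4 : ((m : ℤ) + (n : ℤ)) = ((m + n : ℕ) : ℤ) := by push_cast; ring
    rw [h3, h4, Ring.choose_natCast, zsmul_eq_mul, Int.cast_natCast]
  · have h1 : m < 0 := by omega
    rw [if_pos h1]
    by_cases h2 : m + (n : ℤ) < 0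
    · rw [if_pos h2, smul_zero]
    · rw [if_neg h2]
      have h3 : 0 ≤ m + (n : ℤ) := by omega
      obtain ⟨r, hr⟩ := Int.eq_ofNat_of_zero_le h3
      have hrn : r < n := by omega
      rw [hr, Ring.choose_natCast, Nat.choose_eq_zero_of_lt hrn]
      simp


/-- At a separable place `P` of a geometric function field of one variable `K/k` with local parameter
`t`, if `x ∈ O_P` has expansion `∑ a_m t^m` then the Hasse derivative `D_t^{(n)}(x)` expands as the
series with coefficients `C(m,n) a_m` in degree `m - n`; in particular `D_t^{(n)}(O_P) ⊆ O_P`. Here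
`φ` is a Laurent expansion over `k` at `P` with `φ t = X` and `H` is the total Hasse derivative with
respect to `t`. -/
theorem result (k : Type u) (K : Type v) [Field k] [Field K] [Algebra k K] (hK : FunFld.IsFunctionField k K) (hg : FunFld.IsGeometric k K)
    (P : FunFld.Place k K) (F : Type w) [Field F] [Algebra k F]
    (φ : K →ₐ[k] LaurentSeries F) (hφ : LocRes.IsExpansionAt P.1 φ)
    (t : K) (ht : φ t = HahnSeries.single 1 1)
    (H : K →ₐ[k] PowerSeries K) (hH : LocRes.IsHasseFamily t H)
    (x : K) (hx : P.1 x ≤ 1) (n : ℕ) :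
    φ (LocRes.hasseD H n x) = LaurentSeries.hasseDeriv F n (φ x) := by
  classical
  have hval := hφ.1
  have hex : ∀ y : P.O, ∃ p : PowerSeries F, HahnSeries.ofPowerSeries ℤ F p = φ (y : K) :=
    fun y => (LaurentSeries.val_le_one_iff_eq_coe F (φ y)).1 (by
      rw [hval]
      exact (Valuation.mem_valuationSubring_iff _ _).1 y.2)
  choose e he using hex
  have hinj : Function.Injective (HahnSeries.ofPowerSeries ℤ F) :=
    HahnSeries.ofPowerSeries_injective
  let ε : P.O →+* PowerSeries F :=
    { toFun := e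
      map_one' := hinj (by rw [he, map_one]; exact map_one φ)
      map_mul' := fun y z => hinj (by rw [he, map_mul, he, he]; exact map_mul φ _ _)
      map_zero' := hinj (by rw [he, map_zero]; exact map_zero φ)
      map_add' := fun y z => hinj (by rw [he, map_add, he, he]; exact map_add φ _ _) }
  have hεe : ∀ y, ε y = e y := fun _ => rfl
  have hεinj : Function.Injective ε := by
    intro y z hyz
    apply Subtype.ext
    apply φ.toRingHom.injective
    show φ (y : K) = φ (z : K)
    rw [← he, ← he, ← hεe, ← hεe, hyz]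
  have htX : φ t = HahnSeries.ofPowerSeries ℤ F PowerSeries.X := by
    rw [ht, HahnSeries.ofPowerSeries_X]
  have htO : P.1 t ≤ 1 := by
    rw [← hval, LaurentSeries.val_le_one_iff_eq_coe]
    exact ⟨PowerSeries.X, htX.symm⟩
  have hεt : ε ⟨t, (Valuation.mem_valuationSubring_iff _ _).2 htO⟩ = PowerSeries.X := by
    apply hinj
    rw [hεe, he]
    exact htX
  have hεk : ∀ c : k, ∃ cO : P.O, algebraMap P.O K cO = algebraMap k K c ∧
      ε cO = PowerSeries.C (algebraMap k F c) := by
    intro c
    refine ⟨algebraMap k P.O c, rfl, ?_⟩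
    apply hinj
    rw [hεe, he, HahnSeries.ofPowerSeries_C]
    exact LocRes.map_algebraMap φ c
  have hE : ∀ y : P.O, (φ : K →+* LaurentSeries F) (algebraMap P.O K y) =
      algebraMap (PowerSeries F) (LaurentSeries F) (ε y) := by
    intro y
    rw [LaurentSeries.coe_algebraMap, hεe, he]
    rfl
  have hG := Groth.Agent.H27.Hasse.expansion_hasse hK hH (algebraMap k F) ε hεinj
    ⟨t, (Valuation.mem_valuationSubring_iff _ _).2 htO⟩ rfl hεt hεk
    (φ : K →+* LaurentSeries F) hE ⟨x, (Valuation.mem_valuationSubring_iff _ _).2 hx⟩ n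
  have hG' : φ (LocRes.hasseD H n x) = HahnSeries.ofPowerSeries ℤ F
      (Groth.Agent.H27.Hasse.hd n (e ⟨x, (Valuation.mem_valuationSubring_iff _ _).2 hx⟩)) := hG
  rw [hG', coe_hd, he]

end Groth.Agent.S12583
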