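import Groth.Statements.S12588
import Groth.Agent.H27.DiffExp2
import Groth.Agent.H55.FFArtin

set_option autoImplicit false
universe u v w
open FunFld

namespace Groth.Agent.S12588

open WithZero Groth.Agent.H55 Groth.Agent.H27.DiffExp


/-- For `k` perfect of characteristic `2`, `K` separable of degree `2` over `k(x)` with `y² + y = f(x)`,
and a place `p` of `k(x)` where `f` has a pole whose order `2d - 1` is odd: a place `P` of `K` above
`p` with ramification index `e` (necessarily `e = 2`, `P` unique) has different exponent `d(P|p) =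
2d = 1 - ord_p(f)`; the exponent is computed on `dz` through Laurent expansions over `k` at `p` and
`P`. -/
theorem result (k : Type u) (K : Type v) [Field k] [Field K] [Algebra k K] [Algebra (RatFunc k) K] [IsScalarTower k (RatFunc k) K]
    (hK : FunFld.IsFunctionField k K) (hdeg : Module.finrank (RatFunc k) K = 2) [PerfectField k] (h2 : ringChar k = 2)
    [Algebra.IsSeparable (RatFunc k) K]
    (y : K) (hy : y ∉ Set.range (algebraMap (RatFunc k) K)) (f : RatFunc k)
    (heq : y ^ 2 + y = algebraMap (RatFunc k) K f)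
    (p : FunFld.Place k (RatFunc k)) (hp : 1 < p.1 f) (hodd : Odd (p.ord f))
    (P : FunFld.Place k K) (e : ℕ) (he : FunFld.IsOverWith P p e)
    (F F' : Type w) [Field F] [Algebra k F] [Field F'] [Algebra k F']
    (φ : RatFunc k →ₐ[k] LaurentSeries F) (hφ : LocRes.IsExpansionAt p.1 φ)
    (ψ : K →ₐ[k] LaurentSeries F') (hψ : LocRes.IsExpansionAt P.1 ψ)
    (z : RatFunc k) (hz : LocRes.vDiff φ 1 z ≠ 0) (hz' : LocRes.vDiff ψ 1 (algebraMap (RatFunc k) K z) ≠ 0) :
    LocRes.diffExp φ ψ e z = 1 - p.ord f := by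
  classical
  obtain ⟨m, hm⟩ : ∃ m : ℤ, m = p.ord f := ⟨_, rfl⟩
  rw [← hm] at hodd ⊢
  have h2k : (2 : k) = 0 := by
    have := (ringChar.spec k 2).2 (by rw [h2])
    exact_mod_cast this
  have h2K : (2 : K) = 0 := by
    have := congrArg (algebraMap k K) h2k
    rwa [map_ofNat, map_zero] at this
  have h2F : (2 : F) = 0 := by
    have := congrArg (algebraMap k F) h2k
    rwa [map_ofNat, map_zero] at this
  have h2F' : (2 : F') = 0 := by
    have := congrArg (algebraMap k F') h2k
    rwa [map_ofNat, map_zero] at this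
  have h2L : (2 : LaurentSeries F') = 0 := by
    have := congrArg (algebraMap k (LaurentSeries F')) h2k
    rwa [map_ofNat, map_zero] at this
  have hneg : m < 0 := by
    rw [hm]
    exact (pl_one_lt_val_iff p f).1 hp
  -- e = 2
  have hram := (artin_schreier_ram (k := k) isFF1_ratFunc h2K hdeg y hy f heq p).1
    ⟨by rw [← hm]; exact hneg, by rw [← hm]; exact hodd⟩
  have he2 : e = 2 := (isOverWith_unique he (hram.2 P ⟨e, he⟩).1).2
  subst he2
  have hf0 : f ≠ 0 := by
    rintro rfl
    rw [map_zero] at hp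
    exact not_lt.2 zero_le' hp
  have hpf : p.1 f = exp (-m) := by
    rw [hm]
    exact pl_val_eq_exp_neg_ord p hf0
  -- valuation of y
  have hPf : P.1 (algebraMap (RatFunc k) K f) = exp (-m) ^ 2 := by
    rw [he f, hpf]
  have hPf1 : 1 < P.1 (algebraMap (RatFunc k) K f) := by
    rw [he f]
    exact one_lt_pow₀ hp two_ne_zero
  have hPy : 1 < P.1 y := by
    by_contra hle
    rw [not_lt] at hle
    have h3 : P.1 (y ^ 2 + y) ≤ 1 :=
      (P.1.map_add _ _).trans (max_le (by rw [map_pow]; exact pow_le_one₀ zero_le' hle) hle)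
    rw [heq] at h3
    exact absurd hPf1 (not_lt.mpr h3)
  have hlt2 : P.1 y < P.1 (y ^ 2) := by
    rw [map_pow]
    have := pow_lt_pow_right₀ hPy (by norm_num : 1 < 2)
    rwa [pow_one] at this
  have hval : P.1 (y ^ 2 + y) = P.1 (y ^ 2) := P.1.map_add_eq_of_lt_left hlt2
  rw [heq, map_pow, hPf] at hval
  have hPy' : P.1 y = exp (-m) :=
    ((pow_left_inj₀ zero_le' zero_le' two_ne_zero).1 hval).symm
  -- odd cast
  obtain ⟨j, hj⟩ := hodd
  have hmF : ((m : ℤ) : F) ≠ 0 := by
    rw [hj]
    push_cast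
    rw [h2F, zero_mul, zero_add]
    exact one_ne_zero
  have hmF' : ((m : ℤ) : F') ≠ 0 := by
    rw [hj]
    push_cast
    rw [h2F', zero_mul, zero_add]
    exact one_ne_zero
  -- derivative below
  have hvφ : Valued.v (φ f) = exp (-m) := by rw [hφ.1 f, hpf]
  have hDφ := (valued_D_of_val hvφ).2.1 hmF
  -- derivative above
  have hvψ : Valued.v (ψ y) = exp (-m) := by rw [hψ.1 y, hPy']
  have hDψ := (valued_D_of_val hvψ).2.1 hmF'
  have hDψf : LocRes.D F' (ψ (algebraMap (RatFunc k) K f)) = LocRes.D F' (ψ y) := by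
    rw [← heq, map_add, map_pow, map_add, pow_two, Derivation.leibniz, smul_eq_mul, ← two_mul, h2L,
      zero_mul, zero_add]
  have hv1 : LocRes.vDiff φ 1 f = exp (-(m - 1)) := by
    unfold LocRes.vDiff
    rw [map_one, one_mul, hDφ]
  have hv2 : LocRes.vDiff ψ 1 (algebraMap (RatFunc k) K f) = exp (-(m - 1)) := by
    unfold LocRes.vDiff
    rw [map_one, one_mul, hDψf, hDψ]
  rw [diffExp_indep' finrank_kaehler_ratFunc p P 2 he φ hφ ψ hψ z hz hz' f
    (by rw [hv1]; exact exp_ne_zero) (by rw [hv2]; exact exp_ne_zero)]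
  unfold LocRes.diffExp LocRes.ordDiff
  rw [hv1, hv2, log_exp]
  push_cast
  ring

end Groth.Agent.S12588
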