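import Groth.Statements.S12589
import Groth.Agent.H55.IntOver
open Groth.Agent.H55

set_option autoImplicit false
universe u v
open FunFld

namespace Groth.Agent.S12589

/-- If a place `P` of a geometric function field of one variable `K/k` is nonsingular with respect to
the finite extension `k'/k` (the integral closure of `O_P` in `K' = k' ⊗_k K` is `O_P[k']`) and `Q`
is a place of `K'` above `P`, then `F_Q = k' F_P`. -/
theorem result (k k' : Type u) (K K' : Type v) [Field k] [Field k'] [Field K] [Field K']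
    [Algebra k k'] [FiniteDimensional k k'] [Algebra k K] [Algebra K K'] [Algebra k' K'] [Algebra k K']
    [IsScalarTower k k' K'] [IsScalarTower k K K']
    (h : Function.Bijective (Algebra.TensorProduct.productMap
      (IsScalarTower.toAlgHom k k' K') (IsScalarTower.toAlgHom k K K')))
    (hK : FunFld.IsFunctionField k K) (hg : FunFld.IsGeometric k K)
    (P : FunFld.Place k K) [Algebra P.O K'] [IsScalarTower P.O K K']
    (hns : (integralClosure P.O K').toSubring = (Algebra.adjoin P.O (Set.range (algebraMap k' K'))).toSubring)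
    (Q : FunFld.Place k K') [P.1.HasExtension Q.1] (hk' : ∀ c : k', Q.1 (algebraMap k' K' c) ≤ 1) :
    Algebra.adjoin (IsLocalRing.ResidueField P.O)
      (Set.range fun c : k' => IsLocalRing.residue Q.O ⟨algebraMap k' K' c, hk' c⟩) = ⊤ := by
  classical
  haveI : FiniteDimensional K K' := finiteDimensional_of_productMap h.2
  have hK1 : G.IsFF1 k K := hK.1
  have hclaim : ∀ b ∈ Algebra.adjoin P.O (Set.range (algebraMap k' K')),
      ∃ hb : Q.1 b ≤ 1, IsLocalRing.residue Q.O ⟨b, hb⟩ ∈
        Algebra.adjoin (IsLocalRing.ResidueField P.O)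
          (Set.range fun c : k' => IsLocalRing.residue Q.O ⟨algebraMap k' K' c, hk' c⟩) := by
    intro b hb
    induction hb using Algebra.adjoin_induction with
    | mem x hx =>
      obtain ⟨c, rfl⟩ := hx
      exact ⟨hk' c, Algebra.subset_adjoin ⟨c, rfl⟩⟩
    | algebraMap a =>
      have ha : Q.1 (algebraMap P.O K' a) ≤ 1 := by
        rw [algebraMap_O_eq]
        exact (Valuation.HasExtension.val_map_le_one_iff P.1 Q.1 _).mpr
          ((P.1.mem_valuationSubring_iff _).mp a.2)
      refine ⟨ha, ?_⟩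
      have h1 : (⟨algebraMap P.O K' a, ha⟩ : Q.O) = algebraMap P.O Q.O a :=
        Subtype.ext ((algebraMap_O_eq P a).trans rfl)
      rw [h1, ← Valuation.HasExtension.algebraMap_residue_eq_residue_algebraMap]
      exact Subalgebra.algebraMap_mem _ _
    | add x y _ _ hx hy =>
      obtain ⟨hx1, hx2⟩ := hx
      obtain ⟨hy1, hy2⟩ := hy
      refine ⟨(Q.1.map_add x y).trans (max_le hx1 hy1), ?_⟩
      have h1 : (⟨x + y, (Q.1.map_add x y).trans (max_le hx1 hy1)⟩ : Q.O) =
          ⟨x, hx1⟩ + ⟨y, hy1⟩ := rfl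
      rw [h1, map_add]
      exact add_mem hx2 hy2
    | mul x y _ _ hx hy =>
      obtain ⟨hx1, hx2⟩ := hx
      obtain ⟨hy1, hy2⟩ := hy
      have hxy : Q.1 (x * y) ≤ 1 := by rw [map_mul]; exact mul_le_one' hx1 hy1
      refine ⟨hxy, ?_⟩
      have h1 : (⟨x * y, hxy⟩ : Q.O) = ⟨x, hx1⟩ * ⟨y, hy1⟩ := rfl
      rw [h1, map_mul]
      exact mul_mem hx2 hy2
  rw [eq_top_iff]
  rintro zbar -
  obtain ⟨⟨z, hz⟩, rfl⟩ := IsLocalRing.residue_surjective zbar
  have hz' : Q.1 z ≤ 1 := hz
  obtain ⟨s, hs1, hs2, hs3⟩ := exists_integral_denominator hK1 P Q z hz'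
  have hmem : ∀ w : K', IsIntegral P.O w →
      w ∈ Algebra.adjoin P.O (Set.range (algebraMap k' K')) := by
    intro w hw
    have h1 : w ∈ (integralClosure P.O K').toSubring := hw
    rw [hns] at h1
    exact h1
  obtain ⟨hsb, hsA⟩ := hclaim s (hmem s hs2)
  obtain ⟨hszb, hszA⟩ := hclaim (s * z) (hmem _ hs3)
  have hres1 : IsLocalRing.residue Q.O ⟨s, hsb⟩ = 1 := by
    rw [← sub_eq_zero, ← map_one (IsLocalRing.residue Q.O), ← map_sub,
      IsLocalRing.residue_eq_zero_iff, mem_maximalIdeal_iff]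
    exact hs1
  have h2 : (⟨s * z, hszb⟩ : Q.O) = ⟨s, hsb⟩ * ⟨z, hz⟩ := rfl
  rw [h2, map_mul, hres1, one_mul] at hszA
  exact hszA

end Groth.Agent.S12589
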