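import Groth.Statements.S12598
import Groth.Agent.H27.HasseSubst

set_option autoImplicit false
open FunFld

namespace Groth.Agent.S12598

/-- Over an algebraically closed constant field, the `τ`-order sequence `J = (j₁, …, jₙ)` of a
projective map `φ` does not depend on the separating variable used for the Hasse derivatives, and
the Wronskians with respect to `t` and to `s` differ by the factor `(ds/dt)^(j₁ + ⋯ + jₙ)`, where
`ds/dt` is the first Hasse derivative of `s` with respect to `t`. -/
theorem result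
    (k K : Type*) [Field k] [IsAlgClosed k] [Field K] [Algebra k K]
    (hK : FunFld.IsFunctionField k K) {n : ℕ} (φ : Fin (n + 1) → K) (hφ : LinearIndependent k φ)
    (τ : K →ₐ[k] K) (s : K) (Hs : K →ₐ[k] PowerSeries K) (hHs : LocRes.IsHasseFamily s Hs)
    (t : K) (Ht : K →ₐ[k] PowerSeries K) (hHt : LocRes.IsHasseFamily t Ht) :
    (∀ J : Fin n → ℕ, FunFld.IsOrders K (FunFld.hcol τ Ht φ) J ↔ FunFld.IsOrders K (FunFld.hcol τ Hs φ) J) ∧
    ∀ J : Fin n → ℕ, FunFld.IsOrders K (FunFld.hcol τ Hs φ) J →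
      (FunFld.wrMat τ Ht φ J).det =
        LocRes.hasseD Ht 1 s ^ (∑ l, J l) * (FunFld.wrMat τ Hs φ J).det := by
  have hchg := fun y => Groth.Agent.H27.Hasse.hasse_change hK hHs hHt y
  have hchg' := fun y => Groth.Agent.H27.Hasse.hasse_change hK hHt hHs y
  obtain ⟨g, hg⟩ : ∃ g : PowerSeries K, g = Ht s - PowerSeries.C s := ⟨_, rfl⟩
  obtain ⟨g', hg'⟩ : ∃ g' : PowerSeries K, g' = Hs t - PowerSeries.C t := ⟨_, rfl⟩
  rw [← hg] at hchg
  rw [← hg'] at hchg'
  have hg0 : PowerSeries.constantCoeff g = 0 := by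
    rw [hg, map_sub, hHt.2, PowerSeries.constantCoeff_C, sub_self]
  have hg'0 : PowerSeries.constantCoeff g' = 0 := by
    rw [hg', map_sub, hHs.2, PowerSeries.constantCoeff_C, sub_self]
  have hu : PowerSeries.coeff 1 g = LocRes.hasseD Ht 1 s := by
    rw [hg, map_sub, PowerSeries.coeff_C, if_neg one_ne_zero, sub_zero]
    rfl
  have hune : LocRes.hasseD Ht 1 s ≠ 0 := by
    rw [← hu]
    have h1 : g.subst g' = PowerSeries.X := by
      have h2 := hchg' s
      rw [hHs.1] at h2
      have h3 : Ht s = PowerSeries.C s + g := by rw [hg]; ring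
      rw [h3, PowerSeries.subst_add (PowerSeries.HasSubst.of_constantCoeff_zero' hg'0),
        PowerSeries.subst_C] at h2
      exact (add_left_cancel h2).symm
    have h4 := congrArg (PowerSeries.coeff 1) h1
    rw [Groth.Agent.H27.Hasse.coeff_subst_range hg'0, Finset.sum_range_succ,
      Finset.sum_range_one, pow_zero, pow_one, PowerSeries.coeff_one, if_neg one_ne_zero,
      mul_zero, zero_add, PowerSeries.coeff_one_X] at h4
    intro h0
    rw [h0, zero_mul] at h4
    exact zero_ne_one h4
  have hform : ∀ y j, LocRes.hasseD Ht j y =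
      ∑ i ∈ Finset.range (j + 1), LocRes.hasseD Hs i y * PowerSeries.coeff j (g ^ i) := by
    intro y j
    rw [LocRes.hasseD_apply, hchg y, Groth.Agent.H27.Hasse.coeff_subst_range hg0]
    rfl
  let d : ℕ → K := fun m => if m = 0 then 1 else (LocRes.hasseD Ht 1 s) ^ (m - 1)
  have hd : ∀ m, d m ≠ 0 := by
    intro m
    by_cases h : m = 0
    · simp [d, h]
    · simp only [d, if_neg h]
      exact pow_ne_zero _ hune
  have htri : ∀ m, FunFld.hcol τ Ht φ m - d m • FunFld.hcol τ Hs φ m ∈
      Submodule.span K (FunFld.hcol τ Hs φ '' Set.Iio m) := by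
    intro m
    cases m with
    | zero =>
      have : FunFld.hcol τ Ht φ 0 - d 0 • FunFld.hcol τ Hs φ 0 = 0 := by
        ext i
        simp [FunFld.hcol, d]
      rw [this]
      exact Submodule.zero_mem _
    | succ j =>
      have : FunFld.hcol τ Ht φ (j + 1) - d (j + 1) • FunFld.hcol τ Hs φ (j + 1) =
          ∑ i ∈ Finset.range j, PowerSeries.coeff j (g ^ i) • FunFld.hcol τ Hs φ (i + 1) := by
        ext x
        simp only [FunFld.hcol, d, Pi.sub_apply, Pi.smul_apply, smul_eq_mul, Finset.sum_apply,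
          Nat.add_eq_zero_iff, one_ne_zero, and_false, if_false, Nat.add_sub_cancel]
        rw [hform, Finset.sum_range_succ, Groth.Agent.H27.Hasse.coeff_pow_self hg0, hu,
          Finset.sum_congr rfl (fun i _ => mul_comm (LocRes.hasseD Hs i (φ x))
            (PowerSeries.coeff j (g ^ i)))]
        ring
      rw [this]
      exact Submodule.sum_mem _ (fun i hi => Submodule.smul_mem _ _
        (Groth.Agent.H27.Jump.mem_span_Iio _ (by have := Finset.mem_range.1 hi; omega)))
  refine ⟨fun J => Groth.Agent.H27.Jump.isOrders_iff_of_tri hd htri J, fun J hJ => ?_⟩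
  rw [Groth.Agent.H27.Jump.wrMat_eq, Groth.Agent.H27.Jump.wrMat_eq,
    Groth.Agent.H27.Jump.det_tri htri hJ, Fin.prod_univ_succ]
  simp only [Groth.Agent.H27.Jump.eIdx_zero, Groth.Agent.H27.Jump.eIdx_succ, d, if_pos,
    Nat.add_eq_zero_iff, one_ne_zero, and_false, if_false, Nat.add_sub_cancel, one_mul]
  rw [Finset.prod_pow_eq_pow_sum]

end Groth.Agent.S12598
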