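import Groth.Statements.S12602
import Groth.Agent.H27.HasseBasic

set_option autoImplicit false
open FunFld

namespace Groth.Agent.S12602

/-- Over an algebraically closed constant field, for a birational projective map `φ = (φ₀, …, φₙ)`, `n ≥
1`, with orders `j₁ < ⋯ < jₙ`, and `τ ≠ 1`, the `τ`-orders of `φ` are `(0, j₁, …, j_{m-1}, j_{m+1},
…, jₙ)` for some `m`: the jump indices of `[τ(φ) | D^(0) φ | D^(1) φ | ⋯]` after the leading column
are `0` and the `jₗ` with `l ≠ m`. -/
theorem result
    (k K : Type*) [Field k] [IsAlgClosed k] [Field K] [Algebra k K]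
    (hK : FunFld.IsFunctionField k K) {n : ℕ} (hn : 0 < n) (φ : Fin (n + 1) → K) (hφ : LinearIndependent k φ)
    (h0 : φ 0 ≠ 0) (hbir : IntermediateField.adjoin k (Set.range fun i => φ i / φ 0) = ⊤)
    (τ : K →ₐ[k] K) (hτ : τ ≠ AlgHom.id k K) (s : K) (H : K →ₐ[k] PowerSeries K) (hH : LocRes.IsHasseFamily s H)
    (J : Fin n → ℕ) (hJ : FunFld.IsOrders K (FunFld.hcol (AlgHom.id k K) H φ) J) :
    ∃ m : Fin n, ∀ j : ℕ,
      FunFld.IsJump K (FunFld.hcol τ H φ) (j + 1) ↔ (j = 0 ∨ ∃ l, l ≠ m ∧ J l = j) := by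
  classical
  have hsucc : ∀ j, FunFld.hcol τ H φ (j + 1) = FunFld.hcol (AlgHom.id k K) H φ (j + 1) :=
    fun j => rfl
  have hc'0 : FunFld.hcol (AlgHom.id k K) H φ 0 = φ := by
    ext i
    rfl
  have hc'1 : FunFld.hcol (AlgHom.id k K) H φ 1 = φ := Groth.Agent.H27.Hasse.hcol_one hH _ φ
  have hc1 : FunFld.hcol τ H φ 1 = φ := Groth.Agent.H27.Hasse.hcol_one hH _ φ
  have hφ0 : φ ≠ 0 := fun h => h0 (by rw [h]; rfl)
  -- `0` is not an order for the identity
  have hJ0 : ∀ l, 1 ≤ J l := by
    intro l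
    by_contra h
    have h0' : J l = 0 := by omega
    have hj : FunFld.IsJump K (FunFld.hcol (AlgHom.id k K) H φ) (0 + 1) := (hJ.2 0).1 ⟨l, h0'⟩
    apply hj
    have e : FunFld.hcol (AlgHom.id k K) H φ (0 + 1) = FunFld.hcol (AlgHom.id k K) H φ 0 := by
      rw [zero_add, hc'1, hc'0]
    rw [e]
    exact Groth.Agent.H27.Jump.mem_span_Iio _ Nat.zero_lt_one
  -- the jump columns for the identity span everything
  have hjump' : ∀ x : Fin (n + 1), FunFld.IsJump K (FunFld.hcol (AlgHom.id k K) H φ)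
      (Groth.Agent.H27.Jump.eIdx J x) := by
    intro x
    induction x using Fin.cases with
    | zero =>
      rw [Groth.Agent.H27.Jump.eIdx_zero, Groth.Agent.H27.Jump.isJump_zero_iff, hc'0]
      exact hφ0
    | succ l =>
      rw [Groth.Agent.H27.Jump.eIdx_succ]
      exact (hJ.2 (J l)).1 ⟨l, rfl⟩
  have hli' := Groth.Agent.H27.Jump.linearIndependent_jumps (K := K)
    (FunFld.hcol (AlgHom.id k K) H φ) (Groth.Agent.H27.Jump.eIdx J)
    (Groth.Agent.H27.Jump.eIdx_strictMono hJ.1) hjump'
  have htop' := hli'.span_eq_top_of_card_eq_finrank' (by simp)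
  have hspan : Submodule.span K (Set.range (FunFld.hcol τ H φ)) = ⊤ := by
    rw [eq_top_iff, ← htop']
    apply Submodule.span_mono
    rintro _ ⟨x, rfl⟩
    induction x using Fin.cases with
    | zero =>
      refine ⟨1, ?_⟩
      show FunFld.hcol τ H φ 1 = FunFld.hcol (AlgHom.id k K) H φ 0
      rw [hc1, hc'0]
    | succ l =>
      exact ⟨J l + 1, by
        show FunFld.hcol τ H φ (J l + 1) = FunFld.hcol (AlgHom.id k K) H φ
          (Groth.Agent.H27.Jump.eIdx J l.succ)
        rw [Groth.Agent.H27.Jump.eIdx_succ]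
        exact hsucc (J l)⟩
  obtain ⟨e, he, hej, -⟩ := Groth.Agent.H27.Jump.exists_jump_enum (K := K) (N := n + 1)
    (by simp) (FunFld.hcol τ H φ) hspan
  -- jumps of the `τ`-sequence
  have hjmp0 : FunFld.IsJump K (FunFld.hcol τ H φ) 0 := by
    rw [Groth.Agent.H27.Jump.isJump_zero_iff]
    intro h
    have : τ (φ 0) = 0 := congrFun h 0
    exact h0 ((map_eq_zero τ).1 this)
  have hjmp1 : FunFld.IsJump K (FunFld.hcol τ H φ) 1 := by
    by_contra h
    exact hτ ((Groth.Agent.H27.Hasse.not_isJump_one_iff φ h0 hbir τ hH).1 h)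
  have hjmp2 : ∀ j, 1 ≤ j → FunFld.IsJump K (FunFld.hcol τ H φ) (j + 1) →
      FunFld.IsJump K (FunFld.hcol (AlgHom.id k K) H φ) (j + 1) := by
    intro j hj hjump hmem
    apply hjump
    rw [hsucc j]
    refine Submodule.span_mono ?_ hmem
    rintro _ ⟨i, hi, rfl⟩
    cases i with
    | zero =>
      refine ⟨1, ?_, ?_⟩
      · show 1 < j + 1
        omega
      · rw [hc1, hc'0]
    | succ i' => exact ⟨i' + 1, hi, rfl⟩
  let A : Finset (Fin n) := Finset.univ.filter (fun l => FunFld.IsJump K (FunFld.hcol τ H φ) (J l + 1))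
  have hinjJ : Function.Injective (fun l : Fin n => J l + 1) := by
    intro a b hab
    exact hJ.1.injective (by simpa using hab)
  have hG : Finset.univ.image e = insert 0 (insert 1 (A.image (fun l => J l + 1))) := by
    ext j
    simp only [Finset.mem_image, Finset.mem_univ, true_and, Finset.mem_insert, A,
      Finset.mem_filter]
    constructor
    · rintro ⟨x, rfl⟩
      have hx : FunFld.IsJump K (FunFld.hcol τ H φ) (e x) := (hej _).2 ⟨x, rfl⟩
      generalize e x = j at hx
      cases j with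
      | zero => exact Or.inl rfl
      | succ j' =>
        cases j' with
        | zero => exact Or.inr (Or.inl rfl)
        | succ j'' =>
          obtain ⟨l, hl⟩ := (hJ.2 (j'' + 1)).2 (hjmp2 (j'' + 1) (by omega) hx)
          exact Or.inr (Or.inr ⟨l, by rw [hl]; exact hx, by rw [hl]⟩)
    · rintro (rfl | rfl | ⟨l, hl, rfl⟩)
      · exact (hej 0).1 hjmp0
      · exact (hej 1).1 hjmp1
      · exact (hej _).1 hl
  have hcard1 : (Finset.univ.image e).card = n + 1 := by
    rw [Finset.card_image_of_injective _ he.injective, Finset.card_univ, Fintype.card_fin]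
  have hcard2 : (insert 0 (insert 1 (A.image (fun l => J l + 1)))).card = A.card + 2 := by
    rw [Finset.card_insert_of_notMem, Finset.card_insert_of_notMem,
      Finset.card_image_of_injective _ hinjJ]
    · intro h
      obtain ⟨l, -, hl⟩ := Finset.mem_image.1 h
      have := hJ0 l
      omega
    · intro h
      rcases Finset.mem_insert.1 h with h | h
      · omega
      · obtain ⟨l, -, hl⟩ := Finset.mem_image.1 h
        omega
  have hAc : Aᶜ.card = 1 := by
    rw [Finset.card_compl, Fintype.card_fin]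
    rw [hG, hcard2] at hcard1
    omega
  obtain ⟨m, hm⟩ := Finset.card_eq_one.1 hAc
  have hmA : ∀ l, l ≠ m ↔ FunFld.IsJump K (FunFld.hcol τ H φ) (J l + 1) := by
    intro l
    have h1 : l ∈ Aᶜ ↔ l = m := by rw [hm, Finset.mem_singleton]
    rw [Finset.mem_compl] at h1
    have h2 : l ∈ A ↔ FunFld.IsJump K (FunFld.hcol τ H φ) (J l + 1) := by
      simp only [A, Finset.mem_filter, Finset.mem_univ, true_and]
    rw [← h2]
    constructor
    · intro hne
      by_contra hA
      exact hne (h1.1 hA)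
    · intro hA hlm
      exact (h1.2 hlm) hA
  refine ⟨m, fun j => ?_⟩
  constructor
  · intro hj
    cases j with
    | zero => exact Or.inl rfl
    | succ j' =>
      obtain ⟨l, hl⟩ := (hJ.2 (j' + 1)).2 (hjmp2 (j' + 1) (by omega) hj)
      exact Or.inr ⟨l, (hmA l).2 (by rw [hl]; exact hj), hl⟩
  · rintro (rfl | ⟨l, hl, rfl⟩)
    · exact hjmp1
    · exact (hmA l).1 hl

end Groth.Agent.S12602
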