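import Groth.Statements.S12614
import Groth.Agent.H27.Generic
import Groth.Agent.H27.MapDivInv
import Groth.Agent.S12596
import Groth.Agent.S12597
import Groth.Agent.S12598

set_option autoImplicit false
open FunFld

namespace Groth.Agent.S12614

open WithZero Groth.Agent.H55 Groth.Agent.H27.WDiv Groth.Agent.H27.Generic Groth.Agent.H27.Sep
open Groth.Agent.H27.MapDivInv


/-- Over an algebraically closed constant field, the Weierstrass divisor `W_s(φ, τ) = [w_s(φ, τ)] +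
[τ(φ)] + n[φ] + j(φ, τ)[ds]` does not depend on the separating variable `s` and does not change when
`φ` is replaced by an equivalent map `y · Aφ` (`A` invertible over `k`, `y ≠ 0`). Divisors of
differentials are read through a fixed family of Laurent expansions. -/
theorem result
    (k K : Type*) [Field k] [IsAlgClosed k] [Field K] [Algebra k K]
    (hK : FunFld.IsFunctionField k K) {n : ℕ} (φ : Fin (n + 1) → K) (hφ : LinearIndependent k φ)
    (τ : K →ₐ[k] K) (s : K) (Hs : K →ₐ[k] PowerSeries K) (hHs : LocRes.IsHasseFamily s Hs)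
    (t : K) (Ht : K →ₐ[k] PowerSeries K) (hHt : LocRes.IsHasseFamily t Ht)
    (J : Fin n → ℕ) (hJ : FunFld.IsOrders K (FunFld.hcol τ Hs φ) J)
    (A : Matrix (Fin (n + 1)) (Fin (n + 1)) k) (hA : A.det ≠ 0) (y : K) (hy : y ≠ 0)
    (φ' : Fin (n + 1) → K) (hφ' : ∀ i, φ' i = y * ∑ j, A i j • φ j)
    (Φ : FunFld.Place k K → (K →ₐ[k] LaurentSeries k))
    (hΦ : ∀ P : FunFld.Place k K, LocRes.IsExpansionAt P.1 (Φ P)) :
    FunFld.wDiv τ Ht Φ t φ' J = FunFld.wDiv τ Hs Φ s φ J := by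
  classical
  have hg := Groth.Agent.S11000.result k K hK
  have hfr := finrank_kaehler hK hg
  obtain ⟨φ'', hφ''⟩ : ∃ φ'' : Fin (n + 1) → K, φ'' = fun i => ∑ j, A i j • φ j := ⟨_, rfl⟩
  have hφ''i : ∀ i, φ'' i = ∑ j, A i j • φ j := fun i => by rw [hφ'']
  have hli'' : LinearIndependent k φ'' := by
    rw [hφ'']
    exact linearIndependent_matrix_apply φ hφ A hA
  have hφ'eq : φ' = y • φ'' := by
    funext i
    rw [hφ' i, Pi.smul_apply, smul_eq_mul, hφ''i]
  have hJt : IsOrders K (hcol τ Ht φ) J :=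
    ((Groth.Agent.S12598.result k K hK φ hφ τ s Hs hHs t Ht hHt).1 J).2 hJ
  have hJt'' : IsOrders K (hcol τ Ht φ'') J :=
    ((Groth.Agent.S12596.result k K hK φ hφ τ t Ht hHt A hA φ'' hφ''i).1 J).2 hJt
  have hd1 := (Groth.Agent.S12597.result k K hK φ'' hli'' τ t Ht hHt y hy).2 J hJt''
  have hd2 := (Groth.Agent.S12596.result k K hK φ hφ τ t Ht hHt A hA φ'' hφ''i).2 J
  have hd3 := (Groth.Agent.S12598.result k K hK φ hφ τ s Hs hHs t Ht hHt).2 J hJ
  have hdet : (wrMat τ Ht φ' J).det = τ y * y ^ n * (algebraMap k K A.det *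
      (LocRes.hasseD Ht 1 s ^ (∑ l, J l) * (wrMat τ Hs φ J).det)) := by
    rw [hφ'eq, hd1, hd2, hd3]
  have hw0 := det_wrMat_ne_zero hK φ hφ τ s Hs hHs J hJ
  have hg0 : LocRes.hasseD Ht 1 s ≠ 0 := hasseD_one_ne_zero hHt hfr (D_ne_zero_of_hasse hHs)
  have hτy : τ y ≠ 0 := (map_ne_zero τ).2 hy
  have hA0 : algebraMap k K A.det ≠ 0 := (map_ne_zero _).2 hA
  ext Q
  rw [wDiv_apply hK, wDiv_apply hK, divDiff_apply hK hHt Φ hΦ Q, divDiff_apply hK hHs Φ hΦ Q,
    ordDiff_change hK hHs hHt Φ Q (hΦ Q), hdet]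
  have hm1 := mapDiv_equiv hK φ hφ A hA hy φ' hφ' Q
  have hτli : LinearIndependent k (τ ∘ φ) :=
    hφ.map' τ.toLinearMap (LinearMap.ker_eq_bot.2 τ.toRingHom.injective)
  have hm2 : mapDiv k (τ ∘ φ') Q = mapDiv k (τ ∘ φ) Q - Q.ord (τ y) := by
    apply mapDiv_equiv hK (τ ∘ φ) hτli A hA hτy
    intro i
    simp only [Function.comp_apply, hφ' i, map_mul, map_sum, map_smul]
  rw [hm1, hm2]
  have ho : Q.ord (τ y * y ^ n * (algebraMap k K A.det *
      (LocRes.hasseD Ht 1 s ^ (∑ l, J l) * (wrMat τ Hs φ J).det))) =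
      Q.ord (τ y) + n * Q.ord y + (∑ l, (J l : ℤ)) * Q.ord (LocRes.hasseD Ht 1 s) +
        Q.ord (wrMat τ Hs φ J).det := by
    rw [pl_ord_mul Q (mul_ne_zero hτy (pow_ne_zero _ hy))
        (mul_ne_zero hA0 (mul_ne_zero (pow_ne_zero _ hg0) hw0)),
      pl_ord_mul Q hτy (pow_ne_zero _ hy), pl_ord_pow,
      pl_ord_mul Q hA0 (mul_ne_zero (pow_ne_zero _ hg0) hw0), pl_ord_const,
      pl_ord_mul Q (pow_ne_zero _ hg0) hw0, pl_ord_pow]
    push_cast
    ring
  rw [ho]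
  ring

end Groth.Agent.S12614
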