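import Groth.Statements.S12610
import Groth.Agent.S12614
import Groth.Agent.S12615
import Groth.Agent.S12601
import Groth.Agent.S12605
import Groth.Agent.H27.Jump2

set_option autoImplicit false
open FunFld

namespace Groth.Agent.S12610

open WithZero Groth.Agent.H55 Groth.Agent.H27.WDiv Groth.Agent.H27.Generic Groth.Agent.H27.Sep
open Groth.Agent.H27.LocOrd


/-- Over an algebraically closed constant field, for a birational projective map `φ`, a `k`-endomorphism
`τ ≠ 1` and a place `P` fixed by `τ`, the place `P` is a Weierstrass point of `φ` with respect to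
`τ`: the Weierstrass divisor `W(φ, τ) = [w_s(φ, τ)] + [τ(φ)] + n[φ] + j(φ, τ)[ds]` has positive
coefficient at `P` (the divisor of `ds` read through a family of Laurent expansions). -/
theorem result
    (k K : Type*) [Field k] [IsAlgClosed k] [Field K] [Algebra k K]
    (hK : FunFld.IsFunctionField k K) {n : ℕ} (φ : Fin (n + 1) → K) (hφ : LinearIndependent k φ)
    (h0 : φ 0 ≠ 0) (hbir : IntermediateField.adjoin k (Set.range fun i => φ i / φ 0) = ⊤)
    (τ : K →ₐ[k] K) (hτ : τ ≠ AlgHom.id k K) (P : FunFld.Place k K) (hP : FunFld.IsFixedPt τ P)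
    (s : K) (H : K →ₐ[k] PowerSeries K) (hH : LocRes.IsHasseFamily s H)
    (J : Fin n → ℕ) (hJ : FunFld.IsOrders K (FunFld.hcol τ H φ) J)
    (Φ : FunFld.Place k K → (K →ₐ[k] LaurentSeries k))
    (hΦ : ∀ P : FunFld.Place k K, LocRes.IsExpansionAt P.1 (Φ P)) :
    0 < FunFld.wDiv τ H Φ s φ J P := by
  classical
  have hg := Groth.Agent.S11000.result k K hK
  have hfr := finrank_kaehler hK hg
  obtain ⟨t, ht⟩ := (hΦ P).2.2
  obtain ⟨Ht, hHt⟩ := exists_hasse hH (hasseD_one_ne_zero hH hfr (D_ne_zero_of_val hK P ht))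
  obtain ⟨j0, -, hj0⟩ := Finset.exists_max_image Finset.univ (fun i => P.1 (φ i))
    Finset.univ_nonempty
  have hφ0 : ∀ i, φ i ≠ 0 := fun i => hφ.ne_zero i
  obtain ⟨y, hy⟩ : ∃ y : K, y = (φ j0)⁻¹ := ⟨_, rfl⟩
  have hy0 : y ≠ 0 := by
    rw [hy]
    exact inv_ne_zero (hφ0 j0)
  obtain ⟨φ', hφ'⟩ : ∃ φ' : Fin (n + 1) → K, φ' = y • φ := ⟨_, rfl⟩
  have hφ'i : ∀ i, φ' i = y * φ i := fun i => by rw [hφ', Pi.smul_apply, smul_eq_mul]
  have hW := Groth.Agent.S12614.result k K hK φ hφ τ s H hH t Ht hHt J hJ 1 (by simp) y hy0 φ'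
    (fun i => by
      rw [hφ'i]
      congr 1
      simp [Matrix.one_apply]) Φ hΦ
  rw [← hW]
  have hφ'li : LinearIndependent k φ' := by
    have : φ' = (LinearMap.mulLeft k y) ∘ φ := by
      ext i
      simp [hφ'i]
    rw [this]
    exact hφ.map' _ (LinearMap.ker_eq_bot.2 (mul_right_injective₀ hy0))
  have heff : (1 : K) ∈ Submodule.span k (Set.range φ') :=
    Submodule.subset_span ⟨j0, by rw [hφ'i, hy, inv_mul_cancel₀ (hφ0 j0)]⟩
  have hnorm : ∀ i, P.1 (φ' i) ≤ 1 := by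
    intro i
    rw [hφ'i, hy, map_mul, map_inv₀, inv_mul_le_iff₀ (zero_lt_iff.2
      ((Valuation.ne_zero_iff _).2 (hφ0 j0))), mul_one]
    exact hj0 i (Finset.mem_univ _)
  have hJt : IsOrders K (hcol τ Ht φ) J :=
    ((Groth.Agent.S12598.result k K hK φ hφ τ s H hH t Ht hHt).1 J).2 hJ
  have hJ' : IsOrders K (hcol τ Ht φ') J := by
    rw [hφ']
    exact ((Groth.Agent.S12597.result k K hK φ hφ τ t Ht hHt y hy0).1 J).2 hJt
  obtain ⟨J', hJ'ord⟩ := Groth.Agent.H27.Jump.exists_localOrders hK P φ' hφ'li heff hnorm t ht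
    Ht hHt
  obtain ⟨h1, -⟩ := Groth.Agent.S12615.result k K hK τ P hP φ' hφ'li heff hnorm t ht Ht hHt J hJ'
    J' hJ'ord Φ hΦ
  refine lt_of_lt_of_le ?_ h1
  have hJ'pos : ∀ l, 0 < J' l := fun l =>
    ((isJump_hcolAt_succ_iff hK P ht hHt φ' hnorm (J' l)).1 ((hJ'ord.2 (J' l)).1 ⟨l, rfl⟩)).1
  have hdetJ' : (wrMat τ Ht φ' J').det ≠ 0 := by
    obtain ⟨-, h2⟩ := Groth.Agent.S12605.result k K hK τ P hP φ' hφ'li heff hnorm t ht Ht hHt
      J' hJ'ord J' hJ'ord.1
    have h3 : (binomMat k J' J').det ≠ 0 := by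
      rw [Matrix.det_of_isLowerTriangular]
      · refine Finset.prod_ne_zero_iff.2 (fun l _ => ?_)
        simp [binomMat]
      · intro i j hij
        simp only [binomMat, Matrix.of_apply]
        rw [Nat.choose_eq_zero_of_lt (hJ'ord.1 (by simpa using hij)), Nat.cast_zero]
    have h4 := (h2 (Or.inl hJ'pos)).2 h3
    intro h0
    rw [h0, map_zero] at h4
    exact exp_ne_zero h4.symm
  have hle : ∀ l, J l ≤ J' l :=
    Groth.Agent.S12601.result k K hK φ' hφ'li τ t Ht hHt J hJ' J' hJ'ord.1 hdetJ'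
  have hjump1 : IsJump K (hcol τ H φ) 1 := by
    by_contra hnj
    exact hτ ((Groth.Agent.H27.Hasse.not_isJump_one_iff φ h0 hbir τ hH).1 hnj)
  obtain ⟨l₀, hl₀⟩ := (hJ.2 0).2 hjump1
  have hnn : ∀ l ∈ Finset.univ, (0 : ℤ) ≤ (J' l : ℤ) - J l := fun l _ => by
    have := hle l
    omega
  have h5 := Finset.single_le_sum hnn (Finset.mem_univ l₀)
  have h6 := hJ'pos l₀
  omega

end Groth.Agent.S12610
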