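import Groth.Statements.S12611
import Groth.Agent.H27.Classical

set_option autoImplicit false
open FunFld

namespace Groth.Agent.S12611

open WithZero Groth.Agent.H27.BinomDet


/-- Over an algebraically closed constant field of characteristic `0` or greater than `deg φ`, a
birational projective map `φ = (φ₀, …, φₙ)` is classical: its orders are `(1, 2, …, n)`, and for a
`k`-endomorphism `τ ≠ 1` its `τ`-orders are `(0, 1, …, n-1)`. (The published statement has no
fixed-point hypothesis for `τ ≠ 1` and is false without one: on a smooth plane cubic in
characteristic `0`, pulling back along multiplication by `-2` gives `τ`-orders `(0, 2)`. This row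
assumes `τ` has a strong fixed point — a place whose maximal ideal `τ` maps into its square — which
is what the proof uses, through the equality criterion for Wronskian orders at such a point.) -/
theorem result
    (k K : Type*) [Field k] [IsAlgClosed k] [Field K] [Algebra k K]
    (hK : FunFld.IsFunctionField k K) {n : ℕ} (φ : Fin (n + 1) → K) (hφ : LinearIndependent k φ)
    (h0 : φ 0 ≠ 0) (hbir : IntermediateField.adjoin k (Set.range fun i => φ i / φ 0) = ⊤)
    (hchar : ringChar k = 0 ∨ (FunFld.mapDiv k φ).deg < ringChar k)
    (τ : K →ₐ[k] K) (s : K) (H : K →ₐ[k] PowerSeries K) (hH : LocRes.IsHasseFamily s H) :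
    (τ = AlgHom.id k K → FunFld.IsOrders K (FunFld.hcol τ H φ) (fun l : Fin n => (l : ℕ) + 1)) ∧
    (τ ≠ AlgHom.id k K → (∃ P : FunFld.Place k K, FunFld.IsStrongFixedPt τ P) →
      FunFld.IsOrders K (FunFld.hcol τ H φ) (fun l : Fin n => (l : ℕ))) := by
  classical
  constructor
  · intro hτ
    subst hτ
    obtain ⟨P, -⟩ := Groth.Agent.H55.exists_zero hK s
      (Groth.Agent.H27.Hasse.transcendental_of_hasse hK hH)
    refine Groth.Agent.H27.Classical.core hK φ hφ (AlgHom.id k K) s H hH P (fun z hz => hz) _ ?_
      (Or.inl fun l => Nat.succ_pos _) ?_ ?_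
    · intro a b h
      have : (a : ℕ) < b := h
      show (a : ℕ) + 1 < (b : ℕ) + 1
      omega
    · intro J' hJ'm hJ'pos hJ'deg
      apply det_binomMat_succ k J'
      · intro r
        exact cast_ne_zero_of_le k hchar (hJ'deg r) (hJ'pos r).ne'
      · intro a b hab
        have h1 := hJ'pos a
        have h2 := hJ'pos b
        have h3 := hJ'deg a
        have h4 := hJ'deg b
        have := cast_inj_of_le k hchar (a := J' a - 1) (b := J' b - 1) (by omega) (by omega) hab
        exact hJ'm.injective (by omega)
    · intro J hJ
      have hne : ∀ l, J l ≠ 0 := by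
        intro l hl
        have := (hJ.2 0).1 ⟨l, hl⟩
        exact ((Groth.Agent.H27.Hasse.not_isJump_one_iff φ h0 hbir (AlgHom.id k K) hH).2 rfl) this
      have key : ∀ (m : ℕ) (hm : m < n), m + 1 ≤ J ⟨m, hm⟩ := by
        intro m
        induction m with
        | zero =>
          intro hm
          have := hne ⟨0, hm⟩
          omega
        | succ m ih =>
          intro hm
          have h1 := ih (by omega)
          have h2 : J ⟨m, by omega⟩ < J ⟨m + 1, hm⟩ := hJ.1 (by simp [Fin.lt_def])
          omega
      intro l
      exact key l l.2
  · intro _ ⟨P, hP⟩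
    have hfix : IsFixedPt τ P := fun z hz => lt_of_le_of_lt (hP z hz) (by
      rw [← WithZero.exp_zero, WithZero.exp_lt_exp]
      norm_num)
    refine Groth.Agent.H27.Classical.core hK φ hφ τ s H hH P hfix _ ?_ (Or.inr hP) ?_ ?_
    · intro a b h
      exact h
    · intro J' hJ'm hJ'pos hJ'deg
      apply det_binomMat_id k J'
      intro a b hab
      exact hJ'm.injective (cast_inj_of_le k hchar (hJ'deg a) (hJ'deg b) hab)
    · intro J hJ
      have key : ∀ (m : ℕ) (hm : m < n), m ≤ J ⟨m, hm⟩ := by
        intro m
        induction m with
        | zero =>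
          intro hm
          omega
        | succ m ih =>
          intro hm
          have h1 := ih (by omega)
          have h2 : J ⟨m, by omega⟩ < J ⟨m + 1, hm⟩ := hJ.1 (by simp [Fin.lt_def])
          omega
      intro l
      exact key l l.2

end Groth.Agent.S12611
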