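import Groth.Statements.S12617
import Groth.Agent.H27.LocOrd

set_option autoImplicit false
open FunFld

namespace Groth.Agent.S12617

open WithZero Groth.Agent.H55 Groth.Agent.H27.Expn Groth.Agent.H27.LocOrd

section
variable {k K : Type*} [Field k] [Field K] [Algebra k K] (P : FunFld.Place k K)

/-- The subalgebra `k + m_P²` of the valuation ring. -/
def km2 : Subalgebra k K where
  carrier := {x | ∃ c : k, P.1 (x - algebraMap k K c) ≤ exp (-2 : ℤ)}
  mul_mem' := by
    rintro x y ⟨c, hc⟩ ⟨d, hd⟩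
    refine ⟨c * d, ?_⟩
    have hy : P.1 y ≤ 1 := by
      have : y = (y - algebraMap k K d) + algebraMap k K d := by ring
      rw [this]
      exact Valuation.map_add_le _ (hd.trans (by rw [← exp_zero, exp_le_exp]; norm_num))
        (P.2.1 d)
    have : x * y - algebraMap k K (c * d) =
        (x - algebraMap k K c) * y + algebraMap k K c * (y - algebraMap k K d) := by
      rw [map_mul]
      ring
    rw [this]
    refine Valuation.map_add_le _ ?_ ?_
    · rw [map_mul]
      exact (mul_le_mul' hc hy).trans_eq (mul_one _)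
    · rw [map_mul]
      exact (mul_le_mul' (P.2.1 c) hd).trans_eq (one_mul _)
  add_mem' := by
    rintro x y ⟨c, hc⟩ ⟨d, hd⟩
    refine ⟨c + d, ?_⟩
    have : x + y - algebraMap k K (c + d) =
        (x - algebraMap k K c) + (y - algebraMap k K d) := by
      rw [map_add]
      ring
    rw [this]
    exact Valuation.map_add_le _ hc hd
  algebraMap_mem' := fun c => ⟨c, by simp⟩

theorem km2_inv {x : K} (hx : x ∈ km2 P) (hx1 : P.1 x = 1) : x⁻¹ ∈ km2 P := by
  obtain ⟨c, hc⟩ := hx
  have hx0 : x ≠ 0 := by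
    rintro rfl
    rw [map_zero] at hx1
    exact zero_ne_one hx1
  have hc0 : c ≠ 0 := by
    rintro rfl
    rw [map_zero, sub_zero, hx1, ← exp_zero, exp_le_exp] at hc
    omega
  have hcK : algebraMap k K c ≠ 0 := (map_ne_zero _).2 hc0
  refine ⟨c⁻¹, ?_⟩
  have : x⁻¹ - algebraMap k K c⁻¹ = -(x - algebraMap k K c) * (x⁻¹ * algebraMap k K c⁻¹) := by
    rw [map_inv₀]
    field_simp
    ring
  rw [this, map_mul, Valuation.map_neg, map_mul, map_inv₀, hx1, inv_one, one_mul,
    pl_val_const P (inv_ne_zero hc0), mul_one]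
  exact hc

end


/-- Over an algebraically closed constant field, if the effective projective map `φ = (φ₀, …, φₙ)`, `n ≥
1`, normalized at `P`, is nonsingular at `P`, then its first order at `P` is `1`. -/
theorem result
    (k K : Type*) [Field k] [IsAlgClosed k] [Field K] [Algebra k K]
    (hK : FunFld.IsFunctionField k K) (P : FunFld.Place k K) {n : ℕ} (hn : 0 < n) (φ : Fin (n + 1) → K)
    (hφ : LinearIndependent k φ)
    (heff : (1 : K) ∈ Submodule.span k (Set.range φ)) (hnorm : ∀ i, P.1 (φ i) ≤ 1) (hns : FunFld.IsNonsingularAt φ P)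
    (t : K) (ht : P.1 t = WithZero.exp (-1))
    (Ht : K →ₐ[k] PowerSeries K) (hHt : LocRes.IsHasseFamily t Ht)
    (J' : Fin n → ℕ) (hJ' : FunFld.IsOrders (IsLocalRing.ResidueField P.O) (FunFld.hcolAt P Ht φ) J') :
    J' ⟨0, hn⟩ = 1 := by
  classical
  have hex : ∃ f ∈ Submodule.span k (Set.range φ), P.1 f = exp (-((1 : ℕ) : ℤ)) := by
    by_contra hno
    push Not at hno
    have hspan : ∀ f ∈ Submodule.span k (Set.range φ), f ∈ km2 P := by
      intro f hf
      have hfint : P.1 f ≤ 1 := by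
        obtain ⟨μ, rfl⟩ := (Submodule.mem_span_range_iff_exists_fun k).1 hf
        exact val_lincomb_le P φ hnorm μ
      refine ⟨cst P f, ?_⟩
      have h1 := cst_spec P hK hfint
      have h2 : f - algebraMap k K (cst P f) ∈ Submodule.span k (Set.range φ) :=
        Submodule.sub_mem _ hf (by
          rw [Algebra.algebraMap_eq_smul_one]
          exact Submodule.smul_mem _ _ heff)
      have h3 := hno _ h2
      have h4 := (zm0_lt_one_iff _).1 h1
      have h5 := lt_of_le_of_ne h4 h3
      have h6 := (zm0_lt_exp_iff _ _).1 h5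
      exact h6
    obtain ⟨j, hj0, hjmax, u, hu, w, hw, hw1, hzw⟩ :=
      hns t (by rw [ht, ← exp_zero, exp_le_exp]; norm_num)
    have hφmem : ∀ i, φ i ∈ km2 P := fun i => hspan _ (Submodule.subset_span ⟨i, rfl⟩)
    have hj1 : P.1 (φ j) = 1 := by
      refine le_antisymm (hnorm j) ?_
      by_contra hlt
      push Not at hlt
      obtain ⟨c, hc⟩ := (Submodule.mem_span_range_iff_exists_fun k).1 heff
      have h2 : P.1 (∑ i, c i • φ i) < 1 :=
        Valuation.map_sum_lt _ one_ne_zero
          (fun i _ => lt_of_le_of_lt (pl_val_smul_le P _ _) (lt_of_le_of_lt (hjmax i) hlt))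
      rw [hc, map_one] at h2
      exact lt_irrefl _ h2
    have hadj : Algebra.adjoin k (Set.range fun i => φ i / φ j) ≤ km2 P := by
      apply Algebra.adjoin_le
      rintro _ ⟨i, rfl⟩
      show φ i / φ j ∈ km2 P
      rw [div_eq_mul_inv]
      exact (km2 P).mul_mem (hφmem i) (km2_inv P (hφmem j) hj1)
    have hw0 : w ≠ 0 := by
      rintro rfl
      rw [map_zero] at hw1
      exact zero_ne_one hw1
    have htmem : t ∈ km2 P := by
      have : t = u * w⁻¹ := by
        rw [← hzw, mul_assoc, mul_inv_cancel₀ hw0, mul_one]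
      rw [this]
      exact (km2 P).mul_mem (hadj hu) (km2_inv P (hadj hw) hw1)
    obtain ⟨c, hc⟩ := htmem
    have hc0 : c = 0 := by
      by_contra hc0
      have h1 : P.1 (algebraMap k K c) = 1 := pl_val_const P hc0
      have h2 : P.1 (algebraMap k K c) ≤ max (P.1 (algebraMap k K c - t)) (P.1 t) := by
        have : algebraMap k K c = (algebraMap k K c - t) + t := by ring
        conv_lhs => rw [this]
        exact Valuation.map_add _ _ _
      rw [h1, Valuation.map_sub_swap, ht] at h2
      have h3 : max (P.1 (t - algebraMap k K c)) (exp (-1 : ℤ)) < 1 :=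
        max_lt (lt_of_le_of_lt hc (by rw [← exp_zero, exp_lt_exp]; norm_num))
          (by rw [← exp_zero, exp_lt_exp]; norm_num)
      exact lt_irrefl _ (lt_of_le_of_lt h2 h3)
    rw [hc0, map_zero, sub_zero, ht, exp_le_exp] at hc
    omega
  obtain ⟨f, hf, hfv⟩ := hex
  have hjump := (isJump_hcolAt_succ_iff hK P ht hHt φ hnorm 1).2 ⟨le_rfl, f, hf, hfv⟩
  obtain ⟨l₁, hl₁⟩ := (hJ'.2 1).2 hjump
  have hpos : 1 ≤ J' ⟨0, hn⟩ :=
    ((isJump_hcolAt_succ_iff hK P ht hHt φ hnorm (J' ⟨0, hn⟩)).1
      ((hJ'.2 (J' ⟨0, hn⟩)).1 ⟨_, rfl⟩)).1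
  have hle : J' ⟨0, hn⟩ ≤ J' l₁ := hJ'.1.monotone (Fin.mk_le_mk.2 (Nat.zero_le _))
  omega

end Groth.Agent.S12617
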