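import Groth.Statements.S12620

set_option autoImplicit false
universe u v w
open LocRes

namespace Groth.Agent.S12620

open HahnSeries in
/-- A nonzero Laurent series is `X^n` times a power series with nonzero constant term. -/
theorem exists_decomp {F : Type w} [Field F] (g : LaurentSeries F) (hg : g ≠ 0) :
    ∃ (n : ℤ) (u : PowerSeries F), PowerSeries.constantCoeff u ≠ 0 ∧
      g = HahnSeries.single n (1 : F) * (u : LaurentSeries F) := by
  refine ⟨g.order, g.powerSeriesPart, ?_, g.single_order_mul_powerSeriesPart.symm⟩
  rw [← PowerSeries.coeff_zero_eq_constantCoeff_apply, LaurentSeries.powerSeriesPart_coeff]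
  simpa using hg

/-- The logarithmic derivative of `X^n * u`. -/
theorem logDeriv_decomp {F : Type w} [Field F] (n : ℤ) (u : PowerSeries F)
    (hu : PowerSeries.constantCoeff u ≠ 0) :
    (HahnSeries.single n (1 : F) * (u : LaurentSeries F))⁻¹ *
        LocRes.D F (HahnSeries.single n (1 : F) * (u : LaurentSeries F)) =
      ((u⁻¹ * PowerSeries.derivative F u : PowerSeries F) : LaurentSeries F) +
        HahnSeries.single (-1) ((n : F)) := by
  have hs : HahnSeries.single n (1 : F) ≠ 0 := HahnSeries.single_ne_zero one_ne_zero
  have hu0 : (u : LaurentSeries F) ≠ 0 := by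
    intro h
    have : u = 0 := by
      apply HahnSeries.ofPowerSeries_injective (Γ := ℤ)
      rw [map_zero]; exact h
    rw [this] at hu
    simp at hu
  have hg : HahnSeries.single n (1 : F) * (u : LaurentSeries F) ≠ 0 := mul_ne_zero hs hu0
  rw [inv_mul_eq_iff_eq_mul₀ hg]
  rw [LocRes.D_apply, LocRes.derivative_single_mul, LocRes.derivative_coe]
  have huv : (u : LaurentSeries F) * ((u⁻¹ : PowerSeries F) : LaurentSeries F) = 1 := by
    rw [← PowerSeries.coe_mul, PowerSeries.mul_inv_cancel u hu, PowerSeries.coe_one]
  rw [PowerSeries.coe_mul, mul_add]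
  have e1 : HahnSeries.single n (1 : F) * (u : LaurentSeries F) *
      (((u⁻¹ : PowerSeries F) : LaurentSeries F) *
        ((PowerSeries.derivative F u : PowerSeries F) : LaurentSeries F)) =
      HahnSeries.single n (1 : F) *
        ((PowerSeries.derivative F u : PowerSeries F) : LaurentSeries F) := by
    rw [mul_assoc, ← mul_assoc (u : LaurentSeries F), huv, one_mul]
  have e2 : HahnSeries.single n (1 : F) * (u : LaurentSeries F) * HahnSeries.single (-1) (n : F) =
      HahnSeries.single (n - 1) (n • (1 : F)) * (u : LaurentSeries F) := by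
    rw [mul_comm (HahnSeries.single n (1 : F)) _, mul_assoc, HahnSeries.single_mul_single,
      mul_comm]
    congr 2
    simp
  rw [e1, e2]

/-- Valuation of `X^n * u` for a unit power series `u`. -/
theorem val_decomp {F : Type w} [Field F] (n : ℤ) (u : PowerSeries F)
    (hu : PowerSeries.constantCoeff u ≠ 0) :
    Valued.v (HahnSeries.single n (1 : F) * (u : LaurentSeries F)) = WithZero.exp (-n) := by
  rw [map_mul, LaurentSeries.valuation_single_zpow]
  have h1 : Valued.v (u : LaurentSeries F) ≤ (1 : WithZero (Multiplicative ℤ)) :=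
    (LaurentSeries.val_le_one_iff_eq_coe F _).2 ⟨u, rfl⟩
  have h2 : Valued.v ((u⁻¹ : PowerSeries F) : LaurentSeries F) ≤ (1 : WithZero (Multiplicative ℤ)) :=
    (LaurentSeries.val_le_one_iff_eq_coe F _).2 ⟨u⁻¹, rfl⟩
  have h3 : Valued.v (u : LaurentSeries F) * Valued.v ((u⁻¹ : PowerSeries F) : LaurentSeries F) = 1 := by
    rw [← map_mul, ← PowerSeries.coe_mul, PowerSeries.mul_inv_cancel u hu, PowerSeries.coe_one,
      map_one]
  have h4 : Valued.v (u : LaurentSeries F) = 1 := by
    apply le_antisymm h1
    by_contra hlt
    rw [not_le] at hlt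
    have : Valued.v (u : LaurentSeries F) * Valued.v ((u⁻¹ : PowerSeries F) : LaurentSeries F) < 1 := by
      calc Valued.v (u : LaurentSeries F) * Valued.v ((u⁻¹ : PowerSeries F) : LaurentSeries F)
          ≤ Valued.v (u : LaurentSeries F) * 1 := by gcongr
        _ < 1 := by rw [mul_one]; exact hlt
    rw [h3] at this
    exact lt_irrefl _ this
  rw [h4, mul_one]

/-- Let `K` be a field with a valuation `w` into `ℤ ∪ {0}` and `φ : K → F((X))` a `k`-algebra expansion
at `w` in a local parameter (valuation-compatible, valuation ring onto the coefficient field `F`,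
`w` normalised). Then for every nonzero `f` the residue of the logarithmic differential `f⁻¹ df`
read through `φ` — the `X⁻¹`-coefficient of `φ(f)⁻¹ · (φ f)′` — is the order of `f` at `w` (the
integer `n` with `w f = exp (-n)`), viewed in `F`. (The published statement is for a complete field
with a perfect coefficient field and its intrinsic residue; read through an expansion neither
completeness nor perfectness plays a role.) -/
theorem result {k : Type u} {K : Type v} {F : Type w} [CommRing k] [Field K] [Field F]
    [Algebra k K] [Algebra k F]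
    (w : Valuation K (WithZero (Multiplicative ℤ))) (φ : K →ₐ[k] LaurentSeries F)
    (hφ : LocRes.IsExpansionAt w φ) (f : K) (hf : f ≠ 0) :
    LocRes.resExp φ f⁻¹ f = ((-WithZero.log (w f) : ℤ) : F) := by
  have hg : φ f ≠ 0 := by
    rw [Ne, map_eq_zero]; exact hf
  obtain ⟨n, u, hu, hdec⟩ := exists_decomp (φ f) hg
  have hw : w f = WithZero.exp (-n) := by
    rw [← hφ.1 f, hdec, val_decomp n u hu]
  unfold LocRes.resExp
  rw [map_inv₀, hdec, logDeriv_decomp n u hu, hw, WithZero.log_exp, neg_neg, map_add,
    LocRes.res_apply, LocRes.res_apply, PowerSeries.coeff_coe]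
  simp

end Groth.Agent.S12620
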