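import Groth.Statements.S12621
import Mathlib

set_option autoImplicit false
universe u v w
open LocRes

namespace Groth.Agent.S12621

section aux

lemma coeff_X_mul_derivative {S : Type*} [CommRing S] (f : PowerSeries S) (N : ℕ) :
    PowerSeries.coeff N (PowerSeries.X * PowerSeries.derivative S f)
      = (N : S) * PowerSeries.coeff N f := by
  cases N with
  | zero => simp
  | succ k =>
    rw [PowerSeries.coeff_succ_X_mul, PowerSeries.coeff_derivative]
    push_cast; ring

lemma univ_torsionFree {S : Type*} [CommRing S]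
    (hS : ∀ (k : ℕ) (s : S), k ≠ 0 → (k : S) * s = 0 → s = 0)
    (w : PowerSeries S) (n' m : ℕ) :
    PowerSeries.coeff (m * (n' + 1)) (PowerSeries.X * (w ^ n' * PowerSeries.derivative S w))
      = (m : S) * PowerSeries.coeff (m * (n' + 1)) (w ^ (n' + 1)) := by
  have h1 := coeff_X_mul_derivative (w ^ (n' + 1)) (m * (n' + 1))
  rw [PowerSeries.derivative_pow, Nat.add_sub_cancel] at h1
  have h2 : PowerSeries.X * (((n' + 1 : ℕ) : PowerSeries S) * w ^ n' * PowerSeries.derivative S w)
      = PowerSeries.C ((n' + 1 : ℕ) : S) *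
          (PowerSeries.X * (w ^ n' * PowerSeries.derivative S w)) := by
    rw [map_natCast]; ring
  rw [h2, PowerSeries.coeff_C_mul] at h1
  apply sub_eq_zero.mp
  apply hS (n' + 1) _ (Nat.succ_ne_zero n')
  rw [mul_sub, h1]
  push_cast; ring

lemma exists_univ {S : Type*} [CommRing S] (w : PowerSeries S) :
    ∃ (ψ : MvPolynomial ℕ ℤ →+* S) (W : PowerSeries (MvPolynomial ℕ ℤ)),
      PowerSeries.map ψ W = w := by
  refine ⟨MvPolynomial.eval₂Hom (Int.castRingHom S) (fun i => PowerSeries.coeff i w),
    PowerSeries.mk (fun i => MvPolynomial.X i), ?_⟩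
  ext i
  rw [PowerSeries.coeff_map, PowerSeries.coeff_mk]
  exact MvPolynomial.eval₂Hom_X' _ _ i

lemma univ_general {S : Type*} [CommRing S] (w : PowerSeries S) (n' m : ℕ) :
    PowerSeries.coeff (m * (n' + 1)) (PowerSeries.X * (w ^ n' * PowerSeries.derivative S w))
      = (m : S) * PowerSeries.coeff (m * (n' + 1)) (w ^ (n' + 1)) := by
  obtain ⟨ψ, W, hW⟩ := exists_univ w
  have hd : ∀ f : PowerSeries (MvPolynomial ℕ ℤ),
      PowerSeries.map ψ (PowerSeries.derivative (MvPolynomial ℕ ℤ) f)
        = PowerSeries.derivative S (PowerSeries.map ψ f) := by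
    intro f; ext i
    rw [PowerSeries.coeff_map, PowerSeries.coeff_derivative, PowerSeries.coeff_derivative,
      PowerSeries.coeff_map, map_mul, map_add, map_natCast, map_one]
  have hT : ∀ (k : ℕ) (s : MvPolynomial ℕ ℤ), k ≠ 0 → (k : MvPolynomial ℕ ℤ) * s = 0 → s = 0 := by
    intro k s hk h
    rcases mul_eq_zero.mp h with h0 | h0
    · exact absurd (Nat.cast_eq_zero.mp h0) hk
    · exact h0
  have h := univ_torsionFree hT W n' m
  have e1 : PowerSeries.map ψ
      (PowerSeries.X * (W ^ n' * PowerSeries.derivative (MvPolynomial ℕ ℤ) W))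
      = PowerSeries.X * (w ^ n' * PowerSeries.derivative S w) := by
    rw [map_mul, map_mul, map_pow, PowerSeries.map_X, hd, hW]
  have e2 : PowerSeries.map ψ (W ^ (n' + 1)) = w ^ (n' + 1) := by rw [map_pow, hW]
  rw [← e1, ← e2, PowerSeries.coeff_map, PowerSeries.coeff_map, h, map_mul, map_natCast]

lemma coe_coeff_sub_one {F : Type*} [CommRing F] (P : PowerSeries F) (N : ℕ) :
    ((P : LaurentSeries F)).coeff ((N : ℤ) - 1) = PowerSeries.coeff N (PowerSeries.X * P) := by
  rw [← LaurentSeries.coeff_coe_powerSeries, PowerSeries.coe_mul, PowerSeries.coe_X,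
    HahnSeries.coeff_single_mul, one_mul]

lemma L1 (F : Type*) [CommRing F] (g : LaurentSeries F) (n' : ℕ) :
    (g ^ n' * LaurentSeries.derivative F g).coeff (-1) = 0 := by
  obtain ⟨v, w, rfl⟩ : ∃ (v : ℤ) (w : PowerSeries F),
      g = HahnSeries.single v (1 : F) * (w : LaurentSeries F) :=
    ⟨_, _, (LaurentSeries.single_order_mul_powerSeriesPart g).symm⟩
  rw [LocRes.derivative_single_mul, LocRes.derivative_coe, mul_pow, HahnSeries.single_pow, one_pow,
    ← PowerSeries.coe_pow]
  have e : HahnSeries.single (n' • v) (1 : F) * ((w ^ n' : PowerSeries F) : LaurentSeries F) *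
      (HahnSeries.single v 1 * ((PowerSeries.derivative F w : PowerSeries F) : LaurentSeries F) +
        HahnSeries.single (v - 1) (v • (1 : F)) * (w : LaurentSeries F))
      = HahnSeries.single (n' • v + v) (1 * 1 : F) *
          ((w ^ n' * PowerSeries.derivative F w : PowerSeries F) : LaurentSeries F)
        + HahnSeries.single (n' • v + (v - 1)) (1 * (v • (1 : F))) *
          ((w ^ n' * w : PowerSeries F) : LaurentSeries F) := by
    rw [← HahnSeries.single_mul_single, ← HahnSeries.single_mul_single, PowerSeries.coe_mul,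
      PowerSeries.coe_mul]
    ring
  rw [e, HahnSeries.coeff_add, HahnSeries.coeff_single_mul, HahnSeries.coeff_single_mul]
  simp only [nsmul_eq_mul]
  rcases lt_or_ge 0 v with hv | hv
  · have h0 : 0 ≤ (n' : ℤ) * v := mul_nonneg (Int.natCast_nonneg _) hv.le
    have i1 : (-1 - ((n' : ℤ) * v + v) : ℤ) < 0 := by omega
    have i2 : (-1 - ((n' : ℤ) * v + (v - 1)) : ℤ) < 0 := by omega
    rw [PowerSeries.coeff_coe, if_pos i1, PowerSeries.coeff_coe, if_pos i2, mul_zero, mul_zero,
      add_zero]
  · obtain ⟨m, rfl⟩ := Int.exists_eq_neg_ofNat hv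
    have i1 : (-1 - ((n' : ℤ) * (-(m : ℤ)) + (-(m : ℤ))) : ℤ) = ((m * (n' + 1) : ℕ) : ℤ) - 1 := by
      push_cast; ring
    have i2 : (-1 - ((n' : ℤ) * (-(m : ℤ)) + (-(m : ℤ) - 1)) : ℤ) = ((m * (n' + 1) : ℕ) : ℤ) := by
      push_cast; ring
    rw [i1, i2, coe_coeff_sub_one, LaurentSeries.coeff_coe_powerSeries, univ_general, ← pow_succ,
      zsmul_eq_mul]
    push_cast; ring

lemma key {F : Type*} [Field F] (g : LaurentSeries F) (n : ℤ) (hn : n ≠ 0) :
    (g ^ (n - 1) * LaurentSeries.derivative F g).coeff (-1) = 0 := by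
  rcases lt_or_gt_of_ne hn with hneg | hpos
  · obtain ⟨n', hn'⟩ : ∃ n' : ℕ, n - 1 = -((n' + 2 : ℕ) : ℤ) := ⟨(-n - 1).toNat, by omega⟩
    have hD : LaurentSeries.derivative F g⁻¹ = -g⁻¹ ^ 2 * LaurentSeries.derivative F g := by
      have h := (LocRes.D F).leibniz_inv g
      rw [LocRes.D_apply, LocRes.D_apply, smul_eq_mul] at h
      exact h
    have h1 := L1 F g⁻¹ n'
    rw [hD] at h1
    have hz : g ^ (n - 1) = g⁻¹ ^ n' * g⁻¹ ^ 2 := by
      rw [hn', zpow_neg, zpow_natCast, ← inv_pow, pow_add]
    have e : g ^ (n - 1) * LaurentSeries.derivative F g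
        = -(g⁻¹ ^ n' * (-g⁻¹ ^ 2 * LaurentSeries.derivative F g)) := by
      rw [hz]; ring
    rw [e, HahnSeries.coeff_neg, h1, neg_zero]
  · obtain ⟨n', hn'⟩ : ∃ n' : ℕ, n = (n' : ℤ) + 1 := ⟨(n - 1).toNat, by omega⟩
    rw [hn', add_sub_cancel_right, zpow_natCast]
    exact L1 F g n'

end aux


/-- For a `k`-algebra homomorphism `φ : K → F((X))` from a field into formal Laurent series over a
field, an element `f` of `K` and a nonzero integer `n`, the residue of `f^(n-1) df` read through `φ`
— the `X⁻¹`-coefficient of `φ(f)^(n-1) · (φ f)′` — vanishes, in every characteristic (also when the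
characteristic divides `n`). (The published statement is for the intrinsic residue of a complete
field with a perfect coefficient field; read through an expansion it is this identity of Laurent
series, and no property of `φ` is needed.) -/
theorem result {k : Type u} {K : Type v} {F : Type w} [CommRing k] [Field K] [Field F]
    [Algebra k K] [Algebra k F]
    (φ : K →ₐ[k] LaurentSeries F) (f : K) (n : ℤ) (hn : n ≠ 0) :
    LocRes.resExp φ (f ^ (n - 1)) f = 0 := by
  unfold LocRes.resExp
  rw [LocRes.res_apply, LocRes.D_apply, map_zpow₀]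
  exact key (φ f) n hn

end Groth.Agent.S12621
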