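import Groth.Statements.S12628
import Groth.Agent.H27.Tate.GenCan2

set_option autoImplicit false
universe u v w
open FunFld

namespace Groth.Agent.S12628

/-- Let `K/k` be a geometric function field of one variable all of whose places carry a Laurent
expansion over `k` in a local parameter (valuation-compatible, valuation ring onto a
finite-dimensional coefficient field, normalised — so every place is separable), and let `v ∈ K`
have `dv ≠ 0`. Then every Weil differential — a `k`-linear form on the repartition space vanishing
on some `A(D) + K` — is of the form `a ↦ ∑_P Res_P(a_P · u dv)` for exactly one `u ∈ K`, the local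
residue being the trace to `k` of the `X⁻¹`-coefficient read through the expansion; i.e. the residue
pairing maps the Kähler differentials ONTO the Weil differentials. (The published statement is over
an algebraically closed field, where every place is rational; this row is the form for any constant
field under the stated separability of all places.) -/
theorem result (k : Type u) (K : Type v) [Field k] [Field K] [Algebra k K]
    (hK : FunFld.IsFunctionField k K) (hg : FunFld.IsGeometric k K)
    (F : FunFld.Place k K → Type w) [∀ P, Field (F P)] [∀ P, Algebra k (F P)] [∀ P, FiniteDimensional k (F P)]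
    (φ : ∀ P, K →ₐ[k] LaurentSeries (F P)) (hφ : ∀ P, LocRes.IsExpansionAt P.1 (φ P))
    (v : K) (hv : KaehlerDifferential.D k K v ≠ 0)
    (ω : Module.Dual k (FunFld.adele k K)) (hω : FunFld.IsWeil ω) :
    ∃! u : K, ∀ a : FunFld.adele k K,
      (Function.support fun P => LocRes.locRes (φ P) ((a : FunFld.Place k K → K) P * u) v).Finite ∧
        ω a = ∑ᶠ P, LocRes.locRes (φ P) ((a : FunFld.Place k K → K) P * u) v := by
  classical
  obtain ⟨hne, hweil, C, hCo, hC⟩ := Groth.Agent.H27.GenCan.main hK hg φ hφ one_ne_zero hv
  have hlin : ∀ (P : FunFld.Place k K) (z : K),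
      LocRes.locRes (φ P) z v = Groth.Agent.H27.GenCan.resLF φ 1 v P z := fun P z => by
    rw [Groth.Agent.H27.GenCan.resLF_apply, mul_one]
  have hfinS : ∀ (u : K) (a : FunFld.adele k K),
      (Function.support fun P => LocRes.locRes (φ P) ((a : FunFld.Place k K → K) P * u) v).Finite := by
    intro u a
    have := Groth.Agent.H27.GenCan.finite_support_resLF hK φ hφ u v a
    simp only [Groth.Agent.H27.GenCan.resLF_apply] at this
    exact this
  obtain ⟨x, hx⟩ := Groth.Agent.H55.exists_mulWL_eq hK _ ω hweil hne hω
  refine ⟨x, fun a => ⟨hfinS x a, ?_⟩, ?_⟩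
  · rw [← hx, Groth.Agent.H55.mulWL_apply hK _ x (Groth.Agent.H55.smul_mem_adele hK x),
      Groth.Agent.H55.mulW_apply, Groth.Agent.H27.GenCan.omegaF_apply]
    refine finsum_congr fun P => ?_
    rw [Groth.Agent.H27.GenCan.resLF_apply]
    show LocRes.locRes (φ P) (x * (a : FunFld.Place k K → K) P * 1) v = _
    rw [mul_one, mul_comm]
  · intro u' hu'
    by_contra hne'
    have hd : u' - x ≠ 0 := sub_ne_zero.2 hne'
    obtain ⟨hne2, -, -⟩ := Groth.Agent.H27.GenCan.main hK hg φ hφ hd hv
    apply hne2
    ext a
    rw [Groth.Agent.H27.GenCan.omegaF_apply, LinearMap.zero_apply]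
    have e : ∀ P : FunFld.Place k K,
        Groth.Agent.H27.GenCan.resLF φ (u' - x) v P ((a : FunFld.Place k K → K) P) =
          LocRes.locRes (φ P) ((a : FunFld.Place k K → K) P * u') v -
            LocRes.locRes (φ P) ((a : FunFld.Place k K → K) P * x) v := fun P => by
      rw [Groth.Agent.H27.GenCan.resLF_apply, hlin, hlin, hlin, mul_sub, map_sub]
    rw [finsum_congr e, finsum_sub_distrib (hfinS u' a) (hfinS x a), ← (hu' a).2,
      ← hx, Groth.Agent.H55.mulWL_apply hK _ x (Groth.Agent.H55.smul_mem_adele hK x),
      Groth.Agent.H55.mulW_apply, Groth.Agent.H27.GenCan.omegaF_apply, sub_eq_zero]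
    refine finsum_congr fun P => ?_
    rw [Groth.Agent.H27.GenCan.resLF_apply]
    show LocRes.locRes (φ P) (x * (a : FunFld.Place k K → K) P * 1) v = _
    rw [mul_one, mul_comm]

end Groth.Agent.S12628
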