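import Groth.Statements.S12631
import Groth.Agent.H27.Tate.GenCan2

set_option autoImplicit false
universe u v w
open FunFld

namespace Groth.Agent.S12631

/-- Let `K/k` be a geometric function field of one variable of genus one all of whose places carry a
Laurent expansion over `k` in a local parameter (so every place is separable), and `v ∈ K` with `dv
≠ 0`. Then there is a nonzero `u ∈ K` whose differential `u dv` has divisor zero — the order of
`φ_P(u) · (φ_P v)′` is `0` at every place `P` — and such a `u` is unique up to a factor from `k`.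
(The published statement concerns elliptic curves over algebraically closed fields; this row is the
form for any constant field under the stated separability of all places.) -/
theorem result (k : Type u) (K : Type v) [Field k] [Field K] [Algebra k K]
    (hK : FunFld.IsFunctionField k K) (hg : FunFld.IsGeometric k K) (h1 : FunFld.genus k K = 1)
    (F : FunFld.Place k K → Type w) [∀ P, Field (F P)] [∀ P, Algebra k (F P)] [∀ P, FiniteDimensional k (F P)]
    (φ : ∀ P, K →ₐ[k] LaurentSeries (F P)) (hφ : ∀ P, LocRes.IsExpansionAt P.1 (φ P))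
    (v : K) (hv : KaehlerDifferential.D k K v ≠ 0) :
    (∃ u : K, u ≠ 0 ∧ ∀ P, LocRes.vDiff (φ P) u v = 1) ∧
      ∀ u u' : K, u ≠ 0 → (∀ P, LocRes.vDiff (φ P) u v = 1) → (∀ P, LocRes.vDiff (φ P) u' v = 1) →
        ∃ c : k, u' = c • u := by
  obtain ⟨hne, hweil, C, hCo, hC⟩ := Groth.Agent.H27.GenCan.main hK hg φ hφ one_ne_zero hv
  obtain ⟨hell, hdeg⟩ := Groth.Agent.H55.ell_canonical hK ⟨_, hne, hC⟩
  rw [h1] at hell hdeg
  have hmemL : ∀ u : K, (∀ P, LocRes.vDiff (φ P) u v = 1) → u ∈ FunFld.L C := by
    intro u hu P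
    rw [(Groth.Agent.H27.GenCan.vDiff_eq_one_iff hK hg φ hφ hv P u).1 (hu P), hCo P]
  have hfrL : Module.finrank k (FunFld.L C) = 1 := hell
  constructor
  · obtain ⟨z, hz0, hz⟩ := Groth.Agent.H55.exists_ne_zero_of_ell_pos C (by rw [hell]; exact one_pos)
    have h5 := Groth.Agent.H55.nonneg_of_mem_L hK _ hz0 hz
    have h6 : C + FunFld.div k z = 0 := by
      apply Groth.Agent.H55.eq_zero_of_nonneg_of_deg_eq_zero hK h5
      rw [Groth.Agent.H55.deg_add, Groth.Agent.H55.deg_div hK, hdeg]
      norm_num
    refine ⟨z, hz0, fun P => ?_⟩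
    rw [Groth.Agent.H27.GenCan.vDiff_eq_one_iff hK hg φ hφ hv P z,
      Groth.Agent.H55.pl_val_eq_exp_neg_ord P hz0, ← hCo P]
    congr 1
    have := DFunLike.congr_fun h6 P
    rw [Finsupp.add_apply, Groth.Agent.H55.div_apply hK, Finsupp.coe_zero, Pi.zero_apply] at this
    omega
  · intro u u' hu0 hu hu'
    have h2 : (⟨u, hmemL u hu⟩ : FunFld.L C) ≠ 0 := fun h => hu0 (congrArg Subtype.val h)
    obtain ⟨c, hc⟩ := (finrank_eq_one_iff_of_nonzero' _ h2).1 hfrL ⟨u', hmemL u' hu'⟩
    exact ⟨c, (congrArg Subtype.val hc).symm⟩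

end Groth.Agent.S12631
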