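import Groth.Statements.S1265
import Groth.Agent.S0398
import Groth.Agent.H57.SepCrit
import Mathlib.RingTheory.IsTensorProduct

set_option autoImplicit false
universe u
open FlatMor

namespace Groth.Agent.S1265

open TensorProduct

/-- Over an Artinian ring, everything is flat modulo the nilradical. -/
theorem flat_mod_nilradical {A : Type u} [CommRing A] [IsArtinianRing A] (N : Type u)
    [AddCommGroup N] [Module A N] :
    Module.Flat (A ⧸ nilradical A) ((A ⧸ nilradical A) ⊗[A] N) := by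
  haveI : IsReduced (A ⧸ nilradical A) :=
    (Ideal.isRadical_iff_quotient_reduced _).mp (Ideal.radical_isRadical ⊥)
  haveI : IsSemisimpleRing (A ⧸ nilradical A) :=
    IsArtinianRing.isSemisimpleRing_of_isReduced _
  haveI : Module.Projective (A ⧸ nilradical A) ((A ⧸ nilradical A) ⊗[A] N) :=
    Module.projective_of_isSemisimpleRing _ _
  infer_instance

/-- The set of ideals modulo which `N` becomes flat is closed under intersection. -/
theorem flat_inf {A : Type u} [CommRing A] [IsArtinianRing A] (N : Type u) [AddCommGroup N]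
    [Module A N] (I₁ I₂ : Ideal A) (h₁ : Module.Flat (A ⧸ I₁) ((A ⧸ I₁) ⊗[A] N))
    (h₂ : Module.Flat (A ⧸ I₂) ((A ⧸ I₂) ⊗[A] N)) :
    Module.Flat (A ⧸ (I₁ ⊓ I₂)) ((A ⧸ (I₁ ⊓ I₂)) ⊗[A] N) := by
  haveI := flat_mod_nilradical (A := A) N
  obtain ⟨n, hn⟩ := IsArtinianRing.isNilpotent_nilradical (R := A)
  let f : ULift.{u} Bool → Ideal A := fun b => cond b.down I₁ I₂
  haveI : ∀ b, Module.Flat (A ⧸ f b) ((A ⧸ f b) ⊗[A] N) := by
    rintro ⟨b⟩
    cases b
    · exact h₂
    · exact h₁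
  refine H57.flat_quotient_of_family (nilradical A) N (I₁ ⊓ I₂) n ?_ (fun b => A ⧸ f b)
    (fun b => ⊥) ?_ ?_
  · rw [hn, Ideal.zero_eq_bot]; exact bot_le
  · intro b a ha
    rw [Ideal.mem_comap, Ideal.mem_bot, Ideal.Quotient.algebraMap_eq,
      Ideal.Quotient.eq_zero_iff_mem]
    rcases b with ⟨b⟩
    cases b
    · exact ha.2
    · exact ha.1
  · intro a h
    refine ⟨?_, ?_⟩
    · have h1 := h ⟨true⟩
      rw [Ideal.mem_bot, Ideal.Quotient.algebraMap_eq, Ideal.Quotient.eq_zero_iff_mem] at h1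
      exact h1
    · have h1 := h ⟨false⟩
      rw [Ideal.mem_bot, Ideal.Quotient.algebraMap_eq, Ideal.Quotient.eq_zero_iff_mem] at h1
      exact h1

/-- The flattening ideal of a module over an Artinian ring. -/
theorem exists_ideal {A : Type u} [CommRing A] [IsArtinianRing A] (N : Type u) [AddCommGroup N]
    [Module A N] :
    ∃ I : Ideal A, ∀ (A' : Type u) [CommRing A'] [Algebra A A'],
      Module.Flat A' (A' ⊗[A] N) ↔ I.map (algebraMap A A') = ⊥ := by
  let 𝓕 : Set (Ideal A) := {I | Module.Flat (A ⧸ I) ((A ⧸ I) ⊗[A] N)}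
  have htop : (⊤ : Ideal A) ∈ 𝓕 := by
    show Module.Flat (A ⧸ (⊤ : Ideal A)) ((A ⧸ (⊤ : Ideal A)) ⊗[A] N)
    haveI : Subsingleton (A ⧸ (⊤ : Ideal A)) := Ideal.Quotient.subsingleton_iff.mpr rfl
    haveI : Subsingleton ((A ⧸ (⊤ : Ideal A)) ⊗[A] N) :=
      Module.subsingleton (A ⧸ (⊤ : Ideal A)) _
    infer_instance
  obtain ⟨I, hI, hmin⟩ := IsArtinian.set_has_minimal 𝓕 ⟨⊤, htop⟩
  have hleast : ∀ I' ∈ 𝓕, I ≤ I' := by
    intro I' hI'
    have h1 : I ⊓ I' ∈ 𝓕 := flat_inf N I I' hI hI'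
    have h2 := hmin _ h1
    by_contra hne
    apply h2
    refine lt_of_le_of_ne inf_le_left ?_
    intro heq
    apply hne
    rw [← heq]
    exact inf_le_right
  refine ⟨I, ?_⟩
  intro A' _ _
  constructor
  · intro hflat
    rw [Ideal.map_eq_bot_iff_le_ker]
    apply hleast
    show Module.Flat (A ⧸ RingHom.ker (algebraMap A A'))
      ((A ⧸ RingHom.ker (algebraMap A A')) ⊗[A] N)
    letI : Algebra (A ⧸ RingHom.ker (algebraMap A A')) A' :=
      (RingHom.kerLift (algebraMap A A')).toAlgebra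
    haveI : IsScalarTower A (A ⧸ RingHom.ker (algebraMap A A')) A' :=
      IsScalarTower.of_algebraMap_eq (fun x => rfl)
    haveI : Module.Flat A' (A' ⊗[A ⧸ RingHom.ker (algebraMap A A')]
        ((A ⧸ RingHom.ker (algebraMap A A')) ⊗[A] N)) :=
      (H57.flat_tensor_of_tower A (A ⧸ RingHom.ker (algebraMap A A')) A' N).mpr hflat
    exact Groth.Agent.S0398.result (R := A ⧸ RingHom.ker (algebraMap A A')) (S := A')
      (M := (A ⧸ RingHom.ker (algebraMap A A')) ⊗[A] N) (RingHom.kerLift_injective _)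
  · intro hmap
    rw [Ideal.map_eq_bot_iff_le_ker] at hmap
    letI : Algebra (A ⧸ I) A' :=
      (Ideal.Quotient.lift I (algebraMap A A') (fun a ha => hmap ha)).toAlgebra
    haveI : IsScalarTower A (A ⧸ I) A' := IsScalarTower.of_algebraMap_eq (fun x => rfl)
    haveI : Module.Flat (A ⧸ I) ((A ⧸ I) ⊗[A] N) := hI
    exact (H57.flat_tensor_of_tower A (A ⧸ I) A' N).mp inferInstance

/-- Ring form, stated for X = Spec B affine: let A be an Artinian ring, B an A-algebra and N a B-module.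
Then there is an ideal I of A such that for every A-algebra A', with B' = B ⊗_A A' and N' the base
change of N (any models), N' is flat over A' if and only if IA' = 0. -/
theorem result {A B : Type u} [CommRing A] [IsArtinianRing A] [CommRing B] [Algebra A B]
    (N : Type u) [AddCommGroup N] [Module B N] [Module A N] [IsScalarTower A B N] :
    ∃ I : Ideal A, ∀ (A' B' N' : Type u) [CommRing A'] [CommRing B'] [Algebra A A'] [Algebra B B'] [Algebra A' B'] [Algebra A B']
      [IsScalarTower A B B'] [IsScalarTower A A' B'] [Algebra.IsPushout A B A' B']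
      [AddCommGroup N'] [Module B' N'] [Module B N'] [IsScalarTower B B' N'] [Module A' N'] [IsScalarTower A' B' N']
      (f : N →ₗ[B] N'), IsBaseChange B' f →
      (Module.Flat A' N' ↔ I.map (algebraMap A A') = ⊥) := by
  obtain ⟨I, hI⟩ := exists_ideal (A := A) N
  refine ⟨I, ?_⟩
  intro A' B' N' _ _ _ _ _ _ _ _ _ _ _ _ _ _ _ f hf
  rw [← hI A']
  haveI : Algebra.IsPushout A A' B B' := Algebra.IsPushout.symm inferInstance
  let e1 : B' ⊗[B] N ≃ₗ[A'] A' ⊗[A] N := Algebra.IsPushout.cancelBaseChange A A' B B' N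
  let e2 : B' ⊗[B] N ≃ₗ[A'] N' := hf.equiv.restrictScalars A'
  exact ⟨fun _ => Module.Flat.of_linearEquiv (e1.symm ≪≫ₗ e2),
    fun _ => Module.Flat.of_linearEquiv (e2.symm ≪≫ₗ e1)⟩

end Groth.Agent.S1265
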