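import Groth.Statements.S12692
import Groth.Agent.S12146

set_option autoImplicit false
universe u
open CategoryTheory CategoryTheory.Limits AlgebraicGeometry TopologicalSpace Opposite
open scoped HomogeneousIdeal
noncomputable section
open Coh

namespace Groth.Agent.S12692

/-- Let X be a quasi-compact scheme, L an invertible O_X-module with graded symmetric algebra 𝒮L =
⊕_{d≥0} L^{⊗d} (whose relative Proj PL, given with its charts, is identified with X by its structure
morphism), f : X → Y a quasi-compact morphism to an AFFINE scheme Y, 𝒜 a quasi-coherent graded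
O_Y-algebra given with a graded f-morphism u : 𝒜 → f_*𝒮L which is bijective on global sections — so
that Γ(Y, 𝒜) is the graded ring S = ⊕_d Γ(X, L^{⊗d}) and P = Proj(𝒜) (given with its charts) is
Proj(S) — and r : G(u) → P the canonical morphism on its open of definition G(u) ⊆ PL. If G(u) is
all of PL (that is, every point of X lies in an open X_s for some homogeneous s ∈ S_+), then r is
quasi-compact and has dense image. (The published statement forms the homogeneous spectrum of the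
graded ring S itself, with no base scheme; any affine Y under X gives the same graded ring, the same
homogeneous spectrum and the same morphism.) -/
theorem result {X Y P PL : Scheme.{u}} [CompactSpace X]
    (f : X ⟶ Y) [QuasiCompact f] (hY : IsAffineOpen (⊤ : Y.Opens))
    (L : X.Modules) (hL : PicF.IsInvertible L) (hLq : Coh.IsQCoh L)
    (𝒮L : RelProj.QCGrAlg X) (jL : L ⟶ 𝒮L.toModule) (hjL : RelProj.IsGrSymAlg L 𝒮L jL)
    (pL : PL ⟶ X) (chartL : ∀ (U : X.Opens) (hU : IsAffineOpen U), (((pL ⁻¹ᵁ U : PL.Opens) : Scheme.{u}) ≅ Proj (𝒮L.deg U hU)))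
    (hPL : RelProj.IsRelProj 𝒮L pL chartL)
    (𝒜 : RelProj.QCGrAlg Y) (u : RelProj.QGrHom f 𝒜 𝒮L)
    (p : P ⟶ Y) (chart : ∀ (U : Y.Opens) (hU : IsAffineOpen U), (((p ⁻¹ᵁ U : P.Opens) : Scheme.{u}) ≅ Proj (𝒜.deg U hU)))
    (hP : RelProj.IsRelProj 𝒜 p chart)
    (r : ((RelProj.domQ u pL chartL : PL.Opens) : Scheme.{u}) ⟶ P)
    (hr : RelProj.IsProjQMapOn u p chart pL chartL (RelProj.domQ u pL chartL) r)
    (hu : Function.Bijective (u.app ⊤).hom)
    (htop : RelProj.domQ u pL chartL = ⊤) :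
    QuasiCompact r ∧ IsDominant r := by
  have htopq : ∀ V : X.Opens, V ≤ f ⁻¹ᵁ ⊤ :=
    fun V => le_top.trans (Scheme.Hom.preimage_top f).ge
  refine ⟨?_, ?_⟩
  · -- quasi-compactness
    have hr' := (Groth.Agent.H41.ProjQ.isProjQMapOn_iff u p chart pL chartL r).mp hr
    let T := {t : ℕ × 𝒜.presheaf.obj (op (⊤ : Y.Opens)) // 0 < t.1 ∧ t.2 ∈ 𝒜.deg ⊤ hY t.1}
    let Uc : T → P.affineOpens := fun t =>
      ⟨(RelProj.emb p chart ⊤ hY) ''ᵁ Proj.basicOpen (𝒜.deg ⊤ hY) t.1.2,
        (Proj.isAffineOpen_basicOpen (𝒜.deg ⊤ hY) t.1.2 t.2.2 t.2.1).image_of_isOpenImmersion _⟩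
    have hcov : ⨆ t, ((Uc t : P.affineOpens) : P.Opens) = ⊤ := by
      rw [eq_top_iff]
      intro x _
      obtain ⟨q, rfl⟩ := Groth.Agent.H41.ProjConeLib.exists_emb_eq p chart ⊤ hY x
        (show p.base x ∈ (⊤ : Y.Opens) from trivial)
      obtain ⟨i, hi, s, hs, hsq⟩ := Groth.Agent.H41.ProjQ.exists_pos_homogeneous_not_mem q
      exact Opens.mem_iSup.mpr ⟨⟨(i, s), hi, hs⟩, q, hsq, rfl⟩
    refine HasAffineProperty.of_iSup_eq_top (P := @QuasiCompact) Uc hcov fun t => ?_
    obtain ⟨⟨n, s⟩, hn, hs⟩ := t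
    refine isCompact_iff_compactSpace.mp ?_
    obtain ⟨τ, hτ⟩ := isCompact_univ.elim_finite_subcover
      (fun V : X.affineOpens => ((V : X.Opens) : Set X))
      (fun V => (V : X.Opens).isOpen) (fun x _ => by
        obtain ⟨V, hV0, hxV, -⟩ :=
          Opens.isBasis_iff_nbhd.mp X.isBasis_affineOpens (Opens.mem_top x)
        exact Set.mem_iUnion.mpr ⟨⟨V, hV0⟩, hxV⟩)
    let cV : X.affineOpens → Groth.Agent.H41.ProjQ.Ch f 𝒜 := fun V =>
      ⟨⊤, hY, V.1, V.2, htopq V.1, n, hn, s, hs⟩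
    have hset : ((r ⁻¹ᵁ ((RelProj.emb p chart ⊤ hY) ''ᵁ Proj.basicOpen (𝒜.deg ⊤ hY) s) :
        ((RelProj.domQ u pL chartL : PL.Opens) : Scheme.{u}).Opens) :
          Set ((RelProj.domQ u pL chartL : PL.Opens) : Scheme.{u})) =
        ⋃ V ∈ τ, Set.range (Groth.Agent.H41.ProjQ.lift u pL chartL (cV V)).base := by
      ext y
      constructor
      · intro hy
        have h0 := hτ (Set.mem_univ (pL.base ((RelProj.domQ u pL chartL).ι.base y)))
        obtain ⟨V, hV⟩ := Set.mem_iUnion.mp h0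
        obtain ⟨hVτ, hyV⟩ := Set.mem_iUnion.mp hV
        have hmem := Groth.Agent.H41.ProjQ.mem_opensRange_lift_of_mem u p chart pL chartL hP hPL
          r hr' (cV V) y hy hyV
        exact Set.mem_iUnion.mpr ⟨V, Set.mem_iUnion.mpr ⟨hVτ, hmem⟩⟩
      · intro hy
        obtain ⟨V, hV⟩ := Set.mem_iUnion.mp hy
        obtain ⟨hVτ, w, rfl⟩ := Set.mem_iUnion.mp hV
        have h1 : r.base ((Groth.Agent.H41.ProjQ.lift u pL chartL (cV V)).base w) =
            (Groth.Agent.H41.ProjQ.R u p chart (cV V)).base w :=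
          congrArg (fun k => k.base w) (hr' (cV V))
        show r.base ((Groth.Agent.H41.ProjQ.lift u pL chartL (cV V)).base w) ∈
          ((RelProj.emb p chart ⊤ hY) ''ᵁ Proj.basicOpen (𝒜.deg ⊤ hY) s : P.Opens)
        rw [h1]
        refine ⟨(Proj.awayι (𝒜.deg ⊤ hY) s hs hn).base
          ((Spec.map (CommRingCat.ofHom (HomogeneousLocalization.Away.map
            (u.gradedAt ⊤ hY V.1 V.2 (htopq V.1)) s))).base w), ?_, rfl⟩
        rw [← Proj.opensRange_awayι (𝒜.deg ⊤ hY) s hs hn]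
        exact ⟨_, rfl⟩
    show IsCompact ((r ⁻¹ᵁ ((RelProj.emb p chart ⊤ hY) ''ᵁ Proj.basicOpen (𝒜.deg ⊤ hY) s) :
        ((RelProj.domQ u pL chartL : PL.Opens) : Scheme.{u}).Opens) :
          Set ((RelProj.domQ u pL chartL : PL.Opens) : Scheme.{u}))
    rw [hset]
    exact τ.isCompact_biUnion fun V _ => isCompact_range (Scheme.Hom.continuous _)
  · -- dominance
    refine (Groth.Agent.S12146.result f L hL hLq 𝒜 𝒮L jL hjL u p chart hP pL chartL hPL r hr
      hY).mpr ?_
    intro n hn s hs hloc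
    choose V hV hxV hnil using hloc
    obtain ⟨t, ht⟩ := isCompact_univ.elim_finite_subcover (fun x => ((V x : X.Opens) : Set X))
      (fun x => (V x).isOpen) (fun x _ => Set.mem_iUnion.mpr ⟨x, hxV x⟩)
    let k : X → ℕ := fun x => Exists.choose (hnil x)
    have hk : ∀ x, ((u.appLE ⊤ (V x) (htopq (V x))).hom s) ^ k x = 0 :=
      fun x => Exists.choose_spec (hnil x)
    refine ⟨t.sup k, ?_⟩
    apply hu.1
    rw [map_zero]
    let F : TopCat.Sheaf CommRingCat.{u} X.carrier := ⟨𝒮L.presheaf, 𝒮L.isSheaf⟩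
    refine TopCat.Sheaf.eq_of_locally_eq' F (fun x : {x // x ∈ t} => V x.1) (f ⁻¹ᵁ ⊤)
      (fun x => homOfLE (htopq (V x.1))) ?_ _ _ ?_
    · intro y _
      have h0 := ht (Set.mem_univ y)
      obtain ⟨x, hx⟩ := Set.mem_iUnion.mp h0
      obtain ⟨hxt, hy⟩ := Set.mem_iUnion.mp hx
      exact Opens.mem_iSup.mpr ⟨⟨x, hxt⟩, hy⟩
    · intro x
      have h1 : (𝒮L.presheaf.map (homOfLE (htopq (V x.1))).op).hom
          ((u.app ⊤).hom (s ^ t.sup k)) =
          ((u.appLE ⊤ (V x.1) (htopq (V x.1))).hom s) ^ t.sup k := by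
        rw [map_pow, map_pow]; rfl
      have h2 : ((u.appLE ⊤ (V x.1) (htopq (V x.1))).hom s) ^ t.sup k = 0 :=
        pow_eq_zero_of_le (Finset.le_sup x.2) (hk x.1)
      have h3 : (𝒮L.presheaf.map (homOfLE (htopq (V x.1))).op).hom 0 = 0 := map_zero _
      exact (h1.trans h2).trans h3.symm

end Groth.Agent.S12692
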