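import Groth.Statements.S12709
import Groth.Agent.H63.ArtFibre
import Mathlib.RingTheory.Nakayama
import Mathlib.Tactic.TFAE

set_option autoImplicit false
universe u v
open CategoryTheory
open ArtFun

namespace Groth.Agent.S12709

/-- Given a morphism f : A → B in the category of Artinian local Λ-algebras with residue field k, three
conditions coincide: (1) surjectivity of f; (2) f induces an onto map from the cotangent space of A
to the cotangent space of B, which in ideal-theoretic form says f(m_A)B + m_B² = m_B; (3) the
induced map on cotangent spaces relative to Λ is surjective, written as m_Λ B + f(m_A)B + m_B² = m_B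
with m_Λ the kernel of Λ → k. -/
theorem result {Λ : Type u} {k : Type u} [CommRing Λ] [Field k] [Algebra Λ k]
    [IsNoetherianRing Λ] [Module.Finite Λ k]
    {A B : ArtFun.Art Λ k} (f : A ⟶ B) :
    List.TFAE [Function.Surjective f,
      Ideal.map f.toAlgHom (IsLocalRing.maximalIdeal A) ⊔ IsLocalRing.maximalIdeal B ^ 2 = IsLocalRing.maximalIdeal B,
      Ideal.map (algebraMap Λ B) (RingHom.ker (algebraMap Λ k)) ⊔ Ideal.map f.toAlgHom (IsLocalRing.maximalIdeal A) ⊔
        IsLocalRing.maximalIdeal B ^ 2 = IsLocalRing.maximalIdeal B] := by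
  have hI_le : Ideal.map f.toAlgHom (IsLocalRing.maximalIdeal A) ≤ IsLocalRing.maximalIdeal B := by
    rw [Ideal.map_le_iff_le_comap]
    intro a ha
    exact Groth.Agent.H63.map_mem_maximalIdeal f ha
  have hJ_le : Ideal.map (algebraMap Λ B) (RingHom.ker (algebraMap Λ k)) ≤
      Ideal.map f.toAlgHom (IsLocalRing.maximalIdeal A) := by
    rw [Ideal.map_le_iff_le_comap]
    intro l hl
    rw [Ideal.mem_comap, ← f.toAlgHom.commutes l]
    apply Ideal.mem_map_of_mem
    rw [ArtFun.Art.mem_maximalIdeal_iff, AlgHom.commutes]
    exact RingHom.mem_ker.1 hl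
  have hsq : IsLocalRing.maximalIdeal B ^ 2 ≤ IsLocalRing.maximalIdeal B :=
    Ideal.pow_le_self two_ne_zero
  tfae_have 1 → 2 := by
    intro hs
    have h : Ideal.map f.toAlgHom (IsLocalRing.maximalIdeal A) = IsLocalRing.maximalIdeal B := by
      apply le_antisymm hI_le
      intro b hb
      obtain ⟨a, rfl⟩ := hs b
      exact Ideal.mem_map_of_mem _ (Groth.Agent.H63.mem_maximalIdeal_of_map f hb)
    rw [h]
    exact sup_eq_left.2 hsq
  tfae_have 2 → 3 := by
    intro h2
    rw [sup_eq_right.2 hJ_le]
    exact h2
  tfae_have 3 → 1 := by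
    intro h3
    rw [sup_eq_right.2 hJ_le] at h3
    have hmB : IsLocalRing.maximalIdeal B ≤ Ideal.map f.toAlgHom (IsLocalRing.maximalIdeal A) := by
      apply Submodule.le_of_le_smul_of_le_jacobson_bot (I := IsLocalRing.maximalIdeal B)
      · exact IsNoetherian.noetherian _
      · exact IsLocalRing.maximalIdeal_le_jacobson ⊥
      · rw [Ideal.smul_eq_mul, ← sq, h3]
    letI : Algebra A B := f.toAlgHom.toRingHom.toAlgebra
    haveI : IsScalarTower Λ A B :=
      IsScalarTower.of_algebraMap_eq (fun x => (f.toAlgHom.commutes x).symm)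
    haveI : Module.Finite Λ B := by
      have hfl := Groth.Agent.H63.isFiniteLength_base B
      haveI : IsNoetherian Λ B := ((isFiniteLength_iff_isNoetherian_isArtinian).1 hfl).1
      infer_instance
    haveI : Module.Finite A B := Module.Finite.of_restrictScalars_finite Λ A B
    have key : (⊤ : Submodule A B) ≤ LinearMap.range (Algebra.linearMap A B) := by
      apply Submodule.le_of_le_smul_of_le_jacobson_bot (I := IsLocalRing.maximalIdeal A)
      · exact Module.Finite.fg_top
      · exact IsLocalRing.maximalIdeal_le_jacobson ⊥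
      · intro b _
        obtain ⟨a, ha⟩ := A.res_surjective (B.res b)
        have hb : b - f a ∈ IsLocalRing.maximalIdeal B := by
          rw [ArtFun.Art.mem_maximalIdeal_iff, map_sub, ArtFun.Art.res_app, ha, sub_self]
        have hb' : b - f a ∈ (IsLocalRing.maximalIdeal A • (⊤ : Submodule A B)) := by
          rw [Ideal.smul_top_eq_map]
          exact hmB hb
        have hdec : b = f a + (b - f a) := by abel
        rw [hdec]
        exact Submodule.add_mem _ (Submodule.mem_sup_left ⟨a, rfl⟩) (Submodule.mem_sup_right hb')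
    intro b
    obtain ⟨a, ha⟩ := key (Submodule.mem_top : b ∈ ⊤)
    exact ⟨a, ha⟩
  tfae_finish

end Groth.Agent.S12709
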