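import Groth.Statements.S12711

set_option autoImplicit false
universe u v
open CategoryTheory
open ArtFun

namespace Groth.Agent.S12711

/-- If B together with p₁ : B → A₁ and p₂ : B → A₂ is the fibre product A₁ ×_A A₂ in the category of
Artinian local Λ-algebras with residue field k, and f₂ : A₂ → A is a small extension, then the
projection p₁ : B → A₁ is a small extension. -/
theorem result {Λ : Type u} {k : Type u} [CommRing Λ] [Field k] [Algebra Λ k]
    [IsNoetherianRing Λ] [Module.Finite Λ k]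
    {B A A₁ A₂ : ArtFun.Art Λ k} {p₁ : B ⟶ A₁} {p₂ : B ⟶ A₂} {f₁ : A₁ ⟶ A} {f₂ : A₂ ⟶ A}
    (h : ArtFun.Art.IsFibreProd p₁ p₂ f₁ f₂) (hf₂ : ArtFun.Art.IsSmallExt f₂) :
    ArtFun.Art.IsSmallExt p₁ := by
  obtain ⟨hsurj, hne, hprin, hkill⟩ := hf₂
  obtain ⟨t, ht⟩ := hprin
  -- basic facts
  have hker_f₂ : ∀ a : A₂, a ∈ RingHom.ker f₂.toAlgHom ↔ f₂ a = 0 := fun a => RingHom.mem_ker
  have hker_p₁ : ∀ b : B, b ∈ RingHom.ker p₁.toAlgHom ↔ p₁ b = 0 := fun b => RingHom.mem_ker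
  have ht_mem : t ∈ RingHom.ker f₂.toAlgHom := by
    rw [ht]; exact Submodule.mem_span_singleton_self t
  have ht0 : f₂ t = 0 := (hker_f₂ t).1 ht_mem
  have ht_ne : t ≠ 0 := by
    intro h0
    apply hne
    rw [ht, h0]
    simp
  have hkill' : ∀ x ∈ IsLocalRing.maximalIdeal A₂, ∀ a ∈ RingHom.ker f₂.toAlgHom, x * a = 0 := by
    intro x hx a ha
    have : x * a ∈ IsLocalRing.maximalIdeal A₂ * RingHom.ker f₂.toAlgHom := Ideal.mul_mem_mul hx ha
    rw [hkill] at this
    exact this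
  -- the generator of the kernel of p₁
  obtain ⟨b₀, hb₀1, hb₀2⟩ := h.surj 0 t (by
    have e1 : f₁ (0 : A₁) = 0 := map_zero f₁.toAlgHom
    rw [e1, ht0])
  have hp₂_max : ∀ x : B, x ∈ IsLocalRing.maximalIdeal B → p₂ x ∈ IsLocalRing.maximalIdeal A₂ := by
    intro x hx
    rw [ArtFun.Art.mem_maximalIdeal_iff] at hx ⊢
    rw [ArtFun.Art.res_app, hx]
  have hp₂_ker : ∀ b : B, p₁ b = 0 → p₂ b ∈ RingHom.ker f₂.toAlgHom := by
    intro b hb
    rw [hker_f₂, ← h.w_apply, hb]
    exact map_zero f₁.toAlgHom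
  refine ⟨?_, ?_, ⟨b₀, ?_⟩, ?_⟩
  · -- surjective
    intro a₁
    obtain ⟨a₂, ha₂⟩ := hsurj (f₁ a₁)
    obtain ⟨b, hb1, _⟩ := h.surj a₁ a₂ ha₂.symm
    exact ⟨b, hb1⟩
  · -- kernel nonzero
    intro hbot
    have hb₀ : b₀ ∈ RingHom.ker p₁.toAlgHom := (hker_p₁ b₀).2 hb₀1
    rw [hbot] at hb₀
    have : b₀ = 0 := hb₀
    rw [this] at hb₀2
    apply ht_ne
    rw [← hb₀2]
    exact map_zero p₂.toAlgHom
  · -- principal
    apply le_antisymm
    · intro b hb
      have hb' : p₁ b = 0 := (hker_p₁ b).1 hb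
      have hmem := hp₂_ker b hb'
      rw [ht] at hmem
      obtain ⟨c, hc⟩ := Submodule.mem_span_singleton.1 hmem
      obtain ⟨c', hc'⟩ := B.res_surjective (A₂.res c)
      have hdiff : p₂ c' - c ∈ IsLocalRing.maximalIdeal A₂ := by
        rw [ArtFun.Art.mem_maximalIdeal_iff, map_sub, ArtFun.Art.res_app, hc', sub_self]
      have hzero : (p₂ c' - c) * t = 0 := hkill' _ hdiff t ht_mem
      have hct : p₂ c' * t = c * t := by
        have := hzero
        rw [sub_mul, sub_eq_zero] at this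
        exact this
      have hbeq : b = c' * b₀ := by
        apply h.inj
        · have e : p₁ (c' * b₀) = p₁ c' * p₁ b₀ := map_mul p₁.toAlgHom c' b₀
          rw [e, hb₀1, mul_zero, hb']
        · have e : p₂ (c' * b₀) = p₂ c' * p₂ b₀ := map_mul p₂.toAlgHom c' b₀
          rw [e, hb₀2, hct, ← hc]
          rfl
      rw [hbeq]
      exact Submodule.mem_span_singleton.2 ⟨c', rfl⟩
    · rw [Submodule.span_singleton_le_iff_mem]
      exact (hker_p₁ b₀).2 hb₀1
  · -- killed by the maximal ideal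
    rw [eq_bot_iff, Ideal.mul_le]
    intro x hx b hb
    have hb' : p₁ b = 0 := (hker_p₁ b).1 hb
    have hxb : x * b = 0 := by
      apply h.inj
      · have e : p₁ (x * b) = p₁ x * p₁ b := map_mul p₁.toAlgHom x b
        rw [e, hb', mul_zero]
        exact (map_zero p₁.toAlgHom).symm
      · have e : p₂ (x * b) = p₂ x * p₂ b := map_mul p₂.toAlgHom x b
        rw [e, hkill' _ (hp₂_max x hx) _ (hp₂_ker b hb')]
        exact (map_zero p₂.toAlgHom).symm
    rw [hxb]
    exact Submodule.zero_mem _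

end Groth.Agent.S12711
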