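import Groth.Statements.S12712
import Groth.Agent.H63.ArtHensel

set_option autoImplicit false
universe u v
open CategoryTheory
open ArtFun

namespace Groth.Agent.S12712

/-- If k is separable over the image of Λ → k, then for any two morphisms f₁ : A₁ → A and f₂ : A₂ → A in
the category of Artinian local Λ-algebras with residue field k the set-theoretic fibre product A₁
×_A A₂ is again an object of the category. -/
theorem result {Λ : Type u} {k : Type u} [CommRing Λ] [Field k] [Algebra Λ k]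
    [IsNoetherianRing Λ] [Module.Finite Λ k]
    [Algebra.IsSeparable (↥(algebraMap Λ k).range) k]
    {A A₁ A₂ : ArtFun.Art Λ k} (f₁ : A₁ ⟶ A) (f₂ : A₂ ⟶ A) :
    ∃ (B : ArtFun.Art Λ k) (p₁ : B ⟶ A₁) (p₂ : B ⟶ A₂), ArtFun.Art.IsFibreProd p₁ p₂ f₁ f₂ := by
  have hres : Function.Surjective
      (A₁.res.comp (AlgHom.pullbackFst f₁.toAlgHom f₂.toAlgHom)) := by
    intro c
    obtain ⟨p, hpm, hp0, hp1⟩ := Groth.Agent.H63.exists_sep_poly (Λ := Λ) c
    obtain ⟨a₁, ⟨ha₁, hr₁⟩, -⟩ := Groth.Agent.H63.exists_unique_root A₁ p hpm c hp0 hp1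
    obtain ⟨a₂, ⟨ha₂, hr₂⟩, -⟩ := Groth.Agent.H63.exists_unique_root A₂ p hpm c hp0 hp1
    obtain ⟨a, -, hauniq⟩ := Groth.Agent.H63.exists_unique_root A p hpm c hp0 hp1
    have e1 : f₁ a₁ = a :=
      hauniq _ ⟨Groth.Agent.H63.map_root f₁ p a₁ ha₁, by rw [ArtFun.Art.res_app, hr₁]⟩
    have e2 : f₂ a₂ = a :=
      hauniq _ ⟨Groth.Agent.H63.map_root f₂ p a₂ ha₂, by rw [ArtFun.Art.res_app, hr₂]⟩
    exact ⟨⟨(a₁, a₂), e1.trans e2.symm⟩, hr₁⟩
  exact ⟨Groth.Agent.H63.fibreProdOf f₁ f₂ hres, Groth.Agent.H63.fibreProdOfFst f₁ f₂ hres,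
    Groth.Agent.H63.fibreProdOfSnd f₁ f₂ hres, Groth.Agent.H63.isFibreProd_fibreProdOf f₁ f₂ hres⟩

end Groth.Agent.S12712
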