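import Groth.Statements.S12713
import Groth.Agent.H63.ArtBasic

set_option autoImplicit false
universe u v
open CategoryTheory
open ArtFun ArtFun.Art

namespace Groth.Agent.S12713

/-- A small extension f : B → A in the category of Artinian local Λ-algebras with residue field k is not
an essential surjection (some morphism g : C → B is non-surjective although the composite C → A is
surjective) if and only if f has a section A → B in the category. -/
theorem result {Λ : Type u} {k : Type u} [CommRing Λ] [Field k] [Algebra Λ k]
    [IsNoetherianRing Λ] [Module.Finite Λ k]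
    {A B : ArtFun.Art Λ k} (f : B ⟶ A) (hf : ArtFun.Art.IsSmallExt f) :
    (∃ (C : ArtFun.Art Λ k) (g : C ⟶ B), Function.Surjective (g ≫ f) ∧ ¬ Function.Surjective g) ↔
      ∃ s : A ⟶ B, s ≫ f = 𝟙 A := by
  classical
  obtain ⟨hfs, hne, ⟨⟨t, ht⟩⟩, hmk⟩ := hf
  have htker : t ∈ RingHom.ker f.toAlgHom := by
    rw [ht]
    exact Ideal.mem_span_singleton_self t
  have hmt : ∀ y : B, y ∈ IsLocalRing.maximalIdeal B → y * t = 0 := by
    intro y hy
    have hmem := Ideal.mul_mem_mul hy htker
    rw [hmk] at hmem
    exact Ideal.mem_bot.1 hmem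
  have htm : t ∈ IsLocalRing.maximalIdeal B := Groth.Agent.H63.ker_le_maximalIdeal f htker
  have htt : t * t = 0 := hmt t htm
  constructor
  · rintro ⟨C, g, hgf, hg⟩
    have hgf' : ∀ a : A, ∃ c : C, f (g c) = a := hgf
    -- every element of `B` is in the image of `g` modulo `t`
    have hdecomp : ∀ b : B, ∃ (c : C) (y : B), b = g c + y * t := by
      intro b
      obtain ⟨c, hc⟩ := hgf' (f b)
      have hmem : b - g c ∈ RingHom.ker f.toAlgHom := by
        rw [RingHom.mem_ker, map_sub, sub_eq_zero]
        exact hc.symm
      rw [ht] at hmem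
      obtain ⟨y, hy⟩ := Ideal.mem_span_singleton'.1 hmem
      exact ⟨c, y, by rw [hy]; ring⟩
    have key : ∀ c : C, f (g c) = 0 → g c = 0 := by
      intro c₀ h0
      by_contra hx
      apply hg
      have hmem : g c₀ ∈ RingHom.ker f.toAlgHom := RingHom.mem_ker.2 h0
      rw [ht] at hmem
      obtain ⟨b, hb⟩ := Ideal.mem_span_singleton'.1 hmem
      have hbu : IsUnit b := by
        by_contra hnu
        apply hx
        rw [← hb]
        exact hmt b ((IsLocalRing.mem_maximalIdeal b).2 hnu)
      obtain ⟨u, hu⟩ := hbu.exists_left_inv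
      -- `t` is in the image of `g`
      have htg : ∃ ct : C, g ct = t := by
        obtain ⟨c₁, y, hy⟩ := hdecomp u
        refine ⟨c₁ * c₀, ?_⟩
        rw [map_mul]
        have e2 : u * (b * t) = g c₁ * (b * t) + y * b * (t * t) := by rw [hy]; ring
        calc g c₁ * g c₀ = g c₁ * (b * t) := by rw [hb]
          _ = g c₁ * (b * t) + y * b * (t * t) := by rw [htt, mul_zero, add_zero]
          _ = u * (b * t) := e2.symm
          _ = t := by rw [← mul_assoc, hu, one_mul]
      obtain ⟨ct, hct⟩ := htg
      intro b'
      obtain ⟨c, y, hy⟩ := hdecomp b'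
      obtain ⟨c₂, y', hy'⟩ := hdecomp y
      refine ⟨c + c₂ * ct, ?_⟩
      rw [map_add, map_mul, hct, hy]
      have e3 : y * t = g c₂ * t + y' * (t * t) := by rw [hy']; ring
      rw [e3, htt, mul_zero, add_zero]
    have key' : ∀ c c' : C, f (g c) = f (g c') → g c = g c' := by
      intro c c' h
      have h1 := key (c - c') (by rw [map_sub, map_sub, h, sub_self])
      rwa [map_sub, sub_eq_zero] at h1
    choose σ hσ using hgf'
    let sAlg : A →ₐ[Λ] B :=
      { toFun := fun a => g (σ a)
        map_one' := by
          have h1 : g (σ 1) = g 1 := key' _ _ (by rw [hσ, map_one, map_one])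
          rw [h1, map_one]
        map_mul' := fun a a' => by
          have h1 : g (σ (a * a')) = g (σ a * σ a') :=
            key' _ _ (by rw [hσ, map_mul, map_mul, hσ, hσ])
          rw [h1, map_mul]
        map_zero' := by
          have h1 : g (σ 0) = g 0 := key' _ _ (by rw [hσ, map_zero, map_zero])
          rw [h1, map_zero]
        map_add' := fun a a' => by
          have h1 : g (σ (a + a')) = g (σ a + σ a') :=
            key' _ _ (by rw [hσ, map_add, map_add, hσ, hσ])
          rw [h1, map_add]
        commutes' := fun l => by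
          have h1 : g (σ (algebraMap Λ A l)) = g (algebraMap Λ C l) :=
            key' _ _ (by rw [hσ, AlgHom.commutes, AlgHom.commutes])
          show g (σ (algebraMap Λ A l)) = algebraMap Λ B l
          rw [h1, AlgHom.commutes] }
    have hsres : B.res.comp sAlg = A.res := by
      apply AlgHom.ext
      intro a
      show B.res (g (σ a)) = A.res a
      rw [← res_app f (g (σ a)), hσ]
    refine ⟨homMk sAlg hsres, ?_⟩
    apply hom_ext
    apply AlgHom.ext
    intro a
    exact hσ a
  · rintro ⟨s, hs⟩
    have e : ∀ a : A, f (s a) = a := fun a => congrArg (fun (h : A ⟶ A) => h a) hs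
    refine ⟨A, s, ?_, ?_⟩
    · intro a
      exact ⟨a, e a⟩
    · intro hsurj
      apply hne
      rw [← RingHom.injective_iff_ker_eq_bot]
      intro b b' h
      obtain ⟨a, rfl⟩ := hsurj b
      obtain ⟨a', rfl⟩ := hsurj b'
      have h' : f (s a) = f (s a') := h
      rw [e, e] at h'
      rw [h']

end Groth.Agent.S12713
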