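import Groth.Statements.S12715
import Groth.Agent.H63.ArtC

set_option autoImplicit false
universe u v
open CategoryTheory
open ArtFun

namespace Groth.Agent.S12715

/-- For Λ Noetherian with a finite map to the field k and S a complete local Noetherian Λ-algebra with
residue field k (through a surjective map S → k over Λ), the space of Λ-derivations S → k is
finite-dimensional over k. -/
theorem result {Λ : Type u} {k : Type u} [CommRing Λ] [Field k] [Algebra Λ k]
    [IsNoetherianRing Λ] [Module.Finite Λ k]
    (S : Type u) [CommRing S] [Algebra Λ S] [IsLocalRing S] [IsNoetherianRing S]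
    [IsAdicComplete (IsLocalRing.maximalIdeal S) S] [Algebra S k] [IsScalarTower Λ S k]
    (hres : Function.Surjective (algebraMap S k)) :
    Module.Finite k (Derivation Λ S k) := by
  classical
  let R : ArtFun.CRing Λ k :=
    { carrier := S
      res := IsScalarTower.toAlgHom Λ S k
      res_surjective := fun c => by
        obtain ⟨s, hs⟩ := hres c
        exact ⟨s, hs⟩
      isAdicComplete := inferInstance }
  have hmem : ∀ a : S, a ∈ IsLocalRing.maximalIdeal S → algebraMap S k a = 0 :=
    fun a ha => (ArtFun.CRing.mem_maximalIdeal_iff R a).1 ha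
  have hkill : ∀ (D : Derivation Λ S k) (x : S),
      x ∈ IsLocalRing.maximalIdeal S ^ (1 + 1) → D x = 0 := by
    intro D x hx
    rw [pow_succ, pow_one] at hx
    refine Submodule.mul_induction_on hx ?_ ?_
    · intro a ha b hb
      rw [Derivation.leibniz, Algebra.smul_def, Algebra.smul_def, hmem a ha, hmem b hb,
        zero_mul, zero_mul, add_zero]
    · intro a b ha hb
      rw [map_add, ha, hb, add_zero]
  obtain ⟨n, t, ht⟩ := Groth.Agent.H63.exists_decomp R
  have ht' : ∀ a : S, ∃ (c : Fin n → Λ) (x : S),
      x ∈ IsLocalRing.maximalIdeal S ^ (1 + 1) ∧ a = (∑ i, c i • (t i : S)) + x := ht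
  let L : Derivation Λ S k →ₗ[k] (Fin n → k) :=
    { toFun := fun D i => D (t i)
      map_add' := fun D D' => funext fun i => rfl
      map_smul' := fun c D => funext fun i => rfl }
  have hL : Function.Injective L := by
    intro D D' h
    apply Derivation.ext
    intro a
    obtain ⟨c, x, hx, rfl⟩ := ht' a
    rw [map_add, map_add, hkill D x hx, hkill D' x hx, map_sum, map_sum]
    congr 1
    refine Finset.sum_congr rfl fun i _ => ?_
    rw [Derivation.map_smul, Derivation.map_smul]
    congr 1
    exact congrFun h i
  exact Module.Finite.of_injective L hL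

end Groth.Agent.S12715
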