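import Groth.Statements.S12716
import Groth.Agent.S12714
import Groth.Agent.H63.ArtDer

set_option autoImplicit false
universe u v
open CategoryTheory
open ArtFun

namespace Groth.Agent.S12716

/-- Let f : R → S be a morphism of complete local Noetherian Λ-algebras with residue field k (Λ
Noetherian, Λ → k finite). If the restriction map Der_Λ(S, k) → Der_Λ(R, k) is injective — two
Λ-derivations S → k that agree after composing with f are equal — then f is surjective. -/
theorem result {Λ : Type u} {k : Type u} [CommRing Λ] [Field k] [Algebra Λ k]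
    [IsNoetherianRing Λ] [Module.Finite Λ k]
    (R : ArtFun.CRing Λ k)
    (S : Type u) [CommRing S] [Algebra Λ S] [IsLocalRing S] [IsNoetherianRing S]
    [IsAdicComplete (IsLocalRing.maximalIdeal S) S] [Algebra S k] [IsScalarTower Λ S k]
    (hres : Function.Surjective (algebraMap S k))
    (f : R.carrier →ₐ[Λ] S) (hf : (IsScalarTower.toAlgHom Λ S k).comp f = R.res)
    (hinj : ∀ D₁ D₂ : Derivation Λ S k, (∀ r : R.carrier, D₁ (f r) = D₂ (f r)) → D₁ = D₂) :
    Function.Surjective f := by
  let S' : ArtFun.CRing Λ k :=
    { carrier := S
      res := IsScalarTower.toAlgHom Λ S k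
      res_surjective := hres
      isAdicComplete := inferInstance }
  have hTFAE := Groth.Agent.S12714.result R S' f hf
  apply (hTFAE.out 1 0).1
  by_contra hne
  obtain ⟨θ, hθ1, hθ2, s, hs⟩ := Groth.Agent.H63.exists_tangent_of_ne
    (IsScalarTower.toAlgHom Λ S k) (ArtFun.CRing.mem_maximalIdeal_iff S') R.res R.res_surjective
    f hf (IsLocalRing.maximalIdeal R.carrier)
    (fun r hr => (ArtFun.CRing.mem_maximalIdeal_iff R r).2 hr) hne
    (Ideal.map_le_iff_le_comap.2 (ArtFun.CRing.maximalIdeal_le_comap (R := S') f hf))
  have e1 : ∀ (a : S) (c : k), a • c = (IsScalarTower.toAlgHom Λ S k) a * c :=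
    fun a c => Algebra.smul_def a c
  let D : Derivation Λ S k :=
    { toLinearMap :=
        { toFun := fun s => (θ s).snd
          map_add' := fun a b => by
            rw [map_add]
            rfl
          map_smul' := fun l a => by
            rw [map_smul]
            rfl }
      map_one_eq_zero' := by
        change (θ 1).snd = 0
        rw [map_one]
        rfl
      leibniz' := fun a b => by
        change (θ (a * b)).snd = a • (θ b).snd + b • (θ a).snd
        rw [map_mul, TrivSqZeroExt.snd_mul, hθ1, hθ1, e1, e1, op_smul_eq_smul, smul_eq_mul,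
          smul_eq_mul] }
  have hD : D = 0 := hinj D 0 (fun r => hθ2 r)
  exact hs (DFunLike.congr_fun hD s)

end Groth.Agent.S12716
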