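import Groth.Statements.S12717
import Groth.Agent.H63.ArtBasic

set_option autoImplicit false
universe u v
open CategoryTheory
open ArtFun

namespace Groth.Agent.S12717

/-- For functors, a morphism η : F → G of functors on the category of Artinian local Λ-algebras with
residue field k is smooth (F(B) → F(A) ×_{G(A)} G(B) surjective for every surjection B → A) as soon
as this lifting condition holds for all small extensions B → A. -/
theorem result {Λ : Type u} {k : Type u} [CommRing Λ] [Field k] [Algebra Λ k]
    [IsNoetherianRing Λ] [Module.Finite Λ k]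
    {F G : ArtFun.Art Λ k ⥤ Type v} (η : F ⟶ G)
    (h : ∀ ⦃B A : ArtFun.Art Λ k⦄ (μ : B ⟶ A), ArtFun.Art.IsSmallExt μ →
      Function.Surjective (ArtFun.relCmp η μ)) :
    ArtFun.IsSmooth η := by
  intro B A μ hμ
  refine Groth.Agent.H63.surjective_induction
    (fun A B μ => Function.Surjective (ArtFun.relCmp η μ)) ?_ ?_ ?_ μ hμ
  · -- isomorphisms
    intro A B e he y
    obtain ⟨⟨x, g⟩, hx⟩ := y
    have hx' : η.app A x = G.map e g := hx
    refine ⟨F.map (inv e) x, Subtype.ext (Prod.ext ?_ ?_)⟩
    · change F.map e (F.map (inv e) x) = x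
      rw [← Functor.map_comp_apply, IsIso.inv_hom_id, Functor.map_id_apply]
    · change η.app B (F.map (inv e) x) = g
      rw [NatTrans.naturality_apply, hx', ← Functor.map_comp_apply, IsIso.hom_inv_id,
        Functor.map_id_apply]
  · -- small extensions
    intro A B p hp
    exact h p hp
  · -- composition
    intro A B C p q hp hq y
    obtain ⟨⟨x, g⟩, hx⟩ := y
    have hx' : η.app A x = G.map (p ≫ q) g := hx
    have hx'' : η.app A x = G.map q (G.map p g) := by
      rw [hx', Functor.map_comp_apply]
    obtain ⟨y, hy⟩ := hq ⟨(x, G.map p g), hx''⟩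
    have hy1 : F.map q y = x := congrArg (fun t => t.1.1) hy
    have hy2 : η.app B y = G.map p g := congrArg (fun t => t.1.2) hy
    obtain ⟨z, hz⟩ := hp ⟨(y, g), hy2⟩
    have hz1 : F.map p z = y := congrArg (fun t => t.1.1) hz
    have hz2 : η.app C z = g := congrArg (fun t => t.1.2) hz
    refine ⟨z, Subtype.ext (Prod.ext ?_ hz2)⟩
    change F.map (p ≫ q) z = x
    rw [Functor.map_comp_apply, hz1, hy1]

end Groth.Agent.S12717
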