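import Groth.Statements.S12721
import Groth.Agent.H63.ArtNil
import Groth.Agent.H63.ArtHom
import Mathlib.RingTheory.FiniteType
import Mathlib.RingTheory.Polynomial.Basic

set_option autoImplicit false
universe u v
open CategoryTheory
open ArtFun

namespace Groth.Agent.S12721

/-- adic formal smoothness gives smoothness of `h_R` -/
theorem smooth_of_adic {Λ : Type u} {k : Type u} [CommRing Λ] [Field k] [Algebra Λ k]
    [IsNoetherianRing Λ] [Module.Finite Λ k]
    (R : ArtFun.CRing Λ k)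
    (hfs : CAlgX.IsAdicFormallySmooth Λ R.carrier (IsLocalRing.maximalIdeal R.carrier)) :
    ArtFun.IsSmoothFunctor (ArtFun.hR R.carrier R.res) := by
  intro B A μ hμ
  refine Groth.Agent.H63.surjective_induction
    (fun (A B : ArtFun.Art Λ k) (μ : B ⟶ A) =>
      Function.Surjective ((ArtFun.hR R.carrier R.res).map μ)) ?_ ?_ ?_ μ hμ
  · intro A B e he φ
    refine ⟨ArtFun.HomSet.map (inv e) φ, ?_⟩
    show ArtFun.HomSet.map e (ArtFun.HomSet.map (inv e) φ) = φ
    rw [← Groth.Agent.H63.homSet_map_comp, IsIso.inv_hom_id, Groth.Agent.H63.homSet_map_id]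
  · intro A B μ hsm φ
    obtain ⟨hμ, -, -, hmk⟩ := hsm
    have hJ2 : RingHom.ker μ.toAlgHom ^ 2 = ⊥ := by
      rw [pow_two, ← le_bot_iff, ← hmk]
      exact Ideal.mul_mono_left (Groth.Agent.H63.ker_le_maximalIdeal μ)
    let e := Ideal.quotientKerAlgEquivOfSurjective (f := μ.toAlgHom) hμ
    let ψ : R.carrier →ₐ[Λ] (B ⧸ RingHom.ker μ.toAlgHom) := (e.symm : A →ₐ[Λ] _).comp φ.1
    obtain ⟨N, hN⟩ := Groth.Agent.H63.exists_maximalIdeal_pow_eq_bot A
    have hkill : ∃ n : ℕ, ∀ x ∈ IsLocalRing.maximalIdeal R.carrier ^ n, ψ x = 0 := by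
      refine ⟨N, fun x hx => ?_⟩
      have h1 := Groth.Agent.H63.homSet_apply_mem_pow R φ N hx
      rw [hN] at h1
      have h2 : φ.1 x = 0 := Ideal.mem_bot.1 h1
      show e.symm (φ.1 x) = 0
      rw [h2, map_zero]
    obtain ⟨χ, hχ⟩ := hfs B (RingHom.ker μ.toAlgHom) hJ2 ψ hkill
    have hμχ : ∀ r, μ (χ r) = φ.1 r := by
      intro r
      have h1 : Ideal.Quotient.mk (RingHom.ker μ.toAlgHom) (χ r) = ψ r :=
        DFunLike.congr_fun hχ r
      have h2 : e (Ideal.Quotient.mk _ (χ r)) = μ.toAlgHom (χ r) :=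
        Ideal.quotientKerAlgEquivOfSurjective_mk hμ (χ r)
      have h3 : e (ψ r) = φ.1 r := e.apply_symm_apply (φ.1 r)
      rw [h1, h3] at h2
      exact h2.symm
    have hres : B.res.comp χ = R.res := by
      apply AlgHom.ext
      intro r
      show B.res (χ r) = R.res r
      rw [← ArtFun.Art.res_app μ (χ r), hμχ]
      exact DFunLike.congr_fun φ.2 r
    refine ⟨⟨χ, hres⟩, ?_⟩
    apply Subtype.ext
    apply AlgHom.ext
    intro r
    exact hμχ r
  · intro A B C p q hp hq φ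
    obtain ⟨ψ₁, h₁⟩ := hq φ
    obtain ⟨ψ₂, h₂⟩ := hp ψ₁
    refine ⟨ψ₂, ?_⟩
    have h₁' : ArtFun.HomSet.map q ψ₁ = φ := h₁
    have h₂' : ArtFun.HomSet.map p ψ₂ = ψ₁ := h₂
    show ArtFun.HomSet.map (p ≫ q) ψ₂ = φ
    rw [Groth.Agent.H63.homSet_map_comp, h₂', h₁']

/-- smoothness of `h_R` gives adic formal smoothness -/
theorem adic_of_smooth {Λ : Type u} {k : Type u} [CommRing Λ] [Field k] [Algebra Λ k]
    [IsNoetherianRing Λ] [Module.Finite Λ k]
    (R : ArtFun.CRing Λ k)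
    (hs : ArtFun.IsSmoothFunctor (ArtFun.hR R.carrier R.res)) :
    CAlgX.IsAdicFormallySmooth Λ R.carrier (IsLocalRing.maximalIdeal R.carrier) := by
  classical
  intro A _ _ J hJ ψ hψ
  obtain ⟨n, hn⟩ := hψ
  have hkill : ∀ a ∈ R.mpow n, ψ a = 0 := fun a ha =>
    hn a (Ideal.pow_le_pow_right (Nat.le_succ n) ha)
  let ψb : (R.carrier ⧸ R.mpow n) →ₐ[Λ] A ⧸ J := Ideal.Quotient.liftₐ (R.mpow n) ψ hkill
  have hψb : ∀ r : R.carrier, ψb (Ideal.Quotient.mk (R.mpow n) r) = ψ r := fun r => rfl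
  -- the truncation is a finitely generated algebra
  haveI hfin : Module.Finite Λ (R.trunc n) := by
    have hfl := Groth.Agent.H63.isFiniteLength_base (R.trunc n)
    haveI hN : IsNoetherian Λ (R.trunc n) :=
      ((isFiniteLength_iff_isNoetherian_isArtinian).1 hfl).1
    infer_instance
  obtain ⟨n', π₀, hπ₀⟩ := Algebra.FiniteType.iff_quotient_mvPolynomial''.1
    (inferInstance : Algebra.FiniteType Λ (R.trunc n))
  have hex : ∀ i : Fin n', ∃ a : A, Ideal.Quotient.mk J a = ψb (π₀ (MvPolynomial.X i)) :=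
    fun i => Ideal.Quotient.mk_surjective _
  choose a ha using hex
  let g : MvPolynomial (Fin n') Λ →ₐ[Λ] A := MvPolynomial.aeval a
  have hg : (Ideal.Quotient.mkₐ Λ J).comp g = ψb.comp π₀ := by
    apply MvPolynomial.algHom_ext
    intro i
    show Ideal.Quotient.mk J (MvPolynomial.aeval a (MvPolynomial.X i)) = ψb (π₀ (MvPolynomial.X i))
    rw [MvPolynomial.aeval_X, ha]
  have hg' : ∀ p, Ideal.Quotient.mk J (g p) = ψb (π₀ p) := fun p => DFunLike.congr_fun hg p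
  have hgK : ∀ p ∈ RingHom.ker π₀, g p ∈ J := by
    intro p hp
    rw [← Ideal.Quotient.eq_zero_iff_mem, hg', RingHom.mem_ker.1 hp]
    exact map_zero ψb
  have hgK2 : ∀ p ∈ RingHom.ker π₀ ^ 2, g p = 0 := by
    intro p hp
    rw [pow_two] at hp
    refine Submodule.mul_induction_on hp ?_ ?_
    · intro x hx y hy
      have h1 : g x * g y ∈ J ^ 2 := by
        rw [pow_two]
        exact Ideal.mul_mem_mul (hgK x hx) (hgK y hy)
      rw [hJ] at h1
      rw [map_mul]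
      exact Ideal.mem_bot.1 h1
    · intro x y hx hy
      rw [map_add, hx, hy, add_zero]
  have hKle : RingHom.ker π₀ ^ 2 ≤ RingHom.ker π₀ := Ideal.pow_le_self two_ne_zero
  let πQ : (MvPolynomial (Fin n') Λ ⧸ RingHom.ker π₀ ^ 2) →ₐ[Λ] (R.trunc n) :=
    Ideal.Quotient.liftₐ (RingHom.ker π₀ ^ 2) π₀ (fun p hp => RingHom.mem_ker.1 (hKle hp))
  have hπQ : ∀ p, πQ (Ideal.Quotient.mk _ p) = π₀ p := fun p => rfl
  have hπQs : Function.Surjective πQ := by
    intro y
    obtain ⟨p, rfl⟩ := hπ₀ y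
    exact ⟨Ideal.Quotient.mk _ p, rfl⟩
  have hker : RingHom.ker πQ ^ 2 = ⊥ := by
    have h1 : RingHom.ker πQ ≤ Ideal.map (Ideal.Quotient.mk (RingHom.ker π₀ ^ 2)) (RingHom.ker π₀) := by
      intro x hx
      obtain ⟨p, rfl⟩ := Ideal.Quotient.mk_surjective x
      have hp : π₀ p = 0 := RingHom.mem_ker.1 hx
      exact Ideal.mem_map_of_mem _ (RingHom.mem_ker.2 hp)
    rw [← le_bot_iff]
    calc RingHom.ker πQ ^ 2
        ≤ Ideal.map (Ideal.Quotient.mk (RingHom.ker π₀ ^ 2)) (RingHom.ker π₀) ^ 2 :=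
          Ideal.pow_right_mono h1 2
      _ = Ideal.map (Ideal.Quotient.mk (RingHom.ker π₀ ^ 2)) (RingHom.ker π₀ ^ 2) :=
          (Ideal.map_pow _ _ _).symm
      _ = ⊥ := Ideal.map_quotient_self _
      _ ≤ ⊥ := le_rfl
  obtain ⟨ρ, hρ⟩ := hs (Groth.Agent.H63.artOfNilExtHom πQ hπQs 2 hker) hπQs (R.truncHom n)
  have hρ' : ∀ r : R.carrier, πQ (ρ.1 r) = Ideal.Quotient.mk (R.mpow n) r := fun r =>
    DFunLike.congr_fun (congrArg Subtype.val hρ) r
  let gb : (MvPolynomial (Fin n') Λ ⧸ RingHom.ker π₀ ^ 2) →ₐ[Λ] A :=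
    Ideal.Quotient.liftₐ (RingHom.ker π₀ ^ 2) g hgK2
  have hgb : ∀ p, gb (Ideal.Quotient.mk _ p) = g p := fun p => rfl
  let ρ' : R.carrier →ₐ[Λ] (MvPolynomial (Fin n') Λ ⧸ RingHom.ker π₀ ^ 2) := ρ.1
  refine ⟨gb.comp ρ', ?_⟩
  apply AlgHom.ext
  intro r
  show Ideal.Quotient.mk J (gb (ρ' r)) = ψ r
  obtain ⟨p, hp⟩ := Ideal.Quotient.mk_surjective (ρ' r)
  have h1 : πQ (ρ' r) = Ideal.Quotient.mk (R.mpow n) r := hρ' r
  rw [← hp] at h1 ⊢
  rw [hgb, hg', ← hπQ, h1, hψb]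

/-- (1) ⇔ (2): for R a complete local Noetherian Λ-algebra with residue field k, the functor h_R on
Artinian local Λ-algebras with residue field k is smooth (surjective along every surjection) if and
only if Λ → R is formally smooth for the m_R-adic topology. -/
theorem result {Λ : Type u} {k : Type u} [CommRing Λ] [Field k] [Algebra Λ k]
    [IsNoetherianRing Λ] [Module.Finite Λ k]
    (R : ArtFun.CRing Λ k) :
    ArtFun.IsSmoothFunctor (ArtFun.hR R.carrier R.res) ↔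
      CAlgX.IsAdicFormallySmooth Λ R.carrier (IsLocalRing.maximalIdeal R.carrier) := by
  exact ⟨adic_of_smooth R, smooth_of_adic R⟩

end Groth.Agent.S12721
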