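import Groth.Statements.S12727
import Groth.Agent.H63.ArtLift

set_option autoImplicit false
universe u v
open CategoryTheory
open ArtFun

namespace Groth.Agent.S12727

/-- For functors, a functor on Artinian local Λ-algebras with residue field k with F(k) a point which
admits a versal family (over a complete local Noetherian ring with residue field k) satisfies
condition (S1). -/
theorem result {Λ : Type u} {k : Type u} [CommRing Λ] [Field k] [Algebra Λ k]
    [IsNoetherianRing Λ] [Module.Finite Λ k]
    (F : ArtFun.Art Λ k ⥤ Type v) (h0 : ArtFun.H0 F) (hv : ArtFun.HasVersal F) :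
    ArtFun.S1 F := by
  obtain ⟨V⟩ := hv
  intro B A A' A'' p' p'' f' f'' h hf'' x
  obtain ⟨⟨x', x''⟩, hx⟩ := x
  have hsub := h0.2
  let φ₀ : ArtFun.HomSet V.ring.carrier V.ring.res (ArtFun.Art.base Λ k) :=
    ⟨V.ring.res, AlgHom.id_comp _⟩
  obtain ⟨φ', -, hφ'⟩ := V.versal (ArtFun.Art.toBase A') A'.res_surjective φ₀ x'
    (Subsingleton.elim _ _)
  have hx2 : F.map f'' x'' = V.family.app A (ArtFun.HomSet.map f' φ') := by
    rw [V.family.natural, hφ']
    exact hx.symm
  obtain ⟨ψ'', hψ1, hψ2⟩ := V.versal f'' hf'' (ArtFun.HomSet.map f' φ') x'' hx2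
  obtain ⟨ψ, hψp', hψp''⟩ :=
    Groth.Agent.H63.IsFibreProd.exists_homSet_lift h φ' ψ'' hψ1.symm
  refine ⟨V.family.app B ψ, ?_⟩
  apply ArtFun.FibProd.ext
  · change F.map p' (V.family.app B ψ) = x'
    rw [← V.family.natural, hψp', hφ']
  · change F.map p'' (V.family.app B ψ) = x''
    rw [← V.family.natural, hψp'', hψ2]

end Groth.Agent.S12727
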