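import Groth.Statements.S12728
import Groth.Agent.H63.ArtTheta
import Groth.Agent.H63.ArtHom

set_option autoImplicit false
universe u v
open CategoryTheory
open ArtFun

namespace Groth.Agent.S12728

/-- For functors, let F be a functor on Artinian local Λ-algebras with residue field k with F(k) a
point, satisfying (S1) and (S2), and ξ a family of F over a complete local Noetherian R with residue
field k. Then ξ is versal if and only if (1) the map h_R(k[ε]) → F(k[ε]) on tangent spaces is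
surjective, and (2) whenever μ : B → A is a small extension, φ : R → A, and y ∈ F(B) lies over ξ(φ),
the map φ lifts to some R → B. -/
theorem result {Λ : Type u} {k : Type u} [CommRing Λ] [Field k] [Algebra Λ k]
    [IsNoetherianRing Λ] [Module.Finite Λ k]
    {F : ArtFun.Art Λ k ⥤ Type v} (h0 : ArtFun.H0 F) (h1 : ArtFun.S1 F) (h2 : ArtFun.Heps F)
    (R : ArtFun.CRing Λ k) (ξ : ArtFun.Family R.carrier R.res F) :
    ArtFun.IsVersal ξ ↔
      (Function.Surjective (ArtFun.TangentSpace.ofFamily ξ) ∧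
        ∀ ⦃B A : ArtFun.Art Λ k⦄ (μ : B ⟶ A), ArtFun.Art.IsSmallExt μ →
          ∀ (φ : ArtFun.HomSet R.carrier R.res A) (y : F.obj B), F.map μ y = ξ.app A φ →
            ∃ ψ : ArtFun.HomSet R.carrier R.res B, ArtFun.HomSet.map μ ψ = φ) := by
  constructor
  · intro hv
    refine ⟨?_, ?_⟩
    · intro y
      have h0s := h0.2
      obtain ⟨ψ, -, hψ⟩ := hv (ArtFun.Art.toBase (ArtFun.Art.dual Λ k))
        (ArtFun.Art.dual Λ k).res_surjective (Groth.Agent.H63.homSetBase R.res) y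
        (Subsingleton.elim _ _)
      exact ⟨ψ, hψ⟩
    · intro B A μ hsm φ y hy
      obtain ⟨ψ, hψ, -⟩ := hv μ hsm.1 φ y hy
      exact ⟨ψ, hψ⟩
  · rintro ⟨ht, hl⟩
    intro B A μ hμ
    have key := Groth.Agent.H63.surjective_induction
      (fun (A B : ArtFun.Art Λ k) (μ : B ⟶ A) =>
        ∀ (φ : ArtFun.HomSet R.carrier R.res A) (y : F.obj B), F.map μ y = ξ.app A φ →
          ∃ ψ : ArtFun.HomSet R.carrier R.res B, ArtFun.HomSet.map μ ψ = φ ∧ ξ.app B ψ = y)
      ?_ ?_ ?_ μ hμ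
    · exact key
    · -- isomorphisms
      intro A B e he φ y hy
      refine ⟨ArtFun.HomSet.map (inv e) φ, ?_, ?_⟩
      · rw [← Groth.Agent.H63.homSet_map_comp, IsIso.inv_hom_id, Groth.Agent.H63.homSet_map_id]
      · rw [ξ.natural, ← hy, ← Functor.map_comp_apply, IsIso.hom_inv_id, Functor.map_id_apply]
    · -- small extensions
      intro A B μ hsm φ y hy
      have hμ := hsm.1
      obtain ⟨C, q₁, q₂, hC⟩ : ∃ (C : ArtFun.Art Λ k) (q₁ q₂ : C ⟶ B),
          ArtFun.Art.IsFibreProd q₁ q₂ μ μ :=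
        ⟨_, _, _, Groth.Agent.H63.isFibreProd_fibreProd μ μ hμ⟩
      obtain ⟨θ, hθ⟩ := Groth.Agent.H63.exists_theta hC hsm
      obtain ⟨ψ', hψ'⟩ := hl μ hsm φ y hy
      have hcompat : F.map μ (ξ.app B ψ') = F.map μ y := by
        rw [← ξ.natural, hψ', hy]
      obtain ⟨ζ, hζ⟩ := h1 q₁ q₂ μ μ hC hμ ⟨(ξ.app B ψ', y), hcompat⟩
      have hζ1 : F.map q₁ ζ = ξ.app B ψ' := congrArg (fun t => t.1.1) hζ
      have hζ2 : F.map q₂ ζ = y := congrArg (fun t => t.1.2) hζ
      obtain ⟨w, hw⟩ : ∃ w : ArtFun.HomSet R.carrier R.res (ArtFun.Art.dual Λ k),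
          ξ.app (ArtFun.Art.dual Λ k) w = F.map θ ζ := ht (F.map θ ζ)
      obtain ⟨z, hz1, hz2⟩ := Groth.Agent.H63.IsFibreProd.exists_homSet_lift hθ ψ' w
        (Groth.Agent.H63.homSet_base_ext _ _)
      have hξz : ξ.app C z = ζ := by
        apply (h2 q₁ θ hθ).1
        apply ArtFun.FibProd.ext
        · change F.map q₁ (ξ.app C z) = F.map q₁ ζ
          rw [← ξ.natural, hz1, hζ1]
        · change F.map θ (ξ.app C z) = F.map θ ζ
          rw [← ξ.natural, hz2, hw]
      refine ⟨ArtFun.HomSet.map q₂ z, ?_, ?_⟩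
      · rw [← Groth.Agent.H63.homSet_map_comp, ← hC.w, Groth.Agent.H63.homSet_map_comp, hz1, hψ']
      · rw [ξ.natural, hξz, hζ2]
    · -- composition
      intro A B C p q hp hq φ y hy
      have hy' : F.map q (F.map p y) = ξ.app A φ := by
        rw [← Functor.map_comp_apply]
        exact hy
      obtain ⟨ψ₁, hψ₁1, hψ₁2⟩ := hq φ (F.map p y) hy'
      obtain ⟨ψ₂, hψ₂1, hψ₂2⟩ := hp ψ₁ y hψ₁2.symm
      refine ⟨ψ₂, ?_, hψ₂2⟩
      rw [Groth.Agent.H63.homSet_map_comp, hψ₂1, hψ₁1]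

end Groth.Agent.S12728
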