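import Groth.Statements.S12731
import Groth.Agent.S12727
import Groth.Prelude.Def_ArtFun5
import Groth.Agent.H63.ArtHom

set_option autoImplicit false
universe u v
open CategoryTheory
open ArtFun

namespace Groth.Agent.S12731

theorem heps_of_hull {Λ : Type u} {k : Type u} [CommRing Λ] [Field k] [Algebra Λ k]
    [IsNoetherianRing Λ] [Module.Finite Λ k]
    (F : ArtFun.Art Λ k ⥤ Type v) (h0 : ArtFun.H0 F) (H : ArtFun.Hull F) (hS1 : ArtFun.S1 F) :
    ArtFun.Heps F := by
  intro B A' p' p'' h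
  have hdual : Function.Surjective (ArtFun.Art.toBase (ArtFun.Art.dual Λ k)) :=
    (ArtFun.Art.dual Λ k).res_surjective
  refine ⟨?_, hS1 p' p'' _ _ h hdual⟩
  intro z₁ z₂ hz
  have hz' : F.map p' z₁ = F.map p' z₂ := congrArg (fun t => t.1.1) hz
  have hz'' : F.map p'' z₁ = F.map p'' z₂ := congrArg (fun t => t.1.2) hz
  have h0s := h0.2
  have hv := H.miniversal.1
  obtain ⟨ψ', -, hψ'⟩ := hv (ArtFun.Art.toBase A') A'.res_surjective
    (Groth.Agent.H63.homSetBase H.ring.res) (F.map p' z₁) (Subsingleton.elim _ _)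
  have hp' : Function.Surjective p' := Groth.Agent.H63.IsFibreProd.surjective_fst h hdual
  obtain ⟨ψ₁, hψ₁1, hψ₁2⟩ := hv p' hp' ψ' z₁ hψ'.symm
  obtain ⟨ψ₂, hψ₂1, hψ₂2⟩ := hv p' hp' ψ' z₂ (by rw [← hz']; exact hψ'.symm)
  have hpp : ArtFun.HomSet.map p'' ψ₁ = ArtFun.HomSet.map p'' ψ₂ := by
    apply H.miniversal.2.1
    rw [H.family.natural, H.family.natural, hψ₁2, hψ₂2, hz'']
  have hψ : ψ₁ = ψ₂ := by
    apply Subtype.ext
    apply AlgHom.ext
    intro r
    apply h.inj
    · exact congrArg (fun (t : ArtFun.HomSet _ _ A') => t.1 r) (hψ₁1.trans hψ₂1.symm)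
    · exact congrArg (fun (t : ArtFun.HomSet _ _ (ArtFun.Art.dual Λ k)) => t.1 r) hpp
  rw [← hψ₁2, ← hψ₂2, hψ]

theorem hfin_of_hull {Λ : Type u} {k : Type u} [CommRing Λ] [Field k] [Algebra Λ k]
    [IsNoetherianRing Λ] [Module.Finite Λ k]
    (F : ArtFun.Art Λ k ⥤ Type v) [ArtFun.TangentStr F] (H : ArtFun.Hull F) :
    ArtFun.Hfin F := by
  classical
  obtain ⟨R, ξ, hmv⟩ := H
  have hbij : Function.Bijective (ξ.app (ArtFun.Art.dual Λ k)) := hmv.2
  have hinj := hbij.1
  have hinvex : ∀ v : ArtFun.TangentSpace F,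
      ∃ φ : ArtFun.HomSet R.carrier R.res (ArtFun.Art.dual Λ k),
        ξ.app (ArtFun.Art.dual Λ k) φ = v := hbij.2
  choose inv hinv using hinvex
  -- the derivation attached to a tangent vector of `h_R`
  let dl : ArtFun.HomSet R.carrier R.res (ArtFun.Art.dual Λ k) → (R.carrier →ₗ[Λ] k) := fun φ =>
    { toFun := fun a => TrivSqZeroExt.snd (φ.1 a)
      map_add' := by
        intro a b
        rw [map_add]
        rfl
      map_smul' := by
        intro c a
        rw [map_smul]
        rfl }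
  have hdl : ∀ φ a, dl φ a = TrivSqZeroExt.snd (φ.1 a) := fun φ a => rfl
  have hfst : ∀ (φ : ArtFun.HomSet R.carrier R.res (ArtFun.Art.dual Λ k)) (a : R.carrier),
      TrivSqZeroExt.fst (φ.1 a) = R.res a := fun φ a => DFunLike.congr_fun φ.2 a
  have hkill : ∀ (φ : ArtFun.HomSet R.carrier R.res (ArtFun.Art.dual Λ k)) (x : R.carrier),
      x ∈ R.mpow 1 → dl φ x = 0 := by
    intro φ x hx
    have hm2 : R.mpow 1 =
        IsLocalRing.maximalIdeal R.carrier * IsLocalRing.maximalIdeal R.carrier := by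
      show IsLocalRing.maximalIdeal R.carrier ^ (1 + 1) = _
      rw [pow_succ, pow_one]
    rw [hm2] at hx
    refine Submodule.mul_induction_on hx ?_ ?_
    · intro a ha b hb
      have ha0 : R.res a = 0 := (ArtFun.CRing.mem_maximalIdeal_iff R a).1 ha
      have hb0 : R.res b = 0 := (ArtFun.CRing.mem_maximalIdeal_iff R b).1 hb
      show TrivSqZeroExt.snd (φ.1 (a * b)) = 0
      rw [map_mul]
      have e : TrivSqZeroExt.snd (φ.1 a * φ.1 b) =
          TrivSqZeroExt.fst (φ.1 a) • TrivSqZeroExt.snd (φ.1 b) +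
            MulOpposite.op (TrivSqZeroExt.fst (φ.1 b)) • TrivSqZeroExt.snd (φ.1 a) := rfl
      rw [e, hfst, hfst, ha0, hb0, zero_smul, MulOpposite.op_zero, zero_smul, add_zero]
    · intro a b ha hb
      rw [map_add, ha, hb, add_zero]
  -- finite generation of `R / m²` over `Λ`
  have hfin : Module.Finite Λ (R.carrier ⧸ R.mpow 1) := by
    have hfl := Groth.Agent.H63.isFiniteLength_base (R.trunc 1)
    haveI hN : IsNoetherian Λ (R.trunc 1) :=
      ((isFiniteLength_iff_isNoetherian_isArtinian).1 hfl).1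
    exact inferInstanceAs (Module.Finite Λ (R.trunc 1))
  obtain ⟨n, s, hs⟩ := Module.Finite.exists_fin (R := Λ) (M := R.carrier ⧸ R.mpow 1)
  let π : R.carrier →ₐ[Λ] (R.carrier ⧸ R.mpow 1) := Ideal.Quotient.mkₐ Λ (R.mpow 1)
  have hπs : Function.Surjective π := Ideal.Quotient.mkₐ_surjective Λ (R.mpow 1)
  choose lift hlift using hπs
  have hdecomp : ∀ a : R.carrier, ∃ (c : Fin n → Λ) (x : R.carrier),
      x ∈ R.mpow 1 ∧ a = (∑ i, c i • lift (s i)) + x := by
    intro a
    have hmem : π a ∈ Submodule.span Λ (Set.range s) := by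
      rw [hs]
      exact Submodule.mem_top
    obtain ⟨c, hc⟩ := (Submodule.mem_span_range_iff_exists_fun Λ).1 hmem
    refine ⟨c, a - ∑ i, c i • lift (s i), ?_, by abel⟩
    have h0 : π (a - ∑ i, c i • lift (s i)) = 0 := by
      rw [map_sub, map_sum, ← hc, sub_eq_zero]
      refine Finset.sum_congr rfl fun i _ => ?_
      rw [map_smul, hlift]
    exact Ideal.Quotient.eq_zero_iff_mem.1 h0
  -- linear structure
  have hA : ∀ (c : k) (v : ArtFun.TangentSpace F),
      inv (c • v) = ArtFun.HomSet.map (ArtFun.Art.scale c) (inv v) := by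
    intro c v
    apply hinj
    rw [hinv, ξ.natural, hinv]
    exact ArtFun.TangentStr.smul_eq (F := F) c v
  have hB : ∀ v w : ArtFun.TangentSpace F,
      ∃ z : ArtFun.HomSet R.carrier R.res (ArtFun.Art.dual2 Λ k),
        ArtFun.HomSet.map ArtFun.Art.pr₁ z = inv v ∧ ArtFun.HomSet.map ArtFun.Art.pr₂ z = inv w ∧
          ArtFun.HomSet.map ArtFun.Art.plus z = inv (v + w) := by
    intro v w
    obtain ⟨z, hz1, hz2⟩ := Groth.Agent.H63.IsFibreProd.exists_homSet_lift
      ArtFun.Art.isFibreProd_dual2 (inv v) (inv w) (Groth.Agent.H63.homSet_base_ext _ _)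
    refine ⟨z, hz1, hz2, ?_⟩
    apply hinj
    rw [hinv, ξ.natural]
    have e := ArtFun.TangentStr.add_eq (F := F) (ξ.app (ArtFun.Art.dual2 Λ k) z)
    rw [← ξ.natural ArtFun.Art.pr₁ z, ← ξ.natural ArtFun.Art.pr₂ z, hz1, hz2, hinv, hinv] at e
    exact e.symm
  have hsmul : ∀ (c : k) (v : ArtFun.TangentSpace F) (a : R.carrier),
      dl (inv (c • v)) a = c * dl (inv v) a := by
    intro c v a
    rw [hA]
    rfl
  have hadd : ∀ (v w : ArtFun.TangentSpace F) (a : R.carrier),
      dl (inv (v + w)) a = dl (inv v) a + dl (inv w) a := by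
    intro v w a
    obtain ⟨z, h1, h2, h3⟩ := hB v w
    rw [← h1, ← h2, ← h3]
    rfl
  let L : ArtFun.TangentSpace F →ₗ[k] (Fin n → k) :=
    { toFun := fun v i => dl (inv v) (lift (s i))
      map_add' := fun v w => funext fun i => hadd v w (lift (s i))
      map_smul' := fun c v => funext fun i => hsmul c v (lift (s i)) }
  have hL : Function.Injective L := by
    intro v w hvw
    have hi : ∀ i, dl (inv v) (lift (s i)) = dl (inv w) (lift (s i)) := fun i => congrFun hvw i
    have hφ : inv v = inv w := by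
      apply Subtype.ext
      apply AlgHom.ext
      intro a
      refine TrivSqZeroExt.ext ?_ ?_
      · rw [hfst, hfst]
      · obtain ⟨c, x, hx, rfl⟩ := hdecomp a
        show dl (inv v) _ = dl (inv w) _
        rw [map_add, map_add, hkill _ x hx, hkill _ x hx, map_sum, map_sum]
        congr 1
        refine Finset.sum_congr rfl fun i _ => ?_
        rw [map_smul, map_smul, hi i]
    rw [← hinv v, ← hinv w, hφ]
  exact Module.Finite.of_injective L hL

/-- For functors, if a functor F on Artinian local Λ-algebras with residue field k with F(k) a point has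
a versal family over a complete local Noetherian ring with residue field k which is bijective on
tangent spaces (a hull), then F satisfies (S1) and (S2) and has finite-dimensional tangent space. -/
theorem result {Λ : Type u} {k : Type u} [CommRing Λ] [Field k] [Algebra Λ k]
    [IsNoetherianRing Λ] [Module.Finite Λ k]
    (F : ArtFun.Art Λ k ⥤ Type v) [ArtFun.TangentStr F] (h0 : ArtFun.H0 F) (h : ArtFun.HasHull F) :
    ArtFun.S1 F ∧ ArtFun.Heps F ∧ ArtFun.Hfin F := by
  obtain ⟨H⟩ := h
  have hS1 : ArtFun.S1 F :=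
    Groth.Agent.S12727.result F h0 ⟨⟨H.ring, H.family, H.miniversal.1⟩⟩
  exact ⟨hS1, heps_of_hull F h0 H hS1, hfin_of_hull F H⟩

end Groth.Agent.S12731
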