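import Groth.Statements.S12735
import Groth.Agent.S12714
import Groth.Agent.H63.ArtDer
import Groth.Agent.H63.ArtHom
import Groth.Agent.H63.ArtLim
import Groth.Agent.H63.ArtPro

set_option autoImplicit false
universe u v
open CategoryTheory
open ArtFun

namespace Groth.Agent.S12735

/-- Let U be a prorepresentable functor on Artinian local Λ-algebras with residue field k and φ : U → U
an endomorphism of functors which is bijective on the tangent space U(k[ε]). Then φ is an
isomorphism: every component is bijective. -/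
theorem result {Λ : Type u} {k : Type u} [CommRing Λ] [Field k] [Algebra Λ k]
    [IsNoetherianRing Λ] [Module.Finite Λ k]
    {U : ArtFun.Art Λ k ⥤ Type v} (hU : ArtFun.IsProrepresentable U)
    (φ : U ⟶ U) (hd : Function.Bijective (ArtFun.TangentSpace.map φ)) (A : ArtFun.Art Λ k) :
    Function.Bijective (φ.app A) := by
  classical
  obtain ⟨⟨R, ξ, huniv⟩⟩ := hU
  have hex : ∀ n, ∃ ψ : ArtFun.HomSet R.carrier R.res (R.trunc n),
      ξ.app _ ψ = φ.app _ (ξ.app _ (R.truncHom n)) := fun n => (huniv _).2 _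
  choose ψs hψs using hex
  have hcompat : ∀ n, ArtFun.HomSet.map (R.truncMap n) (ψs (n + 1)) = ψs n := by
    intro n
    apply (huniv _).1
    rw [ξ.natural, hψs, hψs, ← NatTrans.naturality_apply φ (R.truncMap n), ← ξ.natural,
      ArtFun.CRing.truncMap_truncHom]
  obtain ⟨g, hg, hgn⟩ := Groth.Agent.H63.exists_algHom_of_compatible R R.res ψs hcompat
  let pre : ∀ {A : ArtFun.Art Λ k}, ArtFun.HomSet R.carrier R.res A →
      ArtFun.HomSet R.carrier R.res A :=
    fun ψ => ⟨ψ.1.comp g, by rw [← AlgHom.comp_assoc, ψ.2, hg]⟩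
  have hK : ∀ (A : ArtFun.Art Λ k) (ψ : ArtFun.HomSet R.carrier R.res A),
      φ.app A (ξ.app A ψ) = ξ.app A (pre ψ) := by
    intro A ψ
    obtain ⟨n, ψ', rfl⟩ := Groth.Agent.H63.exists_factor_trunc R ψ
    have e : pre (ArtFun.HomSet.map ψ' (R.truncHom n)) = ArtFun.HomSet.map ψ' (ψs n) := by
      apply Subtype.ext
      apply AlgHom.ext
      intro r
      show ψ' (Ideal.Quotient.mk (R.mpow n) (g r)) = ψ' ((ψs n).1 r)
      rw [hgn n r]
    rw [e, ξ.natural ψ' (ψs n), hψs, ← NatTrans.naturality_apply φ ψ', ← ξ.natural]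
  have hφd : Function.Injective (φ.app (ArtFun.Art.dual Λ k)) := hd.1
  have hgs : Function.Surjective g := by
    have hTFAE := Groth.Agent.S12714.result R R g hg
    apply (hTFAE.out 1 0).1
    by_contra hne
    obtain ⟨θ, hθ1, hθ2, s, hs⟩ := Groth.Agent.H63.exists_tangent_of_ne
      R.res (ArtFun.CRing.mem_maximalIdeal_iff R) R.res R.res_surjective
      g hg (IsLocalRing.maximalIdeal R.carrier)
      (fun r hr => (ArtFun.CRing.mem_maximalIdeal_iff R r).2 hr) hne
      (Ideal.map_le_iff_le_comap.2 (ArtFun.CRing.maximalIdeal_le_comap g hg))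
    let φ₁ : ArtFun.HomSet R.carrier R.res (ArtFun.Art.dual Λ k) :=
      ⟨θ, AlgHom.ext fun s => hθ1 s⟩
    let φ₂ : ArtFun.HomSet R.carrier R.res (ArtFun.Art.dual Λ k) :=
      ArtFun.HomSet.map ArtFun.Art.baseToDual (Groth.Agent.H63.homSetBase R.res)
    have hpre : pre φ₁ = pre φ₂ := by
      apply Subtype.ext
      apply AlgHom.ext
      intro r
      refine TrivSqZeroExt.ext ?_ ?_
      · exact hθ1 (g r)
      · exact hθ2 r
    have h12 : φ₁ = φ₂ := by
      apply (huniv _).1
      apply hφd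
      rw [hK, hK, hpre]
    apply hs
    have h3 := congrArg
      (fun (t : ArtFun.HomSet R.carrier R.res (ArtFun.Art.dual Λ k)) =>
        TrivSqZeroExt.snd (t.1 s)) h12
    exact h3
  have hgi : Function.Injective g :=
    Groth.Agent.H63.injective_of_surjective_ringEnd g.toRingHom hgs
  let e : R.carrier ≃ₐ[Λ] R.carrier := AlgEquiv.ofBijective g ⟨hgi, hgs⟩
  constructor
  · intro x₁ x₂ hx
    obtain ⟨ψ₁, rfl⟩ := (huniv A).2 x₁
    obtain ⟨ψ₂, rfl⟩ := (huniv A).2 x₂
    rw [hK, hK] at hx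
    have h1 : pre ψ₁ = pre ψ₂ := (huniv A).1 hx
    have h2 : ψ₁ = ψ₂ := by
      apply Subtype.ext
      apply AlgHom.ext
      intro r
      obtain ⟨r', rfl⟩ := hgs r
      exact congrArg (fun (t : ArtFun.HomSet R.carrier R.res A) => t.1 r') h1
    rw [h2]
  · intro y
    obtain ⟨ψ, rfl⟩ := (huniv A).2 y
    have hres : A.res.comp (ψ.1.comp (e.symm : R.carrier →ₐ[Λ] R.carrier)) = R.res := by
      apply AlgHom.ext
      intro r
      obtain ⟨r', rfl⟩ := hgs r
      show A.res (ψ.1 (e.symm (e r'))) = R.res (g r')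
      rw [AlgEquiv.symm_apply_apply]
      have h1 : A.res (ψ.1 r') = R.res r' := DFunLike.congr_fun ψ.2 r'
      have h2 : R.res (g r') = R.res r' := DFunLike.congr_fun hg r'
      rw [h1, h2]
    refine ⟨ξ.app A ⟨ψ.1.comp (e.symm : R.carrier →ₐ[Λ] R.carrier), hres⟩, ?_⟩
    rw [hK]
    congr 1
    apply Subtype.ext
    apply AlgHom.ext
    intro r
    show ψ.1 (e.symm (g r)) = ψ.1 r
    have h3 : e.symm (g r) = r := e.symm_apply_apply r
    rw [h3]

end Groth.Agent.S12735
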