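import Groth.Statements.S12737
import Groth.Agent.H63.ArtCompl
import Mathlib.RingTheory.FiniteType
import Mathlib.RingTheory.Polynomial.Basic

set_option autoImplicit false
universe u v
open CategoryTheory
open ArtFun

namespace Groth.Agent.S12737

/-- For Λ Noetherian with a finite map to the field k there is a complete local Noetherian Λ-algebra R
with residue field k whose functor h_R on Artinian local Λ-algebras with residue field k is smooth.
(The published lemma moreover pins the cotangent data of R — the first homology of the naive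
cotangent complex of k over Λ equals m_R/m_R² and Ω_{R/Λ} ⊗ k = Ω_{k/Λ}; only the existence of a
smooth R is stated here.) -/
theorem result {Λ : Type u} {k : Type u} [CommRing Λ] [Field k] [Algebra Λ k]
    [IsNoetherianRing Λ] [Module.Finite Λ k] :
    ∃ R : ArtFun.CRing Λ k, ArtFun.IsSmoothFunctor (ArtFun.hR R.carrier R.res) := by
  classical
  obtain ⟨n, aug, haug⟩ := Algebra.FiniteType.iff_quotient_mvPolynomial''.1
    (inferInstance : Algebra.FiniteType Λ k)
  refine ⟨Groth.Agent.H63.complCRing aug haug, ?_⟩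
  intro B A μ hμ φ
  have hex : ∀ i : Fin n, ∃ b : B,
      μ b = φ.1 (AdicCompletion.of (RingHom.ker aug) (MvPolynomial (Fin n) Λ) (MvPolynomial.X i)) :=
    fun i => hμ _
  choose b hb using hex
  let g : MvPolynomial (Fin n) Λ →ₐ[Λ] B := MvPolynomial.aeval b
  let ofAlg : MvPolynomial (Fin n) Λ →ₐ[Λ] (Groth.Agent.H63.complCRing aug haug).carrier :=
    { toRingHom := algebraMap (MvPolynomial (Fin n) Λ) (Groth.Agent.H63.Compl aug)
      commutes' := fun l => rfl }
  have hofAlg : ∀ p, ofAlg p = AdicCompletion.of (RingHom.ker aug) (MvPolynomial (Fin n) Λ) p :=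
    fun p => rfl
  have hμg : μ.toAlgHom.comp g = φ.1.comp ofAlg := by
    apply MvPolynomial.algHom_ext
    intro i
    show μ (MvPolynomial.aeval b (MvPolynomial.X i)) = φ.1 (ofAlg (MvPolynomial.X i))
    rw [MvPolynomial.aeval_X, hb, hofAlg]
  have hμg' : ∀ p, μ (g p) =
      φ.1 (AdicCompletion.of (RingHom.ker aug) (MvPolynomial (Fin n) Λ) p) := fun p =>
    DFunLike.congr_fun hμg p
  have hg : B.res.comp g = aug := by
    apply AlgHom.ext
    intro p
    show B.res (g p) = aug p
    rw [← ArtFun.Art.res_app μ (g p), hμg']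
    have h2 : A.res (φ.1 (AdicCompletion.of (RingHom.ker aug) (MvPolynomial (Fin n) Λ) p)) =
        (Groth.Agent.H63.complCRing aug haug).res
          (AdicCompletion.of (RingHom.ker aug) (MvPolynomial (Fin n) Λ) p) :=
      DFunLike.congr_fun φ.2 _
    rw [h2]
    exact Groth.Agent.H63.complRes_of aug p
  obtain ⟨ψ, hψ⟩ := Groth.Agent.H63.compl_exists_hom aug haug g hg
  refine ⟨ψ, ?_⟩
  show ArtFun.HomSet.map μ ψ = φ
  apply Groth.Agent.H63.compl_hom_ext aug haug
  intro p
  show μ (ψ.1 (AdicCompletion.of (RingHom.ker aug) (MvPolynomial (Fin n) Λ) p)) =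
    φ.1 (AdicCompletion.of (RingHom.ker aug) (MvPolynomial (Fin n) Λ) p)
  rw [hψ, hμg']

end Groth.Agent.S12737
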