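import Groth.Statements.S12740
import Groth.Agent.H63.ArtCoprod

set_option autoImplicit false
universe u v
open CategoryTheory
open ArtFun

namespace Groth.Agent.S12740

/-- The category of complete local Noetherian Λ-algebras with residue field k (Λ Noetherian, Λ → k
finite; morphisms the Λ-algebra maps compatible with the augmentations) admits pushouts: for R → S₁
and R → S₂ there is an object P with morphisms from S₁ and S₂ agreeing on R, through which every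
compatible pair S₁ → T ← S₂ agreeing on R factors by a unique morphism P → T. -/
theorem result {Λ : Type u} {k : Type u} [CommRing Λ] [Field k] [Algebra Λ k]
    [IsNoetherianRing Λ] [Module.Finite Λ k]
    (R S₁ S₂ : ArtFun.CRing Λ k)
    (f₁ : R.carrier →ₐ[Λ] S₁.carrier) (hf₁ : S₁.res.comp f₁ = R.res)
    (f₂ : R.carrier →ₐ[Λ] S₂.carrier) (hf₂ : S₂.res.comp f₂ = R.res) :
    ∃ (P : ArtFun.CRing Λ k) (i₁ : S₁.carrier →ₐ[Λ] P.carrier) (i₂ : S₂.carrier →ₐ[Λ] P.carrier),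
      P.res.comp i₁ = S₁.res ∧ P.res.comp i₂ = S₂.res ∧ i₁.comp f₁ = i₂.comp f₂ ∧
      ∀ (T : ArtFun.CRing Λ k) (g₁ : S₁.carrier →ₐ[Λ] T.carrier) (g₂ : S₂.carrier →ₐ[Λ] T.carrier),
        T.res.comp g₁ = S₁.res → T.res.comp g₂ = S₂.res → g₁.comp f₁ = g₂.comp f₂ →
          ∃! h : P.carrier →ₐ[Λ] T.carrier, T.res.comp h = P.res ∧ h.comp i₁ = g₁ ∧ h.comp i₂ = g₂ := by
  classical
  -- the coproduct of `S₁` and `S₂`
  let C : CRing Λ k := Groth.Agent.H63.coprod S₁ S₂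
  let j₁ : S₁.carrier →ₐ[Λ] C.carrier := Groth.Agent.H63.coprodInl S₁ S₂
  let j₂ : S₂.carrier →ₐ[Λ] C.carrier := Groth.Agent.H63.coprodInr S₁ S₂
  have hj₁ : C.res.comp j₁ = S₁.res := Groth.Agent.H63.coprod_res_inl S₁ S₂
  have hj₂ : C.res.comp j₂ = S₂.res := Groth.Agent.H63.coprod_res_inr S₁ S₂
  -- the ideal identifying the two images of `R`
  let K : Ideal C.carrier := Ideal.span (Set.range (fun r : R.carrier => j₁ (f₁ r) - j₂ (f₂ r)))
  have hK : K ≤ IsLocalRing.maximalIdeal C.carrier := by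
    rw [Ideal.span_le]
    rintro _ ⟨r, rfl⟩
    show j₁ (f₁ r) - j₂ (f₂ r) ∈ IsLocalRing.maximalIdeal C.carrier
    rw [C.mem_maximalIdeal_iff, map_sub]
    have e1 : C.res (j₁ (f₁ r)) = S₁.res (f₁ r) := AlgHom.congr_fun hj₁ (f₁ r)
    have e2 : C.res (j₂ (f₂ r)) = S₂.res (f₂ r) := AlgHom.congr_fun hj₂ (f₂ r)
    have e3 : S₁.res (f₁ r) = R.res r := AlgHom.congr_fun hf₁ r
    have e4 : S₂.res (f₂ r) = R.res r := AlgHom.congr_fun hf₂ r
    rw [e1, e2, e3, e4, sub_self]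
  let Q : CRing Λ k := Groth.Agent.H61.CRingQ.quot C K hK
  let q : C.carrier →ₐ[Λ] Q.carrier := Groth.Agent.H61.CRingQ.mk C K hK
  have hq : Q.res.comp q = C.res := Groth.Agent.H61.CRingQ.res_comp_mk C K hK
  have hqs : Function.Surjective q := Groth.Agent.H61.CRingQ.mk_surjective C K hK
  refine ⟨Q, q.comp j₁, q.comp j₂, ?_, ?_, ?_, ?_⟩
  · rw [← AlgHom.comp_assoc, hq, hj₁]
  · rw [← AlgHom.comp_assoc, hq, hj₂]
  · apply AlgHom.ext
    intro r
    show q (j₁ (f₁ r)) = q (j₂ (f₂ r))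
    have h0 : q (j₁ (f₁ r) - j₂ (f₂ r)) = 0 :=
      (Groth.Agent.H61.CRingQ.mk_eq_zero_iff C K hK _).2 (Ideal.subset_span ⟨r, rfl⟩)
    rw [map_sub, sub_eq_zero] at h0
    exact h0
  · intro T g₁ g₂ hg₁ hg₂ hgf
    obtain ⟨h₀, ⟨h₀res, h₀l, h₀r⟩, h₀uniq⟩ :=
      Groth.Agent.H63.coprod_universal S₁ S₂ T g₁ g₂ hg₁ hg₂
    have hkill : ∀ a ∈ K, h₀ a = 0 := by
      intro a ha
      have hle : K ≤ RingHom.ker h₀ := by
        rw [Ideal.span_le]
        rintro _ ⟨r, rfl⟩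
        show j₁ (f₁ r) - j₂ (f₂ r) ∈ RingHom.ker h₀
        rw [RingHom.mem_ker, map_sub, sub_eq_zero]
        have e1 : h₀ (j₁ (f₁ r)) = g₁ (f₁ r) := AlgHom.congr_fun h₀l (f₁ r)
        have e2 : h₀ (j₂ (f₂ r)) = g₂ (f₂ r) := AlgHom.congr_fun h₀r (f₂ r)
        rw [e1, e2]
        exact AlgHom.congr_fun hgf r
      exact RingHom.mem_ker.1 (hle ha)
    let h : Q.carrier →ₐ[Λ] T.carrier := Groth.Agent.H61.CRingQ.lift C K hK h₀ hkill
    have hhq : h.comp q = h₀ := Groth.Agent.H61.CRingQ.lift_comp_mk C K hK h₀ hkill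
    refine ⟨h, ⟨?_, ?_, ?_⟩, ?_⟩
    · apply AlgHom.ext
      intro x
      obtain ⟨c, rfl⟩ := hqs x
      show T.res (h (q c)) = Q.res (q c)
      have e1 : h (q c) = h₀ c := AlgHom.congr_fun hhq c
      have e2 : T.res (h₀ c) = C.res c := AlgHom.congr_fun h₀res c
      have e3 : Q.res (q c) = C.res c := AlgHom.congr_fun hq c
      rw [e1, e2, e3]
    · rw [← AlgHom.comp_assoc, hhq, h₀l]
    · rw [← AlgHom.comp_assoc, hhq, h₀r]
    · rintro h' ⟨h'res, h'l, h'r⟩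
      have e : h'.comp q = h₀ := by
        apply h₀uniq
        refine ⟨?_, ?_, ?_⟩
        · rw [← AlgHom.comp_assoc, h'res, hq]
        · rw [AlgHom.comp_assoc]; exact h'l
        · rw [AlgHom.comp_assoc]; exact h'r
      apply AlgHom.ext
      intro x
      obtain ⟨c, rfl⟩ := hqs x
      have e1 : h' (q c) = h₀ c := AlgHom.congr_fun e c
      have e2 : h (q c) = h₀ c := AlgHom.congr_fun hhq c
      rw [e1, e2]

end Groth.Agent.S12740
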