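import Groth.Statements.S12744
import Groth.Agent.H63.ArtLim

set_option autoImplicit false
universe u v
open CategoryTheory
open ArtFun

namespace Groth.Agent.S12744

/-- For functors, if η : F → G is a smooth morphism of functors on Artinian local Λ-algebras with
residue field k and F(k) → G(k) is surjective, then for every complete local Noetherian R with
residue field k the induced map on formal elements over R (compatible systems of elements over the
truncations R/m^(n+1)) is surjective. -/
theorem result {Λ : Type u} {k : Type u} [CommRing Λ] [Field k] [Algebra Λ k]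
    [IsNoetherianRing Λ] [Module.Finite Λ k]
    {F G : ArtFun.Art Λ k ⥤ Type v} (η : F ⟶ G) (hη : ArtFun.IsSmooth η)
    (h0 : Function.Surjective (η.app (ArtFun.Art.base Λ k))) (R : ArtFun.CRing Λ k) :
    Function.Surjective (fun u : ArtFun.FormalElt F R => u.map η) := by
  classical
  intro w
  have step0 : ∃ x : F.obj (R.trunc 0), η.app _ x = w.elt 0 := by
    obtain ⟨x₀, hx₀⟩ := h0 (G.map (ArtFun.Art.toBase (R.trunc 0)) (w.elt 0))
    obtain ⟨z, hz⟩ := hη (ArtFun.Art.toBase (R.trunc 0)) (R.trunc 0).res_surjective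
      ⟨(x₀, w.elt 0), hx₀⟩
    exact ⟨z, congrArg (fun t => t.1.2) hz⟩
  have stepS : ∀ n (x : F.obj (R.trunc n)), η.app _ x = w.elt n →
      ∃ x' : F.obj (R.trunc (n + 1)), F.map (R.truncMap n) x' = x ∧ η.app _ x' = w.elt (n + 1) := by
    intro n x hx
    obtain ⟨z, hz⟩ := hη (R.truncMap n) (Groth.Agent.H63.truncMap_surjective R n)
      ⟨(x, w.elt (n + 1)), by rw [w.compat]; exact hx⟩
    exact ⟨z, congrArg (fun t => t.1.1) hz, congrArg (fun t => t.1.2) hz⟩
  let seq : (n : ℕ) → {x : F.obj (R.trunc n) // η.app _ x = w.elt n} :=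
    fun n => Nat.rec ⟨step0.choose, step0.choose_spec⟩
      (fun n p => ⟨(stepS n p.1 p.2).choose, (stepS n p.1 p.2).choose_spec.2⟩) n
  have hseq : ∀ n, F.map (R.truncMap n) (seq (n + 1)).1 = (seq n).1 :=
    fun n => (stepS n (seq n).1 (seq n).2).choose_spec.1
  refine ⟨⟨fun n => (seq n).1, hseq⟩, ?_⟩
  apply ArtFun.FormalElt.ext'
  intro n
  exact (seq n).2

end Groth.Agent.S12744
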