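import Groth.Statements.S12746
import Groth.Agent.H63.ArtPull

set_option autoImplicit false
universe u v
open CategoryTheory
open ArtFun

namespace Groth.Agent.S12746

/-- For functors, if F, G, H are functors on Artinian local Λ-algebras with residue field k satisfying
(RS) and f : H → F, g : G → F are morphisms, then the fibre product functor H ×_F G satisfies (RS). -/
theorem result {Λ : Type u} {k : Type u} [CommRing Λ] [Field k] [Algebra Λ k]
    [IsNoetherianRing Λ] [Module.Finite Λ k]
    {F G H : ArtFun.Art Λ k ⥤ Type v} (f : H ⟶ F) (g : G ⟶ F)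
    (hF : (∀ ⦃B A A' A'' : ArtFun.Art Λ k⦄ (p' : B ⟶ A') (p'' : B ⟶ A'') (f' : A' ⟶ A) (f'' : A'' ⟶ A)
        (h : ArtFun.Art.IsFibreProd p' p'' f' f''), Function.Surjective f'' → Function.Bijective (ArtFun.cmp F h))) (hG : (∀ ⦃B A A' A'' : ArtFun.Art Λ k⦄ (p' : B ⟶ A') (p'' : B ⟶ A'') (f' : A' ⟶ A) (f'' : A'' ⟶ A)
        (h : ArtFun.Art.IsFibreProd p' p'' f' f''), Function.Surjective f'' → Function.Bijective (ArtFun.cmp G h))) (hH : (∀ ⦃B A A' A'' : ArtFun.Art Λ k⦄ (p' : B ⟶ A') (p'' : B ⟶ A'') (f' : A' ⟶ A) (f'' : A'' ⟶ A)
        (h : ArtFun.Art.IsFibreProd p' p'' f' f''), Function.Surjective f'' → Function.Bijective (ArtFun.cmp H h))) :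
    (∀ ⦃B A A' A'' : ArtFun.Art Λ k⦄ (p' : B ⟶ A') (p'' : B ⟶ A'') (f' : A' ⟶ A) (f'' : A'' ⟶ A)
        (h : ArtFun.Art.IsFibreProd p' p'' f' f''), Function.Surjective f'' → Function.Bijective (ArtFun.cmp (CategoryTheory.Limits.pullback f g) h)) := by
  intro B A A' A'' p' p'' f' f'' h hf''
  constructor
  · intro x y hxy
    have h1 : (Limits.pullback f g).map p' x = (Limits.pullback f g).map p' y :=
      congrArg (fun t => t.1.1) hxy
    have h2 : (Limits.pullback f g).map p'' x = (Limits.pullback f g).map p'' y :=
      congrArg (fun t => t.1.2) hxy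
    apply Groth.Agent.H63.pullback_ext f g B
    · apply (hH p' p'' f' f'' h hf'').1
      apply ArtFun.FibProd.ext
      · change H.map p' ((Limits.pullback.fst f g).app B x) =
          H.map p' ((Limits.pullback.fst f g).app B y)
        rw [← NatTrans.naturality_apply (Limits.pullback.fst f g) p' x,
          ← NatTrans.naturality_apply (Limits.pullback.fst f g) p' y, h1]
      · change H.map p'' ((Limits.pullback.fst f g).app B x) =
          H.map p'' ((Limits.pullback.fst f g).app B y)
        rw [← NatTrans.naturality_apply (Limits.pullback.fst f g) p'' x,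
          ← NatTrans.naturality_apply (Limits.pullback.fst f g) p'' y, h2]
    · apply (hG p' p'' f' f'' h hf'').1
      apply ArtFun.FibProd.ext
      · change G.map p' ((Limits.pullback.snd f g).app B x) =
          G.map p' ((Limits.pullback.snd f g).app B y)
        rw [← NatTrans.naturality_apply (Limits.pullback.snd f g) p' x,
          ← NatTrans.naturality_apply (Limits.pullback.snd f g) p' y, h1]
      · change G.map p'' ((Limits.pullback.snd f g).app B x) =
          G.map p'' ((Limits.pullback.snd f g).app B y)
        rw [← NatTrans.naturality_apply (Limits.pullback.snd f g) p'' x,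
          ← NatTrans.naturality_apply (Limits.pullback.snd f g) p'' y, h2]
  · intro w
    obtain ⟨⟨a', a''⟩, hw⟩ := w
    have hw' : (Limits.pullback f g).map f' a' = (Limits.pullback f g).map f'' a'' := hw
    have hHw : H.map f' ((Limits.pullback.fst f g).app A' a') =
        H.map f'' ((Limits.pullback.fst f g).app A'' a'') := by
      rw [← NatTrans.naturality_apply (Limits.pullback.fst f g) f' a',
        ← NatTrans.naturality_apply (Limits.pullback.fst f g) f'' a'', hw']
    have hGw : G.map f' ((Limits.pullback.snd f g).app A' a') =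
        G.map f'' ((Limits.pullback.snd f g).app A'' a'') := by
      rw [← NatTrans.naturality_apply (Limits.pullback.snd f g) f' a',
        ← NatTrans.naturality_apply (Limits.pullback.snd f g) f'' a'', hw']
    obtain ⟨a, ha⟩ := (hH p' p'' f' f'' h hf'').2
      ⟨((Limits.pullback.fst f g).app A' a', (Limits.pullback.fst f g).app A'' a''), hHw⟩
    obtain ⟨b, hb⟩ := (hG p' p'' f' f'' h hf'').2
      ⟨((Limits.pullback.snd f g).app A' a', (Limits.pullback.snd f g).app A'' a''), hGw⟩
    have ha1 : H.map p' a = (Limits.pullback.fst f g).app A' a' := congrArg (fun t => t.1.1) ha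
    have ha2 : H.map p'' a = (Limits.pullback.fst f g).app A'' a'' := congrArg (fun t => t.1.2) ha
    have hb1 : G.map p' b = (Limits.pullback.snd f g).app A' a' := congrArg (fun t => t.1.1) hb
    have hb2 : G.map p'' b = (Limits.pullback.snd f g).app A'' a'' := congrArg (fun t => t.1.2) hb
    have hab : f.app B a = g.app B b := by
      apply (hF p' p'' f' f'' h hf'').1
      apply ArtFun.FibProd.ext
      · change F.map p' (f.app B a) = F.map p' (g.app B b)
        rw [← NatTrans.naturality_apply f p' a, ← NatTrans.naturality_apply g p' b, ha1, hb1]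
        exact Groth.Agent.H63.pullback_condition_apply f g A' a'
      · change F.map p'' (f.app B a) = F.map p'' (g.app B b)
        rw [← NatTrans.naturality_apply f p'' a, ← NatTrans.naturality_apply g p'' b, ha2, hb2]
        exact Groth.Agent.H63.pullback_condition_apply f g A'' a''
    obtain ⟨z, hz1, hz2⟩ := Groth.Agent.H63.pullback_exists f g B a b hab
    refine ⟨z, ?_⟩
    apply ArtFun.FibProd.ext
    · change (Limits.pullback f g).map p' z = a'
      apply Groth.Agent.H63.pullback_ext f g A'
      · rw [NatTrans.naturality_apply (Limits.pullback.fst f g) p' z, hz1, ha1]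
      · rw [NatTrans.naturality_apply (Limits.pullback.snd f g) p' z, hz2, hb1]
    · change (Limits.pullback f g).map p'' z = a''
      apply Groth.Agent.H63.pullback_ext f g A''
      · rw [NatTrans.naturality_apply (Limits.pullback.fst f g) p'' z, hz1, ha2]
      · rw [NatTrans.naturality_apply (Limits.pullback.snd f g) p'' z, hz2, hb2]

end Groth.Agent.S12746
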