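import Groth.Statements.S12747
import Groth.Agent.H63.ArtPull
import Groth.Agent.H63.ArtRel

set_option autoImplicit false
universe u v
open CategoryTheory
open ArtFun

namespace Groth.Agent.S12747

/-- For functors, let H₁ → G, H₂ → G and q : G → F be morphisms of functors on Artinian local Λ-algebras
with residue field k where F and G are deformation functors (value at k a point, condition (RS)) and
q is injective on tangent spaces. Then the induced morphism H₁ ×_G H₂ → H₁ ×_F H₂ is smooth. (The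
published statement also assumes that infinitesimal automorphisms of G map onto those of F; for
functors that condition is empty.) -/
theorem result {Λ : Type u} {k : Type u} [CommRing Λ] [Field k] [Algebra Λ k]
    [IsNoetherianRing Λ] [Module.Finite Λ k]
    {F G H₁ H₂ : ArtFun.Art Λ k ⥤ Type v} (p₁ : H₁ ⟶ G) (p₂ : H₂ ⟶ G) (q : G ⟶ F)
    (hF0 : ArtFun.H0 F) (hF : (∀ ⦃B A A' A'' : ArtFun.Art Λ k⦄ (p' : B ⟶ A') (p'' : B ⟶ A'') (f' : A' ⟶ A) (f'' : A'' ⟶ A)
        (h : ArtFun.Art.IsFibreProd p' p'' f' f''), Function.Surjective f'' → Function.Bijective (ArtFun.cmp F h)))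
    (hG0 : ArtFun.H0 G) (hG : (∀ ⦃B A A' A'' : ArtFun.Art Λ k⦄ (p' : B ⟶ A') (p'' : B ⟶ A'') (f' : A' ⟶ A) (f'' : A'' ⟶ A)
        (h : ArtFun.Art.IsFibreProd p' p'' f' f''), Function.Surjective f'' → Function.Bijective (ArtFun.cmp G h)))
    (hq : Function.Injective (ArtFun.TangentSpace.map q)) :
    ArtFun.IsSmooth (CategoryTheory.Limits.pullback.map p₁ p₂ (p₁ ≫ q) (p₂ ≫ q) (𝟙 H₁) (𝟙 H₂) q
      (CategoryTheory.Category.id_comp _).symm (CategoryTheory.Category.id_comp _).symm) := by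
  obtain ⟨m, hm⟩ : ∃ m : Limits.pullback p₁ p₂ ⟶ Limits.pullback (p₁ ≫ q) (p₂ ≫ q),
      m = Limits.pullback.map p₁ p₂ (p₁ ≫ q) (p₂ ≫ q) (𝟙 H₁) (𝟙 H₂) q
        (Category.id_comp _).symm (Category.id_comp _).symm := ⟨_, rfl⟩
  rw [← hm]
  have hm1 : m ≫ Limits.pullback.fst (p₁ ≫ q) (p₂ ≫ q) = Limits.pullback.fst p₁ p₂ := by
    rw [hm]
    exact (Limits.pullback.lift_fst _ _ _).trans (Category.comp_id _)
  have hm2 : m ≫ Limits.pullback.snd (p₁ ≫ q) (p₂ ≫ q) = Limits.pullback.snd p₁ p₂ := by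
    rw [hm]
    exact (Limits.pullback.lift_snd _ _ _).trans (Category.comp_id _)
  clear hm
  have hm1' : ∀ (X : ArtFun.Art Λ k) (z : (Limits.pullback p₁ p₂).obj X),
      (Limits.pullback.fst (p₁ ≫ q) (p₂ ≫ q)).app X (m.app X z) =
        (Limits.pullback.fst p₁ p₂).app X z := by
    intro X z
    have h := congrArg (fun (η : Limits.pullback p₁ p₂ ⟶ H₁) => η.app X z) hm1
    exact h
  have hm2' : ∀ (X : ArtFun.Art Λ k) (z : (Limits.pullback p₁ p₂).obj X),
      (Limits.pullback.snd (p₁ ≫ q) (p₂ ≫ q)).app X (m.app X z) =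
        (Limits.pullback.snd p₁ p₂).app X z := by
    intro X z
    have h := congrArg (fun (η : Limits.pullback p₁ p₂ ⟶ H₂) => η.app X z) hm2
    exact h
  intro B A μ hμ w
  obtain ⟨⟨x, y⟩, hxy⟩ := w
  have hxy' : m.app A x = (Limits.pullback (p₁ ≫ q) (p₂ ≫ q)).map μ y := hxy
  have e1 : H₁.map μ ((Limits.pullback.fst (p₁ ≫ q) (p₂ ≫ q)).app B y) =
      (Limits.pullback.fst p₁ p₂).app A x := by
    rw [← NatTrans.naturality_apply (Limits.pullback.fst (p₁ ≫ q) (p₂ ≫ q)) μ y, ← hxy', hm1' A x]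
  have e2 : H₂.map μ ((Limits.pullback.snd (p₁ ≫ q) (p₂ ≫ q)).app B y) =
      (Limits.pullback.snd p₁ p₂).app A x := by
    rw [← NatTrans.naturality_apply (Limits.pullback.snd (p₁ ≫ q) (p₂ ≫ q)) μ y, ← hxy', hm2' A x]
  have hab : p₁.app B ((Limits.pullback.fst (p₁ ≫ q) (p₂ ≫ q)).app B y) =
      p₂.app B ((Limits.pullback.snd (p₁ ≫ q) (p₂ ≫ q)).app B y) := by
    apply Groth.Agent.H63.relCmp_injective hG hF q hq μ hμ
    apply Subtype.ext
    apply Prod.ext
    · change G.map μ (p₁.app B ((Limits.pullback.fst (p₁ ≫ q) (p₂ ≫ q)).app B y)) =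
        G.map μ (p₂.app B ((Limits.pullback.snd (p₁ ≫ q) (p₂ ≫ q)).app B y))
      rw [← NatTrans.naturality_apply p₁ μ ((Limits.pullback.fst (p₁ ≫ q) (p₂ ≫ q)).app B y),
        ← NatTrans.naturality_apply p₂ μ ((Limits.pullback.snd (p₁ ≫ q) (p₂ ≫ q)).app B y), e1, e2]
      exact Groth.Agent.H63.pullback_condition_apply p₁ p₂ A x
    · change q.app B (p₁.app B ((Limits.pullback.fst (p₁ ≫ q) (p₂ ≫ q)).app B y)) =
        q.app B (p₂.app B ((Limits.pullback.snd (p₁ ≫ q) (p₂ ≫ q)).app B y))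
      exact Groth.Agent.H63.pullback_condition_apply (p₁ ≫ q) (p₂ ≫ q) B y
  obtain ⟨z, hz1, hz2⟩ := Groth.Agent.H63.pullback_exists p₁ p₂ B _ _ hab
  refine ⟨z, ?_⟩
  apply Subtype.ext
  apply Prod.ext
  · change (Limits.pullback p₁ p₂).map μ z = x
    apply Groth.Agent.H63.pullback_ext p₁ p₂ A
    · rw [NatTrans.naturality_apply (Limits.pullback.fst p₁ p₂) μ z, hz1, e1]
    · rw [NatTrans.naturality_apply (Limits.pullback.snd p₁ p₂) μ z, hz2, e2]
  · change m.app B z = y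
    apply Groth.Agent.H63.pullback_ext (p₁ ≫ q) (p₂ ≫ q) B
    · rw [hm1' B z, hz1]
    · rw [hm2' B z, hz2]

end Groth.Agent.S12747
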