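import Groth.Statements.S12748
import Groth.Agent.S12714
import Groth.Agent.H63.ArtPS

set_option autoImplicit false
universe u v
open CategoryTheory
open ArtFun

namespace Groth.Agent.S12748

theorem ps_sub_C_mem {S : Type*} [CommRing S] (n : ℕ) (g : MvPowerSeries (Fin n) S) :
    g - MvPowerSeries.C (MvPowerSeries.constantCoeff g) ∈
      Ideal.span (Set.range (MvPowerSeries.X : Fin n → MvPowerSeries (Fin n) S)) := by
  have h1 := Groth.Agent.H61.PS.mem_span_X_pow_of_coeff_eq_zero 1
    (g - MvPowerSeries.C (MvPowerSeries.constantCoeff g)) (by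
      intro m hm
      have hm0 : m = 0 := (Finsupp.degree_eq_zero_iff m).1 (Nat.lt_one_iff.1 hm)
      rw [hm0, MvPowerSeries.coeff_zero_eq_constantCoeff_apply, map_sub,
        MvPowerSeries.constantCoeff_C, sub_self])
  rwa [pow_one] at h1

/-- Let R' → R be a morphism of complete local Noetherian Λ-algebras with residue field k with an
R'-algebra retraction ρ : R → R', so that R = R' ⊕ I for the ideal I = ker ρ; let x₁, …, x_r ∈ I map
to a basis of I/m_R I and let φ : R'[[X₁, …, X_r]] → R be an R'-algebra map sending X_i to x_i. If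
for all large n the induced map R'[[X]]/m^n → R/m_R^n has a left inverse — a Λ-algebra map g_n : R →
R'[[X]]/m^n with g_n ∘ φ equal to the quotient map — then φ is an isomorphism. -/
theorem result {Λ : Type u} {k : Type u} [CommRing Λ] [Field k] [Algebra Λ k]
    [IsNoetherianRing Λ] [Module.Finite Λ k]
    (R' R : ArtFun.CRing Λ k) [Algebra R'.carrier R.carrier] [IsScalarTower Λ R'.carrier R.carrier]
    (hc : R.res.comp (IsScalarTower.toAlgHom Λ R'.carrier R.carrier) = R'.res)
    (ρ : R.carrier →ₐ[R'.carrier] R'.carrier)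
    (r : ℕ) (x : Fin r → R.carrier) (hxI : ∀ i, ρ (x i) = 0)
    (hspan : Ideal.span (Set.range x) ⊔ IsLocalRing.maximalIdeal R.carrier * RingHom.ker ρ = RingHom.ker ρ)
    (hli : ∀ c : Fin r → R.carrier, (∑ i, c i * x i) ∈ IsLocalRing.maximalIdeal R.carrier * RingHom.ker ρ →
      ∀ i, c i ∈ IsLocalRing.maximalIdeal R.carrier)
    (φ : MvPowerSeries (Fin r) R'.carrier →ₐ[R'.carrier] R.carrier) (hφ : ∀ i, φ (MvPowerSeries.X i) = x i)
    (hinv : ∃ N : ℕ, ∀ n, N ≤ n →
      ∃ g : R.carrier →ₐ[Λ] (MvPowerSeries (Fin r) R'.carrier ⧸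
          IsLocalRing.maximalIdeal (MvPowerSeries (Fin r) R'.carrier) ^ n),
        ∀ s, g (φ s) = Ideal.Quotient.mk _ s) :
    Function.Bijective φ := by
  classical
  haveI := R'.isAdicComplete
  constructor
  · rw [injective_iff_map_eq_zero]
    intro s hs
    obtain ⟨N, hN⟩ := hinv
    have hmem : ∀ n, s ∈ IsLocalRing.maximalIdeal (MvPowerSeries (Fin r) R'.carrier) ^ n := by
      intro n
      obtain ⟨g, hg⟩ := hN (max n N) (le_max_right _ _)
      have h1 := hg s
      rw [hs, map_zero] at h1
      exact Ideal.pow_le_pow_right (le_max_left n N) (Ideal.Quotient.eq_zero_iff_mem.1 h1.symm)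
    have h2 : s ∈ (⨅ j, IsLocalRing.maximalIdeal (MvPowerSeries (Fin r) R'.carrier) ^ j :
        Ideal (MvPowerSeries (Fin r) R'.carrier)) := (Ideal.mem_iInf).2 hmem
    rw [Ideal.iInf_pow_eq_bot_of_isLocalRing _
      (IsLocalRing.maximalIdeal.isMaximal (MvPowerSeries (Fin r) R'.carrier)).ne_top] at h2
    exact Ideal.mem_bot.1 h2
  · let resT : MvPowerSeries (Fin r) R'.carrier →ₐ[Λ] k :=
      { toRingHom := (R'.res : R'.carrier →+* k).comp
          (MvPowerSeries.constantCoeff (σ := Fin r) (R := R'.carrier))
        commutes' := fun a => by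
          show R'.res (MvPowerSeries.constantCoeff
            (algebraMap Λ (MvPowerSeries (Fin r) R'.carrier) a)) = algebraMap Λ k a
          rw [MvPowerSeries.algebraMap_apply, MvPowerSeries.constantCoeff_C, AlgHom.commutes] }
    have hresT : ∀ s, resT s = R'.res (MvPowerSeries.constantCoeff s) := fun s => rfl
    let T : CRing Λ k :=
      { carrier := MvPowerSeries (Fin r) R'.carrier
        res := resT
        res_surjective := fun c => by
          obtain ⟨a, ha⟩ := R'.res_surjective c
          exact ⟨MvPowerSeries.C a, by rw [hresT, MvPowerSeries.constantCoeff_C, ha]⟩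
        isAdicComplete := Groth.Agent.H61.PS.isAdicComplete }
    have hρι : ∀ c : R'.carrier, ρ (algebraMap R'.carrier R.carrier c) = c := fun c => by
      rw [AlgHom.commutes]; rfl
    have hresι : ∀ c, R.res (algebraMap R'.carrier R.carrier c) = R'.res c := fun c =>
      AlgHom.congr_fun hc c
    have hker : RingHom.ker ρ ≤ IsLocalRing.maximalIdeal R.carrier := by
      apply IsLocalRing.le_maximalIdeal
      intro h
      have h1 : (1 : R.carrier) ∈ RingHom.ker ρ := by rw [h]; trivial
      rw [RingHom.mem_ker, map_one] at h1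
      exact one_ne_zero h1
    have hresρ : ∀ a, R'.res (ρ a) = R.res a := by
      intro a
      have h1 : a - algebraMap R'.carrier R.carrier (ρ a) ∈ RingHom.ker ρ := by
        rw [RingHom.mem_ker, map_sub, hρι, sub_self]
      have h2 := (R.mem_maximalIdeal_iff _).1 (hker h1)
      rw [map_sub, hresι, sub_eq_zero] at h2
      exact h2.symm
    have hφC : ∀ c : R'.carrier, φ (MvPowerSeries.C c) = algebraMap R'.carrier R.carrier c :=
      fun c => by rw [Groth.Agent.H63.C_eq_algebraMap, AlgHom.commutes]
    have hφX : Ideal.map φ (Ideal.span (Set.range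
        (MvPowerSeries.X : Fin r → MvPowerSeries (Fin r) R'.carrier))) ≤ RingHom.ker ρ := by
      rw [Ideal.map_span, Ideal.span_le]
      rintro _ ⟨_, ⟨i, rfl⟩, rfl⟩
      show φ (MvPowerSeries.X i) ∈ RingHom.ker ρ
      rw [hφ i, RingHom.mem_ker]
      exact hxI i
    let φΛ : T.carrier →ₐ[Λ] R.carrier := φ.restrictScalars Λ
    have hφΛ : ∀ s, φΛ s = φ s := fun s => rfl
    have hφres : R.res.comp φΛ = T.res := by
      apply AlgHom.ext
      intro s
      show R.res (φ s) = R'.res (MvPowerSeries.constantCoeff s)
      have h1 : φ (s - MvPowerSeries.C (MvPowerSeries.constantCoeff s)) ∈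
          IsLocalRing.maximalIdeal R.carrier :=
        hker (hφX (Ideal.mem_map_of_mem φ (ps_sub_C_mem r s)))
      have h2 := (R.mem_maximalIdeal_iff _).1 h1
      rw [map_sub, map_sub, hφC, hresι, sub_eq_zero] at h2
      exact h2
    have hφm : Ideal.map φΛ (IsLocalRing.maximalIdeal T.carrier) ≤
        IsLocalRing.maximalIdeal R.carrier := by
      rw [Ideal.map_le_iff_le_comap]
      intro t ht
      rw [Ideal.mem_comap, R.mem_maximalIdeal_iff]
      have h1 : R.res (φΛ t) = T.res t := AlgHom.congr_fun hφres t
      rw [h1]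
      exact (T.mem_maximalIdeal_iff t).1 ht
    have hsurj : Function.Surjective φΛ := by
      apply ((Groth.Agent.S12714.result T R φΛ hφres).out 0 1).2
      apply le_antisymm
      · exact sup_le hφm (Ideal.pow_le_self two_ne_zero)
      · intro a ha
        have h1 : a - algebraMap R'.carrier R.carrier (ρ a) ∈ RingHom.ker ρ := by
          rw [RingHom.mem_ker, map_sub, hρι, sub_self]
        have h2 : algebraMap R'.carrier R.carrier (ρ a) ∈
            Ideal.map φΛ (IsLocalRing.maximalIdeal T.carrier) := by
          rw [← hφC, ← hφΛ]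
          apply Ideal.mem_map_of_mem
          rw [T.mem_maximalIdeal_iff]
          show R'.res (MvPowerSeries.constantCoeff (MvPowerSeries.C (ρ a))) = 0
          rw [MvPowerSeries.constantCoeff_C, hresρ]
          exact (R.mem_maximalIdeal_iff a).1 ha
        have h3 : RingHom.ker ρ ≤ Ideal.map φΛ (IsLocalRing.maximalIdeal T.carrier) ⊔
            IsLocalRing.maximalIdeal R.carrier ^ 2 := by
          rw [← hspan]
          apply sup_le
          · rw [Ideal.span_le]
            rintro _ ⟨i, rfl⟩
            apply Ideal.mem_sup_left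
            rw [← hφ i, ← hφΛ]
            exact Ideal.mem_map_of_mem _ (Groth.Agent.H61.PS.X_mem_maximalIdeal i)
          · rw [pow_two]
            exact le_sup_of_le_right (Ideal.mul_mono_right hker)
        have e : a = algebraMap R'.carrier R.carrier (ρ a) +
            (a - algebraMap R'.carrier R.carrier (ρ a)) := by ring
        rw [e]
        exact Ideal.add_mem _ (Ideal.mem_sup_left h2) (h3 h1)
    exact hsurj

end Groth.Agent.S12748
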