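import Groth.Statements.S12750
import Groth.Agent.H63.ArtC

set_option autoImplicit false
universe u v
open CategoryTheory
open ArtFun ArtFun.Art

namespace Groth.Agent.S12750

/-- (1) ⇔ (3): let f : B → A be a morphism in the category of Artinian local Λ-algebras with residue
field k, and let q_B : B → B', q_A : A → A' be the quotients by m_Λ B + m_B² and m_Λ A + m_A² (m_Λ
the kernel of Λ → k), realised as surjective morphisms with these kernels, with f' : B' → A' the
induced morphism. Then f is an essential surjection — surjective, and every morphism g into B whose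
composite with f is surjective is itself surjective — if and only if f' is. (The intermediate
equivalence with the map B/m_B² → A/m_A² is the special case Λ-structure trivialised and follows by
applying this one twice.) -/
theorem result {Λ : Type u} {k : Type u} [CommRing Λ] [Field k] [Algebra Λ k]
    [IsNoetherianRing Λ] [Module.Finite Λ k]
    {A B A' B' : ArtFun.Art Λ k} (f : B ⟶ A)
    (qB : B ⟶ B') (hqB : Function.Surjective qB)
    (hkB : RingHom.ker qB.toAlgHom = Ideal.map (algebraMap Λ B) (RingHom.ker (algebraMap Λ k)) ⊔ IsLocalRing.maximalIdeal B ^ 2)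
    (qA : A ⟶ A') (hqA : Function.Surjective qA)
    (hkA : RingHom.ker qA.toAlgHom = Ideal.map (algebraMap Λ A) (RingHom.ker (algebraMap Λ k)) ⊔ IsLocalRing.maximalIdeal A ^ 2)
    (f' : B' ⟶ A') (hf' : qB ≫ f' = f ≫ qA) :
    (Function.Surjective f ∧ ∀ (C : ArtFun.Art Λ k) (g : C ⟶ B), Function.Surjective (g ≫ f) → Function.Surjective g) ↔ (Function.Surjective f' ∧ ∀ (C : ArtFun.Art Λ k) (g : C ⟶ B'), Function.Surjective (g ≫ f') → Function.Surjective g) := by
  have hsq : ∀ b : B, f' (qB b) = qA (f b) := fun b =>
    congrArg (fun (h : B ⟶ A') => h b) hf'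
  constructor
  · rintro ⟨hf, hess⟩
    refine ⟨?_, ?_⟩
    · intro a'
      obtain ⟨a, rfl⟩ := hqA a'
      obtain ⟨b, rfl⟩ := hf a
      exact ⟨qB b, hsq b⟩
    · intro C g hg
      have hP := Groth.Agent.H63.isFibreProd_fibreProd g qB hqB
      have hπ₁ : Function.Surjective (Groth.Agent.H63.fibreProdFst g qB hqB) :=
        Groth.Agent.H63.IsFibreProd.surjective_fst hP hqB
      have hw : ∀ x, g (Groth.Agent.H63.fibreProdFst g qB hqB x) =
          qB (Groth.Agent.H63.fibreProdSnd g qB hqB x) := fun x => hP.w_apply x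
      have hsurj : Function.Surjective (Groth.Agent.H63.fibreProdSnd g qB hqB ≫ f) := by
        apply Groth.Agent.H63.surjective_of_comp_relCotangent _ qA hkA
        intro a'
        obtain ⟨c, hc⟩ := hg a'
        have hc' : f' (g c) = a' := hc
        obtain ⟨x, rfl⟩ := hπ₁ c
        refine ⟨x, ?_⟩
        show qA (f (Groth.Agent.H63.fibreProdSnd g qB hqB x)) = a'
        rw [← hsq, ← hw, hc']
      have hπ₂ := hess _ _ hsurj
      intro b'
      obtain ⟨b, rfl⟩ := hqB b'
      obtain ⟨x, rfl⟩ := hπ₂ b
      exact ⟨_, hw x⟩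
  · rintro ⟨hf'surj, hess⟩
    refine ⟨?_, ?_⟩
    · apply Groth.Agent.H63.surjective_of_comp_relCotangent f qA hkA
      intro a'
      obtain ⟨b', rfl⟩ := hf'surj a'
      obtain ⟨b, rfl⟩ := hqB b'
      exact ⟨b, (hsq b).symm⟩
    · intro C g hg
      apply Groth.Agent.H63.surjective_of_comp_relCotangent g qB hkB
      apply hess C (g ≫ qB)
      intro a'
      obtain ⟨a, rfl⟩ := hqA a'
      obtain ⟨c, hc⟩ := hg a
      have hc' : f (g c) = a := hc
      refine ⟨c, ?_⟩
      show f' (qB (g c)) = qA a
      rw [hsq, hc']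

end Groth.Agent.S12750
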