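import Groth.Statements.S12751
import Groth.Agent.H63.ArtC
import Groth.Agent.H63.ArtDer

set_option autoImplicit false
universe u v
open CategoryTheory
open scoped TensorProduct
open ArtFun ArtFun.Art

namespace Groth.Agent.S12751

/-- A morphism f : B → A in the category of Artinian local Λ-algebras with residue field k is surjective
if and only if Ω_{B/Λ} ⊗_B k → Ω_{A/Λ} ⊗_A k is surjective; by right exactness of the sequence
Ω_{B/Λ} ⊗_B A → Ω_{A/Λ} → Ω_{A/B} → 0 this surjectivity is the vanishing of Ω_{A/B} ⊗_A k, which is
how it is written here (A a B-algebra through f, k an A-module through the augmentation). -/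
theorem result {Λ : Type u} {k : Type u} [CommRing Λ] [Field k] [Algebra Λ k]
    [IsNoetherianRing Λ] [Module.Finite Λ k]
    {A B : ArtFun.Art Λ k} (f : B ⟶ A) :
    letI : Algebra B A := f.toAlgHom.toRingHom.toAlgebra
    letI : Algebra A k := A.res.toRingHom.toAlgebra
    Function.Surjective f ↔ Subsingleton (k ⊗[A] Ω[A⁄B]) := by
  letI instBA : Algebra B A := f.toAlgHom.toRingHom.toAlgebra
  letI instAk : Algebra A k := A.res.toRingHom.toAlgebra
  show Function.Surjective f ↔ Subsingleton (k ⊗[A] Ω[A⁄B])
  constructor
  · intro hf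
    have hf' : Function.Surjective (algebraMap B A) := hf
    haveI : Subsingleton Ω[A⁄B] := KaehlerDifferential.subsingleton_of_surjective B A hf'
    have h0 : ∀ x : k ⊗[A] Ω[A⁄B], x = 0 := by
      intro x
      induction x using TensorProduct.induction_on with
      | zero => rfl
      | tmul c ω => rw [Subsingleton.elim ω 0, TensorProduct.tmul_zero]
      | add x y hx hy => rw [hx, hy, add_zero]
    exact ⟨fun x y => by rw [h0 x, h0 y]⟩
  · intro hsub
    by_contra hns
    have hne : Ideal.map f.toAlgHom (IsLocalRing.maximalIdeal B) ⊔ IsLocalRing.maximalIdeal A ^ 2 ≠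
        IsLocalRing.maximalIdeal A := fun h =>
      hns (((Groth.Agent.H63.art_surjective_tfae f).out 1 0).1 h)
    obtain ⟨θ, hfst, hvan, a₀, ha₀⟩ := Groth.Agent.H63.exists_tangent_of_ne (S := A) A.res
      (fun s => mem_maximalIdeal_iff A s) (R' := B) B.res B.res_surjective f.toAlgHom f.res_comp
      (IsLocalRing.maximalIdeal B) (fun r hr => (mem_maximalIdeal_iff B r).2 hr) hne
      (Groth.Agent.H63.map_maximalIdeal_le f)
    letI instBk : Algebra B k := ((algebraMap A k).comp (algebraMap B A)).toAlgebra
    haveI : IsScalarTower B A k := IsScalarTower.of_algebraMap_eq (fun _ => rfl)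
    have hmul : ∀ a a' : A,
        (θ (a * a')).snd = A.res a * (θ a').snd + A.res a' * (θ a).snd := by
      intro a a'
      have e : (θ a * θ a').snd = (θ a).fst * (θ a').snd + (θ a).snd * (θ a').fst := rfl
      rw [map_mul, e, hfst, hfst]
      ring
    let lin : A →ₗ[B] k :=
      { toFun := fun a => (θ a).snd
        map_add' := fun a a' => by
          rw [map_add]
          rfl
        map_smul' := fun b a => by
          have hv : (θ (algebraMap B A b)).snd = 0 := hvan b
          rw [Algebra.smul_def, hmul, hv, mul_zero, add_zero, RingHom.id_apply, Algebra.smul_def]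
          rfl }
    have hleib : ∀ a a' : A, lin (a * a') = a • lin a' + a' • lin a := by
      intro a a'
      show (θ (a * a')).snd = a • (θ a').snd + a' • (θ a).snd
      rw [hmul, Algebra.smul_def, Algebra.smul_def]
      rfl
    let D : Derivation B A k := Derivation.mk' lin hleib
    have hD : D a₀ ≠ 0 := ha₀
    let T : k ⊗[A] Ω[A⁄B] →ₗ[A] k :=
      TensorProduct.lift ((LinearMap.mul A k).compl₂ D.liftKaehlerDifferential)
    have hT : T ((1 : k) ⊗ₜ[A] KaehlerDifferential.D B A a₀) = D a₀ := by
      show TensorProduct.lift ((LinearMap.mul A k).compl₂ D.liftKaehlerDifferential)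
        ((1 : k) ⊗ₜ[A] KaehlerDifferential.D B A a₀) = D a₀
      rw [TensorProduct.lift.tmul, LinearMap.compl₂_apply, LinearMap.mul_apply', one_mul,
        Derivation.liftKaehlerDifferential_comp_D]
    apply hD
    rw [← hT, Subsingleton.elim ((1 : k) ⊗ₜ[A] KaehlerDifferential.D B A a₀) 0, map_zero]

end Groth.Agent.S12751
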