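import Mathlib
import Groth.Statements.S12754

set_option autoImplicit false
universe u
open CategoryTheory
open ArtFun

namespace Groth.Agent.S12754

noncomputable section
open TensorProduct MonoidalCategory

variable {K : Type u} [Field K]

/-- morphism of f.g. modules from a linear map -/
def mk {V W : FGModuleCat.{u} K} (g : V →ₗ[K] W) : V ⟶ W :=
  ObjectProperty.homMk (ModuleCat.ofHom g)

lemma mk_add {V W : FGModuleCat.{u} K} (g₁ g₂ : V →ₗ[K] W) :
    mk (V := V) (W := W) (g₁ + g₂) = mk g₁ + mk g₂ := by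
  apply FGModuleCat.hom_ext
  rfl

lemma mk_smul {V W : FGModuleCat.{u} K} (c : K) (g : V →ₗ[K] W) :
    mk (V := V) (W := W) (c • g) = c • mk g := by
  apply FGModuleCat.hom_ext
  rfl

lemma mk_comp {U V W : FGModuleCat.{u} K} (f : U →ₗ[K] V) (g : V →ₗ[K] W) :
    mk (V := U) (W := W) (g ∘ₗ f) = mk (V := U) (W := V) f ≫ mk (V := V) (W := W) g := by
  apply FGModuleCat.hom_ext
  rfl

lemma mk_id (V : FGModuleCat.{u} K) : mk (V := V) (W := V) (LinearMap.id : V →ₗ[K] V) = 𝟙 V := by
  apply FGModuleCat.hom_ext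
  rfl

lemma mk_hom_hom {V W : FGModuleCat.{u} K} (g : V ⟶ W) : mk (V := V) (W := W) g.hom.hom = g := by
  apply FGModuleCat.hom_ext
  rfl

/-- the unit object -/
abbrev KK (K : Type u) [Field K] : FGModuleCat.{u} K := FGModuleCat.of K K

variable (L : FGModuleCat.{u} K ⥤ ModuleCat.{u} K) [L.Additive] [Functor.Linear K L]

/-- the action of `L` on linear maps, as a linear map -/
def LmL (V W : FGModuleCat.{u} K) : (V →ₗ[K] W) →ₗ[K] (L.obj V →ₗ[K] L.obj W) where
  toFun g := (L.map (mk (V := V) (W := W) g)).hom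
  map_add' g₁ g₂ := by
    rw [mk_add, L.map_add, ModuleCat.hom_add]
  map_smul' c g := by
    simp only [RingHom.id_apply]
    rw [mk_smul, L.map_smul, ModuleCat.hom_smul]

lemma LmL_apply {V W : FGModuleCat.{u} K} (g : V →ₗ[K] W) :
    LmL L V W g = (L.map (mk (V := V) (W := W) g)).hom := rfl

lemma LmL_comp {U V W : FGModuleCat.{u} K} (f : U →ₗ[K] V) (g : V →ₗ[K] W) :
    LmL L U W (g ∘ₗ f) = LmL L V W g ∘ₗ LmL L U V f := by
  simp only [LmL_apply]
  rw [mk_comp, L.map_comp, ModuleCat.hom_comp]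

lemma LmL_id (V : FGModuleCat.{u} K) : LmL L V V LinearMap.id = LinearMap.id := by
  rw [LmL_apply, mk_id, L.map_id, ModuleCat.hom_id]

/-- `1 ↦ v` -/
def fv (V : FGModuleCat.{u} K) (v : V) : (KK K) →ₗ[K] V :=
  LinearMap.toSpanSingleton K V v

lemma fv_apply (V : FGModuleCat.{u} K) (v : V) (c : K) : fv V v c = c • v := rfl

lemma fv_add (V : FGModuleCat.{u} K) (v w : V) : fv V (v + w) = fv V v + fv V w :=
  LinearMap.ext fun (c : K) => smul_add c v w

lemma fv_smul (V : FGModuleCat.{u} K) (a : K) (v : V) : fv V (a • v) = a • fv V v :=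
  LinearMap.ext fun (c : K) => smul_comm c a v

lemma fv_map {V W : FGModuleCat.{u} K} (g : V ⟶ W) (v : V) :
    fv W (g.hom.hom v) = g.hom.hom ∘ₗ fv V v :=
  LinearMap.ext fun (c : K) => (map_smul g.hom.hom c v).symm

/-- the comparison map `L(K) ⊗ V → L(V)` -/
def tau (V : FGModuleCat.{u} K) : (L.obj (KK K)) ⊗[K] V →ₗ[K] L.obj V :=
  TensorProduct.lift (LinearMap.mk₂ K (fun x v => LmL L (KK K) V (fv V v) x)
    (fun x₁ x₂ v => map_add _ x₁ x₂)
    (fun c x v => map_smul _ c x)
    (fun x v₁ v₂ => by rw [fv_add, map_add]; rfl)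
    (fun c x v => by rw [fv_smul, map_smul]; rfl))

lemma tau_tmul (V : FGModuleCat.{u} K) (x : L.obj (KK K)) (v : V) :
    tau L V (x ⊗ₜ[K] v) = LmL L (KK K) V (fv V v) x := rfl

/-- inverse of `tau`, built from a basis -/
def sigma (V : FGModuleCat.{u} K) : L.obj V →ₗ[K] (L.obj (KK K)) ⊗[K] V :=
  ∑ i, ((TensorProduct.mk K (L.obj (KK K)) V).flip (Module.finBasis K V i)) ∘ₗ
    (LmL L V (KK K) ((Module.finBasis K V).coord i))

lemma sigma_apply (V : FGModuleCat.{u} K) (y : L.obj V) :
    sigma L V y = ∑ i, (LmL L V (KK K) ((Module.finBasis K V).coord i) y) ⊗ₜ[K]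
      (Module.finBasis K V i) := by
  simp only [sigma, LinearMap.sum_apply, LinearMap.comp_apply, LinearMap.flip_apply,
    TensorProduct.mk_apply]

lemma tau_sigma (V : FGModuleCat.{u} K) (y : L.obj V) : tau L V (sigma L V y) = y := by
  rw [sigma_apply, map_sum]
  simp only [tau_tmul]
  have h : ∀ i, LmL L (KK K) V (fv V (Module.finBasis K V i))
      (LmL L V (KK K) ((Module.finBasis K V).coord i) y) =
      LmL L V V (fv V (Module.finBasis K V i) ∘ₗ (Module.finBasis K V).coord i) y := by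
    intro i; rw [LmL_comp]; rfl
  simp only [h]
  rw [← LinearMap.sum_apply, ← map_sum]
  have h2 : ∑ i, fv V (Module.finBasis K V i) ∘ₗ (Module.finBasis K V).coord i =
      LinearMap.id := by
    apply LinearMap.ext; intro v
    rw [LinearMap.sum_apply]
    simp only [LinearMap.comp_apply, fv_apply, Module.Basis.coord_apply]
    exact (Module.finBasis K V).sum_repr v
  rw [h2, LmL_id]; rfl

lemma sigma_tau (V : FGModuleCat.{u} K) (x : L.obj (KK K)) (v : V) :
    sigma L V (tau L V (x ⊗ₜ[K] v)) = x ⊗ₜ[K] v := by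
  rw [tau_tmul, sigma_apply]
  have h : ∀ i, LmL L V (KK K) ((Module.finBasis K V).coord i) (LmL L (KK K) V (fv V v) x) =
      ((Module.finBasis K V).repr v i) • x := by
    intro i
    have h3 : (Module.finBasis K V).coord i ∘ₗ fv V v =
        ((Module.finBasis K V).repr v i) • (LinearMap.id : (KK K) →ₗ[K] (KK K)) := by
      apply LinearMap.ext; intro (c : K)
      show (Module.finBasis K V).coord i (c • v) = (Module.finBasis K V).repr v i • c
      rw [map_smul, Module.Basis.coord_apply, smul_eq_mul, smul_eq_mul, mul_comm]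
    rw [← LinearMap.comp_apply, ← LmL_comp, h3, map_smul, LmL_id]; rfl
  simp only [h]
  conv_rhs => rw [← (Module.finBasis K V).sum_repr v, TensorProduct.tmul_sum]
  refine Finset.sum_congr rfl (fun i _ => ?_)
  rw [TensorProduct.smul_tmul]

/-- the comparison equivalence -/
def equiv (V : FGModuleCat.{u} K) : (L.obj (KK K)) ⊗[K] V ≃ₗ[K] L.obj V :=
  LinearEquiv.ofLinearMap (tau L V) (sigma L V)
    (LinearMap.ext (tau_sigma L V))
    (TensorProduct.ext' (sigma_tau L V))

lemma tau_natural {V W : FGModuleCat.{u} K} (g : V ⟶ W) :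
    tau L W ∘ₗ (LinearMap.lTensor (L.obj (KK K)) g.hom.hom) = (L.map g).hom ∘ₗ tau L V := by
  apply TensorProduct.ext'
  intro x v
  show tau L W (x ⊗ₜ[K] (g.hom.hom v)) = (L.map g).hom (tau L V (x ⊗ₜ[K] v))
  rw [tau_tmul, tau_tmul, fv_map, LmL_comp, LinearMap.comp_apply, LmL_apply L g.hom.hom,
    mk_hom_hom]

end

/-- A K-linear functor L from finite-dimensional K-vector spaces to K-vector spaces (K a field) is
isomorphic to the functor V ↦ L(K) ⊗_K V. (Existence of an isomorphism of functors, which is how the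
published statement reads; the natural choice sends x ⊗ v to L(f_v)(x) with f_v : K → V, 1 ↦ v.) -/
theorem result (K : Type u) [Field K]
    (L : FGModuleCat.{u} K ⥤ ModuleCat.{u} K) [L.Additive] [Functor.Linear K L] :
    Nonempty (L ≅ (ModuleCat.isFG.{u} K).ι ⋙ MonoidalCategory.tensorLeft (L.obj (FGModuleCat.of K K))) := by
  have e : ((ModuleCat.isFG.{u} K).ι ⋙
      MonoidalCategory.tensorLeft (L.obj (FGModuleCat.of K K))) ≅ L :=
    NatIso.ofComponents (fun V => (equiv L V).toModuleIso) (fun {V W} g => by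
      apply ModuleCat.hom_ext
      exact tau_natural L g)
  exact ⟨e.symm⟩

end Groth.Agent.S12754
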