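import Groth.Statements.S12755

set_option autoImplicit false
universe u v
open CategoryTheory
open ArtFun

namespace Groth.Agent.S12755

/-- For functors on Artinian local Λ-algebras with residue field k, the composite of two smooth
morphisms φ : F → G and ψ : G → H is smooth. -/
theorem result {Λ : Type u} {k : Type u} [CommRing Λ] [Field k] [Algebra Λ k]
    [IsNoetherianRing Λ] [Module.Finite Λ k]
    {F G H : ArtFun.Art Λ k ⥤ Type v} (φ : F ⟶ G) (ψ : G ⟶ H)
    (hφ : ArtFun.IsSmooth φ) (hψ : ArtFun.IsSmooth ψ) : ArtFun.IsSmooth (φ ≫ ψ) := by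
  intro B A μ hμ y
  obtain ⟨⟨x, h⟩, hx⟩ := y
  have hx' : ψ.app A (φ.app A x) = H.map μ h := hx
  obtain ⟨g, hg⟩ := hψ μ hμ ⟨(φ.app A x, h), hx'⟩
  have hg1 : G.map μ g = φ.app A x := congrArg (fun t => t.1.1) hg
  have hg2 : ψ.app B g = h := congrArg (fun t => t.1.2) hg
  obtain ⟨z, hz⟩ := hφ μ hμ ⟨(x, g), hg1.symm⟩
  have hz1 : F.map μ z = x := congrArg (fun t => t.1.1) hz
  have hz2 : φ.app B z = g := congrArg (fun t => t.1.2) hz
  refine ⟨z, Subtype.ext (Prod.ext hz1 ?_)⟩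
  change ψ.app B (φ.app B z) = h
  rw [hz2, hg2]

end Groth.Agent.S12755
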