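import Mathlib
import Groth.Statements.S1276
-- import your own Groth.Agent.* helpers here

set_option autoImplicit false
universe u
open FlatMor

namespace Groth.Agent.S1276

open TensorProduct

/-- For a field `k` over `R` and a finite `R`-module `M`: `k ⊗ M ≠ 0` iff the kernel of `R → k`
is in the support of `M`. -/
theorem nontrivial_tensor_field_iff {R : Type u} [CommRing R] {k : Type u} [Field k] [Algebra R k]
    (M : Type u) [AddCommGroup M] [Module R M] [Module.Finite R M]
    (y : PrimeSpectrum R) (hy : RingHom.ker (algebraMap R k) = y.asIdeal) :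
    Nontrivial (k ⊗[R] M) ↔ y ∈ Module.support R M := by
  have hunit : y.asIdeal.primeCompl ≤ (IsUnit.submonoid k).comap (algebraMap R k) := by
    intro r hr
    rw [Submonoid.mem_comap, IsUnit.mem_submonoid_iff]
    refine IsUnit.mk0 _ (fun h0 => (Ideal.mem_primeCompl_iff.1 hr) ?_)
    rw [← hy]; exact (RingHom.mem_ker).2 h0
  let g : y.asIdeal.ResidueField →+* k :=
    Ideal.ResidueField.lift y.asIdeal (algebraMap R k) hy.ge hunit
  letI : Algebra y.asIdeal.ResidueField k := g.toAlgebra
  haveI : IsScalarTower R y.asIdeal.ResidueField k :=
    IsScalarTower.of_algebraMap_eq fun r =>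
      (Ideal.ResidueField.lift_algebraMap y.asIdeal _ hy.ge hunit r).symm
  let e := TensorProduct.AlgebraTensorModule.cancelBaseChange R y.asIdeal.ResidueField k k M
  rw [Module.mem_support_iff_nontrivial_residueField_tensorProduct, ← e.nontrivial_congr]
  exact Module.FaithfullyFlat.nontrivial_tensorProduct_iff_right y.asIdeal.ResidueField k

/-- The support of the base change of a finite module is the preimage of the support. -/
theorem mem_support_baseChange_iff {R S : Type u} [CommRing R] [CommRing S] [Algebra R S]
    (M : Type u) [AddCommGroup M] [Module R M] [Module.Finite R M] (x : PrimeSpectrum S) :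
    x ∈ Module.support S (S ⊗[R] M) ↔
      PrimeSpectrum.comap (algebraMap R S) x ∈ Module.support R M := by
  have hker : RingHom.ker (algebraMap R x.asIdeal.ResidueField) =
      (PrimeSpectrum.comap (algebraMap R S) x).asIdeal := by
    rw [IsScalarTower.algebraMap_eq R S x.asIdeal.ResidueField, ← RingHom.comap_ker,
      Ideal.ker_algebraMap_residueField]
    rfl
  rw [← nontrivial_tensor_field_iff (k := x.asIdeal.ResidueField) M _ hker,
    Module.mem_support_iff_nontrivial_residueField_tensorProduct]
  exact (TensorProduct.AlgebraTensorModule.cancelBaseChange R S x.asIdeal.ResidueField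
    x.asIdeal.ResidueField M).nontrivial_congr

attribute [local instance] Algebra.TensorProduct.rightAlgebra

/-- Let B be a finite type A-algebra, N a finite B-module and p a prime of A. Then there is a finitely
generated ideal J of B annihilating N (so N is a module on the finitely presented closed subscheme
V(J) of Spec B) such that a point of the fibre Spec(κ(p) ⊗ B) lies in V(J) if and only if it lies in
the support of the fibre module of N. -/
theorem result {A B : Type u} [CommRing A] [CommRing B] [Algebra A B] [Algebra.FiniteType A B]
    (N : Type u) [AddCommGroup N] [Module B N] [Module A N] [IsScalarTower A B N] [Module.Finite B N] (p : Ideal A) [p.IsPrime] :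
    ∃ J : Ideal B, J.FG ∧ J ≤ Module.annihilator B N ∧
      ∀ x : PrimeSpectrum (p.Fiber B), FlatCA.fiberIdeal p J ≤ x.asIdeal ↔ x ∈ Module.support (p.Fiber B) (FlatCA.fiberMod p B N) := by
  classical
  let f : B →+* p.Fiber B :=
    (Algebra.TensorProduct.includeRight (R := A) (A := p.ResidueField) (B := B)).toRingHom
  haveI : Algebra.FiniteType p.ResidueField (p.Fiber B) := inferInstance
  haveI : IsNoetherianRing (p.Fiber B) :=
    Algebra.FiniteType.isNoetherianRing p.ResidueField (p.Fiber B)
  have hfg' : (Submodule.span (p.Fiber B) (f '' ((Module.annihilator B N : Ideal B) : Set B))).FG :=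
    IsNoetherian.noetherian _
  obtain ⟨s', hs'sub, hs'eq⟩ := (Submodule.fg_span_iff_fg_span_finset_subset _).1 hfg'
  obtain ⟨T, hTsub, hTimg⟩ := Finset.subset_set_image_iff.1 hs'sub
  refine ⟨Ideal.span (T : Set B), ⟨T, rfl⟩, Ideal.span_le.2 hTsub, fun x => ?_⟩
  have hJ : FlatCA.fiberIdeal p (Ideal.span (T : Set B)) = (Module.annihilator B N).map f := by
    show (Ideal.span (T : Set B)).map f = (Module.annihilator B N).map f
    rw [Ideal.map_span, ← Finset.coe_image, hTimg]
    exact hs'eq.symm
  rw [hJ]
  show _ ↔ x ∈ Module.support (p.Fiber B) ((p.Fiber B) ⊗[B] N)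
  rw [mem_support_baseChange_iff, Module.support_eq_zeroLocus, PrimeSpectrum.mem_zeroLocus,
    Ideal.map_le_iff_le_comap]
  exact Iff.rfl

end Groth.Agent.S1276
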