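import Groth.Statements.S12769
import Groth.Agent.H32.Fp2
import Groth.Agent.H32.RepStack
import Groth.Agent.H32.PshStack
import Groth.Agent.H32.Repr
import Groth.Agent.H84.StackEquiv

set_option autoImplicit false
open CategoryTheory AlgebraicGeometry
universe u
open AlgSt

namespace Groth.Agent.S12769

/-- Let `f : 𝒳 ⟶ 𝒵` and `g : 𝒴 ⟶ 𝒵` be 1-morphisms of categories fibred in groupoids over `(Sch/S)`.
Suppose `𝒴` is a stack in groupoids (fppf topology) and `f` is representable by algebraic spaces;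
then `𝒳 ×_𝒵 𝒴` is a stack in groupoids. -/
theorem result {S : Scheme.{u}} {𝒳 𝒴 𝒵 : AlgSt.Cat S}
    (h𝒳 : FibCat.IsFibGrpd 𝒳.p) (h𝒵 : FibCat.IsFibGrpd 𝒵.p) (h𝒴 : Stk.IsStack (QuotSh.J Scheme.fppfPrecoverage S) 𝒴)
    (f : 𝒳 ⥤ᵇ 𝒵) (g : 𝒴 ⥤ᵇ 𝒵) (hf : AlgSt.RepByAlgSp1 f) :
    Stk.IsStack (QuotSh.J Scheme.fppfPrecoverage S) (FibCat.fp f g) := by
  have h1 : Stk.IsStack (QuotSh.J Scheme.fppfPrecoverage S) (FibCat.fp g f) := by
    refine Groth.Agent.H32.RepStack.isStack_of_fp_isStack _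
      (Groth.Agent.H32.Repr.fp_isFibGrpd g f h𝒴.1 h𝒳 h𝒵) h𝒴 (FibCat.fpFst g f) (fun U y' => ?_)
    obtain ⟨F, e, he⟩ := hf U (BasedFunctor.comp y' g)
    have hst : Stk.IsStack (QuotSh.J Scheme.fppfPrecoverage S) (AlgSt.ofSp F.obj) :=
      Groth.Agent.H32.PshStack.isStack_of_isSheaf _
        ((isSheaf_iff_isSheaf_of_type _ _).mp F.obj.property)
    have h2 := Groth.Agent.H84.isStack_of_isEquivOver _ e he hst
    exact Groth.Agent.H84.isStack_of_isEquivOver _ _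
      (Groth.Agent.H32.Fp2.paste_isEquivOver y' g f) h2
  exact Groth.Agent.H84.isStack_of_isEquivOver _ _ (Groth.Agent.H32.Fp2.swap_isEquivOver g f) h1

end Groth.Agent.S12769
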