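import Groth.Statements.S1277
import Groth.Agent.H57.FlatAbove2

set_option autoImplicit false
universe u
open FlatMor

namespace Groth.Agent.S1277
open TensorProduct

open IsLocalRing in
/-- Let A be a local ring, A → B a local homomorphism of local rings, B → C a flat local homomorphism of
local rings, M a B-module and N = M ⊗_B C. For every local homomorphism of local rings A → A', with
base changes B' = B ⊗_A A', M', C' = C ⊗_A A', N' (any models): M' is flat over A' at every prime of
B' containing 𝔪_{A'}B' + 𝔪_B B' if and only if N' is flat over A' at every prime of C' containing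
𝔪_{A'}C' + 𝔪_C C'. -/
theorem result {A B C : Type u} [CommRing A] [IsLocalRing A] [CommRing B] [IsLocalRing B] [CommRing C] [IsLocalRing C]
    [Algebra A B] [IsLocalHom (algebraMap A B)] [Algebra B C] [IsLocalHom (algebraMap B C)] [Algebra A C] [IsScalarTower A B C] [Module.Flat B C]
    (M : Type u) [AddCommGroup M] [Module B M] (N : Type u) [AddCommGroup N] [Module C N] [Module B N] [IsScalarTower B C N]
    (g : M →ₗ[B] N) (hg : IsBaseChange C g)
    (A' : Type u) [CommRing A'] [IsLocalRing A'] [Algebra A A'] [IsLocalHom (algebraMap A A')]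
    (B' M' : Type u) [CommRing B'] [Algebra B B'] [Algebra A' B'] [Algebra A B'] [IsScalarTower A B B'] [IsScalarTower A A' B']
        [Algebra.IsPushout A B A' B']
        [AddCommGroup M'] [Module B' M'] [Module B M'] [IsScalarTower B B' M'] [Module A' M'] [IsScalarTower A' B' M']
        (fB : M →ₗ[B] M') (hfB : IsBaseChange B' fB)
    (C' N' : Type u) [CommRing C'] [Algebra C C'] [Algebra A' C'] [Algebra A C'] [IsScalarTower A C C'] [IsScalarTower A A' C']
        [Algebra.IsPushout A C A' C']
        [AddCommGroup N'] [Module C' N'] [Module C N'] [IsScalarTower C C' N'] [Module A' N'] [IsScalarTower A' C' N']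
        (fC : N →ₗ[C] N') (hfC : IsBaseChange C' fC) :
    FlatCA.FlatAboveClosedPoints B A' B' M' ↔ FlatCA.FlatAboveClosedPoints C A' C' N' := by
  classical
  -- the comparison map `B' → C'`
  let fBC : B →ₐ[A] C' := (IsScalarTower.toAlgHom A C C').comp (IsScalarTower.toAlgHom A B C)
  let gA : A' →ₐ[A] C' := IsScalarTower.toAlgHom A A' C'
  let ρ : B' →ₐ[A] C' := Algebra.pushoutDesc B' fBC gA (fun x y => mul_comm _ _)
  have hρB : ∀ b : B, ρ (algebraMap B B' b) = algebraMap C C' (algebraMap B C b) := fun b => by
    simp [ρ, fBC]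
  have hρA : ∀ a : A', ρ (algebraMap A' B' a) = algebraMap A' C' a := fun a => by
    simp [ρ, gA]
  letI algB'C' : Algebra B' C' := ρ.toRingHom.toAlgebra
  letI algBC' : Algebra B C' := ((algebraMap C C').comp (algebraMap B C)).toAlgebra
  haveI : IsScalarTower A' B' C' := IsScalarTower.of_algebraMap_eq (fun a => (hρA a).symm)
  haveI : IsScalarTower B C C' := IsScalarTower.of_algebraMap_eq (fun b => rfl)
  haveI : IsScalarTower B B' C' := IsScalarTower.of_algebraMap_eq (fun b => (hρB b).symm)
  haveI : IsScalarTower A B' C' := IsScalarTower.of_algebraMap_eq (fun a => (ρ.commutes a).symm)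
  -- module structures on `N'`
  letI modB'N' : Module B' N' := Module.compHom N' (algebraMap B' C')
  letI modBN' : Module B N' := Module.compHom N' (algebraMap B C')
  haveI : IsScalarTower B' C' N' := IsScalarTower.of_algebraMap_smul (fun _ _ => rfl)
  haveI : IsScalarTower B C' N' := IsScalarTower.of_algebraMap_smul (fun _ _ => rfl)
  haveI : IsScalarTower B C N' :=
    IsScalarTower.of_algebraMap_smul (fun b n => (algebraMap_smul C' (algebraMap B C b) n).symm)
  haveI : IsScalarTower B B' N' := IsScalarTower.of_algebraMap_smul (fun b n => by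
    show ρ (algebraMap B B' b) • n = algebraMap C C' (algebraMap B C b) • n
    rw [hρB])
  haveI : IsScalarTower A' B' N' := IsScalarTower.of_algebraMap_smul (fun a n => by
    show ρ (algebraMap A' B' a) • n = a • n
    rw [hρA, algebraMap_smul])
  -- `C'` is flat over `B'`
  haveI hpo1 : Algebra.IsPushout B C B' C' :=
    (Algebra.IsPushout.comp_iff A B A' (S' := B') (T := C) (T' := C')).mp inferInstance
  haveI hpo2 : Algebra.IsPushout B B' C C' := Algebra.IsPushout.symm hpo1
  haveI : Module.Flat B' C' := Module.Flat.isBaseChange B B' C C' hpo2.out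
  -- `N'` is the base change of `M'` along `B' → C'`
  let ψ : M' →ₗ[B'] N' := hfB.lift ((fC.restrictScalars B).comp g)
  have hc : IsBaseChange C' ((ψ.restrictScalars B) ∘ₗ fB) := by
    rw [show (ψ.restrictScalars B) ∘ₗ fB = (fC.restrictScalars B).comp g from hfB.lift_comp _]
    exact IsBaseChange.comp hg hfC
  have hψ : IsBaseChange C' ψ := IsBaseChange.of_comp hfB hc
  -- the two ideals
  have hmapIB : ((IsLocalRing.maximalIdeal A').map (algebraMap A' B') ⊔
      (IsLocalRing.maximalIdeal B).map (algebraMap B B')).map (algebraMap B' C') =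
      (IsLocalRing.maximalIdeal A').map (algebraMap A' C') ⊔
      (IsLocalRing.maximalIdeal B).map ((algebraMap C C').comp (algebraMap B C)) := by
    rw [Ideal.map_sup, Ideal.map_map, Ideal.map_map]
    congr 2
    · exact (IsScalarTower.algebraMap_eq A' B' C').symm
    · exact RingHom.ext hρB
  have h1 : ((IsLocalRing.maximalIdeal A').map (algebraMap A' B') ⊔
      (IsLocalRing.maximalIdeal B).map (algebraMap B B')).map (algebraMap B' C') ≤
      (IsLocalRing.maximalIdeal A').map (algebraMap A' C') ⊔
      (IsLocalRing.maximalIdeal C).map (algebraMap C C') := by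
    rw [hmapIB]
    refine sup_le_sup le_rfl ?_
    rw [← Ideal.map_map]
    exact Ideal.map_mono (((IsLocalRing.local_hom_TFAE (algebraMap B C)).out 0 2).mp
      ‹IsLocalHom (algebraMap B C)›)
  have h3 : ∀ (q : Ideal B') [q.IsPrime],
      (IsLocalRing.maximalIdeal A').map (algebraMap A' B') ⊔
      (IsLocalRing.maximalIdeal B).map (algebraMap B B') ≤ q →
      q.map (algebraMap B' C') ⊔ ((IsLocalRing.maximalIdeal A').map (algebraMap A' C') ⊔
      (IsLocalRing.maximalIdeal C).map (algebraMap C C')) ≠ ⊤ := by
    intro q _ hq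
    have hmB : (IsLocalRing.maximalIdeal B).map (algebraMap B B') ≤ q := le_sup_right.trans hq
    have hmA : (IsLocalRing.maximalIdeal A').map (algebraMap A' B') ≤ q := le_sup_left.trans hq
    haveI hlo : q.LiesOver (IsLocalRing.maximalIdeal B) := ⟨by
      refine (IsLocalRing.maximalIdeal.isMaximal B).eq_of_le ?_ ?_
      · exact Ideal.IsPrime.ne_top (Ideal.comap_isPrime _ q)
      · exact Ideal.map_le_iff_le_comap.mp hmB⟩
    letI algkD : Algebra (IsLocalRing.ResidueField B) (B' ⧸ q) :=
      Ideal.Quotient.algebraOfLiesOver q (IsLocalRing.maximalIdeal B)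
    haveI : IsScalarTower B (IsLocalRing.ResidueField B) (B' ⧸ q) :=
      Ideal.Quotient.isScalarTower_of_liesOver B q (IsLocalRing.maximalIdeal B)
    haveI : Nontrivial ((IsLocalRing.ResidueField C) ⊗[IsLocalRing.ResidueField B] (B' ⧸ q)) :=
      Algebra.TensorProduct.nontrivial_of_algebraMap_injective_of_flat_left _ _ _
        (algebraMap (IsLocalRing.ResidueField B) (B' ⧸ q)).injective
    let f : C →ₐ[B] (IsLocalRing.ResidueField C) ⊗[IsLocalRing.ResidueField B] (B' ⧸ q) :=
      (Algebra.TensorProduct.includeLeft : IsLocalRing.ResidueField C →ₐ[B]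
        (IsLocalRing.ResidueField C) ⊗[IsLocalRing.ResidueField B] (B' ⧸ q)).comp
        (IsScalarTower.toAlgHom B C (IsLocalRing.ResidueField C))
    let g' : B' →ₐ[B] (IsLocalRing.ResidueField C) ⊗[IsLocalRing.ResidueField B] (B' ⧸ q) :=
      ((Algebra.TensorProduct.includeRight : (B' ⧸ q) →ₐ[IsLocalRing.ResidueField B]
        (IsLocalRing.ResidueField C) ⊗[IsLocalRing.ResidueField B] (B' ⧸ q)).restrictScalars B).comp
        (Ideal.Quotient.mkₐ B q)
    let χ : C' →ₐ[B] (IsLocalRing.ResidueField C) ⊗[IsLocalRing.ResidueField B] (B' ⧸ q) :=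
      Algebra.pushoutDesc C' f g' (fun _ _ => mul_comm _ _)
    have hχ1 : ∀ b' : B', χ (algebraMap B' C' b') = 1 ⊗ₜ (Ideal.Quotient.mk q b') := fun b' => by
      simp [χ, g']
    have hχ2 : ∀ c : C, χ (algebraMap C C' c) =
        (algebraMap C (IsLocalRing.ResidueField C) c) ⊗ₜ 1 := fun c => by
      simp [χ, f]
    intro htop
    have hle : q.map (algebraMap B' C') ⊔ ((IsLocalRing.maximalIdeal A').map (algebraMap A' C') ⊔
        (IsLocalRing.maximalIdeal C).map (algebraMap C C')) ≤ RingHom.ker χ.toRingHom := by
      have hqker : q.map (algebraMap B' C') ≤ RingHom.ker χ.toRingHom := by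
        rw [Ideal.map_le_iff_le_comap]
        intro b hb
        rw [Ideal.mem_comap, RingHom.mem_ker]
        show χ (algebraMap B' C' b) = 0
        rw [hχ1, Ideal.Quotient.eq_zero_iff_mem.mpr hb, TensorProduct.tmul_zero]
      refine sup_le hqker (sup_le ?_ ?_)
      · refine le_trans ?_ hqker
        rw [IsScalarTower.algebraMap_eq A' B' C', ← Ideal.map_map]
        exact Ideal.map_mono hmA
      · rw [Ideal.map_le_iff_le_comap]
        intro c hc
        rw [Ideal.mem_comap, RingHom.mem_ker]
        show χ (algebraMap C C' c) = 0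
        rw [hχ2, IsLocalRing.ResidueField.algebraMap_eq,
          (IsLocalRing.residue_eq_zero_iff c).mpr hc, TensorProduct.zero_tmul]
    rw [htop, top_le_iff] at hle
    exact RingHom.ker_ne_top χ.toRingHom hle
  unfold FlatCA.FlatAboveClosedPoints
  constructor
  · intro h r _ hr
    exact Groth.Agent.H57.flatAbove_of_flatAbove_base_flat M' N' ψ hψ _ _ h1
      (fun q _ hq => h q hq) r hr
  · intro h q _ hq
    exact Groth.Agent.H57.flatAbove_base_of_flatAbove_flat M' N' ψ hψ _ _ h3
      (fun r _ hr => h r hr) q hq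

end Groth.Agent.S1277
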