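import Groth.Statements.S12771
import Groth.Agent.H32.AlgStackEquiv

set_option autoImplicit false
open CategoryTheory AlgebraicGeometry
universe u
open AlgSt

namespace Groth.Agent.S12771

/-- If `𝒳` and `𝒴` are categories over `(Sch/S)` which are equivalent over `(Sch/S)`, then `𝒳` is a
Deligne-Mumford stack over `S` if and only if `𝒴` is. -/
theorem result {S : Scheme.{u}} {𝒳 𝒴 : AlgSt.Cat S}
    (e : 𝒳 ⥤ᵇ 𝒴) (he : FibCat.IsEquivOver e) :
    AlgSt.IsDM Scheme.fppfPrecoverage 𝒳 ↔ AlgSt.IsDM Scheme.fppfPrecoverage 𝒴 := by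
  obtain ⟨e', he', -, -⟩ := Groth.Agent.H32.Fp2.exists_inv_isEquivOver he
  constructor
  · rintro ⟨h1, h2⟩
    have h1' := Groth.Agent.H32.AlgStackEquiv.isAlgStack_of_equiv e he h1
    exact ⟨h1', Groth.Agent.H32.AlgStackEquiv.hasAtlas_of_equiv _ h1.isStack.1 h1'.isStack.1 e he h2⟩
  · rintro ⟨h1, h2⟩
    have h1' := Groth.Agent.H32.AlgStackEquiv.isAlgStack_of_equiv e' he' h1
    exact ⟨h1', Groth.Agent.H32.AlgStackEquiv.hasAtlas_of_equiv _ h1.isStack.1 h1'.isStack.1 e' he' h2⟩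

end Groth.Agent.S12771
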