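import Groth.Statements.S12773
import Groth.Agent.H65.OverYoneda

set_option autoImplicit false
open CategoryTheory AlgebraicGeometry
universe u
open AlgSt

namespace Groth.Agent.S12773


/-- Let `f : 𝒳 ⟶ 𝒴` be a 1-morphism of algebraic stacks over `S`, `V` a scheme over `S` and `y : (Sch/V)
⟶ 𝒴` surjective and smooth. Then there are a scheme `U` over `S`, a morphism `a : U ⟶ V` and a
surjective smooth `x : (Sch/U) ⟶ 𝒳` such that the square 2-commutes: `f ∘ x ≅ y ∘ a`. -/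
theorem result {S : Scheme.{u}} {𝒳 𝒴 : AlgSt.Cat S}
    (h𝒳 : AlgSt.IsAlgStack Scheme.fppfPrecoverage 𝒳) (h𝒴 : AlgSt.IsAlgStack Scheme.fppfPrecoverage 𝒴)
    (f : 𝒳 ⥤ᵇ 𝒴) (V : Over S) (y : FibCat.overCat V ⥤ᵇ 𝒴)
    (hy : AlgSt.RepByAlgSpWith (AlgSp.LocP @Smooth) y) (hy' : AlgSt.RepByAlgSpWith AlgSp.IsSurjectiveMor y) :
    ∃ (U : Over S) (a : U ⟶ V) (x : FibCat.overCat U ⥤ᵇ 𝒳),
      AlgSt.RepByAlgSpWith (AlgSp.LocP @Smooth) x ∧ AlgSt.RepByAlgSpWith AlgSp.IsSurjectiveMor x ∧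
        Nonempty (BasedFunctor.comp x f ≅ BasedFunctor.comp (AlgSt.overMap a) y) := by
  open FibCat Stk Groth.Agent.H32.FibProd Groth.Agent.H32.Fp2 Groth.Agent.H32.Fp3
    Groth.Agent.H32.Fp4 Groth.Agent.H32.SpBridge Groth.Agent.H32.PFacts
    Groth.Agent.H32.AtlasRep Groth.Agent.H32.SpComp Groth.Agent.H32.StackOps
    Groth.Agent.H32.SectSt Groth.Agent.H32.Repr Groth.Agent.H32.SpTrack in
  have hX : IsFibGrpd 𝒳.p := h𝒳.isStack.1
  have hY : IsFibGrpd 𝒴.p := h𝒴.isStack.1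
  obtain ⟨U₀, x₀, hx1, hx2⟩ := h𝒳.atlas
  have hVg := Groth.Agent.S6411.over_isFibGrpd V
  have hU₀g := Groth.Agent.S6411.over_isFibGrpd U₀
  have hfp : IsFibGrpd (fp (BasedFunctor.comp x₀ f) y).p := fp_isFibGrpd _ _ hU₀g hVg hY
  -- the projection to `U₀` is smooth and surjective
  have p1 : AlgSt.RepByAlgSpWith (AlgSp.LocP @Smooth) (fpFst (BasedFunctor.comp x₀ f) y) :=
    Groth.Agent.S12779.result hVg hY hU₀g _ y (BasedFunctor.comp x₀ f) hy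
  have p2 : AlgSt.RepByAlgSpWith AlgSp.IsSurjectiveMor (fpFst (BasedFunctor.comp x₀ f) y) :=
    Groth.Agent.S12779.result hVg hY hU₀g _ y (BasedFunctor.comp x₀ f) hy'
  obtain ⟨F, e, he, -⟩ := hy U₀ (BasedFunctor.comp x₀ f)
  obtain ⟨⟨T, x₁, ht1, ht2⟩, -⟩ := hasAtlas_ofSp F
  have hTg := Groth.Agent.S6411.over_isFibGrpd T
  have hF := ofSp_isFibGrpd F.obj
  -- the chart of `𝒳`
  have q1 : AlgSt.RepByAlgSpWith (AlgSp.LocP @Smooth)
      (BasedFunctor.comp (BasedFunctor.comp e (fpFst (BasedFunctor.comp x₀ f) y)) x₀) :=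
    with_comp good_smooth hF hU₀g hX _ _ (with_precomp_equiv _ hF hfp hU₀g e he _ p1) hx1
  have q2 : AlgSt.RepByAlgSpWith AlgSp.IsSurjectiveMor
      (BasedFunctor.comp (BasedFunctor.comp e (fpFst (BasedFunctor.comp x₀ f) y)) x₀) :=
    with_comp good_surjective hF hU₀g hX _ _ (with_precomp_equiv _ hF hfp hU₀g e he _ p2) hx2
  obtain ⟨a, ⟨β⟩⟩ := Groth.Agent.H65.OverYoneda.exists_overMap_iso
    (BasedFunctor.comp (BasedFunctor.comp x₁ e) (fpSnd (BasedFunctor.comp x₀ f) y))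
  refine ⟨T, a, BasedFunctor.comp x₁
    (BasedFunctor.comp (BasedFunctor.comp e (fpFst (BasedFunctor.comp x₀ f) y)) x₀),
    with_comp good_smooth hTg hF hX _ _ ht1 q1, with_comp good_surjective hTg hF hX _ _ ht2 q2, ⟨?_⟩⟩
  exact (whiskerLeftIso (BasedFunctor.comp x₁ e) (fpIso (BasedFunctor.comp x₀ f) y)) ≪≫
    whiskerRightIso β y

end Groth.Agent.S12773
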