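import Groth.Statements.S12777
import Groth.Agent.H32.SpBridge

set_option autoImplicit false
open CategoryTheory AlgebraicGeometry
universe u
open AlgSt

namespace Groth.Agent.S12777

/-- For presheaves of sets `F`, `G` on `(Sch/S)`, let `a : F ⟶ G` be a morphism between them. Then `a`
is representable by algebraic spaces (as a map of presheaves: every `h_U ×_G F` is an algebraic
space) if and only if the associated 1-morphism of categories fibred in sets is representable by
algebraic spaces. -/
theorem result {S : Scheme.{u}} {F G : AlgSp.PSp S} (a : F ⟶ G) :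
    AlgSp.RepBySp a ↔ AlgSt.RepByAlgSp1 (Stk.ofPshMap a) := by
  exact ⟨Groth.Agent.H32.SpBridge.repByAlgSp1_of_repBySp a,
    Groth.Agent.H32.SpBridge.repBySp_of_repByAlgSp1 a⟩

end Groth.Agent.S12777
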