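import Groth.Statements.S1278
import Groth.Agent.H57.FlatAbove

set_option autoImplicit false
universe u
open FlatMor

namespace Groth.Agent.S1278
open TensorProduct

open IsLocalRing in
/-- Let A be a local ring and B → C a finite local homomorphism of local A-algebras (A → B local), and N
a C-module, viewed also as a B-module. For every local homomorphism of local rings A → A', with base
changes B', C' of B, C and base changes M' (of N over B') and N' (of N over C'): M' is flat over A'
at every prime of B' containing 𝔪_{A'}B' + 𝔪_B B' if and only if N' is flat over A' at every prime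
of C' containing 𝔪_{A'}C' + 𝔪_C C'. -/
theorem result {A B C : Type u} [CommRing A] [IsLocalRing A] [CommRing B] [IsLocalRing B] [CommRing C] [IsLocalRing C]
    [Algebra A B] [IsLocalHom (algebraMap A B)] [Algebra B C] [IsLocalHom (algebraMap B C)] [Algebra A C] [IsScalarTower A B C] [Module.Finite B C]
    (N : Type u) [AddCommGroup N] [Module C N] [Module B N] [IsScalarTower B C N]
    (A' : Type u) [CommRing A'] [IsLocalRing A'] [Algebra A A'] [IsLocalHom (algebraMap A A')]
    (B' M' : Type u) [CommRing B'] [Algebra B B'] [Algebra A' B'] [Algebra A B'] [IsScalarTower A B B'] [IsScalarTower A A' B']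
        [Algebra.IsPushout A B A' B']
        [AddCommGroup M'] [Module B' M'] [Module B M'] [IsScalarTower B B' M'] [Module A' M'] [IsScalarTower A' B' M']
        (fB : N →ₗ[B] M') (hfB : IsBaseChange B' fB)
    (C' N' : Type u) [CommRing C'] [Algebra C C'] [Algebra A' C'] [Algebra A C'] [IsScalarTower A C C'] [IsScalarTower A A' C']
        [Algebra.IsPushout A C A' C']
        [AddCommGroup N'] [Module C' N'] [Module C N'] [IsScalarTower C C' N'] [Module A' N'] [IsScalarTower A' C' N']
        (fC : N →ₗ[C] N') (hfC : IsBaseChange C' fC) :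
    FlatCA.FlatAboveClosedPoints B A' B' M' ↔ FlatCA.FlatAboveClosedPoints C A' C' N' := by
  classical
  -- the comparison map `B' → C'`
  let fBC : B →ₐ[A] C' := (IsScalarTower.toAlgHom A C C').comp (IsScalarTower.toAlgHom A B C)
  let gA : A' →ₐ[A] C' := IsScalarTower.toAlgHom A A' C'
  let ρ : B' →ₐ[A] C' := Algebra.pushoutDesc B' fBC gA (fun x y => mul_comm _ _)
  have hρB : ∀ b : B, ρ (algebraMap B B' b) = algebraMap C C' (algebraMap B C b) := fun b => by
    simp [ρ, fBC]
  have hρA : ∀ a : A', ρ (algebraMap A' B' a) = algebraMap A' C' a := fun a => by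
    simp [ρ, gA]
  letI algB'C' : Algebra B' C' := ρ.toRingHom.toAlgebra
  letI algBC' : Algebra B C' := ((algebraMap C C').comp (algebraMap B C)).toAlgebra
  have hρ' : ∀ b' : B', algebraMap B' C' b' = ρ b' := fun _ => rfl
  haveI : IsScalarTower A' B' C' := IsScalarTower.of_algebraMap_eq (fun a => (hρA a).symm)
  haveI : IsScalarTower B C C' := IsScalarTower.of_algebraMap_eq (fun b => rfl)
  haveI : IsScalarTower B B' C' := IsScalarTower.of_algebraMap_eq (fun b => (hρB b).symm)
  haveI : IsScalarTower A B' C' := IsScalarTower.of_algebraMap_eq (fun a => (ρ.commutes a).symm)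
  -- module structures on `N'`
  letI modB'N' : Module B' N' := Module.compHom N' (algebraMap B' C')
  letI modBN' : Module B N' := Module.compHom N' (algebraMap B C')
  haveI : IsScalarTower B' C' N' := IsScalarTower.of_algebraMap_smul (fun _ _ => rfl)
  haveI : IsScalarTower B C N' :=
    IsScalarTower.of_algebraMap_smul (fun b n => (algebraMap_smul C' (algebraMap B C b) n).symm)
  haveI : IsScalarTower B B' N' := IsScalarTower.of_algebraMap_smul (fun b n => by
    show ρ (algebraMap B B' b) • n = algebraMap C C' (algebraMap B C b) • n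
    rw [hρB])
  haveI : IsScalarTower A' B' N' := IsScalarTower.of_algebraMap_smul (fun a n => by
    show ρ (algebraMap A' B' a) • n = a • n
    rw [hρA, algebraMap_smul])
  -- `N'` is also the base change of `N` along `B → B'`
  haveI hpo1 : Algebra.IsPushout B C B' C' :=
    (Algebra.IsPushout.comp_iff A B A' (S' := B') (T := C) (T' := C')).mp inferInstance
  haveI hpo2 : Algebra.IsPushout B B' C C' := Algebra.IsPushout.symm hpo1
  let e₂ : B' ⊗[B] N ≃ₗ[B'] N' :=
    (Algebra.IsPushout.cancelBaseChange B B' C C' N).symm ≪≫ₗ (hfC.equiv.restrictScalars B')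
  have h2 : IsBaseChange B' (fC.restrictScalars B) := by
    refine IsBaseChange.of_equiv e₂ (fun x => ?_)
    show hfC.equiv ((Algebra.IsPushout.cancelBaseChange B B' C C' N).symm (1 ⊗ₜ x)) = fC x
    rw [Algebra.IsPushout.cancelBaseChange_symm_tmul, map_one, hfC.equiv_tmul, one_smul]
  let e : M' ≃ₗ[B'] N' := hfB.equiv.symm ≪≫ₗ h2.equiv
  -- integrality
  haveI : Algebra.IsIntegral B C := Algebra.IsIntegral.of_finite B C
  haveI : Algebra.IsIntegral B' C' := ⟨fun x => by
    refine (Algebra.IsPushout.out (R := A) (S := C) (R' := A') (S' := C')).inductionOn x _ ?_ ?_ ?_ ?_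
    · exact isIntegral_zero
    · intro a'
      show IsIntegral B' (algebraMap A' C' a')
      rw [IsScalarTower.algebraMap_apply A' B' C']
      exact isIntegral_algebraMap
    · intro c n hn
      rw [Algebra.smul_def]
      refine IsIntegral.mul ?_ hn
      exact IsIntegral.map_of_comp_eq (algebraMap B B') (algebraMap C C')
        (RingHom.ext (fun b => hρB b)) (Algebra.IsIntegral.isIntegral c)
    · intro _ _ h1 h2
      exact h1.add h2⟩
  -- the two ideals
  have hmapIB : ((IsLocalRing.maximalIdeal A').map (algebraMap A' B') ⊔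
      (IsLocalRing.maximalIdeal B).map (algebraMap B B')).map (algebraMap B' C') =
      (IsLocalRing.maximalIdeal A').map (algebraMap A' C') ⊔
      (IsLocalRing.maximalIdeal B).map ((algebraMap C C').comp (algebraMap B C)) := by
    rw [Ideal.map_sup, Ideal.map_map, Ideal.map_map]
    congr 2
    · exact (IsScalarTower.algebraMap_eq A' B' C').symm
    · exact RingHom.ext hρB
  have h1 : ((IsLocalRing.maximalIdeal A').map (algebraMap A' B') ⊔
      (IsLocalRing.maximalIdeal B).map (algebraMap B B')).map (algebraMap B' C') ≤
      (IsLocalRing.maximalIdeal A').map (algebraMap A' C') ⊔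
      (IsLocalRing.maximalIdeal C).map (algebraMap C C') := by
    rw [hmapIB]
    refine sup_le_sup le_rfl ?_
    rw [← Ideal.map_map]
    exact Ideal.map_mono (((IsLocalRing.local_hom_TFAE (algebraMap B C)).out 0 2).mp
      ‹IsLocalHom (algebraMap B C)›)
  have h2' : ∀ (r : Ideal C') [r.IsPrime],
      ((IsLocalRing.maximalIdeal A').map (algebraMap A' B') ⊔
      (IsLocalRing.maximalIdeal B).map (algebraMap B B')).map (algebraMap B' C') ≤ r →
      (IsLocalRing.maximalIdeal A').map (algebraMap A' C') ⊔
      (IsLocalRing.maximalIdeal C).map (algebraMap C C') ≤ r := by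
    intro r _ hr
    rw [hmapIB] at hr
    have hr1 := le_sup_left.trans hr
    have hr2 := le_sup_right.trans hr
    refine sup_le hr1 ?_
    rw [Ideal.map_le_iff_le_comap]
    have h𝔯B : IsLocalRing.maximalIdeal B ≤
        (r.comap (algebraMap C C')).comap (algebraMap B C) := by
      rw [Ideal.comap_comap, ← Ideal.map_le_iff_le_comap]
      exact hr2
    have hne : (r.comap (algebraMap C C')).comap (algebraMap B C) ≠ ⊤ :=
      Ideal.IsPrime.ne_top inferInstance
    have heq : IsLocalRing.maximalIdeal B = (r.comap (algebraMap C C')).comap (algebraMap B C) :=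
      (IsLocalRing.maximalIdeal.isMaximal B).eq_of_le hne h𝔯B
    have hmax : ((r.comap (algebraMap C C')).comap (algebraMap B C)).IsMaximal :=
      heq ▸ IsLocalRing.maximalIdeal.isMaximal B
    have h𝔯max : (r.comap (algebraMap C C')).IsMaximal :=
      Ideal.isMaximal_of_isIntegral_of_isMaximal_comap (R := B) _ hmax
    exact (IsLocalRing.eq_maximalIdeal h𝔯max).ge
  -- transport along `e`
  have key : ∀ (q : Ideal B') [q.IsPrime], FlatCA.FlatAt A' q M' ↔
      Module.Flat A' (LocalizedModule q.primeCompl N') := by
    intro q _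
    unfold FlatCA.FlatAt
    let i : LocalizedModule q.primeCompl M' ≃ₗ[B'] LocalizedModule q.primeCompl N' :=
      IsLocalizedModule.iso q.primeCompl
        ((LocalizedModule.mkLinearMap q.primeCompl N') ∘ₗ e.toLinearMap)
    exact Module.Flat.equiv_iff (i.restrictScalars A')
  unfold FlatCA.FlatAboveClosedPoints
  constructor
  · intro h r _ hr
    exact Groth.Agent.H57.flatAbove_of_flatAbove_base N' _ _ h1
      (fun q _ hq => (key q).mp (h q hq)) r hr
  · intro h q _ hq
    exact (key q).mpr (Groth.Agent.H57.flatAbove_base_of_flatAbove N' _ _ h2'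
      (fun r _ hr => h r hr) q hq)

end Groth.Agent.S1278
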