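import Groth.Statements.S12781
import Groth.Agent.H32.SpComp

set_option autoImplicit false
open CategoryTheory AlgebraicGeometry
universe u
open AlgSt

namespace Groth.Agent.S12781

/-- Let `𝒳`, `𝒴`, `𝒵` be fibred in groupoids over `(Sch/S)`, `P` a property of morphisms of algebraic
spaces stable under base change and fppf local on the base, `f : 𝒳 ⟶ 𝒴` representable by algebraic
spaces and `g : 𝒵 ⟶ 𝒴` a 1-morphism such that for every scheme `U` and every `y : (Sch/U) ⟶ 𝒴` there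
is an fppf covering sieve of `U` on whose members `V ⟶ U` the restriction of `y` is 2-isomorphic to
`g ∘ z` for some `z : (Sch/V) ⟶ 𝒵`. If the base change `𝒵 ×_𝒴 𝒳 ⟶ 𝒵` has `P`, then `f` has `P`.
(Stability under base change is asked for every pullback square of fppf sheaves whose four corners
are algebraic spaces.) -/
theorem result {S : Scheme.{u}} {𝒳 𝒴 𝒵 : AlgSt.Cat S}
    (h𝒳 : FibCat.IsFibGrpd 𝒳.p) (h𝒴 : FibCat.IsFibGrpd 𝒴.p) (h𝒵 : FibCat.IsFibGrpd 𝒵.p)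
    (P : MorphismProperty (AlgSp.Sp S))
    (hPb : ∀ ⦃X₁ Y₁ X₂ Y₂ : AlgSp.Sp S⦄, AlgSp.IsAlgSpace X₁ → AlgSp.IsAlgSpace Y₁ → AlgSp.IsAlgSpace X₂ →
      AlgSp.IsAlgSpace Y₂ → ∀ (a : X₁ ⟶ Y₁) (b : Y₂ ⟶ Y₁) (a' : X₂ ⟶ Y₂) (b' : X₂ ⟶ X₁),
      IsPullback b' a' a b → P a → P a')
    (hP : AlgSp.IsLocalOnBase AlgSp.IsFppfCover P)
    (f : 𝒳 ⥤ᵇ 𝒴) (hf : AlgSt.RepByAlgSp1 f) (g : 𝒵 ⥤ᵇ 𝒴)
    (hg : ∀ (U : Over S) (y : FibCat.overCat U ⥤ᵇ 𝒴), ∃ R ∈ (QuotSh.J Scheme.fppfPrecoverage S) U,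
      ∀ ⦃V : Over S⦄ (h : V ⟶ U), R.arrows h →
        ∃ z : FibCat.overCat V ⥤ᵇ 𝒵, Nonempty (BasedFunctor.comp z g ≅ BasedFunctor.comp (AlgSt.overMap h) y))
    (h' : AlgSt.RepByAlgSpWith P (FibCat.fpFst g f)) :
    AlgSt.RepByAlgSpWith P f := by
  open FibCat Stk Groth.Agent.H32.FibProd Groth.Agent.H32.Fp2 Groth.Agent.H32.Fp3
    Groth.Agent.H32.Fp4 Groth.Agent.H32.PshFp Groth.Agent.H32.PshStack Groth.Agent.H32.SpBridge
    Groth.Agent.H32.SpTrack Groth.Agent.H32.SpComp Groth.Agent.H32.AtlasCover in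
  intro U y
  obtain ⟨F, e, he⟩ := hf U y
  refine ⟨F, e, he, ?_⟩
  obtain ⟨R, hR, hz⟩ := hg U y
  obtain ⟨V, h, hRh, hcov⟩ := exists_family_of_mem_J hR
  have hdata : ∀ τ : U.left, ∃ (F' : AlgSp.Space S)
      (ei : AlgSt.ofSp F'.obj ⥤ᵇ fp (BasedFunctor.comp (Stk.ofPshMap ((AlgSp.yon S).map (h τ)).hom)
        (BasedFunctor.comp (AlgSt.toOverCat U) y)) f), IsEquivOver ei ∧
      P (ObjectProperty.homMk (pshMapOf (BasedFunctor.comp ei (fpFst _ f))) :
        F'.obj ⟶ (AlgSp.yon S).obj (V τ)) := by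
    intro τ
    obtain ⟨z, ⟨β⟩⟩ := hz (h τ) (hRh τ)
    obtain ⟨F', e', he', hP'⟩ := h' (V τ) z
    obtain ⟨P1', hP1', -, ⟨ε⟩⟩ := exists_inv_isEquivOver (paste_isEquivOver z g f)
    obtain ⟨ei, heidef⟩ : ∃ ei : AlgSt.ofSp F'.obj ⥤ᵇ fp (BasedFunctor.comp
        (Stk.ofPshMap ((AlgSp.yon S).map (h τ)).hom) (BasedFunctor.comp (AlgSt.toOverCat U) y)) f,
        ei = BasedFunctor.comp e' (BasedFunctor.comp P1' (BasedFunctor.comp (congrLeft β f)
          (pasteMid (AlgSt.ofOverCat (V τ)) (BasedFunctor.comp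
            (Stk.ofPshMap ((AlgSp.yon S).map (h τ)).hom)
            (BasedFunctor.comp (AlgSt.toOverCat U) y)) f))) := ⟨_, rfl⟩
    refine ⟨F', ei, ?_, ?_⟩
    · rw [heidef]
      exact isEquivOver_comp _ _ he' (isEquivOver_comp _ _ hP1' (isEquivOver_comp _ _
        (congrLeft_isEquivOver β f) (pasteMid_isEquivOver (AlgSt.ofOverCat (V τ)) _ f
          (ofOverCat_isEquivOver (V τ)))))
    · have key : (ObjectProperty.homMk (pshMapOf (BasedFunctor.comp ei (fpFst _ f))) :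
          F'.obj ⟶ (AlgSp.yon S).obj (V τ)) =
          AlgSt.spMapOfOver (BasedFunctor.comp e' (fpFst z (fpFst g f))) := by
        apply ObjectProperty.hom_ext
        rw [spMapOfOver_hom]
        change pshMapOf (BasedFunctor.comp ei (fpFst _ f)) = _
        rw [heidef]
        refine pshMapOf_eq_of_hom _ _ (fun a => ?_)
        exact ⟨(AlgSt.ofOverCat (V τ)).map ((fpFst z (fpFst g f)).map
            (appIso ε (e'.obj a)).hom),
          isHomLift_id_of_eq _ (e'.w_obj a) _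
            ((BasedFunctor.isHomLift_iff (AlgSt.ofOverCat (V τ)) _ _).mpr
              ((BasedFunctor.isHomLift_iff (fpFst z (fpFst g f)) _ _).mpr
                (appIso_isHomLift ε (e'.obj a))))⟩
      rw [key]
      exact hP'
  choose F' ei hei hPi using hdata
  exact P_of_cover P hP f U y F e he
    (fun τ => ⟨(AlgSp.yon S).obj (V τ), AlgSp.IsAlgSpace.yon_obj (V τ)⟩)
    (fun τ => (AlgSp.yon S).map (h τ)) hcov F' ei hei hPi

end Groth.Agent.S12781
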