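import Groth.Statements.S6393
-- import your own Groth.Agent.* helpers here

set_option autoImplicit false
open CategoryTheory
universe v₂ u₂ v u
open FibCat

namespace Groth.Agent.S6393

theorem sc_of_homLift {C : Type u} [Category.{v} C] {S : Type u₂} [Category.{v₂} S] (p : S ⥤ C)
    {R T : C} {a b : S} (f : R ⟶ T) (φ : a ⟶ b) [p.IsHomLift f φ]
    (h : p.IsStronglyCartesian (p.map φ) φ) : p.IsStronglyCartesian f φ := by
  subst_hom_lift p f φ; exact h

theorem sc_map_of_sc {C : Type u} [Category.{v} C] {S : Type u₂} [Category.{v₂} S] (p : S ⥤ C)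
    {R T : C} {a b : S} (f : R ⟶ T) (φ : a ⟶ b)
    [h : p.IsStronglyCartesian f φ] : p.IsStronglyCartesian (p.map φ) φ := by
  subst_hom_lift p f φ; exact h


/-- Given `p : S ⥤ C`, saying that p is fibred in groupoids is equivalent to saying that p is a fibred
functor whose fibre category over every object of C is a groupoid. -/
theorem result {C : Type u} [Category.{v} C] {S : Type u₂} [Category.{v₂} S] (p : S ⥤ C) :
    FibCat.IsFibGrpd p ↔ (p.IsFibered ∧ ∀ U : C, IsGroupoid (p.Fiber U)) := by
  constructor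
  · intro h
    refine ⟨Functor.IsFibered.of_exists_isStronglyCartesian ?_, ?_⟩
    · intro a R f
      obtain ⟨y, φ, hφ⟩ := h.exists_lift f
      exact ⟨y, φ, sc_of_homLift p f φ (h.isStronglyCartesian φ)⟩
    · intro U
      refine ⟨fun {X Y} f => ?_⟩
      have hf : p.IsHomLift (𝟙 U) f.1 := f.2
      have hsc : p.IsStronglyCartesian (𝟙 U) f.1 := sc_of_homLift p (𝟙 U) f.1 (h.isStronglyCartesian f.1)
      have hiso : IsIso f.1 := Functor.IsStronglyCartesian.isIso_of_base_isIso p (𝟙 U) f.1
      have hinv : p.IsHomLift (𝟙 U) (inv f.1) := inferInstance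
      refine ⟨⟨⟨inv f.1, hinv⟩, ?_, ?_⟩⟩
      · apply Functor.Fiber.hom_ext
        exact IsIso.hom_inv_id f.1
      · apply Functor.Fiber.hom_ext
        exact IsIso.inv_hom_id f.1
  · rintro ⟨hfib, hgrp⟩
    refine ⟨?_, ?_⟩
    · intro x V f
      obtain ⟨y, φ, hφ⟩ := Functor.IsPreFibered.exists_isCartesian' (p := p) f
      exact ⟨y, φ, inferInstance⟩
    · intro y x φ
      obtain ⟨y', ψ, hψ⟩ := Functor.IsPreFibered.exists_isCartesian' (p := p) (p.map φ)
      let χ := Functor.IsCartesian.map p (p.map φ) ψ φ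
      have hχ : p.IsHomLift (𝟙 (p.obj y)) χ := inferInstance
      have hfac : χ ≫ ψ = φ := Functor.IsCartesian.fac p (p.map φ) ψ φ
      let χ' : (Functor.Fiber.mk (p := p) (S := p.obj y) (a := y) rfl) ⟶
          (Functor.Fiber.mk (p := p) (S := p.obj y) (a := y')
            (IsHomLift.domain_eq p (p.map φ) ψ)) :=
        ⟨χ, hχ⟩
      have : IsGroupoid (p.Fiber (p.obj y)) := hgrp _
      have hiso' : IsIso χ' := IsGroupoid.all_isIso χ'
      have hiso : IsIso χ := by
        have := Functor.map_isIso (Functor.Fiber.fiberInclusion (p := p) (S := p.obj y)) χ'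
        exact this
      have hχ2 : p.IsHomLift (𝟙 (p.obj y)) (asIso χ).hom := hχ
      have hc : p.IsCartesian (p.map φ) ((asIso χ).hom ≫ ψ) :=
        Functor.IsCartesian.of_iso_comp p (p.map φ) ψ (asIso χ)
      have hc' : p.IsCartesian (p.map φ) φ := by
        have e : (asIso χ).hom ≫ ψ = φ := hfac
        rw [e] at hc; exact hc
      infer_instance

end Groth.Agent.S6393
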