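import Groth.Statements.S6409
import Groth.Agent.H32.Yoneda2
import Groth.Agent.S6393
-- import your own Groth.Agent.* helpers here

set_option autoImplicit false
open CategoryTheory
universe v u
open FibCat

namespace Groth.Agent.S6409

/-- For `𝒳` fibred in groupoids over `C`, evaluation at `𝟙_U` is an equivalence of categories from the
category of functors `C/U ⟶ 𝒳` over `C` to the fibre category `𝒳_U`. -/
theorem result {C : Type u} [Category.{v} C] {𝒳 : BasedCategory.{v, max u v} C} (h𝒳 : FibCat.IsFibGrpd 𝒳.p) (U : C) :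
    (FibCat.evalAtId 𝒳 U).IsEquivalence := by
  open Groth.Agent.H32.FibProd Groth.Agent.H32.Yoneda2 in
  have hfib : 𝒳.p.IsFibered := ((Groth.Agent.S6393.result 𝒳.p).mp h𝒳).1
  let T : (FibCat.overCat U).obj := Over.mk (𝟙 U)
  have hT : Limits.IsTerminal T := Over.mkIdTerminal
  have hsc : ∀ (H : FibCat.overCat U ⥤ᵇ 𝒳) X,
      𝒳.p.IsStronglyCartesian ((FibCat.overCat U).p.map (hT.from X)) (H.map (hT.from X)) :=
    fun H X => sc_of_isFibGrpd 𝒳.p h𝒳 _ (H.map (hT.from X))
  refine { faithful := ?_, full := ?_, essSurj := ?_ }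
  · refine ⟨fun {G H} α β h => ?_⟩
    exact natTrans_ext hT (hsc H) α β (congrArg Subtype.val h)
  · refine ⟨fun {G H} t => ?_⟩
    obtain ⟨α, hα⟩ := @exists_natTrans _ _ _ _ hT _ G H (hsc H) t.1 t.2
    exact ⟨α, Functor.Fiber.hom_ext hα⟩
  · refine ⟨fun a => ?_⟩
    obtain ⟨G, hG, t, htiso, htlift⟩ := exists_based_functor hT a.1 a.2
    exact ⟨G, ⟨@fiberIso _ _ _ _ 𝒳.p U ((FibCat.evalAtId 𝒳 U).obj G) a t htiso htlift⟩⟩

end Groth.Agent.S6409
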