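import Groth.Statements.S12783
import Groth.Agent.H32.Repr
import Groth.Agent.H32.Fp4
import Groth.Agent.S6409
import Groth.Agent.S6411

set_option autoImplicit false
open CategoryTheory CategoryTheory.Limits
universe v u
open FibCat

namespace Groth.Agent.S12783

open Groth.Agent.H32.FibProd Groth.Agent.H32.Fp2 Groth.Agent.H32.Fp3 Groth.Agent.H32.Repr

section
variable {C : Type u} [Category.{v} C]

/-- the strict based functor of a morphism. -/
def ovMap {X Y : C} (f : X ⟶ Y) : FibCat.overCat X ⥤ᵇ FibCat.overCat Y :=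
  ⟨Over.map f, Over.mapForget_eq f⟩

theorem exists_iso_ovMap {U Y : C} (G : FibCat.overCat U ⥤ᵇ FibCat.overCat Y) :
    ∃ g : U ⟶ Y, Nonempty (G ≅ ovMap g) := by
  have hE := Groth.Agent.S6409.result (Groth.Agent.S6411.over_isFibGrpd Y) U
  have h0 : (G.obj (Over.mk (𝟙 U))).left = U := G.w_obj (Over.mk (𝟙 U))
  obtain ⟨g, hg⟩ : ∃ g : U ⟶ Y, g = eqToHom h0.symm ≫ (G.obj (Over.mk (𝟙 U))).hom := ⟨_, rfl⟩
  refine ⟨g, ?_⟩
  let i : G.obj (Over.mk (𝟙 U)) ≅ (ovMap g).obj (Over.mk (𝟙 U)) :=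
    Over.isoMk (eqToIso h0) (by simp [ovMap, hg])
  have hi : (FibCat.overCat Y).p.IsHomLift (𝟙 U) i.hom := by
    apply IsHomLift.of_fac' _ _ _ h0 rfl
    show i.hom.left = eqToHom h0 ≫ 𝟙 U ≫ 𝟙 U
    rw [Category.comp_id, Category.comp_id]
    rfl
  have hi' : (FibCat.overCat Y).p.IsHomLift (𝟙 U) i.inv := by
    apply IsHomLift.of_fac' _ _ _ rfl h0
    show i.inv.left = 𝟙 U ≫ 𝟙 U ≫ eqToHom h0.symm
    rw [Category.id_comp, Category.id_comp]
    rfl
  let j : (FibCat.evalAtId (FibCat.overCat Y) U).obj G ≅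
      (FibCat.evalAtId (FibCat.overCat Y) U).obj (ovMap g) :=
    { hom := ⟨i.hom, hi⟩
      inv := ⟨i.inv, hi'⟩
      hom_inv_id := Subtype.ext i.hom_inv_id
      inv_hom_id := Subtype.ext i.inv_hom_id }
  have := hE
  exact ⟨(FibCat.evalAtId (FibCat.overCat Y) U).preimageIso j⟩

section strict
variable [HasPullbacks C] {U X Y : C} (g : U ⟶ Y) (f : X ⟶ Y)

noncomputable def iso₀ : (ovMap g).obj (Over.mk (pullback.fst g f)) ≅
    (ovMap f).obj (Over.mk (pullback.snd g f)) :=
  Over.isoMk (Iso.refl (pullback g f)) (by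
    show 𝟙 _ ≫ pullback.snd g f ≫ f = pullback.fst g f ≫ g
    rw [Category.id_comp, pullback.condition])

theorem iso₀_hom_left : (iso₀ g f).hom.left = 𝟙 (pullback g f) := rfl

/-- the terminal object of the strict fibre product. -/
noncomputable def ω₀ : (FibCat.fp (ovMap g) (ovMap f)).obj :=
  ⟨{ fst := Over.mk (pullback.fst g f)
     snd := Over.mk (pullback.snd g f)
     iso := iso₀ g f },
    by
      show (FibCat.overCat Y).p.IsHomLift (𝟙 (pullback g f)) (iso₀ g f).hom
      apply IsHomLift.of_fac' _ _ _ rfl rfl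
      show (iso₀ g f).hom.left = eqToHom rfl ≫ 𝟙 _ ≫ eqToHom rfl
      rw [iso₀_hom_left]
      simp
      rfl⟩

variable (ω : (FibCat.fp (ovMap g) (ovMap f)).obj)

/-- the comparison isomorphism on underlying objects. -/
def θ : ω.obj.fst.left ⟶ ω.obj.snd.left := ω.obj.iso.hom.left
def θi : ω.obj.snd.left ⟶ ω.obj.fst.left := ω.obj.iso.inv.left

theorem θ_θi : θ g f ω ≫ θi g f ω = 𝟙 _ :=
  congrArg CommaMorphism.left ω.obj.iso.hom_inv_id
theorem θi_θ : θi g f ω ≫ θ g f ω = 𝟙 _ :=
  congrArg CommaMorphism.left ω.obj.iso.inv_hom_id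

theorem θ_w : θ g f ω ≫ ω.obj.snd.hom ≫ f = ω.obj.fst.hom ≫ g :=
  Over.w ω.obj.iso.hom

noncomputable def kk : ω.obj.fst.left ⟶ pullback g f :=
  pullback.lift ω.obj.fst.hom (θ g f ω ≫ ω.obj.snd.hom) (by rw [Category.assoc, θ_w])

theorem kk_fst : kk g f ω ≫ pullback.fst g f = ω.obj.fst.hom := pullback.lift_fst _ _ _
theorem kk_snd : kk g f ω ≫ pullback.snd g f = θ g f ω ≫ ω.obj.snd.hom := pullback.lift_snd _ _ _

noncomputable def toω₀ : ω ⟶ ω₀ g f :=
  ObjectProperty.homMk
    { fst := Over.homMk (kk g f ω) (kk_fst g f ω)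
      snd := Over.homMk (θi g f ω ≫ kk g f ω)
        ((Category.assoc _ _ _).trans ((congrArg (fun z => θi g f ω ≫ z) (kk_snd g f ω)).trans
          ((Category.assoc _ _ _).symm.trans
            ((congrArg (fun z => z ≫ ω.obj.snd.hom) (θi_θ g f ω)).trans (Category.id_comp _)))))
      w := by
        apply Over.OverMorphism.ext
        show kk g f ω ≫ 𝟙 (pullback g f) = θ g f ω ≫ (θi g f ω ≫ kk g f ω)
        exact (Category.comp_id _).trans ((Category.id_comp _).symm.trans
          ((congrArg (fun z => z ≫ kk g f ω) (θ_θi g f ω).symm).trans (Category.assoc _ _ _))) }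

theorem toω₀_uniq (m : ω ⟶ ω₀ g f) : m = toω₀ g f ω := by
  have hw := congrArg CommaMorphism.left m.hom.w
  have h1 : m.hom.fst.left ≫ pullback.fst g f = ω.obj.fst.hom := Over.w m.hom.fst
  have h2 : m.hom.snd.left ≫ pullback.snd g f = ω.obj.snd.hom := Over.w m.hom.snd
  have hw' : m.hom.fst.left ≫ 𝟙 (pullback g f) = θ g f ω ≫ m.hom.snd.left := hw
  have hw'' : m.hom.fst.left = θ g f ω ≫ m.hom.snd.left := (Category.comp_id _).symm.trans hw'
  have hk : m.hom.fst.left = kk g f ω := by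
    apply pullback.hom_ext
    · exact h1.trans (kk_fst g f ω).symm
    · refine ((congrArg (fun z => z ≫ pullback.snd g f) hw'').trans ?_).trans (kk_snd g f ω).symm
      exact (Category.assoc _ _ _).trans (congrArg (fun z => θ g f ω ≫ z) h2)
  have hs : m.hom.snd.left = θi g f ω ≫ kk g f ω :=
    (Category.id_comp _).symm.trans ((congrArg (fun z => z ≫ m.hom.snd.left) (θi_θ g f ω).symm).trans
      ((Category.assoc _ _ _).trans (congrArg (fun z => θi g f ω ≫ z) (hw''.symm.trans hk))))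
  apply ObjectProperty.hom_ext
  apply CategoricalPullback.hom_ext
  · apply Over.OverMorphism.ext
    exact hk
  · apply Over.OverMorphism.ext
    exact hs

theorem strict_isRepresentable : FibCat.IsRepresentable (FibCat.fp (ovMap g) (ovMap f)) :=
  isRepresentable_of_isTerminal
    (fp_isFibGrpd _ _ (Groth.Agent.S6411.over_isFibGrpd U) (Groth.Agent.S6411.over_isFibGrpd X)
      (Groth.Agent.S6411.over_isFibGrpd Y))
    (IsTerminal.ofUniqueHom (fun ω => toω₀ g f ω) (fun ω m => toω₀_uniq g f ω m))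

end strict

end

/-- For a morphism `f : X ⟶ Y` in a category `C` with fibre products, the induced functor `C/X ⟶ C/Y`
over `C` is a representable 1-morphism. (The published statement is for schemes over a base; this
row holds in any category with fibre products.) -/
theorem result {C : Type u} [Category.{v} C] [HasPullbacks C] {X Y : C} (f : X ⟶ Y) :
    FibCat.IsRepresentable1 (⟨Over.map f, Over.mapForget_eq f⟩ : FibCat.overCat X ⥤ᵇ FibCat.overCat Y) := by
  intro U G
  obtain ⟨g, ⟨β⟩⟩ := exists_iso_ovMap G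
  obtain ⟨V, E, hE⟩ := strict_isRepresentable g f
  exact ⟨V, BasedFunctor.comp (congrLeft β (ovMap f)) E,
    isEquivOver_comp _ _ (congrLeft_isEquivOver β (ovMap f)) hE⟩

end Groth.Agent.S12783
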