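import Groth.Statements.S12784
import Groth.Agent.H32.Fp4

set_option autoImplicit false
open CategoryTheory CategoryTheory.Limits
universe v u
open FibCat

namespace Groth.Agent.S12784

/-- Consider a 2-commutative square of functors over `C` with vertical arrows `f' : 𝒳' ⟶ 𝒴'`, `f : 𝒳 ⟶
𝒴` and horizontal arrows equivalences over `C`. Then `f` is a representable 1-morphism if and only
if `f'` is. (The published statement is for categories fibred in groupoids over schemes over a base;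
this row is stated for categories over any base category.) -/
theorem result {C : Type u} [Category.{v} C] {𝒳 𝒴 𝒳' 𝒴' : BasedCategory.{v, max u v} C}
    (f : 𝒳 ⥤ᵇ 𝒴) (f' : 𝒳' ⥤ᵇ 𝒴') (a : 𝒳' ⥤ᵇ 𝒳) (b : 𝒴' ⥤ᵇ 𝒴)
    (ha : FibCat.IsEquivOver a) (hb : FibCat.IsEquivOver b) (e : BasedFunctor.comp f' b ≅ BasedFunctor.comp a f) :
    FibCat.IsRepresentable1 f ↔ FibCat.IsRepresentable1 f' := by
  open FibCat Groth.Agent.H32.Fp2 Groth.Agent.H32.Fp3 Groth.Agent.H32.Fp4 in
  constructor
  · intro hf U G'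
    obtain ⟨V, F₀, hF₀⟩ := hf U (BasedFunctor.comp G' b)
    exact ⟨V, BasedFunctor.comp (sqFunctor G' f f' a b e) F₀,
      isEquivOver_comp _ _ (sqFunctor_isEquivOver G' f f' a b e ha hb) hF₀⟩
  · intro hf' U G
    obtain ⟨G', ⟨β⟩⟩ := exists_factor_iso hb G
    obtain ⟨V, F₀, hF₀⟩ := hf' U G'
    obtain ⟨Q, hQ, -, -⟩ := exists_inv_isEquivOver (sqFunctor_isEquivOver G' f f' a b e ha hb)
    exact ⟨V, BasedFunctor.comp (congrLeft β.symm f) (BasedFunctor.comp Q F₀),
      isEquivOver_comp _ _ (congrLeft_isEquivOver β.symm f) (isEquivOver_comp _ _ hQ hF₀)⟩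

end Groth.Agent.S12784
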