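import Groth.Statements.S12789
import Groth.Agent.H32.AlgStackFp

set_option autoImplicit false
open CategoryTheory AlgebraicGeometry
universe u
open AlgSt

namespace Groth.Agent.S12789

open FibCat Stk Groth.Agent.H32.FibProd Groth.Agent.H32.Fp2 Groth.Agent.H32.Fp3
  Groth.Agent.H32.Fp4 Groth.Agent.H32.SpBridge Groth.Agent.H32.PFacts
  Groth.Agent.H32.Repr Groth.Agent.H32.Prod Groth.Agent.H32.AlgStackFp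

theorem natTrans_selfOver_ext {S : Scheme.{u}} {𝒜 : AlgSt.Cat S}
    {A B : 𝒜 ⥤ᵇ FibCat.selfOver (Over S)} (α β : A ⟶ B) : α = β := by
  apply BasedNatTrans.ext
  apply NatTrans.ext
  funext w
  have h1 := α.isHomLift' w
  have h2 := β.isHomLift' w
  have e1 := IsHomLift.fac' (FibCat.selfOver (Over S)).p (𝟙 (𝒜.p.obj w)) (α.toNatTrans.app w)
  have e2 := IsHomLift.fac' (FibCat.selfOver (Over S)).p (𝟙 (𝒜.p.obj w)) (β.toNatTrans.app w)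
  exact e1.trans e2.symm

theorem iso_selfOver_ext {S : Scheme.{u}} {𝒜 : AlgSt.Cat S}
    {A B : 𝒜 ⥤ᵇ FibCat.selfOver (Over S)} (α β : A ≅ B) : α = β :=
  Iso.ext (natTrans_selfOver_ext _ _)

theorem aux {S : Scheme.{u}} {𝒳₁ 𝒳₂ 𝒴₁ 𝒴₂ : AlgSt.Cat S}
    (h𝒳₁ : FibCat.IsFibGrpd 𝒳₁.p) (h𝒳₂ : FibCat.IsFibGrpd 𝒳₂.p) (h𝒴₁ : FibCat.IsFibGrpd 𝒴₁.p)
    (h𝒴₂ : FibCat.IsFibGrpd 𝒴₂.p)
    (P : MorphismProperty (AlgSp.Sp S)) (hG : Good P)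
    (f₁ : 𝒳₁ ⥤ᵇ 𝒴₁) (f₂ : 𝒳₂ ⥤ᵇ 𝒴₂) (hf₁ : AlgSt.RepByAlgSpWith P f₁)
    (hf₂ : AlgSt.RepByAlgSpWith P f₂)
    (s₁ : 𝒳₁ ⥤ᵇ FibCat.selfOver (Over S)) (s₂ : 𝒳₂ ⥤ᵇ FibCat.selfOver (Over S))
    (h₁ : s₁ = BasedFunctor.comp f₁ (FibCat.toSelf 𝒴₁))
    (h₂ : s₂ = BasedFunctor.comp f₂ (FibCat.toSelf 𝒴₂))
    (e : BasedFunctor.comp (BasedFunctor.comp (FibCat.fpFst s₁ s₂) f₁) (FibCat.toSelf 𝒴₁) ≅
      BasedFunctor.comp (BasedFunctor.comp (FibCat.fpSnd s₁ s₂) f₂) (FibCat.toSelf 𝒴₂)) :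
    AlgSt.RepByAlgSpWith P (FibCat.fpLift (BasedFunctor.comp (FibCat.fpFst s₁ s₂) f₁)
      (BasedFunctor.comp (FibCat.fpSnd s₁ s₂) f₂) e) := by
  subst h₁ h₂
  have he : e = fpIso (BasedFunctor.comp f₁ (FibCat.toSelf 𝒴₁))
      (BasedFunctor.comp f₂ (FibCat.toSelf 𝒴₂)) := iso_selfOver_ext _ _
  rw [he]
  exact with_prodF2 f₁ f₂ (FibCat.toSelf 𝒴₁) (FibCat.toSelf 𝒴₂) hG h𝒳₁ h𝒳₂ h𝒴₁ h𝒴₂
    self_isFibGrpd hf₁ hf₂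

/-- Let `P` be a property of morphisms of algebraic spaces which is stable under base change, fppf local
on the base and stable under composition, and `f₁ : 𝒳₁ ⟶ 𝒴₁`, `f₂ : 𝒳₂ ⟶ 𝒴₂` 1-morphisms of
categories fibred in groupoids over `(Sch/S)` which are representable by algebraic spaces and have
`P`. Then `f₁ × f₂ : 𝒳₁ × 𝒳₂ ⟶ 𝒴₁ × 𝒴₂` (products over the base category; the functor induced on
2-fibre products, for any choice of the 2-isomorphism `e` filling the square) has `P`. (Stability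
under base change is asked for every pullback square of fppf sheaves whose four corners are
algebraic spaces, and stability under composition for composable morphisms between algebraic
spaces.) -/
theorem result {S : Scheme.{u}} {𝒳₁ 𝒳₂ 𝒴₁ 𝒴₂ : AlgSt.Cat S}
    (h𝒳₁ : FibCat.IsFibGrpd 𝒳₁.p) (h𝒳₂ : FibCat.IsFibGrpd 𝒳₂.p) (h𝒴₁ : FibCat.IsFibGrpd 𝒴₁.p) (h𝒴₂ : FibCat.IsFibGrpd 𝒴₂.p)
    (P : MorphismProperty (AlgSp.Sp S))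
    (hPb : ∀ ⦃X₁ Y₁ X₂ Y₂ : AlgSp.Sp S⦄, AlgSp.IsAlgSpace X₁ → AlgSp.IsAlgSpace Y₁ → AlgSp.IsAlgSpace X₂ →
      AlgSp.IsAlgSpace Y₂ → ∀ (a : X₁ ⟶ Y₁) (b : Y₂ ⟶ Y₁) (a' : X₂ ⟶ Y₂) (b' : X₂ ⟶ X₁),
      IsPullback b' a' a b → P a → P a')
    (hPc : ∀ ⦃X Y Z : AlgSp.Sp S⦄, AlgSp.IsAlgSpace X → AlgSp.IsAlgSpace Y → AlgSp.IsAlgSpace Z →
      ∀ (a : X ⟶ Y) (b : Y ⟶ Z), P a → P b → P (a ≫ b))
    (hP : AlgSp.IsLocalOnBase AlgSp.IsFppfCover P)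
    (f₁ : 𝒳₁ ⥤ᵇ 𝒴₁) (f₂ : 𝒳₂ ⥤ᵇ 𝒴₂) (hf₁ : AlgSt.RepByAlgSpWith P f₁) (hf₂ : AlgSt.RepByAlgSpWith P f₂)
    (e : BasedFunctor.comp (BasedFunctor.comp (FibCat.fpFst (FibCat.toSelf 𝒳₁) (FibCat.toSelf 𝒳₂)) f₁) (FibCat.toSelf 𝒴₁) ≅ BasedFunctor.comp (BasedFunctor.comp (FibCat.fpSnd (FibCat.toSelf 𝒳₁) (FibCat.toSelf 𝒳₂)) f₂) (FibCat.toSelf 𝒴₂)) :
    AlgSt.RepByAlgSpWith P (FibCat.fpLift (BasedFunctor.comp (FibCat.fpFst (FibCat.toSelf 𝒳₁) (FibCat.toSelf 𝒳₂)) f₁) (BasedFunctor.comp (FibCat.fpSnd (FibCat.toSelf 𝒳₁) (FibCat.toSelf 𝒳₂)) f₂) e) := by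
  exact aux h𝒳₁ h𝒳₂ h𝒴₁ h𝒴₂ P ⟨hPb, hPc, hP⟩ f₁ f₂ hf₁ hf₂ _ _
    (Groth.Agent.H32.Prod.eq_toSelf _).symm (Groth.Agent.H32.Prod.eq_toSelf _).symm e

end Groth.Agent.S12789
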