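import Groth.Statements.S12790
import Groth.Agent.H32.Sect

set_option autoImplicit false
open CategoryTheory CategoryTheory.Limits
universe v u
open FibCat

namespace Groth.Agent.S12790

open Groth.Agent.H32.FibProd Groth.Agent.H32.Fp2 Groth.Agent.H32.Fp3 Groth.Agent.H32.Fp4
  Groth.Agent.H32.Magic Groth.Agent.H32.Sect Groth.Agent.H32.StkLoc

section helpers

variable {C : Type u} [Category.{v} C]

/-- parallel morphisms of `C` lying over identities (for the identity functor) coincide. -/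
theorem hom_eq_of_lifts {X Y R R' : C} (e e' : X ⟶ Y) (h : (𝟭 C).IsHomLift (𝟙 R) e)
    (h' : (𝟭 C).IsHomLift (𝟙 R') e') : e = e' := by
  have h1 := IsHomLift.fac' (𝟭 C) (𝟙 R) e
  have h2 := IsHomLift.fac' (𝟭 C) (𝟙 R') e'
  simp only [Functor.id_map, Category.id_comp, eqToHom_trans] at h1 h2
  rw [h1, h2]

theorem lift_eqToHom {X Y : C} (h : X = Y) : (𝟭 C).IsHomLift (𝟙 X) (eqToHom h) := by
  subst h
  exact IsHomLift.id rfl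

theorem map_comm_of_lifts {𝒜 : Type*} [Category 𝒜] {ℬ : Type*} [Category ℬ] (p : 𝒜 ⥤ C) (q : ℬ ⥤ C)
    {a a' : 𝒜} {b b' : ℬ} {R S R₁ R₂ : C} (f : R ⟶ S) (ψ₁ : a ⟶ a') (ψ₂ : b ⟶ b')
    (h₁ : p.IsHomLift f ψ₁) (h₂ : q.IsHomLift f ψ₂)
    (θ : p.obj a ⟶ q.obj b) (θ' : p.obj a' ⟶ q.obj b')
    (hθ : (𝟭 C).IsHomLift (𝟙 R₁) θ) (hθ' : (𝟭 C).IsHomLift (𝟙 R₂) θ') :
    p.map ψ₁ ≫ θ' = θ ≫ q.map ψ₂ := by
  have e1 := IsHomLift.fac' (𝟭 C) (𝟙 R₁) θ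
  have e2 := IsHomLift.fac' (𝟭 C) (𝟙 R₂) θ'
  simp only [Functor.id_map, Category.id_comp, eqToHom_trans] at e1 e2
  rw [e1, e2, IsHomLift.fac' p f ψ₁, IsHomLift.fac' q f ψ₂]
  simp

end helpers

section main

variable {C : Type u} [Category.{v} C] {𝒳₁ 𝒳₂ 𝒴₁ 𝒴₂ : BasedCategory.{v, max u v} C}
  (f₁ : 𝒳₁ ⥤ᵇ 𝒴₁) (f₂ : 𝒳₂ ⥤ᵇ 𝒴₂)
  (e : BasedFunctor.comp (BasedFunctor.comp (FibCat.fpFst (FibCat.toSelf 𝒳₁) (FibCat.toSelf 𝒳₂)) f₁) (FibCat.toSelf 𝒴₁) ≅ BasedFunctor.comp (BasedFunctor.comp (FibCat.fpSnd (FibCat.toSelf 𝒳₁) (FibCat.toSelf 𝒳₂)) f₂) (FibCat.toSelf 𝒴₂))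

/-- the product map. -/
abbrev Φ : fp (toSelf 𝒳₁) (toSelf 𝒳₂) ⥤ᵇ fp (toSelf 𝒴₁) (toSelf 𝒴₂) :=
  FibCat.fpLift (BasedFunctor.comp (FibCat.fpFst (FibCat.toSelf 𝒳₁) (FibCat.toSelf 𝒳₂)) f₁) (BasedFunctor.comp (FibCat.fpSnd (FibCat.toSelf 𝒳₁) (FibCat.toSelf 𝒳₂)) f₂) e

variable {U : C} (G : overCat U ⥤ᵇ fp (toSelf 𝒴₁) (toSelf 𝒴₂))

abbrev G₁ : overCat U ⥤ᵇ 𝒴₁ := BasedFunctor.comp G (fpFst (toSelf 𝒴₁) (toSelf 𝒴₂))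
abbrev G₂ : overCat U ⥤ᵇ 𝒴₂ := BasedFunctor.comp G (fpSnd (toSelf 𝒴₁) (toSelf 𝒴₂))

/-- the second leg. -/
abbrev H : fp (G₁ G) f₁ ⥤ᵇ 𝒴₂ := BasedFunctor.comp (fpFst (G₁ G) f₁) (G₂ G)

/-- first component of the comparison. -/
def A : fp G (Φ f₁ f₂ e) ⥤ᵇ fp (G₁ G) f₁ :=
  fpLift (F := G₁ G) (G := f₁) (fpFst G (Φ f₁ f₂ e))
    (BasedFunctor.comp (fpSnd G (Φ f₁ f₂ e)) (fpFst (toSelf 𝒳₁) (toSelf 𝒳₂)))
    (whiskerR (fpIso G (Φ f₁ f₂ e)) (fpFst (toSelf 𝒴₁) (toSelf 𝒴₂)))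

/-- the comparison functor. -/
def T : fp G (Φ f₁ f₂ e) ⥤ᵇ fp (H f₁ G) f₂ :=
  fpLift (F := H f₁ G) (G := f₂) (A f₁ f₂ e G)
    (BasedFunctor.comp (fpSnd G (Φ f₁ f₂ e)) (fpSnd (toSelf 𝒳₁) (toSelf 𝒳₂)))
    (whiskerR (fpIso G (Φ f₁ f₂ e)) (fpSnd (toSelf 𝒴₁) (toSelf 𝒴₂)))


theorem T_isEquivOver : IsEquivOver (T f₁ f₂ e G) := by
  rw [Groth.Agent.S5139.result]
  refine ⟨⟨⟨fun {w w'} n => ?_⟩, ⟨fun {w w'} m m' hmm' => ?_⟩⟩, fun η => ?_⟩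
  · -- full
    have hn₁ : 𝒳₁.p.IsHomLift ((fp (G₁ G) f₁).p.map n.hom.fst) n.hom.fst.hom.snd :=
      fp_isHomLift_snd (G₁ G) f₁ n.hom.fst
    have hn₂ : 𝒳₂.p.IsHomLift ((fp (H f₁ G) f₂).p.map n) n.hom.snd :=
      fp_isHomLift_snd (H f₁ G) f₂ n
    have hwP : (toSelf 𝒳₁).map n.hom.fst.hom.snd ≫ w'.obj.snd.obj.iso.hom =
        w.obj.snd.obj.iso.hom ≫ (toSelf 𝒳₂).map n.hom.snd :=
      map_comm_of_lifts 𝒳₁.p 𝒳₂.p _ n.hom.fst.hom.snd n.hom.snd hn₁ hn₂ _ _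
        w.obj.snd.property w'.obj.snd.property
    let m₂ : w.obj.snd ⟶ w'.obj.snd :=
      mkHom (toSelf 𝒳₁) (toSelf 𝒳₂) n.hom.fst.hom.snd n.hom.snd hwP
    have hwΦ : G.map n.hom.fst.hom.fst ≫ w'.obj.iso.hom =
        w.obj.iso.hom ≫ (Φ f₁ f₂ e).map m₂ := by
      apply fp_hom_ext
      · exact n.hom.fst.hom.w
      · exact n.hom.w
    exact ⟨mkHom G (Φ f₁ f₂ e) n.hom.fst.hom.fst m₂ hwΦ, fp_hom_ext _ _ (fp_hom_ext _ _ rfl rfl) rfl⟩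
  · -- faithful
    apply fp_hom_ext
    · exact congrArg (fun t => t.hom.fst.hom.fst) hmm'
    · apply fp_hom_ext
      · exact congrArg (fun t => t.hom.fst.hom.snd) hmm'
      · exact congrArg (fun t => t.hom.snd) hmm'
  · -- essentially surjective
    have hη₁ : 𝒴₁.p.IsHomLift (𝟙 ((overCat U).p.obj η.obj.fst.obj.fst)) η.obj.fst.obj.iso.hom :=
      η.obj.fst.property
    have hη₂ : 𝒴₂.p.IsHomLift (𝟙 ((overCat U).p.obj η.obj.fst.obj.fst)) η.obj.iso.hom :=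
      η.property
    have h1 : 𝒳₁.p.obj η.obj.fst.obj.snd = (overCat U).p.obj η.obj.fst.obj.fst :=
      fp_snd_obj_eq (G₁ G) f₁ η.obj.fst
    have h2 : 𝒳₂.p.obj η.obj.snd = (overCat U).p.obj η.obj.fst.obj.fst :=
      fp_snd_obj_eq (H f₁ G) f₂ η
    let z : (fp (toSelf 𝒳₁) (toSelf 𝒳₂)).obj :=
      mkObj (toSelf 𝒳₁) (toSelf 𝒳₂) η.obj.fst.obj.snd η.obj.snd (eqToIso (h1.trans h2.symm))
        (lift_eqToHom (h1.trans h2.symm))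
    have hGu : (𝟭 C).IsHomLift (𝟙 ((overCat U).p.obj η.obj.fst.obj.fst))
        (G.obj η.obj.fst.obj.fst).obj.iso.hom := by
      have := (G.obj η.obj.fst.obj.fst).property
      exact isHomLift_id_of_eq _ ((fpFst (toSelf 𝒴₁) (toSelf 𝒴₂)).w_obj _ |>.trans (G.w_obj _)) _ this
    have hΦz : (𝟭 C).IsHomLift (𝟙 ((overCat U).p.obj η.obj.fst.obj.fst))
        ((Φ f₁ f₂ e).obj z).obj.iso.hom := by
      have := ((Φ f₁ f₂ e).obj z).property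
      exact isHomLift_id_of_eq _ ((f₁.w_obj _).trans h1) _ this
    have hw : (toSelf 𝒴₁).map η.obj.fst.obj.iso.hom ≫ ((Φ f₁ f₂ e).obj z).obj.iso.hom =
        (G.obj η.obj.fst.obj.fst).obj.iso.hom ≫ (toSelf 𝒴₂).map η.obj.iso.hom := by
      have l1 : (𝟭 C).IsHomLift (𝟙 ((overCat U).p.obj η.obj.fst.obj.fst))
          ((toSelf 𝒴₁).map η.obj.fst.obj.iso.hom) :=
        (BasedFunctor.isHomLift_iff (toSelf 𝒴₁) _ _).mpr hη₁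
      have l2 : (𝟭 C).IsHomLift (𝟙 ((overCat U).p.obj η.obj.fst.obj.fst))
          ((toSelf 𝒴₂).map η.obj.iso.hom) :=
        (BasedFunctor.isHomLift_iff (toSelf 𝒴₂) _ _).mpr hη₂
      exact hom_eq_of_lifts _ _ (isHomLift_comp_id_left _ _ _ _ l1 hΦz)
        (isHomLift_comp_id_left _ _ _ _ hGu l2)
    let ιh : G.obj η.obj.fst.obj.fst ⟶ (Φ f₁ f₂ e).obj z :=
      mkHom (toSelf 𝒴₁) (toSelf 𝒴₂) η.obj.fst.obj.iso.hom η.obj.iso.hom hw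
    have hιh : IsIso ιh := fp_isIso ιh (inferInstanceAs (IsIso η.obj.fst.obj.iso.hom))
      (inferInstanceAs (IsIso η.obj.iso.hom))
    let ι : G.obj η.obj.fst.obj.fst ≅ (Φ f₁ f₂ e).obj z := asIso ιh
    have hι : (fp (toSelf 𝒴₁) (toSelf 𝒴₂)).p.IsHomLift (𝟙 ((overCat U).p.obj η.obj.fst.obj.fst))
        ι.hom := (fp_isHomLift_iff _ _ _ _).mpr hη₁
    let ξ : (fp G (Φ f₁ f₂ e)).obj := mkObj G (Φ f₁ f₂ e) η.obj.fst.obj.fst z ι hι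
    have c₁ : (G₁ G).map (𝟙 η.obj.fst.obj.fst) ≫ η.obj.fst.obj.iso.hom =
        ((A f₁ f₂ e G).obj ξ).obj.iso.hom ≫ f₁.map (𝟙 η.obj.fst.obj.snd) := by
      change (G₁ G).map (𝟙 η.obj.fst.obj.fst) ≫ η.obj.fst.obj.iso.hom =
        η.obj.fst.obj.iso.hom ≫ f₁.map (𝟙 η.obj.fst.obj.snd)
      rw [(G₁ G).toFunctor.map_id, f₁.toFunctor.map_id, Category.id_comp, Category.comp_id]
    let α : (A f₁ f₂ e G).obj ξ ⟶ η.obj.fst :=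
      mkHom (G₁ G) f₁ (𝟙 η.obj.fst.obj.fst) (𝟙 η.obj.fst.obj.snd) c₁
    have c₂ : (H f₁ G).map α ≫ η.obj.iso.hom =
        ((T f₁ f₂ e G).obj ξ).obj.iso.hom ≫ f₂.map (𝟙 η.obj.snd) := by
      change (G₂ G).map (𝟙 η.obj.fst.obj.fst) ≫ η.obj.iso.hom =
        η.obj.iso.hom ≫ f₂.map (𝟙 η.obj.snd)
      rw [(G₂ G).toFunctor.map_id, f₂.toFunctor.map_id]
      exact (Category.id_comp _).trans (Category.comp_id _).symm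
    let ε : (T f₁ f₂ e G).obj ξ ⟶ η := mkHom (H f₁ G) f₂ α (𝟙 η.obj.snd) c₂
    have hα : IsIso α :=
      fp_isIso α (inferInstanceAs (IsIso (𝟙 _))) (inferInstanceAs (IsIso (𝟙 _)))
    have hε : IsIso ε := fp_isIso ε hα (inferInstanceAs (IsIso (𝟙 _)))
    have hl : (fp (H f₁ G) f₂).p.IsHomLift (𝟙 ((fp (H f₁ G) f₂).p.obj η)) ε :=
      (fp_isHomLift_iff _ _ _ _).mpr ((fp_isHomLift_iff _ _ _ _).mpr (IsHomLift.id rfl))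
    exact ⟨ξ, asIso ε, hl⟩

end main

/-- For representable 1-morphisms `f₁ : 𝒳₁ ⟶ 𝒴₁`, `f₂ : 𝒳₂ ⟶ 𝒴₂` of categories over `C`, the product `f₁
× f₂ : 𝒳₁ × 𝒳₂ ⟶ 𝒴₁ × 𝒴₂` (products over `C`; the functor induced on 2-fibre products, for any
choice of the 2-isomorphism `e` filling the square) is a representable 1-morphism. (The published
statement is for categories fibred in groupoids over schemes over a base; this row is stated for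
categories over any base category.) -/
theorem result {C : Type u} [Category.{v} C] {𝒳₁ 𝒳₂ 𝒴₁ 𝒴₂ : BasedCategory.{v, max u v} C}
    (f₁ : 𝒳₁ ⥤ᵇ 𝒴₁) (f₂ : 𝒳₂ ⥤ᵇ 𝒴₂) (hf₁ : FibCat.IsRepresentable1 f₁) (hf₂ : FibCat.IsRepresentable1 f₂)
    (e : BasedFunctor.comp (BasedFunctor.comp (FibCat.fpFst (FibCat.toSelf 𝒳₁) (FibCat.toSelf 𝒳₂)) f₁) (FibCat.toSelf 𝒴₁) ≅ BasedFunctor.comp (BasedFunctor.comp (FibCat.fpSnd (FibCat.toSelf 𝒳₁) (FibCat.toSelf 𝒳₂)) f₂) (FibCat.toSelf 𝒴₂)) :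
    FibCat.IsRepresentable1 (FibCat.fpLift (BasedFunctor.comp (FibCat.fpFst (FibCat.toSelf 𝒳₁) (FibCat.toSelf 𝒳₂)) f₁) (BasedFunctor.comp (FibCat.fpSnd (FibCat.toSelf 𝒳₁) (FibCat.toSelf 𝒳₂)) f₂) e) := by
  intro U G
  obtain ⟨V, E, hE⟩ := hf₁ U (G₁ G)
  obtain ⟨E', hE', -, -⟩ := exists_inv_isEquivOver hE
  obtain ⟨W, E₂, hE₂⟩ := hf₂ V (BasedFunctor.comp E' (H f₁ G))
  obtain ⟨Q₂, hQ₂, -, -⟩ :=
    exists_inv_isEquivOver (pasteMid_isEquivOver E' (H f₁ G) f₂ hE')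
  exact ⟨W, BasedFunctor.comp (T f₁ f₂ e G) (BasedFunctor.comp Q₂ E₂),
    isEquivOver_comp _ _ (T_isEquivOver f₁ f₂ e G) (isEquivOver_comp _ _ hQ₂ hE₂)⟩

end Groth.Agent.S12790
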