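import Groth.Statements.S12795
import Mathlib

set_option autoImplicit false
open CategoryTheory
universe w v u
open Stk

namespace Groth.Agent.S12795

universe w₁ w₂ w₃ w₄

section Gen
variable {C : Type u} [Category.{v} C]

theorem isHomLift_comp_iff {𝒜 : Type w₁} [Category.{w₂} 𝒜] {ℬ : Type w₃} [Category.{w₄} ℬ]
    (F : 𝒜 ⥤ ℬ) (p : ℬ ⥤ C) {R S : C} (f : R ⟶ S) {a b : 𝒜} (φ : a ⟶ b) :
    (F ⋙ p).IsHomLift f φ ↔ p.IsHomLift f (F.map φ) := by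
  constructor
  · intro h
    exact IsHomLift.of_fac' p f (F.map φ) (IsHomLift.domain_eq (F ⋙ p) f φ)
      (IsHomLift.codomain_eq (F ⋙ p) f φ) (IsHomLift.fac' (F ⋙ p) f φ)
  · intro h
    exact IsHomLift.of_fac' (F ⋙ p) f φ (IsHomLift.domain_eq p f (F.map φ))
      (IsHomLift.codomain_eq p f (F.map φ)) (IsHomLift.fac' p f (F.map φ))

theorem sc_of_isHomLift {ℬ : Type w₃} [Category.{w₄} ℬ] (p : ℬ ⥤ C) (h : FibCat.IsFibGrpd p)
    {R S : C} (f : R ⟶ S) {a b : ℬ} (φ : a ⟶ b) [p.IsHomLift f φ] :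
    p.IsStronglyCartesian f φ := by
  subst_hom_lift p f φ
  exact h.isStronglyCartesian φ

theorem isHomLift_id_congr {ℬ : Type w₃} [Category.{w₄} ℬ] (p : ℬ ⥤ C) {a b : ℬ} (φ : a ⟶ b)
    {R S : C} (h : R = S) (hφ : p.IsHomLift (𝟙 R) φ) : p.IsHomLift (𝟙 S) φ := by
  subst h; exact hφ

/-- the full subcategory as a based category -/
abbrev subCat (𝒳 : BasedCategory.{v, max u v} C) (Q : ObjectProperty 𝒳.obj) :
    BasedCategory.{v, max u v} C :=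
  BasedCategory.ofFunctor (Q.ι ⋙ 𝒳.p)

/-- the inclusion of the full subcategory -/
def incl (𝒳 : BasedCategory.{v, max u v} C) (Q : ObjectProperty 𝒳.obj) : subCat 𝒳 Q ⥤ᵇ 𝒳 where
  toFunctor := Q.ι
  w := rfl

variable {𝒳 : BasedCategory.{v, max u v} C} (Q : ObjectProperty 𝒳.obj)

theorem isFibGrpd_sub (h𝒳 : FibCat.IsFibGrpd 𝒳.p)
    (h1 : ∀ ⦃y x : 𝒳.obj⦄ (φ : y ⟶ x), Q x →
      ∃ (y' : 𝒳.obj) (e : y ≅ y'), Q y' ∧ 𝒳.p.IsHomLift (𝟙 (𝒳.p.obj y)) e.hom) :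
    FibCat.IsFibGrpd (Q.ι ⋙ 𝒳.p) := by
  refine { exists_lift := ?_, isStronglyCartesian := ?_ }
  · intro x V f
    obtain ⟨y₀, φ₀, hφ₀⟩ := h𝒳.exists_lift (x := x.obj) f
    obtain ⟨y', e, hQ, he⟩ := h1 φ₀ x.property
    have hV : 𝒳.p.obj y₀ = V := IsHomLift.domain_eq 𝒳.p f φ₀
    subst hV
    have hinv : 𝒳.p.IsHomLift (𝟙 (𝒳.p.obj y₀)) e.inv := inferInstance
    refine ⟨⟨y', hQ⟩, ObjectProperty.homMk (e.inv ≫ φ₀), ?_⟩
    refine (isHomLift_comp_iff Q.ι 𝒳.p f _).2 ?_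
    show 𝒳.p.IsHomLift f (e.inv ≫ φ₀)
    infer_instance
  · intro y x φ
    have hsc : 𝒳.p.IsStronglyCartesian (𝒳.p.map φ.hom) φ.hom := h𝒳.isStronglyCartesian φ.hom
    have hl : (Q.ι ⋙ 𝒳.p).IsHomLift ((Q.ι ⋙ 𝒳.p).map φ) φ := IsHomLift.map _ φ
    refine { toIsHomLift := hl, universal_property' := ?_ }
    intro a' g φ' hφ'
    have h' : 𝒳.p.IsHomLift (g ≫ 𝒳.p.map φ.hom) φ'.hom :=
      (isHomLift_comp_iff Q.ι 𝒳.p _ φ').1 hφ'
    obtain ⟨χ₀, ⟨hχ₀1, hχ₀2⟩, huniq⟩ := Functor.IsStronglyCartesian.universal_property 𝒳.p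
      (𝒳.p.map φ.hom) φ.hom g (g ≫ 𝒳.p.map φ.hom) rfl φ'.hom
    refine ⟨ObjectProperty.homMk χ₀, ⟨(isHomLift_comp_iff Q.ι 𝒳.p g _).2 hχ₀1,
      ObjectProperty.hom_ext _ hχ₀2⟩, ?_⟩
    rintro χ ⟨hχ1, hχ2⟩
    apply ObjectProperty.hom_ext
    exact huniq χ.hom ⟨(isHomLift_comp_iff Q.ι 𝒳.p g χ).1 hχ1, congrArg (fun m => m.hom) hχ2⟩

/-- lift a 2-morphism between composites with the inclusion -/
def liftNT {𝒜 : BasedCategory.{v, max u v} C} {K₁ K₂ : 𝒜 ⥤ᵇ subCat 𝒳 Q}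
    (δ : BasedFunctor.comp K₁ (incl 𝒳 Q) ⟶ BasedFunctor.comp K₂ (incl 𝒳 Q)) : K₁ ⟶ K₂ where
  toNatTrans :=
    { app := fun a => ObjectProperty.homMk (δ.toNatTrans.app a)
      naturality := fun a b f => by
        apply ObjectProperty.hom_ext
        exact δ.toNatTrans.naturality f }
  isHomLift' := fun a => (isHomLift_comp_iff Q.ι 𝒳.p _ _).2 (δ.isHomLift' a)

theorem liftNT_app {𝒜 : BasedCategory.{v, max u v} C} {K₁ K₂ : 𝒜 ⥤ᵇ subCat 𝒳 Q}
    (δ : BasedFunctor.comp K₁ (incl 𝒳 Q) ⟶ BasedFunctor.comp K₂ (incl 𝒳 Q)) (a : 𝒜.obj) :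
    ((liftNT Q δ).toNatTrans.app a).hom = δ.toNatTrans.app a := rfl

theorem nonempty_iso_of_comp_iso {𝒜 : BasedCategory.{v, max u v} C} {K₁ K₂ : 𝒜 ⥤ᵇ subCat 𝒳 Q}
    (μ : BasedFunctor.comp K₁ (incl 𝒳 Q) ≅ BasedFunctor.comp K₂ (incl 𝒳 Q)) :
    Nonempty (K₁ ≅ K₂) := by
  refine ⟨⟨liftNT Q μ.hom, liftNT Q μ.inv, ?_, ?_⟩⟩
  · apply BasedNatTrans.homCategory.ext
    ext a
    apply ObjectProperty.hom_ext
    exact congrArg (fun γ => γ.toNatTrans.app a) μ.hom_inv_id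
  · apply BasedNatTrans.homCategory.ext
    ext a
    apply ObjectProperty.hom_ext
    exact congrArg (fun γ => γ.toNatTrans.app a) μ.inv_hom_id

theorem exists_replace {𝒜 : BasedCategory.{v, max u v} C} (G : 𝒜 ⥤ᵇ 𝒳)
    (hG : ∀ a : 𝒜.obj, ∃ (y' : 𝒳.obj) (e : G.obj a ≅ y'),
      Q y' ∧ 𝒳.p.IsHomLift (𝟙 (𝒳.p.obj (G.obj a))) e.hom) :
    ∃ G' : 𝒜 ⥤ᵇ subCat 𝒳 Q, Nonempty (BasedFunctor.comp G' (incl 𝒳 Q) ≅ G) := by
  choose y' e hQ he using hG
  have heinv : ∀ a, 𝒳.p.IsHomLift (𝟙 (𝒳.p.obj (G.obj a))) (e a).inv := fun a => by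
    haveI := he a
    infer_instance
  let F' : 𝒜.obj ⥤ Q.FullSubcategory :=
    { obj := fun a => ⟨y' a, hQ a⟩
      map := fun {a b} f => ObjectProperty.homMk ((e a).inv ≫ G.map f ≫ (e b).hom)
      map_id := fun a => by
        apply ObjectProperty.hom_ext
        simp
      map_comp := fun f g => by
        apply ObjectProperty.hom_ext
        simp }
  have hw : F' ⋙ (Q.ι ⋙ 𝒳.p) = 𝒜.p := by
    refine _root_.CategoryTheory.Functor.ext (fun a => ?_) (fun a b f => ?_)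
    · haveI := he a
      exact (IsHomLift.codomain_eq 𝒳.p (𝟙 (𝒳.p.obj (G.obj a))) (e a).hom).trans (G.w_obj a)
    · haveI := he b
      haveI := heinv a
      have h1 := IsHomLift.fac' 𝒳.p (𝟙 (𝒳.p.obj (G.obj a))) (e a).inv
      have h2 := IsHomLift.fac' 𝒳.p (𝟙 (𝒳.p.obj (G.obj b))) (e b).hom
      have h3 := _root_.CategoryTheory.Functor.congr_hom G.w f
      simp only [Functor.comp_map] at h3
      show 𝒳.p.map ((e a).inv ≫ G.map f ≫ (e b).hom) = _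
      rw [Functor.map_comp, Functor.map_comp, h1, h2, h3]
      simp
  refine ⟨{ toFunctor := F', w := hw }, ⟨?_⟩⟩
  refine BasedNatIso.mkNatIso (NatIso.ofComponents (fun a => (e a).symm) ?_) ?_
  · intro a b f
    show ((e a).inv ≫ G.map f ≫ (e b).hom) ≫ (e b).inv = (e a).inv ≫ G.map f
    simp
  · intro a
    exact isHomLift_id_congr 𝒳.p _ (G.w_obj a) (heinv a)

theorem isStackFor_sub (h𝒳 : FibCat.IsFibGrpd 𝒳.p)
    (h1 : ∀ ⦃y x : 𝒳.obj⦄ (φ : y ⟶ x), Q x →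
      ∃ (y' : 𝒳.obj) (e : y ≅ y'), Q y' ∧ 𝒳.p.IsHomLift (𝟙 (𝒳.p.obj y)) e.hom)
    {U : C} (R : Sieve U) (hR : Stk.IsStackFor R 𝒳)
    (h3R : ∀ (x : 𝒳.obj), 𝒳.p.obj x = U →
      (∀ ⦃V : C⦄ (f : V ⟶ U), R f → ∀ (y : 𝒳.obj) (φ : y ⟶ x), 𝒳.p.IsHomLift f φ →
        ∃ (y' : 𝒳.obj) (e : y ≅ y'), Q y' ∧ 𝒳.p.IsHomLift (𝟙 V) e.hom) →
      ∃ (x' : 𝒳.obj) (e : x ≅ x'), Q x' ∧ 𝒳.p.IsHomLift (𝟙 U) e.hom) :
    Stk.IsStackFor R (subCat 𝒳 Q) := by
  have hEq : (Stk.resSieve R 𝒳).IsEquivalence := hR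
  haveI := hEq.faithful
  haveI := hEq.full
  haveI := hEq.essSurj
  refine Functor.IsEquivalence.mk ?_ ?_ ?_
  · -- faithful
    refine ⟨fun {G₁ G₂} α β hαβ => ?_⟩
    have hc : ∀ a, α.toNatTrans.app ((Stk.sieveIncl R).obj a) =
        β.toNatTrans.app ((Stk.sieveIncl R).obj a) :=
      fun a => congrArg (fun γ => γ.toNatTrans.app a) hαβ
    have key : (Stk.resSieve R 𝒳).map (BasedCategory.whiskerRight α (incl 𝒳 Q)) =
        (Stk.resSieve R 𝒳).map (BasedCategory.whiskerRight β (incl 𝒳 Q)) := by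
      apply BasedNatTrans.homCategory.ext
      ext a
      exact congrArg (fun m => m.hom) (hc a)
    have key2 := (Stk.resSieve R 𝒳).map_injective key
    apply BasedNatTrans.homCategory.ext
    ext a
    apply ObjectProperty.hom_ext
    exact congrArg (fun γ => γ.toNatTrans.app a) key2
  · -- full
    refine ⟨fun {G₁ G₂} γ => ?_⟩
    obtain ⟨δ, hδ⟩ := (Stk.resSieve R 𝒳).map_surjective
      (X := BasedFunctor.comp G₁ (incl 𝒳 Q)) (Y := BasedFunctor.comp G₂ (incl 𝒳 Q))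
      (BasedCategory.whiskerRight γ (incl 𝒳 Q))
    refine ⟨liftNT Q δ, ?_⟩
    apply BasedNatTrans.homCategory.ext
    ext a
    apply ObjectProperty.hom_ext
    exact congrArg (fun ε => ε.toNatTrans.app a) hδ
  · -- essentially surjective
    refine ⟨fun H => ?_⟩
    obtain ⟨G, hG⟩ : ∃ G, G = (Stk.resSieve R 𝒳).objPreimage (BasedFunctor.comp H (incl 𝒳 Q)) :=
      ⟨_, rfl⟩
    have θ : BasedFunctor.comp (Stk.sieveIncl R) G ≅ BasedFunctor.comp H (incl 𝒳 Q) := by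
      rw [hG]
      exact (Stk.resSieve R 𝒳).objObjPreimageIso (BasedFunctor.comp H (incl 𝒳 Q))
    -- step 1
    have hx : 𝒳.p.obj (G.obj (Over.mk (𝟙 U))) = U := G.w_obj (Over.mk (𝟙 U))
    obtain ⟨x', ex, hQx', hex⟩ := h3R (G.obj (Over.mk (𝟙 U))) hx (by
      intro V f hf y φ hφ
      let af : (Stk.sieveCat R).obj := ⟨Over.mk f, hf⟩
      let mf : Over.mk f ⟶ Over.mk (𝟙 U) := Over.homMk f (by simp)
      haveI hmf : (FibCat.overCat U).p.IsHomLift f mf := IsHomLift.map (Over.forget U) mf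
      haveI hψ : 𝒳.p.IsHomLift f (G.map mf) := inferInstance
      haveI := hφ
      haveI sc1 : 𝒳.p.IsStronglyCartesian f (G.map mf) := sc_of_isHomLift 𝒳.p h𝒳 f (G.map mf)
      haveI sc2 : 𝒳.p.IsStronglyCartesian f φ := sc_of_isHomLift 𝒳.p h𝒳 f φ
      let i1 : y ≅ G.obj (Over.mk f) := Functor.IsCartesian.domainUniqueUpToIso 𝒳.p f (G.map mf) φ
      have hi1 : 𝒳.p.IsHomLift (𝟙 V) i1.hom := inferInstance
      let i2 : G.obj (Over.mk f) ≅ (H.obj af).obj :=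
        { hom := θ.hom.toNatTrans.app af
          inv := θ.inv.toNatTrans.app af
          hom_inv_id := congrArg (fun γ => γ.toNatTrans.app af) θ.hom_inv_id
          inv_hom_id := congrArg (fun γ => γ.toNatTrans.app af) θ.inv_hom_id }
      have hi2 : 𝒳.p.IsHomLift (𝟙 V) i2.hom := θ.hom.isHomLift' af
      refine ⟨(H.obj af).obj, i1 ≪≫ i2, (H.obj af).property, ?_⟩
      show 𝒳.p.IsHomLift (𝟙 V) (i1.hom ≫ i2.hom)
      infer_instance)
    have step1 : ∀ a : (FibCat.overCat U).obj, ∃ (y' : 𝒳.obj) (e : G.obj a ≅ y'),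
        Q y' ∧ 𝒳.p.IsHomLift (𝟙 (𝒳.p.obj (G.obj a))) e.hom := by
      intro a
      let ma : a ⟶ Over.mk (𝟙 U) := Over.homMk a.hom (by simp)
      exact h1 (G.map ma ≫ ex.hom) hQx'
    obtain ⟨G', ⟨κ⟩⟩ := exists_replace Q G step1
    have μ : BasedFunctor.comp (BasedFunctor.comp (Stk.sieveIncl R) G') (incl 𝒳 Q) ≅
        BasedFunctor.comp H (incl 𝒳 Q) := (Stk.resSieve R 𝒳).mapIso κ ≪≫ θ
    obtain ⟨iso⟩ := nonempty_iso_of_comp_iso Q μ
    exact ⟨G', ⟨iso⟩⟩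

end Gen

/-- Let `𝒳` be a stack in groupoids over `C` for the topology `J` and `Q` a property of objects of `𝒳`
such that (1) for every morphism `y ⟶ x` of `𝒳` whose target satisfies `Q`, `y` is isomorphic, by an
isomorphism lying over an identity, to an object satisfying `Q`, and (3) for every covering sieve
`R` on `U` and every object `x` over `U`: if every source of a morphism to `x` lying over an arrow
of `R` is isomorphic over an identity to an object satisfying `Q`, then so is `x`. Then the full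
subcategory of `𝒳` on `Q`, with the restricted structure functor, is a stack in groupoids for `J`.
(The published statement has a further condition (2), fullness of the subcategory, which is built
into the full subcategory here; and its word isomorphic is read as isomorphic by an isomorphism
lying over an identity; the published statement is for stacks that are not necessarily in groupoids,
this row treats stacks in groupoids.) -/
theorem result {C : Type u} [Category.{v} C] (J : GrothendieckTopology C) {𝒳 : BasedCategory.{v, max u v} C}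
    (h𝒳 : Stk.IsStack J 𝒳) (Q : ObjectProperty 𝒳.obj)
    (h1 : ∀ ⦃y x : 𝒳.obj⦄ (φ : y ⟶ x), Q x → ∃ (y' : 𝒳.obj) (e : y ≅ y'), Q y' ∧ 𝒳.p.IsHomLift (𝟙 (𝒳.p.obj y)) e.hom)
    (h3 : ∀ ⦃U : C⦄ (R : Sieve U), R ∈ J U → ∀ (x : 𝒳.obj), 𝒳.p.obj x = U →
      (∀ ⦃V : C⦄ (f : V ⟶ U), R f → ∀ (y : 𝒳.obj) (φ : y ⟶ x), 𝒳.p.IsHomLift f φ →
        ∃ (y' : 𝒳.obj) (e : y ≅ y'), Q y' ∧ 𝒳.p.IsHomLift (𝟙 V) e.hom) →
      ∃ (x' : 𝒳.obj) (e : x ≅ x'), Q x' ∧ 𝒳.p.IsHomLift (𝟙 U) e.hom) :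
    Stk.IsStack J (BasedCategory.ofFunctor (Q.ι ⋙ 𝒳.p)) := by
  obtain ⟨hfg, hst⟩ := h𝒳
  exact And.intro (isFibGrpd_sub Q hfg h1)
    (fun U R hR => isStackFor_sub Q hfg h1 R (hst R hR) (fun x hx hcond => h3 R hR x hx hcond))

end Groth.Agent.S12795
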