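import Groth.Statements.S12797
import Groth.Agent.H32.PshStack
import Groth.Agent.S5139
import Groth.Agent.H84.StackEquiv

set_option autoImplicit false
open CategoryTheory
universe w v u
open Stk

namespace Groth.Agent.S12797

section
variable {C : Type u} [Category.{v} C]

/-- the comparison `C/U ⟶ ofPsh h_U` over `C`. -/
def Φ (U : C) : FibCat.overCat U ⥤ᵇ Stk.ofPsh (yoneda.obj U) where
  toFunctor :=
    { obj := fun X => ⟨X.left, X.hom⟩
      map := fun {X Y} k => ⟨k.left, by
        change (yoneda.obj U).map k.left.op Y.hom = X.hom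
        simp only [yoneda_obj_map, Quiver.Hom.unop_op]
        exact Over.w k⟩
      map_id := fun X => EltObj.hom_ext rfl
      map_comp := fun f g => EltObj.hom_ext rfl }
  w := rfl

theorem Φ_equiv (U : C) : FibCat.IsEquivOver (Φ U) := by
  rw [Groth.Agent.S5139.result]
  refine ⟨⟨⟨fun {X Y} m => ?_⟩, ⟨fun {X Y} k k' h => ?_⟩⟩, fun a => ?_⟩
  · have hm : m.hom ≫ Y.hom = X.hom := by
      have h0 : (yoneda.obj U).map m.hom.op Y.hom = X.hom := m.map_sec
      simp only [yoneda_obj_map, Quiver.Hom.unop_op] at h0
      exact h0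
    exact ⟨Over.homMk m.hom hm, EltObj.hom_ext rfl⟩
  · apply Over.OverMorphism.ext
    exact congrArg EltObj.Hom.hom h
  · exact ⟨Over.mk a.sec, Iso.refl a, IsHomLift.id rfl⟩

end

/-- For an object `U` of `C`, the slice category `C/U` with its forgetful functor to `C` is a stack in
groupoids for the topology `J` if and only if the representable presheaf `h_U` is a sheaf for `J`. -/
theorem result {C : Type u} [Category.{v} C] (J : GrothendieckTopology C) (U : C) :
    Stk.IsStack J (FibCat.overCat U) ↔ Presieve.IsSheaf J (yoneda.obj U) := by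
  constructor
  · intro h
    exact Groth.Agent.H32.PshStack.isSheaf_of_isStack J
      (Groth.Agent.H84.isStack_of_isEquivOver J (Φ U) (Φ_equiv U) h)
  · intro h
    obtain ⟨Ψ, hΨ⟩ := Groth.Agent.H84.isEquivOver_symm (Φ_equiv U)
    exact Groth.Agent.H84.isStack_of_isEquivOver J Ψ hΨ
      (Groth.Agent.H32.PshStack.isStack_of_isSheaf J h)

end Groth.Agent.S12797
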