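import Groth.Statements.S12798
import Groth.Agent.H32.StkLoc

set_option autoImplicit false
open CategoryTheory
universe w v u
open Stk

namespace Groth.Agent.S12798

open FibCat Groth.Agent.H32.FibProd Groth.Agent.H32.StkLoc

/-- Let `𝒮₁`, `𝒮₂`, `𝒯₁` be stacks in groupoids over `C` for the topology `J`, and `F : 𝒮₂ ⟶ 𝒮₁`, `G :
𝒯₁ ⟶ 𝒮₁` functors over `C` such that every object of `𝒮₁` is locally in the essential image of `F`.
If the first projection `𝒮₂ ×_{𝒮₁} 𝒯₁ ⟶ 𝒮₂` of the 2-fibre product over `C` is faithful, then `G` is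
faithful. (The published statement is for any 2-cartesian square of stacks in groupoids; this row is
the case of the explicit 2-fibre product, to which the general case reduces because faithfulness is
invariant under equivalence.) -/
theorem result {C : Type u} [Category.{v} C] (J : GrothendieckTopology C) {𝒮₁ 𝒮₂ 𝒯₁ : BasedCategory.{v, max u v} C}
    (h₁ : Stk.IsStack J 𝒮₁) (h₂ : Stk.IsStack J 𝒮₂) (h₃ : Stk.IsStack J 𝒯₁) (F : 𝒮₂ ⥤ᵇ 𝒮₁) (G : 𝒯₁ ⥤ᵇ 𝒮₁)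
    (hF : ∀ y : 𝒮₁.obj, ∃ R ∈ J (𝒮₁.p.obj y), ∀ ⦃V : C⦄ (f : V ⟶ 𝒮₁.p.obj y), R f →
      ∃ (x : 𝒮₂.obj) (φ : F.obj x ⟶ y), 𝒮₁.p.IsHomLift f φ)
    (hG' : (FibCat.fpFst F G).toFunctor.Faithful) : G.toFunctor.Faithful := by
  refine ⟨fun {t t'} b b' hbb' => ?_⟩
  have hb : 𝒯₁.p.IsHomLift (𝒯₁.p.map b) b := inferInstance
  have hGb : 𝒮₁.p.IsHomLift (𝒯₁.p.map b) (G.map b) := inferInstance
  have hGb' : 𝒮₁.p.IsHomLift (𝒯₁.p.map b) (G.map b') := by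
    have e : G.map b' = G.map b := hbb'.symm
    rw [e]; exact hGb
  have hb' : 𝒯₁.p.IsHomLift (𝒯₁.p.map b) b' := (BasedFunctor.isHomLift_iff G _ _).mp hGb'
  obtain ⟨α, hα, hαb⟩ := exists_aut 𝒯₁.p h₃.1 (𝒯₁.p.map b) b b' hb hb'
  have hGα : G.map α = 𝟙 (G.obj t) := by
    have l1 : 𝒮₁.p.IsHomLift (𝟙 (𝒯₁.p.obj t)) (G.map α) := inferInstance
    refine eq_id_of_comp 𝒮₁.p h₁.1 (𝒯₁.p.map b) (G.map b) hGb _ l1 ?_
    have e1 : G.map α ≫ G.map b = G.map (α ≫ b) := (G.toFunctor.map_comp _ _).symm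
    rw [e1, hαb]
    exact hbb'.symm
  suffices hα1 : α = 𝟙 t by rw [← hαb, hα1, Category.id_comp]
  obtain ⟨R, hR, hloc⟩ := hF (G.obj t)
  have hα' : 𝒯₁.p.IsHomLift (𝟙 (𝒮₁.p.obj (G.obj t))) α :=
    isHomLift_id_of_eq 𝒯₁.p (G.w_obj t).symm α hα
  refine aut_eq_id h₃.1 R (h₃.2 R hR).faithful t (G.w_obj t).symm α hα' ?_
  intro a s ψ hψ
  obtain ⟨x, φ, hφ⟩ := hloc a.obj.hom a.property
  obtain ⟨β, hβ, hβψ⟩ := exists_conj 𝒯₁.p h₃.1 a.obj.hom ψ hψ α hα'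
  have hGψ : 𝒮₁.p.IsHomLift a.obj.hom (G.map ψ) := inferInstance
  have hGβl : 𝒮₁.p.IsHomLift (𝟙 a.obj.left) (G.map β) := inferInstance
  have hGβ : G.map β = 𝟙 (G.obj s) := by
    refine eq_id_of_comp 𝒮₁.p h₁.1 a.obj.hom (G.map ψ) hGψ _ hGβl ?_
    have e1 : G.map β ≫ G.map ψ = G.map (β ≫ ψ) := (G.toFunctor.map_comp _ _).symm
    have e2 : G.map (ψ ≫ α) = G.map ψ ≫ G.map α := G.toFunctor.map_comp _ _
    rw [e1, hβψ, e2, hGα, Category.comp_id]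
  obtain ⟨θ, hθi, hθ, -⟩ := exists_theta F G h₁.1 a.obj.hom x s φ (G.map ψ) hφ hGψ
  let z : (FibCat.fp F G).obj := mkObj F G x s (asIso θ) hθ
  have w₁ : F.map (𝟙 x) ≫ z.obj.iso.hom = z.obj.iso.hom ≫ G.map β := by
    have e3 : F.map (𝟙 x) = 𝟙 (F.obj x) := F.toFunctor.map_id x
    change F.map (𝟙 x) ≫ θ = θ ≫ G.map β
    rw [hGβ, e3, Category.id_comp, Category.comp_id]
  let m₁ : z ⟶ z := mkHom F G (𝟙 x) β w₁
  have hm : m₁ = 𝟙 z := by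
    apply (FibCat.fpFst F G).toFunctor.map_injective
    rfl
  have hβ1 : β = 𝟙 s := congrArg (fun m => m.hom.snd) hm
  rw [← hβψ, hβ1, Category.id_comp]

end Groth.Agent.S12798
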