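import Groth.Statements.S12799
import Groth.Agent.H32.StkLoc

set_option autoImplicit false
open CategoryTheory
universe w v u
open Stk

namespace Groth.Agent.S12799

open FibCat Groth.Agent.H32.FibProd Groth.Agent.H32.StkLoc

theorem eq_of_thin {C : Type u} [Category.{v} C] {𝒳 : Type _} [Category 𝒳] {p : 𝒳 ⥤ C} {U : C}
    (h : Quiver.IsThin (p.Fiber U)) {a b : 𝒳} (φ ψ : a ⟶ b)
    (h1 : p.IsHomLift (𝟙 U) φ) (h2 : p.IsHomLift (𝟙 U) ψ) : φ = ψ := by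
  have := (h (Functor.Fiber.mk (IsHomLift.domain_eq p (𝟙 U) φ))
    (Functor.Fiber.mk (IsHomLift.codomain_eq p (𝟙 U) φ))).elim
      (Functor.Fiber.homMk p U φ) (Functor.Fiber.homMk p U ψ)
  exact congrArg Subtype.val this

/-- Let `𝒮₁`, `𝒮₂`, `𝒯₁` be stacks in groupoids over `C` for the topology `J`, `F : 𝒮₂ ⟶ 𝒮₁` a functor
over `C` whose underlying functor is fully faithful and such that every object of `𝒮₁` is locally in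
the essential image of `F`, and `G : 𝒯₁ ⟶ 𝒮₁` a functor over `C`. If the 2-fibre product `𝒮₂ ×_{𝒮₁}
𝒯₁` over `C` is fibred in setoids, then `𝒯₁` is fibred in setoids, hence a stack in setoids. (The
published statement is for any 2-cartesian square of stacks in groupoids; this row is the case of
the explicit 2-fibre product, to which the general case reduces because being fibred in setoids is
invariant under equivalence over `C`.) -/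
theorem result {C : Type u} [Category.{v} C] (J : GrothendieckTopology C) {𝒮₁ 𝒮₂ 𝒯₁ : BasedCategory.{v, max u v} C}
    (h₁ : Stk.IsStack J 𝒮₁) (h₂ : Stk.IsStack J 𝒮₂) (h₃ : Stk.IsStack J 𝒯₁) (F : 𝒮₂ ⥤ᵇ 𝒮₁) [F.toFunctor.Full] [F.toFunctor.Faithful]
    (hF : ∀ y : 𝒮₁.obj, ∃ R ∈ J (𝒮₁.p.obj y), ∀ ⦃V : C⦄ (f : V ⟶ 𝒮₁.p.obj y), R f →
      ∃ (x : 𝒮₂.obj) (φ : F.obj x ⟶ y), 𝒮₁.p.IsHomLift f φ)
    (G : 𝒯₁ ⥤ᵇ 𝒮₁) (h : FibCat.IsFibSetoid (FibCat.fp F G).p) : FibCat.IsFibSetoid 𝒯₁.p := by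
  refine ⟨h₃.1, fun W t t' => ⟨fun b b' => ?_⟩⟩
  apply Functor.Fiber.hom_ext
  show b.1 = b'.1
  have hb : 𝒯₁.p.IsHomLift (𝟙 W) b.1 := b.2
  have hb' : 𝒯₁.p.IsHomLift (𝟙 W) b'.1 := b'.2
  obtain ⟨α, hα, hαb⟩ := exists_aut 𝒯₁.p h₃.1 (𝟙 W) b.1 b'.1 hb hb'
  suffices hα1 : α = 𝟙 t.1 by rw [← hαb, hα1, Category.id_comp]
  obtain ⟨R, hR, hloc⟩ := hF (G.obj t.1)
  have htW : 𝒯₁.p.obj t.1 = W := t.2
  have hW : W = 𝒮₁.p.obj (G.obj t.1) := (htW.symm.trans (G.w_obj t.1).symm)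
  have hα' : 𝒯₁.p.IsHomLift (𝟙 (𝒮₁.p.obj (G.obj t.1))) α :=
    isHomLift_id_of_eq 𝒯₁.p hW α hα
  refine aut_eq_id h₃.1 R (h₃.2 R hR).faithful t.1 (G.w_obj t.1).symm α hα' ?_
  intro a s ψ hψ
  obtain ⟨x, φ, hφ⟩ := hloc a.obj.hom a.property
  obtain ⟨β, hβ, hβψ⟩ := exists_conj 𝒯₁.p h₃.1 a.obj.hom ψ hψ α hα'
  have hGψ : 𝒮₁.p.IsHomLift a.obj.hom (G.map ψ) := inferInstance
  have hGβl : 𝒮₁.p.IsHomLift (𝟙 a.obj.left) (G.map β) := inferInstance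
  obtain ⟨θ, hθi, hθ, hθV⟩ := exists_theta F G h₁.1 a.obj.hom x s φ (G.map ψ) hφ hGψ
  have hinvV : 𝒮₁.p.IsHomLift (𝟙 a.obj.left) (inv θ) := inferInstance
  have hc : 𝒮₁.p.IsHomLift (𝟙 a.obj.left) (θ ≫ G.map β ≫ inv θ) :=
    isHomLift_comp_id_left 𝒮₁.p (𝟙 a.obj.left) _ _ hθV
      (isHomLift_comp_id_left 𝒮₁.p (𝟙 a.obj.left) _ _ hGβl hinvV)
  let γ : x ⟶ x := F.toFunctor.preimage (θ ≫ G.map β ≫ inv θ)
  have hFγ : F.map γ = θ ≫ G.map β ≫ inv θ := F.toFunctor.map_preimage _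
  have hV : a.obj.left = 𝒮₂.p.obj x :=
    (IsHomLift.domain_eq 𝒮₁.p a.obj.hom φ).symm.trans (F.w_obj x)
  have hγ : 𝒮₂.p.IsHomLift (𝟙 (𝒮₂.p.obj x)) γ := by
    rw [← BasedFunctor.isHomLift_iff F, hFγ]
    exact isHomLift_id_of_eq 𝒮₁.p hV _ hc
  let z : (FibCat.fp F G).obj := mkObj F G x s (asIso θ) hθ
  have w₁ : F.map γ ≫ z.obj.iso.hom = z.obj.iso.hom ≫ G.map β := by
    rw [hFγ]
    change (θ ≫ G.map β ≫ inv θ) ≫ θ = θ ≫ G.map β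
    simp
  let m₁ : z ⟶ z := mkHom F G γ β w₁
  have hm1 : (FibCat.fp F G).p.IsHomLift (𝟙 (𝒮₂.p.obj x)) m₁ :=
    (fp_isHomLift_iff F G _ m₁).mpr hγ
  have hm2 : (FibCat.fp F G).p.IsHomLift (𝟙 (𝒮₂.p.obj x)) (𝟙 z) := IsHomLift.id rfl
  have hm : m₁ = 𝟙 z := eq_of_thin (h.2 (𝒮₂.p.obj x)) m₁ (𝟙 z) hm1 hm2
  have hβ1 : β = 𝟙 s := congrArg (fun m => m.hom.snd) hm
  rw [← hβψ, hβ1, Category.id_comp]

end Groth.Agent.S12799
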