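import Groth.Statements.S12800
import Groth.Agent.S6401

set_option autoImplicit false
open CategoryTheory
universe v u
open FibCat

namespace Groth.Agent.S12800

open Groth.Agent.H32.FibProd in
theorem eq_of_thin {C : Type u} [Category.{v} C] {𝒳 : Type _} [Category 𝒳] {p : 𝒳 ⥤ C} {U : C}
    (h : Quiver.IsThin (p.Fiber U)) {a b : 𝒳} (φ ψ : a ⟶ b)
    [p.IsHomLift (𝟙 U) φ] [p.IsHomLift (𝟙 U) ψ] : φ = ψ := by
  have := (h (Functor.Fiber.mk (IsHomLift.domain_eq p (𝟙 U) φ))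
    (Functor.Fiber.mk (IsHomLift.codomain_eq p (𝟙 U) φ))).elim
      (Functor.Fiber.homMk p U φ) (Functor.Fiber.homMk p U ψ)
  exact congrArg Subtype.val this

/-- For categories `𝒮`, `𝒯` fibred in groupoids over `C`, a category `ℛ` fibred in setoids over `C`, a
functor `f : 𝒯 ⟶ 𝒮` over `C` with faithful underlying functor and a functor `g : ℛ ⟶ 𝒮` over `C`,
the 2-fibre product `𝒯 ×_𝒮 ℛ` over `C` is fibred in setoids. (The published statement takes stacks
in groupoids over a site and concludes a stack in setoids; the stack property of the 2-fibre product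
is the separate result on 2-fibre products of stacks in groupoids, and the setoid property stated
here needs no topology.) -/
theorem result {C : Type u} [Category.{v} C] {𝒮 𝒯 ℛ : BasedCategory.{v, max u v} C}
    (h𝒮 : FibCat.IsFibGrpd 𝒮.p) (h𝒯 : FibCat.IsFibGrpd 𝒯.p) (hℛ : FibCat.IsFibSetoid ℛ.p) (f : 𝒯 ⥤ᵇ 𝒮) [f.toFunctor.Faithful] (g : ℛ ⥤ᵇ 𝒮) :
    FibCat.IsFibSetoid (FibCat.fp f g).p := by
  refine ⟨Groth.Agent.S6401.result f g h𝒯 hℛ.1 h𝒮, ?_⟩
  intro U a b
  refine ⟨fun m m' => ?_⟩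
  apply Functor.Fiber.hom_ext
  show m.1 = m'.1
  have hm : (FibCat.fp f g).p.IsHomLift (𝟙 U) m.1 := m.2
  have hm' : (FibCat.fp f g).p.IsHomLift (𝟙 U) m'.1 := m'.2
  have h2 : ℛ.p.IsHomLift (𝟙 U) m.1.hom.snd :=
    Groth.Agent.H32.FibProd.fp_isHomLift_snd' f g (𝟙 U) m.1
  have h2' : ℛ.p.IsHomLift (𝟙 U) m'.1.hom.snd :=
    Groth.Agent.H32.FibProd.fp_isHomLift_snd' f g (𝟙 U) m'.1
  have e2 : m.1.hom.snd = m'.1.hom.snd := eq_of_thin (hℛ.2 U) _ _
  have e1 : m.1.hom.fst = m'.1.hom.fst := by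
    apply f.toFunctor.map_injective
    have w := m.1.hom.w
    have w' := m'.1.hom.w
    rw [e2] at w
    exact (cancel_mono b.1.obj.iso.hom).mp (w.trans w'.symm)
  exact Groth.Agent.H32.FibProd.fp_hom_ext f g e1 e2

end Groth.Agent.S12800
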