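import Groth.Statements.S12801
-- import your own Groth.Agent.* helpers here

set_option autoImplicit false
open CategoryTheory
universe v₂ u₂ v u
open Stk

namespace Groth.Agent.S12801

/-- Let `p : 𝒳 ⥤ C` make `𝒳` fibred in groupoids over `C` and let `J` be a Grothendieck topology on `C`.
A sieve `S` on an object `x` of `𝒳` belongs to the topology on `𝒳` generated by the sieves whose
image under `p` generates a covering sieve if and only if the image of `S` under `p` generates a
covering sieve of `p x`: the sieves whose image covers already satisfy the axioms of a topology (the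
topology on `𝒳` inherited from `C`). (The published statement is for a fibred category, with
coverings the families of strongly cartesian morphisms `{x_i ⟶ x}` such that `{p x_i ⟶ p x}` is a
covering; this row is the case of a category fibred in groupoids, where every morphism is strongly
cartesian, in sieve form.) -/
theorem result {C : Type u} [Category.{v} C] {𝒳 : Type u₂} [Category.{v₂} 𝒳] (p : 𝒳 ⥤ C)
    (hp : FibCat.IsFibGrpd p) (J : GrothendieckTopology C) {x : 𝒳} (S : Sieve x) :
    S ∈ p.restrictedTopology J x ↔ S.functorPushforward p ∈ J (p.obj x) := by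
  constructor
  · intro hS
    rw [Functor.restrictedTopology] at hS
    induction hS with
    | of X S hS => rwa [← Sieve.generate_map_eq_functorPushforward]
    | top X => simp
    | pullback X S _ Y f ih =>
      refine J.superset_covering ?_ (J.pullback_stable (p.map f) ih)
      rintro Z g ⟨W, iWX, iZW, hiWX, e⟩
      obtain ⟨U, ψ, hψ⟩ := hp.exists_lift g
      have hd : p.obj U = Z := IsHomLift.domain_eq p g ψ
      subst hd
      have hg : g = p.map ψ := IsHomLift.eq_of_isHomLift p g ψ
      subst hg
      have hsc : p.IsStronglyCartesian (p.map iWX) iWX := hp.isStronglyCartesian iWX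
      have hl : p.IsHomLift (iZW ≫ p.map iWX) (ψ ≫ f) := by
        rw [← e, ← p.map_comp]; exact IsHomLift.map p (ψ ≫ f)
      have hχ : Functor.IsStronglyCartesian.map p (p.map iWX) iWX (f' := iZW ≫ p.map iWX)
          rfl (ψ ≫ f) ≫ iWX = ψ ≫ f :=
        Functor.IsStronglyCartesian.fac p (p.map iWX) iWX rfl (ψ ≫ f)
      refine ⟨U, ψ, 𝟙 _, ?_, by simp⟩
      show S (ψ ≫ f)
      rw [← hχ]
      exact S.downward_closed hiWX _
    | transitive X S R _ _ hS H' =>
      apply J.transitive hS
      rintro Y _ ⟨Z, g, i, hg, rfl⟩
      rw [Sieve.pullback_comp]
      apply J.pullback_stable i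
      refine J.superset_covering ?_ (H' hg)
      rintro W _ ⟨Z', g', i', hg, rfl⟩
      refine ⟨Z', g' ≫ g, i', hg, ?_⟩
      simp
  · exact Functor.mem_restrictedTopology_of_functorPushforward_mem

end Groth.Agent.S12801
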