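import Groth.Statements.S12802
import Mathlib
import Groth.Agent.S12801

set_option autoImplicit false
open CategoryTheory
universe v u
open Stk

namespace Groth.Agent.S12802

universe v₂ u₂

section fib
variable {C : Type u} [Category.{v} C] {𝒳 : Type u₂} [Category.{v₂} 𝒳] (p : 𝒳 ⥤ C)

theorem sc_of_lift (hp : FibCat.IsFibGrpd p) {R S : C} {a b : 𝒳} (f : R ⟶ S)
    (φ : a ⟶ b) [p.IsHomLift f φ] : p.IsStronglyCartesian f φ := by
  subst_hom_lift p f φ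
  exact hp.isStronglyCartesian φ

theorem exists_lift_of_eq (hp : FibCat.IsFibGrpd p) {x : 𝒳} {V S : C} (f : V ⟶ S)
    (h : p.obj x = S) : ∃ (y : 𝒳) (φ : y ⟶ x), p.IsHomLift f φ := by
  subst h
  exact hp.exists_lift f

theorem exists_factor (hp : FibCat.IsFibGrpd p) {R R' S : C} {a a' b : 𝒳} (f : R ⟶ S) (φ : a ⟶ b)
    [p.IsHomLift f φ] (g : R' ⟶ R) (f' : R' ⟶ S) (hf' : f' = g ≫ f) (φ' : a' ⟶ b)
    [p.IsHomLift f' φ'] : ∃ χ : a' ⟶ a, p.IsHomLift g χ ∧ χ ≫ φ = φ' := by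
  have := sc_of_lift p hp f φ
  exact ⟨Functor.IsStronglyCartesian.map p f φ hf' φ', inferInstance,
    Functor.IsStronglyCartesian.fac p f φ hf' φ'⟩

theorem lift_unique (hp : FibCat.IsFibGrpd p) {R R' S : C} {a a' b : 𝒳} (f : R ⟶ S) (φ : a ⟶ b)
    [p.IsHomLift f φ] (g : R' ⟶ R) (ψ ψ' : a' ⟶ a) [p.IsHomLift g ψ] [p.IsHomLift g ψ']
    (h : ψ ≫ φ = ψ' ≫ φ) : ψ = ψ' := by
  have := sc_of_lift p hp f φ
  exact Functor.IsStronglyCartesian.ext p f φ g h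

theorem base_eq_of_lift {R S : C} {a b : 𝒳} (f f' : R ⟶ S) (φ : a ⟶ b) [p.IsHomLift f φ]
    [p.IsHomLift f' φ] : f = f' := by
  rw [IsHomLift.fac p f φ, IsHomLift.fac p f' φ]

/-- the image sieve on `U` of a sieve `S` on `x`: the arrows that lift to arrows of `S`. -/
def imgAt (hp : FibCat.IsFibGrpd p) {x : 𝒳} (S : Sieve x) (U : C) : Sieve U where
  arrows := fun W g => ∃ (z : 𝒳) (h : z ⟶ x), S h ∧ p.IsHomLift g h
  downward_closed := by
    rintro W W' g ⟨z, h, hS, hl⟩ k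
    have hd : p.obj z = W := IsHomLift.domain_eq p g h
    subst hd
    obtain ⟨y, φ, hφ⟩ := hp.exists_lift k
    exact ⟨y, φ ≫ h, S.downward_closed hS φ, inferInstance⟩

theorem imgAt_eq (hp : FibCat.IsFibGrpd p) {x : 𝒳} (S : Sieve x) :
    S.functorPushforward p = imgAt p hp S (p.obj x) := by
  ext W g
  constructor
  · rintro ⟨Z, h, i, hS, rfl⟩
    obtain ⟨y, φ, hφ⟩ := hp.exists_lift i
    exact ⟨y, φ ≫ h, S.downward_closed hS φ, inferInstance⟩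
  · rintro ⟨z, h, hS, hl⟩
    have hd : p.obj z = W := IsHomLift.domain_eq p g h
    subst hd
    have hg : g = p.map h := IsHomLift.eq_of_isHomLift p g h
    exact ⟨z, h, 𝟙 _, hS, by rw [hg, Category.id_comp]⟩

theorem mem_iff (hp : FibCat.IsFibGrpd p) (J : GrothendieckTopology C) {x : 𝒳} (S : Sieve x) :
    S ∈ p.restrictedTopology J x ↔ imgAt p hp S (p.obj x) ∈ J (p.obj x) := by
  rw [Groth.Agent.S12801.result p hp J, imgAt_eq p hp]

theorem transport (hp : FibCat.IsFibGrpd p) (J : GrothendieckTopology C) {x : 𝒳} (S : Sieve x)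
    {V V' : C} (e : V = V') (h : imgAt p hp S V ∈ J V) : imgAt p hp S V' ∈ J V' := by
  subst e
  exact h

end fib


/-- Let `F : 𝒳 ⟶ 𝒴` be a functor over `C` between categories fibred in groupoids over `C` and endow `𝒳`
and `𝒴` with the topologies inherited from the topology `J` on `C` (generated by the sieves whose
image in `C` covers). Then `F` maps covering sieves to families generating covering sieves, lifts
coverings (it is cocontinuous), and precomposition with `F` sends sheaves of types on `𝒴` to sheaves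
on `𝒳` (it is continuous). (The published statement is for a 1-morphism of fibred categories with
the inherited topologies; this row is the case of categories fibred in groupoids, and the published
statement phrases continuity through the fibre products of covering families and deduces a morphism
of topoi whose inverse image is precomposition with `F`, which is not stated here.) -/
theorem result {C : Type u} [Category.{v} C] (J : GrothendieckTopology C) {𝒳 𝒴 : BasedCategory.{v, max u v} C}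
    (h𝒳 : FibCat.IsFibGrpd 𝒳.p) (h𝒴 : FibCat.IsFibGrpd 𝒴.p) (F : 𝒳 ⥤ᵇ 𝒴) :
    CoverPreserving (𝒳.p.restrictedTopology J) (𝒴.p.restrictedTopology J) F.toFunctor ∧
      F.toFunctor.IsCocontinuous (𝒳.p.restrictedTopology J) (𝒴.p.restrictedTopology J) ∧
      F.toFunctor.IsContinuous (𝒳.p.restrictedTopology J) (𝒴.p.restrictedTopology J) := by
  have hcp : CoverPreserving (𝒳.p.restrictedTopology J) (𝒴.p.restrictedTopology J)
      F.toFunctor := by
    refine ⟨fun {U S} hS => ?_⟩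
    rw [mem_iff 𝒳.p h𝒳 J] at hS
    rw [mem_iff 𝒴.p h𝒴 J]
    have h1 : imgAt 𝒴.p h𝒴 (S.functorPushforward F.toFunctor) (𝒳.p.obj U) ∈ J (𝒳.p.obj U) := by
      refine J.superset_covering ?_ hS
      rintro W g ⟨z, h, hS', hl⟩
      exact ⟨F.toFunctor.obj z, F.toFunctor.map h, ⟨z, h, 𝟙 _, hS', by simp⟩, inferInstance⟩
    exact transport 𝒴.p h𝒴 J _ (F.w_obj U).symm h1
  have hcc : F.toFunctor.IsCocontinuous (𝒳.p.restrictedTopology J)
      (𝒴.p.restrictedTopology J) := by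
    refine ⟨fun {U S} hS => ?_⟩
    rw [mem_iff 𝒴.p h𝒴 J] at hS
    rw [mem_iff 𝒳.p h𝒳 J]
    have h1 : imgAt 𝒳.p h𝒳 (S.functorPullback F.toFunctor) (𝒴.p.obj (F.toFunctor.obj U)) ∈
        J (𝒴.p.obj (F.toFunctor.obj U)) := by
      refine J.superset_covering ?_ hS
      rintro W g ⟨z, h, hS', hl⟩
      obtain ⟨y, ψ, hψ⟩ := exists_lift_of_eq 𝒳.p h𝒳 g (F.w_obj U).symm
      refine ⟨y, ψ, ?_, hψ⟩
      obtain ⟨χ, -, hχ⟩ := exists_factor 𝒴.p h𝒴 g h (𝟙 W) g (Category.id_comp g).symm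
        (F.toFunctor.map ψ)
      show S.arrows (F.toFunctor.map ψ)
      rw [← hχ]
      exact S.downward_closed hS' χ
    exact transport 𝒳.p h𝒳 J _ (F.w_obj U) h1
  refine ⟨hcp, hcc, Functor.isContinuous_of_coverPreserving ⟨?_⟩ hcp⟩
  intro ℱ Z T x hx Y₁ Y₂ X f₁ f₂ g₁ g₂ hg₁ hg₂ hcomm
  obtain ⟨c₁, hc₁⟩ : ∃ c₁ : 𝒴.p.obj X ⟶ 𝒳.p.obj Y₁, 𝒴.p.IsHomLift c₁ f₁ :=
    ⟨𝒴.p.map f₁ ≫ eqToHom (F.w_obj Y₁), inferInstance⟩
  obtain ⟨c₂, hc₂⟩ : ∃ c₂ : 𝒴.p.obj X ⟶ 𝒳.p.obj Y₂, 𝒴.p.IsHomLift c₂ f₂ :=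
    ⟨𝒴.p.map f₂ ≫ eqToHom (F.w_obj Y₂), inferInstance⟩
  obtain ⟨W, γ₁, hγ₁⟩ := h𝒳.exists_lift c₁
  obtain ⟨θ, hθ, hθ₁⟩ := exists_factor 𝒴.p h𝒴 c₁ (F.toFunctor.map γ₁) (𝟙 _) c₁
    (Category.id_comp c₁).symm f₁
  have hbase : c₁ ≫ 𝒳.p.map g₁ = c₂ ≫ 𝒳.p.map g₂ := by
    haveI : 𝒴.p.IsHomLift (c₁ ≫ 𝒳.p.map g₁) (f₁ ≫ F.toFunctor.map g₁) := inferInstance
    haveI : 𝒴.p.IsHomLift (c₂ ≫ 𝒳.p.map g₂) (f₁ ≫ F.toFunctor.map g₁) := by
      rw [hcomm]; infer_instance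
    exact base_eq_of_lift 𝒴.p _ _ (f₁ ≫ F.toFunctor.map g₁)
  obtain ⟨γ₂, hγ₂, hγ₂'⟩ := exists_factor 𝒳.p h𝒳 (𝒳.p.map g₂) g₂ c₂ (c₁ ≫ 𝒳.p.map g₁) hbase
    (γ₁ ≫ g₁)
  have hθ₂ : θ ≫ F.toFunctor.map γ₂ = f₂ := by
    haveI : 𝒴.p.IsHomLift c₂ (θ ≫ F.toFunctor.map γ₂) := inferInstance
    refine lift_unique 𝒴.p h𝒴 (𝒳.p.map g₂) (F.toFunctor.map g₂) c₂ _ _ ?_
    rw [Category.assoc, ← F.toFunctor.map_comp, hγ₂', F.toFunctor.map_comp, ← Category.assoc,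
      hθ₁, hcomm]
  have key := hx γ₁ γ₂ hg₁ hg₂ hγ₂'.symm
  rw [← hθ₁, ← hθ₂, op_comp, op_comp, FunctorToTypes.map_comp_apply,
    FunctorToTypes.map_comp_apply]
  exact congrArg (ℱ.obj.map θ.op) key

end Groth.Agent.S12802
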