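import Groth.Statements.S12803
import Mathlib
import Groth.Agent.S12801

set_option autoImplicit false
open CategoryTheory
universe v₂ u₂ v u
open Stk

namespace Groth.Agent.S12803

/-- Let `p : 𝒳 ⥤ C` make `𝒳` fibred in groupoids over `C`, let `J` be a topology on `C` and `x` an
object of `𝒳`. The functor `𝒳/x ⥤ C/p(x)` induced by `p` is an equivalence of categories, and it
identifies the localisation at `x` of the topology on `𝒳` inherited from `J` with the localisation
of `J` at `p x`: a sieve on an object of `𝒳/x` covers if and only if its image covers. -/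
theorem result {C : Type u} [Category.{v} C] {𝒳 : Type u₂} [Category.{v₂} 𝒳] (p : 𝒳 ⥤ C)
    (hp : FibCat.IsFibGrpd p) (J : GrothendieckTopology C) (x : 𝒳) :
    (Over.post p : Over x ⥤ Over (p.obj x)).IsEquivalence ∧
      ∀ (a : Over x) (S : Sieve a), S ∈ (p.restrictedTopology J).over x a ↔
        S.functorPushforward (Over.post p) ∈ (J.over (p.obj x)) ((Over.post p).obj a) := by
  have hsc : ∀ {y x : 𝒳} (φ : y ⟶ x), p.IsStronglyCartesian (p.map φ) φ :=
    fun φ => hp.isStronglyCartesian φ
  refine ⟨?_, ?_⟩
  · have hfaith : (Over.post p : Over x ⥤ Over (p.obj x)).Faithful := by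
      refine ⟨fun {a b} f g hfg => ?_⟩
      have h1 : p.map f.left = p.map g.left := congrArg CommaMorphism.left hfg
      haveI := hsc b.hom
      apply Over.OverMorphism.ext
      haveI : p.IsHomLift (p.map f.left) f.left := IsHomLift.map p f.left
      haveI : p.IsHomLift (p.map f.left) g.left := by rw [h1]; exact IsHomLift.map p g.left
      exact Functor.IsStronglyCartesian.ext p (p.map b.hom) b.hom (p.map f.left)
        (by rw [Over.w f, Over.w g])
    have hfull : (Over.post p : Over x ⥤ Over (p.obj x)).Full := by
      refine ⟨fun {a b} h => ?_⟩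
      haveI := hsc b.hom
      have hw : p.map a.hom = (h.left : p.obj a.left ⟶ p.obj b.left) ≫ p.map b.hom :=
        (Over.w h).symm
      haveI : p.IsHomLift (p.map a.hom) a.hom := IsHomLift.map p a.hom
      have hχ : Functor.IsStronglyCartesian.map p (p.map b.hom) b.hom hw a.hom ≫ b.hom = a.hom :=
        Functor.IsStronglyCartesian.fac p (p.map b.hom) b.hom hw a.hom
      haveI hl : p.IsHomLift (h.left : p.obj a.left ⟶ p.obj b.left)
          (Functor.IsStronglyCartesian.map p (p.map b.hom) b.hom hw a.hom) :=
        Functor.IsStronglyCartesian.map_isHomLift p (p.map b.hom) b.hom hw a.hom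
      have hpχ : (h.left : p.obj a.left ⟶ p.obj b.left) =
          p.map (Functor.IsStronglyCartesian.map p (p.map b.hom) b.hom hw a.hom) :=
        IsHomLift.eq_of_isHomLift p _ _
      refine ⟨Over.homMk (Functor.IsStronglyCartesian.map p (p.map b.hom) b.hom hw a.hom) hχ, ?_⟩
      apply Over.OverMorphism.ext
      exact hpχ.symm
    have hess : (Over.post p : Over x ⥤ Over (p.obj x)).EssSurj := by
      refine ⟨fun Y => ?_⟩
      obtain ⟨U, ψ, hψ⟩ := hp.exists_lift Y.hom
      have hd : p.obj U = Y.left := IsHomLift.domain_eq p Y.hom ψ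
      refine ⟨Over.mk ψ, ⟨Over.isoMk (eqToIso hd) ?_⟩⟩
      show (eqToIso hd).hom ≫ Y.hom = p.map ψ
      rw [IsHomLift.fac' p Y.hom ψ]
      simp
    exact { faithful := hfaith, full := hfull, essSurj := hess }
  · intro a S
    rw [GrothendieckTopology.mem_over_iff, GrothendieckTopology.mem_over_iff,
      Groth.Agent.S12801.result p hp J]
    have key : (Sieve.overEquiv a S).functorPushforward p =
        Sieve.overEquiv ((Over.post p).obj a) (S.functorPushforward (Over.post p)) := by
      ext W g
      rw [Sieve.overEquiv_iff]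
      constructor
      · rintro ⟨Z, h, i, hh, rfl⟩
        rw [Sieve.overEquiv_iff] at hh
        refine ⟨Over.mk (h ≫ a.hom), Over.homMk h rfl, Over.homMk i
          (by show i ≫ p.map (h ≫ a.hom) = (i ≫ p.map h) ≫ p.map a.hom
              rw [p.map_comp, Category.assoc]), hh, ?_⟩
        apply Over.OverMorphism.ext
        rfl
      · rintro ⟨Z', h', i', hh', he⟩
        refine ⟨Z'.left, h'.left, i'.left, ?_, ?_⟩
        · rw [Sieve.overEquiv_iff]
          have hS := S.downward_closed hh'
            (Over.homMk (𝟙 _) (by simp) : Over.mk (h'.left ≫ a.hom) ⟶ Z')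
          have e : (Over.homMk (𝟙 _) (by simp) : Over.mk (h'.left ≫ a.hom) ⟶ Z') ≫ h' =
              Over.homMk (U := Over.mk (h'.left ≫ a.hom)) (V := a) h'.left rfl := by
            apply Over.OverMorphism.ext
            simp
          rw [e] at hS
          exact hS
        · exact congrArg CommaMorphism.left he
    rw [key]
    exact Iff.rfl

end Groth.Agent.S12803
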