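import Groth.Statements.S12804
import Mathlib
import Groth.Agent.H88.StkObj
import Groth.Agent.S12801
import Groth.Agent.S6411

set_option autoImplicit false
open CategoryTheory
universe v u
open Stk

namespace Groth.Agent.S12804

open FibCat Groth.Agent.S12815 Groth.Agent.H88.StkObj

universe w₁ w₂ w₃ w₄

section Gen
variable {C : Type u} [Category.{v} C]

theorem chF {𝒟 : Type w₃} [Category.{w₄} 𝒟] {A A' X X0 B B' : 𝒟} (Hk : A ⟶ A') (L' : A' ⟶ X)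
    (et : X ⟶ X0) (L : A ⟶ X) (Hj' : A' ⟶ B') (l' : B' ⟶ X0) (Hj : A ⟶ B) (l : B ⟶ X0)
    (HE : B ⟶ B') (h' : L' ≫ et = Hj' ≫ l') (h : L ≫ et = Hj ≫ l) (e4 : Hk ≫ Hj' = Hj ≫ HE)
    (n : HE ≫ l' = l) : (Hk ≫ L') ≫ et = L ≫ et := by
  rw [Category.assoc, h', ← Category.assoc, e4, Category.assoc, n, h]

theorem mem_of_lift {Y : Type w₁} [Category.{w₂} Y] (p : Y ⥤ C) {y : Y} (R : Sieve (p.obj y))
    {V : C} (f : V ⟶ p.obj y) (hf : R f) {z : Y} (χ : z ⟶ y) (hχ : p.IsHomLift f χ) :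
    R (p.map χ) := by
  have hd : p.obj z = V := dom_eq p f χ hχ
  subst hd
  have e : f = p.map χ := IsHomLift.eq_of_isHomLift p f χ
  subst e
  exact hf

theorem lift_of_w {𝒟 : Type w₁} [Category.{w₂} 𝒟] {Y : Type w₃} [Category.{w₄} Y] (p : Y ⥤ C)
    (K : 𝒟 ⥤ Y) (Φ : 𝒟 ⥤ C) (hw : K ⋙ p = Φ) {d d' : 𝒟} (m : d ⟶ d') :
    p.IsHomLift (Φ.map m) (K.map m) :=
  IsHomLift.of_fac' p _ _ (Functor.congr_obj hw d) (Functor.congr_obj hw d')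
    (Functor.congr_hom hw m)

theorem sieve_eq_pullback {Y : Type w₁} [Category.{w₂} Y] (p : Y ⥤ C) (hp : IsFibGrpd p) {y : Y}
    (S : Sieve y) : S = (S.functorPushforward p).functorPullback p := by
  apply le_antisymm (Sieve.le_functorPushforward_pullback p S)
  intro z χ hχ
  obtain ⟨w, g, h, hg, e⟩ := hχ
  have sc : p.IsStronglyCartesian (p.map g) g := hp.isStronglyCartesian g
  have l : p.IsHomLift (h ≫ p.map g) χ := by rw [← e]; exact IsHomLift.map p χ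
  obtain ⟨κ, -, hκ⟩ := sc_exists_g p (p.map g) g sc h χ l
  rw [← hκ]
  exact S.downward_closed hg κ

section Cocone
variable {𝒯 : BasedCategory.{v, max u v} C}

theorem indepD₀ (h𝒯 : IsFibGrpd 𝒯.p) {U : C} (R : Sieve U) (D : R.arrows.category ⥤ 𝒯.obj)
    (hD : ∀ {a b : R.arrows.category} (m : a ⟶ b), 𝒯.p.IsHomLift m.hom.left (D.map m))
    {y₁ y₂ : 𝒯.obj} (l1 : ∀ a : R.arrows.category, D.obj a ⟶ y₁)
    (l2 : ∀ a : R.arrows.category, D.obj a ⟶ y₂)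
    (hl1 : ∀ a : R.arrows.category, 𝒯.p.IsHomLift a.obj.hom (l1 a))
    (n1 : ∀ {a b : R.arrows.category} (m : a ⟶ b), D.map m ≫ l1 b = l1 a)
    (n2 : ∀ {a b : R.arrows.category} (m : a ⟶ b), D.map m ≫ l2 b = l2 a)
    {s : 𝒯.obj} (a₀ a : R.arrows.category) (κ₀ : s ⟶ D.obj a₀)
    (hκ₀ : 𝒯.p.IsHomLift (𝟙 a₀.obj.left) κ₀) (κ : s ⟶ D.obj a)
    (h : κ ≫ l1 a = κ₀ ≫ l1 a₀) : κ ≫ l2 a = κ₀ ≫ l2 a₀ := by
  have hs : 𝒯.p.obj s = a₀.obj.left := dom_eq 𝒯.p (𝟙 a₀.obj.left) κ₀ hκ₀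
  have hc : 𝒯.p.obj (D.obj a) = a.obj.left := dom_eq 𝒯.p a.obj.hom (l1 a) (hl1 a)
  obtain ⟨g, hg⟩ : ∃ g : a₀.obj.left ⟶ a.obj.left, 𝒯.p.IsHomLift g κ :=
    ⟨eqToHom hs.symm ≫ 𝒯.p.map κ ≫ eqToHom hc, IsHomLift.of_fac 𝒯.p _ κ hs hc rfl⟩
  have q1 : 𝒯.p.IsHomLift (g ≫ a.obj.hom) (κ ≫ l1 a) :=
    lift_comp2 𝒯.p g a.obj.hom κ _ hg (hl1 a)
  have q2 : 𝒯.p.IsHomLift a₀.obj.hom (κ₀ ≫ l1 a₀) :=
    lift_comp_id_left 𝒯.p a₀.obj.hom κ₀ _ hκ₀ (hl1 a₀)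
  rw [h] at q1
  have hw : g ≫ a.obj.hom = a₀.obj.hom := base_unique 𝒯.p _ _ _ q1 q2
  let k : a₀ ⟶ a := ObjectProperty.homMk (Over.homMk g hw)
  have sc : 𝒯.p.IsStronglyCartesian a.obj.hom (l1 a) := sc_of_isHomLift 𝒯.p h𝒯 _ _ (hl1 a)
  have e : κ = κ₀ ≫ D.map k := by
    refine sc_ext 𝒯.p a.obj.hom (l1 a) sc g _ _ hg
      (lift_comp_id_left 𝒯.p g κ₀ _ hκ₀ (hD k)) ?_
    exact h.trans (chC κ₀ (D.map k) (l1 a) (l1 a₀) (n1 k)).symm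
  exact (congrArg (fun z => z ≫ l2 a) e).trans (chC κ₀ (D.map k) (l2 a) (l2 a₀) (n2 k))

theorem indepD (h𝒯 : IsFibGrpd 𝒯.p) {U : C} (R : Sieve U) (D : R.arrows.category ⥤ 𝒯.obj)
    (hD : ∀ {a b : R.arrows.category} (m : a ⟶ b), 𝒯.p.IsHomLift m.hom.left (D.map m))
    {y₁ y₂ : 𝒯.obj} (l1 : ∀ a : R.arrows.category, D.obj a ⟶ y₁)
    (l2 : ∀ a : R.arrows.category, D.obj a ⟶ y₂)
    (hl1 : ∀ a : R.arrows.category, 𝒯.p.IsHomLift a.obj.hom (l1 a))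
    (n1 : ∀ {a b : R.arrows.category} (m : a ⟶ b), D.map m ≫ l1 b = l1 a)
    (n2 : ∀ {a b : R.arrows.category} (m : a ⟶ b), D.map m ≫ l2 b = l2 a)
    {s : 𝒯.obj} (a a' : R.arrows.category) (κ : s ⟶ D.obj a) (κ' : s ⟶ D.obj a')
    (h : κ ≫ l1 a = κ' ≫ l1 a') : κ ≫ l2 a = κ' ≫ l2 a' := by
  have hc : 𝒯.p.obj (D.obj a) = a.obj.left := dom_eq 𝒯.p a.obj.hom (l1 a) (hl1 a)
  obtain ⟨g, hg⟩ : ∃ g : 𝒯.p.obj s ⟶ a.obj.left, 𝒯.p.IsHomLift g κ :=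
    ⟨𝒯.p.map κ ≫ eqToHom hc, IsHomLift.of_fac 𝒯.p _ κ rfl hc (by simp)⟩
  let a₀ : R.arrows.category := ⟨Over.mk (g ≫ a.obj.hom), R.downward_closed a.property g⟩
  have q : 𝒯.p.IsHomLift (g ≫ a.obj.hom) (κ ≫ l1 a) :=
    lift_comp2 𝒯.p g a.obj.hom κ _ hg (hl1 a)
  obtain ⟨κ₀, hκ1, hκ2⟩ := sc_exists 𝒯.p (g ≫ a.obj.hom) (l1 a₀)
    (sc_of_isHomLift 𝒯.p h𝒯 _ _ (hl1 a₀)) _ q
  exact (indepD₀ h𝒯 R D hD l1 l2 hl1 n1 n2 a₀ a κ₀ hκ1 κ hκ2.symm).trans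
    (indepD₀ h𝒯 R D hD l1 l2 hl1 n1 n2 a₀ a' κ₀ hκ1 κ' (h.symm.trans hκ2.symm)).symm

theorem cocone_compare (h𝒯 : IsFibGrpd 𝒯.p) {U : C} (R : Sieve U) (hg : GlueHom 𝒯 R)
    (D : R.arrows.category ⥤ 𝒯.obj)
    (hD : ∀ {a b : R.arrows.category} (m : a ⟶ b), 𝒯.p.IsHomLift m.hom.left (D.map m))
    (y₁ y₂ : 𝒯.obj) (h₁ : 𝒯.p.obj y₁ = U) (h₂ : 𝒯.p.obj y₂ = U)
    (l1 : ∀ a : R.arrows.category, D.obj a ⟶ y₁) (l2 : ∀ a : R.arrows.category, D.obj a ⟶ y₂)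
    (hl1 : ∀ a : R.arrows.category, 𝒯.p.IsHomLift a.obj.hom (l1 a))
    (hl2 : ∀ a : R.arrows.category, 𝒯.p.IsHomLift a.obj.hom (l2 a))
    (n1 : ∀ {a b : R.arrows.category} (m : a ⟶ b), D.map m ≫ l1 b = l1 a)
    (n2 : ∀ {a b : R.arrows.category} (m : a ⟶ b), D.map m ≫ l2 b = l2 a) :
    ∃ e : y₁ ⟶ y₂, 𝒯.p.IsHomLift (𝟙 U) e ∧ ∀ a : R.arrows.category, l1 a ≫ e = l2 a := by
  have hex' : ∀ ⦃V : C⦄ (f : V ⟶ U), R f → ∀ (s : 𝒯.obj) (ψ : s ⟶ y₁), 𝒯.p.IsHomLift f ψ →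
      ∃ ψ' : s ⟶ y₂, 𝒯.p.IsHomLift f ψ' ∧
        ∃ (a : R.arrows.category) (κ : s ⟶ D.obj a), κ ≫ l1 a = ψ ∧ ψ' = κ ≫ l2 a := by
    intro V f hf s ψ hψ
    let a₀ : R.arrows.category := ⟨Over.mk f, hf⟩
    obtain ⟨κ₀, hκ1, hκ2⟩ := sc_exists 𝒯.p f (l1 a₀) (sc_of_isHomLift 𝒯.p h𝒯 _ _ (hl1 a₀)) ψ hψ
    exact ⟨κ₀ ≫ l2 a₀, lift_comp_id_left 𝒯.p f κ₀ _ hκ1 (hl2 a₀), a₀, κ₀, hκ2, rfl⟩
  have huniq' : ∀ (s : 𝒯.obj) (ψ : s ⟶ y₁) (ψ₁ ψ₂ : s ⟶ y₂),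
      (∃ (a : R.arrows.category) (κ : s ⟶ D.obj a), κ ≫ l1 a = ψ ∧ ψ₁ = κ ≫ l2 a) →
      (∃ (a : R.arrows.category) (κ : s ⟶ D.obj a), κ ≫ l1 a = ψ ∧ ψ₂ = κ ≫ l2 a) → ψ₁ = ψ₂ := by
    rintro s ψ ψ₁ ψ₂ ⟨a, κ, h1, h2⟩ ⟨a', κ', h1', h2'⟩
    exact h2.trans ((indepD h𝒯 R D hD l1 l2 hl1 n1 n2 a a' κ κ' (h1.trans h1'.symm)).trans h2'.symm)
  have hnat' : ∀ (s s' : 𝒯.obj) (χ : s ⟶ s') (ψ : s' ⟶ y₁) (ψ' : s' ⟶ y₂),
      (∃ (a : R.arrows.category) (κ : s' ⟶ D.obj a), κ ≫ l1 a = ψ ∧ ψ' = κ ≫ l2 a) →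
      (∃ (a : R.arrows.category) (κ : s ⟶ D.obj a), κ ≫ l1 a = χ ≫ ψ ∧ χ ≫ ψ' = κ ≫ l2 a) := by
    rintro s s' χ ψ ψ' ⟨a, κ, h1, h2⟩
    exact ⟨a, χ ≫ κ, by rw [Category.assoc, h1], by rw [h2, Category.assoc]⟩
  obtain ⟨e, he1, he2⟩ := hg y₁ y₂ h₁ h₂
    (fun {s} ψ ψ' => ∃ (a : R.arrows.category) (κ : s ⟶ D.obj a), κ ≫ l1 a = ψ ∧ ψ' = κ ≫ l2 a)
    hex' huniq' hnat'
  refine ⟨e, he1, fun a => ?_⟩
  obtain ⟨a', κ', h1, h2⟩ := he2 a.obj.hom a.property _ (l1 a) (hl1 a)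
  have i := indepD h𝒯 R D hD l1 l2 hl1 n1 n2 a' a κ' (𝟙 _) (h1.trans (Category.id_comp _).symm)
  exact h2.trans (i.trans (Category.id_comp _))

end Cocone

variable {𝒳 𝒴 : BasedCategory.{v, max u v} C}

theorem liftP (F : 𝒳 ⥤ᵇ 𝒴) {t t' : 𝒳.obj} {ψ : t ⟶ t'} {z z' : 𝒴.obj} {χ : z ⟶ z'} {R S : C}
    {f : R ⟶ S} (h1 : F.toFunctor.IsHomLift χ ψ) (h2 : 𝒴.p.IsHomLift f χ) : 𝒳.p.IsHomLift f ψ :=
  (F.isHomLift_iff f ψ).1 (lift_of_comp F.toFunctor 𝒴.p f ψ (lift_functor F.toFunctor 𝒴.p h1 h2))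

theorem locEq_F (F : 𝒳 ⥤ᵇ 𝒴) (y : 𝒴.obj) (R : Sieve (𝒴.p.obj y)) (hX : LocEq 𝒳 R) :
    LocEq (BasedCategory.ofFunctor F.toFunctor) (R.functorPullback 𝒴.p) := by
  intro y' u t t' b b' hb hb' hloc
  have hb0 : F.toFunctor.IsHomLift u b := hb
  have hb0' : F.toFunctor.IsHomLift u b' := hb'
  have hy : F.toFunctor.obj t = y := dom_eq F.toFunctor u b hb0
  subst hy
  refine hX (𝒴.p.map u) b b' (liftP F hb0 (IsHomLift.map 𝒴.p u))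
    (liftP F hb0' (IsHomLift.map 𝒴.p u)) ?_
  intro V f hf s ψ hψ
  have hψY : 𝒴.p.IsHomLift f (F.toFunctor.map ψ) := (F.isHomLift_iff f ψ).2 hψ
  exact hloc (F.toFunctor.map ψ) (mem_of_lift 𝒴.p R f hf _ hψY) s ψ (IsHomLift.map F.toFunctor ψ)

theorem glueHom_F (F : 𝒳 ⥤ᵇ 𝒴) (hF : IsFibGrpd F.toFunctor) (y : 𝒴.obj)
    (R : Sieve (𝒴.p.obj y)) (hX : GlueHom 𝒳 R) (hYl : LocEq 𝒴 R) :
    GlueHom (BasedCategory.ofFunctor F.toFunctor) (R.functorPullback 𝒴.p) := by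
  intro t t' ht ht' Rel hex huniq hnat
  have ht0 : F.toFunctor.obj t = y := ht
  subst ht0
  have ht'0 : F.toFunctor.obj t' = F.toFunctor.obj t := ht'
  have hPt : 𝒳.p.obj t = 𝒴.p.obj (F.toFunctor.obj t) := (F.w_obj t).symm
  have hPt' : 𝒳.p.obj t' = 𝒴.p.obj (F.toFunctor.obj t) :=
    (F.w_obj t').symm.trans (congrArg 𝒴.p.obj ht'0)
  have hexX : ∀ ⦃V : C⦄ (f : V ⟶ 𝒴.p.obj (F.toFunctor.obj t)), R f → ∀ (s : 𝒳.obj) (ψ : s ⟶ t),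
      𝒳.p.IsHomLift f ψ → ∃ ψ' : s ⟶ t', 𝒳.p.IsHomLift f ψ' ∧ Rel ψ ψ' := by
    intro V f hf s ψ hψ
    have hψY : 𝒴.p.IsHomLift f (F.toFunctor.map ψ) := (F.isHomLift_iff f ψ).2 hψ
    obtain ⟨ψ', hψ'1, hψ'2⟩ := hex (F.toFunctor.map ψ) (mem_of_lift 𝒴.p R f hf _ hψY) s ψ
      (IsHomLift.map F.toFunctor ψ)
    have hψ'0 : F.toFunctor.IsHomLift (F.toFunctor.map ψ) ψ' := hψ'1
    exact ⟨ψ', liftP F hψ'0 hψY, hψ'2⟩
  obtain ⟨μ, hμ1, hμ2⟩ := hX t t' hPt hPt' @Rel hexX huniq hnat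
  have eμ : F.toFunctor.map μ = eqToHom ht'0.symm := by
    refine hYl (𝟙 _) _ _ ((F.isHomLift_iff _ μ).2 hμ1)
      (IsHomLift.eqToHom_domain_lift_id ht'0.symm rfl) ?_
    intro V f hf z χ hχ
    obtain ⟨s, ψ, hψ⟩ := hF.exists_lift χ
    have hψP : 𝒳.p.IsHomLift f ψ := liftP F hψ hχ
    have r1 : Rel ψ (ψ ≫ μ) := hμ2 f hf s ψ hψP
    have hd : F.toFunctor.obj s = z := dom_eq F.toFunctor χ ψ hψ
    subst hd
    have eχ : χ = F.toFunctor.map ψ := IsHomLift.eq_of_isHomLift F.toFunctor χ ψ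
    subst eχ
    obtain ⟨ψ', hψ'1, hψ'2⟩ := hex (F.toFunctor.map ψ) (mem_of_lift 𝒴.p R f hf _ hχ) s ψ
      (IsHomLift.map F.toFunctor ψ)
    have e2 : ψ ≫ μ = ψ' := huniq s ψ _ _ r1 hψ'2
    have hψ'0 : F.toFunctor.IsHomLift (F.toFunctor.map ψ) ψ' := hψ'1
    have l : F.toFunctor.IsHomLift (F.toFunctor.map ψ) (ψ ≫ μ) := by rw [e2]; exact hψ'0
    have fc := fac_of F.toFunctor (F.toFunctor.map ψ) (ψ ≫ μ) l
    rw [F.toFunctor.map_comp] at fc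
    rw [fc]; simp
  have hμF : F.toFunctor.IsHomLift (𝟙 (F.toFunctor.obj t)) μ :=
    IsHomLift.of_fac' F.toFunctor _ μ rfl ht'0 (by rw [eμ]; simp)
  refine ⟨μ, hμF, ?_⟩
  intro z χ hχ s ψ hψ
  have hψ0 : F.toFunctor.IsHomLift χ ψ := hψ
  have hχR : R (𝒴.p.map χ) := hχ
  exact hμ2 (𝒴.p.map χ) hχR s ψ (liftP F hψ0 (IsHomLift.map 𝒴.p χ))

theorem glueObj_F (F : 𝒳 ⥤ᵇ 𝒴) (hF : IsFibGrpd F.toFunctor) (h𝒴 : IsFibGrpd 𝒴.p) (y : 𝒴.obj)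
    (R : Sieve (𝒴.p.obj y)) (hXo : GlueObj 𝒳 R) (hYh : GlueHom 𝒴 R) :
    GlueObj (BasedCategory.ofFunctor F.toFunctor) (R.functorPullback 𝒴.p) := by
  intro H
  have h𝒪 : IsFibGrpd (BasedCategory.ofFunctor (Over.forget y ⋙ 𝒴.p)).p :=
    isFibGrpd_comp (Over.forget y) 𝒴.p (Groth.Agent.S6411.over_isFibGrpd y) h𝒴
  obtain ⟨E', hw', θ, hθ1, -⟩ := strictify (𝒲 := BasedCategory.ofFunctor (Over.forget y ⋙ 𝒴.p)) h𝒪
    R.arrows.diagram ((Functor.const R.arrows.category).obj (Over.mk (𝟙 y)))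
    (fun a => a.obj.hom) (by
      intro a a' k
      show k.hom.left ≫ a'.obj.hom = a.obj.hom ≫ 𝒴.p.map (𝟙 y)
      rw [Over.w k.hom, 𝒴.p.map_id, Category.comp_id])
  have hχ : ∀ a : R.arrows.category, 𝒴.p.IsHomLift a.obj.hom (E'.obj a).hom := by
    intro a
    have l1 : (Over.forget y ⋙ 𝒴.p).IsHomLift a.obj.hom (θ a) := hθ1 a
    have l2 : 𝒴.p.IsHomLift a.obj.hom ((Over.forget y).map (θ a)) :=
      lift_of_comp (Over.forget y) 𝒴.p _ _ l1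
    have e : (Over.forget y).map (θ a) = (E'.obj a).hom := by
      have := Over.w (θ a)
      simpa using this
    rw [← e]; exact l2
  have hE'm : ∀ {a b : R.arrows.category} (m : a ⟶ b),
      𝒴.p.IsHomLift m.hom.left (E'.map m).left := fun m =>
    lift_of_w 𝒴.p (E' ⋙ Over.forget y) R.arrows.diagram hw' m
  let E : R.arrows.category ⥤ (R.functorPullback 𝒴.p).arrows.category :=
    ObjectProperty.lift _ E' (fun a => mem_of_lift 𝒴.p R a.obj.hom a.property _ (hχ a))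
  have hHw : H.toFunctor ⋙ F.toFunctor = (R.functorPullback 𝒴.p).arrows.diagram := H.w
  have w0 : (E ⋙ H.toFunctor) ⋙ 𝒳.p = R.arrows.diagram :=
    (congrArg (fun G => (E ⋙ H.toFunctor) ⋙ G) F.w.symm).trans
      ((congrArg (fun G => E ⋙ (G ⋙ 𝒴.p)) hHw).trans hw')
  let H0 : Stk.sieveCat R ⥤ᵇ 𝒳 := { toFunctor := E ⋙ H.toFunctor, w := w0 }
  obtain ⟨x0, hx0, lam0, hlam0, hnat0⟩ := hXo H0
  have hobj : ∀ a : R.arrows.category,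
      F.toFunctor.obj (H.obj (E.obj a)) = (E'.obj a).left := fun a => H.w_obj (E.obj a)
  have hEm : ∀ {a b : R.arrows.category} (m : a ⟶ b),
      F.toFunctor.IsHomLift (E'.map m).left (H.map (E.map m)) := fun m => lift_map H (E.map m)
  have n2 : ∀ {a b : R.arrows.category} (m : a ⟶ b),
      F.toFunctor.map (H.map (E.map m)) ≫ eqToHom (hobj b) ≫ (E'.obj b).hom =
        eqToHom (hobj a) ≫ (E'.obj a).hom := by
    intro a b m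
    have fc := fac_of F.toFunctor (E'.map m).left (H.map (E.map m)) (hEm m)
    rw [fc]
    simp only [Category.assoc, eqToHom_trans_assoc, eqToHom_refl, Category.id_comp]
    rw [Over.w (E'.map m)]
  have h₁ : 𝒴.p.obj (F.toFunctor.obj x0) = 𝒴.p.obj y := (F.w_obj x0).trans hx0
  obtain ⟨e, he1, he2⟩ : ∃ e : F.toFunctor.obj x0 ⟶ y, 𝒴.p.IsHomLift (𝟙 (𝒴.p.obj y)) e ∧
      ∀ a : R.arrows.category,
        F.toFunctor.map (lam0 a) ≫ e = eqToHom (hobj a) ≫ (E'.obj a).hom :=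
    cocone_compare h𝒴 R hYh (H0.toFunctor ⋙ F.toFunctor)
      (fun m => (F.isHomLift_iff _ _).2 (lift_map H0 m))
      (F.toFunctor.obj x0) y h₁ rfl
      (fun a => F.toFunctor.map (lam0 a)) (fun a => eqToHom (hobj a) ≫ (E'.obj a).hom)
      (fun a => (F.isHomLift_iff _ _).2 (hlam0 a))
      (fun a => by
        haveI := hχ a
        exact IsHomLift.comp_eqToHom_lift 𝒴.p a.obj.hom (E'.obj a).hom (hobj a))
      (fun {a b} m => (F.toFunctor.map_comp _ _).symm.trans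
        (congrArg (fun z => F.toFunctor.map z) (hnat0 m)))
      (fun {a b} m => n2 m)
  obtain ⟨e', -, he'2, -⟩ := exists_inv_of_lift_id 𝒴.p h𝒴 e he1
  obtain ⟨x, et, het⟩ := hF.exists_lift (x := x0) e'
  have hx : F.toFunctor.obj x = y := dom_eq F.toFunctor e' et het
  have scet : F.toFunctor.IsStronglyCartesian e' et := sc_of_isHomLift F.toFunctor hF e' et het
  have hlamF : ∀ a : R.arrows.category,
      F.toFunctor.IsHomLift ((E'.obj a).hom ≫ e') (lam0 a) := by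
    intro a
    refine IsHomLift.of_fac' F.toFunctor _ _ (hobj a) rfl ?_
    have h3 : F.toFunctor.map (lam0 a) = eqToHom (hobj a) ≫ (E'.obj a).hom ≫ e' := by
      calc F.toFunctor.map (lam0 a) = F.toFunctor.map (lam0 a) ≫ (e ≫ e') := by
            rw [he'2, Category.comp_id]
        _ = (F.toFunctor.map (lam0 a) ≫ e) ≫ e' := by rw [Category.assoc]
        _ = (eqToHom (hobj a) ≫ (E'.obj a).hom) ≫ e' := by rw [he2 a]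
        _ = eqToHom (hobj a) ≫ (E'.obj a).hom ≫ e' := by rw [Category.assoc]
    rw [h3]; simp
  have hjE : ∀ c : (R.functorPullback 𝒴.p).arrows.category,
      ∃ κ : c.obj.left ⟶ (E'.obj ((piFun 𝒴.p R).obj c)).left,
        𝒴.p.IsHomLift (𝟙 (𝒴.p.obj c.obj.left)) κ ∧
          κ ≫ (E'.obj ((piFun 𝒴.p R).obj c)).hom = c.obj.hom := fun c =>
    sc_exists 𝒴.p (𝒴.p.map c.obj.hom) (E'.obj ((piFun 𝒴.p R).obj c)).hom
      (sc_of_isHomLift 𝒴.p h𝒴 _ _ (hχ ((piFun 𝒴.p R).obj c))) c.obj.hom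
      (IsHomLift.map 𝒴.p c.obj.hom)
  choose κj hκj1 hκj2 using hjE
  let j : ∀ c : (R.functorPullback 𝒴.p).arrows.category, c ⟶ E.obj ((piFun 𝒴.p R).obj c) :=
    fun c => ObjectProperty.homMk (Over.homMk (κj c) (hκj2 c))
  have hLamE : ∀ c : (R.functorPullback 𝒴.p).arrows.category, ∃ L : H.obj c ⟶ x,
      F.toFunctor.IsHomLift c.obj.hom L ∧
        L ≫ et = H.map (j c) ≫ lam0 ((piFun 𝒴.p R).obj c) := by
    intro c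
    have l1 : F.toFunctor.IsHomLift (κj c) (H.map (j c)) := lift_map H (j c)
    have l2 : F.toFunctor.IsHomLift (κj c ≫ (E'.obj ((piFun 𝒴.p R).obj c)).hom ≫ e')
        (H.map (j c) ≫ lam0 ((piFun 𝒴.p R).obj c)) :=
      lift_comp2 F.toFunctor _ _ _ _ l1 (hlamF _)
    have e3 : κj c ≫ (E'.obj ((piFun 𝒴.p R).obj c)).hom ≫ e' = c.obj.hom ≫ e' := by
      rw [← Category.assoc, hκj2 c]
    rw [e3] at l2
    exact sc_exists_g F.toFunctor e' et scet c.obj.hom _ l2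
  choose Lam hLam1 hLam2 using hLamE
  refine ⟨x, hx, Lam, hLam1, ?_⟩
  intro c c' k
  have lk : F.toFunctor.IsHomLift k.hom.left (H.map k) := lift_map H k
  have l1 : F.toFunctor.IsHomLift (k.hom.left ≫ c'.obj.hom) (H.map k ≫ Lam c') :=
    lift_comp2 F.toFunctor _ _ _ _ lk (hLam1 c')
  rw [Over.w k.hom] at l1
  refine sc_ext F.toFunctor e' et scet c.obj.hom _ _ l1 (hLam1 c) ?_
  have ej : k ≫ j c' = j c ≫ E.map ((piFun 𝒴.p R).map k) := by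
    apply homR_ext
    show k.hom.left ≫ κj c' = κj c ≫ (E'.map ((piFun 𝒴.p R).map k)).left
    have sc' := sc_of_isHomLift 𝒴.p h𝒴 _ _ (hχ ((piFun 𝒴.p R).obj c'))
    refine sc_ext 𝒴.p (𝒴.p.map c'.obj.hom) (E'.obj ((piFun 𝒴.p R).obj c')).hom sc'
      (𝒴.p.map k.hom.left) _ _
      (lift_comp_id_right 𝒴.p _ _ _ (IsHomLift.map 𝒴.p k.hom.left) (hκj1 c'))
      (lift_comp_id_left 𝒴.p _ _ _ (hκj1 c) (hE'm ((piFun 𝒴.p R).map k))) ?_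
    rw [Category.assoc, hκj2 c', Over.w k.hom, Category.assoc,
      Over.w (E'.map ((piFun 𝒴.p R).map k)), hκj2 c]
  have e4 : H.map k ≫ H.map (j c') = H.map (j c) ≫ H.map (E.map ((piFun 𝒴.p R).map k)) :=
    (H.toFunctor.map_comp _ _).symm.trans
      ((congrArg (fun z => H.toFunctor.map z) ej).trans (H.toFunctor.map_comp _ _))
  exact chF (H.map k) (Lam c') et (Lam c) (H.map (j c')) (lam0 _) (H.map (j c)) (lam0 _)
    (H.map (E.map ((piFun 𝒴.p R).map k))) (hLam2 c') (hLam2 c) e4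
    (hnat0 ((piFun 𝒴.p R).map k))

end Gen

/-- Let `𝒳`, `𝒴` be stacks in groupoids over `C` for the topology `J` and `F : 𝒳 ⟶ 𝒴` a functor over `C`
whose underlying functor makes `𝒳` fibred in groupoids over `𝒴`. Then `𝒳`, as a category over `𝒴`
through `F`, is a stack in groupoids for the topology on `𝒴` inherited from `J`. -/
theorem result {C : Type u} [Category.{v} C] (J : GrothendieckTopology C) {𝒳 𝒴 : BasedCategory.{v, max u v} C}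
    (h𝒳 : Stk.IsStack J 𝒳) (h𝒴 : Stk.IsStack J 𝒴) (F : 𝒳 ⥤ᵇ 𝒴) (hF : FibCat.IsFibGrpd F.toFunctor) :
    Stk.IsStack (𝒴.p.restrictedTopology J) (BasedCategory.ofFunctor F.toFunctor) := by
  obtain ⟨h𝒳f, h𝒳s⟩ := h𝒳
  obtain ⟨h𝒴f, h𝒴s⟩ := h𝒴
  refine And.intro hF (fun y S hS => ?_)
  have hR : S.functorPushforward 𝒴.p ∈ J (𝒴.p.obj y) :=
    (Groth.Agent.S12801.result 𝒴.p h𝒴f J S).1 hS
  have hSeq := sieve_eq_pullback 𝒴.p h𝒴f S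
  obtain ⟨R, hR', hSR⟩ : ∃ R : Sieve (𝒴.p.obj y), R ∈ J (𝒴.p.obj y) ∧
      S = R.functorPullback 𝒴.p := ⟨_, hR, hSeq⟩
  subst hSR
  have eqX : (Stk.resSieve R 𝒳).IsEquivalence := h𝒳s R hR'
  have eqY : (Stk.resSieve R 𝒴).IsEquivalence := h𝒴s R hR'
  refine Functor.IsEquivalence.mk ?_ ?_ ?_
  · exact faithful_of_locEq (𝒯 := BasedCategory.ofFunctor F.toFunctor) hF _
      (locEq_F F y R (locEq_of_faithful h𝒳f R eqX.faithful))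
  · exact full_of_glueHom (𝒯 := BasedCategory.ofFunctor F.toFunctor) hF _
      (glueHom_F F hF y R (glueHom_of_full h𝒳f R eqX.full)
        (locEq_of_faithful h𝒴f R eqY.faithful))
  · exact essSurj_of_glueObj (𝒯 := BasedCategory.ofFunctor F.toFunctor) hF _
      (glueObj_F F hF h𝒴f y R (glueObj_of_essSurj R eqX.essSurj)
        (glueHom_of_full h𝒴f R eqY.full))

end Groth.Agent.S12804
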