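import Groth.Statements.S12805
import Mathlib
import Groth.Agent.H88.StkObj

set_option autoImplicit false
open CategoryTheory
universe v u
open Stk

namespace Groth.Agent.S12805

open FibCat Groth.Agent.S12815 Groth.Agent.H88.StkObj

section Gen
variable {C : Type u} [Category.{v} C]

theorem locEq_comp (J : GrothendieckTopology C) {𝒳 : BasedCategory.{v, max u v} C}
    (𝒴 : BasedCategory.{v, max u v} 𝒳.obj) (h𝒴 : IsFibGrpd 𝒴.p)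
    (hX : ∀ {U : C} (R : Sieve U), R ∈ J U → LocEq 𝒳 R)
    (hY : ∀ (x : 𝒳.obj) (R : Sieve (𝒳.p.obj x)), R ∈ J (𝒳.p.obj x) →
      LocEq 𝒴 (R.functorPullback 𝒳.p))
    {U : C} (R : Sieve U) (hR : R ∈ J U) :
    LocEq (BasedCategory.ofFunctor (𝒴.p ⋙ 𝒳.p)) R := by
  intro W' u t t' b b' hb hb' hloc
  have hb0 : (𝒴.p ⋙ 𝒳.p).IsHomLift u b := hb
  have hb0' : (𝒴.p ⋙ 𝒳.p).IsHomLift u b' := hb'
  have hb1 : 𝒳.p.IsHomLift u (𝒴.p.map b) := lift_of_comp 𝒴.p 𝒳.p u b hb0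
  have hb1' : 𝒳.p.IsHomLift u (𝒴.p.map b') := lift_of_comp 𝒴.p 𝒳.p u b' hb0'
  have e1 : 𝒴.p.map b = 𝒴.p.map b' := by
    refine hX R hR u _ _ hb1 hb1' ?_
    intro V f hf z χ hχ
    obtain ⟨s, ψ, hψ⟩ := h𝒴.exists_lift χ
    have hψr : (𝒴.p ⋙ 𝒳.p).IsHomLift f ψ := lift_functor 𝒴.p 𝒳.p hψ hχ
    have e : ψ ≫ b = ψ ≫ b' := hloc f hf s ψ hψr
    have e' : 𝒴.p.map ψ ≫ 𝒴.p.map b = 𝒴.p.map ψ ≫ 𝒴.p.map b' :=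
      (𝒴.p.map_comp ψ b).symm.trans ((congrArg (fun m => 𝒴.p.map m) e).trans (𝒴.p.map_comp ψ b'))
    have hd : 𝒴.p.obj s = z := dom_eq 𝒴.p χ ψ hψ
    subst hd
    have eχ : χ = 𝒴.p.map ψ := IsHomLift.eq_of_isHomLift 𝒴.p χ ψ
    subst eχ
    exact e'
  have ht : (𝒴.p ⋙ 𝒳.p).obj t = U := dom_eq (𝒴.p ⋙ 𝒳.p) u b hb0
  subst ht
  refine hY (𝒴.p.obj t) R hR (𝒴.p.map b) b b' (IsHomLift.map 𝒴.p b)
    (by rw [e1]; exact IsHomLift.map 𝒴.p b') ?_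
  intro z χ hχ s ψ hψ
  have hχ' : R (𝒳.p.map χ) := hχ
  exact hloc (𝒳.p.map χ) hχ' s ψ (lift_functor 𝒴.p 𝒳.p hψ (IsHomLift.map 𝒳.p χ))

theorem glueHom_comp (J : GrothendieckTopology C) {𝒳 : BasedCategory.{v, max u v} C}
    (𝒴 : BasedCategory.{v, max u v} 𝒳.obj) (h𝒳 : IsFibGrpd 𝒳.p) (h𝒴 : IsFibGrpd 𝒴.p)
    (hX : ∀ {U : C} (R : Sieve U), R ∈ J U → GlueHom 𝒳 R)
    (hY : ∀ (x : 𝒳.obj) (R : Sieve (𝒳.p.obj x)), R ∈ J (𝒳.p.obj x) →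
      GlueHom 𝒴 (R.functorPullback 𝒳.p))
    {U : C} (R : Sieve U) (hR : R ∈ J U) :
    GlueHom (BasedCategory.ofFunctor (𝒴.p ⋙ 𝒳.p)) R := by
  intro t t' ht ht' Rel hex huniq hnat
  have ht0 : (𝒴.p ⋙ 𝒳.p).obj t = U := ht
  subst ht0
  have ht'0 : 𝒳.p.obj (𝒴.p.obj t') = 𝒳.p.obj (𝒴.p.obj t) := ht'
  have transfer : ∀ {z : 𝒳.obj} (χ : z ⟶ 𝒴.p.obj t) {s₁ s : 𝒴.obj} (ψ₁ : s₁ ⟶ t) (ψ₁' : s₁ ⟶ t')
      (ψ : s ⟶ t) (ψ' : s ⟶ t'), 𝒴.p.IsHomLift χ ψ₁ → 𝒴.p.IsHomLift χ ψ → Rel ψ₁ ψ₁' → Rel ψ ψ' →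
      ∃ κ : s ⟶ s₁, 𝒴.p.IsHomLift (𝟙 z) κ ∧ κ ≫ ψ₁ = ψ ∧ κ ≫ ψ₁' = ψ' := by
    intro z χ s₁ s ψ₁ ψ₁' ψ ψ' h1 h h1R hR'
    have sc := sc_of_isHomLift 𝒴.p h𝒴 χ ψ₁ h1
    obtain ⟨κ, hκ1, hκ2⟩ := sc_exists 𝒴.p χ ψ₁ sc ψ h
    refine ⟨κ, hκ1, hκ2, ?_⟩
    have r1 : Rel (κ ≫ ψ₁) (κ ≫ ψ₁') := hnat _ _ κ ψ₁ ψ₁' h1R
    have r2 : Rel ψ (κ ≫ ψ₁') := (congrArg (fun m => Rel m (κ ≫ ψ₁')) hκ2).mp r1
    exact huniq _ ψ _ _ r2 hR'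
  obtain ⟨ξ, hξ1, hξ2⟩ : ∃ ξ : 𝒴.p.obj t ⟶ 𝒴.p.obj t',
      𝒳.p.IsHomLift (𝟙 (𝒳.p.obj (𝒴.p.obj t))) ξ ∧
      ∀ ⦃V : C⦄ (f : V ⟶ 𝒳.p.obj (𝒴.p.obj t)), R f → ∀ (z : 𝒳.obj) (χ : z ⟶ 𝒴.p.obj t),
        𝒳.p.IsHomLift f χ → ∃ (s : 𝒴.obj) (ψ : s ⟶ t) (ψ' : s ⟶ t'),
          Rel ψ ψ' ∧ 𝒴.p.IsHomLift χ ψ ∧ 𝒴.p.IsHomLift (χ ≫ ξ) ψ' := by
    refine hX R hR (𝒴.p.obj t) (𝒴.p.obj t') rfl ht'0
      (fun {z} χ χ' => ∃ (s : 𝒴.obj) (ψ : s ⟶ t) (ψ' : s ⟶ t'),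
        Rel ψ ψ' ∧ 𝒴.p.IsHomLift χ ψ ∧ 𝒴.p.IsHomLift χ' ψ') ?_ ?_ ?_
    · intro V f hf z χ hχ
      obtain ⟨s, ψ, hψ⟩ := h𝒴.exists_lift χ
      have hψr : (𝒴.p ⋙ 𝒳.p).IsHomLift f ψ := lift_functor 𝒴.p 𝒳.p hψ hχ
      obtain ⟨ψ', hψ'1, hψ'2⟩ := hex f hf s ψ hψr
      have hψ'0 : (𝒴.p ⋙ 𝒳.p).IsHomLift f ψ' := hψ'1
      have hd : 𝒴.p.obj s = z := dom_eq 𝒴.p χ ψ hψ
      subst hd
      have eχ : χ = 𝒴.p.map ψ := IsHomLift.eq_of_isHomLift 𝒴.p χ ψ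
      subst eχ
      exact ⟨𝒴.p.map ψ', lift_of_comp 𝒴.p 𝒳.p f ψ' hψ'0, s, ψ, ψ', hψ'2, IsHomLift.map 𝒴.p ψ,
        IsHomLift.map 𝒴.p ψ'⟩
    · rintro z χ χ₁ χ₂ ⟨s₁, ψ₁, ψ₁', r1, l1, l1'⟩ ⟨s₂, ψ₂, ψ₂', r2, l2, l2'⟩
      obtain ⟨κ, hκ1, -, hκ3⟩ := transfer χ ψ₁ ψ₁' ψ₂ ψ₂' l1 l2 r1 r2
      have l3 : 𝒴.p.IsHomLift χ₁ (κ ≫ ψ₁') := lift_comp_id_left 𝒴.p χ₁ κ ψ₁' hκ1 l1'
      rw [hκ3] at l3
      exact base_unique 𝒴.p χ₁ χ₂ ψ₂' l3 l2'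
    · rintro z z' k χ χ' ⟨s, ψ, ψ', r, l, l'⟩
      have hd : 𝒴.p.obj s = z' := dom_eq 𝒴.p χ ψ l
      subst hd
      have eχ : χ = 𝒴.p.map ψ := IsHomLift.eq_of_isHomLift 𝒴.p χ ψ
      subst eχ
      obtain ⟨s₀, κ, hκ⟩ := h𝒴.exists_lift k
      exact ⟨s₀, κ ≫ ψ, κ ≫ ψ', hnat _ _ κ ψ ψ' r,
        lift_comp2 𝒴.p k (𝒴.p.map ψ) κ ψ hκ (IsHomLift.map 𝒴.p ψ),
        lift_comp2 𝒴.p k χ' κ ψ' hκ l'⟩
  obtain ⟨t'', ζ, hζ⟩ := h𝒴.exists_lift (x := t') ξ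
  haveI hξiso : IsIso ξ := isIso_of_lift_id 𝒳.p h𝒳 ξ hξ1
  haveI hζiso : IsIso ζ := isIso_of_lift_iso 𝒴.p h𝒴 ξ ζ hζ
  have ht'' : 𝒴.p.obj t'' = 𝒴.p.obj t := dom_eq 𝒴.p ξ ζ hζ
  have scζ : 𝒴.p.IsStronglyCartesian ξ ζ := sc_of_isHomLift 𝒴.p h𝒴 ξ ζ hζ
  obtain ⟨a'', ha1, ha2⟩ : ∃ a'' : t ⟶ t'', 𝒴.p.IsHomLift (𝟙 (𝒴.p.obj t)) a'' ∧
      ∀ ⦃z : 𝒳.obj⦄ (χ : z ⟶ 𝒴.p.obj t), (R.functorPullback 𝒳.p) χ → ∀ (s : 𝒴.obj) (ψ : s ⟶ t),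
        𝒴.p.IsHomLift χ ψ → Rel ψ ((ψ ≫ a'') ≫ ζ) := by
    refine hY (𝒴.p.obj t) R hR t t'' rfl ht'' (fun {s} ψ ψ'' => Rel ψ (ψ'' ≫ ζ)) ?_ ?_ ?_
    · intro z χ hχ s ψ hψ
      have hχR : R (𝒳.p.map χ) := hχ
      have hψr : (𝒴.p ⋙ 𝒳.p).IsHomLift (𝒳.p.map χ) ψ :=
        lift_functor 𝒴.p 𝒳.p hψ (IsHomLift.map 𝒳.p χ)
      obtain ⟨ψ', -, hψ'2⟩ := hex (𝒳.p.map χ) hχR s ψ hψr
      obtain ⟨s₁, ψ₁, ψ₁', r1, l1, l1'⟩ := hξ2 (𝒳.p.map χ) hχR z χ (IsHomLift.map 𝒳.p χ)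
      obtain ⟨κ, hκ1, -, hκ3⟩ := transfer χ ψ₁ ψ₁' ψ ψ' l1 hψ r1 hψ'2
      have l3 : 𝒴.p.IsHomLift (χ ≫ ξ) (κ ≫ ψ₁') :=
        lift_comp_id_left 𝒴.p (χ ≫ ξ) κ ψ₁' hκ1 l1'
      rw [hκ3] at l3
      obtain ⟨ψ'', hψ''1, hψ''2⟩ := sc_exists_g 𝒴.p ξ ζ scζ χ ψ' l3
      refine ⟨ψ'', hψ''1, ?_⟩
      exact (congrArg (fun m => Rel ψ m) hψ''2).mpr hψ'2
    · intro s ψ ψ₁ ψ₂ r1 r2
      have e : ψ₁ ≫ ζ = ψ₂ ≫ ζ := huniq s ψ _ _ r1 r2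
      exact (cancel_mono ζ).1 e
    · intro s s' k ψ ψ'' r
      have r' : Rel (k ≫ ψ) (k ≫ ψ'' ≫ ζ) := hnat s s' k ψ (ψ'' ≫ ζ) r
      exact (congrArg (fun m => Rel (k ≫ ψ) m) (Category.assoc k ψ'' ζ)).mpr r'
  refine ⟨a'' ≫ ζ, ?_, ?_⟩
  · have l : 𝒴.p.IsHomLift ξ (a'' ≫ ζ) := lift_comp_id_left 𝒴.p ξ a'' ζ ha1 hζ
    exact lift_functor 𝒴.p 𝒳.p l hξ1
  · intro V f hf s ψ hψ
    have hψ0 : (𝒴.p ⋙ 𝒳.p).IsHomLift f ψ := hψ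
    have hd : (𝒴.p ⋙ 𝒳.p).obj s = V := dom_eq (𝒴.p ⋙ 𝒳.p) f ψ hψ0
    subst hd
    have ef : f = (𝒴.p ⋙ 𝒳.p).map ψ := IsHomLift.eq_of_isHomLift (𝒴.p ⋙ 𝒳.p) f ψ
    subst ef
    have r := ha2 (𝒴.p.map ψ) hf s ψ (IsHomLift.map 𝒴.p ψ)
    exact (congrArg (fun m => Rel ψ m) (Category.assoc ψ a'' ζ)).mp r

theorem glueObj_aux {𝒳 : BasedCategory.{v, max u v} C}
    (𝒴 : BasedCategory.{v, max u v} 𝒳.obj) (h𝒳 : IsFibGrpd 𝒳.p) (h𝒴 : IsFibGrpd 𝒴.p)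
    (x : 𝒳.obj) (R : Sieve (𝒳.p.obj x))
    (hY : GlueObj 𝒴 (R.functorPullback 𝒳.p))
    (H : Stk.sieveCat R ⥤ᵇ BasedCategory.ofFunctor (𝒴.p ⋙ 𝒳.p))
    (lam : ∀ a : R.arrows.category, 𝒴.p.obj (H.obj a) ⟶ x)
    (hlam : ∀ a : R.arrows.category, 𝒳.p.IsHomLift a.obj.hom (lam a))
    (hnatl : ∀ {a b : R.arrows.category} (m : a ⟶ b), 𝒴.p.map (H.map m) ≫ lam b = lam a) :
    ∃ (y : 𝒴.obj) (_ : (𝒴.p ⋙ 𝒳.p).obj y = 𝒳.p.obj x) (Lam : ∀ a : R.arrows.category, H.obj a ⟶ y),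
      (∀ a : R.arrows.category, (𝒴.p ⋙ 𝒳.p).IsHomLift a.obj.hom (Lam a)) ∧
        ∀ {a b : R.arrows.category} (m : a ⟶ b), H.map m ≫ Lam b = Lam a := by
  have hHm : ∀ {a b : R.arrows.category} (m : a ⟶ b),
      𝒳.p.IsHomLift m.hom.left (𝒴.p.map (H.map m)) :=
    fun m => lift_of_comp 𝒴.p 𝒳.p _ _ (lift_map H m)
  have scl : ∀ a : R.arrows.category, 𝒳.p.IsStronglyCartesian a.obj.hom (lam a) := fun a =>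
    sc_of_isHomLift 𝒳.p h𝒳 _ _ (hlam a)
  have hσE : ∀ c : (R.functorPullback 𝒳.p).arrows.category,
      ∃ σ : c.obj.left ⟶ 𝒴.p.obj (H.obj ((piFun 𝒳.p R).obj c)),
        𝒳.p.IsHomLift (𝟙 (𝒳.p.obj c.obj.left)) σ ∧
          σ ≫ lam ((piFun 𝒳.p R).obj c) = c.obj.hom := fun c =>
    sc_exists 𝒳.p (𝒳.p.map c.obj.hom) (lam ((piFun 𝒳.p R).obj c)) (scl ((piFun 𝒳.p R).obj c)) c.obj.hom
      (IsHomLift.map 𝒳.p c.obj.hom)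
  choose σ hσ1 hσ2 using hσE
  have hσnat : ∀ {c c' : (R.functorPullback 𝒳.p).arrows.category} (k : c ⟶ c'),
      k.hom.left ≫ σ c' = σ c ≫ 𝒴.p.map (H.map ((piFun 𝒳.p R).map k)) := by
    intro c c' k
    refine sc_ext 𝒳.p (𝒳.p.map c'.obj.hom) (lam ((piFun 𝒳.p R).obj c')) (scl ((piFun 𝒳.p R).obj c'))
      (𝒳.p.map k.hom.left) _ _
      (lift_comp_id_right 𝒳.p _ _ _ (IsHomLift.map 𝒳.p k.hom.left) (hσ1 c'))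
      (lift_comp_id_left 𝒳.p _ _ _ (hσ1 c) (hHm ((piFun 𝒳.p R).map k))) ?_
    have w : k.hom.left ≫ c'.obj.hom = c.obj.hom := Over.w k.hom
    exact chS k.hom.left (σ c') (lam _) (σ c) (𝒴.p.map (H.map ((piFun 𝒳.p R).map k))) (lam _)
      c'.obj.hom c.obj.hom (hσ2 c') (hσ2 c) (hnatl _) w
  obtain ⟨H', hw, θ, hθ1, hθ2⟩ := strictify h𝒴 (R.functorPullback 𝒳.p).arrows.diagram
    (piFun 𝒳.p R ⋙ H.toFunctor) σ (fun k => hσnat k)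
  let Ht : Stk.sieveCat (R.functorPullback 𝒳.p) ⥤ᵇ 𝒴 := { toFunctor := H', w := hw }
  obtain ⟨y, hy, lam', hlam', hnat'⟩ := hY Ht
  have hmem : ∀ a : R.arrows.category, (R.functorPullback 𝒳.p).arrows (lam a) := by
    intro a
    show R.arrows (𝒳.p.map (lam a))
    rw [fac_of 𝒳.p a.obj.hom (lam a) (hlam a)]
    simp only [eqToHom_refl, Category.comp_id]
    exact R.downward_closed a.property _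
  let ca : R.arrows.category → (R.functorPullback 𝒳.p).arrows.category := fun a =>
    ⟨Over.mk (lam a), hmem a⟩
  have hd : ∀ a : R.arrows.category, 𝒳.p.obj (𝒴.p.obj (H.obj a)) = a.obj.left := fun a =>
    dom_eq 𝒳.p a.obj.hom (lam a) (hlam a)
  have hιw : ∀ a : R.arrows.category, eqToHom (hd a) ≫ a.obj.hom = 𝒳.p.map (lam a) := by
    intro a
    rw [fac_of 𝒳.p a.obj.hom (lam a) (hlam a)]
    simp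
  let iot : ∀ a : R.arrows.category, (piFun 𝒳.p R).obj (ca a) ⟶ a := fun a =>
    ObjectProperty.homMk (Over.homMk (eqToHom (hd a)) (hιw a))
  have hσj : ∀ a : R.arrows.category,
      σ (ca a) ≫ 𝒴.p.map (H.map (iot a)) = 𝟙 (𝒴.p.obj (H.obj a)) := by
    intro a
    have l1 : 𝒳.p.IsHomLift (eqToHom (hd a)) (σ (ca a) ≫ 𝒴.p.map (H.map (iot a))) :=
      lift_comp_id_left 𝒳.p _ _ _ (hσ1 (ca a)) (hHm (iot a))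
    have l2 : 𝒳.p.IsHomLift (eqToHom (hd a)) (𝟙 (𝒴.p.obj (H.obj a))) :=
      IsHomLift.of_fac' 𝒳.p _ _ rfl (hd a) (by simp)
    refine sc_ext 𝒳.p a.obj.hom (lam a) (scl a) (eqToHom (hd a)) _ _ l1 l2 ?_
    exact (Category.assoc _ _ _).trans
      ((congrArg (fun z => σ (ca a) ≫ z) (hnatl (iot a))).trans
        ((hσ2 (ca a)).trans (Category.id_comp _).symm))
  have heps : ∀ a : R.arrows.category,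
      𝒴.p.IsHomLift (𝟙 (𝒴.p.obj (H.obj a))) (θ (ca a) ≫ H.map (iot a)) := by
    intro a
    have l : 𝒴.p.IsHomLift (σ (ca a) ≫ 𝒴.p.map (H.map (iot a))) (θ (ca a) ≫ H.map (iot a)) :=
      lift_comp2 𝒴.p _ _ _ _ (hθ1 (ca a)) (IsHomLift.map 𝒴.p (H.map (iot a)))
    rw [hσj a] at l
    exact l
  have hinv : ∀ a : R.arrows.category, ∃ e' : H.obj a ⟶ H'.obj (ca a),
      e' ≫ (θ (ca a) ≫ H.map (iot a)) = 𝟙 _ ∧ (θ (ca a) ≫ H.map (iot a)) ≫ e' = 𝟙 _ ∧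
        𝒴.p.IsHomLift (𝟙 (𝒴.p.obj (H.obj a))) e' := fun a =>
    exists_inv_of_lift_id 𝒴.p h𝒴 _ (heps a)
  choose ei hei1 hei2 hei3 using hinv
  refine ⟨y, congrArg 𝒳.p.obj hy, fun a => ei a ≫ lam' (ca a), ?_, ?_⟩
  · intro a
    have l : 𝒴.p.IsHomLift (lam a) (ei a ≫ lam' (ca a)) :=
      lift_comp_id_left 𝒴.p _ _ _ (hei3 a) (hlam' (ca a))
    exact lift_functor 𝒴.p 𝒳.p l (hlam a)
  · intro a b m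
    let mt : ca a ⟶ ca b := ObjectProperty.homMk (Over.homMk (𝒴.p.map (H.map m)) (hnatl m))
    have e1 : iot a ≫ m = (piFun 𝒳.p R).map mt ≫ iot b := by
      apply homR_ext
      show eqToHom (hd a) ≫ m.hom.left = 𝒳.p.map (𝒴.p.map (H.map m)) ≫ eqToHom (hd b)
      rw [fac_of 𝒳.p m.hom.left (𝒴.p.map (H.map m)) (hHm m)]
      simp
    have e2 : H.map (iot a) ≫ H.map m = H.map ((piFun 𝒳.p R).map mt) ≫ H.map (iot b) :=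
      (H.toFunctor.map_comp _ _).symm.trans
        ((congrArg (fun z => H.toFunctor.map z) e1).trans (H.toFunctor.map_comp _ _))
    have key : (θ (ca a) ≫ H.map (iot a)) ≫ H.map m = H'.map mt ≫ (θ (ca b) ≫ H.map (iot b)) :=
      chK (θ (ca a)) (H.map (iot a)) (H.map m) (H'.map mt) (θ (ca b)) (H.map (iot b))
        (H.map ((piFun 𝒳.p R).map mt)) (hθ2 mt) e2
    exact chInv (θ (ca a) ≫ H.map (iot a)) (θ (ca b) ≫ H.map (iot b)) (ei a) (ei b) (H.map m)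
      (H'.map mt) (lam' (ca a)) (lam' (ca b)) (hei1 a) (hei2 b) key (hnat' mt)

theorem glueObj_comp (J : GrothendieckTopology C) {𝒳 : BasedCategory.{v, max u v} C}
    (𝒴 : BasedCategory.{v, max u v} 𝒳.obj) (h𝒳 : IsFibGrpd 𝒳.p) (h𝒴 : IsFibGrpd 𝒴.p)
    (hX : ∀ {U : C} (R : Sieve U), R ∈ J U → GlueObj 𝒳 R)
    (hY : ∀ (x : 𝒳.obj) (R : Sieve (𝒳.p.obj x)), R ∈ J (𝒳.p.obj x) →
      GlueObj 𝒴 (R.functorPullback 𝒳.p))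
    {U : C} (R : Sieve U) (hR : R ∈ J U) :
    GlueObj (BasedCategory.ofFunctor (𝒴.p ⋙ 𝒳.p)) R := by
  intro H
  let Q : BasedCategory.ofFunctor (𝒴.p ⋙ 𝒳.p) ⥤ᵇ 𝒳 := { toFunctor := 𝒴.p, w := rfl }
  obtain ⟨x, hx, lam, hlam, hnatl⟩ := hX R hR (BasedFunctor.comp H Q)
  subst hx
  exact glueObj_aux 𝒴 h𝒳 h𝒴 x R (hY x R hR) H lam hlam (fun m => hnatl m)

end Gen

/-- Let `𝒳` be a stack in groupoids over `C` for the topology `J`, endowed with the topology inherited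
from `J`, and let `𝒴` be a category over `𝒳` that is a stack in groupoids for that topology. Then
`𝒴`, with the composite structure functor `𝒴 ⟶ 𝒳 ⟶ C`, is a stack in groupoids over `C` for `J`.
(The published statement also has an assertion for stacks not necessarily in groupoids, which is not
stated here.) -/
theorem result {C : Type u} [Category.{v} C] (J : GrothendieckTopology C) {𝒳 : BasedCategory.{v, max u v} C}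
    (h𝒳 : Stk.IsStack J 𝒳) (𝒴 : BasedCategory.{v, max u v} 𝒳.obj) (h𝒴 : Stk.IsStack (𝒳.p.restrictedTopology J) 𝒴) :
    Stk.IsStack J (BasedCategory.ofFunctor (𝒴.p ⋙ 𝒳.p)) := by
  obtain ⟨h𝒳f, h𝒳s⟩ := h𝒳
  obtain ⟨h𝒴f, h𝒴s⟩ := h𝒴
  have hZ : IsFibGrpd (𝒴.p ⋙ 𝒳.p) := isFibGrpd_comp 𝒴.p 𝒳.p h𝒴f h𝒳f
  have eqX : ∀ {U : C} (R : Sieve U), R ∈ J U → (Stk.resSieve R 𝒳).IsEquivalence :=
    fun R hR => h𝒳s R hR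
  have eqY : ∀ (x : 𝒳.obj) (R : Sieve (𝒳.p.obj x)), R ∈ J (𝒳.p.obj x) →
      (Stk.resSieve (R.functorPullback 𝒳.p) 𝒴).IsEquivalence :=
    fun x R hR => h𝒴s _ (functorPullback_mem 𝒳.p h𝒳f J x R hR)
  refine And.intro hZ (fun U R hR => ?_)
  refine Functor.IsEquivalence.mk ?_ ?_ ?_
  · exact faithful_of_locEq (𝒯 := BasedCategory.ofFunctor (𝒴.p ⋙ 𝒳.p)) hZ R
      (locEq_comp J 𝒴 h𝒴f
        (fun R hR => locEq_of_faithful h𝒳f R (eqX R hR).faithful)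
        (fun x R hR => locEq_of_faithful h𝒴f _ (eqY x R hR).faithful) R hR)
  · exact full_of_glueHom (𝒯 := BasedCategory.ofFunctor (𝒴.p ⋙ 𝒳.p)) hZ R
      (glueHom_comp J 𝒴 h𝒳f h𝒴f
        (fun R hR => glueHom_of_full h𝒳f R (eqX R hR).full)
        (fun x R hR => glueHom_of_full h𝒴f _ (eqY x R hR).full) R hR)
  · exact essSurj_of_glueObj (𝒯 := BasedCategory.ofFunctor (𝒴.p ⋙ 𝒳.p)) hZ R
      (glueObj_comp J 𝒴 h𝒳f h𝒴f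
        (fun R hR => glueObj_of_essSurj R (eqX R hR).essSurj)
        (fun x R hR => glueObj_of_essSurj _ (eqY x R hR).essSurj) R hR)

end Groth.Agent.S12805
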