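import Groth.Statements.S12806
import Groth.Agent.H32.Repr

set_option autoImplicit false
open CategoryTheory
universe v u
open FibCat

namespace Groth.Agent.S12806

/-- Let `𝒮` be fibred in groupoids over `C`, `U` an object of `C` and `x, y : C/U ⟶ 𝒮` two functors over
`C` (objects over `U` in 2-Yoneda form), with `e` the 2-isomorphism identifying their composites
with the structure functor. Then the 2-fibre product over `C` of `(x, y) : C/U ⟶ 𝒮 ×_C 𝒮` with the
diagonal `𝒮 ⟶ 𝒮 ×_C 𝒮` is fibred in setoids over `C/U` through its first projection. (The published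
statement is for a fibred category with `x`, `y` the functors given by chosen pullbacks; this row is
the case of a category fibred in groupoids, where every functor over `C` out of `C/U` is of that
kind.) -/
theorem result {C : Type u} [Category.{v} C] {𝒮 : BasedCategory.{v, max u v} C} (h𝒮 : FibCat.IsFibGrpd 𝒮.p)
    (U : C) (x y : FibCat.overCat U ⥤ᵇ 𝒮)
    (e : BasedFunctor.comp x (FibCat.toSelf 𝒮) ≅ BasedFunctor.comp y (FibCat.toSelf 𝒮)) :
    FibCat.IsFibSetoid (FibCat.fpFst (FibCat.fpLift x y e) (FibCat.diag (FibCat.toSelf 𝒮))).toFunctor := by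
  refine ⟨?_, ?_⟩
  · exact Groth.Agent.S6411.result h𝒮 (Groth.Agent.H32.Repr.PP_isFibGrpd h𝒮)
      (FibCat.diag (FibCat.toSelf 𝒮)) U (FibCat.fpLift x y e)
  · intro W a b
    refine ⟨fun m m' => ?_⟩
    apply Functor.Fiber.hom_ext
    show m.1 = m'.1
    have hm : (FibCat.fpFst (FibCat.fpLift x y e)
        (FibCat.diag (FibCat.toSelf 𝒮))).toFunctor.IsHomLift (𝟙 W) m.1 := m.2
    have hm' : (FibCat.fpFst (FibCat.fpLift x y e)
        (FibCat.diag (FibCat.toSelf 𝒮))).toFunctor.IsHomLift (𝟙 W) m'.1 := m'.2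
    have e1 : m.1.hom.fst = m'.1.hom.fst := by
      have h1 := IsHomLift.fac' (FibCat.fpFst (FibCat.fpLift x y e)
        (FibCat.diag (FibCat.toSelf 𝒮))).toFunctor (𝟙 W) m.1
      have h2 := IsHomLift.fac' (FibCat.fpFst (FibCat.fpLift x y e)
        (FibCat.diag (FibCat.toSelf 𝒮))).toFunctor (𝟙 W) m'.1
      exact h1.trans h2.symm
    have e2 : m.1.hom.snd = m'.1.hom.snd := by
      have w := m.1.hom.w
      have w' := m'.1.hom.w
      rw [e1] at w
      have hD : (FibCat.diag (FibCat.toSelf 𝒮)).toFunctor.map m.1.hom.snd =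
          (FibCat.diag (FibCat.toSelf 𝒮)).toFunctor.map m'.1.hom.snd :=
        (cancel_epi a.1.obj.iso.hom).mp (w.symm.trans w')
      exact congrArg (fun t => t.hom.fst) hD
    exact Groth.Agent.H32.FibProd.fp_hom_ext _ _ e1 e2

end Groth.Agent.S12806
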