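import Groth.Statements.S12807
import Groth.Agent.H95.FibSetLib

set_option autoImplicit false
open CategoryTheory CategoryTheory.Limits
universe v₃ u₃ v₂ u₂ v u
open FibCat

namespace Groth.Agent.S12807

/-- Let `u : C ⥤ D` be a functor and `𝒮` a category over `D` whose structure functor is a fibred
category. Then the 2-fibre product `C ×_D 𝒮` of `u` and the structure functor (triples `(U, y, u U ≅
p y)`), with its first projection, is a fibred category over `C`. (The published statement uses the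
strict fibre product, pairs with `u U = p y`; for `𝒮` fibred over `D` it is equivalent over `C` to
the 2-fibre product used here.) -/
theorem result {C : Type u} [Category.{v} C] {D : Type u₂} [Category.{v₂} D] (u : C ⥤ D)
    (𝒮 : BasedCategory.{v₃, u₃} D) [𝒮.p.IsFibered] :
    (CategoricalPullback.π₁ u 𝒮.p).IsFibered := by
  rw [Groth.Agent.H95.FibSet.isFibered_iff]
  intro a R f
  change R ⟶ a.fst at f
  obtain ⟨y', φ, hφ⟩ := (Groth.Agent.H95.FibSet.isFibered_iff 𝒮.p).mp inferInstance a.snd (u.obj R)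
    (u.map f ≫ a.iso.hom)
  obtain ⟨hφ1, hφ2⟩ := (Groth.Agent.H95.FibSet.sc_iff 𝒮.p _ φ).mp hφ
  have hd : 𝒮.p.obj y' = u.obj R := IsHomLift.domain_eq 𝒮.p (u.map f ≫ a.iso.hom) φ
  obtain ⟨e, he⟩ : ∃ e : u.obj R ≅ 𝒮.p.obj y', u.map f ≫ a.iso.hom = e.hom ≫ 𝒮.p.map φ := by
    refine ⟨eqToIso hd.symm, ?_⟩
    have := IsHomLift.fac 𝒮.p (u.map f ≫ a.iso.hom) φ
    simpa using this
  have UP := (Groth.Agent.H95.FibSet.sc_iff_eqn 𝒮.p φ).mp hφ2
  refine ⟨⟨R, y', e⟩, ⟨f, φ, he⟩, ?_⟩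
  rw [Groth.Agent.H95.FibSet.sc_iff]
  refine ⟨(Groth.Agent.H95.FibSet.isHomLift_iff_map_eq _ _ _).mpr rfl, ?_⟩
  rw [Groth.Agent.H95.FibSet.sc_iff_eqn]
  intro a'' k m hm
  change a''.fst ⟶ R at k
  have hm1 : m.fst = k ≫ f := hm
  have hk : 𝒮.p.map m.snd = (a''.iso.inv ≫ u.map k ≫ e.hom) ≫ 𝒮.p.map φ := by
    have wm : u.map m.fst ≫ a.iso.hom = a''.iso.hom ≫ 𝒮.p.map m.snd := m.w
    calc 𝒮.p.map m.snd = a''.iso.inv ≫ (a''.iso.hom ≫ 𝒮.p.map m.snd) := by simp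
      _ = a''.iso.inv ≫ (u.map m.fst ≫ a.iso.hom) := by rw [wm]
      _ = a''.iso.inv ≫ (u.map (k ≫ f) ≫ a.iso.hom) := by rw [hm1]
      _ = a''.iso.inv ≫ (u.map k ≫ (u.map f ≫ a.iso.hom)) := by
        rw [u.map_comp, Category.assoc]
      _ = a''.iso.inv ≫ (u.map k ≫ (e.hom ≫ 𝒮.p.map φ)) := by rw [he]
      _ = (a''.iso.inv ≫ u.map k ≫ e.hom) ≫ 𝒮.p.map φ := by simp only [Category.assoc]
  obtain ⟨χ₂, ⟨hχ1, hχ2⟩, hχu⟩ := UP a''.snd (a''.iso.inv ≫ u.map k ≫ e.hom) m.snd hk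
  have wχ : u.map k ≫ e.hom = a''.iso.hom ≫ 𝒮.p.map χ₂ := by
    rw [hχ1]; simp
  refine ⟨⟨k, χ₂, wχ⟩, ⟨rfl, ?_⟩, ?_⟩
  · exact CategoricalPullback.hom_ext hm1.symm hχ2
  · rintro n ⟨hn1, hn2⟩
    have hn1' : n.fst = k := hn1
    have hn2' : n.snd ≫ φ = m.snd := congrArg (fun t => t.snd) hn2
    have hn3 : 𝒮.p.map n.snd = a''.iso.inv ≫ u.map k ≫ e.hom := by
      have wn : u.map n.fst ≫ e.hom = a''.iso.hom ≫ 𝒮.p.map n.snd := n.w
      rw [hn1'] at wn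
      rw [Iso.eq_inv_comp]; exact wn.symm
    apply CategoricalPullback.hom_ext
    · exact hn1'
    · exact hχu n.snd ⟨hn3, hn2'⟩

end Groth.Agent.S12807
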