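import Groth.Statements.S12810
import Groth.Agent.S12793

set_option autoImplicit false
open CategoryTheory
universe v u
open Stk

namespace Groth.Agent.S12810

theorem eq_of_thin {C : Type u} [Category.{v} C] {𝒳 : Type _} [Category 𝒳] {p : 𝒳 ⥤ C} {U : C}
    (h : Quiver.IsThin (p.Fiber U)) {a b : 𝒳} (φ ψ : a ⟶ b)
    [p.IsHomLift (𝟙 U) φ] [p.IsHomLift (𝟙 U) ψ] : φ = ψ := by
  have := (h (Functor.Fiber.mk (IsHomLift.domain_eq p (𝟙 U) φ))
    (Functor.Fiber.mk (IsHomLift.codomain_eq p (𝟙 U) φ))).elim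
      (Functor.Fiber.homMk p U φ) (Functor.Fiber.homMk p U ψ)
  exact congrArg Subtype.val this

theorem thin_of_faithful {C : Type u} [Category.{v} C] {𝒳 𝒴 : BasedCategory.{v, max u v} C}
    (F : 𝒳 ⥤ᵇ 𝒴) [F.toFunctor.Faithful] (h : ∀ U, Quiver.IsThin (𝒴.p.Fiber U)) :
    ∀ U, Quiver.IsThin (𝒳.p.Fiber U) := by
  intro U a b
  refine ⟨fun m m' => ?_⟩
  apply Functor.Fiber.hom_ext
  show m.1 = m'.1
  apply F.toFunctor.map_injective
  have hm : 𝒳.p.IsHomLift (𝟙 U) m.1 := m.2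
  have hm' : 𝒳.p.IsHomLift (𝟙 U) m'.1 := m'.2
  have h1 : 𝒴.p.IsHomLift (𝟙 U) (F.map m.1) := inferInstance
  have h2 : 𝒴.p.IsHomLift (𝟙 U) (F.map m'.1) := inferInstance
  exact eq_of_thin (h U) _ _

/-- If two categories over `C` are equivalent in the 2-category of categories over `C`, then one is a
stack in setoids for the topology `J` (a stack in groupoids fibred in setoids) if and only if the
other is. -/
theorem result {C : Type u} [Category.{v} C] (J : GrothendieckTopology C) {𝒳 𝒴 : BasedCategory.{v, max u v} C}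
    (F : 𝒳 ⥤ᵇ 𝒴) (hF : FibCat.IsEquivOver F) :
    (Stk.IsStack J 𝒳 ∧ FibCat.IsFibSetoid 𝒳.p) ↔ (Stk.IsStack J 𝒴 ∧ FibCat.IsFibSetoid 𝒴.p) := by
  obtain ⟨F', ⟨η⟩, ⟨ε⟩⟩ := hF
  have hF1 : FibCat.IsEquivOver F := ⟨F', ⟨η⟩, ⟨ε⟩⟩
  have hF2 : FibCat.IsEquivOver F' := ⟨F, ⟨ε⟩, ⟨η⟩⟩
  haveI := Groth.Agent.H84.isEquivalence_of_isEquivOver F hF1
  haveI := Groth.Agent.H84.isEquivalence_of_isEquivOver F' hF2
  constructor
  · rintro ⟨h1, h2⟩
    have hY := (Groth.Agent.S12793.result J F hF1).mp h1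
    exact ⟨hY, hY.1, thin_of_faithful F' h2.2⟩
  · rintro ⟨h1, h2⟩
    have hX := (Groth.Agent.S12793.result J F hF1).mpr h1
    exact ⟨hX, hX.1, thin_of_faithful F h2.2⟩

end Groth.Agent.S12810
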