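import Groth.Statements.S12811
import Groth.Agent.S12792

set_option autoImplicit false
open CategoryTheory
universe v u
open Stk

namespace Groth.Agent.S12811

theorem eq_of_thin {C : Type u} [Category.{v} C] {𝒳 : Type _} [Category 𝒳] {p : 𝒳 ⥤ C} {U : C}
    (h : Quiver.IsThin (p.Fiber U)) {a b : 𝒳} (φ ψ : a ⟶ b)
    [p.IsHomLift (𝟙 U) φ] [p.IsHomLift (𝟙 U) ψ] : φ = ψ := by
  have := (h (Functor.Fiber.mk (IsHomLift.domain_eq p (𝟙 U) φ))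
    (Functor.Fiber.mk (IsHomLift.codomain_eq p (𝟙 U) φ))).elim
      (Functor.Fiber.homMk p U φ) (Functor.Fiber.homMk p U ψ)
  exact congrArg Subtype.val this

/-- For stacks in setoids `𝒳`, `𝒴`, `𝒮` over `C` for the topology `J` (stacks in groupoids that are
fibred in setoids) and functors `F : 𝒳 ⟶ 𝒮`, `G : 𝒴 ⟶ 𝒮` over `C`, the 2-fibre product `𝒳 ×_𝒮 𝒴`
over `C` is again a stack in setoids for `J`. -/
theorem result {C : Type u} [Category.{v} C] (J : GrothendieckTopology C) {𝒳 𝒴 𝒮 : BasedCategory.{v, max u v} C}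
    (F : 𝒳 ⥤ᵇ 𝒮) (G : 𝒴 ⥤ᵇ 𝒮) (h𝒳 : Stk.IsStack J 𝒳 ∧ FibCat.IsFibSetoid 𝒳.p) (h𝒴 : Stk.IsStack J 𝒴 ∧ FibCat.IsFibSetoid 𝒴.p)
    (h𝒮 : Stk.IsStack J 𝒮 ∧ FibCat.IsFibSetoid 𝒮.p) :
    Stk.IsStack J (FibCat.fp F G) ∧ FibCat.IsFibSetoid (FibCat.fp F G).p := by
  obtain ⟨⟨hX, hX'⟩, hXs⟩ := h𝒳
  obtain ⟨⟨hY, hY'⟩, hYs⟩ := h𝒴
  obtain ⟨⟨hS, hS'⟩, hSs⟩ := h𝒮
  have hP : Stk.IsStack J (FibCat.fp F G) :=
    Groth.Agent.S12792.result J F G ⟨hX, hX'⟩ ⟨hY, hY'⟩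
      ⟨hS, fun U R hR => ⟨(hS' R hR).full, (hS' R hR).faithful⟩⟩
  refine ⟨hP, hP.1, ?_⟩
  intro U a b
  refine ⟨fun m m' => ?_⟩
  apply Functor.Fiber.hom_ext
  show m.1 = m'.1
  have hm : (FibCat.fp F G).p.IsHomLift (𝟙 U) m.1 := m.2
  have hm' : (FibCat.fp F G).p.IsHomLift (𝟙 U) m'.1 := m'.2
  have h1 : 𝒳.p.IsHomLift (𝟙 U) m.1.hom.fst :=
    (Groth.Agent.H32.FibProd.fp_isHomLift_iff F G (𝟙 U) m.1).mp hm
  have h1' : 𝒳.p.IsHomLift (𝟙 U) m'.1.hom.fst :=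
    (Groth.Agent.H32.FibProd.fp_isHomLift_iff F G (𝟙 U) m'.1).mp hm'
  have h2 : 𝒴.p.IsHomLift (𝟙 U) m.1.hom.snd :=
    Groth.Agent.H32.FibProd.fp_isHomLift_snd' F G (𝟙 U) m.1
  have h2' : 𝒴.p.IsHomLift (𝟙 U) m'.1.hom.snd :=
    Groth.Agent.H32.FibProd.fp_isHomLift_snd' F G (𝟙 U) m'.1
  exact Groth.Agent.H32.FibProd.fp_hom_ext F G (eq_of_thin (hXs.2 U) _ _)
    (eq_of_thin (hYs.2 U) _ _)

end Groth.Agent.S12811
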