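import Groth.Statements.S12816
import Groth.Agent.H32.StkLoc
import Groth.Agent.H32.StkFp

set_option autoImplicit false
open CategoryTheory
universe v u
open Stk

namespace Groth.Agent.S12816

open FibCat Groth.Agent.H32.FibProd Groth.Agent.H32.Yoneda2 Groth.Agent.H32.StkLoc
  Groth.Agent.H32.StkFp

universe v₄ u₄ v₃ u₃ v₂ u₂

section
variable {C : Type u} [Category.{v} C] {𝒪 : BasedCategory.{v₃, u₃} C}
  {𝒳 : BasedCategory.{v₂, u₂} C} {𝒴 : BasedCategory.{v₄, u₄} C} (F : 𝒳 ⥤ᵇ 𝒴)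

theorem post_faithful [F.toFunctor.Faithful] : (post (𝒜 := 𝒪) F).Faithful := by
  refine ⟨fun {H H'} α β h => ?_⟩
  apply BasedNatTrans.homCategory.ext
  refine NatTrans.ext (funext fun X => ?_)
  apply F.toFunctor.map_injective
  exact congrArg (fun γ => γ.toNatTrans.app X) h

theorem aux_nat {D E : Type*} [Category D] [Category E] (G : D ⥤ E) {A A' B B' : D}
    (k : A ⟶ A') (k' : B ⟶ B') (p : A ⟶ B) (p' : A' ⟶ B') (q : G.obj A ⟶ G.obj B)
    (q' : G.obj A' ⟶ G.obj B') (hp : G.map p = q) (hp' : G.map p' = q')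
    (n : G.map k ≫ q' = q ≫ G.map k') : G.map (k ≫ p') = G.map (p ≫ k') := by
  rw [G.map_comp, G.map_comp, hp, hp', n]

theorem post_full [F.toFunctor.Full] [F.toFunctor.Faithful] : (post (𝒜 := 𝒪) F).Full := by
  refine ⟨fun {H H'} γ => ?_⟩
  refine ⟨{ app := fun X => F.toFunctor.preimage (γ.toNatTrans.app X)
            naturality := fun X X' k => ?_
            isHomLift' := fun X => ?_ }, ?_⟩
  · apply F.toFunctor.map_injective
    exact aux_nat F.toFunctor _ _ _ _ _ _ (F.toFunctor.map_preimage _)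
      (F.toFunctor.map_preimage _) (γ.toNatTrans.naturality k)
  · rw [← BasedFunctor.isHomLift_iff F]
    have e : F.map (F.toFunctor.preimage (γ.toNatTrans.app X)) = γ.toNatTrans.app X :=
      F.toFunctor.map_preimage _
    rw [e]
    exact γ.isHomLift' X
  · apply BasedNatTrans.homCategory.ext
    refine NatTrans.ext (funext fun X => ?_)
    exact F.toFunctor.map_preimage _

end

section
variable {C : Type u} [Category.{v} C] {𝒳 𝒴 : BasedCategory.{v, max u v} C}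

theorem aux_conj {D : Type*} [Category D] {A B A' B' : D} (t : A ⟶ B) [IsIso t] (t' : A' ⟶ B')
    [IsIso t'] (χ : B ⟶ B') (c : A ⟶ A') (hc : c = t ≫ χ ≫ inv t') : inv t ≫ c ≫ t' = χ := by
  subst hc; simp

theorem full_of_post (h𝒳 : IsFibGrpd 𝒳.p) (h𝒴 : IsFibGrpd 𝒴.p) (F : 𝒳 ⥤ᵇ 𝒴)
    (H : ∀ U : C, (post (𝒜 := FibCat.overCat U) F).Full) : F.toFunctor.Full := by
  haveI : 𝒳.p.IsFibered := Groth.Agent.H32.Split.isFibered_of_isFibGrpd 𝒳 h𝒳
  apply full_of_fiberwise F h𝒳 h𝒴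
  intro x x' hx χ hχ
  obtain ⟨Hx, -, t, hti, htl⟩ :=
    exists_based_functor (Groth.Agent.H32.Split.hT (𝒳.p.obj x)) x rfl
  obtain ⟨Hx', -, t', ht'i, ht'l⟩ :=
    exists_based_functor (Groth.Agent.H32.Split.hT (𝒳.p.obj x)) x' hx
  have htl' : 𝒳.p.IsHomLift (𝟙 (𝒳.p.obj x)) t := htl
  have ht'l' : 𝒳.p.IsHomLift (𝟙 (𝒳.p.obj x)) t' := ht'l
  have hFt : 𝒴.p.IsHomLift (𝟙 (𝒳.p.obj x)) (F.map t) := inferInstance
  have hFt' : 𝒴.p.IsHomLift (𝟙 (𝒳.p.obj x)) (F.map t') := inferInstance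
  have hFt'i : IsIso (F.map t') := inferInstanceAs (IsIso (F.toFunctor.map t'))
  have hFti : IsIso (F.map t) := inferInstanceAs (IsIso (F.toFunctor.map t))
  have hFt'inv : 𝒴.p.IsHomLift (𝟙 (𝒳.p.obj x)) (inv (F.map t')) := inferInstance
  let c : F.obj (Hx.obj (Groth.Agent.H32.Split.T (𝒳.p.obj x))) ⟶
      F.obj (Hx'.obj (Groth.Agent.H32.Split.T (𝒳.p.obj x))) := F.map t ≫ χ ≫ inv (F.map t')
  have hc : 𝒴.p.IsHomLift (𝟙 (𝒳.p.obj x)) c :=
    isHomLift_comp_id_left 𝒴.p (𝟙 (𝒳.p.obj x)) _ _ hFt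
      (isHomLift_comp_id_left 𝒴.p (𝟙 (𝒳.p.obj x)) _ _ hχ hFt'inv)
  have hsc : ∀ X, 𝒴.p.IsStronglyCartesian
      ((FibCat.overCat (𝒳.p.obj x)).p.map ((Groth.Agent.H32.Split.hT (𝒳.p.obj x)).from X))
      (((post F).obj Hx').map ((Groth.Agent.H32.Split.hT (𝒳.p.obj x)).from X)) := fun X =>
    sc_of_isFibGrpd 𝒴.p h𝒴 _ _
  obtain ⟨γ, hγ⟩ := exists_natTrans (Groth.Agent.H32.Split.hT (𝒳.p.obj x))
    (G := (post F).obj Hx) (H := (post F).obj Hx') hsc c (ht := hc)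
  obtain ⟨α, hα⟩ := (H (𝒳.p.obj x)).map_surjective γ
  have h1 : F.map (α.toNatTrans.app (Groth.Agent.H32.Split.T (𝒳.p.obj x))) = c :=
    (congrArg (fun δ => δ.toNatTrans.app (Groth.Agent.H32.Split.T (𝒳.p.obj x))) hα).trans hγ
  refine ⟨inv t ≫ α.toNatTrans.app (Groth.Agent.H32.Split.T (𝒳.p.obj x)) ≫ t', ?_⟩
  have e1 : F.map (inv t ≫ α.toNatTrans.app (Groth.Agent.H32.Split.T (𝒳.p.obj x)) ≫ t') =
      inv (F.map t) ≫ c ≫ F.map t' := by
    rw [← h1]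
    simp
  rw [e1]
  exact aux_conj (F.map t) (F.map t') χ c rfl

theorem faithful_of_post (h𝒳 : IsFibGrpd 𝒳.p) (h𝒴 : IsFibGrpd 𝒴.p) (F : 𝒳 ⥤ᵇ 𝒴)
    (H : ∀ U : C, (post (𝒜 := FibCat.overCat U) F).Faithful) : F.toFunctor.Faithful := by
  haveI : 𝒳.p.IsFibered := Groth.Agent.H32.Split.isFibered_of_isFibGrpd 𝒳 h𝒳
  refine ⟨fun {x x'} b b' hbb' => ?_⟩
  have hb : 𝒳.p.IsHomLift (𝒳.p.map b) b := inferInstance
  have hGb : 𝒴.p.IsHomLift (𝒳.p.map b) (F.map b) := inferInstance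
  have hGb' : 𝒴.p.IsHomLift (𝒳.p.map b) (F.map b') := by
    have e : F.map b' = F.map b := hbb'.symm
    rw [e]; exact hGb
  have hb' : 𝒳.p.IsHomLift (𝒳.p.map b) b' := (BasedFunctor.isHomLift_iff F _ _).mp hGb'
  obtain ⟨α, hα, hαb⟩ := exists_aut 𝒳.p h𝒳 (𝒳.p.map b) b b' hb hb'
  have hFα : F.map α = 𝟙 (F.obj x) := by
    have l1 : 𝒴.p.IsHomLift (𝟙 (𝒳.p.obj x)) (F.map α) := inferInstance
    refine eq_id_of_comp 𝒴.p h𝒴 (𝒳.p.map b) (F.map b) hGb _ l1 ?_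
    have e1 : F.map α ≫ F.map b = F.map (α ≫ b) := (F.toFunctor.map_comp _ _).symm
    rw [e1, hαb]
    exact hbb'.symm
  suffices hα1 : α = 𝟙 x by rw [← hαb, hα1, Category.id_comp]
  obtain ⟨Hx, -, t, hti, htl⟩ :=
    exists_based_functor (Groth.Agent.H32.Split.hT (𝒳.p.obj x)) x rfl
  have htl' : 𝒳.p.IsHomLift (𝟙 (𝒳.p.obj x)) t := htl
  have hinv : 𝒳.p.IsHomLift (𝟙 (𝒳.p.obj x)) (inv t) := inferInstance
  let α' : Hx.obj (Groth.Agent.H32.Split.T (𝒳.p.obj x)) ⟶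
      Hx.obj (Groth.Agent.H32.Split.T (𝒳.p.obj x)) := t ≫ α ≫ inv t
  have hα' : 𝒳.p.IsHomLift (𝟙 (𝒳.p.obj x)) α' :=
    isHomLift_comp_id_left 𝒳.p (𝟙 (𝒳.p.obj x)) _ _ htl'
      (isHomLift_comp_id_left 𝒳.p (𝟙 (𝒳.p.obj x)) _ _ hα hinv)
  have hscX : ∀ X, 𝒳.p.IsStronglyCartesian
      ((FibCat.overCat (𝒳.p.obj x)).p.map ((Groth.Agent.H32.Split.hT (𝒳.p.obj x)).from X))
      (Hx.map ((Groth.Agent.H32.Split.hT (𝒳.p.obj x)).from X)) := fun X =>
    sc_of_isFibGrpd 𝒳.p h𝒳 _ _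
  obtain ⟨A, hA⟩ := exists_natTrans (Groth.Agent.H32.Split.hT (𝒳.p.obj x)) hscX α' (ht := hα')
  have hscY : ∀ X, 𝒴.p.IsStronglyCartesian
      ((FibCat.overCat (𝒳.p.obj x)).p.map ((Groth.Agent.H32.Split.hT (𝒳.p.obj x)).from X))
      (((post F).obj Hx).map ((Groth.Agent.H32.Split.hT (𝒳.p.obj x)).from X)) := fun X =>
    sc_of_isFibGrpd 𝒴.p h𝒴 _ _
  have hFα' : F.map α' = 𝟙 _ := by
    change F.toFunctor.map (t ≫ α ≫ inv t) = 𝟙 _
    rw [F.toFunctor.map_comp, F.toFunctor.map_comp]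
    have : F.toFunctor.map α = 𝟙 _ := hFα
    rw [this, Category.id_comp, ← F.toFunctor.map_comp, IsIso.hom_inv_id, F.toFunctor.map_id]
  have hA1 : A = 𝟙 Hx := by
    apply (H (𝒳.p.obj x)).map_injective
    apply natTrans_ext (Groth.Agent.H32.Split.hT (𝒳.p.obj x)) hscY
    change F.map (A.toNatTrans.app _) = F.map (𝟙 _)
    rw [hA, hFα']
    exact (F.toFunctor.map_id _).symm
  have hα'1 : α' = 𝟙 _ := by
    rw [← hA, hA1]
    rfl
  have h2 : t ≫ α = t := by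
    have h3 : (t ≫ α ≫ inv t) ≫ t = 𝟙 _ ≫ t := by rw [← hα'1]
    simpa using h3
  exact (cancel_epi t).mp (h2.trans (Category.comp_id t).symm)

end

/-- Let `𝒳`, `𝒴` be fibred in groupoids over `C` and `F : 𝒳 ⟶ 𝒴` a functor over `C`. Then the underlying
functor of `F` is fully faithful if and only if, for every object `U` of `C`, postcomposition with
`F` is a fully faithful functor from the category of functors `C/U ⟶ 𝒳` over `C` to that of functors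
`C/U ⟶ 𝒴` over `C`; under the 2-Yoneda lemma the latter says that `F` induces bijections between
morphisms of pullbacks `x|_V ⟶ y|_V` and `F(x)|_V ⟶ F(y)|_V` for all objects `x, y` over `U` and all
`V ⟶ U`, that is, isomorphisms of the presheaves of morphisms. (The published statement is for
stacks over a site, not necessarily in groupoids; the stack property plays no role and is not
assumed here, and this row treats categories fibred in groupoids.) -/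
theorem result {C : Type u} [Category.{v} C] {𝒳 𝒴 : BasedCategory.{v, max u v} C}
    (h𝒳 : FibCat.IsFibGrpd 𝒳.p) (h𝒴 : FibCat.IsFibGrpd 𝒴.p) (F : 𝒳 ⟶ 𝒴) :
    (F.toFunctor.Full ∧ F.toFunctor.Faithful) ↔
      ∀ U : C, (Bicategory.postcomp (FibCat.overCat U) F).Full ∧ (Bicategory.postcomp (FibCat.overCat U) F).Faithful := by
  constructor
  · rintro ⟨hfull, hfaith⟩ U
    exact ⟨post_full (𝒪 := FibCat.overCat U) F, post_faithful (𝒪 := FibCat.overCat U) F⟩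
  · intro H
    exact ⟨full_of_post h𝒳 h𝒴 F (fun U => (H U).1), faithful_of_post h𝒳 h𝒴 F (fun U => (H U).2)⟩

end Groth.Agent.S12816
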