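import Groth.Statements.S12823
import Groth.Agent.H32.StTop

set_option autoImplicit false
universe u
open CategoryTheory AlgebraicGeometry
open AlgSt

namespace Groth.Agent.S12823

/-- For an algebraic stack `𝒳` over `S` and any surjective, flat, locally finitely presented `p : U ⟶ 𝒳`
from an algebraic space, a subset of `|𝒳|` is open if and only if its preimage under `|p|` is open
in `|U|`; so the topology of `|𝒳|` does not depend on the chart used to define it. -/
theorem result {S : Scheme.{u}} {𝒳 : AlgSt.Cat S}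
    (h𝒳 : AlgSt.IsAlgStack Scheme.fppfPrecoverage 𝒳) (U : AlgSp.Space S) (p : AlgSt.ofSp U.obj ⥤ᵇ 𝒳)
    (hp₁ : AlgSt.RepByAlgSpWith (AlgSp.LocP @Flat) p)
    (hp₂ : AlgSt.RepByAlgSpWith (AlgSp.LocP @LocallyOfFinitePresentation) p)
    (hp₃ : AlgSt.RepByAlgSpWith AlgSp.IsSurjectiveMor p) (W : Set (AlgSt.Points 𝒳)) :
    IsOpen W ↔ IsOpen (AlgSt.Points.map p ⁻¹' W) := by
  have hU := Groth.Agent.H32.AtlasRep.isAlgStack_ofSp U
  constructor
  · intro hW
    exact (Groth.Agent.H32.StTop.continuous_map h𝒳 p).isOpen_preimage W hW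
  · intro hW
    have hsurj : Function.Surjective (AlgSt.Points.map p) :=
      (Groth.Agent.H32.StPoints.surj_iff hU h𝒳 p
        (Groth.Agent.H32.AlgStackEquiv.repByAlgSp1_of_with hp₃)).2 hp₃
    have := Groth.Agent.H32.StTop.isOpenMap_of_flat_lfp hU h𝒳 p
      (Groth.Agent.H32.StTop.with_flat_lfp hp₁ hp₂) _ hW
    rwa [Set.image_preimage_eq W hsurj] at this

end Groth.Agent.S12823
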