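import Groth.Statements.S12824
import Groth.Agent.H32.StTop

set_option autoImplicit false
universe u
open CategoryTheory AlgebraicGeometry
open AlgSt

namespace Groth.Agent.S12824

/-- For an algebraic stack `𝒳` over `S`, every open neighbourhood of a point of `|𝒳|` contains a
quasi-compact open neighbourhood of that point; hence `|𝒳|` is locally quasi-compact. -/
theorem result {S : Scheme.{u}} {𝒳 : AlgSt.Cat S}
    (h𝒳 : AlgSt.IsAlgStack Scheme.fppfPrecoverage 𝒳) (x : AlgSt.Points 𝒳) (W : Set (AlgSt.Points 𝒳)) (hW : IsOpen W) (hx : x ∈ W) :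
    ∃ V : Set (AlgSt.Points 𝒳), IsOpen V ∧ IsCompact V ∧ x ∈ V ∧ V ⊆ W := by
  obtain ⟨T, a, ha, hs⟩ := h𝒳.atlas
  have hq := Groth.Agent.H32.StTop.ofChart_isOpenQuotientMap h𝒳 a
    (Groth.Agent.H32.StTop.flat_lfp_of_smooth_chart ha) hs
  obtain ⟨t, rfl⟩ := hq.surjective x
  have hO : IsOpen (AlgSt.Points.ofChart a ⁻¹' W) := hW T a ha
  obtain ⟨A, ⟨A', hA', rfl⟩, htA, hAW⟩ := (T.left.isBasis_affineOpens).exists_subset_of_mem_open
    (show t ∈ AlgSt.Points.ofChart a ⁻¹' W from hx) hO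
  refine ⟨AlgSt.Points.ofChart a '' (A' : Set T.left), hq.isOpenMap _ A'.isOpen,
    (IsAffineOpen.isCompact hA').image hq.continuous, ⟨t, htA, rfl⟩, ?_⟩
  rintro _ ⟨s, hs', rfl⟩
  exact hAW hs'

end Groth.Agent.S12824
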