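import Groth.Statements.S12829
import Groth.Agent.H32.StUniv

set_option autoImplicit false
universe u
open CategoryTheory AlgebraicGeometry
open AlgSt

namespace Groth.Agent.S12829

/-- For a morphism `f : 𝒳 ⟶ 𝒴` of algebraic stacks over `S` that is representable by algebraic spaces,
every base change of `f` to a scheme is universally injective as a morphism of algebraic spaces
exactly when, for each morphism of algebraic stacks `𝒵 ⟶ 𝒴`, the induced map on points `|𝒵 ×_𝒴 𝒳| →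
|𝒵|` is injective. -/
theorem result {S : Scheme.{u}} {𝒳 𝒴 : AlgSt.Cat S}
    (h𝒳 : AlgSt.IsAlgStack Scheme.fppfPrecoverage 𝒳) (h𝒴 : AlgSt.IsAlgStack Scheme.fppfPrecoverage 𝒴) (f : 𝒳 ⥤ᵇ 𝒴) (hf : AlgSt.RepByAlgSp1 f) :
    AlgSt.RepByAlgSpWith AlgSp.IsUnivInjectiveMor f ↔ AlgSt.IsUnivInjective Scheme.fppfPrecoverage f := by
  exact ⟨fun h 𝒵 h𝒵 g => Groth.Agent.H32.StUniv.stackwise_of_univ
      Groth.Agent.H32.StUniv.topProp_injective h𝒳 h𝒴 f h h𝒵 g,
    fun H => Groth.Agent.H32.StUniv.univ_of_stackwise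
      Groth.Agent.H32.StUniv.topProp_injective h𝒳 h𝒴 f hf H⟩

end Groth.Agent.S12829
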