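import Groth.Statements.S12844
import Groth.Agent.H32.SpComp

set_option autoImplicit false
open CategoryTheory AlgebraicGeometry
universe u
open AlgSt

namespace Groth.Agent.S12844

/-- Let `P` be a property of morphisms of algebraic spaces over `S` which is stable under base change
and fppf local on the base, `f : 𝒳 ⟶ 𝒴` a 1-morphism of algebraic stacks over `S` representable by
algebraic spaces, `W` an algebraic space and `w : W ⟶ 𝒴` surjective, flat and locally of finite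
presentation. Then `f` has `P` if and only if the projection `V = W ×_𝒴 𝒳 ⟶ W` has `P`; here `V ⟶ W`
is named by an algebraic space `V`, a morphism `a : V ⟶ W` and an equivalence over `(Sch/S)` from
the category of `V` to the 2-fibre product whose composite with the first projection is 2-isomorphic
to the functor of `a`. (Stability under base change is asked for every pullback square of fppf
sheaves whose four corners are algebraic spaces.) -/
theorem result {S : Scheme.{u}} {𝒳 𝒴 : AlgSt.Cat S}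
    (h𝒳 : AlgSt.IsAlgStack Scheme.fppfPrecoverage 𝒳) (h𝒴 : AlgSt.IsAlgStack Scheme.fppfPrecoverage 𝒴)
    (P : MorphismProperty (AlgSp.Sp S))
    (hPb : ∀ ⦃X₁ Y₁ X₂ Y₂ : AlgSp.Sp S⦄, AlgSp.IsAlgSpace X₁ → AlgSp.IsAlgSpace Y₁ → AlgSp.IsAlgSpace X₂ →
      AlgSp.IsAlgSpace Y₂ → ∀ (a : X₁ ⟶ Y₁) (b : Y₂ ⟶ Y₁) (a' : X₂ ⟶ Y₂) (b' : X₂ ⟶ X₁),
      IsPullback b' a' a b → P a → P a')
    (hP : AlgSp.IsLocalOnBase AlgSp.IsFppfCover P)
    (f : 𝒳 ⥤ᵇ 𝒴) (hf : AlgSt.RepByAlgSp1 f) (W : AlgSp.Space S) (w : AlgSt.ofSp W.obj ⥤ᵇ 𝒴)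
    (hw₁ : AlgSt.RepByAlgSpWith (AlgSp.LocP @Flat) w)
    (hw₂ : AlgSt.RepByAlgSpWith (AlgSp.LocP @LocallyOfFinitePresentation) w)
    (hw₃ : AlgSt.RepByAlgSpWith AlgSp.IsSurjectiveMor w) :
    AlgSt.RepByAlgSpWith P f ↔
      ∃ (V : AlgSp.Space S) (a : V ⟶ W) (e : AlgSt.ofSp V.obj ⥤ᵇ FibCat.fp w f),
        FibCat.IsEquivOver e ∧
          Nonempty (BasedFunctor.comp e (FibCat.fpFst w f) ≅ AlgSt.ofSpMap a.hom) ∧ P a.hom := by
  open FibCat Stk Groth.Agent.H32.FibProd Groth.Agent.H32.Fp2 Groth.Agent.H32.Fp3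
    Groth.Agent.H32.Fp4 Groth.Agent.H32.PshFp Groth.Agent.H32.PshStack Groth.Agent.H32.SpBridge
    Groth.Agent.H32.SpTrack Groth.Agent.H32.SpComp Groth.Agent.H32.AtlasCover in
  constructor
  · intro hfP
    obtain ⟨V, e, he⟩ := Groth.Agent.H32.SpBoot.repByAlgSp_fp_ofSp h𝒳.isStack.1 h𝒴.isStack.1 W w f hf
    obtain ⟨γ⟩ := ofPshMap_pshMapOf (BasedFunctor.comp e (fpFst w f))
    exact ⟨V, ObjectProperty.homMk (ObjectProperty.homMk
      (pshMapOf (BasedFunctor.comp e (fpFst w f)))), e, he, ⟨γ.symm⟩,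
      P_baseChange P hP f hfP W V w e he⟩
  · rintro ⟨V, a, e, he, ⟨γ'⟩, hPa⟩ U y
    obtain ⟨F, e0, he0⟩ := hf U y
    refine ⟨F, e0, he0, ?_⟩
    obtain ⟨Z, ez, hez, hcov⟩ := exists_cover_of_rep w hw₁ hw₂ hw₃ U y
    obtain ⟨F', e'', he''⟩ := Groth.Agent.H32.SpBoot.repByAlgSp_fp_ofSp h𝒳.isStack.1 h𝒴.isStack.1 Z
      (BasedFunctor.comp (BasedFunctor.comp ez (fpSnd y w)) w) f hf
    obtain ⟨δ⟩ := ofPshMap_pshMapOf (BasedFunctor.comp ez (fpSnd y w))
    obtain ⟨q, sq⟩ := exists_isPullback_baseChange f w e he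
      (pshMapOf (BasedFunctor.comp ez (fpSnd y w)))
      (BasedFunctor.comp e'' (congrLeft (whiskerRightIso δ.symm w) f))
      (isEquivOver_comp _ _ he'' (congrLeft_isEquivOver _ f))
    have h1 : pshMapOf (BasedFunctor.comp e (fpFst w f)) = a.hom.hom :=
      (pshMapOf_congr γ'.hom).trans (pshMapOf_ofPshMap _)
    rw [h1] at sq
    have sq' : IsPullback (ObjectProperty.homMk q : F'.obj ⟶ V.obj)
        (ObjectProperty.homMk (pshMapOf (BasedFunctor.comp e'' (fpFst _ f))) : F'.obj ⟶ Z.obj)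
        a.hom (ObjectProperty.homMk (pshMapOf (BasedFunctor.comp ez (fpSnd y w))) :
          Z.obj ⟶ W.obj) :=
      IsPullback.of_map_of_faithful (sheafToPresheaf (AlgSp.J S) (Type (u + 1))) sq
    have hP' := hPb V.property W.property F'.property Z.property a.hom _ _ _ sq' hPa
    exact P_of_rep_cover P hP f w U y F e0 he0 Z ez hcov F' e'' he'' hP'

end Groth.Agent.S12844
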