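import Groth.Statements.S12846
import Groth.Agent.H65.Refine

set_option autoImplicit false
open CategoryTheory AlgebraicGeometry
universe u
open AlgSt

namespace Groth.Agent.S12846


/-- (1) ⇔ (2): suppose `P`, a property of schemes, is local for the smooth topology (for every jointly
surjective family of smooth morphisms `V_i ⟶ U`, `U` has `P` if and only if every `V_i` has `P`) and
`𝒳` an algebraic stack over `S`. Then every scheme `U` admitting a smooth `U ⟶ 𝒳` has `P` if and
only if some scheme `U` admitting a surjective smooth `U ⟶ 𝒳` has `P`. -/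
theorem result {S : Scheme.{u}} {𝒳 : AlgSt.Cat S}
    (h𝒳 : AlgSt.IsAlgStack Scheme.fppfPrecoverage 𝒳) (P : Scheme.{u} → Prop)
    (hP : ∀ (U : Scheme.{u}) (R : Presieve U), R ∈ Scheme.precoverage @Smooth U →
      (P U ↔ ∀ ⦃V : Scheme.{u}⦄ (g : V ⟶ U), R g → P V)) :
    AlgSt.SmoothLocally P 𝒳 ↔
      ∃ (U : Over S) (x : FibCat.overCat U ⥤ᵇ 𝒳),
        AlgSt.RepByAlgSpWith (AlgSp.LocP @Smooth) x ∧ AlgSt.RepByAlgSpWith AlgSp.IsSurjectiveMor x ∧ P U.left := by
  constructor
  · intro h
    obtain ⟨U, x, hx1, hx2⟩ := h𝒳.atlas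
    exact ⟨U, x, hx1, hx2, h U x hx1⟩
  · rintro ⟨U₀, x₀, hx1, hx2, hP₀⟩ U x hx
    obtain ⟨T, a, b, -, ha1, ha2, hb⟩ :=
      Groth.Agent.H65.Refine.exists_refinement h𝒳.isStack.1 x x₀ hx hx1 hx2
    -- `T` has `P`, through the smooth cover `{𝟙, b}` of `U₀`
    have hT : P T.left := by
      let X : Bool → Scheme.{u} := fun i => if i then U₀.left else T.left
      let g : ∀ i, X i ⟶ U₀.left := fun i =>
        match i with
        | true => 𝟙 U₀.left
        | false => b.left
      have hR : Presieve.ofArrows X g ∈ Scheme.precoverage @Smooth U₀.left := by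
        refine (Scheme.ofArrows_mem_precoverage_iff (P := @Smooth)).2
          ⟨fun y => ⟨true, y, rfl⟩, fun i => ?_⟩
        cases i
        · exact hb
        · exact (inferInstance : Smooth (𝟙 U₀.left))
      exact (hP U₀.left _ hR).1 hP₀ (g false) (Presieve.ofArrows.mk false)
    -- `U` has `P`, through the smooth cover `{a}`
    have hR : Presieve.singleton a.left ∈ Scheme.precoverage @Smooth U.left :=
      (Scheme.singleton_mem_precoverage_iff (P := @Smooth) a.left).2 ⟨ha2.surj, ha1⟩
    refine (hP U.left _ hR).2 ?_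
    intro V g hg
    cases hg
    exact hT

end Groth.Agent.S12846
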