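import Groth.Statements.S12849
import Groth.Agent.H32.SpBoot
import Groth.Agent.H32.SpComp
import Groth.Agent.H32.PFacts
import Groth.Agent.H32.AlgStackEquiv
import Groth.Agent.H32.Fp4
import Groth.Agent.H32.SpTrack
-- import your own Groth.Agent.* helpers here

set_option autoImplicit false
open CategoryTheory AlgebraicGeometry
universe u
open AlgSt

namespace Groth.Agent.S12849

section aux
open CategoryTheory.Limits Opposite
open FibCat Stk Groth.Agent.H32.FibProd Groth.Agent.H32.Fp2 Groth.Agent.H32.Fp3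
  Groth.Agent.H32.Fp4 Groth.Agent.H32.SpBridge Groth.Agent.H32.PFacts
  Groth.Agent.H32.AlgStackEquiv Groth.Agent.H32.SpComp
  Groth.Agent.H32.PshFp Groth.Agent.H32.SpTrack

variable {S : Scheme.{u}}

/-- general form: `Q` is fppf local on the base, `P` descends along a single surjective `Q`-morphism
on the source, `x` is representable by algebraic spaces, surjective with `Q`; then `P (y ∘ x)`
implies `P y`. -/
theorem of_comp_cover {𝒳 𝒴 𝒵 : AlgSt.Cat S} (h𝒳 : IsFibGrpd 𝒳.p) (h𝒴 : IsFibGrpd 𝒴.p)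
    (P Q : MorphismProperty (AlgSp.Sp S))
    (hPb : ∀ ⦃X₁ Y₁ X₂ Y₂ : AlgSp.Sp S⦄, AlgSp.IsAlgSpace X₁ → AlgSp.IsAlgSpace Y₁ →
      AlgSp.IsAlgSpace X₂ → AlgSp.IsAlgSpace Y₂ → ∀ (a : X₁ ⟶ Y₁) (b : Y₂ ⟶ Y₁) (a' : X₂ ⟶ Y₂)
      (b' : X₂ ⟶ X₁), IsPullback b' a' a b → P a → P a')
    (hQ : AlgSp.IsLocalOnBase AlgSp.IsFppfCover Q)
    (hP' : ∀ ⦃X₁ X Y : AlgSp.Sp S⦄ (a : X₁ ⟶ X) (f : X ⟶ Y), AlgSp.IsAlgSpace X₁ →
      AlgSp.IsAlgSpace X → AlgSp.IsAlgSpace Y → Q a → AlgSp.IsSurjectiveMor a → P (a ≫ f) → P f)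
    (x : 𝒳 ⥤ᵇ 𝒴) (y : 𝒴 ⥤ᵇ 𝒵) (hy : AlgSt.RepByAlgSp1 y)
    (hx₁ : AlgSt.RepByAlgSpWith Q x) (hx₂ : AlgSt.RepByAlgSpWith AlgSp.IsSurjectiveMor x)
    (h : AlgSt.RepByAlgSpWith P (BasedFunctor.comp x y)) : AlgSt.RepByAlgSpWith P y := by
  intro T t
  obtain ⟨F, e, he⟩ := hy T t
  obtain ⟨F₁, e₁, he₁⟩ := Groth.Agent.H32.SpBoot.repByAlgSp_fp_ofSp h𝒳 h𝒴 F
    (BasedFunctor.comp e (fpSnd t y)) x (repByAlgSp1_of_with hx₁)
  have hQa := P_baseChange Q hQ x hx₁ F F₁ (BasedFunctor.comp e (fpSnd t y)) e₁ he₁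
  have hSa := P_baseChange _ good_surjective.loc x hx₂ F F₁ (BasedFunctor.comp e (fpSnd t y)) e₁ he₁
  obtain ⟨E, hEdef⟩ : ∃ E : AlgSt.ofSp F₁.obj ⥤ᵇ fp t (BasedFunctor.comp x y),
      E = BasedFunctor.comp e₁ (BasedFunctor.comp (pasteMid e (fpSnd t y) x) (assoc t y x)) :=
    ⟨_, rfl⟩
  have hE : IsEquivOver E := by
    rw [hEdef]
    exact isEquivOver_comp _ _ he₁ (isEquivOver_comp _ _
      (pasteMid_isEquivOver e (fpSnd t y) x he) (assoc_isEquivOver t y x))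
  obtain ⟨F', e', he', hP''⟩ := h T t
  obtain ⟨i, hi⟩ := rep_unique_over (BasedFunctor.comp x y) T t F₁.obj F'.obj E e' hE he'
  have hPE : P (AlgSt.spMapOfOver (BasedFunctor.comp E (fpFst t (BasedFunctor.comp x y)))) := by
    refine hPb F'.property (AlgSp.IsAlgSpace.yon_obj T) F₁.property (AlgSp.IsAlgSpace.yon_obj T)
      (AlgSt.spMapOfOver (BasedFunctor.comp e' (fpFst t (BasedFunctor.comp x y)))) (𝟙 _) _ i.hom
      ?_ hP''
    exact IsPullback.of_horiz_isIso ⟨by rw [hi, Category.comp_id]⟩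
  have key : AlgSt.spMapOfOver (BasedFunctor.comp E (fpFst t (BasedFunctor.comp x y))) =
      (ObjectProperty.homMk (pshMapOf (BasedFunctor.comp e₁
        (fpFst (BasedFunctor.comp e (fpSnd t y)) x))) : F₁.obj ⟶ F.obj) ≫
        AlgSt.spMapOfOver (BasedFunctor.comp e (fpFst t y)) := by
    apply ObjectProperty.hom_ext
    change (AlgSt.spMapOfOver _).hom = pshMapOf (BasedFunctor.comp e₁
      (fpFst (BasedFunctor.comp e (fpSnd t y)) x)) ≫ (AlgSt.spMapOfOver _).hom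
    rw [spMapOfOver_hom, spMapOfOver_hom, ← pshMapOf_comp, hEdef]
    rfl
  refine ⟨F, e, he, ?_⟩
  rw [key] at hPE
  exact hP' _ _ F₁.property F.property (AlgSp.IsAlgSpace.yon_obj T) hQa hSa hPE

end aux

/-- Let `P` be a property of morphisms of algebraic spaces over `S` which is stable under base change,
fppf local on the base and local on the source in the smooth topology; let `x : 𝒳 ⟶ 𝒴` and `y : 𝒴 ⟶
𝒵` be 1-morphisms of algebraic stacks over `S` representable by algebraic spaces with `x` surjective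
and smooth. If `y ∘ x` has `P` then `y` has `P`. (Stability under base change is asked for every
pullback square of fppf sheaves whose four corners are algebraic spaces.) -/
theorem result {S : Scheme.{u}} {𝒳 𝒴 𝒵 : AlgSt.Cat S}
    (h𝒳 : AlgSt.IsAlgStack Scheme.fppfPrecoverage 𝒳) (h𝒴 : AlgSt.IsAlgStack Scheme.fppfPrecoverage 𝒴) (h𝒵 : AlgSt.IsAlgStack Scheme.fppfPrecoverage 𝒵)
    (P : MorphismProperty (AlgSp.Sp S))
    (hPb : ∀ ⦃X₁ Y₁ X₂ Y₂ : AlgSp.Sp S⦄, AlgSp.IsAlgSpace X₁ → AlgSp.IsAlgSpace Y₁ → AlgSp.IsAlgSpace X₂ →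
      AlgSp.IsAlgSpace Y₂ → ∀ (a : X₁ ⟶ Y₁) (b : Y₂ ⟶ Y₁) (a' : X₂ ⟶ Y₂) (b' : X₂ ⟶ X₁),
      IsPullback b' a' a b → P a → P a')
    (hP : AlgSp.IsLocalOnBase AlgSp.IsFppfCover P) (hP' : AlgSp.IsLocalOnSource AlgSp.IsSmCover P)
    (x : 𝒳 ⥤ᵇ 𝒴) (y : 𝒴 ⥤ᵇ 𝒵) (hy : AlgSt.RepByAlgSp1 y)
    (hx₁ : AlgSt.RepByAlgSpWith (AlgSp.LocP @Smooth) x) (hx₂ : AlgSt.RepByAlgSpWith AlgSp.IsSurjectiveMor x)
    (h : AlgSt.RepByAlgSpWith P (BasedFunctor.comp x y)) : AlgSt.RepByAlgSpWith P y := by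
  refine of_comp_cover h𝒳.isStack.1 h𝒴.isStack.1 P (AlgSp.LocP @Smooth) hPb
    Groth.Agent.H32.PFacts.good_smooth.loc ?_ x y hy hx₁ hx₂ h
  intro X₁ X Y a f hX₁ hX hY ha hs hPaf
  exact (hP' (ι := PUnit.{u + 1}) (fun _ => X₁) (fun _ => a) hX (fun _ => hX₁)
    ⟨fun _ => ha, fun pt => ⟨PUnit.unit, hs pt⟩⟩ f hY).mpr (fun _ => hPaf)

end Groth.Agent.S12849
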