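import Groth.Statements.S12855
import Groth.Agent.H65.Refine
import Groth.Agent.H32.StTop
import Groth.Agent.H32.AtlasRep
import Groth.Agent.H32.StackOps
-- import your own Groth.Agent.* helpers here

set_option autoImplicit false
open CategoryTheory AlgebraicGeometry
universe u
open AlgSt

namespace Groth.Agent.S12855

section aux
open CategoryTheory.Limits Opposite
open FibCat Stk Groth.Agent.H32.FibProd Groth.Agent.H32.Fp2 Groth.Agent.H32.Fp3
  Groth.Agent.H32.Fp4 Groth.Agent.H32.SpBridge Groth.Agent.H32.PFacts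
  Groth.Agent.H32.AlgStackEquiv Groth.Agent.H32.AtlasRep Groth.Agent.H32.SpComp
  Groth.Agent.H32.StackOps Groth.Agent.H32.PshFp Groth.Agent.H32.SpTrack

variable {S : Scheme.{u}}

/-- the two-member family `{g, 𝟙}`. -/
def X2 (V U : Scheme.{u}) : Bool → Scheme.{u} := fun b => cond b V U

/-- the two-member family `{g, 𝟙}`. -/
def f2 {V U : Scheme.{u}} (g : V ⟶ U) : ∀ b, X2 V U b ⟶ U
  | true => g
  | false => 𝟙 U

theorem P_iff_of_smooth_surj {P : Scheme.{u} → Prop}
    (hP : ∀ (U : Scheme.{u}) (R : Presieve U), R ∈ Scheme.precoverage @Smooth U →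
      (P U ↔ ∀ ⦃V : Scheme.{u}⦄ (g : V ⟶ U), R g → P V))
    {V U : Scheme.{u}} (g : V ⟶ U) [Smooth g] [Surjective g] : P U ↔ P V := by
  have hmem : Presieve.ofArrows (fun _ : PUnit.{1} => V) (fun _ => g) ∈
      Scheme.precoverage @Smooth U := by
    refine (Scheme.ofArrows_mem_precoverage_iff (P := @Smooth)).2 ?_
    exact ⟨fun x => ⟨PUnit.unit, g.surjective x⟩, fun _ => inferInstance⟩
  rw [hP U _ hmem]
  constructor
  · intro h
    exact h g (Presieve.ofArrows.mk PUnit.unit)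
  · intro h W g' hg'
    obtain ⟨i⟩ := hg'
    exact h

theorem P_of_smooth {P : Scheme.{u} → Prop}
    (hP : ∀ (U : Scheme.{u}) (R : Presieve U), R ∈ Scheme.precoverage @Smooth U →
      (P U ↔ ∀ ⦃V : Scheme.{u}⦄ (g : V ⟶ U), R g → P V))
    {V U : Scheme.{u}} (g : V ⟶ U) [Smooth g] (h : P U) : P V := by
  have hmem : Presieve.ofArrows (X2 V U) (f2 g) ∈ Scheme.precoverage @Smooth U := by
    refine (Scheme.ofArrows_mem_precoverage_iff (P := @Smooth)).2 ?_
    refine ⟨fun x => ⟨false, x, rfl⟩, fun b => ?_⟩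
    cases b
    · exact (inferInstance : Smooth (𝟙 U))
    · exact (inferInstance : Smooth g)
  exact (hP U _ hmem).1 h (f2 g true) (Presieve.ofArrows.mk true)

/-- a stack with a smooth surjective scheme chart having `P` has `P` smooth locally. -/
theorem smoothLocally_of_chart {𝒳 : AlgSt.Cat S} (h𝒳g : IsFibGrpd 𝒳.p) (P : Scheme.{u} → Prop)
    (hP : ∀ (U : Scheme.{u}) (R : Presieve U), R ∈ Scheme.precoverage @Smooth U →
      (P U ↔ ∀ ⦃V : Scheme.{u}⦄ (g : V ⟶ U), R g → P V))
    (W : Over S) (x₀ : FibCat.overCat W ⥤ᵇ 𝒳) (hW : P W.left)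
    (hx1 : AlgSt.RepByAlgSpWith (AlgSp.LocP @Smooth) x₀)
    (hx2 : AlgSt.RepByAlgSpWith AlgSp.IsSurjectiveMor x₀) :
    AlgSt.SmoothLocally P 𝒳 := by
  intro U x hx
  obtain ⟨T, a', b, -, ha1, ha2, hb⟩ :=
    Groth.Agent.H65.Refine.exists_refinement h𝒳g x x₀ hx hx1 hx2
  have hT : P T.left := P_of_smooth hP b.left hW
  exact (P_iff_of_smooth_surj hP a'.left).2 hT

theorem P_of_etaleLocally_yon {P : Scheme.{u} → Prop}
    (hP : ∀ (U : Scheme.{u}) (R : Presieve U), R ∈ Scheme.precoverage @Smooth U →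
      (P U ↔ ∀ ⦃V : Scheme.{u}⦄ (g : V ⟶ U), R g → P V))
    (U : Over S) (h : AlgSp.EtaleLocally P ((AlgSp.yon S).obj U)) : P U.left := by
  obtain ⟨T, p, hp1, hp2, hPT⟩ := h
  obtain ⟨g, rfl⟩ : ∃ g : T ⟶ U, (AlgSp.yon S).map g = p :=
    ⟨(AlgSp.yon S).preimage p, Functor.map_preimage _ _⟩
  have h1 : Etale g.left := (AlgSp.repWith_yon_map_iff @Etale g).1 hp1
  have h2 : Surjective g.left := (AlgSp.repWith_yon_map_iff @Surjective g).1 hp2
  exact (P_iff_of_smooth_surj hP g.left).2 hPT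

theorem etaleLocally_yon_of_P {P : Scheme.{u} → Prop} (U : Over S) (h : P U.left) :
    AlgSp.EtaleLocally P ((AlgSp.yon S).obj U) := by
  refine ⟨U, 𝟙 _, ?_, ?_, h⟩
  · have := (AlgSp.repWith_yon_map_iff (S := S) @Etale (𝟙 U)).2
      (inferInstanceAs (Etale (𝟙 U.left)))
    rwa [CategoryTheory.Functor.map_id] at this
  · have := (AlgSp.repWith_yon_map_iff (S := S) @Surjective (𝟙 U)).2
      (inferInstanceAs (Surjective (𝟙 U.left)))
    rwa [CategoryTheory.Functor.map_id] at this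

theorem ofPoint_smooth {G : AlgSp.Sp S} {T : Over S} (p : (AlgSp.yon S).obj T ⟶ G)
    (hp : AlgSp.RepWith @Etale p) :
    AlgSt.RepByAlgSpWith (AlgSp.LocP @Smooth) (ofPoint p.hom) := by
  have i1 := locP_respectsIso (S := S) @Smooth
  exact repByAlgSpWith_ofPoint @Etale (AlgSp.LocP @Smooth)
    (fun F' U snd h => locP_smooth_of_repWith_etale snd h) p hp

theorem ofPoint_surjective {G : AlgSp.Sp S} {T : Over S} (p : (AlgSp.yon S).obj T ⟶ G)
    (hp : AlgSp.RepWith @Surjective p) :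
    AlgSt.RepByAlgSpWith AlgSp.IsSurjectiveMor (ofPoint p.hom) := by
  have i2 := isSurjectiveMor_respectsIso (S := S)
  exact repByAlgSpWith_ofPoint @Surjective AlgSp.IsSurjectiveMor
    (fun F' U snd h => isSurjectiveMor_of_repWith_to_yon snd h) p hp

end aux

/-- Suppose `P`, a property of schemes, is local for the smooth topology (for every jointly surjective
family of smooth morphisms `V_i ⟶ U`, `U` has `P` if and only if every `V_i` has `P`) and `X` an
algebraic space over `S`. Then every scheme admitting a smooth morphism to (the algebraic stack of)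
`X` has `P` if and only if `X` has `P`, i.e. some surjective etale scheme chart of `X` has `P`. -/
theorem result {S : Scheme.{u}} (X : AlgSp.Space S) (P : Scheme.{u} → Prop)
    (hP : ∀ (U : Scheme.{u}) (R : Presieve U), R ∈ Scheme.precoverage @Smooth U →
      (P U ↔ ∀ ⦃V : Scheme.{u}⦄ (g : V ⟶ U), R g → P V)) :
    AlgSt.SmoothLocally P (AlgSt.ofSp X.obj) ↔ AlgSp.EtaleLocally P X.obj := by
  constructor
  · intro h
    obtain ⟨T, p, hp1, hp2⟩ := X.property.atlas
    exact ⟨T, p, hp1, hp2, h T (Groth.Agent.H32.SpBridge.ofPoint p.hom) (ofPoint_smooth p hp1)⟩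
  · rintro ⟨U₀, p, hp1, hp2, hPU⟩
    exact smoothLocally_of_chart (Groth.Agent.H32.StackOps.ofSp_isFibGrpd X.obj) P hP U₀
      (Groth.Agent.H32.SpBridge.ofPoint p.hom) hPU (ofPoint_smooth p hp1)
      (ofPoint_surjective p hp2)

end Groth.Agent.S12855
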