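import Groth.Statements.S12853
import Groth.Agent.S12855
-- import your own Groth.Agent.* helpers here

set_option autoImplicit false
open CategoryTheory AlgebraicGeometry
universe u
open AlgSt

namespace Groth.Agent.S12853

/-- (2) ⇔ (3): suppose `P`, a property of schemes, is local for the smooth topology (for every jointly
surjective family of smooth morphisms `V_i ⟶ U`, `U` has `P` if and only if every `V_i` has `P`) and
`𝒳` an algebraic stack over `S`. Then every scheme admitting a smooth morphism to `𝒳` has `P` if and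
only if some algebraic space `U` having `P` (some surjective etale scheme chart of `U` has `P`)
admits a surjective smooth `U ⟶ 𝒳`. -/
theorem result {S : Scheme.{u}} {𝒳 : AlgSt.Cat S}
    (h𝒳 : AlgSt.IsAlgStack Scheme.fppfPrecoverage 𝒳) (P : Scheme.{u} → Prop)
    (hP : ∀ (U : Scheme.{u}) (R : Presieve U), R ∈ Scheme.precoverage @Smooth U →
      (P U ↔ ∀ ⦃V : Scheme.{u}⦄ (g : V ⟶ U), R g → P V)) :
    AlgSt.SmoothLocally P 𝒳 ↔
      ∃ (U : AlgSp.Space S) (x : AlgSt.ofSp U.obj ⥤ᵇ 𝒳),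
        AlgSt.RepByAlgSpWith (AlgSp.LocP @Smooth) x ∧ AlgSt.RepByAlgSpWith AlgSp.IsSurjectiveMor x ∧
          AlgSp.EtaleLocally P U.obj := by
  constructor
  · intro h
    obtain ⟨T, a, ha1, ha2⟩ := h𝒳.atlas
    refine ⟨(⟨(AlgSp.yon S).obj T, AlgSp.IsAlgSpace.yon_obj T⟩ : AlgSp.Space S),
      BasedFunctor.comp (AlgSt.toOverCat T) a, ?_, ?_, ?_⟩
    · exact Groth.Agent.H32.StackOps.with_precomp_equiv _
        (Groth.Agent.H32.StackOps.ofSp_isFibGrpd _) (Groth.Agent.S6411.over_isFibGrpd T)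
        h𝒳.isStack.1 (AlgSt.toOverCat T) (Groth.Agent.H32.SpBridge.toOverCat_isEquivOver T) a ha1
    · exact Groth.Agent.H32.StackOps.with_precomp_equiv _
        (Groth.Agent.H32.StackOps.ofSp_isFibGrpd _) (Groth.Agent.S6411.over_isFibGrpd T)
        h𝒳.isStack.1 (AlgSt.toOverCat T) (Groth.Agent.H32.SpBridge.toOverCat_isEquivOver T) a ha2
    · exact Groth.Agent.S12855.etaleLocally_yon_of_P T (h T a ha1)
  · rintro ⟨U, x, hx1, hx2, U₀, p, hp1, hp2, hPU⟩
    exact Groth.Agent.S12855.smoothLocally_of_chart h𝒳.isStack.1 P hP U₀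
      (BasedFunctor.comp (Groth.Agent.H32.SpBridge.ofPoint p.hom) x) hPU
      (Groth.Agent.H32.StackOps.with_comp Groth.Agent.H32.PFacts.good_smooth
        (Groth.Agent.S6411.over_isFibGrpd U₀) (Groth.Agent.H32.StackOps.ofSp_isFibGrpd U.obj)
        h𝒳.isStack.1 _ _ (Groth.Agent.S12855.ofPoint_smooth p hp1) hx1)
      (Groth.Agent.H32.StackOps.with_comp Groth.Agent.H32.PFacts.good_surjective
        (Groth.Agent.S6411.over_isFibGrpd U₀) (Groth.Agent.H32.StackOps.ofSp_isFibGrpd U.obj)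
        h𝒳.isStack.1 _ _ (Groth.Agent.S12855.ofPoint_surjective p hp2) hx2)

end Groth.Agent.S12853
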