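import Groth.Statements.S12856
import Groth.Agent.H32.StQC
import Groth.Agent.S10174

set_option autoImplicit false
open CategoryTheory AlgebraicGeometry
universe u
open AlgSt

namespace Groth.Agent.S12856

/-- (2) ⇔ (4): an algebraic stack `𝒳` over `S` admits a surjective smooth morphism from an affine scheme
if and only if it admits a surjective smooth morphism from a quasi-compact algebraic space. -/
theorem result {S : Scheme.{u}} {𝒳 : AlgSt.Cat S}
    (h𝒳 : AlgSt.IsAlgStack Scheme.fppfPrecoverage 𝒳) :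
    AlgSt.IsQuasiCompact 𝒳 ↔
      ∃ (U : AlgSp.Space S) (x : AlgSt.ofSp U.obj ⥤ᵇ 𝒳), AlgSp.IsQuasiCompactSp U.obj ∧
        AlgSt.RepByAlgSpWith (AlgSp.LocP @Smooth) x ∧ AlgSt.RepByAlgSpWith AlgSp.IsSurjectiveMor x := by
  constructor
  · rintro ⟨U, x, hU, h1, h2⟩
    have hc : CompactSpace ↥U.left := by have := hU; infer_instance
    have i1 := Groth.Agent.H32.StTop.ofSp_isFibGrpd' ((AlgSp.yon S).obj U)
    have i2 := Groth.Agent.S6411.over_isFibGrpd U
    exact ⟨(AlgSp.ofScheme S).obj U, BasedFunctor.comp (AlgSt.toOverCat U) x,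
      Groth.Agent.H52.isQuasiCompactSp_yon U,
      Groth.Agent.H32.StackOps.with_precomp_equiv _ i1 i2 h𝒳.isStack.1 _
        (Groth.Agent.H32.SpBridge.toOverCat_isEquivOver U) x h1,
      Groth.Agent.H32.StackOps.with_precomp_equiv _ i1 i2 h𝒳.isStack.1 _
        (Groth.Agent.H32.SpBridge.toOverCat_isEquivOver U) x h2⟩
  · rintro ⟨U, x, hU, h1, h2⟩
    have hc : CompactSpace (AlgSp.Points U.obj) := (Groth.Agent.S10174.result U).1 hU
    have hc' : CompactSpace (AlgSt.Points (AlgSt.ofSp U.obj)) :=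
      (Groth.Agent.H32.StTop.ptsHomeo U).compactSpace
    have hU' := Groth.Agent.H32.AtlasRep.isAlgStack_ofSp U
    have hsurj : Function.Surjective (AlgSt.Points.map x) :=
      (Groth.Agent.H32.StPoints.surj_iff hU' h𝒳 x
        (Groth.Agent.H32.AlgStackEquiv.repByAlgSp1_of_with h2)).2 h2
    refine Groth.Agent.H32.StQC.isQuasiCompact_of_compactSpace h𝒳 ⟨?_⟩
    rw [← Set.image_univ_of_surjective hsurj]
    exact isCompact_univ.image (Groth.Agent.H32.StTop.continuous_map h𝒳 x)

end Groth.Agent.S12856
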