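import Groth.Statements.S12859
import Groth.Agent.H32.OpenSub

set_option autoImplicit false
open CategoryTheory AlgebraicGeometry
universe u
open AlgSt

namespace Groth.Agent.S12859

/-- Let `𝒳` be an algebraic stack over `S`. The rule sending an open substack `𝒰 ⊂ 𝒳` (a predicate on
objects closed under isomorphisms whose full subcategory is an algebraic stack with open-immersion
inclusion) to `|𝒰| ⊂ |𝒳|` is a bijection from open substacks onto open subsets of `|𝒳|`, and `𝒰 ⊂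
𝒰'` holds exactly when `|𝒰| ⊂ |𝒰'|`. -/
theorem result {S : Scheme.{u}} {𝒳 : AlgSt.Cat S}
    (h𝒳 : AlgSt.IsAlgStack Scheme.fppfPrecoverage 𝒳) :
    Set.BijOn (fun Q : 𝒳.obj → Prop => Set.range (AlgSt.Points.map (AlgSt.subIncl 𝒳 Q)))
        {Q | AlgSt.IsOpenSubstack 𝒳 Q Scheme.fppfPrecoverage} {T | IsOpen T} ∧
      ∀ (Q Q' : 𝒳.obj → Prop), AlgSt.IsOpenSubstack 𝒳 Q Scheme.fppfPrecoverage → AlgSt.IsOpenSubstack 𝒳 Q' Scheme.fppfPrecoverage →
        ((∀ y, Q y → Q' y) ↔ Set.range (AlgSt.Points.map (AlgSt.subIncl 𝒳 Q)) ⊆ Set.range (AlgSt.Points.map (AlgSt.subIncl 𝒳 Q'))) := by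
  refine ⟨⟨?_, ?_, ?_⟩, ?_⟩
  · intro Q hQ
    exact Groth.Agent.H32.StOpen.isOpen_range_of_isOpenImm hQ.2.1 h𝒳 _ hQ.2.2
  · intro Q hQ Q' hQ' h
    funext x
    apply propext
    have h' : Set.range (AlgSt.Points.map (AlgSt.subIncl 𝒳 Q)) =
        Set.range (AlgSt.Points.map (AlgSt.subIncl 𝒳 Q')) := h
    rw [Groth.Agent.H32.OpenSub.Q_iff_Qof h𝒳 hQ x, Groth.Agent.H32.OpenSub.Q_iff_Qof h𝒳 hQ' x, h']
  · intro W hW
    exact ⟨Groth.Agent.H32.OpenSub.Qof W, Groth.Agent.H32.OpenSub.isOpenSubstack_Qof W h𝒳 hW,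
      Groth.Agent.H32.OpenSub.range_subIncl W⟩
  · intro Q Q' hQ hQ'
    constructor
    · rintro hle _ ⟨w, rfl⟩
      obtain ⟨q, rfl⟩ := AlgSt.Points.mk_surjective w
      exact ⟨AlgSt.Points.mk ⟨q.K, q.str, ⟨q.obj.obj, hle _ q.obj.property⟩, q.lies⟩, rfl⟩
    · intro h y hy
      rw [Groth.Agent.H32.OpenSub.Q_iff_Qof h𝒳 hQ'] 
      exact Groth.Agent.H32.OpenSub.Qof_mono h y ((Groth.Agent.H32.OpenSub.Q_iff_Qof h𝒳 hQ y).1 hy)

end Groth.Agent.S12859
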