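import Groth.Statements.S12860
import Groth.Agent.H32.OpenSub2

set_option autoImplicit false
open CategoryTheory AlgebraicGeometry
universe u
open AlgSt

namespace Groth.Agent.S12860

/-- Let `𝒳` be an algebraic stack over `S`, `U` an algebraic space with a surjective smooth `u : U ⟶ 𝒳`,
and `j : V ⟶ U` an open immersion of algebraic spaces. Then there are an algebraic stack `𝒴`, an
open immersion `i : 𝒴 ⟶ 𝒳` and a surjective smooth `g : V ⟶ 𝒴` such that `i ∘ g` is 2-isomorphic to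
`u ∘ j` (the compatibility is part of the published proof, which constructs `𝒴` as the image of
`V`). -/
theorem result {S : Scheme.{u}} {𝒳 : AlgSt.Cat S}
    (h𝒳 : AlgSt.IsAlgStack Scheme.fppfPrecoverage 𝒳) (U : AlgSp.Space S) (u : AlgSt.ofSp U.obj ⥤ᵇ 𝒳)
    (hu₁ : AlgSt.RepByAlgSpWith (AlgSp.LocP @Smooth) u) (hu₂ : AlgSt.RepByAlgSpWith AlgSp.IsSurjectiveMor u)
    (V : AlgSp.Space S) (j : V ⟶ U) (hj : AlgSp.RepWith @IsOpenImmersion j.hom) :
    ∃ (𝒴 : AlgSt.Cat S) (i : 𝒴 ⥤ᵇ 𝒳) (g : AlgSt.ofSp V.obj ⥤ᵇ 𝒴),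
      AlgSt.IsAlgStack Scheme.fppfPrecoverage 𝒴 ∧ AlgSt.IsOpenImm i ∧
        AlgSt.RepByAlgSpWith (AlgSp.LocP @Smooth) g ∧ AlgSt.RepByAlgSpWith AlgSp.IsSurjectiveMor g ∧
          Nonempty (BasedFunctor.comp g i ≅ BasedFunctor.comp (AlgSt.ofSpMap j.hom) u) := by
  open Groth.Agent.H32.OpenSub2 Groth.Agent.H32.OpenSub Groth.Agent.H32.StackOps
    Groth.Agent.H32.PFacts Groth.Agent.H32.StPoints Groth.Agent.H32.StTop in
  have hV := Groth.Agent.H32.AtlasRep.isAlgStack_ofSp V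
  have hU := Groth.Agent.H32.AtlasRep.isAlgStack_ofSp U
  have hjs : AlgSp.LocP @Smooth j.hom :=
    Groth.Agent.H50.locP_of_repWith (P := @Smooth) (fun A B g hg => inferInstance)
      (Groth.Agent.H32.AtlasCover.repWith_mono (P' := @Smooth)
        (fun A B g (hg : IsOpenImmersion g) => inferInstance) hj)
  have hj' : AlgSt.RepByAlgSpWith (AlgSp.LocP @Smooth) (AlgSt.ofSpMap j.hom) :=
    Groth.Agent.H32.DiagRep.with_ofSpMap _ good_smooth.bc V U j hjs
  have hc : AlgSt.RepByAlgSpWith (AlgSp.LocP @Smooth)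
      (BasedFunctor.comp (AlgSt.ofSpMap j.hom) u) :=
    with_comp good_smooth hV.isStack.1 hU.isStack.1 h𝒳.isStack.1 _ _ hj' hu₁
  have hc' := Groth.Agent.H32.DiagApps.with_imp flat_lfp_of_smooth hc
  have hopen := exists_image h𝒳 hV _ hc'
  refine ⟨_, AlgSt.subIncl 𝒳 _, corestrict h𝒳.isStack.1 hV.isStack.1
    (BasedFunctor.comp (AlgSt.ofSpMap j.hom) u), hopen.2.1, hopen.2.2,
    corestrict_with _ h𝒳.isStack.1 hV.isStack.1 _ hc,
    corestrict_surjective h𝒳 hV _ (Groth.Agent.H32.AlgStackEquiv.repByAlgSp1_of_with hc),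
    ⟨Iso.refl _⟩⟩

end Groth.Agent.S12860
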