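import Groth.Statements.S12865
import Groth.Agent.H65.ClosedRed

set_option autoImplicit false
open CategoryTheory AlgebraicGeometry
universe u
open AlgSt

namespace Groth.Agent.S12865

open FibCat Groth.Agent.H32.FibProd Groth.Agent.H65.ClosedRed Groth.Agent.H32.StPoints
  Groth.Agent.H32.Fp2 Groth.Agent.H32.Fp3 Groth.Agent.H32.AlgStackEquiv Groth.Agent.H32.SubStk

/-- Let `𝒳` be a reduced algebraic stack over `S` and `𝒳' ⊂ 𝒳` a closed substack (a predicate on objects
closed under isomorphisms whose full subcategory is an algebraic stack with closed-immersion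
inclusion) with `|𝒳'| = |𝒳|`. Then `𝒳' = 𝒳`: every object of `𝒳` lies in `𝒳'`. -/
theorem result {S : Scheme.{u}} {𝒳 : AlgSt.Cat S}
    (h𝒳 : AlgSt.IsAlgStack Scheme.fppfPrecoverage 𝒳) (hred : AlgSt.SmoothLocally (fun X => IsReduced X) 𝒳)
    (Q : 𝒳.obj → Prop) (hQ : AlgSt.IsClosedSubstack 𝒳 Q Scheme.fppfPrecoverage)
    (hpts : Set.range (AlgSt.Points.map (AlgSt.subIncl 𝒳 Q)) = Set.univ) (y : 𝒳.obj) : Q y := by
  obtain ⟨hQiso, hZ, hCI⟩ := hQ
  have hjS : AlgSt.IsSurjective (AlgSt.subIncl 𝒳 Q) := fun p => by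
    have hp : p ∈ Set.range (AlgSt.Points.map (AlgSt.subIncl 𝒳 Q)) := by
      rw [hpts]
      exact Set.mem_univ p
    exact hp
  have hE := isEquivOver_of_closedImm_surj_reduced hZ h𝒳 (AlgSt.subIncl 𝒳 Q) hCI hjS hred
  obtain ⟨G, hG, -, ⟨γ⟩⟩ := exists_inv_isEquivOver hE
  have e1 : (G.obj y).obj ≅ y := appIso γ y
  exact hQiso.of_iso e1 (G.obj y).property

end Groth.Agent.S12865
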