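import Groth.Statements.S12866
import Groth.Agent.H65.ClosedRed
import Groth.Agent.H32.AlgStackFp

set_option autoImplicit false
open CategoryTheory AlgebraicGeometry
universe u
open AlgSt

namespace Groth.Agent.S12866

open FibCat Groth.Agent.H32.FibProd Groth.Agent.H65.ClosedRed Groth.Agent.H32.StPoints
  Groth.Agent.H32.Fp2 Groth.Agent.H32.Fp3 Groth.Agent.H32.AlgStackEquiv Groth.Agent.H32.SubStk

/-- Let `𝒳`, `𝒴` be algebraic stacks over `S` with `𝒴` reduced, `𝒵 ⊂ 𝒳` a closed substack and `f : 𝒴 ⟶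
𝒳` a 1-morphism. Then `f` factors through `𝒵` (every `f(y)` is an object of the strictly full
subcategory `𝒵`) if and only if `|f|(|𝒴|) ⊂ |𝒵|`. -/
theorem result {S : Scheme.{u}} {𝒳 𝒴 : AlgSt.Cat S}
    (h𝒳 : AlgSt.IsAlgStack Scheme.fppfPrecoverage 𝒳) (h𝒴 : AlgSt.IsAlgStack Scheme.fppfPrecoverage 𝒴) (hred : AlgSt.SmoothLocally (fun X => IsReduced X) 𝒴)
    (Q : 𝒳.obj → Prop) (hQ : AlgSt.IsClosedSubstack 𝒳 Q Scheme.fppfPrecoverage) (f : 𝒴 ⥤ᵇ 𝒳) :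
    (∀ y : 𝒴.obj, Q (f.obj y)) ↔ Set.range (AlgSt.Points.map f) ⊆ Set.range (AlgSt.Points.map (AlgSt.subIncl 𝒳 Q)) := by
  obtain ⟨hQiso, hZ, hCI⟩ := hQ
  constructor
  · intro h
    rintro _ ⟨p, rfl⟩
    refine ⟨AlgSt.Points.map (subLift f h) p, ?_⟩
    rw [← map_comp]
    rfl
  · intro hsub y
    have iX := h𝒳.isStack.1
    have iY := h𝒴.isStack.1
    have iZ := hZ.isStack.1
    have hfp : AlgSt.IsAlgStack Scheme.fppfPrecoverage (fp f (AlgSt.subIncl 𝒳 Q)) :=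
      Groth.Agent.H32.AlgStackFp.isAlgStack_fp iX h𝒳.diag h𝒴 hZ f (AlgSt.subIncl 𝒳 Q)
    have hjCI : AlgSt.IsClosedImm (fpFst f (AlgSt.subIncl 𝒳 Q)) :=
      Groth.Agent.S12779.result iZ iX iY _ (AlgSt.subIncl 𝒳 Q) f hCI
    have hjS : AlgSt.IsSurjective (fpFst f (AlgSt.subIncl 𝒳 Q)) := fun p => by
      obtain ⟨q, hq⟩ := hsub ⟨p, rfl⟩
      obtain ⟨w, hw, -⟩ := Groth.Agent.S12818.result hZ h𝒳 h𝒴 (AlgSt.subIncl 𝒳 Q) f p q hq.symm
      exact ⟨w, hw⟩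
    have hE := isEquivOver_of_closedImm_surj_reduced hfp h𝒴 (fpFst f (AlgSt.subIncl 𝒳 Q))
      hjCI hjS hred
    obtain ⟨G, hG, -, ⟨γ⟩⟩ := exists_inv_isEquivOver hE
    have e1 : (G.obj y).obj.fst ≅ y := appIso γ y
    have e2 : f.obj (G.obj y).obj.fst ≅ (G.obj y).obj.snd.obj := (G.obj y).obj.iso
    exact hQiso.of_iso ((f.toFunctor.mapIso e1).symm ≪≫ e2).symm (G.obj y).obj.snd.property

end Groth.Agent.S12866
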