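import Groth.Statements.S12870
import Groth.Agent.S10547
import Groth.Agent.S12780
-- import your own Groth.Agent.* helpers here

set_option autoImplicit false
open CategoryTheory AlgebraicGeometry
universe u
open AlgSt

namespace Groth.Agent.S12870

/-- The composite of two immersions `f : 𝒳 ⟶ 𝒴`, `g : 𝒴 ⟶ 𝒵` of algebraic stacks over `S` is again one. -/
theorem result {S : Scheme.{u}} {𝒳 𝒴 𝒵 : AlgSt.Cat S}
    (h𝒳 : AlgSt.IsAlgStack Scheme.fppfPrecoverage 𝒳) (h𝒴 : AlgSt.IsAlgStack Scheme.fppfPrecoverage 𝒴) (h𝒵 : AlgSt.IsAlgStack Scheme.fppfPrecoverage 𝒵)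
    (f : 𝒳 ⥤ᵇ 𝒴) (g : 𝒴 ⥤ᵇ 𝒵) (hf : AlgSt.IsImm f) (hg : AlgSt.IsImm g) :
    AlgSt.IsImm (BasedFunctor.comp f g) := by
  have i1 := AlgSp.repWith_isStableUnderBaseChange (S := S) @IsImmersion
  have i2 := AlgSp.repWith_isMultiplicative (S := S) @IsImmersion
  refine Groth.Agent.S12780.result h𝒳.isStack.1 h𝒴.isStack.1 h𝒵.isStack.1
    (AlgSp.RepWith @IsImmersion) ?_ ?_
    (Groth.Agent.S10547.result S) f g hf hg
  · intro X₁ Y₁ X₂ Y₂ _ _ _ _ a b a' b' sq ha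
    exact MorphismProperty.of_isPullback sq ha
  · intro X Y Z _ _ _ a b ha hb
    exact (AlgSp.RepWith @IsImmersion).comp_mem a b ha hb

end Groth.Agent.S12870
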