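import Groth.Statements.S12876
import Groth.Agent.H32.FibProd
import Groth.Agent.H32.Repr
import Groth.Agent.S12774
import Groth.Agent.S5139

set_option autoImplicit false
open CategoryTheory AlgebraicGeometry
universe u
open AlgSt

namespace Groth.Agent.S12876

theorem aux1 {D : Type*} [Category D] {a b c : D} (φ : a ⟶ b) (t1 : a ⟶ c) (t2 : b ⟶ c)
    (t2' : c ⟶ b) (h : t2 ≫ t2' = 𝟙 b) (hw : t1 ≫ 𝟙 c = φ ≫ t2) : φ = t1 ≫ t2' := by
  rw [Category.comp_id] at hw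
  rw [hw, Category.assoc, h, Category.comp_id]

/-- Let `i : 𝒳 ⟶ 𝒳'` and `g : 𝒳' ⟶ 𝒴` be 1-morphisms of algebraic stacks over `S` with `i` a
monomorphism. Then the square whose top is the diagonal `𝒳 ⟶ 𝒳 ×_𝒴 𝒳` of `g ∘ i`, whose left side is
`i`, whose right side is the 1-morphism `𝒳 ×_𝒴 𝒳 ⟶ 𝒳' ×_𝒴 𝒳'` induced by `i` on both factors and
whose bottom is the diagonal of `g` (it commutes strictly, the 2-cell being the identity) is
2-cartesian: the induced 1-morphism from `𝒳` to the 2-fibre product is an equivalence over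
`(Sch/S)`. -/
theorem result {S : Scheme.{u}} {𝒳 𝒳' 𝒴 : AlgSt.Cat S}
    (h𝒳 : AlgSt.IsAlgStack Scheme.fppfPrecoverage 𝒳) (h𝒳' : AlgSt.IsAlgStack Scheme.fppfPrecoverage 𝒳') (h𝒴 : AlgSt.IsAlgStack Scheme.fppfPrecoverage 𝒴)
    (i : 𝒳 ⥤ᵇ 𝒳') (g : 𝒳' ⥤ᵇ 𝒴) (hi : AlgSt.IsMono i) :
    FibCat.IsTwoCartOver
      (F := (FibCat.fpLift (BasedFunctor.comp (FibCat.fpFst (BasedFunctor.comp i g) (BasedFunctor.comp i g)) i)
        (BasedFunctor.comp (FibCat.fpSnd (BasedFunctor.comp i g) (BasedFunctor.comp i g)) i) (FibCat.fpIso (BasedFunctor.comp i g) (BasedFunctor.comp i g))))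
      (G := FibCat.diag g) (FibCat.diag (BasedFunctor.comp i g)) i (Iso.refl _) := by
  have hX : FibCat.IsFibGrpd 𝒳.p := h𝒳.isStack.1
  have hX' : FibCat.IsFibGrpd 𝒳'.p := h𝒳'.isStack.1
  have hY : FibCat.IsFibGrpd 𝒴.p := h𝒴.isStack.1
  obtain ⟨hfull, hfaith⟩ := Groth.Agent.S12774.result hX hX' i hi
  have := hfull
  have := hfaith
  unfold FibCat.IsTwoCartOver
  rw [Groth.Agent.S5139.result]
  refine ⟨⟨⟨fun {x y} m => ?_⟩, ⟨fun {x y} a a' haa' => ?_⟩⟩, fun η => ?_⟩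
  · -- full
    have hw := m.hom.w
    have h1 := congrArg (fun t => t.hom.fst) hw
    have h2 := congrArg (fun t => t.hom.snd) hw
    have h1' : i.map m.hom.fst.hom.fst ≫ 𝟙 _ = 𝟙 _ ≫ m.hom.snd := h1
    have h2' : i.map m.hom.fst.hom.snd ≫ 𝟙 _ = 𝟙 _ ≫ m.hom.snd := h2
    rw [Category.comp_id, Category.id_comp] at h1' h2'
    refine ⟨m.hom.fst.hom.fst, ?_⟩
    refine Groth.Agent.H32.FibProd.fp_hom_ext _ _ ?_ h1'
    refine Groth.Agent.H32.FibProd.fp_hom_ext _ _ rfl ?_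
    exact i.toFunctor.map_injective (h1'.trans h2'.symm)
  · have := congrArg (fun t => t.hom.fst.hom.fst) haa'
    exact this
  · -- essentially surjective over the identity
    have hfp1 : FibCat.IsFibGrpd (FibCat.fp (BasedFunctor.comp i g) (BasedFunctor.comp i g)).p :=
      Groth.Agent.H32.Repr.fp_isFibGrpd _ _ hX hX hY
    have hfp2 : FibCat.IsFibGrpd (FibCat.fp g g).p :=
      Groth.Agent.H32.Repr.fp_isFibGrpd _ _ hX' hX' hY
    have hfp3 := Groth.Agent.H32.Repr.fp_isFibGrpd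
      (FibCat.fpLift (BasedFunctor.comp (FibCat.fpFst (BasedFunctor.comp i g) (BasedFunctor.comp i g)) i)
        (BasedFunctor.comp (FibCat.fpSnd (BasedFunctor.comp i g) (BasedFunctor.comp i g)) i)
        (FibCat.fpIso (BasedFunctor.comp i g) (BasedFunctor.comp i g)))
      (FibCat.diag g) hfp1 hX' hfp2
    let x₁ : 𝒳.obj := η.obj.fst.obj.fst
    let x₂ : 𝒳.obj := η.obj.fst.obj.snd
    let x' : 𝒳'.obj := η.obj.snd
    let θ₁ : i.obj x₁ ⟶ x' := η.obj.iso.hom.hom.fst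
    let θ₂ : i.obj x₂ ⟶ x' := η.obj.iso.hom.hom.snd
    let θ₂' : x' ⟶ i.obj x₂ := η.obj.iso.inv.hom.snd
    have hθ₂ : θ₂' ≫ θ₂ = 𝟙 x' := congrArg (fun t => t.hom.snd) η.obj.iso.inv_hom_id
    have hθ₂' : θ₂ ≫ θ₂' = 𝟙 (i.obj x₂) := congrArg (fun t => t.hom.snd) η.obj.iso.hom_inv_id
    have hθw : g.map θ₁ ≫ 𝟙 _ = η.obj.fst.obj.iso.hom ≫ g.map θ₂ := η.obj.iso.hom.hom.w
    let ψ : x₁ ⟶ x₂ := i.toFunctor.preimage (θ₁ ≫ θ₂')
    have hψ : i.map ψ = θ₁ ≫ θ₂' := i.toFunctor.map_preimage _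
    have hg2 : g.map θ₂ ≫ g.map θ₂' = 𝟙 (g.obj (i.obj x₂)) := by
      rw [← g.toFunctor.map_comp, hθ₂', g.toFunctor.map_id]
    have key : (η.obj.fst.obj.iso.hom : g.obj (i.obj x₁) ⟶ g.obj (i.obj x₂)) =
        g.map θ₁ ≫ g.map θ₂' :=
      aux1 _ _ _ _ hg2 hθw
    have c1 : (BasedFunctor.comp i g).map (𝟙 x₁) ≫ η.obj.fst.obj.iso.hom =
        ((FibCat.diag (BasedFunctor.comp i g)).obj x₁).obj.iso.hom ≫ (BasedFunctor.comp i g).map ψ := by
      change g.map (i.map (𝟙 x₁)) ≫ (η.obj.fst.obj.iso.hom : g.obj (i.obj x₁) ⟶ g.obj (i.obj x₂)) =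
        𝟙 _ ≫ g.map (i.map ψ)
      rw [hψ, i.toFunctor.map_id, g.toFunctor.map_id, g.toFunctor.map_comp]
      exact (Category.id_comp _).trans (key.trans (Category.id_comp _).symm)
    let e₁ : (FibCat.diag (BasedFunctor.comp i g)).obj x₁ ⟶ η.obj.fst :=
      Groth.Agent.H32.FibProd.mkHom (BasedFunctor.comp i g) (BasedFunctor.comp i g) (𝟙 x₁) ψ c1
    have c2 : (FibCat.fpLift (BasedFunctor.comp (FibCat.fpFst (BasedFunctor.comp i g) (BasedFunctor.comp i g)) i)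
        (BasedFunctor.comp (FibCat.fpSnd (BasedFunctor.comp i g) (BasedFunctor.comp i g)) i)
        (FibCat.fpIso (BasedFunctor.comp i g) (BasedFunctor.comp i g))).map e₁ ≫ η.obj.iso.hom =
        ((FibCat.fpLift (FibCat.diag (BasedFunctor.comp i g)) i (Iso.refl _)).obj x₁).obj.iso.hom ≫
          (FibCat.diag g).map θ₁ := by
      refine Groth.Agent.H32.FibProd.fp_hom_ext _ _ ?_ ?_
      · change i.map (𝟙 x₁) ≫ θ₁ = 𝟙 _ ≫ θ₁
        rw [i.toFunctor.map_id]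
      · change i.map ψ ≫ θ₂ = 𝟙 _ ≫ θ₁
        rw [hψ, Category.assoc, hθ₂, Category.comp_id, Category.id_comp]
    let e : (FibCat.fpLift (FibCat.diag (BasedFunctor.comp i g)) i (Iso.refl _)).obj x₁ ⟶ η :=
      Groth.Agent.H32.FibProd.mkHom _ _ e₁ θ₁ c2
    have he : (FibCat.fp (FibCat.fpLift (BasedFunctor.comp (FibCat.fpFst (BasedFunctor.comp i g) (BasedFunctor.comp i g)) i)
        (BasedFunctor.comp (FibCat.fpSnd (BasedFunctor.comp i g) (BasedFunctor.comp i g)) i)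
        (FibCat.fpIso (BasedFunctor.comp i g) (BasedFunctor.comp i g))) (FibCat.diag g)).p.IsHomLift
        (𝟙 ((FibCat.fp (FibCat.fpLift (BasedFunctor.comp (FibCat.fpFst (BasedFunctor.comp i g) (BasedFunctor.comp i g)) i)
        (BasedFunctor.comp (FibCat.fpSnd (BasedFunctor.comp i g) (BasedFunctor.comp i g)) i)
        (FibCat.fpIso (BasedFunctor.comp i g) (BasedFunctor.comp i g))) (FibCat.diag g)).p.obj η)) e :=
      (Groth.Agent.H32.FibProd.fp_isHomLift_iff _ _ _ _).mpr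
        ((Groth.Agent.H32.FibProd.fp_isHomLift_iff _ _ _ _).mpr (IsHomLift.id rfl))
    have : IsIso e :=
      @Groth.Agent.H32.FibProd.isIso_of_isFibGrpd _ _ _ _ _ hfp3 _ _ _ _ (𝟙 _) (IsIso.id _) e he
    exact ⟨x₁, asIso e, he⟩

end Groth.Agent.S12876
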