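import Groth.Statements.S12878
import Groth.Agent.H32.ImmImage

set_option autoImplicit false
open CategoryTheory AlgebraicGeometry
universe u
open AlgSt

namespace Groth.Agent.S12878

/-- Let `i : 𝒵 ⟶ 𝒳` be an immersion of algebraic stacks over `S`. Then there is a unique locally closed
substack `𝒳' ⊂ 𝒳` (a predicate on objects closed under isomorphisms, with algebraic full subcategory
and immersion inclusion) such that `i` is 2-isomorphic to an equivalence `𝒵 ⟶ 𝒳'` over `(Sch/S)`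
followed by the inclusion `𝒳' ⟶ 𝒳`; moreover `𝒳'` is closed (resp. open) as a substack whenever `i`
is a closed (resp. open) immersion. -/
theorem result {S : Scheme.{u}} {𝒵 𝒳 : AlgSt.Cat S}
    (h𝒵 : AlgSt.IsAlgStack Scheme.fppfPrecoverage 𝒵) (h𝒳 : AlgSt.IsAlgStack Scheme.fppfPrecoverage 𝒳) (i : 𝒵 ⥤ᵇ 𝒳) (hi : AlgSt.IsImm i) :
    ∃ Q : 𝒳.obj → Prop,
      (AlgSt.IsLocClosedSubstack 𝒳 Q Scheme.fppfPrecoverage ∧
        (∃ i' : 𝒵 ⥤ᵇ AlgSt.fullSub 𝒳 Q, FibCat.IsEquivOver i' ∧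
          Nonempty (BasedFunctor.comp i' (AlgSt.subIncl 𝒳 Q) ≅ i)) ∧
        (AlgSt.IsClosedImm i → AlgSt.IsClosedSubstack 𝒳 Q Scheme.fppfPrecoverage) ∧
        (AlgSt.IsOpenImm i → AlgSt.IsOpenSubstack 𝒳 Q Scheme.fppfPrecoverage)) ∧
      ∀ Q' : 𝒳.obj → Prop, AlgSt.IsLocClosedSubstack 𝒳 Q' Scheme.fppfPrecoverage →
        (∃ i' : 𝒵 ⥤ᵇ AlgSt.fullSub 𝒳 Q', FibCat.IsEquivOver i' ∧
          Nonempty (BasedFunctor.comp i' (AlgSt.subIncl 𝒳 Q') ≅ i)) → Q' = Q := by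
  open Groth.Agent.H32.ImmImage Groth.Agent.H32.SubStk Groth.Agent.H32.OpenSub3
    Groth.Agent.H32.AlgStackEquiv in
  have iZ := h𝒵.isStack.1
  have iX := h𝒳.isStack.1
  obtain ⟨hfull, hfaith⟩ := Groth.Agent.S12774.result iZ iX i (Groth.Agent.S12868.result i hi)
  have hpb := essIm_pbClosed iZ iX i
  have heq := toEssIm_isEquivOver iZ iX i hfull hfaith
  have halg : AlgSt.IsAlgStack Scheme.fppfPrecoverage (AlgSt.fullSub 𝒳 (EssIm i)) :=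
    isAlgStack_of_equiv (toEssIm i) heq h𝒵
  refine ⟨EssIm i, ⟨⟨essIm_isoClosed i, halg, subIncl_with _ iZ iX i hfull hfaith hi⟩,
    ⟨toEssIm i, heq, ⟨Iso.refl _⟩⟩,
    fun hc => ⟨essIm_isoClosed i, halg, subIncl_with _ iZ iX i hfull hfaith hc⟩,
    fun ho => ⟨essIm_isoClosed i, halg, subIncl_with _ iZ iX i hfull hfaith ho⟩⟩, ?_⟩
  rintro Q' ⟨hiso', -, -⟩ ⟨i', hi', ⟨ε⟩⟩
  funext x
  apply propext
  constructor
  · intro hx
    rw [Groth.Agent.S5139.result] at hi'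
    obtain ⟨ξ, e, -⟩ := hi'.2 ⟨x, hx⟩
    exact ⟨ξ, ⟨(Groth.Agent.H32.Fp3.appIso ε ξ).symm ≪≫
      (ObjectProperty.ι Q').mapIso e⟩⟩
  · rintro ⟨z, ⟨e⟩⟩
    exact hiso'.of_iso ((Groth.Agent.H32.Fp3.appIso ε z) ≪≫ e) (i'.obj z).property

end Groth.Agent.S12878
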