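import Groth.Statements.S13588
import Groth.Agent.H92.QuotOnExact
import Groth.Agent.H5.SpSeq.ExtForm

set_option autoImplicit false
universe u
open CategoryTheory CategoryTheory.Limits
open ExtSupp

namespace Groth.Agent.S13588

open CategoryTheory.Limits Abelian Groth.Agent.H5.GSS Groth.Agent.H92.QuotSect in
/-- `Hom(M, Γ_Z -) ≅ Hom(M/M_U, -)` -/
noncomputable def eIso {C : Type u} [SmallCategory C] {J : GrothendieckTopology C}
    (O : Sheaf J CommRingCat.{u}) (U : C) [ModSite.HasPushOver O U] (M : ModSite.Mod O) :
    ModSite.sectOn O U ⋙ homF M ≅ homF ((ModSite.quotOn O U).obj M) :=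
  have : (ModSite.quotOn O U).Additive := (adj O U).left_adjoint_additive
  NatIso.ofComponents (fun N => ((adj O U).homAddEquiv M N).symm.toAddCommGrpIso)
    (fun {N N'} g => by
      apply AddCommGrpCat.ext
      intro ψ
      exact (adj O U).homEquiv_naturality_right_symm ψ g)


/-- On a ringed site, for an object `U` with closed complement `Z` and sheaves of modules `M`, `N`,
there is a bounded `E_2` spectral sequence of abelian groups with `E_2^{p,q}` isomorphic to
`Ext^p_O(M, ℋ^q_Z(N))` for `p, q ≥ 0` and zero otherwise, together with abutment data whose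
filtrations are finite on `Ext^n_Z(M, N)` (`n ≥ 0`; zero for `n < 0`). The `E_2` identifications and
the abutment isomorphisms are asserted to exist only and are not pinned to the canonical maps, so
edge maps are not part of this statement; the internal hom out of `M`, the right adjoint of
restriction to `U` and injective resolutions of sheaves of modules are assumed to exist. (The
published statement, on a ringed topos and likewise on a ringed space, is functorial in `M`, `N` and
in an object `X` of the topos; this row is the case of the final object.) -/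
theorem result {C : Type u} [SmallCategory C]
    {J : GrothendieckTopology C} {O : Sheaf J CommRingCat.{u}} [HasExt.{u} (ModSite.Mod O)]
    (U : C) [ModSite.HasPushOver O U] (M N : ModSite.Mod O) [ModSite.HasSheafHom M]
    [HasInjectiveResolutions (ModSite.Mod O)] :
    ∃ (E : E₂CohomologicalSpectralSequence AddCommGrpCat.{u})
      (a : SpSeq.Abutment E (fun n : ℤ =>
        if 0 ≤ n then AddCommGrpCat.of (ExtSupp.ExtZ U M N n.toNat) else AddCommGrpCat.of PUnit.{u + 1})),
      (∀ n, a.IsFinite n) ∧ SpSeq.IsBounded E ∧
      ∀ p q : ℤ, Nonempty ((E.page 2 le_rfl).X (p, q) ≅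
        (if 0 ≤ p ∧ 0 ≤ q then AddCommGrpCat.of (Abelian.Ext.{u} M ((ModSite.HZsh O U q.toNat).obj N) p.toNat)
         else AddCommGrpCat.of PUnit.{u + 1})) := by
  refine Groth.Agent.H5.GSS.extForm (ModSite.sectOn O U) ((ModSite.quotOn O U).obj M) M
    (eIso O U M) ?_ N _ _ ?_ ?_ ?_ ?_
  · intro Q hQ q hq x
    have := Groth.Agent.H92.QuotSect.injective_sectOn O U Q
    obtain ⟨q', rfl⟩ : ∃ q', q = q' + 1 := ⟨q - 1, by omega⟩
    exact Abelian.Ext.eq_zero_of_injective x
  · intro n
    simp only [Int.natCast_nonneg, if_true, Int.toNat_natCast]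
    exact ⟨Iso.refl _⟩
  · intro n hn
    rw [if_neg (by omega)]
    exact AddCommGrpCat.isZero_of_subsingleton _
  · intro p q
    simp only [Int.natCast_nonneg, and_self, if_true, Int.toNat_natCast]
    exact ⟨Iso.refl _⟩
  · intro p q hpq
    rw [if_neg (by omega)]
    exact AddCommGrpCat.isZero_of_subsingleton _

end Groth.Agent.S13588
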