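import Groth.Statements.S12889
import Groth.Agent.H92.HZComp
import Groth.Agent.S13588
import Groth.Agent.S0491

set_option autoImplicit false
universe u
open CategoryTheory CategoryTheory.Limits
open ModSite

namespace Groth.Agent.S12889

/-- On a small ringed site (C, J, O) with O commutative, let U be an object with Z the closed complement
of the open it generates, and M an O-module. There is an E₂ spectral sequence of abelian groups with
E₂^{p,q} ≅ H^p(C, ℋ^q_Z(M)) for p, q ≥ 0 (and 0 otherwise), bounded, abutting with finite
filtrations to H^n_Z(M) (n ≥ 0; 0 for n < 0); here ℋ^q_Z are the right derived functors of sections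
with support on O-modules, H^p(C, -) is the cohomology of the site with values in the underlying
abelian sheaf, and H^n_Z(M) are the Ext groups out of ℤ/ℤ_U into the underlying abelian sheaf.
(Existence only: the E₂ identifications and the abutment are some isomorphisms. The direct image
along the localisation at U and injective resolutions of O-modules are the stated instance
hypotheses, both true.) -/
theorem result {C : Type u} [SmallCategory C] {J : GrothendieckTopology C}
    (O : Sheaf J CommRingCat.{u}) (U : C) (M : ModSite.Mod O)
    [ModSite.HasPushOver O U] [HasInjectiveResolutions (ModSite.Mod O)] :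
    ∃ (E : E₂CohomologicalSpectralSequence AddCommGrpCat.{u})
      (a : SpSeq.Abutment E (fun n : ℤ =>
        if 0 ≤ n then AddCommGrpCat.of (ModSite.HZ U M n.toNat) else AddCommGrpCat.of PUnit.{u + 1})),
      (∀ n : ℤ, a.IsFinite n) ∧ SpSeq.IsBounded E ∧
      ∀ p q : ℤ, Nonempty ((E.page 2 le_rfl).X (p, q) ≅
        (if 0 ≤ p ∧ 0 ≤ q then AddCommGrpCat.of (ModSite.HC O ((ModSite.HZsh O U q.toNat).obj M) p.toNat)
          else AddCommGrpCat.of PUnit.{u + 1})) := by
  have hEI : EnoughInjectives (ModSite.Mod O) := Groth.Agent.S0485.result J (ModSite.ringSh O)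
  have hExt : HasExt.{u} (ModSite.Mod O) := hasExt_of_enoughInjectives _
  refine Groth.Agent.H5.GSS.extForm (ModSite.sectOn O U)
    ((ModSite.quotOn O U).obj (ModSite.unit O)) (ModSite.unit O)
    (Groth.Agent.S13588.eIso O U (ModSite.unit O)) ?_ M _ _ ?_ ?_ ?_ ?_
  · intro Q hQ q hq x
    have := Groth.Agent.H92.QuotSect.injective_sectOn O U Q
    obtain ⟨q', rfl⟩ : ∃ q', q = q' + 1 := ⟨q - 1, by omega⟩
    exact Abelian.Ext.eq_zero_of_injective x
  · intro n
    simp only [Int.natCast_nonneg, if_true, Int.toNat_natCast]
    obtain ⟨i⟩ := Groth.Agent.H92.HZComp.hz_iso O U M n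
    exact ⟨i.symm⟩
  · intro n hn
    rw [if_neg (by omega)]
    exact AddCommGrpCat.isZero_of_subsingleton _
  · intro p q
    simp only [Int.natCast_nonneg, and_self, if_true, Int.toNat_natCast]
    obtain ⟨e⟩ := Groth.Agent.S0491.result J (ModSite.ringSh O) ((ModSite.HZsh O U q).obj M) p
    exact ⟨e.toAddCommGrpIso.symm⟩
  · intro p q hpq
    rw [if_neg (by omega)]
    exact AddCommGrpCat.isZero_of_subsingleton _

end Groth.Agent.S12889
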