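import Groth.Statements.S12890
import Groth.Agent.H92.SubPush
import Groth.Agent.H92.RestrExact
import Groth.Agent.H45.RDerivedLES
import Groth.Agent.H45.RDerivedExactFunctor
import Groth.Agent.H45.ExtAdjAcy
import Groth.Agent.S0485

set_option autoImplicit false
universe u
open CategoryTheory CategoryTheory.Limits
open ModSite

namespace Groth.Agent.S12890

/-- On a small ringed site (C, J, O) with O commutative, let U be a subterminal object (every object has
at most one morphism to U), Z its closed complement and j_{U*} the direct image of modules along the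
localisation C/U → C. Then ℋ^1_Z is isomorphic to the cokernel of the unit M → j_{U*}(M|_U) (so that
0 → ℋ^0_Z(M) → M → j_{U*}(M|_U) → ℋ^1_Z(M) → 0 is exact), and for every q ≥ 1 the functor ℋ^{q+1}_Z
is isomorphic to M ↦ R^q j_{U*}(M|_U). (Existence of isomorphisms of functors only. The direct image
j_{U*} with its additivity and injective resolutions of modules on C and on C/U are the stated
instance hypotheses, all true.) -/
theorem result {C : Type u} [SmallCategory C] {J : GrothendieckTopology C}
    (O : Sheaf J CommRingCat.{u}) (U : C)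
    (hU : ∀ V : C, Subsingleton (V ⟶ U)) [ModSite.HasPushOver O U] [(ModSite.pushOver O U).Additive]
    [HasInjectiveResolutions (ModSite.Mod O)] [HasInjectiveResolutions (ModSite.Mod (O.over U))] :
    Nonempty (ModSite.HZsh O U 1 ≅ cokernel (ModSite.restrPushOverAdj O U).unit) ∧
      ∀ q : ℕ, 1 ≤ q →
        Nonempty (ModSite.HZsh O U (q + 1) ≅ ModSite.restr O U ⋙ (ModSite.pushOver O U).rightDerived q) := by
  classical
  have : EnoughInjectives (ModSite.Mod O) := Groth.Agent.S0485.result J (ModSite.ringSh O)
  have : EnoughInjectives (ModSite.Mod (O.over U)) :=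
    Groth.Agent.S0485.result (J.over U) (ModSite.ringSh (O.over U))
  have : PreservesLimitsOfSize.{u, u} (ModSite.pushOver O U) :=
    (ModSite.restrPushOverAdj O U).rightAdjoint_preservesLimits
  have : PreservesFiniteLimits (ModSite.pushOver O U) := ⟨fun _ _ _ => inferInstance⟩
  have : PreservesFiniteLimits (ModSite.restr O U ⋙ ModSite.pushOver O U) := inferInstance
  have w : ModSite.sectOnι O U ≫ (ModSite.restrPushOverAdj O U).unit = 0 := by
    ext F : 2
    exact kernel.condition _
  have h : Groth.Agent.H45.RDerivedLES.ExactOnInjectives (ModSite.sectOnι O U)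
      (ModSite.restrPushOverAdj O U).unit w := by
    intro I hI
    have := hI
    exact
      { exact := ShortComplex.exact_of_f_is_kernel _ (kernelIsKernel _)
        mono_f := by dsimp [ModSite.sectOnι]; exact equalizer.ι_mono
        epi_g := Groth.Agent.H92.SubPush.epi_η_of_injective O U hU I }
  have isZero_id : ∀ (n : ℕ) (hn : 0 < n) (F : ModSite.Mod O),
      IsZero (((𝟭 (ModSite.Mod O)).rightDerived n).obj F) := fun n hn F =>
    Groth.Agent.H45.ExtAdj.isZero_rightDerived_of_exact (𝟭 (ModSite.Mod O)) F n hn
  refine ⟨⟨?_⟩, fun i hi => ⟨?_⟩⟩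
  · exact (Groth.Agent.H45.RDerivedLES.cokernelIso h (fun F => isZero_id 1 Nat.one_pos F)).symm
  · haveI := Groth.Agent.H45.RDerivedLES.isIso_δ h i (fun F => isZero_id i (by omega) F)
      (fun F => isZero_id (i + 1) (by omega) F)
    exact (asIso (Groth.Agent.H45.RDerivedLES.δ h i)).symm ≪≫
      Groth.Agent.H45.RDerivedExact.rightDerivedCompIso (ModSite.restr O U) (ModSite.pushOver O U)
        (fun J hJ => by have := hJ; exact Groth.Agent.H92.RestrExact.injective_restr O U J) i

end Groth.Agent.S12890
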