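import Groth.Statements.S12891
import Groth.Agent.H92.SuppSect

set_option autoImplicit false
universe u
open CategoryTheory CategoryTheory.Limits
open ModSite

namespace Groth.Agent.S12891

/-- On a small ringed site (C, J, O) with O commutative, let U be an object with Z the closed complement
of the open it generates, and M an O-module whose underlying abelian sheaf is flasque (totally
acyclic: its cohomology with respect to every sheaf of sets vanishes in positive degrees). Then for
every q ≥ 1 the local cohomology sheaf ℋ^q_Z(M) (right derived functor of sections with support on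
O-modules) is zero and the group H^q_Z(M) is trivial. (The direct image along the localisation at U
and injective resolutions of O-modules are the stated instance hypotheses, both true.) -/
theorem result {C : Type u} [SmallCategory C] {J : GrothendieckTopology C}
    (O : Sheaf J CommRingCat.{u}) (U : C) (M : ModSite.Mod O)
    (hM : CohCx.IsTotallyAcyclic (ModSite.toAb M))
    [ModSite.HasPushOver O U] [HasInjectiveResolutions (ModSite.Mod O)] (q : ℕ) (hq : 1 ≤ q) :
    IsZero ((ModSite.HZsh O U q).obj M) ∧ Subsingleton (ModSite.HZ U M q) := by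
  obtain ⟨q', rfl⟩ : ∃ q', q = q' + 1 := ⟨q - 1, by omega⟩
  refine ⟨Groth.Agent.H92.SuppSect.isZero_HZsh O U q' M hM, ?_⟩
  constructor
  intro a b
  have key : ∀ e : Abelian.Ext (ToposFin.quotZ (ToposFin.eps J U)) (ModSite.toAb M) (q' + 1),
      e = 0 := by
    intro e
    have h0 : (Abelian.Ext.mk₀ (Groth.Agent.H92.HZComp.quotZIso (J := J) U).inv).comp e
        (zero_add _) = 0 :=
      Groth.Agent.H92.HZAcyc.ext_cokernel_eq_zero' _ hM (Groth.Agent.H92.HZComp.t₀ (J := J) U)
        (fun y => Groth.Agent.H67.TotAcyc.extend_of_mono J _ hM
          (Sheaf.imageι (Groth.Agent.H92.HZComp.t₀ (J := J) U)) y) q' _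
    have h1 : e = (Abelian.Ext.mk₀ (Groth.Agent.H92.HZComp.quotZIso (J := J) U).hom).comp
        ((Abelian.Ext.mk₀ (Groth.Agent.H92.HZComp.quotZIso (J := J) U).inv).comp e
          (zero_add _)) (zero_add _) := by
      rw [Abelian.Ext.mk₀_comp_mk₀_assoc, Iso.hom_inv_id, Abelian.Ext.mk₀_id_comp]
    rw [h1, h0, Abelian.Ext.comp_zero]
  exact (key a).trans (key b).symm

end Groth.Agent.S12891
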