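import Groth.Statements.S12892
import Groth.Agent.H92.SuppSect2
import Groth.Agent.H92.CompAcyNat
import Groth.Agent.H92.NatDer

set_option autoImplicit false
universe u
open CategoryTheory CategoryTheory.Limits
open ModSite

namespace Groth.Agent.S12892

/-- On a small site (C, J), let φ : O → O' be a morphism of commutative structure sheaves, U an object
with Z the closed complement of the open it generates, and q ≥ 0. The local cohomology sheaf
functors ℋ^q_Z (right derived functors of sections with support) commute with restriction of scalars
along φ: the composite of ℋ^q_Z on O'-modules with restriction of scalars is isomorphic to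
restriction of scalars followed by ℋ^q_Z on O-modules. (Existence of an isomorphism of functors
only. The direct images along the localisation at U and injective resolutions of O- and O'-modules
are the stated instance hypotheses, all true.) -/
theorem result {C : Type u} [SmallCategory C] {J : GrothendieckTopology C}
    {O O' : Sheaf J CommRingCat.{u}} (φ : O ⟶ O') (U : C)
    [ModSite.HasPushOver O U] [ModSite.HasPushOver O' U]
    [HasInjectiveResolutions (ModSite.Mod O)] [HasInjectiveResolutions (ModSite.Mod O')] (q : ℕ) :
    Nonempty (ModSite.HZsh O' U q ⋙
        SheafOfModules.restrictScalars ((sheafCompose J (forget₂ CommRingCat.{u} RingCat.{u})).map φ) ≅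
      SheafOfModules.restrictScalars ((sheafCompose J (forget₂ CommRingCat.{u} RingCat.{u})).map φ) ⋙
        ModSite.HZsh O U q) := by
  have hacy : ∀ I : ModSite.Mod O', Injective I → ∀ n : ℕ,
      IsZero (((ModSite.sectOn O U).rightDerived (n + 1)).obj
        ((Groth.Agent.H92.SuppSect.rs φ).obj I)) := by
    intro I hI n
    exact Groth.Agent.H92.SuppSect.isZero_HZsh O U n _
      (Groth.Agent.H30.ModCech.isTotallyAcyclic_of_injective (ModSite.ringSh O') I)
  obtain ⟨a⟩ := Groth.Agent.H92.CompAcyNat.nonempty_comp_rightDerived_iso
    (Groth.Agent.H92.SuppSect.rs φ) (ModSite.sectOn O U) hacy q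
  exact ⟨Groth.Agent.H92.NatDer.postIso (ModSite.sectOn O' U) (Groth.Agent.H92.SuppSect.rs φ) q ≪≫
    Groth.Agent.H92.NatDer.rightDerivedMapIso
      (Groth.Agent.H92.SuppSect.sectOnRestrictScalarsIso φ U) q ≪≫ a⟩

end Groth.Agent.S12892
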