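import Groth.Statements.S12893
import Groth.Agent.H92.ExtSuppLib
import Groth.Agent.H92.SheafHomLES
-- import your own Groth.Agent.* helpers here

set_option autoImplicit false
universe u
open CategoryTheory CategoryTheory.Limits
open ModSite

namespace Groth.Agent.S12893

section Abstract

variable {𝒜 ℬ : Type*} [Category 𝒜] [Category ℬ]

theorem nonempty_iso_of_same_image {G S K : 𝒜 ⥤ ℬ} (σ : S ⟶ G) (α : K ⟶ G)
    (hσ : ∀ N, Mono (σ.app N)) (hα : ∀ N, Mono (α.app N))
    (h : ∀ (N : 𝒜) {P : ℬ} (ψ : P ⟶ G.obj N),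
      (∃ l, l ≫ σ.app N = ψ) ↔ (∃ l, l ≫ α.app N = ψ)) :
    Nonempty (S ≅ K) := by
  have ha : ∀ N, ∃ a : S.obj N ⟶ K.obj N, a ≫ α.app N = σ.app N :=
    fun N => (h N (σ.app N)).1 ⟨𝟙 _, Category.id_comp _⟩
  have hb : ∀ N, ∃ b : K.obj N ⟶ S.obj N, b ≫ σ.app N = α.app N :=
    fun N => (h N (α.app N)).2 ⟨𝟙 _, Category.id_comp _⟩
  choose a ha using ha
  choose b hb using hb
  refine ⟨NatIso.ofComponents (fun N => ⟨a N, b N, ?_, ?_⟩) ?_⟩
  · have := hσ N
    rw [← cancel_mono (σ.app N), Category.assoc, hb, ha, Category.id_comp]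
  · have := hα N
    rw [← cancel_mono (α.app N), Category.assoc, ha, hb, Category.id_comp]
  · intro N N' g
    have := hα N'
    show S.map g ≫ a N' = a N ≫ K.map g
    rw [← cancel_mono (α.app N')]
    calc (S.map g ≫ a N') ≫ α.app N' = S.map g ≫ σ.app N' := by rw [Category.assoc, ha]
      _ = σ.app N ≫ G.map g := σ.naturality g
      _ = (a N ≫ α.app N) ≫ G.map g := by rw [ha]
      _ = a N ≫ K.map g ≫ α.app N' := by rw [Category.assoc, α.naturality]
      _ = (a N ≫ K.map g) ≫ α.app N' := (Category.assoc _ _ _).symm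

end Abstract

section Concrete

open Groth.Agent.H92.QuotSect Groth.Agent.H92.QuotTensor Groth.Agent.H92.ExtSuppLib
  Groth.Agent.H92.SheafHomLES Groth.Agent.H31

variable {C : Type u} [SmallCategory C] {J : GrothendieckTopology C} (O : Sheaf J CommRingCat.{u})
  (U : C)

theorem tensorLeft_ε_comp_eq_zero_iff (P M N : ModSite.Mod O)
    (χ : ((ModSite.tensorBi O).obj P).obj M ⟶ N) :
    ((ModSite.tensorBi O).obj P).map (ε O U M) ≫ χ = 0 ↔
      ε O U (((ModSite.tensorBi O).obj P).obj M) ≫ χ = 0 := by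
  let β := braidIso P
  have hnat : ((ModSite.tensorBi O).obj P).map (ε O U M) ≫ β.hom.app M =
      β.hom.app _ ≫ (TM O P).map (ε O U M) := β.hom.naturality _
  have hε : ε O U ((TM O P).obj M) ≫ β.inv.app M =
      (ModSite.restr O U ⋙ ModSite.extZero O U).map (β.inv.app M) ≫
        ε O U (((ModSite.tensorBi O).obj P).obj M) :=
    ((ModSite.extZeroAdj O U).counit.naturality (β.inv.app M)).symm
  have key := tensor_ε_comp_eq_zero_iff O U M P N (β.inv.app M ≫ χ)
  constructor
  · intro h
    have h1 : (TM O P).map (ε O U M) ≫ β.inv.app M ≫ χ = 0 := by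
      rw [← cancel_epi (β.hom.app _), ← Category.assoc, ← hnat, Category.assoc,
        Iso.hom_inv_id_app_assoc, h, comp_zero]
    have h2 := key.1 h1
    rw [← Category.assoc, hε, Category.assoc] at h2
    rw [← cancel_epi ((ModSite.restr O U ⋙ ModSite.extZero O U).map (β.inv.app M)), comp_zero]
    exact h2
  · intro h
    have h2 : ε O U ((TM O P).obj M) ≫ β.inv.app M ≫ χ = 0 := by
      rw [← Category.assoc, hε, Category.assoc, h, comp_zero]
    have h1 := key.2 h2
    have h3 : ((ModSite.tensorBi O).obj P).map (ε O U M) =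
        β.hom.app _ ≫ (TM O P).map (ε O U M) ≫ β.inv.app M := by
      rw [← Category.assoc, ← hnat, Category.assoc, Iso.hom_inv_id_app, Category.comp_id]
    rw [h3, Category.assoc, Category.assoc, h1, comp_zero]

variable (M : ModSite.Mod O) [ModSite.HasSheafHom M]

theorem lemmaD [ModSite.HasSheafHom ((ModSite.quotOn O U).obj M)] {P N : ModSite.Mod O}
    (ψ : P ⟶ (ModSite.sheafHom M).obj N) :
    (∃ l : P ⟶ (ModSite.sheafHom ((ModSite.quotOn O U).obj M)).obj N,
        l ≫ (ExtSupp.sheafHomMap (π O U M)).app N = ψ) ↔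
      ε O U ((TM O M).obj P) ≫ ((ModSite.sheafHomAdj M).homEquiv P N).symm ψ = 0 := by
  constructor
  · rintro ⟨l, rfl⟩
    rw [sheafHomMap_adj]
    refine (tensorLeft_ε_comp_eq_zero_iff O U P M N _).1 ?_
    rw [← Category.assoc, ← Functor.map_comp, ε_π, Functor.map_zero, zero_comp]
  · intro h
    have h1 : ((ModSite.tensorBi O).obj P).map (ε O U M) ≫
        ((ModSite.sheafHomAdj M).homEquiv P N).symm ψ = 0 :=
      (tensorLeft_ε_comp_eq_zero_iff O U P M N _).2 h
    have hS : (ShortComplex.mk (ε O U M) (π O U M) (ε_π O U M)).Exact :=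
      ShortComplex.exact_cokernel _
    have hepi : Epi (((ModSite.tensorBi O).obj P).map (π O U M)) := inferInstance
    have hex := hS.map_of_epi_of_preservesCokernel ((ModSite.tensorBi O).obj P)
      (inferInstance : Epi (π O U M)) inferInstance
    have : Epi ((ShortComplex.mk (ε O U M) (π O U M) (ε_π O U M)).map
      ((ModSite.tensorBi O).obj P)).g := hepi
    let l' : ((ModSite.tensorBi O).flip.obj ((ModSite.quotOn O U).obj M)).obj P ⟶ N :=
      hex.desc (((ModSite.sheafHomAdj M).homEquiv P N).symm ψ) h1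
    have hl' : ((ModSite.tensorBi O).obj P).map (π O U M) ≫ l' =
        ((ModSite.sheafHomAdj M).homEquiv P N).symm ψ := hex.g_desc _ _
    refine ⟨(ModSite.sheafHomAdj ((ModSite.quotOn O U).obj M)).homEquiv _ _ l', ?_⟩
    apply ((ModSite.sheafHomAdj M).homEquiv _ _).symm.injective
    rw [sheafHomMap_adj, Equiv.symm_apply_apply, hl']

theorem mono_sheafHomMap_π [ModSite.HasSheafHom ((ModSite.quotOn O U).obj M)] (N : ModSite.Mod O) :
    Mono ((ExtSupp.sheafHomMap (π O U M)).app N) := by
  constructor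
  intro P a b hab
  apply ((ModSite.sheafHomAdj ((ModSite.quotOn O U).obj M)).homEquiv _ _).symm.injective
  have : Epi (((ModSite.tensorBi O).obj P).map (π O U M)) := inferInstance
  rw [← cancel_epi (((ModSite.tensorBi O).obj P).map (π O U M)), ← sheafHomMap_adj,
    ← sheafHomMap_adj, hab]

variable [ModSite.HasPushOver O U]

theorem lemmaA {P N : ModSite.Mod O} (ψ : P ⟶ (ModSite.sheafHom M).obj N) :
    (∃ l : P ⟶ (ModSite.sectOn O U).obj ((ModSite.sheafHom M).obj N),
        l ≫ ι O U ((ModSite.sheafHom M).obj N) = ψ) ↔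
      ε O U ((TM O M).obj P) ≫ ((ModSite.sheafHomAdj M).homEquiv P N).symm ψ = 0 := by
  rw [← ε_comp_eq_zero_iff_adj O U M N ψ, ← comp_η_eq_zero_iff' O U ψ]
  constructor
  · rintro ⟨l, rfl⟩
    rw [Category.assoc, ι_η, comp_zero]
  · intro h
    exact ⟨kernel.lift _ ψ h, kernel.lift_ι _ _ _⟩

theorem lemmaB {P N : ModSite.Mod O} (ψ : P ⟶ (ModSite.sheafHom M).obj N) :
    (∃ l : P ⟶ (ModSite.sheafHom M).obj ((ModSite.sectOn O U).obj N),
        l ≫ (ModSite.sheafHom M).map (ι O U N) = ψ) ↔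
      ε O U ((TM O M).obj P) ≫ ((ModSite.sheafHomAdj M).homEquiv P N).symm ψ = 0 := by
  rw [← comp_η_eq_zero_iff' O U (((ModSite.sheafHomAdj M).homEquiv P N).symm ψ)]
  constructor
  · rintro ⟨l, rfl⟩
    rw [Adjunction.homEquiv_naturality_right_symm, Category.assoc, ι_η, comp_zero]
  · intro h
    let l₀ : ((ModSite.tensorBi O).flip.obj M).obj P ⟶ (ModSite.sectOn O U).obj N :=
      kernel.lift _ _ h
    have hl : l₀ ≫ ι O U N = ((ModSite.sheafHomAdj M).homEquiv P N).symm ψ :=
      kernel.lift_ι _ _ _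
    refine ⟨(ModSite.sheafHomAdj M).homEquiv P _ l₀, ?_⟩
    rw [← Adjunction.homEquiv_naturality_right, hl, Equiv.apply_symm_apply]

/-- `Γ_Z ℋom(M, -) ⟶ ℋom(M, -)` -/
noncomputable def σ : ModSite.sheafHom M ⋙ ModSite.sectOn O U ⟶ ModSite.sheafHom M where
  app N := ι O U ((ModSite.sheafHom M).obj N)
  naturality _ _ g := ι_natural O U ((ModSite.sheafHom M).map g)

/-- `ℋom(M, Γ_Z -) ⟶ ℋom(M, -)` -/
noncomputable def α₁ : ModSite.sectOn O U ⋙ ModSite.sheafHom M ⟶ ModSite.sheafHom M where
  app N := (ModSite.sheafHom M).map (ι O U N)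
  naturality N N' g := by
    show (ModSite.sheafHom M).map ((ModSite.sectOn O U).map g) ≫
      (ModSite.sheafHom M).map (ι O U N') =
      (ModSite.sheafHom M).map (ι O U N) ≫ (ModSite.sheafHom M).map g
    rw [← Functor.map_comp, ← Functor.map_comp, ι_natural]

end Concrete


/-- On a small ringed site (C, J, O) with O commutative, let U be an object with Z the closed complement
of the open it generates, M an O-module, Γ_Z the sections-with-support functor (kernel of N →
j_{U*}(N|_U)) and M_Z the cokernel of j_{U!}(M|_U) → M. Then the functors N ↦ Γ_Z(ℋom_O(M, N)), N ↦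
ℋom_O(M, Γ_Z(N)) and N ↦ ℋom_O(M_Z, N) are isomorphic. (Existence of isomorphisms of functors only.
The direct image along the localisation at U and the internal Hom functors of M and of M_Z are the
stated instance hypotheses, all true.) -/
theorem result {C : Type u} [SmallCategory C] {J : GrothendieckTopology C}
    (O : Sheaf J CommRingCat.{u}) (U : C) (M : ModSite.Mod O)
    [ModSite.HasPushOver O U] [ModSite.HasSheafHom M] [ModSite.HasSheafHom ((ModSite.quotOn O U).obj M)] :
    Nonempty (ModSite.sheafHom M ⋙ ModSite.sectOn O U ≅ ModSite.sectOn O U ⋙ ModSite.sheafHom M) ∧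
      Nonempty (ModSite.sheafHom M ⋙ ModSite.sectOn O U ≅ ModSite.sheafHom ((ModSite.quotOn O U).obj M)) := by
  have : (ModSite.sheafHom M).IsRightAdjoint := (ModSite.sheafHomAdj M).isRightAdjoint
  have hσ : ∀ N, Mono ((σ O U M).app N) := fun N =>
    (inferInstance : Mono (Groth.Agent.H92.QuotSect.ι O U ((ModSite.sheafHom M).obj N)))
  have hα₁ : ∀ N, Mono ((α₁ O U M).app N) := fun N =>
    (inferInstance : Mono ((ModSite.sheafHom M).map (Groth.Agent.H92.QuotSect.ι O U N)))
  refine ⟨nonempty_iso_of_same_image (σ O U M) (α₁ O U M) hσ hα₁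
      (fun N P ψ => (lemmaA O U M ψ).trans (lemmaB O U M ψ).symm),
    nonempty_iso_of_same_image (σ O U M)
      (ExtSupp.sheafHomMap (Groth.Agent.H92.QuotSect.π O U M)) hσ
      (fun N => mono_sheafHomMap_π O U M N)
      (fun N P ψ => (lemmaA O U M ψ).trans (lemmaD O U M ψ).symm)⟩

end Groth.Agent.S12893
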