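import Groth.Statements.S12898
import Groth.Agent.H53.BaseAdj

set_option autoImplicit false
universe u
open CategoryTheory CategoryTheory.Limits
attribute [local instance] HasDerivedCategory.standard
open DRing

namespace Groth.Agent.S12898

/-- Let φ : R → A be a map of commutative rings. The derived base change functor D(R) → D(A), E ↦ E
⊗^L_R A (the total left derived functor of extension of scalars, whose existence is the stated
instance hypothesis, true), is left adjoint to the restriction functor D(A) → D(R). (Existence of an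
adjunction only.) -/
theorem result {R A : Type u} [CommRing R] [CommRing A] (φ : R →+* A)
    [DRing.HasLBaseChange φ] :
    Nonempty (DRing.LBaseChange φ ⊣ DRing.restrictD φ) := by
  let LB := DRing.LBaseChange φ
  let αk : DerivedCategory.Qh ⋙ LB ⟶ DRing.baseChangeKh φ :=
    (DRing.baseChangeKh φ).totalLeftDerivedCounit DerivedCategory.Qh
      (HomotopyCategory.quasiIso (ModuleCat.{u} R) (ComplexShape.up ℤ))
  let α : DerivedCategory.Q ⋙ LB ⟶ DTen.extCx φ ⋙ DerivedCategory.Q :=
    Groth.Agent.H53.KanTransfer.ofK (Groth.Agent.H53.DTenComp.qq R) DerivedCategory.Qh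
      DerivedCategory.Q (DerivedCategory.quotientCompQhIso _) (DTen.extCx φ ⋙ DerivedCategory.Q)
      (DRing.baseChangeKh φ) (Groth.Agent.H53.BaseAdj.eK φ) LB αk
  have hK : LB.IsLeftDerivedFunctor
      (Groth.Agent.H53.KanTransfer.αK (Groth.Agent.H53.DTenComp.qq R)
        (Groth.Agent.H53.DTenComp.hEq R) DerivedCategory.Qh
        DerivedCategory.Q (DerivedCategory.quotientCompQhIso _)
        (DTen.extCx φ ⋙ DerivedCategory.Q) (DRing.baseChangeKh φ)
        (Groth.Agent.H53.BaseAdj.eK φ) LB α)
      (HomotopyCategory.quasiIso (ModuleCat.{u} R) (ComplexShape.up ℤ)) := by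
    rw [Groth.Agent.H53.KanTransfer.αK_ofK]
    infer_instance
  have : LB.IsLeftDerivedFunctor α (DTen.qis R) :=
    Groth.Agent.H53.KanTransfer.isLeftDerivedFunctor_of_αK (Groth.Agent.H53.DTenComp.qq R)
      (Groth.Agent.H53.DTenComp.hEq R) DerivedCategory.Qh
      DerivedCategory.Q (DerivedCategory.quotientCompQhIso _)
      (DTen.extCx φ ⋙ DerivedCategory.Q) (DRing.baseChangeKh φ)
      (Groth.Agent.H53.BaseAdj.eK φ) LB α (DTen.qis R)
      (HomotopyCategory.quasiIso (ModuleCat.{u} R) (ComplexShape.up ℤ)) hK
  exact ⟨Groth.Agent.H53.BaseAdj.derivedAdj φ LB α⟩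

end Groth.Agent.S12898
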