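import Groth.Statements.S12899
import Groth.Agent.H35.LBC2
import Groth.Agent.H35.TorBridge

set_option autoImplicit false
universe u
open CategoryTheory CategoryTheory.Limits
attribute [local instance] HasDerivedCategory.standard
open DRing

namespace Groth.Agent.S12899

open MonoidalCategory TensorProduct DerivedCategory Groth.Agent.H31 Groth.Agent.H35.TorAmp
  Groth.Agent.H35.FlatBC Groth.Agent.H35.KFlatBC Groth.Agent.H35.LBC Groth.Agent.H12.FlatCx

section Aux

variable {R : Type u} [CommRing R]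

/-- The first term of a short exact sequence. -/
lemma exactAt_tensor_of_shortExact_left (P : Cx R) (hP : TermwiseFlat P)
    {M' M M'' : ModuleCat.{u} R} (a : M' ⟶ M) (b : M ⟶ M'') (ha : Function.Injective a.hom)
    (hb : Function.Surjective b.hom) (hab : Function.Exact a.hom b.hom) (j : ℤ)
    (h3 : (CohIII.tensorObj P M'').ExactAt (j - 1)) (h2 : (CohIII.tensorObj P M).ExactAt j) :
    (CohIII.tensorObj P M').ExactAt j := by
  rw [HomologicalComplex.exactAt_iff_isZero_homology] at h3 h2 ⊢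
  have hex := T_exact₁ P hP a b ha hb hab (j - 1) j (by simp)
  have s3 : Subsingleton ((CohIII.TFun P (j - 1)).obj M'') := ModuleCat.subsingleton_of_isZero h3
  have s2 : Subsingleton ((CohIII.TFun P j).obj M) := ModuleCat.subsingleton_of_isZero h2
  have : Subsingleton ((CohIII.TFun P j).obj M') := ⟨fun x y => by
    have hx : ((CohIII.TFun P j).map a).hom (x - y) = 0 := Subsingleton.elim _ _
    obtain ⟨z, hz⟩ := (hex (x - y)).1 hx
    have hz0 : z = 0 := Subsingleton.elim _ _
    rw [hz0, map_zero] at hz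
    exact sub_eq_zero.1 hz.symm⟩
  exact @ModuleCat.isZero_of_subsingleton _ _ ((CohIII.TFun P j).obj M') this

/-- Directed union of the `f^k`-torsion submodules. -/
lemma exactAt_tensor_of_powTorsion (P : Cx R) (hP : TermwiseFlat P) (f : R) (j : ℤ)
    (h : ∀ (k : ℕ) (N : ModuleCat.{u} R), (∀ x : N, f ^ k • x = 0) →
      (CohIII.tensorObj P N).ExactAt j)
    (N : ModuleCat.{u} R) (hN : ∀ x : N, ∃ k : ℕ, f ^ k • x = 0) :
    (CohIII.tensorObj P N).ExactAt j := by
  rw [exactAt_tensor_iff P N (j - 1) j (j + 1) (by omega) rfl]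
  intro z hz
  let Nk : ℕ → Submodule R N := fun k => Submodule.torsionBy R N (f ^ k)
  have hmono : ∀ k k', k ≤ k' → Nk k ≤ Nk k' := by
    intro k k' hkk x hx
    obtain ⟨m, rfl⟩ := Nat.exists_eq_add_of_le hkk
    have hx' : f ^ k • x = 0 := hx
    show f ^ (k + m) • x = 0
    rw [pow_add, mul_comm, mul_smul, hx', smul_zero]
  have key : ∀ (i : ℤ) (z : P.X i ⊗[R] N), ∃ (k : ℕ) (w : P.X i ⊗[R] (Nk k)),
      (Nk k).subtype.lTensor (P.X i) w = z := by
    intro i z
    induction z using TensorProduct.induction_on with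
    | zero => exact ⟨0, 0, map_zero _⟩
    | tmul p x =>
      obtain ⟨k, hk⟩ := hN x
      exact ⟨k, p ⊗ₜ ⟨x, hk⟩, rfl⟩
    | add z₁ z₂ h₁ h₂ =>
      obtain ⟨k₁, w₁, hw₁⟩ := h₁
      obtain ⟨k₂, w₂, hw₂⟩ := h₂
      have hk₁ := hmono k₁ (max k₁ k₂) (le_max_left _ _)
      have hk₂ := hmono k₂ (max k₁ k₂) (le_max_right _ _)
      refine ⟨max k₁ k₂, (Submodule.inclusion hk₁).lTensor (P.X i) w₁ +
        (Submodule.inclusion hk₂).lTensor (P.X i) w₂, ?_⟩
      rw [map_add, ← LinearMap.comp_apply, ← LinearMap.comp_apply, ← LinearMap.lTensor_comp,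
        ← LinearMap.lTensor_comp, Submodule.subtype_comp_inclusion,
        Submodule.subtype_comp_inclusion, hw₁, hw₂]
  obtain ⟨k, w, hw⟩ := key j z
  have hk := h k (ModuleCat.of R (Nk k)) (fun x => Subtype.ext x.2)
  rw [exactAt_tensor_iff P (ModuleCat.of R (Nk k)) (j - 1) j (j + 1) (by omega) rfl] at hk
  have hinj : Function.Injective ((Nk k).subtype.lTensor (P.X (j + 1))) := by
    haveI := hP (j + 1)
    exact Module.Flat.lTensor_preserves_injective_linearMap _ (Nk k).injective_subtype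
  have hdw : dT P (Nk k) j (j + 1) w = 0 := by
    apply hinj
    rw [lTensor_dT, hw, hz, map_zero]
  obtain ⟨y, hy⟩ := hk w hdw
  exact ⟨(Nk k).subtype.lTensor (P.X (j - 1)) y, by rw [← lTensor_dT, hy, hw]⟩

/-- Tor-vanishing below `c` can be checked on `R_f`-modules and on modules killed by `f`. -/
theorem exactAt_of_away_and_quotient (P : Cx R) (hP : TermwiseFlat P) (f : R) (c : ℤ)
    (hA : ∀ j : ℤ, j < c → ∀ N' : ModuleCat.{u} (Localization.Away f),
      (CohIII.tensorObj P ((Res (algebraMap R (Localization.Away f))).obj N')).ExactAt j)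
    (hB : ∀ j : ℤ, j < c → ∀ N : ModuleCat.{u} R, (∀ x : N, f • x = 0) →
      (CohIII.tensorObj P N).ExactAt j)
    (j : ℤ) (hj : j < c) (N : ModuleCat.{u} R) : (CohIII.tensorObj P N).ExactAt j := by
  have hC : ∀ j : ℤ, j < c → ∀ (k : ℕ) (N : ModuleCat.{u} R), (∀ x : N, f ^ k • x = 0) →
      (CohIII.tensorObj P N).ExactAt j := by
    intro j hj k N hN
    refine exactAt_tensor_of_pow P hP (Ideal.span {f}) j
      (fun N' hN' => hB j hj N' (fun x => hN' f (Ideal.subset_span rfl) x)) k N
      (fun a ha x => ?_)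
    rw [Ideal.span_singleton_pow, Ideal.mem_span_singleton'] at ha
    obtain ⟨r, rfl⟩ := ha
    rw [mul_smul, hN x, smul_zero]
  have hD : ∀ j : ℤ, j < c → ∀ N : ModuleCat.{u} R, (∀ x : N, ∃ k : ℕ, f ^ k • x = 0) →
      (CohIII.tensorObj P N).ExactAt j :=
    fun j hj N hN => exactAt_tensor_of_powTorsion P hP f j (hC j hj) N hN
  let S : Submonoid R := Submonoid.powers f
  let T : Submodule R N := Submodule.torsion' R N S
  have hT : ∀ x : T, ∃ k : ℕ, f ^ k • x = 0 := by
    rintro ⟨x, hx⟩
    obtain ⟨⟨a, k, rfl⟩, ha⟩ := (Submodule.mem_torsion'_iff (R := R) (M := N) (S := S) x).1 hx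
    exact ⟨k, Subtype.ext ha⟩
  have h1 : (CohIII.tensorObj P (ModuleCat.of R T)).ExactAt j := hD j hj _ hT
  -- the torsion-free quotient
  let L : Type u := LocalizedModule S (N ⧸ T)
  let ℓ : (N ⧸ T) →ₗ[R] L := LocalizedModule.mkLinearMap S (N ⧸ T)
  have hℓ : Function.Injective ℓ := by
    rw [injective_iff_map_eq_zero]
    intro y hy
    obtain ⟨x, rfl⟩ := Submodule.Quotient.mk_surjective T y
    obtain ⟨⟨a, k, rfl⟩, ha⟩ := (IsLocalizedModule.eq_zero_iff S ℓ).1 hy
    have ha' : f ^ k • (Submodule.Quotient.mk x : N ⧸ T) = 0 := ha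
    rw [← Submodule.Quotient.mk_smul, Submodule.Quotient.mk_eq_zero] at ha'
    obtain ⟨⟨b, m, rfl⟩, hb⟩ := (Submodule.mem_torsion'_iff (R := R) (M := N) (S := S) _).1 ha'
    have hb' : f ^ m • (f ^ k • x) = 0 := hb
    rw [Submodule.Quotient.mk_eq_zero]
    refine (Submodule.mem_torsion'_iff (R := R) (M := N) (S := S) x).2
      ⟨⟨f ^ (m + k), m + k, rfl⟩, ?_⟩
    show f ^ (m + k) • x = 0
    rw [pow_add, mul_smul, hb']
  let C : Submodule R L := LinearMap.range ℓ
  have hCt : ∀ y : L ⧸ C, ∃ k : ℕ, f ^ k • y = 0 := by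
    intro y
    obtain ⟨l, rfl⟩ := Submodule.Quotient.mk_surjective C y
    obtain ⟨⟨x, ⟨a, k, rfl⟩⟩, hx⟩ := IsLocalizedModule.surj S ℓ l
    have hx' : f ^ k • l = ℓ x := hx
    refine ⟨k, ?_⟩
    rw [← Submodule.Quotient.mk_smul, Submodule.Quotient.mk_eq_zero, hx']
    exact LinearMap.mem_range_self ℓ x
  have hC' : (CohIII.tensorObj P (ModuleCat.of R (L ⧸ C))).ExactAt (j - 1) :=
    hD (j - 1) (by omega) _ hCt
  have hL : (CohIII.tensorObj P (ModuleCat.of R L)).ExactAt j := by
    let e : ((Res (algebraMap R (Localization.Away f))).obj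
        (ModuleCat.of (Localization.Away f) L)) ≃ₗ[R] L :=
      { toFun := fun x => x
        invFun := fun x => x
        map_add' := fun _ _ => rfl
        map_smul' := fun r x => by
          change algebraMap R (Localization.Away f) r • (show L from x) = r • (show L from x)
          exact algebraMap_smul _ _ _
        left_inv := fun _ => rfl
        right_inv := fun _ => rfl }
    rw [← exactAt_tensor_iff_of_module_iso P e.toModuleIso j]
    exact hA j hj (ModuleCat.of (Localization.Away f) L)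
  have h3 : (CohIII.tensorObj P (ModuleCat.of R (N ⧸ T))).ExactAt j :=
    exactAt_tensor_of_shortExact_left P hP (ModuleCat.ofHom ℓ) (ModuleCat.ofHom C.mkQ) hℓ
      C.mkQ_surjective (LinearMap.exact_map_mkQ_range ℓ) j hC' hL
  exact exactAt_tensor_of_shortExact P hP (ModuleCat.ofHom T.subtype) (ModuleCat.ofHom T.mkQ)
    T.injective_subtype T.mkQ_surjective (LinearMap.exact_subtype_mkQ T) j h1 h3

end Aux


/-- Let R be a commutative ring, f ∈ R and M an object of D(R) such that (1) H^i(M) = 0 for i &gt; 0,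
(2) in D(R_f), M ⊗^L_R R_f is isomorphic to a flat R_f-module concentrated in degree 0, and (3) in
D(R/fR), M ⊗^L_R R/fR is isomorphic to a flat R/fR-module concentrated in degree 0. Then, in D(R), M
itself is isomorphic to a flat R-module concentrated in degree 0. (The derived base change functors
along R → R_f and R → R/fR are the stated instance hypotheses, both true.) -/
theorem result {R : Type u} [CommRing R] (f : R) (M : Dual.D R)
    [DRing.HasLBaseChange (algebraMap R (Localization.Away f))]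
    [DRing.HasLBaseChange (Ideal.Quotient.mk (Ideal.span ({f} : Set R)))]
    (h1 : ∀ i : ℤ, 0 < i → Subsingleton (Dual.HD R M i))
    (h2 : ∃ (N : Type u) (_ : AddCommGroup N) (_ : Module (Localization.Away f) N),
      Module.Flat (Localization.Away f) N ∧
        Nonempty ((DRing.LBaseChange (algebraMap R (Localization.Away f))).obj M ≅ Dual.inD (Localization.Away f) N))
    (h3 : ∃ (N : Type u) (_ : AddCommGroup N) (_ : Module (R ⧸ Ideal.span ({f} : Set R)) N),
      Module.Flat (R ⧸ Ideal.span ({f} : Set R)) N ∧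
        Nonempty ((DRing.LBaseChange (Ideal.Quotient.mk (Ideal.span ({f} : Set R)))).obj M ≅
          Dual.inD (R ⧸ Ideal.span ({f} : Set R)) N)) :
    ∃ (N : Type u) (_ : AddCommGroup N) (_ : Module R N), Module.Flat R N ∧ Nonempty (M ≅ Dual.inD R N) := by
  obtain ⟨N₁, _, _, hfl₁, ⟨e₁⟩⟩ := h2
  obtain ⟨N₂, _, _, hfl₂, ⟨e₂⟩⟩ := h3
  obtain ⟨P, hPK, hPfl, ⟨e⟩⟩ := exists_kflat_model M
  -- tor amplitude of the two base changes
  have amp₁ : HasTorAmplitudeIn (Localization.Away f) 0 0
      ((DRing.LBaseChange (algebraMap R (Localization.Away f))).obj M) := by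
    have h := (hasTorDimLE_iff N₁ 0).1 ((hasTorDimLE_zero_iff_flat N₁).2 hfl₁)
    have h' : HasTorAmplitudeIn (Localization.Away f) 0 0 (Dual.inD (Localization.Away f) N₁) := by
      simpa using h
    exact hasTorAmplitudeIn_of_iso e₁.symm h'
  have amp₂ : HasTorAmplitudeIn (R ⧸ Ideal.span ({f} : Set R)) 0 0
      ((DRing.LBaseChange (Ideal.Quotient.mk (Ideal.span ({f} : Set R)))).obj M) := by
    have h := (hasTorDimLE_iff N₂ 0).1 ((hasTorDimLE_zero_iff_flat N₂).2 hfl₂)
    have h' : HasTorAmplitudeIn (R ⧸ Ideal.span ({f} : Set R)) 0 0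
        (Dual.inD (R ⧸ Ideal.span ({f} : Set R)) N₂) := by
      simpa using h
    exact hasTorAmplitudeIn_of_iso e₂.symm h'
  have hT₁ := torVanish_of_hasTorAmplitudeIn amp₁ _
    (isKFlat_extCx (algebraMap R (Localization.Away f)) P hPK)
    (Groth.Agent.H53.LBaseChange.objIso' (algebraMap R (Localization.Away f)) P hPK e)
  have hT₂ := torVanish_of_hasTorAmplitudeIn amp₂ _
    (isKFlat_extCx (Ideal.Quotient.mk (Ideal.span ({f} : Set R))) P hPK)
    (Groth.Agent.H53.LBaseChange.objIso' (Ideal.Quotient.mk (Ideal.span ({f} : Set R))) P hPK e)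
  -- boundedness above
  have hle : (toD P).IsLE 0 := by
    rw [DerivedCategory.isLE_iff]
    intro i hi
    have hs := h1 i hi
    have hz : IsZero ((DerivedCategory.homologyFunctor (ModuleCat.{u} R) i).obj M) :=
      ModuleCat.isZero_of_subsingleton _
    exact hz.of_iso ((DerivedCategory.homologyFunctor (ModuleCat.{u} R) i).mapIso e)
  -- Tor vanishing
  have hTV : TorVanish 0 0 P := by
    intro N i hi
    rcases hi with hi | hi
    · refine exactAt_of_away_and_quotient P hPfl f 0 (fun j hj N' => ?_) (fun j hj N hN => ?_)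
        i hi N
      · exact (exactAt_tensor_ext_iff (algebraMap R (Localization.Away f)) P N' j).1
          (hT₁ N' j (Or.inl hj))
      · refine exactAt_tensor_of_killed (Ideal.Quotient.mk (Ideal.span ({f} : Set R)))
          Ideal.Quotient.mk_surjective P j (fun N' => hT₂ N' j (Or.inl hj)) N (fun a ha x => ?_)
        rw [Ideal.mk_ker, Ideal.mem_span_singleton'] at ha
        obtain ⟨r, rfl⟩ := ha
        rw [mul_smul, hN x, smul_zero]
    · exact exactAt_tensor_of_isLE P hPK 0 hle N i hi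
  obtain ⟨E, hE, fl, ⟨eE⟩⟩ := hasTorAmplitudeIn_of_torVanish P hPK e hTV
  have h1' : E.IsStrictlyGE 0 := by
    rw [CochainComplex.isStrictlyGE_iff]
    intro i hi
    exact hE i (Or.inl hi)
  have h2' : E.IsStrictlyLE 0 := by
    rw [CochainComplex.isStrictlyLE_iff]
    intro i hi
    exact hE i (Or.inr hi)
  obtain ⟨A, ⟨eA⟩⟩ := E.exists_iso_single 0
  have eX : E.X 0 ≅ A :=
    (HomologicalComplex.eval (ModuleCat.{u} R) (ComplexShape.up ℤ) 0).mapIso eA ≪≫
      HomologicalComplex.singleObjXSelf (ComplexShape.up ℤ) 0 A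
  have := fl 0
  have hA : Module.Flat R A := Module.Flat.of_linearEquiv eX.toLinearEquiv.symm
  exact ⟨A, inferInstance, inferInstance, hA,
    ⟨eE.symm ≪≫ Q.mapIso eA ≪≫ (Groth.Agent.H35.MPCoh.sIso 0 A).symm⟩⟩

end Groth.Agent.S12899
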