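import Groth.Statements.S12903
import Groth.Agent.H8.SectionsExact
import Groth.Agent.H8.QCohAffine
import Groth.Agent.H8.QCohQcqs
-- import your own Groth.Agent.* helpers here

set_option autoImplicit false
universe u
open CategoryTheory CategoryTheory.Limits AlgebraicGeometry Opposite
open Coherent

namespace Groth.Agent.S12903

section Helpers

open Groth.Agent.H8

variable {U X : Scheme.{u}} (j : U ⟶ X) [IsOpenImmersion j] (F : X.Modules)

/-- Sections of `Γ_Z(F)` are the sections vanishing on `V ∩ U`. -/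
theorem mem_range_kernel_iff (V : X.Opens) (s : Γ(F, V)) :
    s ∈ Set.range ((kernel.ι ((Scheme.Modules.restrictAdjunction j).unit.app F)).app V) ↔
      F.presheaf.map (homOfLE (j.image_preimage_le V)).op s = 0 := by
  let S : ShortComplex X.Modules :=
    ShortComplex.mk (kernel.ι ((Scheme.Modules.restrictAdjunction j).unit.app F))
      ((Scheme.Modules.restrictAdjunction j).unit.app F) (kernel.condition _)
  have hS : S.Exact := S.exact_of_f_is_kernel (kernelIsKernel _)
  have : Mono S.f :=
    inferInstanceAs (Mono (kernel.ι ((Scheme.Modules.restrictAdjunction j).unit.app F)))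
  constructor
  · rintro ⟨t, rfl⟩
    exact app_comp_eq_zero S V t
  · intro h
    exact exists_app_eq_of_exact S hS V s h

theorem main [F.IsQuasicoherent] (V : X.Opens) (hV : IsAffineOpen V) (I : Ideal Γ(X, V))
    (hI : I.FG)
    (hZ : ∀ x : X, x ∈ V → (x ∉ Set.range j.base ↔ ∀ f ∈ I, x ∉ X.basicOpen f))
    (s : Γ(F, V)) :
    F.presheaf.map (homOfLE (j.image_preimage_le V)).op s = 0 ↔
      ∃ n : ℕ, ∀ a ∈ I ^ n, a • s = 0 := by
  have hW : ∀ x, x ∈ j ''ᵁ (j ⁻¹ᵁ V) ↔ (x ∈ V ∧ ∃ f ∈ I, x ∈ X.basicOpen f) := by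
    intro x
    constructor
    · rintro ⟨u, hu, rfl⟩
      have hxV : j u ∈ V := hu
      refine ⟨hxV, ?_⟩
      by_contra hne
      push_neg at hne
      exact ((hZ _ hxV).mpr hne) ⟨u, rfl⟩
    · rintro ⟨hxV, f, hf, hxf⟩
      have hr : x ∈ Set.range j.base := by
        by_contra hx
        exact (hZ x hxV).mp hx f hf hxf
      obtain ⟨u, rfl⟩ := hr
      exact ⟨u, hxV, rfl⟩
  have hle : ∀ f ∈ I, X.basicOpen f ≤ j ''ᵁ (j ⁻¹ᵁ V) := fun f hf x hx =>
    (hW x).mpr ⟨X.basicOpen_le f hx, f, hf, hx⟩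
  have hresres : ∀ f (hf : f ∈ I), F.presheaf.map (homOfLE (X.basicOpen_le f)).op s =
      F.presheaf.map (homOfLE (hle f hf)).op
        (F.presheaf.map (homOfLE (j.image_preimage_le V)).op s) := by
    intro f hf
    rw [← ConcreteCategory.comp_apply, ← Functor.map_comp]
    rfl
  constructor
  · intro h0
    have hrad : I ≤ (Ideal.torsionOf Γ(X, V) Γ(F, V) s).radical := by
      intro f hf
      have hres : F.presheaf.map (homOfLE (X.basicOpen_le f)).op s = 0 := by
        rw [hresres f hf, h0, map_zero]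
      obtain ⟨n, hn⟩ := exists_smul_eq_zero hV F f s hres
      exact ⟨n, (Ideal.mem_torsionOf_iff _ _).mpr hn⟩
    obtain ⟨n, hn⟩ := Ideal.exists_pow_le_of_le_radical_of_fg hrad hI
    exact ⟨n, fun a ha => (Ideal.mem_torsionOf_iff _ _).mp (hn ha)⟩
  · rintro ⟨n, hn⟩
    refine section_eq_of_cover F _ 0 (fun x hx => ?_)
    obtain ⟨hxV, f, hf, hxf⟩ := (hW x).mp hx
    refine ⟨X.basicOpen f, hle f hf, hxf, ?_⟩
    rw [map_zero, ← hresres f hf]
    have hfn : f ^ n • s = 0 := hn _ (Ideal.pow_mem_pow hf n)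
    have h1 : (X.presheaf.map (homOfLE (X.basicOpen_le f)).op f) ^ n •
        F.presheaf.map (homOfLE (X.basicOpen_le f)).op s = 0 := by
      rw [← map_pow, ← res_smul, hfn, map_zero]
    have hu : IsUnit (X.presheaf.map (homOfLE (X.basicOpen_le f)).op f) :=
      RingedSpace.isUnit_res_basicOpen X.toRingedSpace f
    exact (hu.pow n).smul_eq_zero.mp h1

end Helpers


/-- Let X be a scheme, j : U → X a quasi-compact open immersion with closed complement Z, F a
quasi-coherent O_X-module, V an affine open of X and I a finitely generated ideal of Γ(V, O_X)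
cutting out Z ∩ V (a point of V lies outside U if and only if it lies in no basic open X_f with f ∈
I). Then a section s of F over V belongs to the subsheaf Γ_Z(F) of sections supported in Z (the
kernel of F → j_*(F|_U)) if and only if I^n s = 0 for some n. -/
theorem result {U X : Scheme.{u}} (j : U ⟶ X) [IsOpenImmersion j] [QuasiCompact j]
    (F : X.Modules) (hF : Coh.IsQCoh F) (V : X.Opens) (hV : IsAffineOpen V)
    (I : Ideal (X.ringCatSheaf.obj.obj (op V))) (hI : I.FG)
    (hZ : ∀ x : X, x ∈ V → (x ∉ Set.range j.base ↔ ∀ f ∈ I, x ∉ X.basicOpen (f : Γ(X, V))))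
    (s : F.val.obj (op V)) :
    s ∈ Set.range ((((CxOX.gammaZι j).app F).val.app (op V)).hom) ↔ ∃ n : ℕ, ∀ a ∈ I ^ n, a • s = 0 := by
  have : F.IsQuasicoherent := hF
  have h1 := mem_range_kernel_iff j F V s
  have h2 := main j F V hV I hI hZ s
  exact h1.trans h2

end Groth.Agent.S12903
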