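import Groth.Statements.S12905
import Groth.Agent.H22.TwistSeq
import Groth.Agent.H22.SerreH1
import Groth.Agent.H30.SuppDim0
import Groth.Agent.H82.ProjFinite
import Groth.Agent.H18.ProjUPData
import Groth.Agent.H18.TensorCoh
import Groth.Agent.H8.CohKerCoker
import Groth.Agent.H8.SectionsExact
-- import your own Groth.Agent.* helpers here

set_option autoImplicit false
universe u
open CategoryTheory CategoryTheory.Limits AlgebraicGeometry
open Variety

namespace Groth.Agent.S12905

open Groth.Agent.H18.TensorGen Groth.Agent.H18.SecTw Groth.Agent.H18.TensorSec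
open Groth.Agent.H22.TwistSeq Groth.Agent.H22.SerreH1
open Groth.Agent.H22.QCohLimits (app_res)
open Groth.Agent.H8 (res_res)

/-- `H^i` of the middle term of a short exact sequence vanishes if it does for the ends. -/
lemma subsingleton_HH_of_shortExact {X : Scheme.{u}} (S : ShortComplex X.Modules)
    (hS : S.ShortExact) (i : ℕ)
    (h₁ : Subsingleton (Coh.HH X S.X₁ i)) (h₃ : Subsingleton (Coh.HH X S.X₃ i)) :
    Subsingleton (Coh.HH X S.X₂ i) := by
  have hS' : (S.map (toAbF X)).ShortExact := hS.map_of_exact _
  have key : ∀ x : Abelian.Ext (constZ X) (S.map (toAbF X)).X₂ i, x = 0 := by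
    intro x
    have : Subsingleton (Abelian.Ext (constZ X) (S.map (toAbF X)).X₃ i) := h₃
    have : Subsingleton (Abelian.Ext (constZ X) (S.map (toAbF X)).X₁ i) := h₁
    obtain ⟨x₁, hx₁⟩ := Abelian.Ext.covariant_sequence_exact₂ (constZ X) hS' x
      (Subsingleton.elim _ _)
    rw [← hx₁, Subsingleton.elim x₁ 0, Abelian.Ext.zero_comp]
  exact ⟨fun a b => (key a).trans (key b).symm⟩

/-- an epimorphism of modules is locally surjective on sections. -/
lemma exists_local_lift {X : Scheme.{u}} {M N : X.Modules} (p : M ⟶ N) [Epi p] (U : X.Opens)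
    (t : Γ(N, U)) (x : X) (hx : x ∈ U) :
    ∃ (V : X.Opens) (hV : V ≤ U), x ∈ V ∧ ∃ s : Γ(M, V),
      p.app V s = N.presheaf.map (homOfLE hV).op t := by
  have h1 : Epi ((toAbF X).map p) := inferInstance
  have h2 := (TopCat.Sheaf.isLocallySurjective_iff_epi (X := X.toTopCat)
    (C := AddCommGrpCat.{u}) ((toAbF X).map p)).mpr h1
  rw [TopCat.Presheaf.isLocallySurjective_iff] at h2
  obtain ⟨V, hV, ⟨s, hs⟩, hxV⟩ := h2 U t x hx
  exact ⟨V, hV, hxV, s, hs⟩

/-- a section of a module whose stalk at `x` is trivial vanishes near `x`. -/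
lemma exists_res_eq_zero {X : Scheme.{u}} (Q : X.Modules) (x : X)
    (hQ : Subsingleton (Q.presheaf.stalk x)) (W : X.Opens) (hx : x ∈ W) (q : Γ(Q, W)) :
    ∃ (W' : X.Opens) (hW' : W' ≤ W), x ∈ W' ∧ Q.presheaf.map (homOfLE hW').op q = 0 := by
  have h0 : Q.presheaf.germ W x hx q = Q.presheaf.germ W x hx 0 := Subsingleton.elim _ _
  obtain ⟨W', hxW', iU, iV, e⟩ := TopCat.Presheaf.germ_eq Q.presheaf x hx hx q 0 h0
  refine ⟨W', iU.le, hxW', ?_⟩
  rw [map_zero] at e
  exact e

/-- the support of the cokernel of `φ ⊗ N` is contained in that of the cokernel of `φ`. -/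
lemma support_cokernel_tmMap_subset {X : Scheme.{u}} {F' F : X.Modules} (φ : F' ⟶ F)
    (N : X.Modules) (hN : PicF.IsInvertible N) :
    CohB1.support (cokernel (tmMap φ N)) ⊆ CohB1.support (cokernel φ) := by
  intro x hx hQ
  apply hx
  have hQ' : Subsingleton ((cokernel φ).presheaf.stalk x) := hQ
  -- every germ of the cokernel of `φ ⊗ N` at `x` vanishes
  have key : ∀ t : (cokernel (tmMap φ N)).presheaf.stalk x, t = 0 := by
    intro t
    obtain ⟨W, hxW, c, rfl⟩ := TopCat.Presheaf.exists_germ_eq (cokernel (tmMap φ N)).presheaf t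
    -- lift `c` locally to `F ⊗ N`
    obtain ⟨W1, hW1, hxW1, w, hw⟩ := exists_local_lift (cokernel.π (tmMap φ N)) W c x hxW
    -- write `w` locally as a pure tensor with a generator of `N`
    obtain ⟨A, lam, hxA, hlam⟩ := exists_isGen hN x
    have hlam1 := hlam.res (inf_le_left : A ⊓ W1 ≤ A)
    obtain ⟨a, ha⟩ := surjective_tm (F := F) hlam1
      ((CohB1.tensorMod F N).presheaf.map (homOfLE (inf_le_right : A ⊓ W1 ≤ W1)).op w)
    simp only at ha
    -- the image of `a` in the cokernel of `φ` vanishes near `x`
    obtain ⟨W2, hW2, hxW2, hq⟩ := exists_res_eq_zero (cokernel φ) x hQ' (A ⊓ W1) ⟨hxA, hxW1⟩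
      ((cokernel.π φ).app (A ⊓ W1) a)
    -- hence `a` comes from `F'` over `W2`
    let S : ShortComplex X.Modules := ShortComplex.mk φ (cokernel.π φ) (cokernel.condition φ)
    have hS : S.Exact := ShortComplex.exact_cokernel φ
    have hq' : (cokernel.π φ).app W2 (F.presheaf.map (homOfLE hW2).op a) = 0 := by
      rw [app_res]
      exact hq
    -- use the image factorisation to avoid a mono hypothesis
    obtain ⟨W3, hW3, hxW3, a', ha'⟩ : ∃ (W3 : X.Opens) (hW3 : W3 ≤ W2), x ∈ W3 ∧
        ∃ a' : Γ(F', W3), φ.app W3 a' =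
          F.presheaf.map (homOfLE hW3).op (F.presheaf.map (homOfLE hW2).op a) := by
      -- `a|W2` lies in the kernel of `cokernel.π φ`, which is the image of `φ`
      let S' : ShortComplex X.Modules :=
        ShortComplex.mk (kernel.ι (cokernel.π φ)) (cokernel.π φ) (kernel.condition _)
      have hS' : S'.Exact := S'.exact_of_f_is_kernel (kernelIsKernel _)
      have : Mono S'.f := inferInstanceAs (Mono (kernel.ι (cokernel.π φ)))
      obtain ⟨b, hb⟩ := Groth.Agent.H8.exists_app_eq_of_exact S' hS' W2
        (F.presheaf.map (homOfLE hW2).op a) hq'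
      -- `F' ⟶ kernel (cokernel.π φ)` is an epimorphism
      have hepi : Epi (Abelian.factorThruImage φ) := inferInstance
      obtain ⟨W3, hW3, hxW3, a', ha'⟩ :=
        exists_local_lift (Abelian.factorThruImage φ) W2 b x hxW2
      refine ⟨W3, hW3, hxW3, a', ?_⟩
      have h1 : Abelian.factorThruImage φ ≫ kernel.ι (cokernel.π φ) = φ :=
        Abelian.image.fac φ
      have h2 : φ.app W3 a' = (kernel.ι (cokernel.π φ)).app W3
          ((Abelian.factorThruImage φ).app W3 a') :=
        (congrArg (fun f : F' ⟶ F => f.app W3 a') h1).symm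
      rw [h2, ha', app_res]
      exact congrArg _ hb
    -- conclude
    have hle : W3 ≤ W := (hW3.trans hW2).trans (inf_le_right.trans hW1)
    have hfin : (cokernel (tmMap φ N)).presheaf.map (homOfLE hle).op c = 0 := by
      have e1 : (cokernel (tmMap φ N)).presheaf.map (homOfLE hle).op c =
          (cokernel.π (tmMap φ N)).app W3 ((CohB1.tensorMod F N).presheaf.map
            (homOfLE ((hW3.trans hW2).trans inf_le_right : W3 ≤ W1)).op w) := by
        rw [app_res, hw, res_res]
      have e2 : (CohB1.tensorMod F N).presheaf.map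
          (homOfLE ((hW3.trans hW2).trans inf_le_right : W3 ≤ W1)).op w =
          (tmMap φ N).app W3 (tm F' N a'
            (N.presheaf.map (homOfLE ((hW3.trans hW2).trans inf_le_left : W3 ≤ A)).op lam)) := by
        rw [tmMap_tm, ha']
        have e3 : (CohB1.tensorMod F N).presheaf.map
            (homOfLE ((hW3.trans hW2).trans inf_le_right : W3 ≤ W1)).op w =
            (CohB1.tensorMod F N).presheaf.map (homOfLE (hW3.trans hW2)).op
              ((CohB1.tensorMod F N).presheaf.map
                (homOfLE (inf_le_right : A ⊓ W1 ≤ W1)).op w) := by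
          rw [res_res]
        rw [e3, ← ha, tm_res, res_res, res_res]
      rw [e1, e2]
      have h0 : (tmMap φ N ≫ cokernel.π (tmMap φ N)).app W3 = 0 := by
        rw [cokernel.condition]; rfl
      exact congr($h0 _)
    rw [← TopCat.Presheaf.germ_res_apply (cokernel (tmMap φ N)).presheaf (homOfLE hle) x hxW3 c,
      hfin, map_zero]
  exact ⟨fun a b => (key a).trans (key b).symm⟩

/-- `O(d)` on projective space is invertible. -/
lemma isInvertible_twistProjSpace (n : ℕ) (R : Type u) [CommRing R] (d : ℤ) :
    PicF.IsInvertible (Twist.twistProjSpace n R d) := by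
  have h := Groth.Agent.H18.TwistRestrict.isInvertible_twist_of_cover (CohB1.polyGrading n R) 1 d
    (fun y => by
      obtain ⟨i, hi⟩ := Groth.Agent.H18.ProjUPData.Dp_cover n R y
      exact ⟨MvPolynomial.X i, Groth.Agent.H18.ProjSpaceGlobal.Xmem n R i,
        (ProjectiveSpectrum.mem_basicOpen (CohB1.polyGrading n R) _ _).mp hi⟩)
  have e : d * ((1 : ℕ) : ℤ) = d := by simp
  rw [e] at h
  exact h

/-- Let k be a field and φ : F' → F a monomorphism of coherent modules on P^n_k whose cokernel has
support of Krull dimension at most zero (a finite set of closed points, possibly empty). If F' is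
m-regular then F is m-regular. (The published statement is the case of an ideal sheaf contained in
the ideal sheaf of a curve with quotient supported at finitely many points, phrased as an inequality
of regularities; the argument gives the form stated here.) -/
theorem result (k : Type u) [Field k] (n : ℕ)
    (F' F : (CohB1.ProjSpace n k).Modules) (hF' : Coh.IsCoh F') (hF : Coh.IsCoh F) (φ : F' ⟶ F) [Mono φ]
    (hsupp : topologicalKrullDim (CohB1.support (cokernel φ)) ≤ 0) (m : ℤ)
    (h : Curv2.IsMRegular k n F' m) : Curv2.IsMRegular k n F m := by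
  intro i hi1 hin
  have hN : PicF.IsInvertible (Twist.twistProjSpace n k (m - i)) :=
    isInvertible_twistProjSpace n k (m - i)
  have : IsLocallyNoetherian (CohB1.ProjSpace n k) := Groth.Agent.H82.ProjFinite.isLocallyNoetherian n k
  have hmono : Mono (tmMap φ (Twist.twistProjSpace n k (m - i))) := mono_tmMap φ _ hN
  let S : ShortComplex (CohB1.ProjSpace n k).Modules :=
    ShortComplex.mk (tmMap φ (Twist.twistProjSpace n k (m - i)))
      (cokernel.π (tmMap φ (Twist.twistProjSpace n k (m - i)))) (cokernel.condition _)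
  have hSex : S.Exact := ShortComplex.exact_cokernel _
  have : Mono S.f := hmono
  have : Epi S.g := inferInstanceAs (Epi (cokernel.π (tmMap φ (Twist.twistProjSpace n k (m - i)))))
  have hS : S.ShortExact := { exact := hSex }
  have hC : Coh.IsCoh (cokernel (tmMap φ (Twist.twistProjSpace n k (m - i)))) :=
    Groth.Agent.H8.isCoh_cokernel (Groth.Agent.H18.TensorCoh.isCoh_tensorMod hF' hN)
      (Groth.Agent.H18.TensorCoh.isCoh_tensorMod hF hN) _
  have hsub := support_cokernel_tmMap_subset φ (Twist.twistProjSpace n k (m - i)) hN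
  have hdim : topologicalKrullDim
      (CohB1.support (cokernel (tmMap φ (Twist.twistProjSpace n k (m - i))))) ≤ 0 :=
    le_trans (Topology.IsEmbedding.inclusion hsub).isInducing.topologicalKrullDim_le hsupp
  have h3 : Subsingleton (Coh.HH (CohB1.ProjSpace n k)
      (cokernel (tmMap φ (Twist.twistProjSpace n k (m - i)))) i) :=
    Groth.Agent.H30.SuppDim0.main _ _ hC hdim i hi1
  have h1 : Subsingleton (Coh.HH (CohB1.ProjSpace n k)
      (CohB1.tensorMod F' (Twist.twistProjSpace n k (m - i))) i) := h i hi1 hin
  exact subsingleton_HH_of_shortExact S hS i h1 h3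

end Groth.Agent.S12905
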