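import Groth.Statements.S12916
import Mathlib
-- import your own Groth.Agent.* helpers here

set_option autoImplicit false
universe u
open CAlgX

namespace Groth.Agent.S12916

/-- A finite module over a Noetherian ring all of whose associated primes are maximal has
finite length. -/
lemma isFiniteLength_of_assPrimes_maximal {R : Type*} [CommRing R] [IsNoetherianRing R]
    {N : Type*} [AddCommGroup N] [Module R N] [Module.Finite R N]
    (h : ∀ Q ∈ associatedPrimes R N, Q.IsMaximal) : IsFiniteLength R N := by
  rw [isFiniteLength_iff_isNoetherian_isArtinian]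
  refine ⟨inferInstance, ?_⟩
  set I := Module.annihilator R N with hI
  letI : Module (R ⧸ I) N :=
    Module.IsTorsionBySet.module (Module.isTorsionBySet_annihilator R N)
  haveI : IsScalarTower R (R ⧸ I) N := Module.IsTorsionBySet.isScalarTower _
  haveI : Ring.KrullDimLE 0 (R ⧸ I) := by
    refine Ring.krullDimLE_zero_iff.mpr fun J hJ => ?_
    have hP : (Ideal.comap (Ideal.Quotient.mk I) J).IsPrime := Ideal.comap_isPrime _ _
    have hle : I ≤ Ideal.comap (Ideal.Quotient.mk I) J := by
      intro x hx
      simp [Ideal.mem_comap, Ideal.Quotient.eq_zero_iff_mem.mpr hx]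
    obtain ⟨p, hp, hpJ⟩ := Ideal.exists_minimalPrimes_le hle
    have hpmax : p.IsMaximal :=
      h p (Module.associatedPrimes.minimalPrimes_annihilator_subset_associatedPrimes R N hp)
    have hpeq : p = Ideal.comap (Ideal.Quotient.mk I) J := hpmax.eq_of_le hP.ne_top hpJ
    haveI : (Ideal.comap (Ideal.Quotient.mk I) J).IsMaximal := hpeq ▸ hpmax
    have := Ideal.IsMaximal.map_of_surjective_of_ker_le (f := Ideal.Quotient.mk I)
      Ideal.Quotient.mk_surjective (m := Ideal.comap (Ideal.Quotient.mk I) J)
      (by rw [Ideal.mk_ker]; exact hle)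
    rwa [Ideal.map_comap_of_surjective _ Ideal.Quotient.mk_surjective] at this
  haveI : IsArtinianRing (R ⧸ I) :=
    isArtinianRing_iff_isNoetherianRing_krullDimLE_zero.mpr ⟨inferInstance, inferInstance⟩
  haveI : Module.Finite (R ⧸ I) N := Module.Finite.of_restrictScalars_finite R _ _
  haveI : IsArtinian (R ⧸ I) N := inferInstance
  exact isArtinian_of_surjective_algebraMap (R := R ⧸ I) Ideal.Quotient.mk_surjective

open MvPolynomial in
/-- Avoiding finitely many ideals by a homogeneous polynomial of degree `d` over an infinite field. -/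
lemma exists_homog_avoid (k : Type*) [Field k] [Infinite k] (σ : Type*) (d : ℕ)
    (s : Set (Ideal (MvPolynomial σ k))) (hs : s.Finite)
    (h : ∀ P ∈ s, ∃ g : MvPolynomial σ k, g.IsHomogeneous d ∧ g ∉ P)
    (hne : ∃ g : MvPolynomial σ k, g.IsHomogeneous d ∧ g ≠ 0) :
    ∃ f : MvPolynomial σ k, f.IsHomogeneous d ∧ f ≠ 0 ∧ ∀ P ∈ s, f ∉ P := by
  classical
  let E := homogeneousSubmodule σ k d
  haveI : Finite s := hs.to_subtype
  let p : Option s → Subspace k E := fun o =>
    match o with
    | none => ⊥
    | some P => ((P : Ideal (MvPolynomial σ k)).restrictScalars k).comap E.subtype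
  have hcov : ⋃ i, (p i : Set E) ≠ Set.univ := by
    intro hc
    obtain ⟨i, hi⟩ := Subspace.exists_eq_top_of_iUnion_eq_univ hc
    rcases i with _ | P
    · obtain ⟨g, hg, hg0⟩ := hne
      have : (⟨g, hg⟩ : E) ∈ (⊥ : Subspace k E) := by
        change (⟨g, hg⟩ : E) ∈ p none
        rw [hi]; trivial
      rw [Submodule.mem_bot] at this
      exact hg0 (congrArg Subtype.val this)
    · obtain ⟨g, hg, hgP⟩ := h P P.2
      have : (⟨g, hg⟩ : E) ∈ p (some P) := by rw [hi]; trivial
      exact hgP this
  obtain ⟨x, hx⟩ := (Set.ne_univ_iff_exists_notMem _).mp hcov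
  rw [Set.mem_iUnion] at hx
  push Not at hx
  refine ⟨x.1, x.2, ?_, ?_⟩
  · intro h0
    apply hx none
    change x ∈ (⊥ : Subspace k E)
    rw [Submodule.mem_bot]
    exact Subtype.ext h0
  · intro P hP hxP
    exact hx (some ⟨P, hP⟩) hxP

open MvPolynomial in
/-- A prime ideal of a polynomial ring over a field that contains all variables is maximal. -/
lemma isMaximal_of_forall_X_mem {k : Type*} [Field k] {σ : Type*}
    (P : Ideal (MvPolynomial σ k)) [hP : P.IsPrime] (h : ∀ i, (X i : MvPolynomial σ k) ∈ P) :
    P.IsMaximal := by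
  let φ : MvPolynomial σ k →ₐ[k] k := aeval (fun _ => (0 : k))
  have hφ : Function.Surjective φ := fun c => ⟨C c, by simp [φ]⟩
  haveI hker : (RingHom.ker φ.toRingHom).IsMaximal := RingHom.ker_isMaximal_of_surjective _ hφ
  have key : (Ideal.Quotient.mkₐ k P) =
      (Algebra.ofId k (MvPolynomial σ k ⧸ P)).comp φ := by
    apply MvPolynomial.algHom_ext
    intro i
    simp [φ, Ideal.Quotient.eq_zero_iff_mem.mpr (h i)]
  have hle : RingHom.ker φ.toRingHom ≤ P := by
    intro f hf
    have h1 : φ f = 0 := hf
    have : Ideal.Quotient.mkₐ k P f = 0 := by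
      rw [key]; simp [h1]
    exact Ideal.Quotient.eq_zero_iff_mem.mp this
  rw [← hker.eq_of_le hP.ne_top hle]
  exact hker

/-- Let k be an infinite field, S = k[x_0, …, x_r], M a finitely generated S-module and d a natural
number. Then some nonzero homogeneous polynomial f of degree d is quasi-regular on M: the submodule
(0 :_M f) of elements of M annihilated by f has finite length. (The published statement assumes M
graded; this row assumes only that M is finitely generated.) -/
theorem result (k : Type u) [Field k] [Infinite k] (r d : ℕ)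
    (M : Type u) [AddCommGroup M] [Module (MvPolynomial (Fin (r + 1)) k) M] [Module.Finite (MvPolynomial (Fin (r + 1)) k) M] :
    ∃ f : MvPolynomial (Fin (r + 1)) k, f.IsHomogeneous d ∧ f ≠ 0 ∧
      IsFiniteLength (MvPolynomial (Fin (r + 1)) k) ↥(Submodule.torsionBy (MvPolynomial (Fin (r + 1)) k) M f) := by
  classical
  set S := MvPolynomial (Fin (r + 1)) k with hS
  have hfin : (associatedPrimes S M).Finite := associatedPrimes.finite S M
  let s : Set (Ideal S) := {P | P ∈ associatedPrimes S M ∧ ¬ P.IsMaximal}
  have hsfin : s.Finite := hfin.subset fun P hP => hP.1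
  have h1 : ∀ P ∈ s, ∃ g : S, g.IsHomogeneous d ∧ g ∉ P := by
    intro P hP
    haveI : P.IsPrime := IsAssociatedPrime.isPrime hP.1
    by_contra hcon
    push Not at hcon
    apply hP.2
    apply isMaximal_of_forall_X_mem
    intro i
    have : (MvPolynomial.X i : S) ^ d ∈ P :=
      hcon _ (by simpa using (MvPolynomial.isHomogeneous_X k i).pow d)
    exact Ideal.IsPrime.mem_of_pow_mem ‹_› d this
  have h2 : ∃ g : S, g.IsHomogeneous d ∧ g ≠ 0 :=
    ⟨(MvPolynomial.X 0) ^ d, by simpa using (MvPolynomial.isHomogeneous_X k (0 : Fin (r+1))).pow d,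
      pow_ne_zero _ (MvPolynomial.X_ne_zero _)⟩
  obtain ⟨f, hf, hf0, hfs⟩ := exists_homog_avoid k (Fin (r + 1)) d s hsfin h1 h2
  refine ⟨f, hf, hf0, ?_⟩
  apply isFiniteLength_of_assPrimes_maximal
  intro Q hQ
  by_contra hmax
  have hQM : Q ∈ associatedPrimes S M :=
    associatedPrimes.subset_of_injective (f := (Submodule.torsionBy S M f).subtype)
      (Submodule.injective_subtype _) hQ
  have hfQ : f ∈ Q := by
    apply IsAssociatedPrime.annihilator_le hQ
    rw [Module.mem_annihilator]
    intro m
    exact Subtype.ext (by simpa using m.2)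
  exact hfs Q ⟨hQM, hmax⟩ hfQ

end Groth.Agent.S12916
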