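import Groth.Statements.S12918
import Groth.Agent.H62.TotInt2

set_option autoImplicit false
universe u v w
open HopfRep

namespace Groth.Agent.S12918

/-- Let `k` be a commutative ring, `A` a commutative Hopf algebra over `k`, flat as a `k`-module and `B`
a commutative `k`-algebra with a coaction `ρ : B → B ⊗ A` that is an algebra map (an action of the
affine group scheme `Spec A` on `Spec B`). Then the action admits a total integral — a comodule map
`α : A → B`, for the regular coaction on `A`, with `α 1 = 1` — if and only if `ρ` has a left inverse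
`B ⊗ A → B` which is a comodule map for the coaction `id ⊗ Δ` on `B ⊗ A`. -/
theorem result
    (k : Type u) [CommRing k] (A : Type v) [CommRing A] [HopfAlgebra k A] [Module.Flat k A]
    (B : Type w) [CommRing B] [Algebra k B] [HopfRep.Comod k A B] [GLin.IsCoactAlg k A B] :
    (∃ α : A →ₗ[k] B, Hoch.IsComodHom A α ∧ α 1 = 1) ↔
      ∃ lam : Hoch.Ind k A B →ₗ[k] B, Hoch.IsComodHom A lam ∧ lam ∘ₗ Hoch.toInd k A B = LinearMap.id := by
  constructor
  · rintro ⟨α, hα, hα1⟩
    refine ⟨(Groth.Agent.H62.TotInt.lam α : TensorProduct k B A →ₗ[k] B), ?_, ?_⟩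
    · change Groth.Agent.H40.ρ k A B ∘ₗ Groth.Agent.H62.TotInt.lam α =
        (Groth.Agent.H62.TotInt.lam α).rTensor A ∘ₗ Hoch.Ind.coactAux k A B
      exact LinearMap.ext fun x => Groth.Agent.H62.TotInt.coact_lam hα x
    · exact LinearMap.ext fun b => Groth.Agent.H62.TotInt.lam_coact α hα1 b
  · rintro ⟨lam', h1, h2⟩
    let lam₀ : TensorProduct k B A →ₗ[k] B := lam'
    have h1' : ∀ x : TensorProduct k B A, Groth.Agent.H40.ρ k A B (lam₀ x) =
        lam₀.rTensor A (Hoch.Ind.coactAux k A B x) := fun x => LinearMap.congr_fun h1 x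
    have h2' : ∀ b : B, lam₀ (Groth.Agent.H40.ρ k A B b) = b := fun b => LinearMap.congr_fun h2 b
    refine ⟨lam₀ ∘ₗ TensorProduct.mk k B A 1, ?_, ?_⟩
    · change Groth.Agent.H40.ρ k A B ∘ₗ (lam₀ ∘ₗ TensorProduct.mk k B A 1) =
        (lam₀ ∘ₗ TensorProduct.mk k B A 1).rTensor A ∘ₗ
          (CoalgebraStruct.comul (R := k) (A := A))
      refine LinearMap.ext fun a => ?_
      rw [LinearMap.comp_apply, LinearMap.comp_apply, LinearMap.comp_apply,
        TensorProduct.mk_apply, h1', Hoch.Ind.coactAux_tmul]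
      exact Groth.Agent.H62.TotInt.rTensor_assoc_symm_one_tmul lam₀ _
    · change lam₀ ((1 : B) ⊗ₜ[k] (1 : A)) = 1
      have h := h2' 1
      have h3 : Groth.Agent.H40.ρ k A B (1 : B) = 1 := GLin.IsCoactAlg.coact_one (k := k) (A := A)
      rw [h3, Algebra.TensorProduct.one_def] at h
      exact h

end Groth.Agent.S12918
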