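import Groth.Statements.S1292
import Groth.Agent.H56.TorAscent
import Groth.Agent.H47.HensNoeth3
-- import your own Groth.Agent.* helpers here

set_option autoImplicit false
universe u
open CategoryTheory
attribute [local instance] HasDerivedCategory.standard
open FlatMor

namespace Groth.Agent.S1292

open IsLocalRing in
/-- Let A be a ring, p a prime ideal of A, Ah a henselization and Ash a strict henselization of the
local ring A_p, with Ash an Ah-algebra compatibly with the structure maps from A_p, and a, b
integers. Tor amplitude is meant in the flat-representative form: an object of the derived category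
of a ring has tor amplitude in [a, b] when it is isomorphic to a complex of flat modules vanishing
outside degrees [a, b]. For K in D(Ash) the following are equivalent: K with scalars restricted to
A_p has tor amplitude in [a, b]; K with scalars restricted to Ah has tor amplitude in [a, b]; K has
tor amplitude in [a, b] over Ash. Moreover, for L in D(Ah): L with scalars restricted to A_p has tor
amplitude in [a, b] if and only if L has tor amplitude in [a, b] over Ah. (The published statement
is for a general scheme S; this is the case S = Spec A.) -/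
theorem result {A : Type u} [CommRing A] (p : Ideal A) [p.IsPrime]
    (Ah Ash : Type u) [CommRing Ah] [IsLocalRing Ah] [CommRing Ash] [IsLocalRing Ash]
    [Algebra (Localization.AtPrime p) Ah] [IsLocalHom (algebraMap (Localization.AtPrime p) Ah)] [Hensel.IsHenselization (Localization.AtPrime p) Ah]
    [Algebra (Localization.AtPrime p) Ash] [IsLocalHom (algebraMap (Localization.AtPrime p) Ash)] [Hensel.IsStrictHenselization (Localization.AtPrime p) Ash]
    [Algebra Ah Ash] [IsScalarTower (Localization.AtPrime p) Ah Ash]
    (a b : ℤ) (K : Dual.D Ash) (L : Dual.D Ah) :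
    [DRing.HasTorAmplitudeIn (Localization.AtPrime p) a b ((DRing.restrictD (algebraMap (Localization.AtPrime p) Ash)).obj K),
     DRing.HasTorAmplitudeIn Ah a b ((DRing.restrictD (algebraMap Ah Ash)).obj K),
     DRing.HasTorAmplitudeIn Ash a b K].TFAE ∧
    (DRing.HasTorAmplitudeIn (Localization.AtPrime p) a b ((DRing.restrictD (algebraMap (Localization.AtPrime p) Ah)).obj L) ↔
      DRing.HasTorAmplitudeIn Ah a b L) := by
  have hh := Groth.Agent.H47.HensNoeth.isIndEtaleLocal_of_isHenselization
    (Localization.AtPrime p) Ah
  have hsh := Groth.Agent.H47.HensNoeth.isIndEtaleLocal_of_isStrictHenselization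
    (Localization.AtPrime p) Ash
  haveI := hh.flat
  haveI := hsh.flat
  have hWh : ∀ M : ModuleCat.{u} Ah,
      Module.Flat (Localization.AtPrime p)
        ((Groth.Agent.H82.TorBC2.Rs (Localization.AtPrime p) Ah).obj M) → Module.Flat Ah M := by
    intro M hM
    haveI := hM
    have h1 : Module.Flat Ah ((Groth.Agent.H82.TorBC2.Rs (Localization.AtPrime p) Ah).obj M) :=
      Groth.Agent.H47.HensNoeth.flat_of_rep hh.rep
    exact h1
  have hWsh : ∀ M : ModuleCat.{u} Ash,
      Module.Flat (Localization.AtPrime p)
        ((Groth.Agent.H82.TorBC2.Rs (Localization.AtPrime p) Ash).obj M) → Module.Flat Ash M := by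
    intro M hM
    haveI := hM
    have h1 : Module.Flat Ash ((Groth.Agent.H82.TorBC2.Rs (Localization.AtPrime p) Ash).obj M) :=
      Groth.Agent.H47.HensNoeth.flat_of_rep hsh.rep
    exact h1
  haveI hflat23 : Module.Flat Ah Ash :=
    Groth.Agent.H47.HensNoeth.flat_of_rep (R := Localization.AtPrime p) hh.rep
  have hW23 : ∀ M : ModuleCat.{u} Ash,
      Module.Flat Ah ((Groth.Agent.H82.TorBC2.Rs Ah Ash).obj M) → Module.Flat Ash M := by
    intro M hM
    haveI := hM
    have h1 : Module.Flat (Localization.AtPrime p)
        ((Groth.Agent.H82.TorBC2.Rs (Localization.AtPrime p) Ah).obj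
          ((Groth.Agent.H82.TorBC2.Rs Ah Ash).obj M)) :=
      Groth.Agent.H56.WeakEtale.flat_Rs (Localization.AtPrime p) Ah
        ((Groth.Agent.H82.TorBC2.Rs Ah Ash).obj M)
    let e : ((Groth.Agent.H82.TorBC2.Rs (Localization.AtPrime p) Ash).obj M) ≃ₗ[Localization.AtPrime p]
        ((Groth.Agent.H82.TorBC2.Rs (Localization.AtPrime p) Ah).obj
          ((Groth.Agent.H82.TorBC2.Rs Ah Ash).obj M)) :=
      { toFun := fun m => m
        invFun := fun m => m
        left_inv := fun _ => rfl
        right_inv := fun _ => rfl
        map_add' := fun _ _ => rfl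
        map_smul' := fun r m => by
          show algebraMap (Localization.AtPrime p) Ash r • (show M from m) =
            algebraMap Ah Ash (algebraMap (Localization.AtPrime p) Ah r) • (show M from m)
          rw [← IsScalarTower.algebraMap_apply] }
    exact hWsh M ((Module.Flat.equiv_iff e).2 h1)
  refine ⟨?_, Groth.Agent.H56.TorAscent.hasTorAmplitudeIn_restrictD_iff
    (Localization.AtPrime p) Ah hWh L a b⟩
  tfae_have 1 ↔ 3 := Groth.Agent.H56.TorAscent.hasTorAmplitudeIn_restrictD_iff
    (Localization.AtPrime p) Ash hWsh K a b
  tfae_have 2 ↔ 3 := Groth.Agent.H56.TorAscent.hasTorAmplitudeIn_restrictD_iff Ah Ash hW23 K a b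
  tfae_finish

end Groth.Agent.S1292
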