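import Groth.Statements.S12925
import Mathlib

set_option autoImplicit false
universe u w
open HopfRep

namespace Groth.Agent.S12925

open TensorProduct in
/-- Let `k` be a commutative ring, `M` a commutative group and `B` a commutative `k`-algebra with a
coaction of the group algebra `k[M]` that is an algebra map (an action of the diagonalizable group
scheme `D(M) = Spec k[M]` on `Spec B`). Then the action is tame: there is a comodule map `α : k[M] →
B`, for the regular coaction on `k[M]`, with `α 1 = 1`. -/
theorem result
    (k : Type u) [CommRing k] (M : Type u) [CommGroup M]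
    (B : Type w) [CommRing B] [Algebra k B] [HopfRep.Comod k (MonoidAlgebra k M) B]
    [GLin.IsCoactAlg k (MonoidAlgebra k M) B] :
    ∃ α : MonoidAlgebra k M →ₗ[k] B, Hoch.IsComodHom (MonoidAlgebra k M) α ∧ α 1 = 1 := by
  classical
  let c : MonoidAlgebra k M →ₗ[k] k :=
    Finsupp.lapply (1 : M) ∘ₗ (MonoidAlgebra.coeffLinearEquiv k).toLinearMap
  have hc : ∀ (m : M) (r : k), c (MonoidAlgebra.single m r) = if m = 1 then r else 0 := by
    intro m r
    simp [c, MonoidAlgebra.coeffLinearEquiv, Finsupp.single_apply]
  refine ⟨Algebra.linearMap k B ∘ₗ c, ?_, ?_⟩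
  · unfold Hoch.IsComodHom
    apply MonoidAlgebra.lhom_ext'
    intro m
    apply LinearMap.ext_ring
    simp only [LinearMap.comp_apply, MonoidAlgebra.lsingle_apply]
    change _ = (Algebra.linearMap k B ∘ₗ c).rTensor (MonoidAlgebra k M)
      (Coalgebra.comul (R := k) (MonoidAlgebra.single m (1 : k)))
    rw [MonoidAlgebra.comul_single, hc]
    simp only [CommSemiring.comul_apply, TensorProduct.map_tmul, MonoidAlgebra.lsingle_apply,
      LinearMap.rTensor_tmul, LinearMap.comp_apply, hc]
    by_cases hm : m = 1
    · subst hm
      simp only [if_true, Algebra.linearMap_apply, map_one]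
      rw [GLin.IsCoactAlg.coact_one (k := k) (A := MonoidAlgebra k M) (R := B),
        Algebra.TensorProduct.one_def, MonoidAlgebra.one_def]
    · simp [hm]
  · simp only [LinearMap.comp_apply, MonoidAlgebra.one_def, hc]
    simp

end Groth.Agent.S12925
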