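import Groth.Statements.S12926
import Mathlib

set_option autoImplicit false
universe u v
open HopfRep

namespace Groth.Agent.S12926

open TensorProduct in
/-- Let `k` be a commutative ring and `A` a commutative bialgebra over `k`, flat as a `k`-module. If the
submodule `k · 1` of the regular comodule `A` has a complement `H` which is a subcomodule — the case
used when `A` is cosemisimple, i.e. every subcomodule of every comodule is a direct summand as a
comodule — then the trivial action of `Spec A` on `Spec k` is tame: there is a comodule map `α : A →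
k`, for the regular coaction on `A` and the trivial coaction `r ↦ r ⊗ 1` on `k`, with `α 1 = 1`. -/
theorem result
    (k : Type u) [CommRing k] (A : Type v) [CommRing A] [Bialgebra k A] [Module.Flat k A]
    (H : Submodule k A) (hH : HopfRep.IsSubcomod (k := k) (A := A) H)
    (hc : IsCompl (Submodule.span k {(1 : A)}) H) :
    ∃ α : A →ₗ[k] k, @Hoch.IsComodHom k _ A _ _ _ A _ _ _ k _ _ (HopfRep.Comod.trivial k A k) α ∧ α 1 = 1 := by
  let P := Submodule.span k {(1 : A)}
  let π : A →ₗ[k] P := Submodule.projectionOnto P H hc
  let α : A →ₗ[k] k := (Coalgebra.counit (R := k) (A := A)) ∘ₗ P.subtype ∘ₗ π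
  have h1mem : (1 : A) ∈ P := Submodule.mem_span_singleton_self 1
  have hα1 : α 1 = 1 := by
    simp only [α, LinearMap.comp_apply, π]
    have : Submodule.projectionOnto P H hc ((⟨1, h1mem⟩ : P) : A) = ⟨1, h1mem⟩ :=
      Submodule.projectionOnto_apply_left hc ⟨1, h1mem⟩
    change Coalgebra.counit (R := k) (A := A)
      (P.subtype (Submodule.projectionOnto P H hc (1 : A))) = 1
    have h' : Submodule.projectionOnto P H hc (1 : A) = ⟨1, h1mem⟩ := this
    rw [h']
    simp [Bialgebra.counit_one]
  have hαH : ∀ h ∈ H, α h = 0 := by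
    intro h hh
    simp only [α, LinearMap.comp_apply, π]
    rw [Submodule.projectionOnto_apply_of_mem_right hc hh]
    simp
  refine ⟨α, ?_, hα1⟩
  unfold Hoch.IsComodHom
  ext a
  simp only [LinearMap.comp_apply]
  change (α a) ⊗ₜ[k] (1 : A) = α.rTensor A (Coalgebra.comul (R := k) a)
  -- decompose a
  have ha : a ∈ P ⊔ H := by rw [hc.sup_eq_top]; trivial
  obtain ⟨p, hp, h, hh, rfl⟩ := Submodule.mem_sup.mp ha
  obtain ⟨r, rfl⟩ := Submodule.mem_span_singleton.mp hp
  rw [map_add, map_add, map_add, TensorProduct.add_tmul]
  congr 1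
  · rw [map_smul, map_smul, map_smul, hα1, Bialgebra.comul_one, Algebra.TensorProduct.one_def,
      LinearMap.rTensor_tmul, hα1, TensorProduct.smul_tmul']
  · rw [hαH h hh, TensorProduct.zero_tmul]
    obtain ⟨y, hy⟩ := hH h hh
    change (H.subtype.rTensor A) y = Coalgebra.comul (R := k) h at hy
    rw [← hy, ← LinearMap.comp_apply, ← LinearMap.rTensor_comp]
    have : α ∘ₗ H.subtype = 0 := by
      ext x
      simp [hαH x.1 x.2]
    rw [this, LinearMap.rTensor_zero, LinearMap.zero_apply]

end Groth.Agent.S12926
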