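import Groth.Statements.S12928
import Groth.Agent.H62.DualProj
import Groth.Agent.H40.HomComod

set_option autoImplicit false
universe u
open HopfRep

namespace Groth.Agent.S12928

section Helpers

open TensorProduct Groth.Agent.H40.HomComod Groth.Agent.H62.DualProj

variable {k : Type u} [CommRing k] {A : Type u} [CommRing A] [HopfAlgebra k A]
  [Module.Finite k A] [Module.Projective k A]
  {B : Type u} [CommRing B] [Algebra k B] [HopfRep.Comod k A B] [GLin.IsCoactAlg k A B]

theorem hopf_aux (y' y : B ⊗[k] A) (z : Module.Dual k A ⊗[k] A) :
    TensorProduct.map LinearMap.id (LinearMap.mul' k A)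
      (AlgebraTensorModule.tensorTensorTensorComm k k k k B A (Module.Dual k A) A
        ((y' * y) ⊗ₜ[k] z)) =
    TameAct.hmSMul k A B (B ⊗[k] Module.Dual k A) y'
      (TensorProduct.map LinearMap.id (LinearMap.mul' k A)
        (AlgebraTensorModule.tensorTensorTensorComm k k k k B A (Module.Dual k A) A
          (y ⊗ₜ[k] z))) := by
  induction y' using TensorProduct.induction_on with
  | zero => simp
  | add y1 y2 h1 h2 =>
    simp only [add_mul, TensorProduct.add_tmul, map_add, h1, h2, LinearMap.add_apply]
  | tmul b' a' =>
    induction y using TensorProduct.induction_on with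
    | zero => simp
    | add y1 y2 h1 h2 => simp only [mul_add, TensorProduct.add_tmul, map_add, h1, h2]
    | tmul b a =>
      induction z using TensorProduct.induction_on with
      | zero => simp
      | add z1 z2 h1 h2 => simp only [TensorProduct.tmul_add, map_add, h1, h2]
      | tmul φ c =>
        simp only [Algebra.TensorProduct.tmul_mul_tmul,
          AlgebraTensorModule.tensorTensorTensorComm_tmul, TensorProduct.map_tmul,
          LinearMap.id_apply, LinearMap.mul'_apply, TameAct.hmSMul_tmul,
          TensorProduct.smul_tmul', smul_eq_mul, mul_assoc]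

theorem hmSMul_self (y' y : B ⊗[k] A) : TameAct.hmSMul k A B B y' y = y' * y := by
  induction y' using TensorProduct.induction_on with
  | zero => simp
  | add y1 y2 h1 h2 => simp only [add_mul, map_add, h1, h2, LinearMap.add_apply]
  | tmul b' a' =>
    induction y using TensorProduct.induction_on with
    | zero => simp
    | add y1 y2 h1 h2 => simp only [mul_add, map_add, h1, h2]
    | tmul b a =>
      simp only [TameAct.hmSMul_tmul, Algebra.TensorProduct.tmul_mul_tmul, smul_eq_mul]

theorem isHopfMod_self : TameAct.IsHopfMod k A B B where
  coact_smul := by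
    intro b m
    rw [smul_eq_mul, GLin.IsCoactAlg.coact_mul (k := k) (A := A), hmSMul_self]

/-- evaluation at `1`, as a `B`-linear map -/
noncomputable def ev1 : B ⊗[k] Module.Dual k A →ₗ[B] B :=
  { cm B (1 : A) with
    map_smul' := by
      intro b' x
      induction x using TensorProduct.induction_on with
      | zero => simp
      | add x y hx hy =>
        simp only [smul_add, map_add, AddHom.toFun_eq_coe, LinearMap.coe_toAddHom] at hx hy ⊢
        rw [hx, hy]
      | tmul b φ =>
        simp only [AddHom.toFun_eq_coe, LinearMap.coe_toAddHom, TensorProduct.smul_tmul',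
          cm_tmul, RingHom.id_apply, smul_eq_mul]
        rw [mul_smul_comm] }

theorem ev1_apply (x : B ⊗[k] Module.Dual k A) : ev1 (k := k) (A := A) (B := B) x = cm B (1 : A) x :=
  rfl

end Helpers

open TensorProduct

/-- Let `k` be a commutative ring, `A` a commutative Hopf algebra over `k` which is finite locally free
(finite projective, in particular flat) as a `k`-module, `B` a commutative `k`-algebra with a
coaction of `A` that is an algebra map, and `C = B^A` the ring of invariants; assume `C` Noetherian
and `B` finite and flat over `C`. If taking invariants is exact on `(B, A)`-modules — for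
`B`-modules `M`, `N` with compatible `A`-coactions (in the universe of `k`, `A`, `B`) every
surjective `B`-linear comodule map `M → N` maps `M^A` onto `N^A` — then the action is tame: there is
a comodule map `α : A → B` with `α 1 = 1`. Together with the converse (a total integral makes
invariants exact) this says that tameness of the action is the exactness of invariants. (The
published statement does not assume `B` finite over `C`; its proof uses that finiteness, which is
assumed here.) -/
theorem result
    (k : Type u) [CommRing k] (A : Type u) [CommRing A] [HopfAlgebra k A] [Module.Flat k A]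
    [Module.Finite k A] [Module.Projective k A]
    (B : Type u) [CommRing B] [Algebra k B] [HopfRep.Comod k A B] [GLin.IsCoactAlg k A B]
    [IsNoetherianRing (GLin.invariants k A B)] [Module.Finite (GLin.invariants k A B) B] [Module.Flat (GLin.invariants k A B) B]
    (hexact : ∀ (M N : Type u) [AddCommGroup M] [Module k M] [Module B M] [IsScalarTower k B M]
      [HopfRep.Comod k A M] [TameAct.IsHopfMod k A B M]
      [AddCommGroup N] [Module k N] [Module B N] [IsScalarTower k B N]
      [HopfRep.Comod k A N] [TameAct.IsHopfMod k A B N] (f : M →ₗ[B] N),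
      Hoch.IsComodHom A (f.restrictScalars k) → Function.Surjective f →
      ∀ n ∈ HopfRep.fixedPts k A N, ∃ m ∈ HopfRep.fixedPts k A M, f m = n) :
    ∃ α : A →ₗ[k] B, Hoch.IsComodHom A α ∧ α 1 = 1 := by
  classical
  let cA : HopfRep.Comod k A A := inferInstance
  let cB : HopfRep.Comod k A B := inferInstance
  let d : HopfRep.Comod k A (Module.Dual k A) := Groth.Agent.H62.DualProj.dualComod cA
  have hd : ComodTens.Comod.IsDual cA d := Groth.Agent.H62.DualProj.isDual_dualComod cA
  letI cM : HopfRep.Comod k A (B ⊗[k] Module.Dual k A) := ComodTens.Comod.tensor cB d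
  haveI hM : TameAct.IsHopfMod k A B (B ⊗[k] Module.Dual k A) := by
    constructor
    intro b' x
    induction x using TensorProduct.induction_on with
    | zero => simp
    | add x y hx hy => rw [smul_add, map_add, map_add, hx, hy, map_add]
    | tmul b φ =>
      rw [TensorProduct.smul_tmul', smul_eq_mul]
      change (ComodTens.Comod.tensor cB d).coact ((b' * b) ⊗ₜ[k] φ) =
        TameAct.hmSMul k A B (B ⊗[k] Module.Dual k A) (cB.coact b')
          ((ComodTens.Comod.tensor cB d).coact (b ⊗ₜ[k] φ))
      rw [ComodTens.tensor_coact_tmul, ComodTens.tensor_coact_tmul,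
        GLin.IsCoactAlg.coact_mul (k := k) (A := A), hopf_aux]
  haveI hB : TameAct.IsHopfMod k A B B := isHopfMod_self
  have hcomod : Hoch.IsComodHom A ((ev1 (k := k) (A := A) (B := B)).restrictScalars k) := by
    change cB.coact ∘ₗ _ = LinearMap.rTensor A _ ∘ₗ (ComodTens.Comod.tensor cB d).coact
    apply LinearMap.ext
    intro x
    have h1 := Groth.Agent.H40.HomComod.rTensor_cm_tensor_coact cB cA d hd x (1 : A)
    have h2 : Groth.Agent.H40.HomComod.Tw cB cA (Groth.Agent.H40.HomComod.Φ x) (1 : A) =
        cB.coact (Groth.Agent.H40.HomComod.cm B (1 : A) x) := by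
      rw [Groth.Agent.H40.HomComod.Tw]
      simp only [LinearMap.comp_apply]
      have : cA.coact (1 : A) = (1 : A) ⊗ₜ[k] (1 : A) := by
        change CoalgebraStruct.comul (R := k) (1 : A) = _
        rw [Bialgebra.comul_one, Algebra.TensorProduct.one_def]
      rw [this, TensorProduct.map_tmul, HopfAlgebra.antipode_one, LinearMap.comp_apply,
        Groth.Agent.H40.HomComod.m₂_one, Groth.Agent.H40.HomComod.Φ_apply]
    simp only [LinearMap.comp_apply]
    change cB.coact (Groth.Agent.H40.HomComod.cm B (1 : A) x) =
      LinearMap.rTensor A (Groth.Agent.H40.HomComod.cm B (1 : A))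
        ((ComodTens.Comod.tensor cB d).coact x)
    rw [h1, h2]
  have hsurj : Function.Surjective (ev1 (k := k) (A := A) (B := B)) := by
    intro b
    refine ⟨b ⊗ₜ[k] (CoalgebraStruct.counit (R := k) (A := A)), ?_⟩
    rw [ev1_apply, Groth.Agent.H40.HomComod.cm_tmul, Bialgebra.counit_one, one_smul]
  have hone : (1 : B) ∈ HopfRep.fixedPts k A B := by
    change HopfRep.Comod.coact (k := k) (A := A) (1 : B) = (1 : B) ⊗ₜ[k] (1 : A)
    rw [GLin.IsCoactAlg.coact_one (k := k) (A := A), Algebra.TensorProduct.one_def]
  obtain ⟨m, hm, hfm⟩ := hexact (B ⊗[k] Module.Dual k A) B ev1 hcomod hsurj 1 hone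
  refine ⟨Groth.Agent.H40.HomComod.Φ m, ?_, ?_⟩
  · exact Groth.Agent.H40.HomComod.isComodHom_Φ_of_mem_fixedPts cB cA d hd m hm
  · rw [Groth.Agent.H40.HomComod.Φ_apply, ← ev1_apply, hfm]

end Groth.Agent.S12928
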