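import Groth.Statements.S12929
import Mathlib

set_option autoImplicit false
universe u v w w'
open HopfRep

namespace Groth.Agent.S12929

open TensorProduct

section aux

variable (k : Type u) [CommRing k] (A : Type v) [CommRing A] [Bialgebra k A]
variable (M : Type w) [AddCommGroup M] [Module k M]
variable (N : Type w') [AddCommGroup N] [Module k N]

/-- `id ⊗ ε` followed by `N ⊗ k ≅ N`. -/
noncomputable def cN : N ⊗[k] A →ₗ[k] N :=
  (TensorProduct.rid k N).toLinearMap ∘ₗ (Coalgebra.counit (R := k) (A := A)).lTensor N

@[simp] theorem cN_tmul (n : N) (a : A) : cN k A N (n ⊗ₜ[k] a) = Coalgebra.counit (R := k) a • n := by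
  simp [cN]

theorem lemA (h : M →ₗ[k] N) (z : M ⊗[k] A) :
    (Coalgebra.comul (R := k) (A := A)).lTensor N (h.rTensor A z) =
      h.rTensor (A ⊗[k] A) ((Coalgebra.comul (R := k) (A := A)).lTensor M z) := by
  induction z using TensorProduct.induction_on with
  | zero => simp
  | tmul m a => simp
  | add x y hx hy => simp only [map_add, hx, hy]

theorem lemB (h : M →ₗ[k] N) (w : M ⊗[k] (A ⊗[k] A)) :
    (TensorProduct.assoc k N A A).symm (h.rTensor (A ⊗[k] A) w) =
      (h.rTensor A).rTensor A ((TensorProduct.assoc k M A A).symm w) := by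
  induction w using TensorProduct.induction_on with
  | zero => simp
  | tmul m x =>
    induction x using TensorProduct.induction_on with
    | zero => simp
    | tmul a b => simp
    | add x y hx hy => simp only [TensorProduct.tmul_add, map_add, hx, hy]
  | add x y hx hy => simp only [map_add, hx, hy]

theorem lemC (y : N ⊗[k] A) :
    (cN k A N).rTensor A (Hoch.Ind.coactAux k A N y) = y := by
  induction y using TensorProduct.induction_on with
  | zero => simp
  | tmul n a =>
    rw [Hoch.Ind.coactAux_tmul]
    have key : (cN k A N).rTensor A ∘ₗ (TensorProduct.assoc k N A A).symm.toLinearMap ∘ₗ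
        TensorProduct.mk k N (A ⊗[k] A) n =
        (TensorProduct.mk k N A n) ∘ₗ (TensorProduct.lid k A).toLinearMap ∘ₗ
          (Coalgebra.counit (R := k) (A := A)).rTensor A := by
      refine TensorProduct.ext' fun x y => ?_
      simp [TensorProduct.smul_tmul]
    have := LinearMap.congr_fun key (Coalgebra.comul (R := k) a)
    simp only [LinearMap.comp_apply, LinearEquiv.coe_coe, TensorProduct.mk_apply] at this
    rw [this, Coalgebra.rTensor_counit_comul]
    simp
  | add x y hx hy => simp only [map_add, hx, hy]

theorem cN_natural (h : M →ₗ[k] N) (z : M ⊗[k] A) :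
    cN k A N (h.rTensor A z) = h (cN k A M z) := by
  induction z using TensorProduct.induction_on with
  | zero => simp
  | tmul m a => simp
  | add x y hx hy => simp only [map_add, hx, hy]

end aux

/-- Let `k` be a commutative ring, `A` a commutative Hopf algebra over `k`, `M` a right `A`-comodule and
`N` a `k`-module; give `N ⊗ A` the coaction `id ⊗ Δ`. Then for every `k`-linear map `h : M → N` the
composite `(h ⊗ id_A) ∘ ρ_M : M → N ⊗ A` is a comodule map, and every comodule map `f : M → N ⊗ A`
is of this form for exactly one `h` (which is `(id_N ⊗ ε) ∘ f`): comodule maps `M → N ⊗ A`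
correspond bijectively to linear maps `M → N`. -/
theorem result
    (k : Type u) [CommRing k] (A : Type v) [CommRing A] [HopfAlgebra k A]
    (M : Type w) [AddCommGroup M] [Module k M] [HopfRep.Comod k A M]
    (N : Type w') [AddCommGroup N] [Module k N] :
    (∀ h : M →ₗ[k] N, Hoch.IsComodHom A
        ((Hoch.Ind.equiv k A N).toLinearMap ∘ₗ h.rTensor A ∘ₗ HopfRep.Comod.coact (k := k) (A := A))) ∧
      ∀ f : M →ₗ[k] Hoch.Ind k A N, Hoch.IsComodHom A f →
        ∃! h : M →ₗ[k] N,
          f = (Hoch.Ind.equiv k A N).toLinearMap ∘ₗ h.rTensor A ∘ₗ HopfRep.Comod.coact (k := k) (A := A) := by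
  have hco : ∀ m : M, (HopfRep.Comod.coact (k := k) (A := A)).rTensor A
      (HopfRep.Comod.coact (k := k) (A := A) m) =
      (TensorProduct.assoc k M A A).symm ((Coalgebra.comul (R := k) (A := A)).lTensor M
        (HopfRep.Comod.coact (k := k) (A := A) m)) := by
    intro m
    have := LinearMap.congr_fun (HopfRep.Comod.coassoc (k := k) (A := A) (V := M)) m
    simp only [LinearMap.comp_apply, LinearEquiv.coe_coe] at this
    rw [← this, LinearEquiv.symm_apply_apply]
  have hcounit : ∀ m : M, cN k A M (HopfRep.Comod.coact (k := k) (A := A) m) = m := by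
    intro m
    have := LinearMap.congr_fun (HopfRep.Comod.counit_comp (k := k) (A := A) (V := M)) m
    simp only [LinearMap.comp_apply, LinearMap.flip_apply, TensorProduct.mk_apply] at this
    simp only [cN, LinearMap.comp_apply, LinearEquiv.coe_coe]
    rw [this]
    simp
  constructor
  · intro h
    unfold Hoch.IsComodHom
    ext m
    change Hoch.Ind.coactAux k A N (h.rTensor A (HopfRep.Comod.coact (k := k) (A := A) m)) =
      (h.rTensor A ∘ₗ HopfRep.Comod.coact (k := k) (A := A)).rTensor A
        (HopfRep.Comod.coact (k := k) (A := A) m)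
    rw [LinearMap.rTensor_comp, LinearMap.comp_apply, hco, ← lemB, ← lemA]
    rfl
  · have main : ∀ f' : M →ₗ[k] N ⊗[k] A,
        (∀ m : M, Hoch.Ind.coactAux k A N (f' m) =
          f'.rTensor A (HopfRep.Comod.coact (k := k) (A := A) m)) →
        ∃! h : M →ₗ[k] N, f' = h.rTensor A ∘ₗ HopfRep.Comod.coact (k := k) (A := A) := by
      intro f' hf'
      refine ⟨cN k A N ∘ₗ f', ?_, ?_⟩
      · ext m
        simp only [LinearMap.comp_apply]
        rw [LinearMap.rTensor_comp, LinearMap.comp_apply, ← hf']
        exact (lemC k A N (f' m)).symm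
      · intro h' hh'
        ext m
        have : f' m = h'.rTensor A (HopfRep.Comod.coact (k := k) (A := A) m) := by
          rw [hh']; rfl
        simp only [LinearMap.comp_apply]
        rw [this, cN_natural, hcounit]
    intro f hf
    exact main f (fun m => LinearMap.congr_fun hf m)

end Groth.Agent.S12929
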