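import Groth.Statements.S12931
import Mathlib

set_option autoImplicit false
universe u v w
open HopfRep

namespace Groth.Agent.S12931

/-- Let `R` be a commutative ring, `Γ` a finite set and `T` a commutative `R`-algebra which is
connected: nonzero, with no idempotents other than `0` and `1`. Then `γ ↦ (evaluation at γ : (Γ → R)
→ R → T)` is a bijection from `Γ` onto the `R`-algebra maps `(Γ → R) → T`: every such map sends
exactly one of the indicator functions to `1` and the others to `0`. (Only the bijection of sets is
stated; when `Γ` is a group, the compatibility with the group structures on both sides is not.) -/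
theorem result
    (R : Type u) [CommRing R] (Γ : Type v) [Finite Γ]
    (T : Type w) [CommRing T] [Algebra R T] [Nontrivial T]
    (hT : ∀ e : T, IsIdempotentElem e → e = 0 ∨ e = 1) :
    Function.Bijective (fun γ : Γ => (Algebra.ofId R T).comp (Pi.evalAlgHom R (fun _ : Γ => R) γ)) := by
  classical
  cases nonempty_fintype Γ
  constructor
  · intro γ γ' h
    by_contra hne
    have h1 := DFunLike.congr_fun h (Pi.single γ (1 : R))
    simp only [AlgHom.comp_apply, Pi.evalAlgHom_apply, Pi.single_eq_same] at h1
    rw [Pi.single_eq_of_ne (Ne.symm hne)] at h1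
    simp at h1
  · intro φ
    -- the idempotents
    let e : Γ → (Γ → R) := fun γ => Pi.single γ (1 : R)
    have hidem : ∀ γ, IsIdempotentElem (φ (e γ)) := by
      intro γ
      unfold IsIdempotentElem
      rw [← map_mul]
      congr 1
      ext x
      simp only [e, Pi.mul_apply]
      by_cases hx : x = γ
      · subst hx; simp
      · simp [Pi.single_eq_of_ne hx]
    have horth : ∀ γ γ', γ ≠ γ' → φ (e γ) * φ (e γ') = 0 := by
      intro γ γ' hne
      rw [← map_mul]
      have : e γ * e γ' = 0 := by
        ext x
        simp only [e, Pi.mul_apply, Pi.zero_apply]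
        by_cases hx : x = γ
        · subst hx; simp [Pi.single_eq_of_ne hne]
        · simp [Pi.single_eq_of_ne hx]
      rw [this, map_zero]
    have hsum : ∑ γ, φ (e γ) = 1 := by
      rw [← map_sum]
      have : ∑ γ, e γ = 1 := by
        ext x
        simp [e, Finset.sum_apply, Pi.single_apply]
      rw [this, map_one]
    have hex : ∃ γ₀, φ (e γ₀) = 1 := by
      by_contra hcon
      push Not at hcon
      have : ∀ γ, φ (e γ) = 0 := fun γ => (hT _ (hidem γ)).resolve_right (hcon γ)
      simp [this] at hsum
    obtain ⟨γ₀, hγ₀⟩ := hex
    have hother : ∀ γ, γ ≠ γ₀ → φ (e γ) = 0 := by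
      intro γ hne
      have := horth γ γ₀ hne
      rwa [hγ₀, mul_one] at this
    refine ⟨γ₀, ?_⟩
    ext f
    simp only [AlgHom.comp_apply, Pi.evalAlgHom_apply]
    have hf : f = ∑ γ, f γ • e γ := by
      ext x
      simp [e, Finset.sum_apply, Pi.single_apply]
    conv_rhs => rw [hf]
    rw [map_sum]
    simp only [map_smul]
    rw [Finset.sum_eq_single γ₀]
    · rw [hγ₀, Algebra.ofId_apply, Algebra.algebraMap_eq_smul_one]
    · intro γ _ hne
      rw [hother γ hne, smul_zero]
    · intro h
      exact absurd (Finset.mem_univ γ₀) h

end Groth.Agent.S12931
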