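import Groth.Statements.S12932
import Mathlib
-- import your own Groth.Agent.* helpers here

set_option autoImplicit false
universe u v
open scoped BigOperators
open InvTh

namespace Groth.Agent.S12932

section helpers

variable {B : Type u} [CommRing B] {Γ : Type v} [Group Γ] [Fintype Γ] [MulSemiringAction Γ B]

/-- the trace is invariant -/
theorem smul_trace (b : B) (g : Γ) : g • (∑ γ : Γ, γ • b) = ∑ γ : Γ, γ • b := by
  rw [Finset.smul_sum]
  simp only [smul_smul]
  exact Fintype.sum_equiv (Equiv.mulLeft g) _ _ (fun _ => rfl)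

/-- the coset decomposition of the trace modulo a prime -/
theorem mk_trace (P : Ideal B) (T : Set Γ) [Fintype T]
    (hT : Subgroup.IsComplement ((P.inertia Γ : Subgroup Γ) : Set Γ) T) (b : B) :
    Ideal.Quotient.mk P (∑ γ : Γ, γ • b) =
      ((Nat.card (P.inertia Γ) : ℕ) : B ⧸ P) * ∑ t : T, Ideal.Quotient.mk P ((t : Γ) • b) := by
  classical
  haveI : Fintype (P.inertia Γ) := Fintype.ofFinite _
  have hbij : Function.Bijective
      (fun x : (P.inertia Γ) × T => (x.1 : Γ) * (x.2 : Γ)) := hT
  rw [map_sum]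
  rw [← Fintype.sum_bijective _ hbij (fun x => Ideal.Quotient.mk P ((x.2 : Γ) • b))
    (fun γ => Ideal.Quotient.mk P (γ • b))]
  · rw [Fintype.sum_prod_type]
    simp only [Finset.sum_const, Finset.card_univ, nsmul_eq_mul, Fintype.card_eq_nat_card]
  · rintro ⟨σ, t⟩
    simp only
    rw [mul_smul, eq_comm, Ideal.Quotient.eq]
    exact σ.2 _

theorem exists_trace_notMem (P : Ideal B) [P.IsPrime]
    (hN : ((Nat.card (P.inertia Γ) : ℕ) : B ⧸ P) ≠ 0) : ∃ b : B, ∑ γ : Γ, γ • b ∉ P := by
  classical
  obtain ⟨T, hT, h1T⟩ := Subgroup.exists_isComplement_right (P.inertia Γ) (1 : Γ)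
  haveI : Fintype T := Fintype.ofFinite T
  -- the characters
  let χ : T → (B →* B ⧸ P) := fun t =>
    ((Ideal.Quotient.mk P).comp (MulSemiringAction.toRingHom Γ B (t : Γ))).toMonoidHom
  have hχ : ∀ (t : T) (x : B), χ t x = Ideal.Quotient.mk P ((t : Γ) • x) := fun t x => rfl
  have hinj : Function.Injective χ := by
    intro t t' h
    have hmem : (t : Γ) * (t' : Γ)⁻¹ ∈ P.inertia Γ := by
      intro y
      have h1 := DFunLike.congr_fun h ((t' : Γ)⁻¹ • y)
      rw [hχ, hχ, Ideal.Quotient.eq, smul_smul, smul_smul, mul_inv_cancel, one_smul] at h1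
      exact h1
    have hbij : Function.Injective
        (fun x : (P.inertia Γ) × T => (x.1 : Γ) * (x.2 : Γ)) := hT.1
    have h2 := @hbij (⟨(t : Γ) * (t' : Γ)⁻¹, hmem⟩, t') (1, t) (by simp)
    exact (congrArg Prod.snd h2).symm
  have hli : LinearIndependent (B ⧸ P) (fun t : T => (χ t : B → B ⧸ P)) :=
    (linearIndependent_monoidHom B (B ⧸ P)).comp χ hinj
  have hne : (∑ t : T, (χ t : B → B ⧸ P)) ≠ 0 := by
    intro h0
    have := Fintype.linearIndependent_iff.mp hli (fun _ => 1) (by simpa using h0) ⟨1, h1T⟩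
    exact one_ne_zero this
  obtain ⟨b, hb⟩ := Function.ne_iff.mp hne
  refine ⟨b, fun hmem => ?_⟩
  have h1 := mk_trace P T hT b
  rw [Ideal.Quotient.eq_zero_iff_mem.mpr hmem] at h1
  rw [Finset.sum_apply] at hb
  simp only [hχ, Pi.zero_apply] at hb
  have := mul_ne_zero hN hb
  exact this h1.symm

end helpers

/-- Let `B` be a commutative ring with an action of a finite group `Γ` by ring automorphisms, and call a
prime ideal `P` of `B` tame when the order of its inertia group `{γ | γ • x - x ∈ P for all x}` is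
not divisible by the characteristic of `B/P` (its ramification group is trivial). Then every prime
of `B` is tame if and only if the trace `b ↦ Σ_γ γ • b`, which takes values in the invariant ring
`B^Γ` and is `B^Γ`-linear, is onto `B^Γ` — equivalently, some element of `B` has trace `1`. -/
theorem result
    (B : Type u) [CommRing B] (Γ : Type v) [Group Γ] [Fintype Γ] [MulSemiringAction Γ B] :
    (∃ b : B, ∑ γ : Γ, γ • b = 1) ↔
      ∀ P : Ideal B, P.IsPrime → ((Nat.card (P.inertia Γ) : ℕ) : B ⧸ P) ≠ 0 := by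
  classical
  constructor
  · rintro ⟨b, hb⟩ P hP hzero
    obtain ⟨T, hT, -⟩ := Subgroup.exists_isComplement_right (P.inertia Γ) (1 : Γ)
    haveI : Fintype T := Fintype.ofFinite T
    have h1 := mk_trace P T hT b
    rw [hb, hzero, zero_mul, map_one] at h1
    exact hP.ne_top ((Ideal.eq_top_iff_one P).mpr (Ideal.Quotient.eq_zero_iff_mem.mp h1))
  · intro h
    -- the invariant subring
    let A : Subring B := FixedPoints.subring B Γ
    haveI : Algebra.IsInvariant A B Γ := ⟨fun b hb => ⟨⟨b, hb⟩, rfl⟩⟩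
    haveI hint : Algebra.IsIntegral A B := Algebra.IsInvariant.isIntegral A B Γ
    have htrA : ∀ b : B, (∑ γ : Γ, γ • b) ∈ A := fun b g => smul_trace b g
    let J : Ideal A :=
      { carrier := {a | ∃ b : B, ∑ γ : Γ, γ • b = (a : B)}
        add_mem' := by
          rintro a a' ⟨b, hb⟩ ⟨b', hb'⟩
          exact ⟨b + b', by simp [smul_add, Finset.sum_add_distrib, hb, hb']⟩
        zero_mem' := ⟨0, by simp⟩
        smul_mem' := by
          rintro c a ⟨b, hb⟩
          refine ⟨(c : B) * b, ?_⟩
          have hc : ∀ γ : Γ, γ • (c : B) = c := fun γ => c.2 γ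
          simp only [smul_mul', hc, ← Finset.mul_sum, hb]
          rfl }
    by_cases hJ : J = ⊤
    · have h1 : (1 : A) ∈ J := hJ ▸ Submodule.mem_top
      obtain ⟨b, hb⟩ := h1
      exact ⟨b, hb⟩
    · exfalso
      obtain ⟨m, hm, hJm⟩ := Ideal.exists_le_maximal J hJ
      have hker : RingHom.ker (algebraMap A B) ≤ m := by
        intro x hx
        have : x = 0 := Subtype.ext (by simpa using hx)
        rw [this]; exact m.zero_mem
      obtain ⟨P, hPmax, hPm⟩ := Ideal.exists_ideal_over_maximal_of_isIntegral m hker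
      haveI := hPmax.isPrime
      obtain ⟨b, hb⟩ := exists_trace_notMem P (h P hPmax.isPrime)
      apply hb
      have h2 : (⟨∑ γ : Γ, γ • b, htrA b⟩ : A) ∈ m := hJm ⟨b, rfl⟩
      rw [← hPm] at h2
      exact h2

end Groth.Agent.S12932
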