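import Groth.Statements.S12933
import Mathlib

set_option autoImplicit false
universe u v w w'
open TensorProduct
open InvTh

namespace Groth.Agent.S12933

/-- Let `R` be a commutative ring, `B` a commutative `R`-algebra with an action of a finite group `Γ` by
`R`-algebra automorphisms, and `R'` a flat commutative `R`-algebra; let `Γ` act on `R' ⊗_R B`
through the factor `B`. Then an element of `R' ⊗_R B` is fixed by every element of `Γ` if and only
if it lies in the `R'`-submodule spanned by the tensors `1 ⊗ b` with `b ∈ B^Γ`: taking invariants
commutes with flat base change (the map `R' ⊗_R B^Γ → R' ⊗_R B` being moreover injective by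
flatness). -/
theorem result
    (R : Type u) [CommRing R] (B : Type v) [CommRing B] [Algebra R B]
    (Γ : Type w) [Group Γ] [Finite Γ] [MulSemiringAction Γ B] [SMulCommClass Γ R B]
    (R' : Type w') [CommRing R'] [Algebra R R'] [Module.Flat R R']
    (x : R' ⊗[R] B) :
    (∀ γ : Γ, Algebra.TensorProduct.map (AlgHom.id R R') (MulSemiringAction.toAlgHom R B γ) x = x) ↔
      x ∈ Submodule.span R' ((fun b : B => (1 : R') ⊗ₜ[R] b) '' {b : B | ∀ γ : Γ, γ • b = b}) := by
  classical
  cases nonempty_fintype Γ
  constructor
  · intro hx
    -- the map whose kernel is the invariants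
    let φ : B →ₗ[R] (Γ → B) :=
      LinearMap.pi (fun γ => (MulSemiringAction.toAlgHom R B γ).toLinearMap - LinearMap.id)
    have hφ : ∀ b γ, φ b γ = γ • b - b := fun b γ => rfl
    have hex : Function.Exact (LinearMap.ker φ).subtype φ := LinearMap.exact_subtype_ker_map φ
    have hex' := Module.Flat.lTensor_exact R' hex
    have hzero : (φ.lTensor R') x = 0 := by
      apply (TensorProduct.piRight R R R' (fun _ : Γ => B)).injective
      rw [map_zero]
      funext γ
      have key : (LinearMap.proj γ) ∘ₗ (TensorProduct.piRight R R R' (fun _ : Γ => B)).toLinearMap ∘ₗ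
          φ.lTensor R' =
          (Algebra.TensorProduct.map (AlgHom.id R R') (MulSemiringAction.toAlgHom R B γ)).toLinearMap
            - LinearMap.id := by
        refine TensorProduct.ext' fun r b => ?_
        simp [hφ, TensorProduct.tmul_sub]
      have := LinearMap.congr_fun key x
      simp only [LinearMap.comp_apply, LinearMap.proj_apply, LinearEquiv.coe_coe,
        LinearMap.sub_apply, LinearMap.id_apply, AlgHom.toLinearMap_apply] at this
      rw [this, hx γ, sub_self]
      rfl
    obtain ⟨y, rfl⟩ := (hex' x).mp hzero
    clear hx hzero
    induction y using TensorProduct.induction_on with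
    | zero => simp
    | tmul r c =>
      have hc : ∀ γ : Γ, γ • (c : B) = c := by
        intro γ
        have := congrFun (LinearMap.mem_ker.mp c.2) γ
        rw [hφ] at this
        exact sub_eq_zero.mp this
      have : (LinearMap.ker φ).subtype.lTensor R' (r ⊗ₜ[R] c) = r • ((1 : R') ⊗ₜ[R] (c : B)) := by
        simp [TensorProduct.smul_tmul']
      rw [this]
      apply Submodule.smul_mem
      apply Submodule.subset_span
      exact ⟨c, hc, rfl⟩
    | add a b ha hb =>
      rw [map_add]
      exact Submodule.add_mem _ ha hb
  · intro hx γ
    have hsmul : ∀ (r : R') (a : R' ⊗[R] B), r • a = (r ⊗ₜ[R] (1 : B)) * a := by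
      intro r a
      induction a using TensorProduct.induction_on with
      | zero => simp
      | tmul s b => simp [TensorProduct.smul_tmul']
      | add p q hp hq => rw [smul_add, mul_add, hp, hq]
    induction hx using Submodule.span_induction with
    | mem y hy =>
      obtain ⟨b, hb, rfl⟩ := hy
      simp [hb γ]
    | zero => simp
    | add a b _ _ ha hb => rw [map_add, ha, hb]
    | smul r a _ ha =>
      rw [hsmul, map_mul, ha]
      simp

end Groth.Agent.S12933
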