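import Groth.Statements.S12934
import Mathlib

set_option autoImplicit false
set_option maxHeartbeats 1000000
universe u v
open InvTh

namespace Groth.Agent.S12934

/-- Let `B` be a local commutative ring with maximal ideal `m` and residue field `k`, and `Γ` a finite
group acting faithfully on `B` by ring automorphisms, such that every element of `Γ` acts trivially
modulo `m` (the whole group is inertia) and maps each principal ideal of `B` into itself (every
ideal is stable). Let `S ⊆ Γ` be the set of `γ` with `γ b ∈ b + b m` for all `b`. Then: if `k` has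
characteristic `0`, `S = {1}`; if `k` has characteristic `p > 0`, `S` is (the underlying set of) a
Sylow `p`-subgroup; every commutator of `Γ` lies in `S`, so `Γ/S` is abelian; and whenever the class
of `γ` in `Γ/S` has order `n` (`γ^n ∈ S`, no smaller positive power in `S`), `k` contains a
primitive `n`-th root of unity. (The published statement also bounds the number of generators of
`Γ/S` by the number of generators of the monoid of principal ideals; that clause is not included.) -/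
theorem result
    (B : Type u) [CommRing B] [IsLocalRing B]
    (Γ : Type v) [Group Γ] [Finite Γ] [MulSemiringAction Γ B] [FaithfulSMul Γ B]
    (hin : ∀ (γ : Γ) (b : B), γ • b - b ∈ IsLocalRing.maximalIdeal B)
    (hst : ∀ (γ : Γ) (b : B), ∃ u : B, γ • b = b * u)
    (S : Set Γ)
    (hS : ∀ γ : Γ, γ ∈ S ↔ ∀ b : B, ∃ x ∈ IsLocalRing.maximalIdeal B, γ • b = b + b * x) :
    (ringChar (IsLocalRing.ResidueField B) = 0 → S = {1}) ∧
      (∀ (p : ℕ) [Fact p.Prime], ringChar (IsLocalRing.ResidueField B) = p →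
        ∃ Q : Sylow p Γ, (Q : Set Γ) = S) ∧
      (∀ γ δ : Γ, γ * δ * γ⁻¹ * δ⁻¹ ∈ S) ∧
      (∀ (γ : Γ) (n : ℕ), 0 < n → γ ^ n ∈ S → (∀ i : ℕ, 0 < i → i < n → γ ^ i ∉ S) →
        ∃ ζ : IsLocalRing.ResidueField B, IsPrimitiveRoot ζ n) := by
  classical
  cases nonempty_fintype Γ
  obtain ⟨res, hresdef⟩ : ∃ res : B →+* IsLocalRing.ResidueField B, res = IsLocalRing.residue B :=
    ⟨_, rfl⟩
  have hres0 : ∀ x : B, res x = 0 ↔ x ∈ IsLocalRing.maximalIdeal B := by
    intro x
    rw [hresdef]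
    exact IsLocalRing.residue_eq_zero_iff x
  have hunit : ∀ x : B, res x ≠ 0 → IsUnit x := by
    intro x hx
    by_contra hnu
    exact hx ((hres0 x).mpr ((IsLocalRing.mem_maximalIdeal x).mpr (mem_nonunits_iff.mpr hnu)))
  have hresΓ : ∀ (γ : Γ) (c : B), res (γ • c) = res c := by
    intro γ c
    have h1 := (hres0 _).mpr (hin γ c)
    rw [map_sub, sub_eq_zero] at h1
    exact h1
  have hwd : ∀ b : B, b ≠ 0 → ∀ u u' : B, b * u = b * u' → res u = res u' := by
    intro b hb u u' h
    by_contra hne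
    have h1 : res (u - u') ≠ 0 := by
      rw [map_sub]
      exact sub_ne_zero.mpr hne
    have h2 : b * (u - u') = 0 := by rw [mul_sub, h, sub_self]
    exact hb ((hunit _ h1).mul_left_eq_zero.mp h2)
  obtain ⟨w, hw⟩ : ∃ w : Γ → B → B, ∀ (γ : Γ) (b : B), γ • b = b * w γ b :=
    ⟨fun γ b => Classical.choose (hst γ b), fun γ b => Classical.choose_spec (hst γ b)⟩
  obtain ⟨χ, hχdef⟩ : ∃ χ : B → Γ → IsLocalRing.ResidueField B,
      ∀ (b : B) (γ : Γ), χ b γ = res (w γ b) := ⟨fun b γ => res (w γ b), fun _ _ => rfl⟩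
  have hχu : ∀ b : B, b ≠ 0 → ∀ (γ : Γ) (u : B), γ • b = b * u → res u = χ b γ := by
    intro b hb γ u h
    rw [hχdef]
    exact hwd b hb _ _ (h.symm.trans (hw γ b))
  have hχ1 : ∀ b : B, b ≠ 0 → χ b 1 = 1 := by
    intro b hb
    have h1 := hχu b hb 1 1 (by rw [one_smul, mul_one])
    rw [map_one] at h1
    exact h1.symm
  have hχmul : ∀ b : B, b ≠ 0 → ∀ γ δ : Γ, χ b (γ * δ) = χ b γ * χ b δ := by
    intro b hb γ δ
    have h1 : (γ * δ) • b = b * (w γ b * γ • w δ b) := by
      calc (γ * δ) • b = γ • δ • b := mul_smul γ δ b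
        _ = γ • (b * w δ b) := by rw [← hw δ b]
        _ = γ • b * γ • w δ b := smul_mul' γ b (w δ b)
        _ = b * w γ b * γ • w δ b := by rw [← hw γ b]
        _ = b * (w γ b * γ • w δ b) := mul_assoc _ _ _
    have h2 := hχu b hb (γ * δ) _ h1
    rw [map_mul, hresΓ, ← hχdef, ← hχdef] at h2
    exact h2.symm
  have hχpow : ∀ (b : B), b ≠ 0 → ∀ (γ : Γ) (n : ℕ), χ b (γ ^ n) = χ b γ ^ n := by
    intro b hb γ n
    induction n with
    | zero => rw [pow_zero, pow_zero, hχ1 b hb]
    | succ n ih => rw [pow_succ, pow_succ, hχmul b hb, ih]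
  have hχinv : ∀ (b : B), b ≠ 0 → ∀ (γ : Γ), χ b γ * χ b γ⁻¹ = 1 := by
    intro b hb γ
    rw [← hχmul b hb, mul_inv_cancel, hχ1 b hb]
  have hS' : ∀ γ : Γ, γ ∈ S ↔ ∀ b : B, b ≠ 0 → χ b γ = 1 := by
    intro γ
    rw [hS]
    constructor
    · intro h b hb
      obtain ⟨x, hx, hγ⟩ := h b
      have h1 : γ • b = b * (1 + x) := by rw [hγ]; ring
      have h2 := hχu b hb γ _ h1
      rw [map_add, map_one, (hres0 x).mpr hx, add_zero] at h2
      exact h2.symm
    · intro h b
      by_cases hb : b = 0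
      · exact ⟨0, Ideal.zero_mem _, by rw [hb, smul_zero, mul_zero, add_zero]⟩
      · refine ⟨w γ b - 1, ?_, ?_⟩
        · rw [← hres0, map_sub, map_one, sub_eq_zero, ← hχdef]
          exact h b hb
        · calc γ • b = b * w γ b := hw γ b
            _ = b + b * (w γ b - 1) := by ring
  let Ssub : Subgroup Γ :=
    { carrier := S
      one_mem' := (hS' 1).mpr (fun b hb => hχ1 b hb)
      mul_mem' := fun {a c} ha hc => (hS' _).mpr (fun b hb => by
        rw [hχmul b hb, (hS' a).mp ha b hb, (hS' c).mp hc b hb, mul_one])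
      inv_mem' := fun {a} ha => (hS' _).mpr (fun b hb => by
        have h1 := hχinv b hb a
        rw [(hS' a).mp ha b hb, one_mul] at h1
        exact h1) }
  have hSpow : ∀ (γ : Γ), γ ∈ S → ∀ i : ℕ, γ ^ i ∈ S := fun γ hγ i =>
    Ssub.pow_mem hγ i
  have hA : ∀ (γ : Γ), γ ∈ S → ∀ ℓ : ℕ, γ ^ ℓ = 1 →
      (ℓ : IsLocalRing.ResidueField B) ≠ 0 → γ = 1 := by
    intro γ hγ ℓ hℓ hℓk
    apply FaithfulSMul.eq_of_smul_eq_smul (α := B)
    intro b
    rw [one_smul]
    have hc : ∀ i : ℕ, ∃ x ∈ IsLocalRing.maximalIdeal B,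
        γ ^ i • (γ • b - b) = (γ • b - b) + (γ • b - b) * x :=
      fun i => (hS _).mp (hSpow γ hγ i) _
    choose x hxm hx using hc
    have hsum : ∑ i ∈ Finset.range ℓ, γ ^ i • (γ • b - b) = 0 := by
      have h1 : ∀ i : ℕ, γ ^ i • (γ • b - b) = γ ^ (i + 1) • b - γ ^ i • b := by
        intro i
        rw [smul_sub, ← mul_smul, ← pow_succ]
      calc ∑ i ∈ Finset.range ℓ, γ ^ i • (γ • b - b)
          = ∑ i ∈ Finset.range ℓ, (γ ^ (i + 1) • b - γ ^ i • b) :=
            Finset.sum_congr rfl (fun i _ => h1 i)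
        _ = γ ^ ℓ • b - γ ^ 0 • b := Finset.sum_range_sub (fun i => γ ^ i • b) ℓ
        _ = 0 := by rw [hℓ, pow_zero, sub_self]
    have h2 : ∑ i ∈ Finset.range ℓ, γ ^ i • (γ • b - b) =
        (γ • b - b) * ((ℓ : B) + ∑ i ∈ Finset.range ℓ, x i) := by
      rw [Finset.sum_congr rfl (fun i _ => hx i), Finset.sum_add_distrib, Finset.sum_const,
        Finset.card_range, ← Finset.mul_sum, nsmul_eq_mul]
      ring
    have hsum2 : (γ • b - b) * ((ℓ : B) + ∑ i ∈ Finset.range ℓ, x i) = 0 := by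
      rw [← h2]
      exact hsum
    have hu : IsUnit ((ℓ : B) + ∑ i ∈ Finset.range ℓ, x i) := by
      apply hunit
      rw [map_add, map_natCast, (hres0 _).mpr (Ideal.sum_mem _ (fun i _ => hxm i)), add_zero]
      exact hℓk
    exact sub_eq_zero.mp (hu.mul_left_eq_zero.mp hsum2)
  refine ⟨?_, ?_, ?_, ?_⟩
  · intro hchar
    haveI : CharP (IsLocalRing.ResidueField B) 0 := ringChar.of_eq hchar
    haveI : CharZero (IsLocalRing.ResidueField B) := CharP.charP_to_charZero _
    ext γ
    rw [Set.mem_singleton_iff]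
    constructor
    · intro hγ
      exact hA γ hγ (orderOf γ) (pow_orderOf_eq_one γ)
        (Nat.cast_ne_zero.mpr (orderOf_pos γ).ne')
    · rintro rfl
      exact Ssub.one_mem
  · intro p hp hchar
    haveI : CharP (IsLocalRing.ResidueField B) p := ringChar.of_eq hchar
    have hpg : IsPGroup p Ssub := by
      rintro ⟨γ, hγ⟩
      obtain ⟨a, m', hm', hom⟩ :=
        Nat.exists_eq_pow_mul_and_not_dvd (orderOf_pos γ).ne' p hp.out.ne_one
      refine ⟨a, Subtype.ext ?_⟩
      show γ ^ p ^ a = 1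
      apply hA (γ ^ p ^ a) (hSpow γ hγ _) m'
      · rw [← pow_mul, ← hom]
        exact pow_orderOf_eq_one γ
      · rw [Ne, CharP.cast_eq_zero_iff (IsLocalRing.ResidueField B) p]
        exact hm'
    refine ⟨{ toSubgroup := Ssub, isPGroup' := hpg, is_maximal' := ?_ }, rfl⟩
    intro Q hQ hle
    apply le_antisymm _ hle
    intro γ hγ
    obtain ⟨j, hj⟩ := hQ ⟨γ, hγ⟩
    have hj' : γ ^ p ^ j = 1 := congrArg Subtype.val hj
    show γ ∈ S
    rw [hS']
    intro b hb
    have h1 : χ b γ ^ p ^ j = 1 := by rw [← hχpow b hb, hj', hχ1 b hb]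
    have h2 : (χ b γ - 1) ^ p ^ j = 0 := by rw [sub_pow_char_pow, h1, one_pow, sub_self]
    exact sub_eq_zero.mp ((pow_eq_zero_iff (pow_ne_zero _ hp.out.ne_zero)).mp h2)
  · intro γ δ
    rw [hS']
    intro b hb
    rw [hχmul b hb, hχmul b hb, hχmul b hb]
    calc χ b γ * χ b δ * χ b γ⁻¹ * χ b δ⁻¹
        = (χ b γ * χ b γ⁻¹) * (χ b δ * χ b δ⁻¹) := by ring
      _ = 1 := by rw [hχinv b hb, hχinv b hb, mul_one]
  · intro γ n hn hγn hmin
    haveI : NeZero n := ⟨hn.ne'⟩
    obtain ⟨g₀, hg₀⟩ :=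
      IsCyclic.exists_generator (α := rootsOfUnity n (IsLocalRing.ResidueField B))
    have he_pos : 0 < orderOf g₀ := orderOf_pos g₀
    have he_dvd : orderOf g₀ ∣ n := by
      apply orderOf_dvd_of_pow_eq_one
      apply Subtype.ext
      exact (mem_rootsOfUnity n _).mp g₀.2
    have hall : ∀ z : rootsOfUnity n (IsLocalRing.ResidueField B), z ^ orderOf g₀ = 1 := by
      intro z
      obtain ⟨j, rfl⟩ := Subgroup.mem_zpowers_iff.mp (hg₀ z)
      rw [← zpow_natCast, ← zpow_mul, mul_comm, zpow_mul, zpow_natCast, pow_orderOf_eq_one,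
        one_zpow]
    have hγe : γ ^ orderOf g₀ ∈ S := by
      rw [hS']
      intro b hb
      have h1 : χ b γ ^ n = 1 := by rw [← hχpow b hb, (hS' _).mp hγn b hb]
      have hu : IsUnit (χ b γ) := IsUnit.of_pow_eq_one h1 hn.ne'
      have hmem : hu.unit ∈ rootsOfUnity n (IsLocalRing.ResidueField B) := by
        rw [mem_rootsOfUnity]
        apply Units.ext
        rw [Units.val_pow_eq_pow_val, IsUnit.unit_spec, h1, Units.val_one]
      have h2 := hall ⟨hu.unit, hmem⟩
      have h3 : hu.unit ^ orderOf g₀ = 1 := congrArg Subtype.val h2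
      have h4 := congrArg Units.val h3
      rw [Units.val_pow_eq_pow_val, IsUnit.unit_spec, Units.val_one] at h4
      rw [hχpow b hb, h4]
    have hen : orderOf g₀ = n := by
      by_contra hne
      have hlt : orderOf g₀ < n := lt_of_le_of_ne (Nat.le_of_dvd hn he_dvd) hne
      exact hmin _ he_pos hlt hγe
    refine ⟨((g₀ : (IsLocalRing.ResidueField B)ˣ) : IsLocalRing.ResidueField B), ?_⟩
    have h1 : orderOf ((g₀ : (IsLocalRing.ResidueField B)ˣ) : IsLocalRing.ResidueField B) = n := by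
      rw [orderOf_units, Subgroup.orderOf_coe, hen]
    have h2 := IsPrimitiveRoot.orderOf ((g₀ : (IsLocalRing.ResidueField B)ˣ) :
      IsLocalRing.ResidueField B)
    rwa [h1] at h2

end Groth.Agent.S12934
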