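import Groth.Statements.S12935
import Mathlib

set_option autoImplicit false
universe u v
open InvTh

namespace Groth.Agent.S12935

open Pointwise

/-- Part 1, the forward direction, as a lemma. -/
theorem decomp_aux
    (B : Type u) [CommRing B] (Γ : Type v) [Group Γ] [Finite Γ] [MulSemiringAction Γ B]
    (Ω : Subgroup Γ) (P : Ideal B) [P.IsPrime] (γ : Γ)
    (h : ∀ x : B, (∀ ω ∈ Ω, ω • x = x) → (x ∈ P ↔ γ • x ∈ P)) :
    ∃ ω ∈ Ω, ∀ x : B, x ∈ P ↔ (γ * ω) • x ∈ P := by
  have : Algebra.IsInvariant (FixedPoints.subring B Ω) B Ω := ⟨fun b hb => ⟨⟨b, hb⟩, rfl⟩⟩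
  let Q : Ideal B := Ideal.comap (MulSemiringAction.toRingHom Γ B γ) P
  have : Q.IsPrime := Ideal.comap_isPrime _ _
  have hQ : ∀ x, x ∈ Q ↔ γ • x ∈ P := fun x => Iff.rfl
  have hPQ : Ideal.under (FixedPoints.subring B Ω) P = Ideal.under (FixedPoints.subring B Ω) Q := by
    ext a
    simp only [Ideal.under_def, Ideal.mem_comap]
    rw [hQ]
    apply h
    intro ω hω
    exact a.2 ⟨ω, hω⟩
  obtain ⟨ω, hω⟩ := Algebra.IsInvariant.exists_smul_of_under_eq (FixedPoints.subring B Ω) B Ω P Q hPQ
  refine ⟨ω.1, ω.2, fun x => ?_⟩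
  rw [mul_smul, ← hQ, hω, ← Subgroup.smul_def, Ideal.smul_mem_pointwise_smul_iff]

/-- Let `B` be a commutative ring with an action of a finite group `Γ` by ring automorphisms, `Ω` a
normal subgroup of `Γ`, `B^Ω` the subring of `Ω`-invariants (stable under `Γ`, with the induced
action of `Γ/Ω`), and `P` a prime ideal of `B`. Then (decomposition groups) an element `γ` maps `P ∩
B^Ω` onto itself if and only if `γω` maps `P` onto itself for some `ω ∈ Ω`; and (inertia groups) `γ`
fixes `B^Ω` modulo `P ∩ B^Ω` if and only if `γω` fixes `B` modulo `P` for some `ω ∈ Ω`. In other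
words the decomposition and inertia groups of `P ∩ B^Ω` under `Γ/Ω` are the images of those of `P`.
(The published statement also asserts the same for the ramification groups, the Sylow subgroups of
the inertia groups at the residue characteristic; that clause is not included here.) -/
theorem result
    (B : Type u) [CommRing B] (Γ : Type v) [Group Γ] [Finite Γ] [MulSemiringAction Γ B]
    (Ω : Subgroup Γ) [Ω.Normal] (P : Ideal B) [P.IsPrime] (γ : Γ) :
    ((∀ x : B, (∀ ω ∈ Ω, ω • x = x) → (x ∈ P ↔ γ • x ∈ P)) ↔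
        ∃ ω ∈ Ω, ∀ x : B, x ∈ P ↔ (γ * ω) • x ∈ P) ∧
      ((∀ x : B, (∀ ω ∈ Ω, ω • x = x) → γ • x - x ∈ P) ↔
        ∃ ω ∈ Ω, ∀ x : B, (γ * ω) • x - x ∈ P) := by
  constructor
  · constructor
    · exact decomp_aux B Γ Ω P γ
    · rintro ⟨ω, hω, h⟩ x hx
      have := h x
      rwa [mul_smul, hx ω hω] at this
  · constructor
    · intro h2
      -- step 1: decomposition
      have h1 : ∀ x : B, (∀ ω ∈ Ω, ω • x = x) → (x ∈ P ↔ γ • x ∈ P) := by
        intro x hx
        constructor
        · intro hxP
          have : γ • x = (γ • x - x) + x := by ring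
          rw [this]
          exact P.add_mem (h2 x hx) hxP
        · intro hγ
          have : x = γ • x - (γ • x - x) := by ring
          rw [this]
          exact P.sub_mem hγ (h2 x hx)
      obtain ⟨ω₁, hω₁, hstab⟩ := decomp_aux B Γ Ω P γ h1
      set γ' := γ * ω₁ with hγ'
      have : Algebra.IsInvariant (FixedPoints.subring B Ω) B Ω := ⟨fun b hb => ⟨⟨b, hb⟩, rfl⟩⟩
      -- γ' acts trivially on invariants modulo P
      have htriv : ∀ a : FixedPoints.subring B Ω, γ' • (a : B) - a ∈ P := by
        intro a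
        have ha : ∀ ω ∈ Ω, ω • (a : B) = a := fun ω hω => a.2 ⟨ω, hω⟩
        rw [hγ', mul_smul, ha ω₁ hω₁]
        exact h2 a ha
      -- the automorphism of B ⧸ P induced by γ'
      have hmap : P = P.map ((MulSemiringAction.toRingEquiv Γ B γ' : B ≃+* B) : B →+* B) := by
        ext x
        rw [Ideal.mem_map_iff_of_surjective _
          (show Function.Surjective ((MulSemiringAction.toRingEquiv Γ B γ' : B ≃+* B) : B →+* B) from
            (MulSemiringAction.toRingEquiv Γ B γ').surjective)]
        constructor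
        · intro hx
          refine ⟨γ'⁻¹ • x, ?_, by simp⟩
          rw [hstab]
          simpa using hx
        · rintro ⟨y, hy, rfl⟩
          exact (hstab y).mp hy
      let p := Ideal.under (FixedPoints.subring B Ω) P
      let σ : (B ⧸ P) ≃ₐ[(FixedPoints.subring B Ω) ⧸ p] (B ⧸ P) :=
        { Ideal.quotientEquiv P P (MulSemiringAction.toRingEquiv Γ B γ') hmap with
          commutes' := by
            intro r
            obtain ⟨a, rfl⟩ := Ideal.Quotient.mk_surjective r
            change Ideal.quotientEquiv P P (MulSemiringAction.toRingEquiv Γ B γ') hmap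
              (Ideal.Quotient.mk P (a : B)) = Ideal.Quotient.mk P (a : B)
            rw [Ideal.quotientEquiv_mk, Ideal.Quotient.eq]
            exact htriv a }
      obtain ⟨ω₂, hω₂⟩ := Ideal.Quotient.stabilizerHom_surjective Ω p P σ
      have hcmp : ∀ b : B, γ' • b - (ω₂.1 : Γ) • b ∈ P := by
        intro b
        have := DFunLike.congr_fun hω₂ (Ideal.Quotient.mk P b)
        rw [Ideal.Quotient.stabilizerHom_apply] at this
        change _ = Ideal.quotientEquiv P P (MulSemiringAction.toRingEquiv Γ B γ') hmap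
              (Ideal.Quotient.mk P b) at this
        rw [Ideal.quotientEquiv_mk] at this
        rw [← Ideal.Quotient.eq]
        exact this.symm
      refine ⟨ω₁ * (ω₂.1 : Γ)⁻¹, Ω.mul_mem hω₁ (Ω.inv_mem ω₂.1.2), fun x => ?_⟩
      have := hcmp ((ω₂.1 : Γ)⁻¹ • x)
      rw [smul_inv_smul] at this
      rw [← mul_assoc, mul_smul]
      exact this
    · rintro ⟨ω, hω, h⟩ x hx
      have := h x
      rwa [mul_smul, hx ω hω] at this

end Groth.Agent.S12935
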