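import Groth.Statements.S12940
import Groth.Agent.H32.DiagDict

set_option autoImplicit false
universe u
open CategoryTheory AlgebraicGeometry
open AlgSt

namespace Groth.Agent.S12940

/-- If a morphism f of algebraic stacks is representable by algebraic spaces, then its diagonal is
representable by schemes: every base change of the diagonal to a scheme is (equivalent over the base
to the slice category of) a scheme. -/
theorem result
    (S : Scheme.{u}) (𝒳 : AlgSt.Cat S) (𝒴 : AlgSt.Cat S)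
    (h𝒳 : AlgSt.IsAlgStack Scheme.fppfPrecoverage 𝒳)
    (h𝒴 : AlgSt.IsAlgStack Scheme.fppfPrecoverage 𝒴)
    (f : 𝒳 ⥤ᵇ 𝒴)
    (hf : AlgSt.RepByAlgSp1 f) :
    FibCat.IsRepresentable1 (FibCat.diag f) := by
  open FibCat CategoryTheory.Limits Groth.Agent.H32.DiagRep Groth.Agent.H32.DiagApps Groth.Agent.H32.DiagDict
    Groth.Agent.H32.Fp2 Groth.Agent.H32.SpBridge in
  intro U ζ
  have h𝒳' := h𝒳.isStack.1
  have h𝒴' := h𝒴.isStack.1
  have hw : AlgSt.RepByAlgSpWith AlgSp.Representable (FibCat.diag f) :=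
    with_diag_of_rep AlgSp.Representable
      (fun _ _ _ _ _ _ _ _ _ _ _ _ sq ha => MorphismProperty.of_isPullback sq ha)
      (fun X T f s hs => (sec_props X T f s hs).1) h𝒳' h𝒴' f hf
  obtain ⟨F, e, he, hφ⟩ := hw U ζ
  obtain ⟨V, snd, fst, sq⟩ := hφ (𝟙 ((AlgSp.yon S).obj U))
  have hiso : IsIso fst := sq.isIso_fst_of_isIso
  have hiso' : IsIso fst.hom :=
    (inferInstance : IsIso ((sheafToPresheaf (AlgSp.J S) (Type (u + 1))).map fst))
  have hΨ : IsEquivOver (BasedFunctor.comp (AlgSt.ofOverCat V)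
      (BasedFunctor.comp (Stk.ofPshMap fst.hom) e)) :=
    isEquivOver_comp _ _ (ofOverCat_isEquivOver V)
      (isEquivOver_comp _ _ (ofPshMap_isEquivOver fst.hom) he)
  obtain ⟨Ψ', hΨ', -, -⟩ := exists_inv_isEquivOver hΨ
  exact ⟨V, Ψ', hΨ'⟩

end Groth.Agent.S12940
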