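import Groth.Statements.S12943
import Groth.Agent.H32.DiagDict
import Groth.Agent.S10280
import Groth.Agent.S10277
import Groth.Agent.S10521

set_option autoImplicit false
universe u
open CategoryTheory AlgebraicGeometry
open AlgSt

namespace Groth.Agent.S12943

/-- For a morphism f of algebraic stacks that is representable by algebraic spaces, the following are
equivalent: f is separated (every base change to a scheme is a separated morphism of algebraic
spaces); the diagonal of f is a closed immersion; the diagonal of f is proper; the diagonal of f is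
universally closed. -/
theorem result
    (S : Scheme.{u}) (𝒳 : AlgSt.Cat S) (𝒴 : AlgSt.Cat S)
    (h𝒳 : AlgSt.IsAlgStack Scheme.fppfPrecoverage 𝒳)
    (h𝒴 : AlgSt.IsAlgStack Scheme.fppfPrecoverage 𝒴)
    (f : 𝒳 ⥤ᵇ 𝒴)
    (hf : AlgSt.RepByAlgSp1 f) :
    [AlgSt.RepByAlgSpWith AlgSp.IsSeparatedMor f, AlgSt.IsClosedImm (FibCat.diag f),
      AlgSt.IsSeparatedMor f, AlgSt.RepByAlgSpWith AlgSp.IsUnivClosedMor (FibCat.diag f)].TFAE := by
  open FibCat Groth.Agent.H32.PFacts Groth.Agent.H32.GoodMore Groth.Agent.H32.DiagRep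
    Groth.Agent.H32.DiagApps Groth.Agent.H32.DiagDict Groth.Agent.H32.FppfLocal in
  have h𝒳' := h𝒳.isStack.1
  have h𝒴' := h𝒴.isStack.1
  have hloc : AlgSp.IsLocalOnBase AlgSp.IsFppfCover (AlgSp.IsUnivClosedMor (S := S)) :=
    isLocalOnBase_fppf_of_fpqc _ (Groth.Agent.S10521.result S)
  tfae_have 1 → 2 := fun h1 =>
    with_diag_of_rep' (AlgSp.RepWith @IsClosedImmersion) AlgSp.IsSeparatedMor
      (fun _ _ _ _ _ _ _ _ _ _ _ _ sq ha =>
        (AlgSp.repWith_isStableUnderBaseChange (S := S) @IsClosedImmersion).of_isPullback sq ha)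
      (fun X T f s hs hR => (sec_props X T f s hs).2.2.2.2.2.1 hR) good_separated.loc h𝒳' h𝒴' f hf h1
  tfae_have 2 → 3 := fun h2 =>
    with_imp_sp (fun X Y a ha => Groth.Agent.S10277.result a ha) h2
  tfae_have 3 → 4 := fun h3 => with_imp (fun _ _ a ha => ha.2.2) h3
  tfae_have 4 → 1 := fun h4 U y => by
    obtain ⟨F, E, hE⟩ := hf U y
    refine ⟨F, E, hE, ?_⟩
    have key := diagonal_of_with_diag _ hloc h𝒳' h𝒴' f h4 U y F E hE
    exact ((Groth.Agent.S10280.result (X := F) (Y := (AlgSp.ofScheme S).obj U)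
      (ObjectProperty.homMk _)).1).2 key
  tfae_finish

end Groth.Agent.S12943
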