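import Groth.Statements.S12944
import Groth.Agent.H32.DiagDict
import Groth.Agent.S9912
import Groth.Agent.H51.DiagSep

set_option autoImplicit false
universe u
open CategoryTheory AlgebraicGeometry
open AlgSt

namespace Groth.Agent.S12944

/-- For a morphism f of algebraic stacks that is representable by algebraic spaces, these three
conditions coincide: f is quasi-separated (every base change to a scheme is a quasi-separated
morphism of algebraic spaces); the diagonal of f is quasi-compact; the diagonal of f is of finite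
type. -/
theorem result
    (S : Scheme.{u}) (𝒳 : AlgSt.Cat S) (𝒴 : AlgSt.Cat S)
    (h𝒳 : AlgSt.IsAlgStack Scheme.fppfPrecoverage 𝒳)
    (h𝒴 : AlgSt.IsAlgStack Scheme.fppfPrecoverage 𝒴)
    (f : 𝒳 ⥤ᵇ 𝒴)
    (hf : AlgSt.RepByAlgSp1 f) :
    [AlgSt.RepByAlgSpWith AlgSp.IsQuasiSeparatedMor f,
      AlgSt.RepByAlgSpWith AlgSp.IsQuasiCompactMor (FibCat.diag f),
      AlgSt.RepByAlgSpWith AlgSp.IsFiniteTypeMor (FibCat.diag f)].TFAE := by
  open FibCat CategoryTheory.Limits Groth.Agent.H32.PFacts Groth.Agent.H32.GoodMore Groth.Agent.H32.DiagRep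
    Groth.Agent.H32.DiagApps Groth.Agent.H32.DiagDict Groth.Agent.H32.FppfLocal in
  have h𝒳' := h𝒳.isStack.1
  have h𝒴' := h𝒴.isStack.1
  tfae_have 1 → 3 := fun h1 =>
    with_diag_of_rep' AlgSp.IsFiniteTypeMor AlgSp.IsQuasiSeparatedMor
      (fun _ _ _ _ h1 h2 h3 h4 a b a' b' sq ha =>
        ⟨good_lft.bc h1 h2 h3 h4 a b a' b' sq ha.1,
          good_quasiCompact.bc h1 h2 h3 h4 a b a' b' sq ha.2⟩)
      (fun X T f s hs hR => ⟨sec_lft X T f s hs, (sec_qcqs X T f s hs hR).1⟩)
      good_quasiSeparated.loc h𝒳' h𝒴' f hf h1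
  tfae_have 3 → 2 := fun h3 => with_imp (fun _ _ a ha => ha.2) h3
  tfae_have 2 → 1 := fun h2 U y => by
    obtain ⟨F, E, hE⟩ := hf U y
    refine ⟨F, E, hE, ?_⟩
    have key := diagonal_of_with_diag _ good_quasiCompact.loc h𝒳' h𝒴' f h2 U y F E hE
    exact (Groth.Agent.S9912.result (X := F)
      (Y := ⟨pullback (AlgSt.spMapOfOver (BasedFunctor.comp E (fpFst y f)))
        (AlgSt.spMapOfOver (BasedFunctor.comp E (fpFst y f))), isAlgSpace_pullback_yon F U _⟩)
      (ObjectProperty.homMk (pullback.diagonal (AlgSt.spMapOfOver (BasedFunctor.comp E (fpFst y f)))))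
      (Groth.Agent.H51.representable_pullback_diagonal F.property _)).2 key
  tfae_finish

end Groth.Agent.S12944
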