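import Groth.Statements.S12945
import Groth.Agent.S12944

set_option autoImplicit false
universe u
open CategoryTheory AlgebraicGeometry
open AlgSt

namespace Groth.Agent.S12945

/-- For a morphism f of algebraic stacks that is representable by algebraic spaces, f is quasi-separated
in the sense of stacks (diagonal quasi-compact and quasi-separated) if and only if every base change
of f to a scheme is a quasi-separated morphism of algebraic spaces. (For such f the diagonal is
separated, so the two notions of quasi-separated agree.) -/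
theorem result
    (S : Scheme.{u}) (𝒳 : AlgSt.Cat S) (𝒴 : AlgSt.Cat S)
    (h𝒳 : AlgSt.IsAlgStack Scheme.fppfPrecoverage 𝒳)
    (h𝒴 : AlgSt.IsAlgStack Scheme.fppfPrecoverage 𝒴)
    (f : 𝒳 ⥤ᵇ 𝒴)
    (hf : AlgSt.RepByAlgSp1 f) :
    AlgSt.IsQuasiSeparatedMor f ↔ AlgSt.RepByAlgSpWith AlgSp.IsQuasiSeparatedMor f := by
  open FibCat Groth.Agent.H32.DiagApps in
  constructor
  · intro h
    have h2 : AlgSt.RepByAlgSpWith AlgSp.IsQuasiCompactMor (FibCat.diag f) :=
      with_imp (fun _ _ a ha => ha.1) h
    exact ((Groth.Agent.S12944.result S 𝒳 𝒴 h𝒳 h𝒴 f hf).out 1 0).1 h2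
  · exact isQuasiSeparatedMor_of_rep_quasiSeparated h𝒳.isStack.1 h𝒴.isStack.1 f hf

end Groth.Agent.S12945
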