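import Groth.Statements.S1296
import Groth.Agent.H99.PureDesc

set_option autoImplicit false
universe u
open FlatMor

namespace Groth.Agent.S1296

/-- Ring form, X = Spec B affine, T = Spec A' with A' the colimit of a directed system of A-algebras
A'_i: let B be a finite type A-algebra, N a finite B-module, p a prime of A, and suppose given an
impurity of N above p with base change ring A' and points t' ⊆ t. Then for some index i there is an
impurity of N above p whose base change ring is A'_i (up to an A-isomorphism) and whose point t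
corresponds to the contraction of t to A'_i. -/
theorem result {A B : Type u} [CommRing A] [CommRing B] [Algebra A B] [Algebra.FiniteType A B]
    (N : Type u) [AddCommGroup N] [Module B N] [Module.Finite B N] (p : Ideal A) [p.IsPrime]
    {ι : Type u} [Preorder ι] (G : ι → Type u) [∀ i, CommRing (G i)] [∀ i, Algebra A (G i)]
    (g : ∀ i j, i ≤ j → G i →ₐ[A] G j)
    (A' : Type u) [CommRing A'] [Algebra A A'] [∀ i, Algebra (G i) A'] [∀ i, IsScalarTower A (G i) A']
    (hcolim : FlatCA.IsDirectedColimitRing G (fun i j h => (g i j h).toRingHom) A')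
    (B' N' : Type u) [CommRing B'] [Algebra B B'] [Algebra A' B'] [Algebra A B'] [IsScalarTower A B B'] [IsScalarTower A A' B']
    [AddCommGroup N'] [Module B' N'] [Module B N'] [IsScalarTower B B' N'] [Module A' N'] [IsScalarTower A' B' N']
    (f : N →ₗ[B] N') (t' t : Ideal A') [t'.IsPrime] [t.IsPrime] (P : Ideal B') [P.IsPrime]
    (himp : FlatCA.IsImpurity A B N p A' B' N' f t' t P) :
    ∃ i : ι, FlatCA.HasImpurity A B N p (fun A'' _ _ t'' => ∃ e : A'' ≃ₐ[A] G i, t''.map e = t.comap (algebraMap (G i) A')) := by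
  classical
  obtain ⟨hdirected, hne, hid, hcomp, hcompat, hsurj, hker⟩ := hcolim
  have key := Groth.Agent.H99.PureDesc.exists_impurity_of_family N p A' B' N' f t' t P himp G hsurj
    (fun i j => by
      obtain ⟨k, hik, hjk⟩ := hdirected.directed i j
      exact ⟨k, (g i k hik).toRingHom, (g j k hjk).toRingHom,
        fun y => RingHom.congr_fun (hcompat i k hik) y,
        fun y => RingHom.congr_fun (hcompat j k hjk) y⟩)
    (fun A'' _ _ t'' => ∃ i, ∃ e : A'' ≃ₐ[A] G i, t''.map e = t.comap (algebraMap (G i) A'))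
    (fun i => ⟨i, AlgEquiv.refl, le_antisymm (Ideal.map_le_iff_le_comap.mpr (fun x hx => hx))
      (fun x hx => Ideal.mem_map_of_mem (AlgEquiv.refl : G i ≃ₐ[A] G i) hx)⟩)
  obtain ⟨A₁, B₁, N₁, i1, i2, i3, i4, i5, i6, i7, i8, i9, i10, i11, i12, i13, i14, f₁, t₁', t₁,
    h1, h2, P₁, h3, himp₁, i, e, he⟩ := key
  exact ⟨i, A₁, B₁, N₁, i1, i2, i3, i4, i5, i6, i7, i8, i9, i10, i11, i12, i13, i14, f₁, t₁', t₁,
    h1, h2, P₁, h3, himp₁, e, he⟩

end Groth.Agent.S1296
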