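import Groth.Statements.S12973
import Groth.Agent.H32.InertiaSt
import Groth.Agent.S12944

set_option autoImplicit false
universe u
open CategoryTheory AlgebraicGeometry
open AlgSt

namespace Groth.Agent.S12973

/-- For a morphism f : 𝒳 → 𝒴 of algebraic stacks the following are equivalent: the relative inertia
𝓘_{𝒳/𝒴} → 𝒳 is quasi-separated; the diagonal of f is quasi-separated; the neutral section 𝒳 →
𝓘_{𝒳/𝒴} is quasi-compact. All three morphisms are representable by algebraic spaces and the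
properties are the ones of such morphisms. -/
theorem result
    (S : Scheme.{u}) (𝒳 : AlgSt.Cat S) (𝒴 : AlgSt.Cat S)
    (h𝒳 : AlgSt.IsAlgStack Scheme.fppfPrecoverage 𝒳)
    (h𝒴 : AlgSt.IsAlgStack Scheme.fppfPrecoverage 𝒴)
    (f : 𝒳 ⥤ᵇ 𝒴) :
    [AlgSt.RepByAlgSpWith AlgSp.IsQuasiSeparatedMor (FibCat.inertiaToBase f),
      AlgSt.RepByAlgSpWith AlgSp.IsQuasiSeparatedMor (FibCat.diag f),
      AlgSt.RepByAlgSpWith AlgSp.IsQuasiCompactMor (FibCat.inertiaNeutral f)].TFAE := by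
  open FibCat Groth.Agent.H32.InertiaSt Groth.Agent.H32.AlgStackEquiv in
  have hI := isAlgStack_inertia h𝒳 h𝒴 f
  have hff := isAlgStack_fp_self h𝒳 h𝒴 f
  have hδ := repByAlgSp1_diag' h𝒳 h𝒴 f
  tfae_have 2 → 1 := fun h2 => inertiaToBase_of_diag h𝒳 h𝒴 f _ h2
  tfae_have 1 → 3 := fun h1 =>
    neutral_of_diag h𝒳 h𝒴 f _
      (((Groth.Agent.S12944.result S (FibCat.inertia f) 𝒳 hI h𝒳 (FibCat.inertiaToBase f)
        (repByAlgSp1_of_with h1)).out 0 1).1 h1)
  tfae_have 3 → 2 := fun h3 =>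
    ((Groth.Agent.S12944.result S 𝒳 (FibCat.fp f f) h𝒳 hff (FibCat.diag f) hδ).out 1 0).1
      ((neutral_with_iff h𝒳 h𝒴 f _).1 h3)
  tfae_finish

end Groth.Agent.S12973
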