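import Groth.Statements.S12974
import Groth.Agent.H32.InertiaSt
import Groth.Agent.S10262
import Groth.Agent.H32.Cover
import Groth.Agent.H52.Sections

set_option autoImplicit false
universe u
open CategoryTheory AlgebraicGeometry
open AlgSt

namespace Groth.Agent.S12974

/-- For a morphism f : 𝒳 → 𝒴 of algebraic stacks, the relative inertia 𝓘_{𝒳/𝒴} → 𝒳 is unramified if and
only if f is DM. -/
theorem result
    (S : Scheme.{u}) (𝒳 : AlgSt.Cat S) (𝒴 : AlgSt.Cat S)
    (h𝒳 : AlgSt.IsAlgStack Scheme.fppfPrecoverage 𝒳)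
    (h𝒴 : AlgSt.IsAlgStack Scheme.fppfPrecoverage 𝒴)
    (f : 𝒳 ⥤ᵇ 𝒴) :
    AlgSt.RepByAlgSpWith (AlgSp.LocP (@LocallyOfFiniteType ⊓ @FormallyUnramified)) (FibCat.inertiaToBase f) ↔
      AlgSt.IsDMMor f := by
  open FibCat CategoryTheory.Limits Groth.Agent.H32.InertiaSt Groth.Agent.H32.AlgStackEquiv Groth.Agent.H32.DiagRep
    Groth.Agent.H32.DiagDict Groth.Agent.H32.PFacts Groth.Agent.H32.FppfLocal Groth.Agent.H32.Cover in
  have hI := isAlgStack_inertia h𝒳 h𝒴 f
  have hff := isAlgStack_fp_self h𝒳 h𝒴 f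
  have hδ := repByAlgSp1_diag' h𝒳 h𝒴 f
  constructor
  · intro hp
    -- the diagonal of the inertia is an open immersion
    have h1 : AlgSt.RepByAlgSpWith (AlgSp.RepWith @IsOpenImmersion)
        (FibCat.diag (FibCat.inertiaToBase f)) :=
      with_diag_of_rep' (AlgSp.RepWith @IsOpenImmersion)
        (AlgSp.LocP (@LocallyOfFiniteType ⊓ @FormallyUnramified))
        (fun _ _ _ _ _ _ _ _ _ _ _ _ sq ha =>
          (AlgSp.repWith_isStableUnderBaseChange (S := S) @IsOpenImmersion).of_isPullback sq ha)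
        (fun X T g s hs hR => by
          have sq := Groth.Agent.H52.isPullback_section g.hom s.hom (congrArg (fun k => k.hom) hs)
            (pullback.lift (g.hom ≫ s.hom) (𝟙 X.obj) (by
              rw [Category.assoc, show s.hom ≫ g.hom = 𝟙 _ from congrArg (fun k => k.hom) hs,
                Category.comp_id, Category.id_comp]))
            (pullback.lift_fst _ _ _) (pullback.lift_snd _ _ _)
          exact (AlgSp.repWith_isStableUnderBaseChange (S := S) @IsOpenImmersion).of_isPullback sq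
            ((Groth.Agent.S10262.result g).1 hR))
        good_unramified.loc hI.isStack.1 h𝒳.isStack.1 (FibCat.inertiaToBase f)
        (repByAlgSp1_of_with hp) hp
    have h2 := (neutral_with_iff h𝒳 h𝒴 f _).1 (neutral_of_diag h𝒳 h𝒴 f _ h1)
    intro U ζ
    obtain ⟨F, E', hE', hlft⟩ := lft_diag h𝒳 h𝒴 f U ζ
    refine ⟨F, E', hE', ?_⟩
    have key := diagonal_of_with_diag _ isLocalOnBase_fppf_openImm h𝒳.isStack.1 hff.isStack.1
      (FibCat.diag f) h2 U ζ F E' hE'
    exact (Groth.Agent.S10262.result (X := F) (Y := (AlgSp.ofScheme S).obj U)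
      (ObjectProperty.homMk _)).2 hlft key
  · intro h
    exact inertiaToBase_of_diag h𝒳 h𝒴 f _ h

end Groth.Agent.S12974
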