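import Groth.Statements.S12979
import Groth.Agent.H32.InertiaSt
import Groth.Agent.S12943
import Groth.Agent.H32.UnivClosedQC
import Groth.Agent.H32.Cover

set_option autoImplicit false
universe u
open CategoryTheory AlgebraicGeometry
open AlgSt

namespace Groth.Agent.S12979

/-- If the first and second diagonals of a morphism f of algebraic stacks are both universally closed
(as morphisms representable by algebraic spaces), then f is separated. (The published statement is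
an equivalence; this row states the implication from the two diagonals to separatedness.) -/
theorem result
    (S : Scheme.{u}) (𝒳 : AlgSt.Cat S) (𝒴 : AlgSt.Cat S)
    (h𝒳 : AlgSt.IsAlgStack Scheme.fppfPrecoverage 𝒳)
    (h𝒴 : AlgSt.IsAlgStack Scheme.fppfPrecoverage 𝒴)
    (f : 𝒳 ⥤ᵇ 𝒴) :
    AlgSt.RepByAlgSpWith AlgSp.IsUnivClosedMor (FibCat.diag f) →
      AlgSt.RepByAlgSpWith AlgSp.IsUnivClosedMor (FibCat.diag (FibCat.diag f)) → AlgSt.IsSeparatedMor f := by
  open FibCat CategoryTheory.Limits Groth.Agent.H32.InertiaSt Groth.Agent.H32.AlgStackEquiv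
    Groth.Agent.H32.SpComp Groth.Agent.H32.Cover in
  intro h1 h2
  have hff := isAlgStack_fp_self h𝒳 h𝒴 f
  have hδ : AlgSt.RepByAlgSp1 (FibCat.diag f) := repByAlgSp1_of_with h1
  have hsep : AlgSt.RepByAlgSpWith AlgSp.IsSeparatedMor (FibCat.diag f) :=
    ((Groth.Agent.S12943.result S 𝒳 (FibCat.fp f f) h𝒳 hff (FibCat.diag f) hδ).out 3 0).1 h2
  have hlft := lft_diag h𝒳 h𝒴 f
  intro U ζ
  obtain ⟨F₁, e₁, he₁, hs⟩ := hsep U ζ
  obtain ⟨F₂, e₂, he₂, hl⟩ := hlft U ζ
  obtain ⟨F₃, e₃, he₃, hu⟩ := h1 U ζ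
  obtain ⟨i₂, hi₂⟩ := rep_unique_over (FibCat.diag f) U ζ F₁.obj F₂.obj e₁ e₂ he₁ he₂
  obtain ⟨i₃, hi₃⟩ := rep_unique_over (FibCat.diag f) U ζ F₁.obj F₃.obj e₁ e₃ he₁ he₃
  have huc : AlgSp.IsUnivClosedMor
      (AlgSt.spMapOfOver (BasedFunctor.comp e₁ (fpFst ζ (FibCat.diag f)))) := by
    rw [← hi₃]
    intro Z Z' hZ g fst snd sq
    refine hu hZ g (fst ≫ i₃.hom) snd ?_
    exact IsPullback.of_iso sq (Iso.refl _) i₃ (Iso.refl _) (Iso.refl _) (by simp) (by simp)
      (by simp) (by simp)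
  refine ⟨F₁, e₁, he₁, hs, ⟨?_, ?_⟩, huc⟩
  · rw [← hi₂]
    exact locP_iso_comp i₂ _ hl
  · exact Groth.Agent.H32.UnivClosedQC.isQuasiCompactMor_of_isUnivClosedMor F₁.property
      (AlgSp.IsAlgSpace.yon_obj U) _ huc

end Groth.Agent.S12979
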