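import Groth.Statements.S12980
import Groth.Agent.S12944
import Groth.Agent.H32.AlgStackFp

set_option autoImplicit false
universe u
open CategoryTheory AlgebraicGeometry
open AlgSt

namespace Groth.Agent.S12980

/-- A morphism f of algebraic stacks is quasi-separated if and only if its first and second diagonals
are both quasi-compact (as morphisms representable by algebraic spaces). -/
theorem result
    (S : Scheme.{u}) (𝒳 : AlgSt.Cat S) (𝒴 : AlgSt.Cat S)
    (h𝒳 : AlgSt.IsAlgStack Scheme.fppfPrecoverage 𝒳)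
    (h𝒴 : AlgSt.IsAlgStack Scheme.fppfPrecoverage 𝒴)
    (f : 𝒳 ⥤ᵇ 𝒴) :
    AlgSt.IsQuasiSeparatedMor f ↔
      AlgSt.RepByAlgSpWith AlgSp.IsQuasiCompactMor (FibCat.diag f) ∧
        AlgSt.RepByAlgSpWith AlgSp.IsQuasiCompactMor (FibCat.diag (FibCat.diag f)) := by
  open FibCat Groth.Agent.H32.DiagApps Groth.Agent.H32.DiagDict Groth.Agent.H32.AlgStackFp
    Groth.Agent.H32.AlgStackEquiv in
  have h𝒳' := h𝒳.isStack.1
  have h𝒴' := h𝒴.isStack.1
  have hfp : AlgSt.IsAlgStack Scheme.fppfPrecoverage (FibCat.fp f f) :=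
    isAlgStack_fp h𝒴' h𝒴.diag h𝒳 h𝒳 f f
  constructor
  · intro h
    have hδ : AlgSt.RepByAlgSp1 (FibCat.diag f) := repByAlgSp1_of_with h
    refine ⟨with_imp (fun _ _ a ha => ha.1) h, ?_⟩
    exact ((Groth.Agent.S12944.result S 𝒳 (FibCat.fp f f) h𝒳 hfp (FibCat.diag f) hδ).out 0 1).1
      (with_imp (fun _ _ a ha => ha.2) h)
  · rintro ⟨h1, h2⟩
    have hδ : AlgSt.RepByAlgSp1 (FibCat.diag f) := repByAlgSp1_of_with h1
    have hqs := ((Groth.Agent.S12944.result S 𝒳 (FibCat.fp f f) h𝒳 hfp (FibCat.diag f) hδ).out 1 0).1 h2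
    refine with_inf (fun X X' Y i a ha => ?_) h1 hqs
    exact (MorphismProperty.cancel_left_of_respectsIso (AlgSp.RepWith @QuasiCompact).diagonal
      i.hom a).2 ha

end Groth.Agent.S12980
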