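import Groth.Statements.S12981
import Groth.Agent.H65.QCMor

set_option autoImplicit false
universe u
open CategoryTheory AlgebraicGeometry
open AlgSt

namespace Groth.Agent.S12981


/-- For a morphism f of algebraic stacks that is representable by algebraic spaces, every base change of
f to a scheme is a quasi-compact morphism of algebraic spaces if and only if for every quasi-compact
algebraic stack 𝒵 and every 𝒵 → 𝒴 the 2-fibre product 𝒵 ×_𝒴 𝒳 is quasi-compact. -/
theorem result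
    (S : Scheme.{u}) (𝒳 : AlgSt.Cat S) (𝒴 : AlgSt.Cat S)
    (h𝒳 : AlgSt.IsAlgStack Scheme.fppfPrecoverage 𝒳)
    (h𝒴 : AlgSt.IsAlgStack Scheme.fppfPrecoverage 𝒴)
    (f : 𝒳 ⥤ᵇ 𝒴)
    (hf : AlgSt.RepByAlgSp1 f) :
    AlgSt.RepByAlgSpWith AlgSp.IsQuasiCompactMor f ↔ AlgSt.IsQuasiCompactMor Scheme.fppfPrecoverage f := by
  constructor
  · intro h 𝒵 h𝒵 hq g
    exact Groth.Agent.H65.QCMor.isQuasiCompact_fp_of_qcMor h𝒳.isStack.1 h𝒴.isStack.1
      h𝒵.isStack.1 f h g hq
  · intro h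
    exact Groth.Agent.H65.QCMor.qcMor_of_isQuasiCompactMor h𝒳.isStack.1 h𝒴.isStack.1 f hf h

end Groth.Agent.S12981
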