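import Groth.Statements.S12982
import Groth.Agent.H65.QC

set_option autoImplicit false
universe u
open CategoryTheory AlgebraicGeometry
open AlgSt

namespace Groth.Agent.S12982


/-- The base change of a quasi-compact morphism of algebraic stacks along any morphism of algebraic
stacks is quasi-compact (quasi-compact: base change to any quasi-compact algebraic stack is
quasi-compact). -/
theorem result
    (S : Scheme.{u}) (𝒳 : AlgSt.Cat S) (𝒴 : AlgSt.Cat S) (𝒴' : AlgSt.Cat S)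
    (h𝒳 : AlgSt.IsAlgStack Scheme.fppfPrecoverage 𝒳)
    (h𝒴 : AlgSt.IsAlgStack Scheme.fppfPrecoverage 𝒴)
    (h𝒴' : AlgSt.IsAlgStack Scheme.fppfPrecoverage 𝒴')
    (f : 𝒳 ⥤ᵇ 𝒴) (g : 𝒴' ⥤ᵇ 𝒴) :
    AlgSt.IsQuasiCompactMor Scheme.fppfPrecoverage f → AlgSt.IsQuasiCompactMor Scheme.fppfPrecoverage (FibCat.fpFst g f) := by
  intro hf 𝒵 h𝒵 hqc z
  have h1 := hf 𝒵 h𝒵 hqc (BasedFunctor.comp z g)
  have hgf : FibCat.IsFibGrpd (FibCat.fp g f).p :=
    Groth.Agent.H32.Repr.fp_isFibGrpd g f h𝒴'.isStack.1 h𝒳.isStack.1 h𝒴.isStack.1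
  exact Groth.Agent.H65.QC.isQuasiCompact_of_equiv
    (Groth.Agent.H32.Repr.fp_isFibGrpd _ _ h𝒵.isStack.1 h𝒳.isStack.1 h𝒴.isStack.1)
    (Groth.Agent.H32.Repr.fp_isFibGrpd _ _ h𝒵.isStack.1 hgf h𝒴'.isStack.1)
    (Groth.Agent.H32.Fp2.paste z g f) (Groth.Agent.H32.Fp2.paste_isEquivOver z g f) h1

end Groth.Agent.S12982
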