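import Groth.Statements.S12986
import Groth.Agent.H65.QCMor
import Groth.Agent.H65.AffComp
import Groth.Agent.H32.CompMap

set_option autoImplicit false
universe u
open CategoryTheory AlgebraicGeometry
open AlgSt

namespace Groth.Agent.S12986


/-- If the composite of f : 𝒳 → 𝒴 and g : 𝒴 → 𝒵 (morphisms of algebraic stacks) is quasi-compact and g
is quasi-separated, then f is quasi-compact. -/
theorem result
    (S : Scheme.{u}) (𝒳 : AlgSt.Cat S) (𝒴 : AlgSt.Cat S) (𝒵 : AlgSt.Cat S)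
    (h𝒳 : AlgSt.IsAlgStack Scheme.fppfPrecoverage 𝒳)
    (h𝒴 : AlgSt.IsAlgStack Scheme.fppfPrecoverage 𝒴)
    (h𝒵 : AlgSt.IsAlgStack Scheme.fppfPrecoverage 𝒵)
    (f : 𝒳 ⥤ᵇ 𝒴) (g : 𝒴 ⥤ᵇ 𝒵) :
    AlgSt.IsQuasiCompactMor Scheme.fppfPrecoverage (BasedFunctor.comp f g) → AlgSt.IsQuasiSeparatedMor g → AlgSt.IsQuasiCompactMor Scheme.fppfPrecoverage f := by
  intro hfg hg 𝒲 h𝒲 hq z
  have iW := h𝒲.isStack.1
  have iX := h𝒳.isStack.1
  have iY := h𝒴.isStack.1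
  have iZ := h𝒵.isStack.1
  have hA : AlgSt.IsQuasiCompact
      (FibCat.fp (BasedFunctor.comp z g) (BasedFunctor.comp f g)) :=
    hfg 𝒲 h𝒲 hq (BasedFunctor.comp z g)
  have hΔ : AlgSt.RepByAlgSpWith AlgSp.IsQuasiCompactMor (FibCat.diag g) :=
    Groth.Agent.H65.AffComp.with_mono (fun _ _ _ h => h.1) _ hg
  have hc := Groth.Agent.H32.CompMap.with_compMap z f g
    (Groth.Agent.H32.Magic.whiskerR (FibCat.fpIso z f) g) (fun _ => rfl)
    AlgSp.IsQuasiCompactMor iW iX iY iZ hΔ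
  have gA : FibCat.IsFibGrpd (FibCat.fp (BasedFunctor.comp z g) (BasedFunctor.comp f g)).p :=
    Groth.Agent.H32.Repr.fp_isFibGrpd _ _ iW iX iZ
  have gzf : FibCat.IsFibGrpd (FibCat.fp z f).p :=
    Groth.Agent.H32.Repr.fp_isFibGrpd _ _ iW iX iY
  have h2 := Groth.Agent.H65.QCMor.isQuasiCompact_fp_of_qcMor gzf gA gA _ hc
    (BasedFunctor.id _) hA
  exact Groth.Agent.H65.QC.isQuasiCompact_of_equiv
    (Groth.Agent.H32.Repr.fp_isFibGrpd _ _ gA gzf gA) gzf _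
    (Groth.Agent.H32.Sect.fpSnd_isEquivOver _ _ (Groth.Agent.H32.SpBridge.isEquivOver_id _)) h2

end Groth.Agent.S12986
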