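import Groth.Statements.S12988
import Groth.Agent.H65.QCProd

set_option autoImplicit false
universe u
open CategoryTheory AlgebraicGeometry
open AlgSt

namespace Groth.Agent.S12988


/-- Over a quasi-separated base scheme, a 2-fibre product of algebraic stacks that are quasi-compact and
quasi-separated over the base scheme is quasi-compact and quasi-separated over the base scheme. (The
published statement is about stacks quasi-compact and quasi-separated over the integers and puts no
condition on the base scheme; this row assumes the base scheme quasi-separated and uses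
quasi-separatedness over it. Without quasi-separatedness of the base the quasi-compactness
conclusion fails: for the base glued from two copies of infinite-dimensional affine space along the
complement of the origin, the two copies are quasi-compact and quasi-separated over the base while
their fibre product over the base is that complement, which is not quasi-compact.) -/
theorem result
    (S : Scheme.{u}) [QuasiSeparatedSpace S] (𝒳 : AlgSt.Cat S) (𝒴 : AlgSt.Cat S) (𝒵 : AlgSt.Cat S)
    (h𝒳 : AlgSt.IsAlgStack Scheme.fppfPrecoverage 𝒳)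
    (h𝒴 : AlgSt.IsAlgStack Scheme.fppfPrecoverage 𝒴)
    (h𝒵 : AlgSt.IsAlgStack Scheme.fppfPrecoverage 𝒵)
    (a : 𝒳 ⥤ᵇ 𝒴) (b : 𝒵 ⥤ᵇ 𝒴) :
    AlgSt.IsQuasiCompact 𝒳 → AlgSt.IsQuasiSeparatedOver 𝒳 →
      AlgSt.IsQuasiCompact 𝒴 → AlgSt.IsQuasiSeparatedOver 𝒴 →
      AlgSt.IsQuasiCompact 𝒵 → AlgSt.IsQuasiSeparatedOver 𝒵 →
      AlgSt.IsQuasiCompact (FibCat.fp a b) ∧ AlgSt.IsQuasiSeparatedOver (FibCat.fp a b) := by
  intro hX hXs _ hYs hZ hZs
  have iX := h𝒳.isStack.1
  have iY := h𝒴.isStack.1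
  have iZ := h𝒵.isStack.1
  have hself : FibCat.IsFibGrpd (FibCat.selfOver (Over S)).p := Groth.Agent.H32.Repr.self_isFibGrpd
  have hΔ : AlgSt.RepByAlgSpWith AlgSp.IsQuasiCompactMor (FibCat.diag (FibCat.toSelf 𝒴)) :=
    Groth.Agent.H65.AffComp.with_mono (fun _ _ _ h => h.1) _ hYs
  have hΔs : AlgSt.RepByAlgSpWith AlgSp.IsQuasiSeparatedMor (FibCat.diag (FibCat.toSelf 𝒴)) :=
    Groth.Agent.H65.AffComp.with_mono (fun _ _ _ h => h.2) _ hYs
  refine ⟨Groth.Agent.H65.QCProd.isQuasiCompact_fp iX iY iZ a b hΔ hX hZ, ?_⟩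
  -- `b` is quasi-separated
  have hbt : AlgSt.IsQuasiSeparatedMor (BasedFunctor.comp b (FibCat.toSelf 𝒴)) := by
    rw [Groth.Agent.H32.Prod.eq_toSelf (BasedFunctor.comp b (FibCat.toSelf 𝒴))]
    exact hZs
  have hb : AlgSt.IsQuasiSeparatedMor b :=
    Groth.Agent.H32.DiagApps.with_diag_of_comp' Groth.Agent.H32.GoodMore.good_qcqs
      Groth.Agent.H32.GoodMore.good_quasiSeparated Groth.Agent.H32.DiagApps.sec_qcqs
      iZ iY hself b (FibCat.toSelf 𝒴) h𝒴.diag hΔs hbt
  have h1 : AlgSt.IsQuasiSeparatedMor (FibCat.fpFst a b) :=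
    Groth.Agent.H32.SectSt.with_diag_fpFst _ iZ iY iX a b hb
  have iP : FibCat.IsFibGrpd (FibCat.fp a b).p := Groth.Agent.H32.Repr.fp_isFibGrpd _ _ iX iZ iY
  have h2 : AlgSt.IsQuasiSeparatedMor
      (BasedFunctor.comp (FibCat.fpFst a b) (FibCat.toSelf 𝒳)) :=
    Groth.Agent.H32.SectSt.with_diag_comp Groth.Agent.H32.GoodMore.good_qcqs iP iX hself _ _ h1 hXs
  rw [Groth.Agent.H32.Prod.eq_toSelf (BasedFunctor.comp (FibCat.fpFst a b) (FibCat.toSelf 𝒳))] at h2
  exact h2

end Groth.Agent.S12988
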