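import Groth.Statements.S12992
import Groth.Agent.H65.SpMaps

set_option autoImplicit false
universe u
open CategoryTheory AlgebraicGeometry
open AlgSt

namespace Groth.Agent.S12992


/-- Let P be smooth local on the source-and-target and a : F → G a morphism of algebraic spaces. Then
the associated functor of categories over the base has P read on smooth scheme charts if and only if
a has P. -/
theorem result
    (S : Scheme.{u}) (P : MorphismProperty (AlgSp.Sp S)) (hP : AlgSp.IsSmoothLocalST P)
    (F G : AlgSp.Space S) (a : F ⟶ G) :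
    AlgSt.LocQ P (AlgSt.ofSpMap a.hom) ↔ P a.hom := by
  have i1 := Groth.Agent.H32.AtlasRep.locP_respectsIso (S := S) @Smooth
  have i2 := Groth.Agent.H32.AtlasRep.isSurjectiveMor_respectsIso (S := S)
  constructor
  · rintro ⟨U, V, x, y, h, α, hx1, hx2, hy, hh⟩
    refine (hP.locality F.property G.property a.hom).mpr (fun p => ?_)
    have hs : AlgSp.IsSurjectiveMor
        (ObjectProperty.homMk (Groth.Agent.H32.SpBridge.pointMap x) :
          (AlgSp.yon S).obj U ⟶ F.obj) :=
      Groth.Agent.H65.QCMor.surjective_pointMap F x hx2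
    obtain ⟨v, hv⟩ := hs p
    refine ⟨(AlgSp.yon S).obj U, (AlgSp.yon S).obj V,
      ObjectProperty.homMk (Groth.Agent.H32.SpBridge.pointMap x),
      ObjectProperty.homMk (Groth.Agent.H32.SpBridge.pointMap y), (AlgSp.yon S).map h, v,
      AlgSp.IsAlgSpace.yon_obj U, AlgSp.IsAlgSpace.yon_obj V,
      Groth.Agent.H65.SpMaps.prop_pointMap _ Groth.Agent.H32.PFacts.good_smooth.loc F U x hx1,
      Groth.Agent.H65.SpMaps.prop_pointMap _ Groth.Agent.H32.PFacts.good_smooth.loc G V y hy,
      ?_, hv, hh⟩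
    apply ObjectProperty.hom_ext
    exact Groth.Agent.H65.SpMaps.pointMap_sq a.hom x y h α
  · intro ha
    obtain ⟨V, q, hq1, hq2⟩ := G.property.atlas
    have hF' : AlgSp.IsAlgSpace (Limits.pullback a.hom q) :=
      Groth.Agent.H50.isAlgSpace_pullback a.hom q F.property (AlgSp.IsAlgSpace.yon_obj V)
        G.property.diag
    have sq : IsPullback (Limits.pullback.fst a.hom q) (Limits.pullback.snd a.hom q) a.hom q :=
      IsPullback.of_hasPullback _ _
    have hsnd : P (Limits.pullback.snd a.hom q) :=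
      hP.baseChange F.property G.property hF' (AlgSp.IsAlgSpace.yon_obj V) a.hom q
        (Limits.pullback.snd _ _) (Limits.pullback.fst _ _) sq
        (Groth.Agent.H32.AtlasRep.locP_smooth_of_repWith_etale q hq1) ha
    obtain ⟨U, p, hp1, hp2⟩ := hF'.atlas
    obtain ⟨h, hh⟩ : ∃ h : U ⟶ V, (AlgSp.yon S).map h = p ≫ Limits.pullback.snd a.hom q :=
      ⟨(AlgSp.yon S).preimage (p ≫ Limits.pullback.snd a.hom q), Functor.map_preimage _ _⟩
    have hPh : P ((AlgSp.yon S).map h) := by
      rw [hh]
      exact hP.precomp (AlgSp.IsAlgSpace.yon_obj U) hF' (AlgSp.IsAlgSpace.yon_obj V) p _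
        (Groth.Agent.H32.AtlasRep.locP_smooth_of_repWith_etale p hp1) hsnd
    have hfst1 : AlgSp.RepWith @Etale (Limits.pullback.fst a.hom q) :=
      Groth.Agent.H50.repWith_fst_of_isPullback sq hq1
    have hfst2 : AlgSp.RepWith @Surjective (Limits.pullback.fst a.hom q) :=
      Groth.Agent.H50.repWith_fst_of_isPullback sq hq2
    have hx1 : AlgSp.RepWith @Etale (p ≫ Limits.pullback.fst a.hom q) :=
      (AlgSp.repWith_isMultiplicative (S := S) @Etale).comp_mem _ _ hp1 hfst1
    have hx2 : AlgSp.RepWith @Surjective (p ≫ Limits.pullback.fst a.hom q) :=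
      (AlgSp.repWith_isMultiplicative (S := S) @Surjective).comp_mem _ _ hp2 hfst2
    have w : (p ≫ Limits.pullback.fst a.hom q) ≫ a.hom = (AlgSp.yon S).map h ≫ q := by
      rw [hh, Category.assoc, Category.assoc, Limits.pullback.condition]
    obtain ⟨α⟩ := Groth.Agent.H65.SpMaps.iso_of_pointMap_sq a.hom
      (p ≫ Limits.pullback.fst a.hom q) q h w
    exact ⟨U, V, Groth.Agent.H32.SpBridge.ofPoint (p ≫ Limits.pullback.fst a.hom q).hom,
      Groth.Agent.H32.SpBridge.ofPoint q.hom, h, α,
      Groth.Agent.H32.AtlasRep.repByAlgSpWith_ofPoint @Etale (AlgSp.LocP @Smooth)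
        (fun F' U snd h => Groth.Agent.H32.AtlasRep.locP_smooth_of_repWith_etale snd h) _ hx1,
      Groth.Agent.H32.AtlasRep.repByAlgSpWith_ofPoint @Surjective AlgSp.IsSurjectiveMor
        (fun F' U snd h => Groth.Agent.H32.AtlasRep.isSurjectiveMor_of_repWith_to_yon snd h) _ hx2,
      Groth.Agent.H32.AtlasRep.repByAlgSpWith_ofPoint @Etale (AlgSp.LocP @Smooth)
        (fun F' U snd h => Groth.Agent.H32.AtlasRep.locP_smooth_of_repWith_etale snd h) _ hq1,
      hPh⟩

end Groth.Agent.S12992
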