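import Groth.Statements.S12996
import Groth.Agent.H65.ChartSq

set_option autoImplicit false
universe u
open CategoryTheory AlgebraicGeometry
open AlgSt

namespace Groth.Agent.S12996


/-- An immersion of algebraic stacks is locally of finite type. -/
theorem result
    (S : Scheme.{u}) (𝒳 : AlgSt.Cat S) (𝒴 : AlgSt.Cat S)
    (h𝒳 : AlgSt.IsAlgStack Scheme.fppfPrecoverage 𝒳)
    (h𝒴 : AlgSt.IsAlgStack Scheme.fppfPrecoverage 𝒴)
    (f : 𝒳 ⥤ᵇ 𝒴) :
    AlgSt.IsImm f → AlgSt.LocQ (AlgSp.LocP @LocallyOfFiniteType) f := by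
  intro hf
  obtain ⟨V, y, hy1, hy2⟩ := h𝒴.atlas
  obtain ⟨U, x, h, α, hx1, hx2, hQ⟩ := Groth.Agent.H65.ChartSq.exists_chart_square
    h𝒳.isStack.1 h𝒴.isStack.1 @IsImmersion f hf V y hy1 hy2
  refine ⟨U, V, x, y, h, α, hx1, hx2, hy1, ?_⟩
  have h0 : IsImmersion h.left := hQ
  have h1 : LocallyOfFiniteType h.left := inferInstance
  exact Groth.Agent.H50.locP_of_repWith (P := @LocallyOfFiniteType)
    (fun A B g hg => inferInstance) ((AlgSp.repWith_yon_map_iff @LocallyOfFiniteType h).2 h1)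

end Groth.Agent.S12996
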