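import Groth.Statements.S12997
import Groth.Agent.H65.ChartSq

set_option autoImplicit false
universe u
open CategoryTheory AlgebraicGeometry
open AlgSt

namespace Groth.Agent.S12997


/-- An open immersion of algebraic stacks is locally of finite presentation. -/
theorem result
    (S : Scheme.{u}) (𝒳 : AlgSt.Cat S) (𝒴 : AlgSt.Cat S)
    (h𝒳 : AlgSt.IsAlgStack Scheme.fppfPrecoverage 𝒳)
    (h𝒴 : AlgSt.IsAlgStack Scheme.fppfPrecoverage 𝒴)
    (f : 𝒳 ⥤ᵇ 𝒴) :
    AlgSt.IsOpenImm f → AlgSt.LocQ (AlgSp.LocP @LocallyOfFinitePresentation) f := by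
  intro hf
  obtain ⟨V, y, hy1, hy2⟩ := h𝒴.atlas
  obtain ⟨U, x, h, α, hx1, hx2, hQ⟩ := Groth.Agent.H65.ChartSq.exists_chart_square
    h𝒳.isStack.1 h𝒴.isStack.1 @IsOpenImmersion f hf V y hy1 hy2
  refine ⟨U, V, x, y, h, α, hx1, hx2, hy1, ?_⟩
  have h0 : IsOpenImmersion h.left := hQ
  have h1 : LocallyOfFinitePresentation h.left := inferInstance
  exact Groth.Agent.H50.locP_of_repWith (P := @LocallyOfFinitePresentation)
    (fun A B g hg => inferInstance) ((AlgSp.repWith_yon_map_iff @LocallyOfFinitePresentation h).2 h1)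

end Groth.Agent.S12997
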