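import Groth.Statements.S12998
import Groth.Agent.H65.Refine
import Groth.Agent.S0116

set_option autoImplicit false
universe u
open CategoryTheory AlgebraicGeometry
open AlgSt

namespace Groth.Agent.S12998


/-- For a morphism of algebraic stacks f : 𝒳 → 𝒴 that is locally of finite type, local Noetherianity of
𝒴 implies local Noetherianity of 𝒳 (locally Noetherian: every scheme smooth over the stack is
locally Noetherian). -/
theorem result
    (S : Scheme.{u}) (𝒳 : AlgSt.Cat S) (𝒴 : AlgSt.Cat S)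
    (h𝒳 : AlgSt.IsAlgStack Scheme.fppfPrecoverage 𝒳)
    (h𝒴 : AlgSt.IsAlgStack Scheme.fppfPrecoverage 𝒴)
    (f : 𝒳 ⥤ᵇ 𝒴) :
    AlgSt.LocQ (AlgSp.LocP @LocallyOfFiniteType) f → AlgSt.SmoothLocally (fun T ↦ IsLocallyNoetherian T) 𝒴 → AlgSt.SmoothLocally (fun T ↦ IsLocallyNoetherian T) 𝒳 := by
  rintro ⟨U, V, x, y, h, α, hx1, hx2, hy, hh⟩ hY U' x' hx'
  have hV : IsLocallyNoetherian V.left := hY V y hy
  have hh' : LocallyOfFiniteType h.left := AlgSp.locP_yon_map hh
  have hU : IsLocallyNoetherian U.left := LocallyOfFiniteType.isLocallyNoetherian h.left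
  obtain ⟨T, a, b, -, ha1, ha2, hb⟩ :=
    Groth.Agent.H65.Refine.exists_refinement h𝒳.isStack.1 x' x hx' hx1 hx2
  have hT : IsLocallyNoetherian T.left := LocallyOfFiniteType.isLocallyNoetherian b.left
  exact Groth.Agent.S0116.result a.left

end Groth.Agent.S12998
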