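import Groth.Statements.S13000
import Groth.Agent.H65.LocQIso

set_option autoImplicit false
universe u
open CategoryTheory AlgebraicGeometry
open AlgSt

namespace Groth.Agent.S13000

open Groth.Agent.H32.PFacts Groth.Agent.H32.GoodMore Groth.Agent.H32.Cover Groth.Agent.H32.DiagApps
  Groth.Agent.H32.AtlasRep Groth.Agent.H65.LocQ Groth.Agent.H65.LocQIso

/-- Let f : 𝒳 → 𝒴 be a morphism of algebraic stacks and W → 𝒴 a surjective, flat, locally finitely
presented morphism whose source is an algebraic space. Whenever the projection to W from W ×_𝒴 𝒳 is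
locally of finite type, so is f. -/
theorem result
    (S : Scheme.{u}) (𝒳 : AlgSt.Cat S) (𝒴 : AlgSt.Cat S)
    (h𝒳 : AlgSt.IsAlgStack Scheme.fppfPrecoverage 𝒳)
    (h𝒴 : AlgSt.IsAlgStack Scheme.fppfPrecoverage 𝒴)
    (f : 𝒳 ⥤ᵇ 𝒴)
    (W : AlgSp.Space S) (w : AlgSt.ofSp W.obj ⥤ᵇ 𝒴)
    (hw₁ : AlgSt.RepByAlgSpWith (AlgSp.LocP @Flat) w)
    (hw₂ : AlgSt.RepByAlgSpWith (AlgSp.LocP @LocallyOfFinitePresentation) w)
    (hw₃ : AlgSt.RepByAlgSpWith AlgSp.IsSurjectiveMor w) :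
    AlgSt.LocQ (AlgSp.LocP @LocallyOfFiniteType) (FibCat.fpFst w f) → AlgSt.LocQ (AlgSp.LocP @LocallyOfFiniteType) f := by
  intro H
  have h𝒲 : AlgSt.IsAlgStack Scheme.fppfPrecoverage (AlgSt.ofSp W.obj) := isAlgStack_ofSp W
  have hlft : AlgSt.RepByAlgSpWith (AlgSp.LocP @LocallyOfFiniteType) w :=
    with_imp (fun _ _ a ha => locP_mono
      (fun _ _ g hg => by have : LocallyOfFinitePresentation g := hg; infer_instance) a ha) hw₂
  have hwP : AlgSt.LocQ (AlgSp.LocP @LocallyOfFiniteType) w :=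
    (Groth.Agent.S12993.result S _ Groth.Agent.H65.SmoothST.isSmoothLocalST_lft good_lft.bc
      good_lft.loc (AlgSt.ofSp W.obj) 𝒴 h𝒲 h𝒴 w (rep1_of_with hw₁)).mpr hlft
  exact locQ_of_fpFst_rep_cover Groth.Agent.H65.SmoothST.isSmoothLocalST_lft
    (Groth.Agent.S10550.result S) good_lft.comp h𝒳 h𝒴 h𝒲 f w hw₁ hw₂ hw₃ hwP H

end Groth.Agent.S13000
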