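import Groth.Statements.S13002
import Groth.Agent.H65.LocQComp
import Groth.Agent.H65.SmoothST

set_option autoImplicit false
universe u
open CategoryTheory AlgebraicGeometry
open AlgSt

namespace Groth.Agent.S13002

open CategoryTheory.Limits FibCat Stk Groth.Agent.H32.FibProd Groth.Agent.H32.Fp2
  Groth.Agent.H32.Fp3 Groth.Agent.H32.Fp4 Groth.Agent.H32.SpBridge Groth.Agent.H32.PFacts
  Groth.Agent.H32.AlgStackEquiv Groth.Agent.H32.AtlasRep Groth.Agent.H32.SpComp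
  Groth.Agent.H32.StackOps Groth.Agent.H32.SectSt Groth.Agent.H32.Repr Groth.Agent.H32.SpTrack
  Groth.Agent.H32.PshFp Groth.Agent.H32.Sect Groth.Agent.H32.DiagDescent
  Groth.Agent.H65.QC Groth.Agent.H65.SpMaps Groth.Agent.H65.LocQ


/-- If f : 𝒳 → 𝒴 and g : 𝒴 → 𝒵 are morphisms of algebraic stacks whose composite is locally of finite
type, then f itself is locally of finite type. -/
theorem result
    (S : Scheme.{u}) (𝒳 : AlgSt.Cat S) (𝒴 : AlgSt.Cat S) (𝒵 : AlgSt.Cat S)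
    (h𝒳 : AlgSt.IsAlgStack Scheme.fppfPrecoverage 𝒳)
    (h𝒴 : AlgSt.IsAlgStack Scheme.fppfPrecoverage 𝒴)
    (h𝒵 : AlgSt.IsAlgStack Scheme.fppfPrecoverage 𝒵)
    (f : 𝒳 ⥤ᵇ 𝒴) (g : 𝒴 ⥤ᵇ 𝒵) :
    AlgSt.LocQ (AlgSp.LocP @LocallyOfFiniteType) (BasedFunctor.comp f g) → AlgSt.LocQ (AlgSp.LocP @LocallyOfFiniteType) f := by
  intro hLoc
  have iX := h𝒳.isStack.1
  have iY := h𝒴.isStack.1
  have iZ := h𝒵.isStack.1
  obtain ⟨W, z, hz1, hz2⟩ := h𝒵.atlas
  obtain ⟨V, y, k, β, hy1, hy2, hℓg, -⟩ := exists_square h𝒴 h𝒵 g z hz1 hz2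
  obtain ⟨U, x, h, α, hx1, hx2, hℓf, -⟩ := exists_square h𝒳 h𝒴 f y hy1 hy2
  have hc : AlgSp.LocP @LocallyOfFiniteType ((AlgSp.yon S).map h ≫ (AlgSp.yon S).map k) :=
    Groth.Agent.H65.LocQComp.prop_comp_of_squares Groth.Agent.H65.SmoothST.isSmoothLocalST_lft
      iX iY iZ f g hLoc y z k β hz1 hℓg x h α hℓf
  rw [← Functor.map_comp] at hc
  have hc' : LocallyOfFiniteType (h ≫ k).left := AlgSp.locP_yon_map hc
  rw [Over.comp_left] at hc'
  have hh : LocallyOfFiniteType h.left := locallyOfFiniteType_of_comp h.left k.left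
  exact ⟨U, V, x, y, h, α, hx1, hx2, hy1,
    Groth.Agent.H50.locP_of_repWith (P := @LocallyOfFiniteType) (fun A B g hg => inferInstance)
      ((AlgSp.repWith_yon_map_iff @LocallyOfFiniteType h).2 hh)⟩

end Groth.Agent.S13002
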