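import Groth.Statements.S13003
import Groth.Agent.H65.LocQIso

set_option autoImplicit false
universe u
open CategoryTheory AlgebraicGeometry
open AlgSt

namespace Groth.Agent.S13003

open FibCat Groth.Agent.H32.PFacts Groth.Agent.H32.GoodMore Groth.Agent.H32.Fp2
  Groth.Agent.H32.FibProd Groth.Agent.H32.Repr Groth.Agent.H65.LocQ Groth.Agent.H65.LocQIso Groth.Agent.H65.LocQPts

/-- Let f : 𝒳 → 𝒴 be a morphism of algebraic stacks and 𝒵 → 𝒴 a morphism of algebraic stacks that is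
both flat and surjective. Whenever the projection 𝒵 ×_𝒴 𝒳 → 𝒵 is flat, f is flat too. -/
theorem result
    (S : Scheme.{u}) (𝒳 : AlgSt.Cat S) (𝒴 : AlgSt.Cat S)
    (h𝒳 : AlgSt.IsAlgStack Scheme.fppfPrecoverage 𝒳)
    (h𝒴 : AlgSt.IsAlgStack Scheme.fppfPrecoverage 𝒴)
    (f : 𝒳 ⥤ᵇ 𝒴)
    (𝒵 : AlgSt.Cat S) (h𝒵 : AlgSt.IsAlgStack Scheme.fppfPrecoverage 𝒵) (z : 𝒵 ⥤ᵇ 𝒴)
    (hz₁ : AlgSt.LocQ (AlgSp.LocP @Flat) z) (hz₂ : AlgSt.IsSurjective z) :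
    AlgSt.LocQ (AlgSp.LocP @Flat) (FibCat.fpFst z f) → AlgSt.LocQ (AlgSp.LocP @Flat) f := by
  intro H
  have i𝒳 := h𝒳.isStack.1
  have i𝒴 := h𝒴.isStack.1
  have i𝒵 := h𝒵.isStack.1
  have i1 : IsFibGrpd (fp z f).p := fp_isFibGrpd _ _ i𝒵 i𝒳 i𝒴
  have i2 : IsFibGrpd (fp f z).p := fp_isFibGrpd _ _ i𝒳 i𝒵 i𝒴
  have hfp : AlgSt.IsAlgStack Scheme.fppfPrecoverage (fp z f) :=
    Groth.Agent.H32.AlgStackFp.isAlgStack_fp i𝒴 h𝒴.diag h𝒵 h𝒳 z f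
  have H1 : AlgSt.LocQ (AlgSp.LocP @Flat) (BasedFunctor.comp (fpFst z f) z) :=
    Groth.Agent.S13038.result S _ Groth.Agent.H65.SmoothST.isSmoothLocalST_flat good_flat.comp
      (fp z f) 𝒵 𝒴 hfp h𝒵 h𝒴 (fpFst z f) z H hz₁
  have H2 : AlgSt.LocQ (AlgSp.LocP @Flat) (BasedFunctor.comp (fpSnd z f) f) :=
    locQ_of_iso _ (fpIso z f) H1
  have c1 : AlgSt.LocQ (AlgSp.LocP @Flat) (fpFst f z) :=
    Groth.Agent.S13039.result S _ Groth.Agent.H65.SmoothST.isSmoothLocalST_flat good_flat.bc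
      𝒵 𝒴 𝒳 h𝒵 h𝒴 h𝒳 z f hz₁
  have c2 : AlgSt.LocQ (AlgSp.LocP @Flat) (fpSnd z f) :=
    locQ_precomp_equiv _ i1 i2 (swap z f) (swap_isEquivOver z f) (fpFst f z) c1
  have c3 : AlgSt.IsSurjective (fpFst f z) :=
    Groth.Agent.S12825.result h𝒵 h𝒴 h𝒳 z f hz₂
  have c4 : AlgSt.IsSurjective (fpSnd z f) :=
    isSurjective_comp (swap z f) (fpFst f z)
      (Groth.Agent.H32.StPoints.map_bijective (swap z f) (swap_isEquivOver z f)).2 c3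
  exact locQ_flat_of_comp hfp h𝒳 h𝒴 (fpSnd z f) f c2 c4 H2

end Groth.Agent.S13003
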