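import Groth.Statements.S13006
import Groth.Agent.H65.DiagLfp
import Groth.Agent.S12993

set_option autoImplicit false
universe u
open CategoryTheory AlgebraicGeometry
open AlgSt

namespace Groth.Agent.S13006


/-- If a morphism f of algebraic stacks is locally of finite type then its diagonal is locally of finite
presentation. (The second assertion adds the quasi-compactness clauses on both sides.) -/
theorem result
    (S : Scheme.{u}) (𝒳 : AlgSt.Cat S) (𝒴 : AlgSt.Cat S)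
    (h𝒳 : AlgSt.IsAlgStack Scheme.fppfPrecoverage 𝒳)
    (h𝒴 : AlgSt.IsAlgStack Scheme.fppfPrecoverage 𝒴)
    (f : 𝒳 ⥤ᵇ 𝒴) :
    AlgSt.LocQ (AlgSp.LocP @LocallyOfFiniteType) f → AlgSt.LocQ (AlgSp.LocP @LocallyOfFinitePresentation) (FibCat.diag f) := by
  intro hLoc
  have hΔ := Groth.Agent.H65.DiagLfp.with_diag_lfp h𝒳 h𝒴 f hLoc
  have hff : AlgSt.IsAlgStack Scheme.fppfPrecoverage (FibCat.fp f f) :=
    Groth.Agent.H32.AlgStackFp.isAlgStack_fp h𝒴.isStack.1 h𝒴.diag h𝒳 h𝒳 f f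
  exact (Groth.Agent.S12993.result S (AlgSp.LocP @LocallyOfFinitePresentation)
    Groth.Agent.H65.SmoothST.isSmoothLocalST_lfp Groth.Agent.H32.GoodMore.good_lfp.bc
    Groth.Agent.H32.GoodMore.good_lfp.loc 𝒳 (FibCat.fp f f) h𝒳 hff (FibCat.diag f)
    (Groth.Agent.H32.DiagApps.repByAlgSp1_diag h𝒳.isStack.1 h𝒴.isStack.1 h𝒳.diag h𝒴.diag f)).mpr hΔ

end Groth.Agent.S13006
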