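import Groth.Statements.S13009
import Groth.Agent.H65.LocQIso
import Groth.Agent.S12989
import Groth.Agent.S12982

set_option autoImplicit false
universe u
open CategoryTheory AlgebraicGeometry
open AlgSt

namespace Groth.Agent.S13009

open FibCat Groth.Agent.H32.PFacts Groth.Agent.H32.GoodMore Groth.Agent.H32.Fp2 Groth.Agent.H32.Fp3
  Groth.Agent.H32.FibProd Groth.Agent.H32.Repr Groth.Agent.H32.StackOps Groth.Agent.H32.SpBridge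
  Groth.Agent.H65.LocQ Groth.Agent.H65.LocQIso Groth.Agent.H65.LocQPts Groth.Agent.H65.LocQCover

/-- quasi-compactness of a morphism is invariant under precomposition with an equivalence. -/
theorem qcMor_precomp_equiv {S : Scheme.{u}} {𝒜 ℬ 𝒞 : AlgSt.Cat S} (i𝒜 : IsFibGrpd 𝒜.p)
    (iℬ : IsFibGrpd ℬ.p) (i𝒞 : IsFibGrpd 𝒞.p) (E : 𝒜 ⥤ᵇ ℬ) (hE : IsEquivOver E) (m : ℬ ⥤ᵇ 𝒞)
    (hm : AlgSt.IsQuasiCompactMor Scheme.fppfPrecoverage m) :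
    AlgSt.IsQuasiCompactMor Scheme.fppfPrecoverage (BasedFunctor.comp E m) := by
  intro 𝒯 h𝒯 hq g
  have i𝒯 := h𝒯.isStack.1
  obtain ⟨E', hE', -, -⟩ := exists_inv_isEquivOver (pasteMidR_isEquivOver g E m hE)
  exact Groth.Agent.H65.QC.isQuasiCompact_of_equiv (fp_isFibGrpd _ _ i𝒯 iℬ i𝒞)
    (fp_isFibGrpd _ _ i𝒯 i𝒜 i𝒞) E' hE' (hm 𝒯 h𝒯 hq g)

/-- Let f : 𝒳 → 𝒴 be a morphism of algebraic stacks and 𝒵 → 𝒴 a morphism of algebraic stacks that is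
flat, surjective and locally of finite presentation. Whenever the projection 𝒵 ×_𝒴 𝒳 → 𝒵 is
quasi-compact, f is quasi-compact too. -/
theorem result
    (S : Scheme.{u}) (𝒳 : AlgSt.Cat S) (𝒴 : AlgSt.Cat S)
    (h𝒳 : AlgSt.IsAlgStack Scheme.fppfPrecoverage 𝒳)
    (h𝒴 : AlgSt.IsAlgStack Scheme.fppfPrecoverage 𝒴)
    (f : 𝒳 ⥤ᵇ 𝒴)
    (𝒵 : AlgSt.Cat S) (h𝒵 : AlgSt.IsAlgStack Scheme.fppfPrecoverage 𝒵) (z : 𝒵 ⥤ᵇ 𝒴)
    (hz₁ : AlgSt.LocQ (AlgSp.LocP @Flat) z) (hz₂ : AlgSt.LocQ (AlgSp.LocP @LocallyOfFinitePresentation) z)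
    (hz₃ : AlgSt.IsSurjective z) :
    AlgSt.IsQuasiCompactMor Scheme.fppfPrecoverage (FibCat.fpFst z f) → AlgSt.IsQuasiCompactMor Scheme.fppfPrecoverage f := by
  intro H
  have i𝒳 := h𝒳.isStack.1
  have i𝒴 := h𝒴.isStack.1
  have i𝒵 := h𝒵.isStack.1
  obtain ⟨W₀, a, -, -, c1, c2, c3⟩ := exists_fppf_chart h𝒵 h𝒴 z hz₁ hz₂ hz₃
  have iW := Groth.Agent.S6411.over_isFibGrpd W₀
  have iW' : IsFibGrpd (AlgSt.ofSp ((AlgSp.yon S).obj W₀)).p := ofSp_isFibGrpd _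
  have hW' : AlgSt.IsAlgStack Scheme.fppfPrecoverage (AlgSt.ofSp ((AlgSp.yon S).obj W₀)) :=
    Groth.Agent.H32.AtlasRep.isAlgStack_ofSp ⟨(AlgSp.yon S).obj W₀, AlgSp.IsAlgSpace.yon_obj W₀⟩
  have i1 : IsFibGrpd (fp z f).p := fp_isFibGrpd _ _ i𝒵 i𝒳 i𝒴
  have hfp : AlgSt.IsAlgStack Scheme.fppfPrecoverage (fp z f) :=
    Groth.Agent.H32.AlgStackFp.isAlgStack_fp i𝒴 h𝒴.diag h𝒵 h𝒳 z f
  have H1 : AlgSt.IsQuasiCompactMor Scheme.fppfPrecoverage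
      (fpFst (BasedFunctor.comp (AlgSt.toOverCat W₀) a) (fpFst z f)) :=
    Groth.Agent.S12982.result S (fp z f) 𝒵 (AlgSt.ofSp ((AlgSp.yon S).obj W₀)) hfp h𝒵 hW'
      (fpFst z f) (BasedFunctor.comp (AlgSt.toOverCat W₀) a) H
  have H2 : AlgSt.IsQuasiCompactMor Scheme.fppfPrecoverage
      (fpFst (BasedFunctor.comp (BasedFunctor.comp (AlgSt.toOverCat W₀) a) z) f) :=
    qcMor_precomp_equiv (fp_isFibGrpd _ _ iW' i𝒳 i𝒴) (fp_isFibGrpd _ _ iW' i1 i𝒵) iW'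
      (paste (BasedFunctor.comp (AlgSt.toOverCat W₀) a) z f) (paste_isEquivOver _ z f) _ H1
  exact Groth.Agent.S12989.result S 𝒳 𝒴 h𝒳 h𝒴 f
    ⟨(AlgSp.yon S).obj W₀, AlgSp.IsAlgSpace.yon_obj W₀⟩
    (BasedFunctor.comp (BasedFunctor.comp (AlgSt.toOverCat W₀) a) z)
    (with_precomp_equiv _ iW' iW i𝒴 (AlgSt.toOverCat W₀) (toOverCat_isEquivOver W₀) _ c1)
    (with_precomp_equiv _ iW' iW i𝒴 (AlgSt.toOverCat W₀) (toOverCat_isEquivOver W₀) _ c2)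
    (with_precomp_equiv _ iW' iW i𝒴 (AlgSt.toOverCat W₀) (toOverCat_isEquivOver W₀) _ c3) H2

end Groth.Agent.S13009
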