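import Groth.Statements.S13017
import Groth.Agent.H65.ChartSq
import Groth.Agent.H65.Refine
import Groth.Agent.H65.QCMor
import Groth.Agent.H32.StTop
import Groth.Agent.H32.DiagDescent
import Groth.Agent.H32.DiagDict
import Groth.Agent.H32.DiagApps
import Groth.Agent.S0116
import Groth.Agent.S12782

set_option autoImplicit false
universe u
open CategoryTheory AlgebraicGeometry
open AlgSt

namespace Groth.Agent.S13017

section aux
open CategoryTheory.Limits Opposite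
open FibCat Stk Groth.Agent.H32.FibProd Groth.Agent.H32.Fp2 Groth.Agent.H32.Fp3
  Groth.Agent.H32.Fp4 Groth.Agent.H32.SpBridge Groth.Agent.H32.PFacts
  Groth.Agent.H32.AlgStackEquiv Groth.Agent.H32.AtlasRep Groth.Agent.H32.SpComp
  Groth.Agent.H32.StackOps Groth.Agent.H32.SectSt Groth.Agent.H32.Repr Groth.Agent.H32.PshFp
  Groth.Agent.H32.SpTrack Groth.Agent.H65.QC Groth.Agent.H32.DiagDict Groth.Agent.H32.DiagApps
  Groth.Agent.H32.GoodMore Groth.Agent.H32.DiagDescent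

variable {S : Scheme.{u}}

/-- refined chart square for a morphism representable by schemes with `Q`: the base change to a
scheme chart `V` is a scheme `U`, with the equivalence `(Sch/U) ≃ V ×_𝒴 𝒳` and the 2-cell. -/
theorem exists_chart_equiv {𝒳 𝒴 : AlgSt.Cat S} (Q : MorphismProperty Scheme.{u}) (f : 𝒳 ⥤ᵇ 𝒴)
    (hf : AlgSt.RepByAlgSpWith (AlgSp.RepWith Q) f) (V : Over S) (y : FibCat.overCat V ⥤ᵇ 𝒴) :
    ∃ (U : Over S) (h : U ⟶ V) (a : FibCat.overCat U ⥤ᵇ fp y f), IsEquivOver a ∧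
      Nonempty (BasedFunctor.comp a (fpFst y f) ≅ AlgSt.overMap h) ∧ Q h.left := by
  obtain ⟨F, e, he, ha⟩ := hf V y
  obtain ⟨U, h, fst, sq⟩ := ha.rep (𝟙 ((AlgSp.yon S).obj V))
  have hQ : Q h.left := ha.property _ _ _ sq
  have hfst : IsIso fst := sq.isIso_fst_of_isIso
  have hfst' : IsIso fst.hom :=
    (inferInstance : IsIso ((sheafToPresheaf (AlgSp.J S) (Type (u + 1))).map fst))
  have key : pointMap (BasedFunctor.comp (BasedFunctor.comp (BasedFunctor.comp (ofPoint fst.hom) e)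
      (fpFst y f)) (AlgSt.ofOverCat V)) = ((AlgSp.yon S).map h).hom := by
    have h1 : pointMap (BasedFunctor.comp (BasedFunctor.comp (BasedFunctor.comp (ofPoint fst.hom) e)
        (fpFst y f)) (AlgSt.ofOverCat V)) =
        pshMapOf (BasedFunctor.comp (Stk.ofPshMap fst.hom)
          (BasedFunctor.comp (BasedFunctor.comp e (fpFst y f)) (AlgSt.ofOverCat V))) := rfl
    rw [h1, pshMapOf_comp, pshMapOf_ofPshMap, ← spMapOfOver_hom]
    have h2 : (fst ≫ AlgSt.spMapOfOver (BasedFunctor.comp e (fpFst y f))).hom =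
        ((AlgSp.yon S).map h ≫ 𝟙 _).hom := congrArg (fun t => t.hom) sq.w
    rw [Category.comp_id] at h2
    exact h2
  obtain ⟨β₁⟩ := pointMap_iso (BasedFunctor.comp (BasedFunctor.comp
    (BasedFunctor.comp (ofPoint fst.hom) e) (fpFst y f)) (AlgSt.ofOverCat V))
  rw [key] at β₁
  have β : BasedFunctor.comp (BasedFunctor.comp (ofPoint fst.hom) e) (fpFst y f) ≅
      AlgSt.overMap h := (whiskerRightIso β₁ (AlgSt.toOverCat V)).symm
  exact ⟨U, h, BasedFunctor.comp (ofPoint fst.hom) e,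
    isEquivOver_comp _ _ (isEquivOver_comp _ _ (ofOverCat_isEquivOver U)
      (ofPshMap_isEquivOver fst.hom)) he, ⟨β⟩, hQ⟩

theorem quasiCompact_of_isImmersion_of_isLocallyNoetherian {X Y : Scheme.{u}} (f : X ⟶ Y)
    [IsImmersion f] [IsLocallyNoetherian Y] : QuasiCompact f := by
  have e := f.liftCoborder_ι
  rw [← e]
  infer_instance

/-- an immersion into a stack with a locally Noetherian smooth atlas: the source has a locally
Noetherian smooth surjective scheme chart and the immersion is quasi-compact. -/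
theorem key_imm {𝒳 𝒴 : AlgSt.Cat S} (h𝒳 : AlgSt.IsAlgStack Scheme.fppfPrecoverage 𝒳)
    (h𝒴 : AlgSt.IsAlgStack Scheme.fppfPrecoverage 𝒴) (j : 𝒳 ⥤ᵇ 𝒴) (hj : AlgSt.IsImm j)
    (hLN : AlgSt.SmoothLocally (fun T ↦ IsLocallyNoetherian T) 𝒴) :
    (∃ (W : Over S) (x₀ : FibCat.overCat W ⥤ᵇ 𝒳), IsLocallyNoetherian W.left ∧
      AlgSt.RepByAlgSpWith (AlgSp.LocP @Smooth) x₀ ∧
      AlgSt.RepByAlgSpWith AlgSp.IsSurjectiveMor x₀) ∧
    AlgSt.RepByAlgSpWith AlgSp.IsQuasiCompactMor j := by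
  have h𝒳g := h𝒳.isStack.1
  have h𝒴g := h𝒴.isStack.1
  obtain ⟨V, y, hy1, hy2⟩ := h𝒴.atlas
  have hV : IsLocallyNoetherian V.left := hLN V y hy1
  obtain ⟨W, h, a, ha, ⟨β⟩, hImm⟩ := exists_chart_equiv @IsImmersion j hj V y
  have hImm' : IsImmersion h.left := hImm
  have hW : IsLocallyNoetherian W.left := LocallyOfFiniteType.isLocallyNoetherian h.left
  have hqc : QuasiCompact h.left := quasiCompact_of_isImmersion_of_isLocallyNoetherian h.left
  have hVg := Groth.Agent.S6411.over_isFibGrpd V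
  have hWg := Groth.Agent.S6411.over_isFibGrpd W
  have hyj : IsFibGrpd (fp y j).p := fp_isFibGrpd y j hVg h𝒳g h𝒴g
  refine ⟨⟨W, BasedFunctor.comp a (fpSnd y j), hW,
    with_precomp_equiv _ hWg hyj h𝒳g a ha _ (repByAlgSpWith_fpSnd _ y j hy1),
    with_precomp_equiv _ hWg hyj h𝒳g a ha _ (repByAlgSpWith_fpSnd _ y j hy2)⟩, ?_⟩
  -- quasi-compactness
  have i0 := AlgSp.repWith_isStableUnderBaseChange (S := S) @QuasiCompact
  have i1 : (AlgSp.RepWith (S := S) @QuasiCompact).RespectsIso :=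
    MorphismProperty.IsStableUnderBaseChange.respectsIso
  have h_ov : AlgSt.RepByAlgSpWith (AlgSp.RepWith @QuasiCompact) (AlgSt.overMap h) :=
    Groth.Agent.H32.StTop.overMap_with @QuasiCompact (AlgSp.RepWith @QuasiCompact)
      (fun _ _ snd hs => hs) h hqc
  have h_fp : AlgSt.RepByAlgSpWith (AlgSp.RepWith @QuasiCompact) (fpFst y j) :=
    (Groth.Agent.S12782.result hyj hVg hWg hVg (AlgSp.RepWith @QuasiCompact) (fpFst y j)
      (AlgSt.overMap h) a (BasedFunctor.id _) ha (isEquivOver_id _) β.symm).mpr h_ov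
  have h' : AlgSt.RepByAlgSpWith AlgSp.IsQuasiCompactMor (fpFst y j) :=
    with_imp (fun _ _ a ha => Groth.Agent.H50.isQuasiCompactMor_of_repWith ha) h_fp
  have hfl := Groth.Agent.H32.StTop.flat_lfp_of_smooth_chart hy1
  exact with_of_fpFst_cover AlgSp.IsQuasiCompactMor good_quasiCompact.loc h𝒳g h𝒴g j
    (repByAlgSp1_of_with hj) y (with_imp (fun _ _ a ha => ha.1) hfl)
    (with_imp (fun _ _ a ha => ha.2) hfl) hy2 h'

/-- the source of a smooth chart of a stack with a locally Noetherian smooth surjective chart is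
locally Noetherian. -/
theorem smoothLocally_of_chart {𝒳 : AlgSt.Cat S} (h𝒳g : IsFibGrpd 𝒳.p) (W : Over S)
    (x₀ : FibCat.overCat W ⥤ᵇ 𝒳) (hW : IsLocallyNoetherian W.left)
    (hx1 : AlgSt.RepByAlgSpWith (AlgSp.LocP @Smooth) x₀)
    (hx2 : AlgSt.RepByAlgSpWith AlgSp.IsSurjectiveMor x₀) :
    AlgSt.SmoothLocally (fun T ↦ IsLocallyNoetherian T) 𝒳 := by
  intro U x hx
  obtain ⟨T, a', b, -, ha1, ha2, hb⟩ :=
    Groth.Agent.H65.Refine.exists_refinement h𝒳g x x₀ hx hx1 hx2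
  have hT : IsLocallyNoetherian T.left := LocallyOfFiniteType.isLocallyNoetherian b.left
  exact Groth.Agent.S0116.result a'.left

end aux

/-- If j : 𝒳 → 𝒴 is an immersion of algebraic stacks with 𝒴 locally Noetherian, then j is quasi-compact
and 𝒳 is also locally Noetherian. -/
theorem result
    (S : Scheme.{u}) (𝒳 : AlgSt.Cat S) (𝒴 : AlgSt.Cat S)
    (h𝒳 : AlgSt.IsAlgStack Scheme.fppfPrecoverage 𝒳)
    (h𝒴 : AlgSt.IsAlgStack Scheme.fppfPrecoverage 𝒴)
    (j : 𝒳 ⥤ᵇ 𝒴) (hj : AlgSt.IsImm j) :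
    AlgSt.SmoothLocally (fun T ↦ IsLocallyNoetherian T) 𝒴 → AlgSt.SmoothLocally (fun T ↦ IsLocallyNoetherian T) 𝒳 ∧ AlgSt.IsQuasiCompactMor Scheme.fppfPrecoverage j := by
  intro hLN
  obtain ⟨⟨W, x₀, hW, hx1, hx2⟩, hqc⟩ := key_imm h𝒳 h𝒴 j hj hLN
  exact ⟨smoothLocally_of_chart h𝒳.isStack.1 W x₀ hW hx1 hx2,
    fun 𝒵 h𝒵 hq g => Groth.Agent.H65.QCMor.isQuasiCompact_fp_of_qcMor h𝒳.isStack.1 h𝒴.isStack.1
      h𝒵.isStack.1 j hqc g hq⟩

end Groth.Agent.S13017
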