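import Groth.Statements.S13018
import Groth.Agent.S13017

set_option autoImplicit false
universe u
open CategoryTheory AlgebraicGeometry
open AlgSt

namespace Groth.Agent.S13018

section aux
open CategoryTheory.Limits Opposite
open FibCat Stk Groth.Agent.H32.FibProd Groth.Agent.H32.Fp2 Groth.Agent.H32.Fp3
  Groth.Agent.H32.Fp4 Groth.Agent.H32.SpBridge Groth.Agent.H32.PFacts
  Groth.Agent.H32.AlgStackEquiv Groth.Agent.H32.AtlasRep Groth.Agent.H32.SpComp
  Groth.Agent.H32.StackOps Groth.Agent.H32.SectSt Groth.Agent.H32.Repr Groth.Agent.H32.PshFp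
  Groth.Agent.H32.SpTrack Groth.Agent.H65.QC Groth.Agent.H32.DiagDict Groth.Agent.H32.DiagApps
  Groth.Agent.H32.GoodMore Groth.Agent.H32.DiagDescent Groth.Agent.H32.Sect Groth.Agent.H32.Prod

variable {S : Scheme.{u}}

theorem isQuasiSeparatedMor_of_repWith_isImmersion {X Y : AlgSp.Sp S} (a : X ⟶ Y)
    (ha : AlgSp.RepWith @IsImmersion a) : AlgSp.IsQuasiSeparatedMor a := by
  have hm : Mono a := Groth.Agent.H50.mono_of_repWith
    (P := @IsImmersion) (fun _ _ g hg => by have : IsImmersion g := hg; infer_instance) ha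
  have : IsIso (pullback.diagonal a) := inferInstance
  have inst2 := AlgSp.repWith_isMultiplicative (S := S) @QuasiCompact
  exact MorphismProperty.of_isIso (AlgSp.RepWith @QuasiCompact) _

end aux

/-- If j : 𝒳 → 𝒴 is an immersion of algebraic stacks and 𝒴 is Noetherian (quasi-compact, quasi-separated
and locally Noetherian) then so is 𝒳. (The published statement uses quasi-separatedness over the
integers; this row uses quasi-separatedness over the base scheme in hypothesis and conclusion.) -/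
theorem result
    (S : Scheme.{u}) (𝒳 : AlgSt.Cat S) (𝒴 : AlgSt.Cat S)
    (h𝒳 : AlgSt.IsAlgStack Scheme.fppfPrecoverage 𝒳)
    (h𝒴 : AlgSt.IsAlgStack Scheme.fppfPrecoverage 𝒴)
    (j : 𝒳 ⥤ᵇ 𝒴) (hj : AlgSt.IsImm j) :
    AlgSt.IsQuasiCompact 𝒴 → AlgSt.IsQuasiSeparatedOver 𝒴 → AlgSt.SmoothLocally (fun T ↦ IsLocallyNoetherian T) 𝒴 →
      AlgSt.IsQuasiCompact 𝒳 ∧ AlgSt.IsQuasiSeparatedOver 𝒳 ∧ AlgSt.SmoothLocally (fun T ↦ IsLocallyNoetherian T) 𝒳 := by
  open FibCat Groth.Agent.H32.FibProd Groth.Agent.H32.Fp2 Groth.Agent.H32.Repr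
    Groth.Agent.H32.SectSt Groth.Agent.H32.DiagApps Groth.Agent.H32.GoodMore Groth.Agent.H32.Sect
    Groth.Agent.H32.Prod Groth.Agent.H32.AlgStackEquiv Groth.Agent.H32.StackOps Groth.Agent.H32.SpBridge in
  intro hqc hqs hLN
  have h𝒳g := h𝒳.isStack.1
  have h𝒴g := h𝒴.isStack.1
  obtain ⟨hLN𝒳, hqcj⟩ := Groth.Agent.S13017.result S 𝒳 𝒴 h𝒳 h𝒴 j hj hLN
  refine ⟨?_, ?_, hLN𝒳⟩
  · have h1 : AlgSt.IsQuasiCompact (fp (BasedFunctor.id 𝒴) j) := hqcj 𝒴 h𝒴 hqc (BasedFunctor.id 𝒴)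
    exact Groth.Agent.H65.QC.isQuasiCompact_of_equiv (fp_isFibGrpd _ _ h𝒴g h𝒳g h𝒴g) h𝒳g
      (fpSnd (BasedFunctor.id 𝒴) j) (fpSnd_isEquivOver (BasedFunctor.id 𝒴) j (isEquivOver_id 𝒴)) h1
  · have hself : IsFibGrpd (FibCat.selfOver (Over S)).p := self_isFibGrpd
    have hΔj : AlgSt.RepByAlgSpWith (AlgSp.IsQuasiCompactMor ⊓ AlgSp.IsQuasiSeparatedMor)
        (FibCat.diag j) :=
      isQuasiSeparatedMor_of_rep_quasiSeparated h𝒳g h𝒴g j (repByAlgSp1_of_with hj)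
        (with_imp (fun _ _ a ha => isQuasiSeparatedMor_of_repWith_isImmersion a ha) hj)
    have h2 := with_diag_comp good_qcqs h𝒳g h𝒴g hself j (FibCat.toSelf 𝒴) hΔj hqs
    have e := eq_toSelf (BasedFunctor.comp j (FibCat.toSelf 𝒴))
    rw [e] at h2
    exact h2

end Groth.Agent.S13018
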