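import Groth.Statements.S1303

set_option autoImplicit false
universe u
open FlatMor

namespace Groth.Agent.S1303

open AlgebraicGeometry CategoryTheory Limits in
/-- For a morphism of thickenings, that is a commutative square whose horizontal maps are thickenings
(closed immersions that are surjective on points), the morphism between the thin schemes is
quasi-compact if and only if the morphism between the thick ones is. -/
theorem result {X X' S S' : Scheme.{u}} (iX : X ⟶ X') (iS : S ⟶ S') (f : X ⟶ S) (f' : X' ⟶ S')
    (hX : MoreMor.IsThickening iX) (hS : MoreMor.IsThickening iS) (w : iX ≫ f' = f ≫ iS) :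
    QuasiCompact f ↔ QuasiCompact f' := by
  obtain ⟨hXc, hXs⟩ := hX
  obtain ⟨hSc, hSs⟩ := hS
  have hXe : Topology.IsClosedEmbedding iX := iX.isClosedEmbedding
  have hSe : Topology.IsClosedEmbedding iS := iS.isClosedEmbedding
  have hXsurj : Function.Surjective iX := hXs.surj
  have hSsurj : Function.Surjective iS := hSs.surj
  have hw : ∀ x : X, f' (iX x) = iS (f x) := by
    intro x
    have := congrArg (fun g : X ⟶ S' => g x) w
    simpa using this
  constructor
  · intro hf
    constructor
    intro U hUo hUc
    have h1 : IsCompact (iS ⁻¹' U) := hSe.isCompact_preimage hUc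
    have h2 : IsCompact (f ⁻¹' (iS ⁻¹' U)) :=
      hf.isCompact_preimage _ (hUo.preimage iS.continuous) h1
    have h3 : f' ⁻¹' U = iX '' (f ⁻¹' (iS ⁻¹' U)) := by
      ext x'
      constructor
      · intro hx'
        obtain ⟨x, rfl⟩ := hXsurj x'
        refine ⟨x, ?_, rfl⟩
        simp only [Set.mem_preimage] at hx' ⊢
        rwa [← hw]
      · rintro ⟨x, hx, rfl⟩
        simp only [Set.mem_preimage] at hx ⊢
        rwa [hw]
    rw [h3]
    exact h2.image iX.continuous
  · intro hf'
    constructor
    intro V hVo hVc
    have hVo' : IsOpen (iS '' V) := by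
      have : IsOpenMap iS := by
        have hhomeo : IsHomeomorph iS := ⟨iS.continuous, ?_, ?_⟩
        · exact hhomeo.isOpenMap
        · 
          intro W hW
          have : iS '' W = (iS '' Wᶜ)ᶜ := by
            ext y
            constructor
            · rintro ⟨x, hx, rfl⟩ ⟨x', hx', hxx'⟩
              exact hx' (hSe.injective hxx' ▸ hx)
            · intro hy
              obtain ⟨x, rfl⟩ := hSsurj y
              refine ⟨x, ?_, rfl⟩
              by_contra hx
              exact hy ⟨x, hx, rfl⟩
          rw [this]
          exact (hSe.isClosedMap _ hW.isClosed_compl).isOpen_compl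
        · exact ⟨hSe.injective, hSsurj⟩
      exact this _ hVo
    have hVc' : IsCompact (iS '' V) := hVc.image iS.continuous
    have h2 : IsCompact (f' ⁻¹' (iS '' V)) := hf'.isCompact_preimage _ hVo' hVc'
    have h3 : f ⁻¹' V = iX ⁻¹' (f' ⁻¹' (iS '' V)) := by
      ext x
      simp only [Set.mem_preimage]
      rw [hw]
      constructor
      · intro hx; exact ⟨_, hx, rfl⟩
      · rintro ⟨y, hy, hyx⟩
        exact hSe.injective hyx ▸ hy
    rw [h3]
    exact hXe.isCompact_preimage h2

end Groth.Agent.S1303
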