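import Groth.Statements.S13035
import Groth.Agent.H65.LocQVal

set_option autoImplicit false
universe u
open CategoryTheory AlgebraicGeometry
open AlgSt

namespace Groth.Agent.S13035

open Groth.Agent.H32.Fp4 Groth.Agent.H32.SpTrack Groth.Agent.H65.LocQVal

/-- Let f : 𝒳 → 𝒴 be a flat morphism of algebraic stacks and Spec A → 𝒴 a morphism with A a valuation
ring whose closed point maps into the image of |𝒳| → |𝒴|. Then there are an extension of valuation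
rings A → A' (an injective local homomorphism of valuation rings) and a morphism Spec A' → 𝒳 making
the square with Spec A' → Spec A → 𝒴 2-commute. -/
theorem result
    (S : Scheme.{u}) (𝒳 : AlgSt.Cat S) (𝒴 : AlgSt.Cat S)
    (h𝒳 : AlgSt.IsAlgStack Scheme.fppfPrecoverage 𝒳)
    (h𝒴 : AlgSt.IsAlgStack Scheme.fppfPrecoverage 𝒴)
    (f : 𝒳 ⥤ᵇ 𝒴)
    (hf : AlgSt.LocQ (AlgSp.LocP @Flat) f)
    (A : Type u) [CommRing A] [IsDomain A] [ValuationRing A] (sA : Spec (CommRingCat.of A) ⟶ S)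
    (a : FibCat.overCat (Over.mk sA) ⥤ᵇ 𝒴)
    (ha : AlgSt.Points.ofChart a (IsLocalRing.closedPoint A) ∈ Set.range (AlgSt.Points.map f)) :
    ∃ (A' : Type u) (_ : CommRing A') (_ : IsDomain A') (_ : ValuationRing A') (φ : A →+* A'),
      Function.Injective φ ∧ IsLocalHom φ ∧
      ∃ x : FibCat.overCat (Over.mk (Spec.map (CommRingCat.ofHom φ) ≫ sA)) ⥤ᵇ 𝒳,
        Nonempty (BasedFunctor.comp x f ≅
          BasedFunctor.comp (AlgSt.overMap (Over.homMk (Spec.map (CommRingCat.ofHom φ)) rfl :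
            Over.mk (Spec.map (CommRingCat.ofHom φ) ≫ sA) ⟶ Over.mk sA)) a) := by
  obtain ⟨W, g, x', hg, ⟨ι⟩, hsurj⟩ := exists_flat_chart_lift h𝒳 h𝒴 f hf a
  obtain ⟨t₀, ht₀⟩ := hsurj (IsLocalRing.closedPoint A) ha
  have hb : AlgSp.Points.ofPt (𝟙 ((AlgSp.yon S).obj (Over.mk sA))) (IsLocalRing.closedPoint A) ∈
      Set.range (AlgSp.Points.map ((AlgSp.yon S).map g)) := by
    refine ⟨AlgSp.Points.ofScheme W t₀, ?_⟩
    rw [Groth.Agent.H52.map_yon_map_ofScheme, ht₀]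
  obtain ⟨A', i1, i2, i3, φ, hφ1, hφ2, l, hl⟩ := Groth.Agent.S10292.result
    (X := ⟨(AlgSp.yon S).obj W, AlgSp.IsAlgSpace.yon_obj W⟩)
    (Y := ⟨(AlgSp.yon S).obj (Over.mk sA), AlgSp.IsAlgSpace.yon_obj (Over.mk sA)⟩)
    (ObjectProperty.homMk ((AlgSp.yon S).map g)) hg A sA (𝟙 _) hb
  refine ⟨A', i1, i2, i3, φ, hφ1, hφ2, ?_⟩
  obtain ⟨l₀, rfl⟩ := (AlgSp.yon S).map_surjective l
  have hl' : l₀ ≫ g = (Over.homMk (Spec.map (CommRingCat.ofHom φ)) rfl :
      Over.mk (Spec.map (CommRingCat.ofHom φ) ≫ sA) ⟶ Over.mk sA) := by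
    apply (AlgSp.yon S).map_injective
    rw [Functor.map_comp]
    rw [Category.comp_id] at hl
    exact hl
  obtain ⟨γ⟩ := overMap_comp_iso l₀ g
  rw [hl'] at γ
  exact ⟨BasedFunctor.comp (AlgSt.overMap l₀) x',
    ⟨whiskerLeftIso (AlgSt.overMap l₀) ι ≪≫ whiskerRightIso γ a⟩⟩

end Groth.Agent.S13035
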