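import Groth.Statements.S13042
import Mathlib

set_option autoImplicit false
universe u
open MaxMod

namespace Groth.Agent.S13042

open MvPolynomial in
/-- Let p be a prime, R a local ring of characteristic p, λ an element of the maximal ideal of R and f ∈
R. Then there is an isomorphism of R-algebras R[W₁, W₂]/(W₁^p − f, W₂^p − f) ≅ R[x, W]/(x^p, W^p −
f) with W₁ ↦ x + W + λ·x·W and W₂ ↦ W; that is, Spec R[W]/(W^p − f) with the action w ↦ x + w + λxw
is a torsor under the group scheme Spec R[x]/(x^p) with law x₁ ∘ x₂ = x₁ + x₂ + λx₁x₂. (The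
published statement is over a complete discrete valuation ring of characteristic p with λ a nonzero
nonunit, and also asserts that for f in the fraction field with negative valuation v(f) > −p·v(λ)
the torsor W^p = f extends to a torsor over R, using the coordinate 1/W; that second case fails: for
p = 2, λ = π a uniformizer and f = 1/π, every model is Spec R[π^a t] with t² = π, and none of these
is a torsor since the coaction sends t to t − π(1 + t)x. Only the case f ∈ R is stated, and the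
argument there uses only that R is local of characteristic p.) -/
theorem result
    (p : ℕ) [Fact p.Prime] (R : Type u) [CommRing R] [IsLocalRing R] [CharP R p]
    (lam f : R) (hlam : lam ∈ IsLocalRing.maximalIdeal R) :
    ∃ e : (MvPolynomial (Fin 2) R ⧸ Ideal.span {(X 0 ^ p - C f : MvPolynomial (Fin 2) R), X 1 ^ p - C f}) ≃ₐ[R]
        (MvPolynomial (Fin 2) R ⧸ Ideal.span {(X 0 ^ p : MvPolynomial (Fin 2) R), X 1 ^ p - C f}),
      e (Ideal.Quotient.mk _ (X 0)) = Ideal.Quotient.mk _ (X 0 + X 1 + C lam * X 0 * X 1) ∧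
      e (Ideal.Quotient.mk _ (X 1)) = Ideal.Quotient.mk _ (X 1) := by
  classical
  have hp : p.Prime := Fact.out
  -- the unit w = 1 + lam^p f
  have hw : IsUnit (1 + lam ^ p * f) := by
    have hmem : -(lam ^ p * f) ∈ IsLocalRing.maximalIdeal R :=
      neg_mem (Ideal.mul_mem_right _ _ (Ideal.pow_mem_of_mem _ hlam p hp.pos))
    have h1 := IsLocalRing.isUnit_one_sub_self_of_mem_nonunits _
      ((IsLocalRing.mem_maximalIdeal _).mp hmem)
    rwa [sub_neg_eq_add] at h1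
  obtain ⟨wi, hwi⟩ := hw.exists_right_inv
  obtain ⟨u, hu⟩ : ∃ u : MvPolynomial (Fin 2) R, u = 1 + C lam * X 1 := ⟨_, rfl⟩
  obtain ⟨uinv, huinv⟩ : ∃ uinv : MvPolynomial (Fin 2) R, uinv = C wi * u ^ (p - 1) := ⟨_, rfl⟩
  have hupow : u ^ p = 1 + C lam ^ p * X 1 ^ p := by
    rw [hu, add_pow_char, one_pow, mul_pow]
  have hup : u * u ^ (p - 1) = u ^ p := by
    rw [← pow_succ', Nat.sub_add_cancel hp.one_le]
  have h1 : u * uinv = C wi * (1 + C lam ^ p * X 1 ^ p) := by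
    rw [huinv, ← hupow, ← hup]; ring
  have h2 : (C wi : MvPolynomial (Fin 2) R) * (1 + C lam ^ p * C f) = 1 := by
    calc (C wi : MvPolynomial (Fin 2) R) * (1 + C lam ^ p * C f)
        = C (wi * (1 + lam ^ p * f)) := by simp only [map_mul, map_add, map_one, map_pow]
      _ = C 1 := by rw [mul_comm, hwi]
      _ = 1 := map_one _
  have h3 : u * uinv - 1 = C wi * C lam ^ p * (X 1 ^ p - C f) := by
    linear_combination h1 + h2
  have key : ∀ I : Ideal (MvPolynomial (Fin 2) R), X 1 ^ p - C f ∈ I →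
      Ideal.Quotient.mk I (u * uinv) = 1 := by
    intro I hI
    rw [← map_one (Ideal.Quotient.mk I), Ideal.Quotient.eq, h3]
    exact Ideal.mul_mem_left _ _ hI
  obtain ⟨I₁, hI₁⟩ : ∃ I₁ : Ideal (MvPolynomial (Fin 2) R),
      I₁ = Ideal.span {(X 0 ^ p - C f : MvPolynomial (Fin 2) R), X 1 ^ p - C f} := ⟨_, rfl⟩
  obtain ⟨I₂, hI₂⟩ : ∃ I₂ : Ideal (MvPolynomial (Fin 2) R),
      I₂ = Ideal.span {(X 0 ^ p : MvPolynomial (Fin 2) R), X 1 ^ p - C f} := ⟨_, rfl⟩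
  rw [← hI₁, ← hI₂]
  have m1a : X 0 ^ p - C f ∈ I₁ := by rw [hI₁]; exact Ideal.subset_span (by simp)
  have m1b : X 1 ^ p - C f ∈ I₁ := by rw [hI₁]; exact Ideal.subset_span (by simp)
  have m2a : X 0 ^ p ∈ I₂ := by rw [hI₂]; exact Ideal.subset_span (by simp)
  have m2b : X 1 ^ p - C f ∈ I₂ := by rw [hI₂]; exact Ideal.subset_span (by simp)
  obtain ⟨φ₀, hφ₀⟩ : ∃ φ₀ : MvPolynomial (Fin 2) R →ₐ[R] MvPolynomial (Fin 2) R,
      φ₀ = aeval ![X 0 + X 1 + C lam * X 0 * X 1, X 1] := ⟨_, rfl⟩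
  obtain ⟨ψ₀, hψ₀⟩ : ∃ ψ₀ : MvPolynomial (Fin 2) R →ₐ[R] MvPolynomial (Fin 2) R,
      ψ₀ = aeval ![(X 0 - X 1) * uinv, X 1] := ⟨_, rfl⟩
  have φX0 : φ₀ (X 0) = X 0 + X 1 + C lam * X 0 * X 1 := by rw [hφ₀]; simp
  have φX1 : φ₀ (X 1) = X 1 := by rw [hφ₀]; simp
  have ψX0 : ψ₀ (X 0) = (X 0 - X 1) * uinv := by rw [hψ₀]; simp
  have ψX1 : ψ₀ (X 1) = X 1 := by rw [hψ₀]; simp
  have φC : ∀ r : R, φ₀ (C r) = C r := fun r => by rw [hφ₀, aeval_C]; rfl
  have ψC : ∀ r : R, ψ₀ (C r) = C r := fun r => by rw [hψ₀, aeval_C]; rfl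
  have φu : φ₀ u = u := by rw [hu, map_add, map_one, map_mul, φC, φX1]
  have φuinv : φ₀ uinv = uinv := by rw [huinv, map_mul, map_pow, φC, φu]
  have hφ : ∀ a ∈ I₁, ((Ideal.Quotient.mkₐ R I₂).comp φ₀) a = 0 := by
    have hle : I₁ ≤ RingHom.ker ((Ideal.Quotient.mkₐ R I₂).comp φ₀) := by
      rw [hI₁, Ideal.span_le]
      rintro x (rfl | rfl)
      · show (Ideal.Quotient.mkₐ R I₂) (φ₀ (X 0 ^ p - C f)) = 0
        have e : φ₀ (X 0 ^ p - C f) =
            X 0 ^ p * (1 + C lam ^ p * X 1 ^ p) + (X 1 ^ p - C f) := by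
          rw [map_sub, map_pow, φX0, φC, add_pow_char, add_pow_char, mul_pow, mul_pow]; ring
        rw [Ideal.Quotient.mkₐ_eq_mk, Ideal.Quotient.eq_zero_iff_mem, e]
        exact Ideal.add_mem _ (Ideal.mul_mem_right _ _ m2a) m2b
      · show (Ideal.Quotient.mkₐ R I₂) (φ₀ (X 1 ^ p - C f)) = 0
        rw [Ideal.Quotient.mkₐ_eq_mk, Ideal.Quotient.eq_zero_iff_mem, map_sub, map_pow, φX1, φC]
        exact m2b
    intro a ha
    exact hle ha
  have hψ : ∀ a ∈ I₂, ((Ideal.Quotient.mkₐ R I₁).comp ψ₀) a = 0 := by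
    have hle : I₂ ≤ RingHom.ker ((Ideal.Quotient.mkₐ R I₁).comp ψ₀) := by
      rw [hI₂, Ideal.span_le]
      rintro x (rfl | rfl)
      · show (Ideal.Quotient.mkₐ R I₁) (ψ₀ (X 0 ^ p)) = 0
        have e : ψ₀ (X 0 ^ p) =
            ((X 0 ^ p - C f) - (X 1 ^ p - C f)) * uinv ^ p := by
          rw [map_pow, ψX0, mul_pow, sub_pow_char]; ring
        rw [Ideal.Quotient.mkₐ_eq_mk, Ideal.Quotient.eq_zero_iff_mem, e]
        exact Ideal.mul_mem_right _ _ (Ideal.sub_mem _ m1a m1b)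
      · show (Ideal.Quotient.mkₐ R I₁) (ψ₀ (X 1 ^ p - C f)) = 0
        rw [Ideal.Quotient.mkₐ_eq_mk, Ideal.Quotient.eq_zero_iff_mem, map_sub, map_pow, ψX1, ψC]
        exact m1b
    intro a ha
    exact hle ha
  have hcomp1 : (Ideal.Quotient.liftₐ I₁ ((Ideal.Quotient.mkₐ R I₂).comp φ₀) hφ).comp
      (Ideal.Quotient.liftₐ I₂ ((Ideal.Quotient.mkₐ R I₁).comp ψ₀) hψ) = AlgHom.id R _ := by
    apply Ideal.Quotient.algHom_ext
    apply MvPolynomial.algHom_ext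
    intro i
    have hi : i = 0 ∨ i = 1 := by fin_cases i <;> simp
    rcases hi with rfl | rfl
    · show Ideal.Quotient.mk I₂ (φ₀ (ψ₀ (X 0))) = Ideal.Quotient.mk I₂ (X 0)
      have e0 : φ₀ ((X 0 - X 1) * uinv) = X 0 * (u * uinv) := by
        rw [map_mul, map_sub, φX0, φX1, φuinv, hu]; ring
      rw [ψX0, e0, map_mul, key I₂ m2b, mul_one]
    · show Ideal.Quotient.mk I₂ (φ₀ (ψ₀ (X 1))) = Ideal.Quotient.mk I₂ (X 1)
      rw [ψX1, φX1]
  have hcomp2 : (Ideal.Quotient.liftₐ I₂ ((Ideal.Quotient.mkₐ R I₁).comp ψ₀) hψ).comp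
      (Ideal.Quotient.liftₐ I₁ ((Ideal.Quotient.mkₐ R I₂).comp φ₀) hφ) = AlgHom.id R _ := by
    apply Ideal.Quotient.algHom_ext
    apply MvPolynomial.algHom_ext
    intro i
    have hi : i = 0 ∨ i = 1 := by fin_cases i <;> simp
    rcases hi with rfl | rfl
    · show Ideal.Quotient.mk I₁ (ψ₀ (φ₀ (X 0))) = Ideal.Quotient.mk I₁ (X 0)
      have e0 : ψ₀ (X 0 + X 1 + C lam * X 0 * X 1) = X 1 + (X 0 - X 1) * (u * uinv) := by
        rw [map_add, map_add, map_mul, map_mul, ψX0, ψX1, ψC, hu]; ring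
      rw [φX0, e0, map_add, map_mul, key I₁ m1b, mul_one, ← map_add]
      congr 1; ring
    · show Ideal.Quotient.mk I₁ (ψ₀ (φ₀ (X 1))) = Ideal.Quotient.mk I₁ (X 1)
      rw [φX1, ψX1]
  refine ⟨AlgEquiv.ofAlgHom _ _ hcomp1 hcomp2, ?_, ?_⟩
  · show Ideal.Quotient.mk I₂ (φ₀ (X 0)) = _
    rw [φX0]
  · show Ideal.Quotient.mk I₂ (φ₀ (X 1)) = _
    rw [φX1]

end Groth.Agent.S13042
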