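import Groth.Statements.S13044
import Groth.Agent.H65.FlatEqv

set_option autoImplicit false
universe u
open MaxMod

namespace Groth.Agent.S13044


open CategoryTheory Limits AlgebraicGeometry in
/-- Let R be a discrete valuation ring with fraction field K, let Y be a flat separated R-scheme and let
Γ → Y ×_R Y be a closed subscheme, with projections p₁, p₂ : Γ → Y, such that Γ is flat over R
(equivalently, Γ is the schematic closure of its generic fibre) and p₁, p₂ are flat. If for every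
scheme T over Spec K the relation on the T-valued points of Y defined by the T-valued points of Γ is
an equivalence relation, then for every scheme T over Spec R that relation is an equivalence
relation: Γ is a flat equivalence relation on Y. -/
theorem result
    (R K : Type u) [CommRing R] [IsDomain R] [IsDiscreteValuationRing R]
    [Field K] [Algebra R K] [IsFractionRing R K]
    (Y Γ : Scheme.{u}) (f : Y ⟶ Spec (CommRingCat.of R)) [IsSeparated f] [Flat f]
    (p₁ p₂ : Γ ⟶ Y) (h : p₁ ≫ f = p₂ ≫ f)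
    (hΓ : IsClosedImmersion (pullback.lift p₁ p₂ h))
    [Flat (p₁ ≫ f)] [Flat p₁] [Flat p₂]
    (hK : ∀ (T : Scheme.{u}) (t : T ⟶ Spec (CommRingCat.of R)),
      (∃ s : T ⟶ Spec (CommRingCat.of K), t = s ≫ Spec.map (CommRingCat.ofHom (algebraMap R K))) →
      _root_.Equivalence fun a b : {a : T ⟶ Y // a ≫ f = t} =>
        ∃ c : T ⟶ Γ, c ≫ p₁ = a.1 ∧ c ≫ p₂ = b.1) :
    ∀ (T : Scheme.{u}) (t : T ⟶ Spec (CommRingCat.of R)),
      _root_.Equivalence fun a b : {a : T ⟶ Y // a ≫ f = t} =>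
        ∃ c : T ⟶ Γ, c ≫ p₁ = a.1 ∧ c ≫ p₂ = b.1 := by
  classical
  have hγ1 : pullback.lift p₁ p₂ h ≫ pullback.fst f f = p₁ := pullback.lift_fst _ _ _
  have hγ2 : pullback.lift p₁ p₂ h ≫ pullback.snd f f = p₂ := pullback.lift_snd _ _ _
  haveI : IsClosedImmersion (pullback.lift p₁ p₂ h) := hΓ
  -- reflexivity
  obtain ⟨e, he⟩ : ∃ e : Y ⟶ Γ, e ≫ pullback.lift p₁ p₂ h = pullback.lift (𝟙 Y) (𝟙 Y) rfl := by
    have hE := hK (pullback f (Spec.map (CommRingCat.ofHom (algebraMap R K))))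
      (pullback.snd f _ ≫ Spec.map (CommRingCat.ofHom (algebraMap R K))) ⟨pullback.snd f _, rfl⟩
    obtain ⟨c, hc1, hc2⟩ := hE.refl ⟨pullback.fst f _, pullback.condition⟩
    dsimp only at hc1 hc2
    refine Groth.Agent.H65.FlatEqv.exists_lift_of_generic R K f (pullback.lift p₁ p₂ h) _ c ?_
    apply pullback.hom_ext
    · rw [Category.assoc, hγ1, hc1, Category.assoc, pullback.lift_fst, Category.comp_id]
    · rw [Category.assoc, hγ2, hc2, Category.assoc, pullback.lift_snd, Category.comp_id]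
  have he1 : e ≫ p₁ = 𝟙 Y := by
    rw [← hγ1, ← Category.assoc, he, pullback.lift_fst]
  have he2 : e ≫ p₂ = 𝟙 Y := by
    rw [← hγ2, ← Category.assoc, he, pullback.lift_snd]
  -- symmetry
  obtain ⟨σ, hσ⟩ : ∃ σ : Γ ⟶ Γ, σ ≫ pullback.lift p₁ p₂ h = pullback.lift p₂ p₁ h.symm := by
    have hE := hK (pullback (p₁ ≫ f) (Spec.map (CommRingCat.ofHom (algebraMap R K))))
      (pullback.snd (p₁ ≫ f) _ ≫ Spec.map (CommRingCat.ofHom (algebraMap R K)))
      ⟨pullback.snd (p₁ ≫ f) _, rfl⟩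
    have hs := hE.symm
      (x := ⟨pullback.fst (p₁ ≫ f) _ ≫ p₁, by rw [Category.assoc, pullback.condition]⟩)
      (y := ⟨pullback.fst (p₁ ≫ f) _ ≫ p₂, by rw [Category.assoc, ← h, pullback.condition]⟩)
      ⟨pullback.fst (p₁ ≫ f) _, rfl, rfl⟩
    obtain ⟨c, hc1, hc2⟩ := hs
    dsimp only at hc1 hc2
    refine Groth.Agent.H65.FlatEqv.exists_lift_of_generic R K (p₁ ≫ f) (pullback.lift p₁ p₂ h) _ c ?_
    apply pullback.hom_ext
    · rw [Category.assoc, hγ1, hc1, Category.assoc, pullback.lift_fst]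
    · rw [Category.assoc, hγ2, hc2, Category.assoc, pullback.lift_snd]
  have hσ1 : σ ≫ p₁ = p₂ := by
    rw [← hγ1, ← Category.assoc, hσ, pullback.lift_fst]
  have hσ2 : σ ≫ p₂ = p₁ := by
    rw [← hγ2, ← Category.assoc, hσ, pullback.lift_snd]
  -- transitivity
  have hm : (pullback.fst p₂ p₁ ≫ p₁) ≫ f = (pullback.snd p₂ p₁ ≫ p₂) ≫ f := by
    rw [Category.assoc, Category.assoc, h, ← Category.assoc, pullback.condition, Category.assoc, h]
  obtain ⟨τ, hτ⟩ : ∃ τ : pullback p₂ p₁ ⟶ Γ, τ ≫ pullback.lift p₁ p₂ h =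
      pullback.lift (pullback.fst p₂ p₁ ≫ p₁) (pullback.snd p₂ p₁ ≫ p₂) hm := by
    haveI : Flat (pullback.fst p₂ p₁) := inferInstance
    haveI : Flat (pullback.fst p₂ p₁ ≫ p₁ ≫ f) := inferInstance
    have hE := hK (pullback (pullback.fst p₂ p₁ ≫ p₁ ≫ f)
        (Spec.map (CommRingCat.ofHom (algebraMap R K))))
      (pullback.snd (pullback.fst p₂ p₁ ≫ p₁ ≫ f) _ ≫
        Spec.map (CommRingCat.ofHom (algebraMap R K)))
      ⟨pullback.snd (pullback.fst p₂ p₁ ≫ p₁ ≫ f) _, rfl⟩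
    have hcond := pullback.condition (f := pullback.fst p₂ p₁ ≫ p₁ ≫ f)
      (g := Spec.map (CommRingCat.ofHom (algebraMap R K)))
    have ht := hE.trans
      (x := ⟨pullback.fst (pullback.fst p₂ p₁ ≫ p₁ ≫ f) _ ≫ pullback.fst p₂ p₁ ≫ p₁, by
        rw [← hcond]; simp only [Category.assoc]⟩)
      (y := ⟨pullback.fst (pullback.fst p₂ p₁ ≫ p₁ ≫ f) _ ≫ pullback.fst p₂ p₁ ≫ p₂, by
        rw [← hcond]; simp only [Category.assoc]; rw [h]⟩)
      (z := ⟨pullback.fst (pullback.fst p₂ p₁ ≫ p₁ ≫ f) _ ≫ pullback.snd p₂ p₁ ≫ p₂, by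
        rw [← hcond]; simp only [Category.assoc]
        rw [← h, ← pullback.condition_assoc, h]⟩)
      ⟨pullback.fst (pullback.fst p₂ p₁ ≫ p₁ ≫ f) _ ≫ pullback.fst p₂ p₁, by
        simp only [Category.assoc], by simp only [Category.assoc]⟩
      ⟨pullback.fst (pullback.fst p₂ p₁ ≫ p₁ ≫ f) _ ≫ pullback.snd p₂ p₁, by
        simp only [Category.assoc]; rw [pullback.condition], by simp only [Category.assoc]⟩
    obtain ⟨c, hc1, hc2⟩ := ht
    dsimp only at hc1 hc2
    refine Groth.Agent.H65.FlatEqv.exists_lift_of_generic R K (pullback.fst p₂ p₁ ≫ p₁ ≫ f)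
      (pullback.lift p₁ p₂ h) _ c ?_
    apply pullback.hom_ext
    · rw [Category.assoc, hγ1, hc1, Category.assoc, pullback.lift_fst]
    · rw [Category.assoc, hγ2, hc2, Category.assoc, pullback.lift_snd]
  have hτ1 : τ ≫ p₁ = pullback.fst p₂ p₁ ≫ p₁ := by
    have h1 := congrArg (fun x => x ≫ pullback.fst f f) hτ
    simp only [Category.assoc, hγ1, pullback.lift_fst] at h1
    exact h1
  have hτ2 : τ ≫ p₂ = pullback.snd p₂ p₁ ≫ p₂ := by
    have h1 := congrArg (fun x => x ≫ pullback.snd f f) hτ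
    simp only [Category.assoc, hγ2, pullback.lift_snd] at h1
    exact h1
  intro T t
  refine ⟨fun a => ⟨a.1 ≫ e, by rw [Category.assoc, he1, Category.comp_id],
    by rw [Category.assoc, he2, Category.comp_id]⟩, ?_, ?_⟩
  · rintro a b ⟨c, hc1, hc2⟩
    exact ⟨c ≫ σ, by rw [Category.assoc, hσ1, hc2], by rw [Category.assoc, hσ2, hc1]⟩
  · rintro a b d ⟨c₁, h11, h12⟩ ⟨c₂, h21, h22⟩
    refine ⟨pullback.lift c₁ c₂ (by rw [h12, h21]) ≫ τ, ?_, ?_⟩
    · rw [Category.assoc, hτ1, pullback.lift_fst_assoc, h11]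
    · rw [Category.assoc, hτ2, pullback.lift_snd_assoc, h22]

end Groth.Agent.S13044
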