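import Groth.Statements.S13046
import Mathlib
import Groth.Agent.H65.ProjTensor

set_option autoImplicit false
universe u
open FrobAlg

namespace Groth.Agent.S13046

open TensorProduct in
/-- Let p be a prime, R a commutative ring of characteristic p and A a commutative R-algebra of
characteristic p, with Frobenius twists A^{p^i/R} = R ⊗_{F^i,R} A, relative Frobenius maps F_i :
A^{p^{i+1}/R} → A^{p^i/R} and preperfection A^{p^∞/R} = lim_i A^{p^i/R} ⊆ Π_i A^{p^i/R}. For every
finitely generated projective R-module M, a sequence y ∈ Π_i (M ⊗_R A^{p^i/R}) lies in the image of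
the natural map M ⊗_R A^{p^∞/R} → Π_i (M ⊗_R A^{p^i/R}), m ⊗ x ↦ (m ⊗ x_i)_i, if and only if (M ⊗
F_i)(y_{i+1}) = y_i for all i: the image is exactly the module of compatible sequences. Together
with the injectivity of that map, which holds for every projective M, this says that the base change
map M ⊗_R lim_i A^{p^i/R} → lim_i (M ⊗_R A^{p^i/R}) is an isomorphism. (The published statement is
phrased for a finite locally free R-algebra R′ in place of M and identifies the target with the
preperfection of A ⊗_R R′ over R′; the printed argument is the module statement given here, and that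
identification is not part of this row; the injectivity half is stated separately for all projective
M.) -/
theorem result
    (p : ℕ) [Fact p.Prime] (R : Type u) [CommRing R] [CharP R p]
    (A : Type u) [CommRing A] [Algebra R A] [CharP A p]
    (M : Type u) [AddCommGroup M] [Module R M] [Module.Finite R M] [Module.Projective R M]
    (y : Π i : ℕ, M ⊗[R] W4c1imperftorsors.Twist p R A i) :
    y ∈ LinearMap.range
        (LinearMap.pi fun i : ℕ =>
        LinearMap.lTensor M
          (((Pi.evalAlgHom R (fun k => W4c1imperftorsors.Twist p R A k) i).comp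
            (W4c1imperftorsors.prePerf p R A).val).toLinearMap) :
        M ⊗[R] ↥(W4c1imperftorsors.prePerf p R A) →ₗ[R] (Π i : ℕ, M ⊗[R] W4c1imperftorsors.Twist p R A i)) ↔
      ∀ i : ℕ, LinearMap.lTensor M (W4c1imperftorsors.relFrob p R A i).toLinearMap (y (i + 1)) = y i := by
  classical
  constructor
  · rintro ⟨x, rfl⟩ i
    rw [LinearMap.pi_apply, LinearMap.pi_apply, ← LinearMap.lTensor_comp_apply]
    have hcomp : (W4c1imperftorsors.relFrob p R A i).toLinearMap ∘ₗ
        ((Pi.evalAlgHom R (fun k => W4c1imperftorsors.Twist p R A k) (i + 1)).comp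
          (W4c1imperftorsors.prePerf p R A).val).toLinearMap =
        ((Pi.evalAlgHom R (fun k => W4c1imperftorsors.Twist p R A k) i).comp
          (W4c1imperftorsors.prePerf p R A).val).toLinearMap := by
      ext ⟨q, hq⟩
      have h1 := Algebra.mem_iInf.mp hq i
      exact (AlgHom.mem_equalizer _ _ _).mp h1
    rw [hcomp]
  · intro hy
    obtain ⟨n, f, hf⟩ := Module.Finite.exists_fin' R M
    obtain ⟨s, hs⟩ := Module.projective_lifting_property f LinearMap.id hf
    obtain ⟨e, he⟩ : ∃ e : Fin n → M, e = fun j => f (fun k => if j = k then 1 else 0) := ⟨_, rfl⟩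
    obtain ⟨φ, hφ⟩ : ∃ φ : Fin n → M →ₗ[R] R, φ = fun j => (LinearMap.proj j).comp s := ⟨_, rfl⟩
    have hsum : ∀ m : M, ∑ j, φ j m • e j = m := by
      intro m
      have h1 := LinearMap.congr_fun hs m
      rw [LinearMap.comp_apply, LinearMap.id_apply] at h1
      rw [hφ, he]
      simp only [LinearMap.comp_apply, LinearMap.proj_apply]
      rw [← LinearMap.pi_apply_eq_sum_univ f (s m), h1]
    have hmem : ∀ j : Fin n, (fun i => Groth.Agent.H65.contr (W4c1imperftorsors.Twist p R A i) (φ j) (y i))
        ∈ W4c1imperftorsors.prePerf p R A := by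
      intro j
      refine Algebra.mem_iInf.mpr fun i => (AlgHom.mem_equalizer _ _ _).mpr ?_
      show (W4c1imperftorsors.relFrob p R A i)
        (Groth.Agent.H65.contr (W4c1imperftorsors.Twist p R A (i + 1)) (φ j) (y (i + 1))) =
        Groth.Agent.H65.contr (W4c1imperftorsors.Twist p R A i) (φ j) (y i)
      have h1 := Groth.Agent.H65.contr_lTensor
        (W4c1imperftorsors.relFrob p R A i).toLinearMap (φ j) (y (i + 1))
      rw [hy i] at h1
      exact h1.symm
    refine ⟨∑ j, e j ⊗ₜ[R] (⟨_, hmem j⟩ : ↥(W4c1imperftorsors.prePerf p R A)), ?_⟩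
    funext i
    rw [LinearMap.pi_apply, map_sum]
    simp only [LinearMap.lTensor_tmul]
    exact Groth.Agent.H65.sum_tmul_contr e φ hsum (y i)

end Groth.Agent.S13046
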