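import Groth.Statements.S13047
import Mathlib

set_option autoImplicit false
universe u
open FrobAlg

namespace Groth.Agent.S13047

open Polynomial TensorProduct W4c1imperftorsors

section generic
variable (p : ℕ) [Fact p.Prime] (R : Type u) [CommRing R] [CharP R p]
  (B : Type u) [CommRing B] [Algebra R B]

/-- pure tensors in the `i`-th twist -/
noncomputable def tw (i : ℕ) (r : R) (b : B) : Twist p R B i :=
  r ⊗ₜ[Src p R i] ((aEquiv p R B i).symm b)

theorem tw_add_left (i : ℕ) (r r' : R) (b : B) :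
    tw p R B i (r + r') b = tw p R B i r b + tw p R B i r' b := by
  unfold tw; rw [TensorProduct.add_tmul]

theorem tw_add_right (i : ℕ) (r : R) (b b' : B) :
    tw p R B i r (b + b') = tw p R B i r b + tw p R B i r b' := by
  unfold tw; rw [map_add, TensorProduct.tmul_add]

theorem tw_zero_left (i : ℕ) (b : B) : tw p R B i 0 b = 0 := by
  unfold tw; rw [TensorProduct.zero_tmul]

theorem tw_zero_right (i : ℕ) (r : R) : tw p R B i r 0 = 0 := by
  unfold tw; rw [map_zero, TensorProduct.tmul_zero]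

theorem tw_smul (i : ℕ) (a r : R) (b : B) :
    tw p R B i r (algebraMap R B a * b) = tw p R B i (a ^ (p ^ i) * r) b := by
  have h := TensorProduct.smul_tmul (R := Src p R i) ((srcEquiv p R i).symm a) r
    ((aEquiv p R B i).symm b)
  rw [Algebra.smul_def, Algebra.smul_def, algebraMap_src, algebraMap_aSrc,
    RingEquiv.apply_symm_apply, ← map_mul] at h
  exact h.symm

/-- additive functional on the twist induced by an additive map `g` on `B` and a ring hom `ψ`. -/
noncomputable def twFun {Q : Type u} [CommRing Q] (ψ : R →+* Q) (i : ℕ) (g : B →+ Q)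
    (hg : ∀ (a : R) (b : B), g (algebraMap R B a * b) = ψ (a ^ (p ^ i)) * g b) :
    Twist p R B i →+ Q :=
  TensorProduct.liftAddHom
    { toFun := fun r =>
        { toFun := fun m => ψ r * g (aEquiv p R B i m)
          map_zero' := by rw [map_zero, map_zero, mul_zero]
          map_add' := fun m m' => by rw [map_add, map_add, mul_add] }
      map_zero' := AddMonoidHom.ext fun m => by
        show ψ 0 * g (aEquiv p R B i m) = 0
        rw [map_zero, zero_mul]
      map_add' := fun r r' => AddMonoidHom.ext fun m => by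
        show ψ (r + r') * g (aEquiv p R B i m) =
          ψ r * g (aEquiv p R B i m) + ψ r' * g (aEquiv p R B i m)
        rw [map_add, add_mul] }
    (by
      intro s r m
      show ψ (s • r) * g (aEquiv p R B i m) = ψ r * g (aEquiv p R B i (s • m))
      rw [Algebra.smul_def, Algebra.smul_def, algebraMap_src, algebraMap_aSrc,
        map_mul (aEquiv p R B i), RingEquiv.apply_symm_apply, hg, map_mul ψ]
      ring)

theorem twFun_tw {Q : Type u} [CommRing Q] (ψ : R →+* Q) (i : ℕ) (g : B →+ Q)
    (hg : ∀ (a : R) (b : B), g (algebraMap R B a * b) = ψ (a ^ (p ^ i)) * g b) (r : R) (b : B) :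
    twFun p R B ψ i g hg (tw p R B i r b) = ψ r * g b := by
  unfold twFun tw
  rw [TensorProduct.liftAddHom_tmul]
  show ψ r * g (aEquiv p R B i ((aEquiv p R B i).symm b)) = _
  rw [RingEquiv.apply_symm_apply]

/-- the retraction `Twist_i → R` induced by a retraction `ε : B → R` -/
noncomputable def epsI (ε : B →ₐ[R] R) (i : ℕ) : Twist p R B i →+ R :=
  twFun p R B (RingHom.id R) i
    ((iterateFrobenius R p i).toAddMonoidHom.comp ε.toLinearMap.toAddMonoidHom) (by
      intro a b
      show (ε (algebraMap R B a * b)) ^ (p ^ i) = a ^ (p ^ i) * (ε b) ^ (p ^ i)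
      rw [map_mul, AlgHom.commutes, mul_pow]; rfl)

theorem epsI_tw (ε : B →ₐ[R] R) (i : ℕ) (r : R) (b : B) :
    epsI p R B ε i (tw p R B i r b) = r * (ε b) ^ (p ^ i) := by
  unfold epsI; rw [twFun_tw]; rfl

/-- Frobenius iterate `R/(u) → R/(u^(p^i))` -/
noncomputable def phiI (u : R) (i : ℕ) : R ⧸ Ideal.span {u} →+* R ⧸ Ideal.span {u ^ (p ^ i)} :=
  Ideal.Quotient.lift (Ideal.span {u})
    ((Ideal.Quotient.mk (Ideal.span {u ^ (p ^ i)})).comp (iterateFrobenius R p i)) (by
      intro a ha
      obtain ⟨c, rfl⟩ := Ideal.mem_span_singleton'.mp ha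
      show Ideal.Quotient.mk _ ((c * u) ^ (p ^ i)) = 0
      rw [mul_pow]
      exact Ideal.Quotient.eq_zero_iff_mem.mpr
        (Ideal.mul_mem_left _ _ (Ideal.subset_span (Set.mem_singleton _))))

theorem phiI_mk (u : R) (i : ℕ) (a : R) :
    phiI p R u i (Ideal.Quotient.mk _ a) = Ideal.Quotient.mk _ (a ^ (p ^ i)) := by
  unfold phiI; rw [Ideal.Quotient.lift_mk]; rfl

/-- the `α`-coefficient functional on the `i`-th twist -/
noncomputable def cI (u : R) (γ : B →ₗ[R] R ⧸ Ideal.span {u}) (i : ℕ) :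
    Twist p R B i →+ R ⧸ Ideal.span {u ^ (p ^ i)} :=
  twFun p R B (Ideal.Quotient.mk (Ideal.span {u ^ (p ^ i)})) i
    ((phiI p R u i).toAddMonoidHom.comp γ.toAddMonoidHom) (by
      intro a b
      show phiI p R u i (γ (algebraMap R B a * b)) =
        Ideal.Quotient.mk _ (a ^ (p ^ i)) * phiI p R u i (γ b)
      rw [← Algebra.smul_def, map_smul, Algebra.smul_def, Ideal.Quotient.algebraMap_eq, map_mul,
        phiI_mk])

theorem cI_tw (u : R) (γ : B →ₗ[R] R ⧸ Ideal.span {u}) (i : ℕ) (r : R) (b : B) :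
    cI p R B u γ i (tw p R B i r b) = Ideal.Quotient.mk _ r * phiI p R u i (γ b) := by
  unfold cI; rw [twFun_tw]; rfl

theorem exists_rep (α : B)
    (hspan : ∀ b : B, ∃ a c : R, b = algebraMap R B a + algebraMap R B c * α) (i : ℕ)
    (t : Twist p R B i) : ∃ a c : R, t = tw p R B i a 1 + tw p R B i c α := by
  induction t using TensorProduct.induction_on with
  | zero => exact ⟨0, 0, by rw [tw_zero_left, tw_zero_left, add_zero]⟩
  | tmul r m =>
    obtain ⟨a, c, h⟩ := hspan (aEquiv p R B i m)
    refine ⟨a ^ (p ^ i) * r, c ^ (p ^ i) * r, ?_⟩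
    have hm : r ⊗ₜ[Src p R i] m = tw p R B i r (aEquiv p R B i m) := by
      unfold tw; rw [RingEquiv.symm_apply_apply]
    rw [hm, h, tw_add_right, ← tw_smul, ← tw_smul, mul_one]
  | add x y hx hy =>
    obtain ⟨a, c, rfl⟩ := hx
    obtain ⟨a', c', rfl⟩ := hy
    refine ⟨a + a', c + c', ?_⟩
    rw [tw_add_left, tw_add_left]; abel

variable [CharP B p]

theorem relFrob_tw (i : ℕ) (r : R) (b : B) :
    relFrob p R B i (tw p R B (i + 1) r b) = tw p R B i r (b ^ p) := by
  show relFrobAux p R B i (r ⊗ₜ[Src p R (i + 1)] ((aEquiv p R B (i + 1)).symm b)) = _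
  rw [relFrobAux, Algebra.TensorProduct.lift_tmul]
  show algebraMap R (Twist p R B i) r * ((1 : R) ⊗ₜ[Src p R i] (aEquiv p R B i).symm
      (frobenius B p (aEquiv p R B (i + 1) ((aEquiv p R B (i + 1)).symm b)))) = _
  rw [Algebra.TensorProduct.algebraMap_apply, Algebra.TensorProduct.tmul_mul_tmul,
    RingEquiv.apply_symm_apply, frobenius_def, mul_one, one_mul]
  rfl

theorem bijective_of_data (hp2 : p ≠ 2) (u v : R) (huv : u * v = 0)
    (hsep : ∀ N : ℕ, 1 ≤ N → ∀ g : R,
      (∀ n : ℕ, g ∈ Ideal.span {v ^ n} ⊔ Ideal.span {u ^ N}) → g ∈ Ideal.span {u ^ N})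
    (α : B) (hα1 : algebraMap R B u * α = 0) (hα2 : α ^ 2 = algebraMap R B (v ^ 2))
    (hspan : ∀ b : B, ∃ a c : R, b = algebraMap R B a + algebraMap R B c * α)
    (ε : B →ₐ[R] R)
    (γ : B →ₗ[R] R ⧸ Ideal.span {u}) (hγ1 : γ 1 = 0) (hγα : γ α = 1) :
    Function.Bijective (algebraMap R ↥(prePerf p R B)) := by
  have hp : p.Prime := Fact.out
  obtain ⟨k, hk⟩ : Odd p := hp.odd_of_ne_two hp2
  have hk1 : k ≠ 0 := by
    rintro rfl
    exact hp.one_lt.ne' (by omega)
  obtain ⟨w, hw⟩ : ∃ w : R, w = (v ^ 2) ^ k := ⟨_, rfl⟩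
  have hαp : α ^ p = algebraMap R B w * α := by
    rw [hk, pow_succ, pow_mul, hα2, ← map_pow, hw]
  have hwv : ∀ i : ℕ, v ∣ w ^ (p ^ i) := by
    intro i
    rw [hw, ← pow_mul, ← pow_mul]
    exact dvd_pow_self v
      (Nat.mul_ne_zero two_ne_zero (Nat.mul_ne_zero hk1 (pow_ne_zero _ hp.ne_zero)))
  have hmapval : ∀ (r : R) (i : ℕ),
      ((algebraMap R ↥(prePerf p R B) r : ↥(prePerf p R B)) : Π j, Twist p R B j) i
        = tw p R B i r 1 := by
    intro r i
    show algebraMap R (Twist p R B i) r = _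
    rw [Algebra.TensorProduct.algebraMap_apply]
    unfold tw; rw [map_one]; rfl
  constructor
  · rw [injective_iff_map_eq_zero]
    intro r hr
    have h0 := hmapval r 0
    rw [hr] at h0
    have h1 := congrArg (epsI p R B ε 0) h0
    rw [epsI_tw, map_one, one_pow, mul_one] at h1
    exact h1.symm.trans (map_zero (epsI p R B ε 0))
  · intro x
    have hx : ∀ i, relFrob p R B i (x.1 (i + 1)) = x.1 i := by
      intro i
      have h := Algebra.mem_iInf.mp x.2 i
      exact h
    choose a c hac using fun i => exists_rep p R B α hspan i (x.1 i)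
    have hstep : ∀ i, tw p R B i (a i) 1 + tw p R B i (c i) α =
        tw p R B i (a (i + 1)) 1 + tw p R B i (w ^ (p ^ i) * c (i + 1)) α := by
      intro i
      rw [← hac i, ← hx i, hac (i + 1), map_add, relFrob_tw, relFrob_tw, one_pow, hαp, tw_smul]
    have hc : ∀ i, c i - w ^ (p ^ i) * c (i + 1) ∈ Ideal.span {u ^ (p ^ i)} := by
      intro i
      have h := congrArg (cI p R B u γ i) (hstep i)
      simp only [map_add, cI_tw, hγ1, hγα, map_zero, map_one, mul_zero, zero_add, mul_one] at h
      rw [← Ideal.Quotient.eq_zero_iff_mem, map_sub, h, sub_self]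
    have hcn : ∀ n i, c i ∈ Ideal.span {v ^ n} ⊔ Ideal.span {u ^ (p ^ i)} := by
      intro n
      induction n with
      | zero =>
        intro i
        rw [pow_zero, Ideal.span_singleton_one, top_sup_eq]
        exact Submodule.mem_top
      | succ n ih =>
        intro i
        have h1 : c i = (c i - w ^ (p ^ i) * c (i + 1)) + w ^ (p ^ i) * c (i + 1) := by ring
        rw [h1]
        refine Ideal.add_mem _ (Ideal.mem_sup_right (hc i)) ?_
        obtain ⟨y, hy, z, hz, hyz⟩ := Submodule.mem_sup.mp (ih (i + 1))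
        rw [← hyz, mul_add]
        refine Ideal.add_mem _ (Ideal.mem_sup_left ?_) (Ideal.mem_sup_right ?_)
        · obtain ⟨e, rfl⟩ := Ideal.mem_span_singleton'.mp hy
          rw [Ideal.mem_span_singleton]
          have h2 : v ^ (n + 1) ∣ w ^ (p ^ i) * v ^ n := by
            rw [pow_succ']
            exact mul_dvd_mul (hwv i) (dvd_refl _)
          have h3 : w ^ (p ^ i) * (e * v ^ n) = e * (w ^ (p ^ i) * v ^ n) := by ring
          rw [h3]; exact Dvd.dvd.mul_left h2 e
        · obtain ⟨e, rfl⟩ := Ideal.mem_span_singleton'.mp hz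
          rw [Ideal.mem_span_singleton]
          exact Dvd.dvd.mul_left (Dvd.dvd.mul_left
            (pow_dvd_pow u (Nat.pow_le_pow_right hp.pos (Nat.le_succ i))) e) _
    have hcu : ∀ i, c i ∈ Ideal.span {u ^ (p ^ i)} := fun i =>
      hsep (p ^ i) (Nat.one_le_pow _ _ hp.pos) (c i) (fun n => hcn n i)
    have hcz : ∀ i, tw p R B i (c i) α = 0 := by
      intro i
      obtain ⟨e, he⟩ := Ideal.mem_span_singleton'.mp (hcu i)
      rw [← he, mul_comm, ← tw_smul, hα1, tw_zero_right]
    have hxa : ∀ i, x.1 i = tw p R B i (a i) 1 := by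
      intro i; rw [hac i, hcz i, add_zero]
    have ha : ∀ i, a (i + 1) = a i := by
      intro i
      have h := hx i
      rw [hxa i, hxa (i + 1), relFrob_tw, one_pow] at h
      have h2 := congrArg (epsI p R B ε i) h
      rw [epsI_tw, epsI_tw, map_one, one_pow, mul_one, mul_one] at h2
      exact h2
    have ha0 : ∀ i, a i = a 0 := by
      intro i
      induction i with
      | zero => rfl
      | succ i ih => rw [ha i, ih]
    refine ⟨a 0, Subtype.ext (funext fun i => ?_)⟩
    rw [hmapval, hxa i, ha0 i]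

end generic

section concrete
variable {R : Type u} [CommRing R] (u v : R)

/-- the ideal `(uX, X² − v²)` -/
noncomputable abbrev Iuv : Ideal R[X] := Ideal.span {(C u * X : R[X]), X ^ 2 - C (v ^ 2)}

theorem algebraMap_eq_mk_C (a : R) :
    algebraMap R (R[X] ⧸ Iuv u v) a = Ideal.Quotient.mk (Iuv u v) (C a) := rfl

theorem h_alpha1 : algebraMap R (R[X] ⧸ Iuv u v) u * Ideal.Quotient.mk (Iuv u v) X = 0 := by
  rw [algebraMap_eq_mk_C, ← map_mul]
  exact Ideal.Quotient.eq_zero_iff_mem.mpr (Ideal.subset_span (Set.mem_insert _ _))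

theorem h_alpha2 :
    (Ideal.Quotient.mk (Iuv u v) X) ^ 2 = algebraMap R (R[X] ⧸ Iuv u v) (v ^ 2) := by
  rw [algebraMap_eq_mk_C, ← map_pow]
  exact Ideal.Quotient.eq.mpr
    (Ideal.subset_span (Set.mem_insert_of_mem _ (Set.mem_singleton _)))

theorem h_span (b : R[X] ⧸ Iuv u v) : ∃ a c : R, b = algebraMap R (R[X] ⧸ Iuv u v) a +
    algebraMap R (R[X] ⧸ Iuv u v) c * Ideal.Quotient.mk (Iuv u v) X := by
  obtain ⟨f, rfl⟩ := Ideal.Quotient.mk_surjective b
  have key : ∀ b : R[X] ⧸ Iuv u v,
      (∃ a c : R, b = algebraMap R (R[X] ⧸ Iuv u v) a +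
        algebraMap R (R[X] ⧸ Iuv u v) c * Ideal.Quotient.mk (Iuv u v) X) →
      ∃ a c : R, b * Ideal.Quotient.mk (Iuv u v) X = algebraMap R (R[X] ⧸ Iuv u v) a +
        algebraMap R (R[X] ⧸ Iuv u v) c * Ideal.Quotient.mk (Iuv u v) X := by
    rintro _ ⟨a, c, rfl⟩
    refine ⟨c * v ^ 2, a, ?_⟩
    have h2 := h_alpha2 u v
    rw [add_mul, mul_assoc, ← pow_two, h2, map_mul, add_comm]
  induction f using Polynomial.induction_on with
  | C a => exact ⟨a, 0, by rw [map_zero, zero_mul, add_zero]; rfl⟩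
  | add f g hf hg =>
    obtain ⟨a, c, h⟩ := hf
    obtain ⟨a', c', h'⟩ := hg
    refine ⟨a + a', c + c', ?_⟩
    rw [map_add, h, h', map_add, map_add, add_mul]; abel
  | monomial n a ih =>
    have h3 : Ideal.Quotient.mk (Iuv u v) (C a * X ^ (n + 1)) =
        Ideal.Quotient.mk (Iuv u v) (C a * X ^ n) * Ideal.Quotient.mk (Iuv u v) X := by
      rw [← map_mul, pow_succ, mul_assoc]
    rw [h3]; exact key _ ih

/-- the retraction `α ↦ v` -/
noncomputable def epsAlg (huv : u * v = 0) : (R[X] ⧸ Iuv u v) →ₐ[R] R :=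
  Ideal.Quotient.liftₐ _ (Polynomial.aeval v) (by
    intro a ha
    induction ha using Submodule.span_induction with
    | mem x hx =>
      rcases hx with rfl | rfl
      · rw [map_mul, aeval_C, aeval_X]; exact huv
      · rw [map_sub, map_pow, aeval_X, aeval_C]; exact sub_self _
    | zero => exact map_zero _
    | add x y _ _ hx hy => rw [map_add, hx, hy, add_zero]
    | smul c x _ hx => rw [smul_eq_mul, map_mul, hx, mul_zero])

/-- the matrix of multiplication by `α` on `(R/u)²` -/
noncomputable def matM : Matrix (Fin 2) (Fin 2) (R ⧸ Ideal.span {u}) :=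
  !![0, Ideal.Quotient.mk _ (v ^ 2); 1, 0]

theorem aeval_matM_gen1 : Polynomial.aeval (matM u v) (C u * X : R[X]) = 0 := by
  rw [map_mul, aeval_C, aeval_X]
  have h : algebraMap R (Matrix (Fin 2) (Fin 2) (R ⧸ Ideal.span {u})) u = 0 := by
    ext i j
    rw [Matrix.algebraMap_matrix_apply]
    split_ifs
    · rw [Ideal.Quotient.algebraMap_eq]
      exact Ideal.Quotient.eq_zero_iff_mem.mpr (Ideal.subset_span (Set.mem_singleton _))
    · rfl
  rw [h, zero_mul]

theorem aeval_matM_gen2 : Polynomial.aeval (matM u v) (X ^ 2 - C (v ^ 2) : R[X]) = 0 := by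
  rw [map_sub, map_pow, aeval_X, aeval_C]
  ext i j
  fin_cases i <;> fin_cases j <;>
    simp [matM, pow_two, Matrix.mul_apply, Matrix.algebraMap_matrix_apply]

/-- the matrix representation of `B` -/
noncomputable def gammaAlg :
    (R[X] ⧸ Iuv u v) →ₐ[R] Matrix (Fin 2) (Fin 2) (R ⧸ Ideal.span {u}) :=
  Ideal.Quotient.liftₐ _ (Polynomial.aeval (matM u v)) (by
    intro a ha
    induction ha using Submodule.span_induction with
    | mem x hx =>
      rcases hx with rfl | rfl
      · exact aeval_matM_gen1 u v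
      · exact aeval_matM_gen2 u v
    | zero => exact map_zero _
    | add x y _ _ hx hy => rw [map_add, hx, hy, add_zero]
    | smul c x _ hx => rw [smul_eq_mul, map_mul, hx, mul_zero])

/-- the `α`-coefficient functional on `B` -/
noncomputable def gammaLin : (R[X] ⧸ Iuv u v) →ₗ[R] R ⧸ Ideal.span {u} :=
  (Matrix.entryLinearMap R (R ⧸ Ideal.span {u}) (1 : Fin 2) (0 : Fin 2)).comp
    (gammaAlg u v).toLinearMap

theorem gammaLin_one : gammaLin u v 1 = 0 := by
  show ((gammaAlg u v) 1) 1 0 = 0
  rw [map_one]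
  exact Matrix.one_apply_ne (by decide)

theorem gammaLin_alpha : gammaLin u v (Ideal.Quotient.mk (Iuv u v) X) = 1 := by
  show ((gammaAlg u v) (Ideal.Quotient.mk (Iuv u v) X)) 1 0 = 1
  have h : (gammaAlg u v) (Ideal.Quotient.mk (Iuv u v) X) =
      Polynomial.aeval (matM u v) (X : R[X]) := rfl
  rw [h, aeval_X]
  simp [matM]

end concrete

open Polynomial in
/-- Let p be an odd prime, R a commutative ring of characteristic p and u, v ∈ R with uv = 0, such that
for every N ≥ 1 an element of R lying in (v^n) + (u^N) for all n lies in (u^N) (v-adic separatedness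
of R/(u^N)). Let B = R[α]/(uα, α² − v²), an R-algebra of characteristic p, with Frobenius twists
B^{p^i/R} = R ⊗_{F^i,R} B and preperfection B^{p^∞/R} = lim_i B^{p^i/R} along the relative Frobenius
maps. Then the structure map R → B^{p^∞/R} is bijective: the preperfection of B is R. (The published
statement is for R = F_p[[u, v]]/(uv), where B arises as the preperfection of R[x, y, 1/(x − y)]/(xy
− u), so that the second preperfection of that algebra is R although the first is not perfect; the
printed computation uses only the hypotheses listed here, which that R satisfies.) -/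
theorem result
    (p : ℕ) [Fact p.Prime] (hp : p ≠ 2) (R : Type u) [CommRing R] [CharP R p]
    (u v : R) (huv : u * v = 0)
    (hsep : ∀ N : ℕ, 1 ≤ N → ∀ g : R,
      (∀ n : ℕ, g ∈ Ideal.span {v ^ n} ⊔ Ideal.span {u ^ N}) → g ∈ Ideal.span {u ^ N})
    [CharP (R[X] ⧸ Ideal.span {(C u * X : R[X]), X ^ 2 - C (v ^ 2)}) p] :
    Function.Bijective
      (algebraMap R ↥(W4c1imperftorsors.prePerf p R
        (R[X] ⧸ Ideal.span {(C u * X : R[X]), X ^ 2 - C (v ^ 2)}))) := by
  exact bijective_of_data p R _ hp u v huv hsep (Ideal.Quotient.mk (Iuv u v) X)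
    (h_alpha1 u v) (h_alpha2 u v) (h_span u v) (epsAlg u v huv) (gammaLin u v)
    (gammaLin_one u v) (gammaLin_alpha u v)

end Groth.Agent.S13047
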