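import Groth.Statements.S13048
import Mathlib

set_option autoImplicit false
universe u
open FrobAlg

namespace Groth.Agent.S13048

/-- Let k be an algebraically closed field of characteristic p > 0 and let A be a reduced finitely
generated commutative k-algebra with connected spectrum (A ≠ 0 and 0, 1 are its only idempotents).
If x ∈ A is a p^n-th power in A for every n ≥ 0, then x lies in the image of k; that is, ⋂_n A^{p^n}
= k. (The published statement is: for an artinian local ring R of characteristic p and a flat
R-algebra A of finite type, the maps A^ét → O(π₀(A)) → A^{p^∞/R} from the largest étale subalgebra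
to the preperfection are isomorphisms. This row is the case R = k algebraically closed and A reduced
with connected spectrum, where A^ét = k and the preperfection is ⋂_n A^{p^n}; the printed proof
reduces to this case and its last step proves it.) -/
theorem result
    (p : ℕ) [Fact p.Prime] (k : Type u) [Field k] [IsAlgClosed k] [CharP k p]
    (A : Type u) [CommRing A] [Algebra k A] [Algebra.FiniteType k A] [IsReduced A] [Nontrivial A]
    (hconn : ∀ e : A, IsIdempotentElem e → e = 0 ∨ e = 1)
    (x : A) (hx : ∀ n : ℕ, ∃ a : A, a ^ p ^ n = x) :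
    x ∈ (algebraMap k A).range := by
  classical
  haveI : IsNoetherianRing A := Algebra.FiniteType.isNoetherianRing k A
  haveI : CharP A p := charP_of_injective_algebraMap (algebraMap k A).injective p
  have hp : p.Prime := Fact.out
  have hres : ∀ m : Ideal A, m.IsMaximal → ∃ c : k, x - algebraMap k A c ∈ m := by
    intro m hm
    letI := Ideal.Quotient.field m
    haveI : Module.Finite k (A ⧸ m) := finite_of_finite_type_of_isJacobsonRing k (A ⧸ m)
    haveI : Algebra.IsIntegral k (A ⧸ m) := Algebra.IsIntegral.of_finite k (A ⧸ m)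
    obtain ⟨c, hc⟩ := (IsAlgClosed.algebraMap_bijective_of_isIntegral (k := k) (K := A ⧸ m)).2
      (Ideal.Quotient.mk m x)
    refine ⟨c, ?_⟩
    rw [← Ideal.Quotient.eq]
    exact hc.symm.trans rfl
  have hkey : ∀ m : Ideal A, m.IsMaximal → ∀ c : k, x - algebraMap k A c ∈ m →
      ∃ s : A, s ∉ m ∧ s * (x - algebraMap k A c) = 0 := by
    intro m hm c hc
    have hpow : ∀ N : ℕ, x - algebraMap k A c ∈ m ^ N := by
      intro N
      obtain ⟨a, ha⟩ := hx N
      obtain ⟨d, hd⟩ := IsAlgClosed.exists_pow_nat_eq c (pow_pos hp.pos N)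
      have h1 : x - algebraMap k A c = (a - algebraMap k A d) ^ p ^ N := by
        rw [sub_pow_char_pow, ha, ← map_pow, hd]
      have h2 : a - algebraMap k A d ∈ m := by
        apply hm.isPrime.mem_of_pow_mem (p ^ N)
        rw [← h1]; exact hc
      rw [h1]
      exact Ideal.pow_le_pow_right (Nat.lt_pow_self hp.one_lt).le (Ideal.pow_mem_pow h2 _)
    have hmem : x - algebraMap k A c ∈ (⨅ i : ℕ, m ^ i • ⊤ : Submodule A A) := by
      rw [Submodule.mem_iInf]
      intro i
      rw [smul_eq_mul, Ideal.mul_top]
      exact hpow i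
    obtain ⟨r, hr⟩ := (Ideal.mem_iInf_smul_pow_eq_bot_iff m (x - algebraMap k A c)).mp hmem
    refine ⟨1 - r, ?_, ?_⟩
    · intro hs
      apply hm.ne_top
      rw [Ideal.eq_top_iff_one]
      have : (1 : A) = (1 - (r : A)) + r := by ring
      rw [this]
      exact m.add_mem hs r.2
    · rw [sub_mul, one_mul, ← smul_eq_mul (r : A), hr, sub_self]
  obtain ⟨m₀, hm₀⟩ := Ideal.exists_maximal A
  obtain ⟨c₀, hc₀⟩ := hres m₀ hm₀
  have htop : Ideal.torsionOf A A (x - algebraMap k A c₀) ⊔ Ideal.span {x - algebraMap k A c₀} = ⊤ := by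
    by_contra hne
    obtain ⟨m, hm, hle⟩ := Ideal.exists_le_maximal _ hne
    have hym : x - algebraMap k A c₀ ∈ m :=
      hle (Ideal.mem_sup_right (Ideal.mem_span_singleton_self _))
    obtain ⟨s, hs, hsy⟩ := hkey m hm c₀ hym
    apply hs
    apply hle
    apply Ideal.mem_sup_left
    rw [Ideal.mem_torsionOf_iff, smul_eq_mul]
    exact hsy
  have h1 : (1 : A) ∈ Ideal.torsionOf A A (x - algebraMap k A c₀) ⊔
      Ideal.span {x - algebraMap k A c₀} := by rw [htop]; trivial
  obtain ⟨s, hs, t, ht, hst⟩ := Submodule.mem_sup.mp h1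
  rw [Ideal.mem_torsionOf_iff, smul_eq_mul] at hs
  obtain ⟨t', rfl⟩ := Ideal.mem_span_singleton'.mp ht
  have hidem : IsIdempotentElem s := by
    have h3 : s * s = s * (s + t' * (x - algebraMap k A c₀)) -
        t' * (s * (x - algebraMap k A c₀)) := by ring
    show s * s = s
    rw [h3, hst, hs]; ring
  rcases hconn s hidem with h0 | h1'
  · exfalso
    apply hm₀.ne_top
    rw [Ideal.eq_top_iff_one]
    rw [h0, zero_add] at hst
    rw [← hst]
    exact m₀.mul_mem_left t' hc₀
  · rw [h1', one_mul] at hs
    exact ⟨c₀, (sub_eq_zero.mp hs).symm⟩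

end Groth.Agent.S13048
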