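import Groth.Statements.S13049
-- import your own Groth.Agent.* helpers here

set_option autoImplicit false
universe u
open FrobAlg

namespace Groth.Agent.S13049

/-- Let p be a prime and A a commutative ring of characteristic p whose nilradical N satisfies x^(p^e) =
0 for all x ∈ N and some fixed e (for instance A Noetherian). Then the map between the inverse-limit
perfections along the absolute Frobenius, lim (⋯ → A → A) → lim (⋯ → A/N → A/N), induced by the
projection A → A/N, is bijective. (The published argument takes A of finite type over a field, where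
the nilradical is finitely generated; this row assumes only that the nilradical is killed by one
fixed iterate of Frobenius, which is all that argument uses.) -/
theorem result
    (p : ℕ) [Fact p.Prime] (A : Type u) [CommRing A] [CharP A p]
    [CharP (A ⧸ nilradical A) p] (e : ℕ) (he : ∀ x ∈ nilradical A, x ^ p ^ e = 0) :
    Function.Bijective (Perfection.map p (Ideal.Quotient.mk (nilradical A))) := by
  classical
  have key : ∀ x y : A, x - y ∈ nilradical A → x ^ p ^ e = y ^ p ^ e := by
    intro x y hxy
    have h1 := he _ hxy
    rw [sub_pow_char_pow] at h1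
    exact sub_eq_zero.mp h1
  have hcoeffA : ∀ (f : Perfection A p) (n : ℕ),
      (Perfection.coeff A p (n + e) f) ^ p ^ e = Perfection.coeff A p n f :=
    fun f n => Perfection.coeffMonoidHom_pow_p_pow' f n e
  have hcoeffQ : ∀ (g : Perfection (A ⧸ nilradical A) p) (n : ℕ),
      (Perfection.coeff (A ⧸ nilradical A) p (n + e) g) ^ p ^ e =
        Perfection.coeff (A ⧸ nilradical A) p n g :=
    fun g n => Perfection.coeffMonoidHom_pow_p_pow' g n e
  constructor
  · intro f g hfg
    ext n
    rw [← hcoeffA f n, ← hcoeffA g n]
    apply key
    have h2 := congrArg (Perfection.coeff _ p (n + e)) hfg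
    simp only [Perfection.coeff_map] at h2
    exact (Ideal.Quotient.eq).mp h2
  · intro g
    have hsurj := Ideal.Quotient.mk_surjective (I := nilradical A)
    choose lift hlift using hsurj
    have hcompat : ∀ n : ℕ, ((lift (Perfection.coeff _ p (n + 1 + e) g)) ^ p ^ e) ^ p =
        (lift (Perfection.coeff _ p (n + e) g)) ^ p ^ e := by
      intro n
      rw [← pow_mul, mul_comm, pow_mul]
      apply key
      rw [← Ideal.Quotient.eq, map_pow, hlift, hlift]
      have h3 := Perfection.coeff_pow_p' g (n + e)
      rw [show n + 1 + e = n + e + 1 by ring]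
      exact h3
    obtain ⟨f0, hf0⟩ : ∃ f0 : Perfection A p, ∀ n, Perfection.coeff A p n f0 =
        (lift (Perfection.coeff _ p (n + e) g)) ^ p ^ e :=
      ⟨⟨fun n => (lift (Perfection.coeff _ p (n + e) g)) ^ p ^ e, hcompat⟩, fun n => rfl⟩
    refine ⟨f0, ?_⟩
    ext n
    rw [Perfection.coeff_map, hf0, map_pow, hlift]
    exact hcoeffQ g n

end Groth.Agent.S13049
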