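import Groth.Statements.S13051
import Groth.Agent.H65.ExpSubst2
import Mathlib.Algebra.BigOperators.Field
import Mathlib.RingTheory.PowerSeries.Trunc
import Mathlib.NumberTheory.Divisors

set_option autoImplicit false
universe u
open CategoryTheory AlgebraicGeometry
open Zeta

namespace Groth.Agent.S13051

/-- For a scheme X of finite type over a finite field k, Z(X, t) = ∏ over the closed points x of (1 −
t^{deg x})^{−1}, that is ∏_{r ≥ 1} (1 − t^r)^{−a_r} with a_r the number of closed points of residue
degree r; equivalently, for every n the product Z(X, t) · ∏_{r = 1}^{n} (1 − t^r)^{a_r} is ≡ 1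
modulo t^{n+1}. In particular Z(X, t) has integer coefficients. (Stated for any scheme of finite
type over k; reducedness plays no role.) -/
theorem result {k : Type u} [Field k] [Finite k] {X : Scheme.{u}}
    (f : X ⟶ Spec (CommRingCat.of k)) [LocallyOfFiniteType f] [QuasiCompact f] :
    (∀ n : ℕ, PowerSeries.trunc (n + 1)
        (Zeta.zetaFun f * ∏ r ∈ Finset.Icc 1 n, (1 - PowerSeries.X ^ r) ^ Zeta.degCount f r) = 1) ∧
      ∀ n : ℕ, ∃ z : ℤ, PowerSeries.coeff n (Zeta.zetaFun f) = (z : ℚ) := by
  classical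
  have hL0 : PowerSeries.constantCoeff (Zeta.logZeta f) = 0 := by
    rw [← PowerSeries.coeff_zero_eq_constantCoeff_apply, Zeta.logZeta, PowerSeries.coeff_mk]
    simp
  have hsm : ∀ (c : ℕ) (r : ℕ),
      PowerSeries.constantCoeff (c • Groth.Agent.H65.powLog r) = 0 := by
    intro c r
    rw [map_nsmul, Groth.Agent.H65.constantCoeff_powLog, smul_zero]
  have P1 : ∀ n : ℕ, ∃ h : PowerSeries ℚ,
      Zeta.zetaFun f * ∏ r ∈ Finset.Icc 1 n, (1 - PowerSeries.X ^ r) ^ Zeta.degCount f r
        = 1 + PowerSeries.X ^ (n + 1) * h := by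
    intro n
    set Sv : PowerSeries ℚ :=
      ∑ r ∈ Finset.Icc 1 n, (Zeta.degCount f r) • Groth.Agent.H65.powLog r with hSv
    set R : PowerSeries ℚ := Zeta.logZeta f - Sv with hR
    have hS0 : PowerSeries.constantCoeff Sv = 0 := by
      rw [hSv, map_sum]
      exact Finset.sum_eq_zero fun r _ => hsm _ r
    have hR0 : PowerSeries.constantCoeff R = 0 := by
      rw [hR, map_sub, hL0, hS0, sub_zero]
    have hRdvd : PowerSeries.X ^ (n + 1) ∣ R := by
      rw [PowerSeries.X_pow_dvd_iff]
      intro m hm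
      rw [hR, map_sub, hSv, map_sum, Zeta.logZeta, PowerSeries.coeff_mk]
      simp only [map_nsmul, Groth.Agent.H65.coeff_powLog]
      rcases Nat.eq_zero_or_pos m with rfl | hm0
      · simp
      · rw [Zeta.nPts]
        have hfilter : (Finset.Icc 1 n).filter (· ∣ m) = m.divisors := by
          ext r
          simp only [Finset.mem_filter, Finset.mem_Icc, Nat.mem_divisors]
          constructor
          · rintro ⟨_, hd⟩
            exact ⟨hd, by omega⟩
          · rintro ⟨hd, _⟩
            have h1 := Nat.le_of_dvd hm0 hd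
            have h2 : r ≠ 0 := by
              rintro rfl
              rw [zero_dvd_iff] at hd
              omega
            exact ⟨⟨by omega, by omega⟩, hd⟩
        have h3 : ∑ r ∈ Finset.Icc 1 n,
              (Zeta.degCount f r) • (if r ∣ m then (r : ℚ) / m else 0)
            = ∑ r ∈ m.divisors, ((r * Zeta.degCount f r : ℕ) : ℚ) / m := by
          rw [← hfilter, Finset.sum_filter]
          refine Finset.sum_congr rfl fun r _ => ?_
          split_ifs
          · rw [nsmul_eq_mul]
            push_cast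
            ring
          · rw [smul_zero]
        rw [h3, Nat.cast_sum, Finset.sum_div, sub_self]
    have hsplit : Zeta.logZeta f = R + Sv := by rw [hR, sub_add_cancel]
    obtain ⟨h, hh⟩ := hRdvd
    obtain ⟨g, hg⟩ := Groth.Agent.H65.dvd_expS_sub_one hR0
    refine ⟨h * g, ?_⟩
    have hZ : Zeta.zetaFun f = Groth.Agent.H65.expS R *
        ∏ r ∈ Finset.Icc 1 n,
          Groth.Agent.H65.expS (Groth.Agent.H65.powLog r) ^ Zeta.degCount f r := by
      change Groth.Agent.H65.expS (Zeta.logZeta f) = _
      rw [hsplit, Groth.Agent.H65.expS_add hR0 hS0, hSv,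
        Groth.Agent.H65.expS_sum _ _ (fun r _ => hsm _ r)]
      congr 1
      refine Finset.prod_congr rfl fun r _ => ?_
      rw [Groth.Agent.H65.expS_nsmul (Groth.Agent.H65.constantCoeff_powLog r)]
    have hprod : (∏ r ∈ Finset.Icc 1 n,
          Groth.Agent.H65.expS (Groth.Agent.H65.powLog r) ^ Zeta.degCount f r) *
        ∏ r ∈ Finset.Icc 1 n, ((1 : PowerSeries ℚ) - PowerSeries.X ^ r) ^ Zeta.degCount f r = 1 := by
      rw [← Finset.prod_mul_distrib]
      refine Finset.prod_eq_one fun r hr => ?_
      rw [← mul_pow, Groth.Agent.H65.expS_powLog_mul (Finset.mem_Icc.mp hr).1, one_pow]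
    rw [hZ, mul_assoc, hprod, mul_one]
    have h5 : Groth.Agent.H65.expS R = 1 + R * g := by rw [← hg]; ring
    rw [h5, hh]
    ring
  refine ⟨fun n => ?_, fun n => ?_⟩
  · obtain ⟨h, hh⟩ := P1 n
    rw [hh]
    ext m
    rw [PowerSeries.coeff_trunc, Polynomial.coeff_one]
    by_cases h1 : m < n + 1
    · rw [if_pos h1, map_add, PowerSeries.coeff_one, PowerSeries.coeff_X_pow_mul',
        if_neg (show ¬ n + 1 ≤ m by omega), add_zero]
    · rw [if_neg h1, if_neg (show ¬ m = 0 by omega)]
  · obtain ⟨h, hh⟩ := P1 n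
    set A : PowerSeries ℚ :=
      ∏ r ∈ Finset.Icc 1 n, ((1 : PowerSeries ℚ) - PowerSeries.X ^ r) ^ Zeta.degCount f r with hA
    set Az : PowerSeries ℤ :=
      ∏ r ∈ Finset.Icc 1 n, ((1 : PowerSeries ℤ) - PowerSeries.X ^ r) ^ Zeta.degCount f r with hAz
    have hAz0 : PowerSeries.constantCoeff Az = ((1 : ℤˣ) : ℤ) := by
      rw [Units.val_one, hAz, map_prod]
      refine Finset.prod_eq_one fun r hr => ?_
      have hr1 : r ≠ 0 := by
        have := (Finset.mem_Icc.mp hr).1
        omega
      rw [map_pow, map_sub, map_one, map_pow, PowerSeries.constantCoeff_X, zero_pow hr1, sub_zero,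
        one_pow]
    have hG : Az * PowerSeries.invOfUnit Az 1 = 1 := PowerSeries.mul_invOfUnit Az 1 hAz0
    have hmap : PowerSeries.map (Int.castRingHom ℚ) Az = A := by
      simp [hAz, hA, map_prod]
    have hAG : A * PowerSeries.map (Int.castRingHom ℚ) (PowerSeries.invOfUnit Az 1) = 1 := by
      rw [← hmap, ← map_mul, hG, map_one]
    refine ⟨PowerSeries.coeff n (PowerSeries.invOfUnit Az 1), ?_⟩
    have hZ : Zeta.zetaFun f = (1 + PowerSeries.X ^ (n + 1) * h) *
        PowerSeries.map (Int.castRingHom ℚ) (PowerSeries.invOfUnit Az 1) := by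
      rw [← hh, mul_assoc, hAG, mul_one]
    rw [hZ, add_mul, one_mul, map_add, mul_assoc, PowerSeries.coeff_X_pow_mul',
      if_neg (show ¬ n + 1 ≤ n by omega), add_zero, PowerSeries.coeff_map]
    simp

end Groth.Agent.S13051
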