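import Groth.Statements.S13055
import Groth.Agent.H65.ExpSubst
import Mathlib.Algebra.BigOperators.Field

set_option autoImplicit false
universe u
open CategoryTheory AlgebraicGeometry
open Zeta

namespace Groth.Agent.S13055

/-- Let X be a scheme of finite type over a finite field k with q elements and P = a_d y^d + ⋯ + a_0 ∈
ℤ[y] with N_m = P(q^m) for every m ≥ 1 (X is of polynomial count). Then Z(X, t) = ∏_{i = 0}^{d} (1 −
q^i t)^{−a_i}; stated cleared of denominators, with the factors of positive exponent moved to the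
left. -/
theorem result {k : Type u} [Field k] [Finite k] {X : Scheme.{u}}
    (f : X ⟶ Spec (CommRingCat.of k)) [LocallyOfFiniteType f] [QuasiCompact f] (P : Polynomial ℤ)
    (hP : ∀ m : ℕ, 1 ≤ m → (Zeta.nPts f m : ℤ) = P.eval ((Nat.card k : ℤ) ^ m)) :
    Zeta.zetaFun f * ∏ i ∈ Finset.range (P.natDegree + 1),
        (1 - PowerSeries.C ((Nat.card k : ℚ) ^ i) * PowerSeries.X) ^ (P.coeff i).toNat =
      ∏ i ∈ Finset.range (P.natDegree + 1),
        (1 - PowerSeries.C ((Nat.card k : ℚ) ^ i) * PowerSeries.X) ^ (-P.coeff i).toNat := by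
  classical
  set q : ℚ := (Nat.card k : ℚ) with hq
  have hL0 : PowerSeries.constantCoeff (Zeta.logZeta f) = 0 := by
    rw [← PowerSeries.coeff_zero_eq_constantCoeff_apply, Zeta.logZeta, PowerSeries.coeff_mk]
    simp
  have key : Zeta.logZeta f + ∑ i ∈ Finset.range (P.natDegree + 1),
        ((-P.coeff i).toNat) • Groth.Agent.H65.geoLog (q ^ i)
      = ∑ i ∈ Finset.range (P.natDegree + 1),
        ((P.coeff i).toNat) • Groth.Agent.H65.geoLog (q ^ i) := by
    ext m
    simp only [map_add, map_sum, map_nsmul, Groth.Agent.H65.coeff_geoLog]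
    rw [Zeta.logZeta, PowerSeries.coeff_mk]
    rcases Nat.eq_zero_or_pos m with rfl | hm
    · simp
    · have h1 : ((Zeta.nPts f m : ℤ) : ℚ) =
          ∑ i ∈ Finset.range (P.natDegree + 1), (P.coeff i : ℚ) * (q ^ i) ^ m := by
        rw [hP m hm, Polynomial.eval_eq_sum_range]
        push_cast
        refine Finset.sum_congr rfl fun i _ => ?_
        ring
      have h1' : (Zeta.nPts f m : ℚ) =
          ∑ i ∈ Finset.range (P.natDegree + 1), (P.coeff i : ℚ) * (q ^ i) ^ m := by
        rw [← h1, Int.cast_natCast]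
      rw [h1', Finset.sum_div, ← Finset.sum_add_distrib]
      refine Finset.sum_congr rfl fun i _ => ?_
      have h2 : (P.coeff i : ℚ) = ((P.coeff i).toNat : ℚ) - ((-P.coeff i).toNat : ℚ) := by
        have h3 := Int.toNat_sub_toNat_neg (P.coeff i)
        exact_mod_cast h3.symm
      rw [h2, nsmul_eq_mul, nsmul_eq_mul]
      ring
  have hg : ∀ i : ℕ, PowerSeries.constantCoeff (Groth.Agent.H65.geoLog (q ^ i)) = 0 :=
    fun i => Groth.Agent.H65.constantCoeff_geoLog _
  have hsm : ∀ (n : ℕ) (i : ℕ),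
      PowerSeries.constantCoeff (n • Groth.Agent.H65.geoLog (q ^ i)) = 0 := by
    intro n i
    rw [map_nsmul, hg, smul_zero]
  have hsumN : PowerSeries.constantCoeff (∑ i ∈ Finset.range (P.natDegree + 1),
      ((-P.coeff i).toNat) • Groth.Agent.H65.geoLog (q ^ i)) = 0 := by
    rw [map_sum]
    exact Finset.sum_eq_zero fun i _ => hsm _ i
  have hE := congrArg Groth.Agent.H65.expS key
  rw [Groth.Agent.H65.expS_add hL0 hsumN, Groth.Agent.H65.expS_sum _ _ (fun i _ => hsm _ i),
    Groth.Agent.H65.expS_sum _ _ (fun i _ => hsm _ i)] at hE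
  simp only [Groth.Agent.H65.expS_nsmul (hg _)] at hE
  have hED : ∀ i : ℕ, Groth.Agent.H65.expS (Groth.Agent.H65.geoLog (q ^ i)) *
      (1 - PowerSeries.C (q ^ i) * PowerSeries.X) = 1 :=
    fun i => Groth.Agent.H65.expS_geoLog_mul _
  have hprod : ∀ e : ℕ → ℕ, (∏ i ∈ Finset.range (P.natDegree + 1),
        Groth.Agent.H65.expS (Groth.Agent.H65.geoLog (q ^ i)) ^ e i) *
      (∏ i ∈ Finset.range (P.natDegree + 1),
        (1 - PowerSeries.C (q ^ i) * PowerSeries.X) ^ e i) = 1 := by
    intro e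
    rw [← Finset.prod_mul_distrib]
    refine Finset.prod_eq_one fun i _ => ?_
    rw [← mul_pow, hED i, one_pow]
  have h1 := hprod fun i => (-P.coeff i).toNat
  have h2 := hprod fun i => (P.coeff i).toNat
  change Groth.Agent.H65.expS (Zeta.logZeta f) * _ = _
  linear_combination
    ((∏ i ∈ Finset.range (P.natDegree + 1),
        (1 - PowerSeries.C (q ^ i) * PowerSeries.X) ^ (P.coeff i).toNat) *
      (∏ i ∈ Finset.range (P.natDegree + 1),
        (1 - PowerSeries.C (q ^ i) * PowerSeries.X) ^ (-P.coeff i).toNat)) * hE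
    - (Groth.Agent.H65.expS (Zeta.logZeta f) * (∏ i ∈ Finset.range (P.natDegree + 1),
        (1 - PowerSeries.C (q ^ i) * PowerSeries.X) ^ (P.coeff i).toNat)) * h1
    + (∏ i ∈ Finset.range (P.natDegree + 1),
        (1 - PowerSeries.C (q ^ i) * PowerSeries.X) ^ (-P.coeff i).toNat) * h2

end Groth.Agent.S13055
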