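import Groth.Statements.S13053
import Groth.Agent.H16.ProjPts
import Groth.Agent.S13055

set_option autoImplicit false
universe u
open CategoryTheory AlgebraicGeometry
open Zeta

namespace Groth.Agent.S13053

open Polynomial in
lemma geomP_coeff (n i : ℕ) (hi : i ∈ Finset.range (n + 1)) :
    (∑ j ∈ Finset.range (n + 1), (Polynomial.X : Polynomial ℤ) ^ j).coeff i = 1 := by
  rw [Polynomial.finsetSum_coeff]
  simp_rw [Polynomial.coeff_X_pow]
  rw [Finset.sum_ite_eq (Finset.range (n + 1)) i]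
  rw [if_pos hi]

open Polynomial in
lemma geomP_natDegree (n : ℕ) :
    (∑ j ∈ Finset.range (n + 1), (Polynomial.X : Polynomial ℤ) ^ j).natDegree = n := by
  apply Polynomial.natDegree_eq_of_le_of_coeff_ne_zero
  · apply Polynomial.natDegree_sum_le_of_forall_le
    intro j hj
    exact (Polynomial.natDegree_X_pow_le j).trans (Nat.lt_succ_iff.mp (Finset.mem_range.mp hj))
  · rw [geomP_coeff n n (Finset.mem_range.mpr (Nat.lt_succ_self n))]
    exact one_ne_zero

/-- For a finite field k with q elements, Z(P^n_k, t) = 1 / ((1 − t)(1 − qt) ⋯ (1 − q^n t)); stated as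
Z(P^n_k, t) · ∏_{i = 0}^{n} (1 − q^i t) = 1 in ℚ⟦t⟧. -/
theorem result (k : Type u) [Field k] [Finite k] (n : ℕ) :
    Zeta.zetaFun (CohB1.ProjSpace.toSpec n k) *
        ∏ i ∈ Finset.range (n + 1), (1 - PowerSeries.C ((Nat.card k : ℚ) ^ i) * PowerSeries.X) = 1 := by
  haveI : LocallyOfFiniteType (CohB1.ProjSpace.toSpec n k) := inferInstance
  haveI : QuasiCompact (CohB1.ProjSpace.toSpec n k) := inferInstance
  have hP : ∀ m : ℕ, 1 ≤ m → (Zeta.nPts (CohB1.ProjSpace.toSpec n k) m : ℤ) =
      (∑ j ∈ Finset.range (n + 1), (Polynomial.X : Polynomial ℤ) ^ j).eval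
        ((Nat.card k : ℤ) ^ m) := by
    intro m hm
    rw [Groth.Agent.H16.ProjPts.nPts_projSpace n k m hm, Polynomial.eval_finsetSum]
    push_cast
    simp_rw [Polynomial.eval_pow, Polynomial.eval_X]
  have h := Groth.Agent.S13055.result (CohB1.ProjSpace.toSpec n k)
    (∑ j ∈ Finset.range (n + 1), (Polynomial.X : Polynomial ℤ) ^ j) hP
  rw [geomP_natDegree] at h
  have h1 : ∀ i ∈ Finset.range (n + 1),
      (1 - PowerSeries.C ((Nat.card k : ℚ) ^ i) * PowerSeries.X) ^
        ((∑ j ∈ Finset.range (n + 1), (Polynomial.X : Polynomial ℤ) ^ j).coeff i).toNat =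
      (1 - PowerSeries.C ((Nat.card k : ℚ) ^ i) * PowerSeries.X) := by
    intro i hi
    rw [geomP_coeff n i hi]
    simp
  have h2 : ∀ i ∈ Finset.range (n + 1),
      (1 - PowerSeries.C ((Nat.card k : ℚ) ^ i) * PowerSeries.X) ^
        (-(∑ j ∈ Finset.range (n + 1), (Polynomial.X : Polynomial ℤ) ^ j).coeff i).toNat =
      1 := by
    intro i hi
    rw [geomP_coeff n i hi]
    simp
  rw [Finset.prod_congr rfl h1, Finset.prod_congr rfl h2, Finset.prod_const_one] at h
  exact h

end Groth.Agent.S13053
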