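import Groth.Statements.S13057
import Mathlib.Tactic
import Mathlib.RingTheory.PowerSeries.Trunc

set_option autoImplicit false
universe u
open Zeta

namespace Groth.Agent.S13057

theorem KL {L : Type u} [Field L] (f : PowerSeries L) (Q : Polynomial L) (N : ℕ)
    (hQ : Q.natDegree ≤ N) (i : ℕ) :
    PowerSeries.coeff (i + N) (f * (Q : PowerSeries L)) =
      ∑ j : Fin (N + 1), Q.coeff (N - (j : ℕ)) * PowerSeries.coeff (i + (j : ℕ)) f := by
  rw [PowerSeries.coeff_mul, Finset.Nat.sum_antidiagonal_eq_sum_range_succ_mk]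
  have e : (i + N).succ = i + (N + 1) := by omega
  rw [e, Finset.sum_range_add]
  dsimp only
  have h0 : ∑ k ∈ Finset.range i, PowerSeries.coeff k f *
      PowerSeries.coeff (i + N - k) (Q : PowerSeries L) = 0 := by
    apply Finset.sum_eq_zero
    intro k hk
    rw [Polynomial.coeff_coe, Polynomial.coeff_eq_zero_of_natDegree_lt, mul_zero]
    have := Finset.mem_range.1 hk
    omega
  rw [h0, zero_add, Finset.sum_range]
  apply Finset.sum_congr rfl
  intro j _
  rw [Polynomial.coeff_coe, mul_comm]
  congr 2
  omega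


/-- A power series f = ∑_{m ≥ 0} a_m t^m over a field L lies in L(t), i.e. f · Q = P for some
polynomials P, Q with Q ≠ 0, if and only if there are natural numbers M, N such that the vectors
(a_i, a_{i+1}, …, a_{i+N}) ∈ L^{N+1}, i ≥ M, span a proper subspace. -/
theorem result {L : Type u} [Field L]
    (f : PowerSeries L) :
    (∃ P Q : Polynomial L, Q ≠ 0 ∧ f * (Q : PowerSeries L) = (P : PowerSeries L)) ↔
      ∃ M N : ℕ, Submodule.span L
          {v : Fin (N + 1) → L | ∃ i : ℕ, M ≤ i ∧ v = fun j : Fin (N + 1) => PowerSeries.coeff (i + (j : ℕ)) f} ≠ ⊤ := by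
  constructor
  · rintro ⟨P, Q, hQ0, hfQ⟩
    refine ⟨P.natDegree + 1, Q.natDegree, ?_⟩
    intro htop
    let φ : (Fin (Q.natDegree + 1) → L) →ₗ[L] L :=
      { toFun := fun v => ∑ j : Fin (Q.natDegree + 1), Q.coeff (Q.natDegree - (j : ℕ)) * v j
        map_add' := fun v w => by
          simp only [Pi.add_apply, mul_add, Finset.sum_add_distrib]
        map_smul' := fun a v => by
          simp only [Pi.smul_apply, smul_eq_mul, RingHom.id_apply, Finset.mul_sum]
          apply Finset.sum_congr rfl
          intro j _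
          ring }
    have hle : Submodule.span L
        {v : Fin (Q.natDegree + 1) → L | ∃ i : ℕ, P.natDegree + 1 ≤ i ∧
          v = fun j : Fin (Q.natDegree + 1) => PowerSeries.coeff (i + (j : ℕ)) f} ≤
        LinearMap.ker φ := by
      refine Submodule.span_le.2 ?_
      rintro v ⟨i, hi, rfl⟩
      show (∑ j : Fin (Q.natDegree + 1), Q.coeff (Q.natDegree - (j : ℕ)) *
        PowerSeries.coeff (i + (j : ℕ)) f) = 0
      rw [← KL f Q Q.natDegree le_rfl i, hfQ, Polynomial.coeff_coe,
        Polynomial.coeff_eq_zero_of_natDegree_lt]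
      omega
    rw [htop] at hle
    have h1 : φ (Pi.single 0 1) = 0 := hle Submodule.mem_top
    have h2 : φ (Pi.single 0 1) = Q.leadingCoeff := by
      show (∑ j : Fin (Q.natDegree + 1), Q.coeff (Q.natDegree - (j : ℕ)) *
        (Pi.single (0 : Fin (Q.natDegree + 1)) (1 : L) : Fin (Q.natDegree + 1) → L) j) = _
      rw [Finset.sum_eq_single 0]
      · rw [Pi.single_eq_same, mul_one]
        rfl
      · intro j _ hj
        rw [Pi.single_eq_of_ne hj, mul_zero]
      · intro h
        exact absurd (Finset.mem_univ _) h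
    rw [h2] at h1
    exact hQ0 (Polynomial.leadingCoeff_eq_zero.1 h1)
  · rintro ⟨M, N, hne⟩
    obtain ⟨φ, hφ0, hφ⟩ := Submodule.exists_le_ker_of_lt_top _ (lt_top_iff_ne_top.2 hne)
    let c : Fin (N + 1) → L := fun j => φ (Pi.single j 1)
    have hφv : ∀ v : Fin (N + 1) → L, φ v = ∑ j, c j * v j := by
      intro v
      have hv : v = ∑ j, v j • (Pi.single j (1 : L) : Fin (N + 1) → L) := by
        ext k
        rw [Finset.sum_apply, Finset.sum_eq_single k]
        · rw [Pi.smul_apply, Pi.single_eq_same, smul_eq_mul, mul_one]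
        · intro j _ hj
          rw [Pi.smul_apply, Pi.single_eq_of_ne (Ne.symm hj), smul_zero]
        · intro h
          exact absurd (Finset.mem_univ _) h
      conv_lhs => rw [hv]
      rw [map_sum]
      apply Finset.sum_congr rfl
      intro j _
      rw [map_smul, smul_eq_mul, mul_comm]
    obtain ⟨j₀, hj₀⟩ : ∃ j₀, c j₀ ≠ 0 := by
      by_contra h
      push Not at h
      apply hφ0
      apply LinearMap.ext
      intro v
      rw [hφv]
      simp [h]
    let Q : Polynomial L := ∑ j : Fin (N + 1), Polynomial.monomial (N - (j : ℕ)) (c j)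
    have hQdeg : Q.natDegree ≤ N := by
      apply Polynomial.natDegree_sum_le_of_forall_le
      intro j _
      exact le_trans (Polynomial.natDegree_monomial_le _) (Nat.sub_le _ _)
    have hQc : ∀ j : Fin (N + 1), Q.coeff (N - (j : ℕ)) = c j := by
      intro j
      show (∑ j' : Fin (N + 1), Polynomial.monomial (N - (j' : ℕ)) (c j')).coeff (N - (j : ℕ)) = c j
      rw [Polynomial.finsetSum_coeff, Finset.sum_eq_single j]
      · rw [Polynomial.coeff_monomial, if_pos rfl]
      · intro j' _ hj'
        rw [Polynomial.coeff_monomial, if_neg]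
        intro h
        apply hj'
        apply Fin.ext
        have h1 := j.isLt
        have h2 := j'.isLt
        omega
      · intro h
        exact absurd (Finset.mem_univ _) h
    have hQ0 : Q ≠ 0 := fun h => hj₀ (by rw [← hQc, h, Polynomial.coeff_zero])
    refine ⟨PowerSeries.trunc (M + N) (f * Q), Q, hQ0, ?_⟩
    ext n
    rw [Polynomial.coeff_coe, PowerSeries.coeff_trunc]
    split_ifs with hn
    · rfl
    · obtain ⟨i, rfl, hi⟩ : ∃ i, n = i + N ∧ M ≤ i := ⟨n - N, by omega, by omega⟩
      rw [KL f Q N hQdeg i]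
      have hmem : (fun j : Fin (N + 1) => PowerSeries.coeff (i + (j : ℕ)) f) ∈
          Submodule.span L {v : Fin (N + 1) → L | ∃ i : ℕ, M ≤ i ∧
            v = fun j : Fin (N + 1) => PowerSeries.coeff (i + (j : ℕ)) f} :=
        Submodule.subset_span ⟨i, hi, rfl⟩
      have h0 := hφ hmem
      rw [LinearMap.mem_ker, hφv] at h0
      rw [← h0]
      apply Finset.sum_congr rfl
      intro j _
      rw [hQc]

end Groth.Agent.S13057
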