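import Groth.Statements.S13058
import Mathlib.LinearAlgebra.Dual.Lemmas
import Mathlib.RingTheory.PowerSeries.Basic

set_option autoImplicit false
universe u v
open Zeta

namespace Groth.Agent.S13058

/-- If L'/L is a field extension, a power series f ∈ L⟦t⟧ belongs to L(t) exactly when it belongs to
L'(t); here membership in L(t) means f · Q = P for polynomials P, Q over the field in question with
Q ≠ 0. -/
theorem result {L : Type u} {L' : Type v} [Field L] [Field L']
    [Algebra L L'] (f : PowerSeries L) :
    (∃ P Q : Polynomial L', Q ≠ 0 ∧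
        PowerSeries.map (algebraMap L L') f * (Q : PowerSeries L') = (P : PowerSeries L')) ↔
      ∃ P Q : Polynomial L, Q ≠ 0 ∧ f * (Q : PowerSeries L) = (P : PowerSeries L) := by
  classical
  constructor
  · rintro ⟨P, Q, hQ, hPQ⟩
    -- a functional not vanishing on some coefficient of Q
    obtain ⟨n₀, hn₀⟩ : ∃ n, Q.coeff n ≠ 0 := by
      by_contra hcon
      push Not at hcon
      exact hQ (Polynomial.ext fun n => by rw [hcon n, Polynomial.coeff_zero])
    obtain ⟨lam, hlam⟩ : ∃ lam : L' →ₗ[L] L, lam (Q.coeff n₀) ≠ 0 := by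
      by_contra hcon
      push Not at hcon
      exact hn₀ ((Module.forall_dual_apply_eq_zero_iff L (Q.coeff n₀)).mp hcon)
    -- the polynomial obtained by applying lam to the coefficients
    have hpoly : ∀ S : Polynomial L', ∃ T : Polynomial L, ∀ m, T.coeff m = lam (S.coeff m) := by
      intro S
      refine ⟨∑ n ∈ Finset.range (S.natDegree + 1), Polynomial.monomial n (lam (S.coeff n)), ?_⟩
      intro m
      rw [Polynomial.finsetSum_coeff]
      simp only [Polynomial.coeff_monomial]
      rw [Finset.sum_ite_eq' (Finset.range (S.natDegree + 1)) m]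
      split_ifs with hm
      · rfl
      · rw [Finset.mem_range, not_lt] at hm
        rw [Polynomial.coeff_eq_zero_of_natDegree_lt (by omega), map_zero]
    obtain ⟨Q₁, hQ₁⟩ := hpoly Q
    obtain ⟨P₁, hP₁⟩ := hpoly P
    refine ⟨P₁, Q₁, ?_, ?_⟩
    · intro h0
      apply hlam
      rw [← hQ₁ n₀, h0, Polynomial.coeff_zero]
    · ext n
      rw [PowerSeries.coeff_mul, Polynomial.coeff_coe, hP₁]
      have h1 := congrArg (PowerSeries.coeff n) hPQ
      rw [PowerSeries.coeff_mul, Polynomial.coeff_coe] at h1
      rw [← h1, map_sum]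
      refine Finset.sum_congr rfl fun p _ => ?_
      rw [Polynomial.coeff_coe, Polynomial.coeff_coe, hQ₁, PowerSeries.coeff_map,
        ← Algebra.smul_def, map_smul, smul_eq_mul]
  · rintro ⟨P, Q, hQ, hPQ⟩
    refine ⟨P.map (algebraMap L L'), Q.map (algebraMap L L'), ?_, ?_⟩
    · rwa [Ne, Polynomial.map_eq_zero_iff (algebraMap L L').injective]
    · rw [Polynomial.polynomial_map_coe, Polynomial.polynomial_map_coe, ← map_mul, hPQ]

end Groth.Agent.S13058
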