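import Groth.Statements.S13059
import Mathlib
-- import your own Groth.Agent.* helpers here

set_option autoImplicit false
universe u
open Zeta

namespace Groth.Agent.S13059

open Polynomial Matrix in
theorem key {n : Type*} [Fintype n] [DecidableEq n] (K : Type u) [Field K]
    (F G : Matrix n n K) (c : K) (hc : c ≠ 0)
    (h : Fᵀ * G = c • (1 : Matrix n n K)) :
    F.det • G.charpoly.reverse =
      ((-1) ^ Fintype.card n * c ^ Fintype.card n) • (c⁻¹ • F).charpoly := by
  rw [Matrix.reverse_charpoly, Matrix.charpolyRev, Matrix.charpoly, Matrix.charmatrix,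
    Polynomial.smul_eq_C_mul, Polynomial.smul_eq_C_mul]
  have h1 : (C F.det : K[X]) = ((C : K →+* K[X]).mapMatrix F)ᵀ.det := by
    rw [Matrix.det_transpose, ← RingHom.map_det]
  have h2 : ((C : K →+* K[X]).mapMatrix F)ᵀ * (G.map (C : K →+* K[X])) =
      (C c : K[X]) • (1 : Matrix n n K[X]) := by
    have h3 := congrArg (C : K →+* K[X]).mapMatrix h
    rw [map_mul] at h3
    rw [RingHom.mapMatrix_apply, RingHom.mapMatrix_apply, RingHom.mapMatrix_apply] at h3
    rw [RingHom.mapMatrix_apply, ← Matrix.transpose_map, h3]
    ext i j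
    by_cases hij : i = j
    · subst hij; simp
    · simp [hij]
  have h4 : (C ((-1) ^ Fintype.card n * c ^ Fintype.card n) : K[X]) =
      (-(C c : K[X])) ^ Fintype.card n := by
    rw [neg_pow (C c), map_mul, map_pow, map_pow, map_neg, map_one]
  rw [h1, ← Matrix.det_mul, h4, ← Matrix.det_smul, ← Matrix.det_transpose]
  congr 1
  rw [Matrix.mul_sub, Matrix.mul_one, Matrix.mul_smul, h2]
  have hcc : (C c : K[X]) * C c⁻¹ = 1 := by rw [← C_mul, mul_inv_cancel₀ hc, C_1]
  apply Matrix.ext
  intro i j
  by_cases hij : i = j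
  · subst hij
    simp only [Matrix.sub_apply, Matrix.transpose_apply, RingHom.mapMatrix_apply, Matrix.map_apply,
      Matrix.smul_apply, Matrix.one_apply_eq, Matrix.scalar_apply, Matrix.diagonal_apply_eq,
      smul_eq_mul]
    rw [map_mul]
    linear_combination (-(C (F i i))) * hcc
  · have hji : j ≠ i := fun h => hij h.symm
    simp only [Matrix.sub_apply, Matrix.transpose_apply, RingHom.mapMatrix_apply, Matrix.map_apply,
      Matrix.smul_apply, Matrix.one_apply_ne hji, Matrix.scalar_apply,
      Matrix.diagonal_apply_ne _ hij, smul_eq_mul]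
    rw [map_mul]
    linear_combination (-(C (F i j))) * hcc

/-- Let B : V × W → K be a perfect pairing of finite-dimensional vector spaces over a field K, c ∈ K
nonzero, and f, g endomorphisms of V, W with B(f v, g w) = c · B(v, w) for all v, w. Then det(Id − t
g) = (−1)^r c^r t^r det(f)^{−1} det(Id − c^{−1} t^{−1} f) with r the common dimension; stated
cleared of denominators as det(f) · det(Id − t g) = (−1)^r c^r · det(t Id − c^{−1} f) in K[t],
det(Id − t g) being the reverse of the characteristic polynomial of g. -/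
theorem result (K : Type u) [Field K] (V W : Type u)
    [AddCommGroup V] [Module K V] [FiniteDimensional K V] [AddCommGroup W] [Module K W]
    [FiniteDimensional K W] (B : V →ₗ[K] W →ₗ[K] K) [B.IsPerfPair] (f : V →ₗ[K] V) (g : W →ₗ[K] W)
    (c : K) (hc : c ≠ 0) (hfg : ∀ (v : V) (w : W), B (f v) (g w) = c * B v w) :
    LinearMap.det f • (LinearMap.charpoly g).reverse =
      ((-1) ^ Module.finrank K W * c ^ Module.finrank K W) • (c⁻¹ • f).charpoly := by
  classical
  obtain ⟨r, hr⟩ : ∃ r, r = Module.finrank K W := ⟨_, rfl⟩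
  let bW : Module.Basis (Fin (Module.finrank K W)) K W := Module.finBasis K W
  let bV : Module.Basis (Fin (Module.finrank K W)) K V := bW.dualBasis.map B.toPerfPair.symm
  have hB : ∀ i j, B (bV i) (bW j) = if i = j then 1 else 0 := by
    intro i j
    have h1 : B (bV i) = bW.dualBasis i := by
      show B (bW.dualBasis.map B.toPerfPair.symm i) = _
      rw [Module.Basis.map_apply, ← LinearMap.toLinearMap_toPerfPair, LinearEquiv.apply_symm_apply]
    rw [h1, Module.Basis.dualBasis_apply_self]
    by_cases hij : i = j
    · subst hij; simp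
    · have hji : ¬ j = i := fun h => hij h.symm
      simp [hij, hji]
  have hMB : LinearMap.toMatrix₂ bV bW B = 1 := by
    ext i j
    rw [LinearMap.toMatrix₂_apply, hB, Matrix.one_apply]
  have hcomp : B.compl₁₂ f g = c • B := by
    ext v w
    simp [hfg]
  have hFG : Matrix.transpose (LinearMap.toMatrix bV bV f) * LinearMap.toMatrix bW bW g =
      c • (1 : Matrix _ _ K) := by
    have h := congrArg (LinearMap.toMatrix₂ bV bW) hcomp
    rw [LinearMap.toMatrix₂_compl₁₂ bV bW, map_smul, hMB, Matrix.mul_one] at h
    exact h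
  have hk := key K (LinearMap.toMatrix bV bV f) (LinearMap.toMatrix bW bW g) c hc hFG
  rw [LinearMap.det_toMatrix, LinearMap.charpoly_toMatrix, Fintype.card_fin, ← map_smul,
    LinearMap.charpoly_toMatrix] at hk
  exact hk

end Groth.Agent.S13059
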