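import Groth.Statements.S1306

set_option autoImplicit false
universe u
open FlatMor

namespace Groth.Agent.S1306

open AlgebraicGeometry CategoryTheory Limits in
theorem quasiSeparated_of_comp_thickening {X X' S' : Scheme.{u}} (iX : X ⟶ X') (f' : X' ⟶ S')
    [IsClosedImmersion iX] [Surjective iX] [QuasiSeparated (iX ≫ f')] : QuasiSeparated f' := by
  rw [HasAffineProperty.iff_of_iSup_eq_top (P := @QuasiSeparated) (fun U : S'.affineOpens => U)
    (iSup_affineOpens_eq_top S')]
  intro U
  show QuasiSeparatedSpace ↥(f' ⁻¹ᵁ U.1)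
  refine (isQuasiSeparated_iff_quasiSeparatedSpace _ (f' ⁻¹ᵁ U.1).2).mp ?_
  have h1 : IsQuasiSeparated ((iX ≫ f') ⁻¹ᵁ U.1 : Set X) :=
    Scheme.Hom.isQuasiSeparated_preimage (iX ≫ f') U.2.isQuasiSeparated
  have h2 := h1.image_of_isEmbedding iX.isClosedEmbedding.isEmbedding
  convert h2 using 1
  ext x'
  constructor
  · intro hx'
    obtain ⟨x, rfl⟩ := iX.surjective x'
    exact ⟨x, by simpa using hx', rfl⟩
  · rintro ⟨x, hx, rfl⟩
    simpa using hx

open AlgebraicGeometry CategoryTheory Limits in
/-- For a morphism of thickenings, that is a commutative square whose horizontal maps are thickenings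
(closed immersions that are surjective on points), the morphism between the thin schemes is
quasi-separated if and only if the morphism between the thick ones is. -/
theorem result {X X' S S' : Scheme.{u}} (iX : X ⟶ X') (iS : S ⟶ S') (f : X ⟶ S) (f' : X' ⟶ S')
    (hX : MoreMor.IsThickening iX) (hS : MoreMor.IsThickening iS) (w : iX ≫ f' = f ≫ iS) :
    QuasiSeparated f ↔ QuasiSeparated f' := by
  obtain ⟨hXc, hXs⟩ := hX
  obtain ⟨hSc, hSs⟩ := hS
  constructor
  · intro hf
    have : QuasiSeparated (iX ≫ f') := by rw [w]; infer_instance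
    exact quasiSeparated_of_comp_thickening iX f'
  · intro hf'
    have h : QuasiSeparated (f ≫ iS) := by rw [← w]; infer_instance
    exact QuasiSeparated.of_comp f iS

end Groth.Agent.S1306
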