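import Groth.Statements.S13060
import Mathlib.LinearAlgebra.TensorProduct.Basis
import Mathlib.LinearAlgebra.Basis.VectorSpace

set_option autoImplicit false
universe u v w x
open TensorProduct
open Zeta

namespace Groth.Agent.S13060

/-- Let k be a field, V and W vector spaces over k and G a group acting on V by k-linear automorphisms;
for the induced action on V ⊗_k W (trivial on W) one has (V ⊗_k W)^G = V^G ⊗_k W, i.e. the
invariants of V ⊗ W are the image of V^G ⊗ W → V ⊗ W. -/
theorem result {k : Type u} [Field k] {G : Type v} [Group G]
    {V : Type w} {W : Type x} [AddCommGroup V] [Module k V] [AddCommGroup W] [Module k W]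
    (ρ : Representation k G V) :
    (ρ.tprod (Representation.trivial k G W)).invariants =
      LinearMap.range (TensorProduct.map ρ.invariants.subtype (LinearMap.id : W →ₗ[k] W)) := by
  classical
  apply le_antisymm
  · intro x hx
    rw [Representation.mem_invariants] at hx
    let b := Module.Basis.ofVectorSpace k W
    let e := TensorProduct.equivFinsuppOfBasisRight (M := V) b
    have hmap : ∀ (g : G) (y : TensorProduct k V W),
        e ((ρ.tprod (Representation.trivial k G W)) g y) =
          (e y).mapRange (ρ g) (map_zero _) := by
      intro g y
      induction y using TensorProduct.induction_on with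
      | zero => simp
      | tmul v w =>
        rw [Representation.tprod_apply, TensorProduct.map_tmul, Representation.trivial_apply]
        ext i
        simp [e]
      | add y z hy hz =>
        rw [map_add, map_add, hy, hz, map_add]
        ext i
        simp
    have hinv : ∀ i, e x i ∈ ρ.invariants := by
      intro i
      rw [Representation.mem_invariants]
      intro g
      have h1 := hmap g x
      rw [hx g] at h1
      have h2 := DFunLike.congr_fun h1 i
      rw [Finsupp.mapRange_apply] at h2
      exact h2.symm
    have hx' : x = (e x).sum fun i m => m ⊗ₜ[k] b i := by
      rw [← TensorProduct.equivFinsuppOfBasisRight_symm_apply]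
      exact (e.symm_apply_apply x).symm
    rw [hx']
    apply Submodule.sum_mem
    intro i _
    exact ⟨(⟨e x i, hinv i⟩ : ρ.invariants) ⊗ₜ[k] b i, by simp⟩
  · rintro _ ⟨y, rfl⟩
    rw [Representation.mem_invariants]
    intro g
    induction y using TensorProduct.induction_on with
    | zero => simp
    | tmul v w =>
      rw [TensorProduct.map_tmul, Representation.tprod_apply, TensorProduct.map_tmul,
        Representation.trivial_apply]
      have h3 := (Representation.mem_invariants ρ v.1).mp v.2 g
      simp only [Submodule.subtype_apply, LinearMap.id_apply]
      rw [h3]
    | add y z hy hz => rw [map_add, map_add, hy, hz]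

end Groth.Agent.S13060
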