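import Groth.Statements.S13061
import Groth.Agent.H65.InvLift
import Mathlib.Algebra.CharP.Basic
import Mathlib.Algebra.CharP.Lemmas

set_option autoImplicit false
universe u v w
open Zeta

namespace Groth.Agent.S13061

/-- Let A be a commutative algebra over a field k, G a finite group acting on A by k-algebra
automorphisms and I ⊆ A an ideal preserved by G. If p^n is the largest power of p = char(k) dividing
|G| (with p^n = 1 when char(k) = 0), then for every G-invariant b ∈ A/I the power b^{p^n} lies in
the image of A^G → (A/I)^G. (The published statement takes A finitely generated over k, which the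
proof does not use.) -/
theorem result {k : Type u} [Field k]
    {A : Type v} [CommRing A] [Algebra k A] {G : Type w} [Group G] [Finite G]
    [MulSemiringAction G A] [SMulCommClass G k A] (I : Ideal A)
    (hI : ∀ (g : G) (a : A), a ∈ I → g • a ∈ I) (u : A) (hu : ∀ g : G, g • u - u ∈ I) :
    ∃ a : A, (∀ g : G, g • a = a) ∧
      Ideal.Quotient.mk I a =
        Ideal.Quotient.mk I u ^ (ringChar k ^ (Nat.card G).factorization (ringChar k)) := by
  classical
  haveI : CharP k (ringChar k) := ringChar.charP k
  have hunit : ∀ m : ℕ, (m : k) ≠ 0 → IsUnit ((m : ℕ) : A) := by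
    intro m hm
    have h1 := (IsUnit.mk0 _ hm).map (algebraMap k A)
    rwa [map_natCast] at h1
  rcases CharP.char_is_prime_or_zero k (ringChar k) with hp | hp
  · haveI : Fact (ringChar k).Prime := ⟨hp⟩
    obtain ⟨P⟩ : Nonempty (Sylow (ringChar k) G) := inferInstance
    have hcard : Nat.card P = ringChar k ^ (Nat.card G).factorization (ringChar k) :=
      Sylow.card_eq_multiplicity P
    have hidx : ¬ ringChar k ∣ (P : Subgroup G).index := Sylow.not_dvd_index P
    have hidx' : (((P : Subgroup G).index : ℕ) : k) ≠ 0 := by
      rwa [Ne, CharP.cast_eq_zero_iff k (ringChar k)]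
    obtain ⟨a, ha, ha'⟩ := Groth.Agent.H65.exists_invariant_lift (P : Subgroup G)
      (hunit _ hidx') I u hu
    refine ⟨a, ha, ?_⟩
    rw [hcard] at ha'
    rw [← map_pow]
    exact Ideal.Quotient.eq.mpr ha'
  · have hidx' : (((⊥ : Subgroup G).index : ℕ) : k) ≠ 0 := by
      rw [Ne, CharP.cast_eq_zero_iff k (ringChar k), hp, zero_dvd_iff, Subgroup.index_bot]
      exact Nat.card_pos.ne'
    obtain ⟨a, ha, ha'⟩ := Groth.Agent.H65.exists_invariant_lift (⊥ : Subgroup G)
      (hunit _ hidx') I u hu
    refine ⟨a, ha, ?_⟩
    rw [Subgroup.card_bot, pow_one] at ha'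
    rw [hp]
    have h0 : (Nat.card G).factorization 0 = 0 :=
      Nat.factorization_eq_zero_of_not_prime _ Nat.not_prime_zero
    rw [h0, pow_zero, pow_one]
    exact Ideal.Quotient.eq.mpr ha'

end Groth.Agent.S13061
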