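import Groth.Statements.S13065
import Mathlib.FieldTheory.ChevalleyWarning
import Mathlib.FieldTheory.Finite.Basic
import Mathlib.Tactic.Ring

set_option autoImplicit false
universe u
open Zeta

namespace Groth.Agent.S13065

/-- Let k be a finite field with q elements and characteristic p, n ≥ 2, and f ∈ k[x_0, …, x_n]
homogeneous of degree n + 1, defining the hypersurface Z ⊂ P^n_k. Then #Z(F_q) ≢ 1 (mod p) if and
only if the coefficient of (x_0 ⋯ x_n)^{q−1} in f^{q−1} is nonzero. Stated through the affine count:
#Z(F_q) ≡ 1 (mod p) exactly when p divides the number of zeros of f in k^{n+1} (as (q − 1) #Z(F_q) +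
1 is that number). -/
theorem result {k : Type u} [Field k] [Finite k] (p : ℕ)
    [CharP k p] (n : ℕ) (hn : 2 ≤ n) (f : MvPolynomial (Fin (n + 1)) k)
    (hf : f.IsHomogeneous (n + 1)) :
    p ∣ Nat.card {a : Fin (n + 1) → k // MvPolynomial.eval a f = 0} ↔
      MvPolynomial.coeff (Finsupp.equivFunOnFinite.symm fun _ : Fin (n + 1) => Nat.card k - 1)
        (f ^ (Nat.card k - 1)) = 0 := by
  classical
  haveI : Fintype k := Fintype.ofFinite k
  have hqk : Nat.card k = Fintype.card k := Nat.card_eq_fintype_card
  rw [hqk]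
  set q := Fintype.card k with hq
  have hq2 : 2 ≤ q := Fintype.one_lt_card
  have hqz : (q : k) = 0 := FiniteField.cast_card_eq_zero k
  set g := f ^ (q - 1) with hg
  set d₀ : Fin (n + 1) →₀ ℕ := Finsupp.equivFunOnFinite.symm fun _ => q - 1 with hd₀
  have hind : ∀ y : k, 1 - y ^ (q - 1) = if y = 0 then 1 else 0 := by
    intro y
    split_ifs with h
    · rw [h, zero_pow (by omega), sub_zero]
    · rw [FiniteField.pow_card_sub_one_eq_one y h, sub_self]
  have hpow : ∑ a : k, a ^ (q - 1) = -1 := by
    have h1 : ∀ a : k, a ^ (q - 1) = 1 - if a = 0 then 1 else 0 := by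
      intro a
      rw [← hind a]
      ring
    have h2 : ∑ a : k, (if a = 0 then (1 : k) else 0) = 1 := by simp
    simp only [h1]
    rw [Finset.sum_sub_distrib, Finset.sum_const, Finset.card_univ, nsmul_eq_mul, mul_one, hqz, h2,
      zero_sub]
  have hmono : ∀ d : Fin (n + 1) →₀ ℕ,
      ∑ x : Fin (n + 1) → k, ∏ i, x i ^ d i = ∏ i, ∑ a : k, a ^ d i := by
    intro d
    rw [Finset.prod_univ_sum, Fintype.piFinset_univ]
  have hsum : ∑ x : Fin (n + 1) → k, MvPolynomial.eval x g
      = (-1) ^ (n + 1) * MvPolynomial.coeff d₀ g := by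
    simp only [MvPolynomial.eval_eq']
    rw [Finset.sum_comm]
    simp only [← Finset.mul_sum, hmono]
    rw [Finset.sum_eq_single d₀]
    · have h3 : ∀ i, d₀ i = q - 1 := fun i => rfl
      simp only [h3, hpow, Finset.prod_const, Finset.card_univ, Fintype.card_fin]
      ring
    · intro d hd hne
      have hdeg : d.degree = (n + 1) * (q - 1) := by
        by_contra h
        exact (MvPolynomial.mem_support_iff.mp hd) ((hf.pow (q - 1)).coeff_eq_zero h)
      obtain ⟨i, hi⟩ : ∃ i, d i < q - 1 := by
        by_contra hcon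
        simp only [not_exists, not_lt] at hcon
        apply hne
        have hsum' : ∑ j, d j = (n + 1) * (q - 1) := by
          rw [← Finsupp.degree_eq_sum]
          exact hdeg
        have hle : ∀ j ∈ (Finset.univ : Finset (Fin (n + 1))), (fun _ => q - 1) j ≤ d j :=
          fun j _ => hcon j
        have h4 := (Finset.sum_eq_sum_iff_of_le hle).mp (by
          rw [hsum', Finset.sum_const, Finset.card_univ, Fintype.card_fin, smul_eq_mul])
        ext j
        exact (h4 j (Finset.mem_univ j)).symm
      rw [Finset.prod_eq_zero (Finset.mem_univ i) (FiniteField.sum_pow_lt_card_sub_one k _ hi),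
        mul_zero]
    · intro hnot
      rw [MvPolynomial.notMem_support_iff.mp hnot, zero_mul]
  have hN : ((Nat.card {a : Fin (n + 1) → k // MvPolynomial.eval a f = 0} : ℕ) : k)
      = ∑ a : Fin (n + 1) → k, (1 - (MvPolynomial.eval a f) ^ (q - 1)) := by
    simp only [hind]
    rw [Nat.card_eq_fintype_card, Fintype.card_subtype, Finset.sum_boole]
  have hcard : ((Fintype.card (Fin (n + 1) → k) : ℕ) : k) = 0 := by
    rw [Fintype.card_fun, Fintype.card_fin, Nat.cast_pow, hqz, zero_pow (by omega)]
  have hN2 : ((Nat.card {a : Fin (n + 1) → k // MvPolynomial.eval a f = 0} : ℕ) : k)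
      = - ((-1) ^ (n + 1) * MvPolynomial.coeff d₀ g) := by
    rw [hN, Finset.sum_sub_distrib, Finset.sum_const, Finset.card_univ, nsmul_eq_mul, mul_one,
      hcard, zero_sub]
    congr 1
    rw [← hsum]
    refine Finset.sum_congr rfl fun a _ => ?_
    rw [hg, map_pow]
  rw [← CharP.cast_eq_zero_iff k p, hN2, neg_eq_zero, mul_eq_zero]
  constructor
  · rintro (h | h)
    · exact absurd h (pow_ne_zero _ (neg_ne_zero.mpr one_ne_zero))
    · exact h
  · intro h
    exact Or.inr h

end Groth.Agent.S13065
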