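import Groth.Statements.S13066
import Mathlib.FieldTheory.Finite.Basic
import Mathlib.RingTheory.MvPolynomial.Expand
import Mathlib.Algebra.MvPolynomial.Expand
import Mathlib.Tactic.Ring

set_option autoImplicit false
universe u
open Zeta

namespace Groth.Agent.S13066

/-- Let k be a finite field with q elements and characteristic p, n ≥ 2, and f ∈ k[x_0, …, x_n]
homogeneous of degree n + 1. Then the coefficient of (x_0 ⋯ x_n)^{q−1} in f^{q−1} is nonzero if and
only if the coefficient of (x_0 ⋯ x_n)^{p−1} in f^{p−1} is nonzero. -/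
theorem result {k : Type u} [Field k] [Finite k]
    (p : ℕ) [CharP k p] (n : ℕ) (hn : 2 ≤ n) (f : MvPolynomial (Fin (n + 1)) k)
    (hf : f.IsHomogeneous (n + 1)) :
    MvPolynomial.coeff (Finsupp.equivFunOnFinite.symm fun _ : Fin (n + 1) => Nat.card k - 1)
        (f ^ (Nat.card k - 1)) ≠ 0 ↔
      MvPolynomial.coeff (Finsupp.equivFunOnFinite.symm fun _ : Fin (n + 1) => p - 1)
        (f ^ (p - 1)) ≠ 0 := by
  classical
  have : Fintype k := Fintype.ofFinite k
  have hqk : Nat.card k = Fintype.card k := Nat.card_eq_fintype_card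
  rw [hqk]
  obtain ⟨e, hpp, hqe⟩ := FiniteField.card k p
  have : Fact p.Prime := ⟨hpp⟩
  have hp1 : 1 ≤ p := hpp.one_lt.le
  let cst : ℕ → (Fin (n + 1) →₀ ℕ) := fun N => Finsupp.equivFunOnFinite.symm fun _ => N
  have hcst : ∀ N i, cst N i = N := fun N i => rfl
  have step : ∀ (g h : MvPolynomial (Fin (n + 1)) k) (N : ℕ),
      g.IsHomogeneous ((n + 1) * (p - 1)) →
      MvPolynomial.coeff (cst (p - 1 + p * N)) (g * h ^ p) =
        MvPolynomial.coeff (cst (p - 1)) g * (MvPolynomial.coeff (cst N) h) ^ p := by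
    intro g h N hg
    have hcoef : ∀ b : Fin (n + 1) →₀ ℕ, MvPolynomial.coeff b (h ^ p) =
        (MvPolynomial.coeff b (MvPolynomial.expand p h)) ^ p := by
      intro b
      rw [← MvPolynomial.map_frobenius_expand p, MvPolynomial.coeff_map, frobenius_def]
    rw [MvPolynomial.coeff_mul, Finset.sum_eq_single (cst (p - 1), cst (p * N))]
    · rw [hcoef]
      have h5 : cst (p * N) = p • cst N := by
        ext i
        simp [hcst]
      rw [h5, MvPolynomial.coeff_expand_smul p hpp.ne_zero]
    · rintro ⟨a, b⟩ hab hne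
      rw [Finset.mem_antidiagonal] at hab
      dsimp only at hab ⊢
      by_contra hcon
      have hga : MvPolynomial.coeff a g ≠ 0 := left_ne_zero_of_mul hcon
      have hhb : MvPolynomial.coeff b (h ^ p) ≠ 0 := right_ne_zero_of_mul hcon
      have hdvd : ∀ i, p ∣ b i := by
        intro i
        by_contra hnd
        apply hhb
        rw [hcoef, MvPolynomial.coeff_expand_of_not_dvd h hnd, zero_pow hpp.ne_zero]
      have hab' : ∀ i, a i + b i = p - 1 + p * N := by
        intro i
        have h6 := DFunLike.congr_fun hab i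
        simpa [hcst] using h6
      have hdeg : a.degree = (n + 1) * (p - 1) := by
        by_contra hd
        exact hga (hg.coeff_eq_zero hd)
      have hge : ∀ i, p - 1 ≤ a i := by
        intro i
        obtain ⟨t, ht⟩ := hdvd i
        have h1 := hab' i
        rw [ht] at h1
        by_contra hlt
        rw [not_le] at hlt
        have h7 : (a i + p * t) % p = (p - 1 + p * N) % p := by rw [h1]
        rw [Nat.add_mul_mod_self_left, Nat.add_mul_mod_self_left,
          Nat.mod_eq_of_lt (show a i < p by omega), Nat.mod_eq_of_lt (show p - 1 < p by omega)] at h7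
        omega
      have hsum' : ∑ j, a j = (n + 1) * (p - 1) := by
        rw [← Finsupp.degree_eq_sum]
        exact hdeg
      have hle : ∀ j ∈ (Finset.univ : Finset (Fin (n + 1))), (fun _ => p - 1) j ≤ a j :=
        fun j _ => hge j
      have h4 := (Finset.sum_eq_sum_iff_of_le hle).mp (by
        rw [hsum', Finset.sum_const, Finset.card_univ, Fintype.card_fin, smul_eq_mul])
      have ha : a = cst (p - 1) := by
        ext j
        exact (h4 j (Finset.mem_univ j)).symm
      have hb : b = cst (p * N) := by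
        ext j
        have h8 := hab' j
        rw [ha, hcst] at h8
        rw [hcst]
        omega
      exact hne (by rw [ha, hb])
    · intro hnot
      exfalso
      apply hnot
      rw [Finset.mem_antidiagonal]
      ext i
      simp [hcst]
  have hf1 : (f ^ (p - 1)).IsHomogeneous ((n + 1) * (p - 1)) := hf.pow (p - 1)
  have hrec : ∀ m : ℕ, MvPolynomial.coeff (cst (p ^ (m + 1) - 1)) (f ^ (p ^ (m + 1) - 1)) =
      MvPolynomial.coeff (cst (p - 1)) (f ^ (p - 1)) *
        (MvPolynomial.coeff (cst (p ^ m - 1)) (f ^ (p ^ m - 1))) ^ p := by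
    intro m
    have h1 : p ^ (m + 1) - 1 = p - 1 + p * (p ^ m - 1) := by
      have h9 : 1 ≤ p ^ m := Nat.one_le_pow _ _ (by omega)
      obtain ⟨P', hP'⟩ := Nat.exists_eq_add_of_le' h9
      obtain ⟨p', hp'⟩ := Nat.exists_eq_add_of_le' hp1
      rw [pow_succ, hP', hp']
      simp only [Nat.add_sub_cancel]
      apply Nat.sub_eq_of_eq_add
      ring
    rw [h1, pow_add, pow_mul', step _ _ _ hf1]
  have hmain : ∀ m : ℕ, MvPolynomial.coeff (cst (p ^ (m + 1) - 1)) (f ^ (p ^ (m + 1) - 1)) ≠ 0 ↔
      MvPolynomial.coeff (cst (p - 1)) (f ^ (p - 1)) ≠ 0 := by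
    intro m
    induction m with
    | zero =>
      have h0 : MvPolynomial.coeff (cst (p ^ 0 - 1)) (f ^ (p ^ 0 - 1)) = 1 := by
        have h10 : cst (p ^ 0 - 1) = 0 := by
          ext i
          simp [hcst]
        rw [h10, pow_zero, Nat.sub_self, pow_zero, MvPolynomial.coeff_zero_one]
      rw [hrec 0, h0, one_pow, mul_one]
    | succ m ih =>
      rw [hrec (m + 1)]
      constructor
      · intro h
        exact left_ne_zero_of_mul h
      · intro h
        exact mul_ne_zero h (pow_ne_zero _ (ih.mpr h))
  obtain ⟨m, hm⟩ : ∃ m, (e : ℕ) = m + 1 := Nat.exists_eq_succ_of_ne_zero e.ne_zero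
  rw [hqe, hm]
  exact hmain m

end Groth.Agent.S13066
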