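import Groth.Statements.S13075
import Mathlib.RingTheory.PowerSeries.Log

set_option autoImplicit false
open Zeta

namespace Groth.Agent.S13075

/-- For the formal power series exp(t) = ∑_{m ≥ 0} t^m / m! and log(1 + t) = ∑_{m ≥ 1} (−1)^{m+1} t^m /
m over ℚ, log(exp(u)) = u and exp(log(1 + u)) = 1 + u for every u ∈ tℚ⟦t⟧; stated for u = t (the
general case is obtained by substitution): substituting exp(t) − 1 into log(1 + ·) gives t, and
substituting log(1 + t) into exp gives 1 + t. -/
theorem result :
    PowerSeries.subst (PowerSeries.exp ℚ - 1)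
        (PowerSeries.mk fun m : ℕ => if m = 0 then (0 : ℚ) else (-1) ^ (m + 1) / (m : ℚ)) =
      PowerSeries.X ∧
    PowerSeries.subst (PowerSeries.mk fun m : ℕ => if m = 0 then (0 : ℚ) else (-1) ^ (m + 1) / (m : ℚ))
        (PowerSeries.exp ℚ) = 1 + PowerSeries.X := by
  have hlog : (PowerSeries.mk fun m : ℕ => if m = 0 then (0 : ℚ) else (-1) ^ (m + 1) / (m : ℚ)) =
      PowerSeries.log ℚ := by
    ext n; simp [PowerSeries.coeff_log]
  rw [hlog]
  have hdlog : PowerSeries.derivative ℚ (PowerSeries.log ℚ) =
      PowerSeries.mk fun n => (-1 : ℚ) ^ n := by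
    rw [PowerSeries.deriv_log]; ext n; simp
  have hinv : (1 + PowerSeries.X) * (PowerSeries.mk fun n => (-1 : ℚ) ^ n) = 1 := by
    ext n
    rw [add_mul, one_mul, map_add]
    cases n with
    | zero => simp
    | succ n => simp [PowerSeries.coeff_succ_X_mul, pow_succ]
  have hinv' : (PowerSeries.mk fun n => (-1 : ℚ) ^ n) * (1 + PowerSeries.X) = 1 := by
    rw [mul_comm]; exact hinv
  have hsub1 : PowerSeries.HasSubst (PowerSeries.exp ℚ - 1) := PowerSeries.HasSubst.exp_sub_one
  have hsub2 : PowerSeries.HasSubst (PowerSeries.log ℚ) := PowerSeries.HasSubst.log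
  constructor
  · apply PowerSeries.derivative.ext
    · rw [PowerSeries.derivative_subst hsub1, hdlog, PowerSeries.derivative_X, map_sub,
        PowerSeries.derivative_exp, PowerSeries.derivative_one, sub_zero]
      have h1 := congrArg (PowerSeries.subst (PowerSeries.exp ℚ - 1)) hinv'
      rw [PowerSeries.subst_mul hsub1, PowerSeries.subst_add hsub1, PowerSeries.subst_X hsub1,
        ← PowerSeries.coe_substAlgHom hsub1, map_one] at h1
      rw [← PowerSeries.coe_substAlgHom hsub1]
      rw [show (1 : PowerSeries ℚ) + (PowerSeries.exp ℚ - 1) = PowerSeries.exp ℚ by ring] at h1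
      exact h1
    · rw [PowerSeries.constantCoeff_X]
      exact PowerSeries.constantCoeff_subst_eq_zero (by
        rw [map_sub, map_one, ← PowerSeries.constantCoeff_eq, PowerSeries.constantCoeff_exp,
          sub_self]) _ PowerSeries.constantCoeff_log
  · have hdE : PowerSeries.derivative ℚ (PowerSeries.subst (PowerSeries.log ℚ) (PowerSeries.exp ℚ)) =
        PowerSeries.subst (PowerSeries.log ℚ) (PowerSeries.exp ℚ) *
          (PowerSeries.mk fun n => (-1 : ℚ) ^ n) := by
      rw [PowerSeries.derivative_subst hsub2, PowerSeries.derivative_exp, hdlog]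
    have hdg : PowerSeries.derivative ℚ (PowerSeries.mk fun n => (-1 : ℚ) ^ n) =
        -(PowerSeries.mk fun n => (-1 : ℚ) ^ n) ^ 2 := by
      have h2 := PowerSeries.derivative_inv
        (⟨1 + PowerSeries.X, PowerSeries.mk fun n => (-1 : ℚ) ^ n, hinv, hinv'⟩ : (PowerSeries ℚ)ˣ)
      simpa using h2
    have hcE : PowerSeries.constantCoeff
        (PowerSeries.subst (PowerSeries.log ℚ) (PowerSeries.exp ℚ)) = 1 := by
      have h3 : PowerSeries.exp ℚ = (PowerSeries.exp ℚ - 1) + 1 := by ring
      rw [h3, PowerSeries.subst_add hsub2, map_add, ← PowerSeries.coe_substAlgHom hsub2, map_one,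
        map_one]
      have h4 := PowerSeries.constantCoeff_subst_eq_zero (a := PowerSeries.log ℚ)
        PowerSeries.constantCoeff_log (PowerSeries.exp ℚ - 1)
        (by rw [map_sub, map_one, PowerSeries.constantCoeff_exp, sub_self])
      rw [PowerSeries.coe_substAlgHom hsub2]
      rw [PowerSeries.constantCoeff_eq, h4, zero_add]
    have hG : PowerSeries.subst (PowerSeries.log ℚ) (PowerSeries.exp ℚ) *
        (PowerSeries.mk fun n => (-1 : ℚ) ^ n) = 1 := by
      apply PowerSeries.derivative.ext
      · rw [Derivation.leibniz, hdE, hdg, PowerSeries.derivative_one]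
        simp only [smul_eq_mul]; ring
      · rw [map_mul, map_one, hcE, one_mul, ← PowerSeries.coeff_zero_eq_constantCoeff_apply,
          PowerSeries.coeff_mk, pow_zero]
    calc PowerSeries.subst (PowerSeries.log ℚ) (PowerSeries.exp ℚ)
        = PowerSeries.subst (PowerSeries.log ℚ) (PowerSeries.exp ℚ) *
          ((PowerSeries.mk fun n => (-1 : ℚ) ^ n) * (1 + PowerSeries.X)) := by rw [hinv', mul_one]
      _ = (PowerSeries.subst (PowerSeries.log ℚ) (PowerSeries.exp ℚ) *
          (PowerSeries.mk fun n => (-1 : ℚ) ^ n)) * (1 + PowerSeries.X) := by ring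
      _ = 1 + PowerSeries.X := by rw [hG, one_mul]

end Groth.Agent.S13075
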