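import Groth.Statements.S13079
import Groth.Agent.H19.QuotBC

set_option autoImplicit false
universe u
open CategoryTheory AlgebraicGeometry Limits
open Zeta

namespace Groth.Agent.S13079
open Groth.Agent.H69.QuotBasis

section Helpers

theorem appLE_equivariant {X X₁ : Scheme.{u}} (p₁ : X ⟶ X₁) (a : X ⟶ X) (b : X₁ ⟶ X₁)
    (hab : a ≫ p₁ = p₁ ≫ b) (V : X₁.Opens)
    (e₁ : p₁ ⁻¹ᵁ V ≤ a ⁻¹ᵁ (p₁ ⁻¹ᵁ V)) (e₂ : V ≤ b ⁻¹ᵁ V) (s : Γ(X₁, V)) :
    (a.appLE (p₁ ⁻¹ᵁ V) (p₁ ⁻¹ᵁ V) e₁).hom ((p₁.app V).hom s) =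
      (p₁.app V).hom ((b.appLE V V e₂).hom s) := by
  have h1 : p₁.app V ≫ a.appLE (p₁ ⁻¹ᵁ V) (p₁ ⁻¹ᵁ V) e₁ =
      (a ≫ p₁).appLE V (p₁ ⁻¹ᵁ V) e₁ := by
    rw [Scheme.Hom.app_eq_appLE, Scheme.Hom.appLE_comp_appLE]
  have h2 : b.appLE V V e₂ ≫ p₁.app V =
      (p₁ ≫ b).appLE V (p₁ ⁻¹ᵁ V) (p₁.preimage_mono e₂) := by
    rw [Scheme.Hom.app_eq_appLE, Scheme.Hom.appLE_comp_appLE]
  have h3 : (p₁ ≫ b).appLE V (p₁ ⁻¹ᵁ V) (p₁.preimage_mono e₂) =
      (a ≫ p₁).appLE V (p₁ ⁻¹ᵁ V) e₁ :=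
    appLE_congr _ _ hab.symm _ _ _ _
  exact congr($(h1.trans (h3.symm.trans h2.symm)) s)

/-- Quotients in stages: a `G`-quotient followed by an `H`-quotient (for the induced action)
is a `G × H`-quotient. -/
theorem tower {X X₁ X₂ : Scheme.{u}} {G H : Type u} [Group G] [Group H]
    (θ : G × H →* Aut X) (p₁ : X ⟶ X₁)
    (h₁ : SGA1.IsQuot (θ.comp (MonoidHom.inl G H)) p₁)
    (τ : H →* Aut X₁) (p₂ : X₁ ⟶ X₂) (h₂ : SGA1.IsQuot τ p₂)
    (heq : ∀ h : H, (θ (1, h)).hom ≫ p₁ = p₁ ≫ (τ h).hom) :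
    SGA1.IsQuot θ (p₁ ≫ p₂) := by
  haveI : IsAffineHom p₁ := h₁.affine
  haveI : IsAffineHom p₂ := h₂.affine
  haveI : IsAffineHom (p₁ ≫ p₂) := inferInstance
  have hG : ∀ g : G, (θ (g, 1)).hom ≫ p₁ = p₁ := fun g => h₁.inv g
  have hinv : ∀ gh : G × H, (θ gh).hom ≫ (p₁ ≫ p₂) = p₁ ≫ p₂ := by
    rintro ⟨g, h⟩
    have e : ((g, h) : G × H) = (g, 1) * (1, h) := by simp
    have e' : (θ (g, h)).hom = (θ (1, h)).hom ≫ (θ (g, 1)).hom := by
      rw [e, map_mul]; rfl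
    calc (θ (g, h)).hom ≫ (p₁ ≫ p₂)
        = (θ (1, h)).hom ≫ (((θ (g, 1)).hom ≫ p₁) ≫ p₂) := by
          rw [e', Category.assoc, Category.assoc]
      _ = ((θ (1, h)).hom ≫ p₁) ≫ p₂ := by rw [hG g, Category.assoc]
      _ = p₁ ≫ ((τ h).hom ≫ p₂) := by rw [heq h, Category.assoc]
      _ = p₁ ≫ p₂ := by rw [h₂.inv h]
  have ecomp : ∀ V : X₂.Opens, (p₁ ≫ p₂).app V = p₂.app V ≫ p₁.app (p₂ ⁻¹ᵁ V) :=
    fun V => Scheme.Hom.comp_app _ _ _
  refine isQuot_of_basis θ (p₁ ≫ p₂) hinv Set.univ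
    (fun U y hy => ⟨U, trivial, hy, le_rfl⟩) ?_ ?_
  · intro V _ s₁ s₂ hs
    have hs' : (p₁.app (p₂ ⁻¹ᵁ V)).hom ((p₂.app V).hom s₁) =
        (p₁.app (p₂ ⁻¹ᵁ V)).hom ((p₂.app V).hom s₂) := by
      have := hs
      rw [ecomp V] at this
      exact this
    exact h₂.injective V (h₁.injective (p₂ ⁻¹ᵁ V) hs')
  · intro V _ t ht
    have htG : ∀ g : G, (((θ.comp (MonoidHom.inl G H)) g).hom.appLE (p₁ ⁻¹ᵁ (p₂ ⁻¹ᵁ V))
        (p₁ ⁻¹ᵁ (p₂ ⁻¹ᵁ V))
        (SGA1.preimage_le_of_inv _ p₁ h₁.inv g (p₂ ⁻¹ᵁ V))).hom t = t := by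
      intro g
      exact ht (g, 1)
    obtain ⟨t₁, ht₁⟩ := (h₁.range_iff (p₂ ⁻¹ᵁ V) t).mpr htG
    have ht₁H : ∀ h : H, ((τ h).hom.appLE (p₂ ⁻¹ᵁ V) (p₂ ⁻¹ᵁ V)
        (SGA1.preimage_le_of_inv τ p₂ h₂.inv h V)).hom t₁ = t₁ := by
      intro h
      have key := appLE_equivariant p₁ (θ (1, h)).hom (τ h).hom (heq h) (p₂ ⁻¹ᵁ V)
        (SGA1.preimage_le_of_inv θ (p₁ ≫ p₂) hinv (1, h) V)
        (SGA1.preimage_le_of_inv τ p₂ h₂.inv h V) t₁
      refine h₁.injective (p₂ ⁻¹ᵁ V) ?_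
      rw [← key, ht₁]
      exact ht (1, h)
    obtain ⟨u, hu⟩ := (h₂.range_iff V t₁).mpr ht₁H
    refine ⟨u, ?_⟩
    rw [ecomp V]
    show (p₁.app (p₂ ⁻¹ᵁ V)).hom ((p₂.app V).hom u) = t
    rw [hu, ht₁]

variable {A Y S : Scheme.{u}} {H : Type u} [Group H] (a : A ⟶ S) (fY : Y ⟶ S)
  (σ : H →* Aut Y) (hσ : ∀ h, (σ h).hom ≫ fY = fY)

/-- The action of `H` on `A ×_S Y` through the second factor. -/
noncomputable def tauHom (h : H) : pullback a fY ⟶ pullback a fY :=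
  pullback.lift (pullback.fst a fY) (pullback.snd a fY ≫ (σ h).hom)
    (by rw [Category.assoc, hσ h, pullback.condition])

theorem tauHom_fst (h : H) :
    tauHom a fY σ hσ h ≫ pullback.fst a fY = pullback.fst a fY :=
  pullback.lift_fst _ _ _

theorem tauHom_snd (h : H) :
    tauHom a fY σ hσ h ≫ pullback.snd a fY = pullback.snd a fY ≫ (σ h).hom :=
  pullback.lift_snd _ _ _

theorem tauHom_mul (h h' : H) :
    tauHom a fY σ hσ (h * h') = tauHom a fY σ hσ h' ≫ tauHom a fY σ hσ h := by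
  apply pullback.hom_ext
  · rw [Category.assoc, tauHom_fst, tauHom_fst, tauHom_fst]
  · have e : (σ (h * h')).hom = (σ h').hom ≫ (σ h).hom := by rw [map_mul]; rfl
    calc tauHom a fY σ hσ (h * h') ≫ pullback.snd a fY
        = pullback.snd a fY ≫ (σ (h * h')).hom := tauHom_snd a fY σ hσ (h * h')
      _ = (pullback.snd a fY ≫ (σ h').hom) ≫ (σ h).hom := by rw [e, Category.assoc]
      _ = (tauHom a fY σ hσ h' ≫ pullback.snd a fY) ≫ (σ h).hom := by rw [tauHom_snd]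
      _ = tauHom a fY σ hσ h' ≫ (pullback.snd a fY ≫ (σ h).hom) := Category.assoc _ _ _
      _ = tauHom a fY σ hσ h' ≫ (tauHom a fY σ hσ h ≫ pullback.snd a fY) := by
          rw [tauHom_snd]
      _ = (tauHom a fY σ hσ h' ≫ tauHom a fY σ hσ h) ≫ pullback.snd a fY :=
          (Category.assoc _ _ _).symm

theorem tauHom_one : tauHom a fY σ hσ 1 = 𝟙 _ := by
  apply pullback.hom_ext
  · rw [tauHom_fst, Category.id_comp]
  · rw [tauHom_snd, map_one, Category.id_comp]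
    exact Category.comp_id _

/-- The action of `H` on `A ×_S Y` through the second factor, as a homomorphism. -/
noncomputable def tau : H →* Aut (pullback a fY) :=
  MonoidHom.mk' (fun h =>
    { hom := tauHom a fY σ hσ h
      inv := tauHom a fY σ hσ h⁻¹
      hom_inv_id := by rw [← tauHom_mul, inv_mul_cancel, tauHom_one]
      inv_hom_id := by rw [← tauHom_mul, mul_inv_cancel, tauHom_one] })
    (fun h h' => by
      apply Iso.ext
      exact tauHom_mul a fY σ hσ h h')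

theorem tau_hom (h : H) : (tau a fY σ hσ h).hom = tauHom a fY σ hσ h := rfl

end Helpers

/-- Suppose the finite groups G and H act by algebraic k-automorphisms on schemes X and Y of finite type
over k, both admitting quotients X → X/G and Y → Y/H (equivalently, covered by invariant affine
opens). Then X × Y has the same property for the product action of G × H and (X × Y)/(G × H) ≅ X/G ×
Y/H: the morphism X ×_k Y → X/G ×_k Y/H with components the two quotient maps is a quotient for the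
product action. The product action θ and that morphism π are pinned by their composites with the
projections. -/
theorem result {k : Type u} [Field k] {G H : Type u} [Group G] [Finite G] [Group H]
    [Finite H] {X Y XG YH : Scheme.{u}} (fX : X ⟶ Spec (CommRingCat.of k))
    (fY : Y ⟶ Spec (CommRingCat.of k)) [LocallyOfFiniteType fX] [QuasiCompact fX]
    [LocallyOfFiniteType fY] [QuasiCompact fY] (gX : XG ⟶ Spec (CommRingCat.of k))
    (gY : YH ⟶ Spec (CommRingCat.of k)) (ρ : G →* Aut X) (σ : H →* Aut Y)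
    (hρ : ∀ g, (ρ g).hom ≫ fX = fX) (hσ : ∀ h, (σ h).hom ≫ fY = fY)
    (p : X ⟶ XG) (hp : p ≫ gX = fX) (q : Y ⟶ YH) (hq : q ≫ gY = fY)
    (hP : SGA1.IsQuot ρ p) (hQ : SGA1.IsQuot σ q)
    (θ : G × H →* Aut (pullback fX fY))
    (hθ1 : ∀ gh : G × H, (θ gh).hom ≫ pullback.fst fX fY = pullback.fst fX fY ≫ (ρ gh.1).hom)
    (hθ2 : ∀ gh : G × H, (θ gh).hom ≫ pullback.snd fX fY = pullback.snd fX fY ≫ (σ gh.2).hom)
    (π : pullback fX fY ⟶ pullback gX gY) (hπ1 : π ≫ pullback.fst gX gY = pullback.fst fX fY ≫ p)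
    (hπ2 : π ≫ pullback.snd gX gY = pullback.snd fX fY ≫ q) :
    SGA1.IsQuot θ π := by
  haveI : Subsingleton ↥(Spec (CommRingCat.of k)) :=
    inferInstanceAs (Subsingleton (PrimeSpectrum k))
  haveI : Flat fY := inferInstance
  haveI : Flat gX := inferInstance
  have hσ1 : (σ 1).hom = 𝟙 Y := by rw [map_one]; rfl
  have hρ1 : (ρ 1).hom = 𝟙 X := by rw [map_one]; rfl
  have hθ1G : ∀ g : G, (θ (g, 1)).hom ≫ pullback.fst fX fY =
      pullback.fst fX fY ≫ (ρ g).hom := fun g => hθ1 (g, 1)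
  have hθ2G : ∀ g : G, (θ (g, 1)).hom ≫ pullback.snd fX fY = pullback.snd fX fY := by
    intro g
    have e : (θ (g, 1)).hom ≫ pullback.snd fX fY = pullback.snd fX fY ≫ (σ 1).hom :=
      hθ2 (g, 1)
    rw [e, hσ1, Category.comp_id]
  have hθ1H : ∀ h : H, (θ (1, h)).hom ≫ pullback.fst fX fY = pullback.fst fX fY := by
    intro h
    have e : (θ (1, h)).hom ≫ pullback.fst fX fY = pullback.fst fX fY ≫ (ρ 1).hom :=
      hθ1 (1, h)
    rw [e, hρ1, Category.comp_id]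
  have hθ2H : ∀ h : H, (θ (1, h)).hom ≫ pullback.snd fX fY =
      pullback.snd fX fY ≫ (σ h).hom := fun h => hθ2 (1, h)
  have hm₁ : (pullback.fst fX fY ≫ p) ≫ gX = pullback.snd fX fY ≫ fY := by
    rw [Category.assoc, hp, pullback.condition]
  obtain ⟨m₁, hm₁f, hm₁s⟩ : ∃ m₁ : pullback fX fY ⟶ pullback gX fY,
      m₁ ≫ pullback.fst gX fY = pullback.fst fX fY ≫ p ∧
      m₁ ≫ pullback.snd gX fY = pullback.snd fX fY :=
    ⟨pullback.lift (pullback.fst fX fY ≫ p) (pullback.snd fX fY) hm₁,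
      pullback.lift_fst _ _ _, pullback.lift_snd _ _ _⟩
  have hm₂ : pullback.fst gX fY ≫ gX = (pullback.snd gX fY ≫ q) ≫ gY := by
    rw [Category.assoc, hq, pullback.condition]
  obtain ⟨m₂, hm₂f, hm₂s⟩ : ∃ m₂ : pullback gX fY ⟶ pullback gX gY,
      m₂ ≫ pullback.fst gX gY = pullback.fst gX fY ∧
      m₂ ≫ pullback.snd gX gY = pullback.snd gX fY ≫ q :=
    ⟨pullback.lift (pullback.fst gX fY) (pullback.snd gX fY ≫ q) hm₂,
      pullback.lift_fst _ _ _, pullback.lift_snd _ _ _⟩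
  have hπ : π = m₁ ≫ m₂ := by
    apply pullback.hom_ext
    · rw [hπ1, Category.assoc, hm₂f, hm₁f]
    · rw [hπ2, Category.assoc, hm₂s, ← Category.assoc, hm₁s]
  -- step 1: `m₁` is a quotient by `G`
  have hX1 : IsPullback (pullback.fst fX fY) m₁ p (pullback.fst gX fY) := by
    have hout : IsPullback (m₁ ≫ pullback.snd gX fY) (pullback.fst fX fY) fY (p ≫ gX) := by
      rw [hm₁s, hp]
      exact (IsPullback.of_hasPullback fX fY).flip
    exact (IsPullback.of_right hout hm₁f (IsPullback.of_hasPullback gX fY).flip).flip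
  have hinv1 : ∀ g : G, (θ (g, 1)).hom ≫ m₁ = m₁ := by
    intro g
    apply pullback.hom_ext
    · calc ((θ (g, 1)).hom ≫ m₁) ≫ pullback.fst gX fY
          = (θ (g, 1)).hom ≫ (m₁ ≫ pullback.fst gX fY) := Category.assoc _ _ _
        _ = (θ (g, 1)).hom ≫ (pullback.fst fX fY ≫ p) := by rw [hm₁f]
        _ = ((θ (g, 1)).hom ≫ pullback.fst fX fY) ≫ p := (Category.assoc _ _ _).symm
        _ = (pullback.fst fX fY ≫ (ρ g).hom) ≫ p := by rw [hθ1G g]
        _ = pullback.fst fX fY ≫ ((ρ g).hom ≫ p) := Category.assoc _ _ _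
        _ = pullback.fst fX fY ≫ p := by rw [hP.inv g]
        _ = m₁ ≫ pullback.fst gX fY := hm₁f.symm
    · calc ((θ (g, 1)).hom ≫ m₁) ≫ pullback.snd gX fY
          = (θ (g, 1)).hom ≫ (m₁ ≫ pullback.snd gX fY) := Category.assoc _ _ _
        _ = (θ (g, 1)).hom ≫ pullback.snd fX fY := by rw [hm₁s]
        _ = pullback.snd fX fY := hθ2G g
        _ = m₁ ≫ pullback.snd gX fY := hm₁s.symm
  have step1 : SGA1.IsQuot (θ.comp (MonoidHom.inl G H)) m₁ :=
    Groth.Agent.H19.QuotBC.main ρ p hP gX fY (pullback.fst gX fY) (pullback.snd gX fY)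
      (IsPullback.of_hasPullback gX fY) (pullback.fst fX fY) m₁ hX1
      (θ.comp (MonoidHom.inl G H)) hθ1G hinv1
  -- step 2: `m₂` is a quotient by `H`
  have hX2 : IsPullback (pullback.snd gX fY) m₂ q (pullback.snd gX gY) := by
    have hout : IsPullback (m₂ ≫ pullback.fst gX gY) (pullback.snd gX fY) gX (q ≫ gY) := by
      rw [hm₂f, hq]
      exact IsPullback.of_hasPullback gX fY
    exact (IsPullback.of_right hout hm₂s (IsPullback.of_hasPullback gX gY)).flip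
  have hinv2 : ∀ h : H, (tau gX fY σ hσ h).hom ≫ m₂ = m₂ := by
    intro h
    rw [tau_hom]
    apply pullback.hom_ext
    · calc (tauHom gX fY σ hσ h ≫ m₂) ≫ pullback.fst gX gY
          = tauHom gX fY σ hσ h ≫ (m₂ ≫ pullback.fst gX gY) := Category.assoc _ _ _
        _ = tauHom gX fY σ hσ h ≫ pullback.fst gX fY := by rw [hm₂f]
        _ = pullback.fst gX fY := tauHom_fst gX fY σ hσ h
        _ = m₂ ≫ pullback.fst gX gY := hm₂f.symm
    · calc (tauHom gX fY σ hσ h ≫ m₂) ≫ pullback.snd gX gY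
          = tauHom gX fY σ hσ h ≫ (m₂ ≫ pullback.snd gX gY) := Category.assoc _ _ _
        _ = tauHom gX fY σ hσ h ≫ (pullback.snd gX fY ≫ q) := by rw [hm₂s]
        _ = (tauHom gX fY σ hσ h ≫ pullback.snd gX fY) ≫ q := (Category.assoc _ _ _).symm
        _ = (pullback.snd gX fY ≫ (σ h).hom) ≫ q := by rw [tauHom_snd]
        _ = pullback.snd gX fY ≫ ((σ h).hom ≫ q) := Category.assoc _ _ _
        _ = pullback.snd gX fY ≫ q := by rw [hQ.inv h]
        _ = m₂ ≫ pullback.snd gX gY := hm₂s.symm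
  have step2 : SGA1.IsQuot (tau gX fY σ hσ) m₂ :=
    Groth.Agent.H19.QuotBC.main σ q hQ gY gX (pullback.snd gX gY) (pullback.fst gX gY)
      (IsPullback.of_hasPullback gX gY).flip (pullback.snd gX fY) m₂ hX2
      (tau gX fY σ hσ) (fun h => tauHom_snd gX fY σ hσ h) hinv2
  have heq : ∀ h : H, (θ (1, h)).hom ≫ m₁ = m₁ ≫ (tau gX fY σ hσ h).hom := by
    intro h
    rw [tau_hom]
    apply pullback.hom_ext
    · calc ((θ (1, h)).hom ≫ m₁) ≫ pullback.fst gX fY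
          = (θ (1, h)).hom ≫ (m₁ ≫ pullback.fst gX fY) := Category.assoc _ _ _
        _ = (θ (1, h)).hom ≫ (pullback.fst fX fY ≫ p) := by rw [hm₁f]
        _ = ((θ (1, h)).hom ≫ pullback.fst fX fY) ≫ p := (Category.assoc _ _ _).symm
        _ = pullback.fst fX fY ≫ p := by rw [hθ1H h]
        _ = m₁ ≫ pullback.fst gX fY := hm₁f.symm
        _ = m₁ ≫ (tauHom gX fY σ hσ h ≫ pullback.fst gX fY) := by rw [tauHom_fst]
        _ = (m₁ ≫ tauHom gX fY σ hσ h) ≫ pullback.fst gX fY := (Category.assoc _ _ _).symm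
    · calc ((θ (1, h)).hom ≫ m₁) ≫ pullback.snd gX fY
          = (θ (1, h)).hom ≫ (m₁ ≫ pullback.snd gX fY) := Category.assoc _ _ _
        _ = (θ (1, h)).hom ≫ pullback.snd fX fY := by rw [hm₁s]
        _ = pullback.snd fX fY ≫ (σ h).hom := hθ2H h
        _ = (m₁ ≫ pullback.snd gX fY) ≫ (σ h).hom := by rw [hm₁s]
        _ = m₁ ≫ (pullback.snd gX fY ≫ (σ h).hom) := Category.assoc _ _ _
        _ = m₁ ≫ (tauHom gX fY σ hσ h ≫ pullback.snd gX fY) := by rw [tauHom_snd]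
        _ = (m₁ ≫ tauHom gX fY σ hσ h) ≫ pullback.snd gX fY := (Category.assoc _ _ _).symm
  rw [hπ]
  exact tower θ m₁ step1 (tau gX fY σ hσ) m₂ step2 heq

end Groth.Agent.S13079
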