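import Groth.Statements.S1308

set_option autoImplicit false
universe u
open FlatMor

namespace Groth.Agent.S1308

open AlgebraicGeometry CategoryTheory Limits in
theorem univOpen_of_comp_surjective {X Y Z : Scheme.{u}} (f : X ⟶ Y) (g : Y ⟶ Z)
    [UniversallyOpen (f ≫ g)] [Surjective f] : UniversallyOpen g := by
  constructor
  intro X' Y' i₁ i₂ f' H
  have := UniversallyOpen.universally_isOpenMap _ _ _
    ((IsPullback.of_hasPullback i₁ f).paste_horiz H)
  exact IsOpenMap.of_comp (f := pullback.fst i₁ f) (Scheme.Hom.continuous _)
    (MorphismProperty.pullback_fst (P := @Surjective) _ _ ‹_›).1 this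

open AlgebraicGeometry CategoryTheory Limits in
theorem univOpen_of_thickening {X X' : Scheme.{u}} (i : X ⟶ X') [IsClosedImmersion i]
    [Surjective i] : UniversallyOpen i := by
  constructor
  intro Y Y' i₁ i₂ i' H
  have h1 : IsClosedImmersion i' := MorphismProperty.of_isPullback H.flip inferInstance
  have h2 : Surjective i' := MorphismProperty.of_isPullback H.flip inferInstance
  have h3 : IsHomeomorph i' :=
    isHomeomorph_iff_isEmbedding_surjective.mpr ⟨i'.isClosedEmbedding.isEmbedding, i'.surjective⟩
  exact h3.isOpenMap

open AlgebraicGeometry CategoryTheory Limits in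
/-- For a morphism of thickenings, that is a commutative square whose horizontal maps are thickenings
(closed immersions that are surjective on points), the morphism between the thin schemes is
universally open if and only if the morphism between the thick ones is. -/
theorem result {X X' S S' : Scheme.{u}} (iX : X ⟶ X') (iS : S ⟶ S') (f : X ⟶ S) (f' : X' ⟶ S')
    (hX : MoreMor.IsThickening iX) (hS : MoreMor.IsThickening iS) (w : iX ≫ f' = f ≫ iS) :
    UniversallyOpen f ↔ UniversallyOpen f' := by
  obtain ⟨hXc, hXs⟩ := hX
  obtain ⟨hSc, hSs⟩ := hS
  have hiX : UniversallyOpen iX := univOpen_of_thickening iX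
  have hiS : UniversallyOpen iS := univOpen_of_thickening iS
  constructor
  · intro hf
    have : UniversallyOpen (iX ≫ f') := by
      rw [w]
      exact MorphismProperty.comp_mem (W := @UniversallyOpen) _ _ hf hiS
    exact univOpen_of_comp_surjective iX f'
  · intro hf'
    have h : UniversallyOpen (f ≫ iS) := by
      rw [← w]
      exact MorphismProperty.comp_mem (W := @UniversallyOpen) _ _ hiX hf'
    exact MorphismProperty.of_postcomp (W := @UniversallyOpen)
      (W' := MorphismProperty.monomorphisms Scheme) f iS (inferInstanceAs (Mono iS)) h

end Groth.Agent.S1308
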