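import Groth.Statements.S13080
import Mathlib
import Groth.Agent.H69.QuotRes
import Groth.Agent.H68.Quot

set_option autoImplicit false
set_option linter.style.haveILetI false
set_option linter.unusedSectionVars false
set_option linter.unusedVariables false
universe u
open CategoryTheory AlgebraicGeometry Limits
open Zeta

namespace Groth.Agent.S13080

section Helpers

open TopologicalSpace Groth.Agent.H69.QuotBasis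

variable {X XG : Scheme.{u}} {G : Type u} [Group G]

theorem rho_mul_hom (ρ : G →* Aut X) (g h : G) :
    (ρ (g * h)).hom = (ρ h).hom ≫ (ρ g).hom := by
  rw [map_mul]; rfl

theorem rho_one_hom (ρ : G →* Aut X) : (ρ 1).hom = 𝟙 X := by
  rw [map_one]; rfl

theorem rho_mul_apply (ρ : G →* Aut X) (g h : G) (x : X) :
    (ρ (g * h)).hom.base x = (ρ g).hom.base ((ρ h).hom.base x) :=
  congrArg (fun f : X ⟶ X => f.base x) (rho_mul_hom ρ g h)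

theorem rho_one_apply (ρ : G →* Aut X) (x : X) : (ρ 1).hom.base x = x :=
  congrArg (fun f : X ⟶ X => f.base x) (rho_one_hom ρ)

theorem rho_inv_apply (ρ : G →* Aut X) (g : G) (x : X) :
    (ρ g⁻¹).hom.base ((ρ g).hom.base x) = x := by
  rw [← rho_mul_apply, inv_mul_cancel]
  exact rho_one_apply ρ x

theorem sections_eq_of_empty (N : X.Opens) (hN : ∀ x, x ∉ N) (s₁ s₂ : Γ(X, N)) : s₁ = s₂ := by
  have hb : N = ⊥ := by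
    apply le_bot_iff.mp
    intro x hx
    exact (hN x hx).elim
  subst hb
  exact Subsingleton.elim _ _

theorem appLE_comp_apply {A B C : Scheme.{u}} (f : A ⟶ B) (g : B ⟶ C) (U : C.Opens)
    (V : B.Opens) (W : A.Opens) (e₁ : V ≤ g ⁻¹ᵁ U) (e₂ : W ≤ f ⁻¹ᵁ V)
    (e₃ : W ≤ (f ≫ g) ⁻¹ᵁ U) (t : Γ(C, U)) :
    (f.appLE V W e₂).hom ((g.appLE U V e₁).hom t) = ((f ≫ g).appLE U W e₃).hom t :=
  congr($(Scheme.Hom.appLE_comp_appLE f g U V W e₁ e₂) t)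

theorem appLE_res_apply {A B : Scheme.{u}} (f : A ⟶ B) (U : B.Opens) (V V' : A.Opens)
    (e : V ≤ f ⁻¹ᵁ U) (hV : V' ≤ V) (e' : V' ≤ f ⁻¹ᵁ U) (t : Γ(B, U)) :
    (A.presheaf.map (homOfLE hV).op).hom ((f.appLE U V e).hom t) = (f.appLE U V' e').hom t :=
  congr($(Scheme.Hom.appLE_map f e (homOfLE hV).op) t)

theorem res_appLE_apply {A B : Scheme.{u}} (f : A ⟶ B) (U U' : B.Opens) (V : A.Opens)
    (e : V ≤ f ⁻¹ᵁ U) (hU : U ≤ U') (e' : V ≤ f ⁻¹ᵁ U') (t : Γ(B, U')) :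
    (f.appLE U V e).hom ((B.presheaf.map (homOfLE hU).op).hom t) = (f.appLE U' V e').hom t :=
  congr($(Scheme.Hom.map_appLE f e (homOfLE hU).op) t)

theorem res_res (A B C : X.Opens) (hAB : A ≤ B) (hBC : B ≤ C) (hAC : A ≤ C) (T : Γ(X, C)) :
    (X.presheaf.map (homOfLE hAB).op).hom ((X.presheaf.map (homOfLE hBC).op).hom T) =
      (X.presheaf.map (homOfLE hAC).op).hom T := by
  have h : X.presheaf.map (homOfLE hBC).op ≫ X.presheaf.map (homOfLE hAB).op =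
      X.presheaf.map (homOfLE hAC).op := by
    rw [← Functor.map_comp]
    first | rfl | done
  exact congr($(h) T)

theorem ι_appLE_self (Y : X.Opens) (V : (Y : Scheme.{u}).Opens) (e : V ≤ Y.ι ⁻¹ᵁ (Y.ι ''ᵁ V))
    (t : Γ(X, Y.ι ''ᵁ V)) : (Y.ι.appLE (Y.ι ''ᵁ V) V e).hom t = t := by
  have h : Y.ι.appLE (Y.ι ''ᵁ V) V e = 𝟙 _ := by
    rw [Scheme.Opens.ι_appLE]
    exact X.presheaf.map_id _
  exact congr($(h) t)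

theorem Hact (Y : X.Opens) (b : (Y : Scheme.{u}) ⟶ Y) (a : X ⟶ X) (hba : b ≫ Y.ι = Y.ι ≫ a)
    (V : (Y : Scheme.{u}).Opens) (e2 : V ≤ b ⁻¹ᵁ V) (e3 : Y.ι ''ᵁ V ≤ a ⁻¹ᵁ (Y.ι ''ᵁ V))
    (t : Γ(X, Y.ι ''ᵁ V)) :
    (b.appLE V V e2).hom t = (a.appLE (Y.ι ''ᵁ V) (Y.ι ''ᵁ V) e3).hom t := by
  have eι : V ≤ Y.ι ⁻¹ᵁ (Y.ι ''ᵁ V) := le_of_eq (Y.ι.preimage_image_eq V).symm
  have e5 : V ≤ (b ≫ Y.ι) ⁻¹ᵁ (Y.ι ''ᵁ V) := e2.trans (b.preimage_mono eι)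
  have e6 : V ≤ (Y.ι ≫ a) ⁻¹ᵁ (Y.ι ''ᵁ V) := by rw [← hba]; exact e5
  have c1 := appLE_comp_apply b Y.ι (Y.ι ''ᵁ V) V V eι e2 e5 t
  have c2 : ((b ≫ Y.ι).appLE (Y.ι ''ᵁ V) V e5).hom t = ((Y.ι ≫ a).appLE (Y.ι ''ᵁ V) V e6).hom t :=
    congrArg (fun f => f.hom t) (appLE_congr _ _ hba (Y.ι ''ᵁ V) V e5 e6)
  have c3 := appLE_comp_apply Y.ι a (Y.ι ''ᵁ V) (Y.ι ''ᵁ V) V e3 eι e6 t
  have c4 := ι_appLE_self Y V eι t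
  have c5 := ι_appLE_self Y V eι ((a.appLE (Y.ι ''ᵁ V) (Y.ι ''ᵁ V) e3).hom t)
  have c1' : (b.appLE V V e2).hom t = ((b ≫ Y.ι).appLE (Y.ι ''ᵁ V) V e5).hom t :=
    (congrArg (fun z => (b.appLE V V e2).hom z) c4).symm.trans c1
  exact c1'.trans (c2.trans (c3.symm.trans c5))

theorem mem_YW (Y : X.Opens) (p : X ⟶ XG) (U : XG.Opens) (x : X) :
    x ∈ Y.ι ''ᵁ ((Y.ι ≫ p) ⁻¹ᵁ U) ↔ x ∈ Y ∧ p.base x ∈ U := by
  rw [Scheme.Hom.comp_preimage, Scheme.Hom.image_preimage_eq_opensRange_inf,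
    Scheme.Opens.opensRange_ι]
  first | exact Iff.rfl | done

theorem q_app_apply (Y : X.Opens) (p : X ⟶ XG) (U : XG.Opens)
    (hle : Y.ι ''ᵁ ((Y.ι ≫ p) ⁻¹ᵁ U) ≤ p ⁻¹ᵁ U) (s : Γ(XG, U)) :
    ((Y.ι ≫ p).app U).hom s = (X.presheaf.map (homOfLE hle).op).hom ((p.app U).hom s) := by
  have h : (Y.ι ≫ p).app U = p.app U ≫ X.presheaf.map (homOfLE hle).op := rfl
  exact congr($(h) s)

variable (ρ : G →* Aut X) (p : X ⟶ XG) (hinv : ∀ g : G, (ρ g).hom ≫ p = p)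

include hinv in
theorem Vg_le (U : XG.Opens) (V : X.Opens) (hVW : V ≤ p ⁻¹ᵁ U) (g : G) :
    (ρ g).hom ⁻¹ᵁ V ≤ p ⁻¹ᵁ U := by
  intro x hx
  have h0 : (ρ g).hom.base x ∈ V := hx
  have h1 : p.base ((ρ g).hom.base x) ∈ U := hVW h0
  have h2 : p.base ((ρ g).hom.base x) = p.base x :=
    congrArg (fun f : X ⟶ XG => f.base x) (hinv g)
  show p.base x ∈ U
  rw [← h2]
  exact h1

theorem res_Vg (g : G) (U : XG.Opens) (V : X.Opens)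
    (hVW : V ≤ p ⁻¹ᵁ U) (hVg : (ρ g).hom ⁻¹ᵁ V ≤ p ⁻¹ᵁ U)
    (T : Γ(X, p ⁻¹ᵁ U)) (hT : act ρ p hinv g U T = T) :
    (X.presheaf.map (homOfLE hVg).op).hom T =
      ((ρ g).hom.appLE V ((ρ g).hom ⁻¹ᵁ V) le_rfl).hom
        ((X.presheaf.map (homOfLE hVW).op).hom T) := by
  have e' : (ρ g).hom ⁻¹ᵁ V ≤ (ρ g).hom ⁻¹ᵁ (p ⁻¹ᵁ U) :=
    hVg.trans (SGA1.preimage_le_of_inv ρ p hinv g U)
  have h1 : (X.presheaf.map (homOfLE hVg).op).hom (act ρ p hinv g U T) =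
      ((ρ g).hom.appLE (p ⁻¹ᵁ U) ((ρ g).hom ⁻¹ᵁ V) e').hom T :=
    appLE_res_apply (ρ g).hom (p ⁻¹ᵁ U) (p ⁻¹ᵁ U) ((ρ g).hom ⁻¹ᵁ V)
      (SGA1.preimage_le_of_inv ρ p hinv g U) hVg e' T
  have h2 : ((ρ g).hom.appLE V ((ρ g).hom ⁻¹ᵁ V) le_rfl).hom
      ((X.presheaf.map (homOfLE hVW).op).hom T) =
      ((ρ g).hom.appLE (p ⁻¹ᵁ U) ((ρ g).hom ⁻¹ᵁ V) e').hom T :=
    res_appLE_apply (ρ g).hom V (p ⁻¹ᵁ U) ((ρ g).hom ⁻¹ᵁ V) le_rfl hVW e' T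
  exact ((congrArg (fun z => (X.presheaf.map (homOfLE hVg).op).hom z) hT).symm.trans h1).trans
    h2.symm

theorem eq_of_res_eq (U : XG.Opens) (V : X.Opens) (hVW : V ≤ p ⁻¹ᵁ U)
    (hcovV : ∀ x : X, x ∈ p ⁻¹ᵁ U → ∃ g : G, (ρ g).hom.base x ∈ V)
    (T₁ T₂ : Γ(X, p ⁻¹ᵁ U)) (h₁ : ∀ g, act ρ p hinv g U T₁ = T₁)
    (h₂ : ∀ g, act ρ p hinv g U T₂ = T₂)
    (hres : (X.presheaf.map (homOfLE hVW).op).hom T₁ =
      (X.presheaf.map (homOfLE hVW).op).hom T₂) : T₁ = T₂ := by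
  have hVg : ∀ g : G, (ρ g).hom ⁻¹ᵁ V ≤ p ⁻¹ᵁ U := Vg_le ρ p hinv U V hVW
  have hcov : p ⁻¹ᵁ U ≤ ⨆ g : G, (ρ g).hom ⁻¹ᵁ V := by
    intro x hx
    obtain ⟨g, hg⟩ := hcovV x hx
    exact Opens.mem_iSup.mpr ⟨g, hg⟩
  apply X.sheaf.eq_of_locally_eq' (fun g : G => (ρ g).hom ⁻¹ᵁ V) (p ⁻¹ᵁ U)
    (fun g => homOfLE (hVg g)) hcov
  intro g
  show (X.presheaf.map (homOfLE (hVg g)).op).hom T₁ =
    (X.presheaf.map (homOfLE (hVg g)).op).hom T₂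
  exact (res_Vg ρ p hinv g U V hVW (hVg g) T₁ (h₁ g)).trans
    ((congrArg (fun z => ((ρ g).hom.appLE V ((ρ g).hom ⁻¹ᵁ V) le_rfl).hom z) hres).trans
      (res_Vg ρ p hinv g U V hVW (hVg g) T₂ (h₂ g)).symm)

/-- The translate of the section `t` by `g`, living on `(ρ g)⁻¹ V`. -/
noncomputable def sfG (V : X.Opens) (t : Γ(X, V)) (g : G) : Γ(X, (ρ g).hom ⁻¹ᵁ V) :=
  ((ρ g).hom.appLE V ((ρ g).hom ⁻¹ᵁ V) le_rfl).hom t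

theorem sfG_res (V : X.Opens) (t : Γ(X, V)) (g : G) (N : X.Opens)
    (hN : N ≤ (ρ g).hom ⁻¹ᵁ V) :
    (X.presheaf.map (homOfLE hN).op).hom (sfG ρ V t g) = ((ρ g).hom.appLE V N hN).hom t :=
  appLE_res_apply (ρ g).hom V ((ρ g).hom ⁻¹ᵁ V) N le_rfl hN hN t

theorem sfG_compat_of_mem (H : Subgroup G) (V : X.Opens)
    (hHV : ∀ h : G, h ∈ H → V ≤ (ρ h).hom ⁻¹ᵁ V) (t : Γ(X, V))
    (ht : ∀ (h : G) (hh : h ∈ H), ((ρ h).hom.appLE V V (hHV h hh)).hom t = t)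
    (g g' : G) (hh : g' * g⁻¹ ∈ H) (N : X.Opens)
    (hN : N ≤ (ρ g).hom ⁻¹ᵁ V) (hN' : N ≤ (ρ g').hom ⁻¹ᵁ V) :
    ((ρ g').hom.appLE V N hN').hom t = ((ρ g).hom.appLE V N hN).hom t := by
  have hgg : (ρ g').hom = (ρ g).hom ≫ (ρ (g' * g⁻¹)).hom := by
    rw [← rho_mul_hom ρ (g' * g⁻¹) g, inv_mul_cancel_right]
  have e3 : N ≤ ((ρ g).hom ≫ (ρ (g' * g⁻¹)).hom) ⁻¹ᵁ V := by
    rw [← hgg]; exact hN'
  have a1 : ((ρ g').hom.appLE V N hN').hom t =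
      (((ρ g).hom ≫ (ρ (g' * g⁻¹)).hom).appLE V N e3).hom t :=
    congrArg (fun k => k.hom t) (appLE_congr _ _ hgg V N hN' e3)
  have a2 := appLE_comp_apply (ρ g).hom (ρ (g' * g⁻¹)).hom V V N (hHV _ hh) hN e3 t
  have a3 := ht _ hh
  exact a1.trans (a2.symm.trans
    (congrArg (fun z => ((ρ g).hom.appLE V N hN).hom z) a3))

theorem inter_empty (H : Subgroup G) (V : X.Opens)
    (hdisjV : ∀ g : G, g ∉ H → ∀ x : X, x ∈ V → (ρ g).hom.base x ∉ V)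
    (g g' : G) (hh : g' * g⁻¹ ∉ H) (x : X) :
    x ∉ (ρ g).hom ⁻¹ᵁ V ⊓ (ρ g').hom ⁻¹ᵁ V := by
  intro hx
  have h1 : (ρ g).hom.base x ∈ V :=
    (inf_le_left : (ρ g).hom ⁻¹ᵁ V ⊓ (ρ g').hom ⁻¹ᵁ V ≤ (ρ g).hom ⁻¹ᵁ V) hx
  have h2 : (ρ g').hom.base x ∈ V :=
    (inf_le_right : (ρ g).hom ⁻¹ᵁ V ⊓ (ρ g').hom ⁻¹ᵁ V ≤ (ρ g').hom ⁻¹ᵁ V) hx
  have e : (ρ (g' * g⁻¹)).hom.base ((ρ g).hom.base x) = (ρ g').hom.base x := by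
    rw [← rho_mul_apply, inv_mul_cancel_right]
  refine hdisjV _ hh _ h1 ?_
  rw [e]
  exact h2

theorem glue_inv (U : XG.Opens) (V : X.Opens)
    (hVg : ∀ g : G, (ρ g).hom ⁻¹ᵁ V ≤ p ⁻¹ᵁ U) (t : Γ(X, V)) (T : Γ(X, p ⁻¹ᵁ U))
    (hT : ∀ g : G, (X.presheaf.map (homOfLE (hVg g)).op).hom T = sfG ρ V t g) (k g : G) :
    (X.presheaf.map (homOfLE (hVg g)).op).hom (act ρ p hinv k U T) =
      (X.presheaf.map (homOfLE (hVg g)).op).hom T := by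
  have hkg : (ρ k).hom ≫ (ρ (g * k⁻¹)).hom = (ρ g).hom := by
    rw [← rho_mul_hom ρ (g * k⁻¹) k, inv_mul_cancel_right]
  have e' : (ρ g).hom ⁻¹ᵁ V ≤ (ρ k).hom ⁻¹ᵁ (p ⁻¹ᵁ U) :=
    (hVg g).trans (SGA1.preimage_le_of_inv ρ p hinv k U)
  have e3 : (ρ g).hom ⁻¹ᵁ V ≤ ((ρ k).hom ≫ (ρ (g * k⁻¹)).hom) ⁻¹ᵁ V :=
    le_of_eq (by rw [hkg])
  have e'' : (ρ g).hom ⁻¹ᵁ V ≤ (ρ k).hom ⁻¹ᵁ ((ρ (g * k⁻¹)).hom ⁻¹ᵁ V) := e3
  have b1 : (X.presheaf.map (homOfLE (hVg g)).op).hom (act ρ p hinv k U T) =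
      ((ρ k).hom.appLE (p ⁻¹ᵁ U) ((ρ g).hom ⁻¹ᵁ V) e').hom T :=
    appLE_res_apply (ρ k).hom (p ⁻¹ᵁ U) (p ⁻¹ᵁ U) ((ρ g).hom ⁻¹ᵁ V)
      (SGA1.preimage_le_of_inv ρ p hinv k U) (hVg g) e' T
  have b2 : ((ρ k).hom.appLE ((ρ (g * k⁻¹)).hom ⁻¹ᵁ V) ((ρ g).hom ⁻¹ᵁ V) e'').hom
      ((X.presheaf.map (homOfLE (hVg (g * k⁻¹))).op).hom T) =
      ((ρ k).hom.appLE (p ⁻¹ᵁ U) ((ρ g).hom ⁻¹ᵁ V) e').hom T :=
    res_appLE_apply (ρ k).hom ((ρ (g * k⁻¹)).hom ⁻¹ᵁ V) (p ⁻¹ᵁ U) ((ρ g).hom ⁻¹ᵁ V) e''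
      (hVg (g * k⁻¹)) e' T
  have b3 : ((ρ k).hom.appLE ((ρ (g * k⁻¹)).hom ⁻¹ᵁ V) ((ρ g).hom ⁻¹ᵁ V) e'').hom
      (sfG ρ V t (g * k⁻¹)) =
      (((ρ k).hom ≫ (ρ (g * k⁻¹)).hom).appLE V ((ρ g).hom ⁻¹ᵁ V) e3).hom t :=
    appLE_comp_apply (ρ k).hom (ρ (g * k⁻¹)).hom V ((ρ (g * k⁻¹)).hom ⁻¹ᵁ V)
      ((ρ g).hom ⁻¹ᵁ V) le_rfl e'' e3 t
  have b4 : (((ρ k).hom ≫ (ρ (g * k⁻¹)).hom).appLE V ((ρ g).hom ⁻¹ᵁ V) e3).hom t =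
      sfG ρ V t g :=
    congrArg (fun f => f.hom t) (appLE_congr _ _ hkg V ((ρ g).hom ⁻¹ᵁ V) e3 le_rfl)
  have b2' : ((ρ k).hom.appLE ((ρ (g * k⁻¹)).hom ⁻¹ᵁ V) ((ρ g).hom ⁻¹ᵁ V) e'').hom
      (sfG ρ V t (g * k⁻¹)) = ((ρ k).hom.appLE (p ⁻¹ᵁ U) ((ρ g).hom ⁻¹ᵁ V) e').hom T :=
    (congrArg (fun z => ((ρ k).hom.appLE ((ρ (g * k⁻¹)).hom ⁻¹ᵁ V)
      ((ρ g).hom ⁻¹ᵁ V) e'').hom z) (hT (g * k⁻¹))).symm.trans b2
  exact b1.trans (b2'.symm.trans (b3.trans (b4.trans (hT g).symm)))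

theorem exists_glue (H : Subgroup G)
    (U : XG.Opens) (V : X.Opens) (hVW : V ≤ p ⁻¹ᵁ U)
    (hcovV : ∀ x : X, x ∈ p ⁻¹ᵁ U → ∃ g : G, (ρ g).hom.base x ∈ V)
    (hHV : ∀ h : G, h ∈ H → V ≤ (ρ h).hom ⁻¹ᵁ V)
    (hdisjV : ∀ g : G, g ∉ H → ∀ x : X, x ∈ V → (ρ g).hom.base x ∉ V)
    (t : Γ(X, V))
    (ht : ∀ (h : G) (hh : h ∈ H), ((ρ h).hom.appLE V V (hHV h hh)).hom t = t) :
    ∃ T : Γ(X, p ⁻¹ᵁ U), (∀ g : G, act ρ p hinv g U T = T) ∧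
      (X.presheaf.map (homOfLE hVW).op).hom T = t := by
  have hVg : ∀ g : G, (ρ g).hom ⁻¹ᵁ V ≤ p ⁻¹ᵁ U := Vg_le ρ p hinv U V hVW
  have hcov : p ⁻¹ᵁ U ≤ ⨆ g : G, (ρ g).hom ⁻¹ᵁ V := by
    intro x hx
    obtain ⟨g, hg⟩ := hcovV x hx
    exact Opens.mem_iSup.mpr ⟨g, hg⟩
  have hcompat : TopCat.Presheaf.IsCompatible X.sheaf.1 (fun g : G => (ρ g).hom ⁻¹ᵁ V)
      (sfG ρ V t) := by
    intro g g'
    show (X.presheaf.map (homOfLE inf_le_left).op).hom (sfG ρ V t g) =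
      (X.presheaf.map (homOfLE inf_le_right).op).hom (sfG ρ V t g')
    by_cases hh : g' * g⁻¹ ∈ H
    · exact (sfG_res ρ V t g ((ρ g).hom ⁻¹ᵁ V ⊓ (ρ g').hom ⁻¹ᵁ V) inf_le_left).trans
        ((sfG_compat_of_mem ρ H V hHV t ht g g' hh ((ρ g).hom ⁻¹ᵁ V ⊓ (ρ g').hom ⁻¹ᵁ V)
          inf_le_left inf_le_right).symm.trans
          (sfG_res ρ V t g' ((ρ g).hom ⁻¹ᵁ V ⊓ (ρ g').hom ⁻¹ᵁ V) inf_le_right).symm)
    · exact sections_eq_of_empty _ (inter_empty ρ H V hdisjV g g' hh) _ _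
  obtain ⟨T, hT, -⟩ := X.sheaf.existsUnique_gluing' (fun g : G => (ρ g).hom ⁻¹ᵁ V) (p ⁻¹ᵁ U)
    (fun g => homOfLE (hVg g)) hcov (sfG ρ V t) hcompat
  have hT' : ∀ g : G, (X.presheaf.map (homOfLE (hVg g)).op).hom T = sfG ρ V t g := hT
  refine ⟨T, fun k => ?_, ?_⟩
  · apply X.sheaf.eq_of_locally_eq' (fun g : G => (ρ g).hom ⁻¹ᵁ V) (p ⁻¹ᵁ U)
      (fun g => homOfLE (hVg g)) hcov
    intro g
    exact glue_inv ρ p hinv U V hVg t T hT' k g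
  · have hV1 : V ≤ (ρ 1).hom ⁻¹ᵁ V := by
      intro x hx
      show (ρ 1).hom.base x ∈ V
      rw [rho_one_apply]
      exact hx
    have c1 := res_res V ((ρ 1).hom ⁻¹ᵁ V) (p ⁻¹ᵁ U) hV1 (hVg 1) hVW T
    have c2 := sfG_res ρ V t 1 V hV1
    have c3 : ((ρ 1).hom.appLE V V hV1).hom t = ((𝟙 X : X ⟶ X).appLE V V le_rfl).hom t :=
      congrArg (fun f => f.hom t) (appLE_congr _ _ (rho_one_hom ρ) V V hV1 le_rfl)
    have c4 := Groth.Agent.H68.Quot.id_appLE_self V le_rfl t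
    have c1' : (X.presheaf.map (homOfLE hV1).op).hom (sfG ρ V t 1) =
        (X.presheaf.map (homOfLE hVW).op).hom T :=
      (congrArg (fun z => (X.presheaf.map (homOfLE hV1).op).hom z) (hT' 1)).symm.trans c1
    exact c1'.symm.trans (c2.trans (c3.trans c4))

theorem main [Finite G] (ρ : G →* Aut X) (p : X ⟶ XG) (hP : SGA1.IsQuot ρ p) (H : Subgroup G)
    (Y : X.Opens) (hcov : ∀ x : X, ∃ g : G, x ∈ (ρ g).hom.base '' (Y : Set X))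
    (hdisj : ∀ g : G, g ∉ H → Disjoint ((ρ g).hom.base '' (Y : Set X)) (Y : Set X))
    (ρY : H →* Aut (Y : Scheme.{u}))
    (hρY : ∀ h : H, (ρY h).hom ≫ Y.ι = Y.ι ≫ (ρ (h : G)).hom) :
    SGA1.IsQuot ρY (Y.ι ≫ p) := by
  have hinv := hP.inv
  have hmem : ∀ z : (Y : Scheme.{u}), Y.ι.base z ∈ Y := by
    intro z
    have h : Y.ι.base z ∈ Set.range Y.ι.base := Set.mem_range_self z
    rw [Scheme.Opens.range_ι] at h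
    exact h
  have hYst : ∀ h : G, h ∈ H → ∀ x : X, x ∈ Y → (ρ h).hom.base x ∈ Y := by
    intro h hh x hx
    have hx' : x ∈ Set.range Y.ι.base := by
      rw [Scheme.Opens.range_ι]; exact hx
    obtain ⟨y, rfl⟩ := hx'
    have e : Y.ι.base ((ρY ⟨h, hh⟩).hom.base y) = (ρ h).hom.base (Y.ι.base y) :=
      congrArg (fun f : (Y : Scheme.{u}) ⟶ X => f.base y) (hρY ⟨h, hh⟩)
    rw [← e]
    exact hmem _
  have hpinv : ∀ (g : G) (x : X), p.base ((ρ g).hom.base x) = p.base x := fun g x =>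
    congrArg (fun f : X ⟶ XG => f.base x) (hinv g)
  have hdisj' : ∀ g : G, g ∉ H → ∀ x : X, x ∈ Y → (ρ g).hom.base x ∉ Y := by
    intro g hg x hx
    exact Set.disjoint_left.mp (hdisj g hg) ⟨x, hx, rfl⟩
  have hcov' : ∀ x : X, ∃ g : G, (ρ g).hom.base x ∈ Y := by
    intro x
    obtain ⟨g, y, hy, rfl⟩ := hcov x
    refine ⟨g⁻¹, ?_⟩
    rw [rho_inv_apply]
    exact hy
  have hclosed : IsClosed (Y : Set X) := by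
    rw [← isOpen_compl_iff, isOpen_iff_forall_mem_open]
    intro x hx
    obtain ⟨g, hg⟩ := hcov x
    have hgH : g ∉ H := by
      intro hh
      obtain ⟨y, hy, rfl⟩ := hg
      exact hx (hYst g hh y hy)
    haveI : IsIso (ρ g).hom := ⟨(ρ g).inv, (ρ g).hom_inv_id, (ρ g).inv_hom_id⟩
    refine ⟨(ρ g).hom.base '' (Y : Set X), ?_, (ρ g).hom.isOpenEmbedding.isOpenMap _ Y.2, hg⟩
    intro z hz
    exact Set.disjoint_left.mp (hdisj g hgH) hz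
  haveI : IsClosedImmersion Y.ι :=
    IsClosedImmersion.of_isPreimmersion Y.ι (by rw [Scheme.Opens.range_ι]; exact hclosed)
  haveI : IsAffineHom p := hP.affine
  have hinvq : ∀ h : H, (ρY h).hom ≫ (Y.ι ≫ p) = Y.ι ≫ p := by
    intro h
    rw [← Category.assoc, hρY h, Category.assoc, hP.inv]
  have hVmem : ∀ (U : XG.Opens) (x : X),
      x ∈ Y.ι ''ᵁ ((Y.ι ≫ p) ⁻¹ᵁ U) ↔ x ∈ Y ∧ p.base x ∈ U := fun U x => mem_YW Y p U x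
  have hVW : ∀ U : XG.Opens, Y.ι ''ᵁ ((Y.ι ≫ p) ⁻¹ᵁ U) ≤ p ⁻¹ᵁ U :=
    fun U x hx => ((hVmem U x).mp hx).2
  have hcovV : ∀ (U : XG.Opens) (x : X), x ∈ p ⁻¹ᵁ U →
      ∃ g : G, (ρ g).hom.base x ∈ Y.ι ''ᵁ ((Y.ι ≫ p) ⁻¹ᵁ U) := by
    intro U x hx
    obtain ⟨g, hg⟩ := hcov' x
    refine ⟨g, (hVmem U _).mpr ⟨hg, ?_⟩⟩
    rw [hpinv]
    exact hx
  have hHV : ∀ (U : XG.Opens) (h : G), h ∈ H →
      Y.ι ''ᵁ ((Y.ι ≫ p) ⁻¹ᵁ U) ≤ (ρ h).hom ⁻¹ᵁ (Y.ι ''ᵁ ((Y.ι ≫ p) ⁻¹ᵁ U)) := by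
    intro U h hh x hx
    obtain ⟨h1, h2⟩ := (hVmem U x).mp hx
    show (ρ h).hom.base x ∈ Y.ι ''ᵁ ((Y.ι ≫ p) ⁻¹ᵁ U)
    refine (hVmem U _).mpr ⟨hYst h hh x h1, ?_⟩
    rw [hpinv]
    exact h2
  have hdisjV : ∀ (U : XG.Opens) (g : G), g ∉ H → ∀ x : X,
      x ∈ Y.ι ''ᵁ ((Y.ι ≫ p) ⁻¹ᵁ U) → (ρ g).hom.base x ∉ Y.ι ''ᵁ ((Y.ι ≫ p) ⁻¹ᵁ U) := by
    intro U g hg x hx hx'
    exact hdisj' g hg x ((hVmem U x).mp hx).1 ((hVmem U _).mp hx').1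
  refine ⟨inferInstance, hinvq, ?_, ?_⟩
  · intro U s₁ s₂ h
    apply hP.injective U
    exact eq_of_res_eq ρ p hinv U (Y.ι ''ᵁ ((Y.ι ≫ p) ⁻¹ᵁ U)) (hVW U) (hcovV U) _ _
      (fun g => act_app ρ p hinv g U s₁) (fun g => act_app ρ p hinv g U s₂)
      ((q_app_apply Y p U (hVW U) s₁).symm.trans (h.trans (q_app_apply Y p U (hVW U) s₂)))
  · intro U s
    constructor
    · rintro ⟨s', rfl⟩ h
      exact act_app ρY (Y.ι ≫ p) hinvq h U s'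
    · intro hs
      have ht : ∀ (h : G) (hh : h ∈ H),
          ((ρ h).hom.appLE (Y.ι ''ᵁ ((Y.ι ≫ p) ⁻¹ᵁ U)) (Y.ι ''ᵁ ((Y.ι ≫ p) ⁻¹ᵁ U))
            (hHV U h hh)).hom s = s := by
        intro h hh
        have h1 := Hact Y (ρY ⟨h, hh⟩).hom (ρ h).hom (hρY ⟨h, hh⟩) ((Y.ι ≫ p) ⁻¹ᵁ U)
          (SGA1.preimage_le_of_inv ρY (Y.ι ≫ p) hinvq ⟨h, hh⟩ U) (hHV U h hh) s
        exact h1.symm.trans (hs ⟨h, hh⟩)
      obtain ⟨T, hTinv, hTres⟩ := exists_glue ρ p hinv H U (Y.ι ''ᵁ ((Y.ι ≫ p) ⁻¹ᵁ U)) (hVW U)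
        (hcovV U) (hHV U) (hdisjV U) s ht
      obtain ⟨s', hs'⟩ := (hP.range_iff U T).mpr hTinv
      refine ⟨s', ?_⟩
      exact (q_app_apply Y p U (hVW U) s').trans
        ((congrArg (fun z => (X.presheaf.map (homOfLE (hVW U)).op).hom z) hs').trans hTres)

end Helpers


/-- Let G be a finite group acting by algebraic automorphisms over k on a scheme X of finite type over k
admitting a quotient p : X → X/G, H ⊆ G a subgroup and Y ⊆ X an open subset preserved by H such that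
X is the disjoint union of the translates Y g over the cosets of G mod H. Then the natural morphism
Y/H → X/G is an isomorphism: Y → X/G is a quotient of Y by H. The action of H on Y is pinned by
compatibility with the inclusion Y → X; the coset condition is stated as: the translates of Y cover
X, and g(Y) is disjoint from Y for g ∉ H. -/
theorem result {k : Type u} [Field k] {G : Type u} [Group G]
    [Finite G] {X XG : Scheme.{u}} (fX : X ⟶ Spec (CommRingCat.of k)) [LocallyOfFiniteType fX]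
    [QuasiCompact fX] (ρ : G →* Aut X) (hρ : ∀ g, (ρ g).hom ≫ fX = fX) (p : X ⟶ XG)
    (hP : SGA1.IsQuot ρ p) (H : Subgroup G) (Y : X.Opens)
    (hcov : ∀ x : X, ∃ g : G, x ∈ (ρ g).hom.base '' (Y : Set X))
    (hdisj : ∀ g : G, g ∉ H → Disjoint ((ρ g).hom.base '' (Y : Set X)) (Y : Set X))
    (ρY : H →* Aut (Y : Scheme.{u})) (hρY : ∀ h : H, (ρY h).hom ≫ Y.ι = Y.ι ≫ (ρ (h : G)).hom) :
    SGA1.IsQuot ρY (Y.ι ≫ p) := by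
  exact main ρ p hP H Y hcov hdisj ρY hρY

end Groth.Agent.S13080
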