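import Groth.Statements.S19611
import Mathlib
import Groth.Agent.S9385

set_option autoImplicit false
set_option linter.style.haveILetI false
set_option linter.unusedSectionVars false
set_option linter.unusedVariables false
universe u
open CategoryTheory AlgebraicGeometry
open CartMod

namespace Groth.Agent.S19611

section Helpers
open CategoryTheory AlgebraicGeometry TopologicalSpace Limits

/-- A surjective, quasi-compact, scheme-theoretically dominant morphism is an epimorphism. -/
theorem epi_of_surjective_of_schDominant {X Y : Scheme.{u}} (t : X ⟶ Y) [Surjective t]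
    [IsSchemeTheoreticallyDominant t] [QuasiCompact t] : Epi t := by
  constructor
  intro Z g₁ g₂ h
  have hpt : ∀ y : Y, g₁ y = g₂ y := by
    intro y
    obtain ⟨x, rfl⟩ := t.surjective y
    rw [← Scheme.Hom.comp_apply, ← Scheme.Hom.comp_apply, h]
  apply Scheme.hom_ext_of_forall
  intro y
  obtain ⟨_, ⟨W, hW, rfl⟩, hyW, -⟩ :=
    Z.isBasis_affineOpens.exists_subset_of_mem_open (Set.mem_univ (g₁ y)) isOpen_univ
  refine ⟨g₁ ⁻¹ᵁ W, hyW, ?_⟩
  have e₂ : g₁ ⁻¹ᵁ W ≤ g₂ ⁻¹ᵁ W := by
    intro z hz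
    show g₂ z ∈ W
    rw [← hpt z]
    exact hz
  rw [← g₁.resLE_comp_ι (U := W) (V := g₁ ⁻¹ᵁ W) le_rfl, ← g₂.resLE_comp_ι (U := W) e₂]
  congr 1
  haveI : IsAffine (Scheme.Opens.toScheme W) := hW
  apply ext_of_isAffine
  haveI hdom : IsSchemeTheoreticallyDominant (t ∣_ (g₁ ⁻¹ᵁ W)) :=
    IsSchemeTheoreticallyDominant.of_isPullback (isPullback_morphismRestrict t (g₁ ⁻¹ᵁ W)).flip
  have hinj : Function.Injective (t ∣_ (g₁ ⁻¹ᵁ W)).appTop :=
    (t ∣_ (g₁ ⁻¹ᵁ W)).app_injective ⊤
  haveI : Mono (t ∣_ (g₁ ⁻¹ᵁ W)).appTop := ConcreteCategory.mono_of_injective _ hinj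
  have hcomp : (t ∣_ (g₁ ⁻¹ᵁ W)) ≫ g₁.resLE W (g₁ ⁻¹ᵁ W) le_rfl =
      (t ∣_ (g₁ ⁻¹ᵁ W)) ≫ g₂.resLE W (g₁ ⁻¹ᵁ W) e₂ := by
    rw [← cancel_mono (Scheme.Opens.ι W)]
    simp only [Category.assoc, Scheme.Hom.resLE_comp_ι]
    rw [morphismRestrict_ι_assoc, morphismRestrict_ι_assoc, h]
  have h2 := congrArg Scheme.Hom.appTop hcomp
  rw [Scheme.Hom.comp_appTop, Scheme.Hom.comp_appTop] at h2
  exact (cancel_mono _).mp h2

theorem main (p : ℕ) [Fact p.Prime] (Y : Scheme.{u}) [FrobSch.IsCharP Y p] :
    Epi (FrobSch.frob Y p).toImage := by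
  obtain ⟨F, hF⟩ : ∃ F : Y ⟶ Y, F = FrobSch.frob Y p := ⟨_, rfl⟩
  have hFx : ∀ y : Y, F y = y := by intro y; rw [hF]; rfl
  haveI : QuasiCompact F := by
    constructor
    intro K _ hKc
    have e : (F ⁻¹' K : Set Y) = K := by
      ext y
      show F y ∈ K ↔ y ∈ K
      rw [hFx]
    rw [e]
    exact hKc
  rw [← hF]
  have hti : ∀ y : Y, F.imageι (F.toImage y) = y := by
    intro y
    rw [← Scheme.Hom.comp_apply, F.toImage_imageι, hFx]
  have hinj : Function.Injective F.imageι := F.imageι.isClosedEmbedding.injective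
  haveI : Surjective F.toImage := ⟨fun z => ⟨F.imageι z, hinj (hti _)⟩⟩
  haveI : IsSchemeTheoreticallyDominant F.toImage :=
    ⟨Groth.Agent.S9385.ker_toImage_eq_bot F⟩
  exact epi_of_surjective_of_schDominant _

end Helpers


/-- For a prime p and a scheme Y of characteristic p, write Y♭ for the scheme-theoretic image of the
absolute Frobenius F_Y : Y → Y, i.e. the closed subscheme of Y defined by the sections of O_Y whose
p-th power vanishes, and Y → Y♭ for the canonical morphism through which F_Y factors. Then Y → Y♭ is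
an epimorphism of schemes: two morphisms g₁, g₂ from Y♭ to a scheme Z with equal composites Y → Y♭ →
Z are equal. (The published statement is for k-morphisms g₁, g₂ from Y♭ to a k-scheme Z over a
perfect field k of characteristic p, compared after Frobenius twist through Y → (Y♭)'; this row asks
right-cancellation against morphisms to every scheme Z, which is equivalent to it for k-morphisms.) -/
theorem result (p : ℕ) [Fact p.Prime] (Y : Scheme.{u}) [FrobSch.IsCharP Y p] :
    Epi (FrobSch.frob Y p).toImage := by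
  exact main p Y

end Groth.Agent.S19611
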