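import Groth.Statements.S13081
import Mathlib
import Groth.Agent.H69.QuotRes
import Groth.Agent.S19611

set_option autoImplicit false
set_option linter.style.haveILetI false
set_option linter.unusedSectionVars false
set_option linter.unusedVariables false
universe u
open CategoryTheory AlgebraicGeometry Limits
open Zeta

namespace Groth.Agent.S13081

section Helpers
open CategoryTheory AlgebraicGeometry TopologicalSpace Limits

variable {X XH : Scheme.{u}} {G : Type u} [Group G]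

/-- Compatibility of the two actions on sections. -/
theorem key (ρ : G →* Aut X) (H : Subgroup G) [H.Normal] (pH : X ⟶ XH)
    (ρbar : G ⧸ H →* Aut XH)
    (hρbar : ∀ g : G, pH ≫ (ρbar (QuotientGroup.mk g)).hom = (ρ g).hom ≫ pH)
    (g : G) (V : XH.Opens)
    (e₁ : pH ⁻¹ᵁ V ≤ (ρ g).hom ⁻¹ᵁ (pH ⁻¹ᵁ V))
    (e₂ : V ≤ (ρbar (QuotientGroup.mk g)).hom ⁻¹ᵁ V) (s : Γ(XH, V)) :
    ((ρ g).hom.appLE (pH ⁻¹ᵁ V) (pH ⁻¹ᵁ V) e₁).hom ((pH.app V).hom s) =
      (pH.app V).hom (((ρbar (QuotientGroup.mk g)).hom.appLE V V e₂).hom s) := by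
  have h1 : pH.app V ≫ (ρ g).hom.appLE (pH ⁻¹ᵁ V) (pH ⁻¹ᵁ V) e₁ =
      ((ρ g).hom ≫ pH).appLE V (pH ⁻¹ᵁ V) e₁ := by
    rw [Scheme.Hom.app_eq_appLE, Scheme.Hom.appLE_comp_appLE]
  have h2 : (ρbar (QuotientGroup.mk g)).hom.appLE V V e₂ ≫ pH.app V =
      (pH ≫ (ρbar (QuotientGroup.mk g)).hom).appLE V (pH ⁻¹ᵁ V) (pH.preimage_mono e₂) := by
    rw [Scheme.Hom.app_eq_appLE, Scheme.Hom.appLE_comp_appLE]
  have h3 : (pH ≫ (ρbar (QuotientGroup.mk g)).hom).appLE V (pH ⁻¹ᵁ V) (pH.preimage_mono e₂) =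
      ((ρ g).hom ≫ pH).appLE V (pH ⁻¹ᵁ V) e₁ :=
    Groth.Agent.H69.QuotBasis.appLE_congr _ _ (hρbar g) _ _ _ _
  exact congr($(h1.trans (h3.symm.trans h2.symm)) s)

theorem main {XG : Scheme.{u}} [Finite G] (ρ : G →* Aut X) (H : Subgroup G) [H.Normal]
    (pH : X ⟶ XH) (hPH : SGA1.IsQuot (ρ.comp H.subtype) pH) (ρbar : G ⧸ H →* Aut XH)
    (hρbar : ∀ g : G, pH ≫ (ρbar (QuotientGroup.mk g)).hom = (ρ g).hom ≫ pH)
    (r : XH ⟶ XG) (hP : SGA1.IsQuot ρ (pH ≫ r)) : SGA1.IsQuot ρbar r := by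
  haveI : Finite ↥H := inferInstance
  haveI hPHaff : IsAffineHom pH := hPH.affine
  haveI hPaff : IsAffineHom (pH ≫ r) := hP.affine
  haveI : Surjective pH := ⟨Groth.Agent.H68.Quot.surjective hPH⟩
  haveI : IsSchemeTheoreticallyDominant pH :=
    Groth.Agent.H68.Quot.isSchemeTheoreticallyDominant hPH
  haveI : Epi pH := Groth.Agent.S19611.epi_of_surjective_of_schDominant pH
  have hinv : ∀ q : G ⧸ H, (ρbar q).hom ≫ r = r := by
    intro q
    induction q using QuotientGroup.induction_on with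
    | H g =>
      rw [← cancel_epi pH, ← Category.assoc, hρbar g, Category.assoc]
      exact hP.inv g
  have haff : IsAffineHom r := by
    refine ⟨fun U hU => ?_⟩
    apply Groth.Agent.H69.QuotRes.isAffineOpen_of_preimage (ρ.comp H.subtype) pH hPH
    have := hPaff.isAffine_preimage U hU
    exact this
  have hinj : ∀ U : XG.Opens, Function.Injective (r.app U).hom := by
    intro U s₁ s₂ h
    apply hP.injective U
    have e : (pH ≫ r).app U = r.app U ≫ pH.app (r ⁻¹ᵁ U) := Scheme.Hom.comp_app _ _ _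
    rw [e]
    show (pH.app (r ⁻¹ᵁ U)).hom ((r.app U).hom s₁) = (pH.app (r ⁻¹ᵁ U)).hom ((r.app U).hom s₂)
    rw [h]
  refine ⟨haff, hinv, hinj, fun U s => ⟨?_, ?_⟩⟩
  · rintro ⟨a, rfl⟩ q
    exact Groth.Agent.H69.QuotBasis.act_app ρbar r hinv q U a
  · intro hs
    have ht : ∀ g : G, ((ρ g).hom.appLE ((pH ≫ r) ⁻¹ᵁ U) ((pH ≫ r) ⁻¹ᵁ U)
        (SGA1.preimage_le_of_inv ρ (pH ≫ r) hP.inv g U)).hom ((pH.app (r ⁻¹ᵁ U)).hom s) =
        (pH.app (r ⁻¹ᵁ U)).hom s := by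
      intro g
      have := key ρ H pH ρbar hρbar g (r ⁻¹ᵁ U)
        (SGA1.preimage_le_of_inv ρ (pH ≫ r) hP.inv g U)
        (SGA1.preimage_le_of_inv ρbar r hinv (QuotientGroup.mk g) U) s
      rw [hs (QuotientGroup.mk g)] at this
      exact this
    obtain ⟨a, ha⟩ := (hP.range_iff U ((pH.app (r ⁻¹ᵁ U)).hom s)).mpr ht
    refine ⟨a, ?_⟩
    apply hPH.injective (r ⁻¹ᵁ U)
    have e : (pH ≫ r).app U = r.app U ≫ pH.app (r ⁻¹ᵁ U) := Scheme.Hom.comp_app _ _ _
    rw [e] at ha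
    exact ha

end Helpers


/-- Let G be a finite group acting by algebraic automorphisms over k on a scheme X of finite type over k
admitting a quotient X → X/G, and H a normal subgroup of G. Then X/H carries an induced action of
G/H and its quotient by this action is X/G: the induced morphism r : X/H → X/G is a quotient of X/H
by G/H. The induced action ρ̄ is pinned by p_H ≫ ρ̄(ḡ) = ρ(g) ≫ p_H and r by p_H ≫ r = p. -/
theorem result {k : Type u} [Field k] {G : Type u} [Group G]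
    [Finite G] {X XG XH : Scheme.{u}} (fX : X ⟶ Spec (CommRingCat.of k)) [LocallyOfFiniteType fX]
    [QuasiCompact fX] (ρ : G →* Aut X) (hρ : ∀ g, (ρ g).hom ≫ fX = fX) (p : X ⟶ XG)
    (hP : SGA1.IsQuot ρ p) (H : Subgroup G) [H.Normal] (pH : X ⟶ XH)
    (hPH : SGA1.IsQuot (ρ.comp H.subtype) pH) (ρbar : G ⧸ H →* Aut XH)
    (hρbar : ∀ g : G, pH ≫ (ρbar (QuotientGroup.mk g)).hom = (ρ g).hom ≫ pH)
    (r : XH ⟶ XG) (hr : pH ≫ r = p) :
    SGA1.IsQuot ρbar r := by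
  subst hr
  exact main ρ H pH hPH ρbar hρbar r hP

end Groth.Agent.S13081
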