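import Groth.Statements.S13082
import Groth.Agent.H69.QuotUH

set_option autoImplicit false
set_option linter.style.haveILetI false
universe u
open CategoryTheory AlgebraicGeometry Limits
open Zeta

namespace Groth.Agent.S13082

/-- Let X be a scheme of finite type over k with an action of a finite group G by algebraic
automorphisms over k admitting a quotient π : X → X/G, and W a locally closed subscheme of X on
which G induces an action. Then the canonical morphism W/G → π(W) is radicial and surjective: the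
induced morphism φ : W/G → X/G is universally injective with set-theoretic image π(W). The action on
W is pinned along the immersion j : W → X, φ by p_W ≫ φ = j ≫ π for a quotient p_W : W → W/G. -/
theorem result {k : Type u} [Field k] {G : Type u}
    [Group G] [Finite G] {X XG W WG : Scheme.{u}} (fX : X ⟶ Spec (CommRingCat.of k))
    [LocallyOfFiniteType fX] [QuasiCompact fX] (ρ : G →* Aut X) (hρ : ∀ g, (ρ g).hom ≫ fX = fX)
    (p : X ⟶ XG) (hP : SGA1.IsQuot ρ p) (j : W ⟶ X) [IsImmersion j] (ρW : G →* Aut W)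
    (hρW : ∀ g, (ρW g).hom ≫ j = j ≫ (ρ g).hom) (pW : W ⟶ WG) (hPW : SGA1.IsQuot ρW pW)
    (φ : WG ⟶ XG) (hφ : pW ≫ φ = j ≫ p) :
    UniversallyInjective φ ∧ Set.range φ.base = p.base '' Set.range j.base := by
  classical
  haveI : Surjective pW := ⟨Groth.Agent.H68.Quot.surjective hPW⟩
  constructor
  · refine ((tfae_universallyInjective φ).out 0 1).mpr ?_
    intro K _ y₁ y₂ hy
    simp only at hy
    obtain ⟨K₁, _, c₁, x₁, hc₁, hx₁⟩ := Groth.Agent.H69.QuotUH.exists_lift_field_point pW y₁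
    obtain ⟨K₂, _, c₂, x₂, hc₂, hx₂⟩ :=
      Groth.Agent.H69.QuotUH.exists_lift_field_point pW (c₁ ≫ y₂)
    have hx₁' : (c₂ ≫ x₁) ≫ pW = c₂ ≫ c₁ ≫ y₁ := by rw [Category.assoc, hx₁]
    have hq12 : ((c₂ ≫ x₁) ≫ j) ≫ p = (x₂ ≫ j) ≫ p := by
      calc ((c₂ ≫ x₁) ≫ j) ≫ p = ((c₂ ≫ x₁) ≫ pW) ≫ φ := by
            simp only [Category.assoc, hφ]
        _ = (x₂ ≫ pW) ≫ φ := by
            rw [hx₁', hx₂]
            simp only [Category.assoc]
            rw [hy]
        _ = (x₂ ≫ j) ≫ p := by simp only [Category.assoc, hφ]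
    obtain ⟨σ, hσ⟩ := Groth.Agent.H69.QuotUH.exists_eq_comp_of_comp_eq ρ p hP _ _ hq12
    have hx : x₂ = (c₂ ≫ x₁) ≫ (ρW σ).hom := by
      rw [← cancel_mono j, hσ]
      simp only [Category.assoc, hρW σ]
    have h3 : x₂ ≫ pW = (c₂ ≫ x₁) ≫ pW := by
      rw [hx, Category.assoc _ _ pW, hPW.inv σ]
    rw [hx₂, hx₁', ← Category.assoc, ← Category.assoc] at h3
    haveI : Epi (c₂ ≫ c₁) := epi_comp _ _
    exact ((cancel_epi (c₂ ≫ c₁)).mp h3).symm
  · ext y
    constructor
    · rintro ⟨w, rfl⟩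
      obtain ⟨w', rfl⟩ := pW.surjective w
      refine ⟨j w', ⟨w', rfl⟩, ?_⟩
      change (j ≫ p) w' = (pW ≫ φ) w'
      rw [hφ]
    · rintro ⟨_, ⟨w, rfl⟩, rfl⟩
      refine ⟨pW w, ?_⟩
      change (pW ≫ φ) w = (j ≫ p) w
      rw [hφ]

end Groth.Agent.S13082
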