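import Groth.Statements.S13087
import Mathlib
import Groth.Agent.H46.Lie3Transport
import Groth.Agent.H46.Lie3Basic
import Groth.Agent.H46.RegSeq

set_option autoImplicit false
set_option linter.style.haveILetI false
universe u
open Lie3Mod

namespace Groth.Agent.S13087


set_option maxSynthPendingDepth 12

open Groth.Agent.H46.L3 Groth.Agent.H46.AF Groth.Agent.H46.RS Polynomial

section
variable (A : Type u) [CommRing A]

theorem mem_span_iff (S : Set (Lie3Mod.D A)) (f : Lie3Mod.D A) :
    f ∈ Ideal.span S ↔ Ψ A f ∈ Ideal.map (Ψ A).toRingHom (Ideal.span S) := by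
  constructor
  · intro hf
    exact Ideal.mem_map_of_mem _ hf
  · intro hf
    have h1 : ψ8 A (Ψ A f) ∈ Ideal.map (ψ8 A) (Ideal.map (Ψ A).toRingHom (Ideal.span S)) :=
      Ideal.mem_map_of_mem _ hf
    rw [ψ8_Ψ, Ideal.map_map] at h1
    have h2 : (ψ8 A).comp (Ψ A).toRingHom = RingHom.id _ :=
      RingHom.ext fun x => by
        change ψ8 A (Ψ A x) = x
        exact ψ8_Ψ A x
    have h3 : Ideal.map ((ψ8 A).comp (Ψ A).toRingHom) (Ideal.span S) = Ideal.span S := by
      rw [h2, Ideal.map_id]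
    rwa [h3] at h1

theorem Ψ_L1 : Ψ A (Lie3Mod.L1 A) = u8 A := by
  simp [Ψ, Lie3Mod.L1]

theorem Ψ_L2 : Ψ A (Lie3Mod.L2 A) = v8 A := by
  simp [Ψ, Lie3Mod.L2]

/-- transport of a cancellation property from the model to `D`. -/
theorem transport (S : Set (Lie3Mod.D A)) (r : Lie3Mod.D A)
    (h : ∀ G : R8 A, Ψ A r * G ∈ Ideal.map (Ψ A).toRingHom (Ideal.span S) →
      G ∈ Ideal.map (Ψ A).toRingHom (Ideal.span S)) :
    ∀ x, r * x ∈ Ideal.span S → x ∈ Ideal.span S := by
  intro x hx
  rw [mem_span_iff] at hx ⊢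
  rw [map_mul] at hx
  exact h _ hx

end


/-- Let A be a nontrivial commutative ring and D = A[a,b,c,d,e,f,g,h,i] the polynomial ring in nine
variables. Then the linear forms a − i, b + f, d + h form a regular sequence on D, and so do the
three Jacobi polynomials Q1 = ah + di − fg − bg, Q2 = ie + bd − fh − ae, Q3 = hc + dc − af − bi
(each term is a non-zero-divisor on the quotient of D by the preceding terms, and the quotient by
all three is non-zero). (The published statement is made with a regular base ring in force; the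
printed argument does not use that hypothesis, and the statement is given here over every nontrivial
commutative base ring.) -/
theorem result (A : Type u) [CommRing A] [Nontrivial A] :
    RingTheory.Sequence.IsRegular (Lie3Mod.D A) [Lie3Mod.L1 A, Lie3Mod.L2 A, Lie3Mod.L3 A] ∧
      RingTheory.Sequence.IsRegular (Lie3Mod.D A) [Lie3Mod.Q1 A, Lie3Mod.Q2 A, Lie3Mod.Q3 A] := by
  constructor
  · -- the linear forms
    refine isRegular3 _ _ _ ?_ ?_ ?_ ?_
    · -- L1 nzd
      intro x hx
      have h1 : Ψ A (Lie3Mod.L1 A) * Ψ A x = 0 := by rw [← map_mul, hx, map_zero]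
      rw [Ψ_L1] at h1
      have hu : u8 A ∈ nonZeroDivisors (R8 A) := by
        simp only [u8, u7, u3, u2]
        exact nzd_C (nzd_C (nzd_C (nzd_C (nzd_C (nzd_C nzd_X)))))
      have h2 : Ψ A x = 0 := by
        rw [mul_comm] at h1
        exact (mem_nonZeroDivisors_iff_right.mp hu) _ h1
      have := congrArg (ψ8 A) h2
      rwa [ψ8_Ψ, map_zero] at this
    · -- L2 regular mod L1
      refine transport A {Lie3Mod.L1 A} _ ?_
      rw [Ideal.map_span, Set.image_singleton]
      change ∀ G : R8 A, Ψ A (Lie3Mod.L2 A) * G ∈ Ideal.span {Ψ A (Lie3Mod.L1 A)} →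
        G ∈ Ideal.span {Ψ A (Lie3Mod.L1 A)}
      rw [Ψ_L1, Ψ_L2]
      have s2 : ∀ F : R2 A, C (X : R1 A) * F ∈ Ideal.span {(X : R2 A)} → F ∈ Ideal.span {(X : R2 A)} :=
        cancel_C_mod_X _ nzd_X
      have s3 := cancel_C _ _ s2
      have s4 := cancel_C _ _ s3
      have s5 := cancel_C _ _ s4
      have s6 := cancel_C _ _ s5
      have s7 := cancel_C _ _ s6
      have s8 := cancel_C _ _ s7
      simp only [Ideal.map_span, Set.image_singleton] at s8
      simpa only [u8, u7, u3, u2, v8, v7, v3] using s8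
    · -- L3 regular mod (L1, L2)
      refine transport A {Lie3Mod.L1 A, Lie3Mod.L2 A} _ ?_
      rw [Ideal.map_span, Set.image_insert_eq, Set.image_singleton]
      change ∀ G : R8 A, Ψ A (Lie3Mod.L3 A) * G ∈ Ideal.span {Ψ A (Lie3Mod.L1 A), Ψ A (Lie3Mod.L2 A)} →
        G ∈ Ideal.span {Ψ A (Lie3Mod.L1 A), Ψ A (Lie3Mod.L2 A)}
      rw [Ψ_L1, Ψ_L2, Ψ_L3]
      have s5 : ∀ F : R5 A, (X : R5 A) * F ∈
          (Ideal.span {(C (C (X : R2 A)) : R4 A), C (C (C (X : R1 A)))}).map C →
          F ∈ (Ideal.span {(C (C (X : R2 A)) : R4 A), C (C (C (X : R1 A)))}).map C :=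
        cancel_X _
      have s6 := cancel_C _ _ s5
      have s7 := cancel_C _ _ s6
      have s8 := cancel_C _ _ s7
      simp only [Ideal.map_span, Set.image_insert_eq, Set.image_singleton] at s8
      simpa only [u8, u7, u3, u2, v8, v7, v3, t7, t5] using s8
    · -- proper
      intro htop
      have h1 : (MvPolynomial.C (1 : A) : Lie3Mod.D A) ∈ Lie3Mod.idL A := by
        rw [Lie3Mod.idL, htop]; trivial
      exact one_ne_zero (C_mem_idL A 1 h1)
  · -- the Jacobi polynomials
    refine isRegular3 _ _ _ ?_ ?_ ?_ ?_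
    · intro x hx
      have h1 : Ψ A (Lie3Mod.Q1 A) * Ψ A x = 0 := by rw [← map_mul, hx, map_zero]
      rw [Ψ_Q1] at h1
      have hu : (C (C (C (t5 A) * X - C (C (x4 A)))) : R8 A) ∈ nonZeroDivisors (R8 A) := by
        refine nzd_C (nzd_C (nzd_of_coeff _ 1 ?_))
        have : (C (t5 A) * X - C (C (x4 A)) : R6 A).coeff 1 = t5 A := by
          simp [coeff_C]
        rw [this]
        exact nzd_X
      have h2 : Ψ A x = 0 := by
        rw [mul_comm] at h1
        exact (mem_nonZeroDivisors_iff_right.mp hu) _ h1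
      have := congrArg (ψ8 A) h2
      rwa [ψ8_Ψ, map_zero] at this
    · refine transport A {Lie3Mod.Q1 A} _ ?_
      rw [Ideal.map_span, Set.image_singleton]
      change ∀ G : R8 A, Ψ A (Lie3Mod.Q2 A) * G ∈ Ideal.span {Ψ A (Lie3Mod.Q1 A)} →
        G ∈ Ideal.span {Ψ A (Lie3Mod.Q1 A)}
      rw [Ψ_Q1, Ψ_Q2]
      have s7 := cancel_lin (J1 A) (C (t5 A)) (C (C (y4 A))) (m1 A).1
      have s8 := cancel_C _ _ s7
      rw [J1_eq] at s8
      simp only [Ideal.map_span, Set.image_singleton] at s8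
      exact s8
    · refine transport A {Lie3Mod.Q1 A, Lie3Mod.Q2 A} _ ?_
      rw [Ideal.map_span, Set.image_insert_eq, Set.image_singleton]
      change ∀ G : R8 A, Ψ A (Lie3Mod.Q3 A) * G ∈ Ideal.span {Ψ A (Lie3Mod.Q1 A), Ψ A (Lie3Mod.Q2 A)} →
        G ∈ Ideal.span {Ψ A (Lie3Mod.Q1 A), Ψ A (Lie3Mod.Q2 A)}
      rw [Ψ_Q1, Ψ_Q2, Ψ_Q3]
      have s8 := cancel_lin (J2 A) (t7 A) (z7 A) (m2 A).1
      have e : (J2 A).map (C : R7 A →+* R8 A) =
          Ideal.span {(C (C (C (t5 A) * X - C (C (x4 A)))) : R8 A),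
            C (C (C (t5 A)) * X - C (C (C (y4 A))))} := by
        rw [J2, adjR, J1_eq, Ideal.map_sup]
        simp only [Ideal.map_span, Set.image_singleton]
        rw [← Ideal.span_union]
        rfl
      rw [e] at s8
      exact s8
    · intro htop
      have h1 : (MvPolynomial.C (1 : A) : Lie3Mod.D A) ∈ Lie3Mod.idJ A := by
        apply idI_le_idJ A
        rw [Lie3Mod.idI, htop]; trivial
      exact one_ne_zero (C_mem_idJ A 1 h1)

end Groth.Agent.S13087
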