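import Groth.Statements.S13088
import Groth.Agent.H19.Lie3

set_option autoImplicit false
universe u
open Lie3Mod

namespace Groth.Agent.S13088

/-- Let A be a commutative domain and D = A[a,b,c,d,e,f,g,h,i]. Then the ideal L = (a − i, b + f, d + h)
of D is minimal among the prime ideals of D containing the Jacobi ideal I = (Q1, Q2, Q3), where Q1 =
ah + di − fg − bg, Q2 = ie + bd − fh − ae, Q3 = hc + dc − af − bi. (The published statement is made
with a regular base ring in force, used there as a domain; the printed argument uses only that the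
base ring is a domain, which is the hypothesis taken here.) -/
theorem result (A : Type u) [CommRing A] [IsDomain A] :
    Lie3Mod.idL A ∈ (Lie3Mod.idI A).minimalPrimes := by
  show Minimal (fun q => q.IsPrime ∧ idI A ≤ q) (idL A)
  refine ⟨⟨Groth.Agent.H19.Lie3.idL_isPrime A, Groth.Agent.H19.Lie3.idI_le_idL A⟩, ?_⟩
  rintro P ⟨hP, hIP⟩ hPL
  have hdet : detM A ∉ P := fun h => Groth.Agent.H19.Lie3.detM_not_mem A (hPL h)
  rw [idL, Ideal.span_le]
  intro x hx
  simp only [Set.mem_insert_iff, Set.mem_singleton_iff] at hx
  rcases hx with rfl | rfl | rfl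
  · exact (hP.mem_or_mem (hIP (Groth.Agent.H19.Lie3.det_mul_L1_mem A))).resolve_left hdet
  · exact (hP.mem_or_mem (hIP (Groth.Agent.H19.Lie3.det_mul_L2_mem A))).resolve_left hdet
  · exact (hP.mem_or_mem (hIP (Groth.Agent.H19.Lie3.det_mul_L3_mem A))).resolve_left hdet

end Groth.Agent.S13088
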