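import Groth.Statements.S13089
import Mathlib
import Groth.Agent.H46.Lie3Transport
import Groth.Agent.H46.Lie3Basic

set_option autoImplicit false
set_option linter.style.haveILetI false
universe u
open Lie3Mod

namespace Groth.Agent.S13089

/-- Let A be a regular commutative ring (Noetherian with regular localizations) and D =
A[a,b,c,d,e,f,g,h,i]. With I = (Q1, Q2, Q3) the Jacobi ideal (Q1 = ah + di − fg − bg, Q2 = ie + bd −
fh − ae, Q3 = hc + dc − af − bi), L = (a − i, b + f, d + h) and det M = −ch² + gbf + ei² − gec + hbi
− ihf, the colon ideal (I : L) = {x ∈ D | xL ⊆ I} equals J = I + (det M). (The printed statement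
also says that this ideal is perfect of height 3; that clause is not restated here.) -/
theorem result (A : Type u) [CommRing A] [IsRegularRing A] :
    (Lie3Mod.idI A).colon (Lie3Mod.idL A : Set (Lie3Mod.D A)) = Lie3Mod.idJ A := by
  apply le_antisymm
  · intro f hf
    rw [Submodule.mem_colon] at hf
    have h3 : Lie3Mod.L3 A ∈ (Lie3Mod.idL A : Set (Lie3Mod.D A)) := Groth.Agent.H46.L3.L3_mem A
    have h4 := hf _ h3
    rw [smul_eq_mul, mul_comm] at h4
    exact Groth.Agent.H46.L3.L3_nzd A f (Groth.Agent.H46.L3.idI_le_idJ A h4)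
  · intro f hf
    rw [Submodule.mem_colon]
    intro p hp
    rw [smul_eq_mul]
    exact Groth.Agent.H46.L3.idJ_mul_idL_le A (Ideal.mul_mem_mul hf hp)

end Groth.Agent.S13089
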