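import Groth.Statements.S13095
import Mathlib
import Groth.Agent.H46.Lie3Transport
import Groth.Agent.H46.Lie3Basic

set_option autoImplicit false
set_option linter.style.haveILetI false
open Lie3Mod

namespace Groth.Agent.S13095

/-- The moduli scheme of based three-dimensional Lie algebras is flat over the integers and reduced:
with I = (Q1, Q2, Q3) the Jacobi ideal of Z[a,b,c,d,e,f,g,h,i] (Q1 = ah + di − fg − bg, Q2 = ie + bd
− fh − ae, Q3 = hc + dc − af − bi), the ring Z[a,b,c,d,e,f,g,h,i]/I is a flat Z-module and I is a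
radical ideal. -/
theorem result :
    Module.Flat ℤ (Lie3Mod.D ℤ ⧸ Lie3Mod.idI ℤ) ∧ (Lie3Mod.idI ℤ).IsRadical := by
  haveI hJ := Groth.Agent.H46.L3.idJ_prime ℤ
  haveI hL := Groth.Agent.H46.L3.idL_prime ℤ
  have hI := Groth.Agent.H46.L3.idI_eq_inf ℤ
  constructor
  · rw [IsDedekindDomain.flat_iff_torsion_eq_bot, eq_bot_iff]
    rintro x ⟨a, ha⟩
    rw [Submodule.mem_bot]
    obtain ⟨f, rfl⟩ := Ideal.Quotient.mk_surjective x
    have h1 : (MvPolynomial.C (a : ℤ) : Lie3Mod.D ℤ) * f ∈ Lie3Mod.idI ℤ := by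
      rw [← Ideal.Quotient.eq_zero_iff_mem, ← MvPolynomial.smul_eq_C_mul, ← ha]
      rfl
    rw [hI] at h1
    have hfJ : f ∈ Lie3Mod.idJ ℤ := by
      rcases Ideal.IsPrime.mem_or_mem hJ h1.1 with h | h
      · exact absurd (Groth.Agent.H46.L3.C_mem_idJ ℤ _ h) (nonZeroDivisors.coe_ne_zero a)
      · exact h
    have hfL : f ∈ Lie3Mod.idL ℤ := by
      rcases Ideal.IsPrime.mem_or_mem hL h1.2 with h | h
      · exact absurd (Groth.Agent.H46.L3.C_mem_idL ℤ _ h) (nonZeroDivisors.coe_ne_zero a)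
      · exact h
    apply Ideal.Quotient.eq_zero_iff_mem.mpr
    rw [hI]
    exact ⟨hfJ, hfL⟩
  · rw [hI]
    exact hJ.isRadical.inf hL.isRadical

end Groth.Agent.S13095
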